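/-
helper7: Lib/HilbDim7b — Hilbert polynomial of a homogeneous ideal `I` of `k[X_0..X_n]`
(`CohB1.polyGrading`): `hilbPoly_quotient I hIh hI : ∃ d Q, ringKrullDim (S ⧸ I) = d ∧ (d = 0 → Q = 0) ∧
(1 ≤ d → Q.natDegree + 1 = d) ∧ ∃ m₀, ∀ m ≥ m₀, Q.eval m = dim S_m - dim (I ∩ S_m)`.
Built on Lib/HilbDim7 (graded ring version), H74QuotGr (quotient grading) and GrLCBridge.
Also: `grZ k n` (ℤ-grading by AddSubgroups), `mem_grZ_natCast`, `isHomogeneous_grZ`, `quot_hpos`,
`quot_hstd`, `φ` (k → (S/I)_0, surjective), `isField_deg0`, `exists_dim`, `length_comp_eq`.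
-/
import Mathlib
import Groth.Agent.Lib.HilbDim7
import Groth.Prelude.Def_GrSyz
import Groth.Prelude.Def_CohB1
import Groth.Agent.S10915

set_option autoImplicit false
set_option linter.unusedSectionVars false
set_option linter.style.haveILetI false

universe u

namespace Groth.Agent.Lib.HilbDim7

open DirectSum GrLC Polynomial Groth.Agent.Lib.H74GrArt Groth.Agent.S13229
  Groth.Agent.Lib.GrHilbSamuel Groth.Agent.Lib.HilbertSamuel
  Groth.Agent.Lib.GrLCBridge Groth.Agent.Lib.H74QuotGr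

section Poly

variable (k : Type u) [Field k] (n : ℕ)

theorem weight_one_int (d : Fin (n + 1) →₀ ℕ) :
    Finsupp.weight (fun _ : Fin (n + 1) => (1 : ℤ)) d = (d.degree : ℤ) := by
  rw [Finsupp.weight_apply, Finsupp.degree_apply, Finsupp.sum]
  push_cast
  apply Finset.sum_congr rfl
  intro i _
  simp

theorem weight_one_nat (d : Fin (n + 1) →₀ ℕ) :
    Finsupp.weight (1 : Fin (n + 1) → ℕ) d = d.degree := by
  rw [Finsupp.degree_eq_weight_one]
  rfl

theorem mem_stdGr_natCast (m : ℕ) (p : MvPolynomial (Fin (n + 1)) k) :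
    p ∈ GrSyz.stdGr k (Fin (n + 1)) (m : ℤ) ↔ p.IsHomogeneous m := by
  rw [GrSyz.mem_stdGr_iff]
  constructor
  · intro h d hd
    have := h hd
    rw [weight_one_int] at this
    rw [weight_one_nat]
    exact_mod_cast this
  · intro h d hd
    have := h hd
    rw [weight_one_nat] at this
    rw [weight_one_int, this]

theorem stdGr_neg (j : ℤ) (hj : j < 0) : GrSyz.stdGr k (Fin (n + 1)) j = ⊥ := by
  rw [eq_bot_iff]
  intro p hp
  rw [GrSyz.mem_stdGr_iff] at hp
  rw [Submodule.mem_bot]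
  by_contra hne
  obtain ⟨d, hd⟩ := MvPolynomial.ne_zero_iff.mp hne
  have := hp hd
  rw [weight_one_int] at this
  omega

/-- the `ℤ`-grading of the polynomial ring by additive subgroups -/
noncomputable abbrev grZ : ℤ → AddSubgroup (MvPolynomial (Fin (n + 1)) k) :=
  asGr (GrSyz.stdGr k (Fin (n + 1)))

theorem mem_grZ_natCast (m : ℕ) (p : MvPolynomial (Fin (n + 1)) k) :
    p ∈ grZ k n (m : ℤ) ↔ p.IsHomogeneous m := mem_stdGr_natCast k n m p

theorem grZ_neg (j : ℤ) (hj : j < 0) : grZ k n j = ⊥ := by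
  rw [eq_bot_iff]
  intro p hp
  have : p ∈ GrSyz.stdGr k (Fin (n + 1)) j := hp
  rw [stdGr_neg k n j hj] at this
  exact this

variable {k n}

theorem isHomogeneous_grZ {I : Ideal (MvPolynomial (Fin (n + 1)) k)}
    (hI : I.IsHomogeneous (CohB1.polyGrading n k)) : I.IsHomogeneous (grZ k n) := by
  obtain ⟨T, rfl⟩ := (Ideal.IsHomogeneous.iff_exists _ _).mp hI
  apply Ideal.homogeneous_span
  rintro _ ⟨x, -, rfl⟩
  obtain ⟨m, hm⟩ := x.2
  exact ⟨(m : ℤ), (mem_grZ_natCast k n m _).mpr hm⟩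

end Poly

section Quot

open MvPolynomial

variable {k : Type u} [Field k] {n : ℕ} (I : Ideal (MvPolynomial (Fin (n + 1)) k))
  [hIf : Fact (I.IsHomogeneous (grZ k n))]

noncomputable instance instGradedRingQuot : GradedRing (quotPiece (grZ k n) I) :=
  quotGradedRing (grZ k n) hIf.out

theorem quot_hpos : ∀ j : ℤ, j < 0 → quotPiece (grZ k n) I j = ⊥ := by
  intro j hj
  rw [eq_bot_iff]
  rintro _ ⟨p, hp, rfl⟩
  rw [grZ_neg k n j hj] at hp
  have hp0 : p = 0 := hp
  rw [hp0, AddSubgroup.mem_bot]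
  simp

theorem C_mem_grZ (c : k) : (C c : MvPolynomial (Fin (n + 1)) k) ∈ grZ k n 0 := by
  have := (mem_grZ_natCast k n 0 (C c)).mpr (isHomogeneous_C _ c)
  simpa using this

/-- the ring map `k → (S/I)_0` -/
noncomputable def φ : k →+* deg0 (quotPiece (grZ k n) I) :=
  RingHom.codRestrict ((Ideal.Quotient.mk I).comp (C : k →+* MvPolynomial (Fin (n + 1)) k))
    (deg0 (quotPiece (grZ k n) I))
    (fun c => mk_mem_quotPiece (grZ k n) I (C_mem_grZ c))

theorem coe_φ (c : k) : ((φ I c : deg0 (quotPiece (grZ k n) I)) : MvPolynomial (Fin (n + 1)) k ⧸ I) =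
    Ideal.Quotient.mk I (C c) := rfl

theorem φ_surjective : Function.Surjective (φ I) := by
  rintro ⟨y, hy⟩
  have hy' : y ∈ quotPiece (grZ k n) I 0 := hy
  obtain ⟨p, hp, rfl⟩ := hy'
  have hp' : p.IsHomogeneous 0 := (mem_grZ_natCast k n 0 p).mp (by simpa using hp)
  have hp'' : p ∈ homogeneousSubmodule (Fin (n + 1)) k 0 := hp'
  rw [homogeneousSubmodule_zero, Submodule.mem_one] at hp''
  obtain ⟨c, rfl⟩ := hp''
  exact ⟨c, Subtype.ext rfl⟩

instance instArtinianDeg0 : IsArtinianRing (deg0 (quotPiece (grZ k n) I)) :=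
  (φ_surjective I).isArtinianRing

theorem isField_deg0 (hI : I ≠ ⊤) : IsField (deg0 (quotPiece (grZ k n) I)) := by
  haveI : Nontrivial (MvPolynomial (Fin (n + 1)) k ⧸ I) := Ideal.Quotient.nontrivial_iff.mpr hI
  have hinj : Function.Injective (φ I) := (φ I).injective
  exact MulEquiv.isField (Field.toIsField k)
    (RingEquiv.ofBijective (φ I) ⟨hinj, φ_surjective I⟩).symm.toMulEquiv

theorem mem_span_X_of_homog {p : MvPolynomial (Fin (n + 1)) k} {m : ℕ} (hm : 0 < m)
    (hp : p.IsHomogeneous m) :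
    p ∈ Ideal.span (Set.range (X : Fin (n + 1) → MvPolynomial (Fin (n + 1)) k)) := by
  rw [Groth.Agent.S10915.irr_eq_ker, RingHom.mem_ker, constantCoeff_eq]
  apply hp.coeff_eq_zero
  simp only [map_zero]
  omega

theorem quot_hstd :
    Ideal.span (⋃ j ∈ Set.Ioi (0 : ℤ), (quotPiece (grZ k n) I j : Set (MvPolynomial (Fin (n + 1)) k ⧸ I))) =
      Ideal.span ((quotPiece (grZ k n) I 1 : AddSubgroup (MvPolynomial (Fin (n + 1)) k ⧸ I)) :
        Set (MvPolynomial (Fin (n + 1)) k ⧸ I)) := by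
  apply le_antisymm
  · rw [Ideal.span_le]
    intro x hx
    obtain ⟨j, hj, hxj⟩ := Set.mem_iUnion₂.mp hx
    obtain ⟨p, hp, rfl⟩ := hxj
    have hj0 : (0 : ℤ) ≤ j := le_of_lt hj
    obtain ⟨m, rfl⟩ := Int.eq_ofNat_of_zero_le hj0
    have hm : 0 < m := by
      have : (0 : ℤ) < (m : ℤ) := hj
      exact_mod_cast this
    have hp' : p.IsHomogeneous m := (mem_grZ_natCast k n m p).mp hp
    have hmem := mem_span_X_of_homog hm hp'
    obtain ⟨c, rfl⟩ := (Ideal.mem_span_range_iff_exists_fun).mp hmem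
    show (Ideal.Quotient.mk I) (∑ i, c i * X i) ∈ _
    rw [map_sum]
    refine Ideal.sum_mem _ fun i _ => ?_
    rw [map_mul]
    apply Ideal.mul_mem_left
    apply Ideal.subset_span
    apply mk_mem_quotPiece
    have := (mem_grZ_natCast k n 1 (X i)).mpr (isHomogeneous_X k i)
    simpa using this
  · apply Ideal.span_mono
    intro x hx
    exact Set.mem_iUnion₂.mpr ⟨1, by simp, hx⟩

theorem exists_dim (hI : I ≠ ⊤) :
    ∃ d : ℕ, ringKrullDim (MvPolynomial (Fin (n + 1)) k ⧸ I) = d := by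
  haveI : Nontrivial (MvPolynomial (Fin (n + 1)) k ⧸ I) := Ideal.Quotient.nontrivial_iff.mpr hI
  have h1 : ringKrullDim (MvPolynomial (Fin (n + 1)) k ⧸ I) ≤ ((n + 1 : ℕ) : WithBot ℕ∞) := by
    refine (ringKrullDim_quotient_le I).trans ?_
    rw [MvPolynomial.ringKrullDim_of_isNoetherianRing, ringKrullDim_eq_zero_of_field]
    simp
  have h0 : 0 ≤ ringKrullDim (MvPolynomial (Fin (n + 1)) k ⧸ I) := ringKrullDim_nonneg_of_nontrivial
  have hne : ringKrullDim (MvPolynomial (Fin (n + 1)) k ⧸ I) ≠ ⊥ := by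
    intro h
    rw [h] at h0
    simp at h0
  obtain ⟨y, hy⟩ := WithBot.ne_bot_iff_exists.mp hne
  rw [← hy] at h1
  have h2 : y ≤ ((n + 1 : ℕ) : ℕ∞) := by exact_mod_cast h1
  obtain ⟨d, hd⟩ := ENat.ne_top_iff_exists.mp (ne_top_of_le_ne_top (ENat.natCast_ne_top _) h2)
  exact ⟨d, by rw [← hy, ← hd]; rfl⟩

/-- `dim_k (S/I)_m + dim_k (I ∩ S_m) = dim_k S_m`, with `(S/I)_m` measured by its length over
`(S/I)_0`. -/
theorem length_comp_eq (m : ℕ) :
    Module.length (deg0 (quotPiece (grZ k n) I))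
      (comp (quotPiece (grZ k n) I) (quotPiece (grZ k n) I) (m : ℤ)) +
      (Module.finrank k ↥(Submodule.restrictScalars k I ⊓ CohB1.polyGrading n k m) : ℕ∞) =
      (Module.finrank k ↥(CohB1.polyGrading n k m) : ℕ∞) := by
  classical
  set M := comp (quotPiece (grZ k n) I) (quotPiece (grZ k n) I) (m : ℤ) with hM
  letI : Algebra k (deg0 (quotPiece (grZ k n) I)) := (φ I).toAlgebra
  letI : Module k M := Module.compHom M (φ I)
  haveI : IsScalarTower k (deg0 (quotPiece (grZ k n) I)) M :=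
    ⟨fun c r x => by
      show (φ I c * r) • x = φ I c • (r • x)
      rw [mul_smul]⟩
  have hsurj : Function.Surjective (algebraMap k (deg0 (quotPiece (grZ k n) I))) := φ_surjective I
  rw [← Module.length_eq_of_surjective (S := k) (R := deg0 (quotPiece (grZ k n) I)) (M := M) hsurj]
  -- the linear map `S_m → (S/I)_m`
  let ψ : ↥(CohB1.polyGrading n k m) →ₗ[k] M :=
    { toFun := fun p => ⟨Ideal.Quotient.mk I p.1,
        mk_mem_quotPiece (grZ k n) I ((mem_grZ_natCast k n m p.1).mpr p.2)⟩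
      map_add' := fun p q => Subtype.ext (map_add (Ideal.Quotient.mk I) p.1 q.1)
      map_smul' := fun c p => by
        apply Subtype.ext
        show Ideal.Quotient.mk I (c • p.1) = (Ideal.Quotient.mk I (C c)) * Ideal.Quotient.mk I p.1
        rw [← map_mul, MvPolynomial.C_mul'] }
  have hψs : Function.Surjective ψ := by
    rintro ⟨y, hy⟩
    have hy' : y ∈ quotPiece (grZ k n) I (m : ℤ) := hy
    obtain ⟨p, hp, rfl⟩ := hy'
    exact ⟨⟨p, (mem_grZ_natCast k n m p).mp hp⟩, rfl⟩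
  have hker : LinearMap.ker ψ = Submodule.comap (CohB1.polyGrading n k m).subtype
      (Submodule.restrictScalars k I ⊓ CohB1.polyGrading n k m) := by
    ext p
    rw [LinearMap.mem_ker, Submodule.mem_comap, Submodule.mem_inf]
    constructor
    · intro h
      have h1 : Ideal.Quotient.mk I p.1 = 0 := congrArg Subtype.val h
      exact ⟨Ideal.Quotient.eq_zero_iff_mem.mp h1, p.2⟩
    · rintro ⟨h1, -⟩
      apply Subtype.ext
      exact Ideal.Quotient.eq_zero_iff_mem.mpr h1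
  haveI : FiniteDimensional k ↥(CohB1.polyGrading n k m) :=
    Module.Finite.iff_fg.mpr (homogeneousSubmodule_fg (Fin (n + 1)) k m)
  haveI : Module.Finite k M := Module.Finite.of_surjective ψ hψs
  rw [Module.length_eq_finrank]
  have h1 := LinearMap.finrank_range_add_finrank_ker ψ
  rw [LinearMap.range_eq_top.mpr hψs, finrank_top, hker,
    (Submodule.comapSubtypeEquivOfLe (inf_le_right :
      Submodule.restrictScalars k I ⊓ CohB1.polyGrading n k m ≤ CohB1.polyGrading n k m)).finrank_eq]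
    at h1
  exact_mod_cast h1

end Quot

/-- **Hilbert polynomial of a homogeneous ideal of `k[X_0..X_n]`**: it exists and has degree exactly
`dim S/I - 1` (and is zero when `dim S/I = 0`). -/
theorem hilbPoly_quotient {k : Type u} [Field k] {n : ℕ} (I : Ideal (MvPolynomial (Fin (n + 1)) k))
    (hIh : I.IsHomogeneous (CohB1.polyGrading n k)) (hI : I ≠ ⊤) :
    ∃ (d : ℕ) (Q : ℚ[X]), ringKrullDim (MvPolynomial (Fin (n + 1)) k ⧸ I) = d ∧
      (d = 0 → Q = 0) ∧ (1 ≤ d → Q.natDegree + 1 = d) ∧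
      ∃ m₀ : ℕ, ∀ m : ℕ, m₀ ≤ m → Q.eval (m : ℚ) =
        (Module.finrank k ↥(CohB1.polyGrading n k m) : ℚ) -
          Module.finrank k ↥(Submodule.restrictScalars k I ⊓ CohB1.polyGrading n k m) := by
  haveI : Fact (I.IsHomogeneous (grZ k n)) := ⟨isHomogeneous_grZ hIh⟩
  obtain ⟨d, hd⟩ := exists_dim I hI
  have hloc := Groth.Agent.Lib.GrHilbMono.isStarLocal_irr (quotPiece (grZ k n) I) (quot_hpos I)
    (isField_deg0 I hI)
  obtain ⟨Q, hQ0, hQ1, N, hN⟩ := exists_hilbPoly_exact (quotPiece (grZ k n) I) (quot_hpos I)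
    (quot_hstd I) _ hloc d hd
  refine ⟨d, Q, hd, hQ0, hQ1, N.toNat, fun m hm => ?_⟩
  have hNm : N ≤ (m : ℤ) := by omega
  have h1 := hN (m : ℤ) hNm
  have e : (((m : ℤ)) : ℚ) = (m : ℚ) := by push_cast; rfl
  rw [e] at h1
  rw [h1]
  have h2 := length_comp_eq I m
  have hfin : Module.length (deg0 (quotPiece (grZ k n) I))
      (comp (quotPiece (grZ k n) I) (quotPiece (grZ k n) I) (m : ℤ)) ≠ ⊤ := by
    intro h
    rw [h, top_add] at h2
    exact ENat.top_ne_natCast _ h2
  obtain ⟨ℓ, hℓ⟩ := ENat.ne_top_iff_exists.mp hfin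
  rw [← hℓ] at h2 ⊢
  rw [ENat.toNat_natCast]
  have h3 : ℓ + Module.finrank k ↥(Submodule.restrictScalars k I ⊓ CohB1.polyGrading n k m) =
      Module.finrank k ↥(CohB1.polyGrading n k m) := by exact_mod_cast h2
  rw [← h3]
  push_cast
  ring

end Groth.Agent.Lib.HilbDim7
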