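import Mathlib
import Groth.Agent.Lib.GrVerRing
import Groth.Agent.Lib.GrVerBass
import Groth.Agent.Lib.GrLCPoly
import Groth.Agent.Lib.GrLCReg4
import Groth.Agent.Lib.H14GorHom
import Groth.Agent.Lib.GrHilb
import Groth.Agent.Lib.GrLCEnd
import Groth.Agent.Lib.HilbDim7b

set_option autoImplicit false
set_option linter.unusedSectionVars false
set_option linter.style.haveILetI false

universe u

namespace Groth.Agent.Lib.GrVerPoly

open DirectSum GrLC MvPolynomial Groth.Agent.Lib.GrLCPoly Groth.Agent.Lib.GrLCBridge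
  Groth.Agent.Lib.HilbDim7 Groth.Agent.Lib.H74GrArt

section Poly

variable (k : Type u) [Field k] (n : ℕ)

theorem stdS_neg (j : ℤ) (hj : j < 0) : stdS k n j = ⊥ := grZ_neg k n j hj

theorem mem_stdS_natCast (m : ℕ) (p : MvPolynomial (Fin (n + 1)) k) :
    p ∈ stdS k n (m : ℤ) ↔ p.IsHomogeneous m := mem_grZ_natCast k n m p

theorem C_mem_stdS (c : k) : (C c : MvPolynomial (Fin (n + 1)) k) ∈ stdS k n 0 := by
  have := (mem_stdS_natCast k n 0 (C c)).mpr (isHomogeneous_C _ c)
  simpa using this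

theorem eq_C_of_mem_stdS_zero {p : MvPolynomial (Fin (n + 1)) k} (hp : p ∈ stdS k n 0) :
    p = C (coeff 0 p) := by
  have hp' : p.IsHomogeneous 0 := (mem_stdS_natCast k n 0 p).mp (by simpa using hp)
  exact totalDegree_eq_zero_iff_eq_C.mp (Nat.le_zero.mp hp'.totalDegree_le)

/-- the ring homomorphism `k → S_0`. -/
noncomputable def toDeg0 : k →+* deg0 (stdS k n) where
  toFun c := ⟨C c, C_mem_stdS k n c⟩
  map_one' := by apply Subtype.ext; exact map_one _
  map_mul' a b := by apply Subtype.ext; exact map_mul _ a b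
  map_zero' := by apply Subtype.ext; exact map_zero _
  map_add' a b := by apply Subtype.ext; exact map_add _ a b

theorem toDeg0_bijective : Function.Bijective (toDeg0 k n) := by
  constructor
  · exact (toDeg0 k n).injective
  · rintro ⟨p, hp⟩
    exact ⟨coeff 0 p, Subtype.ext (eq_C_of_mem_stdS_zero k n hp).symm⟩

theorem isField_deg0 : IsField (deg0 (stdS k n)) :=
  MulEquiv.isField (Field.toIsField k)
    (RingEquiv.ofBijective (toDeg0 k n) (toDeg0_bijective k n)).symm.toMulEquiv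

theorem irr_eq_irrS : irr (stdS k n) = irrS k n := by
  apply HomogeneousIdeal.toIdeal_injective
  show Ideal.span (⋃ j ∈ Set.Ioi (0 : ℤ), (stdS k n j : Set (MvPolynomial (Fin (n + 1)) k))) =
    Ideal.span {r | ∃ j : ℤ, 0 < j ∧ r ∈ GrSyz.stdGr k (Fin (n + 1)) j}
  congr 1
  ext x
  simp only [Set.mem_iUnion, Set.mem_Ioi, SetLike.mem_coe, exists_prop, Set.mem_ofPred_eq]
  rfl

theorem hstd_stdS : Ideal.span (⋃ j ∈ Set.Ioi (0 : ℤ), (stdS k n j : Set (MvPolynomial (Fin (n + 1)) k))) =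
    Ideal.span ((stdS k n 1 : AddSubgroup (MvPolynomial (Fin (n + 1)) k)) :
      Set (MvPolynomial (Fin (n + 1)) k)) := by
  have h1 : (irr (stdS k n)).toIdeal = Ideal.span (⋃ j ∈ Set.Ioi (0 : ℤ), (stdS k n j : Set (MvPolynomial (Fin (n + 1)) k))) :=
    rfl
  rw [← h1, irr_eq_irrS, Groth.Agent.Lib.GrLCReg.irrS_eq_span_one]

theorem ringKrullDim_poly : ringKrullDim (MvPolynomial (Fin (n + 1)) k) = ((n + 1 : ℕ) : WithBot ℕ∞) := by
  rw [MvPolynomial.ringKrullDim_of_isNoetherianRing, ringKrullDim_eq_zero_of_field, zero_add,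
    Nat.card_eq_fintype_card, Fintype.card_fin]

/-- the `a`-invariant of the polynomial ring in `n + 1` variables is `-(n + 1)`. -/
theorem endDeg_poly (I : StarInjRes (stdS k n) (stdS k n)) :
    GrLC.endDeg (I.Hgr (irr (stdS k n)) (n + 1)) =
      (((-((n + 1 : ℕ) : ℤ) : ℤ) : WithTop ℤ) : WithBot (WithTop ℤ)) := by
  rw [irr_eq_irrS]
  obtain ⟨h1, h2⟩ := conc_poly k n I
  apply le_antisymm
  · rw [Groth.Agent.Lib.GrLCEnd.endDeg_le_iff]
    intro e he
    by_contra hne
    have hne' : I.Hcomp (irrS k n) (n + 1) e ≠ ⊥ := by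
      intro h
      apply hne
      rw [eq_bot_iff]
      intro y hy
      have hy' : y ∈ I.Hcomp (irrS k n) (n + 1) e := hy
      rw [h] at hy'
      exact AddSubgroup.mem_bot.mpr ((Submodule.mem_bot _).mp hy')
    have := (h1 (n + 1) e hne').2
    omega
  · refine Groth.Agent.Lib.GrLCEnd.le_endDeg _ ?_
    intro h
    apply h2
    rw [eq_bot_iff]
    intro y hy
    have hy' : y ∈ I.Hgr (irrS k n) (n + 1) (-((n + 1 : ℕ) : ℤ)) := hy
    rw [h] at hy'
    exact (Submodule.mem_bot _).mpr (AddSubgroup.mem_bot.mp hy')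

/-- dimension of the pieces of the polynomial ring over `S_0`. -/
theorem finrank_comp_stdS (j : ℤ) :
    Module.finrank (deg0 (stdS k n)) (comp (stdS k n) (stdS k n) j) =
      if 0 ≤ j then Nat.choose (n + j.toNat) n else 0 := by
  rw [← Groth.Agent.Lib.GrHilb.finrank_stdGr k n j]
  let e : GrSyz.stdGr k (Fin (n + 1)) j ≃+ comp (stdS k n) (stdS k n) j :=
    { toFun := fun x => ⟨x.1, x.2⟩
      invFun := fun x => ⟨x.1, x.2⟩
      left_inv := fun _ => rfl
      right_inv := fun _ => rfl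
      map_add' := fun _ _ => rfl }
  have hrank := rank_eq_of_equiv_equiv (toDeg0 k n) e (toDeg0_bijective k n) (by
    intro c x
    apply Subtype.ext
    show c • (x : MvPolynomial (Fin (n + 1)) k) = C c * (x : MvPolynomial (Fin (n + 1)) k)
    rw [MvPolynomial.smul_eq_C_mul])
  unfold Module.finrank
  rw [hrank]

end Poly


section Main

open Groth.Agent.Lib.GrVerRing

variable (k : Type u) [Field k] (n d : ℕ) (hd : 1 ≤ d) {R' : Type u} [CommRing R']
  (φ : R' →+* MvPolynomial (Fin (n + 1)) k) (hφ : Function.Injective φ)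
  (hrange : ∀ p : MvPolynomial (Fin (n + 1)) k, p ∈ φ.range ↔
    ∀ j : ℕ, ¬ d ∣ j → MvPolynomial.homogeneousComponent j p = 0)

include hrange in
theorem H1 : ∀ j : ℤ, ∀ p ∈ stdS k n (j * d), p ∈ φ.range := by
  intro j p hp
  rcases lt_or_ge (j * (d : ℤ)) 0 with hlt | hge
  · rw [stdS_neg k n _ hlt] at hp
    rw [AddSubgroup.mem_bot.mp hp]
    exact zero_mem _
  · obtain ⟨m, hm⟩ := Int.eq_ofNat_of_zero_le hge
    rw [hm] at hp
    have hp' : p.IsHomogeneous m := (mem_stdS_natCast k n m p).mp hp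
    have hdm : d ∣ m := by
      have : (d : ℤ) ∣ (m : ℤ) := ⟨j, by rw [← hm, mul_comm]⟩
      exact_mod_cast this
    rw [hrange]
    intro j' hj'
    rw [homogeneousComponent_of_mem ((mem_homogeneousSubmodule m p).mpr hp'), if_neg]
    rintro rfl
    exact hj' hdm

include hrange in
theorem H2 : ∀ r : R', φ r ∈ (⨆ j : ℤ, stdS k n (j * d) : AddSubgroup _) := by
  intro r
  have hp : φ r ∈ φ.range := ⟨r, rfl⟩
  rw [← sum_homogeneousComponent (φ r)]
  refine sum_mem fun i _ => ?_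
  by_cases hdi : d ∣ i
  · obtain ⟨t, rfl⟩ := hdi
    refine AddSubgroup.mem_iSup_of_mem (t : ℤ) ?_
    have e1 : (t : ℤ) * (d : ℤ) = ((d * t : ℕ) : ℤ) := by push_cast; ring
    rw [e1, mem_stdS_natCast]
    exact homogeneousComponent_isHomogeneous _ _
  · rw [(hrange (φ r)).mp hp i hdi]
    exact zero_mem _

include hd hφ hrange in
/-- The type of the Veronese subring `k[x_0..x_n]^{(d)}`. -/
theorem bassNum_veronese_poly (m' : Ideal R') [m'.IsMaximal]
    (hm' : m' = Ideal.comap φ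
      (RingHom.ker (MvPolynomial.constantCoeff : MvPolynomial (Fin (n + 1)) k →+* k)))
    (N : ℕ) (hsN : n + 1 ≤ N) (hdN : d ∣ N) (hmin : ∀ N' : ℕ, n + 1 ≤ N' → d ∣ N' → N ≤ N') :
    GrLC.bassNum m' R' (n + 1) = (Nat.choose (N - 1) n : ℕ∞) := by
  classical
  have hq : 0 < d := hd
  letI : GradedRing (verPiece (stdS k n) d φ) :=
    verGradedRing (stdS k n) d φ hq hφ (H1 k n d φ hrange) (H2 k n d φ hrange)
  have hdeg := map_verPiece (stdS k n) d φ (H1 k n d φ hrange)
  have hpos := stdS_neg k n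
  have h0 := isField_deg0 k n
  have hm := Groth.Agent.Lib.GrHilbMono.isStarLocal_irr (stdS k n) hpos h0
  haveI : IsRegularRing (MvPolynomial (Fin (n + 1)) k) := inferInstance
  haveI : LocCoh.IsGorensteinRing (MvPolynomial (Fin (n + 1)) k) :=
    Groth.Agent.Lib.H14GorHom.isGorensteinRing_of_isRegularRing _
  obtain ⟨I⟩ := Groth.Agent.S13215.result (MvPolynomial (Fin (n + 1)) k) (stdS k n)
    (MvPolynomial (Fin (n + 1)) k) (stdS k n)
  have ha := endDeg_poly k n I
  have hpos' := Groth.Agent.Lib.H74VerCan.piece_eq_bot d φ hφ hdeg hq hpos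
  have h0' := Groth.Agent.Lib.H74VerCan.isField_deg0 d φ hφ hdeg h0
  have hm'' := Groth.Agent.Lib.GrHilbMono.isStarLocal_irr (verPiece (stdS k n) d φ) hpos' h0'
  haveI hmax' : (irr (verPiece (stdS k n) d φ)).toIdeal.IsMaximal :=
    isMaximal_of_isStarLocal _ hpos' _ hm''
  have hd' : (0 : ℤ) < d := by exact_mod_cast hq
  have hmeq : m' = (irr (verPiece (stdS k n) d φ)).toIdeal := by
    symm
    apply Ideal.IsMaximal.eq_of_le hmax' (Ideal.IsMaximal.ne_top inferInstance)
    rw [hm']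
    show Ideal.span _ ≤ _
    rw [Ideal.span_le]
    intro r hr
    obtain ⟨j, hj, hrj⟩ := Set.mem_iUnion₂.mp hr
    have hj' : (0 : ℤ) < j := hj
    have hrj' : φ r ∈ stdS k n (j * d) := hrj
    have h1 : φ r ∈ (irrS k n).toIdeal := mem_irrS_of_pos k n (mul_pos hj' hd') hrj'
    rw [irrS_toIdeal] at h1
    exact h1
  subst hmeq
  set ρ : ℤ := (-((n + 1 : ℕ) : ℤ)) % (d : ℤ) with hρ
  have hρ0 : 0 ≤ ρ := Int.emod_nonneg _ hd'.ne'
  have hρq : ρ < d := Int.emod_lt_of_pos _ hd'
  have hρa : (d : ℤ) ∣ -((n + 1 : ℕ) : ℤ) - ρ :=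
    ⟨(-((n + 1 : ℕ) : ℤ)) / d, by have := Int.emod_add_mul_ediv (-((n + 1 : ℕ) : ℤ)) d; omega⟩
  have hb := Groth.Agent.Lib.GrVerBass.bassNum_veronese (stdS k n) hpos h0 (irr (stdS k n)) hm rfl
    (hstd_stdS k n) (n + 1) (ringKrullDim_poly k n) I _ ha d hq (verPiece (stdS k n) d φ) φ hφ hdeg
    (irr (verPiece (stdS k n) d φ)) rfl ρ hρ0 hρq hρa
  refine hb.trans ?_
  rw [finrank_comp_stdS, if_pos hρ0]
  -- `N = n + 1 + ρ`
  have hN : (N : ℤ) = (n + 1 : ℕ) + ρ := by
    obtain ⟨c, hc⟩ := hρa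
    apply le_antisymm
    · have h1 : d ∣ (n + 1 + ρ.toNat) := by
        have : (d : ℤ) ∣ ((n + 1 + ρ.toNat : ℕ) : ℤ) := by
          refine ⟨-c, ?_⟩
          push_cast
          rw [Int.toNat_of_nonneg hρ0]
          push_cast at hc
          linarith
        exact_mod_cast this
      have h2 := hmin (n + 1 + ρ.toNat) (by omega) h1
      have h3 : (N : ℤ) ≤ ((n + 1 + ρ.toNat : ℕ) : ℤ) := by exact_mod_cast h2
      push_cast at h3
      rw [Int.toNat_of_nonneg hρ0] at h3
      push_cast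
      linarith
    · obtain ⟨t, ht⟩ := hdN
      -- N - (n+1) - ρ = d * (t + c) ≥ 0 since > -d
      have h4 : (N : ℤ) - ((n + 1 : ℕ) : ℤ) - ρ = d * ((t : ℤ) + c) := by
        have : (N : ℤ) = (d : ℤ) * t := by exact_mod_cast ht
        rw [this]
        linarith
      have h5 : -(d : ℤ) < (N : ℤ) - ((n + 1 : ℕ) : ℤ) - ρ := by
        have : ((n + 1 : ℕ) : ℤ) ≤ N := by exact_mod_cast hsN
        linarith
      rw [h4] at h5
      have h6 : 0 ≤ (t : ℤ) + c := by
        by_contra hneg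
        push Not at hneg
        have : (d : ℤ) * ((t : ℤ) + c) ≤ (d : ℤ) * (-1) := by
          apply mul_le_mul_of_nonneg_left _ hd'.le
          omega
        linarith
      have h7 : 0 ≤ (d : ℤ) * ((t : ℤ) + c) := mul_nonneg hd'.le h6
      linarith
  have hN' : N - 1 = n + ρ.toNat := by
    have : (N : ℤ) = ((n + 1 + ρ.toNat : ℕ) : ℤ) := by
      push_cast
      rw [Int.toNat_of_nonneg hρ0]
      push_cast at hN
      exact hN
    have h8 : N = n + 1 + ρ.toNat := by exact_mod_cast this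
    omega
  rw [hN']

end Main

end Groth.Agent.Lib.GrVerPoly
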