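import Groth.Agent.Lib.GrSegShift
import Groth.Agent.Lib.GrSegCMRing
import Groth.Agent.Lib.GrLCPoly
import Groth.Agent.Lib.GrVerPoly
import Groth.Agent.Lib.H74GrLES4

/-!
# Shifted graded modules and polynomial rings: data for Segre products (helper12)

* `gradedSMulShift` : `M(a)` is a graded module over a ring graded by submodules;
* `Hcomp_shift_eq_bot_iff` : `H^q(M(a))_d = 0 ⟺ H^q(M)_{d+a} = 0`;
* polynomial ring `k[X_1..X_r]` with all variables in degree one (`r ≥ 1`): `hpos_poly`, `h0_poly`,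
  `piece_eq_bot_iff_poly`, `supportDim_poly`, `isCMAll_poly`, `Hcomp_poly` (concentration of the graded
  local cohomology of `R(a)`), `tmul_ne_zero`.
-/

set_option autoImplicit false
set_option linter.unusedSectionVars false
set_option linter.style.haveILetI false
universe u
open scoped TensorProduct

namespace Groth.Agent.Lib.GrSegShift

open TensorProduct DirectSum GrLC Groth.Agent.Lib.H2SegreMod Groth.Agent.Lib.GrLCBridge
  Groth.Agent.Lib.GrLCVan Groth.Agent.Lib.GrSegU Groth.Agent.Lib.GrCMCrit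
  Groth.Agent.Lib.GrNoether20 Groth.Agent.Lib.GrSegCM Groth.Agent.Lib.H87GrShift
  Groth.Agent.Lib.H74GrLES

section Shift

variable {R : Type u} [CommRing R] {σ : Type u} [SetLike σ R] [AddSubgroupClass σ R]
  {𝒜 : ℤ → σ} [GradedRing 𝒜]
  {M : Type u} [AddCommGroup M] [Module R M]
  {ℳ : ℤ → AddSubgroup M} [DirectSum.Decomposition ℳ] [SetLike.GradedSMul 𝒜 ℳ]

instance gradedSMulShift (a : ℤ) : SetLike.GradedSMul 𝒜 (shiftGr ℳ a) where
  smul_mem := by
    intro i h r x hr hx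
    have := SetLike.GradedSMul.smul_mem (A := 𝒜) (B := ℳ) hr hx
    rw [vadd_eq_add] at this ⊢
    rw [mem_shiftGr, add_assoc]
    exact this

end Shift

section Shift2

variable {k : Type u} [Field k] {R : Type u} [CommRing R] [Algebra k R] {𝒜 : ℤ → Submodule k R}
  [GradedAlgebra 𝒜]
  (mR : HomogeneousIdeal 𝒜)
  {M : Type u} [AddCommGroup M] [Module R M]
  {ℳ : ℤ → AddSubgroup M} [DirectSum.Decomposition ℳ] [SetLike.GradedSMul 𝒜 ℳ]

/-- The graded local cohomology of a shifted module. -/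
theorem Hcomp_shift_eq_bot_iff (a : ℤ) (E : StarInjRes 𝒜 (shiftGr ℳ a)) (I : StarInjRes 𝒜 ℳ)
    (q : ℕ) (d : ℤ) : E.Hcomp mR q d = ⊥ ↔ I.Hcomp mR q (d + a) = ⊥ := by
  rw [← van_iff_Hcomp mR E q d, ← Hcomp_toSRes'_eq_bot_iff 𝒜 ℳ I mR q (d + a)]
  rw [van_iff (toSIdeal mR) (X := GMod.of (asGr 𝒜) M (shiftGr ℳ a))
    (shiftRes (toSRes' 𝒜 ℳ I) a)]
  rw [Submodule.eq_bot_iff, Submodule.eq_bot_iff]
  exact Iff.rfl

omit [Field k] [Algebra k R] [GradedAlgebra 𝒜] [DirectSum.Decomposition ℳ] [SetLike.GradedSMul 𝒜 ℳ] in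
/-- Concentration of the graded local cohomology, transported from `asGr 𝒜` to `𝒜`. -/
theorem conc_transport {σ : Type u} [SetLike σ R] [AddSubgroupClass σ R] {𝒜 : ℤ → σ}
    [GradedRing 𝒜] (mR : HomogeneousIdeal 𝒜) [IsNoetherianRing R] (I₁ : StarInjRes 𝒜 𝒜) (t : ℕ)
    (hc : Groth.Agent.Lib.GrLCConc.Conc (toSIdeal mR) (asGr 𝒜) t) :
    (∀ (i : ℕ) (e : ℤ), I₁.Hcomp mR i e ≠ ⊥ → i = t ∧ e ≤ -(t : ℤ)) ∧
      I₁.Hcomp mR t (-(t : ℤ)) ≠ ⊥ := by
  obtain ⟨h1, h2⟩ := hc (toSRes I₁)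
  constructor
  · intro i e hne
    exact h1 i e (fun h => hne ((Hcomp_toSRes_eq_bot_iff I₁ mR i e).1 h))
  · intro h
    exact h2 ((Hcomp_toSRes_eq_bot_iff I₁ mR t _).2 h)

end Shift2

section Tmul

variable {k : Type u} [Field k] {M N : Type u} [AddCommGroup M] [Module k M] [AddCommGroup N]
  [Module k N]

/-- Over a field, a pure tensor of nonzero vectors is nonzero. -/
theorem tmul_ne_zero {x : M} {y : N} (hx : x ≠ 0) (hy : y ≠ 0) : x ⊗ₜ[k] y ≠ 0 := by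
  have h1 : ¬ ∀ f : Module.Dual k M, f x = 0 := fun h =>
    hx ((Module.forall_dual_apply_eq_zero_iff k x).1 h)
  have h2 : ¬ ∀ g : Module.Dual k N, g y = 0 := fun h =>
    hy ((Module.forall_dual_apply_eq_zero_iff k y).1 h)
  push Not at h1 h2
  obtain ⟨f, hf⟩ := h1
  obtain ⟨g, hg⟩ := h2
  intro h
  have h3 : TensorProduct.lid k k (TensorProduct.map f g (x ⊗ₜ[k] y)) = 0 := by
    rw [h, map_zero, map_zero]
  rw [TensorProduct.map_tmul, TensorProduct.lid_tmul, smul_eq_mul] at h3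
  rcases mul_eq_zero.1 h3 with h4 | h4
  · exact hf h4
  · exact hg h4

end Tmul

section Poly

open MvPolynomial

variable (k : Type u) [Field k] (r : ℕ)

attribute [local instance] MvPolynomial.weightedGradedAlgebra

local notation "𝒜p" => MvPolynomial.weightedHomogeneousSubmodule k (fun _ : Fin r => (1 : ℤ))

theorem hpos_poly : ∀ n : ℤ, n < 0 → 𝒜p n = ⊥ := by
  intro n hn
  rw [Submodule.eq_bot_iff]
  intro p hp
  exact Groth.Agent.Lib.GrSyzBasic.eq_zero_of_mem_stdGr_neg k (Fin r) hn hp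

theorem h0_poly : 𝒜p 0 = Submodule.span k {(1 : MvPolynomial (Fin r) k)} := by
  apply le_antisymm
  · intro p hp
    rw [Groth.Agent.Lib.GrSyzBasic.eq_C_of_mem_stdGr_zero k (Fin r) hp]
    have : (C (constantCoeff p) : MvPolynomial (Fin r) k) = constantCoeff p • 1 := by
      rw [MvPolynomial.smul_eq_C_mul, mul_one]
    rw [this]
    exact Submodule.smul_mem _ _ (Submodule.subset_span rfl)
  · rw [Submodule.span_le]
    rintro x rfl
    exact SetLike.GradedOne.one_mem (A := 𝒜p)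

theorem piece_ne_bot_poly (hr : 1 ≤ r) {n : ℤ} (hn : 0 ≤ n) : 𝒜p n ≠ ⊥ := by
  intro h
  obtain ⟨m, rfl⟩ := Int.eq_ofNat_of_zero_le hn
  have hX : (X (⟨0, hr⟩ : Fin r) ^ m : MvPolynomial (Fin r) k) ∈ 𝒜p (m : ℤ) := by
    have := (MvPolynomial.isWeightedHomogeneous_X k (fun _ : Fin r => (1 : ℤ)) ⟨0, hr⟩).pow m
    rw [nsmul_eq_mul, mul_one] at this
    exact this
  rw [h, Submodule.mem_bot] at hX
  exact pow_ne_zero m (MvPolynomial.X_ne_zero _) hX

theorem piece_eq_bot_iff_poly (hr : 1 ≤ r) (n : ℤ) : 𝒜p n = ⊥ ↔ n < 0 := by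
  constructor
  · intro h
    by_contra hn
    exact piece_ne_bot_poly k r hr (not_lt.1 hn) h
  · exact hpos_poly k r n

/-- The pieces of the shifted polynomial ring `R(a)`. -/
theorem shift_piece_eq_bot_iff_poly (hr : 1 ≤ r) (a d : ℤ) :
    shiftGr (asGr 𝒜p) a d = ⊥ ↔ d < -a := by
  have h1 : shiftGr (asGr 𝒜p) a d = ⊥ ↔ 𝒜p (d + a) = ⊥ := by
    rw [AddSubgroup.eq_bot_iff_forall, Submodule.eq_bot_iff]
    exact Iff.rfl
  rw [h1, piece_eq_bot_iff_poly k r hr]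
  omega

theorem ringKrullDim_poly' : ringKrullDim (MvPolynomial (Fin r) k) = (r : WithBot ℕ∞) := by
  rw [MvPolynomial.ringKrullDim_of_isNoetherianRing, ringKrullDim_eq_zero_of_field, zero_add,
    Nat.card_eq_fintype_card, Fintype.card_fin]

theorem supportDim_poly :
    Module.supportDim (MvPolynomial (Fin r) k) (MvPolynomial (Fin r) k) = (r : WithBot ℕ∞) := by
  rw [Module.supportDim_self_eq_ringKrullDim, ringKrullDim_poly']

instance isCMRing_poly : LocCoh.IsCohenMacaulayRing (MvPolynomial (Fin r) k) :=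
  { isCohenMacaulayLocalRing_localization := fun p _ =>
      Groth.Agent.Lib.H8CM.isCMLocalRing_of_isRegularLocalRing (R := Localization.AtPrime p) }

theorem isCMAll_poly : IsCMAll (MvPolynomial (Fin r) k) (MvPolynomial (Fin r) k) :=
  isCMAll_self

/-- The graded local cohomology of `R(a)`, `R = k[X_1..X_r]`: `H^r(R(a))_d = 0` for
`d > -r - a` and `H^r(R(a))_{-r-a} ≠ 0`. -/
theorem Hcomp_poly (hr : 1 ≤ r) (mR : HomogeneousIdeal 𝒜p)
    (hmR : mR.toIdeal = Ideal.span (⋃ n ∈ Set.Ioi (0 : ℤ),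
      (𝒜p n : Set (MvPolynomial (Fin r) k))))
    (a : ℤ) (E : StarInjRes 𝒜p (shiftGr (asGr 𝒜p) a)) :
    (∀ d : ℤ, -(r : ℤ) - a < d → E.Hcomp mR r d = ⊥) ∧ E.Hcomp mR r (-(r : ℤ) - a) ≠ ⊥ := by
  obtain ⟨I₁⟩ := nonempty_starInjRes' 𝒜p 𝒜p
  have hI : ∀ (q : ℕ) (d : ℤ), E.Hcomp mR q d = ⊥ ↔ I₁.Hcomp mR q (d + a) = ⊥ := fun q d =>
    Hcomp_shift_eq_bot_iff mR a E (toAGRes I₁) q d
  obtain ⟨n, rfl⟩ : ∃ n, r = n + 1 := ⟨r - 1, by omega⟩
  have hmR' : toSIdeal mR = Groth.Agent.Lib.GrLCPoly.irrS k n := by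
    apply HomogeneousIdeal.toIdeal_injective
    show mR.toIdeal = Ideal.span {x | ∃ j : ℤ, 0 < j ∧ x ∈ GrSyz.stdGr k (Fin (n + 1)) j}
    rw [hmR]
    congr 1
    ext x
    simp only [Set.mem_iUnion, Set.mem_Ioi, SetLike.mem_coe, exists_prop, Set.mem_ofPred_eq]
    rfl
  have hc : Groth.Agent.Lib.GrLCConc.Conc (Groth.Agent.Lib.GrLCPoly.irrS k n)
      (Groth.Agent.Lib.GrLCPoly.stdS k n) (n + 1) := Groth.Agent.Lib.GrLCPoly.conc_poly k n
  rw [← hmR'] at hc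
  obtain ⟨hc1, hc2⟩ := conc_transport mR I₁ (n + 1) hc
  constructor
  · intro d hd
    rw [hI]
    by_contra hne
    have := (hc1 (n + 1) (d + a) hne).2
    push_cast at this hd
    omega
  · intro h
    have h' := (hI (n + 1) (-((n + 1 : ℕ) : ℤ) - a)).1 h
    have e : -(((n + 1 : ℕ) : ℤ)) - a + a = -((n + 1 : ℕ) : ℤ) := sub_add_cancel _ _
    exact hc2 (e ▸ h')

end Poly

end Groth.Agent.Lib.GrSegShift
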