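import Groth.Agent.Lib.GrSegShift2

/-!
# Segre products `R(a) # S(b)` of shifted polynomial rings (helper12)

`poly_main` : for `R = k[X_1..X_r]`, `S = k[Y_1..Y_s]` (`r, s ≥ 1`), `P = R(a) # S(b)`:
* `P` is Cohen–Macaulay iff (`r ≥ 2 → a - b < s`) and (`s ≥ 2 → -r < a - b`);
* if `r ≥ 2`, `s ≤ a - b` then `depth P = s`;
* if `s ≥ 2`, `a - b ≤ -r` then `depth P = r`.
-/

set_option autoImplicit false
set_option linter.unusedSectionVars false
set_option linter.style.haveILetI false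
universe u
open scoped TensorProduct

namespace Groth.Agent.Lib.GrSegShift

open TensorProduct DirectSum GrLC Groth.Agent.Lib.H2SegreMod Groth.Agent.Lib.GrLCBridge
  Groth.Agent.Lib.GrLCVan Groth.Agent.Lib.GrSegU Groth.Agent.Lib.GrCMCrit
  Groth.Agent.Lib.GrNoether20 Groth.Agent.Lib.GrSegCM Groth.Agent.Lib.H87GrShift
  Groth.Agent.Lib.H74GrLES

section Main

open MvPolynomial

attribute [local instance] MvPolynomial.weightedGradedAlgebra

variable (k : Type u) [Field k] (r s : ℕ) (h1r : 1 ≤ r) (h1s : 1 ≤ s)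
  {T : Type u} [CommRing T] [Algebra k T] {𝒯 : ℤ → Submodule k T} [GradedAlgebra 𝒯]
  {ψ : T →ₐ[k] MvPolynomial (Fin r) k ⊗[k] MvPolynomial (Fin s) k}
  (hT : GrSeg.IsSegreRing (MvPolynomial.weightedHomogeneousSubmodule k (fun _ : Fin r => (1 : ℤ)))
    (MvPolynomial.weightedHomogeneousSubmodule k (fun _ : Fin s => (1 : ℤ))) 𝒯 ψ)
  (mT : HomogeneousIdeal 𝒯)
  (hmT : mT.toIdeal = Ideal.span (⋃ n ∈ Set.Ioi (0 : ℤ), (𝒯 n : Set T)))
  (a b : ℤ)
  {P : Type u} [AddCommGroup P] [Module T P] [Module k P] [IsScalarTower k T P]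
  {𝒬 : ℤ → AddSubgroup P} [DirectSum.Decomposition 𝒬]
  {φ : P →ₗ[k] MvPolynomial (Fin r) k ⊗[k] MvPolynomial (Fin s) k}
  (hP : GrSeg.IsSegreMod ψ
    (fun n : ℤ => (MvPolynomial.weightedHomogeneousSubmodule k (fun _ : Fin r => (1 : ℤ))) (n + a))
    (fun n : ℤ => (MvPolynomial.weightedHomogeneousSubmodule k (fun _ : Fin s => (1 : ℤ))) (n + b))
    𝒬 φ)

include hP in
theorem isSegreMod_shift : GrSeg.IsSegreMod ψ
    (shiftGr (asGr (MvPolynomial.weightedHomogeneousSubmodule k (fun _ : Fin r => (1 : ℤ)))) a)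
    (shiftGr (asGr (MvPolynomial.weightedHomogeneousSubmodule k (fun _ : Fin s => (1 : ℤ)))) b)
    𝒬 φ where
  injective := hP.injective
  image_piece := fun n => hP.image_piece n
  map_smul := hP.map_smul

include h1r h1s hP in
theorem nontrivial_poly : Nontrivial P := by
  have hd1 : (0 : ℤ) ≤ max (-a) (-b) + a := by
    have := le_max_left (-a) (-b); omega
  have hd2 : (0 : ℤ) ≤ max (-a) (-b) + b := by
    have := le_max_right (-a) (-b); omega
  obtain ⟨x, hx, hx0⟩ := Submodule.exists_mem_ne_zero_of_ne_bot (piece_ne_bot_poly k r h1r hd1)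
  obtain ⟨y, hy, hy0⟩ := Submodule.exists_mem_ne_zero_of_ne_bot (piece_ne_bot_poly k s h1s hd2)
  have hmem : x ⊗ₜ[k] y ∈ (GrSeg.segrePiece k
      (fun n : ℤ => (MvPolynomial.weightedHomogeneousSubmodule k (fun _ : Fin r => (1 : ℤ))) (n + a))
      (fun n : ℤ => (MvPolynomial.weightedHomogeneousSubmodule k (fun _ : Fin s => (1 : ℤ))) (n + b))
      (max (-a) (-b)) : Set (MvPolynomial (Fin r) k ⊗[k] MvPolynomial (Fin s) k)) :=
    Submodule.subset_span ⟨x, hx, y, hy, rfl⟩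
  rw [← hP.image_piece] at hmem
  obtain ⟨p, -, hp⟩ := hmem
  refine ⟨p, 0, ?_⟩
  intro h0
  rw [h0, map_zero] at hp
  exact tmul_ne_zero hx0 hy0 hp.symm

include h1r h1s hT hmT hP in
/-- **Segre products of shifted polynomial rings.** -/
theorem poly_main :
    (IsCMAll T P ↔ (2 ≤ r → a - b < (s : ℤ)) ∧ (2 ≤ s → -(r : ℤ) < a - b)) ∧
    (2 ≤ r → (s : ℤ) ≤ a - b → LocCoh.idealDepth mT.toIdeal P = (s : ℕ∞)) ∧
    (2 ≤ s → a - b ≤ -(r : ℤ) → LocCoh.idealDepth mT.toIdeal P = (r : ℕ∞)) := by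
  haveI : Nontrivial P := nontrivial_poly k r s h1r h1s a b hP
  have hP' := isSegreMod_shift k r s a b hP
  have hposR := hpos_poly k r
  have h0R := h0_poly k r
  have hposS := hpos_poly k s
  have h0S := h0_poly k s
  let mR : HomogeneousIdeal (MvPolynomial.weightedHomogeneousSubmodule k (fun _ : Fin r => (1 : ℤ))) :=
    ⟨irr _, irr_isHomogeneous _⟩
  have hmR : mR.toIdeal = Ideal.span (⋃ n ∈ Set.Ioi (0 : ℤ),
      ((MvPolynomial.weightedHomogeneousSubmodule k (fun _ : Fin r => (1 : ℤ))) n :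
        Set (MvPolynomial (Fin r) k))) := irr_eq_span _
  let mS : HomogeneousIdeal (MvPolynomial.weightedHomogeneousSubmodule k (fun _ : Fin s => (1 : ℤ))) :=
    ⟨irr _, irr_isHomogeneous _⟩
  have hmS : mS.toIdeal = Ideal.span (⋃ n ∈ Set.Ioi (0 : ℤ),
      ((MvPolynomial.weightedHomogeneousSubmodule k (fun _ : Fin s => (1 : ℤ))) n :
        Set (MvPolynomial (Fin s) k))) := irr_eq_span _
  obtain ⟨EM⟩ := nonempty_starInjRes
    (MvPolynomial.weightedHomogeneousSubmodule k (fun _ : Fin r => (1 : ℤ)))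
    (shiftGr (asGr (MvPolynomial.weightedHomogeneousSubmodule k (fun _ : Fin r => (1 : ℤ)))) a)
  obtain ⟨EN⟩ := nonempty_starInjRes
    (MvPolynomial.weightedHomogeneousSubmodule k (fun _ : Fin s => (1 : ℤ)))
    (shiftGr (asGr (MvPolynomial.weightedHomogeneousSubmodule k (fun _ : Fin s => (1 : ℤ)))) b)
  obtain ⟨hαM, hαM'⟩ := Hcomp_poly k r h1r mR hmR a EM
  obtain ⟨hαN, hαN'⟩ := Hcomp_poly k s h1s mS hmS b EN
  have hβM := shift_piece_eq_bot_iff_poly k r h1r a
  have hβN := shift_piece_eq_bot_iff_poly k s h1s b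
  refine ⟨?_, ?_, ?_⟩
  · rw [isCMAll_segre_iff_num hposR h0R hposS h0S hT mR hmR mS hmS hP' r s h1r h1s
      (supportDim_poly k r) (supportDim_poly k s) (isCMAll_poly k r) (isCMAll_poly k s) EM EN
      (-(r : ℤ) - a) (-a) (-(s : ℤ) - b) (-b) hβM hβN hαM hαM' hαN hαN']
    constructor
    · rintro ⟨h1, h2⟩
      exact ⟨fun h => by have := h1 h; omega, fun h => by have := h2 h; omega⟩
    · rintro ⟨h1, h2⟩
      exact ⟨fun h => by have := h1 h; omega, fun h => by have := h2 h; omega⟩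
  · intro h2r hab
    exact idealDepth_segre_eq_right hposR h0R hposS h0S hT mR hmR mS hmS mT hmT hP' r s h2r
      (supportDim_poly k r) (supportDim_poly k s) (isCMAll_poly k r) (isCMAll_poly k s) EM EN
      (-(r : ℤ) - a) (-a) (-(s : ℤ) - b) (-b) hβM hβN hαM hαN' (by omega) (Or.inr (by omega))
  · intro h2s hab
    exact idealDepth_segre_eq_left hposR h0R hposS h0S hT mR hmR mS hmS mT hmT hP' r s h2s
      (supportDim_poly k r) (supportDim_poly k s) (isCMAll_poly k r) (isCMAll_poly k s) EM EN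
      (-(r : ℤ) - a) (-a) (-(s : ℤ) - b) (-b) hβM hβN hαM' hαN (by omega) (Or.inr (by omega))

end Main

end Groth.Agent.Lib.GrSegShift
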