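import Groth.Agent.Lib.H2SegreMod2
import Groth.Agent.Lib.GrLCBridge

/-!
# The bigraded ring `R ⊗_k S` and the bigraded module `M ⊗_k N` (helper12)

For graded `k`-algebras `R`, `S` (pieces `𝒜`, `ℬ : ℤ → Submodule k _`) and graded modules `M`, `N`
(pieces `ℳ`, `𝒩 : ℤ → AddSubgroup _`):

* `biK ℳ 𝒩 (i,j)` : the `k`-span of `M_i ⊗ N_j` in `M ⊗_k N`; `GrSeg.segrePiece k ℳ 𝒩 n` is
  `biK ℳ 𝒩 (n,n)` by `rfl`;
* `biP` : the `k`-linear projections; `biGr 𝒜 ℳ ℬ 𝒩 : ℤ × ℤ → AddSubgroup (M ⊗ N)` with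
  `Decomposition` instance (`coe_decompose_biGr`);
* `uGr 𝒜 ℬ` : the `ℤ × ℤ`-grading of `R ⊗_k S`, a `GradedRing`;
* with the module structure `H2SegreMod.actModule`, `M ⊗ N` is graded over `R ⊗ S`
  (`gradedSMul_biGr`).
-/

set_option autoImplicit false
set_option linter.unusedSectionVars false
universe u
open scoped TensorProduct

namespace Groth.Agent.Lib.GrSegU

open TensorProduct DirectSum GrLC Groth.Agent.Lib.H2SegreMod Groth.Agent.Lib.GrLCBridge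

section Bi

variable {k : Type u} [Field k] {R : Type u} [CommRing R] [Algebra k R] (𝒜 : ℤ → Submodule k R)
  [GradedAlgebra 𝒜]
  {M : Type u} [AddCommGroup M] [Module R M] [Module k M] [IsScalarTower k R M]
  (ℳ : ℤ → AddSubgroup M) [DirectSum.Decomposition ℳ] [SetLike.GradedSMul 𝒜 ℳ]
  {S : Type u} [CommRing S] [Algebra k S] (ℬ : ℤ → Submodule k S) [GradedAlgebra ℬ]
  {N : Type u} [AddCommGroup N] [Module S N] [Module k N] [IsScalarTower k S N]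
  (𝒩 : ℤ → AddSubgroup N) [DirectSum.Decomposition 𝒩] [SetLike.GradedSMul ℬ 𝒩]

/-- The bihomogeneous piece `M_i ⊗ N_j` as a `k`-subspace of `M ⊗ N`. -/
def biK (p : ℤ × ℤ) : Submodule k (M ⊗[k] N) :=
  Submodule.span k {x : M ⊗[k] N | ∃ a ∈ ℳ p.1, ∃ b ∈ 𝒩 p.2, x = a ⊗ₜ[k] b}

theorem segrePiece_eq_biK (n : ℤ) : GrSeg.segrePiece k ℳ 𝒩 n = biK (k := k) ℳ 𝒩 (n, n) := rfl

theorem tmul_mem_biK {p : ℤ × ℤ} {a : M} {b : N} (ha : a ∈ ℳ p.1) (hb : b ∈ 𝒩 p.2) :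
    a ⊗ₜ[k] b ∈ biK (k := k) ℳ 𝒩 p :=
  Submodule.subset_span ⟨a, ha, b, hb, rfl⟩

/-- The projection onto the `(i,j)` piece. -/
noncomputable def biP (p : ℤ × ℤ) : M ⊗[k] N →ₗ[k] M ⊗[k] N :=
  TensorProduct.map (projM 𝒜 ℳ p.1) (projM ℬ 𝒩 p.2)

theorem biP_tmul (p : ℤ × ℤ) (a : M) (b : N) :
    biP 𝒜 ℳ ℬ 𝒩 p (a ⊗ₜ[k] b) = (decompose ℳ a p.1 : M) ⊗ₜ[k] (decompose 𝒩 b p.2 : N) := rfl

theorem biP_mem (p : ℤ × ℤ) (w : M ⊗[k] N) : biP 𝒜 ℳ ℬ 𝒩 p w ∈ biK (k := k) ℳ 𝒩 p := by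
  induction w using TensorProduct.induction_on with
  | zero => rw [map_zero]; exact zero_mem _
  | tmul a b =>
    rw [biP_tmul]
    exact tmul_mem_biK ℳ 𝒩 (decompose ℳ a p.1).2 (decompose 𝒩 b p.2).2
  | add x y hx hy => rw [map_add]; exact add_mem hx hy

theorem biP_of_mem_same {p : ℤ × ℤ} {w : M ⊗[k] N} (hw : w ∈ biK (k := k) ℳ 𝒩 p) :
    biP 𝒜 ℳ ℬ 𝒩 p w = w := by
  unfold biK at hw
  induction hw using Submodule.span_induction with
  | mem x hx =>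
    obtain ⟨a, ha, b, hb, rfl⟩ := hx
    rw [biP_tmul, decompose_of_mem_same ℳ ha, decompose_of_mem_same 𝒩 hb]
  | zero => rw [map_zero]
  | add x y _ _ hx hy => rw [map_add, hx, hy]
  | smul c x _ hx => rw [map_smul, hx]

theorem biP_of_mem_ne {p q : ℤ × ℤ} (h : q ≠ p) {w : M ⊗[k] N}
    (hw : w ∈ biK (k := k) ℳ 𝒩 q) : biP 𝒜 ℳ ℬ 𝒩 p w = 0 := by
  unfold biK at hw
  induction hw using Submodule.span_induction with
  | mem x hx =>
    obtain ⟨a, ha, b, hb, rfl⟩ := hx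
    rw [biP_tmul]
    by_cases h1 : q.1 = p.1
    · have h2 : q.2 ≠ p.2 := fun h2 => h (Prod.ext h1 h2)
      rw [decompose_of_mem_ne 𝒩 hb h2, tmul_zero]
    · rw [decompose_of_mem_ne ℳ ha h1, zero_tmul]
  | zero => rw [map_zero]
  | add x y _ _ hx hy => rw [map_add, hx, hy, add_zero]
  | smul c x _ hx => rw [map_smul, hx, smul_zero]

/-- The bigrading of `M ⊗ N` by additive subgroups. -/
def biGr (p : ℤ × ℤ) : AddSubgroup (M ⊗[k] N) :=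
  let _ := 𝒜; let _ := ℬ
  (biK (k := k) ℳ 𝒩 p).toAddSubgroup

theorem mem_biGr {p : ℤ × ℤ} {w : M ⊗[k] N} :
    w ∈ biGr 𝒜 ℳ ℬ 𝒩 p ↔ w ∈ biK (k := k) ℳ 𝒩 p := Iff.rfl

theorem tmul_mem_biGr {p : ℤ × ℤ} {a : M} {b : N} (ha : a ∈ ℳ p.1) (hb : b ∈ 𝒩 p.2) :
    a ⊗ₜ[k] b ∈ biGr 𝒜 ℳ ℬ 𝒩 p := tmul_mem_biK ℳ 𝒩 ha hb

theorem biP_coe (x : ⨁ p, biGr 𝒜 ℳ ℬ 𝒩 p) (p : ℤ × ℤ) :
    biP 𝒜 ℳ ℬ 𝒩 p (DirectSum.coeAddMonoidHom (biGr 𝒜 ℳ ℬ 𝒩) x) = (x p : M ⊗[k] N) := by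
  induction x using DirectSum.induction_on with
  | zero => rw [map_zero, map_zero, DirectSum.zero_apply, ZeroMemClass.coe_zero]
  | of q y =>
    rw [DirectSum.coeAddMonoidHom_of]
    by_cases h : q = p
    · subst h
      rw [biP_of_mem_same 𝒜 ℳ ℬ 𝒩 y.2, DirectSum.of_eq_same]
    · rw [biP_of_mem_ne 𝒜 ℳ ℬ 𝒩 h y.2, DirectSum.of_eq_of_ne _ _ _ (Ne.symm h), ZeroMemClass.coe_zero]
  | add x y hx hy =>
    rw [map_add, map_add, hx, hy, DirectSum.add_apply, AddSubgroup.coe_add]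

theorem isInternal_biGr : DirectSum.IsInternal (biGr 𝒜 ℳ ℬ 𝒩) := by
  constructor
  · intro x y hxy
    apply DFinsupp.ext
    intro p
    apply Subtype.ext
    rw [← biP_coe, ← biP_coe, hxy]
  · intro w
    refine hom_induction (k := k) ℳ 𝒩 (p := fun w => ∃ x, DirectSum.coeAddMonoidHom
      (biGr 𝒜 ℳ ℬ 𝒩) x = w) ⟨0, map_zero _⟩ ?_ ?_ w
    · rintro x y ⟨x', rfl⟩ ⟨y', rfl⟩
      exact ⟨x' + y', map_add _ _ _⟩
    · intro i j a b ha hb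
      refine ⟨DirectSum.of (fun p => biGr 𝒜 ℳ ℬ 𝒩 p) (i, j)
        ⟨a ⊗ₜ[k] b, tmul_mem_biGr 𝒜 ℳ ℬ 𝒩 (p := (i, j)) ha hb⟩, ?_⟩
      rw [DirectSum.coeAddMonoidHom_of]

noncomputable instance biDecomposition : Decomposition (biGr 𝒜 ℳ ℬ 𝒩) :=
  (isInternal_biGr 𝒜 ℳ ℬ 𝒩).chooseDecomposition

theorem coe_decompose_biGr (w : M ⊗[k] N) (p : ℤ × ℤ) :
    (decompose (biGr 𝒜 ℳ ℬ 𝒩) w p : M ⊗[k] N) = biP 𝒜 ℳ ℬ 𝒩 p w := by
  have h1 := biP_coe 𝒜 ℳ ℬ 𝒩 (decompose (biGr 𝒜 ℳ ℬ 𝒩) w) p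
  have h2 : DirectSum.coeAddMonoidHom (biGr 𝒜 ℳ ℬ 𝒩) (decompose (biGr 𝒜 ℳ ℬ 𝒩) w) = w :=
    (decompose (biGr 𝒜 ℳ ℬ 𝒩)).left_inv w
  rw [h2] at h1
  exact h1.symm

end Bi

section Ring

variable {k : Type u} [Field k] {R : Type u} [CommRing R] [Algebra k R] (𝒜 : ℤ → Submodule k R)
  [GradedAlgebra 𝒜]
  {S : Type u} [CommRing S] [Algebra k S] (ℬ : ℤ → Submodule k S) [GradedAlgebra ℬ]

instance gradedSMul_self : SetLike.GradedSMul 𝒜 (asGr 𝒜) where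
  smul_mem := fun {_ _ _ _} hr hx => SetLike.GradedMul.mul_mem (A := 𝒜) hr hx

/-- The `ℤ × ℤ`-grading of `R ⊗_k S`. -/
abbrev uGr : ℤ × ℤ → AddSubgroup (R ⊗[k] S) := biGr 𝒜 (asGr 𝒜) ℬ (asGr ℬ)

theorem tmul_mem_uGr {p : ℤ × ℤ} {a : R} {b : S} (ha : a ∈ 𝒜 p.1) (hb : b ∈ ℬ p.2) :
    a ⊗ₜ[k] b ∈ uGr 𝒜 ℬ p :=
  tmul_mem_biGr 𝒜 (asGr 𝒜) ℬ (asGr ℬ) ha hb

instance gradedMonoid_uGr : SetLike.GradedMonoid (uGr 𝒜 ℬ) where
  one_mem := by
    rw [Algebra.TensorProduct.one_def]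
    exact tmul_mem_uGr 𝒜 ℬ (p := 0) (SetLike.GradedOne.one_mem (A := 𝒜))
      (SetLike.GradedOne.one_mem (A := ℬ))
  mul_mem := by
    intro p q x y hx hy
    rw [mem_biGr] at hx hy ⊢
    unfold biK at hx
    induction hx using Submodule.span_induction with
    | mem x hx =>
      obtain ⟨a, ha, b, hb, rfl⟩ := hx
      unfold biK at hy
      induction hy using Submodule.span_induction with
      | mem y hy =>
        obtain ⟨a', ha', b', hb', rfl⟩ := hy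
        rw [Algebra.TensorProduct.tmul_mul_tmul]
        exact tmul_mem_biK (asGr 𝒜) (asGr ℬ) (p := p + q)
          (SetLike.GradedMul.mul_mem (A := 𝒜) ha ha') (SetLike.GradedMul.mul_mem (A := ℬ) hb hb')
      | zero => rw [mul_zero]; exact zero_mem _
      | add y z _ _ hy hz => rw [mul_add]; exact add_mem hy hz
      | smul c y _ hy => rw [mul_smul_comm]; exact Submodule.smul_mem _ c hy
    | zero => rw [zero_mul]; exact zero_mem _
    | add x z _ _ hx hz => rw [add_mul]; exact add_mem hx hz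
    | smul c x _ hx => rw [smul_mul_assoc]; exact Submodule.smul_mem _ c hx

noncomputable instance gradedRing_uGr : GradedRing (uGr 𝒜 ℬ) where
  toGradedMonoid := gradedMonoid_uGr 𝒜 ℬ
  toDecomposition := biDecomposition 𝒜 (asGr 𝒜) ℬ (asGr ℬ)

variable {M : Type u} [AddCommGroup M] [Module R M] [Module k M] [IsScalarTower k R M]
  (ℳ : ℤ → AddSubgroup M) [DirectSum.Decomposition ℳ] [SetLike.GradedSMul 𝒜 ℳ]
  {N : Type u} [AddCommGroup N] [Module S N] [Module k N] [IsScalarTower k S N]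
  (𝒩 : ℤ → AddSubgroup N) [DirectSum.Decomposition 𝒩] [SetLike.GradedSMul ℬ 𝒩]

attribute [local instance] actModule

theorem smul_tmul_tmul (r : R) (s : S) (m : M) (n : N) :
    (r ⊗ₜ[k] s : R ⊗[k] S) • (m ⊗ₜ[k] n : M ⊗[k] N) = (r • m) ⊗ₜ[k] (s • n) :=
  GrSeg.act_tmul r s m n

theorem act_smul (c : k) (x : R ⊗[k] S) (w : M ⊗[k] N) : (c • x) • w = c • (x • w) := by
  show GrSeg.act k R S M N (c • x) w = c • GrSeg.act k R S M N x w
  rw [map_smul, LinearMap.smul_apply]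

theorem smul_ksmul (c : k) (x : R ⊗[k] S) (w : M ⊗[k] N) : x • (c • w) = c • (x • w) := by
  show GrSeg.act k R S M N x (c • w) = c • GrSeg.act k R S M N x w
  rw [map_smul]

instance gradedSMul_biGr : SetLike.GradedSMul (uGr 𝒜 ℬ) (biGr 𝒜 ℳ ℬ 𝒩) where
  smul_mem := by
    intro p q x w hx hw
    rw [vadd_eq_add]
    rw [mem_biGr] at hx hw ⊢
    unfold biK at hx
    induction hx using Submodule.span_induction with
    | mem x hx =>
      obtain ⟨a, ha, b, hb, rfl⟩ := hx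
      unfold biK at hw
      induction hw using Submodule.span_induction with
      | mem w hw =>
        obtain ⟨m, hm, n, hn, rfl⟩ := hw
        rw [smul_tmul_tmul]
        refine tmul_mem_biK ℳ 𝒩 (p := p + q) ?_ ?_
        · have := SetLike.GradedSMul.smul_mem (A := 𝒜) (B := ℳ) ha hm
          rwa [vadd_eq_add] at this
        · have := SetLike.GradedSMul.smul_mem (A := ℬ) (B := 𝒩) hb hn
          rwa [vadd_eq_add] at this
      | zero => rw [smul_zero]; exact zero_mem _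
      | add y z _ _ hy hz => rw [smul_add]; exact add_mem hy hz
      | smul c y _ hy => rw [smul_ksmul]; exact Submodule.smul_mem _ c hy
    | zero => rw [zero_smul]; exact zero_mem _
    | add x z _ _ hx hz => rw [add_smul]; exact add_mem hx hz
    | smul c x _ hx => rw [act_smul]; exact Submodule.smul_mem _ c hx

end Ring

end Groth.Agent.Lib.GrSegU
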