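import Groth.Agent.Lib.GrVer4

/-!
# Veronese modules V: the comparison for an abstractly presented Veronese module, and the
equality of the dimensions of the graded pieces of local cohomology (helper12)
-/

set_option autoImplicit false
set_option linter.unusedSectionVars false
set_option linter.style.haveILetI false
universe u

namespace Groth.Agent.Lib.GrVer

open DirectSum GrLC Groth.Agent.Lib.H87GrMod Groth.Agent.Lib.H87GrMod2 Groth.Agent.Lib.H87GrShift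
  Groth.Agent.S18662 Groth.Agent.S18661 Groth.Agent.Lib.H74GrLES Groth.Agent.Lib.H74GrArt
  Groth.Agent.Lib.H74GrVan Groth.Agent.S13215 Groth.Agent.Lib.H74Coarse

section Abstract

variable {ι ι' : Type} [AddCommGroup ι] [DecidableEq ι] [AddCommGroup ι'] [DecidableEq ι']
  [Module.Free ℤ ι] [Module.Finite ℤ ι] [Module.Free ℤ ι'] [Module.Finite ℤ ι']
variable {R R' : Type u} [CommRing R] [CommRing R'] [IsNoetherianRing R] [IsNoetherianRing R']
variable {𝒜' : ι' → AddSubgroup R'} {𝒜 : ι → AddSubgroup R} [GradedRing 𝒜'] [GradedRing 𝒜]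
variable (D : VData 𝒜' 𝒜) (a' : HomogeneousIdeal 𝒜') (a : HomogeneousIdeal 𝒜)
  (hc : IdealCompat D a'.toIdeal a.toIdeal)
variable {X : Type u} [AddCommGroup X] [Module R X] {𝒳 : ι → AddSubgroup X} [Decomposition 𝒳]
  [SetLike.GradedSMul 𝒜 𝒳]
variable {M' : Type u} [AddCommGroup M'] [Module R' M'] {ℳ' : ι' → AddSubgroup M'}
  [Decomposition ℳ'] [SetLike.GradedSMul 𝒜' ℳ']

include hc in
/-- The comparison map for a graded `R'`-module `M'` identified with the Veronese module of `X`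
by a graded isomorphism `θ`. -/
theorem exists_semilinear_H (E : StarInjRes 𝒜 𝒳) (F : StarInjRes 𝒜' ℳ')
    (θ : M' ≃ₗ[R'] Ver D 𝒳) (hθ : IsGrHom ℳ' (verGr D 𝒳) θ.toLinearMap)
    (hθ' : IsGrHom (verGr D 𝒳) ℳ' θ.symm.toLinearMap) (i : ℕ) :
    ∃ Ψ : F.H a' i →+ E.H a i,
      (∀ (r : R') (x : F.H a' i), Ψ (r • x) = D.φ r • Ψ x) ∧ Function.Injective Ψ ∧
      (∀ j x, x ∈ F.Hcomp a' i j → Ψ x ∈ E.Hcomp a i (D.ψ j)) ∧
      (∀ j y, y ∈ E.Hcomp a i (D.ψ j) → ∃ x ∈ F.Hcomp a' i j, Ψ x = y) := by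
  obtain ⟨Ψ, h1, h2, h3, h4⟩ := pv D a' a hc i X 𝒳 E (res (𝒜 := 𝒜') (verGr D 𝒳))
  obtain ⟨c, hcε⟩ := exists_cmap F (res (𝒜 := 𝒜') (verGr D 𝒳)) (isGrHomDeg_zero_of hθ)
  obtain ⟨c', hcε'⟩ := exists_cmap (res (𝒜 := 𝒜') (verGr D 𝒳)) F (isGrHomDeg_zero_of hθ')
  have hcc' : c'.Hmap a' i ∘ₗ c.Hmap a' i = LinearMap.id := by
    rw [← CMap.Hmap_comp a' c c' 0 (add_zero 0), ← CMap.Hmap_id (E := F) a' i]
    apply CMap.Hmap_eq_of_ε
    intro m
    show c'.φ 0 (c.φ 0 (F.ε m)) = F.ε m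
    rw [hcε, hcε']
    congr 1
    exact θ.symm_apply_apply m
  have hc'c : c.Hmap a' i ∘ₗ c'.Hmap a' i = LinearMap.id := by
    rw [← CMap.Hmap_comp a' c' c 0 (add_zero 0),
      ← CMap.Hmap_id (E := res (𝒜 := 𝒜') (verGr D 𝒳)) a' i]
    apply CMap.Hmap_eq_of_ε
    intro m
    show c.φ 0 (c'.φ 0 ((res (𝒜 := 𝒜') (verGr D 𝒳)).ε m)) = (res (𝒜 := 𝒜') (verGr D 𝒳)).ε m
    rw [hcε', hcε]
    congr 1
    exact θ.apply_symm_apply m
  refine ⟨Ψ.comp (c.Hmap a' i).toAddMonoidHom, ?_, ?_, ?_, ?_⟩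
  · intro r x
    show Ψ (c.Hmap a' i (r • x)) = D.φ r • Ψ (c.Hmap a' i x)
    rw [map_smul, h1]
  · intro x y hxy
    have h5 : c.Hmap a' i x = c.Hmap a' i y := h2 hxy
    have h6 := congrArg (c'.Hmap a' i) h5
    rw [← LinearMap.comp_apply, ← LinearMap.comp_apply, hcc'] at h6
    exact h6
  · intro j x hx
    have := c.Hmap_mem_Hcomp a' i hx
    rw [add_zero] at this
    exact h3 j _ this
  · intro j y hy
    obtain ⟨x, hx, rfl⟩ := h4 j y hy
    have := c'.Hmap_mem_Hcomp a' i hx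
    rw [add_zero] at this
    refine ⟨c'.Hmap a' i x, this, ?_⟩
    show Ψ (c.Hmap a' i (c'.Hmap a' i x)) = Ψ x
    rw [← LinearMap.comp_apply, hc'c]
    rfl

include hc in
/-- Equality of the dimensions of the graded pieces. -/
theorem finrank_Hcomp_eq (hinj : Function.Injective D.φ)
    (hsurj0 : ∀ r ∈ 𝒜 0, ∃ s ∈ 𝒜' 0, D.φ s = r)
    (E : StarInjRes 𝒜 𝒳) (F : StarInjRes 𝒜' ℳ')
    (θ : M' ≃ₗ[R'] Ver D 𝒳) (hθ : IsGrHom ℳ' (verGr D 𝒳) θ.toLinearMap)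
    (hθ' : IsGrHom (verGr D 𝒳) ℳ' θ.symm.toLinearMap) (i : ℕ) (j : ι') :
    Module.finrank (deg0 𝒜') (F.Hcomp a' i j) = Module.finrank (deg0 𝒜) (E.Hcomp a i (D.ψ j)) := by
  obtain ⟨Ψ, h1, h2, h3, h4⟩ := exists_semilinear_H D a' a hc E F θ hθ hθ' i
  have hmem0 : ∀ r : deg0 𝒜', D.φ r.1 ∈ 𝒜 0 := by
    intro r
    have := D.map_mem 0 r.1 r.2
    rwa [map_zero] at this
  let σ : deg0 𝒜' → deg0 𝒜 := fun r => ⟨D.φ r.1, hmem0 r⟩
  have hσ : Function.Bijective σ := by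
    constructor
    · intro r s hrs
      apply Subtype.ext
      apply hinj
      exact congrArg Subtype.val hrs
    · intro r
      obtain ⟨s, hs, hsr⟩ := hsurj0 r.1 r.2
      exact ⟨⟨s, hs⟩, Subtype.ext hsr⟩
  let Ψj : F.Hcomp a' i j →+ E.Hcomp a i (D.ψ j) :=
    { toFun := fun x => ⟨Ψ x.1, h3 j x.1 x.2⟩
      map_zero' := Subtype.ext (map_zero Ψ)
      map_add' := fun x y => Subtype.ext (map_add Ψ x.1 y.1) }
  have hΨj : Function.Bijective Ψj := by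
    constructor
    · intro x y hxy
      apply Subtype.ext
      apply h2
      exact congrArg Subtype.val hxy
    · intro y
      obtain ⟨x, hx, hxy⟩ := h4 j y.1 y.2
      exact ⟨⟨x, hx⟩, Subtype.ext hxy⟩
  have hrank := rank_eq_of_equiv_equiv σ (AddEquiv.ofBijective Ψj hΨj) hσ (by
    intro r x
    apply Subtype.ext
    show Ψ (r.1 • x.1) = D.φ r.1 • Ψ x.1
    exact h1 r.1 x.1)
  unfold Module.finrank
  rw [hrank]

end Abstract

end Groth.Agent.Lib.GrVer
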