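import Groth.Agent.Lib.GrSegU1
import Groth.Agent.Lib.GrVer5

/-!
# Veronese data for the Segre product (helper12)

* `vdataL`, `vdataR` : the inclusions `R → R ⊗ S` (`i ↦ (i,0)`), `S → R ⊗ S` (`j ↦ (0,j)`);
* `vdataD` : the Segre ring `T → R ⊗ S` (`d ↦ (d,d)`);
* `aL`, `aR` : the extended irrelevant ideals; `idealCompat_diag` : `T_+ (R⊗S) ⊆ aL ∩ aR ⊆ √(T_+ (R ⊗ S))`.
-/

set_option autoImplicit false
set_option linter.unusedSectionVars false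
universe u
open scoped TensorProduct

namespace Groth.Agent.Lib.GrSegU

open TensorProduct DirectSum GrLC Groth.Agent.Lib.H2SegreMod Groth.Agent.Lib.GrLCBridge
  Groth.Agent.Lib.GrVer

section Data

variable {k : Type u} [Field k] {R : Type u} [CommRing R] [Algebra k R] (𝒜 : ℤ → Submodule k R)
  [GradedAlgebra 𝒜]
  {S : Type u} [CommRing S] [Algebra k S] (ℬ : ℤ → Submodule k S) [GradedAlgebra ℬ]

theorem isNoetherianRing_of_finiteType [Algebra.FiniteType k R] : IsNoetherianRing R :=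
  Algebra.FiniteType.isNoetherianRing k R

theorem isNoetherianRing_tensor [Algebra.FiniteType k R] [Algebra.FiniteType k S] :
    IsNoetherianRing (R ⊗[k] S) :=
  haveI : IsNoetherianRing R := Algebra.FiniteType.isNoetherianRing k R
  Algebra.FiniteType.isNoetherianRing R (R ⊗[k] S)

/-- The datum `R → R ⊗ S`, `i ↦ (i, 0)`. -/
def vdataL : VData (asGr 𝒜) (uGr 𝒜 ℬ) where
  ψ := AddMonoidHom.inl ℤ ℤ
  ψ_inj := fun _ _ h => congrArg Prod.fst h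
  φ := Algebra.TensorProduct.includeLeftRingHom
  map_mem := fun j _ hr =>
    tmul_mem_uGr 𝒜 ℬ (p := (j, 0)) hr (SetLike.GradedOne.one_mem (A := ℬ))

/-- The datum `S → R ⊗ S`, `j ↦ (0, j)`. -/
def vdataR : VData (asGr ℬ) (uGr 𝒜 ℬ) where
  ψ := AddMonoidHom.inr ℤ ℤ
  ψ_inj := fun _ _ h => congrArg Prod.snd h
  φ := (Algebra.TensorProduct.includeRight : S →ₐ[k] R ⊗[k] S).toRingHom
  map_mem := fun j _ hs =>
    tmul_mem_uGr 𝒜 ℬ (p := (0, j)) (SetLike.GradedOne.one_mem (A := 𝒜)) hs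

@[simp] theorem vdataL_ψ (i : ℤ) : (vdataL 𝒜 ℬ).ψ i = (i, 0) := rfl
@[simp] theorem vdataR_ψ (j : ℤ) : (vdataR 𝒜 ℬ).ψ j = (0, j) := rfl
@[simp] theorem vdataL_φ (r : R) : (vdataL 𝒜 ℬ).φ r = r ⊗ₜ[k] (1 : S) := rfl
@[simp] theorem vdataR_φ (s : S) : (vdataR 𝒜 ℬ).φ s = (1 : R) ⊗ₜ[k] s := rfl

variable {T : Type u} [CommRing T] [Algebra k T] (𝒯 : ℤ → Submodule k T) [GradedAlgebra 𝒯]
  (ψ : T →ₐ[k] R ⊗[k] S)
  (hdeg : ∀ n : ℤ, (𝒯 n).map ψ.toLinearMap = GrSeg.segrePiece k 𝒜 ℬ n)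

/-- The datum `T → R ⊗ S`, `d ↦ (d, d)`. -/
def vdataD : VData (asGr 𝒯) (uGr 𝒜 ℬ) where
  ψ := (AddMonoidHom.id ℤ).prod (AddMonoidHom.id ℤ)
  ψ_inj := fun _ _ h => congrArg Prod.fst h
  φ := ψ.toRingHom
  map_mem := fun j t ht => by
    have : ψ t ∈ (𝒯 j).map ψ.toLinearMap := ⟨t, ht, rfl⟩
    rw [hdeg j] at this
    exact this

@[simp] theorem vdataD_ψ (d : ℤ) : (vdataD 𝒜 ℬ 𝒯 ψ hdeg).ψ d = (d, d) := rfl
@[simp] theorem vdataD_φ (t : T) : (vdataD 𝒜 ℬ 𝒯 ψ hdeg).φ t = ψ t := rfl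

variable [IsNoetherianRing R] [IsNoetherianRing S] [IsNoetherianRing (R ⊗[k] S)]

/-- The extension of a homogeneous ideal of `R` to `R ⊗ S`. -/
noncomputable def aL (mR : HomogeneousIdeal 𝒜) : HomogeneousIdeal (uGr 𝒜 ℬ) :=
  mapIdeal (vdataL 𝒜 ℬ) (toSIdeal mR)

/-- The extension of a homogeneous ideal of `S` to `R ⊗ S`. -/
noncomputable def aR (mS : HomogeneousIdeal ℬ) : HomogeneousIdeal (uGr 𝒜 ℬ) :=
  mapIdeal (vdataR 𝒜 ℬ) (toSIdeal mS)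

theorem aL_toIdeal (mR : HomogeneousIdeal 𝒜) :
    (aL 𝒜 ℬ mR).toIdeal = mR.toIdeal.map (vdataL 𝒜 ℬ).φ := rfl

theorem aR_toIdeal (mS : HomogeneousIdeal ℬ) :
    (aR 𝒜 ℬ mS).toIdeal = mS.toIdeal.map (vdataR 𝒜 ℬ).φ := rfl

theorem idealCompat_L (mR : HomogeneousIdeal 𝒜) :
    IdealCompat (vdataL 𝒜 ℬ) (toSIdeal mR).toIdeal (aL 𝒜 ℬ mR).toIdeal :=
  ⟨le_refl _, ⟨1, by rw [pow_one]; exact le_refl _⟩⟩

theorem idealCompat_R (mS : HomogeneousIdeal ℬ) :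
    IdealCompat (vdataR 𝒜 ℬ) (toSIdeal mS).toIdeal (aR 𝒜 ℬ mS).toIdeal :=
  ⟨le_refl _, ⟨1, by rw [pow_one]; exact le_refl _⟩⟩

end Data

section Diag

variable {k : Type u} [Field k] {R : Type u} [CommRing R] [Algebra k R] (𝒜 : ℤ → Submodule k R)
  [GradedAlgebra 𝒜]
  {S : Type u} [CommRing S] [Algebra k S] (ℬ : ℤ → Submodule k S) [GradedAlgebra ℬ]
  {T : Type u} [CommRing T] [Algebra k T] (𝒯 : ℤ → Submodule k T) [GradedAlgebra 𝒯]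
  (ψ : T →ₐ[k] R ⊗[k] S)
  (hdeg : ∀ n : ℤ, (𝒯 n).map ψ.toLinearMap = GrSeg.segrePiece k 𝒜 ℬ n)
  [IsNoetherianRing R] [IsNoetherianRing S] [IsNoetherianRing T] [IsNoetherianRing (R ⊗[k] S)]
  (mR : HomogeneousIdeal 𝒜)
  (hmR : mR.toIdeal = Ideal.span (⋃ n ∈ Set.Ioi (0 : ℤ), (𝒜 n : Set R)))
  (mS : HomogeneousIdeal ℬ)
  (hmS : mS.toIdeal = Ideal.span (⋃ n ∈ Set.Ioi (0 : ℤ), (ℬ n : Set S)))
  (mT : HomogeneousIdeal 𝒯)
  (hmT : mT.toIdeal = Ideal.span (⋃ n ∈ Set.Ioi (0 : ℤ), (𝒯 n : Set T)))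

include hmR in
theorem mem_mR_of_mem {n : ℤ} (hn : 0 < n) {a : R} (ha : a ∈ 𝒜 n) : a ∈ mR.toIdeal := by
  rw [hmR]
  exact Ideal.subset_span (Set.mem_biUnion (Set.mem_Ioi.2 hn) ha)

include hmR hmS in
theorem segrePiece_le_inf {n : ℤ} (hn : 0 < n) {x : R ⊗[k] S}
    (hx : x ∈ GrSeg.segrePiece k 𝒜 ℬ n) :
    x ∈ (aL 𝒜 ℬ mR).toIdeal ⊓ (aR 𝒜 ℬ mS).toIdeal := by
  unfold GrSeg.segrePiece at hx
  induction hx using Submodule.span_induction with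
  | mem x hx =>
    obtain ⟨a, ha, b, hb, rfl⟩ := hx
    have h1 : a ⊗ₜ[k] b = (a ⊗ₜ[k] (1 : S)) * ((1 : R) ⊗ₜ[k] b) := by
      rw [Algebra.TensorProduct.tmul_mul_tmul, mul_one, one_mul]
    rw [h1]
    constructor
    · apply Ideal.mul_mem_right
      rw [aL_toIdeal]
      exact Ideal.mem_map_of_mem _ (mem_mR_of_mem 𝒜 mR hmR hn ha)
    · apply Ideal.mul_mem_left
      rw [aR_toIdeal]
      exact Ideal.mem_map_of_mem _ (mem_mR_of_mem ℬ mS hmS hn hb)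
  | zero => exact zero_mem _
  | add x y _ _ hx hy => exact add_mem hx hy
  | smul c x _ hx =>
    rw [Algebra.smul_def]
    exact Ideal.mul_mem_left _ _ hx

include hdeg hmT in
theorem mem_map_of_mem_segrePiece {n : ℤ} (hn : 0 < n) {x : R ⊗[k] S}
    (hx : x ∈ GrSeg.segrePiece k 𝒜 ℬ n) : x ∈ mT.toIdeal.map ψ.toRingHom := by
  rw [← hdeg n] at hx
  obtain ⟨t, ht, rfl⟩ := hx
  exact Ideal.mem_map_of_mem _ (mem_mR_of_mem 𝒯 mT hmT hn ht)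

include hdeg hmR hmS hmT in
theorem idealCompat_diag :
    IdealCompat (vdataD 𝒜 ℬ 𝒯 ψ hdeg) (toSIdeal mT).toIdeal
      (aL 𝒜 ℬ mR ⊓ aR 𝒜 ℬ mS).toIdeal := by
  rw [HomogeneousIdeal.toIdeal_inf]
  constructor
  · show mT.toIdeal.map ψ.toRingHom ≤ _
    rw [hmT, Ideal.map_span, Ideal.span_le]
    rintro _ ⟨t, ht, rfl⟩
    obtain ⟨n, hn, htn⟩ := Set.mem_iUnion₂.1 ht
    have : ψ t ∈ (𝒯 n).map ψ.toLinearMap := ⟨t, htn, rfl⟩
    rw [hdeg n] at this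
    exact segrePiece_le_inf 𝒜 ℬ mR hmR mS hmS (Set.mem_Ioi.1 hn) this
  · have hJ : (aL 𝒜 ℬ mR).toIdeal * (aR 𝒜 ℬ mS).toIdeal ≤
        (mT.toIdeal.map ψ.toRingHom).radical := by
      rw [aL_toIdeal, aR_toIdeal, hmR, hmS, Ideal.map_span, Ideal.map_span, Ideal.span_mul_span',
        Ideal.span_le]
      rintro _ ⟨_, ⟨a, ha, rfl⟩, _, ⟨b, hb, rfl⟩, rfl⟩
      obtain ⟨i, hi, hai⟩ := Set.mem_iUnion₂.1 ha
      obtain ⟨j, hj, hbj⟩ := Set.mem_iUnion₂.1 hb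
      have hi0 : 0 < i := Set.mem_Ioi.1 hi
      have hj0 : 0 < j := Set.mem_Ioi.1 hj
      show (a ⊗ₜ[k] (1 : S)) * ((1 : R) ⊗ₜ[k] b) ∈ _
      rw [Algebra.TensorProduct.tmul_mul_tmul, mul_one, one_mul]
      refine ⟨i.toNat + j.toNat, ?_⟩
      have h1 : (a ⊗ₜ[k] b) ^ (i.toNat + j.toNat) =
          ((a ^ j.toNat) ⊗ₜ[k] (b ^ i.toNat)) * ((a ^ i.toNat) ⊗ₜ[k] (b ^ j.toNat)) := by
        rw [Algebra.TensorProduct.tmul_mul_tmul, Algebra.TensorProduct.tmul_pow, ← pow_add,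
          ← pow_add, add_comm j.toNat i.toNat]
      rw [h1]
      apply Ideal.mul_mem_right
      have h2 : a ^ j.toNat ∈ 𝒜 (i * j) := by
        have := SetLike.pow_mem_graded (A := 𝒜) j.toNat hai
        rwa [nsmul_eq_mul, Int.toNat_of_nonneg hj0.le, mul_comm] at this
      have h3 : b ^ i.toNat ∈ ℬ (i * j) := by
        have := SetLike.pow_mem_graded (A := ℬ) i.toNat hbj
        rwa [nsmul_eq_mul, Int.toNat_of_nonneg hi0.le] at this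
      exact mem_map_of_mem_segrePiece 𝒜 ℬ 𝒯 ψ hdeg mT hmT (mul_pos hi0 hj0)
        (Submodule.subset_span ⟨_, h2, _, h3, rfl⟩)
    obtain ⟨N, hN⟩ := Ideal.exists_pow_le_of_le_radical_of_fg hJ (IsNoetherian.noetherian _)
    refine ⟨2 * N, ?_⟩
    rw [pow_mul]
    refine le_trans (Ideal.pow_right_mono ?_ N) hN
    rw [pow_two]
    exact Ideal.mul_mono inf_le_left inf_le_right

end Diag

end Groth.Agent.Lib.GrSegU
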