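import Groth.Agent.Lib.GrSegU2

/-!
# The Segre product as the diagonal Veronese module of `M ⊗ N` (helper12)

`thetaD` : `P ≃ₗ[T] Ver D (biGr 𝒜 ℳ ℬ 𝒩)` for a Segre module `P = M # N` and the diagonal datum
`D = vdataD`; consequence `diag_Hcomp_eq_bot_iff` :
`H^i_{T_+}(M # N)_d = 0 ↔ H^i_{aL ∩ aR}(M ⊗ N)_{(d,d)} = 0`.
-/

set_option autoImplicit false
set_option linter.unusedSectionVars false
universe u
open scoped TensorProduct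

namespace Groth.Agent.Lib.GrSegU

open TensorProduct DirectSum GrLC Groth.Agent.Lib.H2SegreMod Groth.Agent.Lib.GrLCBridge
  Groth.Agent.Lib.GrVer

attribute [local instance] actModule

section Theta

variable {k : Type u} [Field k] {R : Type u} [CommRing R] [Algebra k R] {𝒜 : ℤ → Submodule k R}
  [GradedAlgebra 𝒜]
  {S : Type u} [CommRing S] [Algebra k S] {ℬ : ℤ → Submodule k S} [GradedAlgebra ℬ]
  {T : Type u} [CommRing T] [Algebra k T] {𝒯 : ℤ → Submodule k T} [GradedAlgebra 𝒯]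
  {ψ : T →ₐ[k] R ⊗[k] S}
  {M : Type u} [AddCommGroup M] [Module R M] [Module k M] [IsScalarTower k R M]
  {ℳ : ℤ → AddSubgroup M} [DirectSum.Decomposition ℳ] [SetLike.GradedSMul 𝒜 ℳ]
  {N : Type u} [AddCommGroup N] [Module S N] [Module k N] [IsScalarTower k S N]
  {𝒩 : ℤ → AddSubgroup N} [DirectSum.Decomposition 𝒩] [SetLike.GradedSMul ℬ 𝒩]
  {P : Type u} [AddCommGroup P] [Module T P] [Module k P] [IsScalarTower k T P]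
  {𝒬 : ℤ → AddSubgroup P} [DirectSum.Decomposition 𝒬] {φ : P →ₗ[k] M ⊗[k] N}
  (hT : GrSeg.IsSegreRing 𝒜 ℬ 𝒯 ψ) (hP : GrSeg.IsSegreMod ψ ℳ 𝒩 𝒬 φ)

include hP in
theorem phi_mem_verSub (p : P) :
    φ p ∈ verSub (vdataD 𝒜 ℬ 𝒯 ψ hT.2) (biGr 𝒜 ℳ ℬ 𝒩) := by
  induction p using DirectSum.Decomposition.inductionOn 𝒬 with
  | zero => rw [map_zero]; exact zero_mem _
  | add p p' hp hp' => rw [map_add]; exact add_mem hp hp'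
  | homogeneous p =>
    rename_i n
    exact mem_verSub_of_mem (vdataD 𝒜 ℬ 𝒯 ψ hT.2) (biGr 𝒜 ℳ ℬ 𝒩) (j := n)
      (phi_mem_segrePiece hP p.2)

/-- The map `P → Ver`. -/
noncomputable def thetaD₀ : P →ₗ[T] Ver (vdataD 𝒜 ℬ 𝒯 ψ hT.2) (biGr 𝒜 ℳ ℬ 𝒩) where
  toFun p := Ver.mk _ _ (φ p) (phi_mem_verSub hT hP p)
  map_add' p q := Ver.ext (by rw [Ver.val_mk, map_add, map_add]; rfl)
  map_smul' t p := Ver.ext (by
    rw [Ver.val_mk, RingHom.id_apply, Ver.val_smul, Ver.val_mk, hP.map_smul]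
    rfl)

theorem val_thetaD₀ (p : P) :
    Ver.val (vdataD 𝒜 ℬ 𝒯 ψ hT.2) (biGr 𝒜 ℳ ℬ 𝒩) (thetaD₀ hT hP p) = φ p := rfl

theorem thetaD₀_bijective : Function.Bijective (thetaD₀ hT hP) := by
  constructor
  · intro p q hpq
    apply hP.injective
    have := congrArg (Ver.val (vdataD 𝒜 ℬ 𝒯 ψ hT.2) (biGr 𝒜 ℳ ℬ 𝒩)) hpq
    rwa [val_thetaD₀, val_thetaD₀] at this
  · intro x
    have hx := x.val_mem
    suffices h : ∃ p, φ p = Ver.val (vdataD 𝒜 ℬ 𝒯 ψ hT.2) (biGr 𝒜 ℳ ℬ 𝒩) x by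
      obtain ⟨p, hp⟩ := h
      exact ⟨p, Ver.ext hp⟩
    refine verSub_induction (vdataD 𝒜 ℬ 𝒯 ψ hT.2) (biGr 𝒜 ℳ ℬ 𝒩)
      (P := fun y => ∃ p, φ p = y) hx ?_ ⟨0, map_zero _⟩ ?_
    · intro j y hy
      obtain ⟨p, -, h⟩ := exists_of_mem_segrePiece hP (n := j) hy
      exact ⟨p, h⟩
    · rintro y z ⟨p, rfl⟩ ⟨q, rfl⟩
      exact ⟨p + q, map_add _ _ _⟩

/-- `P ≅ Ver`. -/
noncomputable def thetaD : P ≃ₗ[T] Ver (vdataD 𝒜 ℬ 𝒯 ψ hT.2) (biGr 𝒜 ℳ ℬ 𝒩) :=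
  LinearEquiv.ofBijective (thetaD₀ hT hP) (thetaD₀_bijective hT hP)

theorem thetaD_isGrHom :
    IsGrHom 𝒬 (verGr (vdataD 𝒜 ℬ 𝒯 ψ hT.2) (biGr 𝒜 ℳ ℬ 𝒩)) (thetaD hT hP).toLinearMap := by
  intro n p hp
  exact phi_mem_segrePiece hP hp

theorem thetaD_symm_isGrHom :
    IsGrHom (verGr (vdataD 𝒜 ℬ 𝒯 ψ hT.2) (biGr 𝒜 ℳ ℬ 𝒩)) 𝒬
      (thetaD hT hP).symm.toLinearMap := by
  intro n x hx
  obtain ⟨p, hp, h⟩ := exists_of_mem_segrePiece hP (n := n) hx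
  have : thetaD hT hP p = x := Ver.ext h
  rw [← this]
  show (thetaD hT hP).symm (thetaD hT hP p) ∈ 𝒬 n
  rw [LinearEquiv.symm_apply_apply]
  exact hp

end Theta

section Compare

variable {k : Type u} [Field k] {R : Type u} [CommRing R] [Algebra k R] {𝒜 : ℤ → Submodule k R}
  [GradedAlgebra 𝒜]
  {S : Type u} [CommRing S] [Algebra k S] {ℬ : ℤ → Submodule k S} [GradedAlgebra ℬ]
  {T : Type u} [CommRing T] [Algebra k T] {𝒯 : ℤ → Submodule k T} [GradedAlgebra 𝒯]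
  {ψ : T →ₐ[k] R ⊗[k] S}
  {M : Type u} [AddCommGroup M] [Module R M] [Module k M] [IsScalarTower k R M]
  {ℳ : ℤ → AddSubgroup M} [DirectSum.Decomposition ℳ] [SetLike.GradedSMul 𝒜 ℳ]
  {N : Type u} [AddCommGroup N] [Module S N] [Module k N] [IsScalarTower k S N]
  {𝒩 : ℤ → AddSubgroup N} [DirectSum.Decomposition 𝒩] [SetLike.GradedSMul ℬ 𝒩]
  {P : Type u} [AddCommGroup P] [Module T P] [Module k P] [IsScalarTower k T P]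
  {𝒬 : ℤ → AddSubgroup P} [DirectSum.Decomposition 𝒬] [SetLike.GradedSMul (asGr 𝒯) 𝒬]
  {φ : P →ₗ[k] M ⊗[k] N}
  (hT : GrSeg.IsSegreRing 𝒜 ℬ 𝒯 ψ) (hP : GrSeg.IsSegreMod ψ ℳ 𝒩 𝒬 φ)
  [IsNoetherianRing R] [IsNoetherianRing S] [IsNoetherianRing T] [IsNoetherianRing (R ⊗[k] S)]
  (mR : HomogeneousIdeal 𝒜)
  (hmR : mR.toIdeal = Ideal.span (⋃ n ∈ Set.Ioi (0 : ℤ), (𝒜 n : Set R)))
  (mS : HomogeneousIdeal ℬ)
  (hmS : mS.toIdeal = Ideal.span (⋃ n ∈ Set.Ioi (0 : ℤ), (ℬ n : Set S)))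
  (mT : HomogeneousIdeal 𝒯)
  (hmT : mT.toIdeal = Ideal.span (⋃ n ∈ Set.Ioi (0 : ℤ), (𝒯 n : Set T)))

include hT hP hmR hmS hmT in
/-- The semilinear comparison `H^i_{T_+}(M # N) → H^i_{aL ∩ aR}(M ⊗ N)` onto the diagonal. -/
theorem exists_semilinear_diag (E : StarInjRes (uGr 𝒜 ℬ) (biGr 𝒜 ℳ ℬ 𝒩))
    (F : StarInjRes (asGr 𝒯) 𝒬) (i : ℕ) :
    ∃ Ψ : F.H (toSIdeal mT) i →+ E.H (aL 𝒜 ℬ mR ⊓ aR 𝒜 ℬ mS) i,
      (∀ (t : T) (x : F.H (toSIdeal mT) i), Ψ (t • x) = ψ t • Ψ x) ∧ Function.Injective Ψ ∧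
      (∀ d x, x ∈ F.Hcomp (toSIdeal mT) i d →
        Ψ x ∈ E.Hcomp (aL 𝒜 ℬ mR ⊓ aR 𝒜 ℬ mS) i (d, d)) ∧
      (∀ d y, y ∈ E.Hcomp (aL 𝒜 ℬ mR ⊓ aR 𝒜 ℬ mS) i (d, d) →
        ∃ x ∈ F.Hcomp (toSIdeal mT) i d, Ψ x = y) :=
  exists_semilinear_H (vdataD 𝒜 ℬ 𝒯 ψ hT.2) (toSIdeal mT) (aL 𝒜 ℬ mR ⊓ aR 𝒜 ℬ mS)
    (idealCompat_diag 𝒜 ℬ 𝒯 ψ hT.2 mR hmR mS hmS mT hmT) E F (thetaD hT hP)
    (thetaD_isGrHom hT hP) (thetaD_symm_isGrHom hT hP) i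

include hT hP hmR hmS hmT in
theorem diag_Hcomp_eq_bot_iff (E : StarInjRes (uGr 𝒜 ℬ) (biGr 𝒜 ℳ ℬ 𝒩))
    (F : StarInjRes (asGr 𝒯) 𝒬) (i : ℕ) (d : ℤ) :
    F.Hcomp (toSIdeal mT) i d = ⊥ ↔ E.Hcomp (aL 𝒜 ℬ mR ⊓ aR 𝒜 ℬ mS) i (d, d) = ⊥ := by
  obtain ⟨Ψ, -, hinj, h3, h4⟩ :=
    exists_semilinear_diag hT hP mR hmR mS hmS mT hmT E F i
  constructor
  · intro h
    rw [eq_bot_iff]
    intro y hy
    obtain ⟨x, hx, rfl⟩ := h4 d y hy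
    rw [h] at hx
    rw [(Submodule.mem_bot _).1 hx, map_zero]
    exact zero_mem _
  · intro h
    rw [eq_bot_iff]
    intro x hx
    have := h3 d x hx
    rw [h] at this
    rw [Submodule.mem_bot]
    exact hinj (((Submodule.mem_bot _).1 this).trans (map_zero Ψ).symm)

end Compare

end Groth.Agent.Lib.GrSegU
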