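import Groth.Agent.Lib.GrVer7
import Groth.Agent.Lib.GrLCVan

/-!
# Rows of a multigraded module, retracts and finite powers (helper12)

* `van_of_retract` : vanishing of a piece of graded local cohomology passes to graded retracts;
* `van_of_equiv` : and along graded isomorphisms;
* `piGMod n X` : the `n`-th power of a graded module, `van_piGMod`;
* `rowG D 𝒳 g₀` : for a Veronese datum `D : VData 𝒜' 𝒜` and a graded `R`-module `X`, the graded
  `R'`-module `⊕_j X_{ψ j + g₀}`; `van_rowG_iff` :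
  `H^q_{a'}(row)_j = 0 ↔ H^q_a(X)_{ψ j + g₀} = 0`.
-/

set_option autoImplicit false
set_option linter.unusedSectionVars false
universe u

namespace Groth.Agent.Lib.GrVerRow

open DirectSum GrLC Groth.Agent.Lib.H87GrMod Groth.Agent.Lib.H87GrMod2 Groth.Agent.Lib.H87GrShift
  Groth.Agent.Lib.H74GrLES Groth.Agent.S13215 Groth.Agent.Lib.GrLCMap Groth.Agent.Lib.GrLCVan
  Groth.Agent.Lib.GrVer

section Retract

variable {ι : Type} [AddCommGroup ι] [DecidableEq ι]
variable {R : Type u} [CommRing R] {𝒜 : ι → AddSubgroup R} [GradedRing 𝒜]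

theorem van_of_retract (a : HomogeneousIdeal 𝒜) {X Y : GMod.{u} 𝒜}
    (f : X.carrier →ₗ[R] Y.carrier) (g : Y.carrier →ₗ[R] X.carrier)
    (hf : IsGrHom X.gr Y.gr f) (hg : IsGrHom Y.gr X.gr g) (hgf : g ∘ₗ f = LinearMap.id)
    (i : ℕ) (e : ι) (hY : Van a Y i e) : Van a X i e := by
  intro EX
  let EY := res (𝒜 := 𝒜) Y.gr
  have hf' : IsGrHomDeg X.gr Y.gr f 0 := (isGrHomDeg_zero_iff _ _ _).mpr hf
  have hg' : IsGrHomDeg Y.gr X.gr g 0 := (isGrHomDeg_zero_iff _ _ _).mpr hg
  have hid : IsGrHomDeg X.gr X.gr (LinearMap.id : X.carrier →ₗ[R] X.carrier) 0 :=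
    (isGrHomDeg_zero_iff _ _ _).mpr (fun _ _ hx => hx)
  rw [eq_bot_iff]
  intro x hx
  have h1 := Hmap_mem EX EY a hf' i hx
  rw [add_zero, hY EY] at h1
  have h2 := Hmap_comp EX EY EX a hf' hg' hid hgf.symm (add_zero 0).symm i x
  rw [Hmap_id, (Submodule.mem_bot _).1 h1, map_zero] at h2
  rw [Submodule.mem_bot, h2]

theorem van_of_equiv (a : HomogeneousIdeal 𝒜) {X Y : GMod.{u} 𝒜}
    (f : X.carrier ≃ₗ[R] Y.carrier)
    (hf : IsGrHom X.gr Y.gr f.toLinearMap) (hg : IsGrHom Y.gr X.gr f.symm.toLinearMap)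
    (i : ℕ) (e : ι) (hY : Van a Y i e) : Van a X i e :=
  van_of_retract a f.toLinearMap f.symm.toLinearMap hf hg (by ext x; simp) i e hY

end Retract

section Pi

variable {ι : Type} [AddCommGroup ι] [DecidableEq ι]
variable {R : Type u} [CommRing R] {𝒜 : ι → AddSubgroup R} [GradedRing 𝒜]
variable (n : ℕ) (X : GMod.{u} 𝒜)

/-- The pieces of the `n`-th power. -/
def piGr (g : ι) : AddSubgroup (Fin n → X.carrier) where
  carrier := {f | ∀ l, f l ∈ X.gr g}
  zero_mem' := fun _ => zero_mem _
  add_mem' := fun hf hg l => add_mem (hf l) (hg l)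
  neg_mem' := fun hf l => neg_mem (hf l)

theorem mem_piGr {g : ι} {f : Fin n → X.carrier} : f ∈ piGr n X g ↔ ∀ l, f l ∈ X.gr g := Iff.rfl

/-- Componentwise projection to degree `g`. -/
noncomputable def piP (g : ι) : (Fin n → X.carrier) →+ (Fin n → X.carrier) where
  toFun f := fun l => (decompose X.gr (f l) g : X.carrier)
  map_zero' := by
    funext l
    show ((decompose X.gr (0 : X.carrier) g : X.gr g) : X.carrier) = 0
    rw [decompose_zero, DirectSum.zero_apply, ZeroMemClass.coe_zero]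
  map_add' f f' := by
    funext l
    show ((decompose X.gr (f l + f' l) g : X.gr g) : X.carrier) = _
    rw [decompose_add, DirectSum.add_apply, AddSubgroup.coe_add]
    rfl

theorem piP_of_mem_same {g : ι} {f : Fin n → X.carrier} (hf : f ∈ piGr n X g) :
    piP n X g f = f := by
  funext l
  exact decompose_of_mem_same X.gr (hf l)

theorem piP_of_mem_ne {g q : ι} (h : q ≠ g) {f : Fin n → X.carrier} (hf : f ∈ piGr n X q) :
    piP n X g f = 0 := by
  funext l
  exact decompose_of_mem_ne X.gr (hf l) h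

theorem piP_coe (x : ⨁ g, piGr n X g) (g : ι) :
    piP n X g (DirectSum.coeAddMonoidHom (piGr n X) x) = (x g : Fin n → X.carrier) := by
  induction x using DirectSum.induction_on with
  | zero => rw [map_zero, map_zero, DirectSum.zero_apply, ZeroMemClass.coe_zero]
  | of q y =>
    rw [DirectSum.coeAddMonoidHom_of]
    by_cases h : q = g
    · subst h
      rw [piP_of_mem_same n X y.2, DirectSum.of_eq_same]
    · rw [piP_of_mem_ne n X h y.2, DirectSum.of_eq_of_ne _ _ _ (Ne.symm h),
        ZeroMemClass.coe_zero]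
  | add x y hx hy =>
    rw [map_add, map_add, hx, hy, DirectSum.add_apply, AddSubgroup.coe_add]

theorem isInternal_piGr : DirectSum.IsInternal (piGr n X) := by
  constructor
  · intro x y hxy
    apply DFinsupp.ext
    intro g
    apply Subtype.ext
    rw [← piP_coe, ← piP_coe, hxy]
  · intro f
    have hsingle : ∀ (l : Fin n) (x : X.carrier),
        Pi.single l x ∈ (DirectSum.coeAddMonoidHom (piGr n X)).range := by
      intro l x
      induction x using Decomposition.inductionOn X.gr with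
      | zero => rw [Pi.single_zero]; exact zero_mem _
      | @homogeneous g x =>
        have hx : (Pi.single l (x : X.carrier) : Fin n → X.carrier) ∈ piGr n X g := by
          intro l'
          by_cases hl : l' = l
          · subst hl; rw [Pi.single_eq_same]; exact x.2
          · rw [Pi.single_eq_of_ne hl]; exact zero_mem _
        exact ⟨DirectSum.of (fun g => piGr n X g) g ⟨_, hx⟩, DirectSum.coeAddMonoidHom_of _ _ _⟩
      | add x y hx hy => rw [Pi.single_add]; exact add_mem hx hy
    have : f ∈ (DirectSum.coeAddMonoidHom (piGr n X)).range := by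
      rw [← Finset.univ_sum_single f]
      exact sum_mem (fun l _ => hsingle l (f l))
    exact this

noncomputable instance piDecomposition : Decomposition (piGr n X) :=
  (isInternal_piGr n X).chooseDecomposition

instance piGradedSMul : SetLike.GradedSMul 𝒜 (piGr n X) where
  smul_mem := fun {_ _ _ _} hr hf l =>
    SetLike.GradedSMul.smul_mem (A := 𝒜) (B := X.gr) hr (hf l)

/-- The `n`-th power of a graded module. -/
noncomputable def piGMod : GMod.{u} 𝒜 := GMod.of 𝒜 (Fin n → X.carrier) (piGr n X)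

theorem van_piGMod [IsNoetherianRing R] (a : HomogeneousIdeal 𝒜) (i : ℕ) (e : ι)
    (h : Van a X i e) :
    ∀ n : ℕ, Van a (piGMod n X) i e := by
  intro n
  induction n with
  | zero =>
    have : Subsingleton (piGMod 0 X).carrier :=
      inferInstanceAs (Subsingleton (Fin 0 → X.carrier))
    exact van_of_subsingleton a i e
  | succ n ih =>
    let f : X.carrier →ₗ[R] (piGMod (n + 1) X).carrier :=
      LinearMap.single R (fun _ : Fin (n + 1) => X.carrier) 0
    let g : (piGMod (n + 1) X).carrier →ₗ[R] (piGMod n X).carrier :=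
      LinearMap.pi (fun l => LinearMap.proj l.succ)
    refine van_mid0 a (X₁ := X) (X₂ := piGMod (n + 1) X) (X₃ := piGMod n X) (f := f) (g := g)
      ?_ ?_ ?_ ?_ ?_ i e h ih
    · intro k x hx l
      show (Pi.single (0 : Fin (n + 1)) x : Fin (n + 1) → X.carrier) l ∈ X.gr k
      by_cases hl : l = 0
      · subst hl; rw [Pi.single_eq_same]; exact hx
      · rw [Pi.single_eq_of_ne hl]; exact zero_mem _
    · intro k v hv l
      exact hv l.succ
    · intro x y hxy
      have := congrFun hxy 0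
      change (Pi.single (0 : Fin (n + 1)) x : Fin (n + 1) → X.carrier) 0 =
        (Pi.single (0 : Fin (n + 1)) y : Fin (n + 1) → X.carrier) 0 at this
      rwa [Pi.single_eq_same, Pi.single_eq_same] at this
    · intro v
      refine ⟨Fin.cons (α := fun _ : Fin (n + 1) => X.carrier) 0 v, ?_⟩
      funext l
      exact Fin.cons_succ (α := fun _ : Fin (n + 1) => X.carrier) (0 : X.carrier)
        (v : Fin n → X.carrier) l
    · ext v
      constructor
      · intro hv
        have hv' : ∀ l : Fin n, v l.succ = 0 := fun l => congrFun hv l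
        refine ⟨v 0, ?_⟩
        funext l
        show (Pi.single (0 : Fin (n + 1)) (v 0) : Fin (n + 1) → X.carrier) l = v l
        refine Fin.cases ?_ (fun l' => ?_) l
        · rw [Pi.single_eq_same]
        · rw [Pi.single_eq_of_ne (Fin.succ_ne_zero l'), hv' l']
      · rintro ⟨x, rfl⟩
        funext l
        show (Pi.single (0 : Fin (n + 1)) x : Fin (n + 1) → X.carrier) l.succ = 0
        rw [Pi.single_eq_of_ne (Fin.succ_ne_zero l)]

end Pi

section Row

variable {ι ι' : Type} [AddCommGroup ι] [DecidableEq ι] [AddCommGroup ι'] [DecidableEq ι']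
  [Module.Free ℤ ι] [Module.Finite ℤ ι] [Module.Free ℤ ι'] [Module.Finite ℤ ι']
variable {R R' : Type u} [CommRing R] [CommRing R'] [IsNoetherianRing R] [IsNoetherianRing R']
variable {𝒜' : ι' → AddSubgroup R'} {𝒜 : ι → AddSubgroup R} [GradedRing 𝒜'] [GradedRing 𝒜]
variable (D : VData 𝒜' 𝒜) (a' : HomogeneousIdeal 𝒜') (a : HomogeneousIdeal 𝒜)
  (hc : IdealCompat D a'.toIdeal a.toIdeal)
variable {X : Type u} [AddCommGroup X] [Module R X] (𝒳 : ι → AddSubgroup X) [Decomposition 𝒳]
  [SetLike.GradedSMul 𝒜 𝒳]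

/-- The row `⊕_j X_{ψ j + g₀}` as a graded `R'`-module. -/
noncomputable def rowG (g₀ : ι) : GMod.{u} 𝒜' :=
  GMod.of 𝒜' (Ver D (shiftGr 𝒳 g₀)) (verGr D (shiftGr 𝒳 g₀))

include hc in
theorem van_rowG_iff (E : StarInjRes 𝒜 𝒳) (g₀ : ι) (q : ℕ) (j : ι') :
    Van a' (rowG D 𝒳 g₀) q j ↔ E.Hcomp a q (D.ψ j + g₀) = ⊥ := by
  let G := res (𝒜 := 𝒜') (verGr D (shiftGr 𝒳 g₀))
  have hid : IsGrHom (verGr D (shiftGr 𝒳 g₀)) (verGr D (shiftGr 𝒳 g₀))
      (LinearEquiv.refl R' (Ver D (shiftGr 𝒳 g₀))).toLinearMap := fun _ _ hx => hx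
  obtain ⟨Ψ, -, hinj, h3, h4⟩ := exists_semilinear_H D a' a hc (shiftRes E g₀) G
    (LinearEquiv.refl R' (Ver D (shiftGr 𝒳 g₀))) hid hid q
  rw [van_iff a' (X := rowG D 𝒳 g₀) G]
  constructor
  · intro h
    rw [eq_bot_iff]
    intro y hy
    have hy' : y ∈ (shiftRes E g₀).Hcomp a q (D.ψ j) := hy
    obtain ⟨x, hx, rfl⟩ := h4 j y hy'
    have hx0 : x = 0 := (Submodule.eq_bot_iff _).1 h x hx
    rw [hx0, map_zero]
    exact zero_mem _
  · intro h
    rw [Submodule.eq_bot_iff]
    intro x hx
    have h5 : Ψ x ∈ E.Hcomp a q (D.ψ j + g₀) := h3 j x hx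
    have h6 : Ψ x = 0 := (Submodule.eq_bot_iff _).1 h (Ψ x) h5
    exact hinj (h6.trans (map_zero Ψ).symm)

end Row

end Groth.Agent.Lib.GrVerRow
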