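import Groth.Agent.Lib.GrSegU3
import Groth.Agent.Lib.GrVerRow
import Groth.Agent.Lib.GrSegConv
import Groth.Agent.Lib.H74GrFin

/-!
# Rows of `M ⊗ N` (helper12)

For the bigraded `R ⊗ S`-module `M ⊗ N`: the row `⊕_i M_i ⊗ N_j` as a graded `R`-module
(`rowL j`) and the column `⊕_j M_i ⊗ N_j` as a graded `S`-module (`rowR i`); `M` is a graded
retract of `rowL j` when `N_j ≠ 0`, and `rowL j` is a graded retract of `M^n`, `n = dim N_j`.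
Consequences: `Hcomp_aL_eq_bot_iff`, `Hcomp_aR_eq_bot_iff`.
-/

set_option autoImplicit false
set_option linter.unusedSectionVars false
universe u
open scoped TensorProduct

namespace Groth.Agent.Lib.GrSegU

open TensorProduct DirectSum GrLC Groth.Agent.Lib.H2SegreMod Groth.Agent.Lib.GrLCBridge
  Groth.Agent.Lib.GrVer Groth.Agent.Lib.GrVerRow Groth.Agent.Lib.GrLCVan
  Groth.Agent.Lib.GrSegConv Groth.Agent.Lib.H87GrShift Groth.Agent.Lib.H74GrLES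

attribute [local instance] actModule

section Fin

variable {k : Type u} [Field k] {R : Type u} [CommRing R] [Algebra k R] (𝒜 : ℤ → Submodule k R)
  [GradedAlgebra 𝒜]
variable {M : Type u} [AddCommGroup M] [Module R M] [Module k M] [IsScalarTower k R M]
  (ℳ : ℤ → AddSubgroup M) [DirectSum.Decomposition ℳ] [SetLike.GradedSMul 𝒜 ℳ]

theorem finite_pieceK [IsNoetherianRing R] [Module.Finite R M]
    (h0 : 𝒜 0 = Submodule.span k {(1 : R)}) (n : ℤ) : Module.Finite k (pieceK 𝒜 ℳ n) := by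
  have : IsNoetherian R M := isNoetherian_of_isNoetherianRing_of_finite R M
  have h1 : IsNoetherian (deg0 (toAS 𝒜)) (comp (toAS 𝒜) ℳ n) :=
    Groth.Agent.Lib.H74GrFin.isNoetherian_comp (toAS 𝒜) ℳ n
  have : RingHomSurjective (toDeg0 𝒜) := ⟨toDeg0_surjective 𝒜 h0⟩
  suffices h : IsNoetherian k (pieceK 𝒜 ℳ n) from inferInstance
  rw [isNoetherian_iff'] at h1 ⊢
  let Φ : Submodule k (pieceK 𝒜 ℳ n) → Submodule (deg0 (toAS 𝒜)) (comp (toAS 𝒜) ℳ n) :=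
    fun P => P.map (pieceToComp 𝒜 ℳ n)
  have hΦ : ∀ P P', Φ P ≤ Φ P' ↔ P ≤ P' := by
    intro P P'
    exact Submodule.map_le_map_iff_of_injective (pieceToComp_bijective 𝒜 ℳ n).1 P P'
  exact (OrderEmbedding.ofMapLEIff Φ hΦ).wellFoundedGT

/-- The `k`-linear projection onto a piece, with values in the piece. -/
noncomputable def projK (n : ℤ) : M →ₗ[k] pieceK 𝒜 ℳ n :=
  LinearMap.codRestrict (pieceK 𝒜 ℳ n) (projM 𝒜 ℳ n) (fun m => (decompose ℳ m n).2)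

theorem projK_of_mem {n : ℤ} {m : M} (hm : m ∈ ℳ n) : (projK 𝒜 ℳ n m : M) = m :=
  decompose_of_mem_same ℳ hm

end Fin

section Contr

variable {k : Type u} [Field k] {R : Type u} [CommRing R] [Algebra k R]
  {S : Type u} [CommRing S] [Algebra k S]
  {M : Type u} [AddCommGroup M] [Module R M] [Module k M] [IsScalarTower k R M]
  {N : Type u} [AddCommGroup N] [Module S N] [Module k N] [IsScalarTower k S N]

/-- Contraction with a functional on the right factor. -/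
noncomputable def contrR (l : N →ₗ[k] k) : M ⊗[k] N →ₗ[k] M :=
  (TensorProduct.rid k M).toLinearMap ∘ₗ LinearMap.lTensor M l

@[simp] theorem contrR_tmul (l : N →ₗ[k] k) (m : M) (n : N) :
    contrR l (m ⊗ₜ[k] n) = l n • m := by
  simp [contrR]

theorem contrR_smul (l : N →ₗ[k] k) (r : R) (w : M ⊗[k] N) :
    contrR l ((r ⊗ₜ[k] (1 : S) : R ⊗[k] S) • w) = r • contrR l w := by
  induction w using TensorProduct.induction_on with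
  | zero => rw [smul_zero, map_zero, smul_zero]
  | tmul m n =>
    rw [smul_tmul_tmul, one_smul, contrR_tmul, contrR_tmul, smul_comm]
  | add x y hx hy => rw [smul_add, map_add, map_add, smul_add, hx, hy]

/-- Contraction with a functional on the left factor. -/
noncomputable def contrL (l : M →ₗ[k] k) : M ⊗[k] N →ₗ[k] N :=
  (TensorProduct.lid k N).toLinearMap ∘ₗ LinearMap.rTensor N l

@[simp] theorem contrL_tmul (l : M →ₗ[k] k) (m : M) (n : N) :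
    contrL l (m ⊗ₜ[k] n) = l m • n := by
  simp [contrL]

theorem contrL_smul (l : M →ₗ[k] k) (s : S) (w : M ⊗[k] N) :
    contrL l (((1 : R) ⊗ₜ[k] s : R ⊗[k] S) • w) = s • contrL l w := by
  induction w using TensorProduct.induction_on with
  | zero => rw [smul_zero, map_zero, smul_zero]
  | tmul m n =>
    rw [smul_tmul_tmul, one_smul, contrL_tmul, contrL_tmul, smul_comm]
  | add x y hx hy => rw [smul_add, map_add, map_add, smul_add, hx, hy]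

end Contr

section RowL

variable {k : Type u} [Field k] {R : Type u} [CommRing R] [Algebra k R] (𝒜 : ℤ → Submodule k R)
  [GradedAlgebra 𝒜]
  {S : Type u} [CommRing S] [Algebra k S] (ℬ : ℤ → Submodule k S) [GradedAlgebra ℬ]
  {M : Type u} [AddCommGroup M] [Module R M] [Module k M] [IsScalarTower k R M]
  (ℳ : ℤ → AddSubgroup M) [DirectSum.Decomposition ℳ] [SetLike.GradedSMul 𝒜 ℳ]
  {N : Type u} [AddCommGroup N] [Module S N] [Module k N] [IsScalarTower k S N]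
  (𝒩 : ℤ → AddSubgroup N) [DirectSum.Decomposition 𝒩] [SetLike.GradedSMul ℬ 𝒩]

theorem exists_functional_eq_one {V : Type u} [AddCommGroup V] [Module k V] {v : V} (hv : v ≠ 0) :
    ∃ l : V →ₗ[k] k, l v = 1 := by
  let F : k →ₗ[k] V := LinearMap.toSpanSingleton k V v
  have h1 : (LinearMap.id : k →ₗ[k] k) ∈ (LinearMap.ker F).dualAnnihilator := by
    rw [Submodule.mem_dualAnnihilator]
    intro c hc
    have : c • v = 0 := hc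
    rcases smul_eq_zero.1 this with h | h
    · rw [h]; rfl
    · exact absurd h hv
  rw [← LinearMap.range_dualMap_eq_dualAnnihilator_ker] at h1
  obtain ⟨l, hl⟩ := h1
  refine ⟨l, ?_⟩
  have := LinearMap.congr_fun hl 1
  simpa [F] using this

/-- The row `⊕_i M_i ⊗ N_j` as a graded `R`-module. -/
noncomputable abbrev rowL (j : ℤ) : GMod.{u} (asGr 𝒜) :=
  rowG (vdataL 𝒜 ℬ) (biGr 𝒜 ℳ ℬ 𝒩) ((0 : ℤ), j)

/-- The carrier of `rowL`. -/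
abbrev RowLT (j : ℤ) : Type u := Ver (vdataL 𝒜 ℬ) (shiftGr (biGr 𝒜 ℳ ℬ 𝒩) ((0 : ℤ), j))

/-- The grading of `rowL`. -/
abbrev rowLGr (j : ℤ) : ℤ → AddSubgroup (RowLT 𝒜 ℬ ℳ 𝒩 j) :=
  verGr (vdataL 𝒜 ℬ) (shiftGr (biGr 𝒜 ℳ ℬ 𝒩) ((0 : ℤ), j))

theorem tmul_mem_shift_L {i j : ℤ} {m : M} {v : N} (hm : m ∈ ℳ i) (hv : v ∈ 𝒩 j) :
    m ⊗ₜ[k] v ∈ shiftGr (biGr 𝒜 ℳ ℬ 𝒩) ((0 : ℤ), j) ((vdataL 𝒜 ℬ).ψ i) := by
  show m ⊗ₜ[k] v ∈ biGr 𝒜 ℳ ℬ 𝒩 (i + 0, 0 + j)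
  refine tmul_mem_biGr 𝒜 ℳ ℬ 𝒩 ?_ ?_
  · show m ∈ ℳ (i + 0)
    rw [add_zero]; exact hm
  · show v ∈ 𝒩 (0 + j)
    rw [zero_add]; exact hv

theorem tmul_mem_verSub_L {j : ℤ} (m : M) {v : N} (hv : v ∈ 𝒩 j) :
    m ⊗ₜ[k] v ∈ verSub (vdataL 𝒜 ℬ) (shiftGr (biGr 𝒜 ℳ ℬ 𝒩) ((0 : ℤ), j)) := by
  induction m using DirectSum.Decomposition.inductionOn ℳ with
  | zero => rw [zero_tmul]; exact zero_mem _
  | @homogeneous i m =>
    exact mem_verSub_of_mem _ _ (j := i) (tmul_mem_shift_L 𝒜 ℬ ℳ 𝒩 m.2 hv)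
  | add m m' hm hm' => rw [add_tmul]; exact add_mem hm hm'

/-- `m ↦ m ⊗ v`. -/
noncomputable def toRowL {j : ℤ} (v : N) (hv : v ∈ 𝒩 j) : M →ₗ[R] RowLT 𝒜 ℬ ℳ 𝒩 j where
  toFun m := Ver.mk _ _ (m ⊗ₜ[k] v) (tmul_mem_verSub_L 𝒜 ℬ ℳ 𝒩 m hv)
  map_add' m m' := Ver.ext (by
    rw [Ver.val_mk, add_tmul]; rfl)
  map_smul' r m := Ver.ext (by
    rw [Ver.val_mk, RingHom.id_apply]
    show (r • m) ⊗ₜ[k] v = ((vdataL 𝒜 ℬ).φ r) • (m ⊗ₜ[k] v)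
    rw [vdataL_φ, smul_tmul_tmul, one_smul])

theorem val_toRowL {j : ℤ} (v : N) (hv : v ∈ 𝒩 j) (m : M) :
    Ver.val _ _ (toRowL 𝒜 ℬ ℳ 𝒩 v hv m) = m ⊗ₜ[k] v := rfl

/-- `w ↦ (id ⊗ l) w`. -/
noncomputable def ofRowL (j : ℤ) (l : N →ₗ[k] k) : RowLT 𝒜 ℬ ℳ 𝒩 j →ₗ[R] M where
  toFun x := contrR l (Ver.val _ _ x)
  map_add' x y := by rw [map_add, map_add]
  map_smul' r x := by
    rw [RingHom.id_apply]
    show contrR l (((vdataL 𝒜 ℬ).φ r) • Ver.val _ _ x) = r • contrR l (Ver.val _ _ x)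
    rw [vdataL_φ, contrR_smul]

theorem contrR_mem {p : ℤ × ℤ} {w : M ⊗[k] N} (hw : w ∈ biGr 𝒜 ℳ ℬ 𝒩 p) (l : N →ₗ[k] k) :
    contrR l w ∈ ℳ p.1 := by
  rw [mem_biGr] at hw
  unfold biK at hw
  induction hw using Submodule.span_induction with
  | mem x hx =>
    obtain ⟨a, ha, b, -, rfl⟩ := hx
    rw [contrR_tmul]
    exact Groth.Agent.Lib.H2SegreMod.ksmul_mem 𝒜 ℳ ha
  | zero => rw [map_zero]; exact zero_mem _
  | add x y _ _ hx hy => rw [map_add]; exact add_mem hx hy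
  | smul c x _ hx => rw [map_smul]; exact Groth.Agent.Lib.H2SegreMod.ksmul_mem 𝒜 ℳ hx

theorem isGrHom_toRowL {j : ℤ} (v : N) (hv : v ∈ 𝒩 j) :
    IsGrHom ℳ (rowLGr 𝒜 ℬ ℳ 𝒩 j) (toRowL 𝒜 ℬ ℳ 𝒩 v hv) := by
  intro i m hm
  exact tmul_mem_shift_L 𝒜 ℬ ℳ 𝒩 hm hv

theorem isGrHom_ofRowL (j : ℤ) (l : N →ₗ[k] k) :
    IsGrHom (rowLGr 𝒜 ℬ ℳ 𝒩 j) ℳ (ofRowL 𝒜 ℬ ℳ 𝒩 j l) := by
  intro i x hx
  have hx' : Ver.val _ _ x ∈ biGr 𝒜 ℳ ℬ 𝒩 (i + 0, 0 + j) := hx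
  have := contrR_mem 𝒜 ℬ ℳ 𝒩 hx' l
  rw [add_zero] at this
  exact this

theorem ofRowL_toRowL {j : ℤ} (v : N) (hv : v ∈ 𝒩 j) (l : N →ₗ[k] k) (hl : l v = 1) :
    ofRowL 𝒜 ℬ ℳ 𝒩 j l ∘ₗ toRowL 𝒜 ℬ ℳ 𝒩 v hv = LinearMap.id := by
  ext m
  show contrR l (m ⊗ₜ[k] v) = m
  rw [contrR_tmul, hl, one_smul]

end RowL

section PiL

variable {k : Type u} [Field k] {R : Type u} [CommRing R] [Algebra k R] (𝒜 : ℤ → Submodule k R)
  [GradedAlgebra 𝒜]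
  {S : Type u} [CommRing S] [Algebra k S] (ℬ : ℤ → Submodule k S) [GradedAlgebra ℬ]
  {M : Type u} [AddCommGroup M] [Module R M] [Module k M] [IsScalarTower k R M]
  (ℳ : ℤ → AddSubgroup M) [DirectSum.Decomposition ℳ] [SetLike.GradedSMul 𝒜 ℳ]
  {N : Type u} [AddCommGroup N] [Module S N] [Module k N] [IsScalarTower k S N]
  (𝒩 : ℤ → AddSubgroup N) [DirectSum.Decomposition 𝒩] [SetLike.GradedSMul ℬ 𝒩]
  {j : ℤ} {n : ℕ} (b : Module.Basis (Fin n) k (pieceK ℬ 𝒩 j))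

/-- The coordinate functionals of a basis of `N_j`, extended to `N`. -/
noncomputable def coordL (l : Fin n) : N →ₗ[k] k := b.coord l ∘ₗ projK ℬ 𝒩 j

theorem sum_coordL_smul (v : N) : ∑ l, coordL ℬ 𝒩 b l v • (b l : N) = projM ℬ 𝒩 j v := by
  have h := b.sum_repr (projK ℬ 𝒩 j v)
  have h2 := congrArg (fun x : pieceK ℬ 𝒩 j => (x : N)) h
  simp only [Submodule.coe_sum, Submodule.coe_smul] at h2
  exact h2

/-- `w ↦ ((id ⊗ λ_l) w)_l`. -/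
noncomputable def rowToPi : RowLT 𝒜 ℬ ℳ 𝒩 j →ₗ[R] (Fin n → M) :=
  LinearMap.pi (fun l => ofRowL 𝒜 ℬ ℳ 𝒩 j (coordL ℬ 𝒩 b l))

/-- `(m_l) ↦ Σ m_l ⊗ b_l`. -/
noncomputable def piToRow : (Fin n → M) →ₗ[R] RowLT 𝒜 ℬ ℳ 𝒩 j :=
  ∑ l, (toRowL 𝒜 ℬ ℳ 𝒩 (b l : N) (b l).2) ∘ₗ LinearMap.proj l

theorem val_piToRow (f : Fin n → M) :
    Ver.val _ _ (piToRow 𝒜 ℬ ℳ 𝒩 b f) = ∑ l, f l ⊗ₜ[k] (b l : N) := by
  unfold piToRow
  rw [LinearMap.sum_apply, map_sum]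
  rfl

theorem sum_contrR_tmul (w : M ⊗[k] N) :
    ∑ l, contrR (coordL ℬ 𝒩 b l) w ⊗ₜ[k] (b l : N) =
      LinearMap.lTensor M (projM ℬ 𝒩 j) w := by
  induction w using TensorProduct.induction_on with
  | zero => simp
  | tmul m v =>
    rw [LinearMap.lTensor_tmul, ← sum_coordL_smul ℬ 𝒩 b v, tmul_sum]
    refine Finset.sum_congr rfl (fun l _ => ?_)
    rw [contrR_tmul, smul_tmul]
  | add x y hx hy =>
    rw [map_add, ← hx, ← hy, ← Finset.sum_add_distrib]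
    refine Finset.sum_congr rfl (fun l _ => ?_)
    rw [map_add, add_tmul]

theorem lTensor_projM_of_mem_biK {i : ℤ} {y : M ⊗[k] N}
    (hy' : y ∈ biK (k := k) ℳ 𝒩 (i + 0, 0 + j)) :
    LinearMap.lTensor M (projM ℬ 𝒩 j) y = y := by
  unfold biK at hy'
  induction hy' using Submodule.span_induction with
  | mem x hx =>
    obtain ⟨a, -, c, hc, rfl⟩ := hx
    have hc' : c ∈ 𝒩 j := by
      have : c ∈ 𝒩 (0 + j) := hc
      rwa [zero_add] at this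
    rw [LinearMap.lTensor_tmul, projM_of_mem_same ℬ 𝒩 hc']
  | zero => rw [map_zero]
  | add x y _ _ hx hy => rw [map_add, hx, hy]
  | smul c x _ hx => rw [map_smul, hx]

theorem lTensor_projM_of_mem {w : M ⊗[k] N}
    (hw : w ∈ verSub (vdataL 𝒜 ℬ) (shiftGr (biGr 𝒜 ℳ ℬ 𝒩) ((0 : ℤ), j))) :
    LinearMap.lTensor M (projM ℬ 𝒩 j) w = w := by
  refine verSub_induction (vdataL 𝒜 ℬ) (shiftGr (biGr 𝒜 ℳ ℬ 𝒩) ((0 : ℤ), j))
    (P := fun w => LinearMap.lTensor M (projM ℬ 𝒩 j) w = w) hw ?_ (map_zero _) ?_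
  · intro i y hy
    exact lTensor_projM_of_mem_biK ℬ ℳ 𝒩 hy
  · intro y z hy hz
    rw [map_add, hy, hz]

theorem piToRow_rowToPi :
    piToRow 𝒜 ℬ ℳ 𝒩 b ∘ₗ rowToPi 𝒜 ℬ ℳ 𝒩 b = LinearMap.id := by
  ext x
  apply Ver.ext
  rw [LinearMap.comp_apply, val_piToRow, LinearMap.id_apply]
  have h1 : ∀ l, rowToPi 𝒜 ℬ ℳ 𝒩 b x l = contrR (coordL ℬ 𝒩 b l) (Ver.val _ _ x) := fun _ => rfl
  simp only [h1]
  rw [sum_contrR_tmul, lTensor_projM_of_mem 𝒜 ℬ ℳ 𝒩 x.val_mem]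

theorem isGrHom_rowToPi :
    IsGrHom (rowLGr 𝒜 ℬ ℳ 𝒩 j) (piGr n (GMod.of (asGr 𝒜) M ℳ)) (rowToPi 𝒜 ℬ ℳ 𝒩 b) := by
  intro i x hx l
  exact isGrHom_ofRowL 𝒜 ℬ ℳ 𝒩 j (coordL ℬ 𝒩 b l) i x hx

theorem isGrHom_piToRow :
    IsGrHom (piGr n (GMod.of (asGr 𝒜) M ℳ)) (rowLGr 𝒜 ℬ ℳ 𝒩 j) (piToRow 𝒜 ℬ ℳ 𝒩 b) := by
  intro i f hf
  unfold piToRow
  rw [LinearMap.sum_apply]
  refine sum_mem (fun l _ => ?_)
  exact isGrHom_toRowL 𝒜 ℬ ℳ 𝒩 (b l : N) (b l).2 i (f l) (hf l)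

end PiL

section HcompL

variable {k : Type u} [Field k] {R : Type u} [CommRing R] [Algebra k R] (𝒜 : ℤ → Submodule k R)
  [GradedAlgebra 𝒜]
  {S : Type u} [CommRing S] [Algebra k S] (ℬ : ℤ → Submodule k S) [GradedAlgebra ℬ]
  {M : Type u} [AddCommGroup M] [Module R M] [Module k M] [IsScalarTower k R M]
  (ℳ : ℤ → AddSubgroup M) [DirectSum.Decomposition ℳ] [SetLike.GradedSMul 𝒜 ℳ]
  {N : Type u} [AddCommGroup N] [Module S N] [Module k N] [IsScalarTower k S N]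
  (𝒩 : ℤ → AddSubgroup N) [DirectSum.Decomposition 𝒩] [SetLike.GradedSMul ℬ 𝒩]
  [IsNoetherianRing R] [IsNoetherianRing S] [IsNoetherianRing (R ⊗[k] S)]

theorem van_rowL_iff [Module.Finite S N] (h0 : ℬ 0 = Submodule.span k {(1 : S)})
    (a : HomogeneousIdeal (asGr 𝒜)) (q : ℕ) (i j : ℤ) :
    Van a (rowL 𝒜 ℬ ℳ 𝒩 j) q i ↔ (Van a (GMod.of (asGr 𝒜) M ℳ) q i ∨ 𝒩 j = ⊥) := by
  have := finite_pieceK ℬ 𝒩 h0 j
  let b := Module.finBasis k (pieceK ℬ 𝒩 j)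
  constructor
  · intro h
    by_cases hN : 𝒩 j = ⊥
    · exact Or.inr hN
    · left
      obtain ⟨v, hv, hv0⟩ : ∃ v ∈ 𝒩 j, v ≠ 0 := by
        by_contra hcon
        push Not at hcon
        exact hN ((AddSubgroup.eq_bot_iff_forall _).2 hcon)
      obtain ⟨l, hl⟩ := exists_functional_eq_one (k := k) hv0
      exact van_of_retract a (X := GMod.of (asGr 𝒜) M ℳ) (Y := rowL 𝒜 ℬ ℳ 𝒩 j)
        (toRowL 𝒜 ℬ ℳ 𝒩 v hv) (ofRowL 𝒜 ℬ ℳ 𝒩 j l) (isGrHom_toRowL 𝒜 ℬ ℳ 𝒩 v hv)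
        (isGrHom_ofRowL 𝒜 ℬ ℳ 𝒩 j l) (ofRowL_toRowL 𝒜 ℬ ℳ 𝒩 v hv l hl) q i h
  · intro h
    have hpi : Van a (piGMod (Module.finrank k (pieceK ℬ 𝒩 j)) (GMod.of (asGr 𝒜) M ℳ)) q i := by
      rcases h with h | h
      · exact van_piGMod _ a q i h _
      · have hsub : Subsingleton (pieceK ℬ 𝒩 j) := by
          refine ⟨fun x y => Subtype.ext ?_⟩
          have hx : (x : N) ∈ 𝒩 j := x.2
          have hy : (y : N) ∈ 𝒩 j := y.2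
          rw [h] at hx hy
          rw [(AddSubgroup.mem_bot).1 hx, (AddSubgroup.mem_bot).1 hy]
        have hr : Module.finrank k (pieceK ℬ 𝒩 j) = 0 := Module.finrank_zero_of_subsingleton
        rw [hr]
        have : Subsingleton (piGMod 0 (GMod.of (asGr 𝒜) M ℳ)).carrier :=
          inferInstanceAs (Subsingleton (Fin 0 → M))
        exact van_of_subsingleton a q i
    exact van_of_retract a (X := rowL 𝒜 ℬ ℳ 𝒩 j)
      (Y := piGMod (Module.finrank k (pieceK ℬ 𝒩 j)) (GMod.of (asGr 𝒜) M ℳ))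
      (rowToPi 𝒜 ℬ ℳ 𝒩 b) (piToRow 𝒜 ℬ ℳ 𝒩 b) (isGrHom_rowToPi 𝒜 ℬ ℳ 𝒩 b)
      (isGrHom_piToRow 𝒜 ℬ ℳ 𝒩 b) (piToRow_rowToPi 𝒜 ℬ ℳ 𝒩 b) q i hpi

theorem Hcomp_aL_eq_bot_iff [Module.Finite S N] (h0 : ℬ 0 = Submodule.span k {(1 : S)})
    (mR : HomogeneousIdeal 𝒜) (E : StarInjRes (uGr 𝒜 ℬ) (biGr 𝒜 ℳ ℬ 𝒩)) (q : ℕ) (i j : ℤ) :
    E.Hcomp (aL 𝒜 ℬ mR) q (i, j) = ⊥ ↔
      (Van (toSIdeal mR) (GMod.of (asGr 𝒜) M ℳ) q i ∨ 𝒩 j = ⊥) := by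
  rw [← van_rowL_iff 𝒜 ℬ ℳ 𝒩 h0 (toSIdeal mR) q i j]
  have h := van_rowG_iff (vdataL 𝒜 ℬ) (toSIdeal mR) (aL 𝒜 ℬ mR) (idealCompat_L 𝒜 ℬ mR)
    (biGr 𝒜 ℳ ℬ 𝒩) E ((0 : ℤ), j) q i
  have he : (vdataL 𝒜 ℬ).ψ i + ((0 : ℤ), j) = (i, j) := by
    rw [vdataL_ψ, Prod.mk_add_mk, add_zero, zero_add]
  rw [he] at h
  exact h.symm

end HcompL

end Groth.Agent.Lib.GrSegU
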