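import Groth.Agent.Lib.GrSegU4

/-!
# Columns of `M ⊗ N` (helper12)

Mirror of `GrSegU4`: the column `⊕_j M_i ⊗ N_j` as a graded `S`-module (`rowR i`);
`Hcomp_aR_eq_bot_iff`.
-/

set_option autoImplicit false
set_option linter.unusedSectionVars false
universe u
open scoped TensorProduct

namespace Groth.Agent.Lib.GrSegU

open TensorProduct DirectSum GrLC Groth.Agent.Lib.H2SegreMod Groth.Agent.Lib.GrLCBridge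
  Groth.Agent.Lib.GrVer Groth.Agent.Lib.GrVerRow Groth.Agent.Lib.GrLCVan
  Groth.Agent.Lib.GrSegConv Groth.Agent.Lib.H87GrShift Groth.Agent.Lib.H74GrLES

attribute [local instance] actModule

section RowR

variable {k : Type u} [Field k] {R : Type u} [CommRing R] [Algebra k R] (𝒜 : ℤ → Submodule k R)
  [GradedAlgebra 𝒜]
  {S : Type u} [CommRing S] [Algebra k S] (ℬ : ℤ → Submodule k S) [GradedAlgebra ℬ]
  {M : Type u} [AddCommGroup M] [Module R M] [Module k M] [IsScalarTower k R M]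
  (ℳ : ℤ → AddSubgroup M) [DirectSum.Decomposition ℳ] [SetLike.GradedSMul 𝒜 ℳ]
  {N : Type u} [AddCommGroup N] [Module S N] [Module k N] [IsScalarTower k S N]
  (𝒩 : ℤ → AddSubgroup N) [DirectSum.Decomposition 𝒩] [SetLike.GradedSMul ℬ 𝒩]

/-- The column `⊕_j M_i ⊗ N_j` as a graded `S`-module. -/
noncomputable abbrev rowR (i : ℤ) : GMod.{u} (asGr ℬ) :=
  rowG (vdataR 𝒜 ℬ) (biGr 𝒜 ℳ ℬ 𝒩) (i, (0 : ℤ))

/-- The carrier of `rowR`. -/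
abbrev RowRT (i : ℤ) : Type u := Ver (vdataR 𝒜 ℬ) (shiftGr (biGr 𝒜 ℳ ℬ 𝒩) (i, (0 : ℤ)))

/-- The grading of `rowR`. -/
abbrev rowRGr (i : ℤ) : ℤ → AddSubgroup (RowRT 𝒜 ℬ ℳ 𝒩 i) :=
  verGr (vdataR 𝒜 ℬ) (shiftGr (biGr 𝒜 ℳ ℬ 𝒩) (i, (0 : ℤ)))

theorem tmul_mem_shift_R {i j : ℤ} {m : M} {v : N} (hm : m ∈ ℳ i) (hv : v ∈ 𝒩 j) :
    m ⊗ₜ[k] v ∈ shiftGr (biGr 𝒜 ℳ ℬ 𝒩) (i, (0 : ℤ)) ((vdataR 𝒜 ℬ).ψ j) := by
  show m ⊗ₜ[k] v ∈ biGr 𝒜 ℳ ℬ 𝒩 (0 + i, j + 0)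
  refine tmul_mem_biGr 𝒜 ℳ ℬ 𝒩 ?_ ?_
  · show m ∈ ℳ (0 + i)
    rw [zero_add]; exact hm
  · show v ∈ 𝒩 (j + 0)
    rw [add_zero]; exact hv

theorem tmul_mem_verSub_R {i : ℤ} {m : M} (hm : m ∈ ℳ i) (v : N) :
    m ⊗ₜ[k] v ∈ verSub (vdataR 𝒜 ℬ) (shiftGr (biGr 𝒜 ℳ ℬ 𝒩) (i, (0 : ℤ))) := by
  induction v using DirectSum.Decomposition.inductionOn 𝒩 with
  | zero => rw [tmul_zero]; exact zero_mem _
  | @homogeneous j v =>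
    exact mem_verSub_of_mem _ _ (j := j) (tmul_mem_shift_R 𝒜 ℬ ℳ 𝒩 hm v.2)
  | add v v' hv hv' => rw [tmul_add]; exact add_mem hv hv'

/-- `v ↦ m ⊗ v`. -/
noncomputable def toRowR {i : ℤ} (m : M) (hm : m ∈ ℳ i) : N →ₗ[S] RowRT 𝒜 ℬ ℳ 𝒩 i where
  toFun v := Ver.mk _ _ (m ⊗ₜ[k] v) (tmul_mem_verSub_R 𝒜 ℬ ℳ 𝒩 hm v)
  map_add' v v' := Ver.ext (by
    rw [Ver.val_mk, tmul_add]; rfl)
  map_smul' s v := Ver.ext (by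
    rw [Ver.val_mk, RingHom.id_apply]
    show m ⊗ₜ[k] (s • v) = ((vdataR 𝒜 ℬ).φ s) • (m ⊗ₜ[k] v)
    rw [vdataR_φ, smul_tmul_tmul, one_smul])

theorem val_toRowR {i : ℤ} (m : M) (hm : m ∈ ℳ i) (v : N) :
    Ver.val _ _ (toRowR 𝒜 ℬ ℳ 𝒩 m hm v) = m ⊗ₜ[k] v := rfl

/-- `w ↦ (l ⊗ id) w`. -/
noncomputable def ofRowR (i : ℤ) (l : M →ₗ[k] k) : RowRT 𝒜 ℬ ℳ 𝒩 i →ₗ[S] N where
  toFun x := contrL l (Ver.val _ _ x)
  map_add' x y := by rw [map_add, map_add]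
  map_smul' s x := by
    rw [RingHom.id_apply]
    show contrL l (((vdataR 𝒜 ℬ).φ s) • Ver.val _ _ x) = s • contrL l (Ver.val _ _ x)
    rw [vdataR_φ, contrL_smul]

theorem contrL_mem {p : ℤ × ℤ} {w : M ⊗[k] N} (hw : w ∈ biGr 𝒜 ℳ ℬ 𝒩 p) (l : M →ₗ[k] k) :
    contrL l w ∈ 𝒩 p.2 := by
  rw [mem_biGr] at hw
  unfold biK at hw
  induction hw using Submodule.span_induction with
  | mem x hx =>
    obtain ⟨a, -, b, hb, rfl⟩ := hx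
    rw [contrL_tmul]
    exact Groth.Agent.Lib.H2SegreMod.ksmul_mem ℬ 𝒩 hb
  | zero => rw [map_zero]; exact zero_mem _
  | add x y _ _ hx hy => rw [map_add]; exact add_mem hx hy
  | smul c x _ hx => rw [map_smul]; exact Groth.Agent.Lib.H2SegreMod.ksmul_mem ℬ 𝒩 hx

theorem isGrHom_toRowR {i : ℤ} (m : M) (hm : m ∈ ℳ i) :
    IsGrHom 𝒩 (rowRGr 𝒜 ℬ ℳ 𝒩 i) (toRowR 𝒜 ℬ ℳ 𝒩 m hm) := by
  intro j v hv
  exact tmul_mem_shift_R 𝒜 ℬ ℳ 𝒩 hm hv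

theorem isGrHom_ofRowR (i : ℤ) (l : M →ₗ[k] k) :
    IsGrHom (rowRGr 𝒜 ℬ ℳ 𝒩 i) 𝒩 (ofRowR 𝒜 ℬ ℳ 𝒩 i l) := by
  intro j x hx
  have hx' : Ver.val _ _ x ∈ biGr 𝒜 ℳ ℬ 𝒩 (0 + i, j + 0) := hx
  have := contrL_mem 𝒜 ℬ ℳ 𝒩 hx' l
  rw [add_zero] at this
  exact this

theorem ofRowR_toRowR {i : ℤ} (m : M) (hm : m ∈ ℳ i) (l : M →ₗ[k] k) (hl : l m = 1) :
    ofRowR 𝒜 ℬ ℳ 𝒩 i l ∘ₗ toRowR 𝒜 ℬ ℳ 𝒩 m hm = LinearMap.id := by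
  ext v
  show contrL l (m ⊗ₜ[k] v) = v
  rw [contrL_tmul, hl, one_smul]

end RowR

section PiR

variable {k : Type u} [Field k] {R : Type u} [CommRing R] [Algebra k R] (𝒜 : ℤ → Submodule k R)
  [GradedAlgebra 𝒜]
  {S : Type u} [CommRing S] [Algebra k S] (ℬ : ℤ → Submodule k S) [GradedAlgebra ℬ]
  {M : Type u} [AddCommGroup M] [Module R M] [Module k M] [IsScalarTower k R M]
  (ℳ : ℤ → AddSubgroup M) [DirectSum.Decomposition ℳ] [SetLike.GradedSMul 𝒜 ℳ]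
  {N : Type u} [AddCommGroup N] [Module S N] [Module k N] [IsScalarTower k S N]
  (𝒩 : ℤ → AddSubgroup N) [DirectSum.Decomposition 𝒩] [SetLike.GradedSMul ℬ 𝒩]
  {i : ℤ} {n : ℕ} (b : Module.Basis (Fin n) k (pieceK 𝒜 ℳ i))

/-- The coordinate functionals of a basis of `M_i`, extended to `M`. -/
noncomputable def coordR (l : Fin n) : M →ₗ[k] k := b.coord l ∘ₗ projK 𝒜 ℳ i

theorem sum_coordR_smul (m : M) : ∑ l, coordR 𝒜 ℳ b l m • (b l : M) = projM 𝒜 ℳ i m := by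
  have h := b.sum_repr (projK 𝒜 ℳ i m)
  have h2 := congrArg (fun x : pieceK 𝒜 ℳ i => (x : M)) h
  simp only [Submodule.coe_sum, Submodule.coe_smul] at h2
  exact h2

/-- `w ↦ ((λ_l ⊗ id) w)_l`. -/
noncomputable def colToPi : RowRT 𝒜 ℬ ℳ 𝒩 i →ₗ[S] (Fin n → N) :=
  LinearMap.pi (fun l => ofRowR 𝒜 ℬ ℳ 𝒩 i (coordR 𝒜 ℳ b l))

/-- `(v_l) ↦ Σ b_l ⊗ v_l`. -/
noncomputable def piToCol : (Fin n → N) →ₗ[S] RowRT 𝒜 ℬ ℳ 𝒩 i :=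
  ∑ l, (toRowR 𝒜 ℬ ℳ 𝒩 (b l : M) (b l).2) ∘ₗ LinearMap.proj l

theorem val_piToCol (f : Fin n → N) :
    Ver.val _ _ (piToCol 𝒜 ℬ ℳ 𝒩 b f) = ∑ l, (b l : M) ⊗ₜ[k] f l := by
  unfold piToCol
  rw [LinearMap.sum_apply, map_sum]
  rfl

theorem sum_tmul_contrL (w : M ⊗[k] N) :
    ∑ l, (b l : M) ⊗ₜ[k] contrL (coordR 𝒜 ℳ b l) w =
      LinearMap.rTensor N (projM 𝒜 ℳ i) w := by
  induction w using TensorProduct.induction_on with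
  | zero => simp
  | tmul m v =>
    rw [LinearMap.rTensor_tmul, ← sum_coordR_smul 𝒜 ℳ b m, sum_tmul]
    refine Finset.sum_congr rfl (fun l _ => ?_)
    rw [contrL_tmul, smul_tmul]
  | add x y hx hy =>
    rw [map_add, ← hx, ← hy, ← Finset.sum_add_distrib]
    refine Finset.sum_congr rfl (fun l _ => ?_)
    rw [map_add, tmul_add]

theorem rTensor_projM_of_mem_biK {j : ℤ} {y : M ⊗[k] N}
    (hy' : y ∈ biK (k := k) ℳ 𝒩 (0 + i, j + 0)) :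
    LinearMap.rTensor N (projM 𝒜 ℳ i) y = y := by
  unfold biK at hy'
  induction hy' using Submodule.span_induction with
  | mem x hx =>
    obtain ⟨a, ha, c, -, rfl⟩ := hx
    have ha' : a ∈ ℳ i := by
      have : a ∈ ℳ (0 + i) := ha
      rwa [zero_add] at this
    rw [LinearMap.rTensor_tmul, projM_of_mem_same 𝒜 ℳ ha']
  | zero => rw [map_zero]
  | add x y _ _ hx hy => rw [map_add, hx, hy]
  | smul c x _ hx => rw [map_smul, hx]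

theorem rTensor_projM_of_mem {w : M ⊗[k] N}
    (hw : w ∈ verSub (vdataR 𝒜 ℬ) (shiftGr (biGr 𝒜 ℳ ℬ 𝒩) (i, (0 : ℤ)))) :
    LinearMap.rTensor N (projM 𝒜 ℳ i) w = w := by
  refine verSub_induction (vdataR 𝒜 ℬ) (shiftGr (biGr 𝒜 ℳ ℬ 𝒩) (i, (0 : ℤ)))
    (P := fun w => LinearMap.rTensor N (projM 𝒜 ℳ i) w = w) hw ?_ (map_zero _) ?_
  · intro j y hy
    exact rTensor_projM_of_mem_biK 𝒜 ℳ 𝒩 hy
  · intro y z hy hz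
    rw [map_add, hy, hz]

theorem piToCol_colToPi :
    piToCol 𝒜 ℬ ℳ 𝒩 b ∘ₗ colToPi 𝒜 ℬ ℳ 𝒩 b = LinearMap.id := by
  ext x
  apply Ver.ext
  rw [LinearMap.comp_apply, val_piToCol, LinearMap.id_apply]
  have h1 : ∀ l, colToPi 𝒜 ℬ ℳ 𝒩 b x l = contrL (coordR 𝒜 ℳ b l) (Ver.val _ _ x) := fun _ => rfl
  simp only [h1]
  rw [sum_tmul_contrL, rTensor_projM_of_mem 𝒜 ℬ ℳ 𝒩 x.val_mem]

theorem isGrHom_colToPi :
    IsGrHom (rowRGr 𝒜 ℬ ℳ 𝒩 i) (piGr n (GMod.of (asGr ℬ) N 𝒩)) (colToPi 𝒜 ℬ ℳ 𝒩 b) := by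
  intro j x hx l
  exact isGrHom_ofRowR 𝒜 ℬ ℳ 𝒩 i (coordR 𝒜 ℳ b l) j x hx

theorem isGrHom_piToCol :
    IsGrHom (piGr n (GMod.of (asGr ℬ) N 𝒩)) (rowRGr 𝒜 ℬ ℳ 𝒩 i) (piToCol 𝒜 ℬ ℳ 𝒩 b) := by
  intro j f hf
  unfold piToCol
  rw [LinearMap.sum_apply]
  refine sum_mem (fun l _ => ?_)
  exact isGrHom_toRowR 𝒜 ℬ ℳ 𝒩 (b l : M) (b l).2 j (f l) (hf l)

end PiR

section HcompR

variable {k : Type u} [Field k] {R : Type u} [CommRing R] [Algebra k R] (𝒜 : ℤ → Submodule k R)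
  [GradedAlgebra 𝒜]
  {S : Type u} [CommRing S] [Algebra k S] (ℬ : ℤ → Submodule k S) [GradedAlgebra ℬ]
  {M : Type u} [AddCommGroup M] [Module R M] [Module k M] [IsScalarTower k R M]
  (ℳ : ℤ → AddSubgroup M) [DirectSum.Decomposition ℳ] [SetLike.GradedSMul 𝒜 ℳ]
  {N : Type u} [AddCommGroup N] [Module S N] [Module k N] [IsScalarTower k S N]
  (𝒩 : ℤ → AddSubgroup N) [DirectSum.Decomposition 𝒩] [SetLike.GradedSMul ℬ 𝒩]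
  [IsNoetherianRing R] [IsNoetherianRing S] [IsNoetherianRing (R ⊗[k] S)]

theorem van_rowR_iff [Module.Finite R M] (h0 : 𝒜 0 = Submodule.span k {(1 : R)})
    (a : HomogeneousIdeal (asGr ℬ)) (q : ℕ) (i j : ℤ) :
    Van a (rowR 𝒜 ℬ ℳ 𝒩 i) q j ↔ (ℳ i = ⊥ ∨ Van a (GMod.of (asGr ℬ) N 𝒩) q j) := by
  have := finite_pieceK 𝒜 ℳ h0 i
  let b := Module.finBasis k (pieceK 𝒜 ℳ i)
  constructor
  · intro h
    by_cases hM : ℳ i = ⊥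
    · exact Or.inl hM
    · right
      obtain ⟨m, hm, hm0⟩ : ∃ m ∈ ℳ i, m ≠ 0 := by
        by_contra hcon
        push Not at hcon
        exact hM ((AddSubgroup.eq_bot_iff_forall _).2 hcon)
      obtain ⟨l, hl⟩ := exists_functional_eq_one (k := k) hm0
      exact van_of_retract a (X := GMod.of (asGr ℬ) N 𝒩) (Y := rowR 𝒜 ℬ ℳ 𝒩 i)
        (toRowR 𝒜 ℬ ℳ 𝒩 m hm) (ofRowR 𝒜 ℬ ℳ 𝒩 i l) (isGrHom_toRowR 𝒜 ℬ ℳ 𝒩 m hm)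
        (isGrHom_ofRowR 𝒜 ℬ ℳ 𝒩 i l) (ofRowR_toRowR 𝒜 ℬ ℳ 𝒩 m hm l hl) q j h
  · intro h
    have hpi : Van a (piGMod (Module.finrank k (pieceK 𝒜 ℳ i)) (GMod.of (asGr ℬ) N 𝒩)) q j := by
      rcases h with h | h
      · have hsub : Subsingleton (pieceK 𝒜 ℳ i) := by
          refine ⟨fun x y => Subtype.ext ?_⟩
          have hx : (x : M) ∈ ℳ i := x.2
          have hy : (y : M) ∈ ℳ i := y.2
          rw [h] at hx hy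
          rw [(AddSubgroup.mem_bot).1 hx, (AddSubgroup.mem_bot).1 hy]
        have hr : Module.finrank k (pieceK 𝒜 ℳ i) = 0 := Module.finrank_zero_of_subsingleton
        rw [hr]
        have : Subsingleton (piGMod 0 (GMod.of (asGr ℬ) N 𝒩)).carrier :=
          inferInstanceAs (Subsingleton (Fin 0 → N))
        exact van_of_subsingleton a q j
      · exact van_piGMod _ a q j h _
    exact van_of_retract a (X := rowR 𝒜 ℬ ℳ 𝒩 i)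
      (Y := piGMod (Module.finrank k (pieceK 𝒜 ℳ i)) (GMod.of (asGr ℬ) N 𝒩))
      (colToPi 𝒜 ℬ ℳ 𝒩 b) (piToCol 𝒜 ℬ ℳ 𝒩 b) (isGrHom_colToPi 𝒜 ℬ ℳ 𝒩 b)
      (isGrHom_piToCol 𝒜 ℬ ℳ 𝒩 b) (piToCol_colToPi 𝒜 ℬ ℳ 𝒩 b) q j hpi

theorem Hcomp_aR_eq_bot_iff [Module.Finite R M] (h0 : 𝒜 0 = Submodule.span k {(1 : R)})
    (mS : HomogeneousIdeal ℬ) (E : StarInjRes (uGr 𝒜 ℬ) (biGr 𝒜 ℳ ℬ 𝒩)) (q : ℕ) (i j : ℤ) :
    E.Hcomp (aR 𝒜 ℬ mS) q (i, j) = ⊥ ↔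
      (ℳ i = ⊥ ∨ Van (toSIdeal mS) (GMod.of (asGr ℬ) N 𝒩) q j) := by
  rw [← van_rowR_iff 𝒜 ℬ ℳ 𝒩 h0 (toSIdeal mS) q i j]
  have h := van_rowG_iff (vdataR 𝒜 ℬ) (toSIdeal mS) (aR 𝒜 ℬ mS) (idealCompat_R 𝒜 ℬ mS)
    (biGr 𝒜 ℳ ℬ 𝒩) E (i, (0 : ℤ)) q j
  have he : (vdataR 𝒜 ℬ).ψ j + (i, (0 : ℤ)) = (i, j) := by
    rw [vdataR_ψ, Prod.mk_add_mk, add_zero, zero_add]
  rw [he] at h
  exact h.symm

end HcompR

end Groth.Agent.Lib.GrSegU
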