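import Groth.Agent.Lib.GrSegU5

/-!
# Regular sequences on `M ⊗ N` (helper12)

If `xs` is a weakly `M`-regular sequence in `R` and `ys` a weakly `N`-regular sequence in `S`, then
`x₁ ⊗ 1, …, x_r ⊗ 1, 1 ⊗ y₁, …, 1 ⊗ y_s` is weakly regular on the `R ⊗ S`-module `M ⊗ N`.
-/

set_option autoImplicit false
set_option linter.unusedSectionVars false
universe u
open scoped TensorProduct

namespace Groth.Agent.Lib.GrSegU

open TensorProduct DirectSum GrLC Groth.Agent.Lib.H2SegreMod RingTheory.Sequence

attribute [local instance] actModule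

section MapU

variable {k : Type u} [Field k] {R : Type u} [CommRing R] [Algebra k R]
  {S : Type u} [CommRing S] [Algebra k S]
  {M : Type u} [AddCommGroup M] [Module R M] [Module k M] [IsScalarTower k R M]
  {N : Type u} [AddCommGroup N] [Module S N] [Module k N] [IsScalarTower k S N]
  {M' : Type u} [AddCommGroup M'] [Module R M'] [Module k M'] [IsScalarTower k R M']
  {N' : Type u} [AddCommGroup N'] [Module S N'] [Module k N'] [IsScalarTower k S N']

/-- The tensor product of an `R`-linear and an `S`-linear map, as an `R ⊗ S`-linear map. -/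
noncomputable def mapU (g : M →ₗ[R] M') (h : N →ₗ[S] N') :
    M ⊗[k] N →ₗ[R ⊗[k] S] M' ⊗[k] N' where
  toFun := TensorProduct.map (g.restrictScalars k) (h.restrictScalars k)
  map_add' := map_add _
  map_smul' a w := by
    rw [RingHom.id_apply]
    induction a using TensorProduct.induction_on with
    | zero => rw [zero_smul, zero_smul, map_zero]
    | tmul r s =>
      induction w using TensorProduct.induction_on with
      | zero => rw [smul_zero, map_zero, smul_zero]
      | tmul m n =>
        rw [smul_tmul_tmul, map_tmul, map_tmul, smul_tmul_tmul]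
        simp
      | add x y hx hy => rw [smul_add, map_add, map_add, smul_add, hx, hy]
    | add a b ha hb => rw [add_smul, map_add, ha, hb, add_smul]

@[simp] theorem mapU_tmul (g : M →ₗ[R] M') (h : N →ₗ[S] N') (m : M) (n : N) :
    mapU (k := k) g h (m ⊗ₜ[k] n) = g m ⊗ₜ[k] h n := rfl

theorem mapU_surjective (g : M →ₗ[R] M') (h : N →ₗ[S] N') (hg : Function.Surjective g)
    (hh : Function.Surjective h) : Function.Surjective (mapU (k := k) g h) := by
  show Function.Surjective (TensorProduct.map (g.restrictScalars k) (h.restrictScalars k))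
  exact TensorProduct.map_surjective (g := g.restrictScalars k) (g' := h.restrictScalars k) hg hh

end MapU

section Reg

variable {k : Type u} [Field k] {R : Type u} [CommRing R] [Algebra k R]
  {S : Type u} [CommRing S] [Algebra k S]
  {M : Type u} [AddCommGroup M] [Module R M] [Module k M] [IsScalarTower k R M]
  {N : Type u} [AddCommGroup N] [Module S N] [Module k N] [IsScalarTower k S N]

theorem smul_left_eq (x : R) (w : M ⊗[k] N) :
    (x ⊗ₜ[k] (1 : S) : R ⊗[k] S) • w =
      LinearMap.rTensor N ((Algebra.lsmul k k M x : M →ₗ[k] M)) w := by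
  induction w using TensorProduct.induction_on with
  | zero => rw [smul_zero, map_zero]
  | tmul m n => rw [smul_tmul_tmul, one_smul, LinearMap.rTensor_tmul]; rfl
  | add a b ha hb => rw [smul_add, map_add, ha, hb]

theorem smul_right_eq (y : S) (w : M ⊗[k] N) :
    ((1 : R) ⊗ₜ[k] y : R ⊗[k] S) • w =
      LinearMap.lTensor M ((Algebra.lsmul k k N y : N →ₗ[k] N)) w := by
  induction w using TensorProduct.induction_on with
  | zero => rw [smul_zero, map_zero]
  | tmul m n => rw [smul_tmul_tmul, one_smul, LinearMap.lTensor_tmul]; rfl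
  | add a b ha hb => rw [smul_add, map_add, ha, hb]

theorem isSMulRegular_left {x : R} (h : IsSMulRegular M x) :
    IsSMulRegular (M ⊗[k] N) (x ⊗ₜ[k] (1 : S) : R ⊗[k] S) := by
  have hinj : Function.Injective (Algebra.lsmul k k M x : M →ₗ[k] M) := h
  have h2 := Module.Flat.rTensor_preserves_injective_linearMap (M := N) _ hinj
  intro a b hab
  apply h2
  rw [← smul_left_eq (S := S) x a, ← smul_left_eq (S := S) x b]
  exact hab

theorem isSMulRegular_right {y : S} (h : IsSMulRegular N y) :
    IsSMulRegular (M ⊗[k] N) ((1 : R) ⊗ₜ[k] y : R ⊗[k] S) := by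
  have hinj : Function.Injective (Algebra.lsmul k k N y : N →ₗ[k] N) := h
  have h2 := Module.Flat.lTensor_preserves_injective_linearMap (M := M) _ hinj
  intro a b hab
  apply h2
  rw [← smul_right_eq (R := R) y a, ← smul_right_eq (R := R) y b]
  exact hab

end Reg

section QuotL

variable {k : Type u} [Field k] {R : Type u} [CommRing R] [Algebra k R]
  {S : Type u} [CommRing S] [Algebra k S]
  {M : Type u} [AddCommGroup M] [Module R M] [Module k M] [IsScalarTower k R M]
  {N : Type u} [AddCommGroup N] [Module S N] [Module k N] [IsScalarTower k S N]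

open Pointwise

theorem smul_left_quot_eq_zero (x : R) (w : (QuotSMulTop x M) ⊗[k] N) :
    (x ⊗ₜ[k] (1 : S) : R ⊗[k] S) • w = 0 := by
  induction w using TensorProduct.induction_on with
  | zero => rw [smul_zero]
  | tmul m n =>
    obtain ⟨m, rfl⟩ := Submodule.Quotient.mk_surjective _ m
    rw [smul_tmul_tmul, ← Submodule.Quotient.mk_smul,
      (Submodule.Quotient.mk_eq_zero _).2 (Submodule.smul_mem_pointwise_smul m x ⊤ trivial),
      zero_tmul]
  | add a b ha hb => rw [smul_add, ha, hb, add_zero]

/-- `M ⊗ N → (M/xM) ⊗ N`. -/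
noncomputable def quotMapL (x : R) : M ⊗[k] N →ₗ[R ⊗[k] S] (QuotSMulTop x M) ⊗[k] N :=
  mapU (Submodule.mkQ _) LinearMap.id

theorem quotMapL_surjective (x : R) :
    Function.Surjective (quotMapL (k := k) (S := S) (M := M) (N := N) x) :=
  mapU_surjective _ _ (Submodule.mkQ_surjective _) Function.surjective_id

theorem ker_quotMapL (x : R) :
    LinearMap.ker (quotMapL (k := k) (S := S) (M := M) (N := N) x) =
      (x ⊗ₜ[k] (1 : S) : R ⊗[k] S) • (⊤ : Submodule (R ⊗[k] S) (M ⊗[k] N)) := by
  apply le_antisymm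
  · intro w hw
    let P : Submodule R M := x • (⊤ : Submodule R M)
    let f : P →ₗ[k] M := P.subtype.restrictScalars k
    let g : M →ₗ[k] QuotSMulTop x M := P.mkQ.restrictScalars k
    have hex : Function.Exact f g := LinearMap.exact_subtype_mkQ P
    have hsurj : Function.Surjective g := Submodule.mkQ_surjective P
    have h2 := rTensor_exact N hex hsurj
    have hw' : LinearMap.rTensor N g w = 0 := by
      have : quotMapL (k := k) (S := S) (M := M) (N := N) x w = 0 := hw
      exact this
    have key : ∀ z : (P : Type u) ⊗[k] N, LinearMap.rTensor N f z ∈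
        (x ⊗ₜ[k] (1 : S) : R ⊗[k] S) • (⊤ : Submodule (R ⊗[k] S) (M ⊗[k] N)) := by
      intro z
      induction z using TensorProduct.induction_on with
      | zero => rw [map_zero]; exact zero_mem _
      | tmul p n =>
        rw [LinearMap.rTensor_tmul]
        obtain ⟨m, -, hm⟩ := (Submodule.mem_smul_pointwise_iff_exists _ _ _).1 p.2
        have : f p ⊗ₜ[k] n = (x ⊗ₜ[k] (1 : S) : R ⊗[k] S) • (m ⊗ₜ[k] n) := by
          rw [smul_tmul_tmul, one_smul, hm]; rfl
        rw [this]
        exact Submodule.smul_mem_pointwise_smul _ _ _ trivial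
      | add a b ha hb =>
        rw [map_add]
        exact add_mem ha hb
    obtain ⟨z, rfl⟩ := (h2 w).1 hw'
    exact key z
  · intro w hw
    obtain ⟨v, -, rfl⟩ := (Submodule.mem_smul_pointwise_iff_exists _ _ _).1 hw
    rw [LinearMap.mem_ker, map_smul, smul_left_quot_eq_zero]

/-- `(M ⊗ N)/(x ⊗ 1) ≃ (M/xM) ⊗ N`. -/
noncomputable def quotEquivL (x : R) :
    QuotSMulTop (x ⊗ₜ[k] (1 : S) : R ⊗[k] S) (M ⊗[k] N) ≃ₗ[R ⊗[k] S]
      (QuotSMulTop x M) ⊗[k] N :=
  (Submodule.quotEquivOfEq _ _ (ker_quotMapL (k := k) (S := S) (M := M) (N := N) x).symm).trans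
    ((quotMapL (k := k) (S := S) (M := M) (N := N) x).quotKerEquivOfSurjective
      (quotMapL_surjective x))

end QuotL

section QuotR

variable {k : Type u} [Field k] {R : Type u} [CommRing R] [Algebra k R]
  {S : Type u} [CommRing S] [Algebra k S]
  {M : Type u} [AddCommGroup M] [Module R M] [Module k M] [IsScalarTower k R M]
  {N : Type u} [AddCommGroup N] [Module S N] [Module k N] [IsScalarTower k S N]

open Pointwise

theorem smul_right_quot_eq_zero (y : S) (w : M ⊗[k] (QuotSMulTop y N)) :
    ((1 : R) ⊗ₜ[k] y : R ⊗[k] S) • w = 0 := by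
  induction w using TensorProduct.induction_on with
  | zero => rw [smul_zero]
  | tmul m n =>
    obtain ⟨n, rfl⟩ := Submodule.Quotient.mk_surjective _ n
    rw [smul_tmul_tmul, ← Submodule.Quotient.mk_smul,
      (Submodule.Quotient.mk_eq_zero _).2 (Submodule.smul_mem_pointwise_smul n y ⊤ trivial),
      tmul_zero]
  | add a b ha hb => rw [smul_add, ha, hb, add_zero]

/-- `M ⊗ N → M ⊗ (N/yN)`. -/
noncomputable def quotMapR (y : S) : M ⊗[k] N →ₗ[R ⊗[k] S] M ⊗[k] (QuotSMulTop y N) :=
  mapU LinearMap.id (Submodule.mkQ _)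

theorem quotMapR_surjective (y : S) :
    Function.Surjective (quotMapR (k := k) (R := R) (M := M) (N := N) y) :=
  mapU_surjective _ _ Function.surjective_id (Submodule.mkQ_surjective _)

theorem ker_quotMapR (y : S) :
    LinearMap.ker (quotMapR (k := k) (R := R) (M := M) (N := N) y) =
      ((1 : R) ⊗ₜ[k] y : R ⊗[k] S) • (⊤ : Submodule (R ⊗[k] S) (M ⊗[k] N)) := by
  apply le_antisymm
  · intro w hw
    let P : Submodule S N := y • (⊤ : Submodule S N)
    let f : P →ₗ[k] N := P.subtype.restrictScalars k
    let g : N →ₗ[k] QuotSMulTop y N := P.mkQ.restrictScalars k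
    have hex : Function.Exact f g := LinearMap.exact_subtype_mkQ P
    have hsurj : Function.Surjective g := Submodule.mkQ_surjective P
    have h2 := lTensor_exact M hex hsurj
    have hw' : LinearMap.lTensor M g w = 0 := by
      have : quotMapR (k := k) (R := R) (M := M) (N := N) y w = 0 := hw
      exact this
    have key : ∀ z : M ⊗[k] (P : Type u), LinearMap.lTensor M f z ∈
        ((1 : R) ⊗ₜ[k] y : R ⊗[k] S) • (⊤ : Submodule (R ⊗[k] S) (M ⊗[k] N)) := by
      intro z
      induction z using TensorProduct.induction_on with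
      | zero => rw [map_zero]; exact zero_mem _
      | tmul m p =>
        rw [LinearMap.lTensor_tmul]
        obtain ⟨n, -, hn⟩ := (Submodule.mem_smul_pointwise_iff_exists _ _ _).1 p.2
        have : m ⊗ₜ[k] f p = ((1 : R) ⊗ₜ[k] y : R ⊗[k] S) • (m ⊗ₜ[k] n) := by
          rw [smul_tmul_tmul, one_smul, hn]; rfl
        rw [this]
        exact Submodule.smul_mem_pointwise_smul _ _ _ trivial
      | add a b ha hb =>
        rw [map_add]
        exact add_mem ha hb
    obtain ⟨z, rfl⟩ := (h2 w).1 hw'
    exact key z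
  · intro w hw
    obtain ⟨v, -, rfl⟩ := (Submodule.mem_smul_pointwise_iff_exists _ _ _).1 hw
    rw [LinearMap.mem_ker, map_smul, smul_right_quot_eq_zero]

/-- `(M ⊗ N)/(1 ⊗ y) ≃ M ⊗ (N/yN)`. -/
noncomputable def quotEquivR (y : S) :
    QuotSMulTop ((1 : R) ⊗ₜ[k] y : R ⊗[k] S) (M ⊗[k] N) ≃ₗ[R ⊗[k] S]
      M ⊗[k] (QuotSMulTop y N) :=
  (Submodule.quotEquivOfEq _ _ (ker_quotMapR (k := k) (R := R) (M := M) (N := N) y).symm).trans
    ((quotMapR (k := k) (R := R) (M := M) (N := N) y).quotKerEquivOfSurjective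
      (quotMapR_surjective y))

end QuotR

section Main

variable {k : Type u} [Field k] {R : Type u} [CommRing R] [Algebra k R]
  {S : Type u} [CommRing S] [Algebra k S]

/-- `1 ⊗ y₁, …, 1 ⊗ y_s` is weakly regular on `M ⊗ N`. -/
theorem isWeaklyRegular_right
    (M : Type u) [AddCommGroup M] [Module R M] [Module k M] [IsScalarTower k R M]
    (ys : List S) :
    ∀ (N : Type u) [AddCommGroup N] [Module S N] [Module k N] [IsScalarTower k S N],
      IsWeaklyRegular N ys →
      IsWeaklyRegular (M ⊗[k] N)
        (ys.map (fun y => ((1 : R) ⊗ₜ[k] y : R ⊗[k] S))) := by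
  induction ys with
  | nil => intro N _ _ _ _ _; exact IsWeaklyRegular.nil _ _
  | cons y ys ih =>
    intro N _ _ _ _ h
    rw [isWeaklyRegular_cons_iff] at h
    rw [List.map_cons, isWeaklyRegular_cons_iff]
    refine ⟨isSMulRegular_right h.1, ?_⟩
    exact ((quotEquivR (k := k) (R := R) (M := M) (N := N) y).isWeaklyRegular_congr _).2
      (ih (QuotSMulTop y N) h.2)

/-- `x₁ ⊗ 1, …, x_r ⊗ 1, 1 ⊗ y₁, …, 1 ⊗ y_s` is weakly regular on `M ⊗ N`. -/
theorem isWeaklyRegular_tensor
    (N : Type u) [AddCommGroup N] [Module S N] [Module k N] [IsScalarTower k S N]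
    (ys : List S) (hys : IsWeaklyRegular N ys) (xs : List R) :
    ∀ (M : Type u) [AddCommGroup M] [Module R M] [Module k M] [IsScalarTower k R M],
      IsWeaklyRegular M xs →
      IsWeaklyRegular (M ⊗[k] N)
        (xs.map (fun x => (x ⊗ₜ[k] (1 : S) : R ⊗[k] S)) ++
          ys.map (fun y => ((1 : R) ⊗ₜ[k] y : R ⊗[k] S))) := by
  induction xs with
  | nil =>
    intro M _ _ _ _ _
    rw [List.map_nil, List.nil_append]
    exact isWeaklyRegular_right M ys N hys
  | cons x xs ih =>
    intro M _ _ _ _ h
    rw [isWeaklyRegular_cons_iff] at h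
    rw [List.map_cons, List.cons_append, isWeaklyRegular_cons_iff]
    refine ⟨isSMulRegular_left h.1, ?_⟩
    exact ((quotEquivL (k := k) (S := S) (M := M) (N := N) x).isWeaklyRegular_congr _).2
      (ih (QuotSMulTop x M) h.2)

end Main

end Groth.Agent.Lib.GrSegU
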