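import Groth.Agent.Lib.GrSegU6
import Groth.Agent.Lib.GrLCMV
import Groth.Agent.Lib.H29Depth
import Groth.Agent.S0318
import Groth.Agent.S13224

/-!
# Vanishing of `H^q_{aL ⊔ aR}(M ⊗ N)` below the sum of the grades, and the Künneth comparison in
low degrees (helper12)
-/

set_option autoImplicit false
set_option linter.unusedSectionVars false
universe u
open scoped TensorProduct

namespace Groth.Agent.Lib.GrSegU

open TensorProduct DirectSum GrLC Groth.Agent.Lib.H2SegreMod Groth.Agent.Lib.GrLCBridge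
  Groth.Agent.Lib.GrVer Groth.Agent.Lib.GrVerRow Groth.Agent.Lib.GrLCVan
  Groth.Agent.Lib.GrSegConv Groth.Agent.Lib.H87GrShift Groth.Agent.Lib.H74GrLES
  RingTheory.Sequence Groth.Agent.Lib.GrLCMV

attribute [local instance] actModule

section Top

variable {k : Type u} [Field k] {R : Type u} [CommRing R] [Algebra k R]
  {S : Type u} [CommRing S] [Algebra k S]
  {M : Type u} [AddCommGroup M] [Module R M] [Module k M] [IsScalarTower k R M]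
  {N : Type u} [AddCommGroup N] [Module S N] [Module k N] [IsScalarTower k S N]

/-- A `k`-linear functional on `M` killing `I M` and not identically zero, when `I M ≠ M`. -/
theorem exists_functional_of_smul_top_ne_top (I : Ideal R)
    (hIM : I • (⊤ : Submodule R M) ≠ ⊤) :
    ∃ (l : M →ₗ[k] k) (m₀ : M), l m₀ = 1 ∧ ∀ m ∈ I • (⊤ : Submodule R M), l m = 0 := by
  have hnt : Nontrivial (M ⧸ (I • (⊤ : Submodule R M))) :=
    Submodule.Quotient.nontrivial_iff.2 hIM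
  obtain ⟨q, hq⟩ := exists_ne (0 : M ⧸ (I • (⊤ : Submodule R M)))
  obtain ⟨l', hl'⟩ := exists_functional_eq_one (k := k) hq
  obtain ⟨m₀, rfl⟩ := Submodule.Quotient.mk_surjective _ q
  refine ⟨l' ∘ₗ ((I • (⊤ : Submodule R M)).mkQ.restrictScalars k), m₀, hl', ?_⟩
  intro m hm
  show l' (Submodule.Quotient.mk m) = 0
  rw [(Submodule.Quotient.mk_eq_zero _).2 hm, map_zero]

theorem smul_top_ne_top_tensor (I : Ideal R) (J : Ideal S)
    (hIM : I • (⊤ : Submodule R M) ≠ ⊤) (hJN : J • (⊤ : Submodule S N) ≠ ⊤) :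
    (I.map (Algebra.TensorProduct.includeLeftRingHom : R →+* R ⊗[k] S) ⊔
      J.map ((Algebra.TensorProduct.includeRight : S →ₐ[k] R ⊗[k] S).toRingHom)) •
        (⊤ : Submodule (R ⊗[k] S) (M ⊗[k] N)) ≠ ⊤ := by
  obtain ⟨l₁, m₀, hl₁, hl₁'⟩ := exists_functional_of_smul_top_ne_top (k := k) I hIM
  obtain ⟨l₂, n₀, hl₂, hl₂'⟩ := exists_functional_of_smul_top_ne_top (k := k) J hJN
  let l : M ⊗[k] N →ₗ[k] k := (TensorProduct.lid k k).toLinearMap ∘ₗ TensorProduct.map l₁ l₂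
  have hl : ∀ m n, l (m ⊗ₜ[k] n) = l₁ m * l₂ n := by
    intro m n
    simp [l]
  -- generators of the first kind
  have hL : ∀ r ∈ I, ∀ w : M ⊗[k] N, l ((r ⊗ₜ[k] (1 : S) : R ⊗[k] S) • w) = 0 := by
    intro r hr w
    induction w using TensorProduct.induction_on with
    | zero => rw [smul_zero, map_zero]
    | tmul m n =>
      rw [smul_tmul_tmul, hl, hl₁' _ (Submodule.smul_mem_smul hr trivial), zero_mul]
    | add a b ha hb => rw [smul_add, map_add, ha, hb, add_zero]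
  have hR : ∀ s ∈ J, ∀ w : M ⊗[k] N, l (((1 : R) ⊗ₜ[k] s : R ⊗[k] S) • w) = 0 := by
    intro s hs w
    induction w using TensorProduct.induction_on with
    | zero => rw [smul_zero, map_zero]
    | tmul m n =>
      rw [smul_tmul_tmul, hl, hl₂' _ (Submodule.smul_mem_smul hs trivial), mul_zero]
    | add a b ha hb => rw [smul_add, map_add, ha, hb, add_zero]
  have hmapL : ∀ a ∈ I.map (Algebra.TensorProduct.includeLeftRingHom : R →+* R ⊗[k] S),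
      ∀ w : M ⊗[k] N, l (a • w) = 0 := by
    intro a ha
    unfold Ideal.map at ha
    induction ha using Submodule.span_induction with
    | mem x hx =>
      obtain ⟨r, hr, rfl⟩ := hx
      exact hL r hr
    | zero => intro w; rw [zero_smul, map_zero]
    | add x y _ _ hx hy => intro w; rw [add_smul, map_add, hx, hy, add_zero]
    | smul c x _ hx =>
      intro w
      rw [smul_eq_mul, mul_comm, mul_smul]
      exact hx _
  have hmapR : ∀ a ∈ J.map ((Algebra.TensorProduct.includeRight : S →ₐ[k] R ⊗[k] S).toRingHom),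
      ∀ w : M ⊗[k] N, l (a • w) = 0 := by
    intro a ha
    unfold Ideal.map at ha
    induction ha using Submodule.span_induction with
    | mem x hx =>
      obtain ⟨s, hs, rfl⟩ := hx
      exact hR s hs
    | zero => intro w; rw [zero_smul, map_zero]
    | add x y _ _ hx hy => intro w; rw [add_smul, map_add, hx, hy, add_zero]
    | smul c x _ hx =>
      intro w
      rw [smul_eq_mul, mul_comm, mul_smul]
      exact hx _
  intro htop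
  have h1 : (m₀ ⊗ₜ[k] n₀ : M ⊗[k] N) ∈
      (I.map (Algebra.TensorProduct.includeLeftRingHom : R →+* R ⊗[k] S) ⊔
      J.map ((Algebra.TensorProduct.includeRight : S →ₐ[k] R ⊗[k] S).toRingHom)) •
        (⊤ : Submodule (R ⊗[k] S) (M ⊗[k] N)) := by
    rw [htop]; trivial
  have h2 : ∀ w ∈ (I.map (Algebra.TensorProduct.includeLeftRingHom : R →+* R ⊗[k] S) ⊔
      J.map ((Algebra.TensorProduct.includeRight : S →ₐ[k] R ⊗[k] S).toRingHom)) •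
        (⊤ : Submodule (R ⊗[k] S) (M ⊗[k] N)), l w = 0 := by
    intro w hw
    refine Submodule.smul_induction_on hw ?_ ?_
    · intro a ha w _
      obtain ⟨a₁, ha₁, a₂, ha₂, rfl⟩ := Submodule.mem_sup.1 ha
      rw [add_smul, map_add, hmapL a₁ ha₁, hmapR a₂ ha₂, add_zero]
    · intro x y hx hy
      rw [map_add, hx, hy, add_zero]
  have h3 := h2 _ h1
  rw [hl, hl₁, hl₂, one_mul] at h3
  exact one_ne_zero h3

end Top

section Van

variable {k : Type u} [Field k] {R : Type u} [CommRing R] [Algebra k R] (𝒜 : ℤ → Submodule k R)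
  [GradedAlgebra 𝒜]
  {S : Type u} [CommRing S] [Algebra k S] (ℬ : ℤ → Submodule k S) [GradedAlgebra ℬ]
  {M : Type u} [AddCommGroup M] [Module R M] [Module k M] [IsScalarTower k R M]
  (ℳ : ℤ → AddSubgroup M) [DirectSum.Decomposition ℳ] [SetLike.GradedSMul 𝒜 ℳ]
  {N : Type u} [AddCommGroup N] [Module S N] [Module k N] [IsScalarTower k S N]
  (𝒩 : ℤ → AddSubgroup N) [DirectSum.Decomposition 𝒩] [SetLike.GradedSMul ℬ 𝒩]
  [IsNoetherianRing R] [IsNoetherianRing S] [IsNoetherianRing (R ⊗[k] S)]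
  [Module.Finite R M] [Module.Finite S N]
  (mR : HomogeneousIdeal 𝒜) (mS : HomogeneousIdeal ℬ)

theorem aL_sup_aR_toIdeal :
    (aL 𝒜 ℬ mR ⊔ aR 𝒜 ℬ mS).toIdeal =
      mR.toIdeal.map (Algebra.TensorProduct.includeLeftRingHom : R →+* R ⊗[k] S) ⊔
        mS.toIdeal.map ((Algebra.TensorProduct.includeRight : S →ₐ[k] R ⊗[k] S).toRingHom) := by
  rw [HomogeneousIdeal.toIdeal_sup, aL_toIdeal, aR_toIdeal]
  rfl

/-- `H^q_{aL ⊔ aR}(M ⊗ N) = 0` for `q < grade(mR, M) + grade(mS, N)`. -/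
theorem subsingleton_H_sup (hIM : mR.toIdeal • (⊤ : Submodule R M) ≠ ⊤)
    (hJN : mS.toIdeal • (⊤ : Submodule S N) ≠ ⊤) (r s : ℕ)
    (hr : (r : ℕ∞) ≤ LocCoh.idealDepth mR.toIdeal M)
    (hs : (s : ℕ∞) ≤ LocCoh.idealDepth mS.toIdeal N)
    (E : StarInjRes (uGr 𝒜 ℬ) (biGr 𝒜 ℳ ℬ 𝒩)) (q : ℕ) (hq : q < r + s) :
    Subsingleton (E.H (aL 𝒜 ℬ mR ⊔ aR 𝒜 ℬ mS) q) := by
  obtain ⟨xs, hxl, hxm, hxr⟩ :=
    (Groth.Agent.Lib.H29Depth.le_idealDepth_iff mR.toIdeal M hIM r).1 hr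
  obtain ⟨ys, hyl, hym, hyr⟩ :=
    (Groth.Agent.Lib.H29Depth.le_idealDepth_iff mS.toIdeal N hJN s).1 hs
  have hreg := isWeaklyRegular_tensor (k := k) N ys hyr.toIsWeaklyRegular xs M
    hxr.toIsWeaklyRegular
  have hIW : (aL 𝒜 ℬ mR ⊔ aR 𝒜 ℬ mS).toIdeal • (⊤ : Submodule (R ⊗[k] S) (M ⊗[k] N)) ≠ ⊤ := by
    rw [aL_sup_aR_toIdeal]
    exact smul_top_ne_top_tensor _ _ hIM hJN
  have hmem : ∀ a ∈ (xs.map (fun x => (x ⊗ₜ[k] (1 : S) : R ⊗[k] S)) ++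
      ys.map (fun y => ((1 : R) ⊗ₜ[k] y : R ⊗[k] S))),
      a ∈ (aL 𝒜 ℬ mR ⊔ aR 𝒜 ℬ mS).toIdeal := by
    intro a ha
    rw [aL_sup_aR_toIdeal]
    rcases List.mem_append.1 ha with ha | ha
    · obtain ⟨x, hx, rfl⟩ := List.mem_map.1 ha
      exact Ideal.mem_sup_left (Ideal.mem_map_of_mem _ (hxm x hx))
    · obtain ⟨y, hy, rfl⟩ := List.mem_map.1 ha
      exact Ideal.mem_sup_right (Ideal.mem_map_of_mem _ (hym y hy))
  have hd : ((r + s : ℕ) : ℕ∞) ≤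
      LocCoh.idealDepth (aL 𝒜 ℬ mR ⊔ aR 𝒜 ℬ mS).toIdeal (M ⊗[k] N) := by
    rw [Groth.Agent.Lib.H29Depth.idealDepth_eq_iSup _ _ hIW]
    refine le_iSup₂_of_le _ ⟨hreg, hmem⟩ ?_
    rw [List.length_append, List.length_map, List.length_map, hxl, hyl]
  have hfin : Module.Finite (R ⊗[k] S) (M ⊗[k] N) := actModule_finite k R S M N
  obtain ⟨e⟩ := Groth.Agent.S13224.main (aL 𝒜 ℬ mR ⊔ aR 𝒜 ℬ mS) E q
  have := Groth.Agent.S0318.subsingleton_H_of_lt (aL 𝒜 ℬ mR ⊔ aR 𝒜 ℬ mS).toIdeal (M ⊗[k] N)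
    hIW (r + s) hd q hq
  exact e.toEquiv.subsingleton

theorem Hcomp_sup_eq_bot (hIM : mR.toIdeal • (⊤ : Submodule R M) ≠ ⊤)
    (hJN : mS.toIdeal • (⊤ : Submodule S N) ≠ ⊤) (r s : ℕ)
    (hr : (r : ℕ∞) ≤ LocCoh.idealDepth mR.toIdeal M)
    (hs : (s : ℕ∞) ≤ LocCoh.idealDepth mS.toIdeal N)
    (E : StarInjRes (uGr 𝒜 ℬ) (biGr 𝒜 ℳ ℬ 𝒩)) (q : ℕ) (hq : q < r + s) (p : ℤ × ℤ) :
    E.Hcomp (aL 𝒜 ℬ mR ⊔ aR 𝒜 ℬ mS) q p = ⊥ := by
  have := subsingleton_H_sup 𝒜 ℬ ℳ 𝒩 mR mS hIM hJN r s hr hs E q hq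
  exact Submodule.eq_bot_of_subsingleton

end Van

section Core

variable {k : Type u} [Field k] {R : Type u} [CommRing R] [Algebra k R] {𝒜 : ℤ → Submodule k R}
  [GradedAlgebra 𝒜]
  {S : Type u} [CommRing S] [Algebra k S] {ℬ : ℤ → Submodule k S} [GradedAlgebra ℬ]
  {T : Type u} [CommRing T] [Algebra k T] {𝒯 : ℤ → Submodule k T} [GradedAlgebra 𝒯]
  {ψ : T →ₐ[k] R ⊗[k] S}
  {M : Type u} [AddCommGroup M] [Module R M] [Module k M] [IsScalarTower k R M]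
  {ℳ : ℤ → AddSubgroup M} [DirectSum.Decomposition ℳ] [SetLike.GradedSMul 𝒜 ℳ]
  {N : Type u} [AddCommGroup N] [Module S N] [Module k N] [IsScalarTower k S N]
  {𝒩 : ℤ → AddSubgroup N} [DirectSum.Decomposition 𝒩] [SetLike.GradedSMul ℬ 𝒩]
  {P : Type u} [AddCommGroup P] [Module T P] [Module k P] [IsScalarTower k T P]
  {𝒬 : ℤ → AddSubgroup P} [DirectSum.Decomposition 𝒬] [SetLike.GradedSMul (asGr 𝒯) 𝒬]
  {φ : P →ₗ[k] M ⊗[k] N}
  (hT : GrSeg.IsSegreRing 𝒜 ℬ 𝒯 ψ) (hP : GrSeg.IsSegreMod ψ ℳ 𝒩 𝒬 φ)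
  [IsNoetherianRing R] [IsNoetherianRing S] [IsNoetherianRing T] [IsNoetherianRing (R ⊗[k] S)]
  [Module.Finite R M] [Module.Finite S N]
  (h0R : 𝒜 0 = Submodule.span k {(1 : R)}) (h0S : ℬ 0 = Submodule.span k {(1 : S)})
  (mR : HomogeneousIdeal 𝒜)
  (hmR : mR.toIdeal = Ideal.span (⋃ n ∈ Set.Ioi (0 : ℤ), (𝒜 n : Set R)))
  (mS : HomogeneousIdeal ℬ)
  (hmS : mS.toIdeal = Ideal.span (⋃ n ∈ Set.Ioi (0 : ℤ), (ℬ n : Set S)))
  (mT : HomogeneousIdeal 𝒯)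
  (hmT : mT.toIdeal = Ideal.span (⋃ n ∈ Set.Ioi (0 : ℤ), (𝒯 n : Set T)))

include hT hP hmR hmS hmT h0R h0S in
/-- **Künneth in low degrees.** For `q + 1 < grade(mR, M) + grade(mS, N)`:
`H^q_{T_+}(M # N)_d = 0` iff (`H^q_{mR}(M)_d = 0` or `N_d = 0`) and (`M_d = 0` or
`H^q_{mS}(N)_d = 0`). -/
theorem Hcomp_segre_eq_bot_iff (hIM : mR.toIdeal • (⊤ : Submodule R M) ≠ ⊤)
    (hJN : mS.toIdeal • (⊤ : Submodule S N) ≠ ⊤) (r s : ℕ)
    (hr : (r : ℕ∞) ≤ LocCoh.idealDepth mR.toIdeal M)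
    (hs : (s : ℕ∞) ≤ LocCoh.idealDepth mS.toIdeal N)
    (F : StarInjRes (asGr 𝒯) 𝒬) (q : ℕ) (hq : q + 1 < r + s) (d : ℤ) :
    F.Hcomp (toSIdeal mT) q d = ⊥ ↔
      (Van (toSIdeal mR) (GMod.of (asGr 𝒜) M ℳ) q d ∨ 𝒩 d = ⊥) ∧
        (ℳ d = ⊥ ∨ Van (toSIdeal mS) (GMod.of (asGr ℬ) N 𝒩) q d) := by
  let E : StarInjRes (uGr 𝒜 ℬ) (biGr 𝒜 ℳ ℬ 𝒩) :=
    Groth.Agent.S13215.res (𝒜 := uGr 𝒜 ℬ) (biGr 𝒜 ℳ ℬ 𝒩)
  rw [diag_Hcomp_eq_bot_iff hT hP mR hmR mS hmS mT hmT E F q d]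
  have hsup0 := Hcomp_sup_eq_bot 𝒜 ℬ ℳ 𝒩 mR mS hIM hJN r s hr hs E q (by omega) (d, d)
  have hsup1 := Hcomp_sup_eq_bot 𝒜 ℬ ℳ 𝒩 mR mS hIM hJN r s hr hs E (q + 1) hq (d, d)
  constructor
  · intro h
    exact ⟨(Hcomp_aL_eq_bot_iff 𝒜 ℬ ℳ 𝒩 h0S mR E q d d).1
        (Hcomp_eq_bot_left_of_inf E _ _ q (d, d) hsup0 h),
      (Hcomp_aR_eq_bot_iff 𝒜 ℬ ℳ 𝒩 h0R mS E q d d).1
        (Hcomp_eq_bot_right_of_inf E _ _ q (d, d) hsup0 h)⟩
  · rintro ⟨h1, h2⟩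
    exact Hcomp_inf_eq_bot E _ _ q (d, d) hsup1
      ((Hcomp_aL_eq_bot_iff 𝒜 ℬ ℳ 𝒩 h0S mR E q d d).2 h1)
      ((Hcomp_aR_eq_bot_iff 𝒜 ℬ ℳ 𝒩 h0R mS E q d d).2 h2)

end Core

end Groth.Agent.Lib.GrSegU
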