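import Mathlib

/-!
# A surjection from a polynomial ring onto an algebra smooth along an augmentation section

Let `φ : A[X_i] → B` be a surjective `A`-algebra map, `ε : B → A` an augmentation with
`ε (φ X_i) = 0`, and assume `ker φ ⊆ (X_i)^2`. If `B` is smooth over `A` at all primes
`ε⁻¹(𝔭)` (`𝔭` prime of `A`), then `φ` is injective (`injective_of_isSmoothAt`).

The proof uses the split injectivity of `K/K² → S ⊗ Ω_P` (`Algebra.FormallySmooth.iff_split_injection`)
for the localizations, giving `K ∩ I² ⊆ I K + K²` (`ker_inf_sq_le`), hence `K = I K` locally on `A`,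
hence globally, hence `K ⊆ ⋂ I^m = 0`.
-/

set_option autoImplicit false

open scoped TensorProduct
open KaehlerDifferential MvPolynomial

universe u v w

namespace Groth.Agent.Lib.GrSmooth76

section LemmaA

variable {R : Type u} {P : Type v} {S : Type w} [CommRing R] [CommRing P] [CommRing S]
  [Algebra R P] [Algebra P S] [Algebra R S] [IsScalarTower R P S]

/-- `D x ∈ I • Ω` for `x ∈ I ^ 2`. -/
theorem D_mem_smul_top_of_mem_sq (I : Ideal P) {x : P} (hx : x ∈ I ^ 2) :
    D R P x ∈ I • (⊤ : Submodule P Ω[P⁄R]) := by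
  rw [pow_two] at hx
  refine Submodule.mul_induction_on hx (fun a ha b hb => ?_) (fun a b ha hb => ?_)
  · rw [Derivation.leibniz]
    exact add_mem (Submodule.smul_mem_smul ha Submodule.mem_top)
      (Submodule.smul_mem_smul hb Submodule.mem_top)
  · rw [map_add]; exact add_mem ha hb

theorem map_mem_smul_top {M N : Type*} [AddCommGroup M] [Module P M] [AddCommGroup N] [Module P N]
    (f : M →ₗ[P] N) (I : Ideal P) {m : M} (hm : m ∈ I • (⊤ : Submodule P M)) :
    f m ∈ I • (⊤ : Submodule P N) := by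
  refine Submodule.smul_induction_on hm (fun c hc y _ => ?_) (fun y₁ y₂ h₁ h₂ => ?_)
  · rw [map_smul]; exact Submodule.smul_mem_smul hc Submodule.mem_top
  · rw [map_add]; exact add_mem h₁ h₂

/-- Key consequence of the split injectivity of `K/K² → S ⊗ Ω_P` for smooth `S = P/K`. -/
theorem ker_inf_sq_le [Algebra.FormallySmooth R P] [Algebra.FormallySmooth R S]
    (hf : Function.Surjective (algebraMap P S)) (I : Ideal P) :
    RingHom.ker (algebraMap P S) ⊓ I ^ 2 ≤
      I * RingHom.ker (algebraMap P S) + RingHom.ker (algebraMap P S) ^ 2 := by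
  obtain ⟨l, hl⟩ := (Algebra.FormallySmooth.iff_split_injection (R := R) hf).mp inferInstance
  intro x ⟨hxK, hxI⟩
  let xK : RingHom.ker (algebraMap P S) := ⟨x, hxK⟩
  have h1 : (RingHom.ker (algebraMap P S)).toCotangent xK = l ((1 : S) ⊗ₜ[P] D R P x) := by
    have := LinearMap.congr_fun hl ((RingHom.ker (algebraMap P S)).toCotangent xK)
    rw [LinearMap.comp_apply, kerCotangentToTensor_toCotangent] at this
    exact this.symm
  have h2 : ((1 : S) ⊗ₜ[P] D R P x) ∈ I • (⊤ : Submodule P (S ⊗[P] Ω[P⁄R])) :=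
    map_mem_smul_top (TensorProduct.mk P S Ω[P⁄R] 1) I (D_mem_smul_top_of_mem_sq I hxI)
  have h3 : (RingHom.ker (algebraMap P S)).toCotangent xK ∈
      I • (⊤ : Submodule P (RingHom.ker (algebraMap P S)).Cotangent) := by
    rw [h1]; exact map_mem_smul_top l I h2
  have h4 : I • (⊤ : Submodule P (RingHom.ker (algebraMap P S)).Cotangent) =
      (I • (⊤ : Submodule P (RingHom.ker (algebraMap P S)))).map
        (RingHom.ker (algebraMap P S)).toCotangent := by
    rw [Submodule.map_smul'', Submodule.map_top,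
      LinearMap.range_eq_top.mpr (RingHom.ker (algebraMap P S)).toCotangent_surjective]
  rw [h4] at h3
  obtain ⟨z, hz, hzx⟩ := h3
  have h5 : ((z : P)) ∈ I * RingHom.ker (algebraMap P S) := by
    have : (I • (⊤ : Submodule P (RingHom.ker (algebraMap P S)))).map
        (RingHom.ker (algebraMap P S)).subtype = I * RingHom.ker (algebraMap P S) := by
      rw [Submodule.map_smul'', Submodule.map_subtype_top, smul_eq_mul]
    rw [← this]; exact ⟨z, hz, rfl⟩
  have h6 : ((xK : P) - (z : P)) ∈ RingHom.ker (algebraMap P S) ^ 2 :=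
    ((RingHom.ker (algebraMap P S)).toCotangent_eq).mp hzx.symm
  have : x = (z : P) + ((xK : P) - (z : P)) := by simp [xK]
  rw [this]
  exact Submodule.add_mem_sup h5 h6

end LemmaA

section LemmaB

variable {A : Type u} {P : Type w} {B : Type w} [CommRing A] [CommRing P] [CommRing B] [Algebra A P] [Algebra A B]

theorem exists_mul_mem_of_isSmoothAt [Algebra.FormallySmooth A P]
    (φ : P →ₐ[A] B) (hφ : Function.Surjective φ) (Q : Ideal B) [Q.IsPrime]
    [Algebra.IsSmoothAt A Q] (I : Ideal P) (hI : RingHom.ker φ ≤ I)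
    {f : P} (hfK : f ∈ RingHom.ker φ) (hfI : f ∈ I ^ 2) :
    ∃ u : P, φ u ∉ Q ∧ u * f ∈ I * RingHom.ker φ := by
  classical
  let 𝔮 : Ideal P := Q.comap (φ : P →+* B)
  let ψ : Localization.AtPrime 𝔮 →+* Localization.AtPrime Q :=
    Localization.localRingHom 𝔮 Q (φ : P →+* B) rfl
  have hψ : Function.Surjective ψ := RingHom.surjective_localRingHom_of_surjective _ hφ Q
  let _ : Algebra (Localization.AtPrime 𝔮) (Localization.AtPrime Q) := ψ.toAlgebra
  have hst : IsScalarTower A (Localization.AtPrime 𝔮) (Localization.AtPrime Q) := by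
    refine IsScalarTower.of_algebraMap_eq' ?_
    ext a
    rw [RingHom.comp_apply, RingHom.algebraMap_toAlgebra,
      IsScalarTower.algebraMap_apply A P (Localization.AtPrime 𝔮),
      IsScalarTower.algebraMap_apply A B (Localization.AtPrime Q)]
    change _ = Localization.localRingHom 𝔮 Q (φ : P →+* B) rfl _
    rw [Localization.localRingHom_to_map]
    simp
  have hsurj : Function.Surjective
      (algebraMap (Localization.AtPrime 𝔮) (Localization.AtPrime Q)) := hψ
  have hsmQ : Algebra.FormallySmooth A (Localization.AtPrime Q) := ‹Algebra.IsSmoothAt A Q›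
  have key := ker_inf_sq_le (R := A) hsurj (I.map (algebraMap P (Localization.AtPrime 𝔮)))
  -- kernel of localized map
  have hmapcompl : Submonoid.map (φ : P →+* B) 𝔮.primeCompl = Q.primeCompl := by
    ext b
    constructor
    · rintro ⟨x, hx, rfl⟩
      exact hx
    · intro hb
      obtain ⟨x, rfl⟩ := hφ b
      exact ⟨x, hb, rfl⟩
  have hker : RingHom.ker (algebraMap (Localization.AtPrime 𝔮) (Localization.AtPrime Q)) =
      (RingHom.ker φ).map (algebraMap P (Localization.AtPrime 𝔮)) := by
    have := IsLocalization.ker_map (S := Localization.AtPrime 𝔮) (Localization.AtPrime Q)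
      (φ : P →+* B) hmapcompl
    exact this
  have hxK : algebraMap P (Localization.AtPrime 𝔮) f ∈
      RingHom.ker (algebraMap (Localization.AtPrime 𝔮) (Localization.AtPrime Q)) := by
    rw [hker]; exact Ideal.mem_map_of_mem _ hfK
  have hxI : algebraMap P (Localization.AtPrime 𝔮) f ∈
      (I.map (algebraMap P (Localization.AtPrime 𝔮))) ^ 2 := by
    rw [← Ideal.map_pow]; exact Ideal.mem_map_of_mem _ hfI
  have hx := key ⟨hxK, hxI⟩
  have hle : I.map (algebraMap P (Localization.AtPrime 𝔮)) *
        RingHom.ker (algebraMap (Localization.AtPrime 𝔮) (Localization.AtPrime Q)) +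
      RingHom.ker (algebraMap (Localization.AtPrime 𝔮) (Localization.AtPrime Q)) ^ 2 ≤
      I.map (algebraMap P (Localization.AtPrime 𝔮)) *
        RingHom.ker (algebraMap (Localization.AtPrime 𝔮) (Localization.AtPrime Q)) := by
    rw [pow_two]
    refine sup_le le_rfl (Ideal.mul_mono_left ?_)
    rw [hker]; exact Ideal.map_mono hI
  have hx2 : algebraMap P (Localization.AtPrime 𝔮) f ∈
      (I * RingHom.ker φ).map (algebraMap P (Localization.AtPrime 𝔮)) := by
    rw [Ideal.map_mul, ← hker]; exact hle hx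
  rw [IsLocalization.mem_map_algebraMap_iff 𝔮.primeCompl] at hx2
  obtain ⟨⟨y, t⟩, hyt⟩ := hx2
  have h1 : algebraMap P (Localization.AtPrime 𝔮) (f * t) =
      algebraMap P (Localization.AtPrime 𝔮) y := by simpa using hyt
  obtain ⟨t', ht'⟩ := (IsLocalization.eq_iff_exists 𝔮.primeCompl (Localization.AtPrime 𝔮)).mp h1
  refine ⟨(t' : P) * (t : P), ?_, ?_⟩
  · exact (t' * t).2
  · have : (t' : P) * (t : P) * f = t' * y := by
      rw [← ht']; ring
    rw [this]
    exact Ideal.mul_mem_left _ _ y.2

end LemmaB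

section Local

variable {A : Type u} {ι : Type v} {B : Type (max v u)} [CommRing A] [CommRing B] [Algebra A B]

/-- `ε ∘ φ` is the constant coefficient. -/
theorem eps_phi (φ : MvPolynomial ι A →ₐ[A] B) (ε : B →ₐ[A] A) (hε : ∀ i, ε (φ (X i)) = 0)
    (f : MvPolynomial ι A) : ε (φ f) = constantCoeff f := by
  have : ε.comp φ = aeval (fun _ => (0 : A)) := by
    apply MvPolynomial.algHom_ext
    intro i
    simp [hε]
  have h := AlgHom.congr_fun this f
  rw [AlgHom.comp_apply] at h
  rw [h]
  have := aeval_zero' (S₁ := A) f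
  simpa using this

theorem sub_C_mem_idealOfVars (f : MvPolynomial ι A) :
    f - C (constantCoeff f) ∈ idealOfVars ι A := by
  have := (mem_pow_idealOfVars_iff' (R := A) (σ := ι) 1 (f - C (constantCoeff f))).mpr ?_
  · simpa using this
  · intro x hx
    have : x = 0 := by
      ext i
      have h0 : Finsupp.degree x = 0 := by omega
      have := (Finsupp.degree_eq_zero_iff x).mp h0
      simp [this]
    subst this
    simp [constantCoeff_eq]

/-- Local step. -/
theorem exists_C_mul_mem (φ : MvPolynomial ι A →ₐ[A] B) (hφ : Function.Surjective φ)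
    (ε : B →ₐ[A] A) (hε : ∀ i, ε (φ (X i)) = 0)
    (hK : RingHom.ker φ ≤ idealOfVars ι A ^ 2)
    (𝔭 : Ideal A) [𝔭.IsPrime] [hsm : Algebra.IsSmoothAt A (𝔭.comap (ε : B →+* A))]
    {f : MvPolynomial ι A} (hf : f ∈ RingHom.ker φ) :
    ∃ a : A, a ∉ 𝔭 ∧ C a * f ∈ idealOfVars ι A * RingHom.ker φ := by
  have hKI : RingHom.ker φ ≤ idealOfVars ι A := hK.trans (Ideal.pow_le_self two_ne_zero)
  obtain ⟨u, hu, huf⟩ := exists_mul_mem_of_isSmoothAt φ hφ (𝔭.comap (ε : B →+* A))
    (idealOfVars ι A) hKI hf (hK hf)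
  refine ⟨constantCoeff u, ?_, ?_⟩
  · rw [← eps_phi φ ε hε u]
    exact hu
  · have : C (constantCoeff u) * f = u * f - (u - C (constantCoeff u)) * f := by ring
    rw [this]
    exact sub_mem huf (Ideal.mul_mem_mul (sub_C_mem_idealOfVars u) hf)

theorem injective_of_isSmoothAt (φ : MvPolynomial ι A →ₐ[A] B) (hφ : Function.Surjective φ)
    (ε : B →ₐ[A] A) (hε : ∀ i, ε (φ (X i)) = 0)
    (hK : RingHom.ker φ ≤ idealOfVars ι A ^ 2)
    (hsm : ∀ (𝔭 : Ideal A) [𝔭.IsPrime], Algebra.IsSmoothAt A (𝔭.comap (ε : B →+* A))) :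
    Function.Injective φ := by
  -- Step 3: K ≤ I * K
  have h3 : RingHom.ker φ ≤ idealOfVars ι A * RingHom.ker φ := by
    intro f hf
    let J : Ideal A := Ideal.comap (C : A →+* MvPolynomial ι A)
      (Submodule.colon (idealOfVars ι A * RingHom.ker φ) {f})
    have hJ : J = ⊤ := by
      by_contra hne
      obtain ⟨𝔪, h𝔪, hle⟩ := Ideal.exists_le_maximal J hne
      have := hsm 𝔪
      obtain ⟨a, ha, haf⟩ := exists_C_mul_mem φ hφ ε hε hK 𝔪 hf
      apply ha
      apply hle
      change C a ∈ Submodule.colon (idealOfVars ι A * RingHom.ker φ) {f}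
      rw [Submodule.mem_colon_singleton, smul_eq_mul]
      exact haf
    have h1 : (1 : A) ∈ J := by rw [hJ]; trivial
    have h1' : (C (1 : A) : MvPolynomial ι A) ∈
        Submodule.colon (idealOfVars ι A * RingHom.ker φ) {f} := h1
    rw [Submodule.mem_colon_singleton, smul_eq_mul] at h1'
    simpa using h1'
  -- Step 4
  have h4 : ∀ m : ℕ, RingHom.ker φ ≤ idealOfVars ι A ^ m := by
    intro m
    induction m with
    | zero => simp
    | succ m ih =>
      refine h3.trans ?_
      rw [pow_succ']
      exact Ideal.mul_mono_right ih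
  rw [injective_iff_map_eq_zero]
  intro f hf
  ext x
  have := (mem_pow_idealOfVars_iff' (R := A) (σ := ι) (Finsupp.degree x + 1) f).mp
    (h4 _ (RingHom.mem_ker.mpr hf)) x (Nat.lt_succ_self _)
  simpa using this

end Local

end Groth.Agent.Lib.GrSmooth76
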