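import Mathlib

/-!
# Graded algebras: a homogeneous section of `B₊ → B₊/B₊²`

For an `ℕ`-graded `A`-algebra `B` with irrelevant ideal `B₊` such that `B₊/B₊²` is finite projective
over `A`, we construct an `A`-linear section `s` of `B₊ → B₊/B₊²` whose image is stable under the
homogeneous projections (`exists_section`). Also: the linear part decomposition of a polynomial
(`sub_linear_mem_sq`).
-/

set_option autoImplicit false

open scoped TensorProduct
open MvPolynomial DirectSum

universe u

namespace Groth.Agent.Lib.GrSmooth76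

section LemmaD

variable {A : Type u} [CommRing A] {ι : Type*} [Fintype ι] [DecidableEq ι]

theorem sub_linear_mem_sq (f : MvPolynomial ι A) :
    f - C (coeff 0 f) - ∑ i, C (coeff (Finsupp.single i 1) f) * X i ∈ idealOfVars ι A ^ 2 := by
  rw [mem_pow_idealOfVars_iff']
  intro x hx
  rw [coeff_sub, coeff_sub, coeff_sum]
  simp_rw [coeff_C_mul, coeff_X, coeff_C]
  have hcases : Finsupp.degree x = 0 ∨ Finsupp.degree x = 1 := by omega
  rcases hcases with h0 | h1
  · have hx0 : x = 0 := (Finsupp.degree_eq_zero_iff x).mp h0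
    subst hx0
    have : ∀ i : ι, (Finsupp.single i 1 : ι →₀ ℕ) ≠ 0 := by
      intro i h
      have := DFunLike.congr_fun h i
      simp at this
    simp [this]
  · -- x = single i 1
    obtain ⟨i, hi⟩ : ∃ i, x = Finsupp.single i 1 := by
      have hne : x ≠ 0 := by
        intro h; rw [h] at h1; simp at h1
      obtain ⟨i, hi⟩ := Finsupp.support_nonempty_iff.mpr hne
      refine ⟨i, ?_⟩
      have hxi : x i ≠ 0 := Finsupp.mem_support_iff.mp hi
      have hdeg : Finsupp.degree x = ∑ j ∈ x.support, x j := rfl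
      ext j
      by_cases hj : j = i
      · subst hj
        rw [Finsupp.single_eq_same]
        have : x j ≤ Finsupp.degree x := by
          rw [hdeg]; exact Finset.single_le_sum (f := fun j => x j) (fun _ _ => Nat.zero_le _) hi
        omega
      · rw [Finsupp.single_eq_of_ne hj]
        by_contra hne'
        have hj' : j ∈ x.support := Finsupp.mem_support_iff.mpr hne'
        have : x i + x j ≤ Finsupp.degree x := by
          rw [hdeg, ← Finset.sum_pair (f := fun j => x j) (Ne.symm hj)]
          apply Finset.sum_le_sum_of_subset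
          intro k hk
          simp only [Finset.mem_insert, Finset.mem_singleton] at hk
          rcases hk with rfl | rfl <;> assumption
        omega
    subst hi
    have h0 : (0 : ι →₀ ℕ) ≠ Finsupp.single i 1 := by
      intro h
      have := DFunLike.congr_fun h i
      simp at this
    simp [h0, Finsupp.single_left_inj]

end LemmaD

section Graded

variable {A B : Type u} [CommRing A] [CommRing B] [Algebra A B]
  (𝒜 : ℕ → Submodule A B) [GradedAlgebra 𝒜]

/-- The irrelevant ideal. -/
local notation "Bp" => HomogeneousIdeal.toIdeal (HomogeneousIdeal.irrelevant 𝒜)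

/-- degree-`d` projection restricted to the irrelevant ideal. -/
noncomputable def prI (d : ℕ) : ↥Bp →ₗ[A] ↥Bp where
  toFun x := ⟨GradedAlgebra.proj 𝒜 d x,
    (HomogeneousIdeal.irrelevant 𝒜).isHomogeneous d x.2⟩
  map_add' x y := by
    apply Subtype.ext
    change GradedAlgebra.proj 𝒜 d ((x : B) + (y : B)) = _
    rw [map_add]
    rfl
  map_smul' a x := by
    apply Subtype.ext
    change GradedAlgebra.proj 𝒜 d (a • (x : B)) = _
    rw [map_smul]
    rfl

@[simp] theorem prI_coe (d : ℕ) (x : ↥Bp) : ((prI 𝒜 d x : ↥Bp) : B) = GradedAlgebra.proj 𝒜 d x := rfl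

theorem prI_prI (d d' : ℕ) (x : ↥Bp) :
    prI 𝒜 d (prI 𝒜 d' x) = if d = d' then prI 𝒜 d x else 0 := by
  ext
  split_ifs with h
  · subst h
    simp only [prI_coe, GradedAlgebra.proj_apply]
    rw [DirectSum.decompose_of_mem_same 𝒜 (SetLike.coe_mem _)]
  · simp only [prI_coe, GradedAlgebra.proj_apply]
    rw [DirectSum.decompose_of_mem_ne 𝒜 (SetLike.coe_mem _) (Ne.symm h)]
    simp

theorem sq_isHomogeneous : (Bp ^ 2).IsHomogeneous 𝒜 := by
  rw [pow_two]
  exact (HomogeneousIdeal.irrelevant 𝒜).isHomogeneous.mul (HomogeneousIdeal.irrelevant 𝒜).isHomogeneous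

/-- The induced projections on the cotangent module. -/
theorem exists_pN (d : ℕ) : ∃ p : (Bp).Cotangent →ₗ[A] (Bp).Cotangent,
    ∀ x : ↥Bp, p ((Bp).toCotangent x) = (Bp).toCotangent (prI 𝒜 d x) := by
  let π : ↥Bp →ₗ[A] (Bp).Cotangent := (Bp).toCotangent.restrictScalars A
  have hπ : Function.Surjective π := (Bp).toCotangent_surjective
  have hker : LinearMap.ker π ≤ LinearMap.ker (π ∘ₗ prI 𝒜 d) := by
    intro x hx
    rw [LinearMap.mem_ker] at hx ⊢
    change (Bp).toCotangent x = 0 at hx
    change (Bp).toCotangent (prI 𝒜 d x) = 0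
    rw [Ideal.toCotangent_eq_zero] at hx ⊢
    exact sq_isHomogeneous 𝒜 d hx
  refine ⟨(LinearMap.ker π).liftQ (π ∘ₗ prI 𝒜 d) hker ∘ₗ
    (π.quotKerEquivOfSurjective hπ).symm.toLinearMap, fun x => ?_⟩
  have : (π.quotKerEquivOfSurjective hπ).symm ((Bp).toCotangent x) = Submodule.Quotient.mk x := by
    rw [LinearEquiv.symm_apply_eq]
    rfl
  simp only [LinearMap.coe_comp, LinearEquiv.coe_coe, Function.comp_apply]
  rw [this]
  rfl

open scoped Classical in
theorem sum_prI (x : ↥Bp) (D : ℕ) (hD : ∀ d ∈ (decompose 𝒜 (x : B)).support, d < D) :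
    ∑ d ∈ Finset.range D, prI 𝒜 d x = x := by
  apply Subtype.ext
  rw [AddSubmonoidClass.coe_finsetSum]
  simp only [prI_coe, GradedAlgebra.proj_apply]
  conv_rhs => rw [← DirectSum.sum_support_decompose 𝒜 (x : B)]
  symm
  apply Finset.sum_subset
  · intro d hd
    exact Finset.mem_range.mpr (hD d hd)
  · intro d _ hd
    simpa using hd


open scoped Classical in
/-- A section of `B₊ → B₊/B₊²` compatible with the grading. -/
theorem exists_section [Module.Finite A (Bp).Cotangent] [Module.Projective A (Bp).Cotangent] : ∃ s : (Bp).Cotangent →ₗ[A] ↥Bp,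
    (∀ n, (Bp).toCotangent (s n) = n) ∧ (∀ d n, ∃ n', prI 𝒜 d (s n) = s n') := by
  classical
  choose p hp using exists_pN 𝒜
  let π : ↥Bp →ₗ[A] (Bp).Cotangent := (Bp).toCotangent.restrictScalars A
  have hπ : Function.Surjective π := (Bp).toCotangent_surjective
  have hpπ : ∀ d x, p d (π x) = π (prI 𝒜 d x) := hp
  obtain ⟨s₀, hs₀⟩ := Module.projective_lifting_property π LinearMap.id hπ
  have hs₀' : ∀ n, π (s₀ n) = n := fun n => LinearMap.congr_fun hs₀ n
  -- orthogonality of the p's
  have hpp : ∀ d d' n, p d (p d' n) = if d = d' then p d n else 0 := by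
    intro d d' n
    obtain ⟨x, rfl⟩ := hπ n
    rw [hpπ, hpπ, prI_prI]
    split_ifs with h
    · rw [hpπ]
    · exact map_zero π
  -- bound
  obtain ⟨S, hS⟩ := (Module.finite_def (R := A) (M := (Bp).Cotangent)).mp inferInstance
  choose x hx using hπ
  let D : ℕ := S.sup (fun n => (decompose 𝒜 ((x n : ↥Bp) : B)).support.sup id) + 1
  have hsum : ∑ d ∈ Finset.range D, p d = LinearMap.id := by
    apply LinearMap.ext_on hS
    intro n hn
    rw [LinearMap.sum_apply, LinearMap.id_apply]
    conv_lhs => rw [← hx n]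
    simp_rw [hpπ]
    rw [← map_sum, sum_prI 𝒜 (x n) D, hx n]
    intro d hd
    have h1 : d ≤ (decompose 𝒜 ((x n : ↥Bp) : B)).support.sup id := Finset.le_sup (f := id) hd
    have h2 : (decompose 𝒜 ((x n : ↥Bp) : B)).support.sup id ≤
        S.sup (fun n => (decompose 𝒜 ((x n : ↥Bp) : B)).support.sup id) :=
      Finset.le_sup (f := fun n => (decompose 𝒜 ((x n : ↥Bp) : B)).support.sup id) hn
    omega
  let s : (Bp).Cotangent →ₗ[A] ↥Bp := ∑ d ∈ Finset.range D, prI 𝒜 d ∘ₗ s₀ ∘ₗ p d
  have hs : ∀ n, s n = ∑ d ∈ Finset.range D, prI 𝒜 d (s₀ (p d n)) := by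
    intro n
    change (∑ d ∈ Finset.range D, prI 𝒜 d ∘ₗ s₀ ∘ₗ p d) n = _
    rw [LinearMap.sum_apply]
    rfl
  refine ⟨s, fun n => ?_, fun d n => ⟨p d n, ?_⟩⟩
  · change π (s n) = n
    rw [hs, map_sum]
    simp_rw [← hpπ, hs₀', hpp, if_true]
    have := LinearMap.congr_fun hsum n
    rwa [LinearMap.sum_apply] at this
  · rw [hs, hs, map_sum]
    simp_rw [prI_prI, hpp]
    apply Finset.sum_congr rfl
    intro d' _
    split_ifs with h1 h2 h2
    · subst h1; rfl
    · exact absurd h1.symm h2
    · exact absurd h2.symm h1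
    · rw [map_zero, map_zero]

end Graded

end Groth.Agent.Lib.GrSmooth76
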