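import Groth.Agent.Lib.GrSmooth76A
import Groth.Agent.Lib.GrSmooth76B

/-!
# A graded algebra smooth along its zero section with free conormal module is a polynomial algebra

`nonempty_algEquiv`: `B` an `ℕ`-graded `A`-algebra with `B₀ = A`, smooth over `A` at all primes
containing `B₊`, `B₊/B₊²` finite free over `A` of rank `n`. Then `B ≃ₐ[A] A[X_1..X_n]`.
-/

set_option autoImplicit false

open scoped TensorProduct
open MvPolynomial DirectSum

universe u

namespace Groth.Agent.Lib.GrSmooth76

section Assembly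

variable {A B : Type u} [CommRing A] [CommRing B] [Algebra A B]
  (𝒜 : ℕ → Submodule A B) [GradedAlgebra 𝒜]

local notation "Bp" => HomogeneousIdeal.toIdeal (HomogeneousIdeal.irrelevant 𝒜)

theorem exists_eps (h0 : ∀ b : B, b ∈ 𝒜 0 ↔ b ∈ Set.range (algebraMap A B))
    (hinj : Function.Injective (algebraMap A B)) :
    ∃ ε : B →ₐ[A] A, ∀ b, algebraMap A B (ε b) = GradedRing.projZeroRingHom 𝒜 b := by
  have h : ∀ b : B, ∃ a : A, algebraMap A B a = GradedRing.projZeroRingHom 𝒜 b := by
    intro b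
    exact (h0 _).mp (SetLike.coe_mem (decompose 𝒜 b 0))
  choose e he using h
  have hA : ∀ a : A, GradedRing.projZeroRingHom 𝒜 (algebraMap A B a) = algebraMap A B a := by
    intro a
    have hmem : algebraMap A B a ∈ 𝒜 0 := (h0 _).mpr ⟨a, rfl⟩
    exact decompose_of_mem_same 𝒜 hmem
  refine ⟨{ toFun := e
            map_one' := hinj (by rw [he, map_one, map_one])
            map_mul' := fun x y => hinj (by rw [he, map_mul, map_mul, he, he])
            map_zero' := hinj (by rw [he, map_zero, map_zero])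
            map_add' := fun x y => hinj (by rw [he, map_add, map_add, he, he])
            commutes' := fun a => hinj (by rw [he]; exact hA a) }, fun b => he b⟩

theorem eps_eq_zero (hinj : Function.Injective (algebraMap A B)) (ε : B →ₐ[A] A)
    (hε : ∀ b, algebraMap A B (ε b) = GradedRing.projZeroRingHom 𝒜 b) {b : B} (hb : b ∈ Bp) :
    ε b = 0 := by
  apply hinj
  rw [hε, map_zero]
  exact hb

open scoped Classical in
theorem proj_mem_of_mem_sq (S : Subalgebra A B) (d : ℕ) (IH : ∀ d' < d, ∀ b ∈ 𝒜 d', b ∈ S)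
    {z : B} (hz : z ∈ Bp ^ 2) : GradedAlgebra.proj 𝒜 d z ∈ S := by
  rw [pow_two] at hz
  refine Submodule.mul_induction_on hz (fun a ha b hb => ?_) (fun a b ha hb => ?_)
  · rw [GradedAlgebra.proj_apply, decompose_mul, DirectSum.coe_mul_apply]
    apply Subalgebra.sum_mem
    intro ij hij
    rw [Finset.mem_filter, Finset.mem_product] at hij
    obtain ⟨⟨hi, hj⟩, hsum⟩ := hij
    have hi0 : ij.1 ≠ 0 := by
      intro h
      rw [DFinsupp.mem_support_iff] at hi
      apply hi
      rw [h]
      apply Subtype.ext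
      exact ha
    have hj0 : ij.2 ≠ 0 := by
      intro h
      rw [DFinsupp.mem_support_iff] at hj
      apply hj
      rw [h]
      apply Subtype.ext
      exact hb
    exact S.mul_mem (IH ij.1 (by omega) _ (SetLike.coe_mem _)) (IH ij.2 (by omega) _ (SetLike.coe_mem _))
  · rw [map_add]; exact S.add_mem ha hb

theorem surjective_aeval {ι : Type} [Fintype ι] (e : Module.Basis ι A (Bp).Cotangent)
    (s : (Bp).Cotangent →ₗ[A] ↥Bp) (h0 : ∀ b : B, b ∈ 𝒜 0 ↔ b ∈ Set.range (algebraMap A B))
    (hs1 : ∀ n, (Bp).toCotangent (s n) = n) (hs2 : ∀ d n, ∃ n', prI 𝒜 d (s n) = s n') :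
    Function.Surjective (aeval (R := A) (fun i => ((s (e i) : ↥Bp) : B))) := by
  classical
  set φ : MvPolynomial ι A →ₐ[A] B := aeval (R := A) (fun i => ((s (e i) : ↥Bp) : B)) with hφ
  have hrange_s : ∀ n, ((s n : ↥Bp) : B) ∈ φ.range := by
    intro n
    have hn : n = ∑ i, e.repr n i • e i := (e.sum_repr n).symm
    rw [hn, map_sum, AddSubmonoidClass.coe_finsetSum]
    apply Subalgebra.sum_mem
    intro i _
    rw [map_smul]
    change (e.repr n i) • ((s (e i) : ↥Bp) : B) ∈ φ.range
    apply Subalgebra.smul_mem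
    exact ⟨X i, aeval_X _ i⟩
  have hdeg : ∀ d, ∀ b ∈ 𝒜 d, b ∈ φ.range := by
    intro d
    induction d using Nat.strong_induction_on with
    | _ d IH =>
      intro b hb
      rcases Nat.eq_zero_or_pos d with rfl | hd
      · obtain ⟨a, rfl⟩ := (h0 b).mp hb
        exact Subalgebra.algebraMap_mem _ a
      · have hbp : b ∈ Bp := HomogeneousIdeal.mem_irrelevant_of_mem 𝒜 hd hb
        obtain ⟨n', hn'⟩ := hs2 d ((Bp).toCotangent ⟨b, hbp⟩)
        have hz : (((⟨b, hbp⟩ : ↥Bp) - s ((Bp).toCotangent ⟨b, hbp⟩) : ↥Bp) : B) ∈ Bp ^ 2 := by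
          rw [← Ideal.toCotangent_eq_zero, map_sub, hs1, sub_self]
        have hb' : GradedAlgebra.proj 𝒜 d b = b := by
          rw [GradedAlgebra.proj_apply, decompose_of_mem_same 𝒜 hb]
        have hsplit : b = ((s n' : ↥Bp) : B) + GradedAlgebra.proj 𝒜 d
            (((⟨b, hbp⟩ : ↥Bp) - s ((Bp).toCotangent ⟨b, hbp⟩) : ↥Bp) : B) := by
          rw [← hn', prI_coe, ← map_add]
          conv_lhs => rw [← hb']
          congr 1
          rw [AddSubgroupClass.coe_sub]
          ring
        rw [hsplit]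
        exact Subalgebra.add_mem _ (hrange_s n') (proj_mem_of_mem_sq 𝒜 φ.range d IH hz)
  intro b
  have : b ∈ φ.range := by
    rw [← DirectSum.sum_support_decompose 𝒜 b]
    exact Subalgebra.sum_mem _ (fun d _ => hdeg d _ (SetLike.coe_mem _))
  exact this

theorem ker_le_sq {ι : Type} [Fintype ι] [DecidableEq ι] (e : Module.Basis ι A (Bp).Cotangent)
    (s : (Bp).Cotangent →ₗ[A] ↥Bp) (hs1 : ∀ n, (Bp).toCotangent (s n) = n)
    (hinj : Function.Injective (algebraMap A B)) (ε : B →ₐ[A] A)
    (hε : ∀ b, algebraMap A B (ε b) = GradedRing.projZeroRingHom 𝒜 b) :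
    RingHom.ker (aeval (R := A) (fun i => ((s (e i) : ↥Bp) : B))) ≤ idealOfVars ι A ^ 2 := by
  intro f hf
  set φ : MvPolynomial ι A →ₐ[A] B := aeval (R := A) (fun i => ((s (e i) : ↥Bp) : B)) with hφ
  have hfφ : φ f = 0 := hf
  have hD := sub_linear_mem_sq f
  have hφX : ∀ i, φ (X i) = ((s (e i) : ↥Bp) : B) := fun i => aeval_X _ i
  have hε0 : ∀ i, ε (φ (X i)) = 0 := fun i => by
    rw [hφX]; exact eps_eq_zero 𝒜 hinj ε hε (s (e i)).2
  have hc0 : coeff 0 f = 0 := by
    have := eps_phi φ ε hε0 f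
    rw [hfφ, map_zero, constantCoeff_eq] at this
    exact this.symm
  have hφI : ∀ g ∈ idealOfVars ι A ^ 2, φ g ∈ Bp ^ 2 := by
    intro g hg
    have hle : Ideal.map (φ : MvPolynomial ι A →+* B) (idealOfVars ι A) ≤ Bp := by
      rw [Ideal.map_span, Ideal.span_le]
      rintro _ ⟨_, ⟨i, rfl⟩, rfl⟩
      change φ (X i) ∈ Bp
      rw [hφX]; exact (s (e i)).2
    have := Ideal.mem_map_of_mem (φ : MvPolynomial ι A →+* B) hg
    rw [Ideal.map_pow] at this
    exact Ideal.pow_right_mono hle 2 this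
  have h1 := hφI _ hD
  rw [hc0, map_zero, sub_zero, map_sub, hfφ, zero_sub, neg_mem_iff, map_sum] at h1
  have h2 : (∑ i, coeff (Finsupp.single i 1) f • e i : (Bp).Cotangent) = 0 := by
    have h3 : (Bp).toCotangent (∑ i, coeff (Finsupp.single i 1) f • s (e i)) = 0 := by
      rw [Ideal.toCotangent_eq_zero, AddSubmonoidClass.coe_finsetSum]
      convert h1 using 2 with i
      rw [map_mul, hφX, ← algebraMap_eq, AlgHom.commutes, ← Algebra.smul_def]
      rfl
    rw [map_sum] at h3
    rw [← h3]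
    apply Finset.sum_congr rfl
    intro i _
    have : (Bp).toCotangent (coeff (Finsupp.single i 1) f • s (e i)) =
        coeff (Finsupp.single i 1) f • (Bp).toCotangent (s (e i)) :=
      ((Bp).toCotangent.restrictScalars A).map_smul _ _
    rw [this, hs1]
  have ha : ∀ i, coeff (Finsupp.single i 1) f = 0 :=
    Fintype.linearIndependent_iff.mp e.linearIndependent _ h2
  simpa [hc0, ha] using hD

theorem nonempty_algEquiv (h0 : ∀ b : B, b ∈ 𝒜 0 ↔ b ∈ Set.range (algebraMap A B))
    (hinj : Function.Injective (algebraMap A B))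
    (hsm : ∀ (P : Ideal B) [P.IsPrime], Bp ≤ P → Algebra.IsSmoothAt A P)
    [Module.Free A (Bp).Cotangent] [Module.Finite A (Bp).Cotangent] :
    Nonempty (B ≃ₐ[A] MvPolynomial (Fin (Module.finrank A (Bp).Cotangent)) A) := by
  classical
  rcases subsingleton_or_nontrivial A with hA | hA
  · have hB : Subsingleton B := Module.subsingleton A B
    have hP : Subsingleton (MvPolynomial (Fin (Module.finrank A (Bp).Cotangent)) A) :=
      Module.subsingleton A _
    exact ⟨{ toFun := fun _ => 0
             invFun := fun _ => 0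
             left_inv := fun _ => Subsingleton.elim _ _
             right_inv := fun _ => Subsingleton.elim _ _
             map_mul' := fun _ _ => Subsingleton.elim _ _
             map_add' := fun _ _ => Subsingleton.elim _ _
             commutes' := fun _ => Subsingleton.elim _ _ }⟩
  · let e := Module.finBasis A (Bp).Cotangent
    obtain ⟨s, hs1, hs2⟩ := exists_section 𝒜
    obtain ⟨ε, hε⟩ := exists_eps 𝒜 h0 hinj
    have hsurj := surjective_aeval 𝒜 e s h0 hs1 hs2
    have hK := ker_le_sq 𝒜 e s hs1 hinj ε hε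
    have hε0 : ∀ i, ε (aeval (R := A) (fun i => ((s (e i) : ↥Bp) : B)) (X i)) = 0 := fun i => by
      rw [aeval_X]; exact eps_eq_zero 𝒜 hinj ε hε (s (e i)).2
    have hsm' : ∀ (𝔭 : Ideal A) [𝔭.IsPrime], Algebra.IsSmoothAt A (𝔭.comap (ε : B →+* A)) := by
      intro 𝔭 _
      apply hsm
      intro b hb
      rw [Ideal.mem_comap]
      change ε b ∈ 𝔭
      rw [eps_eq_zero 𝒜 hinj ε hε hb]
      exact zero_mem _
    have hinjφ := injective_of_isSmoothAt _ hsurj ε hε0 hK hsm'
    exact ⟨(AlgEquiv.ofBijective _ ⟨hinjφ, hsurj⟩).symm⟩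

end Assembly

end Groth.Agent.Lib.GrSmooth76
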