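import Mathlib

/-!
# The induced grading on a homogeneous subalgebra (helper12)

`B` a commutative `R₀`-algebra graded by submodules `ℬ i`, `S` a subalgebra such that all homogeneous
components of elements of `S` lie in `S`.  Then `S` is graded by the additive subgroups
`subGr ℬ S i = {x ∈ S | x ∈ ℬ i}`.

* `subGr`, `mem_subGr`, `subGrGradedRing`, `coe_decompose_subGr`.
-/

set_option autoImplicit false
set_option linter.unusedSectionVars false
universe u

namespace Groth.Agent.Lib.GrSubalg12

open DirectSum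

variable {R₀ B : Type*} [CommRing R₀] [CommRing B] [Algebra R₀ B] {ι : Type*} [DecidableEq ι]
  [AddMonoid ι] (ℬ : ι → Submodule R₀ B) [GradedAlgebra ℬ] (S : Subalgebra R₀ B)

/-- The induced grading on a subalgebra. -/
def subGr (i : ι) : AddSubgroup S where
  carrier := {x | (x : B) ∈ ℬ i}
  zero_mem' := (ℬ i).zero_mem
  add_mem' := fun ha hb => (ℬ i).add_mem ha hb
  neg_mem' := fun ha => (ℬ i).neg_mem ha

theorem mem_subGr {i : ι} {x : S} : x ∈ subGr ℬ S i ↔ (x : B) ∈ ℬ i := Iff.rfl

instance subGr_gradedMonoid : SetLike.GradedMonoid (subGr ℬ S) where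
  one_mem := SetLike.GradedOne.one_mem (A := ℬ)
  mul_mem := fun _ _ _ _ ha hb => SetLike.GradedMul.mul_mem (A := ℬ) ha hb

variable (hS : ∀ x ∈ S, ∀ i, (decompose ℬ x i : B) ∈ S)

open Classical in
/-- The decomposition map. -/
noncomputable def dec (x : S) : ⨁ i, subGr ℬ S i :=
  ∑ i ∈ (decompose ℬ (x : B)).support,
    DirectSum.of (fun i => subGr ℬ S i) i
      ⟨⟨(decompose ℬ (x : B) i : B), hS x x.2 i⟩, (decompose ℬ (x : B) i).2⟩

open Classical in
theorem dec_apply' (x : S) (i : ι) :
    (dec ℬ S hS x) i =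
      ⟨⟨(decompose ℬ (x : B) i : B), hS x x.2 i⟩, (decompose ℬ (x : B) i).2⟩ := by
  unfold dec
  rw [DFinsupp.finsetSum_apply]
  by_cases hi : i ∈ (decompose ℬ (x : B)).support
  · rw [Finset.sum_eq_single i]
    · rw [DirectSum.of_eq_same]
    · intro j _ hji
      rw [DirectSum.of_eq_of_ne _ _ _ (Ne.symm hji)]
    · intro h
      exact absurd hi h
  · rw [Finset.sum_eq_zero]
    · rw [DFinsupp.notMem_support_iff] at hi
      apply Subtype.ext
      apply Subtype.ext
      simp only [hi]
      rfl
    · intro j hj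
      have hji : j ≠ i := fun h => hi (h ▸ hj)
      rw [DirectSum.of_eq_of_ne _ _ _ hji.symm]

theorem dec_apply (x : S) (i : ι) :
    (((dec ℬ S hS x) i : S) : B) = (decompose ℬ (x : B) i : B) := by
  rw [dec_apply']

open Classical in
theorem coe_dec (x : S) : DirectSum.coeAddMonoidHom (subGr ℬ S) (dec ℬ S hS x) = x := by
  unfold dec
  rw [map_sum]
  apply Subtype.ext
  rw [AddSubmonoidClass.coe_finsetSum]
  conv_rhs => rw [← DirectSum.sum_support_decompose ℬ (x : B)]
  refine Finset.sum_congr rfl fun i _ => ?_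
  rw [DirectSum.coeAddMonoidHom_of]

theorem decompose_coe (z : ⨁ i, subGr ℬ S i) (i : ι) :
    (decompose ℬ ((DirectSum.coeAddMonoidHom (subGr ℬ S) z : S) : B) i : B) = ((z i : S) : B) := by
  induction z using DirectSum.induction_on with
  | zero =>
    rw [map_zero, ZeroMemClass.coe_zero, decompose_zero, DirectSum.zero_apply,
      ZeroMemClass.coe_zero, DirectSum.zero_apply, ZeroMemClass.coe_zero, ZeroMemClass.coe_zero]
  | of j y =>
    rw [DirectSum.coeAddMonoidHom_of]
    by_cases hij : j = i
    · subst hij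
      rw [decompose_of_mem_same ℬ y.2, DirectSum.of_eq_same]
    · rw [decompose_of_mem_ne ℬ y.2 hij, DirectSum.of_eq_of_ne _ _ _ (Ne.symm hij)]
      rfl
  | add a b ha hb =>
    rw [map_add, Subalgebra.coe_add, decompose_add, DirectSum.add_apply, Submodule.coe_add, ha, hb,
      DirectSum.add_apply, AddSubgroup.coe_add, Subalgebra.coe_add]

/-- The induced grading on a homogeneous subalgebra. -/
@[instance_reducible]
noncomputable def subGrGradedRing : GradedRing (subGr ℬ S) where
  decompose' := dec ℬ S hS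
  left_inv := coe_dec ℬ S hS
  right_inv := by
    intro z
    refine DFinsupp.ext fun i => ?_
    apply Subtype.ext
    apply Subtype.ext
    rw [dec_apply, decompose_coe]

theorem coe_decompose_subGr (x : S) (i : ι) :
    letI := subGrGradedRing ℬ S hS
    ((decompose (subGr ℬ S) x i : S) : B) = (decompose ℬ (x : B) i : B) :=
  dec_apply ℬ S hS x i

end Groth.Agent.Lib.GrSubalg12
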