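/-
# Degree one of an abstract graded symmetric algebra (helper28)

* `exists_j_eq_of_mem_one` (ring level): in a graded ring which is abstractly `Sym_R M` with `M` in degree one and `R` in degree
  zero, every element of degree one comes from `M`;
* `isFTDeg_one_of_isGrSymAlg`: if `RelProj.IsGrSymAlg E 𝒯 j` with `E` quasi-coherent of finite type then `𝒯.IsFTDeg 1`.
-/
import Groth.Agent.Lib.SymQCAlgUniq
import Groth.Agent.Lib.H90OXModAffineFT
import Groth.Agent.Lib.H60LineSym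
import Groth.Prelude.Def_RelProj2

set_option autoImplicit false
universe u

namespace Groth.Agent.Lib.GrSymDegOne

section ring
variable {A σ : Type*} [CommRing A] [SetLike σ A] [AddSubgroupClass σ A] (𝒜 : ℕ → σ) [GradedRing 𝒜]
  {R M : Type*} [CommRing R] [AddCommGroup M] [Module R M]
  (e : A ≃+* SymmetricAlgebra R M) (s : R →+* A) (j : M → A)
  (he1 : ∀ r, e (s r) = algebraMap R (SymmetricAlgebra R M) r)
  (he2 : ∀ x, e (j x) = SymmetricAlgebra.ι R M x)
  (hs : ∀ r, s r ∈ 𝒜 0) (hj : ∀ x, j x ∈ 𝒜 1)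

lemma proj_one_mul (a b : A) :
    (DirectSum.decompose 𝒜 (a * b) 1 : A) =
      (DirectSum.decompose 𝒜 a 0 : A) * (DirectSum.decompose 𝒜 b 1 : A) +
        (DirectSum.decompose 𝒜 a 1 : A) * (DirectSum.decompose 𝒜 b 0 : A) := by
  rw [DirectSum.decompose_mul, DirectSum.coe_mul_apply_eq_sum_antidiagonal]
  have : (Finset.HasAntidiagonal.antidiagonal 1 : Finset (ℕ × ℕ)) = {((0 : ℕ), (1 : ℕ)), (1, 0)} := by decide
  rw [this, Finset.sum_pair (by decide)]

lemma proj_zero_mul (a b : A) :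
    (DirectSum.decompose 𝒜 (a * b) 0 : A) =
      (DirectSum.decompose 𝒜 a 0 : A) * (DirectSum.decompose 𝒜 b 0 : A) := by
  rw [DirectSum.decompose_mul, DirectSum.coe_mul_apply_eq_sum_antidiagonal]
  have : (Finset.HasAntidiagonal.antidiagonal 0 : Finset (ℕ × ℕ)) = {((0 : ℕ), (0 : ℕ))} := by decide
  rw [this, Finset.sum_singleton]

include he1 he2 hs hj in
/-- In a graded ring which is abstractly the symmetric algebra of `M`, with `M` placed in degree one and the scalars in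
degree zero, every element of degree one comes from `M`. -/
theorem exists_j_eq_of_mem_one {y : A} (hy : y ∈ 𝒜 1) : ∃ x, j x = y := by
  have hj0 : j 0 = 0 := by
    apply e.injective
    rw [he2, map_zero, map_zero]
  have hjadd : ∀ x x', j (x + x') = j x + j x' := by
    intro x x'
    apply e.injective
    rw [he2, map_add, map_add, he2, he2]
  have hjsmul : ∀ (r : R) (x : M), j (r • x) = s r * j x := by
    intro r x
    apply e.injective
    rw [he2, map_mul, he1, he2, map_smul, Algebra.smul_def]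
  have key : ∀ z : SymmetricAlgebra R M,
      (∃ r, s r = (DirectSum.decompose 𝒜 (e.symm z) 0 : A)) ∧
        (∃ x, j x = (DirectSum.decompose 𝒜 (e.symm z) 1 : A)) := by
    intro z
    induction z using SymmetricAlgebra.induction with
    | algebraMap r =>
      have h : e.symm (algebraMap R (SymmetricAlgebra R M) r) = s r := by
        rw [← he1, RingEquiv.symm_apply_apply]
      rw [h]
      refine ⟨⟨r, ?_⟩, ⟨0, ?_⟩⟩
      · rw [DirectSum.decompose_of_mem_same 𝒜 (hs r)]
      · rw [DirectSum.decompose_of_mem_ne 𝒜 (hs r) zero_ne_one, hj0]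
    | ι x =>
      have h : e.symm (SymmetricAlgebra.ι R M x) = j x := by
        rw [← he2, RingEquiv.symm_apply_apply]
      rw [h]
      refine ⟨⟨0, ?_⟩, ⟨x, ?_⟩⟩
      · rw [DirectSum.decompose_of_mem_ne 𝒜 (hj x) one_ne_zero, map_zero]
      · rw [DirectSum.decompose_of_mem_same 𝒜 (hj x)]
    | mul a b ha hb =>
      obtain ⟨⟨r, hr⟩, ⟨x, hx⟩⟩ := ha
      obtain ⟨⟨r', hr'⟩, ⟨x', hx'⟩⟩ := hb
      rw [map_mul]
      refine ⟨⟨r * r', ?_⟩, ⟨r • x' + r' • x, ?_⟩⟩
      · rw [proj_zero_mul, map_mul, hr, hr']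
      · rw [proj_one_mul, hjadd, hjsmul, hjsmul, hr, hr', hx, hx', mul_comm (DirectSum.decompose 𝒜 (e.symm b) 0 : A)]
    | add a b ha hb =>
      obtain ⟨⟨r, hr⟩, ⟨x, hx⟩⟩ := ha
      obtain ⟨⟨r', hr'⟩, ⟨x', hx'⟩⟩ := hb
      rw [map_add]
      refine ⟨⟨r + r', ?_⟩, ⟨x + x', ?_⟩⟩
      · rw [DirectSum.decompose_add, DirectSum.add_apply, AddMemClass.coe_add, map_add, hr, hr']
      · rw [DirectSum.decompose_add, DirectSum.add_apply, AddMemClass.coe_add, hjadd, hx, hx']
  obtain ⟨-, ⟨x, hx⟩⟩ := key (e y)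
  rw [RingEquiv.symm_apply_apply, DirectSum.decompose_of_mem_same 𝒜 hy] at hx
  exact ⟨x, hx⟩

end ring

end Groth.Agent.Lib.GrSymDegOne

open CategoryTheory CategoryTheory.Limits AlgebraicGeometry TopologicalSpace Opposite

namespace Groth.Agent.Lib.GrSymDegOne

lemma exists_coeff_image {A Γ α : Type*} [CommRing A] [CommRing Γ] [DecidableEq A] (s : Γ →+* A)
    (T : Finset α) (f : α → A) (x : A) (c : α → Γ) (hx : x = ∑ a ∈ T, s (c a) * f a) :
    ∃ c' : A → Γ, x = ∑ t ∈ T.image f, s (c' t) * t := by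
  refine ⟨fun t => ∑ a ∈ T.filter (fun a => f a = t), c a, ?_⟩
  rw [hx]
  symm
  refine Finset.sum_image' (fun a => s (c a) * f a) (fun a _ => ?_)
  change s (∑ a' ∈ T.filter (fun a' => f a' = f a), c a') * f a = _
  rw [map_sum, Finset.sum_mul]
  refine Finset.sum_congr rfl fun a' ha' => ?_
  rw [(Finset.mem_filter.1 ha').2]

variable {Y : Scheme.{u}}

/-- The graded symmetric algebra of a quasi-coherent module of finite type has degree-one part of finite type. -/
theorem isFTDeg_one_of_isGrSymAlg (E : Y.Modules) (hE : Coh.IsQCoh E) (hFT : CohB1.IsFT E)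
    (𝒯 : RelProj.QCGrAlg Y) (j : E ⟶ 𝒯.toModule) (hj : RelProj.IsGrSymAlg E 𝒯 j) : 𝒯.IsFTDeg 1 := by
  classical
  haveI : E.IsQuasicoherent := hE
  intro U hU
  have hfin : Module.Finite Γ(Y, U) Γ(E, U) :=
    (Groth.Agent.Lib.H90OXModAffineFT.isFiniteType_iff_forall_affine E).mp hFT ⟨U, hU⟩
  obtain ⟨G, hG⟩ := hfin.fg_top
  obtain ⟨e, he1, he2⟩ := Groth.Agent.Lib.SymQCAlg.exists_ringEquiv E 𝒯.toQCAlg j hj.1 U hU
  let jU : Γ(E, U) → 𝒯.presheaf.obj (op U) := fun x => j.app U x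
  have hjadd : ∀ x x', jU (x + x') = jU x + jU x' := fun x x' => map_add (j.app U).hom x x'
  have hjsum : ∀ (c : Γ(E, U) → Γ(Y, U)), jU (∑ g ∈ G, c g • g) = ∑ g ∈ G, jU (c g • g) :=
    fun c => map_sum (j.app U).hom _ G
  have hjsmul : ∀ (r : Γ(Y, U)) (x : Γ(E, U)), jU (r • x) = (𝒯.str.app (op U)).hom r * jU x := by
    intro r x
    change j.app U (r • x) = _
    rw [Scheme.Modules.Hom.app_smul]
    rfl
  refine ⟨G.image jU, ?_, ?_⟩
  · intro t ht
    obtain ⟨g, -, rfl⟩ := Finset.mem_image.1 (Finset.mem_coe.1 ht)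
    exact hj.2 U hU g
  · intro x hx
    obtain ⟨m, hm⟩ := exists_j_eq_of_mem_one (𝒯.deg U hU) e (𝒯.str.app (op U)).hom jU he1 he2
      (𝒯.str_mem U hU) (hj.2 U hU) hx
    have hmG : m ∈ Submodule.span Γ(Y, U) (G : Set Γ(E, U)) := by rw [hG]; exact Submodule.mem_top
    obtain ⟨c, -, hc⟩ := Submodule.mem_span_finset.1 hmG
    refine exists_coeff_image (𝒯.str.app (op U)).hom G jU x c ?_
    rw [← hm, ← hc, hjsum]
    exact Finset.sum_congr rfl fun g _ => hjsmul _ _

end Groth.Agent.Lib.GrSymDegOne
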