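import Groth.Agent.Lib.GrModQCoh
import Groth.Agent.Lib.H4ModHom

/-!
# `O(n) ≅ A(n)~` on `Proj` and quasi-coherence of `O(n)` — gradings by additive subgroups (helper28)

Port to `GrTwist.twist` / `GrMod.tilde` of helper4's `Lib/H4TwistTilde` (and the basic part of `Lib/H4TwistSec`).

* `sval`, `sec_ext`, `sval_smul`, `exists_frac_twist`;
* `twistTildeIso n : GrTwist.twist 𝒜 n ≅ GrMod.tilde 𝒜 𝒜 n`; `isQCoh_twist`.
-/

set_option autoImplicit false
set_option linter.unusedSectionVars false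
universe u
open CategoryTheory AlgebraicGeometry TopologicalSpace Opposite
open GrTwist

namespace Groth.Agent.Lib.GrTwistTilde

open Groth.Agent.Lib.GrModQCoh Groth.Agent.Lib.GrModFrac Groth.Agent.Lib.GrModVal

variable {A σ : Type u} [CommRing A] [SetLike σ A] [AddSubgroupClass σ A] {𝒜 : ℕ → σ} [GradedRing 𝒜]

/-- The value in `A_x` of a section of `O(n)` at a point `x`. -/
def sval {n : ℤ} {U : (Proj 𝒜).Opens} (t : Γ(twist 𝒜 n, U)) (x : U) : Loc 𝒜 x.1 :=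
  ((show sectN (𝒜 := 𝒜) n (op U) from t).1 x : Loc 𝒜 x.1)


section Basic

variable {n : ℤ} {U V : (Proj 𝒜).Opens}

theorem sval_mem (t : Γ(twist 𝒜 n, U)) (x : U) : sval t x ∈ twistAt 𝒜 n x.1 :=
  ((show sectN (𝒜 := 𝒜) n (op U) from t).1 x).2

theorem sec_ext {t t' : Γ(twist 𝒜 n, U)} (h : ∀ x : U, sval t x = sval t' x) : t = t' := by
  apply Subtype.ext
  funext x
  exact Subtype.ext (h x)

@[simp] theorem sval_smul (r : Γ(Proj 𝒜, U)) (t : Γ(twist 𝒜 n, U)) (x : U) :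
    sval (r • t) x = oval r x * sval t x :=
  coe_smul_val n x.1 _ _

@[simp] theorem sval_add (t t' : Γ(twist 𝒜 n, U)) (x : U) : sval (t + t') x = sval t x + sval t' x := rfl

@[simp] theorem sval_zero (x : U) : sval (0 : Γ(twist 𝒜 n, U)) x = 0 := rfl

@[simp] theorem sval_map (h : V ≤ U) (t : Γ(twist 𝒜 n, U)) (x : V) :
    sval ((twist 𝒜 n).presheaf.map (homOfLE h).op t) x = sval t ⟨x.1, h x.2⟩ := rfl

/-- Sections of `O(n)` are locally a single fraction. -/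
theorem exists_frac_twist (t : Γ(twist 𝒜 n, U)) (x : U) :
    ∃ (V : (Proj 𝒜).Opens) (_ : x.1 ∈ V) (hVU : V ≤ U) (i j : ℕ) (a : 𝒜 i) (s : 𝒜 j)
      (s_nin : ∀ y : V, s.1 ∉ y.1.asHomogeneousIdeal),
      ((i : ℤ) = j + n ∨ a.1 = 0) ∧
        ∀ y : V, sval t ⟨y.1, hVU y.2⟩ = Localization.mk a.1 ⟨s.1, s_nin y⟩ := by
  obtain ⟨V, hxV, iVU, i, j, a, s, s_nin, h, w⟩ := (show sectN (𝒜 := 𝒜) n (op U) from t).2 x
  exact ⟨V, hxV, iVU.le, i, j, a, s, s_nin, h, fun y => w y⟩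

end Basic


/-- The action of `A_x` on `LocalizedModule _ A = A_x` is multiplication. -/
theorem loc_smul_eq_mul (x : ProjectiveSpectrum 𝒜) (l q : Loc 𝒜 x) :
    (l • (show GrMod.LocMod 𝒜 (M := A) x from q) : GrMod.LocMod 𝒜 (M := A) x) =
      (show GrMod.LocMod 𝒜 (M := A) x from l * q) := by
  induction l using Localization.induction_on with
  | H b =>
    induction q using Localization.induction_on with
    | H a =>
      change Localization.mk b.1 b.2 • LocalizedModule.mk a.1 a.2 = _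
      rw [LocalizedModule.mk_smul_mk, Localization.mk_mul]
      rfl

variable {n : ℤ} {U V : (Proj 𝒜).Opens}

/-- A section of `O(n)` as a section of `A(n)~`. -/
def toT (τ : Γ(twist 𝒜 n, U)) : Γ(GrMod.tilde 𝒜 𝒜 n, U) :=
  show GrMod.sect 𝒜 𝒜 n (op U) from
  ⟨fun x => ⟨(show GrMod.LocMod 𝒜 (M := A) x.1 from sval τ x), by
      obtain ⟨W, hxW, hWU, i, j, a, s, s_nin, hd, w⟩ := exists_frac_twist τ x
      have e : sval τ x = Localization.mk a.1 ⟨s.1, s_nin ⟨x.1, hxW⟩⟩ := w ⟨x.1, hxW⟩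
      rw [e]
      rcases hd with hd | hd
      · exact Submodule.subset_span ⟨i, j, a, s, s_nin ⟨x.1, hxW⟩, hd, rfl⟩
      · rw [hd, Localization.mk_zero]
        exact Submodule.zero_mem _⟩, by
    intro x
    obtain ⟨W, hxW, hWU, i, j, a, s, s_nin, hd, w⟩ := exists_frac_twist τ x
    exact ⟨W, hxW, homOfLE hWU, i, j, a, s, s_nin, hd, fun y => w y⟩⟩

/-- A section of `A(n)~` as a section of `O(n)`. -/
def ofT (t : Γ(GrMod.tilde 𝒜 𝒜 n, U)) : Γ(twist 𝒜 n, U) :=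
  show sectN (𝒜 := 𝒜) n (op U) from
  ⟨fun x => ⟨(show Loc 𝒜 x.1 from tval t x), by
      obtain ⟨W, hxW, iWU, i, j, a, s, s_nin, hd, w⟩ := (show GrMod.sect 𝒜 𝒜 n (op U) from t).2 x
      have e : tval t x = LocalizedModule.mk a.1 ⟨s.1, s_nin ⟨x.1, hxW⟩⟩ := w ⟨x.1, hxW⟩
      rw [e]
      rcases hd with hd | hd
      · exact Submodule.subset_span ⟨i, j, a, s, s_nin ⟨x.1, hxW⟩, hd, rfl⟩
      · rw [hd, LocalizedModule.zero_mk]
        exact Submodule.zero_mem _⟩, by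
    intro x
    obtain ⟨W, hxW, iWU, i, j, a, s, s_nin, hd, w⟩ := (show GrMod.sect 𝒜 𝒜 n (op U) from t).2 x
    exact ⟨W, hxW, iWU, i, j, a, s, s_nin, hd, fun y => w y⟩⟩

@[simp] theorem tval_toT (τ : Γ(twist 𝒜 n, U)) (x : U) :
    tval (toT τ) x = (show GrMod.LocMod 𝒜 (M := A) x.1 from sval τ x) := rfl

@[simp] theorem sval_ofT (t : Γ(GrMod.tilde 𝒜 𝒜 n, U)) (x : U) :
    sval (ofT t) x = (show Loc 𝒜 x.1 from tval t x) := rfl

variable (𝒜) in
/-- `O(n) ≅ A(n)~`. -/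
noncomputable def twistTildeIso (n : ℤ) : twist 𝒜 n ≅ GrMod.tilde 𝒜 𝒜 n :=
  Groth.Agent.Lib.H4ModHom.isoOfSections (fun _ τ => toT τ) (fun _ t => ofT t)
    (fun _ τ => sec_ext fun x => rfl) (fun _ t => tsec_ext fun x => rfl)
    (fun _ a b => tsec_ext fun x => rfl)
    (fun _ r a => tsec_ext fun x => by
      rw [tval_toT, sval_smul, tval_smul, tval_toT]
      exact (loc_smul_eq_mul x.1 _ _).symm)
    (fun _ _ => rfl)

variable (𝒜) in
/-- S3546: `O(n)` is quasi-coherent on `Proj` of any graded ring. -/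
theorem isQCoh_twist (n : ℤ) : Coh.IsQCoh (twist 𝒜 n) := by
  have h : Coh.IsQCoh (GrMod.tilde 𝒜 𝒜 n) := isQCoh_tilde (𝒜 := 𝒜) (ℳ := 𝒜) n
  exact (SheafOfModules.isQuasicoherent (Proj 𝒜).ringCatSheaf).prop_of_iso (twistTildeIso 𝒜 n).symm h



end Groth.Agent.Lib.GrTwistTilde
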