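import Groth.Agent.Lib.H74Coarse3

/-!
# Veronese modules (helper12)

A *Veronese datum* `D : VData 𝒜' 𝒜` consists of an injective homomorphism of grading groups
`ψ : ι' → ι` and a ring homomorphism `φ : R' → R` with `φ (R'_j) ⊆ R_{ψ j}` (e.g. `ι = ι' = ℤ`,
`ψ j = j * q`, `R' = R^{(q)}` the `q`-th Veronese subring).  For a graded `R`-module `X` we build
the graded `R'`-module `Ver D 𝒳 = ⊕_j X_{ψ j}` (the Veronese module), graded by `verGr D 𝒳`,
the projection `verProj : X → Ver D 𝒳`, and the induced maps `verMap`.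
-/

set_option autoImplicit false
set_option linter.unusedSectionVars false
universe u

namespace Groth.Agent.Lib.GrVer

open DirectSum GrLC

section Data

variable {ι ι' : Type} [AddCommGroup ι] [AddCommGroup ι']
variable {R R' : Type u} [CommRing R] [CommRing R']

/-- A Veronese-type datum. -/
structure VData (𝒜' : ι' → AddSubgroup R') (𝒜 : ι → AddSubgroup R) where
  /-- the map of grading groups -/
  ψ : ι' →+ ι
  ψ_inj : Function.Injective ψ
  /-- the ring homomorphism -/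
  φ : R' →+* R
  map_mem : ∀ j r, r ∈ 𝒜' j → φ r ∈ 𝒜 (ψ j)

end Data

section Ver

variable {ι ι' : Type} [AddCommGroup ι] [DecidableEq ι] [AddCommGroup ι'] [DecidableEq ι']
variable {R R' : Type u} [CommRing R] [CommRing R']
variable {𝒜' : ι' → AddSubgroup R'} {𝒜 : ι → AddSubgroup R} [GradedRing 𝒜'] [GradedRing 𝒜]
variable (D : VData 𝒜' 𝒜)
variable {X : Type u} [AddCommGroup X] [Module R X] (𝒳 : ι → AddSubgroup X)

/-- The Veronese subgroup `⊕_j X_{ψ j}` of `X`. -/
def verSub : AddSubgroup X := ⨆ j, 𝒳 (D.ψ j)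

theorem mem_verSub_of_mem {j : ι'} {x : X} (hx : x ∈ 𝒳 (D.ψ j)) : x ∈ verSub D 𝒳 :=
  (le_iSup (fun j => 𝒳 (D.ψ j)) j) hx

theorem verSub_induction {P : X → Prop} {x : X} (hx : x ∈ verSub D 𝒳)
    (mem : ∀ j, ∀ y ∈ 𝒳 (D.ψ j), P y) (zero : P 0) (add : ∀ y z, P y → P z → P (y + z)) :
    P x :=
  AddSubgroup.iSup_induction _ (C := P) hx mem zero add

theorem smul_mem_verSub [SetLike.GradedSMul 𝒜 𝒳] (r : R') {x : X} (hx : x ∈ verSub D 𝒳) :
    D.φ r • x ∈ verSub D 𝒳 := by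
  classical
  induction r using Decomposition.inductionOn 𝒜' with
  | zero => rw [map_zero, zero_smul]; exact zero_mem _
  | @homogeneous i r =>
    refine verSub_induction D 𝒳 (P := fun x => D.φ r • x ∈ verSub D 𝒳) hx ?_ ?_ ?_
    · intro j y hy
      have := SetLike.GradedSMul.smul_mem (A := 𝒜) (B := 𝒳) (D.map_mem i r r.2) hy
      rw [vadd_eq_add, ← map_add] at this
      exact mem_verSub_of_mem D 𝒳 this
    · rw [smul_zero]; exact zero_mem _
    · intro y z hy hz; rw [smul_add]; exact add_mem hy hz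
  | add r s hr hs => rw [map_add, add_smul]; exact add_mem hr hs

/-- The Veronese module, as a type. -/
def Ver : Type u := ↥(verSub D 𝒳)

instance : AddCommGroup (Ver D 𝒳) := inferInstanceAs (AddCommGroup ↥(verSub D 𝒳))

/-- The inclusion `Ver D 𝒳 → X`. -/
def Ver.val : Ver D 𝒳 →+ X := (verSub D 𝒳).subtype

variable {D 𝒳} in
theorem Ver.val_mem (x : Ver D 𝒳) : Ver.val D 𝒳 x ∈ verSub D 𝒳 := Subtype.property (p := (· ∈ verSub D 𝒳)) x

variable {D 𝒳} in
theorem Ver.ext {x y : Ver D 𝒳} (h : Ver.val D 𝒳 x = Ver.val D 𝒳 y) : x = y :=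
  Subtype.ext (p := (· ∈ verSub D 𝒳)) h

theorem Ver.val_injective : Function.Injective (Ver.val D 𝒳) := fun _ _ h => Ver.ext h

/-- Constructor. -/
def Ver.mk (x : X) (hx : x ∈ verSub D 𝒳) : Ver D 𝒳 := (⟨x, hx⟩ : ↥(verSub D 𝒳))

@[simp] theorem Ver.val_mk (x : X) (hx : x ∈ verSub D 𝒳) : Ver.val D 𝒳 (Ver.mk D 𝒳 x hx) = x := rfl

variable [SetLike.GradedSMul 𝒜 𝒳]

instance : SMul R' (Ver D 𝒳) :=
  ⟨fun r x => Ver.mk D 𝒳 (D.φ r • Ver.val D 𝒳 x) (smul_mem_verSub D 𝒳 r x.val_mem)⟩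

@[simp] theorem Ver.val_smul (r : R') (x : Ver D 𝒳) :
    Ver.val D 𝒳 (r • x) = D.φ r • Ver.val D 𝒳 x := rfl

instance : Module R' (Ver D 𝒳) where
  one_smul x := Ver.ext (by rw [Ver.val_smul, map_one, one_smul])
  mul_smul r s x := Ver.ext (by rw [Ver.val_smul, Ver.val_smul, Ver.val_smul, map_mul, mul_smul])
  smul_zero r := Ver.ext (by rw [Ver.val_smul, map_zero, smul_zero])
  smul_add r x y := Ver.ext (by
    rw [Ver.val_smul, map_add, map_add, smul_add, Ver.val_smul, Ver.val_smul])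
  add_smul r s x := Ver.ext (by
    rw [Ver.val_smul, map_add, map_add, add_smul, Ver.val_smul, Ver.val_smul])
  zero_smul x := Ver.ext (by rw [Ver.val_smul, map_zero, zero_smul, map_zero])

/-- The grading of the Veronese module. -/
def verGr : ι' → AddSubgroup (Ver D 𝒳) := fun j => (𝒳 (D.ψ j)).comap (Ver.val D 𝒳)

theorem mem_verGr {j : ι'} {x : Ver D 𝒳} : x ∈ verGr D 𝒳 j ↔ Ver.val D 𝒳 x ∈ 𝒳 (D.ψ j) := Iff.rfl

instance : SetLike.GradedSMul 𝒜' (verGr D 𝒳) where
  smul_mem := by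
    intro i j r x hr hx
    rw [vadd_eq_add, mem_verGr, Ver.val_smul, map_add]
    have := SetLike.GradedSMul.smul_mem (A := 𝒜) (B := 𝒳) (D.map_mem i r hr) ((mem_verGr D 𝒳).1 hx)
    rwa [vadd_eq_add] at this

section Proj

variable [Decomposition 𝒳]

/-- Inclusion of a piece whose degree lies in the range of `ψ`. -/
def pieceIncl (i : ι) (h : ∃ j, D.ψ j = i) : 𝒳 i →+ Ver D 𝒳 where
  toFun x := Ver.mk D 𝒳 x.1 (by obtain ⟨j, rfl⟩ := h; exact mem_verSub_of_mem D 𝒳 x.2)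
  map_zero' := rfl
  map_add' _ _ := rfl

open Classical in
/-- The projection of `X` onto its Veronese part. -/
noncomputable def verProj : X →+ Ver D 𝒳 :=
  (DirectSum.toAddMonoid (fun i : ι =>
    if h : ∃ j, D.ψ j = i then pieceIncl D 𝒳 i h else 0)).comp
    (decomposeAddEquiv 𝒳).toAddMonoidHom

theorem verProj_of_mem {i : ι} {x : X} (hx : x ∈ 𝒳 i) (h : ∃ j, D.ψ j = i) :
    Ver.val D 𝒳 (verProj D 𝒳 x) = x := by
  unfold verProj
  rw [AddMonoidHom.comp_apply]
  show Ver.val D 𝒳 (DirectSum.toAddMonoid _ (decompose 𝒳 x)) = x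
  rw [decompose_of_mem 𝒳 hx, DirectSum.toAddMonoid_of, dif_pos h]
  rfl

theorem verProj_of_not {i : ι} {x : X} (hx : x ∈ 𝒳 i) (h : ¬ ∃ j, D.ψ j = i) :
    verProj D 𝒳 x = 0 := by
  unfold verProj
  rw [AddMonoidHom.comp_apply]
  show DirectSum.toAddMonoid _ (decompose 𝒳 x) = 0
  rw [decompose_of_mem 𝒳 hx, DirectSum.toAddMonoid_of, dif_neg h]
  rfl

theorem verProj_val_of_mem {x : X} (hx : x ∈ verSub D 𝒳) :
    Ver.val D 𝒳 (verProj D 𝒳 x) = x := by
  refine verSub_induction D 𝒳 (P := fun x => Ver.val D 𝒳 (verProj D 𝒳 x) = x) hx ?_ ?_ ?_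
  · intro j y hy
    exact verProj_of_mem D 𝒳 hy ⟨j, rfl⟩
  · rw [map_zero, map_zero]
  · intro y z hy hz
    rw [map_add, map_add, hy, hz]

@[simp] theorem verProj_val (x : Ver D 𝒳) : verProj D 𝒳 (Ver.val D 𝒳 x) = x :=
  Ver.ext (verProj_val_of_mem D 𝒳 x.val_mem)

theorem verProj_surjective : Function.Surjective (verProj D 𝒳) := fun x => ⟨_, verProj_val D 𝒳 x⟩

/-- The components of the projection. -/
theorem decompose_verProj (x : X) (j : ι') :
    (decompose 𝒳 (Ver.val D 𝒳 (verProj D 𝒳 x)) (D.ψ j) : X) = decompose 𝒳 x (D.ψ j) := by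
  induction x using Decomposition.inductionOn 𝒳 with
  | zero => rw [map_zero, map_zero]
  | @homogeneous i x =>
    by_cases h : ∃ j, D.ψ j = i
    · rw [verProj_of_mem D 𝒳 x.2 h]
    · rw [verProj_of_not D 𝒳 x.2 h, map_zero, decompose_zero, DirectSum.zero_apply, ZeroMemClass.coe_zero]
      by_cases hij : i = D.ψ j
      · exact absurd ⟨j, hij.symm⟩ h
      · rw [decompose_of_mem_ne 𝒳 x.2 hij]
  | add x y hx hy =>
    rw [map_add, map_add, decompose_add, decompose_add, DirectSum.add_apply, DirectSum.add_apply,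
      AddMemClass.coe_add, AddMemClass.coe_add, hx, hy]

/-- The projection is semilinear over `φ`. -/
theorem verProj_smul (r : R') (x : X) : verProj D 𝒳 (D.φ r • x) = r • verProj D 𝒳 x := by
  classical
  induction r using Decomposition.inductionOn 𝒜' with
  | zero => rw [map_zero, zero_smul, zero_smul, map_zero]
  | @homogeneous i r =>
    induction x using Decomposition.inductionOn 𝒳 with
    | zero => rw [smul_zero, map_zero, smul_zero]
    | @homogeneous k x =>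
      have hrx : D.φ r • (x : X) ∈ 𝒳 (D.ψ i + k) := by
        have := SetLike.GradedSMul.smul_mem (A := 𝒜) (B := 𝒳) (D.map_mem i r r.2) x.2
        rwa [vadd_eq_add] at this
      by_cases h : ∃ j, D.ψ j = k
      · have h' : ∃ j, D.ψ j = D.ψ i + k := by
          obtain ⟨j, rfl⟩ := h
          exact ⟨i + j, map_add _ _ _⟩
        apply Ver.ext
        rw [verProj_of_mem D 𝒳 hrx h', Ver.val_smul, verProj_of_mem D 𝒳 x.2 h]
      · have h' : ¬ ∃ j, D.ψ j = D.ψ i + k := by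
          rintro ⟨j, hj⟩
          exact h ⟨j - i, by rw [map_sub, hj]; abel⟩
        rw [verProj_of_not D 𝒳 hrx h', verProj_of_not D 𝒳 x.2 h, smul_zero]
    | add x y hx hy => rw [smul_add, map_add, map_add, hx, hy, smul_add]
  | add r s hr hs => rw [map_add, add_smul, map_add, hr, hs, add_smul]

end Proj

section Decomp

variable [Decomposition 𝒳]

/-- Inclusion of `X_{ψ j}` into the `j`-th piece of the Veronese module. -/
def pieceInclGr (j : ι') : 𝒳 (D.ψ j) →+ verGr D 𝒳 j where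
  toFun x := ⟨Ver.mk D 𝒳 x.1 (mem_verSub_of_mem D 𝒳 x.2), x.2⟩
  map_zero' := rfl
  map_add' _ _ := rfl

theorem of_verGr_congr {j j' : ι'} (hjj : j' = j) (y : verGr D 𝒳 j') (y' : verGr D 𝒳 j)
    (hy : (y : Ver D 𝒳) = (y' : Ver D 𝒳)) :
    DirectSum.of (fun j => verGr D 𝒳 j) j' y = DirectSum.of (fun j => verGr D 𝒳 j) j y' := by
  subst hjj
  congr 1
  exact Subtype.ext hy

open Classical in
/-- The decomposition map of the Veronese module. -/
noncomputable def verDecompose : Ver D 𝒳 →+ ⨁ j, verGr D 𝒳 j :=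
  (DirectSum.toAddMonoid (fun i : ι =>
    if h : ∃ j, D.ψ j = i then
      (DirectSum.of (fun j => verGr D 𝒳 j) (Classical.choose h)).comp
        ((pieceInclGr D 𝒳 (Classical.choose h)).comp
          (AddSubgroup.inclusion (le_of_eq (congrArg 𝒳 (Classical.choose_spec h).symm))))
    else 0)).comp
    ((decomposeAddEquiv 𝒳).toAddMonoidHom.comp (Ver.val D 𝒳))

theorem verDecompose_of_mem {j : ι'} {x : Ver D 𝒳} (hx : x ∈ verGr D 𝒳 j) :
    verDecompose D 𝒳 x = DirectSum.of (fun j => verGr D 𝒳 j) j ⟨x, hx⟩ := by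
  have h : ∃ j', D.ψ j' = D.ψ j := ⟨j, rfl⟩
  unfold verDecompose
  rw [AddMonoidHom.comp_apply, AddMonoidHom.comp_apply]
  show DirectSum.toAddMonoid _ (decompose 𝒳 (Ver.val D 𝒳 x)) = _
  rw [decompose_of_mem 𝒳 ((mem_verGr D 𝒳).1 hx), DirectSum.toAddMonoid_of, dif_pos h]
  rw [AddMonoidHom.comp_apply]
  exact of_verGr_congr D 𝒳 (D.ψ_inj (Classical.choose_spec h)) _ _ (Ver.ext rfl)

/-- The Veronese module is graded by `verGr`. -/
noncomputable instance verDecomposition : Decomposition (verGr D 𝒳) :=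
  Decomposition.ofAddHom (verGr D 𝒳) (verDecompose D 𝒳)
    (by
      ext x
      show DirectSum.coeAddMonoidHom (verGr D 𝒳) (verDecompose D 𝒳 x) = x
      have key : ∀ y : X, DirectSum.coeAddMonoidHom (verGr D 𝒳)
          (verDecompose D 𝒳 (verProj D 𝒳 y)) = verProj D 𝒳 y := by
        intro y
        induction y using Decomposition.inductionOn 𝒳 with
        | zero => rw [map_zero, map_zero, map_zero]
        | @homogeneous i y =>
          by_cases h : ∃ j, D.ψ j = i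
          · obtain ⟨j, rfl⟩ := h
            have hmem : verProj D 𝒳 (y : X) ∈ verGr D 𝒳 j := by
              rw [mem_verGr, verProj_of_mem D 𝒳 y.2 ⟨j, rfl⟩]
              exact y.2
            rw [verDecompose_of_mem D 𝒳 hmem, DirectSum.coeAddMonoidHom_of]
          · rw [verProj_of_not D 𝒳 y.2 h, map_zero, map_zero]
        | add y z hy hz => rw [map_add, map_add, map_add, hy, hz]
      have := key (Ver.val D 𝒳 x)
      rwa [verProj_val] at this)
    (by
      apply DirectSum.addHom_ext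
      intro j x
      show verDecompose D 𝒳 (DirectSum.coeAddMonoidHom (verGr D 𝒳)
        (DirectSum.of (fun j => verGr D 𝒳 j) j x)) = DirectSum.of (fun j => verGr D 𝒳 j) j x
      rw [DirectSum.coeAddMonoidHom_of, verDecompose_of_mem D 𝒳 x.2])

theorem val_decompose_verGr (x : Ver D 𝒳) (j : ι') :
    Ver.val D 𝒳 (decompose (verGr D 𝒳) x j : Ver D 𝒳) =
      decompose 𝒳 (Ver.val D 𝒳 x) (D.ψ j) := by
  induction x using Decomposition.inductionOn (verGr D 𝒳) with
  | zero => rw [decompose_zero, DirectSum.zero_apply, map_zero, decompose_zero,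
      DirectSum.zero_apply]; rfl
  | @homogeneous j' x =>
    have hx : Ver.val D 𝒳 (x : Ver D 𝒳) ∈ 𝒳 (D.ψ j') := x.2
    by_cases hj : j' = j
    · subst hj
      rw [decompose_of_mem_same (verGr D 𝒳) x.2, decompose_of_mem_same 𝒳 hx]
    · rw [decompose_of_mem_ne (verGr D 𝒳) x.2 hj, map_zero,
        decompose_of_mem_ne 𝒳 hx (fun h => hj (D.ψ_inj h))]
  | add x y hx hy =>
    rw [decompose_add, DirectSum.add_apply, AddMemClass.coe_add, map_add, hx, hy, map_add,
      decompose_add, DirectSum.add_apply, AddMemClass.coe_add]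

end Decomp

section Map

variable {Y : Type u} [AddCommGroup Y] [Module R Y] (𝒴 : ι → AddSubgroup Y)
  [SetLike.GradedSMul 𝒜 𝒴]

theorem map_mem_verSub {f : X →ₗ[R] Y} (hf : IsGrHom 𝒳 𝒴 f) {x : X} (hx : x ∈ verSub D 𝒳) :
    f x ∈ verSub D 𝒴 := by
  refine verSub_induction D 𝒳 (P := fun x => f x ∈ verSub D 𝒴) hx ?_ ?_ ?_
  · intro j y hy
    exact mem_verSub_of_mem D 𝒴 (hf _ y hy)
  · rw [map_zero]; exact zero_mem _
  · intro y z hy hz; rw [map_add]; exact add_mem hy hz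

/-- The map of Veronese modules induced by a homogeneous map. -/
def verMap (f : X →ₗ[R] Y) (hf : IsGrHom 𝒳 𝒴 f) : Ver D 𝒳 →ₗ[R'] Ver D 𝒴 where
  toFun x := Ver.mk D 𝒴 (f (Ver.val D 𝒳 x)) (map_mem_verSub D 𝒳 𝒴 hf x.val_mem)
  map_add' x y := Ver.ext (by rw [Ver.val_mk, map_add, map_add, map_add, Ver.val_mk, Ver.val_mk])
  map_smul' r x := Ver.ext (by
    rw [Ver.val_mk, RingHom.id_apply, Ver.val_smul, Ver.val_smul, map_smul, Ver.val_mk])

variable {𝒳 𝒴} in
@[simp] theorem val_verMap {f : X →ₗ[R] Y} (hf : IsGrHom 𝒳 𝒴 f) (x : Ver D 𝒳) :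
    Ver.val D 𝒴 (verMap D 𝒳 𝒴 f hf x) = f (Ver.val D 𝒳 x) := rfl

variable {𝒳 𝒴} in
theorem verMap_isGrHom {f : X →ₗ[R] Y} (hf : IsGrHom 𝒳 𝒴 f) :
    IsGrHom (verGr D 𝒳) (verGr D 𝒴) (verMap D 𝒳 𝒴 f hf) := by
  intro j x hx
  rw [mem_verGr, val_verMap]
  exact hf _ _ hx

variable {𝒳 𝒴} in
theorem verMap_injective {f : X →ₗ[R] Y} (hf : IsGrHom 𝒳 𝒴 f) (hinj : Function.Injective f) :
    Function.Injective (verMap D 𝒳 𝒴 f hf) := by
  intro x y hxy
  apply Ver.ext
  apply hinj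
  rw [← val_verMap D hf, ← val_verMap D hf, hxy]

variable [Decomposition 𝒳] [Decomposition 𝒴]

variable {𝒳 𝒴} in
theorem verMap_verProj {f : X →ₗ[R] Y} (hf : IsGrHom 𝒳 𝒴 f) (x : X) :
    verMap D 𝒳 𝒴 f hf (verProj D 𝒳 x) = verProj D 𝒴 (f x) := by
  induction x using Decomposition.inductionOn 𝒳 with
  | zero => rw [map_zero, map_zero, map_zero, map_zero]
  | @homogeneous i x =>
    by_cases h : ∃ j, D.ψ j = i
    · apply Ver.ext
      rw [val_verMap, verProj_of_mem D 𝒳 x.2 h, verProj_of_mem D 𝒴 (hf _ _ x.2) h]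
    · rw [verProj_of_not D 𝒳 x.2 h, verProj_of_not D 𝒴 (hf _ _ x.2) h, map_zero]
  | add x y hx hy => rw [map_add, map_add, map_add, map_add, hx, hy]

variable {𝒳 𝒴} in
theorem verMap_surjective {f : X →ₗ[R] Y} (hf : IsGrHom 𝒳 𝒴 f) (hsurj : Function.Surjective f) :
    Function.Surjective (verMap D 𝒳 𝒴 f hf) := by
  intro y
  obtain ⟨x, hx⟩ := hsurj (Ver.val D 𝒴 y)
  refine ⟨verProj D 𝒳 x, ?_⟩
  rw [verMap_verProj, hx, verProj_val]

variable {Z : Type u} [AddCommGroup Z] [Module R Z] {𝒵 : ι → AddSubgroup Z}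
  [SetLike.GradedSMul 𝒜 𝒵] [Decomposition 𝒵]

variable {𝒳 𝒴} in
theorem verMap_exact {f : X →ₗ[R] Y} {g : Y →ₗ[R] Z} (hf : IsGrHom 𝒳 𝒴 f)
    (hg : IsGrHom 𝒴 𝒵 g) (hex : Function.Exact f g) :
    Function.Exact (verMap D 𝒳 𝒴 f hf) (verMap D 𝒴 𝒵 g hg) := by
  intro y
  constructor
  · intro hy
    have h1 : g (Ver.val D 𝒴 y) = 0 := by
      rw [← val_verMap D hg, hy, map_zero]
    obtain ⟨x, hx⟩ := (hex _).1 h1
    refine ⟨verProj D 𝒳 x, ?_⟩
    rw [verMap_verProj, hx, verProj_val]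
  · rintro ⟨x, rfl⟩
    apply Ver.ext
    rw [val_verMap, val_verMap, map_zero]
    exact (hex _).2 ⟨_, rfl⟩

end Map

end Ver

section GMod

variable {ι ι' : Type} [AddCommGroup ι] [DecidableEq ι] [AddCommGroup ι'] [DecidableEq ι']
variable {R R' : Type u} [CommRing R] [CommRing R']
variable {𝒜' : ι' → AddSubgroup R'} {𝒜 : ι → AddSubgroup R} [GradedRing 𝒜'] [GradedRing 𝒜]
variable (D : VData 𝒜' 𝒜)

/-- The Veronese module of a bundled graded module. -/
noncomputable def verG (X : GMod.{u} 𝒜) : GMod.{u} 𝒜' :=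
  { carrier := Ver D X.gr, gr := verGr D X.gr }

end GMod

end Groth.Agent.Lib.GrVer
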