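import Groth.Agent.Lib.GrVer1

/-!
# Veronese modules II: torsion functors, the Veronese datum over `ℤ`, Noetherianity (helper12)
-/

set_option autoImplicit false
set_option linter.unusedSectionVars false
universe u

namespace Groth.Agent.Lib.GrVer

open DirectSum GrLC Groth.Agent.Lib.H87GrMod Groth.Agent.Lib.H87GrMod2

section Gam

variable {ι ι' : Type} [AddCommGroup ι] [DecidableEq ι] [AddCommGroup ι'] [DecidableEq ι']
variable {R R' : Type u} [CommRing R] [CommRing R']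
variable {𝒜' : ι' → AddSubgroup R'} {𝒜 : ι → AddSubgroup R} [GradedRing 𝒜'] [GradedRing 𝒜]
variable (D : VData 𝒜' 𝒜)
variable {X : Type u} [AddCommGroup X] [Module R X] (𝒳 : ι → AddSubgroup X)
  [SetLike.GradedSMul 𝒜 𝒳]

/-- Compatibility of an ideal `a'` of `R'` with an ideal `a` of `R`: `a' R ⊆ a ⊆ √(a' R)`,
the latter in the form `a ^ N ⊆ a' R`. -/
structure IdealCompat (a' : Ideal R') (a : Ideal R) : Prop where
  map_le : a'.map D.φ ≤ a
  pow_le : ∃ N : ℕ, a ^ N ≤ a'.map D.φ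

variable {D}

theorem smul_val_eq_zero_of_mem_map_pow {a' : Ideal R'} {n : ℕ} {x : Ver D 𝒳}
    (hx : ∀ r ∈ a' ^ n, r • x = 0) {r : R} (hr : r ∈ (a'.map D.φ) ^ n) :
    r • Ver.val D 𝒳 x = 0 := by
  rw [← Ideal.map_pow] at hr
  refine Submodule.span_induction (p := fun r _ => r • Ver.val D 𝒳 x = 0) ?_ ?_ ?_ ?_ hr
  · rintro _ ⟨s, hs, rfl⟩
    rw [← Ver.val_smul, hx s hs, map_zero]
  · rw [zero_smul]
  · intro r s _ _ hr hs
    rw [add_smul, hr, hs, add_zero]
  · intro c r _ hr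
    rw [smul_eq_mul, mul_smul, hr, smul_zero]

theorem mem_gam_ver_iff {a' : Ideal R'} {a : Ideal R} (h : IdealCompat D a' a) (x : Ver D 𝒳) :
    x ∈ gam a' (Ver D 𝒳) ↔ Ver.val D 𝒳 x ∈ gam a X := by
  constructor
  · rintro ⟨n, hn⟩
    obtain ⟨N, hN⟩ := h.pow_le
    refine ⟨N * n, fun r hr => ?_⟩
    rw [pow_mul] at hr
    exact smul_val_eq_zero_of_mem_map_pow 𝒳 hn (Ideal.pow_right_mono hN n hr)
  · rintro ⟨n, hn⟩
    refine ⟨n, fun r hr => ?_⟩
    apply Ver.ext
    rw [Ver.val_smul, map_zero]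
    apply hn
    have : D.φ r ∈ (a' ^ n).map D.φ := Ideal.mem_map_of_mem _ hr
    rw [Ideal.map_pow] at this
    exact Ideal.pow_right_mono h.map_le n this

variable [Decomposition 𝒳]

/-- The Veronese projection preserves torsion elements (for a homogeneous ideal). -/
theorem verProj_mem_gam {a' : Ideal R'} {a : HomogeneousIdeal 𝒜} (h : IdealCompat D a' a.toIdeal)
    {x : X} (hx : x ∈ gam a.toIdeal X) : verProj D 𝒳 x ∈ gam a' (Ver D 𝒳) := by
  classical
  rw [mem_gam_ver_iff 𝒳 h]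
  have hhom := isHomogeneous_gam (𝒜 := 𝒜) (ℳ := 𝒳) a
  have hsum : Ver.val D 𝒳 (verProj D 𝒳 x) =
      ∑ i ∈ (decompose 𝒳 x).support, Ver.val D 𝒳 (verProj D 𝒳 (decompose 𝒳 x i : X)) := by
    conv_lhs => rw [← DirectSum.sum_support_decompose 𝒳 x]
    rw [map_sum, map_sum]
  rw [hsum]
  refine Submodule.sum_mem _ fun i _ => ?_
  by_cases hi : ∃ j, D.ψ j = i
  · rw [verProj_of_mem D 𝒳 (decompose 𝒳 x i).2 hi]
    exact hhom i hx
  · rw [verProj_of_not D 𝒳 (decompose 𝒳 x i).2 hi, map_zero]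
    exact zero_mem _

end Gam

section Retract

/-- A ring `R'` mapping to a Noetherian ring `R` with an `R'`-linear retraction is Noetherian. -/
theorem isNoetherianRing_of_retraction {R R' : Type*} [CommRing R] [CommRing R']
    [IsNoetherianRing R] (φ : R' →+* R) (ρ : R →+ R') (h1 : ∀ s, ρ (φ s) = s)
    (h2 : ∀ s r, ρ (φ s * r) = s * ρ r) : IsNoetherianRing R' := by
  have key : ∀ I' : Ideal R', (I'.map φ).comap φ = I' := by
    intro I'
    refine le_antisymm ?_ Ideal.le_comap_map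
    intro s hs
    have hs' : φ s ∈ I'.map φ := hs
    have hP : ∀ r ∈ I'.map φ, ∀ c : R, ρ (c * r) ∈ I' := by
      intro r hr
      refine Submodule.span_induction (p := fun r _ => ∀ c : R, ρ (c * r) ∈ I') ?_ ?_ ?_ ?_ hr
      · rintro _ ⟨t, ht, rfl⟩ c
        rw [mul_comm, h2]
        exact I'.mul_mem_right _ ht
      · intro c
        rw [mul_zero, map_zero]
        exact zero_mem _
      · intro r r' _ _ hr hr' c
        rw [mul_add, map_add]
        exact add_mem (hr c) (hr' c)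
      · intro d r _ hr c
        rw [smul_eq_mul, ← mul_assoc]
        exact hr (c * d)
    have := hP _ hs' 1
    rwa [one_mul, h1] at this
  have hmono : StrictMono (fun I' : Ideal R' => I'.map φ) := by
    intro I J hIJ
    refine lt_of_le_of_ne (Ideal.map_mono hIJ.le) ?_
    intro h
    have h' : I = J := by
      rw [← key I, ← key J]
      exact congrArg (Ideal.comap φ) h
    exact hIJ.ne h'
  rw [isNoetherianRing_iff, isNoetherian_iff']
  haveI : WellFoundedGT (Ideal R) := by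
    rw [← isNoetherian_iff', ← isNoetherianRing_iff]
    infer_instance
  exact hmono.wellFoundedGT

end Retract

section Surj

variable {ι ι' : Type} [AddCommGroup ι] [DecidableEq ι] [AddCommGroup ι'] [DecidableEq ι']
variable {R R' : Type u} [CommRing R] [CommRing R']
variable {𝒜' : ι' → AddSubgroup R'} {𝒜 : ι → AddSubgroup R} [GradedRing 𝒜'] [GradedRing 𝒜]
variable (D : VData 𝒜' 𝒜)

theorem φ_mem_verSub (s : R') : D.φ s ∈ verSub D 𝒜 := by
  classical
  induction s using Decomposition.inductionOn 𝒜' with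
  | zero => rw [map_zero]; exact zero_mem _
  | @homogeneous i s => exact mem_verSub_of_mem D 𝒜 (D.map_mem i s s.2)
  | add r s hr hs => rw [map_add]; exact add_mem hr hs

/-- `R'` maps onto the Veronese part of `R` when `φ` maps `R'_j` onto `R_{ψ j}`. -/
theorem exists_φ_eq (hsurj : ∀ j, ∀ r ∈ 𝒜 (D.ψ j), ∃ s ∈ 𝒜' j, D.φ s = r) {r : R}
    (hr : r ∈ verSub D 𝒜) : ∃ s : R', D.φ s = r := by
  refine verSub_induction D 𝒜 (P := fun r => ∃ s : R', D.φ s = r) hr ?_ ?_ ?_
  · intro j y hy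
    obtain ⟨s, -, hs⟩ := hsurj j y hy
    exact ⟨s, hs⟩
  · exact ⟨0, map_zero _⟩
  · rintro _ _ ⟨s, rfl⟩ ⟨t, rfl⟩
    exact ⟨s + t, map_add _ _ _⟩

/-- The Veronese ring `R'` of a Noetherian ring `R` is Noetherian. -/
theorem isNoetherianRing_ver [IsNoetherianRing R] (hinj : Function.Injective D.φ)
    (hsurj : ∀ j, ∀ r ∈ 𝒜 (D.ψ j), ∃ s ∈ 𝒜' j, D.φ s = r) : IsNoetherianRing R' := by
  classical
  have hex : ∀ r : R, ∃ s : R', D.φ s = Ver.val D 𝒜 (verProj D 𝒜 r) := fun r =>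
    exists_φ_eq D hsurj (verProj D 𝒜 r).val_mem
  choose ρf hρf using hex
  have hρφ : ∀ s, ρf (D.φ s) = s := by
    intro s
    apply hinj
    rw [hρf, verProj_val_of_mem D 𝒜 (φ_mem_verSub D s)]
  let ρ : R →+ R' := AddMonoidHom.mk' ρf (by
    intro a b
    apply hinj
    rw [map_add, hρf, hρf, hρf, map_add, map_add])
  refine isNoetherianRing_of_retraction D.φ ρ hρφ ?_
  intro s r
  apply hinj
  show D.φ (ρf (D.φ s * r)) = D.φ (s * ρf r)
  rw [hρf, ← smul_eq_mul (D.φ s) r, verProj_smul, Ver.val_smul, smul_eq_mul,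
    RingHom.map_mul D.φ s (ρf r), hρf]

end Surj

section Int

variable {R R' : Type u} [CommRing R] [CommRing R']
variable {𝒜' : ℤ → AddSubgroup R'} {𝒜 : ℤ → AddSubgroup R} [GradedRing 𝒜'] [GradedRing 𝒜]

/-- The Veronese datum of the `q`-th Veronese subring of a `ℤ`-graded ring. -/
def vdataInt (q : ℕ) (hq : 0 < q) (φ : R' →+* R)
    (hdeg : ∀ j : ℤ, (𝒜' j).map (φ : R' →+ R) = 𝒜 (j * q)) : VData 𝒜' 𝒜 where
  ψ := AddMonoidHom.mulRight (q : ℤ)
  ψ_inj := by
    intro i j hij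
    have hq' : (q : ℤ) ≠ 0 := by exact_mod_cast hq.ne'
    exact mul_right_cancel₀ hq' hij
  φ := φ
  map_mem j r hr := by
    show φ r ∈ 𝒜 (j * q)
    rw [← hdeg]
    exact ⟨r, hr, rfl⟩

variable (q : ℕ) (hq : 0 < q) (φ : R' →+* R)
  (hdeg : ∀ j : ℤ, (𝒜' j).map (φ : R' →+ R) = 𝒜 (j * q))

@[simp] theorem vdataInt_ψ (j : ℤ) : (vdataInt q hq φ hdeg).ψ j = j * q := rfl

@[simp] theorem vdataInt_φ : (vdataInt q hq φ hdeg).φ = φ := rfl

include hq hdeg in
/-- The irrelevant ideals of `R^{(q)}` and `R` are compatible. -/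
theorem idealCompat_irrelevant [IsNoetherianRing R] {m : Ideal R} {m' : Ideal R'}
    (hmsp : m = Ideal.span (⋃ n ∈ Set.Ioi (0 : ℤ), (𝒜 n : Set R)))
    (hm'sp : m' = Ideal.span (⋃ j ∈ Set.Ioi (0 : ℤ), (𝒜' j : Set R'))) :
    IdealCompat (vdataInt q hq φ hdeg) m' m := by
  have hq' : (0 : ℤ) < q := by exact_mod_cast hq
  have hle : m'.map φ ≤ m := by
    rw [Ideal.map_le_iff_le_comap, hm'sp, Ideal.span_le]
    intro r hr
    simp only [Set.mem_iUnion, Set.mem_Ioi, SetLike.mem_coe, exists_prop] at hr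
    obtain ⟨j, hj, hr⟩ := hr
    show φ r ∈ m
    rw [hmsp]
    refine Ideal.subset_span ?_
    simp only [Set.mem_iUnion, Set.mem_Ioi, SetLike.mem_coe, exists_prop]
    refine ⟨j * q, mul_pos hj hq', ?_⟩
    rw [← hdeg]
    exact ⟨r, hr, rfl⟩
  refine ⟨hle, ?_⟩
  have hrad : m ≤ (m'.map φ).radical := by
    rw [hmsp, Ideal.span_le]
    intro r hr
    simp only [Set.mem_iUnion, Set.mem_Ioi, SetLike.mem_coe, exists_prop] at hr
    obtain ⟨n, hn, hr⟩ := hr
    refine ⟨q, ?_⟩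
    have h1 : r ^ q ∈ 𝒜 (q • n) := SetLike.pow_mem_graded q hr
    have h2 : q • n = n * q := by rw [nsmul_eq_mul, mul_comm]
    rw [h2, ← hdeg] at h1
    obtain ⟨s, hs, hsr⟩ := h1
    have hs' : s ∈ m' := by
      rw [hm'sp]
      refine Ideal.subset_span ?_
      simp only [Set.mem_iUnion, Set.mem_Ioi, SetLike.mem_coe, exists_prop]
      exact ⟨n, hn, hs⟩
    have : φ s ∈ m'.map φ := Ideal.mem_map_of_mem _ hs'
    have hsr' : φ s = r ^ q := hsr
    rwa [hsr'] at this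
  exact Ideal.exists_pow_le_of_le_radical_of_fg hrad (IsNoetherian.noetherian m)

end Int

end Groth.Agent.Lib.GrVer
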