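import Groth.Agent.Lib.GrVer2
import Groth.Agent.Lib.LocCohIndepBase
import Groth.Agent.S13224

/-!
# Veronese modules III: the Veronese module of a *injective module is `Γ`-acyclic (helper12)
-/

set_option autoImplicit false
set_option linter.unusedSectionVars false
universe u

namespace Groth.Agent.Lib.GrVer

open DirectSum GrLC Groth.Agent.Lib.H87GrMod Groth.Agent.Lib.H87GrMod2 Groth.Agent.Lib.LocCohLES

section Acyc

variable {ι ι' : Type} [AddCommGroup ι] [DecidableEq ι] [AddCommGroup ι'] [DecidableEq ι']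
  [Module.Free ℤ ι] [Module.Finite ℤ ι] [Module.Free ℤ ι'] [Module.Finite ℤ ι']
variable {R R' : Type u} [CommRing R] [CommRing R'] [IsNoetherianRing R] [IsNoetherianRing R']
variable {𝒜' : ι' → AddSubgroup R'} {𝒜 : ι → AddSubgroup R} [GradedRing 𝒜'] [GradedRing 𝒜]
variable (D : VData 𝒜' 𝒜)
variable {X : Type u} [AddCommGroup X] [Module R X] (𝒳 : ι → AddSubgroup X)
  [SetLike.GradedSMul 𝒜 𝒳] [Decomposition 𝒳]

/-- The extension of a homogeneous ideal of `R'` to `R` is homogeneous. -/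
theorem isHomogeneous_map (a' : HomogeneousIdeal 𝒜') : (a'.toIdeal.map D.φ).IsHomogeneous 𝒜 := by
  obtain ⟨S, hS⟩ := (Ideal.IsHomogeneous.iff_exists 𝒜' a'.toIdeal).1 a'.isHomogeneous
  rw [hS, Ideal.map_span]
  apply Ideal.homogeneous_span
  rintro _ ⟨_, ⟨s, -, rfl⟩, rfl⟩
  obtain ⟨j, hj⟩ := s.2
  exact ⟨D.ψ j, D.map_mem j _ hj⟩

/-- The extended ideal as a homogeneous ideal. -/
def mapIdeal (a' : HomogeneousIdeal 𝒜') : HomogeneousIdeal 𝒜 :=
  ⟨a'.toIdeal.map D.φ, isHomogeneous_map D a'⟩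

/-- Ungraded local cohomology of the Veronese module of a *injective module vanishes in
positive degrees. -/
theorem subsingleton_locCoh_ver (a' : HomogeneousIdeal 𝒜') (hX : IsStarInj 𝒜 𝒳) (i : ℕ)
    (hi : 1 ≤ i) : Subsingleton (LocCoh.H a'.toIdeal i (Ver D 𝒳)) := by
  letI : Algebra R' R := D.φ.toAlgebra
  letI : Module R' X := Module.compHom X D.φ
  haveI : IsScalarTower R' R X :=
    ⟨fun r b y => by
      change (D.φ r * b) • y = D.φ r • (b • y)
      rw [mul_smul]⟩
  let ιV : Ver D 𝒳 →ₗ[R'] X :=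
    { toFun := Ver.val D 𝒳
      map_add' := map_add _
      map_smul' := fun r x => Ver.val_smul D 𝒳 r x }
  let πV : X →ₗ[R'] Ver D 𝒳 :=
    { toFun := verProj D 𝒳
      map_add' := map_add _
      map_smul' := fun r x => verProj_smul D 𝒳 r x }
  have hπι : πV ∘ₗ ιV = LinearMap.id := by
    ext x
    exact verProj_val D 𝒳 x
  have h0 : Subsingleton (LocCoh.H (a'.toIdeal.map D.φ) i X) :=
    Groth.Agent.S13217.result R 𝒜 (mapIdeal D a') X 𝒳 hX i hi
  obtain ⟨e, -⟩ := Groth.Agent.Lib.LocCohIndepBase.indep_base (R := R') (R' := R) a'.toIdeal i X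
  have h1 : Subsingleton (LocCoh.H a'.toIdeal i X) := e.symm.injective.subsingleton
  have hinj : Function.Injective (Hmap a'.toIdeal ιV i) := by
    intro y z hyz
    have := congrArg (Hmap a'.toIdeal πV i) hyz
    rwa [← Hmap_comp, ← Hmap_comp, hπι, Hmap_id, Hmap_id] at this
  exact hinj.subsingleton

/-- Graded local cohomology of the Veronese module of a *injective module vanishes in positive
degrees. -/
theorem subsingleton_H_ver (a' : HomogeneousIdeal 𝒜') (hX : IsStarInj 𝒜 𝒳)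
    (G : StarInjRes 𝒜' (verGr D 𝒳)) (i : ℕ) (hi : 1 ≤ i) : Subsingleton (G.H a' i) := by
  haveI := subsingleton_locCoh_ver D 𝒳 a' hX i hi
  obtain ⟨e⟩ := Groth.Agent.S13224.main a' G i
  exact e.injective.subsingleton

end Acyc

end Groth.Agent.Lib.GrVer
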