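import Groth.Agent.Lib.GrVer3

/-!
# Veronese modules IV: graded local cohomology commutes with the Veronese functor (helper12)

`pv` : for a Veronese datum `D` between Noetherian graded rings and compatible homogeneous ideals
`a'`, `a`, there is for every `i` a `φ`-semilinear injective additive map
`H^i_{a'}(Ver X) → H^i_a(X)` carrying the `j`-th piece onto the `ψ j`-th piece.
-/

set_option autoImplicit false
set_option linter.unusedSectionVars false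
set_option linter.style.haveILetI false
universe u

namespace Groth.Agent.Lib.GrVer

open DirectSum GrLC Groth.Agent.Lib.H87GrMod Groth.Agent.Lib.H87GrMod2 Groth.Agent.Lib.H87GrShift
  Groth.Agent.S18662 Groth.Agent.S18661 Groth.Agent.Lib.H74GrLES Groth.Agent.Lib.H74GrArt
  Groth.Agent.Lib.H74GrVan Groth.Agent.S13215 Groth.Agent.Lib.H74Coarse

section Desc

/-- Descending an additive map along a surjection. -/
theorem exists_addHom_of_surjective {B₁ C₁ B₂ C₂ : Type*} [AddCommGroup B₁] [AddCommGroup C₁]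
    [AddCommGroup B₂] [AddCommGroup C₂] (d₁ : B₁ →+ C₁) (d₂ : B₂ →+ C₂)
    (hd₁ : Function.Surjective d₁) (β : B₁ →+ B₂) (h : ∀ b, d₁ b = 0 → d₂ (β b) = 0) :
    ∃ γ : C₁ →+ C₂, ∀ b, γ (d₁ b) = d₂ (β b) := by
  have hwd : ∀ b b', d₁ b = d₁ b' → d₂ (β b) = d₂ (β b') := by
    intro b b' hbb
    have h1 : d₁ (b - b') = 0 := by rw [map_sub, hbb, sub_self]
    have h2 := h _ h1
    rw [map_sub, map_sub, sub_eq_zero] at h2
    exact h2
  let γf : C₁ → C₂ := fun c => d₂ (β (Classical.choose (hd₁ c)))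
  have hγ : ∀ b, γf (d₁ b) = d₂ (β b) := fun b =>
    hwd _ _ (Classical.choose_spec (hd₁ (d₁ b)))
  refine ⟨AddMonoidHom.mk' γf ?_, hγ⟩
  intro c c'
  obtain ⟨b, rfl⟩ := hd₁ c
  obtain ⟨b', rfl⟩ := hd₁ c'
  rw [← map_add, hγ, hγ, hγ, map_add, map_add]

end Desc

section Main

variable {ι ι' : Type} [AddCommGroup ι] [DecidableEq ι] [AddCommGroup ι'] [DecidableEq ι']
  [Module.Free ℤ ι] [Module.Finite ℤ ι] [Module.Free ℤ ι'] [Module.Finite ℤ ι']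
variable {R R' : Type u} [CommRing R] [CommRing R'] [IsNoetherianRing R] [IsNoetherianRing R']
variable {𝒜' : ι' → AddSubgroup R'} {𝒜 : ι → AddSubgroup R} [GradedRing 𝒜'] [GradedRing 𝒜]
variable (D : VData 𝒜' 𝒜) (a' : HomogeneousIdeal 𝒜') (a : HomogeneousIdeal 𝒜)
  (hc : IdealCompat D a'.toIdeal a.toIdeal)

/-- The Veronese comparison statement in cohomological degree `i`. -/
def PV (i : ℕ) : Prop :=
  ∀ (X : Type u) [AddCommGroup X] [Module R X] (𝒳 : ι → AddSubgroup X) [Decomposition 𝒳]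
    [SetLike.GradedSMul 𝒜 𝒳] (E : StarInjRes 𝒜 𝒳) (E' : StarInjRes 𝒜' (verGr D 𝒳)),
    ∃ Ψ : E'.H a' i →+ E.H a i,
      (∀ (r : R') (x : E'.H a' i), Ψ (r • x) = D.φ r • Ψ x) ∧ Function.Injective Ψ ∧
      (∀ j x, x ∈ E'.Hcomp a' i j → Ψ x ∈ E.Hcomp a i (D.ψ j)) ∧
      (∀ j y, y ∈ E.Hcomp a i (D.ψ j) → ∃ x ∈ E'.Hcomp a' i j, Ψ x = y)

variable {X : Type u} [AddCommGroup X] [Module R X] (𝒳 : ι → AddSubgroup X) [Decomposition 𝒳]
  [SetLike.GradedSMul 𝒜 𝒳]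

include hc in
theorem psi_zero (E : StarInjRes 𝒜 𝒳) (E' : StarInjRes 𝒜' (verGr D 𝒳)) :
    ∃ Ψ : E'.H a' 0 →+ E.H a 0,
      (∀ (r : R') (x : E'.H a' 0), Ψ (r • x) = D.φ r • Ψ x) ∧ Function.Injective Ψ ∧
      (∀ j x, x ∈ E'.Hcomp a' 0 j → Ψ x ∈ E.Hcomp a 0 (D.ψ j)) ∧
      (∀ j y, y ∈ E.Hcomp a 0 (D.ψ j) → ∃ x ∈ E'.Hcomp a' 0 j, Ψ x = y) ∧
      ∀ (x : Ver D 𝒳) (hx : x ∈ gam a'.toIdeal (Ver D 𝒳))
        (hx' : Ver.val D 𝒳 x ∈ gam a.toIdeal X),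
        Ψ (Phi E' a' ⟨x, hx⟩) = Phi E a ⟨Ver.val D 𝒳 x, hx'⟩ := by
  let e1 : gam a.toIdeal X ≃ₗ[R] E.H a 0 :=
    LinearEquiv.ofBijective (Phi E a) ⟨Phi_injective E a, Phi_surjective E a⟩
  let e1' : gam a'.toIdeal (Ver D 𝒳) ≃ₗ[R'] E'.H a' 0 :=
    LinearEquiv.ofBijective (Phi E' a') ⟨Phi_injective E' a', Phi_surjective E' a'⟩
  let γ : gam a'.toIdeal (Ver D 𝒳) →+ gam a.toIdeal X :=
    { toFun := fun x => ⟨Ver.val D 𝒳 x.1, (mem_gam_ver_iff 𝒳 hc x.1).1 x.2⟩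
      map_zero' := Subtype.ext (map_zero _)
      map_add' := fun x y => Subtype.ext (map_add _ _ _) }
  let Ψ : E'.H a' 0 →+ E.H a 0 :=
    e1.toLinearMap.toAddMonoidHom.comp (γ.comp e1'.symm.toLinearMap.toAddMonoidHom)
  have hform : ∀ (x : Ver D 𝒳) (hx : x ∈ gam a'.toIdeal (Ver D 𝒳))
      (hx' : Ver.val D 𝒳 x ∈ gam a.toIdeal X),
      Ψ (Phi E' a' ⟨x, hx⟩) = Phi E a ⟨Ver.val D 𝒳 x, hx'⟩ := by
    intro x hx hx'
    show e1 (γ (e1'.symm (e1' ⟨x, hx⟩))) = _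
    rw [e1'.symm_apply_apply]
    rfl
  refine ⟨Ψ, ?_, ?_, ?_, ?_, hform⟩
  · intro r y
    obtain ⟨x, rfl⟩ := Phi_surjective E' a' y
    rw [← map_smul]
    have h1 := hform x.1 x.2 ((mem_gam_ver_iff 𝒳 hc x.1).1 x.2)
    have h2 := hform (r • x).1 (r • x).2 ((mem_gam_ver_iff 𝒳 hc (r • x).1).1 (r • x).2)
    rw [Subtype.coe_eta] at h1 h2
    rw [h1, h2, ← map_smul]
    congr 1
  · intro y z hyz
    have h3 : γ (e1'.symm y) = γ (e1'.symm z) := e1.injective hyz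
    have h4 : e1'.symm y = e1'.symm z := by
      apply Subtype.ext
      apply Ver.ext
      exact congrArg (fun w : gam a.toIdeal X => (w : X)) h3
    exact e1'.symm.injective h4
  · intro j y hy
    obtain ⟨m, hmj, rfl⟩ := exists_of_mem_Hcomp E' a' hy
    have h1 := hform m.1 m.2 ((mem_gam_ver_iff 𝒳 hc m.1).1 m.2)
    rw [Subtype.coe_eta] at h1
    rw [h1]
    exact Phi_mem_Hcomp E a _ ((mem_verGr D 𝒳).1 hmj)
  · intro j y hy
    obtain ⟨m, hmj, rfl⟩ := exists_of_mem_Hcomp E a hy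
    have hx : Ver.mk D 𝒳 m.1 (mem_verSub_of_mem D 𝒳 hmj) ∈ gam a'.toIdeal (Ver D 𝒳) :=
      (mem_gam_ver_iff 𝒳 hc _).2 m.2
    refine ⟨Phi E' a' ⟨_, hx⟩, Phi_mem_Hcomp E' a' ⟨_, hx⟩ hmj, ?_⟩
    rw [hform _ hx m.2]
    rfl

include hc in
theorem pv_succ_aux (i : ℕ) (IH : PV D a' a i)
    (E : StarInjRes 𝒜 𝒳) (E' : StarInjRes 𝒜' (verGr D 𝒳))
    {I : Type u} [AddCommGroup I] [Module R I] (ℐ : ι → AddSubgroup I) [Decomposition ℐ]
    [SetLike.GradedSMul 𝒜 ℐ] (hI : IsStarInj 𝒜 ℐ)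
    {C : Type u} [AddCommGroup C] [Module R C] (𝒞 : ι → AddSubgroup C) [Decomposition 𝒞]
    [SetLike.GradedSMul 𝒜 𝒞]
    {f : X →ₗ[R] I} {q : I →ₗ[R] C} (hf : IsGrHom 𝒳 ℐ f) (hq : IsGrHom ℐ 𝒞 q)
    (hfinj : Function.Injective f) (hex : Function.Exact f q) (hqs : Function.Surjective q)
    (A : StarInjRes 𝒜 ℐ) (B : StarInjRes 𝒜 𝒞) (F : StarInjRes 𝒜' (verGr D ℐ))
    (G : StarInjRes 𝒜' (verGr D 𝒞)) :
    ∃ Ψ : E'.H a' (i + 1) →+ E.H a (i + 1),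
      (∀ (r : R') (x : E'.H a' (i + 1)), Ψ (r • x) = D.φ r • Ψ x) ∧ Function.Injective Ψ ∧
      (∀ j x, x ∈ E'.Hcomp a' (i + 1) j → Ψ x ∈ E.Hcomp a (i + 1) (D.ψ j)) ∧
      (∀ j y, y ∈ E.Hcomp a (i + 1) (D.ψ j) → ∃ x ∈ E'.Hcomp a' (i + 1) j, Ψ x = y) := by
  -- the Veronese sequence
  have hf' := verMap_isGrHom D hf
  have hq' := verMap_isGrHom D hq
  have hfinj' := verMap_injective D hf hfinj
  have hex' := verMap_exact D hf hq hex
  have hqs' := verMap_surjective D hq hqs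
  -- the `R`-side
  obtain ⟨cf, hcf⟩ := exists_cmap E A (isGrHomDeg_zero_of hf)
  obtain ⟨cg, hcg⟩ := exists_cmap A B (isGrHomDeg_zero_of hq)
  obtain ⟨δ, hδ, h1, h2, h3⟩ := exists_les E A B hf hq hfinj hex hqs a cf hcf cg hcg
  have hvanA : ∀ j, 1 ≤ j → Subsingleton (A.H a j) := by
    intro j hj
    haveI := Groth.Agent.S13217.result R 𝒜 a I ℐ hI j hj
    obtain ⟨e⟩ := Groth.Agent.S13224.main a A j
    exact e.injective.subsingleton
  -- the `R'`-side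
  obtain ⟨cf', hcf'⟩ := exists_cmap E' F (isGrHomDeg_zero_of hf')
  obtain ⟨cg', hcg'⟩ := exists_cmap F G (isGrHomDeg_zero_of hq')
  obtain ⟨δ', hδ', h1', h2', h3'⟩ :=
    exists_les E' F G hf' hq' hfinj' hex' hqs' a' cf' hcf' cg' hcg'
  have hvanF : ∀ j, 1 ≤ j → Subsingleton (F.H a' j) := fun j hj =>
    subsingleton_H_ver D ℐ a' hI F j hj
  -- surjectivity of the connecting maps
  have hδs : Function.Surjective (δ i) := by
    intro η
    haveI := hvanA (i + 1) (by omega)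
    exact (h3 i η).mp (Subsingleton.elim _ _)
  have hδs' : Function.Surjective (δ' i) := by
    intro η
    haveI := hvanF (i + 1) (by omega)
    exact (h3' i η).mp (Subsingleton.elim _ _)
  -- the map for `C`, compatible with the images of `H^i(I)`
  obtain ⟨ΨC, hΨsm, hΨinj, hΨgr, hΨgr', hcompat⟩ : ∃ ΨC : G.H a' i →+ B.H a i,
      (∀ (r : R') (x : G.H a' i), ΨC (r • x) = D.φ r • ΨC x) ∧ Function.Injective ΨC ∧
      (∀ j x, x ∈ G.Hcomp a' i j → ΨC x ∈ B.Hcomp a i (D.ψ j)) ∧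
      (∀ j y, y ∈ B.Hcomp a i (D.ψ j) → ∃ x ∈ G.Hcomp a' i j, ΨC x = y) ∧
      ∀ y, y ∈ LinearMap.range (cg'.Hmap a' i) ↔ ΨC y ∈ LinearMap.range (cg.Hmap a i) := by
    rcases Nat.eq_zero_or_pos i with hi | hi
    · subst hi
      obtain ⟨Ψ, hΨ1, hΨ2, hΨ3, hΨ4, hΨ⟩ := psi_zero D a' a hc 𝒞 B G
      refine ⟨Ψ, hΨ1, hΨ2, hΨ3, hΨ4, fun y => ?_⟩
      obtain ⟨c, rfl⟩ := Phi_surjective G a' y
      have hc' : Ver.val D 𝒞 c.1 ∈ gam a.toIdeal C := (mem_gam_ver_iff 𝒞 hc c.1).1 c.2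
      have hΨc := hΨ c.1 c.2 hc'
      rw [Subtype.coe_eta] at hΨc
      rw [hΨc]
      constructor
      · rintro ⟨x, hx⟩
        obtain ⟨u, rfl⟩ := Phi_surjective F a' x
        rw [Hmap_Phi F G a' cg' hcg' u] at hx
        have hcu := Phi_injective _ a' hx
        have hu' : Ver.val D ℐ u.1 ∈ gam a.toIdeal I := (mem_gam_ver_iff ℐ hc u.1).1 u.2
        refine ⟨Phi A a ⟨_, hu'⟩, ?_⟩
        rw [Hmap_Phi A B a cg hcg ⟨_, hu'⟩]
        congr 1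
        apply Subtype.ext
        show q (Ver.val D ℐ u.1) = Ver.val D 𝒞 c.1
        rw [← val_verMap D hq, ← congrArg Subtype.val hcu]
      · rintro ⟨x, hx⟩
        obtain ⟨u, rfl⟩ := Phi_surjective A a x
        rw [Hmap_Phi A B a cg hcg u] at hx
        have hcu := congrArg Subtype.val (Phi_injective _ a hx)
        have hcu' : q u.1 = Ver.val D 𝒞 c.1 := hcu
        have hu' : verProj D ℐ u.1 ∈ gam a'.toIdeal (Ver D ℐ) := verProj_mem_gam ℐ hc u.2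
        refine ⟨Phi F a' ⟨_, hu'⟩, ?_⟩
        rw [Hmap_Phi F G a' cg' hcg' ⟨_, hu'⟩]
        congr 1
        apply Subtype.ext
        show verMap D ℐ 𝒞 q hq (verProj D ℐ u.1) = c.1
        rw [verMap_verProj, hcu', verProj_val]
    · obtain ⟨Ψ, hΨ1, hΨ2, hΨ3, hΨ4⟩ := IH C 𝒞 B G
      refine ⟨Ψ, hΨ1, hΨ2, hΨ3, hΨ4, fun y => ?_⟩
      haveI := hvanA i hi
      haveI := hvanF i hi
      constructor
      · rintro ⟨x, rfl⟩
        rw [Subsingleton.elim x 0, map_zero, map_zero]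
        exact zero_mem _
      · rintro ⟨x, hx⟩
        rw [Subsingleton.elim x 0, map_zero] at hx
        have : y = 0 := hΨ2 (by rw [← hx, map_zero])
        rw [this]
        exact zero_mem _
  -- the induced map
  obtain ⟨Ψ, hΨ⟩ := exists_addHom_of_surjective (δ' i).toAddMonoidHom (δ i).toAddMonoidHom hδs'
    ΨC (fun y hy => by
      have hy' : δ' i y = 0 := hy
      show δ i (ΨC y) = 0
      rw [h2 i (ΨC y), ← hcompat y, ← h2' i y]
      exact hy')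
  have hΨ' : ∀ y, Ψ (δ' i y) = δ i (ΨC y) := hΨ
  letI := decompositionHgr 𝒜 𝒳 a E (i + 1)
  letI := decompositionHgr 𝒜 𝒞 a B i
  letI := decompositionHgr 𝒜' (verGr D 𝒳) a' E' (i + 1)
  letI := decompositionHgr 𝒜' (verGr D 𝒞) a' G i
  have hδdeg : IsGrHomDeg (B.Hgr a i) (E.Hgr a (i + 1)) (δ i) 0 := fun g ξ hξ => by
    rw [add_zero]; exact hδ i g ξ hξ
  have hδdeg' : IsGrHomDeg (G.Hgr a' i) (E'.Hgr a' (i + 1)) (δ' i) 0 := fun g ξ hξ => by
    rw [add_zero]; exact hδ' i g ξ hξ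
  refine ⟨Ψ, ?_, ?_, ?_, ?_⟩
  · intro r x
    obtain ⟨y, rfl⟩ := hδs' x
    rw [← map_smul, hΨ', hΨ', hΨsm, map_smul]
  · intro x z hxz
    obtain ⟨y, rfl⟩ := hδs' x
    obtain ⟨w, rfl⟩ := hδs' z
    rw [hΨ', hΨ', ← sub_eq_zero, ← map_sub, ← map_sub] at hxz
    have h4 : ΨC (y - w) ∈ LinearMap.range (cg.Hmap a i) := (h2 i _).1 hxz
    have h5 : y - w ∈ LinearMap.range (cg'.Hmap a' i) := (hcompat _).2 h4
    have h6 : δ' i (y - w) = 0 := (h2' i _).2 h5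
    rw [map_sub, sub_eq_zero] at h6
    exact h6
  · intro j x hx
    obtain ⟨w, hw, rfl⟩ := exists_homogeneous_preimage _ _ hδdeg' hx
      (LinearMap.range_eq_top.mpr hδs' ▸ Submodule.mem_top)
    rw [sub_zero] at hw
    rw [hΨ']
    exact hδ i _ _ (hΨgr j w hw)
  · intro j y hy
    obtain ⟨w, hw, rfl⟩ := exists_homogeneous_preimage _ _ hδdeg hy
      (LinearMap.range_eq_top.mpr hδs ▸ Submodule.mem_top)
    rw [sub_zero] at hw
    obtain ⟨x, hx, rfl⟩ := hΨgr' j w hw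
    exact ⟨δ' i x, hδ' i j x hx, hΨ' x⟩

end Main

section Induction

variable {ι ι' : Type} [AddCommGroup ι] [DecidableEq ι] [AddCommGroup ι'] [DecidableEq ι']
  [Module.Free ℤ ι] [Module.Finite ℤ ι] [Module.Free ℤ ι'] [Module.Finite ℤ ι']
variable {R R' : Type u} [CommRing R] [CommRing R'] [IsNoetherianRing R] [IsNoetherianRing R']
variable {𝒜' : ι' → AddSubgroup R'} {𝒜 : ι → AddSubgroup R} [GradedRing 𝒜'] [GradedRing 𝒜]
variable (D : VData 𝒜' 𝒜) (a' : HomogeneousIdeal 𝒜') (a : HomogeneousIdeal 𝒜)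
  (hc : IdealCompat D a'.toIdeal a.toIdeal)

include hc in
theorem pv_succ (i : ℕ) (IH : PV D a' a i) : PV D a' a (i + 1) := by
  intro X _ _ 𝒳 _ _ E E'
  have hεdeg : IsGrHomDeg 𝒳 (E.X 0).gr E.ε 0 := isGrHomDeg_zero_of E.ε_grHom
  have hB : (LinearMap.range E.ε).IsHomogeneous (E.X 0).gr :=
    isHomogeneous_range_deg 𝒳 (E.X 0).gr hεdeg
  have hqgr := quotMap_isGrHom 𝒜 (E.X 0).gr _ hB
  have hqs := quotMap_surjective 𝒜 (E.X 0).gr _ hB
  have hex : Function.Exact E.ε (quotMap 𝒜 (E.X 0).gr _ hB) := by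
    intro x
    rw [quotMap_eq_zero_iff]
    rfl
  exact pv_succ_aux D a' a hc 𝒳 i IH E E' (E.X 0).gr (E.starInj 0)
    (quotGMod 𝒜 (E.X 0).gr _ hB).gr E.ε_grHom hqgr E.ε_injective hex hqs
    (res (𝒜 := 𝒜) (E.X 0).gr) (res (𝒜 := 𝒜) (quotGMod 𝒜 (E.X 0).gr _ hB).gr)
    (res (𝒜 := 𝒜') (verGr D (E.X 0).gr))
    (res (𝒜 := 𝒜') (verGr D (quotGMod 𝒜 (E.X 0).gr _ hB).gr))

include hc in
/-- **Graded local cohomology commutes with the Veronese functor.** -/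
theorem pv (i : ℕ) : PV D a' a i := by
  induction i with
  | zero =>
    intro X _ _ 𝒳 _ _ E E'
    obtain ⟨Ψ, h1, h2, h3, h4, -⟩ := psi_zero D a' a hc 𝒳 E E'
    exact ⟨Ψ, h1, h2, h3, h4⟩
  | succ i ih => exact pv_succ D a' a hc i ih

end Induction

end Groth.Agent.Lib.GrVer
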