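import Groth.Agent.Lib.GrVer5

/-!
# Veronese modules VI: the `q`-th Veronese subring of a `ℤ`-graded ring (helper12)

`finrank_Hcomp_veronese` : `dim H^p_{m'}(M^{(q)})_j = dim H^p_m(M)_{jq}` for abstractly presented
Veronese ring and module (Goto–Watanabe 3.1.1).
-/

set_option autoImplicit false
set_option linter.unusedSectionVars false
universe u

namespace Groth.Agent.Lib.GrVer

open DirectSum GrLC

section Int

variable {R R' : Type u} [CommRing R] [CommRing R']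
variable {𝒜' : ℤ → AddSubgroup R'} {𝒜 : ℤ → AddSubgroup R} [GradedRing 𝒜'] [GradedRing 𝒜]
variable (q : ℕ) (hq : 0 < q) (φ : R' →+* R)
  (hdeg : ∀ j : ℤ, (𝒜' j).map (φ : R' →+ R) = 𝒜 (j * q))
variable {M : Type u} [AddCommGroup M] [Module R M] {ℳ : ℤ → AddSubgroup M} [Decomposition ℳ]
  [SetLike.GradedSMul 𝒜 ℳ]
variable {M' : Type u} [AddCommGroup M'] [Module R' M'] {ℳ' : ℤ → AddSubgroup M'}
  [Decomposition ℳ'] [SetLike.GradedSMul 𝒜' ℳ']
variable (g : M' →ₛₗ[φ] M) (hg : Function.Injective g)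
  (hgdeg : ∀ j : ℤ, (ℳ' j).map (g : M' →+ M) = ℳ (j * q))

include hgdeg in
theorem g_mem_verSub (x : M') : g x ∈ verSub (vdataInt q hq φ hdeg) ℳ := by
  classical
  induction x using Decomposition.inductionOn ℳ' with
  | zero => rw [map_zero]; exact zero_mem _
  | @homogeneous j x =>
    refine mem_verSub_of_mem (vdataInt q hq φ hdeg) ℳ (j := j) ?_
    show g x ∈ ℳ (j * q)
    rw [← hgdeg]
    exact ⟨x, x.2, rfl⟩
  | add x y hx hy => rw [map_add]; exact add_mem hx hy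

/-- The identification of an abstractly presented Veronese module with `Ver`. -/
def thetaHom : M' →ₗ[R'] Ver (vdataInt q hq φ hdeg) ℳ where
  toFun x := Ver.mk _ ℳ (g x) (g_mem_verSub q hq φ hdeg g hgdeg x)
  map_add' x y := Ver.ext (by rw [Ver.val_mk, map_add, map_add, Ver.val_mk, Ver.val_mk])
  map_smul' r x := Ver.ext (by
    rw [Ver.val_mk, RingHom.id_apply, Ver.val_smul, Ver.val_mk, map_smulₛₗ]
    rfl)

theorem val_thetaHom (x : M') :
    Ver.val _ ℳ (thetaHom q hq φ hdeg g hgdeg x) = g x := rfl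

include hg in
theorem thetaHom_bijective : Function.Bijective (thetaHom q hq φ hdeg g hgdeg) := by
  constructor
  · intro x y hxy
    apply hg
    rw [← val_thetaHom q hq φ hdeg g hgdeg, ← val_thetaHom q hq φ hdeg g hgdeg, hxy]
  · intro y
    have key : ∀ z ∈ verSub (vdataInt q hq φ hdeg) ℳ, ∃ x, g x = z := by
      intro z hz
      refine verSub_induction (vdataInt q hq φ hdeg) ℳ (P := fun z => ∃ x, g x = z) hz ?_ ?_ ?_
      · intro j w hw
        have hw' : w ∈ ℳ (j * q) := hw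
        rw [← hgdeg] at hw'
        obtain ⟨x, -, hx⟩ := hw'
        exact ⟨x, hx⟩
      · exact ⟨0, map_zero _⟩
      · rintro _ _ ⟨x, rfl⟩ ⟨x', rfl⟩
        exact ⟨x + x', map_add _ _ _⟩
    obtain ⟨x, hx⟩ := key _ y.val_mem
    exact ⟨x, Ver.ext hx⟩

/-- `θ` as a linear equivalence. -/
noncomputable def theta : M' ≃ₗ[R'] Ver (vdataInt q hq φ hdeg) ℳ :=
  LinearEquiv.ofBijective (thetaHom q hq φ hdeg g hgdeg) (thetaHom_bijective q hq φ hdeg g hg hgdeg)

theorem theta_isGrHom :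
    IsGrHom ℳ' (verGr (vdataInt q hq φ hdeg) ℳ) (theta q hq φ hdeg g hg hgdeg).toLinearMap := by
  intro j x hx
  show g x ∈ ℳ (j * q)
  rw [← hgdeg]
  exact ⟨x, hx, rfl⟩

theorem theta_symm_isGrHom :
    IsGrHom (verGr (vdataInt q hq φ hdeg) ℳ) ℳ'
      (theta q hq φ hdeg g hg hgdeg).symm.toLinearMap := by
  intro j y hy
  have hy' : Ver.val _ ℳ y ∈ ℳ (j * q) := hy
  rw [← hgdeg] at hy'
  obtain ⟨x, hx, hxy⟩ := hy'
  have : theta q hq φ hdeg g hg hgdeg x = y := Ver.ext hxy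
  show (theta q hq φ hdeg g hg hgdeg).symm y ∈ ℳ' j
  rw [← this, LinearEquiv.symm_apply_apply]
  exact hx

include hq hdeg hg hgdeg in
/-- **Local cohomology of Veronese modules** (Goto–Watanabe): the dimension of
`H^p_{m'}(M^{(q)})_j` equals that of `H^p_m(M)_{jq}`. -/
theorem finrank_Hcomp_veronese [IsNoetherianRing R] (hφ : Function.Injective φ)
    (m : HomogeneousIdeal 𝒜) (m' : HomogeneousIdeal 𝒜')
    (hmsp : m.toIdeal = Ideal.span (⋃ n ∈ Set.Ioi (0 : ℤ), (𝒜 n : Set R)))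
    (hm'sp : m'.toIdeal = Ideal.span (⋃ j ∈ Set.Ioi (0 : ℤ), (𝒜' j : Set R')))
    (E : StarInjRes 𝒜 ℳ) (F : StarInjRes 𝒜' ℳ') (p : ℕ) (j : ℤ) :
    Module.finrank (deg0 𝒜') (F.Hcomp m' p j) = Module.finrank (deg0 𝒜) (E.Hcomp m p (j * q)) := by
  have hsurj : ∀ j, ∀ r ∈ 𝒜 ((vdataInt q hq φ hdeg).ψ j), ∃ s ∈ 𝒜' j,
      (vdataInt q hq φ hdeg).φ s = r := by
    intro j r hr
    have hr' : r ∈ 𝒜 (j * q) := hr
    rw [← hdeg] at hr'
    exact hr'
  haveI : IsNoetherianRing R' := isNoetherianRing_ver (vdataInt q hq φ hdeg) hφ hsurj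
  have hc := idealCompat_irrelevant q hq φ hdeg hmsp hm'sp
  have hsurj0 : ∀ r ∈ 𝒜 0, ∃ s ∈ 𝒜' 0, (vdataInt q hq φ hdeg).φ s = r := by
    intro r hr
    have := hsurj 0 r (by rw [map_zero]; exact hr)
    exact this
  exact finrank_Hcomp_eq (vdataInt q hq φ hdeg) m' m hc hφ hsurj0 E F
    (theta q hq φ hdeg g hg hgdeg) (theta_isGrHom q hq φ hdeg g hg hgdeg)
    (theta_symm_isGrHom q hq φ hdeg g hg hgdeg) p j

end Int

end Groth.Agent.Lib.GrVer
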