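import Mathlib
import Groth.Agent.Lib.GrVerBass
import Groth.Agent.Lib.GrGenericForm3
import Groth.Agent.Lib.H26GorDual
import Groth.Agent.Lib.H74GrCM

set_option autoImplicit false
set_option linter.unusedSectionVars false
set_option linter.style.haveILetI false

universe u

namespace Groth.Agent.Lib.GrVerConv

open CategoryTheory Abelian DirectSum GrLC IsLocalRing

section Ungraded

variable {R : Type u} [CommRing R] [IsNoetherianRing R] (p : Ideal R) [hp : p.IsMaximal]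
  (n : ℕ) (hn : ringKrullDim (Localization.AtPrime p) = n)
  [LocCoh.IsGorensteinLocalRing (Localization.AtPrime p)]

include hn in
/-- the type of a Gorenstein local ring is one. -/
theorem bassNum_eq_one_of_gorenstein : GrLC.bassNum p R n = 1 := by
  let e4 : LocalizedModule p.primeCompl R ≃ₗ[Localization p.primeCompl]
      Localization p.primeCompl :=
    LinearEquiv.extendScalarsOfIsLocalization p.primeCompl
      (Localization p.primeCompl)
      (IsLocalizedModule.iso p.primeCompl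
        (Algebra.linearMap R (Localization p.primeCompl)))
  have e5 := Groth.Agent.Lib.H26ExtLocIso.extCongr (R := Localization.AtPrime p)
    (Iso.refl (ModuleCat.of (Localization.AtPrime p)
      (ResidueField (Localization.AtPrime p))))
    (Y := ModuleCat.of (Localization.AtPrime p) (LocalizedModule p.primeCompl R))
    (Y' := ModuleCat.of (Localization.AtPrime p) (Localization.AtPrime p))
    e4.toModuleIso n
  have hsimple : IsSimpleModule (Localization.AtPrime p)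
      (Localization.AtPrime p ⧸ maximalIdeal (Localization.AtPrime p)) :=
    isSimpleModule_iff_isCoatom.mpr (Ideal.isMaximal_def.mp inferInstance)
  have h2 : Module.length (Localization.AtPrime p) (ResidueField (Localization.AtPrime p)) = 1 :=
    Module.length_eq_one (Localization.AtPrime p)
      (Localization.AtPrime p ⧸ maximalIdeal (Localization.AtPrime p))
  have hfl : IsFiniteLength (Localization.AtPrime p) (ResidueField (Localization.AtPrime p)) := by
    rw [← Module.length_ne_top_iff, h2]; simp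
  unfold GrLC.bassNum GrLC.bassNumLocal
  rw [e5.length_eq, Groth.Agent.Lib.H26GorDual.gorenstein_length_ext (Localization.AtPrime p) n hn
    (ResidueField (Localization.AtPrime p)) hfl, h2]

end Ungraded

section Reg

variable {R : Type u} [CommRing R]

/-- A positively graded `*`local Cohen–Macaulay ring of dimension `≥ 1` has a regular
homogeneous element of positive degree. -/
theorem exists_regular_one [LocCoh.IsCohenMacaulayRing R] (𝒜 : ℤ → AddSubgroup R) [GradedRing 𝒜]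
    (hpos : ∀ n : ℤ, n < 0 → 𝒜 n = ⊥) (m : HomogeneousIdeal 𝒜) (hm : GrLC.IsStarLocal 𝒜 m)
    (hmsp : m.toIdeal = Ideal.span (⋃ n ∈ Set.Ioi (0 : ℤ), (𝒜 n : Set R)))
    (n : ℕ) (hn : ringKrullDim R = n) (h1 : 1 ≤ n) :
    ∃ (y₁ : R) (δ₁ : ℕ), y₁ ∈ 𝒜 ((δ₁ : ℤ) + 1) ∧ IsSMulRegular R y₁ := by
  have hmax : m.toIdeal.IsMaximal := Groth.Agent.Lib.H74GrArt.isMaximal_of_isStarLocal 𝒜 hpos m hm
  have hIM := Groth.Agent.Lib.H8CM.smul_top_self_ne_top hmax.ne_top
  have hd : (n : ℕ∞) ≤ LocCoh.idealDepth m.toIdeal R := by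
    rw [Groth.Agent.Lib.H74GrCM.idealDepth_eq_dim 𝒜 hpos m hm n hn]
  have hH0 : Subsingleton (LocCoh.H m.toIdeal 0 R) :=
    Groth.Agent.S0318.subsingleton_H_of_lt m.toIdeal R hIM n hd 0 (by omega)
  obtain ⟨y₁, d₁, hd₁, hy1, -, hreg1⟩ :=
    Groth.Agent.Lib.H74GrVan.exists_homogeneous_regular 𝒜 (M := R) m.toIdeal hmsp
      (Groth.Agent.Lib.GrCanonDepth.gam_eq_bot_of_subsingleton _ _ hH0)
  refine ⟨y₁, d₁ - 1, ?_, hreg1⟩
  have e : ((d₁ - 1 : ℕ) : ℤ) + 1 = (d₁ : ℤ) := by omega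
  rw [e]; exact hy1

end Reg

section Main

variable {R R' : Type u} [CommRing R] [CommRing R'] [hG : LocCoh.IsGorensteinRing R]
  (𝒜 : ℤ → AddSubgroup R) [GradedRing 𝒜]
  (hpos : ∀ n : ℤ, n < 0 → 𝒜 n = ⊥) (h0 : IsField (deg0 𝒜))
  (m : HomogeneousIdeal 𝒜) (hm : GrLC.IsStarLocal 𝒜 m)
  (hmsp : m.toIdeal = Ideal.span (⋃ n ∈ Set.Ioi (0 : ℤ), (𝒜 n : Set R)))
  (hstd : Ideal.span (⋃ n ∈ Set.Ioi (0 : ℤ), (𝒜 n : Set R)) =
      Ideal.span ((𝒜 1 : AddSubgroup R) : Set R))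
  (hR1 : 2 ≤ Module.finrank (deg0 𝒜) (comp 𝒜 𝒜 1))
  (n : ℕ) (hn : ringKrullDim R = n) (h1 : 1 ≤ n) (I : GrLC.StarInjRes 𝒜 𝒜)
  (a : ℤ) (ha : GrLC.endDeg (I.Hgr m n) = ((a : WithTop ℤ) : WithBot (WithTop ℤ)))
  (q : ℕ) (hq : 0 < q) (𝒜' : ℤ → AddSubgroup R') [GradedRing 𝒜']
  (φ : R' →+* R) (hφ : Function.Injective φ)
  (hdeg : ∀ j : ℤ, (𝒜' j).map (φ : R' →+ R) = 𝒜 (j * q))

include hpos h0 hm hmsp hstd hR1 hn h1 ha hq hφ hdeg in
/-- **Goto–Watanabe**, converse: if `R^{(q)}` is Gorenstein (with `R` standard graded Gorenstein of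
positive dimension and `dim R_1 ≥ 2`) then `q ∣ a(R)`. -/
theorem dvd_of_gorenstein_veronese [hG' : LocCoh.IsGorensteinRing R'] : (q : ℤ) ∣ a := by
  classical
  haveI : IsNoetherianRing R := inferInstance
  haveI : IsNoetherianRing R' := inferInstance
  have hpos' := Groth.Agent.Lib.H74VerCan.piece_eq_bot q φ hφ hdeg hq hpos
  have h0' := Groth.Agent.Lib.H74VerCan.isField_deg0 q φ hφ hdeg h0
  have hm' := Groth.Agent.Lib.GrHilbMono.isStarLocal_irr 𝒜' hpos' h0'
  haveI hmax' : (Groth.Agent.Lib.H74GrArt.irr 𝒜').toIdeal.IsMaximal :=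
    Groth.Agent.Lib.H74GrArt.isMaximal_of_isStarLocal 𝒜' hpos' _ hm'
  haveI hCM : LocCoh.IsCohenMacaulayRing R :=
    Groth.Agent.Lib.GrGorDual.isCohenMacaulayRing_of_isGorensteinRing R
  have hq' : (0 : ℤ) < q := by exact_mod_cast hq
  set ρ := a % (q : ℤ) with hρ
  have hρ0 : 0 ≤ ρ := Int.emod_nonneg a hq'.ne'
  have hρq : ρ < q := Int.emod_lt_of_pos a hq'
  have hρa : (q : ℤ) ∣ a - ρ := ⟨a / q, by have := Int.emod_add_mul_ediv a q; omega⟩
  have hb := Groth.Agent.Lib.GrVerBass.bassNum_veronese 𝒜 hpos h0 m hm hmsp hstd n hn I a ha q hq 𝒜'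
    φ hφ hdeg (Groth.Agent.Lib.H74GrArt.irr 𝒜') rfl ρ hρ0 hρq hρa
  have hdim' := Groth.Agent.Lib.GrVerCM.dim_veronese_loc 𝒜 hpos h0 n hn q hq 𝒜' φ hφ hdeg
    (Groth.Agent.Lib.H74GrArt.irr 𝒜') rfl
  haveI := hG'.isGorensteinLocalRing_localization (Groth.Agent.Lib.H74GrArt.irr 𝒜').toIdeal
  rw [bassNum_eq_one_of_gorenstein (Groth.Agent.Lib.H74GrArt.irr 𝒜').toIdeal n hdim'] at hb
  have hb' : Module.finrank (deg0 𝒜) (comp 𝒜 𝒜 ρ) = 1 := by exact_mod_cast hb.symm
  -- monotonicity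
  obtain ⟨y₁, δ₁, hy1, hreg1⟩ := exists_regular_one 𝒜 hpos m hm hmsp n hn h1
  have hmono : ∀ t : ℕ, Module.finrank (deg0 𝒜) (comp 𝒜 𝒜 1) ≤
      Module.finrank (deg0 𝒜) (comp 𝒜 𝒜 (1 + (t : ℤ))) := by
    intro t
    induction t with
    | zero => simp
    | succ t ih =>
      refine ih.trans ?_
      have := Groth.Agent.Lib.GrGenericForm.finrank_le_succ 𝒜 𝒜 h0 hstd δ₁ y₁ hy1
        (fun c hc => hreg1 (by simpa using hc)) (1 + (t : ℤ))
      have e : (1 + ((t + 1 : ℕ) : ℤ)) = 1 + (t : ℤ) + 1 := by push_cast; ring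
      rw [e]; exact this
  by_cases hρz : ρ = 0
  · have : (q : ℤ) ∣ a - 0 := hρz ▸ hρa
    simpa using this
  · exfalso
    have hρ1 : 1 ≤ ρ := by omega
    obtain ⟨t, ht⟩ : ∃ t : ℕ, ρ = 1 + (t : ℤ) := ⟨(ρ - 1).toNat, by
      rw [Int.toNat_of_nonneg (by omega)]; ring⟩
    have := hmono t
    rw [← ht, hb'] at this
    omega

end Main

end Groth.Agent.Lib.GrVerConv
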