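import Mathlib
import Groth.Agent.Lib.GrHalfPerf
import Groth.Agent.Lib.GrVerCM
import Groth.Agent.Lib.GrVerType
import Groth.Agent.Lib.GrInjDimGlobal
import Groth.Agent.Lib.GrLCEnd

set_option autoImplicit false
set_option linter.unusedSectionVars false
set_option linter.style.haveILetI false

universe u

namespace Groth.Agent.Lib.GrVerGorConv

open DirectSum GrLC IsLocalRing Groth.Agent.Lib.GrPerf Groth.Agent.Lib.H87GrMod
  Groth.Agent.Lib.H74GrArt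

section EndDeg

variable {R : Type u} [CommRing R] [IsNoetherianRing R] (𝒜 : ℤ → AddSubgroup R) [GradedRing 𝒜]
  (hpos : ∀ n : ℤ, n < 0 → 𝒜 n = ⊥)
  (m : HomogeneousIdeal 𝒜) (hm : GrLC.IsStarLocal 𝒜 m)
  (n : ℕ) (hn : ringKrullDim R = n) (I : GrLC.StarInjRes 𝒜 𝒜)

include hpos hm hn in
/-- The `a`-invariant of a positively graded Noetherian `*`local ring is an integer. -/
theorem exists_endDeg :
    ∃ a : ℤ, GrLC.endDeg (I.Hgr m n) = ((a : WithTop ℤ) : WithBot (WithTop ℤ)) := by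
  classical
  haveI hmax : m.toIdeal.IsMaximal := isMaximal_of_isStarLocal 𝒜 hpos m hm
  have hdim : ringKrullDim (Localization.AtPrime m.toIdeal) = n := by
    rw [IsLocalization.AtPrime.ringKrullDim_eq_height m.toIdeal (Localization.AtPrime m.toIdeal),
      ← Groth.Agent.Lib.H74GrDim.ringKrullDim_eq_height 𝒜 hpos m hm, hn]
  have htop : Nontrivial (LocCoh.H m.toIdeal n R) := by
    obtain ⟨e⟩ := Groth.Agent.Lib.GrLocCM.nonempty_H_equiv_locH m.toIdeal n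
    haveI := Groth.Agent.S0327.result (Localization.AtPrime m.toIdeal) n hdim
    exact e.nontrivial
  obtain ⟨ψ⟩ := Groth.Agent.S13224.main m I n
  haveI : Nontrivial (I.H m n) := ψ.toEquiv.nontrivial
  letI := decompositionHgr 𝒜 𝒜 m I n
  obtain ⟨x, hx⟩ := exists_ne (0 : I.H m n)
  have hd₀ : ∃ d, I.Hgr m n d ≠ ⊥ := by
    by_contra hcon
    push Not at hcon
    apply hx
    rw [← sum_support_decompose (I.Hgr m n) x]
    refine Finset.sum_eq_zero fun g _ => ?_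
    have h1 : ∀ y ∈ I.Hgr m n g, y = 0 := by
      intro y hy
      rw [hcon g] at hy
      exact AddSubgroup.mem_bot.mp hy
    exact h1 _ (decompose (I.Hgr m n) x g).2
  obtain ⟨N, hN⟩ := exists_Hcomp_eq_bot 𝒜 𝒜 hpos m hm I n
  have hbdd : ∃ b : ℤ, ∀ z : ℤ, I.Hgr m n z ≠ ⊥ → z ≤ b := by
    refine ⟨N, fun z hz => ?_⟩
    by_contra hlt
    push Not at hlt
    apply hz
    rw [eq_bot_iff]
    intro y hy
    have hy' : y ∈ I.Hcomp m n z := hy
    rw [hN z hlt.le] at hy'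
    exact AddSubgroup.mem_bot.mpr ((Submodule.mem_bot _).mp hy')
  obtain ⟨a, ha, hamax⟩ := Int.exists_greatest_of_bdd hbdd hd₀
  refine ⟨a, le_antisymm ?_ (Groth.Agent.Lib.GrLCEnd.le_endDeg _ ha)⟩
  rw [Groth.Agent.Lib.GrLCEnd.endDeg_le_iff]
  intro d hd
  by_contra hne
  have := hamax d hne
  omega

end EndDeg

section Main

variable {R R' : Type u} [CommRing R] [CommRing R'] [hCM : LocCoh.IsCohenMacaulayRing R]
  (𝒜 : ℤ → AddSubgroup R) [GradedRing 𝒜]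
  (hpos : ∀ n : ℤ, n < 0 → 𝒜 n = ⊥) (h0 : IsField (deg0 𝒜))
  (m : HomogeneousIdeal 𝒜) (hm : GrLC.IsStarLocal 𝒜 m)
  (hmsp : m.toIdeal = Ideal.span (⋃ n ∈ Set.Ioi (0 : ℤ), (𝒜 n : Set R)))
  (hstd : Ideal.span (⋃ n ∈ Set.Ioi (0 : ℤ), (𝒜 n : Set R)) =
      Ideal.span ((𝒜 1 : AddSubgroup R) : Set R))
  (n : ℕ) (hn : ringKrullDim R = n) (h2 : 2 ≤ n) (I : GrLC.StarInjRes 𝒜 𝒜)
  (q : ℕ) (hq : 0 < q) (𝒜' : ℤ → AddSubgroup R') [GradedRing 𝒜']
  (φ : R' →+* R) (hφ : Function.Injective φ)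
  (hdeg : ∀ j : ℤ, (𝒜' j).map (φ : R' →+ R) = 𝒜 (j * q))

include hpos h0 hm hmsp hstd hn h2 hq hφ hdeg in
/-- **Goto–Watanabe**: if `R` is standard graded Cohen–Macaulay of dimension `≥ 2` over a field and
`R^{(q)}` is Gorenstein, then `R` is Gorenstein and `q ∣ a(R)`. -/
theorem gorenstein_of_veronese_gorenstein [hG' : LocCoh.IsGorensteinRing R'] :
    LocCoh.IsGorensteinRing R ∧ ∃ a : ℤ,
      GrLC.endDeg (I.Hgr m n) = ((a : WithTop ℤ) : WithBot (WithTop ℤ)) ∧ (q : ℤ) ∣ a := by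
  classical
  haveI : IsNoetherianRing R := inferInstance
  haveI : IsNoetherianRing R' := inferInstance
  have hpos' := Groth.Agent.Lib.H74VerCan.piece_eq_bot q φ hφ hdeg hq hpos
  have h0' := Groth.Agent.Lib.H74VerCan.isField_deg0 q φ hφ hdeg h0
  have hm' := Groth.Agent.Lib.GrHilbMono.isStarLocal_irr 𝒜' hpos' h0'
  haveI hmax' : (irr 𝒜').toIdeal.IsMaximal := isMaximal_of_isStarLocal 𝒜' hpos' _ hm'
  haveI hmax : m.toIdeal.IsMaximal := isMaximal_of_isStarLocal 𝒜 hpos m hm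
  have hn' : ringKrullDim R' = n := by
    rw [Groth.Agent.Lib.GrVerDim.ringKrullDim_veronese q hq φ hφ hdeg, hn]
  obtain ⟨I'⟩ := Groth.Agent.S13215.result R' 𝒜' R' 𝒜'
  letI d1 : Decomposition (I.Hgr m n) := decompositionHgr 𝒜 𝒜 m I n
  letI d2 : Decomposition (I'.Hgr (irr 𝒜') n) := decompositionHgr 𝒜' 𝒜' (irr 𝒜') I' n
  obtain ⟨a', ha'⟩ := exists_endDeg 𝒜' hpos' (irr 𝒜') hm' n hn' I'
  obtain ⟨τ', hP'⟩ := Groth.Agent.Lib.GrVerGor.exists_perfData 𝒜' hpos' h0' (irr 𝒜') hm' rfl n hn'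
    I' a' ha'
  obtain ⟨Ψ, hΨ1, hΨ2, hΨ3, hΨ4⟩ :=
    Groth.Agent.Lib.H74VerCan.exists_sigma q hq φ hφ hdeg m (irr 𝒜') hmsp rfl I I' n
  set A : ℤ := a' * q with hA
  have hq' : (0 : ℤ) < q := by exact_mod_cast hq
  -- the generator of the top piece
  have hne' := Groth.Agent.S18656.ne_bot_of_endDeg_eq (I'.Hgr (irr 𝒜') n) a' ha'
  obtain ⟨x₀', hx₀', hx₀'ne⟩ : ∃ x ∈ I'.Hgr (irr 𝒜') n a', x ≠ 0 := by
    by_contra hcon
    push Not at hcon
    apply hne'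
    rw [eq_bot_iff]
    intro z hz
    exact (AddSubgroup.mem_bot).mpr (hcon z hz)
  letI : Field (deg0 𝒜') := h0'.toField
  have hτ'x₀ : τ' x₀' ≠ 0 := by
    obtain ⟨r, hr, hτ⟩ := hP'.left a' x₀' hx₀' hx₀'ne
    rw [sub_self] at hr
    intro h
    apply hτ
    have e1 : r • x₀' = (⟨r, hr⟩ : deg0 𝒜') • x₀' := rfl
    rw [e1, map_smul, h, smul_zero]
  have hone' : ∀ y' ∈ I'.Hgr (irr 𝒜') n a', ∃ c' : deg0 𝒜', y' = (c' : R') • x₀' := by
    intro y' hy'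
    set c' : deg0 𝒜' := τ' y' * (τ' x₀')⁻¹ with hc'
    refine ⟨c', ?_⟩
    by_contra hne
    have hw : y' - (c' : R') • x₀' ≠ 0 := sub_ne_zero.mpr hne
    have hwmem : y' - (c' : R') • x₀' ∈ I'.Hgr (irr 𝒜') n a' := by
      refine sub_mem hy' ?_
      have := SetLike.GradedSMul.smul_mem (A := 𝒜') (B := I'.Hgr (irr 𝒜') n) c'.2 hx₀'
      rwa [vadd_eq_add, zero_add] at this
    obtain ⟨r, hr, hτ⟩ := hP'.left a' _ hwmem hw
    rw [sub_self] at hr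
    apply hτ
    have e1 : r • (y' - (c' : R') • x₀') = (⟨r, hr⟩ : deg0 𝒜') • (y' - c' • x₀') := rfl
    have e2 : c' * τ' x₀' = τ' y' := by
      rw [hc', mul_assoc, inv_mul_cancel₀ hτ'x₀, mul_one]
    rw [e1, map_smul, map_sub, map_smul, smul_eq_mul, smul_eq_mul, e2, sub_self, mul_zero]
  set x₀ := Ψ x₀' with hx₀def
  have hx₀ : x₀ ∈ I.Hgr m n A := hΨ3 a' x₀' hx₀'
  have hx₀ne : x₀ ≠ 0 := fun h => hx₀'ne (hΨ2 (h.trans (map_zero Ψ).symm))
  have hone : ∀ y ∈ I.Hgr m n A, ∃ c : deg0 𝒜, y = (c : R) • x₀ := by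
    intro y hy
    obtain ⟨y', hy', rfl⟩ := hΨ4 a' y hy
    obtain ⟨c', hc'⟩ := hone' y' hy'
    refine ⟨Groth.Agent.Lib.H74VerCan.phi0 q φ hdeg c', ?_⟩
    rw [Groth.Agent.Lib.H74VerCan.coe_phi0, hx₀def, ← hΨ1, ← hc']
  -- regular pair
  obtain ⟨y₁, y₂, δ₁, δ₂, hy1, hy2, hreg1, hreg2⟩ :=
    Groth.Agent.Lib.GrCanonDepth.exists_regular_pair 𝒜 hpos m hm hmsp n hn h2
  have hy1m : y₁ ∈ Ideal.span ((𝒜 1 : AddSubgroup R) : Set R) := by
    rw [← hstd]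
    refine Ideal.subset_span (Set.mem_iUnion₂.mpr ⟨(δ₁ : ℤ) + 1, ?_, hy1⟩)
    show (0 : ℤ) < (δ₁ : ℤ) + 1
    omega
  have hmul1 : ∀ r : R, r ≠ 0 → ∃ l ∈ 𝒜 1, l * r ≠ 0 := by
    intro r hr
    by_contra hcon
    push Not at hcon
    apply hr
    have hall : ∀ y ∈ Ideal.span ((𝒜 1 : AddSubgroup R) : Set R), y * r = 0 := by
      intro y hy
      refine Submodule.span_induction (p := fun y _ => y * r = 0) ?_ ?_ ?_ ?_ hy
      · intro l hl; exact hcon l hl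
      · exact zero_mul r
      · intro a b _ _ ha hb; rw [add_mul, ha, hb, add_zero]
      · intro c a _ ha; rw [smul_eq_mul, mul_assoc, ha, mul_zero]
    have h1 := hall y₁ hy1m
    apply hreg1
    show y₁ • r = y₁ • 0
    rw [smul_zero, smul_eq_mul, h1]
  have hmulS : ∀ s : ℕ, ∀ r : R, r ≠ 0 → ∃ r' ∈ 𝒜 (s : ℤ), r' * r ≠ 0 := by
    intro s
    induction s with
    | zero =>
      intro r hr
      refine ⟨1, ?_, by rwa [one_mul]⟩
      rw [Nat.cast_zero]; exact SetLike.GradedOne.one_mem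
    | succ s ih =>
      intro r hr
      obtain ⟨r', hr', hne⟩ := ih r hr
      obtain ⟨l, hl, hne'⟩ := hmul1 _ hne
      refine ⟨l * r', ?_, by rwa [mul_assoc]⟩
      have := SetLike.GradedMul.mul_mem (A := 𝒜) hl hr'
      have e1 : (1 : ℤ) + (s : ℤ) = ((s + 1 : ℕ) : ℤ) := by push_cast; ring
      rwa [e1] at this
  have hright : ∀ t, ∀ r ∈ 𝒜 t, r ≠ 0 → ∃ x ∈ I.Hgr m n (A - t), r • x ≠ 0 := by
    intro t r hr hr0
    have ht0 : 0 ≤ t := by
      by_contra hlt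
      push Not at hlt
      apply hr0
      have h1 : r ∈ (⊥ : AddSubgroup R) := by rw [← hpos t hlt]; exact hr
      exact AddSubgroup.mem_bot.mp h1
    obtain ⟨T, rfl⟩ := Int.eq_ofNat_of_zero_le ht0
    obtain ⟨r', hr', hne⟩ := hmulS ((q - 1) * T) r hr0
    have ecast : (((q - 1) * T : ℕ) : ℤ) = ((q : ℤ) - 1) * T := by
      rw [Nat.cast_mul, Nat.cast_sub hq]; push_cast; ring
    have hmem : r' * r ∈ 𝒜 ((T : ℤ) * q) := by
      have := SetLike.GradedMul.mul_mem (A := 𝒜) hr' hr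
      have e1 : (((q - 1) * T : ℕ) : ℤ) + (T : ℤ) = (T : ℤ) * q := by rw [ecast]; ring
      rwa [e1] at this
    rw [← hdeg] at hmem
    obtain ⟨ρ, hρ, hρe⟩ := hmem
    have hρe' : φ ρ = r' * r := hρe
    have hρ0 : ρ ≠ 0 := by
      rintro rfl
      apply hne
      rw [← hρe', map_zero]
    have hρ' : ρ ∈ 𝒜' (a' - (a' - T)) := by rw [sub_sub_cancel]; exact hρ
    obtain ⟨x', hx', hτ⟩ := hP'.right (a' - T) ρ hρ' hρ0
    have h1 : ρ • x' ≠ 0 := by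
      intro h; apply hτ; rw [h, map_zero]
    have h3 : (r' * r) • Ψ x' ≠ 0 := by
      rw [← hρe', ← hΨ1]
      intro h; exact h1 (hΨ2 (h.trans (map_zero Ψ).symm))
    refine ⟨r' • Ψ x', ?_, ?_⟩
    · have h4 : Ψ x' ∈ I.Hgr m n ((a' - T) * q) := hΨ3 _ _ hx'
      have := SetLike.GradedSMul.smul_mem (A := 𝒜) (B := I.Hgr m n) hr' h4
      rw [vadd_eq_add] at this
      have e1 : (((q - 1) * T : ℕ) : ℤ) + (a' - T) * q = A - T := by rw [ecast, hA]; ring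
      rwa [e1] at this
    · rw [← mul_smul, mul_comm]; exact h3
  have hZ : ∀ d, ∀ x ∈ I.Hgr m n d, (∀ r ∈ 𝒜 (A - d), r • x = 0) →
      ∀ j : ℤ, (q : ℤ) ≤ j → ∀ r ∈ 𝒜 j, r • x = 0 := by
    intro d x hx hxc j hj r hr
    have key : ∀ (s : ℕ) (d' : ℤ), d + s = d' * q → ∀ r' ∈ 𝒜 (s : ℤ), r' • x = 0 := by
      intro s d' hsd r' hr'
      by_contra hw
      have hwmem : r' • x ∈ I.Hgr m n (d' * q) := by
        have := SetLike.GradedSMul.smul_mem (A := 𝒜) (B := I.Hgr m n) hr' hx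
        rw [vadd_eq_add] at this
        have e1 : (s : ℤ) + d = d' * q := by omega
        rwa [e1] at this
      obtain ⟨w', hw', hw'e⟩ := hΨ4 d' _ hwmem
      have hw'0 : w' ≠ 0 := by
        rintro rfl
        apply hw
        rw [← hw'e, map_zero]
      obtain ⟨ρ, hρ, hτ⟩ := hP'.left d' w' hw' hw'0
      have h1 : ρ • w' ≠ 0 := by
        intro h; apply hτ; rw [h, map_zero]
      have h3 : φ ρ • (r' • x) ≠ 0 := by
        rw [← hw'e, ← hΨ1]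
        intro h; exact h1 (hΨ2 (h.trans (map_zero Ψ).symm))
      apply h3
      rw [← mul_smul]
      apply hxc
      have hφρ : φ ρ ∈ 𝒜 ((a' - d') * q) := by
        rw [← hdeg]; exact ⟨ρ, hρ, rfl⟩
      have := SetLike.GradedMul.mul_mem (A := 𝒜) hφρ hr'
      have e1 : (a' - d') * q + (s : ℤ) = A - d := by rw [hA]; linarith
      rwa [e1] at this
    set s₀ : ℕ := ((-d) % (q : ℤ)).toNat with hs₀def
    have hs₀ : (s₀ : ℤ) = (-d) % q := Int.toNat_of_nonneg (Int.emod_nonneg _ hq'.ne')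
    have hs₀lt : (s₀ : ℤ) < q := by rw [hs₀]; exact Int.emod_lt_of_pos _ hq'
    have hdvd : ∃ d' : ℤ, d + s₀ = d' * q := by
      refine ⟨-((-d) / q), ?_⟩
      have := Int.emod_add_mul_ediv (-d) q
      rw [hs₀]; linarith
    obtain ⟨d', hd'⟩ := hdvd
    have hkey := key s₀ d' hd'
    obtain ⟨i, hi⟩ : ∃ i : ℕ, j = (i : ℤ) + s₀ :=
      ⟨(j - s₀).toNat, by rw [Int.toNat_of_nonneg (by omega)]; ring⟩
    rw [hi] at hr
    exact Groth.Agent.Lib.GrVerType.std_mul_induction 𝒜 hstd s₀ i (fun r => r • x = 0)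
      (fun s hs t ht => by rw [mul_smul, hkey t ht, smul_zero]) (zero_smul _ _)
      (fun a b ha hb => by rw [add_smul, ha, hb, add_zero]) r hr
  have hreg : ∀ r s : R, y₂ * r = y₁ * s → ∃ r', r = y₁ * r' := by
    intro r s h
    have h1 : y₂ • (Submodule.Quotient.mk r : QuotSMulTop y₁ R) = y₂ • 0 := by
      rw [smul_zero, ← Submodule.Quotient.mk_smul, Submodule.Quotient.mk_eq_zero, smul_eq_mul, h]
      exact Submodule.smul_mem_pointwise_smul s y₁ ⊤ trivial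
    have h3 := hreg2 h1
    rw [Submodule.Quotient.mk_eq_zero] at h3
    obtain ⟨r', -, hr'⟩ := (Submodule.mem_smul_pointwise_iff_exists _ _ _).mp h3
    exact ⟨r', by rw [← hr', smul_eq_mul]⟩
  obtain ⟨hU1, -⟩ := Groth.Agent.Lib.GrCanonDepth.hside 𝒜 m I n hn h2 y₁ y₂ hreg1 hreg2
  have hdiv : ∀ d, ∀ x ∈ I.Hgr m n d, ∃ x' ∈ I.Hgr m n (d - ((δ₁ : ℤ) + 1)), y₁ • x' = x := by
    intro d x hx
    obtain ⟨ξ, hξ⟩ := hU1 x
    refine ⟨(decompose (I.Hgr m n) ξ (d - ((δ₁ : ℤ) + 1)) : I.H m n),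
      (decompose (I.Hgr m n) ξ _).2, ?_⟩
    have := decompose_smul_of_mem_left (I.Hgr m n) 𝒜 hy1 ξ (d - ((δ₁ : ℤ) + 1))
    rw [← this, ← hξ]
    have e1 : (δ₁ : ℤ) + 1 + (d - ((δ₁ : ℤ) + 1)) = d := by ring
    rw [e1, decompose_of_mem_same _ hx]
  obtain ⟨τ, hP⟩ := Groth.Agent.Lib.GrHalfPerf.exists_perfData 𝒜 hpos h0 (I.Hgr m n) A x₀ hx₀ hx₀ne
    hone hright q hZ y₁ y₂ ((δ₁ : ℤ) + 1) ((δ₂ : ℤ) + 1) (by omega) (by omega) hy1 hy2 hreg hdiv
  haveI := LocCoh.IsCohenMacaulayRing.isCohenMacaulayLocalRing_localization m.toIdeal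
  have hdim : ringKrullDim (Localization.AtPrime m.toIdeal) = n := by
    rw [IsLocalization.AtPrime.ringKrullDim_eq_height m.toIdeal (Localization.AtPrime m.toIdeal),
      ← Groth.Agent.Lib.H74GrDim.ringKrullDim_eq_height 𝒜 hpos m hm, hn]
  haveI := Groth.Agent.Lib.GrVerGor.isGorensteinLocalRing_of_perfData 𝒜 hpos h0 m hmsp n I hP hdim
  refine ⟨Groth.Agent.Lib.GrInjDimGlobal.isGorensteinRing_of_loc 𝒜 m hm, A, ?_,
    Dvd.intro_left a' rfl⟩
  apply le_antisymm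
  · exact (Groth.Agent.Lib.GrLCEnd.endDeg_le_iff _ A).mpr hP.top
  · refine Groth.Agent.Lib.GrLCEnd.le_endDeg _ ?_
    intro hbot
    rw [hbot] at hx₀
    exact hx₀ne (AddSubgroup.mem_bot.mp hx₀)

end Main

end Groth.Agent.Lib.GrVerGorConv
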