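import Mathlib.RingTheory.GradedAlgebra.Homogeneous.Ideal
import Mathlib.RingTheory.GradedAlgebra.FiniteType
import Mathlib.RingTheory.FiniteType
import Mathlib.Algebra.DirectSum.Internal
import Mathlib.Algebra.Algebra.Operations
import Mathlib.LinearAlgebra.Finsupp.LinearCombination

set_option autoImplicit false
universe u

namespace Groth.Agent.Lib.GradedGen

open DirectSum

variable {R A : Type u} [CommRing R] [CommRing A] [Algebra R A]
  (𝒜 : ℕ → Submodule R A) [GradedAlgebra 𝒜]

/-- A homogeneous element of degree `m` of the ideal spanned by homogeneous elements `E` is a sum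
of products `a * e` with `e ∈ E` and `a` homogeneous of the complementary degree. -/
theorem mem_closure_of_mem_span (E : Set A) (deg : A → ℕ)
    (hdeg : ∀ e ∈ E, e ∈ 𝒜 (deg e)) {m : ℕ} {x : A} (hxm : x ∈ 𝒜 m) (hx : x ∈ Ideal.span E) :
    x ∈ AddSubmonoid.closure
      {y | ∃ e ∈ E, deg e ≤ m ∧ ∃ a ∈ 𝒜 (m - deg e), y = a * e} := by
  classical
  rw [Ideal.span, Finsupp.mem_span_iff_linearCombination] at hx
  obtain ⟨c, rfl⟩ := hx
  rw [Finsupp.linearCombination_apply, Finsupp.sum] at hxm ⊢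
  have key : (∑ e ∈ c.support, c e • (e : A)) =
      ∑ e ∈ c.support, ((decompose 𝒜 (c e • (e : A)) m : 𝒜 m) : A) := by
    conv_lhs => rw [← DirectSum.decompose_of_mem_same 𝒜 hxm]
    rw [DirectSum.decompose_sum, DFinsupp.finsetSum_apply, AddSubmonoidClass.coe_finsetSum]
  rw [key]
  refine AddSubmonoid.sum_mem _ (fun e _ => ?_)
  have he : (e : A) ∈ 𝒜 (deg (e : A)) := hdeg e e.2
  rw [smul_eq_mul, DirectSum.coe_decompose_mul_of_right_mem 𝒜 m he]
  split_ifs with hle
  · exact AddSubmonoid.subset_closure ⟨e, e.2, hle, _, Subtype.prop _, rfl⟩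
  · exact zero_mem _

/-- If homogeneous elements of positive degree span the irrelevant ideal, they generate the ring
as an algebra over the degree zero part. -/
theorem adjoin_eq_top_of_irrelevant_le_span (E : Set A) (hE : ∀ e ∈ E, ∃ d : ℕ, 0 < d ∧ e ∈ 𝒜 d)
    (h : (HomogeneousIdeal.irrelevant 𝒜).toIdeal ≤ Ideal.span E) :
    Algebra.adjoin (𝒜 0) E = ⊤ := by
  classical
  choose! deg hdegpos hdeg using hE
  have hn : ∀ n : ℕ, ∀ x ∈ 𝒜 n, x ∈ Algebra.adjoin (𝒜 0) E := by
    intro n
    induction n using Nat.strong_induction_on with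
    | _ n ih =>
      intro x hx
      rcases Nat.eq_zero_or_pos n with rfl | hpos
      · exact Subalgebra.algebraMap_mem (Algebra.adjoin (𝒜 0) E) (⟨x, hx⟩ : 𝒜 0)
      · have hxirr : x ∈ (HomogeneousIdeal.irrelevant 𝒜).toIdeal :=
          HomogeneousIdeal.mem_irrelevant_of_mem 𝒜 hpos hx
        have hcl := mem_closure_of_mem_span 𝒜 E deg hdeg hx (h hxirr)
        have hsub : ∀ y ∈ AddSubmonoid.closure
            {y | ∃ e ∈ E, deg e ≤ n ∧ ∃ a ∈ 𝒜 (n - deg e), y = a * e},
            y ∈ Algebra.adjoin (𝒜 0) E := by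
          intro y hy
          induction hy using AddSubmonoid.closure_induction with
          | mem y hy =>
            obtain ⟨e, he, hle, a, ha, rfl⟩ := hy
            have hlt : n - deg e < n := Nat.sub_lt hpos (hdegpos e he)
            exact mul_mem (ih _ hlt a ha) (Algebra.subset_adjoin he)
          | zero => exact zero_mem _
          | add _ _ _ _ h1 h2 => exact add_mem h1 h2
        exact hsub x hcl
  rw [eq_top_iff]
  intro x _
  rw [← DirectSum.sum_support_decompose 𝒜 x]
  exact sum_mem (fun i _ => hn i _ (Subtype.prop _))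

/-- If homogeneous elements of positive degree generate the ring as an algebra over the degree
zero part, they span the irrelevant ideal. -/
theorem irrelevant_eq_span_of_adjoin_eq_top (E : Set A)
    (hE : ∀ e ∈ E, ∃ d : ℕ, 0 < d ∧ e ∈ 𝒜 d) (h : Algebra.adjoin (𝒜 0) E = ⊤) :
    (HomogeneousIdeal.irrelevant 𝒜).toIdeal = Ideal.span E := by
  have hEirr : Ideal.span E ≤ (HomogeneousIdeal.irrelevant 𝒜).toIdeal := by
    rw [Ideal.span_le]
    intro e he
    obtain ⟨d, hd, hed⟩ := hE e he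
    exact HomogeneousIdeal.mem_irrelevant_of_mem 𝒜 hd hed
  refine le_antisymm ?_ hEirr
  have hall : ∀ x : A, ∃ a₀ ∈ 𝒜 0, x - a₀ ∈ Ideal.span E := by
    intro x
    have hx : x ∈ Algebra.adjoin (𝒜 0) E := by rw [h]; trivial
    refine Algebra.adjoin_induction (p := fun x _ => ∃ a₀ ∈ 𝒜 0, x - a₀ ∈ Ideal.span E)
      ?_ ?_ ?_ ?_ hx
    · intro e he
      exact ⟨0, zero_mem _, by simpa using Ideal.subset_span he⟩
    · intro r
      exact ⟨(r : A), r.2, by simp [show (algebraMap (𝒜 0) A) r = (r : A) from rfl]⟩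
    · rintro x y _ _ ⟨a, ha, hxa⟩ ⟨b, hb, hyb⟩
      refine ⟨a + b, add_mem ha hb, ?_⟩
      have : x + y - (a + b) = (x - a) + (y - b) := by ring
      rw [this]
      exact add_mem hxa hyb
    · rintro x y _ _ ⟨a, ha, hxa⟩ ⟨b, hb, hyb⟩
      refine ⟨a * b, ?_, ?_⟩
      · have := SetLike.GradedMul.mul_mem ha hb
        simpa using this
      · have : x * y - a * b = (x - a) * y + a * (y - b) := by ring
        rw [this]
        exact add_mem (Ideal.mul_mem_right _ _ hxa) (Ideal.mul_mem_left _ _ hyb)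
  intro x hx
  obtain ⟨a₀, ha₀, hxa⟩ := hall x
  have ha₀irr : a₀ ∈ (HomogeneousIdeal.irrelevant 𝒜).toIdeal := by
    have : a₀ = x - (x - a₀) := by ring
    rw [this]
    exact sub_mem hx (hEirr hxa)
  have ha₀0 : a₀ = 0 := by
    have h1 : GradedRing.proj 𝒜 0 a₀ = 0 := ha₀irr
    rw [GradedRing.proj_apply, DirectSum.decompose_of_mem_same 𝒜 ha₀] at h1
    exact h1
  rw [ha₀0, sub_zero] at hxa
  exact hxa

/-- If the irrelevant ideal is finitely generated, the ring is of finite type over its degree zero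
part. -/
theorem finiteType_of_irrelevant_fg (h : (HomogeneousIdeal.irrelevant 𝒜).toIdeal.FG) :
    Algebra.FiniteType (𝒜 0) A := by
  classical
  obtain ⟨F, hF⟩ := h
  let E : Finset A := F.biUnion (fun f => (decompose 𝒜 f).support.image
    (fun i => ((decompose 𝒜 f i : 𝒜 i) : A)))
  have hFirr : ∀ f ∈ F, f ∈ (HomogeneousIdeal.irrelevant 𝒜).toIdeal := by
    intro f hf
    rw [← hF]
    exact Ideal.subset_span hf
  have hE : ∀ e ∈ (E : Set A), ∃ d : ℕ, 0 < d ∧ e ∈ 𝒜 d := by
    intro e he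
    simp only [E, Finset.coe_biUnion, Finset.coe_image, Set.mem_iUnion, Set.mem_image,
      Finset.mem_coe] at he
    obtain ⟨f, hf, i, hi, rfl⟩ := he
    refine ⟨i, ?_, Subtype.prop _⟩
    rw [Nat.pos_iff_ne_zero]
    rintro rfl
    have h0 : GradedRing.proj 𝒜 0 f = 0 := hFirr f hf
    rw [DFinsupp.mem_support_iff] at hi
    apply hi
    apply Subtype.ext
    rw [GradedRing.proj_apply] at h0
    simpa using h0
  have hle : (HomogeneousIdeal.irrelevant 𝒜).toIdeal ≤ Ideal.span (E : Set A) := by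
    rw [← hF, Ideal.span_le]
    intro f hf
    rw [← DirectSum.sum_support_decompose 𝒜 f]
    refine sum_mem (fun i hi => Ideal.subset_span ?_)
    simp only [E, Finset.coe_biUnion, Finset.coe_image, Set.mem_iUnion, Set.mem_image,
      Finset.mem_coe]
    exact ⟨f, hf, i, hi, rfl⟩
  exact ⟨⟨E, adjoin_eq_top_of_irrelevant_le_span 𝒜 E hE hle⟩⟩

/-- A finite set of homogeneous elements of positive degree spanning the irrelevant ideal, for a
graded ring of finite type over its degree zero part. -/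
theorem exists_finset_span_eq_irrelevant [Algebra.FiniteType (𝒜 0) A] :
    ∃ s : Finset A, (HomogeneousIdeal.irrelevant 𝒜).toIdeal = Ideal.span (s : Set A) ∧
      Algebra.adjoin (𝒜 0) (s : Set A) = ⊤ ∧ ∀ e ∈ s, ∃ d : ℕ, 0 < d ∧ e ∈ 𝒜 d := by
  obtain ⟨s, hs, hs'⟩ := GradedAlgebra.exists_finset_adjoin_eq_top_and_homogeneous_ne_zero 𝒜
  have hE : ∀ e ∈ (s : Set A), ∃ d : ℕ, 0 < d ∧ e ∈ 𝒜 d := by
    intro e he
    obtain ⟨n, hn, hen⟩ := hs' e he
    exact ⟨n, Nat.pos_of_ne_zero hn, hen⟩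
  exact ⟨s, irrelevant_eq_span_of_adjoin_eq_top 𝒜 s hE hs, hs, hE⟩

/-- If the ring is of finite type over its degree zero part, the irrelevant ideal is finitely
generated. -/
theorem irrelevant_fg_of_finiteType [Algebra.FiniteType (𝒜 0) A] :
    (HomogeneousIdeal.irrelevant 𝒜).toIdeal.FG := by
  obtain ⟨s, hs, -, -⟩ := exists_finset_span_eq_irrelevant 𝒜
  exact ⟨s, hs.symm⟩

/-- Homogeneous elements of large degree lie in a given power of the irrelevant ideal. -/
theorem exists_le_irrelevant_pow [Algebra.FiniteType (𝒜 0) A] (n : ℕ) :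
    ∃ m₀ : ℕ, ∀ m : ℕ, m₀ ≤ m → ∀ x ∈ 𝒜 m,
      x ∈ (HomogeneousIdeal.irrelevant 𝒜).toIdeal ^ n := by
  classical
  obtain ⟨s, hs, -, hE⟩ := exists_finset_span_eq_irrelevant 𝒜
  choose! deg hdegpos hdeg using hE
  induction n with
  | zero => exact ⟨0, fun m _ x _ => by simp⟩
  | succ n ih =>
    obtain ⟨m₀, hm₀⟩ := ih
    refine ⟨m₀ + s.sup deg + 1, fun m hm x hx => ?_⟩
    have hmpos : 0 < m := by omega
    have hxirr : x ∈ (HomogeneousIdeal.irrelevant 𝒜).toIdeal :=
      HomogeneousIdeal.mem_irrelevant_of_mem 𝒜 hmpos hx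
    have hcl := mem_closure_of_mem_span 𝒜 (s : Set A) deg (fun e he => hdeg e he) hx
      (hs ▸ hxirr)
    have hsub : ∀ y ∈ AddSubmonoid.closure
        {y | ∃ e ∈ (s : Set A), deg e ≤ m ∧ ∃ a ∈ 𝒜 (m - deg e), y = a * e},
        y ∈ (HomogeneousIdeal.irrelevant 𝒜).toIdeal ^ (n + 1) := by
      intro y hy
      induction hy using AddSubmonoid.closure_induction with
      | mem y hy =>
        obtain ⟨e, he, hle, a, ha, rfl⟩ := hy
        have hesup : deg e ≤ s.sup deg := Finset.le_sup (f := deg) he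
        have ha' := hm₀ (m - deg e) (by omega) a ha
        have he' : e ∈ (HomogeneousIdeal.irrelevant 𝒜).toIdeal :=
          HomogeneousIdeal.mem_irrelevant_of_mem 𝒜 (hdegpos e he) (hdeg e he)
        rw [pow_succ]
        exact Ideal.mul_mem_mul ha' he'
      | zero => exact zero_mem _
      | add _ _ _ _ h1 h2 => exact add_mem h1 h2
    exact hsub x hcl

end Groth.Agent.Lib.GradedGen
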