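import Groth.Agent.Lib.H60AwayDegOne

/-!
# A criterion for a ring homomorphism between graded rings to be graded (helper28)

With helper60's coaction `coact 𝒜 : A →+* A[T;T⁻¹]`, `a ↦ ∑ a_i T^i`:
* `mem_of_coact_eq`: `coact 𝒜 y = C y * T d → y ∈ 𝒜 d`;
* `map_mem_of_comm`: a ring hom `f : A →+* B` commuting with the coactions preserves degrees.
  (The commutation is an equality of ring homs out of `A`, so it can be checked on generators.)
-/

set_option autoImplicit false
universe u

namespace Groth.Agent.Lib.GradedHomCrit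

open Groth.Agent.Lib.H60AwayDegOne
open scoped LaurentPolynomial

variable {A σ : Type u} [CommRing A] [SetLike σ A] [AddSubgroupClass σ A] (𝒜 : ℕ → σ) [GradedRing 𝒜]

/-- The coefficient at `d` of the coaction is the degree-`d` component. -/
theorem coact_apply (y : A) (d : ℕ) : (coact 𝒜 y).coeff (d : ℤ) = (DirectSum.decompose 𝒜 y d : A) := by
  classical
  induction y using DirectSum.Decomposition.inductionOn 𝒜 with
  | zero => simp
  | @homogeneous i m =>
    rw [coact_of_mem 𝒜 i m.1 m.2, ← LaurentPolynomial.single_eq_C_mul_T, AddMonoidAlgebra.coeff_single]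
    by_cases h : i = d
    · subst h
      rw [DirectSum.decompose_of_mem_same 𝒜 m.2]
      exact Finsupp.single_eq_same
    · rw [DirectSum.decompose_of_mem_ne 𝒜 m.2 h]
      have hne : (d : ℤ) ≠ (i : ℤ) := by
        intro h'
        exact h (by exact_mod_cast h'.symm)
      exact Finsupp.single_eq_of_ne hne
  | add m m' hm hm' =>
    rw [map_add, DirectSum.decompose_add, DirectSum.add_apply, AddMemClass.coe_add, ← hm, ← hm',
      AddMonoidAlgebra.coeff_add]
    rfl

theorem mem_of_coact_eq {d : ℕ} {y : A}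
    (h : coact 𝒜 y = LaurentPolynomial.C y * LaurentPolynomial.T d) : y ∈ 𝒜 d := by
  have h1 := coact_apply 𝒜 y d
  rw [h, ← LaurentPolynomial.single_eq_C_mul_T, AddMonoidAlgebra.coeff_single] at h1
  have h2 : (Finsupp.single (d : ℤ) y : ℤ →₀ A) (d : ℤ) = y := Finsupp.single_eq_same
  rw [h2] at h1
  rw [h1]
  exact SetLike.coe_mem _

variable {B τ : Type u} [CommRing B] [SetLike τ B] [AddSubgroupClass τ B] (ℬ : ℕ → τ) [GradedRing ℬ]

/-- A ring homomorphism commuting with the coactions is graded. -/
theorem map_mem_of_comm (f : A →+* B)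
    (h : (coact ℬ).comp f = (AddMonoidAlgebra.mapRingHom ℤ f).comp (coact 𝒜)) {d : ℕ} {x : A}
    (hx : x ∈ 𝒜 d) : f x ∈ ℬ d := by
  apply mem_of_coact_eq
  have h1 : coact ℬ (f x) = AddMonoidAlgebra.mapRingHom ℤ f (coact 𝒜 x) := congr($h x)
  rw [h1, coact_of_mem 𝒜 d x hx, mapRingHom_C_mul_T]

end Groth.Agent.Lib.GradedHomCrit
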