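/-
helper14: homogeneous components of integral elements are integral (for S9615).
-/
import Mathlib
set_option autoImplicit false
open Polynomial

attribute [local instance] Polynomial.algebra

namespace Groth.Agent.GradedIntegral

variable {A : Type*} [CommRing A] (𝒜 : ℕ → AddSubgroup A) [GradedRing 𝒜]

/-- the additive maps `𝒜 i → A[X]`, `a ↦ a X^i`. -/
noncomputable def mono (i : ℕ) : 𝒜 i →+ A[X] :=
  ((monomial i : A →ₗ[A] A[X]).toAddMonoidHom).comp (𝒜 i).subtype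

omit [GradedRing 𝒜] in
theorem mono_apply (i : ℕ) (a : 𝒜 i) : mono 𝒜 i a = monomial i (a : A) := rfl

theorem mono_one : mono 𝒜 0 (GradedMonoid.GOne.one (A := fun i => ↥(𝒜 i))) = 1 := by
  rw [mono_apply]
  exact monomial_zero_one

theorem mono_mul {i j : ℕ} (ai : 𝒜 i) (aj : 𝒜 j) :
    mono 𝒜 (i + j) (GradedMonoid.GMul.mul (A := fun i => ↥(𝒜 i)) ai aj) = mono 𝒜 i ai * mono 𝒜 j aj := by
  rw [mono_apply, mono_apply, mono_apply, monomial_mul_monomial]
  rfl

/-- the ring hom `⨁ 𝒜 i → A[X]`. -/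
noncomputable def toPoly' : (DirectSum ℕ fun i => 𝒜 i) →+* A[X] :=
  DirectSum.toSemiring (mono 𝒜) (mono_one 𝒜) (mono_mul 𝒜)

/-- the ring hom `a ↦ Σ a_i X^i`. -/
noncomputable def toPoly : A →+* A[X] :=
  (toPoly' 𝒜).comp (DirectSum.decomposeRingEquiv 𝒜).toRingHom

theorem coeff_toPoly' (x : DirectSum ℕ fun i => 𝒜 i) (i : ℕ) : (toPoly' 𝒜 x).coeff i = (x i : A) := by
  induction x using DirectSum.induction_on with
  | zero => simp
  | of j y =>
    rw [toPoly', DirectSum.toSemiring_of, mono_apply, coeff_monomial]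
    by_cases h : j = i
    · subst h; simp
    · rw [if_neg h, DirectSum.of_eq_of_ne _ _ _ (Ne.symm h)]; rfl
  | add x y hx hy => simp [hx, hy]

theorem coeff_toPoly (a : A) (i : ℕ) : (toPoly 𝒜 a).coeff i = (DirectSum.decompose 𝒜 a i : A) := by
  unfold toPoly
  rw [RingHom.comp_apply, coeff_toPoly']
  rfl


theorem decompose_algebraMap {R S : Type*} [CommRing R] [CommRing S] [Algebra R S]
    (ℛ : ℕ → AddSubgroup R) [GradedRing ℛ] (𝒮 : ℕ → AddSubgroup S) [GradedRing 𝒮]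
    (hmap : ∀ i : ℕ, ∀ r ∈ ℛ i, algebraMap R S r ∈ 𝒮 i) (r : R) (i : ℕ) :
    (DirectSum.decompose 𝒮 (algebraMap R S r) i : S) = algebraMap R S (DirectSum.decompose ℛ r i : R) := by
  induction r using DirectSum.Decomposition.inductionOn ℛ with
  | zero => simp
  | @homogeneous j m =>
    by_cases h : j = i
    · subst h
      rw [DirectSum.decompose_of_mem_same 𝒮 (hmap _ _ m.2), DirectSum.decompose_of_mem_same ℛ m.2]
    · rw [DirectSum.decompose_of_mem_ne 𝒮 (hmap _ _ m.2) h, DirectSum.decompose_of_mem_ne ℛ m.2 h, map_zero]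
  | add m m' hm hm' =>
    rw [map_add, DirectSum.decompose_add, DirectSum.decompose_add, DirectSum.add_apply,
      DirectSum.add_apply, AddSubgroup.coe_add, AddSubgroup.coe_add, hm, hm', map_add]

theorem toPoly_algebraMap {R S : Type*} [CommRing R] [CommRing S] [Algebra R S]
    (ℛ : ℕ → AddSubgroup R) [GradedRing ℛ] (𝒮 : ℕ → AddSubgroup S) [GradedRing 𝒮]
    (hmap : ∀ i : ℕ, ∀ r ∈ ℛ i, algebraMap R S r ∈ 𝒮 i) (r : R) :
    toPoly 𝒮 (algebraMap R S r) = algebraMap R[X] S[X] (toPoly ℛ r) := by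
  ext i
  rw [coeff_toPoly, Polynomial.algebraMap_def, coe_mapRingHom, coeff_map, coeff_toPoly,
    decompose_algebraMap ℛ 𝒮 hmap]

theorem main {R S : Type*} [CommRing R] [CommRing S] [Algebra R S]
    (ℛ : ℕ → AddSubgroup R) [GradedRing ℛ] (𝒮 : ℕ → AddSubgroup S) [GradedRing 𝒮]
    (hmap : ∀ i : ℕ, ∀ r ∈ ℛ i, algebraMap R S r ∈ 𝒮 i) (s : S) (hs : IsIntegral R s) (i : ℕ) :
    IsIntegral R ((DirectSum.decompose 𝒮 s i : 𝒮 i) : S) := by
  obtain ⟨p, hp, hps⟩ := hs
  have h1 : IsIntegral R[X] (toPoly 𝒮 s) := by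
    refine ⟨p.map (toPoly ℛ), hp.map _, ?_⟩
    rw [eval₂_map]
    have h2 := congrArg (toPoly 𝒮) hps
    rw [hom_eval₂, map_zero] at h2
    have h3 : (toPoly 𝒮).comp (algebraMap R S) = (algebraMap R[X] S[X]).comp (toPoly ℛ) := by
      ext r : 1
      exact toPoly_algebraMap ℛ 𝒮 hmap r
    rw [h3] at h2
    exact h2
  have := IsIntegral.coeff h1 i
  rwa [coeff_toPoly] at this

end Groth.Agent.GradedIntegral
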