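import Groth.Agent.Lib.GradedGen
import Mathlib.Algebra.Module.GradedModule
import Mathlib.RingTheory.Ideal.Operations

set_option autoImplicit false
universe u

namespace Groth.Agent.Lib.GradedMod

open DirectSum Groth.Agent.Lib.GradedGen

variable {R A : Type u} [CommRing R] [CommRing A] [Algebra R A]
  (𝒜 : ℕ → Submodule R A) [GradedAlgebra 𝒜]
  {M : Type u} [AddCommGroup M] [Module R M] [Module A M] [IsScalarTower R A M]
  (ℳ : ℕ → Submodule R M) [DirectSum.Decomposition ℳ] [SetLike.GradedSMul 𝒜 ℳ]

omit [GradedAlgebra 𝒜] [IsScalarTower R A M] [Decomposition ℳ] in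
theorem smul_mem_add {a : A} {y : M} {i j : ℕ} (ha : a ∈ 𝒜 i) (hy : y ∈ ℳ j) :
    a • y ∈ ℳ (i + j) := by
  have h : a • y ∈ ℳ (i +ᵥ j) := SetLike.GradedSMul.smul_mem ha hy
  simpa [vadd_eq_add] using h

omit [IsScalarTower R A M] in
/-- Homogeneous components of `c • y` for homogeneous `y`. -/
theorem coe_decompose_smul_of_mem (c : A) {y : M} {j : ℕ} (hy : y ∈ ℳ j) (N : ℕ) :
    ((decompose ℳ (c • y) N : ℳ N) : M) =
      if j ≤ N then ((decompose 𝒜 c (N - j) : 𝒜 (N - j)) : A) • y else 0 := by
  classical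
  have hterm : ∀ i, ((decompose ℳ (((decompose 𝒜 c i : 𝒜 i) : A) • y) N : ℳ N) : M) =
      if i + j = N then ((decompose 𝒜 c i : 𝒜 i) : A) • y else 0 := by
    intro i
    have hmem : ((decompose 𝒜 c i : 𝒜 i) : A) • y ∈ ℳ (i + j) :=
      smul_mem_add 𝒜 ℳ (Subtype.prop _) hy
    split_ifs with h
    · subst h; exact DirectSum.decompose_of_mem_same ℳ hmem
    · exact DirectSum.decompose_of_mem_ne ℳ hmem h
  conv_lhs => rw [← DirectSum.sum_support_decompose 𝒜 c, Finset.sum_smul, DirectSum.decompose_sum,
    DFinsupp.finsetSum_apply, AddSubmonoidClass.coe_finsetSum]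
  simp_rw [hterm]
  split_ifs with hle
  · rw [Finset.sum_eq_single (N - j)]
    · rw [if_pos (Nat.sub_add_cancel hle)]
    · intro i _ hne
      rw [if_neg]; omega
    · intro hnotin
      rw [DFinsupp.notMem_support_iff] at hnotin
      rw [hnotin]; simp
  · apply Finset.sum_eq_zero
    intro i _
    rw [if_neg]; omega

omit [IsScalarTower R A M] in
/-- A homogeneous element of degree `N` of the submodule spanned by homogeneous elements `X` is a
sum of products `a • y` with `y ∈ X` and `a` homogeneous of the complementary degree. -/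
theorem mem_closure_of_mem_span (X : Set M) (degM : M → ℕ)
    (hdegM : ∀ y ∈ X, y ∈ ℳ (degM y)) {N : ℕ} {x : M} (hxN : x ∈ ℳ N)
    (hx : x ∈ Submodule.span A X) :
    x ∈ AddSubmonoid.closure
      {z | ∃ y ∈ X, degM y ≤ N ∧ ∃ a ∈ 𝒜 (N - degM y), z = a • y} := by
  classical
  rw [Finsupp.mem_span_iff_linearCombination] at hx
  obtain ⟨c, rfl⟩ := hx
  rw [Finsupp.linearCombination_apply, Finsupp.sum] at hxN ⊢
  have key : (∑ e ∈ c.support, c e • (e : M)) =
      ∑ e ∈ c.support, ((decompose ℳ (c e • (e : M)) N : ℳ N) : M) := by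
    conv_lhs => rw [← DirectSum.decompose_of_mem_same ℳ hxN]
    rw [DirectSum.decompose_sum, DFinsupp.finsetSum_apply, AddSubmonoidClass.coe_finsetSum]
  rw [key]
  refine AddSubmonoid.sum_mem _ (fun e _ => ?_)
  have he : (e : M) ∈ ℳ (degM (e : M)) := hdegM e e.2
  rw [coe_decompose_smul_of_mem 𝒜 ℳ (c e) he N]
  split_ifs with hle
  · exact AddSubmonoid.subset_closure ⟨e, e.2, hle, _, Subtype.prop _, rfl⟩
  · exact zero_mem _

omit [Algebra R A] [IsScalarTower R A M] in
/-- A finitely generated graded module has a finite set of homogeneous generators. -/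
theorem exists_finset_homogeneous_span_eq_top [Module.Finite A M] :
    ∃ X : Finset M, Submodule.span A (X : Set M) = ⊤ ∧ ∀ y ∈ X, ∃ d : ℕ, y ∈ ℳ d := by
  classical
  obtain ⟨F, hF⟩ := (Module.finite_def (R := A) (M := M)).mp inferInstance
  refine ⟨F.biUnion (fun f => (decompose ℳ f).support.image
    (fun i => ((decompose ℳ f i : ℳ i) : M))), ?_, ?_⟩
  · rw [eq_top_iff, ← hF, Submodule.span_le]
    intro f hf
    rw [← DirectSum.sum_support_decompose ℳ f]
    refine sum_mem (fun i hi => Submodule.subset_span ?_)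
    simp only [Finset.coe_biUnion, Finset.coe_image, Set.mem_iUnion, Set.mem_image,
      Finset.mem_coe]
    exact ⟨f, hf, i, hi, rfl⟩
  · intro y hy
    simp only [Finset.mem_biUnion, Finset.mem_image] at hy
    obtain ⟨f, _, i, _, rfl⟩ := hy
    exact ⟨i, Subtype.prop _⟩

/-- Pigeonhole for powers of a finitely generated ideal. -/
theorem span_pow_le_span_pow (s : Finset A) (k : A → ℕ) :
    (Ideal.span (s : Set A)) ^ (∑ e ∈ s, k e + 1) ≤
      Ideal.span ((fun e => e ^ k e) '' (s : Set A)) := by
  classical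
  induction s using Finset.induction_on with
  | empty => simp
  | insert e s he ih =>
    rw [Finset.coe_insert, Ideal.span_insert, Finset.sum_insert he, Set.image_insert_eq,
      Ideal.span_insert, add_assoc]
    refine (Ideal.sup_pow_add_le_pow_sup_pow).trans (sup_le_sup ?_ ih)
    rw [Ideal.span_singleton_pow]

/-- For a graded ring of finite type over its degree zero part and a finitely generated graded
module, multiplication by the degree `h` part is eventually surjective onto the next pieces. -/
theorem exists_eventually_eq_smul [Algebra.FiniteType (𝒜 0) A] [Module.Finite A M] :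
    ∃ (n₁ h : ℕ), 0 < h ∧ ∀ n : ℕ, n₁ ≤ n →
      ℳ (n + h) = (𝒜 h : Submodule R A) • (ℳ n : Submodule R M) := by
  classical
  obtain ⟨s, hs, -, hE⟩ := exists_finset_span_eq_irrelevant 𝒜
  choose! deg hdegpos hdeg using hE
  obtain ⟨X, hX, hXhom⟩ := exists_finset_homogeneous_span_eq_top (A := A) ℳ
  choose! degM hdegM using hXhom
  set h : ℕ := ∏ e ∈ s, deg e with hh
  have hhpos : 0 < h := Finset.prod_pos (fun e he => hdegpos e he)
  set k : A → ℕ := fun e => h / deg e with hk
  set G : Set A := (fun e => e ^ k e) '' (s : Set A) with hG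
  have hGdeg : ∀ g ∈ G, g ∈ 𝒜 h := by
    rintro g ⟨e, he, rfl⟩
    have h1 : e ^ k e ∈ 𝒜 (k e • deg e) := SetLike.pow_mem_graded (k e) (hdeg e he)
    have h2 : k e • deg e = h := by
      rw [smul_eq_mul, hk]
      exact Nat.div_mul_cancel (Finset.dvd_prod_of_mem deg he)
    rwa [h2] at h1
  set K : ℕ := ∑ e ∈ s, k e + 1 with hK
  have hpow : (HomogeneousIdeal.irrelevant 𝒜).toIdeal ^ K ≤ Ideal.span G := by
    rw [hs]; exact span_pow_le_span_pow s k
  obtain ⟨m₀, hm₀⟩ := exists_le_irrelevant_pow 𝒜 K
  refine ⟨X.sup degM + m₀, h, hhpos, fun n hn => le_antisymm ?_ ?_⟩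
  · intro x hx
    have hxspan : x ∈ Submodule.span A (X : Set M) := by rw [hX]; trivial
    have hcl := mem_closure_of_mem_span 𝒜 ℳ (X : Set M) degM (fun y hy => hdegM y hy) hx hxspan
    have hsub : ∀ z ∈ AddSubmonoid.closure
        {z | ∃ y ∈ (X : Set M), degM y ≤ n + h ∧ ∃ a ∈ 𝒜 (n + h - degM y), z = a • y},
        z ∈ (𝒜 h : Submodule R A) • (ℳ n : Submodule R M) := by
      intro z hz
      induction hz using AddSubmonoid.closure_induction with
      | mem z hz =>
        obtain ⟨y, hy, hle, a, ha, rfl⟩ := hz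
        have hysup : degM y ≤ X.sup degM := Finset.le_sup (f := degM) hy
        have haK : a ∈ (HomogeneousIdeal.irrelevant 𝒜).toIdeal ^ K :=
          hm₀ (n + h - degM y) (by omega) a ha
        have hcl2 := Groth.Agent.Lib.GradedGen.mem_closure_of_mem_span 𝒜 G (fun _ => h)
          hGdeg ha (hpow haK)
        have hsub2 : ∀ a' ∈ AddSubmonoid.closure
            {w | ∃ g ∈ G, h ≤ n + h - degM y ∧ ∃ b ∈ 𝒜 (n + h - degM y - h), w = b * g},
            a' • y ∈ (𝒜 h : Submodule R A) • (ℳ n : Submodule R M) := by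
          intro a' ha'
          induction ha' using AddSubmonoid.closure_induction with
          | mem w hw =>
            obtain ⟨g, hg, hle2, b, hb, rfl⟩ := hw
            rw [mul_comm, mul_smul]
            refine Submodule.smul_mem_smul (hGdeg g hg) ?_
            have hby : b • y ∈ ℳ (n + h - degM y - h + degM y) :=
              smul_mem_add 𝒜 ℳ hb (hdegM y hy)
            have heq : n + h - degM y - h + degM y = n := by omega
            rwa [heq] at hby
          | zero => rw [zero_smul]; exact zero_mem _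
          | add _ _ _ _ h1 h2 => rw [add_smul]; exact add_mem h1 h2
        exact hsub2 a hcl2
      | zero => exact zero_mem _
      | add _ _ _ _ h1 h2 => exact add_mem h1 h2
    exact hsub x hcl
  · rw [Submodule.smul_le]
    intro r hr m hm
    have : r • m ∈ ℳ (h + n) := smul_mem_add 𝒜 ℳ hr hm
    rwa [add_comm] at this

end Groth.Agent.Lib.GradedMod
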