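import Mathlib.RingTheory.GradedAlgebra.Basic
import Mathlib.Algebra.GCDMonoid.Finset
import Mathlib.Algebra.GCDMonoid.Nat
import Mathlib.RingTheory.Adjoin.Basic
import Mathlib.Algebra.Algebra.Operations
import Mathlib.Algebra.MvPolynomial.Eval
import Mathlib.Tactic.Linarith
import Mathlib.Tactic.Ring

/-!
# Graded algebras generated by finitely many homogeneous elements (helper45)

`A` graded `R`-algebra generated by `f i ∈ 𝒜 (deg i)`, `i : Fin s`.
* `mon f α = ∏ i, f i ^ α i`, `wt deg α = ∑ i, α i * deg i`;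
* `mem_span_mon`: `𝒜 m` is spanned by the monomials of weight `m`;
* `graded_add_lcm`: `𝒜 (n + l) = 𝒜 n * 𝒜 l` for `n ≥ (s-1)(l-1)`, `l = lcm deg`;
* `graded_zero`: `𝒜 0 = 1` when all degrees are positive.
-/

set_option autoImplicit false
universe u

namespace Groth.Agent.Lib.GradedMonomial

open DirectSum

variable {R A : Type u} [CommRing R] [CommRing A] [Algebra R A]
  (𝒜 : ℕ → Submodule R A) [GradedAlgebra 𝒜]
  {s : ℕ} (f : Fin s → A) (deg : Fin s → ℕ)

/-- The monomial `∏ f_i ^ α_i`. -/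
def mon (α : Fin s → ℕ) : A := ∏ i, f i ^ α i

/-- The weight `∑ α_i d_i`. -/
def wt (α : Fin s → ℕ) : ℕ := ∑ i, α i * deg i

omit [Algebra R A] in
theorem mon_add (α β : Fin s → ℕ) : mon f (α + β) = mon f α * mon f β := by
  simp only [mon, Pi.add_apply, pow_add, Finset.prod_mul_distrib]

theorem wt_add (α β : Fin s → ℕ) : wt deg (α + β) = wt deg α + wt deg β := by
  simp only [wt, Pi.add_apply, add_mul, Finset.sum_add_distrib]

omit [Algebra R A] in
theorem mon_single (i : Fin s) (e : ℕ) : mon f (Pi.single i e) = f i ^ e := by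
  classical
  simp only [mon]
  rw [Finset.prod_eq_single i]
  · simp
  · intro j _ hj
    simp [Pi.single_eq_of_ne hj]
  · simp

theorem wt_single (i : Fin s) (e : ℕ) : wt deg (Pi.single i e) = e * deg i := by
  classical
  simp only [wt]
  rw [Finset.sum_eq_single i]
  · simp
  · intro j _ hj
    simp [Pi.single_eq_of_ne hj]
  · simp

variable {f deg}

theorem pow_mem_graded (hf : ∀ i, f i ∈ 𝒜 (deg i)) (i : Fin s) (e : ℕ) :
    f i ^ e ∈ 𝒜 (e * deg i) := by
  have := SetLike.pow_mem_graded e (hf i)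
  simpa [smul_eq_mul] using this

theorem mon_mem (hf : ∀ i, f i ∈ 𝒜 (deg i)) (α : Fin s → ℕ) : mon f α ∈ 𝒜 (wt deg α) := by
  unfold mon wt
  exact SetLike.prod_mem_graded 𝒜 (fun i => α i * deg i) (fun i => f i ^ α i)
    (fun i _ => pow_mem_graded 𝒜 hf i (α i))

/-- `𝒜 m` is spanned by the monomials of weight `m`. -/
theorem mem_span_mon (hf : ∀ i, f i ∈ 𝒜 (deg i)) (hgen : Algebra.adjoin R (Set.range f) = ⊤)
    {m : ℕ} {a : A} (ha : a ∈ 𝒜 m) :
    a ∈ Submodule.span R {x | ∃ α : Fin s → ℕ, wt deg α = m ∧ x = mon f α} := by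
  classical
  have ha' : a ∈ Algebra.adjoin R (Set.range f) := by rw [hgen]; trivial
  rw [Algebra.adjoin_range_eq_range_aeval] at ha'
  obtain ⟨P, hP⟩ := ha'
  change MvPolynomial.aeval f P = a at hP
  subst hP
  have hproj : GradedAlgebra.proj 𝒜 m (MvPolynomial.aeval f P) = MvPolynomial.aeval f P := by
    rw [GradedAlgebra.proj_apply, DirectSum.decompose_of_mem_same 𝒜 ha]
  rw [← hproj, P.as_sum, map_sum, map_sum]
  refine Submodule.sum_mem _ fun d _ => ?_
  rw [MvPolynomial.aeval_monomial, ← Algebra.smul_def, map_smul]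
  apply Submodule.smul_mem
  have hd : (d.prod fun i k => f i ^ k) = mon f (fun i => d i) := by
    rw [Finsupp.prod_fintype _ _ (fun i => pow_zero _)]
    rfl
  rw [hd]
  have hmem := mon_mem 𝒜 hf (fun i => d i)
  by_cases hw : wt deg (fun i => d i) = m
  · rw [GradedAlgebra.proj_apply, DirectSum.decompose_of_mem_same 𝒜 (hw ▸ hmem)]
    exact Submodule.subset_span ⟨_, hw, rfl⟩
  · rw [GradedAlgebra.proj_apply, DirectSum.decompose_of_mem_ne 𝒜 hmem hw]
    exact Submodule.zero_mem _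

theorem mul_le_graded (i j : ℕ) : 𝒜 i * 𝒜 j ≤ 𝒜 (i + j) :=
  Submodule.mul_le.mpr fun _ ha _ hb => SetLike.GradedMul.mul_mem ha hb

theorem pow_le_graded (l : ℕ) : ∀ j : ℕ, 𝒜 l ^ j ≤ 𝒜 (j * l)
  | 0 => by
      rw [pow_zero, zero_mul, Submodule.one_le]
      exact SetLike.GradedOne.one_mem
  | j + 1 => by
      rw [pow_succ, Nat.succ_mul]
      exact (mul_le_mul' (pow_le_graded l j) le_rfl).trans (mul_le_graded 𝒜 _ _)

theorem lcm_pos (hdeg : ∀ i, 0 < deg i) : 0 < Finset.univ.lcm deg := by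
  rw [Nat.pos_iff_ne_zero]
  intro h
  rw [Finset.lcm_eq_zero_iff] at h
  obtain ⟨i, _, hi⟩ := h
  exact (hdeg i).ne' hi

/-- `𝒜 (n + l) = 𝒜 n * 𝒜 l` for `n ≥ (s - 1) (l - 1)`, where `l = lcm deg`. -/
theorem graded_add_lcm (hdeg : ∀ i, 0 < deg i) (hf : ∀ i, f i ∈ 𝒜 (deg i))
    (hgen : Algebra.adjoin R (Set.range f) = ⊤) (n : ℕ)
    (hn : (s - 1) * (Finset.univ.lcm deg - 1) ≤ n) :
    𝒜 (n + Finset.univ.lcm deg) = 𝒜 n * 𝒜 (Finset.univ.lcm deg) := by
  classical
  set l := Finset.univ.lcm deg with hl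
  have hlpos : 0 < l := lcm_pos hdeg
  refine le_antisymm ?_ (mul_le_graded 𝒜 n l)
  intro a ha
  have hspan := mem_span_mon 𝒜 hf hgen ha
  refine Submodule.span_le.mpr ?_ hspan
  rintro _ ⟨α, hα, rfl⟩
  -- exponents e_i = l / d_i
  have hdvd : ∀ i, deg i ∣ l := fun i => Finset.dvd_lcm (Finset.mem_univ i)
  -- some α i ≥ l / deg i
  obtain ⟨i, hi⟩ : ∃ i, l / deg i ≤ α i := by
    by_contra hcon
    push Not at hcon
    have hbound : ∀ i, α i * deg i + deg i ≤ l := by
      intro i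
      have h1 : α i + 1 ≤ l / deg i := hcon i
      have h2 : (α i + 1) * deg i ≤ l / deg i * deg i := Nat.mul_le_mul_right _ h1
      rw [Nat.div_mul_cancel (hdvd i)] at h2
      linarith [h2, add_mul (α i) 1 (deg i)]
    have hsum : wt deg α + s ≤ s * l := by
      have h3 : ∑ i : Fin s, (α i * deg i + 1) ≤ ∑ _i : Fin s, l := by
        apply Finset.sum_le_sum
        intro i _
        have := hbound i
        have := hdeg i
        omega
      simp only [Finset.sum_add_distrib, Finset.sum_const, Finset.card_univ, Fintype.card_fin,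
        smul_eq_mul, mul_one] at h3
      exact h3
    rw [hα] at hsum
    -- n + l + s ≤ s * l contradicts hn
    rcases Nat.eq_zero_or_pos s with hs | hs
    · rw [hs] at hsum; omega
    · obtain ⟨s', rfl⟩ : ∃ s', s = s' + 1 := ⟨s - 1, by omega⟩
      obtain ⟨l', hl'⟩ : ∃ l', l = l' + 1 := ⟨l - 1, by omega⟩
      rw [hl'] at hsum hn
      simp only [Nat.add_sub_cancel] at hn
      nlinarith [hsum, hn]
  -- split the monomial
  have hsplit : α = (α - Pi.single i (l / deg i)) + Pi.single i (l / deg i) := by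
    funext j
    by_cases hj : j = i
    · subst hj
      simp [Nat.sub_add_cancel hi]
    · simp [Pi.single_eq_of_ne hj]
  have hwt : wt deg α = wt deg (α - Pi.single i (l / deg i)) + l := by
    conv_lhs => rw [hsplit]
    rw [wt_add, wt_single, Nat.div_mul_cancel (hdvd i)]
  have hn' : wt deg (α - Pi.single i (l / deg i)) = n := by omega
  rw [hsplit, mon_add, mon_single]
  apply Submodule.mul_mem_mul
  · rw [← hn']
    exact mon_mem 𝒜 hf _
  · have := pow_mem_graded 𝒜 hf i (l / deg i)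
    rwa [Nat.div_mul_cancel (hdvd i)] at this

/-- Iterated version: `𝒜 (m + j l) = 𝒜 m * (𝒜 l)^j` for `m ≥ (s-1)(l-1)`. -/
theorem graded_add_mul_lcm (hdeg : ∀ i, 0 < deg i) (hf : ∀ i, f i ∈ 𝒜 (deg i))
    (hgen : Algebra.adjoin R (Set.range f) = ⊤) (m : ℕ)
    (hm : (s - 1) * (Finset.univ.lcm deg - 1) ≤ m) :
    ∀ j : ℕ, 𝒜 (m + j * Finset.univ.lcm deg) = 𝒜 m * 𝒜 (Finset.univ.lcm deg) ^ j
  | 0 => by simp
  | j + 1 => by
      have h1 : m + (j + 1) * Finset.univ.lcm deg
          = (m + j * Finset.univ.lcm deg) + Finset.univ.lcm deg := by ring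
      rw [h1, graded_add_lcm 𝒜 hdeg hf hgen _ (hm.trans (Nat.le_add_right _ _)),
        graded_add_mul_lcm hdeg hf hgen m hm j, pow_succ, mul_assoc]

/-- The degree zero part is `R · 1` when all generators have positive degree. -/
theorem graded_zero (hdeg : ∀ i, 0 < deg i) (hf : ∀ i, f i ∈ 𝒜 (deg i))
    (hgen : Algebra.adjoin R (Set.range f) = ⊤) : 𝒜 0 = 1 := by
  refine le_antisymm ?_ (Submodule.one_le.mpr SetLike.GradedOne.one_mem)
  intro a ha
  have hspan := mem_span_mon 𝒜 hf hgen ha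
  refine Submodule.span_le.mpr ?_ hspan
  rintro _ ⟨α, hα, rfl⟩
  have hα0 : α = 0 := by
    funext i
    have h1 : α i * deg i ≤ wt deg α :=
      Finset.single_le_sum (f := fun i => α i * deg i) (fun _ _ => Nat.zero_le _)
        (Finset.mem_univ i)
    rw [hα] at h1
    have := hdeg i
    have h2 : α i * deg i = 0 := Nat.le_zero.mp h1
    rcases Nat.mul_eq_zero.mp h2 with h | h
    · exact h
    · omega
  rw [hα0]
  simp only [mon, Pi.zero_apply, pow_zero, Finset.prod_const_one]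
  exact Submodule.one_le.mp le_rfl

/-- `𝒜 (k n) = (𝒜 n)^k` for `n = a l`, `a ≥ s - 1`. -/
theorem graded_mul_eq_pow (hdeg : ∀ i, 0 < deg i) (hf : ∀ i, f i ∈ 𝒜 (deg i))
    (hgen : Algebra.adjoin R (Set.range f) = ⊤) (a : ℕ) (ha : s - 1 ≤ a) :
    ∀ k : ℕ, 𝒜 (k * (a * Finset.univ.lcm deg)) = 𝒜 (a * Finset.univ.lcm deg) ^ k
  | 0 => by
      rw [zero_mul, pow_zero]
      exact graded_zero 𝒜 hdeg hf hgen
  | k + 1 => by
      set l := Finset.univ.lcm deg with hl
      have ih := graded_mul_eq_pow hdeg hf hgen a ha k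
      rw [Nat.succ_mul, pow_succ, ← ih]
      rcases Nat.eq_zero_or_pos k with hk | hk
      · subst hk
        rw [zero_mul, zero_add, graded_zero 𝒜 hdeg hf hgen, one_mul]
      · refine le_antisymm ?_ (mul_le_graded 𝒜 _ _)
        have hm : (s - 1) * (l - 1) ≤ k * (a * l) := by
          calc (s - 1) * (l - 1) ≤ a * l := Nat.mul_le_mul ha (Nat.sub_le _ _)
            _ ≤ k * (a * l) := Nat.le_mul_of_pos_left _ hk
        rw [graded_add_mul_lcm 𝒜 hdeg hf hgen _ hm a]
        exact mul_le_mul' le_rfl (pow_le_graded 𝒜 l a)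

end Groth.Agent.Lib.GradedMonomial
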