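import Mathlib.RingTheory.GradedAlgebra.Basic
import Mathlib.Algebra.Polynomial.Basic
import Mathlib.Algebra.Algebra.Operations
import Mathlib.Algebra.Polynomial.AlgebraMap

set_option autoImplicit false
universe u

namespace Groth.Agent.Lib.GradedNatural

open Polynomial

variable {R A B : Type u} [CommRing R] [CommRing A] [Algebra R A]

/-- the `R`-linear map `a ↦ a X^n` -/
noncomputable abbrev mon (R : Type u) {A : Type u} [CommRing R] [CommRing A] [Algebra R A] (n : ℕ) :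
    A →ₗ[R] Polynomial A :=
  (Polynomial.monomial n : A →ₗ[A] Polynomial A).restrictScalars R

theorem mon_injective (n : ℕ) : Function.Injective (mon R (A := A) n) :=
  Polynomial.monomial_injective n

theorem map_mon_mul (i j : ℕ) (P Q : Submodule R A) :
    Submodule.map (mon R i) P * Submodule.map (mon R j) Q = Submodule.map (mon R (i + j)) (P * Q) := by
  apply le_antisymm
  · rw [Submodule.mul_le]
    rintro _ ⟨a, ha, rfl⟩ _ ⟨b, hb, rfl⟩
    refine ⟨a * b, Submodule.mul_mem_mul ha hb, ?_⟩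
    simp [mon, Polynomial.monomial_mul_monomial]
  · rw [Submodule.map_le_iff_le_comap, Submodule.mul_le]
    intro a ha b hb
    rw [Submodule.mem_comap]
    have : mon R (i + j) (a * b) = mon R i a * mon R j b := by
      simp [mon, Polynomial.monomial_mul_monomial]
    rw [this]
    exact Submodule.mul_mem_mul ⟨a, ha, rfl⟩ ⟨b, hb, rfl⟩

theorem map_mon_one : Submodule.map (mon R 0) (1 : Submodule R A) = 1 := by
  rw [Submodule.one_eq_span, Submodule.map_span, Set.image_singleton, Submodule.one_eq_span]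
  rfl

theorem map_mon_pow (P : Submodule R A) (n : ℕ) :
    (Submodule.map (mon R 1) P) ^ n = Submodule.map (mon R n) (P ^ n) := by
  induction n with
  | zero => rw [pow_zero, pow_zero, map_mon_one]
  | succ n ih => rw [pow_succ, pow_succ, ih, map_mon_mul]

variable (𝒜 : ℕ → Submodule R A)

/-- `A_{≥ n}` -/
def ge (n : ℕ) : Submodule R A := ⨆ (m : ℕ) (_ : n ≤ m), 𝒜 m

theorem le_ge {n m : ℕ} (h : n ≤ m) : 𝒜 m ≤ ge 𝒜 n :=
  le_iSup₂_of_le m h le_rfl

theorem ge_anti {n m : ℕ} (h : n ≤ m) : ge 𝒜 m ≤ ge 𝒜 n :=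
  iSup₂_le fun _ hk => le_ge 𝒜 (h.trans hk)

theorem ge_succ (n : ℕ) : ge 𝒜 n = 𝒜 n ⊔ ge 𝒜 (n + 1) := by
  apply le_antisymm
  · refine iSup₂_le fun m hm => ?_
    rcases hm.eq_or_lt with rfl | h
    · exact le_sup_left
    · exact (le_ge 𝒜 h).trans le_sup_right
  · exact sup_le (le_ge 𝒜 le_rfl) (ge_anti 𝒜 (Nat.le_succ n))

variable [GradedAlgebra 𝒜]

theorem mul_le_graded (i j : ℕ) : 𝒜 i * 𝒜 j ≤ 𝒜 (i + j) :=
  Submodule.mul_le.mpr fun _ ha _ hb => SetLike.mul_mem_graded ha hb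

theorem pow_le_graded (n : ℕ) : 𝒜 1 ^ n ≤ 𝒜 n := by
  induction n with
  | zero =>
    rw [pow_zero, Submodule.one_le]
    exact SetLike.one_mem_graded 𝒜
  | succ n ih =>
    rw [pow_succ]
    exact (mul_le_mul' ih le_rfl).trans (mul_le_graded 𝒜 n 1)

theorem graded_mul_ge_le (i j : ℕ) : 𝒜 i * ge 𝒜 j ≤ ge 𝒜 (i + j) := by
  rw [ge, Submodule.mul_iSup]
  refine iSup_le fun m => ?_
  rw [Submodule.mul_iSup]
  refine iSup_le fun hm => ?_
  exact (mul_le_graded 𝒜 i m).trans (le_ge 𝒜 (by omega))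

theorem ge_mul_ge_le (i j : ℕ) : ge 𝒜 i * ge 𝒜 j ≤ ge 𝒜 (i + j) := by
  rw [ge, Submodule.iSup_mul]
  refine iSup_le fun m => ?_
  rw [Submodule.iSup_mul]
  refine iSup_le fun hm => ?_
  exact (graded_mul_ge_le 𝒜 m j).trans (ge_anti 𝒜 (by omega))

theorem proj_eq_zero_of_mem_ge {n : ℕ} {b : A} (hb : b ∈ ge 𝒜 (n + 1)) :
    GradedAlgebra.proj 𝒜 n b = 0 := by
  have : ge 𝒜 (n + 1) ≤ LinearMap.ker (GradedAlgebra.proj 𝒜 n) := by
    refine iSup₂_le fun m hm x hx => ?_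
    rw [LinearMap.mem_ker, GradedAlgebra.proj_apply, DirectSum.decompose_of_mem_ne 𝒜 hx (by omega)]
  exact this hb

theorem proj_eq_self_of_mem {n : ℕ} {a : A} (ha : a ∈ 𝒜 n) :
    GradedAlgebra.proj 𝒜 n a = a := by
  rw [GradedAlgebra.proj_apply, DirectSum.decompose_of_mem_same 𝒜 ha]

/-- if `x ∈ 𝒜 n` lies in `N ⊔ A_{≥ n+1}` with `N ≤ 𝒜 n` then `x ∈ N`. -/
theorem mem_of_mem_sup_ge {n : ℕ} {N : Submodule R A} (hN : N ≤ 𝒜 n) {x : A} (hx : x ∈ 𝒜 n)
    (h : x ∈ N ⊔ ge 𝒜 (n + 1)) : x ∈ N := by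
  obtain ⟨a, ha, b, hb, rfl⟩ := Submodule.mem_sup.mp h
  have h1 := proj_eq_self_of_mem 𝒜 hx
  rw [map_add, proj_eq_self_of_mem 𝒜 (hN ha), proj_eq_zero_of_mem_ge 𝒜 hb, add_zero] at h1
  have hb0 : b = 0 := by
    have := h1
    exact (add_eq_left.mp this.symm)
  rw [hb0, add_zero]
  exact ha

theorem ge_one_mul_ge_le (n : ℕ) : ge 𝒜 1 * ge 𝒜 n ≤ 𝒜 1 * 𝒜 n ⊔ ge 𝒜 (n + 1 + 1) := by
  rw [ge_succ 𝒜 1, ge_succ 𝒜 n, Submodule.sup_mul, Submodule.mul_sup, Submodule.mul_sup]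
  refine sup_le (sup_le le_sup_left ?_) (sup_le ?_ ?_)
  · exact ((graded_mul_ge_le 𝒜 1 (n + 1)).trans (ge_anti 𝒜 (by omega))).trans le_sup_right
  · rw [mul_comm]
    exact ((graded_mul_ge_le 𝒜 n (1 + 1)).trans (ge_anti 𝒜 (by omega))).trans le_sup_right
  · exact ((ge_mul_ge_le 𝒜 (1 + 1) (n + 1)).trans (ge_anti 𝒜 (by omega))).trans le_sup_right

theorem ge_one_pow_le (n : ℕ) : ge 𝒜 1 ^ n ≤ 𝒜 1 ^ n ⊔ ge 𝒜 (n + 1) := by
  induction n with
  | zero => rw [pow_zero, pow_zero]; exact le_sup_left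
  | succ n ih =>
    rw [pow_succ, pow_succ]
    refine (mul_le_mul' ih le_rfl).trans ?_
    rw [ge_succ 𝒜 1, Submodule.sup_mul, Submodule.mul_sup, Submodule.mul_sup]
    refine sup_le (sup_le le_sup_left ?_) (sup_le ?_ ?_)
    · refine le_trans ?_ le_sup_right
      refine (mul_le_mul' (pow_le_graded 𝒜 n) le_rfl).trans ?_
      exact (graded_mul_ge_le 𝒜 n (1 + 1)).trans (ge_anti 𝒜 (by omega))
    · refine le_trans ?_ le_sup_right
      rw [mul_comm]
      exact (graded_mul_ge_le 𝒜 1 (n + 1)).trans (ge_anti 𝒜 (by omega))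
    · refine le_trans ?_ le_sup_right
      exact (ge_mul_ge_le 𝒜 (n + 1) (1 + 1)).trans (ge_anti 𝒜 (by omega))

/-- core equivalence for `S_{n+1} = S_1 S_n` -/
theorem ge_succ_eq_iff (n₀ : ℕ) :
    (∀ n, n₀ ≤ n → ge 𝒜 (n + 1) = ge 𝒜 1 * ge 𝒜 n) ↔ (∀ n, n₀ ≤ n → 𝒜 (n + 1) = 𝒜 1 * 𝒜 n) := by
  constructor
  · intro h n hn
    apply le_antisymm
    · intro x hx
      have h1 : x ∈ ge 𝒜 1 * ge 𝒜 n := by
        rw [← h n hn]
        exact le_ge 𝒜 le_rfl hx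
      have h2 := ge_one_mul_ge_le 𝒜 n h1
      refine mem_of_mem_sup_ge 𝒜 ?_ hx h2
      rw [add_comm n 1]
      exact mul_le_graded 𝒜 1 n
    · rw [add_comm n 1]
      exact mul_le_graded 𝒜 1 n
  · intro h n hn
    apply le_antisymm
    · refine iSup₂_le fun m hm => ?_
      obtain ⟨k, rfl⟩ : ∃ k, m = k + 1 := ⟨m - 1, by omega⟩
      rw [h k (by omega)]
      exact mul_le_mul' (le_ge 𝒜 le_rfl) (le_ge 𝒜 (by omega))
    · rw [add_comm n 1]
      exact ge_mul_ge_le 𝒜 1 n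

/-- core equivalence for `S_n = S_1^n` -/
theorem ge_eq_pow_iff (n₀ : ℕ) (hn₀ : 1 ≤ n₀) :
    (∀ n, n₀ ≤ n → ge 𝒜 n = ge 𝒜 1 ^ n) ↔ (∀ n, n₀ ≤ n → 𝒜 n = 𝒜 1 ^ n) := by
  constructor
  · intro h n hn
    apply le_antisymm
    · intro x hx
      have h1 : x ∈ ge 𝒜 1 ^ n := by
        rw [← h n hn]
        exact le_ge 𝒜 le_rfl hx
      have h2 := ge_one_pow_le 𝒜 n h1
      exact mem_of_mem_sup_ge 𝒜 (pow_le_graded 𝒜 n) hx h2
    · exact pow_le_graded 𝒜 n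
  · intro h n hn
    apply le_antisymm
    · refine iSup₂_le fun m hm => ?_
      obtain ⟨k, rfl⟩ : ∃ k, n = k + 1 := ⟨n - 1, by omega⟩
      obtain ⟨j, rfl⟩ : ∃ j, m = k + (j + 1) := ⟨m - k - 1, by omega⟩
      rw [h _ (by omega), pow_add, pow_succ (ge 𝒜 1) k]
      refine mul_le_mul' (pow_le_pow_left' (le_ge 𝒜 le_rfl) k) ?_
      exact (pow_le_graded 𝒜 (j + 1)).trans (le_ge 𝒜 (by omega))
    · have : ∀ k, ge 𝒜 1 ^ k ≤ ge 𝒜 k := by
        intro k
        induction k with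
        | zero =>
          rw [pow_zero, Submodule.one_le]
          exact le_ge 𝒜 le_rfl (SetLike.one_mem_graded 𝒜)
        | succ k ih =>
          rw [pow_succ]
          exact (mul_le_mul' ih le_rfl).trans (ge_mul_ge_le 𝒜 k 1)
      exact this n

section transport

omit [GradedAlgebra 𝒜]

variable [CommRing B] [Algebra R B] (ℬ : ℕ → Submodule R B)
  (φ : B →ₐ[R] Polynomial A) (hφ : Function.Injective φ)
  (hdeg : ∀ n : ℕ, Submodule.map φ.toLinearMap (ℬ n) =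
      Submodule.map ((Polynomial.monomial n : A →ₗ[A] Polynomial A).restrictScalars R)
        (⨆ (m : ℕ) (_ : n ≤ m), 𝒜 m))

include hφ hdeg

theorem succ_eq_iff (n : ℕ) :
    ℬ (n + 1) = ℬ 1 * ℬ n ↔ ge 𝒜 (n + 1) = ge 𝒜 1 * ge 𝒜 n := by
  have hinj : Function.Injective (Submodule.map φ.toLinearMap) :=
    Submodule.map_injective_of_injective hφ
  rw [← hinj.eq_iff, Submodule.map_mul, hdeg, hdeg, hdeg]
  change Submodule.map (mon R (n + 1)) (ge 𝒜 (n + 1)) =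
    Submodule.map (mon R 1) (ge 𝒜 1) * Submodule.map (mon R n) (ge 𝒜 n) ↔ _
  rw [map_mon_mul, add_comm 1 n,
    (Submodule.map_injective_of_injective (mon_injective (R := R) (A := A) (n + 1))).eq_iff]

theorem eq_pow_iff (n : ℕ) :
    ℬ n = ℬ 1 ^ n ↔ ge 𝒜 n = ge 𝒜 1 ^ n := by
  have hinj : Function.Injective (Submodule.map φ.toLinearMap) :=
    Submodule.map_injective_of_injective hφ
  rw [← hinj.eq_iff, Submodule.map_pow, hdeg, hdeg]
  change Submodule.map (mon R n) (ge 𝒜 n) = Submodule.map (mon R 1) (ge 𝒜 1) ^ n ↔ _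
  rw [map_mon_pow,
    (Submodule.map_injective_of_injective (mon_injective (R := R) (A := A) n)).eq_iff]

end transport

end Groth.Agent.Lib.GradedNatural
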