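import Mathlib
import Groth.Agent.Lib.GradedGen

/-!
# The ring `S♮ = ⊕ S_{≥ n} X^n` (EGA II 2.1.x), presented through `φ : B → A[X]`

Core lemma: a subring of `A[X]` containing `A_0` and `e X^n` (`n ≤ deg e`) for homogeneous
generators `e` of the irrelevant ideal contains `a X^n` for all `a ∈ A_{≥ n}`, hence `φ(B)`.
-/

set_option autoImplicit false
universe u

namespace Groth.Agent.Lib.GradedNatural27

open Polynomial

variable {R A B : Type u} [CommRing R] [CommRing A] [Algebra R A]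
  (𝒜 : ℕ → Submodule R A) [GradedAlgebra 𝒜]

/-- core induction -/
theorem monomial_mem_of_mem (T : Subring (Polynomial A)) (E : Set A) (deg : A → ℕ)
    (hdegE : ∀ e ∈ E, e ∈ 𝒜 (deg e)) (hpos : ∀ e ∈ E, 0 < deg e)
    (hirr : (HomogeneousIdeal.irrelevant 𝒜).toIdeal ≤ Ideal.span E)
    (hC : ∀ a ∈ 𝒜 0, C a ∈ T) (hE : ∀ e ∈ E, ∀ n ≤ deg e, monomial n e ∈ T) :
    ∀ m : ℕ, ∀ a ∈ 𝒜 m, ∀ n ≤ m, monomial n a ∈ T := by
  intro m
  induction m using Nat.strong_induction_on with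
  | _ m ih =>
    intro a ha n hn
    rcases Nat.eq_zero_or_pos m with rfl | hmpos
    · obtain rfl : n = 0 := Nat.le_zero.1 hn
      rw [monomial_zero_left]; exact hC a ha
    · have hairr : a ∈ (HomogeneousIdeal.irrelevant 𝒜).toIdeal :=
        HomogeneousIdeal.mem_irrelevant_of_mem 𝒜 hmpos ha
      have hcl := Groth.Agent.Lib.GradedGen.mem_closure_of_mem_span 𝒜 E deg hdegE ha (hirr hairr)
      have hsub : ∀ y ∈ AddSubmonoid.closure
          {y | ∃ e ∈ E, deg e ≤ m ∧ ∃ a' ∈ 𝒜 (m - deg e), y = a' * e},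
          monomial n y ∈ T := by
        intro y hy
        induction hy using AddSubmonoid.closure_induction with
        | mem y hy =>
          obtain ⟨e, he, hle, a', ha', rfl⟩ := hy
          have hlt : m - deg e < m := Nat.sub_lt hmpos (hpos e he)
          have hsplit : monomial n (a' * e) =
              monomial (n - min n (deg e)) a' * monomial (min n (deg e)) e := by
            rw [monomial_mul_monomial, Nat.sub_add_cancel (min_le_left _ _)]
          rw [hsplit]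
          refine T.mul_mem (ih _ hlt a' ha' _ ?_) (hE e he _ (min_le_right _ _))
          rcases le_total n (deg e) with h | h
          · rw [min_eq_left h, Nat.sub_self]; exact Nat.zero_le _
          · rw [min_eq_right h]; exact Nat.sub_le_sub_right hn _
        | zero => rw [map_zero]; exact T.zero_mem
        | add _ _ _ _ h1 h2 => rw [map_add]; exact T.add_mem h1 h2
      exact hsub a hcl

theorem monomial_mem_of_mem_ge (T : Subring (Polynomial A)) (E : Set A) (deg : A → ℕ)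
    (hdegE : ∀ e ∈ E, e ∈ 𝒜 (deg e)) (hpos : ∀ e ∈ E, 0 < deg e)
    (hirr : (HomogeneousIdeal.irrelevant 𝒜).toIdeal ≤ Ideal.span E)
    (hC : ∀ a ∈ 𝒜 0, C a ∈ T) (hE : ∀ e ∈ E, ∀ n ≤ deg e, monomial n e ∈ T)
    (n : ℕ) (a : A) (ha : a ∈ ⨆ (m : ℕ) (_ : n ≤ m), 𝒜 m) : monomial n a ∈ T := by
  refine Submodule.iSup_induction (fun m => ⨆ (_ : n ≤ m), 𝒜 m)
    (motive := fun a => monomial n a ∈ T) ha ?_ ?_ ?_
  · intro m x hx
    by_cases hnm : n ≤ m
    · rw [iSup_pos hnm] at hx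
      exact monomial_mem_of_mem 𝒜 T E deg hdegE hpos hirr hC hE m x hx n hnm
    · rw [iSup_neg hnm, Submodule.mem_bot] at hx
      rw [hx, map_zero]; exact T.zero_mem
  · rw [map_zero]; exact T.zero_mem
  · intro x y hx hy
    rw [map_add]; exact T.add_mem hx hy

variable [CommRing B] [Algebra R B] (ℬ : ℕ → Submodule R B) [GradedAlgebra ℬ]
  (φ : B →ₐ[R] Polynomial A)
  (hdeg : ∀ n : ℕ, Submodule.map φ.toLinearMap (ℬ n) =
    Submodule.map ((Polynomial.monomial n : A →ₗ[A] Polynomial A).restrictScalars R)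
      (⨆ (m : ℕ) (_ : n ≤ m), 𝒜 m))

include hdeg in
theorem map_mem (T : Subring (Polynomial A)) (E : Set A) (deg : A → ℕ)
    (hdegE : ∀ e ∈ E, e ∈ 𝒜 (deg e)) (hpos : ∀ e ∈ E, 0 < deg e)
    (hirr : (HomogeneousIdeal.irrelevant 𝒜).toIdeal ≤ Ideal.span E)
    (hC : ∀ a ∈ 𝒜 0, C a ∈ T) (hE : ∀ e ∈ E, ∀ n ≤ deg e, monomial n e ∈ T) (b : B) :
    φ b ∈ T := by
  classical
  rw [← DirectSum.sum_support_decompose ℬ b, map_sum]
  refine T.sum_mem (fun n _ => ?_)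
  have h1 : φ ((DirectSum.decompose ℬ b n : ℬ n) : B) ∈ Submodule.map φ.toLinearMap (ℬ n) :=
    ⟨_, Subtype.prop _, rfl⟩
  rw [hdeg n] at h1
  obtain ⟨a, ha, ha'⟩ := h1
  rw [← ha']
  exact monomial_mem_of_mem_ge 𝒜 T E deg hdegE hpos hirr hC hE n a ha

theorem iSup_ge_zero : (⨆ (m : ℕ) (_ : 0 ≤ m), 𝒜 m) = ⊤ := by
  have : (⨆ (m : ℕ) (_ : 0 ≤ m), 𝒜 m) = ⨆ m, 𝒜 m := by
    congr 1; funext m; rw [iSup_pos (Nat.zero_le m)]
  rw [this]
  exact (DirectSum.Decomposition.isInternal 𝒜).submodule_iSup_eq_top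

include hdeg in
/-- `C a` is in the image of `ℬ 0`. -/
theorem exists_mem_zero_map_eq_C (a : A) : ∃ b ∈ ℬ 0, φ b = C a := by
  have h1 : C a ∈ Submodule.map ((Polynomial.monomial 0 : A →ₗ[A] Polynomial A).restrictScalars R)
      (⨆ (m : ℕ) (_ : 0 ≤ m), 𝒜 m) := by
    rw [iSup_ge_zero]
    exact ⟨a, Submodule.mem_top, by simp⟩
  rw [← hdeg 0] at h1
  obtain ⟨b, hb, hb'⟩ := h1
  exact ⟨b, hb, hb'⟩

include hdeg in
/-- elements of `ℬ n` map to `a X^n` with `a ∈ A_{≥ n}`. -/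
theorem exists_monomial_of_mem {n : ℕ} {b : B} (hb : b ∈ ℬ n) :
    ∃ a ∈ ⨆ (m : ℕ) (_ : n ≤ m), 𝒜 m, φ b = monomial n a := by
  have h1 : φ b ∈ Submodule.map φ.toLinearMap (ℬ n) := ⟨b, hb, rfl⟩
  rw [hdeg n] at h1
  obtain ⟨a, ha, ha'⟩ := h1
  exact ⟨a, ha, ha'.symm⟩

include hdeg in
/-- `a X^n` with `a ∈ A_m`, `n ≤ m`, is in the image of `ℬ n`. -/
theorem exists_mem_map_eq_monomial {n m : ℕ} (hnm : n ≤ m) {a : A} (ha : a ∈ 𝒜 m) :
    ∃ b ∈ ℬ n, φ b = monomial n a := by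
  have h1 : monomial n a ∈
      Submodule.map ((Polynomial.monomial n : A →ₗ[A] Polynomial A).restrictScalars R)
      (⨆ (m : ℕ) (_ : n ≤ m), 𝒜 m) :=
    ⟨a, (le_iSup₂_of_le (f := fun m (_ : n ≤ m) => 𝒜 m) m hnm le_rfl) ha, rfl⟩
  rw [← hdeg n] at h1
  obtain ⟨b, hb, hb'⟩ := h1
  exact ⟨b, hb, hb'⟩

end Groth.Agent.Lib.GradedNatural27
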