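import Mathlib.RingTheory.Filtration
import Mathlib.RingTheory.MvPolynomial.Basic
import Mathlib.RingTheory.MvPolynomial.Homogeneous
import Mathlib.LinearAlgebra.DirectSum.Finsupp
import Mathlib.RingTheory.TensorProduct.MvPolynomial
import Mathlib.RingTheory.Polynomial.Basic

/-!
# Graded module maps to `N[T₁,…,T_r]` (helper9)

Tools for Stacks-type lemma "graded map `⊕ I^{nc'} N → N[T]`": coefficient functionals on
`B[T] ⊗_B N`, an Artin–Rees consequence killing `I`-power torsion inside `I^k N`, and the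
factorisation of maps through `I^m N`.
-/

set_option autoImplicit false
universe u
open scoped TensorProduct

namespace Groth.Agent.Lib.GradedPolyMap9

section coeff

variable {σ : Type} {B : Type u} [CommRing B] {N : Type u} [AddCommGroup N] [Module B N]

/-- the coefficient functional `B[T] ⊗ N → N`, `p ⊗ x ↦ coeff α p • x`. -/
noncomputable def cf (α : σ →₀ ℕ) : MvPolynomial σ B ⊗[B] N →ₗ[B] N :=
  TensorProduct.lift ((LinearMap.lsmul B N).comp (MvPolynomial.lcoeff B α))

@[simp]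
theorem cf_tmul (α : σ →₀ ℕ) (p : MvPolynomial σ B) (x : N) :
    cf α (p ⊗ₜ[B] x) = MvPolynomial.coeff α p • x := by
  simp [cf]

/-- the coefficient functionals are jointly injective. -/
theorem eq_zero_of_cf (z : MvPolynomial σ B ⊗[B] N) (h : ∀ α, cf α z = 0) : z = 0 := by
  classical
  let e : MvPolynomial σ B ⊗[B] N ≃ₗ[B] ((σ →₀ ℕ) →₀ N) :=
    (TensorProduct.congr (MvPolynomial.basisMonomials σ B).repr (LinearEquiv.refl B N)).trans
      (TensorProduct.finsuppScalarLeft B N (σ →₀ ℕ))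
  have he : ∀ (α : σ →₀ ℕ) (z : MvPolynomial σ B ⊗[B] N), e z α = cf α z := by
    intro α z
    induction z using TensorProduct.induction_on with
    | zero => simp
    | tmul p x =>
      simp only [e, LinearEquiv.trans_apply, TensorProduct.congr_tmul, LinearEquiv.refl_apply,
        cf_tmul]
      rw [TensorProduct.finsuppScalarLeft_apply_tmul_apply]
      rfl
    | add a b ha hb => rw [map_add, Finsupp.add_apply, ha, hb, map_add]
  apply e.injective
  rw [map_zero]
  ext α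
  rw [he, h]
  rfl

end coeff

section AR

variable {B : Type u} [CommRing B] {N : Type u} [AddCommGroup N] [Module B N]

/-- elements killed by `J^m`. -/
def tors (J : Ideal B) (m : ℕ) : Submodule B N where
  carrier := {x | ∀ b ∈ J ^ m, b • x = 0}
  add_mem' := by
    intro x y hx hy b hb
    rw [smul_add, hx b hb, hy b hb, add_zero]
  zero_mem' := by
    intro b _
    exact smul_zero b
  smul_mem' := by
    intro c x hx b hb
    rw [smul_comm, hx b hb, smul_zero]

theorem mem_tors (J : Ideal B) (m : ℕ) (x : N) : x ∈ tors J m ↔ ∀ b ∈ J ^ m, b • x = 0 := Iff.rfl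

theorem tors_mono (J : Ideal B) : Monotone (tors (N := N) J) := by
  intro m m' hmm' x hx b hb
  exact hx b (Ideal.pow_le_pow_right hmm' hb)

variable [IsNoetherianRing B] [Module.Finite B N]

/-- Artin–Rees: for `k₀` large, `J^{k₀} N` contains no nonzero `J`-power torsion. -/
theorem exists_AR (J : Ideal B) : ∃ k₀ : ℕ, ∀ y ∈ (J ^ k₀ • ⊤ : Submodule B N), ∀ m : ℕ,
    (∀ b ∈ J ^ m, b • y = 0) → y = 0 := by
  haveI : IsNoetherian B N := isNoetherian_of_isNoetherianRing_of_finite B N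
  obtain ⟨e, he⟩ := monotone_stabilizes_iff_noetherian.2 ‹IsNoetherian B N›
    ⟨tors (N := N) J, tors_mono J⟩
  obtain ⟨k, hk⟩ := Ideal.exists_pow_inf_eq_pow_smul J (tors (N := N) J e)
  refine ⟨k + e, fun y hy m hm => ?_⟩
  have hyT : y ∈ tors J e := by
    have h1 : y ∈ tors J (max m e) := tors_mono J (le_max_left m e) hm
    have h2 := he (max m e) (le_max_right m e)
    change tors J e = tors J (max m e) at h2
    rw [h2]
    exact h1
  have h3 : y ∈ (J ^ (k + e) • ⊤ ⊓ tors J e : Submodule B N) := ⟨hy, hyT⟩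
  rw [hk (k + e) (Nat.le_add_right k e), Nat.add_sub_cancel_left] at h3
  have h4 : (J ^ e • (J ^ k • ⊤ ⊓ tors J e) : Submodule B N) ≤ ⊥ := by
    rw [Submodule.smul_le]
    intro b hb x hx
    rw [Submodule.mem_bot]
    exact hx.2 b hb
  exact (Submodule.mem_bot B).1 (h4 h3)

end AR

section main

variable {A : Type u} [CommRing A] {r : ℕ} (f : Fin r → A) (I : Ideal A)
  {B : Type u} [CommRing B] [Algebra A B] {N : Type u} [AddCommGroup N] [Module B N]
  (m : ℕ) (Θ : A → MvPolynomial (Fin r) A)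

/-- the generators `g • x`. -/
def gen (p : ↥(I ^ m) × N) : N := algebraMap A B (p.1 : A) • p.2

/-- the presentation `B^{(I^m × N)} → N`. -/
noncomputable def μ : (↥(I ^ m) × N →₀ B) →ₗ[B] N := Finsupp.linearCombination B (gen (B := B) I m)

/-- the candidate map on the presentation. -/
noncomputable def ν : (↥(I ^ m) × N →₀ B) →ₗ[B] MvPolynomial (Fin r) B ⊗[B] N :=
  Finsupp.linearCombination B
    (fun p : ↥(I ^ m) × N => MvPolynomial.map (algebraMap A B) (Θ (p.1 : A)) ⊗ₜ[B] p.2)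

/-- the submodule `I^m N`. -/
abbrev W : Submodule B N :=
  Submodule.span B {y : N | ∃ g ∈ I ^ m, ∃ x : N, y = algebraMap A B g • x}

theorem range_μ : LinearMap.range (μ (B := B) (N := N) I m) = W (B := B) (N := N) I m := by
  rw [μ, Finsupp.range_linearCombination]
  congr 1
  ext y
  constructor
  · rintro ⟨⟨g, x⟩, rfl⟩
    exact ⟨g.1, g.2, x, rfl⟩
  · rintro ⟨g, hg, x, rfl⟩
    exact ⟨(⟨g, hg⟩, x), rfl⟩

/-- evaluation `T_j ↦ f_j` on `B[T] ⊗ N`. -/
noncomputable abbrev ev : MvPolynomial (Fin r) B ⊗[B] N →ₗ[B] N :=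
  TensorProduct.lift ((LinearMap.lsmul B N).comp
    (MvPolynomial.aeval (fun j ↦ algebraMap A B (f j))).toLinearMap)

theorem aeval_map_eq (p : MvPolynomial (Fin r) A) :
    MvPolynomial.aeval (fun j => algebraMap A B (f j)) (MvPolynomial.map (algebraMap A B) p) =
      algebraMap A B (MvPolynomial.eval f p) := by
  induction p using MvPolynomial.induction_on with
  | C a => simp
  | add p q hp hq => rw [map_add, map_add, hp, hq, map_add, map_add]
  | mul_X p i hp =>
    rw [map_mul, map_mul, hp, map_mul, map_mul, MvPolynomial.map_X, MvPolynomial.aeval_X,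
      MvPolynomial.eval_X]

theorem ev_ν (heval : ∀ g ∈ I ^ m, MvPolynomial.eval f (Θ g) = g)
    (t : ↥(I ^ m) × N →₀ B) :
    ev (B := B) (N := N) f (ν I m Θ t) = μ I m t := by
  have : (ev (B := B) (N := N) f).comp (ν I m Θ) = μ I m := by
    apply Finsupp.lhom_ext'
    intro p
    apply LinearMap.ext_ring
    simp only [LinearMap.coe_comp, Function.comp_apply, Finsupp.lsingle_apply, ν, μ,
      Finsupp.linearCombination_single, one_smul, TensorProduct.lift.tmul, LinearMap.coe_comp,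
      AlgHom.toLinearMap_apply, LinearMap.lsmul_apply, gen]
    rw [aeval_map_eq, heval _ p.1.2]
  exact DFunLike.congr_fun this t

theorem package (hker : LinearMap.ker (μ (B := B) (N := N) I m) ≤ LinearMap.ker (ν I m Θ))
    (heval : ∀ g ∈ I ^ m, MvPolynomial.eval f (Θ g) = g) :
    ∃ Ψ : ↥(Submodule.span B {y : N | ∃ g ∈ I ^ m, ∃ x : N, y = algebraMap A B g • x}) →ₗ[B]
        (MvPolynomial (Fin r) B ⊗[B] N),
      (∀ (g : A) (hg : g ∈ I ^ m) (x : N),
        Ψ ⟨algebraMap A B g • x, Submodule.subset_span ⟨g, hg, x, rfl⟩⟩ =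
          MvPolynomial.map (algebraMap A B) (Θ g) ⊗ₜ[B] x) ∧
      (∀ y : ↥(Submodule.span B {y : N | ∃ g ∈ I ^ m, ∃ x : N, y = algebraMap A B g • x}),
        TensorProduct.lift ((LinearMap.lsmul B N).comp
          (MvPolynomial.aeval (fun j ↦ algebraMap A B (f j))).toLinearMap) (Ψ y) = (y : N)) ∧
      (∀ Ψ' : ↥(Submodule.span B {y : N | ∃ g ∈ I ^ m, ∃ x : N, y = algebraMap A B g • x}) →ₗ[B]
          (MvPolynomial (Fin r) B ⊗[B] N),
        (∀ (g : A) (hg : g ∈ I ^ m) (x : N),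
          Ψ' ⟨algebraMap A B g • x, Submodule.subset_span ⟨g, hg, x, rfl⟩⟩ =
            MvPolynomial.map (algebraMap A B) (Θ g) ⊗ₜ[B] x) → Ψ' = Ψ) := by
  let e1 : ↥(W (B := B) (N := N) I m) ≃ₗ[B] ↥(LinearMap.range (μ (B := B) (N := N) I m)) :=
    LinearEquiv.ofEq _ _ (range_μ I m).symm
  let Ψ : ↥(W (B := B) (N := N) I m) →ₗ[B] (MvPolynomial (Fin r) B ⊗[B] N) :=
    ((LinearMap.ker (μ (B := B) (N := N) I m)).liftQ (ν I m Θ) hker) ∘ₗ
      ((μ (B := B) (N := N) I m).quotKerEquivRange).symm.toLinearMap ∘ₗ e1.toLinearMap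
  have hΨ : ∀ (t : ↥(I ^ m) × N →₀ B) (y : ↥(W (B := B) (N := N) I m)),
      μ I m t = (y : N) → Ψ y = ν I m Θ t := by
    intro t y hy
    have h1 : ((μ (B := B) (N := N) I m).quotKerEquivRange).symm (e1 y) =
        Submodule.Quotient.mk t := by
      rw [LinearEquiv.symm_apply_eq]
      apply Subtype.ext
      rw [LinearMap.quotKerEquivRange_apply_mk]
      exact hy.symm
    simp only [Ψ, LinearMap.coe_comp, LinearEquiv.coe_coe, Function.comp_apply]
    rw [h1, Submodule.liftQ_apply]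
  have hgen : ∀ (g : A) (hg : g ∈ I ^ m) (x : N),
      μ (B := B) (N := N) I m (Finsupp.single (⟨g, hg⟩, x) 1) = algebraMap A B g • x := by
    intro g hg x
    simp [μ, gen]
  refine ⟨Ψ, fun g hg x => ?_, fun y => ?_, fun Ψ' hΨ' => ?_⟩
  · rw [hΨ (Finsupp.single (⟨g, hg⟩, x) 1) _ (hgen g hg x)]
    simp [ν]
  · have hy : (y : N) ∈ LinearMap.range (μ (B := B) (N := N) I m) := by
      rw [range_μ]
      exact y.2
    obtain ⟨t, ht⟩ := hy
    rw [hΨ t y ht]
    exact (ev_ν f I m Θ heval t).trans ht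
  · apply LinearMap.ext
    rintro ⟨y, hy⟩
    induction hy using Submodule.span_induction with
    | mem y hy =>
      obtain ⟨g, hg, x, rfl⟩ := hy
      rw [hΨ' g hg x, hΨ (Finsupp.single (⟨g, hg⟩, x) 1) _ (hgen g hg x)]
      simp [ν]
    | zero =>
      have : (⟨0, Submodule.zero_mem _⟩ : ↥(W (B := B) (N := N) I m)) = 0 := rfl
      rw [this, map_zero, map_zero]
    | add y z hy hz ihy ihz =>
      have : (⟨y + z, Submodule.add_mem _ hy hz⟩ : ↥(W (B := B) (N := N) I m)) =
          ⟨y, hy⟩ + ⟨z, hz⟩ := rfl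
      rw [this, map_add, map_add, ihy, ihz]
    | smul b y hy ihy =>
      have : (⟨b • y, Submodule.smul_mem _ b hy⟩ : ↥(W (B := B) (N := N) I m)) =
          b • ⟨y, hy⟩ := rfl
      rw [this, map_smul, map_smul, ihy]

theorem ker_le_of_coeff (k₀ : ℕ)
    (hAR : ∀ y ∈ ((I.map (algebraMap A B)) ^ k₀ • ⊤ : Submodule B N), ∀ m' : ℕ,
      (∀ b ∈ (I.map (algebraMap A B)) ^ m', b • y = 0) → y = 0)
    (hsmul : ∀ (a : A), ∀ g ∈ I ^ m, Θ (a * g) = a • Θ g)
    (hcoeff : ∀ α, ∀ g ∈ I ^ m, MvPolynomial.coeff α (Θ g) ∈ I ^ k₀) :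
    LinearMap.ker (μ (B := B) (N := N) I m) ≤ LinearMap.ker (ν I m Θ) := by
  intro t ht
  rw [LinearMap.mem_ker] at ht ⊢
  apply eq_zero_of_cf
  intro α
  -- the coefficient map as a linear combination
  have hν : cf α (ν (B := B) (N := N) I m Θ t) = Finsupp.linearCombination B
      (fun p : ↥(I ^ m) × N => algebraMap A B (MvPolynomial.coeff α (Θ (p.1 : A))) • p.2) t := by
    rw [ν, Finsupp.apply_linearCombination]
    congr 1
  rw [hν]
  set vα : ↥(I ^ m) × N → N :=
    fun p => algebraMap A B (MvPolynomial.coeff α (Θ (p.1 : A))) • p.2 with hvα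
  -- (i)
  have hi : ∀ h ∈ I ^ m, algebraMap A B h • Finsupp.linearCombination B vα t =
      algebraMap A B (MvPolynomial.coeff α (Θ h)) • μ (B := B) (N := N) I m t := by
    intro h hh
    have : (algebraMap A B h) • Finsupp.linearCombination B vα =
        (algebraMap A B (MvPolynomial.coeff α (Θ h))) • μ (B := B) (N := N) I m := by
      apply Finsupp.lhom_ext'
      intro p
      apply LinearMap.ext_ring
      simp only [LinearMap.coe_comp, Function.comp_apply, Finsupp.lsingle_apply,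
        LinearMap.smul_apply, μ, Finsupp.linearCombination_single, one_smul, gen, hvα]
      rw [smul_smul, smul_smul, ← map_mul, ← map_mul]
      congr 2
      have h1 : MvPolynomial.coeff α (Θ (h * (p.1 : A))) =
          h * MvPolynomial.coeff α (Θ (p.1 : A)) := by
        rw [hsmul h _ p.1.2, MvPolynomial.coeff_smul, smul_eq_mul]
      have h2 : MvPolynomial.coeff α (Θ ((p.1 : A) * h)) =
          (p.1 : A) * MvPolynomial.coeff α (Θ h) := by
        rw [hsmul _ h hh, MvPolynomial.coeff_smul, smul_eq_mul]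
      rw [← h1, mul_comm h, h2, mul_comm]
    exact DFunLike.congr_fun this t
  -- (ii)
  have hii : ∀ b ∈ (I.map (algebraMap A B)) ^ m, b • Finsupp.linearCombination B vα t = 0 := by
    intro b hb
    rw [← Ideal.map_pow] at hb
    induction hb using Submodule.span_induction with
    | mem b hb =>
      obtain ⟨h, hh, rfl⟩ := hb
      rw [hi h hh, ht, smul_zero]
    | zero => rw [zero_smul]
    | add b b' _ _ hb hb' => rw [add_smul, hb, hb', add_zero]
    | smul c b _ hb => rw [smul_eq_mul, mul_smul, hb, smul_zero]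
  -- (iii)
  have hiii : Finsupp.linearCombination B vα t ∈
      ((I.map (algebraMap A B)) ^ k₀ • ⊤ : Submodule B N) := by
    rw [Finsupp.linearCombination_apply]
    refine Submodule.sum_mem _ (fun p _ => Submodule.smul_mem _ _ ?_)
    refine Submodule.smul_mem_smul ?_ Submodule.mem_top
    rw [← Ideal.map_pow]
    exact Ideal.mem_map_of_mem _ (hcoeff α _ p.1.2)
  exact hAR _ hiii m hii

end main

section graded

variable {A : Type u} [CommRing A] {r : ℕ} (f : Fin r → A) (I : Ideal A)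
  (c k₀ : ℕ) (hcc' : c ≤ k₀ + c) (φ : Fin r → (↥(I ^ c) →ₗ[A] A))
  (Φ : ℕ → A → MvPolynomial (Fin r) A)
  (hadd : ∀ n : ℕ, ∀ g ∈ I ^ (n * (k₀ + c)), ∀ h ∈ I ^ (n * (k₀ + c)), Φ n (g + h) = Φ n g + Φ n h)
  (hmul : ∀ n m : ℕ, ∀ g ∈ I ^ (n * (k₀ + c)), ∀ h ∈ I ^ (m * (k₀ + c)),
    Φ (n + m) (g * h) = Φ n g * Φ m h)
  (h0 : ∀ a : A, Φ 0 a = MvPolynomial.C a)
  (h1 : ∀ (g : A) (hg : g ∈ I ^ (k₀ + c)), Φ 1 g =
    ∑ j, MvPolynomial.C (φ j ⟨g, Ideal.pow_le_pow_right hcc' hg⟩) * MvPolynomial.X j)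

theorem phi_mem (j : Fin r) (h : A) (hh : h ∈ I ^ (k₀ + c)) :
    φ j ⟨h, Ideal.pow_le_pow_right hcc' hh⟩ ∈ I ^ k₀ := by
  have hh' : h ∈ I ^ k₀ * I ^ c := by rwa [← pow_add]
  have hle : I ^ k₀ * I ^ c ≤ I ^ c := Ideal.mul_le_right
  suffices H : ∀ (h : A) (hh : h ∈ I ^ k₀ * I ^ c), φ j ⟨h, hle hh⟩ ∈ I ^ k₀ from H h hh'
  intro h hh
  induction hh using Submodule.mul_induction_on' with
  | mem_mul_mem a ha b hb =>
    have : (⟨a * b, hle (Submodule.mul_mem_mul ha hb)⟩ : ↥(I ^ c)) = a • ⟨b, hb⟩ := rfl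
    rw [this, map_smul, smul_eq_mul]
    exact Ideal.mul_mem_right _ _ ha
  | add x hx y hy ihx ihy =>
    have : (⟨x + y, hle (add_mem hx hy)⟩ : ↥(I ^ c)) = ⟨x, hle hx⟩ + ⟨y, hle hy⟩ := rfl
    rw [this, map_add]
    exact Ideal.add_mem _ ihx ihy

include hadd hmul h1 in
theorem coeff_mem (n : ℕ) (g : A) (hg : g ∈ I ^ ((n + 1) * (k₀ + c))) (α : Fin r →₀ ℕ) :
    MvPolynomial.coeff α (Φ (n + 1) g) ∈ I ^ k₀ := by
  suffices H : Φ (n + 1) g ∈ Ideal.map (MvPolynomial.C : A →+* MvPolynomial (Fin r) A) (I ^ k₀) from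
    MvPolynomial.mem_map_C_iff.1 H α
  have hpow : I ^ ((n + 1) * (k₀ + c)) = I ^ (n * (k₀ + c)) * I ^ (k₀ + c) := by
    rw [Nat.succ_mul, pow_add]
  have hg' : g ∈ I ^ (n * (k₀ + c)) * I ^ (k₀ + c) := by rwa [← hpow]
  clear hg
  induction hg' using Submodule.mul_induction_on' with
  | mem_mul_mem a ha b hb =>
    have hb' : b ∈ I ^ (1 * (k₀ + c)) := by rwa [one_mul]
    rw [hmul n 1 a ha b hb', h1 b hb]
    refine Ideal.mul_mem_left _ _ (Ideal.sum_mem _ (fun j _ => Ideal.mul_mem_right _ _ ?_))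
    exact Ideal.mem_map_of_mem _ (phi_mem I c k₀ hcc' φ j b hb)
  | add x hx y hy ihx ihy =>
    rw [hadd (n + 1) x (by rwa [hpow]) y (by rwa [hpow])]
    exact Ideal.add_mem _ ihx ihy

include hadd hmul h0 h1 in
theorem eval_eq (hφ : ∀ x : ↥(I ^ c), (x : A) = ∑ j, f j * φ j x) (n : ℕ) :
    ∀ g ∈ I ^ (n * (k₀ + c)), MvPolynomial.eval f (Φ n g) = g := by
  induction n with
  | zero =>
    intro g _
    rw [h0, MvPolynomial.eval_C]
  | succ n ih =>
    intro g hg
    have hpow : I ^ ((n + 1) * (k₀ + c)) = I ^ (n * (k₀ + c)) * I ^ (k₀ + c) := by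
      rw [Nat.succ_mul, pow_add]
    have hg' : g ∈ I ^ (n * (k₀ + c)) * I ^ (k₀ + c) := by rwa [← hpow]
    clear hg
    induction hg' using Submodule.mul_induction_on' with
    | mem_mul_mem a ha b hb =>
      have hb' : b ∈ I ^ (1 * (k₀ + c)) := by rwa [one_mul]
      rw [hmul n 1 a ha b hb', map_mul, ih a ha, h1 b hb, map_sum]
      congr 1
      have hb2 : b = ∑ j, f j * φ j ⟨b, Ideal.pow_le_pow_right hcc' hb⟩ :=
        hφ ⟨b, Ideal.pow_le_pow_right hcc' hb⟩
      refine Eq.trans ?_ hb2.symm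
      refine Finset.sum_congr rfl (fun j _ => ?_)
      rw [map_mul, MvPolynomial.eval_C, MvPolynomial.eval_X, mul_comm]
    | add x hx y hy ihx ihy =>
      rw [hadd (n + 1) x (by rwa [hpow]) y (by rwa [hpow]), map_add, ihx, ihy]

end graded

end Groth.Agent.Lib.GradedPolyMap9
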