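import Mathlib.Algebra.DirectSum.Decomposition
import Mathlib.Algebra.GradedMulAction
import Mathlib.RingTheory.GradedAlgebra.Basic
import Mathlib.RingTheory.GradedAlgebra.Homogeneous.Ideal
import Mathlib.Algebra.Module.Submodule.Pointwise
import Mathlib.RingTheory.Ideal.Operations

/-!
# Basic lemmas on ℕ-graded modules over ℕ-graded algebras

`ℳ : ℕ → Submodule R M` with `DirectSum.Decomposition ℳ` and `SetLike.GradedSMul 𝒜 ℳ`.
We define the degree-`d` projection `proj ℳ d : M →+ M`, and show that the degree-`d` part of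
`s • m` lies in an `S`-submodule `N` as soon as all `s_i • m_j` with `i + j = d` do.
-/

set_option autoImplicit false

namespace Groth.Agent.Lib.GradedProj

open DirectSum

variable {R S M : Type*} [CommRing R] [CommRing S] [Algebra R S]
  (𝒜 : ℕ → Submodule R S) [GradedAlgebra 𝒜]
  [AddCommGroup M] [Module R M] [Module S M]
  (ℳ : ℕ → Submodule R M) [DirectSum.Decomposition ℳ]

/-- Degree `d` component, as an additive endomorphism of `M`. -/
noncomputable def proj (d : ℕ) : M →+ M where
  toFun m := (DirectSum.decompose ℳ m d : M)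
  map_zero' := by simp
  map_add' x y := by simp

theorem proj_apply (d : ℕ) (m : M) : proj ℳ d m = (DirectSum.decompose ℳ m d : M) := rfl

theorem proj_mem (d : ℕ) (m : M) : proj ℳ d m ∈ ℳ d := (DirectSum.decompose ℳ m d).2

theorem proj_of_mem_same {d : ℕ} {m : M} (hm : m ∈ ℳ d) : proj ℳ d m = m :=
  DirectSum.decompose_of_mem_same ℳ hm

theorem proj_of_mem_ne {d e : ℕ} {m : M} (hm : m ∈ ℳ e) (hne : e ≠ d) : proj ℳ d m = 0 :=
  DirectSum.decompose_of_mem_ne ℳ hm hne

theorem sum_proj (m : M) : ∃ t : Finset ℕ, m = ∑ j ∈ t, proj ℳ j m := by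
  classical
  exact ⟨(DirectSum.decompose ℳ m).support, (DirectSum.sum_support_decompose ℳ m).symm⟩

theorem sum_projA (s : S) : ∃ t : Finset ℕ, s = ∑ i ∈ t, (DirectSum.decompose 𝒜 s i : S) := by
  classical
  exact ⟨(DirectSum.decompose 𝒜 s).support, (DirectSum.sum_support_decompose 𝒜 s).symm⟩

variable [SetLike.GradedSMul 𝒜 ℳ]

omit [GradedAlgebra 𝒜] [DirectSum.Decomposition ℳ] in
theorem smul_mem_add {i j : ℕ} {a : S} {m : M} (ha : a ∈ 𝒜 i) (hm : m ∈ ℳ j) :
    a • m ∈ ℳ (i + j) :=
  SetLike.GradedSMul.smul_mem ha hm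

/-- The degree-`d` part of `s • m` lies in `N` as soon as all `s_i • m_j`, `i + j = d`, do. -/
theorem proj_smul_mem (N : Submodule S M) (s : S) (m : M) (d : ℕ)
    (h : ∀ i j, i + j = d → (DirectSum.decompose 𝒜 s i : S) • proj ℳ j m ∈ N) :
    proj ℳ d (s • m) ∈ N := by
  obtain ⟨t, ht⟩ := sum_projA 𝒜 s
  obtain ⟨u, hu⟩ := sum_proj ℳ m
  have key : s • m = ∑ i ∈ t, ∑ j ∈ u, (DirectSum.decompose 𝒜 s i : S) • proj ℳ j m := by
    conv_lhs => rw [ht, hu]
    rw [Finset.sum_smul]
    refine Finset.sum_congr rfl fun i _ => ?_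
    rw [Finset.smul_sum]
  rw [key, map_sum]
  refine Submodule.sum_mem _ fun i _ => ?_
  rw [map_sum]
  refine Submodule.sum_mem _ fun j _ => ?_
  have hmem : (DirectSum.decompose 𝒜 s i : S) • proj ℳ j m ∈ ℳ (i + j) :=
    smul_mem_add 𝒜 ℳ (DirectSum.decompose 𝒜 s i).2 (proj_mem ℳ j m)
  by_cases hij : i + j = d
  · rw [← hij, proj_of_mem_same ℳ hmem]
    exact h i j hij
  · rw [proj_of_mem_ne ℳ hmem hij]
    exact N.zero_mem

include 𝒜 in
/-- The `S`-span of homogeneous elements is stable under the projections. -/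
theorem proj_mem_span {X : Set M} (hX : ∀ x ∈ X, SetLike.IsHomogeneousElem ℳ x)
    {m : M} (hm : m ∈ Submodule.span S X) (d : ℕ) :
    proj ℳ d m ∈ Submodule.span S X := by
  induction hm using Submodule.span_induction generalizing d with
  | mem x hx =>
    obtain ⟨e, he⟩ := hX x hx
    by_cases hed : e = d
    · rw [← hed, proj_of_mem_same ℳ he]
      exact Submodule.subset_span hx
    · rw [proj_of_mem_ne ℳ he hed]
      exact Submodule.zero_mem _
  | zero => rw [map_zero]; exact Submodule.zero_mem _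
  | add x y _ _ hx hy => rw [map_add]; exact Submodule.add_mem _ (hx d) (hy d)
  | smul a x _ hx =>
    exact proj_smul_mem 𝒜 ℳ _ a x d fun i j _ => Submodule.smul_mem _ _ (hx j)

end Groth.Agent.Lib.GradedProj
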