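/-
Lib/GradedQuotAdd (helper28): the quotient of a graded ring (grading by additive subgroups, any
`AddSubgroupClass`) by a homogeneous ideal, as a graded ring.  Port of helper3's `Lib/GradedQuot`
(`Submodule`-gradings) to the flavour used by `RelProj.QCGrAlg`.
`quotDeg 𝒜 I n` = image of `𝒜 n` in `A ⧸ I`; `gradedRing 𝒜 hI : GradedRing (quotDeg 𝒜 I)`
(reducible def, use `letI`); `mkGraded 𝒜 : 𝒜 →+*ᵍ quotDeg 𝒜 I`, surjective, kernel `I`.
-/
import Mathlib.RingTheory.GradedAlgebra.RingHom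
import Mathlib.RingTheory.GradedAlgebra.Homogeneous.Ideal
import Mathlib.RingTheory.Ideal.Quotient.Operations

set_option autoImplicit false
set_option linter.unusedSectionVars false
universe u
open DirectSum

namespace Groth.Agent.Lib.GradedQuotAdd

variable {A σ : Type u} [CommRing A] [SetLike σ A] [AddSubgroupClass σ A] (𝒜 : ℕ → σ)
  [GradedRing 𝒜] (I : Ideal A)

/-- The image grading on `A ⧸ I`. -/
def quotDeg (n : ℕ) : AddSubgroup (A ⧸ I) where
  carrier := {b | ∃ a ∈ 𝒜 n, Ideal.Quotient.mk I a = b}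
  zero_mem' := ⟨0, zero_mem _, map_zero _⟩
  add_mem' := by
    rintro _ _ ⟨a, ha, rfl⟩ ⟨b, hb, rfl⟩
    exact ⟨a + b, add_mem ha hb, map_add _ _ _⟩
  neg_mem' := by
    rintro _ ⟨a, ha, rfl⟩
    exact ⟨-a, neg_mem ha, map_neg _ _⟩

lemma mem_quotDeg {n : ℕ} {b : A ⧸ I} :
    b ∈ quotDeg 𝒜 I n ↔ ∃ a ∈ 𝒜 n, Ideal.Quotient.mk I a = b := Iff.rfl

lemma mk_mem_quotDeg {n : ℕ} {a : A} (ha : a ∈ 𝒜 n) :
    Ideal.Quotient.mk I a ∈ quotDeg 𝒜 I n :=
  ⟨a, ha, rfl⟩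

instance : SetLike.GradedMonoid (quotDeg 𝒜 I) where
  one_mem := ⟨1, SetLike.GradedOne.one_mem, map_one _⟩
  mul_mem := by
    intro i j x y hx hy
    obtain ⟨a, ha, rfl⟩ := hx
    obtain ⟨b, hb, rfl⟩ := hy
    exact ⟨a * b, SetLike.mul_mem_graded ha hb, map_mul _ _ _⟩

/-- The componentwise quotient map `A → ⨁ (A ⧸ I)_n`. -/
noncomputable def D : A →+ ⨁ n, quotDeg 𝒜 I n :=
  (DirectSum.map fun n =>
    ({ toFun := fun a => ⟨Ideal.Quotient.mk I (a : A), mk_mem_quotDeg 𝒜 I a.2⟩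
       map_zero' := by ext; simp
       map_add' := fun a b => by ext; simp } : 𝒜 n →+ quotDeg 𝒜 I n)).comp
    (DirectSum.decomposeAddEquiv 𝒜).toAddMonoidHom

lemma D_of_mem {n : ℕ} {a : A} (ha : a ∈ 𝒜 n) :
    D 𝒜 I a = DirectSum.of (fun n => quotDeg 𝒜 I n) n
      ⟨Ideal.Quotient.mk I a, mk_mem_quotDeg 𝒜 I ha⟩ := by
  unfold D
  rw [AddMonoidHom.comp_apply]
  change DirectSum.map _ (DirectSum.decompose 𝒜 a) = _
  rw [DirectSum.decompose_of_mem 𝒜 ha, DirectSum.map_of]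
  rfl

lemma coe_D (a : A) :
    DirectSum.coeAddMonoidHom (quotDeg 𝒜 I) (D 𝒜 I a) = Ideal.Quotient.mk I a := by
  induction a using DirectSum.Decomposition.inductionOn 𝒜 with
  | zero => simp
  | homogeneous a => rw [D_of_mem 𝒜 I a.2, DirectSum.coeAddMonoidHom_of]
  | add a b ha hb => rw [map_add, map_add, ha, hb, map_add]

variable {I}

lemma D_eq_zero_of_mem (hI : I.IsHomogeneous 𝒜) {a : A} (ha : a ∈ I) : D 𝒜 I a = 0 := by
  classical
  rw [← DirectSum.sum_support_decompose 𝒜 a, map_sum]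
  refine Finset.sum_eq_zero fun n _ => ?_
  rw [D_of_mem 𝒜 I (SetLike.coe_mem _)]
  have : Ideal.Quotient.mk I (DirectSum.decompose 𝒜 a n : A) = 0 :=
    Ideal.Quotient.eq_zero_iff_mem.2 (hI n ha)
  have h2 : (⟨Ideal.Quotient.mk I (DirectSum.decompose 𝒜 a n : A),
      mk_mem_quotDeg 𝒜 I (SetLike.coe_mem _)⟩ : quotDeg 𝒜 I n) = 0 := Subtype.ext this
  rw [h2, map_zero]

lemma exists_D_eq (x : ⨁ n, quotDeg 𝒜 I n) : ∃ a : A, D 𝒜 I a = x := by
  induction x using DirectSum.induction_on with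
  | zero => exact ⟨0, map_zero _⟩
  | of n b =>
    obtain ⟨b, hb⟩ := b
    obtain ⟨a, ha, rfl⟩ := hb
    exact ⟨a, D_of_mem 𝒜 I ha⟩
  | add x y hx hy =>
    obtain ⟨a, rfl⟩ := hx
    obtain ⟨b, rfl⟩ := hy
    exact ⟨a + b, map_add _ _ _⟩

lemma isInternal (hI : I.IsHomogeneous 𝒜) : DirectSum.IsInternal (quotDeg 𝒜 I) := by
  constructor
  · rw [injective_iff_map_eq_zero]
    intro x hx
    obtain ⟨a, rfl⟩ := exists_D_eq 𝒜 x
    rw [coe_D] at hx
    exact D_eq_zero_of_mem 𝒜 hI (Ideal.Quotient.eq_zero_iff_mem.1 hx)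
  · intro b
    obtain ⟨a, rfl⟩ := Ideal.Quotient.mk_surjective b
    exact ⟨D 𝒜 I a, coe_D 𝒜 I a⟩

/-- The graded ring structure on the quotient by a homogeneous ideal. -/
@[reducible] noncomputable def gradedRing (hI : I.IsHomogeneous 𝒜) :
    GradedRing (quotDeg 𝒜 I) :=
  { (inferInstance : SetLike.GradedMonoid (quotDeg 𝒜 I)) with
    toDecomposition := (isInternal 𝒜 hI).chooseDecomposition }

/-- The quotient map as a graded ring hom. -/
noncomputable def mkGraded : 𝒜 →+*ᵍ quotDeg 𝒜 I where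
  toRingHom := Ideal.Quotient.mk I
  map_mem := fun hx => mk_mem_quotDeg 𝒜 I hx

@[simp] lemma mkGraded_apply (a : A) : mkGraded 𝒜 (I := I) a = Ideal.Quotient.mk I a := rfl

lemma mkGraded_surjective : Function.Surjective (mkGraded 𝒜 (I := I)) :=
  Ideal.Quotient.mk_surjective

lemma mkGraded_eq_zero_iff {a : A} : mkGraded 𝒜 (I := I) a = 0 ↔ a ∈ I :=
  Ideal.Quotient.eq_zero_iff_mem

end Groth.Agent.Lib.GradedQuotAdd
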