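import Mathlib.RingTheory.GradedAlgebra.Basic
import Mathlib.RingTheory.Derivation.Basic
import Mathlib.RingTheory.Ideal.Maximal

/-!
# Slices of homogeneous derivations on positively graded algebras

`A` graded by an additive group `ι` with the positivity condition "`𝒜 w ≠ 0` and `𝒜 (-w) ≠ 0` imply `w = 0`".
Then the degree-zero projection `π₀` is multiplicative, and a homogeneous derivation of degree `d` with `𝒜 d = 0`
whose image together with the pieces of non-zero degree generates the unit ideal has a slice of degree `-d`.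
-/

set_option autoImplicit false

namespace Groth.Agent.Lib.GradedSlice

open DirectSum

variable {k : Type*} [CommRing k] {A : Type*} [CommRing A] [Algebra k A]
  {ι : Type*} [AddCommGroup ι] [DecidableEq ι] (𝒜 : ι → Submodule k A) [GradedAlgebra 𝒜]

/-- the degree-zero part -/
def π₀ (a : A) : A := (decompose 𝒜 a 0 : A)

theorem π₀_add (a b : A) : π₀ 𝒜 (a + b) = π₀ 𝒜 a + π₀ 𝒜 b := by
  unfold π₀
  rw [decompose_add, DirectSum.add_apply, Submodule.coe_add]

theorem π₀_zero : π₀ 𝒜 (0 : A) = 0 := by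
  unfold π₀
  rw [decompose_zero, DirectSum.zero_apply, Submodule.coe_zero]

theorem π₀_sub (a b : A) : π₀ 𝒜 (a - b) = π₀ 𝒜 a - π₀ 𝒜 b := by
  unfold π₀
  rw [decompose_sub, DirectSum.sub_apply, Submodule.coe_sub]

theorem π₀_mem (a : A) : π₀ 𝒜 a ∈ 𝒜 0 := (decompose 𝒜 a 0).2

theorem π₀_of_mem_zero {a : A} (ha : a ∈ 𝒜 0) : π₀ 𝒜 a = a := decompose_of_mem_same 𝒜 ha

theorem π₀_of_mem_ne {a : A} {w : ι} (hw : w ≠ 0) (ha : a ∈ 𝒜 w) : π₀ 𝒜 a = 0 :=
  decompose_of_mem_ne 𝒜 ha hw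

theorem π₀_one : π₀ 𝒜 (1 : A) = 1 := π₀_of_mem_zero 𝒜 (SetLike.GradedOne.one_mem)

theorem π₀_mul_of_mem_zero {a : A} (ha : a ∈ 𝒜 0) (b : A) : π₀ 𝒜 (a * b) = a * π₀ 𝒜 b :=
  coe_decompose_mul_of_left_mem_zero 𝒜 ha

/-- the ideal generated by the pieces of non-zero degree -/
def N : Ideal A := Ideal.span {x | ∃ w : ι, w ≠ 0 ∧ x ∈ 𝒜 w}

theorem sub_π₀_mem_N (b : A) : b - π₀ 𝒜 b ∈ N 𝒜 := by
  induction b using DirectSum.Decomposition.inductionOn 𝒜 with
  | zero => rw [π₀_zero, sub_zero]; exact Submodule.zero_mem _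
  | @homogeneous i m =>
    by_cases hi : i = 0
    · subst hi
      rw [π₀_of_mem_zero 𝒜 m.2, sub_self]
      exact Submodule.zero_mem _
    · rw [π₀_of_mem_ne 𝒜 hi m.2, sub_zero]
      exact Ideal.subset_span ⟨i, hi, m.2⟩
  | add m m' h h' =>
    rw [π₀_add]
    have : m + m' - (π₀ 𝒜 m + π₀ 𝒜 m') = (m - π₀ 𝒜 m) + (m' - π₀ 𝒜 m') := by ring
    rw [this]
    exact Submodule.add_mem _ h h'

section Positive

variable (hpos : ∀ w : ι, 𝒜 w ≠ ⊥ → 𝒜 (-w) ≠ ⊥ → w = 0)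

include hpos

theorem π₀_mul_of_mem {x : A} {w : ι} (hw : w ≠ 0) (hx : x ∈ 𝒜 w) (a : A) :
    π₀ 𝒜 (a * x) = 0 := by
  have h0 : (0 : ι) = -w + w := by rw [neg_add_cancel]
  unfold π₀
  rw [h0, coe_decompose_mul_add_of_right_mem 𝒜 hx]
  by_cases h1 : 𝒜 w = ⊥
  · rw [h1, Submodule.mem_bot] at hx
    rw [hx, mul_zero]
  · by_cases h2 : 𝒜 (-w) = ⊥
    · have h3 : ∀ y ∈ 𝒜 (-w), y = 0 := fun y hy => by
        rw [h2] at hy
        exact (Submodule.mem_bot k).mp hy
      rw [h3 _ (decompose 𝒜 a (-w)).2, zero_mul]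
    · exact absurd (hpos w h1 h2) hw

theorem π₀_mul_of_mem_N {z : A} (hz : z ∈ N 𝒜) (a : A) : π₀ 𝒜 (a * z) = 0 := by
  induction hz using Submodule.span_induction generalizing a with
  | mem x hx =>
    obtain ⟨w, hw, hxw⟩ := hx
    exact π₀_mul_of_mem 𝒜 hpos hw hxw a
  | zero => rw [mul_zero, π₀_zero]
  | add x y _ _ hx hy => rw [mul_add, π₀_add, hx, hy, add_zero]
  | smul c x _ hx =>
    rw [smul_eq_mul, ← mul_assoc]
    exact hx (a * c)

theorem π₀_of_mem_N {z : A} (hz : z ∈ N 𝒜) : π₀ 𝒜 z = 0 := by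
  have := π₀_mul_of_mem_N 𝒜 hpos hz 1
  rwa [one_mul] at this

theorem π₀_mul (a b : A) : π₀ 𝒜 (a * b) = π₀ 𝒜 a * π₀ 𝒜 b := by
  have h1 : a * b = π₀ 𝒜 a * b + b * (a - π₀ 𝒜 a) := by ring
  rw [h1, π₀_add, π₀_mul_of_mem_N 𝒜 hpos (sub_π₀_mem_N 𝒜 a), add_zero,
    π₀_mul_of_mem_zero 𝒜 (π₀_mem 𝒜 a)]

/-- A homogeneous derivation of degree `d` with `𝒜 d = 0` such that no maximal ideal contains the pieces of non-zero
degree and the image of the derivation has a homogeneous slice of degree `-d`. -/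
theorem exists_slice (D : Derivation k A A) (d : ι)
    (hhom : ∀ (w : ι) (a : A), a ∈ 𝒜 w → D a ∈ 𝒜 (w + d)) (hd : 𝒜 d = ⊥)
    (hfix : ∀ m : Ideal A, m.IsMaximal → (∀ w : ι, w ≠ 0 → (𝒜 w : Set A) ⊆ m) →
      ¬ (Set.range D ⊆ m)) :
    ∃ s ∈ 𝒜 (-d), D s = 1 := by
  -- `D` kills degree zero
  have hD0 : ∀ a ∈ 𝒜 0, D a = 0 := by
    intro a ha
    have := hhom 0 a ha
    rwa [zero_add, hd, Submodule.mem_bot] at this
  -- `π₀ (D c) = D (c_{-d})`
  have hπD : ∀ c : A, π₀ 𝒜 (D c) = D (decompose 𝒜 c (-d) : A) := by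
    intro c
    induction c using DirectSum.Decomposition.inductionOn 𝒜 with
    | zero => rw [map_zero, π₀_zero, decompose_zero, DirectSum.zero_apply, Submodule.coe_zero, map_zero]
    | @homogeneous i m =>
      by_cases hi : i = -d
      · subst hi
        rw [decompose_of_mem_same 𝒜 m.2]
        apply π₀_of_mem_zero
        have := hhom (-d) m m.2
        rwa [neg_add_cancel] at this
      · rw [decompose_of_mem_ne 𝒜 m.2 hi, map_zero]
        apply π₀_of_mem_ne 𝒜 _ (hhom i m m.2)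
        intro h
        exact hi (eq_neg_of_add_eq_zero_left h)
    | add m m' h h' =>
      rw [map_add, π₀_add, h, h', decompose_add, DirectSum.add_apply, Submodule.coe_add, map_add]
  -- the unit ideal
  have htop : N 𝒜 ⊔ Ideal.span (Set.range D) = ⊤ := by
    by_contra hne
    obtain ⟨m, hm, hle⟩ := Ideal.exists_le_maximal _ hne
    refine hfix m hm (fun w hw x hx => ?_) (fun y hy => ?_)
    · exact hle (Submodule.mem_sup_left (Ideal.subset_span ⟨w, hw, hx⟩))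
    · exact hle (Submodule.mem_sup_right (Ideal.subset_span hy))
  have h1 : (1 : A) ∈ N 𝒜 ⊔ Ideal.span (Set.range D) := by rw [htop]; exact Submodule.mem_top
  -- every `π₀ (a * z)`, `z` in the ideal generated by the image of `D`, is `D` of an element of degree `-d`
  have key : ∀ z ∈ Ideal.span (Set.range D), ∀ a : A, ∃ s ∈ 𝒜 (-d), D s = π₀ 𝒜 (a * z) := by
    intro z hz
    induction hz using Submodule.span_induction with
    | mem x hx =>
      obtain ⟨c, rfl⟩ := hx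
      intro a
      refine ⟨π₀ 𝒜 a * (decompose 𝒜 c (-d) : A), ?_, ?_⟩
      · have := SetLike.GradedMul.mul_mem (π₀_mem 𝒜 a) (decompose 𝒜 c (-d)).2
        rwa [zero_add] at this
      · rw [Derivation.leibniz, hD0 _ (π₀_mem 𝒜 a), smul_zero, add_zero, smul_eq_mul,
          π₀_mul 𝒜 hpos, hπD]
    | zero =>
      intro a
      exact ⟨0, Submodule.zero_mem _, by rw [map_zero, mul_zero, π₀_zero]⟩
    | add x y _ _ hx hy =>
      intro a
      obtain ⟨s, hs, hs'⟩ := hx a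
      obtain ⟨s', hs'1, hs'2⟩ := hy a
      exact ⟨s + s', Submodule.add_mem _ hs hs'1, by rw [map_add, hs', hs'2, mul_add, π₀_add]⟩
    | smul c x _ hx =>
      intro a
      obtain ⟨s, hs, hs'⟩ := hx (a * c)
      exact ⟨s, hs, by rw [hs', smul_eq_mul, mul_assoc]⟩
  obtain ⟨n, hn, z, hz, hnz⟩ := Submodule.mem_sup.mp h1
  obtain ⟨s, hs, hs'⟩ := key z hz 1
  refine ⟨s, hs, ?_⟩
  rw [hs', one_mul]
  have : z = 1 - n := by rw [← hnz]; ring
  rw [this, π₀_sub, π₀_one, π₀_of_mem_N 𝒜 hpos hn, sub_zero]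

end Positive

end Groth.Agent.Lib.GradedSlice
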