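import Mathlib

/-!
# Unique factorization in a graded domain from its homogeneous localization at a prime of degree one

For an `ℕ`-graded domain `R` and a nonzero `s ∈ R₁`, the localization `R[1/s]` is the localization of the
polynomial ring `R_(s)[T]` at `T` (via `T ↦ s`).  Together with Nagata's criterion this shows that `R` is a UFD
as soon as `s` is prime and `R_(s)` is a UFD.
-/

set_option autoImplicit false
universe u v
open Polynomial

noncomputable section

namespace Groth.Agent.Lib.GradedUFD

variable {K : Type u} [Field K] {R : Type v} [CommRing R] [IsDomain R] [Algebra K R]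
  (𝒜 : ℕ → Submodule K R) [GradedAlgebra 𝒜] {s : R}

lemma mk_mul_pow (x : R) (n N : ℕ) (h : n ≤ N) :
    (Localization.mk x (⟨s ^ n, n, rfl⟩ : Submonoid.powers s) : Localization.Away s) *
      (algebraMap R (Localization.Away s) s) ^ N =
        algebraMap R (Localization.Away s) (x * s ^ (N - n)) := by
  have hN : N = n + (N - n) := by omega
  conv_lhs => rw [hN, pow_add, ← mul_assoc, ← map_pow, ← map_pow]
  rw [Localization.mk_eq_mk', map_mul]
  congr 1
  exact IsLocalization.mk'_spec (Localization.Away s) x (⟨s ^ n, n, rfl⟩ : Submonoid.powers s)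

/-- The map `R_(s)[T] → R[1/s]`, `T ↦ s`. -/
def phi : (HomogeneousLocalization.Away 𝒜 s)[X] →+* Localization.Away s :=
  Polynomial.eval₂RingHom (algebraMap (HomogeneousLocalization.Away 𝒜 s) (Localization.Away s))
    (algebraMap R (Localization.Away s) s)

lemma phi_C_mul_X_pow (a : HomogeneousLocalization.Away 𝒜 s) (i : ℕ) :
    phi 𝒜 (C a * X ^ i) = a.val * (algebraMap R (Localization.Away s) s) ^ i := by
  unfold phi
  rw [Polynomial.coe_eval₂RingHom, Polynomial.eval₂_mul, Polynomial.eval₂_C, Polynomial.eval₂_pow,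
    Polynomial.eval₂_X, HomogeneousLocalization.algebraMap_apply]

lemma phi_X : phi 𝒜 (X : (HomogeneousLocalization.Away 𝒜 s)[X]) = algebraMap R (Localization.Away s) s := by
  unfold phi
  rw [Polynomial.coe_eval₂RingHom, Polynomial.eval₂_X]

lemma algebraMap_mem_range (hs : s ∈ 𝒜 1) (r : R) :
    algebraMap R (Localization.Away s) r ∈ (phi 𝒜 (s := s)).range := by
  classical
  refine DirectSum.Decomposition.inductionOn 𝒜 ?_ ?_ ?_ r
  · rw [map_zero]; exact Subring.zero_mem _
  · intro i m
    have hm : (m : R) ∈ 𝒜 (i • 1) := by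
      rw [smul_eq_mul, mul_one]; exact m.2
    refine ⟨C (HomogeneousLocalization.Away.mk 𝒜 hs i m hm) * X ^ i, ?_⟩
    rw [phi_C_mul_X_pow, HomogeneousLocalization.Away.val_mk, mk_mul_pow _ i i le_rfl, Nat.sub_self,
      pow_zero, mul_one]
  · intro m m' hm hm'
    rw [map_add]
    exact Subring.add_mem _ hm hm'

lemma phi_injective (hs : s ∈ 𝒜 1) (hs0 : s ≠ 0) : Function.Injective (phi 𝒜 (s := s)) := by
  classical
  rw [injective_iff_map_eq_zero]
  intro p hp0
  have hex : ∀ j, ∃ n x hx, HomogeneousLocalization.Away.mk 𝒜 hs n x hx = p.coeff j :=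
    fun j => HomogeneousLocalization.Away.mk_surjective 𝒜 hs (p.coeff j)
  choose nn xx hxx hmk using hex
  set N := p.support.sup nn with hN
  set S := algebraMap R (Localization.Away s) s with hS
  have hphi : phi 𝒜 p = ∑ j ∈ p.support, (p.coeff j).val * S ^ j := by
    unfold phi
    rw [Polynomial.coe_eval₂RingHom, Polynomial.eval₂_eq_sum, Polynomial.sum]
    refine Finset.sum_congr rfl fun j _ => ?_
    rw [HomogeneousLocalization.algebraMap_apply]
  set y : ℕ → R := fun j => xx j * s ^ (N - nn j) * s ^ j with hy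
  have hterm : ∀ j ∈ p.support, (p.coeff j).val * S ^ j * S ^ N =
      algebraMap R (Localization.Away s) (y j) := by
    intro j hj
    have hle : nn j ≤ N := Finset.le_sup (f := nn) hj
    rw [← hmk j, HomogeneousLocalization.Away.val_mk, mul_right_comm, mk_mul_pow _ _ _ hle]
    show _ = algebraMap R (Localization.Away s) (xx j * s ^ (N - nn j) * s ^ j)
    rw [map_mul (algebraMap R (Localization.Away s)) _ (s ^ j), map_pow]
  have hsum : algebraMap R (Localization.Away s) (∑ j ∈ p.support, y j) = 0 := by
    rw [map_sum, ← Finset.sum_congr rfl hterm, ← Finset.sum_mul, ← hphi, hp0, zero_mul]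
  have hinj : Function.Injective (algebraMap R (Localization.Away s)) :=
    IsLocalization.injective (Localization.Away s)
      (powers_le_nonZeroDivisors_of_noZeroDivisors hs0)
  have hsum0 : ∑ j ∈ p.support, y j = 0 := hinj (by rw [hsum, map_zero])
  have hydeg : ∀ j ∈ p.support, y j ∈ 𝒜 (N + j) := by
    intro j hj
    have hle : nn j ≤ N := Finset.le_sup (f := nn) hj
    have h1 : xx j ∈ 𝒜 (nn j • 1) := hxx j
    have h2 : s ^ (N - nn j) ∈ 𝒜 ((N - nn j) • 1) := SetLike.pow_mem_graded _ hs
    have h3 : s ^ j ∈ 𝒜 (j • 1) := SetLike.pow_mem_graded _ hs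
    have h4 := SetLike.mul_mem_graded (SetLike.mul_mem_graded h1 h2) h3
    have e : nn j • 1 + (N - nn j) • 1 + j • 1 = N + j := by
      simp only [smul_eq_mul, mul_one]; omega
    rw [e] at h4
    exact h4
  by_contra hpne
  obtain ⟨j₀, hj₀⟩ : p.support.Nonempty := by
    rw [Finset.nonempty_iff_ne_empty, Ne, Polynomial.support_eq_empty]; exact hpne
  have hy0 : y j₀ = 0 := by
    have h1 := congrArg (fun r => ((DirectSum.decompose 𝒜 r) (N + j₀) : R)) hsum0
    simp only [DirectSum.decompose_sum, DirectSum.decompose_zero] at h1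
    rw [DFinsupp.finsetSum_apply, AddSubmonoidClass.coe_finsetSum, Finset.sum_eq_single j₀] at h1
    · rw [DirectSum.decompose_of_mem_same 𝒜 (hydeg j₀ hj₀)] at h1
      simpa using h1
    · intro j hj hne
      exact DirectSum.decompose_of_mem_ne 𝒜 (hydeg j hj) (by omega)
    · intro h; exact absurd hj₀ h
  have hx0 : xx j₀ = 0 := by
    rw [hy] at hy0
    simp only at hy0
    rcases mul_eq_zero.1 hy0 with h | h
    · rcases mul_eq_zero.1 h with h' | h'
      · exact h'
      · exact absurd h' (pow_ne_zero _ hs0)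
    · exact absurd h (pow_ne_zero _ hs0)
  have hc0 : p.coeff j₀ = 0 := by
    rw [← hmk j₀]
    apply HomogeneousLocalization.val_injective
    rw [HomogeneousLocalization.Away.val_mk, HomogeneousLocalization.val_zero]
    simp only [hx0]
    exact Localization.mk_zero _
  exact (Polynomial.mem_support_iff.1 hj₀) hc0

/-- `R[1/s]` is the localization of `R_(s)[T]` at `T`. -/
lemma isLocalization_phi (hs : s ∈ 𝒜 1) (hs0 : s ≠ 0) :
    @IsLocalization.Away _ _ (X : (HomogeneousLocalization.Away 𝒜 s)[X]) (Localization.Away s) _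
      (phi 𝒜 (s := s)).toAlgebra := by
  letI := (phi 𝒜 (s := s)).toAlgebra
  have halg : ∀ q, algebraMap (HomogeneousLocalization.Away 𝒜 s)[X] (Localization.Away s) q =
      phi 𝒜 q := fun q => rfl
  refine ⟨?_, ?_, ?_⟩
  · rintro ⟨_, k, rfl⟩
    rw [halg, map_pow, phi_X]
    exact (IsLocalization.Away.algebraMap_isUnit s).pow k
  · intro z
    obtain ⟨⟨r, ⟨_, k, rfl⟩⟩, rfl⟩ := IsLocalization.mk'_surjective (Submonoid.powers s) z
    obtain ⟨q, hq⟩ := algebraMap_mem_range 𝒜 hs r
    refine ⟨(q, ⟨X ^ k, k, rfl⟩), ?_⟩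
    show IsLocalization.mk' (Localization.Away s) r (⟨s ^ k, k, rfl⟩ : Submonoid.powers s) *
      algebraMap (HomogeneousLocalization.Away 𝒜 s)[X] (Localization.Away s) (X ^ k) =
        algebraMap (HomogeneousLocalization.Away 𝒜 s)[X] (Localization.Away s) q
    rw [halg, halg, map_pow, phi_X, hq, ← map_pow]
    exact IsLocalization.mk'_spec (Localization.Away s) r (⟨s ^ k, k, rfl⟩ : Submonoid.powers s)
  · intro a b hab
    refine ⟨1, ?_⟩
    rw [halg, halg] at hab
    rw [phi_injective 𝒜 hs hs0 hab]

/-- Unique factorization lifts from the homogeneous localization at a prime element of degree one. -/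
theorem ufd_of_away [IsNoetherianRing R] (hs : s ∈ 𝒜 1) (hp : Prime s)
    (h : UniqueFactorizationMonoid (HomogeneousLocalization.Away 𝒜 s)) :
    UniqueFactorizationMonoid R := by
  rw [UniqueFactorizationMonoid.iff_localizationAway_of_prime hp]
  haveI : IsDomain (Localization.Away s) :=
    IsLocalization.isDomain_localization (powers_le_nonZeroDivisors_of_noZeroDivisors hp.ne_zero)
  haveI : IsDomain (HomogeneousLocalization.Away 𝒜 s) :=
    Function.Injective.isDomain (algebraMap (HomogeneousLocalization.Away 𝒜 s) (Localization.Away s))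
      (fun a b hab => HomogeneousLocalization.val_injective _ (by
        rwa [HomogeneousLocalization.algebraMap_apply, HomogeneousLocalization.algebraMap_apply] at hab))
  letI := (phi 𝒜 (s := s)).toAlgebra
  haveI := isLocalization_phi 𝒜 hs hp.ne_zero
  exact UniqueFactorizationMonoid.of_isLocalization
    (Submonoid.powers (X : (HomogeneousLocalization.Away 𝒜 s)[X])) (Localization.Away s)

end Groth.Agent.Lib.GradedUFD
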