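import Mathlib

/-!
# ℤ-graded rings whose positive part is generated by finitely many homogeneous elements (helper50)

Main result `eq_mul`: `𝒜 N = 𝒜 d * 𝒜 (N - d)` for `N > d p - ∑ dᵢ` (EGA II 2.1.6 (ii) type statement
for ℤ-gradings).
-/

set_option autoImplicit false
universe u

namespace Groth.Agent.Lib.GradedZ50

open DirectSum

variable {R A : Type u} [CommRing R] [CommRing A] [Algebra R A]
  (𝒜 : ℤ → Submodule R A) [GradedAlgebra 𝒜]

lemma mul_le (i j : ℤ) : 𝒜 i * 𝒜 j ≤ 𝒜 (i + j) := by
  rw [Submodule.mul_le]
  intro a ha b hb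
  exact SetLike.mul_mem_graded ha hb

variable {p : ℕ} (f : Fin p → A) (deg : Fin p → ℤ)

lemma prod_pow_mem (hf : ∀ i, f i ∈ 𝒜 (deg i)) (α : Fin p → ℕ) (s : Finset (Fin p)) :
    ∏ j ∈ s, f j ^ α j ∈ 𝒜 (∑ j ∈ s, (α j : ℤ) * deg j) := by
  classical
  induction s using Finset.induction_on with
  | empty => simpa using SetLike.one_mem_graded 𝒜
  | insert a s ha ih =>
    rw [Finset.prod_insert ha, Finset.sum_insert ha]
    refine SetLike.mul_mem_graded ?_ ih
    have := SetLike.pow_mem_graded (A := 𝒜) (α a) (hf a)
    rwa [nsmul_eq_mul] at this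

/-- the span of the elements `b * f^α` of degree `N` with `b` homogeneous of degree `≤ 0`. -/
def W (N : ℤ) : Submodule R A :=
  Submodule.span R {x | ∃ (m : ℤ) (b : A) (α : Fin p → ℕ), b ∈ 𝒜 m ∧ m ≤ 0 ∧
    m + ∑ i, (α i : ℤ) * deg i = N ∧ x = b * ∏ i, f i ^ α i}

omit [GradedAlgebra 𝒜] in
lemma W_mul (N : ℤ) (i : Fin p) (x : A) (hx : x ∈ W 𝒜 f deg N) :
    x * f i ∈ W 𝒜 f deg (N + deg i) := by
  classical
  unfold W at hx ⊢
  induction hx using Submodule.span_induction with
  | mem x hx =>
    obtain ⟨m, b, α, hb, hm, hN, rfl⟩ := hx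
    apply Submodule.subset_span
    refine ⟨m, b, Function.update α i (α i + 1), hb, hm, ?_, ?_⟩
    · rw [← hN]
      have : ∑ j, ((Function.update α i (α i + 1) j : ℕ) : ℤ) * deg j =
          ∑ j, (α j : ℤ) * deg j + deg i := by
        rw [← Finset.add_sum_erase _ _ (Finset.mem_univ i),
          ← Finset.add_sum_erase (f := fun j => (α j : ℤ) * deg j) _ (Finset.mem_univ i)]
        rw [Function.update_self]
        have : ∑ j ∈ Finset.univ.erase i, ((Function.update α i (α i + 1) j : ℕ) : ℤ) * deg j =
            ∑ j ∈ Finset.univ.erase i, (α j : ℤ) * deg j := by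
          refine Finset.sum_congr rfl (fun j hj => ?_)
          rw [Function.update_of_ne (Finset.ne_of_mem_erase hj)]
        rw [this]; push_cast; ring
      rw [this]; ring
    · have : ∏ j, f j ^ (Function.update α i (α i + 1) j) = (∏ j, f j ^ α j) * f i := by
        rw [← Finset.mul_prod_erase _ _ (Finset.mem_univ i),
          ← Finset.mul_prod_erase (f := fun j => f j ^ α j) _ (Finset.mem_univ i)]
        rw [Function.update_self]
        have : ∏ j ∈ Finset.univ.erase i, f j ^ (Function.update α i (α i + 1) j) =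
            ∏ j ∈ Finset.univ.erase i, f j ^ α j := by
          refine Finset.prod_congr rfl (fun j hj => ?_)
          rw [Function.update_of_ne (Finset.ne_of_mem_erase hj)]
        rw [this, pow_succ]; ring
      rw [this]; ring
  | zero => simp
  | add x y _ _ hx hy => rw [add_mul]; exact Submodule.add_mem _ hx hy
  | smul r x _ hx => rw [smul_mul_assoc]; exact Submodule.smul_mem _ _ hx

/-- every homogeneous element of degree `N` is a combination of monomials in the `f i` with
coefficients of degree `≤ 0`. -/
lemma le_W (hdeg : ∀ i, 0 < deg i) (hf : ∀ i, f i ∈ 𝒜 (deg i))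
    (hgen : Ideal.span {a : A | ∃ n : ℤ, 0 < n ∧ a ∈ 𝒜 n} = Ideal.span (Set.range f)) :
    ∀ (n : ℕ) (N : ℤ), N ≤ n → 𝒜 N ≤ W 𝒜 f deg N := by
  intro n
  induction n with
  | zero =>
    intro N hN a ha
    apply Submodule.subset_span
    exact ⟨N, a, 0, ha, by simpa using hN, by simp, by simp⟩
  | succ n ih =>
    intro N hN a ha
    by_cases hN0 : N ≤ 0
    · apply Submodule.subset_span
      exact ⟨N, a, 0, ha, hN0, by simp, by simp⟩
    · push Not at hN0
      have haI : a ∈ Ideal.span (Set.range f) := by
        rw [← hgen]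
        exact Ideal.subset_span ⟨N, hN0, ha⟩
      rw [Ideal.mem_span_range_iff_exists_fun] at haI
      obtain ⟨g, hg⟩ := haI
      have h1 : a = ∑ i, (decompose 𝒜 (g i) (N - deg i) : A) * f i := by
        have h2 : (decompose 𝒜 a N : A) = a := decompose_of_mem_same 𝒜 ha
        rw [← h2, ← hg, decompose_sum, DFinsupp.finsetSum_apply, AddSubmonoidClass.coe_finsetSum]
        refine Finset.sum_congr rfl (fun i _ => ?_)
        have := coe_decompose_mul_add_of_right_mem 𝒜 (i := N - deg i) (a := g i) (hf i)
        rwa [sub_add_cancel] at this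
      rw [h1]
      refine Submodule.sum_mem _ (fun i _ => ?_)
      have h3 : (decompose 𝒜 (g i) (N - deg i) : A) ∈ W 𝒜 f deg (N - deg i) := by
        apply ih (N - deg i) (by have := hdeg i; push_cast at hN; omega)
        exact SetLike.coe_mem _
      have := W_mul 𝒜 f deg (N - deg i) i _ h3
      rwa [sub_add_cancel] at this

/-- the main statement. -/
theorem eq_mul (hdeg : ∀ i, 0 < deg i) (hf : ∀ i, f i ∈ 𝒜 (deg i))
    (hgen : Ideal.span {a : A | ∃ n : ℤ, 0 < n ∧ a ∈ 𝒜 n} = Ideal.span (Set.range f))
    (d : ℤ) (hd : 0 < d) (hdvd : ∀ i, deg i ∣ d) (N : ℤ) (hN : d * p - ∑ i, deg i < N) :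
    𝒜 N = 𝒜 d * 𝒜 (N - d) := by
  classical
  refine le_antisymm ?_ ?_
  · intro a ha
    have haW := le_W 𝒜 f deg hdeg hf hgen N.toNat N (Int.self_le_toNat N) ha
    unfold W at haW
    clear ha
    induction haW using Submodule.span_induction with
    | mem x hx =>
      obtain ⟨m, b, α, hb, hm, hN', rfl⟩ := hx
      choose e he using hdvd
      -- some exponent is large
      have hex : ∃ i, e i ≤ (α i : ℤ) := by
        by_contra hcon
        push Not at hcon
        have hle : ∑ i, (α i : ℤ) * deg i ≤ ∑ i, (d - deg i) := by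
          refine Finset.sum_le_sum (fun i _ => ?_)
          have h1 : (α i : ℤ) + 1 ≤ e i := hcon i
          have h2 := hdeg i
          calc (α i : ℤ) * deg i ≤ (e i - 1) * deg i :=
                mul_le_mul_of_nonneg_right (by omega) h2.le
            _ = d - deg i := by rw [he i]; ring
        rw [Finset.sum_sub_distrib, Finset.sum_const, Finset.card_univ, Fintype.card_fin,
          nsmul_eq_mul] at hle
        have : (p : ℤ) * d = d * p := mul_comm _ _
        omega
      obtain ⟨i, hi⟩ := hex
      have hei : 0 ≤ e i := by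
        have h2 := hdeg i
        have h3 := he i
        by_contra hneg
        push Not at hneg
        have : deg i * e i < 0 := mul_neg_of_pos_of_neg h2 hneg
        omega
      obtain ⟨ei, hei'⟩ := Int.eq_ofNat_of_zero_le hei
      have hαi : ei ≤ α i := by rw [hei'] at hi; exact_mod_cast hi
      -- split the monomial
      have hsplit : b * ∏ j, f j ^ α j =
          f i ^ ei * (b * (f i ^ (α i - ei) * ∏ j ∈ Finset.univ.erase i, f j ^ α j)) := by
        rw [← Finset.mul_prod_erase (f := fun j => f j ^ α j) _ (Finset.mem_univ i)]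
        have : f i ^ α i = f i ^ ei * f i ^ (α i - ei) := by
          rw [← pow_add]; congr 1; omega
        rw [this]; ring
      rw [hsplit]
      apply Submodule.mul_mem_mul
      · have := SetLike.pow_mem_graded (A := 𝒜) ei (hf i)
        rw [nsmul_eq_mul, ← hei', mul_comm, ← he i] at this
        exact this
      · have h1 := SetLike.pow_mem_graded (A := 𝒜) (α i - ei) (hf i)
        have h2 := prod_pow_mem 𝒜 f deg hf α (Finset.univ.erase i)
        have h3 := SetLike.mul_mem_graded hb (SetLike.mul_mem_graded h1 h2)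
        convert h3 using 2
        rw [← hN', ← Finset.add_sum_erase (f := fun j => (α j : ℤ) * deg j) _ (Finset.mem_univ i),
          nsmul_eq_mul, he i, hei']
        push_cast [hαi]
        ring
    | zero => exact Submodule.zero_mem _
    | add x y _ _ hx hy => exact Submodule.add_mem _ hx hy
    | smul r x _ hx => exact Submodule.smul_mem _ _ hx
  · have := mul_le 𝒜 d (N - d)
    rwa [add_sub_cancel] at this

end Groth.Agent.Lib.GradedZ50
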