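/-
`GrassClosed27` (helper27): affine bookkeeping over `Spec R` for functors given on `CommAlgCat R`:
`SA R A` (`Spec A` over `Spec R`), `exists_iso_SA` (every affine `Spec R`-scheme is some `SA A`),
`exists_algHom_of_hom` (morphisms `SA C ⟶ SA A` are `Spec` of algebra maps), `idealSheaf A I` and
`idealSheaf_le_ker_iff`.
-/
import Mathlib
import Groth.Agent.Lib.ClosedCond27

set_option autoImplicit false
universe u
open CategoryTheory CategoryTheory.Limits AlgebraicGeometry

namespace Groth.Agent.Lib.GrassClosed27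

variable (R : Type u) [CommRing R]

/-- `Spec A` as an object over `Spec R`. -/
noncomputable abbrev SA (A : CommAlgCat.{u} R) : Over (Spec (CommRingCat.of R)) :=
  Over.mk (Spec.map (CommRingCat.ofHom (algebraMap R A)))

/-- G1: every affine scheme over `Spec R` is some `SA A`. -/
theorem exists_iso_SA (T : Over (Spec (CommRingCat.of R))) [IsAffine T.left] :
    ∃ (A : CommAlgCat.{u} R), Nonempty (SA R A ≅ T) := by
  let ρ : R →+* Γ(T.left, ⊤) :=
    (T.hom.appTop.hom).comp (Scheme.ΓSpecIso (CommRingCat.of R)).inv.hom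
  let : Algebra R Γ(T.left, ⊤) := ρ.toAlgebra
  refine ⟨CommAlgCat.of R Γ(T.left, ⊤), ⟨Over.isoMk T.left.isoSpec.symm ?_⟩⟩
  change T.left.isoSpec.inv ≫ T.hom = Spec.map (CommRingCat.ofHom ρ)
  rw [← Scheme.isoSpec_inv_naturality, Scheme.isoSpec_Spec_inv, ← Spec.map_comp]
  rfl

variable {R}

/-- G2: morphisms `SA C ⟶ SA A` come from algebra maps. -/
theorem exists_algHom_of_hom {A C : CommAlgCat.{u} R} (a : SA R C ⟶ SA R A) :
    ∃ φ : A ⟶ C, a.left = Spec.map (CommRingCat.ofHom φ.hom.toRingHom) := by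
  have hw : a.left ≫ Spec.map (CommRingCat.ofHom (algebraMap R A)) =
      Spec.map (CommRingCat.ofHom (algebraMap R C)) := Over.w a
  obtain ⟨ψ, hψ⟩ : ∃ ψ : CommRingCat.of A ⟶ CommRingCat.of C, Spec.map ψ = a.left :=
    ⟨_, Spec.map_preimage _⟩
  rw [← hψ, ← Spec.map_comp, Spec.map_injective.eq_iff] at hw
  have hcomm : ∀ r : R, ψ.hom (algebraMap R A r) = algebraMap R C r := fun r => by
    have := congrArg (fun k => k.hom r) hw
    exact this
  refine ⟨CommAlgCat.ofHom ⟨ψ.hom, hcomm⟩, ?_⟩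
  rw [← hψ]
  rfl

/-- the ideal sheaf on `Spec A` attached to an ideal of `A`. -/
noncomputable def idealSheaf (A : CommAlgCat.{u} R) (I : Ideal A) :
    (Spec (CommRingCat.of A)).IdealSheafData :=
  Scheme.IdealSheafData.ofIdealTop (I.comap (Scheme.ΓSpecIso (CommRingCat.of A)).hom.hom)

/-- G3 -/
theorem idealSheaf_le_ker_iff {A C : CommAlgCat.{u} R} (φ : A ⟶ C) (I : Ideal A) :
    idealSheaf A I ≤ (Spec.map (CommRingCat.ofHom φ.hom.toRingHom)).ker ↔
      I ≤ RingHom.ker φ.hom.toRingHom := by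
  rw [Groth.Agent.Lib.ClosedCond27.le_ker_iff_of_isAffine]
  have hnat := Scheme.ΓSpecIso_naturality (CommRingCat.ofHom φ.hom.toRingHom)
  have hnat' : ∀ y, (Scheme.ΓSpecIso (CommRingCat.of C)).hom.hom
      ((Spec.map (CommRingCat.ofHom φ.hom.toRingHom)).appTop.hom y) =
      φ.hom.toRingHom ((Scheme.ΓSpecIso (CommRingCat.of A)).hom.hom y) := fun y => by
    have := congrArg (fun k => k.hom y) hnat
    exact this
  have hinj : Function.Injective (Scheme.ΓSpecIso (CommRingCat.of C)).hom.hom :=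
    (ConcreteCategory.bijective_of_isIso (Scheme.ΓSpecIso (CommRingCat.of C)).hom).1
  have hsurj : Function.Surjective (Scheme.ΓSpecIso (CommRingCat.of A)).hom.hom :=
    (ConcreteCategory.bijective_of_isIso (Scheme.ΓSpecIso (CommRingCat.of A)).hom).2
  have hid : (idealSheaf A I).ideal ⟨⊤, isAffineOpen_top _⟩ =
      I.comap (Scheme.ΓSpecIso (CommRingCat.of A)).hom.hom := by
    simp [idealSheaf]
  rw [hid]
  constructor
  · intro h x hx
    obtain ⟨y, rfl⟩ := hsurj x
    have := h (show y ∈ I.comap _ from hx)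
    rw [RingHom.mem_ker] at this ⊢
    rw [← hnat', this, map_zero]
  · intro h y hy
    have := h (show _ ∈ I from hy)
    rw [RingHom.mem_ker] at this ⊢
    apply hinj
    rw [hnat', this, map_zero]

end Groth.Agent.Lib.GrassClosed27
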