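/-
`GrassCondClosed27` (helper27): closed conditions on a scheme `X` representing the Grassmannian functor on
affine `R`-schemes. If a condition `Cond` on points of `G(k, A ⊗ M; A)` is cut out by an ideal after every
base change (`hCond`), then it is cut out by an ideal sheaf on `X` (`exists_idealSheaf`).
Generalises the helper section of `Groth.Agent.S14853`.
-/
import Mathlib
import Groth.Agent.Lib.GrassClosed27
import Groth.Agent.Lib.AffYoneda27
import Groth.Agent.Lib.ClosedCond27f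

set_option autoImplicit false
universe u
open scoped TensorProduct
open AlgebraicGeometry CategoryTheory Groth.Agent.Lib.GrassClosed27 Groth.Agent.Lib.AffYoneda27

namespace Groth.Agent.Lib.GrassCondClosed27


variable {R : Type u} [CommRing R] {M : Type u} [AddCommGroup M] [Module R M] {k : ℕ}
  {X : Over (Spec (CommRingCat.of R))}
  (eX : ∀ A : CommAlgCat.{u} R,
    ((SA R A) ⟶ X) ≃ (Module.Grassmannian.functor (R := R) (M := M) k).obj A)
  (heX : ∀ (A C : CommAlgCat.{u} R) (φ : A ⟶ C) (g : SA R A ⟶ X) (g' : SA R C ⟶ X),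
      g'.left = Spec.map (CommRingCat.ofHom φ.hom.toRingHom) ≫ g.left →
        eX C g' = (Module.Grassmannian.functor (R := R) (M := M) k).map φ (eX A g))
  (Cond : ∀ A : CommAlgCat.{u} R, (Module.Grassmannian.functor (R := R) (M := M) k).obj A → Prop)
  (hCond : ∀ (A : CommAlgCat.{u} R) (N : (Module.Grassmannian.functor (R := R) (M := M) k).obj A),
    ∃ I : Ideal A, ∀ (C : CommAlgCat.{u} R) (φ : A ⟶ C),
      Cond C ((Module.Grassmannian.functor (R := R) (M := M) k).map φ N) ↔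
        I ≤ RingHom.ker φ.hom.toRingHom)

include heX hCond in
theorem key_L (A₀ : CommAlgCat.{u} R) (g₀ : SA R A₀ ⟶ X) :
    ∃ 𝓙₀ : (Spec (CommRingCat.of A₀)).IdealSheafData,
      ∀ (C : CommAlgCat.{u} R) (c : SA R C ⟶ SA R A₀) (gC : SA R C ⟶ X),
        gC.left = c.left ≫ g₀.left → (Cond C (eX C gC) ↔ 𝓙₀ ≤ c.left.ker) := by
  obtain ⟨I₀, hI₀⟩ := hCond A₀ (eX A₀ g₀)
  refine ⟨idealSheaf A₀ I₀, fun C c gC h => ?_⟩
  obtain ⟨φ, hφ⟩ := exists_algHom_of_hom c
  rw [hφ] at h ⊢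
  rw [heX A₀ C φ g₀ gC h, idealSheaf_le_ker_iff]
  exact hI₀ C φ

/-- the condition on arbitrary morphisms into `X`. -/
def Psi (Z : Scheme.{u}) (z : Z ⟶ X.left) : Prop :=
  ∀ (A : CommAlgCat.{u} R) (g : SA R A ⟶ X) (a : Spec (CommRingCat.of A) ⟶ Z),
    a ≫ z = g.left → Cond A (eX A g)

include heX hCond in
theorem Psi_iff (A : CommAlgCat.{u} R) (g : SA R A ⟶ X) :
    Psi eX Cond (Spec (CommRingCat.of A)) g.left ↔ Cond A (eX A g) := by
  constructor
  · intro h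
    exact h A g (𝟙 _) (Category.id_comp _)
  · intro h A' g' a ha
    obtain ⟨𝓙₀, h𝓙₀⟩ := key_L eX heX Cond hCond A g
    have h1 : 𝓙₀ ≤ (Over.Hom.left (𝟙 (SA R A))).ker := (h𝓙₀ A (𝟙 _) g (by simp)).mp h
    let c : SA R A' ⟶ SA R A := Over.homMk a (by
      have h2 := Over.w g
      have h3 := Over.w g'
      rw [← h2, ← Category.assoc, ha, h3])
    rw [h𝓙₀ A' c g' ha.symm]
    have h4 : 𝓙₀ ≤ (a ≫ Over.Hom.left (𝟙 (SA R A))).ker :=
      h1.trans (Scheme.Hom.le_ker_comp _ _)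
    have h5 : a ≫ Over.Hom.left (𝟙 (SA R A)) = c.left := by
      rw [Over.id_left]
      exact Category.comp_id a
    rwa [h5] at h4

theorem Psi_comp (Z Z' : Scheme.{u}) (y : Z' ⟶ Z) (z : Z ⟶ X.left) (h : Psi eX Cond Z z) :
    Psi eX Cond Z' (y ≫ z) := by
  intro A g a ha
  exact h A g (a ≫ y) (by rw [Category.assoc, ha])

include heX hCond in
theorem Psi_local (Z : Scheme.{u}) (z : Z ⟶ X.left)
    (h : ∀ x : Z, ∃ (U : Scheme.{u}) (j : U ⟶ Z), IsOpenImmersion j ∧ x ∈ Set.range j ∧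
      Psi eX Cond U (j ≫ z)) : Psi eX Cond Z z := by
  intro A g a ha
  obtain ⟨𝓙₀, h𝓙₀⟩ := key_L eX heX Cond hCond A g
  have hid : Over.Hom.left (𝟙 (SA R A)) = 𝟙 _ := Over.id_left _
  rw [h𝓙₀ A (𝟙 _) g (by simp), hid]
  apply Groth.Agent.Lib.ClosedCond27.le_ker_of_cover
  intro p
  obtain ⟨U, j, hj, hpj, hΨ⟩ := h (a p)
  obtain ⟨C, c, hc, hpc, hcO, hcw⟩ := exists_affine_nbhd
    (Spec.map (CommRingCat.ofHom (algebraMap R A))) (a ⁻¹ᵁ j.opensRange) p hpj
  refine ⟨_, c, hc, hpc, ?_⟩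
  let cO : SA R C ⟶ SA R A := Over.homMk c hcw
  let gC : SA R C ⟶ X := Over.homMk (c ≫ g.left) (by
    rw [Category.assoc, Over.w g]; exact hcw)
  have hrange : Set.range (c ≫ a) ⊆ Set.range j := by
    rintro _ ⟨q, rfl⟩
    exact hcO ⟨q, rfl⟩
  have hlift : IsOpenImmersion.lift j (c ≫ a) hrange ≫ j = c ≫ a :=
    IsOpenImmersion.lift_fac _ _ _
  have hcond : Cond C (eX C gC) :=
    hΨ C gC (IsOpenImmersion.lift j (c ≫ a) hrange) (by
      rw [reassoc_of% hlift, ha]; rfl)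
  have := (h𝓙₀ C cO gC rfl).mp hcond
  rw [Category.comp_id]
  exact this

include heX hCond in
/-- local representability at an `SA`-chart. -/
theorem Psi_chart (A₀ : CommAlgCat.{u} R) (g₀ : SA R A₀ ⟶ X) :
    ∃ 𝓙₀ : (Spec (CommRingCat.of A₀)).IdealSheafData,
      ∀ (Z : Scheme.{u}) (ζ : Z ⟶ Spec (CommRingCat.of A₀)),
        𝓙₀ ≤ ζ.ker ↔ Psi eX Cond Z (ζ ≫ g₀.left) := by
  obtain ⟨𝓙₀, h𝓙₀⟩ := key_L eX heX Cond hCond A₀ g₀
  refine ⟨𝓙₀, fun Z ζ => ⟨fun hle => ?_, fun hΨ => ?_⟩⟩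
  · intro A g a ha
    let c : SA R A ⟶ SA R A₀ := Over.homMk (a ≫ ζ) (by
      have h2 := Over.w g₀
      have h3 := Over.w g
      rw [← h2, Category.assoc, reassoc_of% ha, h3])
    rw [h𝓙₀ A c g (by rw [← ha]; exact (Category.assoc _ _ _).symm)]
    exact hle.trans (Scheme.Hom.le_ker_comp _ _)
  · apply Groth.Agent.Lib.ClosedCond27.le_ker_of_cover
    intro x
    obtain ⟨C, c, hc, hxc, -, hcw⟩ := exists_affine_nbhd
      (ζ ≫ Spec.map (CommRingCat.ofHom (algebraMap R A₀))) ⊤ x trivial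
    refine ⟨_, c, hc, hxc, ?_⟩
    let cO : SA R C ⟶ SA R A₀ := Over.homMk (c ≫ ζ) (by rw [Category.assoc]; exact hcw)
    let gC : SA R C ⟶ X := Over.homMk (c ≫ ζ ≫ g₀.left) (by
      rw [Category.assoc, Category.assoc, Over.w g₀]; exact hcw)
    have hcond : Cond C (eX C gC) := hΨ C gC c rfl
    exact (h𝓙₀ C cO gC (Category.assoc _ _ _).symm).mp hcond


include heX hCond in
/-- **Main**: the condition is cut out by an ideal sheaf on `X`. -/
theorem exists_idealSheaf :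
    ∃ 𝓙 : X.left.IdealSheafData, (∀ (Z : Scheme.{u}) (z : Z ⟶ X.left),
      𝓙 ≤ z.ker ↔ Psi eX Cond Z z) ∧
      ∀ (A : CommAlgCat.{u} R) (g : SA R A ⟶ X), 𝓙 ≤ g.left.ker ↔ Cond A (eX A g) := by
  classical
  have hch : ∀ V : X.left.affineOpens, ∃ (A : CommAlgCat.{u} R),
      Nonempty (SA R A ≅ Over.mk (V.1.ι ≫ X.hom)) := fun V => by
    have : IsAffine (Over.mk (V.1.ι ≫ X.hom)).left := V.2
    exact exists_iso_SA R _
  choose AV eV using hch
  let ε : ∀ V : X.left.affineOpens, Spec (CommRingCat.of (AV V)) ≅ (V.1 : Scheme) :=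
    fun V => (Over.forget _).mapIso (eV V).some
  have hε : ∀ V, (ε V).hom ≫ V.1.ι ≫ X.hom =
      Spec.map (CommRingCat.ofHom (algebraMap R (AV V))) := fun V => Over.w (eV V).some.hom
  let gV : ∀ V : X.left.affineOpens, SA R (AV V) ⟶ X :=
    fun V => Over.homMk ((ε V).hom ≫ V.1.ι) (by rw [Category.assoc]; exact hε V)
  obtain ⟨𝓙, h𝓙⟩ := Groth.Agent.Lib.ClosedCond27.exists_idealSheaf_glue
    (Psi eX Cond) (Psi_comp eX Cond)
    (Psi_local eX heX Cond hCond)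
    (fun V : X.left.affineOpens => Spec (CommRingCat.of (AV V)))
    (fun V => (ε V).hom ≫ V.1.ι)
    (fun x => by
      obtain ⟨_, ⟨V, hV, rfl⟩, hxV, -⟩ :=
        X.left.isBasis_affineOpens.exists_subset_of_mem_open (Set.mem_univ x) isOpen_univ
      refine ⟨⟨V, hV⟩, ?_⟩
      have hr : Set.range ((ε ⟨V, hV⟩).hom ≫ Scheme.Opens.ι V) = V := by
        rw [Scheme.Hom.comp_base, TopCat.coe_comp, Set.range_comp,
          Set.range_eq_univ.mpr (ConcreteCategory.bijective_of_isIso (ε ⟨V, hV⟩).hom.base).2,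
          Set.image_univ, Scheme.Opens.range_ι]
      rw [hr]
      exact hxV)
    (fun V => Psi_chart eX heX Cond hCond (AV V) (gV V))
  refine ⟨𝓙, h𝓙, fun A g => ?_⟩
  rw [h𝓙]
  exact Psi_iff eX heX Cond hCond A g

end Groth.Agent.Lib.GrassCondClosed27
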