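/-
`GrassIdeal27` (helper27): algebra behind "Hilb is closed in the Grassmannian": for `N ∈ G(e, A ⊗ B; A)` the
condition `Cond` (`N` stable under all `1 ⊗ b`) after base change along `A → C` is cut out by the
coefficient ideal `coeffIdeal N` (`exists_ideal`, `cond_ker_baseChangeMkQ_iff`); `one_tmul_eq_zero_iff`
(projective modules: `1 ⊗ q = 0` iff all coordinates die).
-/
import Mathlib

set_option autoImplicit false
universe u
open TensorProduct Module

namespace Groth.Agent.Lib.GrassIdeal27

variable {R : Type u} [CommRing R] (B : Type u) [CommRing B] [Algebra R B]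

/-- the submodule `N ⊆ A ⊗ B` is stable under multiplication by all `1 ⊗ b`. -/
def Cond {A : Type u} [CommRing A] [Algebra R A] (N : Submodule A (A ⊗[R] B)) : Prop :=
  ∀ (b : B) (x : A ⊗[R] B), x ∈ N → ((1 : A) ⊗ₜ[R] b) * x ∈ N

variable {B}

/-- for projective `Q`, `1 ⊗ q = 0` in `C ⊗ Q` iff all coordinates of `q` die in `C`. -/
theorem one_tmul_eq_zero_iff {A : Type u} [CommRing A] (C : Type u) [CommRing C] [Algebra A C]
    (Q : Type u) [AddCommGroup Q] [Module A Q] [Module.Projective A Q] (q : Q) :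
    (1 : C) ⊗ₜ[A] q = 0 ↔ ∀ l : Q →ₗ[A] A, algebraMap A C (l q) = 0 := by
  constructor
  · intro h l
    have := congrArg (fun t => TensorProduct.rid A C (LinearMap.lTensor C l t)) h
    simpa [Algebra.smul_def] using this
  · intro h
    obtain ⟨s, hs⟩ := (Module.projective_def' (R := A) (P := Q)).mp inferInstance
    have hq : q = Finsupp.linearCombination A id (s q) := by
      rw [← LinearMap.comp_apply, hs]; rfl
    rw [hq, Finsupp.linearCombination_apply, Finsupp.sum, TensorProduct.tmul_sum]
    apply Finset.sum_eq_zero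
    intro p _
    have h1 := h ((Finsupp.lapply p).comp s)
    have h2 : (1 : C) ⊗ₜ[A] ((s q) p • id p) = (algebraMap A C ((s q) p)) ⊗ₜ[A] p := by
      rw [TensorProduct.tmul_smul, TensorProduct.smul_tmul', Algebra.smul_def, mul_one]
      rfl
    rw [h2]
    have h3 : algebraMap A C ((s q) p) = 0 := h1
    rw [h3, zero_tmul]

variable {A : Type u} [CommRing A] [Algebra R A] (N : Submodule A (A ⊗[R] B))

/-- the coefficient ideal of the condition `Cond`. -/
def coeffIdeal : Ideal A :=
  Ideal.span {a | ∃ (b : B) (n : A ⊗[R] B) (_ : n ∈ N) (l : ((A ⊗[R] B) ⧸ N) →ₗ[A] A),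
    l (N.mkQ (((1 : A) ⊗ₜ[R] b) * n)) = a}

variable (C : Type u) [CommRing C] [Algebra R C] [Algebra A C] [IsScalarTower R A C]

/-- the base change map `A ⊗ B → C ⊗ B`. -/
noncomputable def Phi (y : A ⊗[R] B) : C ⊗[R] B :=
  AlgebraTensorModule.cancelBaseChange R A C C B ((1 : C) ⊗ₜ[A] y)

theorem Phi_tmul (a : A) (b : B) : Phi C (a ⊗ₜ[R] b) = (algebraMap A C a) ⊗ₜ[R] b := by
  unfold Phi
  rw [AlgebraTensorModule.cancelBaseChange_tmul, Algebra.smul_def, mul_one]

theorem Phi_add (y y' : A ⊗[R] B) : Phi C (y + y') = Phi C y + Phi C y' := by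
  unfold Phi
  rw [TensorProduct.tmul_add, map_add]

theorem Phi_zero : Phi C (0 : A ⊗[R] B) = 0 := by
  unfold Phi
  rw [TensorProduct.tmul_zero, map_zero]

theorem one_tmul_mul_Phi (b : B) (y : A ⊗[R] B) :
    ((1 : C) ⊗ₜ[R] b) * Phi C y = Phi C (((1 : A) ⊗ₜ[R] b) * y) := by
  induction y using TensorProduct.induction_on with
  | zero => rw [mul_zero, Phi_zero, mul_zero]
  | tmul a b' =>
    rw [Phi_tmul, Algebra.TensorProduct.tmul_mul_tmul, Algebra.TensorProduct.tmul_mul_tmul,
      Phi_tmul, one_mul, one_mul]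
  | add y y' h h' => rw [Phi_add, mul_add, mul_add, Phi_add, h, h']

theorem baseChangeMkQ_Phi (y : A ⊗[R] B) :
    Module.Grassmannian.baseChangeMkQ C N (Phi C y) = (1 : C) ⊗ₜ[A] N.mkQ y := by
  unfold Module.Grassmannian.baseChangeMkQ Phi
  rw [LinearMap.comp_apply, LinearEquiv.coe_coe, LinearEquiv.symm_apply_apply,
    LinearMap.baseChange_tmul]

theorem ker_baseChangeMkQ_le_ker_iff {P : Type u} [AddCommGroup P] [Module C P]
    (F : C ⊗[R] B →ₗ[C] P) :
    LinearMap.ker (Module.Grassmannian.baseChangeMkQ C N) ≤ LinearMap.ker F ↔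
      ∀ n ∈ N, F (Phi C n) = 0 := by
  constructor
  · intro h n hn
    apply h
    rw [LinearMap.mem_ker, baseChangeMkQ_Phi]
    have : N.mkQ n = 0 := by rwa [Submodule.mkQ_apply, Submodule.Quotient.mk_eq_zero]
    rw [this, TensorProduct.tmul_zero]
  · intro h x hx
    rw [LinearMap.mem_ker] at hx ⊢
    have h1 : (N.mkQ.lTensor C) ((AlgebraTensorModule.cancelBaseChange R A C C B).symm x) = 0 := hx
    rw [← LinearMap.mem_ker, lTensor_mkQ] at h1
    obtain ⟨z, hz⟩ := h1
    have hx' : x = AlgebraTensorModule.cancelBaseChange R A C C B (N.subtype.lTensor C z) := by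
      rw [hz, LinearEquiv.apply_symm_apply]
    rw [hx']
    clear hx' hz hx
    induction z using TensorProduct.induction_on with
    | zero => simp
    | tmul c n =>
      have h2 : (N.subtype.lTensor C) (c ⊗ₜ[A] n) = c • ((1 : C) ⊗ₜ[A] (n : A ⊗[R] B)) := by
        rw [LinearMap.lTensor_tmul, TensorProduct.smul_tmul', smul_eq_mul, mul_one]
        rfl
      rw [h2, map_smul, map_smul]
      have := h n.1 n.2
      unfold Phi at this
      rw [this, smul_zero]
    | add z z' hz hz' => rw [map_add, map_add, map_add, hz, hz', add_zero]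

/-- **Key algebraic statement**: the condition on the base change is cut out by the coefficient
ideal. -/
theorem cond_ker_baseChangeMkQ_iff [Module.Projective A ((A ⊗[R] B) ⧸ N)] :
    Cond B (LinearMap.ker (Module.Grassmannian.baseChangeMkQ C N)) ↔
      coeffIdeal N ≤ RingHom.ker (algebraMap A C) := by
  have step1 : Cond B (LinearMap.ker (Module.Grassmannian.baseChangeMkQ C N)) ↔
      ∀ b : B, LinearMap.ker (Module.Grassmannian.baseChangeMkQ C N) ≤
        LinearMap.ker ((Module.Grassmannian.baseChangeMkQ C N).comp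
          (LinearMap.mulLeft C ((1 : C) ⊗ₜ[R] b))) := by
    constructor
    · intro h b x hx
      rw [LinearMap.mem_ker, LinearMap.comp_apply, LinearMap.mulLeft_apply, ← LinearMap.mem_ker]
      exact h b x hx
    · intro h b x hx
      have := h b hx
      rwa [LinearMap.mem_ker, LinearMap.comp_apply, LinearMap.mulLeft_apply,
        ← LinearMap.mem_ker] at this
  rw [step1]
  simp only [ker_baseChangeMkQ_le_ker_iff, LinearMap.comp_apply, LinearMap.mulLeft_apply,
    one_tmul_mul_Phi, baseChangeMkQ_Phi, one_tmul_eq_zero_iff]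
  unfold coeffIdeal
  rw [Ideal.span_le]
  constructor
  · rintro h a ⟨b, n, hn, l, rfl⟩
    exact h b n hn l
  · intro h b n hn l
    exact h ⟨b, n, hn, l, rfl⟩

omit [Algebra A C] [IsScalarTower R A C] in
/-- the ideal cutting out `Cond` for the Grassmannian functor. -/
theorem exists_ideal {e : ℕ} (N : Module.Grassmannian A (A ⊗[R] B) e) :
    ∃ I : Ideal A, ∀ (C : Type u) [CommRing C] [Algebra R C] (φ : A →ₐ[R] C),
      Cond B (Module.Grassmannian.map φ N).toSubmodule ↔ I ≤ RingHom.ker φ.toRingHom := by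
  refine ⟨coeffIdeal N.toSubmodule, fun C _ _ φ => ?_⟩
  let : Algebra A C := φ.toAlgebra
  have : IsScalarTower R A C :=
    IsScalarTower.of_algebraMap_eq' <| IsScalarTower.algebraMap_eq R A C
  rw [Module.Grassmannian.map_toSubmodule]
  exact cond_ker_baseChangeMkQ_iff N.toSubmodule C

omit [Algebra A C] [IsScalarTower R A C] in
theorem cond_iff_ideal_eq_bot {e : ℕ} (N : Module.Grassmannian A (A ⊗[R] B) e) (I : Ideal A)
    (hI : ∀ (C : Type u) [CommRing C] [Algebra R C] (φ : A →ₐ[R] C),
      Cond B (Module.Grassmannian.map φ N).toSubmodule ↔ I ≤ RingHom.ker φ.toRingHom) :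
    Cond B N.toSubmodule ↔ I = ⊥ := by
  have := hI A (AlgHom.id R A)
  rw [Module.Grassmannian.map_id e (CommAlgCat.of R A) N] at this
  rw [this]
  constructor
  · intro h
    rw [eq_bot_iff]
    intro x hx
    exact h hx
  · intro h
    rw [h]
    exact bot_le

end Groth.Agent.Lib.GrassIdeal27
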