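/-
`GrassSurj27` (helper27): Grassmannian functor and a surjection `v : M₁ ↠ M₂`: `quotComapEquiv`
(`P₁ ⧸ f⁻¹N ≃ P₂ ⧸ N`), `comapG` (preimage of a point of `G(k, A ⊗ M₂)` under `A ⊗ v`), `comapG_injective`,
`exists_comapG_eq` (points containing `ker (A ⊗ v)` are preimages), `map_comapG` (base change commutes with
`comapG`), `ker_baseChange_le_iff`, `exists_ideal_ker_le` (the condition `ker (C ⊗ v) ≤ N_C` is cut out
by an ideal).
-/
import Mathlib
import Groth.Agent.Lib.GrassIdeal27

set_option autoImplicit false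
universe u
open TensorProduct Module

namespace Groth.Agent.Lib.GrassSurj27

open Groth.Agent.Lib.GrassIdeal27

section General

variable {A : Type u} [CommRing A] {P₁ P₂ : Type u} [AddCommGroup P₁] [Module A P₁]
  [AddCommGroup P₂] [Module A P₂]

/-- `P₁ ⧸ f⁻¹ N ≃ P₂ ⧸ N` for surjective `f`. -/
noncomputable def quotComapEquiv (f : P₁ →ₗ[A] P₂) (hf : Function.Surjective f)
    (N : Submodule A P₂) : (P₁ ⧸ N.comap f) ≃ₗ[A] (P₂ ⧸ N) :=
  LinearEquiv.ofBijective (Submodule.mapQ (N.comap f) N f le_rfl) (by
    constructor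
    · rw [← LinearMap.ker_eq_bot, eq_bot_iff]
      intro x hx
      obtain ⟨x, rfl⟩ := Submodule.Quotient.mk_surjective _ x
      rw [LinearMap.mem_ker, Submodule.mapQ_apply, Submodule.Quotient.mk_eq_zero] at hx
      rw [Submodule.mem_bot, Submodule.Quotient.mk_eq_zero]
      exact hx
    · intro y
      obtain ⟨y, rfl⟩ := Submodule.Quotient.mk_surjective _ y
      obtain ⟨x, rfl⟩ := hf y
      exact ⟨Submodule.Quotient.mk x, Submodule.mapQ_apply _ _ _ _⟩)

theorem quotComapEquiv_mk (f : P₁ →ₗ[A] P₂) (hf : Function.Surjective f)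
    (N : Submodule A P₂) (x : P₁) :
    quotComapEquiv f hf N (Submodule.Quotient.mk x) = Submodule.Quotient.mk (f x) :=
  Submodule.mapQ_apply (N.comap f) N f (h := le_rfl) x

end General

variable {R : Type u} [CommRing R] {M₁ M₂ : Type u} [AddCommGroup M₁] [Module R M₁]
  [AddCommGroup M₂] [Module R M₂] (v : M₁ →ₗ[R] M₂) (hv : Function.Surjective v) {k : ℕ}

include hv in
theorem baseChange_surjective (A : Type u) [CommRing A] [Algebra R A] :
    Function.Surjective (v.baseChange A) :=
  LinearMap.baseChange_surjective A hv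

variable {A : Type u} [CommRing A] [Algebra R A]

/-- A1: preimage of a Grassmannian point under `A ⊗ v`. -/
noncomputable def comapG (N₂ : Module.Grassmannian A (A ⊗[R] M₂) k) :
    Module.Grassmannian A (A ⊗[R] M₁) k where
  toSubmodule := N₂.toSubmodule.comap (v.baseChange A)
  finite_quotient := Module.Finite.equiv
    (quotComapEquiv (v.baseChange A) (baseChange_surjective v hv A) N₂.toSubmodule).symm
  projective_quotient := Module.Projective.of_equiv
    (quotComapEquiv (v.baseChange A) (baseChange_surjective v hv A) N₂.toSubmodule).symm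
  rankAtStalk_eq p := by
    rw [Module.rankAtStalk_eq_of_equiv
      (quotComapEquiv (v.baseChange A) (baseChange_surjective v hv A) N₂.toSubmodule)]
    exact N₂.rankAtStalk_eq p

theorem comapG_toSubmodule (N₂ : Module.Grassmannian A (A ⊗[R] M₂) k) :
    (comapG v hv N₂).toSubmodule = N₂.toSubmodule.comap (v.baseChange A) := rfl

theorem comapG_injective :
    Function.Injective (comapG v hv : Module.Grassmannian A (A ⊗[R] M₂) k → _) := by
  intro N N' h
  ext1
  have := congrArg Module.Grassmannian.toSubmodule h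
  exact Submodule.comap_injective_of_surjective (baseChange_surjective v hv A) this

theorem ker_le_comapG (N₂ : Module.Grassmannian A (A ⊗[R] M₂) k) :
    LinearMap.ker (v.baseChange A) ≤ (comapG v hv N₂).toSubmodule := by
  intro x hx
  rw [comapG_toSubmodule, Submodule.mem_comap, LinearMap.mem_ker.mp hx]
  exact zero_mem _

/-- A3': a point containing the kernel is a preimage. -/
theorem exists_comapG_eq (N₁ : Module.Grassmannian A (A ⊗[R] M₁) k)
    (h : LinearMap.ker (v.baseChange A) ≤ N₁.toSubmodule) :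
    ∃ N₂ : Module.Grassmannian A (A ⊗[R] M₂) k, comapG v hv N₂ = N₁ := by
  have hcm : (N₁.toSubmodule.map (v.baseChange A)).comap (v.baseChange A) = N₁.toSubmodule := by
    rw [Submodule.comap_map_eq, sup_eq_left]
    exact h
  let e : ((A ⊗[R] M₂) ⧸ N₁.toSubmodule.map (v.baseChange A)) ≃ₗ[A]
      ((A ⊗[R] M₁) ⧸ N₁.toSubmodule) :=
    (quotComapEquiv (v.baseChange A) (baseChange_surjective v hv A)
      (N₁.toSubmodule.map (v.baseChange A))).symm.trans (Submodule.quotEquivOfEq _ _ hcm)
  refine ⟨{ toSubmodule := N₁.toSubmodule.map (v.baseChange A)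
            finite_quotient := Module.Finite.equiv e.symm
            projective_quotient := Module.Projective.of_equiv e.symm
            rankAtStalk_eq := fun p => by
              rw [Module.rankAtStalk_eq_of_equiv e]
              exact N₁.rankAtStalk_eq p }, ?_⟩
  ext1
  exact hcm

section Natural

variable (C : Type u) [CommRing C] [Algebra R C] [Algebra A C] [IsScalarTower R A C]

theorem baseChangeMkQ_tmul {M : Type u} [AddCommGroup M] [Module R M] (N : Submodule A (A ⊗[R] M))
    (c : C) (m : M) :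
    Module.Grassmannian.baseChangeMkQ C N (c ⊗ₜ[R] m) = c ⊗ₜ[A] N.mkQ ((1 : A) ⊗ₜ[R] m) := by
  simp [Module.Grassmannian.baseChangeMkQ]

include hv in
/-- A2 (submodule form). -/
theorem ker_baseChangeMkQ_comap (N₂ : Submodule A (A ⊗[R] M₂)) :
    LinearMap.ker (Module.Grassmannian.baseChangeMkQ C (N₂.comap (v.baseChange A))) =
      (LinearMap.ker (Module.Grassmannian.baseChangeMkQ C N₂)).comap (v.baseChange C) := by
  let ē := quotComapEquiv (v.baseChange A) (baseChange_surjective v hv A) N₂
  have hcomm : (ē.baseChange A C _ _).toLinearMap ∘ₗ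
      Module.Grassmannian.baseChangeMkQ C (N₂.comap (v.baseChange A)) =
      Module.Grassmannian.baseChangeMkQ C N₂ ∘ₗ v.baseChange C := by
    apply TensorProduct.AlgebraTensorModule.ext
    intro c m
    rw [LinearMap.comp_apply, LinearMap.comp_apply, baseChangeMkQ_tmul, LinearMap.baseChange_tmul,
      baseChangeMkQ_tmul]
    change c ⊗ₜ[A] ē ((N₂.comap (v.baseChange A)).mkQ ((1 : A) ⊗ₜ[R] m)) = _
    rw [Submodule.mkQ_apply, quotComapEquiv_mk, LinearMap.baseChange_tmul]
    rfl
  rw [← LinearMap.ker_comp, ← hcomm, LinearEquiv.ker_comp]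

end Natural

/-- A2: base change commutes with `comapG`. -/
theorem map_comapG {C : Type u} [CommRing C] [Algebra R C] (φ : A →ₐ[R] C)
    (N₂ : Module.Grassmannian A (A ⊗[R] M₂) k) :
    Module.Grassmannian.map φ (comapG v hv N₂) = comapG v hv (Module.Grassmannian.map φ N₂) := by
  let : Algebra A C := φ.toAlgebra
  have : IsScalarTower R A C :=
    IsScalarTower.of_algebraMap_eq' <| IsScalarTower.algebraMap_eq R A C
  ext1
  rw [Module.Grassmannian.map_toSubmodule, comapG_toSubmodule, comapG_toSubmodule,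
    Module.Grassmannian.map_toSubmodule]
  exact ker_baseChangeMkQ_comap v hv C N₂.toSubmodule

include hv in
theorem ker_baseChange_le_iff (C : Type u) [CommRing C] [Algebra R C]
    (K : Submodule C (C ⊗[R] M₁)) :
    LinearMap.ker (v.baseChange C) ≤ K ↔ ∀ m ∈ LinearMap.ker v, (1 : C) ⊗ₜ[R] m ∈ K := by
  constructor
  · intro h m hm
    apply h
    rw [LinearMap.mem_ker, LinearMap.baseChange_tmul, LinearMap.mem_ker.mp hm,
      TensorProduct.tmul_zero]
  · intro h x hx
    have hx' : (v.lTensor C) x = 0 := hx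
    have hex := lTensor_exact C (LinearMap.exact_subtype_ker_map v) hv
    obtain ⟨z, rfl⟩ := (hex x).mp hx'
    clear hx hx'
    induction z using TensorProduct.induction_on with
    | zero => rw [map_zero]; exact zero_mem _
    | tmul c m =>
      rw [LinearMap.lTensor_tmul]
      have h1 : c ⊗ₜ[R] ((LinearMap.ker v).subtype m) = c • ((1 : C) ⊗ₜ[R] (m : M₁)) := by
        rw [TensorProduct.smul_tmul', smul_eq_mul, mul_one]
        rfl
      rw [h1]
      exact K.smul_mem c (h m.1 m.2)
    | add z z' hz hz' => rw [map_add]; exact K.add_mem hz hz'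

include hv in
/-- A4: the closed condition `ker (C ⊗ v) ≤ N_C` is cut out by an ideal. -/
theorem exists_ideal_ker_le (N₁ : Module.Grassmannian A (A ⊗[R] M₁) k) :
    ∃ I : Ideal A, ∀ (C : Type u) [CommRing C] [Algebra R C] (φ : A →ₐ[R] C),
      LinearMap.ker (v.baseChange C) ≤ (Module.Grassmannian.map φ N₁).toSubmodule ↔
        I ≤ RingHom.ker φ.toRingHom := by
  refine ⟨Ideal.span {a | ∃ m ∈ LinearMap.ker v,
    ∃ l : ((A ⊗[R] M₁) ⧸ N₁.toSubmodule) →ₗ[A] A,
      l (N₁.toSubmodule.mkQ ((1 : A) ⊗ₜ[R] m)) = a}, fun C _ _ φ => ?_⟩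
  let : Algebra A C := φ.toAlgebra
  have : IsScalarTower R A C :=
    IsScalarTower.of_algebraMap_eq' <| IsScalarTower.algebraMap_eq R A C
  rw [Module.Grassmannian.map_toSubmodule, ker_baseChange_le_iff v hv, Ideal.span_le]
  simp only [LinearMap.mem_ker, baseChangeMkQ_tmul, one_tmul_eq_zero_iff]
  constructor
  · rintro h a ⟨m, hm, l, rfl⟩
    exact h m hm l
  · intro h m hm l
    exact h ⟨m, hm, l, rfl⟩

end Groth.Agent.Lib.GrassSurj27
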