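import Groth.Agent.Lib.RDPlus31
import Mathlib.CategoryTheory.Preadditive.Injective.Preserves

/-!
# Composition of right derived functors on `D⁺` (helper31)
-/

set_option autoImplicit false

open CategoryTheory Limits

namespace Groth.Agent.RDPlus31

section Comp

variable {A B C : Type*} [Category* A] [Category* B] [Category* C]
  [Abelian A] [Abelian B] [Abelian C]
  [HasDerivedCategory A] [HasDerivedCategory B] [HasDerivedCategory C]
  [EnoughInjectives A] [EnoughInjectives B]
  (F : A ⥤ B) [F.Additive] (G : B ⥤ C) [G.Additive] {H : A ⥤ C} [H.Additive] (e : F ⋙ G ≅ H)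

/-- The candidate unit exhibiting `R⁺F ⋙ R⁺G` as a right derived functor of `H ≅ F ⋙ G`. -/
noncomputable def compUnit :
    H.mapHomotopyCategoryPlus ⋙ DerivedCategory.Plus.Qh ⟶
      DerivedCategory.Plus.Qh ⋙ F.rightDerivedFunctorPlus ⋙ G.rightDerivedFunctorPlus :=
  Functor.whiskerRight (Functor.mapHomotopyCategoryPlusCompIso e).inv DerivedCategory.Plus.Qh
    ≫ (Functor.associator _ _ _).hom
    ≫ Functor.whiskerLeft F.mapHomotopyCategoryPlus G.rightDerivedFunctorPlusUnit
    ≫ (Functor.associator _ _ _).inv
    ≫ Functor.whiskerRight F.rightDerivedFunctorPlusUnit G.rightDerivedFunctorPlus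
    ≫ (Functor.associator _ _ _).hom

/-- If `G`'s unit is an isomorphism on `F` of bounded below complexes of injectives, then
`R⁺F ⋙ R⁺G` is a right derived functor of `H ≅ F ⋙ G`. -/
theorem isRightDerivedFunctor_comp
    (h : ∀ I : HomotopyCategory.Plus (InjectiveObject A),
      IsIso (G.rightDerivedFunctorPlusUnit.app (F.mapHomotopyCategoryPlus.obj
        ((InjectiveObject.ι A).mapHomotopyCategoryPlus.obj I)))) :
    (F.rightDerivedFunctorPlus ⋙ G.rightDerivedFunctorPlus).IsRightDerivedFunctor
      (compUnit F G e) (HomotopyCategory.Plus.quasiIso A) := by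
  refine (HomotopyCategory.Plus.localizerMorphism_derives _).isRightDerivedFunctor_of_isIso _
    (fun I => ?_)
  have := h I
  dsimp [compUnit]
  infer_instance

include e in
/-- Under the hypothesis of `isRightDerivedFunctor_comp`, `R⁺F ⋙ R⁺G ≅ R⁺H`. -/
theorem nonempty_comp_iso
    (h : ∀ I : HomotopyCategory.Plus (InjectiveObject A),
      IsIso (G.rightDerivedFunctorPlusUnit.app (F.mapHomotopyCategoryPlus.obj
        ((InjectiveObject.ι A).mapHomotopyCategoryPlus.obj I)))) :
    Nonempty (F.rightDerivedFunctorPlus ⋙ G.rightDerivedFunctorPlus ≅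
      H.rightDerivedFunctorPlus) := by
  have := isRightDerivedFunctor_comp F G e h
  exact ⟨Functor.rightDerivedUnique _ _ (compUnit F G e) H.rightDerivedFunctorPlusUnit
    (HomotopyCategory.Plus.quasiIso A)⟩

include e in
/-- If `F` preserves injective objects, `R⁺F ⋙ R⁺G ≅ R⁺(F ⋙ G)`. -/
theorem nonempty_comp_iso_of_preservesInjectiveObjects [F.PreservesInjectiveObjects] :
    Nonempty (F.rightDerivedFunctorPlus ⋙ G.rightDerivedFunctorPlus ≅
      H.rightDerivedFunctorPlus) := by
  refine nonempty_comp_iso F G e (fun I => ?_)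
  have : ∀ n : ℤ, Injective ((F.mapHomotopyCategoryPlus.obj
      ((InjectiveObject.ι A).mapHomotopyCategoryPlus.obj I)).obj.as.X n) := fun n =>
    Functor.PreservesInjectiveObjects.injective_obj (F := F) (I.obj.as.X n).property
  infer_instance

end Comp

end Groth.Agent.RDPlus31
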