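import Groth.Agent.Lib.RDPlusLerayB31
import Groth.Agent.Lib.RDPlusComp31

/-!
# Grothendieck's composition theorem `R⁺(G ∘ F) ≅ R⁺G ∘ R⁺F` via Leray's lemma (helper31)
-/

set_option autoImplicit false

open CategoryTheory Limits

namespace Groth.Agent.RDPlus31

variable {A B C : Type*} [Category* A] [Category* B] [Category* C]
  [Abelian A] [Abelian B] [Abelian C]
  [HasDerivedCategory B] [HasDerivedCategory C] [EnoughInjectives B]
  (F : A ⥤ B) [F.Additive] (G : B ⥤ C) [G.Additive] [PreservesFiniteLimits G]

/-- If `F` sends injectives to `G`-acyclic objects, the unit of `R⁺G` is an isomorphism on the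
image under `F` of bounded below complexes of injectives. -/
theorem isIso_unit_app_map_injective
    (hFG : ∀ I : A, Injective I → UAcyc G (F.obj I))
    (I : HomotopyCategory.Plus (InjectiveObject A)) :
    IsIso (G.rightDerivedFunctorPlusUnit.app (F.mapHomotopyCategoryPlus.obj
        ((InjectiveObject.ι A).mapHomotopyCategoryPlus.obj I))) := by
  obtain ⟨a, ha⟩ : CochainComplex.plus (InjectiveObject A) I.obj.as := by
    rw [← HomotopyCategory.plus_quotient_obj_iff]
    exact I.property
  let K : CochainComplex.Plus B :=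
    ⟨(F.mapHomologicalComplex (.up ℤ)).obj
      (((InjectiveObject.ι A).mapHomologicalComplex (.up ℤ)).obj I.obj.as), ⟨a, by
        have : CochainComplex.IsStrictlyGE I.obj.as a := ha
        infer_instance⟩⟩
  have : F.mapHomotopyCategoryPlus.obj
        ((InjectiveObject.ι A).mapHomotopyCategoryPlus.obj I) =
      (HomotopyCategory.Plus.quotient B).obj K := rfl
  rw [this]
  apply isIso_unit_app_of_uAcyc
  intro n
  exact hFG _ (inferInstanceAs (Injective ((InjectiveObject.ι A).obj (I.obj.as.X n))))

/-- **Grothendieck's composition theorem** on `D⁺`: if `F` sends injectives to `G`-acyclics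
(`G` left exact), then `R⁺F ⋙ R⁺G` is a right derived functor of `H ≅ F ⋙ G`. -/
theorem isRightDerivedFunctor_comp_of_uAcyc [HasDerivedCategory A] [EnoughInjectives A]
    {H : A ⥤ C} [H.Additive] (e : F ⋙ G ≅ H)
    (hFG : ∀ I : A, Injective I → UAcyc G (F.obj I)) :
    (F.rightDerivedFunctorPlus ⋙ G.rightDerivedFunctorPlus).IsRightDerivedFunctor
      (compUnit F G e) (HomotopyCategory.Plus.quasiIso A) :=
  isRightDerivedFunctor_comp F G e (isIso_unit_app_map_injective F G hFG)

/-- Under the hypothesis of `isRightDerivedFunctor_comp_of_uAcyc`, `R⁺F ⋙ R⁺G ≅ R⁺H`. -/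
theorem nonempty_comp_iso_of_uAcyc [HasDerivedCategory A] [EnoughInjectives A]
    {H : A ⥤ C} [H.Additive] (e : F ⋙ G ≅ H)
    (hFG : ∀ I : A, Injective I → UAcyc G (F.obj I)) :
    Nonempty (F.rightDerivedFunctorPlus ⋙ G.rightDerivedFunctorPlus ≅
      H.rightDerivedFunctorPlus) :=
  nonempty_comp_iso F G e (isIso_unit_app_map_injective F G hFG)

end Groth.Agent.RDPlus31
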