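import Groth.Agent.Lib.RDPlusTri21
import Groth.Agent.Lib.RDLES31
import Groth.Agent.Lib.RDPlusLerayC31

/-!
# Identifications for the Grothendieck spectral sequence (helper21)

* `enoughInjectives_of_hasInjectiveResolutions`
* `homologyRSingleIso` : `Hⁿ(R⁺S((singleFunctor q).obj M)) ≅ (hyp S m).obj M` for `q + m = n`
* `hypObjIso` : `(hyp S k).obj M ≅ (S.rightDerived k).obj M`
* `uAcyc_of_rightDerived` : `UAcyc` from the vanishing of the classical right derived functors
-/

set_option autoImplicit false

open CategoryTheory Limits Pretriangulated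

namespace Groth.Agent.Lib.GrothSS21

open Groth.Agent.RDPlus31 Groth.Agent.Lib.RDPlusTri21

/-- A category with injective resolutions has enough injectives. -/
lemma enoughInjectives_of_hasInjectiveResolutions {C : Type*} [Category* C] [Abelian C]
    [HasInjectiveResolutions C] : EnoughInjectives C where
  presentation X :=
    ⟨{ J := (injectiveResolution X).cocomplex.X 0
       injective := inferInstance
       f := (injectiveResolution X).ι.f 0
       mono := (inferInstance : Mono ((injectiveResolution X).ι.f 0)) }⟩

variable {C D : Type*} [Category* C] [Category* D] [Abelian C] [Abelian D]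
  [HasDerivedCategory C] [HasDerivedCategory D] [EnoughInjectives C]
  (S : C ⥤ D) [S.Additive]

/-- `Hⁿ(R⁺S((singleFunctor q).obj M)) ≅ H^{n-q}(R⁺S(M[0]))`. -/
noncomputable def homologyRSingleIso (M : C) (q n m : ℤ) (h : q + m = n) :
    (DerivedCategory.Plus.homologyFunctor D n).obj
      (S.rightDerivedFunctorPlus.obj ((DerivedCategory.Plus.singleFunctor C q).obj M)) ≅
      (hyp S m).obj M :=
  (DerivedCategory.Plus.homologyFunctor D n).mapIso
    (S.rightDerivedFunctorPlus.mapIso
      (((DerivedCategory.Plus.singleFunctors C).shiftIso (-q) q 0 (by simp)).symm.app M) ≪≫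
      (S.rightDerivedFunctorPlus.commShiftIso (-q)).app _) ≪≫
    ((DerivedCategory.Plus.homologyFunctor D 0).shiftIso (-q) n m (by lia)).app _

/-- `Hᵏ(R⁺S(M[0])) ≅ RᵏS(M)`. -/
noncomputable def hypObjIso (M : C) (m : ℤ) (k : ℕ) (h : m = k) :
    (hyp S m).obj M ≅ (S.rightDerived k).obj M :=
  eqToIso (by subst h; rfl) ≪≫ (hypNatIso S k).app M

/-- An object is right acyclic in the sense of `UAcyc` as soon as its classical higher right
derived functors vanish. -/
lemma uAcyc_of_rightDerived [PreservesFiniteLimits S] (X : C)
    (h : ∀ q : ℕ, 0 < q → IsZero ((S.rightDerived q).obj X)) : UAcyc S X :=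
  (uAcyc_iff S X).2 h

end Groth.Agent.Lib.GrothSS21
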