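import Mathlib.CategoryTheory.Subobject.Limits
import Mathlib.CategoryTheory.Abelian.Refinements
import Mathlib.Algebra.Homology.ShortComplex.ExactFunctor
import Mathlib.CategoryTheory.Abelian.Basic

/-!
# A subquotient lemma in abelian categories

`grIso`: for `a : A₀ ⟶ M`, `d : D ⟶ M`, `φ : M ⟶ N` with `D ⟶ M ⟶ N` exact, the quotient
`im φ / im (a ≫ φ)` (as a cokernel of the inclusion of subobjects of `N`) is isomorphic to
`M / (im a + im d) = cokernel (biprod.desc a d)`.
-/

set_option autoImplicit false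

open CategoryTheory Limits

namespace Groth.Agent.Lib.SpObjAbut

variable {C : Type*} [Category C] [Abelian C]

section

variable {A₀ D M N : C} (a : A₀ ⟶ M) (d : D ⟶ M) (φ : M ⟶ N) (w : d ≫ φ = 0)

lemma imageSubobject_comp_le' : imageSubobject (a ≫ φ) ≤ imageSubobject φ :=
  imageSubobject_comp_le a φ

/-- the canonical map `M / (im a + im d) ⟶ im φ / im (a ≫ φ)` -/
noncomputable def grHom :
    cokernel (biprod.desc a d) ⟶
      cokernel ((imageSubobject (a ≫ φ)).ofLE (imageSubobject φ) (imageSubobject_comp_le a φ)) :=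
  cokernel.desc _ (factorThruImageSubobject φ ≫ cokernel.π _) (by
    ext
    · simp only [biprod.inl_desc_assoc, comp_zero]
      have h : a ≫ factorThruImageSubobject φ =
          factorThruImageSubobject (a ≫ φ) ≫
            (imageSubobject (a ≫ φ)).ofLE (imageSubobject φ) (imageSubobject_comp_le a φ) := by
        rw [← cancel_mono (imageSubobject φ).arrow]
        simp
      rw [reassoc_of% h, cokernel.condition, comp_zero]
    · simp only [biprod.inr_desc_assoc, comp_zero]
      have h : d ≫ factorThruImageSubobject φ = 0 := by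
        rw [← cancel_mono (imageSubobject φ).arrow]
        simp [w]
      rw [reassoc_of% h, zero_comp])

@[reassoc (attr := simp)]
lemma π_grHom : cokernel.π (biprod.desc a d) ≫ grHom a d φ w =
    factorThruImageSubobject φ ≫ cokernel.π _ := by
  simp [grHom]

instance : Epi (grHom a d φ w) := by
  have : Epi (cokernel.π (biprod.desc a d) ≫ grHom a d φ w) := by
    rw [π_grHom]
    infer_instance
  exact epi_of_epi (cokernel.π (biprod.desc a d)) _

lemma mono_grHom (hex : (ShortComplex.mk d φ w).Exact) : Mono (grHom a d φ w) := by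
  rw [Preadditive.mono_iff_cancel_zero]
  intro T x hx
  -- lift `x` to `M`
  obtain ⟨T₁, p₁, _, y, hy⟩ := surjective_up_to_refinements_of_epi (cokernel.π (biprod.desc a d)) x
  have h1 : (y ≫ factorThruImageSubobject φ) ≫ cokernel.π
      ((imageSubobject (a ≫ φ)).ofLE (imageSubobject φ) (imageSubobject_comp_le a φ)) = 0 := by
    rw [Category.assoc, ← π_grHom a d φ w, ← reassoc_of% hy, hx, comp_zero]
  -- factor through `im (a ≫ φ)`
  obtain ⟨T₂, p₂, _, z, hz⟩ := (ShortComplex.exact_cokernel
    ((imageSubobject (a ≫ φ)).ofLE (imageSubobject φ)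
      (imageSubobject_comp_le a φ))).exact_up_to_refinements _ h1
  dsimp at z hz
  obtain ⟨T₃, p₃, _, v, hv⟩ := surjective_up_to_refinements_of_epi
    (factorThruImageSubobject (a ≫ φ)) z
  have h2 : (p₃ ≫ p₂ ≫ y - v ≫ a) ≫ φ = 0 := by
    rw [Preadditive.sub_comp, sub_eq_zero]
    have e1 : p₃ ≫ p₂ ≫ y ≫ φ = p₃ ≫ z ≫ (imageSubobject (a ≫ φ)).arrow := by
      calc p₃ ≫ p₂ ≫ y ≫ φ
          = p₃ ≫ (p₂ ≫ y ≫ factorThruImageSubobject φ) ≫ (imageSubobject φ).arrow := by
            simp only [Category.assoc, imageSubobject_arrow_comp]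
        _ = p₃ ≫ (z ≫ (imageSubobject (a ≫ φ)).ofLE (imageSubobject φ)
              (imageSubobject_comp_le a φ)) ≫ (imageSubobject φ).arrow := by rw [hz]
        _ = p₃ ≫ z ≫ (imageSubobject (a ≫ φ)).arrow := by
            simp only [Category.assoc, Subobject.ofLE_arrow]
    have e2 : v ≫ a ≫ φ = p₃ ≫ z ≫ (imageSubobject (a ≫ φ)).arrow := by
      calc v ≫ a ≫ φ
          = v ≫ factorThruImageSubobject (a ≫ φ) ≫ (imageSubobject (a ≫ φ)).arrow := by
            rw [imageSubobject_arrow_comp]
        _ = p₃ ≫ z ≫ (imageSubobject (a ≫ φ)).arrow := by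
            rw [← Category.assoc, ← hv, Category.assoc]
    simp only [Category.assoc]
    rw [e1, e2]
  obtain ⟨T₄, p₄, _, u, hu⟩ := hex.exact_up_to_refinements _ h2
  dsimp at u hu
  have h3 : p₄ ≫ p₃ ≫ p₂ ≫ y = biprod.lift (p₄ ≫ v) u ≫ biprod.desc a d := by
    rw [biprod.lift_desc, ← hu, Preadditive.comp_sub]
    simp
  have h4 : (p₄ ≫ p₃ ≫ p₂ ≫ p₁) ≫ x = 0 := by
    simp only [Category.assoc]
    rw [hy, reassoc_of% h3, cokernel.condition, comp_zero]
  rwa [← cancel_epi (p₄ ≫ p₃ ≫ p₂ ≫ p₁), comp_zero]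

/-- `im φ / im (a ≫ φ) ≅ M / (im a + im d)` when `D ⟶ M ⟶ N` is exact. -/
noncomputable def grIso (hex : (ShortComplex.mk d φ w).Exact) :
    cokernel (biprod.desc a d) ≅
      cokernel ((imageSubobject (a ≫ φ)).ofLE (imageSubobject φ) (imageSubobject_comp_le a φ)) :=
  haveI := mono_grHom a d φ w hex
  haveI : IsIso (grHom a d φ w) := isIso_of_mono_of_epi _
  asIso (grHom a d φ w)

end

end Groth.Agent.Lib.SpObjAbut
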