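import Groth.Prelude.Def_SpSeq
import Mathlib.Algebra.Homology.SpectralObject.SpectralSequence
import Mathlib.Algebra.Homology.SpectralObject.EpiMono
import Mathlib.Algebra.Homology.SpectralObject.FirstPage
import Groth.Agent.Lib.SpObjAbutGr
import Mathlib.Data.Int.Interval
import Mathlib.Order.Interval.Finset.Defs

/-!
# The abutment of the spectral sequence of a first quadrant spectral object

For `Y : Abelian.SpectralObject C EInt` with `[Y.IsFirstQuadrant]`, Mathlib constructs the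
`E₂`-cohomological spectral sequence `Y.E₂SpectralSequence`.  This file constructs its abutment in the
sense of `SpSeq.Abutment` (Prelude, `Def_SpSeq`):

* `abut Y n = H^n(⊥ ≤ ⊤)`, filtered by `fil Y n p = im (H^n(⊥ ≤ n - p + 1) ⟶ H^n(⊥ ≤ ⊤))`;
* `abutment Y : SpSeq.Abutment Y.E₂SpectralSequence (abut Y)`, `abutment_isFinite`, `isBounded`;
* `pageTwoIso Y p q : E₂^{p,q} ≅ H^{p+q}(q ≤ q+1)`, `isZero_page_of_fst_neg`, `isZero_page_of_snd_neg`;
* `abutmentOfIso a e` : transport of an abutment along isomorphisms `H n ≅ H' n`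
  (+ `abutmentOfIso_isFinite`);
* `exists_abutment` : packaged existence statement.

General (any index category): `grE` : `E^n(f₁,f₂,f₃) ≅ im(H^n(f₁₂) → H^n(f₁₂₃)) / im(H^n(f₁) → H^n(f₁₂₃))`.
-/

set_option autoImplicit false

universe v u

open CategoryTheory Limits ComposableArrows Abelian

namespace Groth.Agent.Lib.SpObjAbut

variable {C : Type u} [Category.{v} C] [Abelian C]

section General

variable {ι : Type*} [Category ι] (X : SpectralObject C ι)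
  {i₀ i₁ i₂ i₃ : ι} (f₁ : i₀ ⟶ i₁) (f₂ : i₁ ⟶ i₂) (f₃ : i₂ ⟶ i₃)
  (f₁₂ : i₀ ⟶ i₂) (h₁₂ : f₁ ≫ f₂ = f₁₂) (f₁₂₃ : i₀ ⟶ i₃) (h₁₂₃ : f₁₂ ≫ f₃ = f₁₂₃)
  (n₀ n₁ n₂ : ℤ) (hn₁ : n₀ + 1 = n₁) (hn₂ : n₁ + 1 = n₂)

/-- `E^n(f₁,f₂,f₃) ≅ H^n(f₁₂) / (im H^n(f₁) + im δ)` -/
noncomputable def EIsoCokernel :
    X.E f₁ f₂ f₃ n₀ n₁ n₂ hn₁ hn₂ ≅
      cokernel (biprod.desc ((X.H n₁).map (twoδ₂Toδ₁ f₁ f₂ f₁₂ h₁₂)) (X.δ f₁₂ f₃ n₀ n₁ hn₁)) :=
  IsColimit.coconePointUniqueUpToIso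
    (X.cokernelSequenceE_exact f₁ f₂ f₃ f₁₂ h₁₂ n₀ n₁ n₂ hn₁ hn₂).gIsCokernel
    (colimit.isColimit _)

/-- `E^n(f₁,f₂,f₃) ≅ im (H^n(f₁₂) → H^n(f₁₂₃)) / im (H^n(f₁) → H^n(f₁₂₃))`. -/
noncomputable def grE :
    X.E f₁ f₂ f₃ n₀ n₁ n₂ hn₁ hn₂ ≅
      cokernel ((imageSubobject ((X.H n₁).map (twoδ₂Toδ₁ f₁ f₂ f₁₂ h₁₂) ≫
          (X.H n₁).map (twoδ₂Toδ₁ f₁₂ f₃ f₁₂₃ h₁₂₃))).ofLE
        (imageSubobject ((X.H n₁).map (twoδ₂Toδ₁ f₁₂ f₃ f₁₂₃ h₁₂₃)))
        (imageSubobject_comp_le _ _)) :=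
  EIsoCokernel X f₁ f₂ f₃ f₁₂ h₁₂ n₀ n₁ n₂ hn₁ hn₂ ≪≫
    grIso _ _ _ (X.zero₁ f₁₂ f₃ f₁₂₃ h₁₂₃ n₀ n₁ hn₁) (X.exact₁ f₁₂ f₃ f₁₂₃ h₁₂₃ n₀ n₁ hn₁)

/-- transport of a subquotient along equalities of subobjects -/
noncomputable def cokerOfLEIso {M : C} {A A' B B' : Subobject M} (hA : A = A') (hB : B = B')
    (h : A ≤ B) (h' : A' ≤ B') :
    cokernel (A.ofLE B h) ≅ cokernel (A'.ofLE B' h') := by
  subst hA hB
  exact Iso.refl _

end General

section EInt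

variable (Y : SpectralObject C EInt)

/-- the abutment objects `H^n(⊥ ≤ ⊤)` -/
noncomputable abbrev abut (n : ℤ) : C := (Y.H n).obj (mk₁ (homOfLE (bot_le : (⊥ : EInt) ≤ ⊤)))

/-- The canonical map `H^n(⊥ ≤ j) ⟶ H^n(⊥ ≤ ⊤)`. -/
noncomputable abbrev toAbut (n : ℤ) (j : EInt) :
    (Y.H n).obj (mk₁ (homOfLE (bot_le : (⊥ : EInt) ≤ j))) ⟶ abut Y n :=
  (Y.H n).map (twoδ₂Toδ₁' ⊥ j ⊤ bot_le le_top)

/-- the index `j(n,p) = n - p + 1`. -/
def jIdx (n p : ℤ) : EInt := ((n - p + 1 : ℤ) : EInt)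

/-- the filtration on the abutment -/
noncomputable def fil (n p : ℤ) : Subobject (abut Y n) :=
  imageSubobject (toAbut Y n (jIdx n p))

lemma toAbut_fac (n : ℤ) (j j' : EInt) (h : j ≤ j') :
    (Y.H n).map (twoδ₂Toδ₁' ⊥ j j' bot_le h) ≫ toAbut Y n j' = toAbut Y n j := by
  dsimp only [toAbut]
  rw [← Functor.map_comp]
  congr 1

lemma fil_anti (n : ℤ) : Antitone (fil Y n) := by
  intro p p' h
  have hj : jIdx n p' ≤ jIdx n p := by
    dsimp [jIdx]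
    simp only [WithBotTop.coe_le_coe]
    lia
  exact SpSeq.FilCx.imageSubobject_le_of_fac _ (toAbut_fac Y n _ _ hj)

section FirstQuadrant

variable [Y.IsFirstQuadrant]

/-- the page from which position `pq` is stationary -/
def rk (pq : ℤ × ℤ) : ℤ := max 2 (max (pq.1 + 1) (pq.2 + 2))

lemma two_le_rk (pq : ℤ × ℤ) : 2 ≤ rk pq := le_max_left _ _

lemma fst_lt_rk (pq : ℤ × ℤ) : pq.1 + 1 ≤ rk pq :=
  (le_max_left _ _).trans (le_max_right _ _)

lemma snd_lt_rk (pq : ℤ × ℤ) : pq.2 + 2 ≤ rk pq :=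
  (le_max_right _ _).trans (le_max_right _ _)

lemma isZero_page_of_fst_neg (r : ℤ) (hr : 2 ≤ r) (p q : ℤ) (hp : p < 0) :
    IsZero ((Y.E₂SpectralSequence.page r hr).X ⟨p, q⟩) :=
  SpectralObject.isZero_spectralSequence_page_X_of_isZero_H' _ _ _ hr _
    (Y.isZero₂_of_isFirstQuadrant _ _ _ _ (by simp; lia))

lemma isZero_page_of_snd_neg (r : ℤ) (hr : 2 ≤ r) (p q : ℤ) (hq : q < 0) :
    IsZero ((Y.E₂SpectralSequence.page r hr).X ⟨p, q⟩) :=
  SpectralObject.isZero_spectralSequence_page_X_of_isZero_H' _ _ _ hr _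
    (Y.isZero₁_of_isFirstQuadrant _ _ _ (by simp; lia) _)

lemma stat (pq : ℤ × ℤ) : SpSeq.StationaryAt Y.E₂SpectralSequence pq (rk pq) := by
  refine ⟨two_le_rk pq, fun r' h₀ hr => ⟨?_, ?_⟩⟩
  · apply IsZero.eq_of_src
    have := fst_lt_rk pq
    exact isZero_page_of_fst_neg Y r' h₀ _ _ (by simp; lia)
  · apply IsZero.eq_of_tgt
    have := snd_lt_rk pq
    exact isZero_page_of_snd_neg Y r' h₀ _ _ (by simp; lia)

omit [Y.IsFirstQuadrant] in
lemma toAbut_comp (n : ℤ) (j j' : EInt) (h : j ≤ j') :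
    (Y.H n).map (twoδ₂Toδ₁ (homOfLE (bot_le : (⊥ : EInt) ≤ j)) (homOfLE h) (homOfLE bot_le) rfl) ≫
      (Y.H n).map (twoδ₂Toδ₁ (homOfLE (bot_le : (⊥ : EInt) ≤ j')) (homOfLE le_top)
        (homOfLE bot_le) rfl) = toAbut Y n j := by
  dsimp only [toAbut]
  rw [← Functor.map_comp]
  congr 1

/-- The identification of the limit term at `(p, q)` with `gr^p H^{p+q}`. -/
noncomputable def β (pq : ℤ × ℤ) :
    (Y.E₂SpectralSequence.page (rk pq) (two_le_rk pq)).X pq ≅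
      SpSeq.grPiece (fil Y (pq.1 + pq.2)) (fil_anti Y (pq.1 + pq.2)) pq.1 :=
  have h01 : (((pq.2 - rk pq + 2 : ℤ) : ℤ) : EInt) ≤ jIdx (pq.1 + pq.2) (pq.1 + 1) := by
    have := two_le_rk pq
    dsimp [jIdx]
    simp only [WithBotTop.coe_le_coe]
    lia
  have h12 : jIdx (pq.1 + pq.2) (pq.1 + 1) ≤ jIdx (pq.1 + pq.2) pq.1 := by
    dsimp [jIdx]
    simp only [WithBotTop.coe_le_coe]
    lia
  have h23 : jIdx (pq.1 + pq.2) pq.1 ≤ (((pq.2 + rk pq - 1 : ℤ) : ℤ) : EInt) := by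
    have := two_le_rk pq
    dsimp [jIdx]
    simp only [WithBotTop.coe_le_coe]
    lia
  have e1 : jIdx (pq.1 + pq.2) (pq.1 + 1) = SpectralObject.coreE₂Cohomological.i₁ pq := by
    dsimp [jIdx]
    congr 1
    lia
  have e2 : jIdx (pq.1 + pq.2) pq.1 = SpectralObject.coreE₂Cohomological.i₂ pq := by
    dsimp [jIdx]
    congr 1
    lia
  have z3 : IsZero ((Y.H (pq.1 + pq.2 - 1)).obj
      (mk₁ (homOfLE (le_top : (((pq.2 + rk pq - 1 : ℤ) : ℤ) : EInt) ≤ ⊤)))) :=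
    Y.isZero₂_of_isFirstQuadrant _ _ _ _ (by
      have := fst_lt_rk pq
      simp only [WithBotTop.coe_lt_coe]
      lia)
  have z0 : IsZero ((Y.H (pq.1 + pq.2 + 1)).obj
      (mk₁ (homOfLE (bot_le : ⊥ ≤ (((pq.2 - rk pq + 2 : ℤ) : ℤ) : EInt))))) :=
    Y.isZero₁_of_isFirstQuadrant _ _ _ (by
      have := snd_lt_rk pq
      simp only [WithBotTop.coe_le_coe]
      lia) _
  Y.spectralSequencePageXIso SpectralObject.coreE₂Cohomological (rk pq) (two_le_rk pq) pq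
      _ _ _ _ rfl e1 e2 rfl (pq.1 + pq.2 - 1) (pq.1 + pq.2) (pq.1 + pq.2 + 1) rfl ≪≫
    Y.isoMapFourδ₄Toδ₃' _ _ _ _ ⊤ h01 h12 h23 le_top
      (pq.1 + pq.2 - 1) (pq.1 + pq.2) (pq.1 + pq.2 + 1) z3 ≪≫
    (Y.isoMapFourδ₁Toδ₀' ⊥ _ _ _ ⊤ bot_le h01 h12 le_top
      (pq.1 + pq.2 - 1) (pq.1 + pq.2) (pq.1 + pq.2 + 1) z0).symm ≪≫
    grE Y (homOfLE bot_le) (homOfLE h12) (homOfLE le_top) (homOfLE bot_le) rfl
      (homOfLE bot_le) rfl (pq.1 + pq.2 - 1) (pq.1 + pq.2) (pq.1 + pq.2 + 1) (by lia) (by lia) ≪≫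
    cokerOfLEIso (congrArg (fun f => imageSubobject f) (toAbut_comp Y _ _ _ h12)) rfl _ _

/-- The abutment of the spectral sequence of a first quadrant spectral object. -/
noncomputable def abutment : SpSeq.Abutment Y.E₂SpectralSequence (fun n => abut Y n) where
  fil := fil Y
  anti := fil_anti Y
  rk := rk
  stat := stat Y
  β := β Y

omit [Y.IsFirstQuadrant] in
lemma imageSubobject_eq_top_of_epi {M N : C} (f : M ⟶ N) [Epi f] : imageSubobject f = ⊤ := by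
  have : Epi (imageSubobject f).arrow :=
    epi_of_epi_fac (imageSubobject_arrow_comp f)
  have : IsIso (imageSubobject f).arrow := isIso_of_mono_of_epi _
  exact Subobject.eq_top_of_isIso_arrow _

omit [Y.IsFirstQuadrant] in
lemma imageSubobject_eq_bot_of_isZero {M N : C} (f : M ⟶ N) (h : IsZero M) :
    imageSubobject f = ⊥ := by
  obtain rfl : f = 0 := h.eq_of_src _ _
  exact imageSubobject_zero

lemma fil_eq_top (n p : ℤ) (hp : p ≤ 0) : fil Y n p = ⊤ := by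
  have hz : IsZero ((Y.H n).obj (mk₁ (homOfLE (le_top : jIdx n p ≤ ⊤)))) :=
    Y.isZero₂_of_isFirstQuadrant _ _ _ _ (by
      dsimp [jIdx]
      simp only [WithBotTop.coe_lt_coe]
      lia)
  have : Epi (toAbut Y n (jIdx n p)) :=
    (Y.exact₂ (homOfLE (bot_le : ⊥ ≤ jIdx n p)) (homOfLE le_top) (homOfLE bot_le) rfl n).epi_f
      (hz.eq_of_tgt _ _)
  exact imageSubobject_eq_top_of_epi _

lemma fil_eq_bot (n p : ℤ) (hp : n + 1 ≤ p) : fil Y n p = ⊥ := by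
  have hz : IsZero ((Y.H n).obj (mk₁ (homOfLE (bot_le : ⊥ ≤ jIdx n p)))) :=
    Y.isZero₁_of_isFirstQuadrant _ _ _ (by
      dsimp [jIdx]
      simp only [WithBotTop.coe_le_coe]
      lia) _
  exact imageSubobject_eq_bot_of_isZero _ hz

lemma abutment_isFinite (n : ℤ) : (abutment Y).IsFinite n :=
  ⟨⟨0, fil_eq_top Y n 0 le_rfl⟩, ⟨n + 1, fil_eq_bot Y n (n + 1) le_rfl⟩⟩

lemma isBounded : SpSeq.IsBounded Y.E₂SpectralSequence := by
  intro n
  refine (Set.finite_Icc (0 : ℤ) n).subset ?_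
  intro p hp
  simp only [Set.mem_ofPred_eq] at hp
  by_contra hcon
  simp only [Set.mem_Icc, not_and_or, not_le] at hcon
  rcases hcon with h | h
  · exact hp (isZero_page_of_fst_neg Y 2 le_rfl _ _ h)
  · exact hp (isZero_page_of_snd_neg Y 2 le_rfl _ _ (by lia))

/-- The second page: `E₂^{p,q} ≅ H^{p+q}(q ≤ q+1)`. -/
noncomputable def pageTwoIso (p q : ℤ) :
    (Y.E₂SpectralSequence.page 2 le_rfl).X (p, q) ≅
      (Y.H (p + q)).obj (mk₁ (homOfLE (show ((q : ℤ) : EInt) ≤ ((q + 1 : ℤ) : EInt) by simp))) :=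
  Y.spectralSequenceFirstPageXIso SpectralObject.coreE₂Cohomological (p, q) _ _ rfl rfl _ rfl

end FirstQuadrant

end EInt

section Transport

variable {r₀ : ℤ} {E : CohomologicalSpectralSequence C r₀} {H H' : ℤ → C}

/-- transport of a subobject along an isomorphism -/
noncomputable def trSub {M N : C} (e : M ≅ N) (A : Subobject M) : Subobject N :=
  Subobject.mk (A.arrow ≫ e.hom)

omit [Abelian C] in
lemma trSub_mono {M N : C} (e : M ≅ N) {A B : Subobject M} (h : A ≤ B) :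
    trSub e A ≤ trSub e B :=
  Subobject.mk_le_mk_of_comm (A.ofLE B h) (by simp)

omit [Abelian C] in
lemma trSub_top {M N : C} (e : M ≅ N) : trSub e (⊤ : Subobject M) = ⊤ := by
  dsimp only [trSub]
  rw [← Subobject.isIso_iff_mk_eq_top]
  infer_instance

lemma trSub_bot {M N : C} (e : M ≅ N) : trSub e (⊥ : Subobject M) = ⊥ := by
  dsimp only [trSub]
  rw [Subobject.mk_eq_bot_iff_zero, Subobject.bot_arrow, zero_comp]

/-- the underlying object of the transported subobject -/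
noncomputable def trSubIso {M N : C} (e : M ≅ N) (A : Subobject M) :
    (trSub e A : C) ≅ (A : C) :=
  Subobject.underlyingIso _

omit [Abelian C] in
lemma trSubIso_comm {M N : C} (e : M ≅ N) {A B : Subobject M} (h : A ≤ B) :
    (trSub e A).ofLE (trSub e B) (trSub_mono e h) ≫ (trSubIso e B).hom =
      (trSubIso e A).hom ≫ A.ofLE B h := by
  dsimp only [trSub, trSubIso, trSub_mono]
  rw [Subobject.ofLE_mk_le_mk_of_comm (A.ofLE B h) (by simp)]
  simp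

/-- transport of a subquotient -/
noncomputable def trSubquotIso {M N : C} (e : M ≅ N) {A B : Subobject M} (h : A ≤ B) :
    cokernel ((trSub e A).ofLE (trSub e B) (trSub_mono e h)) ≅ cokernel (A.ofLE B h) :=
  cokernel.mapIso _ _ (trSubIso e A) (trSubIso e B) (trSubIso_comm e h)

/-- Transport of an abutment along isomorphisms of the abutment objects. -/
noncomputable def abutmentOfIso (a : SpSeq.Abutment E H) (e : ∀ n, H n ≅ H' n) :
    SpSeq.Abutment E H' where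
  fil n p := trSub (e n) (a.fil n p)
  anti n := fun _ _ h => trSub_mono (e n) (a.anti n h)
  rk := a.rk
  stat := a.stat
  β pq := a.β pq ≪≫ (trSubquotIso (e (pq.1 + pq.2)) _).symm

lemma abutmentOfIso_isFinite (a : SpSeq.Abutment E H) (e : ∀ n, H n ≅ H' n) (n : ℤ)
    (h : a.IsFinite n) : (abutmentOfIso a e).IsFinite n := by
  obtain ⟨⟨p, hp⟩, ⟨q, hq⟩⟩ := h
  refine ⟨⟨p, ?_⟩, ⟨q, ?_⟩⟩
  · show trSub (e n) (a.fil n p) = ⊤
    have hp' : a.fil n p = ⊤ := hp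
    rw [hp', trSub_top]
  · show trSub (e n) (a.fil n q) = ⊥
    have hq' : a.fil n q = ⊥ := hq
    rw [hq', trSub_bot]

end Transport

/-- Packaged form: the spectral sequence of a first quadrant spectral object is bounded and
abuts (with finite filtrations) to any family of objects isomorphic to the `H^n(⊥ ≤ ⊤)`. -/
theorem exists_abutment (Y : SpectralObject C EInt) [Y.IsFirstQuadrant] (H' : ℤ → C)
    (e : ∀ n, abut Y n ≅ H' n) :
    ∃ (a : SpSeq.Abutment Y.E₂SpectralSequence H'),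
      (∀ n, a.IsFinite n) ∧ SpSeq.IsBounded Y.E₂SpectralSequence :=
  ⟨abutmentOfIso (abutment Y) e,
    fun n => abutmentOfIso_isFinite _ _ n (abutment_isFinite Y n), isBounded Y⟩

end Groth.Agent.Lib.SpObjAbut
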