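import Mathlib

/-!
# Abelian spectral object from a triangulated spectral object and a homological functor
(helper65; piece (B1) of the spectral sequence keystone)

* `mapHomological X F : Abelian.SpectralObject A ι` for `X : Triangulated.SpectralObject C ι`
  and a homological functor `F : C ⥤ A` with a shift sequence: `H n = X.ω₁ ⋙ F.shift n`,
  `δ = F.homologySequenceδ (X.triangle f g)`.
* `mapHomologicalFunctor F ι : Triangulated.SpectralObject C ι ⥤ Abelian.SpectralObject A ι`.
* `mapHomologicalMapTriangulatedIso`-style compatibilities are left to users (`rfl` on `H`).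
-/

namespace Groth.Agent.Lib.SpObjHom65

open CategoryTheory Category Limits Pretriangulated ComposableArrows

variable {C ι A : Type*} [Category C] [Category ι] [HasZeroObject C] [HasShift C ℤ]
  [Preadditive C] [∀ n : ℤ, (shiftFunctor C n).Additive] [Pretriangulated C]
  [Category A] [Abelian A]

/-- The spectral object in the abelian category `A` obtained by applying a homological
functor `F : C ⥤ A` (with a shift sequence) to a spectral object `X` of the
(pre)triangulated category `C`: `H n = X.ω₁ ⋙ F.shift n`. -/
noncomputable def mapHomological (X : Triangulated.SpectralObject C ι) (F : C ⥤ A)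
    [F.IsHomological] [F.ShiftSequence ℤ] : Abelian.SpectralObject A ι where
  H n := X.ω₁ ⋙ F.shift n
  δ' n₀ n₁ h :=
    { app D := F.homologySequenceδ (X.ω₂.obj D) n₀ n₁ h
      naturality D D' φ := F.homologySequenceδ_naturality _ _ (X.ω₂.map φ) n₀ n₁ h }
  exact₁' n₀ n₁ h D :=
    (F.homologySequence_exact₁ _ (X.ω₂_obj_distinguished D) n₀ n₁ h).exact_toComposableArrows
  exact₂' n D :=
    (F.homologySequence_exact₂ _ (X.ω₂_obj_distinguished D) n).exact_toComposableArrows
  exact₃' n₀ n₁ h D :=
    (F.homologySequence_exact₃ _ (X.ω₂_obj_distinguished D) n₀ n₁ h).exact_toComposableArrows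

section

variable (X : Triangulated.SpectralObject C ι) (F : C ⥤ A)
    [F.IsHomological] [F.ShiftSequence ℤ]

@[simp]
lemma mapHomological_H (n : ℤ) : (mapHomological X F).H n = X.ω₁ ⋙ F.shift n := rfl

lemma mapHomological_H_obj (n : ℤ) (D : ComposableArrows ι 1) :
    ((mapHomological X F).H n).obj D = (F.shift n).obj (X.ω₁.obj D) := rfl

lemma mapHomological_H_map (n : ℤ) {D D' : ComposableArrows ι 1} (φ : D ⟶ D') :
    ((mapHomological X F).H n).map φ = (F.shift n).map (X.ω₁.map φ) := rfl

lemma mapHomological_δ {i j k : ι} (f : i ⟶ j) (g : j ⟶ k) (n₀ n₁ : ℤ) (h : n₀ + 1 = n₁) :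
    (mapHomological X F).δ f g n₀ n₁ h = F.homologySequenceδ (X.triangle f g) n₀ n₁ h := rfl

lemma mapHomological_δ_eq_shiftMap {i j k : ι} (f : i ⟶ j) (g : j ⟶ k) (n₀ n₁ : ℤ)
    (h : n₀ + 1 = n₁) :
    (mapHomological X F).δ f g n₀ n₁ h =
      F.shiftMap (X.δ f g) n₀ n₁ (by rw [add_comm 1, h]) := rfl

/-- If `F.shift n` kills `X.ω₁.obj D`, the corresponding term of the abelian spectral object
vanishes. -/
lemma isZero_mapHomological_H_obj (n : ℤ) (D : ComposableArrows ι 1)
    (h : IsZero ((F.shift n).obj (X.ω₁.obj D))) :
    IsZero (((mapHomological X F).H n).obj D) := h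

end

/-- `mapHomological` is functorial in the triangulated spectral object. -/
noncomputable def mapHomologicalFunctor (F : C ⥤ A) [F.IsHomological] [F.ShiftSequence ℤ]
    (ι : Type*) [Category ι] :
    Triangulated.SpectralObject C ι ⥤ Abelian.SpectralObject A ι where
  obj X := mapHomological X F
  map {X Y} α :=
    { hom n := Functor.whiskerRight α.hom (F.shift n)
      comm n₀ n₁ h i j k f g := by
        simp only [mapHomological_δ_eq_shiftMap]
        dsimp
        rw [← F.shiftMap_comp', ← F.shiftMap_comp, α.comm f g] }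
  map_id X := Abelian.SpectralObject.Hom.ext (by funext n; ext D; simp)
  map_comp α β := Abelian.SpectralObject.Hom.ext (by funext n; ext D; simp)

end Groth.Agent.Lib.SpObjHom65
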