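import Mathlib
import Groth.Agent.Lib.SpObjHom65

/-!
# The truncation spectral object of a t-structure, pushed to an abelian category
(helper65; piece (B3) of the spectral sequence keystone, generic part)
-/

namespace Groth.Agent.Lib.SpObjTrunc65

open CategoryTheory Category Limits Pretriangulated ComposableArrows Triangulated
open Groth.Agent.Lib.SpObjHom65

variable {C D A : Type*} [Category C] [Preadditive C] [HasZeroObject C] [HasShift C ℤ]
  [∀ n : ℤ, (shiftFunctor C n).Additive] [Pretriangulated C] [IsTriangulated C]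
  [Category D] [Preadditive D] [HasZeroObject D] [HasShift D ℤ]
  [∀ n : ℤ, (shiftFunctor D n).Additive] [Pretriangulated D]
  [Category A] [Abelian A]

section

variable (t : TStructure C) (G : C ⥤ D) [G.CommShift ℤ] [G.IsTriangulated]
  (F : D ⥤ A) [F.IsHomological] [F.ShiftSequence ℤ]

/-- The spectral object `(i ≤ j) ↦ F^n(G(τ_{≥ i} τ_{< j} K))` in the abelian category `A`
attached to an object `K` of a triangulated category with t-structure `t`, a triangulated
functor `G` and a homological functor `F`. -/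
noncomputable def truncSpObj (K : C) : Abelian.SpectralObject A EInt :=
  mapHomological ((t.spectralObject K).mapTriangulatedFunctor G) F

lemma truncSpObj_H_obj (K : C) (n : ℤ) (i j : EInt) (hij : i ≤ j) :
    ((truncSpObj t G F K).H n).obj (mk₁ (homOfLE hij)) =
      (F.shift n).obj (G.obj ((t.eTruncGE.obj i).obj ((t.eTruncLT.obj j).obj K))) := rfl

/-- The term at `⊥ ≤ ⊤` is `F^n(G K)`. -/
noncomputable def truncSpObjHBotTopIso (K : C) (n : ℤ) (h : (⊥ : EInt) ≤ ⊤) :
    ((truncSpObj t G F K).H n).obj (mk₁ (homOfLE h)) ≅ (F.shift n).obj (G.obj K) :=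
  Iso.refl _

lemma isZero_shift_obj_of_isZero (n : ℤ) {X : D} (hX : IsZero X) :
    IsZero ((F.shift n).obj X) := by
  have : IsZero ((shiftFunctor D n ⋙ F).obj X) :=
    Functor.map_isZero F (Functor.map_isZero (shiftFunctor D n) hX)
  exact this.of_iso ((F.isoShift n).symm.app X)

/-- First quadrant criterion: `K ≥ 0` and `F^n ∘ G` kills objects which are `≥ i` when
`n < i`. -/
lemma isFirstQuadrant_truncSpObj (K : C) [t.IsGE K 0]
    (h : ∀ (X : C) (i n : ℤ), n < i → t.IsGE X i → IsZero ((F.shift n).obj (G.obj X))) :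
    (truncSpObj t G F K).IsFirstQuadrant where
  isZero₁ i j hij hj n := by
    rw [truncSpObj_H_obj]
    apply isZero_shift_obj_of_isZero
    apply Functor.map_isZero
    apply Functor.map_isZero
    exact t.isZero_eTruncLT_obj_obj K 0 j hj
  isZero₂ i j hij n hi := by
    rw [truncSpObj_H_obj]
    induction i using WithBotTop.rec with
    | bot => simp at hi
    | coe i =>
      exact h _ i n (by simpa using hi) (t.isGE_eTruncGE_obj_obj i i le_rfl _)
    | top =>
      apply isZero_shift_obj_of_isZero
      apply Functor.map_isZero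
      simp

end

section TExact

variable (t : TStructure C) (H : C ⥤ A) [H.IsHomological] [H.ShiftSequence ℤ]

/-- A homological functor is t-exact (cohomological amplitude `[0,0]`) if `H^n` kills objects
which are `≥ i` for `n < i` and objects which are `≤ i` for `i < n`. -/
structure IsTExact : Prop where
  isZero_of_isGE (X : C) (i n : ℤ) (hn : n < i) (hX : t.IsGE X i) : IsZero ((H.shift n).obj X)
  isZero_of_isLE (X : C) (i n : ℤ) (hn : i < n) (hX : t.IsLE X i) : IsZero ((H.shift n).obj X)

variable {t H}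

omit [IsTriangulated C] in
lemma IsTExact.isIso_shift_map_truncLTι (h : IsTExact t H) (K : C) (q n : ℤ) (hn : n < q) :
    IsIso ((H.shift n).map ((t.truncLTι q).app K)) := by
  have hT := t.triangleLTGE_distinguished q K
  have h₁ : Mono ((H.shift n).map ((t.truncLTι q).app K)) :=
    (H.homologySequence_mono_shift_map_mor₁_iff _ hT (n - 1) n (by lia)).2
      ((h.isZero_of_isGE _ q (n - 1) (by lia) inferInstance).eq_of_src _ _)
  have h₂ : Epi ((H.shift n).map ((t.truncLTι q).app K)) :=
    (H.homologySequence_epi_shift_map_mor₁_iff _ hT n).2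
      ((h.isZero_of_isGE _ q n hn inferInstance).eq_of_tgt _ _)
  exact isIso_of_mono_of_epi _

omit [IsTriangulated C] in
lemma IsTExact.isIso_shift_map_truncGEπ (h : IsTExact t H) (K : C) (q n : ℤ) (hn : q ≤ n) :
    IsIso ((H.shift n).map ((t.truncGEπ q).app K)) := by
  have hT := t.triangleLTGE_distinguished q K
  have h₁ : Mono ((H.shift n).map ((t.truncGEπ q).app K)) :=
    (H.homologySequence_mono_shift_map_mor₂_iff _ hT n).2
      ((h.isZero_of_isLE _ (q - 1) n (by lia) inferInstance).eq_of_src _ _)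
  have h₂ : Epi ((H.shift n).map ((t.truncGEπ q).app K)) :=
    (H.homologySequence_epi_shift_map_mor₂_iff _ hT n (n + 1) rfl).2
      ((h.isZero_of_isLE _ (q - 1) (n + 1) (by lia) inferInstance).eq_of_tgt _ _)
  exact isIso_of_mono_of_epi _

/-- `H^q(τ_{≥ q} τ_{< q+1} K) ≅ H^q(K)` for a t-exact homological functor. -/
noncomputable def IsTExact.shiftObjTruncGELTIso (h : IsTExact t H) (K : C) (q : ℤ) :
    (H.shift q).obj ((t.truncGE q).obj ((t.truncLT (q + 1)).obj K)) ≅ (H.shift q).obj K :=
  have := h.isIso_shift_map_truncGEπ ((t.truncLT (q + 1)).obj K) q q le_rfl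
  have := h.isIso_shift_map_truncLTι K (q + 1) q (by lia)
  (asIso ((H.shift q).map ((t.truncGEπ q).app ((t.truncLT (q + 1)).obj K)))).symm ≪≫
    asIso ((H.shift q).map ((t.truncLTι (q + 1)).app K))

end TExact

section Derived

universe w v u

variable {C₀ : Type u} [Category.{v} C₀] [Abelian C₀] [HasDerivedCategory.{w} C₀]

open DerivedCategory

/-- An object of `D(C₀)` concentrated in degree `q` is the single complex of its `H^q`. -/
lemma nonempty_iso_singleFunctor_homology (X : DerivedCategory C₀) (q : ℤ) [X.IsGE q] [X.IsLE q] :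
    Nonempty (X ≅ (DerivedCategory.singleFunctor C₀ q).obj
      ((DerivedCategory.homologyFunctor C₀ q).obj X)) := by
  obtain ⟨Y, ⟨e⟩⟩ := DerivedCategory.exists_iso_singleFunctor_obj_of_isGE_of_isLE X q
  have e' : (DerivedCategory.homologyFunctor C₀ q).obj X ≅ Y :=
    (DerivedCategory.homologyFunctor C₀ q).mapIso e ≪≫
      (DerivedCategory.singleFunctorCompHomologyFunctorIso C₀ q).app Y
  exact ⟨e ≪≫ (DerivedCategory.singleFunctor C₀ q).mapIso e'.symm⟩

/-- An object of `D⁺(C₀)` concentrated in degree `q` is the single complex of its `H^q`. -/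
lemma plus_nonempty_iso_singleFunctor_homology (X : DerivedCategory.Plus C₀) (q : ℤ)
    [X.IsGE q] [X.IsLE q] :
    Nonempty (X ≅ (DerivedCategory.Plus.singleFunctor C₀ q).obj
      ((DerivedCategory.Plus.homologyFunctor C₀ q).obj X)) := by
  obtain ⟨e⟩ := nonempty_iso_singleFunctor_homology (DerivedCategory.Plus.ι.obj X) q
  exact ⟨DerivedCategory.Plus.ι.preimageIso e⟩

/-- The homology functor on `D⁺(C₀)` is t-exact. -/
lemma plus_isTExact_homologyFunctor :
    IsTExact (DerivedCategory.Plus.TStructure.t (C := C₀))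
      (DerivedCategory.Plus.homologyFunctor C₀ 0) where
  isZero_of_isGE X i n hn hX := DerivedCategory.Plus.isZero_homology_of_isGE X i n hn
  isZero_of_isLE X i n hn hX := DerivedCategory.Plus.isZero_homology_of_isLE X i n hn

/-- `τ_{≥ q} τ_{< q+1} K ≅ (H^q K)[-q]` in `D⁺(C₀)`. -/
lemma plus_nonempty_truncGELT_iso (K : DerivedCategory.Plus C₀) (q : ℤ) :
    Nonempty ((DerivedCategory.Plus.TStructure.t.truncGE q).obj
        ((DerivedCategory.Plus.TStructure.t.truncLT (q + 1)).obj K) ≅
      (DerivedCategory.Plus.singleFunctor C₀ q).obj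
        ((DerivedCategory.Plus.homologyFunctor C₀ q).obj K)) := by
  let t := DerivedCategory.Plus.TStructure.t (C := C₀)
  let X := (t.truncGE q).obj ((t.truncLT (q + 1)).obj K)
  have : X.IsGE q := inferInstanceAs (t.IsGE ((t.truncGE q).obj _) q)
  have : X.IsLE q := inferInstanceAs (t.IsLE ((t.truncGE q).obj ((t.truncLT (q + 1)).obj K)) q)
  obtain ⟨e⟩ := plus_nonempty_iso_singleFunctor_homology X q
  exact ⟨e ≪≫ (DerivedCategory.Plus.singleFunctor C₀ q).mapIso
    (plus_isTExact_homologyFunctor.shiftObjTruncGELTIso K q)⟩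

section

variable (G : DerivedCategory.Plus C₀ ⥤ D) [G.CommShift ℤ] [G.IsTriangulated]
  (F : D ⥤ A) [F.IsHomological] [F.ShiftSequence ℤ]

/-- The terms `H^n(q ≤ q+1)` of the truncation spectral object of `K : D⁺(C₀)` pushed by
`G` and `F` are `F^n(G((H^q K)[-q]))`. -/
lemma plus_nonempty_truncSpObj_H_iso (K : DerivedCategory.Plus C₀) (q n : ℤ)
    (hq : ((q : ℤ) : EInt) ≤ ((q + 1 : ℤ) : EInt)) :
    Nonempty (((truncSpObj DerivedCategory.Plus.TStructure.t G F K).H n).obj (mk₁ (homOfLE hq)) ≅
      (F.shift n).obj (G.obj ((DerivedCategory.Plus.singleFunctor C₀ q).obj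
        ((DerivedCategory.Plus.homologyFunctor C₀ q).obj K)))) := by
  obtain ⟨e⟩ := plus_nonempty_truncGELT_iso K q
  exact ⟨(F.shift n).mapIso (G.mapIso e)⟩

end

section

variable {C₁ : Type*} [Category C₁] [Abelian C₁] [HasDerivedCategory C₁]
  (G : DerivedCategory.Plus C₀ ⥤ DerivedCategory.Plus C₁) [G.CommShift ℤ] [G.IsTriangulated]

/-- For a left t-exact triangulated functor `G : D⁺(C₀) ⥤ D⁺(C₁)` and `K ≥ 0`, the truncation
spectral object of `K` pushed by `G` and the homology functor is first quadrant. -/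
lemma plus_isFirstQuadrant_truncSpObj (K : DerivedCategory.Plus C₀) [K.IsGE 0]
    (hG : ∀ (X : DerivedCategory.Plus C₀) (i : ℤ), X.IsGE i → (G.obj X).IsGE i) :
    (truncSpObj DerivedCategory.Plus.TStructure.t G
      (DerivedCategory.Plus.homologyFunctor C₁ 0) K).IsFirstQuadrant :=
  isFirstQuadrant_truncSpObj _ _ _ K (fun X i n hn hX =>
    have := hG X i hX
    DerivedCategory.Plus.isZero_homology_of_isGE (G.obj X) i n hn)

end

end Derived

end Groth.Agent.Lib.SpObjTrunc65
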