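import Groth.Agent.Lib.GrothSS21
import Groth.Agent.Lib.SpObjAbut
import Groth.Agent.Lib.SpObjTrunc65

/-!
# The hypercohomology and Grothendieck spectral sequences (helper21)

* `hyperSpObj S K` : the first quadrant spectral object `Hⁿ(i ≤ j) = Hⁿ(R⁺S(τ_{≥ i} τ_{< j} K))`.
* `exists_hyper_spectralSequence` : for `K : D⁺(C)`, `K ≥ 0`, an `E₂` spectral sequence
  `E₂^{p,q} = RᵖS(H^q K) ⇒ H^{p+q}(R⁺S K)`.
* `exists_grothendieck_spectralSequence` : `E₂^{p,q} = RᵖS(R^qT A) ⇒ R^{p+q}(T ⋙ S) A`.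
-/

set_option autoImplicit false

open CategoryTheory Limits Pretriangulated ComposableArrows
open scoped ZeroObject

namespace Groth.Agent.Lib.GrothSS21

open Groth.Agent.RDPlus31 Groth.Agent.Lib.RDPlusTri21 Groth.Agent.Lib.SpObjHom65
  Groth.Agent.Lib.SpObjTrunc65 Groth.Agent.Lib.SpObjAbut

universe v u

section Hyper

variable {C D : Type u} [Category.{v} C] [Category.{v} D] [Abelian C] [Abelian D]
  [HasDerivedCategory C] [HasDerivedCategory D] [EnoughInjectives C]
  (S : C ⥤ D) [S.Additive]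

/-- The spectral object in `D` attached to `K : D⁺(C)` and the functor `S`:
`Hⁿ(i ≤ j) = Hⁿ(R⁺S(τ_{≥ i} τ_{< j} K))`. -/
noncomputable abbrev hyperSpObj (K : DerivedCategory.Plus C) : Abelian.SpectralObject D EInt :=
  truncSpObj DerivedCategory.Plus.TStructure.t S.rightDerivedFunctorPlus
    (DerivedCategory.Plus.homologyFunctor D 0) K

instance isFirstQuadrant_hyperSpObj (K : DerivedCategory.Plus C) [K.IsGE 0] :
    (hyperSpObj S K).IsFirstQuadrant :=
  plus_isFirstQuadrant_truncSpObj _ K (fun X i _ => isGE_RF_obj S X i)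

/-- The abutment of the spectral object: `Hⁿ(R⁺S K)`. -/
noncomputable def hyperAbutIso (K : DerivedCategory.Plus C) (n : ℤ) :
    abut (hyperSpObj S K) n ≅
      (DerivedCategory.Plus.homologyFunctor D n).obj (S.rightDerivedFunctorPlus.obj K) :=
  Iso.refl _

/-- The `E₂`-terms of the spectral sequence of `hyperSpObj S K`. -/
lemma nonempty_hyper_pageTwoIso (K : DerivedCategory.Plus C) [K.IsGE 0] (p q : ℤ) :
    Nonempty (((hyperSpObj S K).E₂SpectralSequence.page 2 le_rfl).X (p, q) ≅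
      (hyp S p).obj ((DerivedCategory.Plus.homologyFunctor C q).obj K)) := by
  obtain ⟨e⟩ := plus_nonempty_truncSpObj_H_iso S.rightDerivedFunctorPlus
    (DerivedCategory.Plus.homologyFunctor D 0) K q (p + q) (by simp)
  exact ⟨pageTwoIso (hyperSpObj S K) p q ≪≫ e ≪≫
    homologyRSingleIso S _ q (p + q) p (by lia)⟩

/-- **The hypercohomology spectral sequence** `E₂^{p,q} = RᵖS(H^q K) ⇒ H^{p+q}(R⁺S K)` for
`K : D⁺(C)` cohomologically in degrees `≥ 0`, with arbitrary identifications of the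
abutment and of the cohomology objects of `K`. -/
theorem exists_hyper_spectralSequence (K : DerivedCategory.Plus C) [K.IsGE 0]
    (H' : ℤ → D)
    (eH : ∀ n, Nonempty ((DerivedCategory.Plus.homologyFunctor D n).obj
      (S.rightDerivedFunctorPlus.obj K) ≅ H' n))
    (M : ℕ → C)
    (eM : ∀ q : ℕ, Nonempty ((DerivedCategory.Plus.homologyFunctor C (q : ℤ)).obj K ≅ M q)) :
    ∃ (E : E₂CohomologicalSpectralSequence D) (a : SpSeq.Abutment E H'),
      (∀ n, a.IsFinite n) ∧ SpSeq.IsBounded E ∧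
      ∀ p q : ℤ, Nonempty ((E.page 2 le_rfl).X (p, q) ≅
        (if 0 ≤ p ∧ 0 ≤ q then (S.rightDerived p.toNat).obj (M q.toNat) else 0)) := by
  obtain ⟨a, ha, hb⟩ := exists_abutment (hyperSpObj S K) H'
    (fun n => hyperAbutIso S K n ≪≫ (eH n).some)
  refine ⟨_, a, ha, hb, fun p q => ?_⟩
  by_cases hpq : 0 ≤ p ∧ 0 ≤ q
  · rw [if_pos hpq]
    obtain ⟨e⟩ := nonempty_hyper_pageTwoIso S K p q
    obtain ⟨e'⟩ : Nonempty ((DerivedCategory.Plus.homologyFunctor C q).obj K ≅ M q.toNat) := by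
      have := eM q.toNat
      rwa [Int.toNat_of_nonneg hpq.2] at this
    exact ⟨e ≪≫ (hyp S p).mapIso e' ≪≫
      hypObjIso S _ p p.toNat (Int.toNat_of_nonneg hpq.1).symm⟩
  · rw [if_neg hpq]
    refine ⟨IsZero.iso ?_ (isZero_zero _)⟩
    rw [not_and_or, not_le, not_le] at hpq
    rcases hpq with h | h
    · exact isZero_page_of_fst_neg _ 2 le_rfl _ _ h
    · exact isZero_page_of_snd_neg _ 2 le_rfl _ _ h

end Hyper

section Grothendieck

variable {C C' C'' : Type u} [Category.{v} C] [Category.{v} C'] [Category.{v} C'']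
  [Abelian C] [Abelian C'] [Abelian C'']
  [HasDerivedCategory C] [HasDerivedCategory C'] [HasDerivedCategory C'']
  [EnoughInjectives C] [EnoughInjectives C']
  (T : C ⥤ C') [T.Additive] (S : C' ⥤ C'') [S.Additive] [PreservesFiniteLimits S]

/-- `Hⁿ` of `R⁺F` applied to `A[0]` is `RⁿF(A)` for `n ≥ 0` and zero otherwise. -/
lemma nonempty_hyp_iso_ite {A B : Type u} [Category.{v} A] [Category.{v} B] [Abelian A] [Abelian B]
    [HasDerivedCategory A] [HasDerivedCategory B] [EnoughInjectives A]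
    (F : A ⥤ B) [F.Additive] (X : A) (n : ℤ) :
    Nonempty ((hyp F n).obj X ≅ (if 0 ≤ n then (F.rightDerived n.toNat).obj X else 0)) := by
  by_cases hn : 0 ≤ n
  · rw [if_pos hn]
    exact ⟨hypObjIso F X n n.toNat (Int.toNat_of_nonneg hn).symm⟩
  · rw [if_neg hn]
    exact ⟨IsZero.iso (isZero_hyp_of_neg F X n (by lia)) (isZero_zero _)⟩

/-- **The Grothendieck spectral sequence** `E₂^{p,q} = RᵖS(R^qT A) ⇒ R^{p+q}(T ⋙ S) A`. -/
theorem exists_grothendieck_spectralSequence
    (hT : ∀ Q : C, Injective Q → ∀ q : ℕ, 0 < q → IsZero ((S.rightDerived q).obj (T.obj Q)))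
    (A : C) :
    ∃ (E : E₂CohomologicalSpectralSequence C'')
      (a : SpSeq.Abutment E
        (fun n : ℤ => if 0 ≤ n then ((T ⋙ S).rightDerived n.toNat).obj A else 0)),
      (∀ n, a.IsFinite n) ∧ SpSeq.IsBounded E ∧
      ∀ p q : ℤ, Nonempty ((E.page 2 le_rfl).X (p, q) ≅
        (if 0 ≤ p ∧ 0 ≤ q then
          (S.rightDerived p.toNat).obj ((T.rightDerived q.toNat).obj A) else 0)) := by
  let K : DerivedCategory.Plus C' :=
    T.rightDerivedFunctorPlus.obj ((DerivedCategory.Plus.singleFunctor C 0).obj A)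
  have : K.IsGE 0 := isGE_RF_obj T _ 0
  obtain ⟨c⟩ := nonempty_comp_iso_of_uAcyc T S (Iso.refl (T ⋙ S))
    (fun I hI => uAcyc_of_rightDerived S (T.obj I) (hT I hI))
  refine exists_hyper_spectralSequence S K _ (fun n => ?_) (fun q => (T.rightDerived q).obj A)
    (fun q => ?_)
  · obtain ⟨e⟩ := nonempty_hyp_iso_ite (T ⋙ S) A n
    exact ⟨(DerivedCategory.Plus.homologyFunctor C'' n).mapIso
      (c.app ((DerivedCategory.Plus.singleFunctor C 0).obj A)) ≪≫ e⟩
  · exact ⟨hypObjIso T A (q : ℤ) q rfl⟩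

end Grothendieck

end Groth.Agent.Lib.GrothSS21
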