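-- Helper library (helper57): a surjection of representations whose kernel is uniquely
-- `|G|`-divisible induces bijections on higher group cohomology.
import Groth.Agent.Lib.GroupCohCard
import Mathlib.RepresentationTheory.Homological.GroupCohomology.LongExactSequence

set_option autoImplicit false
universe u
open CategoryTheory groupCohomology Rep Limits

namespace Groth.Agent.Lib.GroupCohKer57
variable {k G : Type u} [CommRing k] [Group G] {A B : Rep.{u} k G} (φ : A ⟶ B)

/-- The kernel of a morphism of representations, as an invariant submodule. -/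
def kerSub : Submodule k A := LinearMap.ker φ.hom.toLinearMap

lemma mem_kerSub (x : A) : x ∈ kerSub φ ↔ φ.hom x = 0 := Iff.rfl

lemma kerSub_le_comap (g : G) : kerSub φ ≤ (kerSub φ).comap (A.ρ g) := by
  intro x hx
  rw [Submodule.mem_comap, mem_kerSub, Rep.hom_comm_apply, (mem_kerSub φ x).mp hx, map_zero]

/-- The kernel of a morphism of representations, as a representation. -/
noncomputable abbrev kerRep : Rep.{u} k G := Rep.subrepresentation A (kerSub φ) (kerSub_le_comap φ)

/-- The inclusion of the kernel. -/
noncomputable abbrev kerι : kerRep φ ⟶ A := Rep.subtype A (kerSub φ) (kerSub_le_comap φ)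

lemma kerι_comp : kerι φ ≫ φ = 0 := by
  ext x
  exact x.2

/-- The short complex `ker φ ⟶ A ⟶ B`. -/
noncomputable def kerSC : ShortComplex (Rep.{u} k G) := ShortComplex.mk (kerι φ) φ (kerι_comp φ)

theorem kerSC_shortExact (hφ : Function.Surjective φ.hom) : (kerSC φ).ShortExact := by
  refine ShortComplex.ShortExact.mk' ?_ ?_ ?_
  · rw [← ShortComplex.exact_map_iff_of_faithful _ (forget₂ (Rep k G) (ModuleCat k)),
      ShortComplex.moduleCat_exact_iff]
    intro x hx
    exact ⟨⟨x, hx⟩, rfl⟩
  · exact (Rep.mono_iff_injective _).mpr Subtype.val_injective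
  · exact (Rep.epi_iff_surjective _).mpr hφ

/-- If `φ` is surjective and the cohomology of its kernel vanishes in degrees `n` and `n + 1`,
then `Hⁿ(φ)` is bijective. -/
theorem bijective_of_subsingleton (hφ : Function.Surjective φ.hom) (n : ℕ)
    (h0 : Subsingleton (groupCohomology (kerRep φ) n))
    (h1 : Subsingleton (groupCohomology (kerRep φ) (n + 1))) :
    Function.Bijective ((functor k G n).map φ).hom := by
  have hX := kerSC_shortExact φ hφ
  constructor
  · rw [injective_iff_map_eq_zero]
    intro c hc
    have h2 := mapShortComplex₂_exact hX n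
    rw [ShortComplex.moduleCat_exact_iff] at h2
    obtain ⟨c1, rfl⟩ := h2 c hc
    have hc1 : c1 = 0 := h0.elim _ _
    rw [hc1]
    exact map_zero (mapShortComplex₂ (kerSC φ) n).f.hom
  · intro c
    have h3 := mapShortComplex₃_exact hX (i := n) (j := n + 1) rfl
    rw [ShortComplex.moduleCat_exact_iff] at h3
    exact h3 c (h1.elim _ _)

/-- If `φ` is surjective and multiplication by `|G|` is bijective on its kernel, then `Hⁿ(φ)` is
bijective for all `n ≥ 1`. -/
theorem bijective_of_kernel_divisible [Finite G] (hφ : Function.Surjective φ.hom)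
    (hinj : ∀ x : A, φ.hom x = 0 → Nat.card G • x = 0 → x = 0)
    (hsurj : ∀ x : A, φ.hom x = 0 → ∃ y : A, φ.hom y = 0 ∧ Nat.card G • y = x)
    (n : ℕ) (hn : 1 ≤ n) :
    Function.Bijective ((functor k G n).map φ).hom := by
  have hbij : Function.Bijective fun a : kerRep φ => Nat.card G • a := by
    constructor
    · intro a b hab
      have hab' : Nat.card G • (a - b) = 0 := by
        rw [smul_sub]
        exact sub_eq_zero.mpr hab
      have h2 : ((a - b : kerRep φ) : A) = 0 :=
        hinj _ (a - b).2 (by
          have := congrArg (fun t : kerRep φ => (t : A)) hab'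
          simpa using this)
      exact sub_eq_zero.mp (Subtype.ext h2)
    · intro a
      obtain ⟨y, hy0, hy⟩ := hsurj a.1 a.2
      exact ⟨⟨y, hy0⟩, Subtype.ext (by simpa using hy)⟩
  exact bijective_of_subsingleton φ hφ n
    (Groth.Agent.Lib.GroupCohCard.subsingleton_of_bijective _ hbij n (by omega))
    (Groth.Agent.Lib.GroupCohCard.subsingleton_of_bijective _ hbij (n + 1) (by omega))

end Groth.Agent.Lib.GroupCohKer57
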