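import Mathlib
import Groth.Prelude.Def_ConstGrp
import Groth.Agent.Lib.CartierConst18

set_option autoImplicit false
universe u v w
open scoped TensorProduct

namespace Groth.Agent.Lib.GroupLikeSpan41

section general
variable (k : Type u) [Field k] (A : Type v) [CommRing A] [HopfAlgebra k A] [Module.Finite k A]

/-- If the group-like elements are as many as the dimension, `A` is their group algebra. -/
theorem bijective_liftGroupLike (hcard : Nat.card (GroupLike k A) = Module.finrank k A) :
    Function.Bijective (MonoidAlgebra.liftGroupLikeBialgHom : MonoidAlgebra k (GroupLike k A) →ₐc[k] A) := by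
  classical
  let Γ := GroupLike k A
  have hli : LinearIndependent k (GroupLike.val : Γ → A) := linearIndep_groupLikeVal
  have hfinΓ : Finite Γ := hli.finite_of_isNoetherian
  have : Fintype Γ := Fintype.ofFinite _
  let Λ : MonoidAlgebra k Γ →ₐc[k] A := MonoidAlgebra.liftGroupLikeBialgHom
  have hΛ : ∀ g : Γ, Λ (MonoidAlgebra.single g 1) = g.val := by
    intro g
    change MonoidAlgebra.liftGroupLikeBialgHom (MonoidAlgebra.single g 1) = g.val
    rw [MonoidAlgebra.liftGroupLikeBialgHom_apply, MonoidAlgebra.lift_single, one_smul]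
    rfl
  let b' : Module.Basis Γ k A := basisOfLinearIndependentOfCardEqFinrank hli
    (by rw [← Nat.card_eq_fintype_card]; exact hcard)
  have hb' : ∀ g, b' g = g.val := fun g => by simp [b']
  have hΛeq : (Λ : MonoidAlgebra k Γ →ₗ[k] A) =
      ((MonoidAlgebra.basis Γ k).equiv b' (Equiv.refl _)).toLinearMap := by
    apply (MonoidAlgebra.basis Γ k).ext
    intro g
    rw [LinearEquiv.coe_coe, Module.Basis.equiv_apply, MonoidAlgebra.basis_apply, Equiv.refl_apply,
      hb']
    exact hΛ g
  have h1 := ((MonoidAlgebra.basis Γ k).equiv b' (Equiv.refl _)).bijective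
  have h2 : (Λ : MonoidAlgebra k Γ → A) =
      ((MonoidAlgebra.basis Γ k).equiv b' (Equiv.refl _)) := by
    ext t
    exact congrArg (fun L : MonoidAlgebra k Γ →ₗ[k] A => L t) hΛeq
  change Function.Bijective (Λ : MonoidAlgebra k Γ → A)
  rw [h2]
  exact h1

theorem card_groupLike_le : Nat.card (GroupLike k A) ≤ Module.finrank k A := by
  classical
  have hli : LinearIndependent k (GroupLike.val : GroupLike k A → A) := linearIndep_groupLikeVal
  have hfinΓ : Finite (GroupLike k A) := hli.finite_of_isNoetherian
  have : Fintype (GroupLike k A) := Fintype.ofFinite _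
  rw [Nat.card_eq_fintype_card]
  exact hli.fintype_card_le_finrank

end general

section const
variable (k : Type u) [Field k] (Z : Type v) [Group Z] [Fintype Z] [DecidableEq Z]

/-- Group-like elements of the function algebra are the characters. -/
theorem isGroupLikeElem_F_iff (f : ConstGrp.F k Z) :
    IsGroupLikeElem k f ↔ f 1 = 1 ∧ ∀ a b : Z, f (a * b) = f a * f b := by
  constructor
  · intro h
    refine ⟨h.counit_eq_one, fun a b => ?_⟩
    have h1 := congrArg (fun t => ConstGrp.pair k Z t (a, b)) h.comul_eq_tmul_self
    simp only [ConstGrp.pair_comul, ConstGrp.pair_tmul] at h1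
    exact h1
  · rintro ⟨h1, h2⟩
    refine ⟨h1, ?_⟩
    apply Groth.Agent.Lib.CartierConst18.pair_injective k Z
    ext ⟨a, b⟩
    rw [ConstGrp.pair_comul, ConstGrp.pair_tmul, h2]

end const

end Groth.Agent.Lib.GroupLikeSpan41
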