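import Groth.Agent.Lib.GrpTopConn45
import Groth.Agent.Lib.AbVarComp97
import Groth.Agent.Lib.NoethTop
import Mathlib.AlgebraicGeometry.Noetherian
import Mathlib.AlgebraicGeometry.Limits
import Mathlib.AlgebraicGeometry.Morphisms.FiniteType

/-!
# Finitely many rational points of a group scheme in an affine open (helper45)

`k` algebraically closed, `G` a group scheme locally of finite type over `k`.

* `isOpen_irreducibleComponent` : irreducible components of `G` are open.
* `exists_affine_in_component` : finitely many rational points of one component lie in an affine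
  open contained in that component.
* `exists_affine_of_closedPoints` : finitely many closed points lie in one affine open.
-/

set_option autoImplicit false
set_option linter.unusedSectionVars false
universe u
open CategoryTheory CategoryTheory.Limits MonoidalCategory CartesianMonoidalCategory MonObj GrpObj
  AlgebraicGeometry TopologicalSpace
open Groth.Agent.Lib.GrpTopPts45 Groth.Agent.Lib.UniqueComp45 Groth.Agent.Lib.GrpTopConn45
  Groth.Agent.Lib.AbVarComp97

namespace Groth.Agent.Lib.GrpAffPts45

variable {k : Type u} [Field k] [IsAlgClosed k] {G : Over (Spec (CommRingCat.of k))} [GrpObj G]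

local notation "Pt" => (𝟙_ (Over (Spec (CommRingCat.of k))) ⟶ G)

/-- Left translation by a rational point as a homeomorphism. -/
noncomputable def LtHomeo (a : Pt) : G.left ≃ₜ G.left where
  toFun := (Lt a).left
  invFun := (Lt a⁻¹).left
  left_inv := Lt_inv_apply' a
  right_inv := Lt_inv_apply a
  continuous_toFun := (Lt a).left.continuous
  continuous_invFun := (Lt a⁻¹).left.continuous

instance isIso_Lt_left (a : Pt) : IsIso (Lt a).left := by
  refine ⟨(Lt a⁻¹).left, ?_, ?_⟩
  · rw [← Over.comp_left, Lt_comp_Lt, inv_mul_cancel, Lt_one]; rfl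
  · rw [← Over.comp_left, Lt_comp_Lt, mul_inv_cancel, Lt_one]; rfl

lemma pt_one : pt G (1 : Pt) = unitPt G := one_left_apply _

lemma inv_pt (x : Pt) : ι[G].left (pt G x) = pt G x⁻¹ := by
  rw [← pt_comp, Hom.inv_def]

lemma Lt_image_comp (a : Pt) (x : G.left) :
    (Lt a).left '' irreducibleComponent x = irreducibleComponent ((Lt a).left x) :=
  eq_comp (image_mem_irreducibleComponents_of_homeomorph (LtHomeo a)
    (irreducibleComponent_mem_irreducibleComponents x)) ⟨x, mem_irreducibleComponent, rfl⟩

lemma Lt_image_Z0 (a : Pt) : (Lt a).left '' Z0 G = irreducibleComponent (pt G a) := by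
  rw [Z0, Lt_image_comp, ← pt_one, Lt_apply_pt, _root_.mul_one]

variable [LocallyOfFiniteType G.hom]

lemma exists_noetherian_nhds (x : G.left) : ∃ U ∈ nhds x, NoetherianSpace U := by
  have hln : IsLocallyNoetherian G.left := LocallyOfFiniteType.isLocallyNoetherian G.hom
  obtain ⟨_, ⟨W, hW, rfl⟩, hxW, -⟩ := G.left.isBasis_affineOpens.exists_subset_of_mem_open
    (Set.mem_univ x) isOpen_univ
  have : IsNoetherianRing Γ(G.left, W) := IsLocallyNoetherian.component_noetherian ⟨W, hW⟩
  exact ⟨W, W.isOpen.mem_nhds hxW, noetherianSpace_of_isAffineOpen W hW⟩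

/-- Irreducible components of a group scheme locally of finite type over an algebraically closed
field are open. -/
theorem isOpen_of_mem_irreducibleComponents {Z : Set G.left}
    (hZ : Z ∈ irreducibleComponents G.left) : IsOpen Z := by
  refine Groth.Agent.Lib.NoethTop.isOpen_of_mem_irreducibleComponents_of_pairwiseDisjoint
    exists_noetherian_nhds ?_ hZ
  intro Z₁ hZ₁ Z₂ hZ₂ hne
  rw [Function.onFun, Set.disjoint_left]
  intro x hx₁ hx₂
  exact hne ((uc x) hZ₁ hZ₂ hx₁ hx₂)

/-- Finitely many rational points in one component lie in an affine open inside that component. -/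
theorem exists_affine_in_component (S : Set Pt) (hSfin : S.Finite) {Z : Set G.left}
    (hZ : Z ∈ irreducibleComponents G.left) (hS : ∀ h ∈ S, pt G h ∈ Z) :
    ∃ U : G.left.Opens, IsAffineOpen U ∧ (U : Set G.left) ⊆ Z ∧ ∀ h ∈ S, pt G h ∈ U := by
  have hZopen : IsOpen Z := isOpen_of_mem_irreducibleComponents hZ
  have hZ0open : IsOpen (Z0 G) := isOpen_of_mem_irreducibleComponents (Z0_mem G)
  obtain ⟨_, ⟨U₀, hU₀, rfl⟩, heU₀, hU₀Z⟩ := G.left.isBasis_affineOpens.exists_subset_of_mem_open
    (unitPt_mem_Z0 G) hZ0open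
  replace hU₀ : IsAffineOpen U₀ := hU₀
  -- the opens `W h`
  let W : Pt → Set G.left := fun h => (fun y => ι[G].left ((Lt h⁻¹).left y)) ⁻¹' (U₀ : Set G.left)
  have hWopen : ∀ h, IsOpen (W h) := fun h =>
    U₀.isOpen.preimage (ι[G].left.continuous.comp (Lt h⁻¹).left.continuous)
  have hWmem : ∀ h, pt G h ∈ W h := fun h => by
    change ι[G].left ((Lt h⁻¹).left (pt G h)) ∈ (U₀ : Set G.left)
    rw [Lt_apply_pt, inv_mul_cancel, pt_one, inv_unitPt]
    exact heU₀
  have hne : (Z ∩ ⋂₀ ((hSfin.toFinset.image W : Finset (Set G.left)) : Set (Set G.left))).Nonempty := by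
    refine isIrreducible_iff_sInter.mp hZ.1 _ ?_ ?_
    · intro u hu
      obtain ⟨h, -, rfl⟩ := Finset.mem_image.mp hu
      exact hWopen h
    · intro u hu
      obtain ⟨h, hh, rfl⟩ := Finset.mem_image.mp hu
      exact ⟨pt G h, hS h (hSfin.mem_toFinset.mp hh), hWmem h⟩
  have hopen : IsOpen (Z ∩ ⋂₀ ((hSfin.toFinset.image W : Finset (Set G.left)) : Set (Set G.left))) := by
    refine hZopen.inter ?_
    refine Set.Finite.isOpen_sInter (Finset.finite_toSet _) ?_
    intro u hu
    obtain ⟨h, -, rfl⟩ := Finset.mem_image.mp hu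
    exact hWopen h
  have hjac : JacobsonSpace G.left := LocallyOfFiniteType.jacobsonSpace G.hom
  obtain ⟨y, ⟨hyZ, hyW⟩, hyc⟩ := nonempty_inter_closedPoints hne hopen.isLocallyClosed
  obtain ⟨a, rfl⟩ := exists_pt_eq y hyc
  refine ⟨(Lt a⁻¹).left ⁻¹ᵁ U₀, hU₀.preimage_of_isIso _, ?_, ?_⟩
  · intro y hy
    have hy' : (Lt a⁻¹).left y ∈ Z0 G := hU₀Z hy
    have h1 : y ∈ (Lt a).left '' Z0 G := ⟨_, hy', Lt_inv_apply a y⟩
    rw [Lt_image_Z0, ← eq_comp hZ hyZ] at h1
    exact h1
  · intro h hh
    have h1 : pt G a ∈ W h := by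
      apply Set.mem_sInter.mp hyW
      exact Finset.mem_coe.mpr (Finset.mem_image_of_mem W (hSfin.mem_toFinset.mpr hh))
    change ι[G].left ((Lt h⁻¹).left (pt G a)) ∈ (U₀ : Set G.left) at h1
    rw [Lt_apply_pt, inv_pt, _root_.mul_inv_rev, _root_.inv_inv] at h1
    change (Lt a⁻¹).left (pt G h) ∈ (U₀ : Set G.left)
    rw [Lt_apply_pt]
    exact h1

/-- Finitely many closed points of `G` lie in one affine open. -/
theorem exists_affine_of_closedPoints (n : ℕ) (g : Fin n → G.left)
    (hg : ∀ i, IsClosed ({g i} : Set G.left)) :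
    ∃ U : G.left.Opens, IsAffineOpen U ∧ ∀ i, g i ∈ U := by
  choose h hh using fun i => exists_pt_eq (g i) (hg i)
  have key : ∀ Z : Set G.left, ∃ U : G.left.Opens, IsAffineOpen U ∧ (U : Set G.left) ⊆ Z ∧
      ∀ i, irreducibleComponent (g i) = Z → g i ∈ U := by
    intro Z
    by_cases hZ : Z ∈ irreducibleComponents G.left
    · obtain ⟨U, hU, hUZ, hUS⟩ := exists_affine_in_component
        (h '' {i | irreducibleComponent (g i) = Z}) (Set.toFinite _) hZ (by
          rintro _ ⟨i, hi, rfl⟩
          rw [hh i, ← (hi : irreducibleComponent (g i) = Z)]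
          exact mem_irreducibleComponent)
      refine ⟨U, hU, hUZ, fun i hi => ?_⟩
      have := hUS (h i) ⟨i, hi, rfl⟩
      rwa [hh i] at this
    · refine ⟨⊥, isAffineOpen_bot _, by simp, fun i hi => ?_⟩
      exact absurd (hi ▸ irreducibleComponent_mem_irreducibleComponents (g i)) hZ
  choose U hU hUZ hUg using key
  refine ⟨⨆ Z ∈ Set.range (fun i => irreducibleComponent (g i)), U Z,
    IsAffineOpen.biSup_of_disjoint (Set.finite_range _) (fun Z _ => hU Z) ?_, fun i => ?_⟩
  · rintro _ ⟨i, rfl⟩ _ ⟨j, rfl⟩ hne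
    rw [Function.onFun, ← TopologicalSpace.Opens.coe_disjoint, Set.disjoint_left]
    intro x hx₁ hx₂
    exact hne ((uc x) (irreducibleComponent_mem_irreducibleComponents _)
      (irreducibleComponent_mem_irreducibleComponents _) (hUZ _ hx₁) (hUZ _ hx₂))
  · have h1 : g i ∈ U (irreducibleComponent (g i)) := hUg _ i rfl
    have h2 : U (irreducibleComponent (g i)) ≤
        ⨆ Z ∈ Set.range (fun i => irreducibleComponent (g i)), U Z :=
      le_biSup U (Set.mem_range_self i)
    exact h2 h1

end Groth.Agent.Lib.GrpAffPts45
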