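import Groth.Prelude.Def_W4c6equivkfinstabCyc
import Mathlib

/-!
# Cyclotomic quotients of group rings: units and comaximality

Helper library for the `GrpAlg.*` statements (S19276–S19279).
-/

set_option autoImplicit false

noncomputable section

namespace Groth.Agent.Lib.GrpAlgCyc

open W4c6equivkfinstab Polynomial

universe u v

variable (Λ : Type u) [CommRing Λ]

section Key

variable {C : Type v} [AddCommGroup C]

/-- In a commutative ring `Q`, if `x` is a root of `Φ_d`, `d` is a unit and `x ^ d = 1`, then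
`x ^ e - 1` is a unit for every proper divisor `e` of `d`. -/
theorem isUnit_pow_sub_one_of_properDivisor {Q : Type*} [CommRing Q] [Algebra Λ Q] {d e : ℕ}
    (he : e ∈ d.properDivisors) (hd : IsUnit ((d : ℕ) : Λ)) {x : Q}
    (hx : aeval x (cyclotomic d Λ) = 0) (hxd : x ^ d = 1) : IsUnit (x ^ e - 1) := by
  obtain ⟨w, hw⟩ := X_pow_sub_one_mul_cyclotomic_dvd_X_pow_sub_one_of_dvd Λ he
  have hder := congrArg (fun p => aeval x (derivative p)) hw
  simp only [derivative_X_pow, derivative_one, sub_zero, derivative_mul,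
    map_add, map_mul, map_sub, map_pow, aeval_X, map_one, hx, mul_zero, zero_mul, add_zero,
    zero_add, map_natCast] at hder
  have hdpos : 0 < d := lt_of_le_of_lt (Nat.zero_le _) (Nat.mem_properDivisors.mp he).2
  have hunit : IsUnit ((d : Q) * x ^ (d - 1)) := by
    refine IsUnit.mul ?_ ?_
    · have := hd.map (algebraMap Λ Q)
      simpa using this
    · refine IsUnit.of_mul_eq_one x ?_
      rw [← pow_succ, Nat.sub_add_cancel hdpos, hxd]
  rw [hder] at hunit
  have h2 : (x ^ e - 1) * aeval x (derivative (cyclotomic d Λ)) * aeval x w =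
      (x ^ e - 1) * (aeval x (derivative (cyclotomic d Λ)) * aeval x w) := by ring
  rw [h2] at hunit
  exact isUnit_of_mul_isUnit_left hunit

variable [Finite C] [IsAddCyclic C]

/-- **Key lemma.** For `C` finite cyclic with `|C|` invertible in `Λ` and `c ≠ 0` in `C`, the
element `[c] - 1` becomes a unit in the cyclotomic quotient of `Λ[C]`. -/
theorem isUnit_mk_single_sub_one (hd : IsUnit ((Nat.card C : ℕ) : Λ)) {c : C} (hc : c ≠ 0) :
    IsUnit (Ideal.Quotient.mk (cycIdeal Λ C) (AddMonoidAlgebra.single c 1 - 1)) := by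
  obtain ⟨g, hg⟩ := IsAddCyclic.exists_generator (α := C)
  have hgtop : AddSubgroup.zmultiples g = ⊤ := (AddSubgroup.eq_top_iff' _).mpr hg
  have hdpos : 0 < Nat.card C := Nat.card_pos
  set y : AddMonoidAlgebra Λ C := AddMonoidAlgebra.single g 1 with hy
  set x : CycQuot Λ C := Ideal.Quotient.mk _ y with hx
  have hxroot : aeval x (cyclotomic (Nat.card C) Λ) = 0 := by
    have h1 : aeval x (cyclotomic (Nat.card C) Λ) =
        Ideal.Quotient.mk (cycIdeal Λ C) (aeval y (cyclotomic (Nat.card C) Λ)) :=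
      Polynomial.aeval_algHom_apply (Ideal.Quotient.mkₐ Λ (cycIdeal Λ C)) y _
    rw [h1, Ideal.Quotient.eq_zero_iff_mem]
    exact Ideal.subset_span ⟨g, hgtop, rfl⟩
  have hyd : y ^ Nat.card C = 1 := by
    rw [hy, AddMonoidAlgebra.single_pow, one_pow, card_nsmul_eq_zero', AddMonoidAlgebra.one_def]
  have hxd : x ^ Nat.card C = 1 := by
    rw [hx, ← map_pow, hyd, map_one]
  obtain ⟨k, hk⟩ : ∃ k : ℕ, k • g = c := by
    have := mem_multiples_iff_mem_zmultiples.mpr (hg c)
    exact (AddSubmonoid.mem_multiples_iff _ _).mp this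
  have hndvd : ¬ Nat.card C ∣ k := by
    rintro ⟨m, rfl⟩
    apply hc
    rw [← hk, mul_smul, card_nsmul_eq_zero']
  have he : Nat.gcd k (Nat.card C) ∈ (Nat.card C).properDivisors := by
    rw [Nat.mem_properDivisors]
    refine ⟨Nat.gcd_dvd_right _ _, lt_of_le_of_ne (Nat.le_of_dvd hdpos (Nat.gcd_dvd_right _ _)) ?_⟩
    intro h
    apply hndvd
    rw [← h]
    exact Nat.gcd_dvd_left _ _
  have hA := isUnit_pow_sub_one_of_properDivisor Λ he hd hxroot hxd
  obtain ⟨m, -, hm⟩ := Nat.exists_mul_mod_eq_gcd (k := Nat.card C) (n := k)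
    (Nat.mem_properDivisors.mp he).2
  have hB : (x ^ k) ^ m = x ^ Nat.gcd k (Nat.card C) := by
    rw [← pow_mul, pow_eq_pow_mod (k * m) hxd, hm]
  have hdvd : x ^ k - 1 ∣ x ^ Nat.gcd k (Nat.card C) - 1 := by
    rw [← hB]
    simpa using sub_dvd_pow_sub_pow (x ^ k) 1 m
  have hunit : IsUnit (x ^ k - 1) := isUnit_of_dvd_unit hdvd hA
  have hfin : Ideal.Quotient.mk (cycIdeal Λ C) (AddMonoidAlgebra.single c 1 - 1) = x ^ k - 1 := by
    rw [map_sub, map_one, hx, ← map_pow, hy, AddMonoidAlgebra.single_pow, one_pow, hk]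
  rw [hfin]
  exact hunit

end Key

section Quot

variable (M : Type v) [AddCommGroup M]

@[simp]
theorem quotMap_single (B : AddSubgroup M) (m : M) (r : Λ) :
    quotMap Λ M B (AddMonoidAlgebra.single m r) =
      AddMonoidAlgebra.single (QuotientAddGroup.mk m : M ⧸ B) r := by
  simp [quotMap, AddMonoidAlgebra.mapDomain_single]

theorem quotMap_surjective (B : AddSubgroup M) : Function.Surjective (quotMap Λ M B) := by
  intro x
  obtain ⟨z, hz⟩ := Finsupp.mapDomain_surjective (QuotientAddGroup.mk'_surjective B) x.coeff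
  refine ⟨AddMonoidAlgebra.ofCoeff z, ?_⟩
  apply AddMonoidAlgebra.coeff_injective
  rw [← hz]
  rfl

theorem cycQuotMap_surjective (B : AddSubgroup M) : Function.Surjective (cycQuotMap Λ M B) :=
  Ideal.Quotient.mk_surjective.comp (quotMap_surjective Λ M B)

theorem cycQuotMap_apply (B : AddSubgroup M) (x : AddMonoidAlgebra Λ M) :
    cycQuotMap Λ M B x = Ideal.Quotient.mk (cycIdeal Λ (M ⧸ B)) (quotMap Λ M B x) := rfl

theorem quotMap_single_sub_one_of_mem (B : AddSubgroup M) {b : M} (hb : b ∈ B) :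
    quotMap Λ M B (AddMonoidAlgebra.single b 1 - 1) = 0 := by
  rw [map_sub, map_one, quotMap_single, (QuotientAddGroup.eq_zero_iff b).mpr hb,
    ← AddMonoidAlgebra.one_def, sub_self]

theorem cycQuotMap_single_sub_one_of_mem (B : AddSubgroup M) {b : M} (hb : b ∈ B) :
    cycQuotMap Λ M B (AddMonoidAlgebra.single b 1 - 1) = 0 := by
  rw [cycQuotMap_apply, quotMap_single_sub_one_of_mem Λ M B hb, map_zero]

/-- For `b ∉ B`, the element `[b] - 1` is invertible modulo the kernel of `cycQuotMap B`. -/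
theorem exists_mul_cycQuotMap_eq_one (B : AddSubgroup M) [B.FiniteIndex] [IsAddCyclic (M ⧸ B)]
    (hu : IsUnit ((B.index : ℕ) : Λ)) {b : M} (hb : b ∉ B) :
    ∃ y : AddMonoidAlgebra Λ M,
      cycQuotMap Λ M B ((AddMonoidAlgebra.single b 1 - 1) * y) = 1 := by
  have : Finite (M ⧸ B) := AddSubgroup.finite_quotient_of_finiteIndex
  have hc : (QuotientAddGroup.mk b : M ⧸ B) ≠ 0 := by
    rwa [Ne, QuotientAddGroup.eq_zero_iff]
  have hu' : IsUnit ((Nat.card (M ⧸ B) : ℕ) : Λ) := by
    rwa [← AddSubgroup.index_eq_card]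
  obtain ⟨u, hu1⟩ := isUnit_mk_single_sub_one Λ hu' hc
  obtain ⟨y, hy⟩ := cycQuotMap_surjective Λ M B (↑u⁻¹ : CycQuot Λ (M ⧸ B))
  refine ⟨y, ?_⟩
  rw [map_mul, hy, cycQuotMap_apply, map_sub, map_one, quotMap_single, ← hu1, Units.mul_inv]

theorem smul_def' (B : AddSubgroup M) (r : AddMonoidAlgebra Λ M)
    (x : AddMonoidAlgebra Λ (M ⧸ B)) : r • x = quotMap Λ M B r * x := rfl

theorem smul_cycQuot_def (B : AddSubgroup M) (r : AddMonoidAlgebra Λ M)
    (x : CycQuot Λ (M ⧸ B)) : r • x = cycQuotMap Λ M B r * x := rfl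

theorem mem_locSubmonoid (B : AddSubgroup M) (x : AddMonoidAlgebra Λ M) :
    x ∈ locSubmonoid Λ M B ↔ cycQuotMap Λ M B x = 1 := Iff.rfl

end Quot

end Groth.Agent.Lib.GrpAlgCyc
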