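import Groth.Agent.Lib.GrpAlgCyc

/-!
# Cyclotomic quotients of group rings II: the intersection of the kernels is zero

For a finite commutative group `A` whose order is invertible in `Λ`, the kernels of the maps
`Λ[A] → CycQuot Λ (A ⧸ B)` (`B` running over the subgroups with cyclic quotient) are pairwise
comaximal and have zero intersection.  The proof of the second fact: every maximal ideal of `Λ[A]`
contains one of the kernels (the residue character has cyclic image), and every kernel has a
"local unit" (it is generated by an idempotent), so the intersection is killed by an element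
`1 - F` with `F` in the Jacobson radical.
-/

set_option autoImplicit false

noncomputable section

namespace Groth.Agent.Lib.GrpAlgCyc

open W4c6equivkfinstab Polynomial Function

universe u v

variable (Λ : Type u) [CommRing Λ]

section Avg

variable (A : Type v) [AddCommGroup A] [Finite A]

theorem isUnit_natCast_of_dvd {m n : ℕ} (h : m ∣ n) (hn : IsUnit ((n : ℕ) : Λ)) :
    IsUnit ((m : ℕ) : Λ) := by
  obtain ⟨k, rfl⟩ := h
  rw [Nat.cast_mul] at hn
  exact (IsUnit.mul_iff.mp hn).1

/-- The averaging idempotent of a subgroup `B` of a finite group whose order is invertible: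
it maps to `1` in `Λ[A ⧸ B]` and kills the kernel of `Λ[A] → Λ[A ⧸ B]`. -/
theorem exists_avg (B : AddSubgroup A) (hu : IsUnit ((Nat.card B : ℕ) : Λ)) :
    ∃ e : AddMonoidAlgebra Λ A, quotMap Λ A B e = 1 ∧
      ∀ x, quotMap Λ A B x = 0 → e * x = 0 := by
  classical
  cases nonempty_fintype B
  set N : AddMonoidAlgebra Λ A := ∑ b : B, AddMonoidAlgebra.single (b : A) 1 with hN
  have key : ∀ (a a' : A) (r : Λ), a - a' ∈ B →
      N * AddMonoidAlgebra.single a r = N * AddMonoidAlgebra.single a' r := by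
    intro a a' r h
    simp only [hN, Finset.sum_mul, AddMonoidAlgebra.single_mul_single, one_mul]
    refine Fintype.sum_equiv (Equiv.addRight (⟨a - a', h⟩ : B)) _ _ (fun b => ?_)
    congr 1
    simp only [Equiv.coe_addRight, AddSubgroup.coe_add]
    abel
  have hfac : ∀ x : AddMonoidAlgebra Λ A, N * x =
      N * AddMonoidAlgebra.mapDomain (fun c : A ⧸ B => Quotient.out c) (quotMap Λ A B x) := by
    intro x
    induction x using AddMonoidAlgebra.induction_linear with
    | zero => simp
    | add x y hx hy =>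
      rw [mul_add, hx, hy, map_add, AddMonoidAlgebra.mapDomain_add, mul_add]
    | single a r =>
      rw [quotMap_single, AddMonoidAlgebra.mapDomain_single]
      apply key
      have h1 : ((Quotient.out (QuotientAddGroup.mk a : A ⧸ B) : A) : A ⧸ B) =
          (QuotientAddGroup.mk a : A ⧸ B) := QuotientAddGroup.out_eq' _
      have h2 := QuotientAddGroup.eq.mp h1
      have h3 : a - Quotient.out (QuotientAddGroup.mk a : A ⧸ B) =
          -Quotient.out (QuotientAddGroup.mk a : A ⧸ B) + a := by abel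
      rw [h3]
      exact h2
  have hNq : quotMap Λ A B N = ((Nat.card B : ℕ) : AddMonoidAlgebra Λ (A ⧸ B)) := by
    rw [hN, map_sum]
    have : ∀ b : B, quotMap Λ A B (AddMonoidAlgebra.single (b : A) 1) = 1 := by
      intro b
      rw [quotMap_single, (QuotientAddGroup.eq_zero_iff (b : A)).mpr b.2,
        AddMonoidAlgebra.one_def]
    simp only [this, Finset.sum_const, Finset.card_univ, nsmul_eq_mul, mul_one,
      Nat.card_eq_fintype_card]
  obtain ⟨u, hu'⟩ := hu
  refine ⟨algebraMap Λ _ (↑u⁻¹ : Λ) * N, ?_, ?_⟩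
  · rw [map_mul, hNq]
    have h1 : quotMap Λ A B (algebraMap Λ _ (↑u⁻¹ : Λ)) = algebraMap Λ _ (↑u⁻¹ : Λ) := by
      simp only [AddMonoidAlgebra.coe_algebraMap, Function.comp_apply, Algebra.algebraMap_self,
        RingHom.id_apply, quotMap_single, QuotientAddGroup.mk_zero]
    rw [h1, ← map_natCast (algebraMap Λ (AddMonoidAlgebra Λ (A ⧸ B))), ← map_mul, ← hu',
      Units.inv_mul, map_one]
  · intro x hx
    rw [mul_assoc, hfac x, hx, AddMonoidAlgebra.mapDomain_zero, mul_zero, mul_zero]

end Avg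

section LocalUnit

variable (C : Type v) [AddCommGroup C] [Finite C]

omit [Finite C] in
/-- Each generator `Φ_d([g])` of the cyclotomic ideal has a local unit inside the ideal. -/
theorem exists_localUnit_generator (hd : IsUnit ((Nat.card C : ℕ) : Λ)) (g : C) :
    ∃ a : AddMonoidAlgebra Λ C,
      (a * aeval (AddMonoidAlgebra.single g (1 : Λ)) (cyclotomic (Nat.card C) Λ)) *
        aeval (AddMonoidAlgebra.single g (1 : Λ)) (cyclotomic (Nat.card C) Λ) =
      aeval (AddMonoidAlgebra.single g (1 : Λ)) (cyclotomic (Nat.card C) Λ) := by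
  set d := Nat.card C with hd_def
  set y : AddMonoidAlgebra Λ C := AddMonoidAlgebra.single g 1 with hy
  have hyd : y ^ d = 1 := by
    rw [hy, AddMonoidAlgebra.single_pow, one_pow, card_nsmul_eq_zero', AddMonoidAlgebra.one_def]
  have hsep : (X ^ d - 1 : Λ[X]).Separable := by
    have := separable_X_pow_sub_C_unit (1 : Λˣ) hd
    simpa using this
  obtain ⟨Ψ, hΨ⟩ := cyclotomic.dvd_X_pow_sub_one d Λ
  rw [hΨ] at hsep
  obtain ⟨a, b, hab⟩ := hsep.isCoprime
  have h1 := congrArg (aeval y) hab
  have h2 := congrArg (aeval y) hΨ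
  simp only [map_add, map_mul, map_one, map_sub, map_pow, aeval_X, hyd, sub_self] at h1 h2
  refine ⟨aeval y a, ?_⟩
  set z := aeval y (cyclotomic d Λ) with hz
  calc aeval y a * z * z = z * (aeval y a * z + aeval y b * aeval y Ψ) -
        aeval y b * (z * aeval y Ψ) := by ring
    _ = z := by rw [h1, ← h2, mul_one, mul_zero, sub_zero]

/-- The cyclotomic ideal of `Λ[C]` has a local unit: an element `f` of the ideal acting as the
identity on it. -/
theorem exists_localUnit_cycIdeal (hd : IsUnit ((Nat.card C : ℕ) : Λ)) :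
    ∃ f ∈ cycIdeal Λ C, ∀ z ∈ cycIdeal Λ C, f * z = z := by
  classical
  cases nonempty_fintype C
  choose a ha using exists_localUnit_generator Λ C hd
  set zg : C → AddMonoidAlgebra Λ C := fun g =>
    aeval (AddMonoidAlgebra.single g (1 : Λ)) (cyclotomic (Nat.card C) Λ) with hzg
  set G : Finset C := Finset.univ.filter (fun g => AddSubgroup.zmultiples g = ⊤) with hG
  have hmem : ∀ g ∈ G, zg g ∈ cycIdeal Λ C := by
    intro g hg
    rw [hG, Finset.mem_filter] at hg
    exact Ideal.subset_span ⟨g, hg.2, rfl⟩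
  set P : AddMonoidAlgebra Λ C := ∏ g ∈ G, (1 - a g * zg g) with hP
  have hPz : ∀ g ∈ G, P * zg g = 0 := by
    intro g hg
    obtain ⟨q, hq⟩ := Finset.dvd_prod_of_mem (fun g => 1 - a g * zg g) hg
    rw [hP, hq]
    have : (1 - a g * zg g) * zg g = 0 := by
      rw [sub_mul, one_mul, ha g, sub_self]
    calc (1 - a g * zg g) * q * zg g = q * ((1 - a g * zg g) * zg g) := by ring
      _ = 0 := by rw [this, mul_zero]
  have hPmk : Ideal.Quotient.mk (cycIdeal Λ C) P = 1 := by
    rw [hP, map_prod]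
    apply Finset.prod_eq_one
    intro g hg
    rw [map_sub, map_one, map_mul, Ideal.Quotient.eq_zero_iff_mem.mpr (hmem g hg), mul_zero,
      sub_zero]
  refine ⟨1 - P, ?_, ?_⟩
  · rw [← Ideal.Quotient.eq_zero_iff_mem, map_sub, map_one, hPmk, sub_self]
  · intro z hz
    have : P * z = 0 := by
      refine Submodule.span_induction ?_ ?_ ?_ ?_ hz
      · rintro _ ⟨g, hg, rfl⟩
        exact hPz g (by rw [hG, Finset.mem_filter]; exact ⟨Finset.mem_univ _, hg⟩)
      · exact mul_zero _
      · intro x y _ _ hx hy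
        rw [mul_add, hx, hy, add_zero]
      · intro r x _ hx
        rw [smul_eq_mul, mul_left_comm, hx, mul_zero]
    rw [sub_mul, one_mul, this, sub_zero]

end LocalUnit

section KerLocalUnit

variable (A : Type v) [AddCommGroup A] [Finite A]

/-- The kernel of `Λ[A] → CycQuot Λ (A ⧸ B)` has a local unit. -/
theorem exists_localUnit_ker (hn : IsUnit ((Nat.card A : ℕ) : Λ)) (B : AddSubgroup A) :
    ∃ f : AddMonoidAlgebra Λ A, cycQuotMap Λ A B f = 0 ∧
      ∀ x, cycQuotMap Λ A B x = 0 → f * x = x := by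
  have hB : IsUnit ((Nat.card B : ℕ) : Λ) :=
    isUnit_natCast_of_dvd Λ (AddSubgroup.card_addSubgroup_dvd_card B) hn
  have hQ : IsUnit ((Nat.card (A ⧸ B) : ℕ) : Λ) :=
    isUnit_natCast_of_dvd Λ (AddSubgroup.card_quotient_dvd_card B) hn
  obtain ⟨e, he1, he0⟩ := exists_avg Λ A B hB
  obtain ⟨f', hf'mem, hf'⟩ := exists_localUnit_cycIdeal Λ (A ⧸ B) hQ
  obtain ⟨ft, hft⟩ := quotMap_surjective Λ A B f'
  refine ⟨(1 - e) + e * ft, ?_, ?_⟩
  · rw [cycQuotMap_apply, map_add, map_sub, map_one, map_mul, he1, hft, sub_self, zero_add,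
      one_mul, Ideal.Quotient.eq_zero_iff_mem]
    exact hf'mem
  · intro x hx
    rw [cycQuotMap_apply, Ideal.Quotient.eq_zero_iff_mem] at hx
    have h1 : quotMap Λ A B (ft * x - x) = 0 := by
      rw [map_sub, map_mul, hft, hf' _ hx, sub_self]
    have h2 := he0 _ h1
    calc (1 - e + e * ft) * x = x + e * (ft * x - x) := by ring
      _ = x := by rw [h2, add_zero]

end KerLocalUnit

section Maximal

variable (A : Type v) [AddCommGroup A] [Finite A]

/-- Every maximal ideal of `Λ[A]` contains the kernel of `Λ[A] → CycQuot Λ (A ⧸ B)` for some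
subgroup `B` with cyclic quotient: `B` is the kernel of the residue character. -/
theorem exists_ker_le_of_isMaximal (𝔪 : Ideal (AddMonoidAlgebra Λ A)) [h𝔪 : 𝔪.IsMaximal] :
    ∃ B : AddSubgroup A, IsAddCyclic (A ⧸ B) ∧ RingHom.ker (cycQuotMap Λ A B) ≤ 𝔪 := by
  classical
  let _ : Field (AddMonoidAlgebra Λ A ⧸ 𝔪) := Ideal.Quotient.field 𝔪
  let q : AddMonoidAlgebra Λ A →ₐ[Λ] (AddMonoidAlgebra Λ A ⧸ 𝔪) := Ideal.Quotient.mkₐ Λ 𝔪
  let χ : Multiplicative A →* (AddMonoidAlgebra Λ A ⧸ 𝔪) :=
    (q : AddMonoidAlgebra Λ A →* (AddMonoidAlgebra Λ A ⧸ 𝔪)).comp (AddMonoidAlgebra.of Λ A)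
  let ψ : A →+ Additive (AddMonoidAlgebra Λ A ⧸ 𝔪)ˣ := MonoidHom.toAdditiveRight χ.toHomUnits
  let χb : Multiplicative (A ⧸ ψ.ker) →* (AddMonoidAlgebra Λ A ⧸ 𝔪) :=
    (Units.coeHom _).comp (AddMonoidHom.toMultiplicativeLeft (QuotientAddGroup.kerLift ψ))
  have hχb_inj : Function.Injective χb := by
    intro a b hab
    have h1 : (AddMonoidHom.toMultiplicativeLeft (QuotientAddGroup.kerLift ψ)) a =
        (AddMonoidHom.toMultiplicativeLeft (QuotientAddGroup.kerLift ψ)) b := Units.ext hab
    exact QuotientAddGroup.kerLift_injective ψ h1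
  have hχb_mk : ∀ a : A, χb (Multiplicative.ofAdd (QuotientAddGroup.mk a : A ⧸ ψ.ker)) =
      q (AddMonoidAlgebra.single a 1) := fun a => rfl
  have hcyc : IsAddCyclic (A ⧸ ψ.ker) := by
    rw [← isCyclic_multiplicative_iff]
    exact isCyclic_of_injective_ringHom χb hχb_inj
  refine ⟨ψ.ker, hcyc, ?_⟩
  let qb : AddMonoidAlgebra Λ (A ⧸ ψ.ker) →ₐ[Λ] (AddMonoidAlgebra Λ A ⧸ 𝔪) :=
    AddMonoidAlgebra.lift Λ _ (A ⧸ ψ.ker) χb
  have hfac : ∀ x : AddMonoidAlgebra Λ A, qb (quotMap Λ A ψ.ker x) = q x := by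
    intro x
    induction x using AddMonoidAlgebra.induction_linear with
    | zero => simp
    | add x y hx hy => rw [map_add, map_add, hx, hy, map_add]
    | single a r =>
      rw [quotMap_single, AddMonoidAlgebra.lift_single, hχb_mk, ← map_smul,
        AddMonoidAlgebra.smul_single, smul_eq_mul, mul_one]
  have hkill : cycIdeal Λ (A ⧸ ψ.ker) ≤ RingHom.ker qb.toRingHom := by
    rw [cycIdeal, Ideal.span_le]
    rintro _ ⟨g, hg, rfl⟩
    rw [SetLike.mem_coe, RingHom.mem_ker]
    change qb (aeval _ _) = 0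
    rw [← Polynomial.aeval_algHom_apply, AddMonoidAlgebra.lift_single, one_smul,
      Polynomial.aeval_def, Polynomial.eval₂_eq_eval_map, map_cyclotomic]
    have hdpos : 0 < Nat.card (A ⧸ ψ.ker) := Nat.card_pos
    refine IsPrimitiveRoot.isRoot_cyclotomic hdpos ⟨?_, ?_⟩
    · rw [← map_pow, ← ofAdd_nsmul, card_nsmul_eq_zero', ofAdd_zero, map_one]
    · intro l hl
      rw [← map_pow, ← ofAdd_nsmul, ← map_one χb] at hl
      have h1 := hχb_inj hl
      have h2 : l • g = 0 := Multiplicative.ofAdd.injective h1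
      have hg' : ∀ x, x ∈ AddSubgroup.zmultiples g := fun x => by rw [hg]; trivial
      rw [← addOrderOf_eq_card_of_forall_mem_zmultiples hg']
      exact addOrderOf_dvd_of_nsmul_eq_zero h2
  intro x hx
  rw [RingHom.mem_ker, cycQuotMap_apply, Ideal.Quotient.eq_zero_iff_mem] at hx
  have h1 := hkill hx
  rw [RingHom.mem_ker] at h1
  have h2 : q x = 0 := by rw [← hfac x]; exact h1
  exact Ideal.Quotient.eq_zero_iff_mem.mp h2

end Maximal

section Coprime

variable (M : Type v) [AddCommGroup M]

theorem isCoprime_ker_cycQuotMap_of_not_le (B B' : AddSubgroup M) [B'.FiniteIndex]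
    [IsAddCyclic (M ⧸ B')] (hle : ¬ B ≤ B') (hu' : IsUnit ((B'.index : ℕ) : Λ)) :
    IsCoprime (RingHom.ker (cycQuotMap Λ M B)) (RingHom.ker (cycQuotMap Λ M B')) := by
  obtain ⟨b, hbB, hb⟩ := SetLike.not_le_iff_exists.mp hle
  obtain ⟨y, hy⟩ := exists_mul_cycQuotMap_eq_one Λ M B' hu' hb
  rw [Ideal.isCoprime_iff_exists]
  refine ⟨(AddMonoidAlgebra.single b 1 - 1) * y, ?_, 1 - (AddMonoidAlgebra.single b 1 - 1) * y,
    ?_, by ring⟩
  · rw [RingHom.mem_ker, map_mul, cycQuotMap_single_sub_one_of_mem Λ M B hbB, zero_mul]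
  · rw [RingHom.mem_ker, map_sub, map_one, hy, sub_self]

/-- The kernels of the maps to the cyclotomic quotients attached to two distinct subgroups are
comaximal. -/
theorem isCoprime_ker_cycQuotMap (B B' : AddSubgroup M) [B.FiniteIndex] [B'.FiniteIndex]
    [IsAddCyclic (M ⧸ B)] [IsAddCyclic (M ⧸ B')] (hne : B ≠ B')
    (hu : IsUnit ((B.index : ℕ) : Λ)) (hu' : IsUnit ((B'.index : ℕ) : Λ)) :
    IsCoprime (RingHom.ker (cycQuotMap Λ M B)) (RingHom.ker (cycQuotMap Λ M B')) := by
  have hcases : (¬ B ≤ B') ∨ (¬ B' ≤ B) := by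
    by_contra h
    push Not at h
    exact hne (le_antisymm h.1 h.2)
  rcases hcases with h | h
  · exact isCoprime_ker_cycQuotMap_of_not_le Λ M B B' h hu'
  · exact (isCoprime_ker_cycQuotMap_of_not_le Λ M B' B h hu).symm

end Coprime

section Main

variable (A : Type v) [AddCommGroup A] [Finite A]

/-- **Intersection of the kernels is zero.** -/
theorem eq_zero_of_forall_cycQuotMap_eq_zero (hn : IsUnit ((Nat.card A : ℕ) : Λ))
    (x : AddMonoidAlgebra Λ A)
    (hx : ∀ B : AddSubgroup A, IsAddCyclic (A ⧸ B) → cycQuotMap Λ A B x = 0) : x = 0 := by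
  classical
  cases nonempty_fintype {B : AddSubgroup A // IsAddCyclic (A ⧸ B)}
  choose f hf0 hf using exists_localUnit_ker Λ A hn
  set F : AddMonoidAlgebra Λ A :=
    ∏ B : {B : AddSubgroup A // IsAddCyclic (A ⧸ B)}, f B.1 with hF
  have hFx : F * x = x := by
    have : ∀ s : Finset {B : AddSubgroup A // IsAddCyclic (A ⧸ B)},
        (∏ B ∈ s, f B.1) * x = x := by
      intro s
      induction s using Finset.induction_on with
      | empty => simp
      | insert B s hB ih => rw [Finset.prod_insert hB, mul_assoc, ih, hf B.1 x (hx B.1 B.2)]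
    exact this _
  have hunit : IsUnit (1 - F) := by
    by_contra hnu
    obtain ⟨𝔪, hmax, hmem⟩ := exists_max_ideal_of_mem_nonunits hnu
    obtain ⟨B, hcyc, hle⟩ := exists_ker_le_of_isMaximal Λ A 𝔪
    have hFker : F ∈ RingHom.ker (cycQuotMap Λ A B) := by
      rw [RingHom.mem_ker, hF, map_prod]
      exact Finset.prod_eq_zero (Finset.mem_univ (⟨B, hcyc⟩ : {B : AddSubgroup A //
        IsAddCyclic (A ⧸ B)})) (hf0 B)
    have hFm : F ∈ 𝔪 := hle hFker
    have h1 : (1 : AddMonoidAlgebra Λ A) ∈ 𝔪 := by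
      have := 𝔪.add_mem hmem hFm
      simpa using this
    exact hmax.ne_top ((Ideal.eq_top_iff_one 𝔪).mpr h1)
  have h0 : (1 - F) * x = 0 := by rw [sub_mul, one_mul, hFx, sub_self]
  exact (hunit.mul_right_eq_zero).mp h0

/-- The group ring of a finite commutative group with invertible order is the product of the
cyclotomic quotients attached to the subgroups with cyclic quotient. -/
theorem bijective_pi_cycQuotMap (hn : IsUnit ((Nat.card A : ℕ) : Λ)) :
    Function.Bijective (RingHom.pi fun B : {B : AddSubgroup A // IsAddCyclic (A ⧸ B)} =>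
      cycQuotMap Λ A B.1) := by
  constructor
  · rw [injective_iff_map_eq_zero]
    intro x hx
    apply eq_zero_of_forall_cycQuotMap_eq_zero Λ A hn x
    intro B hB
    exact congrFun hx ⟨B, hB⟩
  · intro y
    have hI : Pairwise (IsCoprime on fun B : {B : AddSubgroup A // IsAddCyclic (A ⧸ B)} =>
        RingHom.ker (cycQuotMap Λ A B.1)) := by
      intro B B' hne
      have := B.2
      have := B'.2
      exact isCoprime_ker_cycQuotMap Λ A B.1 B'.1 (fun h => hne (Subtype.ext h))
        (isUnit_natCast_of_dvd Λ (AddSubgroup.index_dvd_card _) hn)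
        (isUnit_natCast_of_dvd Λ (AddSubgroup.index_dvd_card _) hn)
    choose r hr using fun B : {B : AddSubgroup A // IsAddCyclic (A ⧸ B)} =>
      cycQuotMap_surjective Λ A B.1 (y B)
    obtain ⟨x, hx⟩ := Ideal.exists_forall_sub_mem_ideal hI r
    refine ⟨x, funext fun B => ?_⟩
    have := hx B
    rw [RingHom.mem_ker, map_sub, sub_eq_zero] at this
    rw [RingHom.pi_apply, this, hr]

end Main

end Groth.Agent.Lib.GrpAlgCyc
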