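import Groth.Agent.Lib.GrpAlgCyc2

/-!
# Cyclotomic quotients of group rings III: product of localizations

* `bijective_pi_mkLinearMap_of_coprime`: for pairwise comaximal ideals `I i` of a commutative ring
  `R` and a module `N` killed by `⋂ I i`, the map `N → ∏ N_{1 + I i}` is bijective.
* `mapDomainRingHom_mem_cycIdeal`: transport of the cyclotomic ideal along a group isomorphism.
* `bijective_pi_mkLinearMap_quotGroupRing`: the statement of S19279.
-/

set_option autoImplicit false

noncomputable section

namespace Groth.Agent.Lib.GrpAlgCyc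

open W4c6equivkfinstab Polynomial Function

universe u v

section Loc

variable {R : Type*} [CommRing R] {N : Type*} [AddCommGroup N] [Module R N]
  {ι : Type*} [Finite ι]

theorem bijective_pi_mkLinearMap_of_coprime (I : ι → Ideal R) (S : ι → Submonoid R)
    (hS : ∀ i r, r ∈ S i ↔ r - 1 ∈ I i) (hI : Pairwise (IsCoprime on I))
    (hN : ∀ r : R, (∀ i, r ∈ I i) → ∀ n : N, r • n = 0) :
    Function.Bijective (LinearMap.pi fun i => LocalizedModule.mkLinearMap (S i) N) := by
  classical
  cases nonempty_fintype ι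
  constructor
  · rw [injective_iff_map_eq_zero]
    intro n hn
    have h1 : ∀ i, ∃ s ∈ S i, s • n = 0 := fun i => by
      have := congrFun hn i
      rw [LinearMap.pi_apply] at this
      exact LocalizedModule.mem_ker_mkLinearMap_iff.mp this
    choose s hs hsn using h1
    have h2 : ∀ i, (1 - s i) • n = n := fun i => by rw [sub_smul, one_smul, hsn, sub_zero]
    have h3 : (∏ i, (1 - s i)) • n = n := by
      have : ∀ t : Finset ι, (∏ i ∈ t, (1 - s i)) • n = n := by
        intro t
        induction t using Finset.induction_on with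
        | empty => simp
        | insert i t hi ih => rw [Finset.prod_insert hi, mul_smul, ih, h2]
      exact this _
    rw [← h3]
    apply hN
    intro j
    have hj : 1 - s j ∈ I j := by
      have := (hS j (s j)).mp (hs j)
      rw [← neg_sub]
      exact (I j).neg_mem this
    exact Ideal.mem_of_dvd _ (Finset.dvd_prod_of_mem _ (Finset.mem_univ j)) hj
  · intro z
    have h1 : ∀ i, ∃ (n : N) (s : S i), z i = LocalizedModule.mk n s := fun i => by
      induction z i using LocalizedModule.induction_on with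
      | h n s => exact ⟨n, s, rfl⟩
    choose n s hz using h1
    have h2 : ∀ i, ∃ e : R, ∀ j, e - (if j = i then 1 else 0) ∈ I j := fun i =>
      Ideal.exists_forall_sub_mem_ideal hI (fun j => if j = i then 1 else 0)
    choose e he using h2
    have hei : ∀ i, e i - 1 ∈ I i := fun i => by simpa using he i i
    have hej : ∀ i j, j ≠ i → e i ∈ I j := fun i j hji => by simpa [hji] using he i j
    have hsi : ∀ i, ((s i : S i) : R) - 1 ∈ I i := fun i => (hS i _).mp (s i).2
    refine ⟨∑ j, e j • n j, funext fun i => ?_⟩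
    rw [LinearMap.pi_apply, LocalizedModule.mkLinearMap_apply, hz i, LocalizedModule.mk_eq]
    refine ⟨⟨e i, (hS i _).mpr (hei i)⟩, ?_⟩
    simp only [Submonoid.smul_def, one_smul]
    rw [Finset.smul_sum, Finset.smul_sum]
    rw [Finset.sum_eq_single i]
    · -- the diagonal term
      rw [smul_smul, smul_smul]
      have hmem : ∀ l, e i * (s i : R) * e i - e i ∈ I l := by
        intro l
        by_cases hl : l = i
        · subst hl
          have : e l * (s l : R) * e l - e l =
              e l * ((s l : R) * (e l - 1) + ((s l : R) - 1)) := by ring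
          rw [this]
          exact (I l).mul_mem_left _ ((I l).add_mem ((I l).mul_mem_left _ (hei l)) (hsi l))
        · have : e i * (s i : R) * e i - e i = ((s i : R) * e i - 1) * e i := by ring
          rw [this]
          exact (I l).mul_mem_left _ (hej i l hl)
      have := hN _ hmem (n i)
      rw [sub_smul, sub_eq_zero] at this
      exact this
    · intro j _ hji
      rw [smul_smul, smul_smul]
      apply hN
      intro l
      by_cases hl : l = i
      · subst hl
        exact (I l).mul_mem_left _ (hej j l (Ne.symm hji))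
      · have : e i * (s i : R) * e j = ((s i : R) * e j) * e i := by ring
        rw [this]
        exact (I l).mul_mem_left _ (hej i l hl)
    · intro hi
      exact absurd (Finset.mem_univ i) hi

end Loc

variable (Λ : Type u) [CommRing Λ]

section Transport

variable {C C' : Type v} [AddCommGroup C] [AddCommGroup C']

/-- Transport of the cyclotomic ideal along an isomorphism of groups. -/
theorem mapDomainRingHom_mem_cycIdeal (ψ : C ≃+ C') {z : AddMonoidAlgebra Λ C}
    (hz : z ∈ cycIdeal Λ C) :
    AddMonoidAlgebra.mapDomainRingHom Λ ψ.toAddMonoidHom z ∈ cycIdeal Λ C' := by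
  have hle : cycIdeal Λ C ≤
      (cycIdeal Λ C').comap (AddMonoidAlgebra.mapDomainRingHom Λ ψ.toAddMonoidHom) := by
    rw [cycIdeal, Ideal.span_le]
    rintro _ ⟨g, hg, rfl⟩
    rw [SetLike.mem_coe, Ideal.mem_comap]
    have hcomp : (AddMonoidAlgebra.mapDomainRingHom Λ ψ.toAddMonoidHom).comp
        (algebraMap Λ (AddMonoidAlgebra Λ C)) = algebraMap Λ (AddMonoidAlgebra Λ C') := by
      ext r
      simp [AddMonoidAlgebra.coe_algebraMap]
    rw [Polynomial.aeval_def, Polynomial.hom_eval₂, hcomp]
    have hsingle : AddMonoidAlgebra.mapDomainRingHom Λ ψ.toAddMonoidHom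
        (AddMonoidAlgebra.single g (1 : Λ)) = AddMonoidAlgebra.single (ψ g) 1 := by
      simp
    rw [hsingle, ← Polynomial.aeval_def, Nat.card_congr ψ.toEquiv]
    refine Ideal.subset_span ⟨ψ g, ?_, rfl⟩
    have h1 : (AddSubgroup.zmultiples g).map ψ.toAddMonoidHom = AddSubgroup.zmultiples (ψ g) :=
      AddMonoidHom.map_zmultiples _ _
    rw [← h1, hg]
    exact AddSubgroup.map_top_of_surjective _ ψ.surjective
  exact hle hz

end Transport

section Assembly

variable (M : Type v) [AddCommGroup M]

/-- If `x ∈ Λ[M]` dies in all the cyclotomic quotients attached to the subgroups `B ⊇ B₀` with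
cyclic quotient, then `x` dies in `Λ[M ⧸ B₀]`. -/
theorem quotMap_eq_zero_of_forall_cycQuotMap_eq_zero (B₀ : AddSubgroup M) [B₀.FiniteIndex]
    (hu : IsUnit ((B₀.index : ℕ) : Λ)) (x : AddMonoidAlgebra Λ M)
    (hx : ∀ B : AddSubgroup M, B₀ ≤ B → IsAddCyclic (M ⧸ B) → cycQuotMap Λ M B x = 0) :
    quotMap Λ M B₀ x = 0 := by
  have hn : IsUnit ((Nat.card (M ⧸ B₀) : ℕ) : Λ) := by rwa [← AddSubgroup.index_eq_card]
  apply eq_zero_of_forall_cycQuotMap_eq_zero Λ (M ⧸ B₀) hn
  intro B' hB'
  set φ : M →+ (M ⧸ B₀) ⧸ B' :=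
    (QuotientAddGroup.mk' B').comp (QuotientAddGroup.mk' B₀) with hφ
  have hφs : Function.Surjective φ :=
    (QuotientAddGroup.mk'_surjective B').comp (QuotientAddGroup.mk'_surjective B₀)
  let ψ : M ⧸ φ.ker ≃+ (M ⧸ B₀) ⧸ B' := QuotientAddGroup.quotientKerEquivOfSurjective φ hφs
  have hle : B₀ ≤ φ.ker := by
    intro b hb
    have hb0 : (QuotientAddGroup.mk' B₀) b = 0 := (QuotientAddGroup.eq_zero_iff b).mpr hb
    rw [AddMonoidHom.mem_ker, hφ, AddMonoidHom.comp_apply, hb0, map_zero]
  have hcyc : IsAddCyclic (M ⧸ φ.ker) := ψ.isAddCyclic.mpr hB'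
  have h1 := hx φ.ker hle hcyc
  rw [cycQuotMap_apply, Ideal.Quotient.eq_zero_iff_mem] at h1
  have h2 := mapDomainRingHom_mem_cycIdeal Λ ψ h1
  have h3 : ∀ y : AddMonoidAlgebra Λ M,
      AddMonoidAlgebra.mapDomainRingHom Λ ψ.toAddMonoidHom (quotMap Λ M φ.ker y) =
        quotMap Λ (M ⧸ B₀) B' (quotMap Λ M B₀ y) := by
    intro y
    induction y using AddMonoidAlgebra.induction_linear with
    | zero => simp
    | add a b ha hb => simp only [map_add, ha, hb]
    | single m r =>
      rw [quotMap_single, quotMap_single, quotMap_single]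
      simp only [AddMonoidAlgebra.mapDomainRingHom_apply, AddMonoidAlgebra.mapDomain_single]
      rfl
  rw [h3] at h2
  rw [cycQuotMap_apply, Ideal.Quotient.eq_zero_iff_mem]
  exact h2

/-- The statement of S19279. -/
theorem bijective_pi_mkLinearMap_quotGroupRing (B₀ : AddSubgroup M) [B₀.FiniteIndex]
    (hu : IsUnit ((B₀.index : ℕ) : Λ)) :
    Function.Bijective (LinearMap.pi (R := AddMonoidAlgebra Λ M)
      fun B : {B : AddSubgroup M // B₀ ≤ B ∧ IsAddCyclic (M ⧸ B)} =>
        LocalizedModule.mkLinearMap (locSubmonoid Λ M B.1) (AddMonoidAlgebra Λ (M ⧸ B₀))) := by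
  have hfin : Finite {B : AddSubgroup M // B₀ ≤ B ∧ IsAddCyclic (M ⧸ B)} := by
    have : Finite (M ⧸ B₀) := AddSubgroup.finite_quotient_of_finiteIndex
    refine Finite.of_injective
      (fun B : {B : AddSubgroup M // B₀ ≤ B ∧ IsAddCyclic (M ⧸ B)} =>
        B.1.map (QuotientAddGroup.mk' B₀)) ?_
    intro B B' h
    apply Subtype.ext
    have h1 := congrArg (AddSubgroup.comap (QuotientAddGroup.mk' B₀)) h
    rwa [AddSubgroup.comap_map_eq_self (by rw [QuotientAddGroup.ker_mk']; exact B.2.1),
      AddSubgroup.comap_map_eq_self (by rw [QuotientAddGroup.ker_mk']; exact B'.2.1)] at h1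
  refine bijective_pi_mkLinearMap_of_coprime
    (fun B : {B : AddSubgroup M // B₀ ≤ B ∧ IsAddCyclic (M ⧸ B)} =>
      RingHom.ker (cycQuotMap Λ M B.1))
    (fun B => locSubmonoid Λ M B.1) ?_ ?_ ?_
  · intro B r
    rw [mem_locSubmonoid, RingHom.mem_ker, map_sub, map_one, sub_eq_zero]
  · intro B B' hne
    have := B.2.2
    have := B'.2.2
    have : B.1.FiniteIndex := AddSubgroup.finiteIndex_of_le B.2.1
    have : B'.1.FiniteIndex := AddSubgroup.finiteIndex_of_le B'.2.1
    exact isCoprime_ker_cycQuotMap Λ M B.1 B'.1 (fun h => hne (Subtype.ext h))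
      (isUnit_natCast_of_dvd Λ (AddSubgroup.index_dvd_of_le B.2.1) hu)
      (isUnit_natCast_of_dvd Λ (AddSubgroup.index_dvd_of_le B'.2.1) hu)
  · intro r hr n
    have h0 : quotMap Λ M B₀ r = 0 := by
      apply quotMap_eq_zero_of_forall_cycQuotMap_eq_zero Λ M B₀ hu
      intro B hB hcyc
      exact hr ⟨B, hB, hcyc⟩
    rw [smul_def', h0, zero_mul]

end Assembly

end Groth.Agent.Lib.GrpAlgCyc
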