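import Mathlib
import Groth.Prelude.Def_CartDual
import Groth.Prelude.Def_CartDual2
import Groth.Prelude.Def_ConstGrp

/-!
# Dual of a group algebra as an algebra; transposes of bialgebra equivalences (helper97)
-/

set_option autoImplicit false
set_option linter.unusedSectionVars false
universe u v w

open TensorProduct CartDual

namespace Groth.Agent.GrpAlgDual97

section Transpose

variable (R : Type u) [CommRing R] {A : Type v} [Ring A] [Bialgebra R A] {B : Type w} [Ring B] [Bialgebra R B]
  [Module.Finite R A] [Module.Projective R A] [Module.Finite R B] [Module.Projective R B]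

/-- the transpose of a bialgebra equivalence, as an algebra equivalence of the duals. -/
noncomputable def transposeEquiv (e : A ≃ₐc[R] B) : D R B ≃ₐ[R] D R A :=
  AlgEquiv.ofAlgHom (CartDual.transpose R (e : A →ₐc[R] B) : D R B →ₐ[R] D R A)
    (CartDual.transpose R (e.symm : B →ₐc[R] A) : D R A →ₐ[R] D R B)
    (by
      apply AlgHom.ext; intro y
      apply WithConv.ext; apply LinearMap.ext; intro a
      show y.ofConv (e.symm (e a)) = y.ofConv a
      rw [BialgEquiv.symm_apply_apply])
    (by
      apply AlgHom.ext; intro y
      apply WithConv.ext; apply LinearMap.ext; intro a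
      show y.ofConv (e (e.symm a)) = y.ofConv a
      rw [BialgEquiv.apply_symm_apply])

end Transpose

section GrpAlg

variable (R : Type u) [CommRing R] (G : Type v) [Group G]

theorem convMul_single (y z : D R (MonoidAlgebra R G)) (g : G) :
    (y * z) (MonoidAlgebra.single g 1) = y (MonoidAlgebra.single g 1) * z (MonoidAlgebra.single g 1) := by
  rw [LinearMap.convMul_apply, MonoidAlgebra.comul_single]
  simp [CartDual.coe_apply]

theorem convOne_single (g : G) : (1 : D R (MonoidAlgebra R G)) (MonoidAlgebra.single g 1) = 1 := by
  rw [LinearMap.convOne_apply, MonoidAlgebra.counit_single]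
  simp

/-- evaluation at group elements, as an algebra map from the dual of the group algebra to functions. -/
noncomputable def evalHom : D R (MonoidAlgebra R G) →ₐ[R] ConstGrp.F R G :=
  AlgHom.ofLinearMap
    { toFun := fun y => ((fun g => y (MonoidAlgebra.single g 1)) : ConstGrp.F R G)
      map_add' := fun _ _ => rfl
      map_smul' := fun _ _ => rfl }
    (by ext g; exact convOne_single R G g)
    (by intro y z; ext g; exact convMul_single R G y z g)

theorem evalHom_apply (y : D R (MonoidAlgebra R G)) (g : G) :
    evalHom R G y g = y (MonoidAlgebra.single g 1) := rfl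

theorem evalHom_bijective : Function.Bijective (evalHom R G) := by
  constructor
  · intro y z h
    apply WithConv.ext
    apply MonoidAlgebra.lhom_ext'
    intro g
    apply LinearMap.ext_ring
    exact congrFun h g
  · intro f
    refine ⟨WithConv.toConv ((MonoidAlgebra.basis G R).constr R f), ?_⟩
    ext g
    show (MonoidAlgebra.basis G R).constr R f (MonoidAlgebra.single g 1) = f g
    rw [← MonoidAlgebra.basis_apply, Module.Basis.constr_basis]

/-- the dual of the group algebra is the algebra of functions. -/
noncomputable def evalEquiv : D R (MonoidAlgebra R G) ≃ₐ[R] ConstGrp.F R G :=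
  AlgEquiv.ofBijective (evalHom R G) (evalHom_bijective R G)

end GrpAlg

end Groth.Agent.GrpAlgDual97
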