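import Mathlib.CategoryTheory.Monoidal.Cartesian.Over
import Mathlib.CategoryTheory.Monoidal.Cartesian.Grp
import Mathlib.AlgebraicGeometry.Pullbacks

/-!
# Points of the base change of a group object of `Over S` (helper45)

For `f : R ⟶ S` with `[GrpObj (Over.mk f)]` and `p : S' ⟶ S`, the base change
`Over.mk (pullback.snd f p)` is a group object (`Over.grpObjMkPullbackSnd`). For `Q : Over S'` and
`a : Q ⟶ Over.mk (pullback.snd f p)` the transpose `tr a : Over.mk (Q.hom ≫ p) ⟶ Over.mk f` is
compatible with the group structures: `tr_one`, `tr_mul`, `tr_inv`, `tr_comp`.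
-/

set_option autoImplicit false
universe v u
open CategoryTheory CategoryTheory.Limits MonoidalCategory CartesianMonoidalCategory MonObj GrpObj

namespace Groth.Agent.Lib.GrpBaseChange45

attribute [local instance] Over.cartesianMonoidalCategory

variable {C : Type u} [Category.{v} C] [HasPullbacks C] {R S S' : C} (f : R ⟶ S) (p : S' ⟶ S)

/-- The transpose of a point of the base change. -/
noncomputable def tr {Q : Over S'} (a : Q ⟶ Over.mk (pullback.snd f p)) :
    Over.mk (Q.hom ≫ p) ⟶ Over.mk f :=
  Over.homMk (a.left ≫ pullback.fst f p) (by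
    have h := Over.w a
    simp only [Over.mk_hom] at h ⊢
    rw [Category.assoc, pullback.condition, ← Category.assoc, h])

@[simp] lemma tr_left {Q : Over S'} (a : Q ⟶ Over.mk (pullback.snd f p)) :
    (tr f p a).left = a.left ≫ pullback.fst f p := rfl

/-- Restriction of points along `r : Q' ⟶ Q`. -/
noncomputable def res {Q Q' : Over S'} (r : Q' ⟶ Q) : Over.mk (Q'.hom ≫ p) ⟶ Over.mk (Q.hom ≫ p) :=
  Over.homMk r.left (by
    have h := Over.w r
    simp only [Over.mk_hom]
    rw [← Category.assoc, h])

lemma tr_comp {Q Q' : Over S'} (r : Q' ⟶ Q) (a : Q ⟶ Over.mk (pullback.snd f p)) :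
    tr f p (r ≫ a) = res p r ≫ tr f p a := by
  ext
  simp [tr, res]

variable [GrpObj (Over.mk f)]

attribute [local instance] Over.grpObjMkPullbackSnd

lemma tr_one {Q : Over S'} : tr f p (1 : Q ⟶ Over.mk (pullback.snd f p)) = 1 := by
  ext
  rw [tr_left, Hom.one_def, Hom.one_def, Over.comp_left, Over.comp_left,
    Over.grpObjMkPullbackSnd_one, Over.comp_left, Over.ε_pullback_left]
  simp only [Category.assoc]
  have h1 : Over.Hom.left ((Over.pullback p).map η[Over.mk f]) ≫ pullback.fst f p =
      pullback.fst (𝟙 S) p ≫ η[Over.mk f].left := by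
    simp only [Over.pullback_map_left]
    exact pullback.lift_fst _ _ _
  have h2 : CategoryTheory.inv (pullback.snd (𝟙 S) p) ≫ pullback.fst (𝟙 S) p = p := by
    rw [IsIso.inv_comp_eq]
    have := pullback.condition (f := 𝟙 S) (g := p)
    rw [Category.comp_id] at this
    exact this
  rw [h1, ← Category.assoc (CategoryTheory.inv _), h2]
  simp

lemma tr_mul {Q : Over S'} (a b : Q ⟶ Over.mk (pullback.snd f p)) :
    tr f p (a * b) = tr f p a * tr f p b := by
  ext
  rw [tr_left, Hom.mul_def, Hom.mul_def, Over.comp_left, Over.comp_left,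
    Over.grpObjMkPullbackSnd_mul, Over.comp_left]
  simp only [Category.assoc]
  have h1 : Over.Hom.left ((Over.pullback p).map μ[Over.mk f]) ≫ pullback.fst f p =
      pullback.fst _ p ≫ μ[Over.mk f].left := by
    simp only [Over.pullback_map_left]
    exact pullback.lift_fst _ _ _
  rw [h1]
  simp only [← Category.assoc]
  congr 1
  simp only [Category.assoc]
  apply pullback.hom_ext
  · have e1 := Over.μ_pullback_left_fst_fst' (f := p) f f
    simp only [Category.assoc]
    erw [e1]
    rw [Over.lift_left, Over.lift_left]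
    erw [pullback.lift_fst_assoc, pullback.lift_fst]
    rfl
  · have e2 := Over.μ_pullback_left_fst_snd' (f := p) f f
    simp only [Category.assoc]
    erw [e2]
    rw [Over.lift_left, Over.lift_left]
    erw [pullback.lift_snd_assoc, pullback.lift_snd]
    rfl

lemma tr_inv {Q : Over S'} (a : Q ⟶ Over.mk (pullback.snd f p)) :
    tr f p a⁻¹ = (tr f p a)⁻¹ := by
  have h : tr f p a * tr f p a⁻¹ = 1 := by
    rw [← tr_mul, mul_inv_cancel, tr_one]
  exact eq_inv_of_mul_eq_one_right h

end Groth.Agent.Lib.GrpBaseChange45
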