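import Groth.Agent.Lib.GrpDenseMul45
import Mathlib.AlgebraicGeometry.Morphisms.UniversallyOpen
import Mathlib.AlgebraicGeometry.Morphisms.ClosedImmersion
import Mathlib.AlgebraicGeometry.ResidueField
import Mathlib.RingTheory.Artinian.Ring
import Mathlib.CategoryTheory.Monoidal.Cartesian.Over

/-!
# `U · V = G` for dense opens of a group scheme over a base with universally open points (helper45)

* `mul_dense_opens_of_isOpenMap` : general base `S`; if the projection
  `Spec κ(x) ×_S G ⟶ G` is open, then `x ∈ U · V` for dense opens `U`, `V`.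
* `universallyOpen_of_field_of_artinian` : every morphism from the spectrum of a field to the
  spectrum of an artinian local ring is universally open.
-/

set_option autoImplicit false
universe u
open CategoryTheory CategoryTheory.Limits MonoidalCategory CartesianMonoidalCategory MonObj GrpObj
  AlgebraicGeometry

namespace Groth.Agent.Lib.GrpDenseArt45

theorem mul_dense_opens_of_isOpenMap {S : Scheme.{u}} (G : Over S) [GrpObj G]
    (U V : G.left.Opens) (hU : Dense (U : Set G.left)) (hV : Dense (V : Set G.left)) (x : G.left)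
    (hopen : IsOpenMap (pullback.snd (G.left.fromSpecResidueField x ≫ G.hom) G.hom)) :
    ∃ z : ↥(G ⊗ G).left, (fst G G).left z ∈ U ∧ (snd G G).left z ∈ V ∧ μ[G].left z = x := by
  let T : Over S := Over.mk (G.left.fromSpecResidueField x ≫ G.hom)
  let ψ : T ⟶ G := Over.homMk (G.left.fromSpecResidueField x) rfl
  let Ψ := Groth.Agent.Lib.GrpDenseMul45.invTranslateIso G T ψ
  let φ := Groth.Agent.Lib.GrpDenseMul45.splitHom G T ψ
  have hopen' : IsOpenMap (snd T G).left := hopen
  have hcont : Continuous (snd T G).left := (snd T G).left.continuous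
  have hA : Dense ((snd T G).left ⁻¹' (U : Set G.left)) := hU.preimage hopen'
  have hB0 : Dense ((snd T G).left ⁻¹' (V : Set G.left)) := hV.preimage hopen'
  have hΨiso : IsIso Ψ.hom.left :=
    (inferInstance : IsIso ((Over.forget _).map Ψ.hom))
  have hΨopen : IsOpenMap Ψ.hom.left := Ψ.hom.left.isOpenEmbedding.isOpenMap
  have hB : Dense (Ψ.hom.left ⁻¹' ((snd T G).left ⁻¹' (V : Set G.left))) := hB0.preimage hΨopen
  have hBo : IsOpen (Ψ.hom.left ⁻¹' ((snd T G).left ⁻¹' (V : Set G.left))) :=
    (V.isOpen.preimage hcont).preimage Ψ.hom.left.continuous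
  let pt : T.left := (default : Spec (G.left.residueField x))
  let y₀ : (T ⊗ G).left := (lift (𝟙 T) ψ).left pt
  have hne : Nonempty (T ⊗ G).left := ⟨y₀⟩
  obtain ⟨y, hyB, hyA⟩ := hA.inter_open_nonempty _ hBo hB.nonempty
  refine ⟨φ.left y, ?_, ?_, ?_⟩
  · have h1 : (fst G G).left (φ.left y) = (snd T G).left y := by
      rw [← Scheme.Hom.comp_apply, ← Over.comp_left,
        Groth.Agent.Lib.GrpDenseMul45.splitHom_fst]
    rw [h1]
    exact hyA
  · have h1 : (snd G G).left (φ.left y) = (snd T G).left (Ψ.hom.left y) := by
      rw [← Scheme.Hom.comp_apply, ← Over.comp_left,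
        Groth.Agent.Lib.GrpDenseMul45.splitHom_snd, Over.comp_left, Scheme.Hom.comp_apply]
    rw [h1]
    exact hyB
  · have h1 : (μ[G]).left (φ.left y) = ψ.left ((fst T G).left y) := by
      rw [← Scheme.Hom.comp_apply, ← Over.comp_left,
        Groth.Agent.Lib.GrpDenseMul45.splitHom_mul, Over.comp_left, Scheme.Hom.comp_apply]
    rw [h1]
    exact Scheme.fromSpecResidueField_apply x _

section artinian

variable {A : Type u} [CommRing A] [IsArtinianRing A] [IsLocalRing A]

lemma subsingleton_primeSpectrum : Subsingleton (PrimeSpectrum A) := by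
  refine ⟨fun p q => ?_⟩
  have hp : p.asIdeal = IsLocalRing.maximalIdeal A :=
    IsLocalRing.eq_maximalIdeal (inferInstance : p.asIdeal.IsMaximal)
  have hq : q.asIdeal = IsLocalRing.maximalIdeal A :=
    IsLocalRing.eq_maximalIdeal (inferInstance : q.asIdeal.IsMaximal)
  exact PrimeSpectrum.ext (hp.trans hq.symm)

/-- `Spec (A/m) ⟶ Spec A` is universally open for an artinian local ring. -/
lemma universallyOpen_specMap_residue :
    UniversallyOpen (Spec.map (CommRingCat.ofHom
      (Ideal.Quotient.mk (IsLocalRing.maximalIdeal A)))) := by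
  set g := Spec.map (CommRingCat.ofHom (Ideal.Quotient.mk (IsLocalRing.maximalIdeal A))) with hg
  have hcl : IsClosedImmersion g :=
    IsClosedImmersion.spec_of_surjective _ Ideal.Quotient.mk_surjective
  have hsub : Subsingleton (PrimeSpectrum A) := subsingleton_primeSpectrum
  have hsurj : Surjective g := by
    refine ⟨fun y => ?_⟩
    have : Nonempty ↥(Spec (CommRingCat.of (A ⧸ IsLocalRing.maximalIdeal A))) :=
      inferInstanceAs (Nonempty (PrimeSpectrum (A ⧸ IsLocalRing.maximalIdeal A)))
    obtain ⟨z⟩ := this
    exact ⟨z, Subsingleton.elim (α := PrimeSpectrum A) _ _⟩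
  refine ⟨fun X' Y' i₁ i₂ f' h => ?_⟩
  have h1 : IsClosedImmersion f' := MorphismProperty.of_isPullback h.flip hcl
  have h2 : Surjective f' := MorphismProperty.of_isPullback h.flip hsurj
  have h3 : IsHomeomorph f' :=
    isHomeomorph_iff_isEmbedding_surjective.mpr ⟨f'.isClosedEmbedding.isEmbedding, f'.surjective⟩
  exact h3.isOpenMap

/-- Every morphism from the spectrum of a field to the spectrum of an artinian local ring is
universally open. -/
theorem universallyOpen_of_field_of_artinian (L : Type u) [Field L]
    (f : Spec (CommRingCat.of L) ⟶ Spec (CommRingCat.of A)) : UniversallyOpen f := by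
  obtain ⟨φ, rfl⟩ := Spec.map_surjective f
  have hker : RingHom.ker φ.hom = IsLocalRing.maximalIdeal A := by
    have hprime : (RingHom.ker φ.hom).IsPrime := RingHom.ker_isPrime _
    exact IsLocalRing.eq_maximalIdeal (inferInstance : (RingHom.ker φ.hom).IsMaximal)
  let φ' : A ⧸ IsLocalRing.maximalIdeal A →+* L :=
    Ideal.Quotient.lift _ φ.hom (fun a ha => by rwa [← hker, RingHom.mem_ker] at ha)
  have hfac : φ = CommRingCat.ofHom (Ideal.Quotient.mk (IsLocalRing.maximalIdeal A)) ≫
      CommRingCat.ofHom φ' := by
    ext a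
    simp [φ']
  rw [hfac, Spec.map_comp]
  have h1 := universallyOpen_specMap_residue (A := A)
  have hint : IsIntegral (Spec (CommRingCat.of (A ⧸ IsLocalRing.maximalIdeal A))) :=
    inferInstance
  have hss : Subsingleton ↥(Spec (CommRingCat.of (A ⧸ IsLocalRing.maximalIdeal A))) := by
    have hinj : Function.Injective (PrimeSpectrum.comap
        (Ideal.Quotient.mk (IsLocalRing.maximalIdeal A))) :=
      PrimeSpectrum.comap_injective_of_surjective _ Ideal.Quotient.mk_surjective
    have := subsingleton_primeSpectrum (A := A)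
    exact hinj.subsingleton
  have h2 : UniversallyOpen (Spec.map (CommRingCat.ofHom φ')) := inferInstance
  infer_instance

end artinian

end Groth.Agent.Lib.GrpDenseArt45
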