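import Mathlib.CategoryTheory.Monoidal.Cartesian.Over
import Mathlib.CategoryTheory.Monoidal.Cartesian.Grp

/-!
# The map `(t, g) ↦ (g, g⁻¹ ψ(t))` for group objects (helper45)
-/

set_option autoImplicit false
open CategoryTheory MonoidalCategory CartesianMonoidalCategory MonObj GrpObj

namespace Groth.Agent.Lib.GrpDenseMul45

variable {C : Type*} [Category C] [CartesianMonoidalCategory C] (G : C) [GrpObj G]

/-- The automorphism `(t, g) ↦ (t, g⁻¹ ψ(t))` of `T ⊗ G`. -/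
noncomputable def invTranslateIso (T : C) (ψ : T ⟶ G) : T ⊗ G ≅ T ⊗ G where
  hom := lift (fst T G) ((snd T G)⁻¹ * (fst T G ≫ ψ))
  inv := lift (fst T G) ((fst T G ≫ ψ) * (snd T G)⁻¹)
  hom_inv_id := by
    ext
    · simp
    · simp [MonObj.comp_mul, GrpObj.comp_inv]
  inv_hom_id := by
    ext
    · simp
    · simp [MonObj.comp_mul, GrpObj.comp_inv]

/-- The morphism `(t, g) ↦ (g, g⁻¹ ψ(t))`. -/
noncomputable def splitHom (T : C) (ψ : T ⟶ G) : T ⊗ G ⟶ G ⊗ G :=
  lift (snd T G) ((snd T G)⁻¹ * (fst T G ≫ ψ))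

lemma splitHom_fst (T : C) (ψ : T ⟶ G) : splitHom G T ψ ≫ fst G G = snd T G := by
  simp [splitHom]

lemma splitHom_snd (T : C) (ψ : T ⟶ G) :
    splitHom G T ψ ≫ snd G G = (invTranslateIso G T ψ).hom ≫ snd T G := by
  simp [splitHom, invTranslateIso]

lemma splitHom_mul (T : C) (ψ : T ⟶ G) : splitHom G T ψ ≫ μ[G] = fst T G ≫ ψ := by
  rw [splitHom, ← Hom.mul_def, mul_inv_cancel_left]

end Groth.Agent.Lib.GrpDenseMul45
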