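import Mathlib.CategoryTheory.Monoidal.Cartesian.Grp
import Mathlib.CategoryTheory.Limits.Shapes.Pullback.IsPullback.Basic

/-!
# The unit section and the diagonal of a group object are base changes of each other
-/

universe v u
open CategoryTheory MonoidalCategory CartesianMonoidalCategory MonObj Limits

namespace Groth.Agent.Lib.GrpDiag91

variable {C : Type u} [Category.{v} C] [CartesianMonoidalCategory C] (G : C) [GrpObj G]

/-- The difference map `(g, g') ↦ g⁻¹ g'`. -/
noncomputable def diffMap : G ⊗ G ⟶ G := (fst G G)⁻¹ * snd G G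

theorem comp_diffMap {T : C} (y : T ⟶ G ⊗ G) :
    y ≫ diffMap G = (y ≫ fst G G)⁻¹ * (y ≫ snd G G) := by
  unfold diffMap
  rw [MonObj.comp_mul, GrpObj.comp_inv]

theorem comp_unit {T : C} (x : T ⟶ 𝟙_ C) : x ≫ η[G] = 1 := by
  rw [Hom.one_def]; congr 1; exact toUnit_unique _ _

/-- The diagonal of `G` is the base change of the unit section along the difference map. -/
theorem isPullback_diag : IsPullback (lift (𝟙 G) (𝟙 G)) (toUnit G) (diffMap G) η[G] := by
  refine ⟨⟨?_⟩, ⟨PullbackCone.IsLimit.mk _ (fun s => s.fst ≫ fst G G) ?_ ?_ ?_⟩⟩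
  · rw [comp_diffMap, lift_fst, lift_snd, inv_mul_cancel, comp_unit]
  · intro s
    have h := s.condition
    rw [comp_diffMap, comp_unit, inv_mul_eq_iff_eq_mul, _root_.mul_one] at h
    apply CartesianMonoidalCategory.hom_ext
    · simp
    · simp [h]
  · intro s
    exact toUnit_unique _ _
  · intro s m hm _
    rw [← hm, Category.assoc, lift_fst, Category.comp_id]

/-- The unit section of `G` is the base change of the diagonal along `g ↦ (1, g)`. -/
theorem isPullback_unit :
    IsPullback η[G] η[G] (lift (𝟙 G) (𝟙 G)) (lift (1 : G ⟶ G) (𝟙 G)) := by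
  refine ⟨⟨?_⟩, ⟨PullbackCone.IsLimit.mk _ (fun s => toUnit s.pt) ?_ ?_ ?_⟩⟩
  · apply CartesianMonoidalCategory.hom_ext
    · rw [Category.assoc, Category.assoc, lift_fst, lift_fst, MonObj.comp_one, Category.comp_id]
      exact (Category.id_comp _).symm.trans (comp_unit G (𝟙 _))
    · simp
  · intro s
    have h := s.condition
    have h1 := congrArg (· ≫ fst G G) h
    simp only [Category.assoc, lift_fst, Category.comp_id, MonObj.comp_one] at h1
    exact (comp_unit G _).trans h1.symm
  · intro s
    have h := s.condition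
    have h1 := congrArg (· ≫ fst G G) h
    have h2 := congrArg (· ≫ snd G G) h
    simp only [Category.assoc, lift_fst, lift_snd, Category.comp_id, MonObj.comp_one] at h1 h2
    exact (comp_unit G _).trans (h1.symm.trans h2)
  · intro s m _ _
    exact toUnit_unique _ _

end Groth.Agent.Lib.GrpDiag91
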