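import Groth.Agent.Lib.GrpTopId45

/-!
# `G⁰ ⊆ U · V` for opens meeting `G⁰` (helper45)

* `Z0_subset_mulSet_two` : over an algebraically closed field, the unit component is contained in
  `U · V` for all opens `U`, `V` meeting it.
* `range_tensorHom_comp_mul` : the range of `(a ⊗ₘ b) ≫ μ` is `mulSet (range a) (range b)`.
-/

set_option autoImplicit false
set_option linter.unusedSectionVars false
universe u
open CategoryTheory CategoryTheory.Limits MonoidalCategory CartesianMonoidalCategory MonObj GrpObj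
  AlgebraicGeometry
open Groth.Agent.Lib.GrpTopPts45 Groth.Agent.Lib.UniqueComp45 Groth.Agent.Lib.GrpTopIrr45
  Groth.Agent.Lib.GrpTopConn45 Groth.Agent.Lib.GrpTopVD45 Groth.Agent.Lib.GrpTopBC45

namespace Groth.Agent.Lib.GrpTopDiv45

section range

variable {k : Type u} [Field k] {G : Over (Spec (CommRingCat.of k))} [GrpObj G]

/-- The range of `(a ⊗ₘ b) ≫ μ` on points is the product set of the ranges. -/
theorem range_tensorHom_comp_mul {S T : Over (Spec (CommRingCat.of k))} (a : S ⟶ G) (b : T ⟶ G) :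
    Set.range ((a ⊗ₘ b) ≫ μ[G]).left = mulSet G (Set.range a.left) (Set.range b.left) := by
  have hr := Scheme.Pullback.range_map (f := S.hom) (g := T.hom) G.hom G.hom a.left b.left
    (𝟙 _) (by simp) (by simp)
  have h1 : Set.range ((a ⊗ₘ b) ≫ μ[G]).left = μ[G].left '' Set.range (a ⊗ₘ b).left := by
    rw [Over.comp_left]
    ext x
    simp only [Set.mem_range, Set.mem_image, Scheme.Hom.comp_apply]
    constructor
    · rintro ⟨y, rfl⟩; exact ⟨_, ⟨y, rfl⟩, rfl⟩
    · rintro ⟨_, ⟨y, rfl⟩, rfl⟩; exact ⟨y, rfl⟩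
  rw [h1]
  change _ = μ[G].left '' (pullback.fst G.hom G.hom ⁻¹' Set.range a.left ∩
    pullback.snd G.hom G.hom ⁻¹' Set.range b.left)
  rw [← hr]
  rfl

end range

section algClosed

variable {k : Type u} [Field k] [IsAlgClosed k] {G : Over (Spec (CommRingCat.of k))} [GrpObj G]

/-- Over an algebraically closed field, the unit component is contained in `U · V` for all opens
`U`, `V` meeting it. -/
theorem Z0_subset_mulSet_two {U V : Set G.left} (hU : IsOpen U) (hV : IsOpen V)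
    (hneU : (Z0 G ∩ U).Nonempty) (hneV : (Z0 G ∩ V).Nonempty) :
    Z0 G ⊆ mulSet G U V := by
  intro x hx
  let P := ptObj x
  let ψ : P ⟶ G := ptHom x
  let Ψ := Groth.Agent.Lib.GrpDenseMul45.invTranslateIso G P ψ
  let φ := Groth.Agent.Lib.GrpDenseMul45.splitHom G P ψ
  have hΨiso : IsIso Ψ.hom.left := (inferInstance : IsIso ((Over.forget _).map Ψ.hom))
  set ZP : Set (P ⊗ G).left := (snd P G).left ⁻¹' Z0 G with hZP
  have hZPirr : IsIrreducible ZP := (preimage_snd_mem_irreducibleComponents P G (Z0_mem G)).1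
  have hΨsnd : Ψ.hom ≫ snd P G = (snd P G)⁻¹ * (fst P G ≫ ψ) := by
    simp [Ψ, Groth.Agent.Lib.GrpDenseMul45.invTranslateIso]
  have hΨinvsnd : Ψ.inv ≫ snd P G = (fst P G ≫ ψ) * (snd P G)⁻¹ := by
    simp [Ψ, Groth.Agent.Lib.GrpDenseMul45.invTranslateIso]
  have hψ : ∀ t : (P ⊗ G).left, (fst P G ≫ ψ).left t = x := fun t => by
    rw [comp_left_apply]; exact ptHom_left_apply x _
  have hinvZ : ∀ t : (P ⊗ G).left, t ∈ ZP → ((snd P G)⁻¹).left t ∈ Z0 G := fun t ht => by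
    rw [inv_left_apply]
    exact inv_Z0_subset ⟨_, ht, rfl⟩
  have hΨinvZ : ∀ t ∈ ZP, Ψ.inv.left t ∈ ZP := fun t ht => by
    change (snd P G).left (Ψ.inv.left t) ∈ Z0 G
    rw [← Scheme.Hom.comp_apply, ← Over.comp_left, hΨinvsnd]
    exact mulSet_Z0_Z0 (mul_mem_mulSet _ _ _ (by rw [hψ]; exact hx) (hinvZ t ht))
  have ho1 : IsOpen ((snd P G).left ⁻¹' U) := hU.preimage (snd P G).left.continuous
  have ho2 : IsOpen (Ψ.hom.left ⁻¹' ((snd P G).left ⁻¹' V)) :=
    (hV.preimage (snd P G).left.continuous).preimage Ψ.hom.left.continuous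
  obtain ⟨z, hzZ, hzU⟩ := hneU
  obtain ⟨z', hzZ', hzV⟩ := hneV
  obtain ⟨t₀, ht₀⟩ := surjective_snd_ptObj x z
  obtain ⟨t₁, ht₁⟩ := surjective_snd_ptObj x z'
  have ht₀Z : t₀ ∈ ZP := by rw [hZP, Set.mem_preimage, ht₀]; exact hzZ
  have ht₁Z : t₁ ∈ ZP := by rw [hZP, Set.mem_preimage, ht₁]; exact hzZ'
  have hne1 : (ZP ∩ (snd P G).left ⁻¹' U).Nonempty :=
    ⟨t₀, ht₀Z, by rw [Set.mem_preimage, ht₀]; exact hzU⟩
  have hne2 : (ZP ∩ Ψ.hom.left ⁻¹' ((snd P G).left ⁻¹' V)).Nonempty := by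
    refine ⟨Ψ.inv.left t₁, hΨinvZ t₁ ht₁Z, ?_⟩
    have h3 : Ψ.hom.left (Ψ.inv.left t₁) = t₁ := by
      rw [← Scheme.Hom.comp_apply, ← Over.comp_left, Iso.inv_hom_id]
      simp
    rw [Set.mem_preimage, h3, Set.mem_preimage, ht₁]
    exact hzV
  obtain ⟨y, -, hyA, hyB⟩ := hZPirr.2 _ _ ho1 ho2 hne1 hne2
  refine ⟨φ.left y, ⟨?_, ?_⟩, ?_⟩
  · have h1 : (fst G G).left (φ.left y) = (snd P G).left y := by
      rw [← Scheme.Hom.comp_apply, ← Over.comp_left,
        Groth.Agent.Lib.GrpDenseMul45.splitHom_fst]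
    change (fst G G).left (φ.left y) ∈ U
    rw [h1]
    exact hyA
  · have h1 : (snd G G).left (φ.left y) = (snd P G).left (Ψ.hom.left y) := by
      rw [← Scheme.Hom.comp_apply, ← Over.comp_left,
        Groth.Agent.Lib.GrpDenseMul45.splitHom_snd, Over.comp_left, Scheme.Hom.comp_apply]
    change (snd G G).left (φ.left y) ∈ V
    rw [h1]
    exact hyB
  · have h1 : (μ[G]).left (φ.left y) = ψ.left ((fst P G).left y) := by
      rw [← Scheme.Hom.comp_apply, ← Over.comp_left,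
        Groth.Agent.Lib.GrpDenseMul45.splitHom_mul, Over.comp_left, Scheme.Hom.comp_apply]
    rw [h1]
    exact ptHom_left_apply x _

/-- Over an algebraically closed field, `G⁰ ⊆ U · U⁻¹` for every open `U` meeting `G⁰` inside
`G⁰`. -/
theorem Z0_subset_mulSet_inv {U : Set G.left} (hU : IsOpen U) (hne : (Z0 G ∩ U).Nonempty) :
    Z0 G ⊆ mulSet G U (ι[G].left '' U) := by
  refine Z0_subset_mulSet_two hU (isOpen_inv_image hU) hne ?_
  obtain ⟨z, hzZ, hzU⟩ := hne
  exact ⟨ι[G].left z, inv_Z0_subset ⟨z, hzZ, rfl⟩, ⟨z, hzU, rfl⟩⟩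

end algClosed

end Groth.Agent.Lib.GrpTopDiv45
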