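import Groth.Agent.Lib.FlatClosedSub45
import Groth.Agent.Lib.GrpTopDiv45
import Groth.Agent.Lib.BoxIrr45
import Groth.Agent.Lib.H43QuotGrp2
import Groth.Agent.S7517

/-!
# The identity component of a group scheme over a field as a flat closed subgroup scheme (helper45)

`exists_identityComponent` : for an ARBITRARY group scheme `G` over a field `K` there is a group
scheme `G⁰` with a homomorphism `G⁰ ⟶ G` which is a flat closed immersion with range the connected
component of the unit; `G⁰` is geometrically irreducible and quasi-compact.
-/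

set_option autoImplicit false
universe u
open CategoryTheory CategoryTheory.Limits MonoidalCategory CartesianMonoidalCategory MonObj GrpObj
  AlgebraicGeometry
open Groth.Agent.Lib.GrpTopPts45 Groth.Agent.Lib.UniqueComp45 Groth.Agent.Lib.GrpTopBC45
  Groth.Agent.Lib.GrpTopId45 Groth.Agent.Lib.FlatClosedSub45

namespace Groth.Agent.Lib.GrpIdComp45

variable {K : Type u} [Field K] (G : Over (Spec (CommRingCat.of K))) [GrpObj G]

lemma isIrreducible_cc : IsIrreducible (connectedComponent (unitPt G)) := by
  let hG : GrpObj (Over.mk G.hom) := ‹GrpObj G›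
  exact isIrreducible_connectedComponent G.hom

lemma isCompact_cc : IsCompact (connectedComponent (unitPt G)) := by
  let hG : GrpObj (Over.mk G.hom) := ‹GrpObj G›
  exact isCompact_connectedComponent G.hom

lemma cc_mem_irreducibleComponents :
    connectedComponent (unitPt G) ∈ irreducibleComponents G.left := by
  refine ⟨isIrreducible_cc G, fun S hS hCS => ?_⟩
  exact hS.isPreirreducible.isPreconnected.subset_connectedComponent (hCS mem_connectedComponent)

lemma stableUnderGeneralization_cc :
    StableUnderGeneralization (connectedComponent (unitPt G)) := by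
  intro x y hyx hx
  let hG : GrpObj (Over.mk G.hom) := ‹GrpObj G›
  have hu : UniqueComp x := uniqueComp G.hom x
  have hxy : x ∈ irreducibleComponent y := by
    have h1 : closure {y} ⊆ irreducibleComponent y :=
      isClosed_irreducibleComponent.closure_subset_iff.mpr
        (Set.singleton_subset_iff.mpr mem_irreducibleComponent)
    exact h1 (specializes_iff_mem_closure.mp hyx)
  have h1 := hu.eq_irreducibleComponent (cc_mem_irreducibleComponents G) hx
  have h2 := hu.eq_irreducibleComponent (irreducibleComponent_mem_irreducibleComponents y) hxy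
  rw [h1, ← h2]
  exact mem_irreducibleComponent

lemma inv_cc_subset :
    ι[G].left '' connectedComponent (unitPt G) ⊆ connectedComponent (unitPt G) := by
  have hpre : _root_.IsPreconnected (ι[G].left '' connectedComponent (unitPt G)) :=
    isPreconnected_connectedComponent.image _ ι[G].left.continuous.continuousOn
  exact hpre.subset_connectedComponent ⟨unitPt G, mem_connectedComponent, inv_unitPt⟩

/-- **The identity component as a flat closed subgroup scheme.** -/
theorem exists_identityComponent :
    ∃ (G₀ : Over (Spec (CommRingCat.of K))) (_ : GrpObj G₀) (incl : G₀ ⟶ G) (_ : IsMonHom incl),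
      IsClosedImmersion incl.left ∧ Flat incl.left ∧
      Set.range incl.left = connectedComponent (unitPt G) ∧
      GeometricallyIrreducible G₀.hom ∧ CompactSpace G₀.left := by
  obtain ⟨Z, i, hcl, hfl, hr⟩ := exists_flat_closedImmersion
    (isClosed_connectedComponent (x := unitPt G)) (stableUnderGeneralization_cc G)
  have hirrZ : IrreducibleSpace Z :=
    Groth.Agent.Lib.BoxIrr45.irreducibleSpace_of_isClosedImmersion i (hr ▸ isIrreducible_cc G)
  have hgeo : GeometricallyIrreducible (i ≫ G.hom) :=
    Groth.Agent.S7517.result K G Z i (hr ▸ cc_mem_irreducibleComponents G)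
      (by rw [hr]; exact mem_connectedComponent)
  let G₀ : Over (Spec (CommRingCat.of K)) := Over.mk (i ≫ G.hom)
  let incl : G₀ ⟶ G := Over.homMk i rfl
  have hmono : Mono incl := by
    have : Mono ((Over.forget _).map incl) := (inferInstance : Mono i)
    exact (Over.forget _).mono_of_mono_map this
  -- lifting property
  have lift_ex : ∀ {T : Over (Spec (CommRingCat.of K))} (h : T ⟶ G),
      Set.range h.left ⊆ connectedComponent (unitPt G) → ∃ l : T ⟶ G₀, l ≫ incl = h := by
    intro T h hh
    obtain ⟨l, hl⟩ := exists_lift_of_range_subset i h.left (hr ▸ hh)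
    refine ⟨Over.homMk l ?_, ?_⟩
    · change l ≫ i ≫ G.hom = T.hom
      rw [← Category.assoc, hl, Over.w]
    · ext
      exact hl
  -- unit
  obtain ⟨e₀, he₀⟩ := lift_ex η[G] (by
    rintro _ ⟨t, rfl⟩
    have : η[G].left t = unitPt G := by
      unfold unitPt
      congr 1
      exact Subsingleton.elim (α := PrimeSpectrum K) _ _
    rw [this]
    exact mem_connectedComponent)
  -- multiplication
  have hirr2 : IrreducibleSpace ↥(G₀ ⊗ G₀).left := by
    have h1 : UniversallyOpen G₀.hom := inferInstance
    have h2 : GeometricallyIrreducible G₀.hom := hgeo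
    have h3 : IrreducibleSpace ↥G₀.left := hirrZ
    change IrreducibleSpace ↥(pullback G₀.hom G₀.hom)
    infer_instance
  obtain ⟨m, hm⟩ := lift_ex ((incl ⊗ₘ incl) ≫ μ[G]) (by
    have hpre : _root_.IsPreconnected (Set.range ((incl ⊗ₘ incl) ≫ μ[G]).left) :=
      isPreconnected_range ((incl ⊗ₘ incl) ≫ μ[G]).left.continuous
    refine hpre.subset_connectedComponent ?_
    rw [Groth.Agent.Lib.GrpTopDiv45.range_tensorHom_comp_mul]
    have hri : Set.range incl.left = connectedComponent (unitPt G) := hr
    rw [hri]
    exact subset_mulSet_left mem_connectedComponent mem_connectedComponent)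
  -- inverse
  obtain ⟨v, hv⟩ := lift_ex (incl ≫ ι[G]) (by
    rintro _ ⟨t, rfl⟩
    apply inv_cc_subset G
    refine ⟨incl.left t, ?_, ?_⟩
    · have hri : Set.range incl.left = connectedComponent (unitPt G) := hr
      rw [← hri]
      exact ⟨t, rfl⟩
    · rw [Over.comp_left, Scheme.Hom.comp_apply])
  obtain ⟨str, hstr⟩ := Groth.Agent.Lib.H43QuotGrp.exists_grpObj_of_mono incl e₀ he₀ m hm v hv
  refine ⟨G₀, str, incl, hstr, hcl, hfl, hr, hgeo, ?_⟩
  have hemb : Topology.IsEmbedding i := i.isClosedEmbedding.isEmbedding
  rw [← isCompact_univ_iff, hemb.isCompact_iff, Set.image_univ]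
  rw [hr]
  exact isCompact_cc G

end Groth.Agent.Lib.GrpIdComp45
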