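import Mathlib.Topology.KrullDimension
import Mathlib.Order.KrullDimension

/-!
# A proper closed subset of an irreducible space of finite dimension has smaller dimension (helper45)
-/

set_option autoImplicit false
open Set Function Order TopologicalSpace Topology TopologicalSpace.IrreducibleCloseds

namespace Groth.Agent.Lib.TopDimProper45

variable {Y : Type*} [TopologicalSpace Y]

/-- If `T ⊆ Z` with `T` closed, `Z` irreducible, and `dim T = dim Z = n` finite, then `T = Z`. -/
theorem eq_of_dim_eq {T Z : Set Y} (hT : IsClosed T) (hZ : IsIrreducible Z) (hTZ : T ⊆ Z)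
    {n : ℕ} (hdT : topologicalKrullDim ↥T = n) (hdZ : topologicalKrullDim ↥Z = n) : T = Z := by
  by_contra hne
  -- the inclusion
  let j : ↥T → ↥Z := Set.inclusion hTZ
  have hj : IsInducing j := (Topology.IsEmbedding.inclusion hTZ).isInducing
  have hirrZ : IrreducibleSpace ↥Z := Subtype.irreducibleSpace hZ
  let top : IrreducibleCloseds ↥Z :=
    ⟨Set.univ, IrreducibleSpace.isIrreducible_univ _, isClosed_univ⟩
  have hclosedRange : IsClosed (Set.range j) := by
    have : Set.range j = Subtype.val ⁻¹' T := by
      ext z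
      constructor
      · rintro ⟨t, rfl⟩; exact t.2
      · intro hz; exact ⟨⟨z.1, hz⟩, rfl⟩
    rw [this]
    exact hT.preimage continuous_subtype_val
  have hlt : ∀ c : IrreducibleCloseds ↥T, map j hj.continuous c < top := by
    intro c
    refine lt_of_le_of_ne (fun _ _ => Set.mem_univ _) ?_
    intro heq
    apply hne
    apply Set.Subset.antisymm hTZ
    intro z hz
    have h1 : (⟨z, hz⟩ : ↥Z) ∈ (map j hj.continuous c : Set ↥Z) := by
      rw [heq]; exact Set.mem_univ _
    have h2 : (map j hj.continuous c : Set ↥Z) ⊆ Set.range j := by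
      rw [coe_map]
      exact closure_minimal (Set.image_subset_range _ _) hclosedRange
    obtain ⟨t, ht⟩ := h2 h1
    have : (t : Y) = z := congrArg Subtype.val ht
    exact this ▸ t.2
  obtain ⟨l, hl⟩ := (le_krullDim_iff (α := IrreducibleCloseds ↥T) (n := n)).mp
    (by rw [← hdT]; rfl)
  obtain ⟨lm, hlmlen, hlmlast⟩ : ∃ lm : LTSeries (IrreducibleCloseds ↥Z),
      lm.length = n ∧ lm.last < top :=
    ⟨l.map (map j hj.continuous) (map_strictMono_of_isInducing hj), hl, hlt _⟩
  have h3 : ((n + 1 : ℕ) : WithBot ℕ∞) ≤ topologicalKrullDim ↥Z :=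
    (le_krullDim_iff (α := IrreducibleCloseds ↥Z) (n := n + 1)).mpr
      ⟨lm.snoc top hlmlast, by rw [RelSeries.snoc_length, hlmlen]⟩
  rw [hdZ] at h3
  have h4 : (n + 1 : ℕ) ≤ n := by exact_mod_cast h3
  omega

end Groth.Agent.Lib.TopDimProper45
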