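import Groth.Agent.Lib.GrpDim45
import Groth.Agent.Lib.GrpIdComp45
import Groth.Agent.Lib.TopDimProper45

/-!
# Closed immersions of group schemes of equal dimension and identity components (helper45)

* `exists_nat_dim_eq` : a group scheme locally of finite type over a field has finite dimension.
* `image_cc_eq` : a homomorphism `u : G ⟶ H` of group schemes locally of finite type over a field
  which is a closed immersion with `dim G = dim H` maps `G⁰` onto `H⁰`.
-/

set_option autoImplicit false
set_option linter.unusedSectionVars false
universe u
open CategoryTheory CategoryTheory.Limits MonoidalCategory CartesianMonoidalCategory MonObj GrpObj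
  AlgebraicGeometry TopologicalSpace
open Groth.Agent.Lib.GrpTopPts45 Groth.Agent.Lib.GrpDim45 Groth.Agent.Lib.GrpIdComp45

namespace Groth.Agent.Lib.GrpDimImm45

variable {K : Type u} [Field K] (G : Over (Spec (CommRingCat.of K))) [GrpObj G]
  [LocallyOfFiniteType G.hom]

/-- A group scheme locally of finite type over a field has finite dimension. -/
theorem exists_nat_dim_eq : ∃ n : ℕ, topologicalKrullDim G.left = n := by
  have hZ := irreducibleComponent_mem_irreducibleComponents (unitPt G)
  have hZopen : IsOpen (irreducibleComponent (unitPt G)) :=
    isOpen_of_mem_irreducibleComponents' G hZ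
  let ZU : G.left.Opens := ⟨irreducibleComponent (unitPt G), hZopen⟩
  let X : Scheme.{u} := ZU.toScheme
  let _ : X.Over (Spec (CommRingCat.of K)) := ⟨ZU.ι ≫ G.hom⟩
  have hlft : LocallyOfFiniteType (X ↘ Spec (CommRingCat.of K)) :=
    inferInstanceAs (LocallyOfFiniteType (ZU.ι ≫ G.hom))
  have hirr : IrreducibleSpace X :=
    Subtype.irreducibleSpace (isIrreducible_irreducibleComponent (x := unitPt G))
  have h1 := Groth.Agent.Lib.H30DimField.krullDim_eq_td K X
  have h2 := dim_irreducibleComponent_eq G hZ
  exact ⟨_, h2.symm.trans h1⟩

variable {G} {H : Over (Spec (CommRingCat.of K))} [GrpObj H] [LocallyOfFiniteType H.hom]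

theorem image_cc_eq (u : G ⟶ H) [IsMonHom u] [IsClosedImmersion u.left]
    (hdim : topologicalKrullDim G.left = topologicalKrullDim H.left) :
    u.left '' connectedComponent (unitPt G) = connectedComponent (unitPt H) := by
  have hu1 : u.left (unitPt G) = unitPt H := by
    have h := IsMonHom.one_hom (f := u)
    have h2 : (η[G] ≫ u).left (IsLocalRing.closedPoint K) =
        η[H].left (IsLocalRing.closedPoint K) := by rw [h]
    exact h2
  obtain ⟨n, hn⟩ := exists_nat_dim_eq H
  have hsub : u.left '' connectedComponent (unitPt G) ⊆ connectedComponent (unitPt H) := by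
    have hpre : _root_.IsPreconnected (u.left '' connectedComponent (unitPt G)) :=
      isPreconnected_connectedComponent.image _ u.left.continuous.continuousOn
    exact hpre.subset_connectedComponent ⟨unitPt G, mem_connectedComponent, hu1⟩
  have hclosed : IsClosed (u.left '' connectedComponent (unitPt G)) :=
    u.left.isClosedEmbedding.isClosedMap _ isClosed_connectedComponent
  have hdT : topologicalKrullDim ↥(u.left '' connectedComponent (unitPt G)) = n := by
    have h1 : topologicalKrullDim ↥(u.left '' connectedComponent (unitPt G)) =
        topologicalKrullDim ↥(connectedComponent (unitPt G)) := by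
      refine Groth.Agent.Lib.H77FibDim.dim_eq_of_range_eq
        (Subtype.val : ↥(u.left '' connectedComponent (unitPt G)) → H.left)
        (fun x : ↥(connectedComponent (unitPt G)) => u.left x.1)
        Topology.IsInducing.subtypeVal
        (u.left.isClosedEmbedding.isInducing.comp Topology.IsInducing.subtypeVal) ?_
      rw [Subtype.range_coe]
      ext y
      constructor
      · rintro ⟨x, hx, rfl⟩; exact ⟨⟨x, hx⟩, rfl⟩
      · rintro ⟨x, rfl⟩; exact ⟨x.1, x.2, rfl⟩
    rw [h1, dim_irreducibleComponent_eq G (cc_mem_irreducibleComponents G), hdim, hn]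
  have hdZ : topologicalKrullDim ↥(connectedComponent (unitPt H)) = n := by
    rw [dim_irreducibleComponent_eq H (cc_mem_irreducibleComponents H), hn]
  exact Groth.Agent.Lib.TopDimProper45.eq_of_dim_eq hclosed (isIrreducible_cc H) hsub hdT hdZ

end Groth.Agent.Lib.GrpDimImm45
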