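import Groth.Agent.Lib.GrpTopVD45
import Groth.Agent.Lib.GrpTopBC45
import Mathlib.Topology.LocalAtTarget
import Mathlib.Topology.Connected.Clopen

/-!
# The identity component of a group scheme over an arbitrary field (helper45)

* `isPreconnected_preimage` (topology): preimages of preconnected sets under open and closed maps
  with a one-point fibre over a point of the set are preconnected.
* `isCompact_Z0` : over an algebraically closed field the unit component is quasi-compact.
* `connectedSpace_bar` : a connected group scheme stays connected over the algebraic closure.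
* `irreducibleSpace_of_connectedSpace`, `isIrreducible_connectedComponent`,
  `isCompact_connectedComponent` over an arbitrary field.
-/

set_option autoImplicit false
set_option linter.unusedSectionVars false
universe u
open CategoryTheory CategoryTheory.Limits MonoidalCategory CartesianMonoidalCategory MonObj GrpObj
  AlgebraicGeometry
open Groth.Agent.Lib.GrpTopPts45 Groth.Agent.Lib.UniqueComp45 Groth.Agent.Lib.GrpTopIrr45
  Groth.Agent.Lib.GrpTopConn45 Groth.Agent.Lib.GrpTopVD45 Groth.Agent.Lib.GrpTopBC45

namespace Groth.Agent.Lib.GrpTopId45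

section top

variable {X X' : Type*} [TopologicalSpace X] [TopologicalSpace X']

theorem isPreconnected_preimage {p : X' → X} (_hc : Continuous p) (ho : IsOpenMap p)
    (hcl : IsClosedMap p) {C : Set X} (hC : _root_.IsPreconnected C) {e' : X'} (he : p e' ∈ C)
    (hfib : ∀ x', p x' = p e' → x' = e') : _root_.IsPreconnected (p ⁻¹' C) := by
  rw [isPreconnected_iff_preconnectedSpace] at hC ⊢
  let q := C.restrictPreimage p
  have hqo : IsOpenMap q := ho.restrictPreimage C
  have hqc : IsClosedMap q := hcl.restrictPreimage C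
  let e₀ : p ⁻¹' C := ⟨e', he⟩
  have key : ∀ S : Set (p ⁻¹' C), IsClopen S → S.Nonempty → e₀ ∈ S := by
    intro S hS hne
    have hqS : IsClopen (q '' S) := ⟨hqc _ hS.1, hqo _ hS.2⟩
    have huniv : q '' S = Set.univ := hqS.eq_univ (hne.image _)
    have hmem : (⟨p e', he⟩ : C) ∈ q '' S := huniv ▸ Set.mem_univ _
    obtain ⟨s, hs, hse⟩ := hmem
    have h1 : p s.1 = p e' := congrArg Subtype.val hse
    have h2 : s = e₀ := Subtype.ext (hfib _ h1)
    exact h2 ▸ hs
  rw [preconnectedSpace_iff_clopen]
  intro T hT
  by_contra h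
  push Not at h
  have h1 := key T hT h.1
  have h2 := key Tᶜ hT.compl (Set.nonempty_compl.mpr h.2)
  exact h2 h1

end top

section algClosed

variable {k : Type u} [Field k] [IsAlgClosed k] {G : Over (Spec (CommRingCat.of k))} [GrpObj G]

/-- Over an algebraically closed field, the unit component is contained in `U · U` for every open
`U` meeting it. -/
theorem Z0_subset_mulSet {U : Set G.left} (hU : IsOpen U) (hne : (Z0 G ∩ U).Nonempty) :
    Z0 G ⊆ mulSet G U U := by
  intro x hx
  let P := ptObj x
  let ψ : P ⟶ G := ptHom x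
  let Ψ := Groth.Agent.Lib.GrpDenseMul45.invTranslateIso G P ψ
  let φ := Groth.Agent.Lib.GrpDenseMul45.splitHom G P ψ
  have hΨiso : IsIso Ψ.hom.left := (inferInstance : IsIso ((Over.forget _).map Ψ.hom))
  set ZP : Set (P ⊗ G).left := (snd P G).left ⁻¹' Z0 G with hZP
  have hZPirr : IsIrreducible ZP := (preimage_snd_mem_irreducibleComponents P G (Z0_mem G)).1
  have hΨsnd : Ψ.hom ≫ snd P G = (snd P G)⁻¹ * (fst P G ≫ ψ) := by
    simp [Ψ, Groth.Agent.Lib.GrpDenseMul45.invTranslateIso]
  have hΨinvsnd : Ψ.inv ≫ snd P G = (fst P G ≫ ψ) * (snd P G)⁻¹ := by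
    simp [Ψ, Groth.Agent.Lib.GrpDenseMul45.invTranslateIso]
  have hψ : ∀ t : (P ⊗ G).left, (fst P G ≫ ψ).left t = x := fun t => by
    rw [comp_left_apply]; exact ptHom_left_apply x _
  have hinvZ : ∀ t : (P ⊗ G).left, t ∈ ZP → ((snd P G)⁻¹).left t ∈ Z0 G := fun t ht => by
    rw [inv_left_apply]
    exact inv_Z0_subset ⟨_, ht, rfl⟩
  -- `Ψ` and its inverse preserve `ZP`
  have hΨZ : ∀ t ∈ ZP, Ψ.hom.left t ∈ ZP := fun t ht => by
    change (snd P G).left (Ψ.hom.left t) ∈ Z0 G
    rw [← Scheme.Hom.comp_apply, ← Over.comp_left, hΨsnd]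
    exact mulSet_Z0_Z0 (mul_mem_mulSet _ _ _ (hinvZ t ht) (by rw [hψ]; exact hx))
  have hΨinvZ : ∀ t ∈ ZP, Ψ.inv.left t ∈ ZP := fun t ht => by
    change (snd P G).left (Ψ.inv.left t) ∈ Z0 G
    rw [← Scheme.Hom.comp_apply, ← Over.comp_left, hΨinvsnd]
    exact mulSet_Z0_Z0 (mul_mem_mulSet _ _ _ (by rw [hψ]; exact hx) (hinvZ t ht))
  -- the two open subsets
  have ho1 : IsOpen ((snd P G).left ⁻¹' U) := hU.preimage (snd P G).left.continuous
  have ho2 : IsOpen (Ψ.hom.left ⁻¹' ((snd P G).left ⁻¹' U)) := ho1.preimage Ψ.hom.left.continuous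
  obtain ⟨z, hzZ, hzU⟩ := hne
  obtain ⟨t₀, ht₀⟩ := surjective_snd_ptObj x z
  have ht₀Z : t₀ ∈ ZP := by rw [hZP, Set.mem_preimage, ht₀]; exact hzZ
  have hne1 : (ZP ∩ (snd P G).left ⁻¹' U).Nonempty := ⟨t₀, ht₀Z, by rw [Set.mem_preimage, ht₀]; exact hzU⟩
  have hne2 : (ZP ∩ Ψ.hom.left ⁻¹' ((snd P G).left ⁻¹' U)).Nonempty := by
    refine ⟨Ψ.inv.left t₀, hΨinvZ t₀ ht₀Z, ?_⟩
    have h3 : Ψ.hom.left (Ψ.inv.left t₀) = t₀ := by
      rw [← Scheme.Hom.comp_apply, ← Over.comp_left, Iso.inv_hom_id]
      simp
    rw [Set.mem_preimage, h3, Set.mem_preimage, ht₀]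
    exact hzU
  obtain ⟨y, -, hyA, hyB⟩ := hZPirr.2 _ _ ho1 ho2 hne1 hne2
  refine ⟨φ.left y, ⟨?_, ?_⟩, ?_⟩
  · have h1 : (fst G G).left (φ.left y) = (snd P G).left y := by
      rw [← Scheme.Hom.comp_apply, ← Over.comp_left,
        Groth.Agent.Lib.GrpDenseMul45.splitHom_fst]
    change (fst G G).left (φ.left y) ∈ U
    rw [h1]
    exact hyA
  · have h1 : (snd G G).left (φ.left y) = (snd P G).left (Ψ.hom.left y) := by
      rw [← Scheme.Hom.comp_apply, ← Over.comp_left,
        Groth.Agent.Lib.GrpDenseMul45.splitHom_snd, Over.comp_left, Scheme.Hom.comp_apply]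
    change (snd G G).left (φ.left y) ∈ U
    rw [h1]
    exact hyB
  · have h1 : (μ[G]).left (φ.left y) = ψ.left ((fst P G).left y) := by
      rw [← Scheme.Hom.comp_apply, ← Over.comp_left,
        Groth.Agent.Lib.GrpDenseMul45.splitHom_mul, Over.comp_left, Scheme.Hom.comp_apply]
    rw [h1]
    exact ptHom_left_apply x _

/-- Over an algebraically closed field, the unit component of a group scheme is quasi-compact. -/
theorem isCompact_Z0 : IsCompact (Z0 G) := by
  obtain ⟨_, ⟨W, hW, rfl⟩, hxW, -⟩ := G.left.isBasis_affineOpens.exists_subset_of_mem_open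
    (Set.mem_univ (unitPt G)) isOpen_univ
  replace hW : IsAffineOpen W := hW
  have hsub := Z0_subset_mulSet W.isOpen ⟨unitPt G, unitPt_mem_Z0 G, hxW⟩
  have hc : IsCompact (mulSet G (W : Set G.left) (W : Set G.left)) :=
    isCompact_mulSet hW.isCompact W.isOpen hW.isCompact W.isOpen
  have := hc.inter_left (isClosed_Z0 G)
  rwa [Set.inter_eq_left.mpr hsub] at this

end algClosed

section general

variable {K : Type u} [Field K] {X : Scheme.{u}} (f : X ⟶ Spec (CommRingCat.of K))
  [GrpObj (Over.mk f)]

theorem preimage_connectedComponent_subset :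
    pbar f ⁻¹' connectedComponent (unitPt (Over.mk f)) ⊆
      connectedComponent (unitPt (Over.mk (pullback.snd f (gbar K)))) := by
  have hmem : pbar f (unitPt (Over.mk (pullback.snd f (gbar K)))) ∈
      connectedComponent (unitPt (Over.mk f)) := by
    rw [pbar_unitPt]; exact mem_connectedComponent
  have hpre := isPreconnected_preimage (p := pbar f) (pbar f).continuous (isOpenMap_pbar f)
    (isClosedMap_pbar f) (C := connectedComponent (unitPt (Over.mk f)))
    isPreconnected_connectedComponent (e' := unitPt (Over.mk (pullback.snd f (gbar K)))) hmem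
    (fun x' hx' => eq_unitPt_of_pbar_eq f x' (hx'.trans (pbar_unitPt f)))
  exact hpre.subset_connectedComponent hmem

theorem connectedComponent_eq_image :
    connectedComponent (unitPt (Over.mk f)) =
      pbar f '' Z0 (Over.mk (pullback.snd f (gbar K))) := by
  apply Set.Subset.antisymm
  · intro x hx
    obtain ⟨x', rfl⟩ := surjective_pbar f x
    refine ⟨x', ?_, rfl⟩
    rw [← connectedComponent_unitPt_eq]
    exact preimage_connectedComponent_subset f hx
  · have hpre : _root_.IsPreconnected (pbar f '' Z0 (Over.mk (pullback.snd f (gbar K)))) :=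
      (isIrreducible_Z0 (Over.mk (pullback.snd f (gbar K)))).isPreirreducible.isPreconnected.image
        (pbar f) (pbar f).continuous.continuousOn
    exact hpre.subset_connectedComponent ⟨_, unitPt_mem_Z0 _, pbar_unitPt f⟩

/-- The connected component of the unit of a group scheme over a field is irreducible. -/
theorem isIrreducible_connectedComponent :
    IsIrreducible (connectedComponent (unitPt (Over.mk f))) := by
  rw [connectedComponent_eq_image]
  exact (isIrreducible_Z0 (Over.mk (pullback.snd f (gbar K)))).image (pbar f)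
    (pbar f).continuous.continuousOn

/-- The connected component of the unit of a group scheme over a field is quasi-compact. -/
theorem isCompact_connectedComponent :
    IsCompact (connectedComponent (unitPt (Over.mk f))) := by
  rw [connectedComponent_eq_image]
  exact (isCompact_Z0 (G := Over.mk (pullback.snd f (gbar K)))).image (f := pbar f)
    (pbar f).continuous

include f in
/-- A connected group scheme over a field is irreducible. -/
theorem irreducibleSpace_of_connectedSpace [ConnectedSpace X] : IrreducibleSpace X := by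
  have h : connectedComponent (unitPt (Over.mk f)) = (Set.univ : Set X) :=
    PreconnectedSpace.connectedComponent_eq_univ (X := X) _
  rw [irreducibleSpace_def]
  change IsIrreducible (Set.univ : Set X)
  rw [← h]
  exact isIrreducible_connectedComponent f

end general

end Groth.Agent.Lib.GrpTopId45
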