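import Groth.Agent.Lib.H71GenSubgrp6
import Mathlib.AlgebraicGeometry.Fiber
import Groth.Prelude.Def_SGA3x

set_option autoImplicit false
universe u

open CategoryTheory CategoryTheory.Limits AlgebraicGeometry TopologicalSpace
open MonoidalCategory CartesianMonoidalCategory MonObj GrpObj
open Groth.Agent.Lib.GrpTopPts45

namespace Groth.Agent.Lib.H71Fiber

section Top

variable {X Y : Type*} [TopologicalSpace X] [TopologicalSpace Y]

/-- If `U` is open and agrees on `F` with a closed set, the connected component in `F` of a point of `U ∩ F`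
lies in `U`. -/
theorem connectedComponentIn_subset_of_clopen_in {F U Z : Set X} (hU : IsOpen U) (hZ : IsClosed Z)
    (hZU : Z ∩ F = U ∩ F) {x : X} (hxF : x ∈ F) (hxU : x ∈ U) : connectedComponentIn F x ⊆ U := by
  have hC : IsPreconnected (connectedComponentIn F x) := isPreconnected_connectedComponentIn
  have hCF : connectedComponentIn F x ⊆ F := connectedComponentIn_subset F x
  have hxC : x ∈ connectedComponentIn F x := mem_connectedComponentIn hxF
  have h1 : connectedComponentIn F x ⊆ U ∪ Zᶜ := by
    intro c hc
    by_cases hcZ : c ∈ Z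
    · left
      exact (hZU ▸ (⟨hcZ, hCF hc⟩ : c ∈ Z ∩ F) : c ∈ U ∩ F).1
    · right; exact hcZ
  have h2 : connectedComponentIn F x ∩ (U ∩ Zᶜ) = ∅ := by
    ext c
    simp only [Set.mem_inter_iff, Set.mem_compl_iff, Set.mem_empty_iff_false, iff_false, not_and,
      not_not]
    intro hc hcU
    exact (hZU.symm ▸ (⟨hcU, hCF hc⟩ : c ∈ U ∩ F) : c ∈ Z ∩ F).1
  rcases (isPreconnected_iff_subset_of_disjoint.mp hC) U Zᶜ hU hZ.isOpen_compl h1 h2 with h | h
  · exact h
  · exfalso
    have : x ∈ Z := (hZU.symm ▸ (⟨hxU, hxF⟩ : x ∈ U ∩ F) : x ∈ Z ∩ F).1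
    exact h hxC this

/-- Connected components in a subset are compatible with embeddings whose image contains the component. -/
theorem image_connectedComponentIn_of_subset_range {i : Y → X} (hi : Topology.IsInducing i)
    (hinj : Function.Injective i) {F : Set X} {y : Y} (hy : i y ∈ F)
    (h : connectedComponentIn F (i y) ⊆ Set.range i) :
    i '' connectedComponentIn (i ⁻¹' F) y = connectedComponentIn F (i y) := by
  apply subset_antisymm
  · apply IsPreconnected.subset_connectedComponentIn
    · exact isPreconnected_connectedComponentIn.image i hi.continuous.continuousOn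
    · exact ⟨y, mem_connectedComponentIn hy, rfl⟩
    · rintro _ ⟨z, hz, rfl⟩
      exact connectedComponentIn_subset (i ⁻¹' F) y hz
  · have hpre : IsPreconnected (i ⁻¹' connectedComponentIn F (i y)) := by
      rw [← hi.isPreconnected_image, Set.image_preimage_eq_of_subset h]
      exact isPreconnected_connectedComponentIn
    have hsub : i ⁻¹' connectedComponentIn F (i y) ⊆ connectedComponentIn (i ⁻¹' F) y := by
      apply hpre.subset_connectedComponentIn
      · exact mem_connectedComponentIn hy
      · intro z hz
        exact connectedComponentIn_subset F (i y) hz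
    intro c hc
    obtain ⟨z, rfl⟩ := h hc
    exact ⟨z, hsub hc, rfl⟩

end Top

variable {S : Scheme.{u}}

/-- The residue field point, with source written as the spectrum of a type-level field. -/
noncomputable abbrev tau (s : S) : Spec (CommRingCat.of (S.residueField s)) ⟶ S :=
  S.fromSpecResidueField s

/-- The fibre of an `S`-scheme at `s`, as a scheme over the residue field. -/
noncomputable abbrev fib (s : S) (G : Over S) : Over (Spec (CommRingCat.of (S.residueField s))) :=
  Red.bc (tau s) G

/-- The inclusion of the fibre. -/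
noncomputable abbrev fibι (s : S) (G : Over S) : (fib s G).left ⟶ G.left := pullback.fst G.hom (tau s)

theorem range_fibι (s : S) (G : Over S) : Set.range (fibι s G) = G.hom ⁻¹' {s} :=
  G.hom.range_fiberι s

theorem isEmbedding_fibι (s : S) (G : Over S) : Topology.IsEmbedding (fibι s G) :=
  (G.hom.fiberι s).isEmbedding

theorem unit_injective {p p' : ↥(𝟙_ (Over S)).left}
    (h : (𝟙_ (Over S)).hom p = (𝟙_ (Over S)).hom p') : p = p' := by
  have e : (𝟙_ (Over S)).hom = 𝟙 S := rfl
  rw [e] at h
  exact h

/-- The unit point of the fibre maps to the value of the unit section. -/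
theorem fibι_unitPt (s : S) (G : Over S) [GrpObj G] (p : ↥(𝟙_ (Over S)).left)
    (hp : (𝟙_ (Over S)).hom p = s) : fibι s G (unitPt (fib s G)) = η[G].left p := by
  unfold unitPt
  have h1 : η[fib s G] = Functor.LaxMonoidal.ε (Over.pullback (tau s)) ≫
      (Over.pullback (tau s)).map η[G] := rfl
  rw [h1, Over.comp_left, Scheme.Hom.comp_apply, ← Scheme.Hom.comp_apply _ (fibι s G)]
  have h2 : ((Over.pullback (tau s)).map η[G]).left ≫ fibι s G =
      pullback.fst _ _ ≫ η[G].left := by
    simp only [Over.pullback_map_left]
    exact pullback.lift_fst _ _ _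
  rw [h2, Scheme.Hom.comp_apply]
  congr 1
  apply unit_injective
  rw [hp, ← Scheme.Hom.comp_apply, pullback.condition, Scheme.Hom.comp_apply]
  exact Scheme.fromSpecResidueField_apply s _

/-- The value of the unit section at `p` lies in the fibre over the image of `p`. -/
theorem unit_mem_fibre (G : Over S) [GrpObj G] (p : ↥(𝟙_ (Over S)).left) :
    η[G].left p ∈ G.hom ⁻¹' {(𝟙_ (Over S)).hom p} := by
  change G.hom (η[G].left p) = _
  rw [← Scheme.Hom.comp_apply, Over.w]

/-- **Open subgroups contain the neutral components.** For an open subgroup `i : H ⟶ G` of an `S`-group scheme, the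
neutral component of every fibre of `G` lies in the image of `i`. -/
theorem connectedComponentIn_subset_range_of_isOpenImmersion {G H : Over S} [GrpObj G] [GrpObj H]
    (i : H ⟶ G) [IsMonHom i] [IsOpenImmersion i.left] (p : ↥(𝟙_ (Over S)).left) :
    connectedComponentIn (G.hom ⁻¹' {(𝟙_ (Over S)).hom p}) (η[G].left p) ⊆ Set.range i.left := by
  set s : S := (𝟙_ (Over S)).hom p with hs
  -- the fibre of `i` is an open subgroup of the fibre of `G`, hence closed
  haveI : IsMonHom ((Over.pullback (tau s)).map i) := inferInstance
  have hsub : IsSubgrpSet (fib s G) (Set.range ((Over.pullback (tau s)).map i).left) :=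
    Groth.Agent.Lib.H71SubgrpSet.isSubgrpSet_range _
  have hR : Set.range ((Over.pullback (tau s)).map i).left = (fibι s G) ⁻¹' Set.range i.left :=
    Groth.Agent.Lib.H71GenSubgrp.range_pullback_map_left (tau s) i
  have hopen : IsOpen (Set.range i.left) := i.left.isOpenEmbedding.isOpen_range
  have hRo : IsOpen (Set.range ((Over.pullback (tau s)).map i).left) := by
    rw [hR]; exact hopen.preimage (fibι s G).continuous
  have hRc : IsClosed (Set.range ((Over.pullback (tau s)).map i).left) := hsub.isClosed hRo
  have hemb := isEmbedding_fibι s G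
  refine connectedComponentIn_subset_of_clopen_in (Z := closure (fibι s G ''
    (Set.range ((Over.pullback (tau s)).map i).left))) hopen isClosed_closure ?_
    (unit_mem_fibre G p) ?_
  · rw [← range_fibι s G, ← Set.image_preimage_eq_inter_range, ← Set.image_preimage_eq_inter_range,
      ← hemb.isInducing.closure_eq_preimage_closure_image, hRc.closure_eq, hR]
  · refine ⟨η[H].left p, ?_⟩
    rw [← Scheme.Hom.comp_apply, ← Over.comp_left, IsMonHom.one_hom]

/-- The neutral components of the fibres of an open subgroup are those of the ambient group. -/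
theorem image_connectedComponentIn_of_isOpenImmersion {G H : Over S} [GrpObj G] [GrpObj H]
    (i : H ⟶ G) [IsMonHom i] [IsOpenImmersion i.left] (p : ↥(𝟙_ (Over S)).left) :
    i.left '' connectedComponentIn (H.hom ⁻¹' {(𝟙_ (Over S)).hom p}) (η[H].left p) =
      connectedComponentIn (G.hom ⁻¹' {(𝟙_ (Over S)).hom p}) (η[G].left p) := by
  have hpt : i.left (η[H].left p) = η[G].left p := by
    rw [← Scheme.Hom.comp_apply, ← Over.comp_left, IsMonHom.one_hom]
  have hF : H.hom ⁻¹' {(𝟙_ (Over S)).hom p} = i.left ⁻¹' (G.hom ⁻¹' {(𝟙_ (Over S)).hom p}) := by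
    ext z
    simp only [Set.mem_preimage, Set.mem_singleton_iff]
    rw [← Scheme.Hom.comp_apply, Over.w]
  have hemb := i.left.isOpenEmbedding.isEmbedding
  rw [hF, ← hpt]
  apply image_connectedComponentIn_of_subset_range hemb.isInducing hemb.injective
  · rw [hpt]; exact unit_mem_fibre G p
  · rw [hpt]; exact connectedComponentIn_subset_range_of_isOpenImmersion i p

theorem neutralSet_of_isOpenImmersion {G H : Over S} [GrpObj G] [GrpObj H]
    (i : H ⟶ G) [IsMonHom i] [IsOpenImmersion i.left] :
    SGA3x.neutralSet G ⊆ Set.range i.left ∧ i.left '' SGA3x.neutralSet H = SGA3x.neutralSet G := by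
  constructor
  · apply Set.iUnion_subset
    intro p
    exact connectedComponentIn_subset_range_of_isOpenImmersion i p
  · unfold SGA3x.neutralSet
    rw [Set.image_iUnion]
    exact Set.iUnion_congr fun p => image_connectedComponentIn_of_isOpenImmersion i p

end Groth.Agent.Lib.H71Fiber
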