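import Groth.Agent.Lib.GrpBaseChange45
import Groth.Agent.Lib.GrpTopId45
import Groth.Agent.Lib.H71Fiber
import Groth.Prelude.Def_Red
import Groth.Prelude.Def_SGA3x

/-!
# Products of open subsets of a group scheme over an arbitrary base (helper91)

* `mulSetS G A B = μ(pr₁⁻¹ A ∩ pr₂⁻¹ B)` for an `S`-group scheme `G`.
* `image_mulSetS_subset`: compatibility with base change.
* `connectedComponent_subset_mulSetS`: over a field, `G⁰ ⊆ U · U` for `U` open containing the unit.
* `neutralSet_subset_mulSetS`: over any base, the union of the neutral components of the fibres lies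
  in `W · W` for every open `W` containing the unit section.
-/

set_option autoImplicit false
set_option maxHeartbeats 400000
universe u
open CategoryTheory CategoryTheory.Limits MonoidalCategory CartesianMonoidalCategory MonObj GrpObj
  AlgebraicGeometry
open Groth.Agent.Lib.GrpTopPts45 Groth.Agent.Lib.GrpTopBC45 Groth.Agent.Lib.GrpTopId45
  Groth.Agent.Lib.GrpBaseChange45 Groth.Agent.Lib.GrpTopConn45 Groth.Agent.Lib.H71Fiber

namespace Groth.Agent.Lib.GrpFibMul91

noncomputable section

section general

variable {S : Scheme.{u}}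

/-- The product set `A · B = μ(pr₁⁻¹ A ∩ pr₂⁻¹ B)` in an `S`-group scheme. -/
def mulSetS (G : Over S) [GrpObj G] (A B : Set G.left) : Set G.left :=
  μ[G].left '' ((fst G G).left ⁻¹' A ∩ (snd G G).left ⁻¹' B)

lemma mul_mem_mulSetS {G : Over S} [GrpObj G] {T : Over S} (a b : T ⟶ G) (t : T.left)
    {A B : Set G.left} (ha : a.left t ∈ A) (hb : b.left t ∈ B) :
    (a * b).left t ∈ mulSetS G A B := by
  refine ⟨(lift a b).left t, ⟨?_, ?_⟩, ?_⟩
  · change (fst G G).left ((lift a b).left t) ∈ A
    rw [← Scheme.Hom.comp_apply, ← Over.comp_left, lift_fst]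
    exact ha
  · change (snd G G).left ((lift a b).left t) ∈ B
    rw [← Scheme.Hom.comp_apply, ← Over.comp_left, lift_snd]
    exact hb
  · rw [← Scheme.Hom.comp_apply, ← Over.comp_left, ← Hom.mul_def]

lemma mul_fst_sndS (G : Over S) [GrpObj G] : (fst G G * snd G G : G ⊗ G ⟶ G) = μ[G] := by
  rw [Hom.mul_def]
  have : lift (fst G G) (snd G G) = 𝟙 (G ⊗ G) := by ext <;> simp
  rw [this, Category.id_comp]

lemma mulSetS_mono {G : Over S} [GrpObj G] {A A' B B' : Set G.left} (hA : A ⊆ A') (hB : B ⊆ B') :
    mulSetS G A B ⊆ mulSetS G A' B' :=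
  Set.image_mono (Set.inter_subset_inter (Set.preimage_mono hA) (Set.preimage_mono hB))

end general

section baseChange

variable {R S S' : Scheme.{u}} (f : R ⟶ S) (p : S' ⟶ S) [GrpObj (Over.mk f)]

attribute [local instance] Over.grpObjMkPullbackSnd

/-- Products of subsets are compatible with base change. -/
theorem image_mulSetS_subset (A B : Set R) :
    (pullback.fst f p) '' mulSetS (Over.mk (pullback.snd f p))
        ((pullback.fst f p) ⁻¹' A) ((pullback.fst f p) ⁻¹' B) ⊆
      mulSetS (Over.mk f) A B := by
  rintro _ ⟨_, ⟨z, ⟨hzA, hzB⟩, rfl⟩, rfl⟩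
  have h1 := mul_mem_mulSetS (G := Over.mk f)
    (tr f p (fst (Over.mk (pullback.snd f p)) (Over.mk (pullback.snd f p))))
    (tr f p (snd (Over.mk (pullback.snd f p)) (Over.mk (pullback.snd f p)))) z (A := A) (B := B)
    hzA hzB
  rw [← tr_mul, mul_fst_sndS] at h1
  exact h1

end baseChange

section field

variable {K : Type u} [Field K] {X : Scheme.{u}} (f : X ⟶ Spec (CommRingCat.of K))
  [GrpObj (Over.mk f)]

/-- Over a field, the connected component of the unit lies in `U · U` for every open `U`
containing the unit. -/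
theorem connectedComponent_subset_mulSetS {U : Set X} (hU : IsOpen U)
    (hu : unitPt (Over.mk f) ∈ U) :
    connectedComponent (unitPt (Over.mk f)) ⊆ mulSetS (Over.mk f) U U := by
  rw [connectedComponent_eq_image]
  have h1 := Z0_subset_mulSet (G := Over.mk (pullback.snd f (gbar K))) (U := pbar f ⁻¹' U)
    (hU.preimage (pbar f).continuous)
    ⟨unitPt _, unitPt_mem_Z0 _, by rw [Set.mem_preimage, pbar_unitPt]; exact hu⟩
  refine (Set.image_mono h1).trans ?_
  exact image_mulSetS_subset f (gbar K) U U

end field

section relative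

variable {S : Scheme.{u}}

/-- **Fibrewise product lemma.** For an `S`-group scheme `G` and an open `W` of `G` containing the
value of the unit section at `p`, the neutral component of the fibre through `p` lies in
`W · W`. -/
theorem connectedComponentIn_fibre_subset_mulSetS (G : Over S) [GrpObj G]
    (p : ↥(𝟙_ (Over S)).left) {W : Set G.left} (hW : IsOpen W) (hp : η[G].left p ∈ W) :
    connectedComponentIn (G.hom ⁻¹' {(𝟙_ (Over S)).hom p}) (η[G].left p) ⊆ mulSetS G W W := by
  obtain ⟨s, hs⟩ : ∃ s, (𝟙_ (Over S)).hom p = s := ⟨_, rfl⟩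
  rw [hs]
  have hunit := fibι_unitPt s G p hs
  have hemb := isEmbedding_fibι s G
  have hrange := range_fibι s G
  have h1 : fibι s G '' connectedComponentIn (fibι s G ⁻¹' (G.hom ⁻¹' {s})) (unitPt (fib s G)) =
      connectedComponentIn (G.hom ⁻¹' {s}) (fibι s G (unitPt (fib s G))) := by
    apply image_connectedComponentIn_of_subset_range hemb.isInducing hemb.injective
    · rw [← hrange]; exact Set.mem_range_self _
    · rw [← hrange]; exact connectedComponentIn_subset _ _
  have h2 : fibι s G ⁻¹' (G.hom ⁻¹' {s}) = Set.univ := by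
    rw [← hrange]; exact Set.preimage_range _
  rw [h2, connectedComponentIn_univ, hunit] at h1
  rw [← h1]
  letI : GrpObj (Over.mk (fib s G).hom) := inferInstanceAs (GrpObj (fib s G))
  have h3 := connectedComponent_subset_mulSetS (fib s G).hom (U := fibι s G ⁻¹' W)
    (hW.preimage (fibι s G).continuous) (by
      change fibι s G (unitPt (fib s G)) ∈ W
      rw [hunit]; exact hp)
  refine (Set.image_mono h3).trans ?_
  letI : GrpObj (Over.mk G.hom) := inferInstanceAs (GrpObj G)
  exact image_mulSetS_subset G.hom (tau s) W W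

/-- The union of the neutral components of the fibres lies in `W · W` for every open `W`
containing the unit section. -/
theorem neutralSet_subset_mulSetS (G : Over S) [GrpObj G] {W : Set G.left} (hW : IsOpen W)
    (hp : ∀ p : ↥(𝟙_ (Over S)).left, η[G].left p ∈ W) :
    SGA3x.neutralSet G ⊆ mulSetS G W W := by
  intro x hx
  obtain ⟨p, hxp⟩ := Set.mem_iUnion.mp hx
  exact connectedComponentIn_fibre_subset_mulSetS G p hW (hp p) hxp

end relative

end

end Groth.Agent.Lib.GrpFibMul91
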