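import Groth.Agent.Lib.GrpFibMul91
import Mathlib.AlgebraicGeometry.Morphisms.QuasiSeparated

/-!
# Quasi-compactness of the neutral components of a group scheme over a base (helper91)
-/

set_option autoImplicit false
set_option maxHeartbeats 400000
universe u
open CategoryTheory CategoryTheory.Limits MonoidalCategory CartesianMonoidalCategory MonObj GrpObj
  AlgebraicGeometry
open Groth.Agent.Lib.GrpFibMul91

namespace Groth.Agent.Lib.GrpFibQC91

noncomputable section

/-- A quasi-compact subset of an open of a scheme lies in a quasi-compact open contained in it. -/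
theorem exists_isCompact_opens {X : Scheme.{u}} {K : Set X} (hK : IsCompact K) (O : X.Opens)
    (hKO : K ⊆ O) : ∃ W : X.Opens, IsCompact (W : Set X) ∧ K ⊆ W ∧ W ≤ O := by
  have h1 : ∀ x ∈ K, ∃ U : X.Opens, IsAffineOpen U ∧ x ∈ U ∧ U ≤ O := by
    intro x hx
    obtain ⟨_, ⟨U, hU, rfl⟩, hxU, hUO⟩ :=
      X.isBasis_affineOpens.exists_subset_of_mem_open (hKO hx) O.isOpen
    exact ⟨U, hU, hxU, hUO⟩
  choose! U hUa hxU hUO using h1
  obtain ⟨t, htK, hcov⟩ := hK.elim_nhds_subcover (fun x => (U x : Set X))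
    (fun x hx => (U x).isOpen.mem_nhds (hxU x hx))
  refine ⟨⨆ x ∈ t, U x, ?_, ?_, ?_⟩
  · have : ((⨆ x ∈ t, U x : X.Opens) : Set X) = ⋃ x ∈ t, (U x : Set X) := by
      simp only [TopologicalSpace.Opens.coe_iSup]
    rw [this]
    exact t.isCompact_biUnion (fun x hx => (hUa x (htK x hx)).isCompact)
  · intro x hx
    have := hcov hx
    simp only [Set.mem_iUnion] at this
    obtain ⟨y, hy, hxy⟩ := this
    simp only [TopologicalSpace.Opens.coe_iSup, Set.mem_iUnion]
    exact ⟨y, hy, hxy⟩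
  · exact iSup₂_le (fun x hx => hUO x (htK x hx))

variable {S : Scheme.{u}}

/-- Boxes on quasi-compact opens lying over a quasi-separated open of the base are quasi-compact. -/
theorem isCompact_boxS (G H : Over S) (V : S.Opens) (hV : IsQuasiSeparated (V : Set S))
    (A : G.left.Opens) (B : H.left.Opens) (hA : IsCompact (A : Set G.left))
    (hB : IsCompact (B : Set H.left)) (hAV : A ≤ G.hom ⁻¹ᵁ V) (hBV : B ≤ H.hom ⁻¹ᵁ V) :
    IsCompact ((fst G H).left ⁻¹' (A : Set G.left) ∩ (snd G H).left ⁻¹' (B : Set H.left)) := by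
  have hcA : CompactSpace ↥(A.toScheme) := isCompact_iff_compactSpace.mp hA
  have hcB : CompactSpace ↥(B.toScheme) := isCompact_iff_compactSpace.mp hB
  have hqs : QuasiSeparatedSpace ↥(V.toScheme) :=
    (isQuasiSeparated_iff_quasiSeparatedSpace _ V.isOpen).mp hV
  have hrA : Set.range (A.ι ≫ G.hom) ⊆ Set.range V.ι := by
    rintro _ ⟨a, rfl⟩
    rw [Scheme.Opens.range_ι]
    exact hAV a.2
  have hrB : Set.range (B.ι ≫ H.hom) ⊆ Set.range V.ι := by
    rintro _ ⟨b, rfl⟩
    rw [Scheme.Opens.range_ι]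
    exact hBV b.2
  let a : A.toScheme ⟶ V.toScheme := IsOpenImmersion.lift V.ι (A.ι ≫ G.hom) hrA
  let b : B.toScheme ⟶ V.toScheme := IsOpenImmersion.lift V.ι (B.ι ≫ H.hom) hrB
  have ha : a ≫ V.ι = A.ι ≫ G.hom := IsOpenImmersion.lift_fac _ _ _
  have hb : b ≫ V.ι = B.ι ≫ H.hom := IsOpenImmersion.lift_fac _ _ _
  have hq : QuasiCompact a := inferInstance
  have hc : CompactSpace ↥(pullback a b) := inferInstance
  have hr := Scheme.Pullback.range_map (f := a) (g := b) G.hom H.hom A.ι B.ι V.ι ha hb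
  rw [Scheme.Opens.range_ι, Scheme.Opens.range_ι] at hr
  change IsCompact (pullback.fst G.hom H.hom ⁻¹' (A : Set G.left) ∩
    pullback.snd G.hom H.hom ⁻¹' (B : Set H.left))
  rw [← hr]
  exact isCompact_range (Scheme.Hom.continuous _)

/-- **Main quasi-compactness lemma.** For a quasi-compact quasi-separated open `V` of the base there
is a quasi-compact subset of `G` over `V` containing the neutral components of all fibres over `V`. -/
theorem exists_isCompact_neutral (G : Over S) [GrpObj G] (V : S.Opens)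
    (hVc : IsCompact (V : Set S)) (hVq : IsQuasiSeparated (V : Set S)) :
    ∃ Q : Set G.left, IsCompact Q ∧ Q ⊆ G.hom ⁻¹' (V : Set S) ∧
      ∀ p : ↥(𝟙_ (Over S)).left, (𝟙_ (Over S)).hom p ∈ V →
        connectedComponentIn (G.hom ⁻¹' {(𝟙_ (Over S)).hom p}) (η[G].left p) ⊆ Q := by
  have hw : η[G].left ≫ G.hom = 𝟙 S := Over.w η[G]
  have hK : IsCompact (η[G].left '' (V : Set S)) := hVc.image η[G].left.continuous
  have hKO : η[G].left '' (V : Set S) ⊆ (G.hom ⁻¹ᵁ V : G.left.Opens) := by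
    rintro _ ⟨s, hs, rfl⟩
    change G.hom (η[G].left s) ∈ V
    rw [← Scheme.Hom.comp_apply, hw]
    exact hs
  obtain ⟨W, hWc, hKW, hWO⟩ := exists_isCompact_opens hK _ hKO
  refine ⟨mulSetS G W W, ?_, ?_, ?_⟩
  · exact (isCompact_boxS G G V hVq W W hWc hWc hWO hWO).image μ[G].left.continuous
  · rintro _ ⟨z, ⟨hz1, -⟩, rfl⟩
    change G.hom (μ[G].left z) ∈ V
    have h1 : μ[G].left ≫ G.hom = (fst G G).left ≫ G.hom := by
      rw [Over.w, Over.w]
    rw [← Scheme.Hom.comp_apply, h1, Scheme.Hom.comp_apply]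
    exact hWO hz1
  · intro p hp
    apply connectedComponentIn_fibre_subset_mulSetS G p W.isOpen
    apply hKW
    have e : (𝟙_ (Over S)).hom = 𝟙 S := rfl
    rw [e] at hp
    exact ⟨p, hp, rfl⟩

end

end Groth.Agent.Lib.GrpFibQC91
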