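import Groth.Agent.Lib.H69AlgSp
import Groth.Agent.Lib.H69FppfLocal
import Groth.Agent.Lib.AlgSpBasic
import Groth.Agent.Lib.AlgSpDecentPt91
import Groth.Agent.Lib.H86Coprod
import Groth.Agent.Lib.AlgSpUnram
import Groth.Agent.Lib.AlgSpProper

/-!
# Sections of algebraic spaces over a field (helper46)

A quasi-compact section `e : h_{Spec k} ⟶ X` of an algebraic space `X ⟶ h_{Spec k}` is a closed immersion.
Consequences for group algebraic spaces over a field and groupoids on a field.
-/

set_option autoImplicit false
universe u

namespace Groth.Agent.Lib.GrpFieldSep46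

open CategoryTheory CategoryTheory.Limits AlgebraicGeometry TopologicalSpace Opposite AlgSp
open Groth.Agent.Lib.AlgSpBasic Groth.Agent.Lib.H69AlgSp

/-- A quasi-compact monomorphism `g : Z ⟶ U` of schemes over a field `k` with `Z` locally quasi-finite over `k` is a
closed immersion. -/
theorem isClosedImmersion_of_mono_of_lqf_field {k : Type u} [Field k] {Z U : Scheme.{u}}
    (g : Z ⟶ U) (s : U ⟶ Spec (CommRingCat.of k)) [Mono g] [QuasiCompact g]
    [LocallyQuasiFinite (g ≫ s)] : IsClosedImmersion g := by
  rw [IsZariskiLocalAtTarget.iff_of_openCover (P := @IsClosedImmersion) U.affineCover]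
  intro i
  have haff : IsAffine (U.affineCover.X i) := inferInstance
  have hlqf : LocallyQuasiFinite (pullback.snd g (U.affineCover.f i) ≫ U.affineCover.f i ≫ s) := by
    rw [← pullback.condition_assoc]
    infer_instance
  have hqc : QuasiCompact (pullback.snd g (U.affineCover.f i) ≫ U.affineCover.f i ≫ s) :=
    inferInstance
  have hfin : IsFinite (pullback.snd g (U.affineCover.f i) ≫ U.affineCover.f i ≫ s) :=
    IsFinite.of_locallyQuasiFinite _
  have hsep : IsSeparated (U.affineCover.f i ≫ s) := inferInstance
  have hfin' : IsFinite (pullback.snd g (U.affineCover.f i)) :=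
    MorphismProperty.of_postcomp (W := @IsFinite) (W' := @IsSeparated) _ _ hsep hfin
  change IsClosedImmersion (pullback.snd g (U.affineCover.f i))
  exact (IsClosedImmersion.iff_isFinite_and_mono _).2 ⟨hfin', inferInstance⟩

variable {S : Scheme.{u}}

/-- **Quasi-compact sections over a field are closed immersions.** Let `X` be an algebraic space over `S`, `k` a field,
`e : h_{Spec k} ⟶ X` a morphism with a retraction `p` (`e ≫ p = 𝟙`).  If `e` is (representable and) quasi-compact
then `e` is a closed immersion. -/
theorem repWith_isClosedImmersion_of_section {X : Sp S} (hX : IsAlgSpace X)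
    {k : Type u} [Field k] (σ : Spec (CommRingCat.of k) ⟶ S)
    (e : (yon S).obj (Over.mk σ) ⟶ X) (p : X ⟶ (yon S).obj (Over.mk σ)) (hep : e ≫ p = 𝟙 _)
    (hqc : RepWith @QuasiCompact e) : RepWith @IsClosedImmersion e := by
  obtain ⟨U, q, hqe, hqs⟩ := hX.atlas
  have hr := hX.representable_from_yon e
  have sq := hr.isPullback q
  rw [repWith_iff_of_chart e hr q hqe hqs (hr.fst q) (hr.snd q) sq @IsClosedImmersion]
  haveI : Mono e := by
    haveI : Mono (e ≫ p) := by rw [hep]; infer_instance
    exact mono_of_mono e p
  have hmono : Mono (hr.snd q).left := (repWith_mono_of_mono hr).property q _ _ sq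
  have hqc' : QuasiCompact (hr.snd q).left := hqc.property q _ _ sq
  obtain ⟨t, ht⟩ := (yon S).map_surjective (hr.fst q)
  obtain ⟨s, hs⟩ := (yon S).map_surjective (q ≫ p)
  have het : Etale t.left := hqe.property e _ t (by rw [ht]; exact sq.flip)
  have hts : hr.snd q ≫ s = t := by
    apply (yon S).map_injective
    rw [Functor.map_comp, hs, ht, ← Category.assoc, ← sq.w, Category.assoc, hep, Category.comp_id]
  have hlqf : LocallyQuasiFinite ((hr.snd q).left ≫ s.left) := by
    rw [← Over.comp_left, hts]
    exact locallyQuasiFinite_of_etale _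
  exact isClosedImmersion_of_mono_of_lqf_field (k := k) (hr.snd q).left s.left

/-- Over a terminal object, the fibre product `X ×_T X` is the product. -/
theorem isIso_prod_lift_of_isTerminal {C : Type*} [Category C] [HasPullbacks C] [HasBinaryProducts C]
    {X T : C} (hT : IsTerminal T) (f : X ⟶ T) :
    IsIso (prod.lift (pullback.fst f f) (pullback.snd f f)) := by
  refine ⟨pullback.lift (f := f) (g := f) (prod.fst : X ⨯ X ⟶ X) prod.snd (hT.hom_ext _ _), ?_, ?_⟩
  · apply pullback.hom_ext
    · rw [Category.assoc, pullback.lift_fst, prod.lift_fst, Category.id_comp]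
    · rw [Category.assoc, pullback.lift_snd, prod.lift_snd, Category.id_comp]
  · apply Limits.prod.hom_ext
    · rw [Category.assoc, prod.lift_fst, pullback.lift_fst, Category.id_comp]
    · rw [Category.assoc, prod.lift_snd, pullback.lift_snd, Category.id_comp]

/-- The terminal sheaf `h_S`. -/
noncomputable def isTerminalYonId (S : Scheme.{u}) : IsTerminal ((yon S).obj (Over.mk (𝟙 S))) :=
  IsTerminal.isTerminalObj (yon S) _ Over.mkIdTerminal

/-- The absolute diagonal of `X` has `P` iff the relative diagonal of `X ⟶ T` has, for `T` terminal. -/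
theorem repWith_diag_iff_of_isTerminal (P : MorphismProperty Scheme.{u}) {X T : Sp S} (hT : IsTerminal T)
    (f : X ⟶ T) : RepWith P (Limits.diag X) ↔ RepWith P (pullback.diagonal f) := by
  have h : pullback.diagonal f ≫ prod.lift (pullback.fst f f) (pullback.snd f f) = Limits.diag X := by
    ext <;> simp
  rw [← h]
  haveI := isIso_prod_lift_of_isTerminal hT f
  exact MorphismProperty.cancel_right_of_respectsIso (RepWith P) _ _

theorem isSeparatedSp_iff_isSeparatedMor_of_isTerminal {X T : Sp S} (hT : IsTerminal T) (f : X ⟶ T) :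
    IsSeparatedSp X ↔ IsSeparatedMor f :=
  repWith_diag_iff_of_isTerminal _ hT f

end Groth.Agent.Lib.GrpFieldSep46
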