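import Groth.Agent.Lib.GrpHomSmooth45
import Groth.Agent.Lib.FpqcDescent

set_option autoImplicit false
universe u
open CategoryTheory CategoryTheory.Limits MonoidalCategory CartesianMonoidalCategory MonObj GrpObj
  AlgebraicGeometry

namespace Groth.Agent.Lib.GrpHomAffine45

variable {S : Scheme.{u}} {G H N : Over S} [GrpObj G] [GrpObj H] (φ : G ⟶ H) [IsMonHom φ]
  (i : N ⟶ G)

/-- If `φ` is fpqc and `P` is stable under base change and descends along fpqc morphisms, then `φ`
has `P` as soon as its kernel does. -/
theorem of_kernel_hom_fpqc (P : MorphismProperty Scheme.{u}) [P.IsStableUnderBaseChange]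
    [P.DescendsAlong (@Surjective ⊓ @Flat ⊓ @QuasiCompact)]
    (hN : AlgGrp.IsKernel i φ) [Surjective φ.left] [Flat φ.left]
    [QuasiCompact φ.left] (h : P N.hom) : P φ.left := by
  have h6 : P (pullback.fst G.hom N.hom) := P.pullback_fst _ _ h
  exact MorphismProperty.of_isPullback_of_descendsAlong (P := P)
    (Q := @Surjective ⊓ @Flat ⊓ @QuasiCompact)
    (Groth.Agent.Lib.GrpHomSmooth45.isPullback_mul_fst_left φ i hN).flip
    ⟨⟨inferInstance, inferInstance⟩, inferInstance⟩ h6

/-- An fpqc homomorphism with affine kernel is affine. -/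
theorem isAffineHom_of_isAffineHom_kernel (hN : AlgGrp.IsKernel i φ) [Surjective φ.left]
    [Flat φ.left] [QuasiCompact φ.left] [IsAffineHom N.hom] : IsAffineHom φ.left :=
  of_kernel_hom_fpqc φ i @IsAffineHom hN inferInstance

end Groth.Agent.Lib.GrpHomAffine45
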