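import Groth.Agent.Lib.GrpHomAction45
import Groth.Agent.Lib.FlatDescend45
import Groth.Agent.Lib.GrpTopPts45
import Groth.Agent.Lib.H77GenFlatRedSch
import Groth.Agent.S18826

/-!
# A surjective homomorphism onto a reduced group scheme over a field is flat (helper45)

* `eq_univ_of_stable_viaHom` : for a surjective homomorphism `f : G ⟶ H` of group schemes over a
  field, a nonempty subset of `H` stable under the action of `G` through `f` is everything.
* `flat_of_flat_restrict` : if `f` is surjective and flat over a nonempty open of `H` then it is
  flat (`G` locally of finite type).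
* `flat_of_surjective_of_isReduced` : a surjective quasi-compact homomorphism `G ⟶ H` with `H`
  reduced and `G`, `H` locally of finite type over the field `k` is flat.
-/

set_option autoImplicit false
set_option linter.unusedSectionVars false
universe u
open CategoryTheory CategoryTheory.Limits MonoidalCategory CartesianMonoidalCategory MonObj GrpObj
  AlgebraicGeometry
open Groth.Agent.Lib.GrpTopPts45 Groth.Agent.Lib.GrpHomAction45

namespace Groth.Agent.Lib.GrpHomFlat45

variable {k : Type u} [Field k] {G H : Over (Spec (CommRingCat.of k))} [GrpObj G] [GrpObj H]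
  (f : G ⟶ H) [IsMonHom f]

/-- The action of `G` on `H` through a surjective homomorphism is transitive on points. -/
theorem exists_act_eq [Surjective f.left] (h u : H.left) :
    ∃ p : (G ⊗ H).left, (snd G H).left p = u ∧ (viaHom f).act.left p = h := by
  obtain ⟨w, hw1, hw2⟩ := Scheme.Pullback.exists_preimage_pullback (f := H.hom) (g := H.hom) h u
    (Subsingleton.elim (α := PrimeSpectrum k) _ _)
  let c : H ⊗ H ⟶ H := fst H H * (snd H H)⁻¹
  obtain ⟨g₀, hg₀⟩ := f.left.surjective (c.left w)
  obtain ⟨Q, q, q', z, hz1, hz2, hq⟩ := exists_common f c g₀ w hg₀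
  refine ⟨(lift q (q' ≫ snd H H)).left z, ?_, ?_⟩
  · rw [← Scheme.Hom.comp_apply, ← Over.comp_left, lift_snd, comp_left_apply, hz2]
    exact hw2
  · rw [← Scheme.Hom.comp_apply, ← Over.comp_left, viaHom_act, MonObj.comp_mul, lift_fst_assoc,
      lift_snd, hq, ← MonObj.comp_mul, inv_mul_cancel_right, comp_left_apply, hz2]
    exact hw1

theorem eq_univ_of_stable_viaHom [Surjective f.left] {V : Set H.left} (hne : V.Nonempty)
    (hV : ∀ p : (G ⊗ H).left, (snd G H).left p ∈ V → (viaHom f).act.left p ∈ V) :
    V = Set.univ := by
  rw [Set.eq_univ_iff_forall]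
  intro h
  obtain ⟨u, hu⟩ := hne
  obtain ⟨p, hp1, hp2⟩ := exists_act_eq f h u
  rw [← hp2]
  exact hV p (by rw [hp1]; exact hu)

set_option backward.isDefEq.respectTransparency false in
/-- A surjective homomorphism that is flat over a nonempty open of the target is flat. -/
theorem flat_of_flat_restrict [LocallyOfFiniteType G.hom] [Surjective f.left]
    (U : H.left.Opens) (hne : (U : Set H.left).Nonempty) (hU : Flat (f.left ∣_ U)) :
    Flat f.left := by
  obtain ⟨V, hV, hmax, hstab⟩ := Groth.Agent.S18826.result k G G H (leftMul G) (viaHom f) f
    (whiskerLeft_viaHom_act f) @Flat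
  have hUV : U ≤ V := hmax U hU
  have hVtop : (V : Set H.left) = Set.univ :=
    eq_univ_of_stable_viaHom f (hne.mono hUV) (fun p hp => hstab hp)
  have hV' : V = ⊤ := by
    ext x
    simp [hVtop]
  rw [hV'] at hV
  exact (IsZariskiLocalAtTarget.iff_of_iSup_eq_top (P := @Flat) (f := f.left)
    (fun _ : PUnit.{1} => (⊤ : H.left.Opens)) (by simp)).mpr (fun _ => hV)

/-- A homomorphism from a quasi-compact group scheme to a locally finite type group scheme over a
field is quasi-compact. -/
lemma quasiCompact_left [QuasiCompact G.hom] [LocallyOfFiniteType H.hom] : QuasiCompact f.left := by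
  have h1 : CompactSpace G.left := QuasiCompact.compactSpace_of_compactSpace G.hom
  have h2 : IsLocallyNoetherian H.left := LocallyOfFiniteType.isLocallyNoetherian H.hom
  infer_instance

lemma locallyOfFiniteType_left [LocallyOfFiniteType G.hom] : LocallyOfFiniteType f.left := by
  have h1 : LocallyOfFiniteType (f.left ≫ H.hom) := by rw [Over.w]; infer_instance
  exact locallyOfFiniteType_of_comp f.left H.hom

/-- **A surjective homomorphism of group schemes of finite type over a field onto a reduced group
scheme is flat.** -/
theorem flat_of_surjective_of_isReduced [LocallyOfFiniteType G.hom] [QuasiCompact G.hom]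
    [LocallyOfFiniteType H.hom] [IsReduced H.left] [Surjective f.left] : Flat f.left := by
  have h1 := quasiCompact_left f
  have h2 := locallyOfFiniteType_left f
  obtain ⟨U, hUd, hUf, -⟩ := Groth.Agent.Lib.H77GenFlatRedSch.exists_dense_open_flat_lfp f.left
  have : Nonempty H.left := ⟨unitPt H⟩
  exact flat_of_flat_restrict f U hUd.nonempty hUf

/-- A surjective monomorphism of group schemes of finite type over a field onto a reduced group
scheme is an isomorphism. -/
theorem isIso_of_mono_of_surjective_of_isReduced [LocallyOfFiniteType G.hom] [QuasiCompact G.hom]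
    [LocallyOfFiniteType H.hom] [IsReduced H.left] [Surjective f.left] [Mono f] : IsIso f := by
  have h1 := quasiCompact_left f
  have h2 := locallyOfFiniteType_left f
  have h3 := flat_of_surjective_of_isReduced f
  have h4 : Mono f.left := inferInstance
  have h5 : LocallyOfFinitePresentation f.left := by
    have : IsLocallyNoetherian H.left := LocallyOfFiniteType.isLocallyNoetherian H.hom
    exact LocallyOfFinitePresentation.iff_locallyOfFiniteType.mpr h2
  have h6 : IsIso f.left := Flat.isIso_of_surjective_of_mono f.left
  have h7 : IsIso ((Over.forget _).map f) := h6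
  exact isIso_of_reflects_iso f (Over.forget _)

end Groth.Agent.Lib.GrpHomFlat45
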