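import Mathlib

/-!
# From the kernel square to the quotient square (helper18)

`f : G ⟶ Q` a homomorphism of group objects in a cartesian monoidal category, `i : N ⟶ G` with
`IsPullback i (toUnit N) f η[Q]` (`N` is the kernel of `f`; no group structure on `N` needed).

* `isPullback_mul_fst_of_isKernel` : `IsPullback ((G ◁ i) ≫ μ[G]) (fst G N) f f`, i.e.
  `G ×_Q G ≅ G ⊗ N` via `(g, n) ↦ (g · i(n), g)`.
-/

set_option autoImplicit false
universe v u
open CategoryTheory CategoryTheory.Limits MonoidalCategory CartesianMonoidalCategory MonObj GrpObj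

namespace Groth.Agent.Lib.KerSq18

variable {C : Type u} [Category.{v} C] [CartesianMonoidalCategory C]
  {G Q N : C} [GrpObj G] [GrpObj Q] (f : G ⟶ Q) [IsMonHom f] (i : N ⟶ G)

lemma whiskerLeft_mul {T : C} (t : T ⟶ G ⊗ N) :
    t ≫ (G ◁ i) ≫ μ[G] = (t ≫ fst G N) * ((t ≫ snd G N) ≫ i) := by
  rw [Hom.mul_def, ← Category.assoc t]
  congr 1
  apply CartesianMonoidalCategory.hom_ext <;> simp

include f in
lemma isPullback_mul_fst_of_isKernel (hK : IsPullback i (toUnit N) f η[Q]) :
    IsPullback ((G ◁ i) ≫ μ[G]) (fst G N) f f := by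
  have hif : ∀ {T : C} (n : T ⟶ N), (n ≫ i) ≫ f = 1 := by
    intro T n
    rw [Category.assoc, hK.w, ← Category.assoc, toUnit_unique (n ≫ toUnit N) (toUnit T),
      Hom.one_def]
  have hc : ∀ s : PullbackCone f f, ((s.snd)⁻¹ * s.fst) ≫ f = toUnit s.pt ≫ η[Q] := by
    intro s
    rw [MonObj.mul_comp, GrpObj.inv_comp, s.condition, inv_mul_cancel, Hom.one_def]
  have hl : ∀ s : PullbackCone f f,
      lift s.snd (hK.lift _ (toUnit s.pt) (hc s)) ≫ (G ◁ i) ≫ μ[G] = s.fst := by
    intro s
    rw [whiskerLeft_mul, lift_fst, lift_snd, hK.lift_fst, mul_inv_cancel_left]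
  refine ⟨⟨?_⟩, ⟨PullbackCone.IsLimit.mk _
    (fun s => lift s.snd (hK.lift _ (toUnit s.pt) (hc s))) ?_ ?_ ?_⟩⟩
  · have h := whiskerLeft_mul i (𝟙 (G ⊗ N))
    rw [Category.id_comp, Category.id_comp, Category.id_comp] at h
    rw [h, MonObj.mul_comp, hif, _root_.mul_one]
  · intro s
    exact hl s
  · intro s
    exact lift_fst _ _
  · intro s l h1 h2
    apply CartesianMonoidalCategory.hom_ext
    · rw [lift_fst, h2]
    · rw [lift_snd]
      apply hK.hom_ext
      · rw [hK.lift_fst]
        have h3 := whiskerLeft_mul i l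
        rw [h1, h2] at h3
        rw [h3, inv_mul_cancel_left]
      · exact toUnit_unique _ _

end Groth.Agent.Lib.KerSq18
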