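import Groth.Agent.Lib.GrpHomFlat45
import Groth.Agent.Lib.KerSq18
import Mathlib.AlgebraicGeometry.Morphisms.LocalFlatDescent

/-!
# Properties of a faithfully flat homomorphism read off from its kernel (helper45)

`φ : G ⟶ H` a homomorphism of group schemes over `S` with kernel `i : N ⟶ G`
(`AlgGrp.IsKernel i φ`).

* `kernel_hom_of` : a base-change-stable property of `φ` passes to `N ⟶ S`.
* `of_kernel_hom` : if `φ` is fppf and `P` descends along fppf morphisms, then `P (N ⟶ S)`
  implies `P φ`.
-/

set_option autoImplicit false
set_option linter.unusedSectionVars false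
universe u
open CategoryTheory CategoryTheory.Limits MonoidalCategory CartesianMonoidalCategory MonObj GrpObj
  AlgebraicGeometry

namespace Groth.Agent.Lib.GrpHomSmooth45

variable {S : Scheme.{u}} {G H N : Over S} [GrpObj G] [GrpObj H] (φ : G ⟶ H) [IsMonHom φ]
  (i : N ⟶ G)

lemma isPullback_kernel_left (hN : AlgGrp.IsKernel i φ) :
    IsPullback i.left N.hom φ.left η[H].left := by
  have h1 : IsPullback i.left (toUnit N).left φ.left η[H].left := hN.map (Over.forget _)
  have h2 : (toUnit N).left = N.hom := by simp
  rwa [h2] at h1

lemma isPullback_mul_fst_left (hN : AlgGrp.IsKernel i φ) :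
    IsPullback ((G ◁ i) ≫ μ[G]).left (pullback.fst G.hom N.hom) φ.left φ.left :=
  (Groth.Agent.Lib.KerSq18.isPullback_mul_fst_of_isKernel φ i hN).map (Over.forget _)

/-- A base-change-stable property of a homomorphism passes to its kernel. -/
theorem kernel_hom_of (P : MorphismProperty Scheme.{u}) [P.IsStableUnderBaseChange]
    (hN : AlgGrp.IsKernel i φ) (h : P φ.left) : P N.hom :=
  MorphismProperty.of_isPullback (P := P) (isPullback_kernel_left φ i hN) h

/-- If `φ` is fppf and `P` is stable under base change and descends along fppf morphisms, then `φ`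
has `P` as soon as its kernel does. -/
theorem of_kernel_hom (P : MorphismProperty Scheme.{u}) [P.IsStableUnderBaseChange]
    [P.DescendsAlong (@Surjective ⊓ @Flat ⊓ @LocallyOfFinitePresentation)]
    (hN : AlgGrp.IsKernel i φ) [Surjective φ.left] [Flat φ.left]
    [LocallyOfFinitePresentation φ.left] (h : P N.hom) : P φ.left := by
  have h6 : P (pullback.fst G.hom N.hom) := P.pullback_fst _ _ h
  exact MorphismProperty.of_isPullback_of_descendsAlong (P := P)
    (Q := @Surjective ⊓ @Flat ⊓ @LocallyOfFinitePresentation) (isPullback_mul_fst_left φ i hN).flip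
    ⟨⟨inferInstance, inferInstance⟩, inferInstance⟩ h6

set_option backward.isDefEq.respectTransparency false in
theorem smooth_of_smooth_kernel (hN : AlgGrp.IsKernel i φ) [Surjective φ.left] [Flat φ.left]
    [LocallyOfFinitePresentation φ.left] (h : Smooth N.hom) : Smooth φ.left :=
  of_kernel_hom φ i @Smooth hN h

set_option backward.isDefEq.respectTransparency false in
theorem etale_of_etale_kernel (hN : AlgGrp.IsKernel i φ) [Surjective φ.left] [Flat φ.left]
    [LocallyOfFinitePresentation φ.left] (h : Etale N.hom) : Etale φ.left :=
  of_kernel_hom φ i @Etale hN h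

end Groth.Agent.Lib.GrpHomSmooth45
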