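import Groth.Agent.Lib.SchImageGrp45
import Groth.Agent.Lib.DominantGeneric

/-!
# Maximal points of group schemes over a field; dominant quasi-compact homomorphisms are
surjective (helper45)

No finiteness assumption on the group schemes (SGA3 VI_B 1.2).
-/

set_option autoImplicit false
set_option linter.unusedSectionVars false
universe u
open CategoryTheory CategoryTheory.Limits MonoidalCategory CartesianMonoidalCategory MonObj GrpObj
  AlgebraicGeometry
open Groth.Agent.Lib.GrpTopPts45

namespace Groth.Agent.Lib.GrpMaxPts45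

section top

variable {X Y : Type*} [TopologicalSpace X] [TopologicalSpace Y]

/-- A point without proper generizations. -/
def IsMaxPt (ξ : X) : Prop := ∀ ξ' : X, ξ' ⤳ ξ → ξ' = ξ

lemma exists_isMaxPt_specializes [QuasiSober X] [T0Space X] (x : X) :
    ∃ ξ : X, IsMaxPt ξ ∧ ξ ⤳ x := by
  obtain ⟨y, hy⟩ := QuasiSober.sober (isIrreducible_irreducibleComponent (x := x))
    isClosed_irreducibleComponent
  have hyc : closure {y} = irreducibleComponent x := hy
  refine ⟨y, ?_, ?_⟩
  · intro ξ' hξ'
    have h3 : closure {y} ⊆ closure {ξ'} := specializes_iff_closure_subset.1 hξ'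
    have hmem : closure {y} ∈ irreducibleComponents X := by
      rw [hyc]; exact irreducibleComponent_mem_irreducibleComponents x
    have h4 : closure {ξ'} ⊆ closure {y} := hmem.2 isIrreducible_singleton.closure h3
    have h5 : y ⤳ ξ' := specializes_iff_closure_subset.2 h4
    exact (hξ'.antisymm h5).eq
  · rw [specializes_iff_mem_closure, hyc]
    exact mem_irreducibleComponent

lemma IsMaxPt.map_of_generalizingMap {f : X → Y} (hf : GeneralizingMap f) {p : X}
    (hp : IsMaxPt p) : IsMaxPt (f p) := by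
  intro z hz
  obtain ⟨p', hp', rfl⟩ := hf hz
  rw [hp p' hp']

lemma exists_isMaxPt_preimage [QuasiSober X] [T0Space X] {f : X → Y} (hc : Continuous f)
    (hs : Function.Surjective f) {ξ : Y} (hξ : IsMaxPt ξ) : ∃ p : X, IsMaxPt p ∧ f p = ξ := by
  obtain ⟨p₀, rfl⟩ := hs ξ
  obtain ⟨p, hp, hpp⟩ := exists_isMaxPt_specializes p₀
  exact ⟨p, hp, hξ _ (hpp.map hc)⟩

lemma IsMaxPt.homeomorph (e : X ≃ₜ Y) {p : X} (hp : IsMaxPt p) : IsMaxPt (e p) := by
  intro z hz
  have h1 : e.symm z ⤳ p := by
    have := hz.map e.symm.continuous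
    simpa using this
  have := hp _ h1
  rw [← this]; simp

end top

variable {k : Type u} [Field k] {G : Over (Spec (CommRingCat.of k))} [GrpObj G]

/-- If `W` contains all maximal points of `G` then so does every translate `y · W`. -/
theorem isMaxPt_mem_mulSet (y : G.left) {W : Set G.left} (hW : ∀ ξ : G.left, IsMaxPt ξ → ξ ∈ W)
    (ξ : G.left) (hξ : IsMaxPt ξ) : ξ ∈ mulSet G {y} W := by
  rw [mulSet_singleton_eq]
  have h : lact y = (Groth.Agent.S0352.transl (ptHom y)).hom ≫ snd (ptObj y) G := by
    simp [lact, Groth.Agent.S0352.transl]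
  have hiso : IsIso (Groth.Agent.S0352.transl (ptHom y)).hom.left :=
    inferInstanceAs (IsIso ((Over.forget _).map (Groth.Agent.S0352.transl (ptHom y)).hom))
  let τ := (Groth.Agent.S0352.transl (ptHom y)).hom.left.homeomorph
  have hflat : Flat (snd (ptObj y) G).left := Groth.Agent.Lib.SchDomProd45.flat_snd _ _
  have hgen : GeneralizingMap (snd (ptObj y) G).left := Flat.generalizingMap _
  obtain ⟨p, hp, hpξ⟩ := exists_isMaxPt_preimage (snd (ptObj y) G).left.continuous
    (surjective_snd_ptObj y) hξ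
  have hp' : IsMaxPt (τ.symm p) := hp.homeomorph τ.symm
  refine ⟨τ.symm p, hW _ (hp'.map_of_generalizingMap hgen), ?_⟩
  rw [h, Over.comp_left, Scheme.Hom.comp_apply]
  have : (Groth.Agent.S0352.transl (ptHom y)).hom.left (τ.symm p) = p := τ.apply_symm_apply p
  rw [this, hpξ]

variable {H K : Over (Spec (CommRingCat.of k))} [GrpObj H] [GrpObj K] (g : H ⟶ K) [IsMonHom g]

/-- A dominant quasi-compact homomorphism of group schemes over a field is surjective. -/
theorem surjective_of_isDominant [QuasiCompact g.left] [IsDominant g.left] :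
    Function.Surjective g.left := by
  have hW := Groth.Agent.Lib.SchImageGrp45.isSubgrpSet_range g
  have hmax : ∀ ξ : K.left, IsMaxPt ξ → ξ ∈ Set.range g.left := by
    intro ξ hξ
    obtain ⟨h, hh⟩ := Groth.Agent.Lib.DominantGeneric.exists_specializes_of_isDominant g.left ξ
    exact ⟨h, hξ _ hh⟩
  intro y
  obtain ⟨ξ, hξ, -⟩ := exists_isMaxPt_specializes y
  have hmem := isMaxPt_mem_mulSet y hmax ξ hξ
  obtain ⟨Q, z, a, b, ha, hb, hab⟩ := mem_mulSet_iff.mp hmem
  have h1 : a.left z = ((a * b) * b⁻¹).left z := by rw [mul_inv_cancel_right]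
  have ha' : a.left z = y := ha
  rw [← ha', h1]
  apply hW.mul_mem
  refine mul_mem_mulSet _ _ _ ?_ (hW.inv_mem ?_)
  · rw [hab]; exact hmax ξ hξ
  · rw [inv_left_apply]
    exact ⟨_, hb, rfl⟩

end Groth.Agent.Lib.GrpMaxPts45
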