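import Groth.Agent.Lib.GrpTopIrr45
import Groth.Agent.Lib.BoxIrr45
import Groth.Agent.Lib.AffMinPt45

/-!
# The identity component of a group scheme over an algebraically closed field (helper45)

`k` algebraically closed, `G` an ARBITRARY group scheme over `k`, `Z0 G` the irreducible component
through the unit.

* `mulSet_Z0_Z0`, `inv_Z0` : `Z0` is a subgroup-subset;
* `mulSet_singleton_Z0`, `mulSet_Z0_singleton` : the irreducible component through `x` is
  `x · Z0 = Z0 · x`;
* `sat G W = W · Z0 = Z0 · W` is the union of the components meeting `W`, open if `W` is;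
* `exists_subgrpSet_subset_sat` (van Dantzig argument): for an affine open `U` meeting `Z0` and a
  basic open `D(a) ⊆ U` meeting `Z0`, there is an open (hence closed) subgroup-subset inside
  `sat (D a)`;
* `connectedComponent_unitPt_eq` : the connected component of the unit is `Z0` (irreducible).
-/

set_option autoImplicit false
set_option linter.unusedSectionVars false
universe u
open CategoryTheory CategoryTheory.Limits MonoidalCategory CartesianMonoidalCategory MonObj GrpObj
  AlgebraicGeometry
open Groth.Agent.Lib.GrpTopPts45 Groth.Agent.Lib.UniqueComp45 Groth.Agent.Lib.GrpTopIrr45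

namespace Groth.Agent.Lib.GrpTopConn45

section top

variable {X Y : Type*} [TopologicalSpace X] [TopologicalSpace Y]

lemma image_mem_irreducibleComponents_of_homeomorph (h : X ≃ₜ Y) {Z : Set X}
    (hZ : Z ∈ irreducibleComponents X) : h '' Z ∈ irreducibleComponents Y :=
  image_mem_irreducibleComponents_of_isPreirreducible_fiber h h.continuous h.isOpenMap
    (fun _ => (Set.subsingleton_singleton.preimage h.injective).isPreirreducible) h.surjective hZ

end top

variable {k : Type u} [Field k]

/-- Preimages of irreducible components under `P ×ₖ X ⟶ X` for geometrically irreducible `P`. -/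
lemma preimage_snd_mem_irreducibleComponents (P X : Over (Spec (CommRingCat.of k)))
    [GeometricallyIrreducible P.hom] {Z : Set X.left} (hZ : Z ∈ irreducibleComponents X.left) :
    (snd P X).left ⁻¹' Z ∈ irreducibleComponents (P ⊗ X).left := by
  have hgi : GeometricallyIrreducible (pullback.snd P.hom X.hom) := inferInstance
  have hopen : IsOpenMap (pullback.snd P.hom X.hom) := isOpenMap_snd P X
  refine preimage_mem_irreducibleComponents_of_isPreirreducible_fiber hZ
    (pullback.snd P.hom X.hom).continuous hopen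
    (fun _ => ((pullback.snd P.hom X.hom).isIrreducible_preimage hopen
      isIrreducible_singleton).isPreirreducible) ?_
  obtain ⟨z, hz⟩ := hZ.1.nonempty
  obtain ⟨w, hw⟩ := (pullback.snd P.hom X.hom).surjective z
  exact ⟨z, hz, w, hw⟩

variable [IsAlgClosed k] (G : Over (Spec (CommRingCat.of k))) [GrpObj G]

/-- The irreducible component through the unit point. -/
def Z0 : Set G.left := irreducibleComponent (unitPt G)

lemma isClosed_Z0 : IsClosed (Z0 G) := isClosed_irreducibleComponent
lemma isIrreducible_Z0 : IsIrreducible (Z0 G) := isIrreducible_irreducibleComponent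
lemma unitPt_mem_Z0 : unitPt G ∈ Z0 G := mem_irreducibleComponent
lemma Z0_mem : Z0 G ∈ irreducibleComponents G.left := irreducibleComponent_mem_irreducibleComponents _

variable {G}

lemma uc (x : G.left) : UniqueComp x := uniqueComp_of_isAlgClosed G x

lemma eq_comp {Z : Set G.left} (hZ : Z ∈ irreducibleComponents G.left) {x : G.left} (hx : x ∈ Z) :
    Z = irreducibleComponent x := (uc x).eq_irreducibleComponent hZ hx

lemma comp_eq_of_mem {x y : G.left} (h : y ∈ irreducibleComponent x) :
    irreducibleComponent x = irreducibleComponent y :=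
  eq_comp (irreducibleComponent_mem_irreducibleComponents x) h

lemma subset_comp_of_isIrreducible {S : Set G.left} (hS : IsIrreducible S) {x : G.left}
    (hx : x ∈ S) : S ⊆ irreducibleComponent x := by
  obtain ⟨Z, hZ, hSZ⟩ := exists_mem_irreducibleComponents_subset_of_isIrreducible S hS
  rw [← eq_comp hZ (hSZ hx)]
  exact hSZ

lemma mulSet_Z0_Z0 : mulSet G (Z0 G) (Z0 G) ⊆ Z0 G := by
  have hbox := Groth.Agent.Lib.BoxIrr45.isIrreducible_box G G (isIrreducible_Z0 G) (isClosed_Z0 G)
    (isIrreducible_Z0 G) (isClosed_Z0 G)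
  have hirr : IsIrreducible (mulSet G (Z0 G) (Z0 G)) :=
    hbox.image _ μ[G].left.continuous.continuousOn
  exact subset_comp_of_isIrreducible hirr (subset_mulSet_right (unitPt_mem_Z0 G) (unitPt_mem_Z0 G))

lemma inv_Z0_subset : ι[G].left '' Z0 G ⊆ Z0 G := by
  have hirr : IsIrreducible (ι[G].left '' Z0 G) :=
    (isIrreducible_Z0 G).image _ ι[G].left.continuous.continuousOn
  exact subset_comp_of_isIrreducible hirr ⟨unitPt G, unitPt_mem_Z0 G, inv_unitPt⟩

lemma inv_Z0 : ι[G].left '' Z0 G = Z0 G := by
  refine inv_Z0_subset.antisymm fun x hx => ⟨ι[G].left x, inv_Z0_subset ⟨x, hx, rfl⟩, inv_inv_apply x⟩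

/-- The inverse as a homeomorphism. -/
noncomputable def invHomeo : G.left ≃ₜ G.left where
  toFun := ι[G].left
  invFun := ι[G].left
  left_inv := inv_inv_apply
  right_inv := inv_inv_apply
  continuous_toFun := ι[G].left.continuous
  continuous_invFun := ι[G].left.continuous

lemma inv_comp (x : G.left) :
    ι[G].left '' irreducibleComponent x = irreducibleComponent (ι[G].left x) :=
  eq_comp (image_mem_irreducibleComponents_of_homeomorph invHomeo
    (irreducibleComponent_mem_irreducibleComponents x)) ⟨x, mem_irreducibleComponent, rfl⟩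

/-- The irreducible component through `x` is `x · Z0`. -/
theorem mulSet_singleton_Z0 (x : G.left) : mulSet G {x} (Z0 G) = irreducibleComponent x := by
  let τ := Groth.Agent.S0352.transl (ptHom x)
  have : IsIso τ.hom.left := inferInstanceAs (IsIso ((Over.forget _).map τ.hom))
  let h : (ptObj x ⊗ G).left ≃ₜ (ptObj x ⊗ G).left := τ.hom.left.homeomorph
  have hlact : lact x = τ.hom ≫ snd (ptObj x) G := by
    simp [lact, τ, Groth.Agent.S0352.transl]
  -- the two points
  let e' : (ptObj x ⊗ G).left := (lift (𝟙 (ptObj x)) (1 : ptObj x ⟶ G)).left (ptPt x)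
  let x' : (ptObj x ⊗ G).left := (lift (𝟙 (ptObj x)) (ptHom x)).left (ptPt x)
  have he' : (snd (ptObj x) G).left e' = unitPt G := by
    change (snd (ptObj x) G).left ((lift (𝟙 (ptObj x)) (1 : ptObj x ⟶ G)).left (ptPt x)) = _
    rw [← Scheme.Hom.comp_apply, ← Over.comp_left, lift_snd, one_left_apply]
  have hx' : (snd (ptObj x) G).left x' = x := by
    change (snd (ptObj x) G).left ((lift (𝟙 (ptObj x)) (ptHom x)).left (ptPt x)) = _
    rw [← Scheme.Hom.comp_apply, ← Over.comp_left, lift_snd, ptHom_left_apply]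
  have hτ : lift (𝟙 (ptObj x)) (1 : ptObj x ⟶ G) ≫ τ.hom = lift (𝟙 (ptObj x)) (ptHom x) := by
    ext
    · simp [τ, Groth.Agent.S0352.transl]
    · simp [τ, Groth.Agent.S0352.transl, MonObj.comp_mul]
  have hhe' : h e' = x' := by
    change τ.hom.left ((lift (𝟙 (ptObj x)) (1 : ptObj x ⟶ G)).left (ptPt x)) = _
    rw [← Scheme.Hom.comp_apply, ← Over.comp_left, hτ]
  -- two components through `x'`
  have hW₀ := preimage_snd_mem_irreducibleComponents (ptObj x) G (Z0_mem G)
  have hW₁ := preimage_snd_mem_irreducibleComponents (ptObj x) G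
    (irreducibleComponent_mem_irreducibleComponents x)
  have hhW₀ := image_mem_irreducibleComponents_of_homeomorph h hW₀
  have hux' : UniqueComp x' := (uniqueComp_snd_iff (ptObj x) G x').mpr (hx'.symm ▸ uc x)
  have heq : h '' ((snd (ptObj x) G).left ⁻¹' Z0 G) =
      (snd (ptObj x) G).left ⁻¹' irreducibleComponent x :=
    hux' hhW₀ hW₁ ⟨e', by rw [Set.mem_preimage, he']; exact unitPt_mem_Z0 G, hhe'⟩
      (by rw [Set.mem_preimage, hx']; exact mem_irreducibleComponent)
  rw [mulSet_singleton_eq, hlact, Over.comp_left, Scheme.Hom.comp_base, TopCat.coe_comp,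
    Set.image_comp]
  change (snd (ptObj x) G).left '' (h '' _) = _
  rw [heq, Set.image_preimage_eq _ (surjective_snd_ptObj x)]

lemma mulSet_eq_biUnion_right (A B : Set G.left) : mulSet G A B = ⋃ y ∈ B, mulSet G A {y} := by
  ext z
  simp only [mulSet, box, Set.mem_image, Set.mem_inter_iff, Set.mem_preimage, Set.mem_iUnion,
    Set.mem_singleton_iff, exists_prop]
  constructor
  · rintro ⟨s, ⟨h1, h2⟩, rfl⟩
    exact ⟨_, h2, s, ⟨h1, rfl⟩, rfl⟩
  · rintro ⟨x, hx, s, ⟨h1, h2⟩, rfl⟩
    exact ⟨s, ⟨h1, h2 ▸ hx⟩, rfl⟩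

/-- The irreducible component through `x` is `Z0 · x`. -/
theorem mulSet_Z0_singleton (x : G.left) : mulSet G (Z0 G) {x} = irreducibleComponent x := by
  have h1 : ι[G].left '' mulSet G (Z0 G) {x} = mulSet G {ι[G].left x} (Z0 G) := by
    rw [inv_mulSet, inv_Z0, Set.image_singleton]
  have h2 : mulSet G (Z0 G) {x} = ι[G].left '' (ι[G].left '' mulSet G (Z0 G) {x}) := by
    rw [Set.image_image]; simp [inv_inv_apply]
  rw [h2, h1, mulSet_singleton_Z0, inv_comp, inv_inv_apply]

variable (G) in
/-- The saturation of `W`: the union of the irreducible components meeting `W`. -/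
def sat (W : Set G.left) : Set G.left := mulSet G W (Z0 G)

lemma sat_eq_biUnion (W : Set G.left) : sat G W = ⋃ x ∈ W, irreducibleComponent x := by
  rw [sat, mulSet_eq_biUnion]
  simp_rw [mulSet_singleton_Z0]

lemma mulSet_Z0_eq_sat (W : Set G.left) : mulSet G (Z0 G) W = sat G W := by
  rw [sat_eq_biUnion, mulSet_eq_biUnion_right]
  simp_rw [mulSet_Z0_singleton]

lemma isOpen_sat {W : Set G.left} (hW : IsOpen W) : IsOpen (sat G W) := isOpen_mulSet_left hW _

lemma subset_sat (W : Set G.left) : W ⊆ sat G W := subset_mulSet_right (unitPt_mem_Z0 G)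

lemma sat_mono {W W' : Set G.left} (h : W ⊆ W') : sat G W ⊆ sat G W' := mulSet_mono h subset_rfl

lemma sat_mulSet_Z0 (W : Set G.left) : mulSet G (sat G W) (Z0 G) ⊆ sat G W := by
  rw [sat, mulSet_assoc]
  exact mulSet_mono subset_rfl mulSet_Z0_Z0

lemma Z0_subset_sat {W : Set G.left} (h : (W ∩ Z0 G).Nonempty) : Z0 G ⊆ sat G W := by
  obtain ⟨x, hxW, hxZ⟩ := h
  rw [sat_eq_biUnion]
  intro y hy
  refine Set.mem_iUnion₂.mpr ⟨x, hxW, ?_⟩
  rw [← eq_comp (Z0_mem G) hxZ]
  exact hy

end Groth.Agent.Lib.GrpTopConn45
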