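import Groth.Agent.Lib.GrpTopPts45
import Groth.Agent.Lib.UniqueComp45
import Groth.Agent.Lib.AlgClosedGeom
import Mathlib.AlgebraicGeometry.Geometrically.Irreducible

/-!
# Irreducible components of group schemes over an algebraically closed field (helper45)

`uniqueComp_of_isAlgClosed`: every point of an ARBITRARY group scheme over an algebraically closed
field lies on exactly one irreducible component (no finiteness hypothesis).
-/

set_option autoImplicit false
universe u
open CategoryTheory CategoryTheory.Limits MonoidalCategory CartesianMonoidalCategory MonObj GrpObj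
  AlgebraicGeometry
open Groth.Agent.Lib.GrpTopPts45 Groth.Agent.Lib.UniqueComp45

namespace Groth.Agent.Lib.GrpTopIrr45

variable {k : Type u} [Field k]

/-- Transfer of `UniqueComp` along the projection `P ×ₖ X ⟶ X` for geometrically irreducible `P`. -/
lemma uniqueComp_snd_iff (P X : Over (Spec (CommRingCat.of k))) [GeometricallyIrreducible P.hom]
    (t : (P ⊗ X).left) : UniqueComp t ↔ UniqueComp ((snd P X).left t) := by
  have hgi : GeometricallyIrreducible (pullback.snd P.hom X.hom) := inferInstance
  have hopen : IsOpenMap (pullback.snd P.hom X.hom) := isOpenMap_snd P X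
  exact uniqueComp_iff_of_isOpenMap (pullback.snd P.hom X.hom)
    (pullback.snd P.hom X.hom).continuous hopen
    (fun _ => ((pullback.snd P.hom X.hom).isIrreducible_preimage hopen
      isIrreducible_singleton).isPreirreducible)
    (pullback.snd P.hom X.hom).surjective t

/-- Over an algebraically closed field, the spectrum of the residue field of a point is
geometrically irreducible. -/
instance geometricallyIrreducible_ptObj [IsAlgClosed k] {X : Over (Spec (CommRingCat.of k))}
    (x : X.left) : GeometricallyIrreducible (ptObj x).hom := by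
  have : IrreducibleSpace (ptObj x).left :=
    inferInstanceAs (IrreducibleSpace (Spec (X.left.residueField x)))
  exact Groth.Agent.Lib.AlgClosedGeom.geometricallyIrreducible_of_irreducibleSpace _

/-- For two points `x`, `y` of schemes over a field there is a field-valued point object `P`
mapping to both. -/
lemma exists_common_pt {X Y : Over (Spec (CommRingCat.of k))} (x : X.left) (y : Y.left) :
    ∃ (Z : Over (Spec (CommRingCat.of k))) (s : Z.left) (a : ptObj s ⟶ X) (b : ptObj s ⟶ Y),
      a.left (ptPt s) = x ∧ b.left (ptPt s) = y := by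
  obtain ⟨s, -⟩ := surjective_fst (ptObj x) (ptObj y) (ptPt x)
  refine ⟨ptObj x ⊗ ptObj y, s, ptHom s ≫ fst _ _ ≫ ptHom x, ptHom s ≫ snd _ _ ≫ ptHom y, ?_, ?_⟩
  · rw [comp_left_apply, comp_left_apply, ptHom_left_apply]
  · rw [comp_left_apply, comp_left_apply, ptHom_left_apply]

variable (G : Over (Spec (CommRingCat.of k))) [GrpObj G]

/-- Generic translation: if `P` is a geometrically irreducible point object with two points
`a b : P ⟶ G` hitting `x` and `y`, then `UniqueComp x ↔ UniqueComp y`. -/
lemma uniqueComp_iff_of_points {P : Over (Spec (CommRingCat.of k))}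
    [GeometricallyIrreducible P.hom] (a b : P ⟶ G) (p : P.left) :
    UniqueComp (a.left p) ↔ UniqueComp (b.left p) := by
  let τ := Groth.Agent.S0352.transl (b * a⁻¹)
  have hτ : lift (𝟙 P) a ≫ τ.hom = lift (𝟙 P) b := by
    ext
    · simp [τ, Groth.Agent.S0352.transl]
    · simp [τ, Groth.Agent.S0352.transl, MonObj.comp_mul]
  have : IsIso τ.hom.left := inferInstanceAs (IsIso ((Over.forget _).map τ.hom))
  have h1 : (snd P G).left ((lift (𝟙 P) a).left p) = a.left p := by
    rw [← Scheme.Hom.comp_apply, ← Over.comp_left, lift_snd]
  have h2 : (snd P G).left ((lift (𝟙 P) b).left p) = b.left p := by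
    rw [← Scheme.Hom.comp_apply, ← Over.comp_left, lift_snd]
  have h3 : τ.hom.left ((lift (𝟙 P) a).left p) = (lift (𝟙 P) b).left p := by
    rw [← Scheme.Hom.comp_apply, ← Over.comp_left, hτ]
  rw [← h1, ← h2, ← uniqueComp_snd_iff, ← uniqueComp_snd_iff, ← h3]
  exact uniqueComp_iff_of_homeomorph τ.hom.left.homeomorph _

/-- **Every point of a group scheme over an algebraically closed field lies on exactly one
irreducible component.** -/
theorem uniqueComp_of_isAlgClosed [IsAlgClosed k] (y : G.left) : UniqueComp y := by
  have : Nonempty G.left := ⟨unitPt G⟩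
  obtain ⟨ξ, hξ⟩ := exists_uniqueComp (X := G.left)
  obtain ⟨Z, s, a, b, ha, hb⟩ := exists_common_pt ξ y
  rw [← hb, ← uniqueComp_iff_of_points G a b, ha]
  exact hξ

end Groth.Agent.Lib.GrpTopIrr45
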