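import Groth.Agent.Lib.GrpTopConn45

/-!
# The connected component of the unit of a group scheme over an algebraically closed field
is irreducible (helper45)

van Dantzig-type argument: for an affine open `U` meeting `Z0` and a basic open `D(a) ⊆ U` meeting
`Z0`, there is an open (hence closed) subgroup-subset inside `sat (D a)`
(`exists_subgrpSet_subset_sat`). Consequently `connectedComponent_unitPt_eq`: the connected
component of the unit is the irreducible component `Z0` of the unit.
-/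

set_option autoImplicit false
set_option linter.unusedSectionVars false
universe u
open CategoryTheory CategoryTheory.Limits MonoidalCategory CartesianMonoidalCategory MonObj GrpObj
  AlgebraicGeometry
open Groth.Agent.Lib.GrpTopPts45 Groth.Agent.Lib.UniqueComp45 Groth.Agent.Lib.GrpTopIrr45
  Groth.Agent.Lib.GrpTopConn45

namespace Groth.Agent.Lib.GrpTopVD45

variable {k : Type u} [Field k] [IsAlgClosed k] {G : Over (Spec (CommRingCat.of k))} [GrpObj G]

/-- The generic point of the irreducible component through `x`. -/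
noncomputable def gen (x : G.left) : G.left :=
  (isIrreducible_irreducibleComponent (x := x)).genericPoint

lemma isGenericPoint_gen (x : G.left) : IsGenericPoint (gen x) (irreducibleComponent x) := by
  have := (isIrreducible_irreducibleComponent (x := x)).isGenericPoint_genericPoint_closure
  rwa [isClosed_irreducibleComponent.closure_eq] at this

lemma gen_mem_comp (x : G.left) : gen x ∈ irreducibleComponent x := (isGenericPoint_gen x).mem

lemma gen_mem_iff {O : Set G.left} (hO : IsOpen O) (x : G.left) :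
    gen x ∈ O ↔ (irreducibleComponent x ∩ O).Nonempty :=
  (isGenericPoint_gen x).mem_open_set_iff hO

lemma gen_mem_of_mem {O : Set G.left} (hO : IsOpen O) {x : G.left} (hx : x ∈ O) : gen x ∈ O :=
  (gen_mem_iff hO x).mpr ⟨x, mem_irreducibleComponent, hx⟩

lemma mem_sat_iff {O : Set G.left} (hO : IsOpen O) (y : G.left) : y ∈ sat G O ↔ gen y ∈ O := by
  rw [sat_eq_biUnion, gen_mem_iff hO]
  simp only [Set.mem_iUnion, exists_prop]
  constructor
  · rintro ⟨x, hxO, hy⟩
    refine ⟨x, ?_, hxO⟩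
    rw [← comp_eq_of_mem hy]
    exact mem_irreducibleComponent
  · rintro ⟨x, hxy, hxO⟩
    refine ⟨x, hxO, ?_⟩
    rw [← comp_eq_of_mem hxy]
    exact mem_irreducibleComponent

lemma gen_specializes_of {w : G.left} (x : G.left) (h : w ⤳ gen x) : gen x ⤳ w :=
  specializes_of_isGenericPoint (irreducibleComponent_mem_irreducibleComponents x)
    (isGenericPoint_gen x) h

lemma gen_unitPt_mem_Z0 : gen (unitPt G) ∈ Z0 G := gen_mem_comp _

lemma mem_Z0_of_gen_specializes {y : G.left} (h : gen y ⤳ gen (unitPt G)) : y ∈ Z0 G := by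
  have h1 : gen (unitPt G) ⤳ gen y := gen_specializes_of _ h
  have h2 : gen y ∈ Z0 G := by
    rw [Z0, ← (isGenericPoint_gen (unitPt G)).def]
    exact h1.mem_closure
  have h3 : Z0 G = irreducibleComponent (gen y) := eq_comp (Z0_mem G) h2
  have h4 : irreducibleComponent y = irreducibleComponent (gen y) := comp_eq_of_mem (gen_mem_comp y)
  rw [h3, ← h4]
  exact mem_irreducibleComponent

section affine

variable {U : G.left.Opens} (hU : IsAffineOpen U)
include hU

lemma isOpen_diff_sat (a : Γ(G.left, U)) :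
    IsOpen ((U : Set G.left) \ sat G (G.left.basicOpen a : Set G.left)) := by
  rw [isOpen_iff_forall_mem_open]
  rintro y ⟨hyU, hya⟩
  have hgU : gen y ∈ U := gen_mem_of_mem U.isOpen hyU
  have hga : gen y ∉ G.left.basicOpen a := fun h =>
    hya ((mem_sat_iff (G.left.basicOpen a).isOpen y).mpr h)
  obtain ⟨s, hs, hdisj⟩ := Groth.Agent.Lib.AffMinPt45.exists_basicOpen_disjoint hU hgU
    (fun w hw => gen_specializes_of y hw) a hga
  refine ⟨sat G (G.left.basicOpen s : Set G.left) ∩ U, ?_,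
    (isOpen_sat (G.left.basicOpen s).isOpen).inter U.isOpen,
    (mem_sat_iff (G.left.basicOpen s).isOpen y).mpr hs, hyU⟩
  rintro y' ⟨hy's, hy'U⟩
  refine ⟨hy'U, fun hy'a => ?_⟩
  have h1 : gen y' ∈ G.left.basicOpen s := (mem_sat_iff (G.left.basicOpen s).isOpen y').mp hy's
  have h2 : gen y' ∈ G.left.basicOpen a := (mem_sat_iff (G.left.basicOpen a).isOpen y').mp hy'a
  have : gen y' ∈ (G.left.basicOpen s ⊓ G.left.basicOpen a : G.left.Opens) := ⟨h1, h2⟩
  rw [hdisj] at this
  exact this

lemma mem_Z0_of_forall (hζ : gen (unitPt G) ∈ U) {y : G.left}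
    (h : ∀ a : Γ(G.left, U), gen (unitPt G) ∈ G.left.basicOpen a →
      y ∈ sat G (G.left.basicOpen a : Set G.left)) : y ∈ Z0 G := by
  by_contra hy
  have hns : ¬ gen y ⤳ gen (unitPt G) := fun hs => hy (mem_Z0_of_gen_specializes hs)
  obtain ⟨a, ha1, ha2⟩ := Groth.Agent.Lib.AffMinPt45.exists_basicOpen_mem_notMem hU hζ hns
  exact ha2 ((mem_sat_iff (G.left.basicOpen a).isOpen y).mp (h a ha1))

lemma sat_sat_inter (a : Γ(G.left, U)) :
    sat G (sat G (G.left.basicOpen a : Set G.left) ∩ U) = sat G (G.left.basicOpen a : Set G.left) := by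
  apply Set.Subset.antisymm
  · exact (sat_mono Set.inter_subset_left).trans (sat_mulSet_Z0 _)
  · exact sat_mono (Set.subset_inter (subset_sat _) (G.left.basicOpen_le a))

/-- **van Dantzig argument.** -/
theorem exists_subgrpSet_subset_sat (a : Γ(G.left, U))
    (ha : gen (unitPt G) ∈ G.left.basicOpen a) :
    ∃ H : Set G.left, IsSubgrpSet G H ∧ IsOpen H ∧
      H ⊆ sat G (G.left.basicOpen a : Set G.left) := by
  set ζ := gen (unitPt G) with hζdef
  have hζZ : ζ ∈ Z0 G := gen_unitPt_mem_Z0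
  let D : Γ(G.left, U) → Set G.left := fun b => (G.left.basicOpen b : Set G.left)
  have hDo : ∀ b, IsOpen (D b) := fun b => (G.left.basicOpen b).isOpen
  have hDU : ∀ b, D b ⊆ U := fun b => G.left.basicOpen_le b
  have hDmul : ∀ b c, D (b * c) = D b ∩ D c := fun b c => by
    change ((G.left.basicOpen (b * c) : G.left.Opens) : Set G.left) = _
    rw [G.left.basicOpen_mul]; rfl
  set Kt := sat G (D a) with hKt
  have hZKt : Z0 G ⊆ Kt := Z0_subset_sat ⟨ζ, ha, hζZ⟩
  have heKt : unitPt G ∈ Kt := hZKt (unitPt_mem_Z0 G)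
  have hKtZ : mulSet G Kt (Z0 G) ⊆ Kt := sat_mulSet_Z0 _
  -- the closed sets
  let ι' := {b : Γ(G.left, U) // ζ ∈ D b}
  have : Nonempty ι' := ⟨⟨a, ha⟩⟩
  let t : ι' → Set (G ⊗ G).left := fun b =>
    ((fst G G).left ⁻¹' ((U : Set G.left) \ sat G (D a))ᶜ ∩
      (snd G G).left ⁻¹' ((U : Set G.left) \ sat G (D b.1))ᶜ) ∩ (μ[G].left ⁻¹' Kt)ᶜ
  have htc : ∀ b, IsClosed (t b) := fun b =>
    (((isOpen_diff_sat hU a).isClosed_compl.preimage (fst G G).left.continuous).inter
      ((isOpen_diff_sat hU b.1).isClosed_compl.preimage (snd G G).left.continuous)).inter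
      ((isOpen_sat (hDo a)).preimage μ[G].left.continuous).isClosed_compl
  have hB : IsCompact (box G (U : Set G.left) (U : Set G.left)) :=
    Groth.Agent.Lib.GrpTopMul45.isCompact_box G G U U hU.isCompact hU.isCompact
  have hdir : Directed (· ⊇ ·) t := by
    intro b b'
    have hbb : ζ ∈ D (b.1 * b'.1) := by rw [hDmul]; exact ⟨b.2, b'.2⟩
    have hsub : ∀ c : Γ(G.left, U), (snd G G).left ⁻¹' ((U : Set G.left) \ sat G (D (c * b'.1)))ᶜ ⊆
        (snd G G).left ⁻¹' ((U : Set G.left) \ sat G (D b'.1))ᶜ := fun c =>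
      Set.preimage_mono (Set.compl_subset_compl.mpr (Set.sdiff_subset_sdiff_right
        (sat_mono (by rw [hDmul]; exact Set.inter_subset_right))))
    have hsub' : ∀ c : Γ(G.left, U), (snd G G).left ⁻¹' ((U : Set G.left) \ sat G (D (b.1 * c)))ᶜ ⊆
        (snd G G).left ⁻¹' ((U : Set G.left) \ sat G (D b.1))ᶜ := fun c =>
      Set.preimage_mono (Set.compl_subset_compl.mpr (Set.sdiff_subset_sdiff_right
        (sat_mono (by rw [hDmul]; exact Set.inter_subset_left))))
    refine ⟨⟨b.1 * b'.1, hbb⟩, ?_, ?_⟩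
    · exact Set.inter_subset_inter_left _ (Set.inter_subset_inter_right _ (hsub' b'.1))
    · exact Set.inter_subset_inter_left _ (Set.inter_subset_inter_right _ (hsub b.1))
  have hempty : box G (U : Set G.left) (U : Set G.left) ∩ ⋂ b, t b = ∅ := by
    rw [Set.eq_empty_iff_forall_notMem]
    rintro p ⟨⟨hp1, hp2⟩, hpt⟩
    rw [Set.mem_iInter] at hpt
    have hfa : (fst G G).left p ∈ Kt := by
      have := (hpt ⟨a, ha⟩).1.1
      simp only [Set.mem_preimage, Set.mem_compl_iff, Set.mem_sdiff, not_and, not_not] at this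
      exact this hp1
    have hsZ : (snd G G).left p ∈ Z0 G := by
      refine mem_Z0_of_forall hU (hDU a ha) fun b hb => ?_
      have := (hpt ⟨b, hb⟩).1.2
      simp only [Set.mem_preimage, Set.mem_compl_iff, Set.mem_sdiff, not_and, not_not] at this
      exact this hp2
    exact (hpt ⟨a, ha⟩).2 (hKtZ ⟨p, ⟨hfa, hsZ⟩, rfl⟩)
  obtain ⟨b, hb⟩ := hB.elim_directed_family_closed t htc hempty hdir
  -- the neighbourhood `V`
  have hK0V : mulSet G (sat G (D a) ∩ U) (sat G (D b.1) ∩ U) ⊆ Kt := by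
    rintro _ ⟨p, ⟨⟨hp1, hp1U⟩, ⟨hp2, hp2U⟩⟩, rfl⟩
    by_contra hnot
    have : p ∈ box G (U : Set G.left) (U : Set G.left) ∩ t b :=
      ⟨⟨hp1U, hp2U⟩, ⟨⟨fun h => h.2 hp1, fun h => h.2 hp2⟩, hnot⟩⟩
    rw [hb] at this
    exact this
  set c := a * b.1 with hc
  have hζc : ζ ∈ D c := by rw [hc, hDmul]; exact ⟨ha, b.2⟩
  set Vt := sat G (D c) with hVt
  have hVtKt : Vt ⊆ Kt := sat_mono (by rw [hc, hDmul]; exact Set.inter_subset_left)
  have hZVt : Z0 G ⊆ Vt := Z0_subset_sat ⟨ζ, hζc, hζZ⟩
  have hVto : IsOpen Vt := isOpen_sat (hDo c)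
  have hKV : mulSet G Kt Vt ⊆ Kt := by
    have h1 : Kt = mulSet G (sat G (D a) ∩ U) (Z0 G) := (sat_sat_inter hU a).symm
    have h2 : Vt = mulSet G (sat G (D c) ∩ U) (Z0 G) := (sat_sat_inter hU c).symm
    have hVsub : sat G (D c) ∩ U ⊆ sat G (D b.1) ∩ U :=
      Set.inter_subset_inter_left _ (sat_mono (by rw [hc, hDmul]; exact Set.inter_subset_right))
    calc mulSet G Kt Vt
        = mulSet G (mulSet G (sat G (D a) ∩ U) (Z0 G)) (mulSet G (sat G (D c) ∩ U) (Z0 G)) := by
          rw [← h1, ← h2]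
      _ = mulSet G (sat G (D a) ∩ U) (mulSet G (mulSet G (Z0 G) (sat G (D c) ∩ U)) (Z0 G)) := by
          rw [mulSet_assoc, mulSet_assoc]
      _ = mulSet G (sat G (D a) ∩ U) (mulSet G (mulSet G (sat G (D c) ∩ U) (Z0 G)) (Z0 G)) := by
          rw [mulSet_Z0_eq_sat]; rfl
      _ ⊆ mulSet G (sat G (D a) ∩ U) (mulSet G (sat G (D c) ∩ U) (Z0 G)) :=
          mulSet_mono subset_rfl (sat_mulSet_Z0 _)
      _ = mulSet G (mulSet G (sat G (D a) ∩ U) (sat G (D c) ∩ U)) (Z0 G) := by
          rw [mulSet_assoc]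
      _ ⊆ mulSet G Kt (Z0 G) := mulSet_mono ((mulSet_mono subset_rfl hVsub).trans hK0V) subset_rfl
      _ ⊆ Kt := hKtZ
  -- symmetric neighbourhood
  set W := Vt ∩ ι[G].left ⁻¹' Vt with hW
  have heW : unitPt G ∈ W := by
    refine ⟨hZVt (unitPt_mem_Z0 G), ?_⟩
    rw [Set.mem_preimage, inv_unitPt]
    exact hZVt (unitPt_mem_Z0 G)
  have hWo : IsOpen W := hVto.inter (hVto.preimage ι[G].left.continuous)
  have hWsym : W ∪ ι[G].left ⁻¹' W ⊆ Vt := by
    rintro x (hx | hx)
    · exact hx.1
    · have := hx.2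
      rwa [Set.mem_preimage, inv_inv_apply] at this
  have hP : ∀ n, mulSet G Kt (sq G W n) ⊆ Kt := by
    refine sq_induction (fun A => mulSet G Kt A ⊆ Kt) ?_ ?_
    · exact (mulSet_mono subset_rfl hWsym).trans hKV
    · intro A B hA hB
      calc mulSet G Kt (mulSet G A B) = mulSet G (mulSet G Kt A) B := (mulSet_assoc _ _ _).symm
        _ ⊆ mulSet G Kt B := mulSet_mono hA subset_rfl
        _ ⊆ Kt := hB
  refine ⟨⋃ n, sq G W n, isSubgrpSet_iUnion_sq heW, isOpen_iUnion fun n => isOpen_sq hWo n, ?_⟩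
  exact Set.iUnion_subset fun n => (subset_mulSet_left heKt).trans (hP n)

end affine

/-- **The connected component of the unit of a group scheme over an algebraically closed field is
the irreducible component through the unit.** -/
theorem connectedComponent_unitPt_eq : connectedComponent (unitPt G) = Z0 G := by
  apply Set.Subset.antisymm
  · set ζ := gen (unitPt G) with hζdef
    -- the union of the affine opens containing `ζ`
    let N : Set G.left := ⋃ (U : G.left.affineOpens) (_ : ζ ∈ U.1), (U.1 : Set G.left)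
    have hNo : IsOpen N := isOpen_iUnion fun U => isOpen_iUnion fun _ => U.1.isOpen
    have hZN : Z0 G ⊆ N := by
      intro z hz
      obtain ⟨_, ⟨U, hU, rfl⟩, hzU, -⟩ :=
        G.left.isBasis_affineOpens.exists_subset_of_mem_open (Set.mem_univ z) isOpen_univ
      have hζU : ζ ∈ U := by
        have : (irreducibleComponent (unitPt G) ∩ (U : Set G.left)).Nonempty := ⟨z, hz, hzU⟩
        exact (gen_mem_iff U.isOpen _).mpr this
      exact Set.mem_iUnion₂.mpr ⟨⟨U, hU⟩, hζU, hzU⟩
    have hCN : connectedComponent (unitPt G) ∩ N ⊆ Z0 G := by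
      rintro x ⟨hxC, hxN⟩
      obtain ⟨U, hζU, hxU⟩ := Set.mem_iUnion₂.mp hxN
      refine mem_Z0_of_forall U.2 hζU fun a ha => ?_
      obtain ⟨H, hH, hHo, hHsub⟩ := exists_subgrpSet_subset_sat U.2 a ha
      have hclopen : IsClopen H := ⟨hH.isClosed hHo, hHo⟩
      exact hHsub (hclopen.connectedComponent_subset hH.one_mem hxC)
    have hpre : _root_.IsPreconnected (connectedComponent (unitPt G)) :=
      isPreconnected_connectedComponent
    have hcover : connectedComponent (unitPt G) ⊆ Z0 G ∪ Nᶜ := by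
      intro x hx
      by_cases hxN : x ∈ N
      · exact Or.inl (hCN ⟨hx, hxN⟩)
      · exact Or.inr hxN
    have h1 : (connectedComponent (unitPt G) ∩ Z0 G).Nonempty :=
      ⟨unitPt G, mem_connectedComponent, unitPt_mem_Z0 G⟩
    by_contra hnot
    obtain ⟨x, hxC, hxZ⟩ := Set.not_subset.mp hnot
    have h2 : (connectedComponent (unitPt G) ∩ Nᶜ).Nonempty :=
      ⟨x, hxC, fun hxN => hxZ (hCN ⟨hxC, hxN⟩)⟩
    obtain ⟨y, -, hyZ, hyN⟩ := isPreconnected_closed_iff.mp hpre _ _ (isClosed_Z0 G)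
      hNo.isClosed_compl hcover h1 h2
    exact hyN (hZN hyZ)
  · exact (isIrreducible_Z0 G).isPreirreducible.isPreconnected.subset_connectedComponent
      (unitPt_mem_Z0 G)

end Groth.Agent.Lib.GrpTopVD45
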