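/-
Translation isomorphism for group objects in a cartesian monoidal category (helper12).
For `ψ : T ⟶ G`, the map `(t, g) ↦ (t, ψ(t)·g)` is an automorphism of `T ⊗ G`, and
`ψ ▷ G ≫ μ = translateIso.hom ≫ snd`.
-/
import Mathlib.CategoryTheory.Monoidal.Cartesian.Over
import Mathlib.CategoryTheory.Monoidal.Cartesian.Grp

set_option autoImplicit false
set_option linter.unusedSimpArgs false
open CategoryTheory MonoidalCategory CartesianMonoidalCategory MonObj GrpObj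

namespace Groth.Agent.Lib.GrpTranslate

variable {C : Type*} [Category C] [CartesianMonoidalCategory C] (G : C) [GrpObj G]

lemma whiskerRight_mul (T : C) (ψ : T ⟶ G) :
    ψ ▷ G ≫ μ[G] = (fst T G ≫ ψ) * snd T G := by
  rw [Hom.mul_def]; congr 1; ext <;> simp

lemma whiskerLeft_mul (T : C) (ψ : T ⟶ G) :
    G ◁ ψ ≫ μ[G] = fst G T * (snd G T ≫ ψ) := by
  rw [Hom.mul_def]; congr 1; ext <;> simp

/-- left translation iso `(t, g) ↦ (t, ψ(t)·g)`. -/
noncomputable def translateIso (T : C) (ψ : T ⟶ G) : T ⊗ G ≅ T ⊗ G where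
  hom := lift (fst T G) (ψ ▷ G ≫ μ[G])
  inv := lift (fst T G) ((ψ ≫ ι[G]) ▷ G ≫ μ[G])
  hom_inv_id := by
    have h2 : (ψ ≫ ι[G]) ▷ G ≫ μ[G] = (fst T G ≫ ψ)⁻¹ * snd T G := by
      rw [Hom.mul_def, Hom.inv_def]; congr 1; ext <;> simp
    rw [h2, whiskerRight_mul G T ψ]
    ext
    · simp
    · simp [MonObj.comp_mul, GrpObj.comp_inv]
  inv_hom_id := by
    have h2 : (ψ ≫ ι[G]) ▷ G ≫ μ[G] = (fst T G ≫ ψ)⁻¹ * snd T G := by
      rw [Hom.mul_def, Hom.inv_def]; congr 1; ext <;> simp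
    rw [h2, whiskerRight_mul G T ψ]
    ext
    · simp
    · simp [MonObj.comp_mul, GrpObj.comp_inv]

@[simp] lemma translateIso_hom_fst (T : C) (ψ : T ⟶ G) :
    (translateIso G T ψ).hom ≫ fst T G = fst T G := by simp [translateIso]

@[simp] lemma translateIso_hom_snd (T : C) (ψ : T ⟶ G) :
    (translateIso G T ψ).hom ≫ snd T G = ψ ▷ G ≫ μ[G] := by simp [translateIso]

/-- right translation iso `(g, t) ↦ (g·ψ(t), t)`. -/
noncomputable def translateIsoRight (T : C) (ψ : T ⟶ G) : G ⊗ T ≅ G ⊗ T where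
  hom := lift (G ◁ ψ ≫ μ[G]) (snd G T)
  inv := lift (G ◁ (ψ ≫ ι[G]) ≫ μ[G]) (snd G T)
  hom_inv_id := by
    have h2 : G ◁ (ψ ≫ ι[G]) ≫ μ[G] = fst G T * (snd G T ≫ ψ)⁻¹ := by
      rw [Hom.mul_def, Hom.inv_def]; congr 1; ext <;> simp
    rw [h2, whiskerLeft_mul G T ψ]
    ext
    · simp [MonObj.comp_mul, GrpObj.comp_inv]
    · simp
  inv_hom_id := by
    have h2 : G ◁ (ψ ≫ ι[G]) ≫ μ[G] = fst G T * (snd G T ≫ ψ)⁻¹ := by
      rw [Hom.mul_def, Hom.inv_def]; congr 1; ext <;> simp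
    rw [h2, whiskerLeft_mul G T ψ]
    ext
    · simp [MonObj.comp_mul, GrpObj.comp_inv]
    · simp

@[simp] lemma translateIsoRight_hom_snd (T : C) (ψ : T ⟶ G) :
    (translateIsoRight G T ψ).hom ≫ snd G T = snd G T := by simp [translateIsoRight]

@[simp] lemma translateIsoRight_hom_fst (T : C) (ψ : T ⟶ G) :
    (translateIsoRight G T ψ).hom ≫ fst G T = G ◁ ψ ≫ μ[G] := by simp [translateIsoRight]

end Groth.Agent.Lib.GrpTranslate
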