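/-
Basic API for `Grpd.GroupoidScheme` (helper12): composition of T-points, naturality, and the
groupoid identities in a usable form.
-/
import Groth.Prelude.Def_Grpd
import Mathlib.AlgebraicGeometry.PullbackCarrier

set_option autoImplicit false
universe u
open CategoryTheory CategoryTheory.Limits AlgebraicGeometry

namespace Groth.Agent.Lib.GrpdBasic

variable {S : Scheme.{u}} (G : Grpd.GroupoidScheme S)

/-- composite `α ∘ β` of two T-points of R with `s α = t β`. -/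
noncomputable def comp {T : Scheme.{u}} (α β : T ⟶ G.R) (h : α ≫ G.s = β ≫ G.t) : T ⟶ G.R :=
  pullback.lift α β h ≫ G.c

lemma comp_def {T : Scheme.{u}} (α β : T ⟶ G.R) (h : α ≫ G.s = β ≫ G.t) :
    pullback.lift α β h ≫ G.c = comp G α β h := rfl

lemma comp_congr {T : Scheme.{u}} {α α' β β' : T ⟶ G.R} (hα : α = α') (hβ : β = β')
    (h : α ≫ G.s = β ≫ G.t) :
    comp G α β h = comp G α' β' (by rw [← hα, ← hβ]; exact h) := by
  subst hα hβ; rfl

lemma precomp {T T' : Scheme.{u}} (f : T' ⟶ T) (α β : T ⟶ G.R) (h : α ≫ G.s = β ≫ G.t) :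
    f ≫ comp G α β h = comp G (f ≫ α) (f ≫ β) (by simp only [Category.assoc, h]) := by
  unfold comp
  rw [← Category.assoc]
  congr 1
  apply pullback.hom_ext
  · rw [Category.assoc, pullback.lift_fst, pullback.lift_fst]
  · rw [Category.assoc, pullback.lift_snd, pullback.lift_snd]

lemma c_eq : G.c = comp G (pullback.fst G.s G.t) (pullback.snd G.s G.t) pullback.condition := by
  unfold comp
  have : pullback.lift (pullback.fst G.s G.t) (pullback.snd G.s G.t) pullback.condition =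
      𝟙 (pullback G.s G.t) := by
    apply pullback.hom_ext <;> simp
  rw [this, Category.id_comp]

lemma precomp_c {T : Scheme.{u}} (m : T ⟶ pullback G.s G.t) :
    m ≫ G.c = comp G (m ≫ pullback.fst G.s G.t) (m ≫ pullback.snd G.s G.t)
      (by simp only [Category.assoc, pullback.condition]) := by
  conv_lhs => rw [c_eq G]
  rw [precomp]

@[simp] lemma comp_s {T : Scheme.{u}} (α β : T ⟶ G.R) (h : α ≫ G.s = β ≫ G.t) :
    comp G α β h ≫ G.s = β ≫ G.s := G.comp_s α β h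

@[simp] lemma comp_t {T : Scheme.{u}} (α β : T ⟶ G.R) (h : α ≫ G.s = β ≫ G.t) :
    comp G α β h ≫ G.t = α ≫ G.t := G.comp_t α β h

lemma assoc {T : Scheme.{u}} (α β γ : T ⟶ G.R) (h₁ : α ≫ G.s = β ≫ G.t)
    (h₂ : β ≫ G.s = γ ≫ G.t) :
    comp G (comp G α β h₁) γ ((comp_s G α β h₁).trans h₂) =
      comp G α (comp G β γ h₂) (h₁.trans (comp_t G β γ h₂).symm) :=
  G.assoc α β γ h₁ h₂

lemma comp_e {T : Scheme.{u}} (α : T ⟶ G.R) (ε : T ⟶ G.R) (hε : ε = α ≫ G.s ≫ G.e)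
    (h : α ≫ G.s = ε ≫ G.t) : comp G α ε h = α := by
  subst hε
  exact G.comp_e α

lemma e_comp {T : Scheme.{u}} (α : T ⟶ G.R) (ε : T ⟶ G.R) (hε : ε = α ≫ G.t ≫ G.e)
    (h : ε ≫ G.s = α ≫ G.t) : comp G ε α h = α := by
  subst hε
  exact G.e_comp α

lemma comp_i {T : Scheme.{u}} (α : T ⟶ G.R) (ι : T ⟶ G.R) (hι : ι = α ≫ G.i)
    (h : α ≫ G.s = ι ≫ G.t) : comp G α ι h = α ≫ G.t ≫ G.e := by
  subst hι
  exact G.comp_i α

lemma i_comp {T : Scheme.{u}} (α : T ⟶ G.R) (ι : T ⟶ G.R) (hι : ι = α ≫ G.i)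
    (h : ι ≫ G.s = α ≫ G.t) : comp G ι α h = α ≫ G.s ≫ G.e := by
  subst hι
  exact G.i_comp α

/-- `α⁻¹ ∘ (α ∘ β) = β`. -/
lemma inv_comp_comp {T : Scheme.{u}} (α β : T ⟶ G.R) (h : α ≫ G.s = β ≫ G.t) :
    comp G (α ≫ G.i) (comp G α β h)
      (by rw [Category.assoc, G.i_s, comp_t]) = β := by
  have h1 : (α ≫ G.i) ≫ G.s = α ≫ G.t := by rw [Category.assoc, G.i_s]
  rw [← assoc G (α ≫ G.i) α β h1 h]
  rw [comp_congr G (i_comp G α (α ≫ G.i) rfl h1) rfl]
  exact e_comp G β _ (by rw [← Category.assoc, h, Category.assoc]) _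

/-- `α ∘ (α⁻¹ ∘ β) = β` for `t α = t β`. -/
lemma comp_inv_comp {T : Scheme.{u}} (α β : T ⟶ G.R) (h : α ≫ G.t = β ≫ G.t) :
    comp G α (comp G (α ≫ G.i) β (by rw [Category.assoc, G.i_s, h]))
      (by rw [comp_t, Category.assoc, G.i_t]) = β := by
  have h1 : α ≫ G.s = (α ≫ G.i) ≫ G.t := by rw [Category.assoc, G.i_t]
  have h2 : (α ≫ G.i) ≫ G.s = β ≫ G.t := by rw [Category.assoc, G.i_s, h]
  rw [← assoc G α (α ≫ G.i) β h1 h2]
  rw [comp_congr G (comp_i G α (α ≫ G.i) rfl h1) rfl]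
  exact e_comp G β _ (by rw [← Category.assoc, h, Category.assoc]) _

/-- `(α ∘ β) ∘ β⁻¹ = α`. -/
lemma comp_comp_inv {T : Scheme.{u}} (α β : T ⟶ G.R) (h : α ≫ G.s = β ≫ G.t) :
    comp G (comp G α β h) (β ≫ G.i)
      (by rw [comp_s, Category.assoc, G.i_t]) = α := by
  have h1 : β ≫ G.s = (β ≫ G.i) ≫ G.t := by rw [Category.assoc, G.i_t]
  rw [assoc G α β (β ≫ G.i) h h1]
  rw [comp_congr G rfl (comp_i G β (β ≫ G.i) rfl h1)]
  exact comp_e G α _ (by rw [← Category.assoc, ← h, Category.assoc]) _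

/-- `(α ∘ β⁻¹) ∘ β = α` for `s α = s β`. -/
lemma comp_inv_comp' {T : Scheme.{u}} (α β : T ⟶ G.R) (h : α ≫ G.s = β ≫ G.s) :
    comp G (comp G α (β ≫ G.i) (by rw [Category.assoc, G.i_t, h])) β
      (by rw [comp_s, Category.assoc, G.i_s]) = α := by
  have h1 : α ≫ G.s = (β ≫ G.i) ≫ G.t := by rw [Category.assoc, G.i_t, h]
  have h2 : (β ≫ G.i) ≫ G.s = β ≫ G.t := by rw [Category.assoc, G.i_s]
  rw [assoc G α (β ≫ G.i) β h1 h2]
  rw [comp_congr G rfl (i_comp G β (β ≫ G.i) rfl h2)]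
  exact comp_e G α _ (by rw [← Category.assoc, ← h, Category.assoc]) _

/-- point-level composition: if `s r = t r'` there is `r''` with `t r'' = t r`, `s r'' = s r'`. -/
theorem exists_comp_pt (r r' : G.R) (h : G.s r = G.t r') :
    ∃ r'' : G.R, G.t r'' = G.t r ∧ G.s r'' = G.s r' := by
  obtain ⟨z, hz1, hz2⟩ := Scheme.Pullback.exists_preimage_pullback (f := G.s) (g := G.t) r r' h
  have ht : G.c ≫ G.t = pullback.fst G.s G.t ≫ G.t := by rw [c_eq G, comp_t]
  have hs : G.c ≫ G.s = pullback.snd G.s G.t ≫ G.s := by rw [c_eq G, comp_s]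
  refine ⟨G.c z, ?_, ?_⟩
  · have := congrArg (fun φ : pullback G.s G.t ⟶ G.U => φ z) ht
    simpa [hz1] using this
  · have := congrArg (fun φ : pullback G.s G.t ⟶ G.U => φ z) hs
    simpa [hz2] using this

lemma i_s_pt (r : G.R) : G.s (G.i r) = G.t r := by
  have := congrArg (fun φ : G.R ⟶ G.U => φ r) G.i_s
  simpa using this

lemma i_t_pt (r : G.R) : G.t (G.i r) = G.s r := by
  have := congrArg (fun φ : G.R ⟶ G.U => φ r) G.i_t
  simpa using this

lemma e_s_pt (u : G.U) : G.s (G.e u) = u := by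
  have := congrArg (fun φ : G.U ⟶ G.U => φ u) G.e_s
  simpa using this

lemma e_t_pt (u : G.U) : G.t (G.e u) = u := by
  have := congrArg (fun φ : G.U ⟶ G.U => φ u) G.e_t
  simpa using this

/-- the inverse is an involution (on T-points). -/
lemma inv_inv {T : Scheme.{u}} (α : T ⟶ G.R) : (α ≫ G.i) ≫ G.i = α := by
  have h0 : (α ≫ G.i) ≫ G.s = α ≫ G.t := by rw [Category.assoc, G.i_s]
  have h2 := inv_comp_comp G (α ≫ G.i) α h0
  have h3 : comp G (α ≫ G.i) α h0 = α ≫ G.s ≫ G.e := i_comp G α (α ≫ G.i) rfl h0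
  rw [comp_congr G rfl h3] at h2
  refine Eq.trans (Eq.symm ?_) h2
  apply comp_e
  rw [Category.assoc, Category.assoc, ← Category.assoc G.i G.s G.e, G.i_s,
    ← Category.assoc G.i G.t G.e, G.i_t]

/-- the inverse is an involution. -/
lemma i_i : G.i ≫ G.i = 𝟙 G.R := by
  have := inv_inv G (𝟙 G.R)
  rwa [Category.id_comp] at this

instance isIso_i : IsIso G.i := ⟨G.i, i_i G, i_i G⟩

/-- the square with sides `c`, `pr₂`, `s`, `s` is cartesian. -/
theorem isPullback_c_snd : IsPullback G.c (pullback.snd G.s G.t) G.s G.s := by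
  have w : G.c ≫ G.s = pullback.snd G.s G.t ≫ G.s := by
    rw [c_eq G, comp_s]
  refine IsPullback.mk ⟨w⟩ ⟨PullbackCone.IsLimit.mk w
    (fun k => pullback.lift
      (comp G k.fst (k.snd ≫ G.i) (by rw [Category.assoc, G.i_t]; exact k.condition)) k.snd
      (by rw [comp_s, Category.assoc, G.i_s])) ?_ ?_ ?_⟩
  · intro k
    rw [precomp_c]
    rw [comp_congr G (pullback.lift_fst _ _ _) (pullback.lift_snd _ _ _)]
    exact comp_inv_comp' G k.fst k.snd k.condition
  · intro k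
    exact pullback.lift_snd _ _ _
  · intro k m hm1 hm2
    apply pullback.hom_ext
    · rw [pullback.lift_fst]
      have hm1' := hm1
      rw [precomp_c] at hm1'
      have hcond : (m ≫ pullback.fst G.s G.t) ≫ G.s = (m ≫ pullback.snd G.s G.t) ≫ G.t := by
        simp only [Category.assoc, pullback.condition]
      have := comp_comp_inv G (m ≫ pullback.fst G.s G.t) (m ≫ pullback.snd G.s G.t) hcond
      rw [← this]
      exact comp_congr G hm1' (by rw [hm2]) _
    · rw [pullback.lift_snd, hm2]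

end Groth.Agent.Lib.GrpdBasic
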