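import Groth.Prelude
import Groth.Agent.Lib.GrpdPts
import Groth.Agent.Lib.GrpdBasic

set_option autoImplicit false
universe u
open CategoryTheory CategoryTheory.Limits AlgebraicGeometry
open Grpd

namespace Groth.Agent.Lib.GrpdConj
open Groth.Agent.Lib.GrpdPts

variable {S : Scheme.{u}} (G : Grpd.GroupoidScheme S)

/-- The arrow underlying a point of the stabilizer. -/
noncomputable abbrev stabArr : G.stabilizer ⟶ G.R := pullback.fst G.j G.diag

theorem stabArr_t : stabArr G ≫ G.t = G.stabilizerToU := by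
  have h := congrArg (· ≫ pullback.fst G.pU G.pU) (pullback.condition (f := G.j) (g := G.diag))
  simp only [Category.assoc, GroupoidScheme.j, GroupoidScheme.diag, pullback.lift_fst,
    Category.comp_id] at h
  exact h

theorem stabArr_s : stabArr G ≫ G.s = G.stabilizerToU := by
  have h := congrArg (· ≫ pullback.snd G.pU G.pU) (pullback.condition (f := G.j) (g := G.diag))
  simp only [Category.assoc, GroupoidScheme.j, GroupoidScheme.diag, pullback.lift_snd,
    Category.comp_id] at h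
  exact h

instance : Mono G.diag := by
  have : G.diag ≫ pullback.fst G.pU G.pU = 𝟙 _ := pullback.lift_fst _ _ _
  exact mono_of_mono_fac this

instance : Mono (stabArr G) := pullback.fst_of_mono

variable {G}
variable {T : Scheme.{u}}

/-- A `T`-point of the stabilizer from an arrow with equal source and target. -/
noncomputable def stabLift (γ : T ⟶ G.R) (h : γ ≫ G.s = γ ≫ G.t) : T ⟶ G.stabilizer :=
  pullback.lift γ (γ ≫ G.t) (by
    apply pullback.hom_ext
    · simp only [Category.assoc, GroupoidScheme.j, GroupoidScheme.diag, pullback.lift_fst,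
        Category.comp_id]
    · simp only [Category.assoc, GroupoidScheme.j, GroupoidScheme.diag, pullback.lift_snd,
        Category.comp_id, h])

theorem stabLift_arr (γ : T ⟶ G.R) (h : γ ≫ G.s = γ ≫ G.t) : stabLift γ h ≫ stabArr G = γ :=
  pullback.lift_fst _ _ _

theorem stabLift_toU (γ : T ⟶ G.R) (h : γ ≫ G.s = γ ≫ G.t) :
    stabLift γ h ≫ G.stabilizerToU = γ ≫ G.t :=
  pullback.lift_snd _ _ _

/-- Conjugation `ρ ∘ γ ∘ ρ⁻¹`. -/
noncomputable def conj (ρ γ : T ⟶ G.R) : T ⟶ G.R := cmp G (cmp G ρ γ) (ρ ≫ G.i)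

theorem conj_t {ρ γ : T ⟶ G.R} (h1 : ρ ≫ G.s = γ ≫ G.t) (h2 : γ ≫ G.s = γ ≫ G.t) :
    conj ρ γ ≫ G.t = ρ ≫ G.t := by
  have h3 : cmp G ρ γ ≫ G.s = (ρ ≫ G.i) ≫ G.t := by
    rw [cmp_s h1, h2, ← h1, Category.assoc, G.i_t]
  rw [conj, cmp_t h3, cmp_t h1]

theorem conj_s {ρ γ : T ⟶ G.R} (h1 : ρ ≫ G.s = γ ≫ G.t) (h2 : γ ≫ G.s = γ ≫ G.t) :
    conj ρ γ ≫ G.s = ρ ≫ G.t := by
  have h3 : cmp G ρ γ ≫ G.s = (ρ ≫ G.i) ≫ G.t := by
    rw [cmp_s h1, h2, ← h1, Category.assoc, G.i_t]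
  rw [conj, cmp_s h3, Category.assoc, G.i_s]

theorem precomp_conj {T' : Scheme.{u}} (f : T' ⟶ T) {ρ γ : T ⟶ G.R} (h1 : ρ ≫ G.s = γ ≫ G.t)
    (h2 : γ ≫ G.s = γ ≫ G.t) : f ≫ conj ρ γ = conj (f ≫ ρ) (f ≫ γ) := by
  have h3 : cmp G ρ γ ≫ G.s = (ρ ≫ G.i) ≫ G.t := by
    rw [cmp_s h1, h2, ← h1, Category.assoc, G.i_t]
  rw [conj, conj, precomp_cmp f h3, precomp_cmp f h1, Category.assoc]

theorem conj_conj {ρ γ : T ⟶ G.R} (h1 : ρ ≫ G.s = γ ≫ G.t) (h2 : γ ≫ G.s = γ ≫ G.t) :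
    conj (ρ ≫ G.i) (conj ρ γ) = γ := by
  have h3 : cmp G ρ γ ≫ G.s = (ρ ≫ G.i) ≫ G.t := by
    rw [cmp_s h1, h2, ← h1, Category.assoc, G.i_t]
  have h4 : (ρ ≫ G.i) ≫ G.s = cmp G ρ γ ≫ G.t := by
    rw [cmp_t h1, Category.assoc, G.i_s]
  have h5 : γ ≫ G.s = (ρ ≫ G.i) ≫ G.t := by rw [h2, ← h1, Category.assoc, G.i_t]
  rw [conj, conj, ← cmp_assoc h4 h3, i_cmp_cmp h1]
  exact cmp_cmp_i h5


/-- The conjugation morphism `a^*Stab ⟶ b^*Stab` over `T` attached to a `T`-point `ρ` of `R` with source `a`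
and target `b`. -/
noncomputable def conjMap (ρ : T ⟶ G.R) (a b : T ⟶ G.U) (ha : ρ ≫ G.s = a) (hb : ρ ≫ G.t = b) :
    pullback a G.stabilizerToU ⟶ pullback b G.stabilizerToU :=
  have h1 : (pullback.fst a G.stabilizerToU ≫ ρ) ≫ G.s =
      (pullback.snd a G.stabilizerToU ≫ stabArr G) ≫ G.t := by
    rw [Category.assoc, ha, Category.assoc, stabArr_t, pullback.condition]
  have h2 : (pullback.snd a G.stabilizerToU ≫ stabArr G) ≫ G.s =
      (pullback.snd a G.stabilizerToU ≫ stabArr G) ≫ G.t := by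
    rw [Category.assoc, Category.assoc, stabArr_s, stabArr_t]
  pullback.lift (pullback.fst a G.stabilizerToU)
    (stabLift (conj (pullback.fst a G.stabilizerToU ≫ ρ) (pullback.snd a G.stabilizerToU ≫ stabArr G))
      ((conj_s h1 h2).trans (conj_t h1 h2).symm))
    (by rw [stabLift_toU, conj_t h1 h2, Category.assoc, hb])

theorem conjMap_fst (ρ : T ⟶ G.R) (a b : T ⟶ G.U) (ha : ρ ≫ G.s = a) (hb : ρ ≫ G.t = b) :
    conjMap ρ a b ha hb ≫ pullback.fst b G.stabilizerToU = pullback.fst a G.stabilizerToU :=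
  pullback.lift_fst _ _ _

theorem conjMap_snd_arr (ρ : T ⟶ G.R) (a b : T ⟶ G.U) (ha : ρ ≫ G.s = a) (hb : ρ ≫ G.t = b) :
    conjMap ρ a b ha hb ≫ pullback.snd b G.stabilizerToU ≫ stabArr G =
      conj (pullback.fst a G.stabilizerToU ≫ ρ) (pullback.snd a G.stabilizerToU ≫ stabArr G) := by
  rw [conjMap, pullback.lift_snd_assoc, stabLift_arr]

theorem conjMap_comp (ρ : T ⟶ G.R) (a b : T ⟶ G.U) (ha : ρ ≫ G.s = a) (hb : ρ ≫ G.t = b) :
    conjMap ρ a b ha hb ≫ conjMap (ρ ≫ G.i) b a (by rw [Category.assoc, G.i_s, hb])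
      (by rw [Category.assoc, G.i_t, ha]) = 𝟙 _ := by
  have h1 : (pullback.fst a G.stabilizerToU ≫ ρ) ≫ G.s =
      (pullback.snd a G.stabilizerToU ≫ stabArr G) ≫ G.t := by
    rw [Category.assoc, ha, Category.assoc, stabArr_t, pullback.condition]
  have h2 : (pullback.snd a G.stabilizerToU ≫ stabArr G) ≫ G.s =
      (pullback.snd a G.stabilizerToU ≫ stabArr G) ≫ G.t := by
    rw [Category.assoc, Category.assoc, stabArr_s, stabArr_t]
  have h1' : (pullback.fst b G.stabilizerToU ≫ ρ ≫ G.i) ≫ G.s =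
      (pullback.snd b G.stabilizerToU ≫ stabArr G) ≫ G.t := by
    rw [Category.assoc, Category.assoc, G.i_s, hb, Category.assoc, stabArr_t, pullback.condition]
  have h2' : (pullback.snd b G.stabilizerToU ≫ stabArr G) ≫ G.s =
      (pullback.snd b G.stabilizerToU ≫ stabArr G) ≫ G.t := by
    rw [Category.assoc, Category.assoc, stabArr_s, stabArr_t]
  apply pullback.hom_ext
  · rw [Category.assoc, conjMap_fst, conjMap_fst, Category.id_comp]
  · rw [← cancel_mono (stabArr G), Category.assoc, Category.assoc, conjMap_snd_arr,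
      precomp_conj _ h1' h2', Category.id_comp, ← Category.assoc, conjMap_fst,
      conjMap_snd_arr, ← Category.assoc]
    exact conj_conj h1 h2


theorem conjMap_congr {ρ ρ' : T ⟶ G.R} (h : ρ = ρ') (a b : T ⟶ G.U) (ha : ρ ≫ G.s = a)
    (hb : ρ ≫ G.t = b) (ha' : ρ' ≫ G.s = a) (hb' : ρ' ≫ G.t = b) :
    conjMap ρ a b ha hb = conjMap ρ' a b ha' hb' := by
  subst h; rfl

/-- The conjugation isomorphism `a^*Stab ≅ b^*Stab` over `T`. -/
noncomputable def conjIso (ρ : T ⟶ G.R) (a b : T ⟶ G.U) (ha : ρ ≫ G.s = a) (hb : ρ ≫ G.t = b) :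
    pullback a G.stabilizerToU ≅ pullback b G.stabilizerToU where
  hom := conjMap ρ a b ha hb
  inv := conjMap (ρ ≫ G.i) b a (by rw [Category.assoc, G.i_s, hb]) (by rw [Category.assoc, G.i_t, ha])
  hom_inv_id := conjMap_comp ρ a b ha hb
  inv_hom_id := by
    have h := conjMap_comp (ρ ≫ G.i) b a (by rw [Category.assoc, G.i_s, hb])
      (by rw [Category.assoc, G.i_t, ha])
    rw [conjMap_congr (Groth.Agent.Lib.GrpdBasic.inv_inv G ρ) a b _ _ ha hb] at h
    exact h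

theorem conjIso_hom_fst (ρ : T ⟶ G.R) (a b : T ⟶ G.U) (ha : ρ ≫ G.s = a) (hb : ρ ≫ G.t = b) :
    (conjIso ρ a b ha hb).hom ≫ pullback.fst b G.stabilizerToU = pullback.fst a G.stabilizerToU :=
  conjMap_fst ρ a b ha hb

end Groth.Agent.Lib.GrpdConj
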