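import Groth.Agent.S1889
import Mathlib.AlgebraicGeometry.PullbackCarrier

/-!
# Point-level calculus in a groupoid scheme (helper18)

`Comp G x y z` : the point `z` of `R` is a composite of the points `x`, `y` (i.e. there is a point of
`R ×_{s,U,t} R` over `(x, y)` mapping to `z` under `c`).  Cancellation rules, compatibility with
morphisms of groupoid schemes, and the openness statement of `S1889` in this language.
-/

set_option autoImplicit false
universe u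
open CategoryTheory CategoryTheory.Limits AlgebraicGeometry
open Grpd
open Groth.Agent.S1889

namespace Groth.Agent.Lib.GrpdPts18

section tpoints

variable {S : Scheme.{u}} (G : Grpd.GroupoidScheme S)

/-- `(α ∘ β) ∘ β⁻¹ = α` -/
lemma cmp_cmp_inv {T : Scheme.{u}} (α β : T ⟶ G.R) (h : α ≫ G.s = β ≫ G.t) :
    cmp G (cmp G α β h) (β ≫ G.i) (by rw [cmp_s, Category.assoc, G.i_t]) = α := by
  have h1 := cmp_assoc G α β (β ≫ G.i) h (by rw [Category.assoc, G.i_t])
  rw [h1]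
  have h2 : cmp G β (β ≫ G.i) (by rw [Category.assoc, G.i_t]) = β ≫ G.t ≫ G.e := G.comp_i β
  have h3 : cmp G α (α ≫ G.s ≫ G.e)
      (by rw [Category.assoc, Category.assoc, G.e_t, Category.comp_id]) = α := G.comp_e α
  refine Eq.trans ?_ h3
  refine cmp_congr G rfl ?_ _ _
  rw [h2, ← Category.assoc, ← h, Category.assoc]

/-- `i ∘ i = id` -/
lemma i_i : G.i ≫ G.i = 𝟙 G.R := by
  have h1 := inv_cmp_cmp G (G.i) (𝟙 G.R) (by rw [G.i_s, Category.id_comp])
  have h2 : cmp G G.i (𝟙 G.R) (by rw [G.i_s, Category.id_comp]) = G.s ≫ G.e := by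
    have := G.i_comp (𝟙 G.R)
    simp only [Category.id_comp] at this
    exact this
  have h3 : cmp G (G.i ≫ G.i) ((G.i ≫ G.i) ≫ G.s ≫ G.e)
      (by simp only [Category.assoc, G.e_t, Category.comp_id]) = G.i ≫ G.i :=
    G.comp_e (G.i ≫ G.i)
  refine h3.symm.trans (Eq.trans ?_ h1)
  refine cmp_congr G rfl ?_ _ _
  rw [h2, Category.assoc, ← Category.assoc G.i G.s, G.i_s, ← Category.assoc, G.i_t]

end tpoints

section hom

variable {S : Scheme.{u}} {G₁ G₂ : Grpd.GroupoidScheme S} (a : Grpd.GroupoidScheme.Hom G₁ G₂)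

lemma hom_src {T : Scheme.{u}} {α β : T ⟶ G₁.R} (h : α ≫ G₁.s = β ≫ G₁.t) :
    (α ≫ a.fR) ≫ G₂.s = (β ≫ a.fR) ≫ G₂.t := by
  rw [Category.assoc, Category.assoc, a.comm_s, a.comm_t, ← Category.assoc, ← Category.assoc, h]

/-- a morphism of groupoid schemes is compatible with composition of `T`-points -/
lemma hom_cmp {T : Scheme.{u}} (α β : T ⟶ G₁.R) (h : α ≫ G₁.s = β ≫ G₁.t) :
    cmp G₁ α β h ≫ a.fR = cmp G₂ (α ≫ a.fR) (β ≫ a.fR) (hom_src a h) :=
  a.comm_c α β h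

/-- a morphism of groupoid schemes is compatible with identities -/
lemma hom_e : G₁.e ≫ a.fR = a.fU ≫ G₂.e := by
  have hs : (G₁.e ≫ a.fR) ≫ G₂.s = a.fU := by
    rw [Category.assoc, a.comm_s, ← Category.assoc, G₁.e_s, Category.id_comp]
  have ht : (G₁.e ≫ a.fR) ≫ G₂.t = a.fU := by
    rw [Category.assoc, a.comm_t, ← Category.assoc, G₁.e_t, Category.id_comp]
  -- `e ∘ e = e` in `G₁`
  have h0 : cmp G₁ G₁.e G₁.e (by rw [G₁.e_s, G₁.e_t]) = G₁.e := by
    have := G₁.comp_e G₁.e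
    refine Eq.trans ?_ this
    refine cmp_congr G₁ rfl ?_ _ _
    rw [← Category.assoc, G₁.e_s, Category.id_comp]
  have h1 : cmp G₂ (G₁.e ≫ a.fR) (G₁.e ≫ a.fR) (hs.trans ht.symm) = G₁.e ≫ a.fR := by
    rw [← hom_cmp a G₁.e G₁.e (by rw [G₁.e_s, G₁.e_t]), h0]
  have h2 := inv_cmp_cmp G₂ (G₁.e ≫ a.fR) (G₁.e ≫ a.fR) (hs.trans ht.symm)
  have h3 : cmp G₂ ((G₁.e ≫ a.fR) ≫ G₂.i) (G₁.e ≫ a.fR) (by rw [Category.assoc, G₂.i_s]) =
      (G₁.e ≫ a.fR) ≫ G₂.s ≫ G₂.e := G₂.i_comp (G₁.e ≫ a.fR)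
  have h4 : (G₁.e ≫ a.fR) ≫ G₂.s ≫ G₂.e = a.fU ≫ G₂.e := by rw [← Category.assoc, hs]
  refine h2.symm.trans (Eq.trans ?_ (h3.trans h4))
  exact cmp_congr G₂ rfl h1 _ _

/-- a morphism of groupoid schemes is compatible with inverses -/
lemma hom_i : G₁.i ≫ a.fR = a.fR ≫ G₂.i := by
  have hιs : (G₁.i ≫ a.fR) ≫ G₂.s = a.fR ≫ G₂.t := by
    rw [Category.assoc, a.comm_s, ← Category.assoc, G₁.i_s, a.comm_t]
  -- `a(i) ∘ a = e ∘ s ∘ a`
  have h1 : cmp G₂ (G₁.i ≫ a.fR) a.fR hιs = a.fR ≫ G₂.s ≫ G₂.e := by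
    have h := hom_cmp a G₁.i (𝟙 G₁.R) (by rw [G₁.i_s, Category.id_comp])
    have h' : cmp G₁ G₁.i (𝟙 G₁.R) (by rw [G₁.i_s, Category.id_comp]) = G₁.s ≫ G₁.e := by
      have := G₁.i_comp (𝟙 G₁.R)
      simp only [Category.id_comp] at this
      exact this
    rw [h', Category.assoc, hom_e, ← Category.assoc, ← a.comm_s, Category.assoc] at h
    refine Eq.trans ?_ h.symm
    exact (cmp_congr G₂ rfl (Category.id_comp _) _ _).symm
  have h2 := cmp_cmp_inv G₂ (G₁.i ≫ a.fR) a.fR hιs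
  have h3 : cmp G₂ ((a.fR ≫ G₂.i) ≫ G₂.t ≫ G₂.e) (a.fR ≫ G₂.i)
      (by simp only [Category.assoc, G₂.e_s, Category.comp_id]) = a.fR ≫ G₂.i :=
    G₂.e_comp (a.fR ≫ G₂.i)
  refine h2.symm.trans (Eq.trans ?_ h3)
  refine cmp_congr G₂ ?_ rfl _ _
  rw [h1, Category.assoc, ← Category.assoc G₂.i, G₂.i_t]

end hom

section points

variable {S : Scheme.{u}} (G : Grpd.GroupoidScheme S)

/-- `z` is a composite of the points `x` and `y` of `R` -/
def Comp (x y z : G.R) : Prop :=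
  ∃ p : ↥(pullback G.s G.t), pullback.fst G.s G.t p = x ∧ pullback.snd G.s G.t p = y ∧ G.c p = z

variable {G}

lemma comp_of_tpoint {T : Scheme.{u}} (t : T) (α β : T ⟶ G.R) (h : α ≫ G.s = β ≫ G.t) :
    Comp G (α t) (β t) (cmp G α β h t) := by
  refine ⟨pullback.lift α β h t, ?_, ?_, ?_⟩
  · rw [← Scheme.Hom.comp_apply, pullback.lift_fst]
  · rw [← Scheme.Hom.comp_apply, pullback.lift_snd]
  · rw [← Scheme.Hom.comp_apply]; rfl

lemma cmp_fst_snd : cmp G (pullback.fst G.s G.t) (pullback.snd G.s G.t) pullback.condition = G.c := by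
  unfold Groth.Agent.S1889.cmp
  have : pullback.lift (pullback.fst G.s G.t) (pullback.snd G.s G.t) pullback.condition =
      𝟙 _ := by
    apply pullback.hom_ext <;> simp
  rw [this, Category.id_comp]

/-- `x⁻¹ ∘ (x ∘ y) = y` -/
lemma Comp.inv_left {x y z : G.R} (h : Comp G x y z) : Comp G (G.i x) z y := by
  obtain ⟨p, rfl, rfl, rfl⟩ := h
  have h1 := inv_cmp_cmp G (pullback.fst G.s G.t) (pullback.snd G.s G.t) pullback.condition
  have h2 := comp_of_tpoint p (pullback.fst G.s G.t ≫ G.i)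
    (cmp G (pullback.fst G.s G.t) (pullback.snd G.s G.t) pullback.condition)
    (by rw [Category.assoc, G.i_s, cmp_t])
  rw [h1] at h2
  simpa [cmp_fst_snd] using h2

/-- `(x ∘ y) ∘ y⁻¹ = x` -/
lemma Comp.inv_right {x y z : G.R} (h : Comp G x y z) : Comp G z (G.i y) x := by
  obtain ⟨p, rfl, rfl, rfl⟩ := h
  have h1 := cmp_cmp_inv G (pullback.fst G.s G.t) (pullback.snd G.s G.t) pullback.condition
  have h2 := comp_of_tpoint p
    (cmp G (pullback.fst G.s G.t) (pullback.snd G.s G.t) pullback.condition)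
    (pullback.snd G.s G.t ≫ G.i)
    (by rw [cmp_s, Category.assoc, G.i_t])
  rw [h1] at h2
  simpa [cmp_fst_snd] using h2

/-- `x ∘ e = x` -/
lemma comp_e (x : G.R) : Comp G x (G.e (G.s x)) x := by
  have h1 : cmp G (𝟙 G.R) (𝟙 G.R ≫ G.s ≫ G.e)
      (by simp only [Category.assoc, G.e_t, Category.comp_id]) = 𝟙 G.R := G.comp_e (𝟙 G.R)
  have h2 := comp_of_tpoint x (𝟙 G.R) (𝟙 G.R ≫ G.s ≫ G.e)
      (by simp only [Category.assoc, G.e_t, Category.comp_id])
  rw [h1] at h2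
  simpa using h2

lemma exists_comp [Subsingleton G.U] (x y : G.R) : ∃ z, Comp G x y z := by
  obtain ⟨p, h1, h2⟩ := Scheme.Pullback.exists_preimage_pullback (f := G.s) (g := G.t) x y
    (Subsingleton.elim _ _)
  exact ⟨G.c p, p, h1, h2, rfl⟩

end points

section image

variable {S : Scheme.{u}} {G₁ G₂ : Grpd.GroupoidScheme S} (a : Grpd.GroupoidScheme.Hom G₁ G₂)

/-- the image of a morphism of groupoid schemes (iso on objects) is closed under composition -/
lemma range_comp_mem [Mono a.fU] {x y z : G₂.R} (hx : x ∈ Set.range ⇑a.fR)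
    (hy : y ∈ Set.range ⇑a.fR) (h : Comp G₂ x y z) : z ∈ Set.range ⇑a.fR := by
  obtain ⟨p, rfl, rfl, rfl⟩ := h
  have hr := Scheme.Pullback.range_map (f := G₁.s) (g := G₁.t) G₂.s G₂.t a.fR a.fR a.fU
    a.comm_s.symm a.comm_t.symm
  have hp : p ∈ Set.range ⇑(pullback.map G₁.s G₁.t G₂.s G₂.t a.fR a.fR a.fU
      a.comm_s.symm a.comm_t.symm) := by
    rw [hr]; exact ⟨hx, hy⟩
  obtain ⟨q, rfl⟩ := hp
  have h1 := a.comm_c (pullback.fst G₁.s G₁.t) (pullback.snd G₁.s G₁.t) pullback.condition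
  have h2 : pullback.lift (pullback.fst G₁.s G₁.t) (pullback.snd G₁.s G₁.t) pullback.condition =
      𝟙 _ := by
    apply pullback.hom_ext <;> simp
  have h3 : pullback.lift (pullback.fst G₁.s G₁.t ≫ a.fR) (pullback.snd G₁.s G₁.t ≫ a.fR)
      (hom_src a pullback.condition) =
      pullback.map G₁.s G₁.t G₂.s G₂.t a.fR a.fR a.fU a.comm_s.symm a.comm_t.symm := by
    apply pullback.hom_ext <;> simp
  rw [h2, Category.id_comp, h3] at h1
  refine ⟨G₁.c q, ?_⟩
  rw [← Scheme.Hom.comp_apply, h1, Scheme.Hom.comp_apply]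

lemma range_i_mem {x : G₂.R} (hx : x ∈ Set.range ⇑a.fR) : G₂.i x ∈ Set.range ⇑a.fR := by
  obtain ⟨y, rfl⟩ := hx
  refine ⟨G₁.i y, ?_⟩
  rw [← Scheme.Hom.comp_apply, hom_i, Scheme.Hom.comp_apply]

lemma range_e_mem (u : G₁.U) : G₂.e (a.fU u) ∈ Set.range ⇑a.fR := by
  refine ⟨G₁.e u, ?_⟩
  rw [← Scheme.Hom.comp_apply, hom_e, Scheme.Hom.comp_apply]

end image

section opens

variable {S : Scheme.{u}} (G : Grpd.GroupoidScheme S)

/-- `S1889` in point language: (image of a morphism) `∘` (open) is open. -/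
lemma isOpen_comp (k : Type u) [Field k] (eU : G.U ≅ Spec (CommRingCat.of k))
    {Z : Scheme.{u}} (a : Z ⟶ G.R) {V : Set G.R} (hV : IsOpen V) :
    IsOpen {z : G.R | ∃ x ∈ Set.range ⇑a, ∃ y ∈ V, Comp G x y z} := by
  let W : G.R.Opens := ⟨V, hV⟩
  have h0 := Groth.Agent.S1889.result S G k eU W Z a
  have h3 : pullback.lift (pullback.fst (a ≫ G.s) (W.ι ≫ G.t) ≫ a)
      (pullback.snd (a ≫ G.s) (W.ι ≫ G.t) ≫ W.ι)
      ((Category.assoc _ _ _).trans (pullback.condition.trans (Category.assoc _ _ _).symm)) =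
      pullback.map (a ≫ G.s) (W.ι ≫ G.t) G.s G.t a W.ι (𝟙 G.U) (by simp) (by simp) := by
    apply pullback.hom_ext <;> simp
  rw [h3] at h0
  have hr := Scheme.Pullback.range_map (f := a ≫ G.s) (g := W.ι ≫ G.t) G.s G.t a W.ι (𝟙 G.U)
    (by simp) (by simp)
  convert h0 using 1
  rw [Scheme.Hom.comp_base, TopCat.coe_comp, Set.range_comp, hr]
  ext z
  simp only [Set.mem_ofPred_eq, Set.mem_image, Set.mem_inter_iff, Set.mem_preimage,
    Scheme.Opens.range_ι]
  constructor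
  · rintro ⟨x, hx, y, hy, p, rfl, rfl, rfl⟩
    exact ⟨p, ⟨hx, hy⟩, rfl⟩
  · rintro ⟨p, ⟨hx, hy⟩, rfl⟩
    exact ⟨_, hx, _, hy, p, rfl, rfl, rfl⟩

end opens

section main

variable {S : Scheme.{u}} {G₁ G₂ : Grpd.GroupoidScheme S}

/-- Over a field: the image of a morphism of groupoid schemes which is an isomorphism on objects is
closed as soon as it is locally closed. -/
theorem isClosed_range_of_isLocallyClosed (k : Type u) [Field k]
    (eU : G₂.U ≅ Spec (CommRingCat.of k)) (a : Grpd.GroupoidScheme.Hom G₁ G₂) [IsIso a.fU]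
    (hlc : IsLocallyClosed (Set.range ⇑a.fR)) : IsClosed (Set.range ⇑a.fR) := by
  have hsub : Subsingleton G₂.U := eU.hom.homeomorph.subsingleton
  obtain ⟨O, C, hO, hC, hZ⟩ := hlc
  have hZO : Set.range ⇑a.fR ⊆ O := by rw [hZ]; exact Set.inter_subset_left
  have hZC : closure (Set.range ⇑a.fR) ⊆ C := by
    apply closure_minimal _ hC
    rw [hZ]; exact Set.inter_subset_right
  have hOcl : ∀ w, w ∈ O → w ∈ closure (Set.range ⇑a.fR) → w ∈ Set.range ⇑a.fR := by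
    intro w hw1 hw2
    rw [hZ]; exact ⟨hw1, hZC hw2⟩
  rw [← closure_subset_iff_isClosed]
  intro r hr
  -- the identity at the source of `r` lies in the image
  have he : G₂.e (G₂.s r) ∈ Set.range ⇑a.fR := by
    have hsurj : Function.Surjective ⇑a.fU := a.fU.homeomorph.surjective
    obtain ⟨u, hu⟩ := hsurj (G₂.s r)
    rw [← hu]
    exact range_e_mem a u
  -- the open neighbourhood `r ∘ O` of `r`
  have hN := isOpen_comp G₂ k eU (G₂.R.fromSpecResidueField r) hO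
  have hrN : r ∈ {z : G₂.R | ∃ x ∈ Set.range ⇑(G₂.R.fromSpecResidueField r), ∃ y ∈ O,
      Comp G₂ x y z} := by
    refine ⟨r, ?_, _, hZO he, comp_e r⟩
    rw [Scheme.range_fromSpecResidueField]; rfl
  obtain ⟨z, ⟨x, hx, w, hwO, hxwz⟩, hzZ⟩ := mem_closure_iff.mp hr _ hN hrN
  rw [Scheme.range_fromSpecResidueField] at hx
  obtain rfl : x = r := hx
  -- `r = z ∘ w⁻¹`
  have hrzw : Comp G₂ z (G₂.i w) x := hxwz.inv_right
  have hii : ∀ y : G₂.R, G₂.i (G₂.i y) = y := by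
    intro y
    rw [← Scheme.Hom.comp_apply, i_i]; rfl
  -- `w` lies in the closure of the image
  have hwcl : w ∈ closure (Set.range ⇑a.fR) := by
    by_contra hw
    have hV : IsOpen (⇑G₂.i ⁻¹' (closure (Set.range ⇑a.fR))ᶜ) :=
      (isClosed_closure.isOpen_compl).preimage G₂.i.continuous
    have hM := isOpen_comp G₂ k eU a.fR hV
    have hrM : x ∈ {z : G₂.R | ∃ x ∈ Set.range ⇑a.fR,
        ∃ y ∈ ⇑G₂.i ⁻¹' (closure (Set.range ⇑a.fR))ᶜ, Comp G₂ x y z} := by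
      refine ⟨z, hzZ, G₂.i w, ?_, hrzw⟩
      simp only [Set.mem_preimage, Set.mem_compl_iff, hii]
      exact hw
    obtain ⟨z₁, ⟨z₂, hz₂, y, hy, hc⟩, hz₁⟩ := mem_closure_iff.mp hr _ hM hrM
    have hyZ : y ∈ Set.range ⇑a.fR := range_comp_mem a (range_i_mem a hz₂) hz₁ hc.inv_left
    exact hy (subset_closure (range_i_mem a hyZ))
  have hwZ : w ∈ Set.range ⇑a.fR := hOcl w hwO hwcl
  exact range_comp_mem a hzZ (range_i_mem a hwZ) hrzw

end main

end Groth.Agent.Lib.GrpdPts18
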