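import Groth.Agent.Lib.CycPullDivGen
import Groth.Agent.Lib.CycClosedImm
import Groth.Agent.Lib.C1CapTensor
import Groth.Agent.Lib.ZeroSectionC1

set_option autoImplicit false
universe u
open CategoryTheory AlgebraicGeometry
open Cyc

/-!
# Gysin pullback of a flat pullback along a relative effective Cartier divisor (helper63)
-/

namespace Groth.Agent.Lib.GysinFlatPull

section Alg

/-- elementary form of the local flatness criterion: if `C = A/(f)` is flat over `R` and `f` is a
nonzerodivisor of `A`, then `f` stays a nonzerodivisor on `A/IA` for every ideal `I` of `R`. -/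
theorem mem_map_of_mul_mem {R A C : Type u} [CommRing R] [CommRing A] [CommRing C]
    (φ : R →+* A) (ψ : A →+* C) (hψ : Function.Surjective ψ) (f : A)
    (hker : RingHom.ker ψ = Ideal.span {f}) (hf : ∀ a : A, f * a = 0 → a = 0)
    (hflat : (ψ.comp φ).Flat) (I : Ideal R) (a : A) (ha : f * a ∈ I.map φ) : a ∈ I.map φ := by
  classical
  letI : Algebra R C := (ψ.comp φ).toAlgebra
  haveI : Module.Flat R C := hflat
  have hsm : ∀ (r : R) (c : C), r • c = ψ (φ r) * c := fun r c => rfl
  unfold Ideal.map at ha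
  rw [Finsupp.mem_span_image_iff_linearCombination] at ha
  obtain ⟨l, hl, hla⟩ := ha
  rw [Finsupp.linearCombination_apply, Finsupp.sum] at hla
  have hfker : ψ f = 0 := by
    have : f ∈ RingHom.ker ψ := by rw [hker]; exact Ideal.mem_span_singleton_self f
    exact this
  -- the relation in `C`
  have hrel : ∑ i : l.support, (i.1 : R) • ψ (l i.1) = 0 := by
    have h1 : ∑ i : l.support, (i.1 : R) • ψ (l i.1) = ψ (∑ r ∈ l.support, l r • φ r) := by
      rw [map_sum, ← Finset.sum_coe_sort l.support (fun r => ψ (l r • φ r))]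
      refine Finset.sum_congr rfl fun i _ => ?_
      rw [hsm, smul_eq_mul, map_mul, mul_comm]
    rw [h1, hla, map_mul, hfker, zero_mul]
  obtain ⟨k, b, y, hxy, hby⟩ := Module.Flat.isTrivialRelation_of_sum_smul_eq_zero (R := R) (M := C)
    (f := fun i : l.support => (i.1 : R)) (x := fun i : l.support => ψ (l i.1)) hrel
  choose y' hy' using fun j => hψ (y j)
  have hmem : ∀ i : l.support, ∃ e : A, e * f = l i.1 - ∑ j, φ (b i j) * y' j := by
    intro i
    have hxi : ψ (l i.1) = ∑ j, b i j • y j := hxy i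
    rw [← Ideal.mem_span_singleton', ← hker, RingHom.mem_ker, map_sub, map_sum, hxi, sub_eq_zero]
    refine Finset.sum_congr rfl fun j _ => ?_
    rw [hsm, map_mul, hy']
  choose e he using hmem
  have hsum : f * a = f * ∑ i : l.support, e i * φ i.1 := by
    rw [← hla, ← Finset.sum_coe_sort l.support (fun r => l r • φ r)]
    have h2 : ∀ i : l.support, l i.1 • φ i.1 =
        (∑ j, φ (i.1 * b i j) * y' j) + f * (e i * φ i.1) := by
      intro i
      have := he i
      rw [smul_eq_mul, show l i.1 = e i * f + ∑ j, φ (b i j) * y' j by rw [this]; ring]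
      rw [add_mul, Finset.sum_mul, add_comm]
      congr 1
      · refine Finset.sum_congr rfl fun j _ => ?_
        rw [map_mul]; ring
      · ring
    rw [Finset.sum_congr rfl (fun i _ => h2 i), Finset.sum_add_distrib, Finset.sum_comm,
      ← Finset.mul_sum]
    have h3 : ∑ j, ∑ i : l.support, φ (i.1 * b i j) * y' j = 0 := by
      refine Finset.sum_eq_zero fun j _ => ?_
      rw [← Finset.sum_mul, ← map_sum, hby j, map_zero, zero_mul]
    rw [h3, zero_add]
  have hfin : a = ∑ i : l.support, e i * φ i.1 := by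
    have h4 : f * (a - ∑ i : l.support, e i * φ i.1) = 0 := by
      rw [mul_sub, hsum, sub_self]
    exact sub_eq_zero.mp (hf _ h4)
  rw [hfin]
  refine Ideal.sum_mem _ fun i _ => ?_
  refine Ideal.mul_mem_left _ _ (Ideal.mem_map_of_mem φ ?_)
  exact hl (Finset.mem_coe.mpr i.2)

open Pointwise in
/-- for a surjection `ψ : A → C` with kernel `(f)`: `ℓ_C(C/JC) = ℓ_A((A/J)/f(A/J))`. -/
theorem length_quot_map_surjective {A C : Type u} [CommRing A] [CommRing C] (ψ : A →+* C)
    (hψ : Function.Surjective ψ) (f : A) (hker : RingHom.ker ψ = Ideal.span {f}) (J : Ideal A) :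
    Module.length C (C ⧸ J.map ψ) =
      Module.length A ((A ⧸ J) ⧸ f • (⊤ : Submodule A (A ⧸ J))) := by
  rw [Groth.Agent.Lib.CycPullDivGen.length_quotQuot_smul_top]
  letI : Algebra A C := ψ.toAlgebra
  rw [← Module.length_eq_of_surjective (S := A) (R := C) (M := C ⧸ J.map ψ) hψ]
  let gl : A →ₗ[A] C ⧸ J.map ψ :=
    ((Ideal.Quotient.mkₐ A (J.map ψ)).toLinearMap).comp (Algebra.linearMap A C)
  have hgl : Function.Surjective gl := by
    intro z
    obtain ⟨c, rfl⟩ := Ideal.Quotient.mk_surjective z
    obtain ⟨a, rfl⟩ := hψ c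
    exact ⟨a, rfl⟩
  have hk : LinearMap.ker gl = J ⊔ Ideal.span {f} := by
    ext a
    rw [LinearMap.mem_ker]
    change Ideal.Quotient.mk (J.map ψ) (ψ a) = 0 ↔ _
    rw [Ideal.Quotient.eq_zero_iff_mem, ← Ideal.mem_comap, Ideal.comap_map_of_surjective ψ hψ,
      ← hker]
    rfl
  exact ((Submodule.quotEquivOfEq _ _ hk).symm ≪≫ₗ gl.quotKerEquivOfSurjective hgl).length_eq.symm

end Alg

section Geom

open Groth.Agent.Lib.LocFact82 Groth.Agent.Lib.LenQuotFormula Groth.Agent.S1907
open Groth.Agent.Lib.CycPullDivGen IsLocalRing Pointwise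

variable {X Y D : Scheme.{u}} (p : X ⟶ Y) (i : D ⟶ X) [IsClosedImmersion i]

theorem residueFieldMap_bijective_closedImm (d : D) :
    Function.Bijective (i.residueFieldMap d).hom := by
  refine ⟨(i.residueFieldMap d).hom.injective, ?_⟩
  intro z
  obtain ⟨b, rfl⟩ := IsLocalRing.residue_surjective z
  obtain ⟨a, rfl⟩ := i.stalkMap_surjective d b
  exact ⟨X.residue (i d) a, congr($(Scheme.residue_residueFieldMap i d) a)⟩

theorem deltaCompat_closedImm_comp {δX : X → ℤ} {δY : Y → ℤ} (hδ : Cyc.DeltaCompat p δX δY) :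
    Cyc.DeltaCompat (i ≫ p) (fun d => δX (i d)) δY := by
  intro d
  obtain ⟨n, hn, hδn⟩ := hδ (i d)
  refine ⟨n, ?_, hδn⟩
  rw [← hn]
  let e := RingEquiv.ofBijective (i.residueFieldMap d).hom (residueFieldMap_bijective_closedImm i d)
  letI a1 : Algebra (Y.residueField (p (i d))) (D.residueField d) :=
    ((i ≫ p).residueFieldMap d).hom.toAlgebra
  letI a2 : Algebra (Y.residueField (p (i d))) (X.residueField (i d)) :=
    (p.residueFieldMap (i d)).hom.toAlgebra
  refine (Groth.Agent.Lib.TrdegTransfer.trdeg_eq_of_ringEquiv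
    (RingEquiv.refl (Y.residueField (p (i d)))) e ?_).symm
  intro a
  change (i.residueFieldMap d).hom ((p.residueFieldMap (i d)).hom a) =
    ((i ≫ p).residueFieldMap d).hom a
  rw [Scheme.residueFieldMap_comp]
  rfl

/-- the germ of `s` at a generization `ζ` of `x` vanishes in the fibre when the local equation of
`s` at `x` lies in the prime of `ζ`. -/
theorem mk_germ_eq_zero_of_mem_genPrime {L : X.Modules} (s : L.presheaf.obj (Opposite.op ⊤))
    {ζ x : X} (h : ζ ⤳ x) (t : L.presheaf.stalk x) (f : X.presheaf.stalk x)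
    (hfs : (L.presheaf.germ ⊤ x trivial) s = f • t) (hmem : f ∈ genPrime X h) :
    (Submodule.Quotient.mk ((L.presheaf.germ ⊤ ζ trivial) s) : Cyc.secFibre L ζ) = 0 := by
  rw [Submodule.Quotient.mk_eq_zero]
  have hgerm : (L.presheaf.stalkSpecializes h) ((L.presheaf.germ ⊤ x trivial) s) =
      (L.presheaf.germ ⊤ ζ trivial) s :=
    ConcreteCategory.congr_hom (L.presheaf.germ_stalkSpecializes (U := ⊤) trivial h) s
  rw [← hgerm, hfs, Groth.Agent.Lib.GenericFree.stalkSpecializes_smul]
  exact Submodule.smul_mem_smul hmem Submodule.mem_top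

theorem bijective_smul_of_span_eq_top {L : X.Modules} (hL : PicF.IsInvertible L) (x : X)
    (t : L.presheaf.stalk x) (ht : Submodule.span (X.presheaf.stalk x) {t} = ⊤) :
    Function.Bijective (fun a : X.presheaf.stalk x => a • t) := by
  have := Groth.Agent.S1923.bijective_smul_stalkSpecializes hL (specializes_rfl : x ⤳ x) t ht
  have hid : L.presheaf.stalkSpecializes (specializes_rfl : x ⤳ x) = 𝟙 _ := by simp
  rw [hid] at this
  exact this

theorem gysin_pullFun_eq [IsLocallyNoetherian X] [Flat p] [LocallyOfFiniteType p]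
    {δX : X → ℤ} {δY : Y → ℤ} (hXd : Cyc.IsDimFun X δX) (hYd : Cyc.IsDimFun Y δY)
    (r : ℕ) (hr : Cyc.HasRelDim p (r + 1)) (hδ : Cyc.DeltaCompat p δX δY)
    {L : X.Modules} (hL : PicF.IsInvertible L) (s : L.presheaf.obj (Opposite.op ⊤))
    (hreg : ∀ x : X, Function.Injective
      (fun a : X.presheaf.stalk x => a • (L.presheaf.germ ⊤ x trivial) s))
    (hD : Cyc.IsZeroSchemeOf i L s) [Flat (i ≫ p)] (hrD : Cyc.HasRelDim (i ≫ p) r)
    (α : Y → ℤ) (w : (ξ : X) → Cyc.secFibre L ξ) (d : D) :
    Cyc.c1CapFun δX L (Cyc.pullFun p δX δY ((r : ℤ) + 1) α) (Cyc.gysinChoice L s w) (i d) =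
      Cyc.pullFun (i ≫ p) (fun d => δX (i d)) δY (r : ℤ) α d := by
  classical
  have hδD := deltaCompat_closedImm_comp p i hδ
  have hDd : Cyc.IsDimFun D (fun d => δX (i d)) :=
    Groth.Agent.Lib.CycClosedImm.isDimFun_closedImm i hXd
  have hcX : ∀ x : X, (∀ z, p z = p x → z ⤳ x → z = x) → δX x = δY (p x) + ((r : ℤ) + 1) := by
    intro x hmax
    have := Groth.Agent.S1857.shift_of_hasRelDim p δX δY (r + 1) hr hδ x hmax
    push_cast at this
    exact this
  have hcD : ∀ d' : D, (∀ z, (i ≫ p) z = (i ≫ p) d' → z ⤳ d' → z = d') →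
      δX (i d') = δY ((i ≫ p) d') + (r : ℤ) :=
    Groth.Agent.S1857.shift_of_hasRelDim (i ≫ p) (fun d => δX (i d)) δY r hrD hδD
  have hleX : ∀ z : X, δX z ≤ δY (p z) + ((r : ℤ) + 1) := fun z =>
    Groth.Agent.Lib.CycFlatPull.delta_le (p := p) (δ := δY) (δ' := δX) (c := (r : ℤ) + 1) hXd hcX z
  have hleD : ∀ d' : D, δX (i d') ≤ δY (p (i d')) + (r : ℤ) := fun d' =>
    Groth.Agent.Lib.CycFlatPull.delta_le (p := i ≫ p) (δ := δY) (δ' := fun d => δX (i d))
      (c := (r : ℤ)) hDd hcD d'
  have hc1 : Cyc.c1CapFun δX L (Cyc.pullFun p δX δY ((r : ℤ) + 1) α) (Cyc.gysinChoice L s w) (i d) =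
      ∑ᶠ ξ : X, Cyc.pullFun p δX δY ((r : ℤ) + 1) α ξ *
        Cyc.secDivFun δX L ξ (Cyc.gysinChoice L s w ξ) (i d) := rfl
  have hpull : ∀ ξ : X, Cyc.pullFun p δX δY ((r : ℤ) + 1) α ξ =
      if δX ξ = δY (p ξ) + ((r : ℤ) + 1) then α (p ξ) * (fibMult p ξ : ℤ) else 0 := fun _ => rfl
  have hsd : ∀ (ξ : X) (v : Cyc.secFibre L ξ), Cyc.secDivFun δX L ξ v (i d) =
      if h : ξ ⤳ i d ∧ δX (i d) + 1 = δX ξ then Cyc.secOrdAt L ξ (i d) h.1 v else 0 := fun _ _ => rfl
  have hRHS : Cyc.pullFun (i ≫ p) (fun d => δX (i d)) δY (r : ℤ) α d =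
      if δX (i d) = δY (p (i d)) + (r : ℤ) then
        α (p (i d)) * ((Module.length (D.presheaf.stalk d)
          (D.presheaf.stalk d ⧸ Ideal.map ((i ≫ p).stalkMap d).hom
            (IsLocalRing.maximalIdeal (Y.presheaf.stalk (p (i d)))))).toNat : ℤ)
      else 0 := rfl
  rw [hc1, hRHS]
  by_cases hgen : δX (i d) = δY (p (i d)) + (r : ℤ)
  · rw [if_pos hgen]
    obtain ⟨t, f, ht, hfs, hkerf⟩ := hD.2 d
    haveI : IsNoetherianRing (X.presheaf.stalk (i d)) := inferInstance
    have bij := bijective_smul_of_span_eq_top hL (i d) t ht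
    have hnzd : ∀ a : X.presheaf.stalk (i d), f * a = 0 → a = 0 := by
      intro a ha
      apply hreg (i d)
      simp only
      rw [hfs, ← mul_smul, mul_comm, ha, zero_smul, zero_smul]
    have hη : p (i d) ⤳ p (i d) := specializes_rfl
    have hJ : genPrime Y hη = IsLocalRing.maximalIdeal (Y.presheaf.stalk (p (i d))) :=
      genPrime_refl Y (p (i d))
    have hx1 : δX (i d) + 1 = δY (p (i d)) + ((r : ℤ) + 1) := by omega
    -- flatness
    have hflat : ((i.stalkMap d).hom.comp (p.stalkMap (i d)).hom).Flat := by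
      have := Flat.stalkMap (i ≫ p) d
      rw [Scheme.Hom.stalkMap_comp] at this
      exact this
    have hsurj : Function.Surjective (i.stalkMap d).hom := i.stalkMap_surjective d
    -- kernel
    have hker : LinearMap.ker (LinearMap.lsmul (X.presheaf.stalk (i d))
        (X.presheaf.stalk (i d) ⧸ (genPrime Y hη).map (p.stalkMap (i d)).hom) f) = ⊥ := by
      rw [LinearMap.ker_eq_bot']
      intro m hm
      obtain ⟨a, rfl⟩ := Ideal.Quotient.mk_surjective m
      rw [LinearMap.lsmul_apply] at hm
      have hm' : Ideal.Quotient.mk ((genPrime Y hη).map (p.stalkMap (i d)).hom) (f * a) = 0 := hm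
      rw [Ideal.Quotient.eq_zero_iff_mem] at hm' ⊢
      exact mem_map_of_mul_mem (p.stalkMap (i d)).hom (i.stalkMap d).hom hsurj f hkerf hnzd hflat
        _ a hm'
    have hG : Good f (X.presheaf.stalk (i d) ⧸ (genPrime Y hη).map (p.stalkMap (i d)).hom) := by
      constructor
      · intro q hqs q' hqs' hlt
        rw [support_quot_eq, PrimeSpectrum.mem_zeroLocus, SetLike.coe_subset_coe] at hqs hqs'
        obtain ⟨ζ, h, hq⟩ := exists_genPrime_eq X (i d) q.asIdeal
        obtain ⟨ζ', h', hq'⟩ := exists_genPrime_eq X (i d) q'.asIdeal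
        by_contra hqm
        have hne : ζ ≠ i d := fun e => hqm (hq ▸ genPrime_eq_maximalIdeal h e)
        have hsp : ζ' ⤳ ζ := specializes_of_genPrime_le h h' (by rw [hq, hq']; exact hlt.le)
        have hne' : ζ' ≠ ζ := by
          rintro rfl
          exact hlt.ne (PrimeSpectrum.ext (hq'.symm.trans hq))
        have h1 := ((support_props p hXd hYd hleX (i d) (p (i d)) hη hx1 ζ h (hq ▸ hqs)).2 hne).1
        have h2 := (hXd ζ' ζ hsp hne').1
        have h3 := (support_props p hXd hYd hleX (i d) (p (i d)) hη hx1 ζ' h' (hq' ▸ hqs')).1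
        omega
      · intro q hqs hfq
        rw [support_quot_eq, PrimeSpectrum.mem_zeroLocus, SetLike.coe_subset_coe] at hqs
        obtain ⟨ζ, h, hq⟩ := exists_genPrime_eq X (i d) q.asIdeal
        by_contra hqm
        have hne : ζ ≠ i d := fun e => hqm (hq ▸ genPrime_eq_maximalIdeal h e)
        obtain ⟨h1, h2⟩ :=
          (support_props p hXd hYd hleX (i d) (p (i d)) hη hx1 ζ h (hq ▸ hqs)).2 hne
        have h0 := mk_germ_eq_zero_of_mem_genPrime s h t f hfs (hq ▸ hfq)
        have hmem : ζ ∈ Set.range ⇑i := by rw [hD.1]; exact h0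
        obtain ⟨d', rfl⟩ := hmem
        have h3 := hleD d'
        rw [h2] at h3
        omega
    have hTfin := hG.finite
    have hform := congrArg (Nat.cast : ℕ → ℤ) (toNat_length_formula_module _ f hG hker)
    rw [finsum_mem_eq_finite_toFinset_sum _ hTfin] at hform
    push_cast at hform
    have hlen : Module.length (D.presheaf.stalk d)
        (D.presheaf.stalk d ⧸ Ideal.map ((i ≫ p).stalkMap d).hom
          (IsLocalRing.maximalIdeal (Y.presheaf.stalk (p (i d))))) =
        Module.length (X.presheaf.stalk (i d))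
          ((X.presheaf.stalk (i d) ⧸ (genPrime Y hη).map (p.stalkMap (i d)).hom) ⧸
            f • (⊤ : Submodule (X.presheaf.stalk (i d))
              (X.presheaf.stalk (i d) ⧸ (genPrime Y hη).map (p.stalkMap (i d)).hom))) := by
      rw [← length_quot_map_surjective (i.stalkMap d).hom hsurj f hkerf, Ideal.map_map, hJ,
        Scheme.Hom.stalkMap_comp]
      rfl
    rw [hlen, hform]
    rw [Groth.Agent.S1925.finsum_eq_finsum_subtype _ (fun ξ : X => ξ ≠ i d ∧ p ξ = p (i d))]
    swap
    · intro a ha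
      rw [hpull, hsd]
      by_cases h1 : a ⤳ i d ∧ δX (i d) + 1 = δX a
      · by_cases h2 : δX a = δY (p a) + ((r : ℤ) + 1)
        · exfalso
          apply ha
          refine ⟨?_, ?_⟩
          · rintro rfl
            have := h1.2
            omega
          · by_contra hne
            have h3 := (hYd (p a) (p (i d)) (p.base.hom.map_specializes h1.1) hne).1
            have := h1.2
            omega
        · rw [if_neg h2, zero_mul]
      · rw [dif_neg h1, mul_zero]
    have hsupp : ∀ (ζ : X) (h : ζ ⤳ i d), p ζ = p (i d) →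
        (⟨genPrime X h, inferInstance⟩ : PrimeSpectrum (X.presheaf.stalk (i d))) ∈
          Module.support (X.presheaf.stalk (i d))
            (X.presheaf.stalk (i d) ⧸ (genPrime Y hη).map (p.stalkMap (i d)).hom) := by
      intro ζ h hpζ
      rw [support_quot_eq, PrimeSpectrum.mem_zeroLocus, SetLike.coe_subset_coe]
      show (genPrime Y hη).map (p.stalkMap (i d)).hom ≤ genPrime X h
      rw [Ideal.map_le_iff_le_comap, comap_genPrime p (i d) ζ h,
        genPrime_congr hpζ.symm hη (p.base.hom.map_specializes h)]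
    have hRe := reindex' (i d) (fun ξ : X => ξ ≠ i d ∧ p ξ = p (i d))
      (Module.support (X.presheaf.stalk (i d))
        (X.presheaf.stalk (i d) ⧸ (genPrime Y hη).map (p.stalkMap (i d)).hom))
      (fun ξ => Cyc.pullFun p δX δY ((r : ℤ) + 1) α ξ.1 *
        Cyc.secDivFun δX L ξ.1 (Cyc.gysinChoice L s w ξ.1) (i d))
      (fun q => α (p (i d)) * (((c f q).toNat : ℤ) *
        ((ellq (X.presheaf.stalk (i d) ⧸ (genPrime Y hη).map (p.stalkMap (i d)).hom) q).toNat : ℤ)))
      (by
        intro ξ h
        have hq := hsupp ξ.1 h ξ.2.2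
        rw [support_quot_eq, PrimeSpectrum.mem_zeroLocus, SetLike.coe_subset_coe] at hq
        obtain ⟨h1, h2⟩ := (support_props p hXd hYd hleX (i d) (p (i d)) hη hx1 ξ.1 h hq).2 ξ.2.1
        -- `ξ ∉ D`
        have hnot : ξ.1 ∉ Set.range ⇑i := by
          rintro ⟨d', hd'⟩
          have h3 := hleD d'
          rw [hd', h2] at h3
          omega
        have hne0 : (Submodule.Quotient.mk ((L.presheaf.germ ⊤ ξ.1 trivial) s) :
            Cyc.secFibre L ξ.1) ≠ 0 := by
          intro h0
          apply hnot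
          rw [hD.1]
          exact h0
        have hfmem : f ∉ genPrime X h := fun hmem =>
          hne0 (mk_germ_eq_zero_of_mem_genPrime s h t f hfs hmem)
        have hgc : Cyc.gysinChoice L s w ξ.1 =
            Submodule.Quotient.mk ((L.presheaf.germ ⊤ ξ.1 trivial) s) := by
          unfold Cyc.gysinChoice
          rw [if_pos hne0]
        have hgerm : (L.presheaf.stalkSpecializes h) ((L.presheaf.germ ⊤ (i d) trivial) s) =
            (L.presheaf.germ ⊤ ξ.1 trivial) s :=
          ConcreteCategory.congr_hom (L.presheaf.germ_stalkSpecializes (U := ⊤) trivial h) s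
        have hmk : (Submodule.Quotient.mk ((L.presheaf.germ ⊤ ξ.1 trivial) s) :
            Cyc.secFibre L ξ.1) = (X.presheaf.stalkSpecializes h f) •
              (Submodule.Quotient.mk ((L.presheaf.stalkSpecializes h) t) : Cyc.secFibre L ξ.1) := by
          rw [← Submodule.Quotient.mk_smul, ← Groth.Agent.Lib.GenericFree.stalkSpecializes_smul,
            ← hfs, hgerm]
        have hord : Cyc.secOrdAt L ξ.1 (i d) h (Cyc.gysinChoice L s w ξ.1) =
            ((c f (⟨genPrime X h, inferInstance⟩ :
              PrimeSpectrum (X.presheaf.stalk (i d)))).toNat : ℤ) := by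
          rw [hgc, hmk, Groth.Agent.Lib.C1CapTensor.secOrdAt_smul_mk_generator hL ξ.1 (i d) h t bij]
          have hfne : Cyc.specMap (i d) ξ.1 h f ≠ 0 := by
            intro h0
            apply hfmem
            rw [← ker_specMap_eq_genPrime]
            exact RingHom.mem_ker.mpr h0
          have h1ne : Cyc.specMap (i d) ξ.1 h 1 ≠ 0 := by
            rw [map_one]; exact one_ne_zero
          have := ordAt_eq hXd (i d) ξ.1 h (by omega) f 1 hfne h1ne
          rw [map_one, div_one] at this
          have hc1 : c (1 : X.presheaf.stalk (i d))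
              (⟨genPrime X h, inferInstance⟩ : PrimeSpectrum (X.presheaf.stalk (i d))) = 0 := by
            unfold c
            rw [map_one]
            exact Ring.ord_one _
          rw [hc1] at this
          simp only [ENat.toNat_zero, Nat.cast_zero, sub_zero] at this
          exact this
        have hell : ellq (X.presheaf.stalk (i d) ⧸ (genPrime Y hη).map (p.stalkMap (i d)).hom)
            (⟨genPrime X h, inferInstance⟩ : PrimeSpectrum (X.presheaf.stalk (i d))) =
            Module.length (X.presheaf.stalk ξ.1) (X.presheaf.stalk ξ.1 ⧸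
              Ideal.map (p.stalkMap ξ.1).hom (maximalIdeal (Y.presheaf.stalk (p ξ.1)))) := by
          rw [← ellq_fibre p (i d) ξ.1 h]
          exact ellq_congr _ _ (by
            rw [genPrime_congr ξ.2.2.symm hη (p.base.hom.map_specializes h)]) _
        simp only []
        have hα : α (p ξ.1) = α (p (i d)) := congrArg α ξ.2.2
        rw [hpull, if_pos (by rw [h1, h2]), hsd, dif_pos ⟨h, by omega⟩, hord, hell, hα]
        unfold fibMult
        ring)
      (by
        intro ξ h
        simp only []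
        rw [hsd, dif_neg (fun h' => h h'.1), mul_zero])
      (fun ξ => ξ.2.1)
      (fun ξ h => hsupp ξ.1 h ξ.2.2)
      (by
        intro ζ h hne hq
        rw [support_quot_eq, PrimeSpectrum.mem_zeroLocus, SetLike.coe_subset_coe] at hq
        exact ⟨hne, ((support_props p hXd hYd hleX (i d) (p (i d)) hη hx1 ζ h hq).2 hne).2⟩)
    rw [hRe, finsum_mem_eq_finite_toFinset_sum _ hTfin, Finset.mul_sum]
  · rw [if_neg hgen]
    refine finsum_eq_zero_of_forall_eq_zero fun ξ => ?_
    rw [hpull, hsd]
    by_cases h1 : ξ ⤳ i d ∧ δX (i d) + 1 = δX ξ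
    · by_cases h2 : δX ξ = δY (p ξ) + ((r : ℤ) + 1)
      · exfalso
        have h3 := Groth.Agent.S6462.delta_le_of_specializes hYd (p.base.hom.map_specializes h1.1)
        have h4 := hleD d
        apply hgen
        have h5 := h1.2
        have h3' : δY (p (i d)) ≤ δY (p ξ) := h3
        omega
      · rw [if_neg h2, zero_mul]
    · rw [dif_neg h1, mul_zero]

end Geom

end Groth.Agent.Lib.GysinFlatPull
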