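import Groth.Agent.Lib.BirIso48
import Groth.Agent.Lib.AffNbhd13c
import Groth.Agent.Lib.H47Reflexive
import Groth.Agent.Lib.CMFieldExt33
import Groth.Agent.Lib.RegularDimOne
import Groth.Agent.Lib.AlgSpGenericPt
import Groth.Agent.Lib.DimOneTop42

/-!
# Proper curves with `h⁰(O_X) = 1` are connected, Cohen–Macaulay and equidimensional (helper48; = S1534)
-/

set_option autoImplicit false
universe u
open CategoryTheory CategoryTheory.Limits AlgebraicGeometry Opposite TopologicalSpace

namespace Groth.Agent.Lib.H0One48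

section Glue

variable {X : Scheme.{u}}

/-- gluing two sections of the structure sheaf over a cover of `X` by two opens -/
theorem exists_global_glue (U₁ U₂ : X.Opens) (hU : U₁ ⊔ U₂ = ⊤) (σ₁ : Γ(X, U₁)) (σ₂ : Γ(X, U₂))
    (h : ∀ (y : X) (h₁ : y ∈ U₁) (h₂ : y ∈ U₂),
      X.presheaf.germ U₁ y h₁ σ₁ = X.presheaf.germ U₂ y h₂ σ₂) :
    ∃ s : Γ(X, ⊤), (∀ (y : X) (hy : y ∈ U₁),
        X.presheaf.germ ⊤ y trivial s = X.presheaf.germ U₁ y hy σ₁) ∧
      (∀ (y : X) (hy : y ∈ U₂), X.presheaf.germ ⊤ y trivial s = X.presheaf.germ U₂ y hy σ₂) := by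
  obtain ⟨σ, h1, h2⟩ := Groth.Agent.Lib.AffNbhd13c.exists_glue₂ σ₁ σ₂ h
  have hle : (⊤ : X.Opens) ≤ U₁ ⊔ U₂ := hU ▸ le_rfl
  refine ⟨X.presheaf.map (homOfLE hle).op σ, fun y hy => ?_, fun y hy => ?_⟩
  · rw [TopCat.Presheaf.germ_res_apply, ← h1, TopCat.Presheaf.germ_res_apply]
  · rw [TopCat.Presheaf.germ_res_apply, ← h2, TopCat.Presheaf.germ_res_apply]

end Glue

section Const

variable (k : Type u) [Field k] (X : Scheme.{u}) [X.Over (Spec (CommRingCat.of k))]
  (h0 : Module.finrank k (Coh.HH X (Coh.structureModule X) 0) = 1)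

include h0 in
/-- if `h⁰(O_X) = 1`, every global function is a constant -/
theorem exists_eq_toGlobal (s : Γ(X, ⊤)) :
    ∃ c : k, s = Coh.toGlobal (X ↘ Spec (CommRingCat.of k)) c := by
  let _ : Algebra k Γ(X, ⊤) := (Coh.toGlobal (X ↘ Spec (CommRingCat.of k))).toAlgebra
  have h1 : Module.finrank k Γ(X, ⊤) = 1 := by
    rw [← (Groth.Agent.Lib.BirIso48.h0LinearEquiv k X).finrank_eq]
    exact h0
  have hne : (1 : Γ(X, ⊤)) ≠ 0 := by
    intro h
    have : Subsingleton Γ(X, ⊤) := subsingleton_of_zero_eq_one h.symm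
    rw [Module.finrank_zero_of_subsingleton] at h1
    exact zero_ne_one h1
  obtain ⟨c, hc⟩ := (finrank_eq_one_iff_of_nonzero' (1 : Γ(X, ⊤)) hne).mp h1 s
  refine ⟨c, ?_⟩
  rw [← hc, Algebra.smul_def, mul_one]
  rfl

include h0 in
/-- if `h⁰(O_X) = 1`, a global function vanishing at one point (as a germ) is zero -/
theorem eq_zero_of_germ_eq_zero (s : Γ(X, ⊤)) (y : X)
    (hy : X.presheaf.germ ⊤ y trivial s = 0) : s = 0 := by
  obtain ⟨c, rfl⟩ := exists_eq_toGlobal k X h0 s
  let φ : k →+* X.presheaf.stalk y :=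
    (X.presheaf.germ ⊤ y trivial).hom.comp (Coh.toGlobal (X ↘ Spec (CommRingCat.of k)))
  have hφ : φ c = φ 0 := by
    rw [map_zero]
    exact hy
  have : c = 0 := φ.injective hφ
  rw [this]
  exact map_zero _

end Const

section Conn

variable (k : Type u) [Field k] (X : Scheme.{u}) [X.Over (Spec (CommRingCat.of k))]
  (h0 : Module.finrank k (Coh.HH X (Coh.structureModule X) 0) = 1)

include h0 in
theorem connectedSpace_of_h0 [Nonempty X] : ConnectedSpace X := by
  rw [connectedSpace_iff_clopen]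
  refine ⟨inferInstance, fun S hS => ?_⟩
  by_contra hcon
  rw [not_or] at hcon
  obtain ⟨hS1, hS2⟩ := hcon
  obtain ⟨y₁, hy₁⟩ := Set.nonempty_iff_ne_empty.mpr hS1
  obtain ⟨y₂, hy₂⟩ : (Sᶜ).Nonempty := by
    rw [Set.nonempty_iff_ne_empty]
    intro h
    exact hS2 (Set.compl_empty_iff.mp h)
  let U₁ : X.Opens := ⟨S, hS.isOpen⟩
  let U₂ : X.Opens := ⟨Sᶜ, hS.isClosed.isOpen_compl⟩
  have hU : U₁ ⊔ U₂ = ⊤ := by
    apply Opens.ext
    change S ∪ Sᶜ = Set.univ
    exact Set.union_compl_self S
  obtain ⟨s, hs1, hs2⟩ := exists_global_glue U₁ U₂ hU (1 : Γ(X, U₁)) (0 : Γ(X, U₂))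
    (fun y h₁ h₂ => absurd h₁ h₂)
  have hs0 : s = 0 := eq_zero_of_germ_eq_zero k X h0 s y₂ (by rw [hs2 y₂ hy₂, map_zero])
  have h1 := hs1 y₁ hy₁
  rw [hs0, map_zero, map_one] at h1
  exact zero_ne_one h1

end Conn

section Emb

open Groth.Agent.Lib.H47Reflexive

variable (k : Type u) [Field k] (X : Scheme.{u}) [X.Over (Spec (CommRingCat.of k))]
  (h0 : Module.finrank k (Coh.HH X (Coh.structureModule X) 0) = 1) [IsLocallyNoetherian X]

include h0 in
/-- if `h⁰(O_X) = 1`, a closed point `x ≠ X` is not an embedded point: no nonzero element of `O_{X,x}` is killed by the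
maximal ideal -/
theorem tf_stalk (x : X) (hx : IsClosed ({x} : Set X)) (hne : ({x}ᶜ : Set X).Nonempty) :
    TF (IsLocalRing.maximalIdeal (X.presheaf.stalk x)) (X.presheaf.stalk x) := by
  classical
  intro t ht
  by_contra htne
  obtain ⟨_, ⟨W, hW, rfl⟩, hxW, -⟩ :=
    X.isBasis_affineOpens.exists_subset_of_mem_open (Set.mem_univ x) isOpen_univ
  haveI : IsNoetherianRing Γ(X, W) := IsLocallyNoetherian.component_noetherian ⟨W, hW⟩
  let p : PrimeSpectrum Γ(X, W) := hW.primeIdealOf ⟨x, hxW⟩
  letI : Algebra Γ(X, W) (X.presheaf.stalk x) :=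
    TopCat.Presheaf.algebra_section_stalk X.presheaf ⟨x, hxW⟩
  haveI : IsLocalization.AtPrime (X.presheaf.stalk x) p.asIdeal :=
    hW.isLocalization_stalk ⟨x, hxW⟩
  obtain ⟨⟨a, v⟩, hav⟩ := IsLocalization.surj p.asIdeal.primeCompl t
  have hav' : t * algebraMap Γ(X, W) (X.presheaf.stalk x) v =
      algebraMap Γ(X, W) (X.presheaf.stalk x) a := hav
  have hvu : IsUnit (algebraMap Γ(X, W) (X.presheaf.stalk x) v) := IsLocalization.map_units _ v
  have ha_ne : algebraMap Γ(X, W) (X.presheaf.stalk x) a ≠ 0 := by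
    rw [← hav']
    intro h
    exact htne ((hvu.mul_left_eq_zero).mp h)
  have ha_kill : ∀ g ∈ p.asIdeal, algebraMap Γ(X, W) (X.presheaf.stalk x) (g * a) = 0 := by
    intro g hg
    have h1 : algebraMap Γ(X, W) (X.presheaf.stalk x) g ∈
        IsLocalRing.maximalIdeal (X.presheaf.stalk x) :=
      (IsLocalization.AtPrime.to_map_mem_maximal_iff (X.presheaf.stalk x) p.asIdeal g).mpr hg
    have h2 := ht _ h1
    rw [smul_eq_mul] at h2
    rw [map_mul, ← hav', ← mul_assoc, h2, zero_mul]
  obtain ⟨S, hS⟩ := (isNoetherianRing_iff_ideal_fg Γ(X, W)).mp inferInstance p.asIdeal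
  have hex : ∀ g ∈ S, ∃ w : p.asIdeal.primeCompl, (w : Γ(X, W)) * (g * a) = 0 := fun g hg =>
    (IsLocalization.map_eq_zero_iff p.asIdeal.primeCompl (X.presheaf.stalk x) (g * a)).mp
      (ha_kill g (hS ▸ Ideal.subset_span hg))
  choose! w hw using hex
  let v' : p.asIdeal.primeCompl := ∏ g ∈ S, w g
  let a' : Γ(X, W) := (v' : Γ(X, W)) * a
  have hkill : ∀ b ∈ p.asIdeal, b * a' = 0 := by
    intro b hb
    rw [← hS] at hb
    refine Submodule.span_induction (p := fun b _ => b * a' = 0) ?_ ?_ ?_ ?_ hb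
    · intro g hg
      have hg' : g ∈ S := hg
      have h1 : (v' : Γ(X, W)) = (w g : Γ(X, W)) * ∏ g' ∈ S.erase g, (w g' : Γ(X, W)) := by
        change ((∏ g' ∈ S, w g' : p.asIdeal.primeCompl) : Γ(X, W)) = _
        rw [Submonoid.coe_finsetProd, Finset.mul_prod_erase S (fun g' => (w g' : Γ(X, W))) hg']
      change g * ((v' : Γ(X, W)) * a) = 0
      rw [h1]
      have h2 := hw g hg'
      calc g * (((w g : Γ(X, W)) * ∏ g' ∈ S.erase g, (w g' : Γ(X, W))) * a)
          = (∏ g' ∈ S.erase g, (w g' : Γ(X, W))) * ((w g : Γ(X, W)) * (g * a)) := by ring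
        _ = 0 := by rw [h2, mul_zero]
    · exact zero_mul _
    · intro b c _ _ hb hc
      rw [add_mul, hb, hc, add_zero]
    · intro r b _ hb
      rw [smul_eq_mul, mul_assoc, hb, mul_zero]
  have ha'_ne : algebraMap Γ(X, W) (X.presheaf.stalk x) a' ≠ 0 := by
    change algebraMap Γ(X, W) (X.presheaf.stalk x) ((v' : Γ(X, W)) * a) ≠ 0
    rw [map_mul]
    intro h
    exact ha_ne (((IsLocalization.map_units (X.presheaf.stalk x) v').mul_right_eq_zero).mp h)
  have hgerm : ∀ (y : X) (hyW : y ∈ W), y ≠ x → X.presheaf.germ W y hyW a' = 0 := by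
    intro y hyW hyx
    let q : PrimeSpectrum Γ(X, W) := hW.primeIdealOf ⟨y, hyW⟩
    letI : Algebra Γ(X, W) (X.presheaf.stalk y) :=
      TopCat.Presheaf.algebra_section_stalk X.presheaf ⟨y, hyW⟩
    haveI : IsLocalization.AtPrime (X.presheaf.stalk y) q.asIdeal :=
      hW.isLocalization_stalk ⟨y, hyW⟩
    have hnle : ¬ p.asIdeal ≤ q.asIdeal := by
      intro hle
      have hs : p ⤳ q := (PrimeSpectrum.le_iff_specializes p q).mp hle
      have hs' : hW.fromSpec p ⤳ hW.fromSpec q := hs.map hW.fromSpec.continuous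
      rw [hW.fromSpec_primeIdealOf ⟨x, hxW⟩, hW.fromSpec_primeIdealOf ⟨y, hyW⟩] at hs'
      exact hyx (hs'.mem_closed hx rfl)
    obtain ⟨u, hup, huq⟩ := SetLike.not_le_iff_exists.mp hnle
    have hu0 : u * a' = 0 := hkill u hup
    have hunit : IsUnit (algebraMap Γ(X, W) (X.presheaf.stalk y) u) :=
      IsLocalization.map_units _ (⟨u, huq⟩ : q.asIdeal.primeCompl)
    have h1 : algebraMap Γ(X, W) (X.presheaf.stalk y) u *
        algebraMap Γ(X, W) (X.presheaf.stalk y) a' = 0 := by
      rw [← map_mul, hu0, map_zero]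
    exact (hunit.mul_right_eq_zero).mp h1
  let U₂ : X.Opens := ⟨{x}ᶜ, hx.isOpen_compl⟩
  have hU : W ⊔ U₂ = ⊤ := by
    apply Opens.ext
    ext y
    simp only [Opens.coe_sup, Opens.coe_top, Set.mem_union, Set.mem_univ, iff_true]
    by_cases hyx : y = x
    · left
      rw [hyx]
      exact hxW
    · right
      exact hyx
  obtain ⟨s, hs1, hs2⟩ := exists_global_glue W U₂ hU a' 0 (fun y h₁ h₂ => by
    rw [map_zero]
    exact hgerm y h₁ h₂)
  obtain ⟨y, hy⟩ := hne
  have hs0 := eq_zero_of_germ_eq_zero k X h0 s y (by rw [hs2 y hy, map_zero])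
  have h1 := hs1 x hxW
  rw [hs0, map_zero] at h1
  exact ha'_ne h1.symm

end Emb

theorem eq_of_specializes_of_mem_genericPoints (X : Scheme.{u}) {x u' : X} (hgen : x ∈ genericPoints X) (hu' : u' ⤳ x) :
    u' = x := by
  have h1 : closure ({x} : Set X) ⊆ closure ({u'} : Set X) :=
    closure_minimal (Set.singleton_subset_iff.mpr (specializes_iff_mem_closure.mp hu')) isClosed_closure
  have h2 : closure ({u'} : Set X) ⊆ closure ({x} : Set X) :=
    hgen.2 isIrreducible_singleton.closure h1
  have h3 : x ⤳ u' := specializes_iff_mem_closure.mpr (h2 (subset_closure rfl))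
  exact (hu'.antisymm h3).eq

section CM

open Groth.Agent.Lib.H47Reflexive

variable (k : Type u) [Field k] (X : Scheme.{u}) [X.Over (Spec (CommRingCat.of k))]
  (h0 : Module.finrank k (Coh.HH X (Coh.structureModule X) 0) = 1) [IsLocallyNoetherian X]

include h0 in
theorem isCM_stalk (hdim : topologicalKrullDim X ≤ 1) (x : X) :
    LocCoh.IsCohenMacaulayLocalRing (X.presheaf.stalk x) := by
  have hd1 : ringKrullDim (X.presheaf.stalk x) ≤ 1 :=
    (Groth.Agent.Lib.RegularDimOne.dim_stalk_le X x).trans hdim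
  by_cases hd0 : ringKrullDim (X.presheaf.stalk x) ≤ 0
  · haveI : Ring.KrullDimLE 0 (X.presheaf.stalk x) := Ring.krullDimLE_iff.mpr (by simpa using hd0)
    exact Groth.Agent.Lib.CMFieldExt33.isCohenMacaulayLocalRing_of_krullDimLE_zero _
  · have hd : ringKrullDim (X.presheaf.stalk x) = 1 :=
      le_antisymm hd1 (Groth.Agent.Lib.CartierDim48.one_le_of_not_le_zero hd0)
    have hxgen : x ∉ genericPoints X := by
      intro hgen
      apply hd0
      rw [(Groth.Agent.Lib.AlgSpGenericPt.ringKrullDim_stalk_eq_zero_iff x).mpr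
        (fun u' hu' => eq_of_specializes_of_mem_genericPoints X hgen hu')]
    have hxcl : IsClosed ({x} : Set X) :=
      Groth.Agent.Lib.DimOneTop42.isClosed_singleton_of_notMem_genericPoints hdim x hxgen
    have hne : ({x}ᶜ : Set X).Nonempty := by
      by_contra hempty
      apply hd0
      rw [(Groth.Agent.Lib.AlgSpGenericPt.ringKrullDim_stalk_eq_zero_iff x).mpr (fun u' _ => ?_)]
      by_contra hne
      exact hempty ⟨u', hne⟩
    have htf := tf_stalk k X h0 x hxcl hne
    have h1 : 1 ≤ LocCoh.idealDepth (IsLocalRing.maximalIdeal (X.presheaf.stalk x))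
        (X.presheaf.stalk x) := (one_le_idealDepth_iff _ _).mpr htf
    have h2 := Groth.Agent.Lib.CMFlat33.depth_le_ringKrullDim (X.presheaf.stalk x)
    refine ⟨?_⟩
    rw [Module.supportDim_self_eq_ringKrullDim, hd]
    have h3 : LocCoh.depth (X.presheaf.stalk x) (X.presheaf.stalk x) = 1 := by
      refine le_antisymm ?_ h1
      rw [hd] at h2
      exact_mod_cast h2
    rw [h3]
    rfl

end CM

section Equidim

variable (X : Scheme.{u}) [IsNoetherian X] [ConnectedSpace X]

/-- on a connected Noetherian scheme of dimension `1`, every irreducible component has dimension `1` -/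
theorem dim_irreducibleComponent_eq_one (hdim : topologicalKrullDim X = 1) (Z : Set X)
    (hZ : Z ∈ irreducibleComponents (X : Type u)) : topologicalKrullDim Z = 1 := by
  have hle : topologicalKrullDim Z ≤ 1 := (topologicalKrullDim_subspace_le X Z).trans hdim.le
  refine le_antisymm hle ?_
  by_contra hcon
  have hZcl : IsClosed Z := isClosed_of_mem_irreducibleComponents Z hZ
  have hZirr : IsIrreducible Z := hZ.1
  -- `dim Z ≤ 0`
  have hd0 : topologicalKrullDim Z ≤ 0 := by
    by_contra h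
    exact hcon (Groth.Agent.Lib.CartierDim48.one_le_of_not_le_zero h)
  obtain ⟨ξ, hξ⟩ := QuasiSober.sober hZirr hZcl
  have hξZ : ξ ∈ Z := hξ.mem
  -- every point of `Z` is `ξ`
  have hZeq : Z = {ξ} := by
    apply Set.Subset.antisymm
    · intro z hz
      by_contra hzξ
      -- the chain `closure {z} < Z`
      have hsub : closure ({z} : Set X) ⊆ Z := closure_minimal (Set.singleton_subset_iff.mpr hz) hZcl
      have hne : closure ({z} : Set X) ≠ Z := by
        intro h
        have h1 : ξ ∈ closure ({z} : Set X) := h ▸ hξZ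
        have h2 : z ∈ closure ({ξ} : Set X) := by rw [hξ.def]; exact hz
        have h3 : z ⤳ ξ := specializes_iff_mem_closure.mpr h1
        have h4 : ξ ⤳ z := specializes_iff_mem_closure.mpr h2
        exact hzξ (h3.antisymm h4).eq
      let T₀ : IrreducibleCloseds X := ⟨closure {z}, isIrreducible_singleton.closure, isClosed_closure⟩
      let T₁ : IrreducibleCloseds X := ⟨Z, hZirr, hZcl⟩
      have hlt : T₀ < T₁ := lt_of_le_of_ne hsub (fun h => hne (congrArg (fun T : IrreducibleCloseds X => (T : Set X)) h))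
      let l : LTSeries (IrreducibleCloseds X) := RelSeries.singleton _ T₀ |>.snoc T₁ hlt
      have hl : (l.last : Set X) ⊆ Z := by
        change ((RelSeries.singleton _ T₀ |>.snoc T₁ hlt).last : Set X) ⊆ Z
        rw [RelSeries.last_snoc]
        exact Set.Subset.rfl
      have h5 := Groth.Agent.Lib.DimChain48.length_le_dim l hl
      have h6 : ((1 : ℕ) : WithBot ℕ∞) ≤ topologicalKrullDim Z := by
        have : l.length = 1 := by simp [l]
        rw [this] at h5
        exact h5
      exact hcon (by exact_mod_cast h6)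
    · exact Set.singleton_subset_iff.mpr hξZ
  -- `{ξ}` is open
  have hopen : IsOpen ({ξ} : Set X) := by
    have hfin : (irreducibleComponents (X : Type u)).Finite :=
      TopologicalSpace.NoetherianSpace.finite_irreducibleComponents
    have hcompl : ({ξ} : Set X)ᶜ = ⋃₀ ((irreducibleComponents (X : Type u)) \ {Z}) := by
      ext y
      constructor
      · intro hy
        obtain ⟨T, hT, hyT⟩ := exists_mem_irreducibleComponents_subset_of_isIrreducible {y}
          isIrreducible_singleton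
        refine Set.mem_sUnion.mpr ⟨T, ⟨hT, fun hTZ => hy ?_⟩, hyT rfl⟩
        have : T = Z := hTZ
        rw [this, hZeq] at hyT
        exact hyT rfl
      · rintro ⟨T, ⟨hT, hTZ⟩, hyT⟩ hyξ
        have hyξ' : y = ξ := hyξ
        rw [hyξ'] at hyT
        apply hTZ
        have hsub : Z ⊆ T := by
          rw [hZeq]
          exact Set.singleton_subset_iff.mpr hyT
        exact (Set.Subset.antisymm (hZ.2 hT.1 hsub) hsub : T = Z)
    rw [← isClosed_compl_iff, hcompl, Set.sUnion_eq_biUnion]
    exact Set.Finite.isClosed_biUnion (hfin.subset Set.sdiff_subset)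
      (fun T hT => isClosed_of_mem_irreducibleComponents T hT.1)
  have hclopen : IsClopen ({ξ} : Set X) := ⟨hZeq ▸ hZcl, hopen⟩
  have huniv : ({ξ} : Set X) = Set.univ := by
    rcases isClopen_iff.mp hclopen with h | h
    · exact absurd h (Set.singleton_ne_empty ξ)
    · exact h
  -- then `dim X = 0`
  have hX0 : topologicalKrullDim X ≤ 0 := by
    have h1 : topologicalKrullDim X = topologicalKrullDim (Set.univ : Set X) :=
      (Homeomorph.Set.univ X).symm.isHomeomorph.topologicalKrullDim_eq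
    rw [h1, ← huniv, ← hZeq]
    exact hd0
  rw [hdim] at hX0
  exact absurd hX0 (by decide)

end Equidim

section Main

variable (k : Type u) [Field k] (X : Scheme.{u}) [X.Over (Spec (CommRingCat.of k))]
  [IsProper (X ↘ (Spec (CommRingCat.of k)))]

/-- **S1534** -/
theorem connected_cm_equidim (hdim : topologicalKrullDim X = 1)
    (h0 : Module.finrank k (Coh.HH X (Coh.structureModule X) 0) = 1) :
    ConnectedSpace X ∧ (∀ x : X, LocCoh.IsCohenMacaulayLocalRing (X.presheaf.stalk x)) ∧
      ∀ Z ∈ irreducibleComponents (X : Type u), topologicalKrullDim Z = 1 := by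
  haveI := Groth.Agent.Lib.EulerLE48.isNoetherian k X
  haveI : IsLocallyNoetherian X := Groth.Agent.Lib.EulerLE48.isLocallyNoetherian k X
  haveI : Nonempty X := by
    by_contra hemp
    rw [not_nonempty_iff] at hemp
    haveI : IsEmpty (IrreducibleCloseds X) := ⟨fun T => by
      obtain ⟨x, _⟩ := T.isIrreducible.nonempty
      exact hemp.false x⟩
    have : topologicalKrullDim X = ⊥ := by
      unfold topologicalKrullDim
      exact Order.krullDim_eq_bot
    rw [this] at hdim
    exact absurd hdim (by decide)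
  haveI hconn : ConnectedSpace X := connectedSpace_of_h0 k X h0
  exact ⟨hconn, fun x => isCM_stalk k X h0 hdim.le x,
    fun Z hZ => dim_irreducibleComponent_eq_one X hdim Z hZ⟩

end Main

end Groth.Agent.Lib.H0One48
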