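import Mathlib

/-!
# `f_* O_X = O_S` for proper flat morphisms with `h⁰(X_s, O) = 1`, part A (helper5): algebra

* `mem_map_of_mul_mem`: for a flat `R`-algebra `C`, an ideal `J'` and `ε` with `(J' : ε) = m`:
  `ε c ∈ J' C ⇒ c ∈ m C`;
* `ker_inl_le_map_ker`: in a pushout square of commutative rings with `ψ` surjective, the kernel of
  `inl` is generated by the image of `ker ψ`;
* `exists_socle`: if `m ^ N ≤ J ≠ ⊤` there is `ε ∉ J` with `m ε ⊆ J`.
-/

set_option autoImplicit false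
universe u

open CategoryTheory CategoryTheory.Limits TensorProduct

namespace Groth.Agent.Lib.H0Univ5

theorem mem_map_of_mul_mem {R C : Type*} [CommRing R] [CommRing C] [Algebra R C] [Module.Flat R C]
    (J' m : Ideal R) (ε : R) (h1 : ∀ r : R, r * ε ∈ J' → r ∈ m) (h2 : ∀ μ ∈ m, μ * ε ∈ J')
    (c : C) (hc : algebraMap R C ε * c ∈ Ideal.map (algebraMap R C) J') :
    c ∈ Ideal.map (algebraMap R C) m := by
  let g₀ : R →ₗ[R] R ⧸ J' := (Submodule.mkQ J').comp (LinearMap.mulRight R ε)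
  have hg₀ : ∀ r, g₀ r = Submodule.Quotient.mk (r * ε) := fun r => rfl
  have hle : m ≤ LinearMap.ker g₀ := fun μ hμ => by
    rw [LinearMap.mem_ker, hg₀]
    exact (Submodule.Quotient.mk_eq_zero J').mpr (h2 μ hμ)
  let g : R ⧸ m →ₗ[R] R ⧸ J' := Submodule.liftQ m g₀ hle
  have hg : Function.Injective g := by
    rw [← LinearMap.ker_eq_bot]
    apply Submodule.ker_liftQ_eq_bot
    intro r hr
    rw [LinearMap.mem_ker, hg₀] at hr
    exact h1 r ((Submodule.Quotient.mk_eq_zero J').mp hr)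
  have hinj := Module.Flat.lTensor_preserves_injective_linearMap (M := C) g hg
  have hz : (LinearMap.lTensor C g) (c ⊗ₜ[R] (Ideal.Quotient.mk m 1)) = 0 := by
    rw [LinearMap.lTensor_tmul]
    have e1 : g (Ideal.Quotient.mk m 1) = Ideal.Quotient.mk J' ε := by
      change g₀ 1 = _
      rw [hg₀, one_mul]
      rfl
    rw [e1]
    apply (TensorProduct.tensorQuotEquivQuotSMul C J').injective
    rw [TensorProduct.tensorQuotEquivQuotSMul_tmul_mk, map_zero, Submodule.Quotient.mk_eq_zero,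
      Ideal.smul_top_eq_map, Algebra.smul_def]
    exact hc
  have hz' : c ⊗ₜ[R] (Ideal.Quotient.mk m 1) = 0 := hinj (by rw [hz, map_zero])
  have := congrArg (TensorProduct.tensorQuotEquivQuotSMul C m) hz'
  rw [TensorProduct.tensorQuotEquivQuotSMul_tmul_mk, map_zero, Submodule.Quotient.mk_eq_zero,
    Ideal.smul_top_eq_map, one_smul] at this
  exact this

theorem ker_inl_le_map_ker {R C K P : CommRingCat.{u}} {φ : R ⟶ C} {ψ : R ⟶ K} {inl : C ⟶ P}
    {inr : K ⟶ P} (h : IsPushout φ ψ inl inr) (hψ : Function.Surjective ψ.hom) :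
    RingHom.ker inl.hom ≤ Ideal.map φ.hom (RingHom.ker ψ.hom) := by
  set I := Ideal.map φ.hom (RingHom.ker ψ.hom) with hI
  let α : C ⟶ CommRingCat.of (C ⧸ I) := CommRingCat.ofHom (Ideal.Quotient.mk I)
  have hker : RingHom.ker ψ.hom ≤ RingHom.ker ((Ideal.Quotient.mk I).comp φ.hom) := fun r hr => by
    rw [RingHom.mem_ker, RingHom.comp_apply, Ideal.Quotient.eq_zero_iff_mem]
    exact Ideal.mem_map_of_mem _ hr
  let β : K ⟶ CommRingCat.of (C ⧸ I) :=
    CommRingCat.ofHom (RingHom.liftOfSurjective ψ.hom hψ ⟨_, hker⟩)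
  have hw : φ ≫ α = ψ ≫ β := by
    ext r
    change (Ideal.Quotient.mk I) (φ.hom r) =
      (RingHom.liftOfSurjective ψ.hom hψ ⟨_, hker⟩) (ψ.hom r)
    rw [RingHom.liftOfSurjective_comp_apply]
    rfl
  intro c hc
  have h1 : (h.desc α β hw).hom (inl.hom c) = α.hom c := by
    rw [← CommRingCat.comp_apply, h.inl_desc]
  rw [RingHom.mem_ker] at hc
  rw [hc, map_zero] at h1
  exact Ideal.Quotient.eq_zero_iff_mem.mp h1.symm

theorem exists_socle {R : Type*} [CommRing R] (m J : Ideal R) (hJ : J ≠ ⊤) (N : ℕ)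
    (hN : m ^ N ≤ J) : ∃ ε : R, ε ∉ J ∧ ∀ μ ∈ m, μ * ε ∈ J := by
  classical
  have hex : ∃ j, m ^ j ≤ J := ⟨N, hN⟩
  have hj₀ : m ^ (Nat.find hex) ≤ J := Nat.find_spec hex
  have hpos : Nat.find hex ≠ 0 := by
    intro h0
    rw [h0, pow_zero, Ideal.one_eq_top, top_le_iff] at hj₀
    exact hJ hj₀
  obtain ⟨j, hj⟩ := Nat.exists_eq_succ_of_ne_zero hpos
  have hnot : ¬ m ^ j ≤ J := Nat.find_min hex (by omega)
  obtain ⟨ε, hε, hεJ⟩ := SetLike.not_le_iff_exists.mp hnot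
  refine ⟨ε, hεJ, fun μ hμ => hj₀ ?_⟩
  rw [hj, Nat.succ_eq_add_one, pow_succ']
  exact Ideal.mul_mem_mul hμ hε

/-- If `m` is maximal, `ε ∉ J` and `m ε ⊆ J` then `(J : ε) = m`. -/
theorem mem_of_mul_mem_of_isMaximal {R : Type*} [CommRing R] (m J : Ideal R) [hm : m.IsMaximal]
    (ε : R) (hε : ε ∉ J) (h2 : ∀ μ ∈ m, μ * ε ∈ J) (r : R) (hr : r * ε ∈ J) : r ∈ m := by
  by_contra hrm
  obtain ⟨s, μ, hμ, hs⟩ := hm.exists_inv hrm
  apply hε
  have : ε = s * (r * ε) + μ * ε := by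
    calc ε = 1 * ε := (one_mul ε).symm
      _ = (s * r + μ) * ε := by rw [hs]
      _ = s * (r * ε) + μ * ε := by ring
  rw [this]
  exact J.add_mem (J.mul_mem_left s hr) (h2 μ hμ)

end Groth.Agent.Lib.H0Univ5
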