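import Groth.Agent.Lib.H0Univ5A

/-!
# `f_* O_X = O_S` for proper flat morphisms with `h⁰(X_s, O) = 1`, part B (helper5): the chain step

`f : X ⟶ Spec R` flat, `m` an ideal of `R`, `X₀ = X ×_R R/m` with `Γ(X₀, O) = R/m·1`.
For an ideal `J` of `R`, `FJ f J` is the set of global functions of `X` lying in `J Γ(U, O_X)` for every
affine open `U`. If `J = J' + (ε)` with `(J' : ε) = m`, every `b ∈ FJ f J` is congruent to a constant
`ε r₀` modulo `FJ f J'` (`step`); by Noetherian induction, for `m` maximal and every `N`, every global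
function is congruent to a constant modulo `FJ f (m ^ N)` (`exists_sub_mem_FJ`).
-/

set_option autoImplicit false
set_option linter.style.haveILetI false
universe u

open CategoryTheory CategoryTheory.Limits AlgebraicGeometry TopologicalSpace Opposite

namespace Groth.Agent.Lib.H0Univ5

theorem mul_mem_map_of_mem_map {R C : Type*} [CommRing R] [CommRing C] (φ : R →+* C)
    (J' m : Ideal R) (ε : R) (h2 : ∀ μ ∈ m, μ * ε ∈ J') {y : C} (hy : y ∈ Ideal.map φ m) :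
    φ ε * y ∈ Ideal.map φ J' := by
  have hεm : Ideal.span {ε} * m ≤ J' := by
    rw [Ideal.span_singleton_mul_le_iff]
    intro μ hμ
    rw [mul_comm]
    exact h2 μ hμ
  have h3 : Ideal.map φ (Ideal.span {ε}) * Ideal.map φ m ≤ Ideal.map φ J' := by
    rw [← Ideal.map_mul]
    exact Ideal.map_mono hεm
  exact h3 (Ideal.mul_mem_mul (Ideal.mem_map_of_mem _ (Ideal.mem_span_singleton_self ε)) hy)

variable {R : Type u} [CommRing R] {X : Scheme.{u}} (f : X ⟶ Spec (CommRingCat.of R))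

/-- The structure map `R → Γ(X, O_X)`. -/
noncomputable def ρ : R →+* Γ(X, ⊤) :=
  (f.appTop).hom.comp (Scheme.ΓSpecIso (CommRingCat.of R)).inv.hom

/-- The structure map `R → Γ(U, O_X)`. -/
noncomputable def ρU (U : X.Opens) : R →+* Γ(X, U) :=
  (X.presheaf.map (homOfLE (le_top : U ≤ ⊤)).op).hom.comp (ρ f)

theorem res_ρ (U : X.Opens) (r : R) :
    X.presheaf.map (homOfLE (le_top : U ≤ ⊤)).op (ρ f r) = ρU f U r := rfl

theorem res_ρU {U V : X.Opens} (h : V ≤ U) (r : R) :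
    X.presheaf.map (homOfLE h).op (ρU f U r) = ρU f V r := by
  simp only [ρU, RingHom.comp_apply]
  rw [← CommRingCat.comp_apply, ← Functor.map_comp]
  rfl

theorem res_res {U V : X.Opens} (h : V ≤ U) (b : Γ(X, ⊤)) :
    X.presheaf.map (homOfLE h).op (X.presheaf.map (homOfLE (le_top : U ≤ ⊤)).op b) =
      X.presheaf.map (homOfLE (le_top : V ≤ ⊤)).op b := by
  rw [← CommRingCat.comp_apply, ← Functor.map_comp]
  rfl

theorem res_mem_map {U V : X.Opens} (h : V ≤ U) (J : Ideal R) {x : Γ(X, U)}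
    (hx : x ∈ Ideal.map (ρU f U) J) :
    X.presheaf.map (homOfLE h).op x ∈ Ideal.map (ρU f V) J := by
  have e : ρU f V = (X.presheaf.map (homOfLE h).op).hom.comp (ρU f U) := by
    ext r
    exact (res_ρU f h r).symm
  rw [e, ← Ideal.map_map]
  exact Ideal.mem_map_of_mem _ hx

/-- Global functions that restrict into `J Γ(U, O_X)` on every affine open `U`. -/
def FJ (J : Ideal R) : Set Γ(X, ⊤) :=
  {b | ∀ U : X.Opens, IsAffineOpen U →
    X.presheaf.map (homOfLE (le_top : U ≤ ⊤)).op b ∈ Ideal.map (ρU f U) J}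

theorem flat_ρU [Flat f] {U : X.Opens} (hU : IsAffineOpen U) : (ρU f U).Flat := by
  have e : U ≤ f ⁻¹ᵁ ⊤ := fun _ _ => trivial
  have h1 : (f.appLE ⊤ U e).hom.Flat := Flat.flat_appLE f (isAffineOpen_top _) hU e
  have h2 : ((Scheme.ΓSpecIso (CommRingCat.of R)).inv.hom).Flat :=
    RingHom.Flat.of_bijective
      (ConcreteCategory.bijective_of_isIso (Scheme.ΓSpecIso (CommRingCat.of R)).inv)
  change ((f.appLE ⊤ U e).hom.comp (Scheme.ΓSpecIso (CommRingCat.of R)).inv.hom).Flat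
  exact RingHom.Flat.comp h2 h1

section Fibre

variable {m : Ideal R} {X₀ : Scheme.{u}} {i : X₀ ⟶ X}
  {f₀ : X₀ ⟶ Spec (CommRingCat.of (R ⧸ m))}
  (sq : IsPullback i f₀ f (Spec.map (CommRingCat.ofHom (Ideal.Quotient.mk m))))

include sq in
theorem appTop_ρ_eq_zero {μ : R} (hμ : μ ∈ m) : i.appTop.hom (ρ f μ) = 0 := by
  have h1 : i.appTop.hom (ρ f μ) =
      ((i ≫ f).appTop).hom ((Scheme.ΓSpecIso (CommRingCat.of R)).inv.hom μ) := by
    rw [Scheme.Hom.comp_appTop]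
    rfl
  rw [h1, sq.w, Scheme.Hom.comp_appTop]
  have h2 := Scheme.ΓSpecIso_inv_naturality (CommRingCat.ofHom (Ideal.Quotient.mk m))
  have h3 : (Spec.map (CommRingCat.ofHom (Ideal.Quotient.mk m))).appTop.hom
      ((Scheme.ΓSpecIso (CommRingCat.of R)).inv.hom μ) =
      (Scheme.ΓSpecIso (CommRingCat.of (R ⧸ m))).inv.hom (Ideal.Quotient.mk m μ) :=
    (congr($h2 μ)).symm
  change f₀.appTop.hom ((Spec.map (CommRingCat.ofHom (Ideal.Quotient.mk m))).appTop.hom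
      ((Scheme.ΓSpecIso (CommRingCat.of R)).inv.hom μ)) = 0
  rw [h3, Ideal.Quotient.eq_zero_iff_mem.mpr hμ, map_zero, map_zero]

theorem app_res_top (U : X.Opens) (b : Γ(X, ⊤)) :
    (i.app U).hom (X.presheaf.map (homOfLE (le_top : U ≤ ⊤)).op b) =
      X₀.presheaf.map (homOfLE (le_top : i ⁻¹ᵁ U ≤ ⊤)).op (i.appTop.hom b) := by
  have := i.naturality (homOfLE (le_top : U ≤ ⊤)).op
  exact congr($this b)

theorem app_res {U V : X.Opens} (h : V ≤ U) (x : Γ(X, U)) :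
    (i.app V).hom (X.presheaf.map (homOfLE h).op x) =
      X₀.presheaf.map (homOfLE (show i ⁻¹ᵁ V ≤ i ⁻¹ᵁ U from fun _ hz => h hz)).op
        ((i.app U).hom x) := by
  have := i.naturality (homOfLE h).op
  exact congr($this x)

include sq in
theorem app_eq_zero_of_mem_map (U : X.Opens) {x : Γ(X, U)} (hx : x ∈ Ideal.map (ρU f U) m) :
    (i.app U).hom x = 0 := by
  have hle : Ideal.map (ρU f U) m ≤ RingHom.ker (i.app U).hom := by
    rw [Ideal.map_le_iff_le_comap]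
    intro μ hμ
    rw [Ideal.mem_comap, RingHom.mem_ker, ← res_ρ, app_res_top, appTop_ρ_eq_zero f sq hμ,
      map_zero]
  exact hle hx

lemma appLE_top_top' {X Y : Scheme.{u}} (g : X ⟶ Y) (e : (⊤ : X.Opens) ≤ g ⁻¹ᵁ ⊤) :
    g.appLE ⊤ ⊤ e = g.appTop := by
  have h : X.presheaf.map (homOfLE e).op = 𝟙 _ := X.presheaf.map_id _
  simp only [Scheme.Hom.appLE, h]
  exact Category.comp_id _

include sq in
theorem ker_app_le {U : X.Opens} (hU : IsAffineOpen U) :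
    RingHom.ker (i.app U).hom ≤ Ideal.map (ρU f U) m := by
  have hUST : (⊤ : (Spec (CommRingCat.of (R ⧸ m))).Opens) ≤
      (Spec.map (CommRingCat.ofHom (Ideal.Quotient.mk m))) ⁻¹ᵁ ⊤ := fun _ _ => trivial
  have hUSX : U ≤ f ⁻¹ᵁ ⊤ := fun _ _ => trivial
  have hUY : i ⁻¹ᵁ U = i ⁻¹ᵁ U ⊓ f₀ ⁻¹ᵁ ⊤ := by
    ext z
    simp
  have hiso := isIso_pushoutSection_of_isAffineOpen sq hUST hUSX hUY (isAffineOpen_top _)
    (isAffineOpen_top _) hU
  have hP := (isIso_pushoutSection_iff sq hUST hUSX hUY).mp hiso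
  have hψ : ((Spec.map (CommRingCat.ofHom (Ideal.Quotient.mk m))).appLE ⊤ ⊤ hUST) =
      (Scheme.ΓSpecIso (CommRingCat.of R)).hom ≫ CommRingCat.ofHom (Ideal.Quotient.mk m) ≫
        (Scheme.ΓSpecIso (CommRingCat.of (R ⧸ m))).inv := by
    rw [appLE_top_top', Scheme.ΓSpecIso_inv_naturality, Iso.hom_inv_id_assoc]
  have hsurj : Function.Surjective
      ((Spec.map (CommRingCat.ofHom (Ideal.Quotient.mk m))).appLE ⊤ ⊤ hUST).hom := by
    rw [hψ]
    simp only [CommRingCat.hom_comp, RingHom.coe_comp]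
    exact ((ConcreteCategory.bijective_of_isIso
      (Scheme.ΓSpecIso (CommRingCat.of (R ⧸ m))).inv).2.comp Ideal.Quotient.mk_surjective).comp
        (ConcreteCategory.bijective_of_isIso (Scheme.ΓSpecIso (CommRingCat.of R)).hom).2
  have hk := ker_inl_le_map_ker hP hsurj
  intro x hx
  have hx' : x ∈ RingHom.ker (i.appLE U (i ⁻¹ᵁ U) le_rfl).hom := by
    rw [← Scheme.Hom.app_eq_appLE]
    exact hx
  have hx'' := hk hx'
  refine Ideal.map_le_iff_le_comap.mpr ?_ hx''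
  intro y hy
  rw [Ideal.mem_comap]
  rw [RingHom.mem_ker, hψ] at hy
  set μ := (Scheme.ΓSpecIso (CommRingCat.of R)).hom.hom y with hμ
  have hμm : μ ∈ m := by
    have h4 : (Scheme.ΓSpecIso (CommRingCat.of (R ⧸ m))).inv.hom (Ideal.Quotient.mk m μ) = 0 := hy
    have h5 := congrArg (Scheme.ΓSpecIso (CommRingCat.of (R ⧸ m))).hom.hom h4
    rw [map_zero] at h5
    have h6 : (Scheme.ΓSpecIso (CommRingCat.of (R ⧸ m))).hom.hom
        ((Scheme.ΓSpecIso (CommRingCat.of (R ⧸ m))).inv.hom (Ideal.Quotient.mk m μ)) =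
        Ideal.Quotient.mk m μ :=
      congr($((Scheme.ΓSpecIso (CommRingCat.of (R ⧸ m))).inv_hom_id) (Ideal.Quotient.mk m μ))
    rw [h6] at h5
    exact Ideal.Quotient.eq_zero_iff_mem.mp h5
  have hy' : y = (Scheme.ΓSpecIso (CommRingCat.of R)).inv.hom μ :=
    (congr($((Scheme.ΓSpecIso (CommRingCat.of R)).hom_inv_id) y)).symm
  have h7 : (f.appLE ⊤ U hUSX).hom y = ρU f U μ := by
    rw [hy']
    rfl
  rw [h7]
  exact Ideal.mem_map_of_mem _ hμm

theorem exists_decomp (J' : Ideal R) (ε : R) (b : Γ(X, ⊤)) (hb : b ∈ FJ f (J' ⊔ Ideal.span {ε}))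
    (U : X.affineOpens) : ∃ (j c : Γ(X, U.1)), j ∈ Ideal.map (ρU f U.1) J' ∧
      X.presheaf.map (homOfLE (le_top : U.1 ≤ ⊤)).op b = j + ρU f U.1 ε * c := by
  have := hb U.1 U.2
  rw [Ideal.map_sup, Ideal.map_span, Set.image_singleton] at this
  obtain ⟨j, hj, y, hy, hjy⟩ := Submodule.mem_sup.mp this
  obtain ⟨c, rfl⟩ := Ideal.mem_span_singleton'.mp hy
  exact ⟨j, c, hj, by rw [← hjy, mul_comm]⟩

include sq in
theorem comp_aux [Flat f] (J' : Ideal R) (ε : R) (h1 : ∀ r : R, r * ε ∈ J' → r ∈ m)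
    (h2 : ∀ μ ∈ m, μ * ε ∈ J') (b : Γ(X, ⊤)) {U W : X.Opens} (hW : IsAffineOpen W) (hWU : W ≤ U)
    (jU cU : Γ(X, U)) (jW cW : Γ(X, W)) (hjU : jU ∈ Ideal.map (ρU f U) J')
    (hjW : jW ∈ Ideal.map (ρU f W) J')
    (hbU : X.presheaf.map (homOfLE (le_top : U ≤ ⊤)).op b = jU + ρU f U ε * cU)
    (hbW : X.presheaf.map (homOfLE (le_top : W ≤ ⊤)).op b = jW + ρU f W ε * cW) :
    (i.app W).hom (X.presheaf.map (homOfLE hWU).op cU) = (i.app W).hom cW := by
  rw [← sub_eq_zero, ← map_sub]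
  apply app_eq_zero_of_mem_map f sq
  letI := (ρU f W).toAlgebra
  haveI : Module.Flat R Γ(X, W) := flat_ρU f hW
  apply mem_map_of_mul_mem J' m ε h1 h2
  have e2 := congrArg (X.presheaf.map (homOfLE hWU).op) hbU
  rw [res_res, hbW, map_add, map_mul, res_ρU] at e2
  have e3 : algebraMap R Γ(X, W) ε * (X.presheaf.map (homOfLE hWU).op cU - cW) =
      jW - X.presheaf.map (homOfLE hWU).op jU := by
    change ρU f W ε * _ = _
    rw [mul_sub]
    linear_combination -e2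
  rw [e3]
  exact Ideal.sub_mem _ hjW (res_mem_map f hWU J' hjU)

theorem exists_glue_of_germ (Y : Scheme.{u}) {ι : Type*} (Uι : ι → Y.Opens)
    (hcover : (⊤ : Y.Opens) ≤ iSup Uι) (sf : ∀ k, Γ(Y, Uι k))
    (h : ∀ (k l : ι) (z : Y) (hz : z ∈ Uι k ⊓ Uι l),
      Y.presheaf.germ (Uι k) z hz.1 (sf k) = Y.presheaf.germ (Uι l) z hz.2 (sf l)) :
    ∃ s : Γ(Y, ⊤), ∀ k, Y.presheaf.map (homOfLE (le_top : Uι k ≤ ⊤)).op s = sf k := by
  have hcompat : TopCat.Presheaf.IsCompatible Y.presheaf Uι sf := by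
    intro k l
    apply TopCat.Presheaf.section_ext Y.sheaf (Uι k ⊓ Uι l)
    intro z hz
    change Y.presheaf.germ (Uι k ⊓ Uι l) z hz
        (Y.presheaf.map (Opens.infLELeft (Uι k) (Uι l)).op (sf k)) =
      Y.presheaf.germ (Uι k ⊓ Uι l) z hz
        (Y.presheaf.map (Opens.infLERight (Uι k) (Uι l)).op (sf l))
    rw [TopCat.Presheaf.germ_res_apply, TopCat.Presheaf.germ_res_apply]
    exact h k l z hz
  obtain ⟨s, hs, -⟩ := Y.sheaf.existsUnique_gluing' Uι ⊤ (fun k => homOfLE le_top) hcover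
    sf hcompat
  exact ⟨s, hs⟩

include sq in
/-- **The step.** -/
theorem step [Flat f] (h0 : ∀ c₀ : Γ(X₀, ⊤), ∃ r : R, c₀ = i.appTop.hom (ρ f r))
    (J' : Ideal R) (ε : R) (h1 : ∀ r : R, r * ε ∈ J' → r ∈ m) (h2 : ∀ μ ∈ m, μ * ε ∈ J')
    (b : Γ(X, ⊤)) (hb : b ∈ FJ f (J' ⊔ Ideal.span {ε})) :
    ∃ r₀ : R, b - ρ f (ε * r₀) ∈ FJ f J' := by
  choose j c hj hbU using exists_decomp f J' ε b hb
  have hcomp : ∀ (U W : X.affineOpens) (hWU : W.1 ≤ U.1),
      (i.app W.1).hom (X.presheaf.map (homOfLE hWU).op (c U)) = (i.app W.1).hom (c W) :=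
    fun U W hWU => comp_aux f sq J' ε h1 h2 b W.2 hWU (j U) (c U) (j W) (c W) (hj U) (hj W)
      (hbU U) (hbU W)
  have hres : ∀ (U W : X.affineOpens) (hWU : W.1 ≤ U.1),
      X₀.presheaf.map (homOfLE (show i ⁻¹ᵁ W.1 ≤ i ⁻¹ᵁ U.1 from fun _ hz => hWU hz)).op
        ((i.app U.1).hom (c U)) = (i.app W.1).hom (c W) := by
    intro U W hWU
    rw [← hcomp U W hWU, app_res]
  have hcover : (⊤ : X₀.Opens) ≤ ⨆ U : X.affineOpens, i ⁻¹ᵁ U.1 := by
    intro z _
    obtain ⟨_, ⟨W, hW, rfl⟩, hzW, -⟩ := X.isBasis_affineOpens.exists_subset_of_mem_open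
      (Set.mem_univ (i z)) isOpen_univ
    exact Opens.mem_iSup.mpr ⟨⟨W, hW⟩, hzW⟩
  obtain ⟨cbar, hcbar⟩ := exists_glue_of_germ X₀ (fun U : X.affineOpens => i ⁻¹ᵁ U.1) hcover
    (fun U => (i.app U.1).hom (c U)) (by
      intro U V z hz
      obtain ⟨_, ⟨W, hW, rfl⟩, hzW, hWUV⟩ := X.isBasis_affineOpens.exists_subset_of_mem_open
        (a := i z) (show i z ∈ ((U.1 ⊓ V.1 : X.Opens) : Set X) from hz) (U.1 ⊓ V.1).2
      have hWU : W ≤ U.1 := fun _ hw => (hWUV hw).1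
      have hWV : W ≤ V.1 := fun _ hw => (hWUV hw).2
      have hzW' : z ∈ i ⁻¹ᵁ W := hzW
      have g1 := TopCat.Presheaf.germ_res_apply X₀.presheaf
        (homOfLE (show i ⁻¹ᵁ W ≤ i ⁻¹ᵁ U.1 from fun _ hw => hWU hw)) z hzW'
        ((i.app U.1).hom (c U))
      have g2 := TopCat.Presheaf.germ_res_apply X₀.presheaf
        (homOfLE (show i ⁻¹ᵁ W ≤ i ⁻¹ᵁ V.1 from fun _ hw => hWV hw)) z hzW'
        ((i.app V.1).hom (c V))
      rw [hres U ⟨W, hW⟩ hWU] at g1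
      rw [hres V ⟨W, hW⟩ hWV] at g2
      exact g1.symm.trans g2)
  obtain ⟨r₀, hr₀⟩ := h0 cbar
  refine ⟨r₀, fun U hU => ?_⟩
  have hk : c ⟨U, hU⟩ - ρU f U r₀ ∈ Ideal.map (ρU f U) m := by
    apply ker_app_le f sq hU
    rw [RingHom.mem_ker, map_sub, sub_eq_zero, ← res_ρ, app_res_top, ← hr₀]
    exact (hcbar ⟨U, hU⟩).symm
  have e : X.presheaf.map (homOfLE (le_top : U ≤ ⊤)).op (b - ρ f (ε * r₀)) =
      j ⟨U, hU⟩ + ρU f U ε * (c ⟨U, hU⟩ - ρU f U r₀) := by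
    rw [map_sub, hbU ⟨U, hU⟩, res_ρ, map_mul]
    ring
  have hA : j ⟨U, hU⟩ ∈ Ideal.map (ρU f U) J' := hj ⟨U, hU⟩
  have hB : ρU f U ε * (c ⟨U, hU⟩ - ρU f U r₀) ∈ Ideal.map (ρU f U) J' :=
    mul_mem_map_of_mem_map (ρU f U) J' m ε h2 hk
  have hC := Ideal.add_mem _ hA hB
  rw [← e] at hC
  exact hC

include sq in
/-- Every global function is congruent to a constant modulo `FJ f J`, for `J ⊇ m ^ N`. -/
theorem exists_sub_mem_FJ [IsNoetherianRing R] [hm : m.IsMaximal] [Flat f]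
    (h0 : ∀ c₀ : Γ(X₀, ⊤), ∃ r : R, c₀ = i.appTop.hom (ρ f r)) (N : ℕ) (J : Ideal R) :
    m ^ N ≤ J → ∀ a : Γ(X, ⊤), ∃ r : R, a - ρ f r ∈ FJ f J := by
  induction J using IsNoetherian.induction with
  | hgt J IH =>
    intro hJ a
    by_cases htop : J = ⊤
    · refine ⟨0, fun U hU => ?_⟩
      rw [htop, Ideal.map_top]
      trivial
    · obtain ⟨ε, hεJ, hε⟩ := exists_socle m J htop N hJ
      have hlt : J < J ⊔ Ideal.span {ε} := by
        refine lt_of_le_of_ne le_sup_left fun h => hεJ ?_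
        rw [h]
        exact Ideal.mem_sup_right (Ideal.mem_span_singleton_self ε)
      obtain ⟨r, hr⟩ := IH _ hlt (hJ.trans le_sup_left) a
      obtain ⟨r₀, hr₀⟩ := step f sq h0 J ε (mem_of_mul_mem_of_isMaximal m J ε hεJ hε) hε _ hr
      refine ⟨r + ε * r₀, ?_⟩
      rw [map_add, ← sub_sub]
      exact hr₀

end Fibre

end Groth.Agent.Lib.H0Univ5
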