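import Groth.Agent.Lib.H0Univ5B
import Groth.Agent.Lib.ConnFib5B
import Groth.Agent.Lib.ProperFinHyp

/-!
# `f_* O_X = O_S` for proper flat morphisms with `h⁰(X_s, O) = 1`, part C (helper5): Noetherian local base

`R` Noetherian local, `f : X ⟶ Spec R` proper and flat, closed fibre `X₀` with `Γ(X₀, O) = κ·1`.
Then `R → Γ(X, O_X)` is surjective (`surjective_ρ_of_local`). Uses the finiteness theorem (`Hyp`,
statement of S0002) and the "kernels are adically small" part of the theorem on formal functions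
(`Hyp57`, statement of S0057), both as hypotheses.
-/

set_option autoImplicit false
set_option linter.style.haveILetI false
universe u

open CategoryTheory CategoryTheory.Limits AlgebraicGeometry TopologicalSpace Opposite

namespace Groth.Agent.Lib.H0Univ5

open Groth.Agent.Lib.QCohStalk Groth.Agent.Lib.StructureModule
  Groth.Agent.Lib.StructureModuleStalk Groth.Agent.Lib.ModStalkLin Groth.Agent.Lib.ModStalk
  Groth.Agent.Lib.H4Twist Groth.Agent.Lib.ConnFib5 Groth.Agent.Lib.ProperFinHyp Formal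

/-- Verbatim the statement of S0057 (kernels of `H^p(X, F) → H^p(X, F/I^(n+1)F)` are adically
small). -/
def Hyp57 : Prop :=
  ∀ (A : Type u) [CommRing A] [IsNoetherianRing A]
    (I : Ideal A) (X : Scheme.{u}) [X.Over (Spec (CommRingCat.of A))]
    [IsProper (X ↘ Spec (CommRingCat.of A))] (M : X.Modules) (_ : Coh.IsCoh M) (p : ℕ),
    ∃ c : ℕ, ∀ n : ℕ, c ≤ n →
      ((Formal.toHHmodPow I M p n).ker : Set (Coh.HH X M p)) ⊆
        ((I ^ (n - c) • (⊤ : Submodule A (Coh.HH X M p)) : Submodule A (Coh.HH X M p)) :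
          Set (Coh.HH X M p))

section Dict

variable {A : Type u} [CommRing A] {X : Scheme.{u}} [X.Over (Spec (CommRingCat.of A))]

theorem modPowπ_app_toSec_eq_zero (I : Ideal A) (n : ℕ) (U : X.Opens) {s : Γ(X, U)}
    (hs : s ∈ Ideal.map (ρU (X ↘ Spec (CommRingCat.of A)) U) (I ^ n)) :
    (modPowπ I n (Coh.structureModule X)).app U (toSec U s) = 0 := by
  rw [Ideal.map] at hs
  induction hs using Submodule.span_induction with
  | mem x hx =>
    obtain ⟨a, ha, rfl⟩ := hx
    have e : toSec U (ρU (X ↘ Spec (CommRingCat.of A)) U a) =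
        (smulMod A (Coh.structureModule X) a).app U (toSec U 1) := by
      change _ = (smulModΓ _ (fn X a)).app U _
      rw [smulModΓ_app, ← toSec_smul, mul_one]
      rfl
    rw [e]
    have key : (smulMod A (Coh.structureModule X) a ≫
        modPowπ I n (Coh.structureModule X)).app U (toSec U 1) = 0 := by
      rw [smulMod_comp_modPowπ I n _ ha]
      rfl
    exact key
  | zero => exact map_zero _
  | add x y _ _ hx hy =>
    have : toSec U (x + y) = toSec U x + toSec U y := rfl
    rw [this, map_add, hx, hy, add_zero]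
  | smul r x _ hx =>
    have : toSec U (r • x) = r • toSec U x := rfl
    rw [this, Scheme.Modules.Hom.app_smul, hx, smul_zero]

theorem modPowπ_app_top_eq_zero_of_mem_FJ (I : Ideal A) (n : ℕ) {b : Γ(X, ⊤)}
    (hb : b ∈ FJ (X ↘ Spec (CommRingCat.of A)) (I ^ n)) :
    (modPowπ I n (Coh.structureModule X)).app ⊤ (toSec ⊤ b) = 0 := by
  set O := Coh.structureModule X
  apply TopCat.Presheaf.section_ext (⟨(modPow I n O).presheaf, (modPow I n O).isSheaf⟩ :
    TopCat.Sheaf AddCommGrpCat X) ⊤
  intro x hx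
  obtain ⟨_, ⟨W, hW, rfl⟩, hxW, -⟩ := X.isBasis_affineOpens.exists_subset_of_mem_open
    (Set.mem_univ x) isOpen_univ
  have h0 := modPowπ_app_toSec_eq_zero I n W (hb W hW)
  rw [← res_toSec (le_top : W ≤ ⊤), Groth.Agent.Lib.ConnFib5.app_res] at h0
  have h1 := congrArg ((modPow I n O).presheaf.germ W x hxW) h0
  rw [germ_res] at h1
  rw [h1, map_zero, map_zero]

end Dict

/-- **Noetherian local case.** -/
theorem surjective_ρ_of_local (H2 : Hyp.{u}) (H57 : Hyp57.{u}) {R : Type u} [CommRing R]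
    [IsLocalRing R] [IsNoetherianRing R] {X X₀ : Scheme.{u}} (f : X ⟶ Spec (CommRingCat.of R))
    [IsProper f] [Flat f] {i : X₀ ⟶ X}
    {f₀ : X₀ ⟶ Spec (CommRingCat.of (R ⧸ IsLocalRing.maximalIdeal R))}
    (sq : IsPullback i f₀ f
      (Spec.map (CommRingCat.ofHom (Ideal.Quotient.mk (IsLocalRing.maximalIdeal R)))))
    (h0 : ∀ c₀ : Γ(X₀, ⊤), ∃ r : R, c₀ = i.appTop.hom (ρ f r)) :
    Function.Surjective (ρ f) := by
  letI : X.Over (Spec (CommRingCat.of R)) := ⟨f⟩
  haveI : IsProper (X ↘ Spec (CommRingCat.of R)) := ‹IsProper f›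
  set m := IsLocalRing.maximalIdeal R with hm
  set O := Coh.structureModule X with hO
  have hcoh : Coh.IsCoh O := Groth.Agent.Lib.H90Invertible.isCoh_of_isInvertible
    (Groth.Agent.Lib.H90Invertible.isInvertible_structureModule X)
  haveI hfin : Module.Finite R (Coh.HH X O 0) := H2 R X O hcoh 0
  obtain ⟨c, hc⟩ := H57 R m X O hcoh 0
  have hker := hc (c + 1) (Nat.le_succ c)
  have e1 : c + 1 - c = 1 := by omega
  rw [e1, pow_one] at hker
  let y₁ : Coh.HH X O 0 := (h0Equiv O).symm (toSec ⊤ 1)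
  have hsmul : ∀ r : R, r • y₁ = (h0Equiv O).symm (toSec ⊤ (ρ f r)) := by
    intro r
    have h : (show Γ(X, ⊤) from Coh.toGlobal (X ↘ Spec (CommRingCat.of R)) r) • toSec ⊤ 1 =
        toSec ⊤ (ρ f r) := by
      rw [← toSec_smul, mul_one]
      rfl
    rw [← h, h0Equiv_symm_smul_over]
  let N : Submodule R (Coh.HH X O 0) := Submodule.span R {y₁}
  have hle : (⊤ : Submodule R (Coh.HH X O 0)) ≤ N ⊔ m • ⊤ := by
    intro y _
    obtain ⟨r, hr⟩ := exists_sub_mem_FJ f sq h0 (c + 2) (m ^ (c + 2)) le_rfl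
      (show Γ(X, ⊤) from h0Equiv O y)
    have hz := modPowπ_app_top_eq_zero_of_mem_FJ m (c + 2) hr
    have hmem : y - r • y₁ ∈ (toHHmodPow m O 0 (c + 1)).ker := by
      rw [AddMonoidHom.mem_ker]
      apply (h0Equiv (modPow m (c + 2) O)).injective
      rw [map_zero]
      have h1 := h0Equiv_map (modPowπ m (c + 2) O) (y - r • y₁)
      have h2 : h0Equiv O (y - r • y₁) = toSec ⊤ ((show Γ(X, ⊤) from h0Equiv O y) - ρ f r) := by
        rw [map_sub, hsmul, AddEquiv.apply_symm_apply]
        rfl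
      rw [h2, hz] at h1
      exact h1
    have h3 := hker hmem
    rw [Submodule.mem_sup]
    exact ⟨r • y₁, Submodule.smul_mem _ _ (Submodule.mem_span_singleton_self _), y - r • y₁, h3,
      by abel⟩
  have hN : N = ⊤ := by
    have := Submodule.le_of_le_smul_of_le_jacobson_bot (Module.Finite.fg_top)
      (IsLocalRing.maximalIdeal_le_jacobson ⊥) hle
    exact top_le_iff.mp this
  intro a
  have ha : (h0Equiv O).symm (toSec ⊤ a) ∈ N := by
    rw [hN]
    trivial
  obtain ⟨r, hr⟩ := Submodule.mem_span_singleton.mp ha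
  refine ⟨r, ?_⟩
  rw [hsmul] at hr
  exact toSec_injective ⊤ ((h0Equiv O).symm.injective hr)

end Groth.Agent.Lib.H0Univ5
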