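import Mathlib

/-!
# `f_* O_X = O_S` for proper flat morphisms with `h⁰(X_s, O) = 1`, part D (helper5): more algebra

Pushout squares of commutative rings:
* `surjective_inl_of_isPushout`: the pushout of a surjection is a surjection;
* `surjective_of_isPushout_field`: descent of surjectivity `K → B` along a field extension `K → L`;
* `exists_mul_eq_zero_of_isPushout`: if `B' = R ⊗_A B` with `R = S⁻¹A`, elements of `B` dying in
  `B'` are killed by some `σ ∈ S`.
-/

set_option autoImplicit false
set_option linter.style.haveILetI false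
universe u

open CategoryTheory CategoryTheory.Limits TensorProduct

namespace Groth.Agent.Lib.H0Univ5

theorem surjective_inl_of_isPushout {Z X Y P : CommRingCat.{u}} {f : Z ⟶ X} {g : Z ⟶ Y}
    {inl : X ⟶ P} {inr : Y ⟶ P} (h : IsPushout f g inl inr) (hg : Function.Surjective g.hom) :
    Function.Surjective inl.hom := by
  let T : Subring P := inl.hom.range
  let α : X ⟶ CommRingCat.of T := CommRingCat.ofHom inl.hom.rangeRestrict
  have hmem : ∀ y : Y, inr.hom y ∈ T := fun y => by
    obtain ⟨z, rfl⟩ := hg y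
    exact ⟨f.hom z, congr($(h.w) z)⟩
  let β : Y ⟶ CommRingCat.of T := CommRingCat.ofHom (inr.hom.codRestrict T hmem)
  have hw : f ≫ α = g ≫ β := by
    ext z
    exact congr($(h.w) z)
  let incl : CommRingCat.of T ⟶ P := CommRingCat.ofHom T.subtype
  have h1 : h.desc α β hw ≫ incl = 𝟙 P := by
    apply h.hom_ext
    · rw [h.inl_desc_assoc, Category.comp_id]
      rfl
    · rw [h.inr_desc_assoc, Category.comp_id]
      rfl
  intro p
  have h2 : incl.hom ((h.desc α β hw).hom p) = p := congr($h1 p)
  obtain ⟨x, hx⟩ := ((h.desc α β hw).hom p).2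
  exact ⟨x, by rw [hx]; exact h2⟩

section

variable {A R B B' : Type u} [CommRing A] [CommRing R] [CommRing B] [CommRing B']
  (φ : A →+* R) (υ : A →+* B) (υ' : R →+* B') (v : B →+* B')
  (hP : IsPushout (CommRingCat.ofHom φ) (CommRingCat.ofHom υ) (CommRingCat.ofHom υ')
    (CommRingCat.ofHom v))

include hP in
/-- the `Algebra.IsPushout` form of a pushout square in `CommRingCat` -/
theorem algebraIsPushout_of_isPushout :
    letI := φ.toAlgebra
    letI := υ.toAlgebra
    letI := υ'.toAlgebra
    letI := v.toAlgebra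
    letI : Algebra A B' := (v.comp υ).toAlgebra
    ∃ (_ : IsScalarTower A B B') (_ : IsScalarTower A R B'), Algebra.IsPushout A R B B' := by
  letI := φ.toAlgebra
  letI := υ.toAlgebra
  letI := υ'.toAlgebra
  letI := v.toAlgebra
  letI : Algebra A B' := (v.comp υ).toAlgebra
  haveI i1 : IsScalarTower A B B' := IsScalarTower.of_algebraMap_eq' rfl
  haveI i2 : IsScalarTower A R B' := IsScalarTower.of_algebraMap_eq' (by
    have := congrArg CommRingCat.Hom.hom hP.w
    exact this.symm)
  exact ⟨i1, i2, CommRingCat.isPushout_iff_isPushout.mp hP⟩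

include hP in
theorem exists_mul_eq_zero_of_isPushout (S : Submonoid A) [Algebra A R] [IsLocalization S R]
    (hφ : φ = algebraMap A R) (b : B) (hb : v b = 0) : ∃ σ ∈ S, υ σ * b = 0 := by
  subst hφ
  letI := υ.toAlgebra
  letI := υ'.toAlgebra
  letI := v.toAlgebra
  letI : Algebra A B' := (v.comp υ).toAlgebra
  haveI i1 : IsScalarTower A B B' := IsScalarTower.of_algebraMap_eq' rfl
  haveI i2 : IsScalarTower A R B' := IsScalarTower.of_algebraMap_eq' (by
    have := congrArg CommRingCat.Hom.hom hP.w
    exact this.symm)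
  have hP' : Algebra.IsPushout A R B B' := CommRingCat.isPushout_iff_isPushout.mp hP
  have hloc : IsLocalizedModule S (IsScalarTower.toAlgHom A B B').toLinearMap :=
    (isLocalizedModule_iff_isBaseChange S R _).mpr hP'.out
  obtain ⟨σ, hσ⟩ := (IsLocalizedModule.eq_zero_iff S
    (IsScalarTower.toAlgHom A B B').toLinearMap).mp hb
  exact ⟨σ.1, σ.2, by rw [← hσ]; rfl⟩

end

section Field

variable {K L B B' : Type u} [Field K] [Field L] [CommRing B] [CommRing B']
  (ψ : K →+* L) (υ : K →+* B) (υ' : L →+* B') (v : B →+* B')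
  (hP : IsPushout (CommRingCat.ofHom ψ) (CommRingCat.ofHom υ) (CommRingCat.ofHom υ')
    (CommRingCat.ofHom v))

include hP in
theorem surjective_of_isPushout_field (hs : Function.Surjective υ') : Function.Surjective υ := by
  letI := ψ.toAlgebra
  letI := υ.toAlgebra
  letI := υ'.toAlgebra
  letI := v.toAlgebra
  letI : Algebra K B' := (v.comp υ).toAlgebra
  haveI i1 : IsScalarTower K B B' := IsScalarTower.of_algebraMap_eq' rfl
  haveI i2 : IsScalarTower K L B' := IsScalarTower.of_algebraMap_eq' (by
    have := congrArg CommRingCat.Hom.hom hP.w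
    exact this.symm)
  have hP' : Algebra.IsPushout K L B B' := CommRingCat.isPushout_iff_isPushout.mp hP
  have hbc : IsBaseChange L (IsScalarTower.toAlgHom K B B').toLinearMap := hP'.out
  -- a `K`-linear retraction of `K → L`
  obtain ⟨π, hπ⟩ := LinearMap.exists_leftInverse_of_injective (Algebra.linearMap K L)
    (LinearMap.ker_eq_bot.mpr (algebraMap K L).injective)
  have hπ1 : π 1 = 1 := by
    have := congrArg (fun F : K →ₗ[K] K => F 1) hπ
    simpa using this
  intro b
  obtain ⟨l, hl⟩ := hs (v b)
  -- `1 ⊗ b = l ⊗ 1`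
  have e1 : hbc.equiv ((1 : L) ⊗ₜ[K] b) = hbc.equiv (l ⊗ₜ[K] (1 : B)) := by
    rw [IsBaseChange.equiv_tmul, IsBaseChange.equiv_tmul, one_smul]
    change v b = l • v 1
    rw [map_one, Algebra.smul_def, mul_one, ← hl]
    rfl
  have e2 : (1 : L) ⊗ₜ[K] b = l ⊗ₜ[K] (1 : B) := hbc.equiv.injective e1
  have e3 := congrArg (fun z => TensorProduct.lid K B ((π.rTensor B) z)) e2
  simp only [LinearMap.rTensor_tmul, TensorProduct.lid_tmul, hπ1, one_smul] at e3
  refine ⟨π l, ?_⟩
  rw [e3, Algebra.smul_def, mul_one]
  rfl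

end Field

end Groth.Agent.Lib.H0Univ5
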