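import Groth.Agent.Lib.LocConst5D
import Groth.Prelude.Def_Models
import Groth.Prelude.Def_Curve

/-!
# Connectedness of the special fibre of a proper flat model (helper5)

`R` a discrete valuation ring with fraction field `K`, `p : X ⟶ Spec R` proper and flat, with generic
fibre `C` such that `K ≅ Γ(C, O_C)`. Then `R ≅ Γ(X, O_X)` (`bijective_toΓ`), hence `p` is
geometrically connected (`geometricallyConnected_of_generic`) by Zariski's connectedness theorem; in
particular the special fibre is connected.
-/

set_option autoImplicit false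
set_option linter.style.haveILetI false
set_option linter.unusedSectionVars false
universe u

open CategoryTheory CategoryTheory.Limits AlgebraicGeometry TopologicalSpace Opposite TensorProduct
  IsLocalRing

namespace Groth.Agent.Lib.ModelConn5

open Groth.Agent.Lib.LocConst5 Groth.Agent.Lib.H47DvrFibre Groth.Agent.Lib.ProperFinHyp
  Groth.Agent.Lib.ConnFib5

section Pushout

lemma appLE_top_top {X Y : Scheme.{u}} (f : X ⟶ Y) (e : (⊤ : X.Opens) ≤ f ⁻¹ᵁ ⊤) :
    f.appLE ⊤ ⊤ e = f.appTop := by
  have h : X.presheaf.map (homOfLE e).op = 𝟙 _ := X.presheaf.map_id _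
  simp only [Scheme.Hom.appLE, h]
  exact Category.comp_id _

/-- Flat base change of global sections for a qcqs scheme over an affine base (ring pushout
form). -/
theorem isPushout_appTop_of_isPullback_of_flat {X Y S T : Scheme.{u}} {f : T ⟶ S} {g : Y ⟶ X}
    {iX : X ⟶ S} {iY : Y ⟶ T} (H : IsPullback g iY iX f) [Flat f] [IsAffine S] [IsAffine T]
    [CompactSpace X] [QuasiSeparatedSpace X] :
    IsPushout iX.appTop f.appTop g.appTop iY.appTop := by
  have hiso := isIso_pushoutSection_of_isQuasiSeparated_of_flat_right H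
    (US := ⊤) (UT := ⊤) (UX := ⊤) (UY := ⊤) le_top le_top (by simp)
    (isAffineOpen_top S) (isAffineOpen_top T) isCompact_univ
    (isQuasiSeparated_univ_iff.mpr inferInstance)
  have := (isIso_pushoutSection_iff H (US := ⊤) (UT := ⊤) (UX := ⊤) (UY := ⊤)
    le_top le_top (by simp)).mp hiso
  have e1 := appLE_top_top iX le_top
  have e2 := appLE_top_top f le_top
  have e3 := appLE_top_top g le_top
  have e4 := appLE_top_top iY le_top
  convert this using 1 <;> first | exact e1.symm | exact e2.symm | exact e3.symm | exact e4.symm | rfl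

end Pushout

section Main

variable (R : Type u) [CommRing R] [IsDomain R] [IsDiscreteValuationRing R]
  {C X : Scheme.{u}} (f : C ⟶ Spec (CommRingCat.of (FractionRing R)))
  (p : X ⟶ Spec (CommRingCat.of R)) (g : C ⟶ X)

/-- The ring pushout square `R → K`, `R → Γ(X, O)`, `K → Γ(C, O)`, `Γ(X, O) → Γ(C, O)`. -/
theorem isPushout_toΓ [QuasiCompact p] [QuasiSeparated p]
    (H : IsPullback g f p (Spec.map (CommRingCat.ofHom (algebraMap R (FractionRing R))))) :
    IsPushout (CommRingCat.ofHom (algebraMap R (FractionRing R))) (CommRingCat.ofHom (toΓ p))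
      (CommRingCat.ofHom (toΓ f)) g.appTop := by
  haveI : CompactSpace X := (quasiCompact_iff_compactSpace p).mp inferInstance
  haveI : QuasiSeparatedSpace X := quasiSeparatedSpace_of_quasiSeparated p
  haveI : Flat (Spec.map (CommRingCat.ofHom (algebraMap R (FractionRing R)))) := by
    rw [Flat.SpecMap_iff]
    exact (RingHom.flat_algebraMap_iff).mpr inferInstance
  have h1 := isPushout_appTop_of_isPullback_of_flat H
  have hsq : IsPushout (CommRingCat.ofHom (algebraMap R (FractionRing R)))
      (Scheme.ΓSpecIso (CommRingCat.of R)).inv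
      (Scheme.ΓSpecIso (CommRingCat.of (FractionRing R))).inv
      (Spec.map (CommRingCat.ofHom (algebraMap R (FractionRing R)))).appTop :=
    IsPushout.of_vert_isIso ⟨Scheme.ΓSpecIso_inv_naturality _⟩
  exact hsq.paste_vert h1.flip

theorem resTop_top (x : Γ(X, ⊤)) : resTop (⊤ : X.Opens) x = x := by
  have h : X.presheaf.map (homOfLE (le_top : (⊤ : X.Opens) ≤ ⊤)).op = 𝟙 _ := X.presheaf.map_id _
  change (X.presheaf.map (homOfLE (le_top : (⊤ : X.Opens) ≤ ⊤)).op).hom x = x
  rw [h]
  rfl

/-- Restriction of functions to the generic fibre of a flat qcqs scheme over a DVR is injective. -/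
theorem injective_appTop [Flat p] [QuasiCompact p] [QuasiSeparated p]
    (H : IsPullback g f p (Spec.map (CommRingCat.ofHom (algebraMap R (FractionRing R))))) :
    Function.Injective g.appTop.hom := by
  have hP0 := isPushout_toΓ R f p g H
  letI : Algebra R Γ(X, ⊤) := (toΓ p).toAlgebra
  letI : Algebra (FractionRing R) Γ(C, ⊤) := (toΓ f).toAlgebra
  letI : Algebra Γ(X, ⊤) Γ(C, ⊤) := g.appTop.hom.toAlgebra
  letI : Algebra R Γ(C, ⊤) := (g.appTop.hom.comp (toΓ p)).toAlgebra
  haveI : IsScalarTower R Γ(X, ⊤) Γ(C, ⊤) := IsScalarTower.of_algebraMap_eq' rfl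
  haveI : IsScalarTower R (FractionRing R) Γ(C, ⊤) := IsScalarTower.of_algebraMap_eq' (by
    have := congrArg CommRingCat.Hom.hom hP0.w
    exact this.symm)
  have hP : Algebra.IsPushout R (FractionRing R) Γ(X, ⊤) Γ(C, ⊤) :=
    CommRingCat.isPushout_iff_isPushout.mp hP0
  have hloc : IsLocalizedModule (nonZeroDivisors R)
      (IsScalarTower.toAlgHom R Γ(X, ⊤) Γ(C, ⊤)).toLinearMap :=
    (isLocalizedModule_iff_isBaseChange (nonZeroDivisors R) (FractionRing R) _).mpr hP.out
  rw [injective_iff_map_eq_zero]
  intro b hb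
  obtain ⟨s, hs⟩ := (IsLocalizedModule.eq_zero_iff (nonZeroDivisors R)
    (IsScalarTower.toAlgHom R Γ(X, ⊤) Γ(C, ⊤)).toLinearMap).mp hb
  refine regular_resTop p s.1 (nonZeroDivisors.ne_zero s.2) ⊤ b ?_
  rw [resTop_top]
  exact hs

/-- `Γ(X, O_X) = R` for a flat, universally closed, qcqs scheme over a DVR `R` whose generic fibre
`C` has `Γ(C, O_C) = K`. -/
theorem bijective_toΓ [Flat p] [UniversallyClosed p] [QuasiCompact p] [QuasiSeparated p]
    (hH0 : IsIso f.appTop)
    (H : IsPullback g f p (Spec.map (CommRingCat.ofHom (algebraMap R (FractionRing R))))) :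
    Function.Bijective (toΓ p) := by
  have hinj := injective_appTop R f p g H
  have hw : g.appTop.hom.comp (toΓ p) = (toΓ f).comp (algebraMap R (FractionRing R)) :=
    (congrArg CommRingCat.Hom.hom (isPushout_toΓ R f p g H).w).symm
  have hw' : ∀ r : R, g.appTop.hom (toΓ p r) = toΓ f (algebraMap R (FractionRing R) r) :=
    fun r => congrArg (fun φ : R →+* Γ(C, ⊤) => φ r) hw
  have hfbij : Function.Bijective (toΓ f) := by
    have h1 : Function.Bijective (Scheme.ΓSpecIso (CommRingCat.of (FractionRing R))).inv.hom :=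
      ConcreteCategory.bijective_of_isIso (Scheme.ΓSpecIso (CommRingCat.of (FractionRing R))).inv
    have h2 : Function.Bijective f.appTop.hom := ConcreteCategory.bijective_of_isIso f.appTop
    exact h2.comp h1
  constructor
  · intro r r' h
    apply IsFractionRing.injective R (FractionRing R)
    apply hfbij.1
    rw [← hw', ← hw', h]
  · intro b
    have hint : (toΓ p).IsIntegral := by
      have h1 : ((Scheme.ΓSpecIso (CommRingCat.of R)).inv ≫ p.appTop).hom.IsIntegral := by
        apply RingHom.isIntegral_respectsIso.2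
          (e := (Scheme.ΓSpecIso (CommRingCat.of R)).symm.commRingCatIsoToRingEquiv)
        exact isIntegral_appTop_of_universallyClosed p
      exact h1
    obtain ⟨c, hc⟩ := hfbij.2 (g.appTop.hom b)
    have hc_int : IsIntegral R c := by
      obtain ⟨P, hPm, hP⟩ := hint b
      refine ⟨P, hPm, hfbij.1 ?_⟩
      rw [map_zero, Polynomial.hom_eval₂, hc, ← hw, ← Polynomial.hom_eval₂, hP, map_zero]
    obtain ⟨r, hr⟩ := IsIntegrallyClosed.isIntegral_iff.mp hc_int
    refine ⟨r, hinj ?_⟩
    rw [hw', hr, hc]

/-- A proper flat scheme over a DVR whose generic fibre `C` has `Γ(C, O_C) = K` is geometrically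
connected over the DVR (hypothesis form). -/
theorem geometricallyConnected_of_generic (H2 : Hyp.{u}) (H58 : Hyp58.{u}) [Flat p] [IsProper p]
    (hH0 : IsIso f.appTop)
    (H : IsPullback g f p (Spec.map (CommRingCat.ofHom (algebraMap R (FractionRing R))))) :
    GeometricallyConnected p := by
  haveI : CompactSpace X := (quasiCompact_iff_compactSpace p).mp inferInstance
  haveI : QuasiSeparatedSpace X := quasiSeparatedSpace_of_quasiSeparated p
  have hbij := bijective_toΓ R f p g hH0 H
  haveI : IsIso (CommRingCat.ofHom (toΓ p)) :=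
    (ConcreteCategory.isIso_iff_bijective _).mpr hbij
  have hfac := toSpecΓ_specMap_toΓ R p
  apply geometricallyConnected_of_isIso_app p H2 H58
  intro V
  have h1 : IsIso ((X.toSpecΓ ≫ Spec.map (CommRingCat.ofHom (toΓ p))).app V) := by
    rw [Scheme.Hom.comp_app]
    have i1 := Groth.Agent.Lib.SteinField5.isIso_toSpecΓ_app
      ((Spec.map (CommRingCat.ofHom (toΓ p))) ⁻¹ᵁ V)
    haveI : IsIso (Spec.map (CommRingCat.ofHom (toΓ p))) := inferInstance
    have i2 : IsIso ((Spec.map (CommRingCat.ofHom (toΓ p))).app V) := inferInstance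
    exact @IsIso.comp_isIso _ _ _ _ _ _ _ i2 i1
  rw [hfac] at h1
  exact h1

/-- The special fibre is connected (hypothesis form). -/
theorem connectedSpace_specialFibre (H2 : Hyp.{u}) (H58 : Hyp58.{u}) [Flat p] [IsProper p]
    (hH0 : IsIso f.appTop)
    (H : IsPullback g f p (Spec.map (CommRingCat.ofHom (algebraMap R (FractionRing R))))) :
    ConnectedSpace ↥(Models.specialFibre R X p) := by
  haveI := geometricallyConnected_of_generic R f p g H2 H58 hH0 H
  exact pullback_of_geometrically
    (GeometricallyConnected.geometrically_connectedSpace (f := p)) (IsLocalRing.ResidueField R)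
    (Spec.map (CommRingCat.ofHom (algebraMap R (IsLocalRing.ResidueField R))))

end Main

end Groth.Agent.Lib.ModelConn5
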