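import Groth.Agent.Lib.H0Univ5C
import Groth.Agent.Lib.H0Univ5D
import Groth.Agent.Lib.ModelConn5A

/-!
# `f_* O_X = O_S` for proper flat morphisms with `h⁰(X_s, O) = 1`, part E (helper5):
field points and the Noetherian pointwise statement

* `ρ_comm`, `isPushout_ρ` (flat base change of global sections in terms of `ρ`);
* `surjective_ρ_of_isPullback` (independence of the chosen fibre product),
  `surjective_ρ_fieldExt_iff` (invariance under extension of the field);
* `exists_mul_eq_of_noetherian`: `A` Noetherian, `f : X ⟶ Spec A` proper flat, `ψ : A → K` a field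
  point with `Γ(X_K, O) = K·1`; then every global function `b` of `X` satisfies `σ b = r` with
  `r, σ ∈ A`, `ψ σ ≠ 0`.
-/

set_option autoImplicit false
set_option linter.style.haveILetI false
universe u

open CategoryTheory CategoryTheory.Limits AlgebraicGeometry TopologicalSpace Opposite

namespace Groth.Agent.Lib.H0Univ5

open Groth.Agent.Lib.ProperFinHyp

section Comm

variable {A B : Type u} [CommRing A] [CommRing B] (φ : A →+* B) {X X' : Scheme.{u}}
  (f : X ⟶ Spec (CommRingCat.of A)) (f' : X' ⟶ Spec (CommRingCat.of B)) (g : X' ⟶ X)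

theorem ρ_comm (w : g ≫ f = f' ≫ Spec.map (CommRingCat.ofHom φ)) (a : A) :
    g.appTop.hom (ρ f a) = ρ f' (φ a) := by
  have h1 : g.appTop.hom (ρ f a) =
      ((g ≫ f).appTop).hom ((Scheme.ΓSpecIso (CommRingCat.of A)).inv.hom a) := by
    rw [Scheme.Hom.comp_appTop]
    rfl
  rw [h1, w, Scheme.Hom.comp_appTop]
  have h2 := Scheme.ΓSpecIso_inv_naturality (CommRingCat.ofHom φ)
  have h3 : (Spec.map (CommRingCat.ofHom φ)).appTop.hom
      ((Scheme.ΓSpecIso (CommRingCat.of A)).inv.hom a) =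
      (Scheme.ΓSpecIso (CommRingCat.of B)).inv.hom (φ a) := (congr($h2 a)).symm
  change f'.appTop.hom ((Spec.map (CommRingCat.ofHom φ)).appTop.hom
      ((Scheme.ΓSpecIso (CommRingCat.of A)).inv.hom a)) = _
  rw [h3]
  rfl

theorem isPushout_ρ (hφ : φ.Flat) [QuasiCompact f] [QuasiSeparated f]
    (H : IsPullback g f' f (Spec.map (CommRingCat.ofHom φ))) :
    IsPushout (CommRingCat.ofHom φ) (CommRingCat.ofHom (ρ f)) (CommRingCat.ofHom (ρ f'))
      (CommRingCat.ofHom g.appTop.hom) := by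
  haveI : CompactSpace X := (quasiCompact_iff_compactSpace f).mp inferInstance
  haveI : QuasiSeparatedSpace X := quasiSeparatedSpace_of_quasiSeparated f
  haveI : Flat (Spec.map (CommRingCat.ofHom φ)) := by
    rw [Flat.SpecMap_iff]
    exact hφ
  have h1 := Groth.Agent.Lib.ModelConn5.isPushout_appTop_of_isPullback_of_flat H
  have hsq : IsPushout (CommRingCat.ofHom φ)
      (Scheme.ΓSpecIso (CommRingCat.of A)).inv
      (Scheme.ΓSpecIso (CommRingCat.of B)).inv
      (Spec.map (CommRingCat.ofHom φ)).appTop :=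
    IsPushout.of_vert_isIso ⟨Scheme.ΓSpecIso_inv_naturality _⟩
  exact hsq.paste_vert h1.flip

end Comm

section Points

theorem surjective_ρ_of_iso {K : Type u} [CommRing K] {Y Y' : Scheme.{u}}
    (q : Y ⟶ Spec (CommRingCat.of K)) (q' : Y' ⟶ Spec (CommRingCat.of K)) (e : Y ≅ Y')
    (he : e.hom ≫ q' = q) (h : Function.Surjective (ρ q')) : Function.Surjective (ρ q) := by
  subst he
  intro c
  obtain ⟨k, hk⟩ := h (e.inv.appTop.hom c)
  refine ⟨k, ?_⟩
  have h1 : ρ (e.hom ≫ q') k = e.hom.appTop.hom (ρ q' k) := by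
    change ((e.hom ≫ q').appTop).hom _ = _
    rw [Scheme.Hom.comp_appTop]
    rfl
  rw [h1, hk]
  have h2 : e.inv.appTop ≫ e.hom.appTop = 𝟙 _ := by
    rw [← Scheme.Hom.comp_appTop, e.hom_inv_id]
    rfl
  exact congr($h2 c)

theorem surjective_ρ_of_isPullback {S X : Scheme.{u}} {K : Type u} [CommRing K] (f : X ⟶ S)
    (x : Spec (CommRingCat.of K) ⟶ S) {Y Y' : Scheme.{u}} {p : Y ⟶ X}
    {q : Y ⟶ Spec (CommRingCat.of K)} {p' : Y' ⟶ X} {q' : Y' ⟶ Spec (CommRingCat.of K)}
    (H : IsPullback p q f x) (H' : IsPullback p' q' f x) (h : Function.Surjective (ρ q')) :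
    Function.Surjective (ρ q) :=
  surjective_ρ_of_iso q q' (H.isoIsPullback _ _ H') (H.isoIsPullback_hom_snd _ _ H') h

theorem surjective_ρ_fieldExt_iff {K L : Type u} [Field K] [Field L] (ψ : K →+* L)
    {Y YL : Scheme.{u}} (q : Y ⟶ Spec (CommRingCat.of K)) [QuasiCompact q] [QuasiSeparated q]
    (qL : YL ⟶ Spec (CommRingCat.of L)) (g : YL ⟶ Y)
    (H : IsPullback g qL q (Spec.map (CommRingCat.ofHom ψ))) :
    Function.Surjective (ρ qL) ↔ Function.Surjective (ρ q) := by
  have hψ : ψ.Flat := by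
    letI := ψ.toAlgebra
    exact (inferInstance : Module.Flat K L)
  have hP := isPushout_ρ ψ q qL g hψ H
  constructor
  · intro h
    exact surjective_of_isPushout_field ψ (ρ q) (ρ qL) g.appTop.hom hP h
  · intro h
    exact surjective_inl_of_isPushout hP h

end Points

section Noeth

variable (H2 : Hyp.{u}) (H57 : Hyp57.{u}) {A : Type u} [CommRing A] [IsNoetherianRing A]
  {X : Scheme.{u}} (f : X ⟶ Spec (CommRingCat.of A)) [IsProper f] [Flat f]

include H2 H57 in
set_option maxHeartbeats 800000 in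
theorem exists_mul_eq_of_noetherian {K : Type u} [Field K] (ψ : A →+* K)
    (h : Function.Surjective (ρ (pullback.snd f (Spec.map (CommRingCat.ofHom ψ)))))
    (b : Γ(X, ⊤)) : ∃ σ : A, ψ σ ≠ 0 ∧ ∃ r : A, ρ f σ * b = ρ f r := by
  let t : Ideal A := RingHom.ker ψ
  haveI : t.IsPrime := RingHom.ker_isPrime ψ
  let R := Localization.AtPrime t
  let φ : A →+* R := algebraMap A R
  let m : Ideal R := IsLocalRing.maximalIdeal R
  haveI : m.IsMaximal := IsLocalRing.maximalIdeal.isMaximal R
  letI : Field (R ⧸ m) := Ideal.Quotient.field m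
  -- the factorisation of `ψ`
  have hunit : ∀ y : t.primeCompl, IsUnit (ψ y) := fun y =>
    isUnit_iff_ne_zero.mpr fun h0 => y.2 ((RingHom.mem_ker).mpr h0)
  let ψR : R →+* K := IsLocalization.lift (M := t.primeCompl) hunit
  have hψR : ψR.comp φ = ψ := IsLocalization.lift_comp hunit
  have hm : ∀ a ∈ m, ψR a = 0 := by
    have hle : m ≤ RingHom.ker ψR := by
      have hmm : m = t.map φ := (IsLocalization.AtPrime.map_eq_maximalIdeal t R).symm
      rw [hmm, Ideal.map_le_iff_le_comap]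
      intro a ha
      rw [Ideal.mem_comap, RingHom.mem_ker]
      have := congrArg (fun F : A →+* K => F a) hψR
      simp only [RingHom.comp_apply] at this
      rw [this]
      exact ha
    exact fun a ha => hle ha
  let ψκ : R ⧸ m →+* K := Ideal.Quotient.lift m ψR hm
  have hψκ : ψκ.comp (Ideal.Quotient.mk m) = ψR := Ideal.Quotient.lift_comp_mk m ψR hm
  have hSpec : Spec.map (CommRingCat.ofHom ψ) =
      Spec.map (CommRingCat.ofHom ψκ) ≫ Spec.map (CommRingCat.ofHom (Ideal.Quotient.mk m)) ≫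
        Spec.map (CommRingCat.ofHom φ) := by
    rw [← Spec.map_comp, ← Spec.map_comp]
    congr 1
    rw [← CommRingCat.ofHom_comp, ← CommRingCat.ofHom_comp, ← RingHom.comp_assoc, hψκ, hψR]
  -- the schemes
  let fR := pullback.snd f (Spec.map (CommRingCat.ofHom φ))
  let g := pullback.fst f (Spec.map (CommRingCat.ofHom φ))
  haveI : IsProper fR := inferInstanceAs (IsProper (pullback.snd f _))
  haveI : Flat fR := inferInstanceAs (Flat (pullback.snd f _))
  let f₀ := pullback.snd fR (Spec.map (CommRingCat.ofHom (Ideal.Quotient.mk m)))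
  let i := pullback.fst fR (Spec.map (CommRingCat.ofHom (Ideal.Quotient.mk m)))
  haveI : IsProper f₀ := inferInstanceAs (IsProper (pullback.snd fR _))
  let qK := pullback.snd f₀ (Spec.map (CommRingCat.ofHom ψκ))
  let pK := pullback.fst f₀ (Spec.map (CommRingCat.ofHom ψκ))
  have sq1 : IsPullback g fR f (Spec.map (CommRingCat.ofHom φ)) := IsPullback.of_hasPullback _ _
  have sq2 : IsPullback i f₀ fR (Spec.map (CommRingCat.ofHom (Ideal.Quotient.mk m))) :=
    IsPullback.of_hasPullback _ _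
  have sq3 : IsPullback pK qK f₀ (Spec.map (CommRingCat.ofHom ψκ)) :=
    IsPullback.of_hasPullback _ _
  have sqK : IsPullback (pK ≫ i ≫ g) qK f (Spec.map (CommRingCat.ofHom ψ)) := by
    rw [hSpec]
    exact sq3.paste_horiz (sq2.paste_horiz sq1)
  have hK : Function.Surjective (ρ qK) :=
    surjective_ρ_of_isPullback f _ sqK (IsPullback.of_hasPullback f _) h
  have h₀ : Function.Surjective (ρ f₀) :=
    (surjective_ρ_fieldExt_iff ψκ f₀ qK pK sq3).mp hK
  have h0 : ∀ c₀ : Γ(pullback fR (Spec.map (CommRingCat.ofHom (Ideal.Quotient.mk m))), ⊤),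
      ∃ r : R, c₀ = i.appTop.hom (ρ fR r) := by
    intro c₀
    obtain ⟨k, hk⟩ := h₀ c₀
    obtain ⟨r, rfl⟩ := Ideal.Quotient.mk_surjective k
    exact ⟨r, by rw [ρ_comm (Ideal.Quotient.mk m) fR f₀ i sq2.w r, hk]⟩
  have hsurj : Function.Surjective (ρ fR) := surjective_ρ_of_local H2 H57 fR sq2 h0
  have hφ : φ.Flat := by
    exact RingHom.flat_algebraMap_iff.mpr (IsLocalization.flat R t.primeCompl)
  have hP := isPushout_ρ φ f fR g hφ sq1
  obtain ⟨r', hr'⟩ := hsurj (g.appTop.hom b)
  obtain ⟨⟨a, σ⟩, haσ⟩ := IsLocalization.surj t.primeCompl r'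
  have hv : g.appTop.hom (ρ f σ.1 * b - ρ f a) = 0 := by
    rw [map_sub, map_mul, ρ_comm φ f fR g sq1.w, ρ_comm φ f fR g sq1.w, ← hr', ← map_mul,
      sub_eq_zero]
    congr 1
    rw [mul_comm]
    exact haσ
  obtain ⟨σ', hσ', hz⟩ := exists_mul_eq_zero_of_isPushout φ (ρ f) (ρ fR) g.appTop.hom hP
    t.primeCompl rfl _ hv
  refine ⟨σ' * σ.1, ?_, σ' * a, ?_⟩
  · rw [map_mul]
    exact mul_ne_zero (fun h0 => hσ' ((RingHom.mem_ker).mpr h0))
      (fun h0 => σ.2 ((RingHom.mem_ker).mpr h0))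
  · rw [map_mul, map_mul, mul_assoc]
    rw [mul_sub, sub_eq_zero] at hz
    exact hz

end Noeth

end Groth.Agent.Lib.H0Univ5
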