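import Groth.Agent.Lib.H0Univ5E
import Groth.Agent.Lib.DescFPSpread
import Groth.Agent.Lib.H77ProperLim
import Groth.Agent.Lib.H72FlatDescentSch
import Groth.Agent.Lib.H77ConsMorTools
import Groth.Agent.Lib.LimDescent

/-!
# `f_* O_X = O_S` for proper flat morphisms with `h⁰(X_s, O) = 1`, part F (helper5): arbitrary affine base

* `exists_noetherian_model_section`: Noetherian approximation of a proper flat finitely presented
  `f : X ⟶ Spec A` together with a given global function of `X`;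
* `surjective_ρ_of_fieldPoints`: if `Γ(X_K, O) = K·1` for every field point `A → K`, then
  `A → Γ(X, O_X)` is surjective.
-/

set_option autoImplicit false
set_option linter.style.haveILetI false
universe u

open CategoryTheory CategoryTheory.Limits AlgebraicGeometry TopologicalSpace Opposite

namespace Groth.Agent.Lib.H0Univ5

open Groth.Agent.Lib.ProperFinHyp Groth.Agent.Lib.SpreadPair Groth.Agent.Lib.FGSubalgLimitU
  Groth.Agent.Lib.LimPullback Groth.Agent.Lib.LimDescent Groth.Agent.Lib.DescFP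

set_option maxHeartbeats 800000 in
/-- Noetherian approximation of a proper flat finitely presented morphism over an affine base,
together with a global function. -/
theorem exists_noetherian_model_section (A : Type u) [CommRing A] {X : Scheme.{u}}
    (f : X ⟶ Spec (CommRingCat.of A)) [IsProper f] [Flat f] [LocallyOfFinitePresentation f]
    (a : Γ(X, ⊤)) :
    ∃ (A₁ : Type u) (_ : CommRing A₁) (_ : IsNoetherianRing A₁) (φ₁ : A₁ →+* A)
      (X₁ : Scheme.{u}) (f₁ : X₁ ⟶ Spec (CommRingCat.of A₁)) (g₁ : X ⟶ X₁),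
      IsProper f₁ ∧ Flat f₁ ∧ IsPullback g₁ f f₁ (Spec.map (CommRingCat.ofHom φ₁)) ∧
        ∃ a₁ : Γ(X₁, ⊤), a = g₁.appTop.hom a₁ := by
  haveI : MorphismProperty.RespectsIso @Flat.{u} :=
    MorphismProperty.IsStableUnderBaseChange.respectsIso
  haveI : MorphismProperty.RespectsIso @IsProper.{u} :=
    MorphismProperty.IsStableUnderBaseChange.respectsIso
  haveI : (@IsProper.{u} ⊓ @Flat.{u} : MorphismProperty Scheme.{u}).RespectsIso :=
    MorphismProperty.RespectsIso.inf _ _
  haveI : ∀ {i j : (FGSub ℤ A)ᵒᵖ} (φ : i ⟶ j), IsAffineHom ((D ℤ A).map φ) :=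
    fun φ => inferInstance
  haveI : ∀ i, CompactSpace ((D ℤ A).obj i) := fun i =>
    (inferInstance : CompactSpace (Spec (CommRingCat.of i.unop.1)))
  haveI : ∀ i, QuasiSeparatedSpace ((D ℤ A).obj i) := fun i =>
    (inferInstance : QuasiSeparatedSpace (Spec (CommRingCat.of i.unop.1)))
  haveI i1 : LocallyOfFinitePresentation (Y := (cone ℤ A).pt) f := ‹LocallyOfFinitePresentation f›
  haveI i2 : QuasiCompact (Y := (cone ℤ A).pt) f := inferInstanceAs (QuasiCompact f)
  haveI i3 : QuasiSeparated (Y := (cone ℤ A).pt) f := inferInstanceAs (QuasiSeparated f)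
  obtain ⟨j, Xj, fj, g, ⟨hp, hfl⟩, _, _, _, sq⟩ :=
    exists_model_with_prop (D ℤ A) (cone ℤ A) (isLimitCone ℤ A) (@IsProper.{u} ⊓ @Flat.{u})
      (Groth.Agent.Lib.H77ConsMorTools.descendsAlongLimit_inf
        Groth.Agent.Lib.H77ProperLim.descends_isProper
        Groth.Agent.Lib.H72FlatDescentSch.descends_flat) (X := X) (f : X ⟶ (cone ℤ A).pt)
      ⟨‹IsProper f›, ‹Flat f›⟩
  haveI : IsProper fj := hp
  haveI : Flat fj := hfl
  let e := sq.isoPullback
  let s : Γ(pullback fj ((cone ℤ A).π.app j), ⊤) := e.inv.appTop.hom a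
  obtain ⟨k, t, ht⟩ := exists_appTop_π_eq_of_isLimit (pbDiagram (D ℤ A) j fj)
    (pbCone (D ℤ A) (cone ℤ A) j fj) (isLimitPbCone (isLimitCone ℤ A)) s
  have hfg := k.left.unop.2
  haveI : Algebra.FiniteType ℤ ↥k.left.unop.1 := (Subalgebra.fg_iff_finiteType _).mp hfg
  haveI : IsNoetherianRing ↥k.left.unop.1 := Algebra.FiniteType.isNoetherianRing ℤ _
  let f₁ : pullback fj ((D ℤ A).map k.hom) ⟶ Spec (CommRingCat.of ↥k.left.unop.1) :=
    pullback.snd fj ((D ℤ A).map k.hom)
  haveI : IsProper f₁ :=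
    MorphismProperty.of_isPullback (P := @IsProper.{u}) (IsPullback.of_hasPullback fj _) hp
  haveI : Flat f₁ :=
    MorphismProperty.of_isPullback (P := @Flat.{u}) (IsPullback.of_hasPullback fj _) hfl
  refine ⟨↥k.left.unop.1, inferInstance, inferInstance, k.left.unop.1.val.toRingHom, _, f₁,
    e.hom ≫ pbProj (D ℤ A) (cone ℤ A) j fj k, inferInstance, inferInstance, ?_, t, ?_⟩
  · have h1 := isPullback_pbProj (D ℤ A) (cone ℤ A) j fj k
    refine IsPullback.of_iso h1 e.symm (Iso.refl _) (Iso.refl _) (Iso.refl _) ?_ ?_ ?_ ?_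
    · simp
    · simp only [Iso.refl_hom, Iso.symm_hom]
      exact (sq.isoPullback_inv_snd).symm
    · simp
      rfl
    · simp
      rfl
  · have h2 : a = e.hom.appTop.hom s := by
      have h3 : e.inv.appTop ≫ e.hom.appTop = 𝟙 _ := by
        rw [← Scheme.Hom.comp_appTop, e.hom_inv_id]
        rfl
      exact (congr($h3 a)).symm
    rw [h2, ht, Scheme.Hom.comp_appTop]
    rfl

section Main

variable (H2 : Hyp.{u}) (H57 : Hyp57.{u})

include H2 H57 in
/-- **Arbitrary affine base.** -/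
theorem surjective_ρ_of_fieldPoints (A : Type u) [CommRing A] {X : Scheme.{u}}
    (f : X ⟶ Spec (CommRingCat.of A)) [IsProper f] [Flat f] [LocallyOfFinitePresentation f]
    (h : ∀ (K : Type u) [Field K] (ψ : A →+* K),
      Function.Surjective (ρ (pullback.snd f (Spec.map (CommRingCat.ofHom ψ))))) :
    Function.Surjective (ρ f) := by
  intro a
  obtain ⟨A₁, _, _, φ₁, X₁, f₁, g₁, _, _, sq, a₁, ha₁⟩ := exists_noetherian_model_section A f a
  let I : Ideal A :=
    { carrier := {α | ∃ r, ρ f α * a = ρ f r}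
      add_mem' := by
        rintro α β ⟨r, hr⟩ ⟨r', hr'⟩
        exact ⟨r + r', by rw [map_add, add_mul, hr, hr', map_add]⟩
      zero_mem' := ⟨0, by rw [map_zero, zero_mul]⟩
      smul_mem' := by
        rintro c α ⟨r, hr⟩
        exact ⟨c * r, by rw [smul_eq_mul, map_mul, mul_assoc, hr, map_mul]⟩ }
  by_cases hI : I = ⊤
  · have h1 : (1 : A) ∈ I := by rw [hI]; trivial
    obtain ⟨r, hr⟩ := h1
    exact ⟨r, by rw [← hr, map_one, one_mul]⟩
  · exfalso
    obtain ⟨s, hs, hIs⟩ := Ideal.exists_le_maximal I hI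
    letI : Field (A ⧸ s) := Ideal.Quotient.field s
    let ψ : A →+* A ⧸ s := Ideal.Quotient.mk s
    let ψ₁ : A₁ →+* A ⧸ s := ψ.comp φ₁
    have hψ := h (A ⧸ s) ψ
    have hSpec : Spec.map (CommRingCat.ofHom ψ₁) =
        Spec.map (CommRingCat.ofHom ψ) ≫ Spec.map (CommRingCat.ofHom φ₁) := by
      rw [← Spec.map_comp]
      rfl
    have sqK : IsPullback (pullback.fst f (Spec.map (CommRingCat.ofHom ψ)) ≫ g₁)
        (pullback.snd f (Spec.map (CommRingCat.ofHom ψ))) f₁
        (Spec.map (CommRingCat.ofHom ψ₁)) := by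
      rw [hSpec]
      exact (IsPullback.of_hasPullback f (Spec.map (CommRingCat.ofHom ψ))).paste_horiz sq
    have hψ₁ : Function.Surjective
        (ρ (pullback.snd f₁ (Spec.map (CommRingCat.ofHom ψ₁)))) :=
      surjective_ρ_of_isPullback f₁ _ (IsPullback.of_hasPullback f₁ _) sqK hψ
    obtain ⟨σ, hσ, r, hr⟩ := exists_mul_eq_of_noetherian H2 H57 f₁ ψ₁ hψ₁ a₁
    apply hσ
    have hmem : φ₁ σ ∈ I := by
      refine ⟨φ₁ r, ?_⟩
      rw [ha₁, ← ρ_comm φ₁ f₁ f g₁ sq.w, ← ρ_comm φ₁ f₁ f g₁ sq.w, ← map_mul, hr]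
    exact Ideal.Quotient.eq_zero_iff_mem.mpr (hIs hmem)

end Main

end Groth.Agent.Lib.H0Univ5
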