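import Groth.Agent.Lib.H0Univ5F
import Groth.Agent.Lib.H0Const13

/-!
# `f_* O_X = O_S` for proper flat morphisms with `h⁰(X_s, O) = 1`, part G (helper5): assembly

* `injective_app_of_flat_of_surjective`: `f` flat and surjective ⇒ `O_S(V) → O_X(f⁻¹V)` injective;
* `surjective_app_of_fieldPoints`: `f` proper flat lfp with `Γ(X_K, O) = K·1` for all field points
  ⇒ `O_S(V) → O_X(f⁻¹V)` surjective for affine `V`;
* `isIso_app_of_fieldPoints`: both together, for all opens `V`;
* `fieldPoints_of_fibres`, `surjective_of_fibres`: the field-point hypothesis from the hypothesis on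
  the scheme-theoretic fibres (S0980);
* `fieldPoints_of_geomFibres`, `surjective_of_geomFibres`: from geometric fibres being reduced and
  connected (S0981).
-/

set_option autoImplicit false
set_option linter.style.haveILetI false
universe u

open CategoryTheory CategoryTheory.Limits AlgebraicGeometry TopologicalSpace Opposite

namespace Groth.Agent.Lib.H0Univ5

open Groth.Agent.Lib.ProperFinHyp

set_option backward.isDefEq.respectTransparency false in
/-- A flat surjective morphism is injective on sections. -/
theorem injective_app_of_flat_of_surjective {X S : Scheme.{u}} (f : X ⟶ S) [Flat f]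
    (hs : Function.Surjective f.base) (V : S.Opens) : Function.Injective (f.app V).hom := by
  rw [injective_iff_map_eq_zero]
  intro a ha
  refine TopCat.Presheaf.section_ext S.sheaf V a 0 (fun s hsV => ?_)
  obtain ⟨x, rfl⟩ := hs s
  have hinj : Function.Injective (f.stalkMap x).hom := by
    algebraize [(f.stalkMap x).hom]
    have : Module.FaithfullyFlat (S.presheaf.stalk (f x)) (X.presheaf.stalk x) :=
      @Module.FaithfullyFlat.of_flat_of_isLocalHom _ _ _ _ _ _ _
        (Flat.stalkMap f x) (f.toLRSHom.prop x)
    exact ‹RingHom.FaithfullyFlat _›.injective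
  apply hinj
  change (f.stalkMap x).hom ((S.presheaf.germ V (f x) hsV).hom a) =
    (f.stalkMap x).hom ((S.presheaf.germ V (f x) hsV).hom 0)
  rw [map_zero, map_zero]
  have h2 := Scheme.Hom.germ_stalkMap f V x hsV
  have h3 := congrArg (fun g => g.hom a) h2
  change (f.stalkMap x).hom ((S.presheaf.germ V (f x) hsV).hom a) =
    (X.presheaf.germ (f ⁻¹ᵁ V) x hsV).hom ((f.app V).hom a) at h3
  rw [h3, ha, map_zero]

section Main

variable (H2 : Hyp.{u}) (H57 : Hyp57.{u})

include H2 H57 in
set_option backward.isDefEq.respectTransparency false in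
/-- Surjectivity over an affine open. -/
theorem surjective_app_of_fieldPoints {X S : Scheme.{u}} (f : X ⟶ S) [IsProper f] [Flat f]
    [LocallyOfFinitePresentation f]
    (hF : ∀ (K : Type u) [Field K] (x : Spec (CommRingCat.of K) ⟶ S),
      Function.Surjective (ρ (pullback.snd f x)))
    {V : S.Opens} (hV : IsAffineOpen V) : Function.Surjective (f.app V).hom := by
  haveI : IsProper (f ∣_ V) := IsZariskiLocalAtTarget.restrict ‹IsProper f› V
  haveI : LocallyOfFinitePresentation (f ∣_ V) :=
    IsZariskiLocalAtTarget.restrict ‹LocallyOfFinitePresentation f› V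
  let g : (f ⁻¹ᵁ V).toScheme ⟶ Spec (CommRingCat.of Γ(S, V)) := (f ∣_ V) ≫ hV.isoSpec.hom
  haveI : IsProper g := inferInstance
  haveI : Flat g := inferInstance
  haveI : LocallyOfFinitePresentation g := inferInstance
  have sqV : IsPullback (f ⁻¹ᵁ V).ι g f (hV.isoSpec.inv ≫ V.ι) :=
    IsPullback.of_iso (isPullback_morphismRestrict f V).flip (Iso.refl _) (Iso.refl _) hV.isoSpec
      (Iso.refl _) (by simp) (by simp [g]) (by simp) (by simp)
  have h : Function.Surjective (ρ g) := by
    refine surjective_ρ_of_fieldPoints H2 H57 Γ(S, V) g (fun K _ ψ => ?_)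
    have sqK := (IsPullback.of_hasPullback g (Spec.map (CommRingCat.ofHom ψ))).paste_horiz sqV
    exact surjective_ρ_of_isPullback f _ sqK (IsPullback.of_hasPullback f _) (hF K _)
  have h1 : Function.Surjective g.appTop.hom := by
    intro c
    obtain ⟨r, hr⟩ := h c
    exact ⟨_, hr⟩
  haveI : IsIso (Scheme.Hom.appTop hV.isoSpec.hom) :=
    inferInstanceAs (IsIso (hV.isoSpec.hom.app ⊤))
  rw [Scheme.Hom.comp_appTop, CommRingCat.hom_comp,
    RingHom.surjective_respectsIso.cancel_left_isIso] at h1
  rw [morphismRestrict_appTop, CommRingCat.hom_comp,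
    RingHom.surjective_respectsIso.cancel_right_isIso] at h1
  have h' : Function.Surjective (f.app (V.ι ''ᵁ ⊤)).hom := h1
  rw [Scheme.Opens.ι_image_top] at h'
  exact h'

include H2 H57 in
set_option backward.isDefEq.respectTransparency false in
/-- **`f_* O_X = O_S`** for `f` proper, flat, locally of finite presentation, surjective, with
`Γ(X_K, O) = K·1` for every field point `Spec K ⟶ S`. -/
theorem isIso_app_of_fieldPoints {X S : Scheme.{u}} (f : X ⟶ S) [IsProper f] [Flat f]
    [LocallyOfFinitePresentation f] (hs : Function.Surjective f.base)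
    (hF : ∀ (K : Type u) [Field K] (x : Spec (CommRingCat.of K) ⟶ S),
      Function.Surjective (ρ (pullback.snd f x))) :
    ∀ V : S.Opens, IsIso (f.app V) := by
  let F : TopCat.Sheaf CommRingCat S := S.sheaf
  let G : TopCat.Sheaf CommRingCat S := (TopCat.Sheaf.pushforward CommRingCat f.base).obj X.sheaf
  let φ : F ⟶ G := ⟨f.c⟩
  have hbasis : Opens.IsBasis (Set.range (fun V : S.affineOpens => (V : S.Opens))) := by
    have := S.isBasis_affineOpens
    rwa [Subtype.range_coe_subtype]
  haveI : IsIso φ := by
    refine TopCat.Sheaf.isIso_iff_isIso_basis (B := fun V : S.affineOpens => (V : S.Opens))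
      hbasis (fun V => ?_)
    show IsIso (f.app V.1)
    exact (ConcreteCategory.isIso_iff_bijective _).mpr
      ⟨injective_app_of_flat_of_surjective f hs V.1, surjective_app_of_fieldPoints H2 H57 f hF V.2⟩
  intro V
  have h1 : IsIso ((TopCat.Sheaf.forget CommRingCat S).map φ) := inferInstance
  exact (NatTrans.isIso_iff_isIso_app _).mp h1 (op V)

end Main

end Groth.Agent.Lib.H0Univ5
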