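import Groth.Agent.Lib.H0Univ5G

/-!
# `f_* O_X = O_S` for proper flat morphisms with `h⁰(X_s, O) = 1`, part H (helper5): the hypotheses

* `surjective_ρ_comp_iff`: `Γ(X_K, O) = K` is insensitive to extending the field `K`;
* `fieldPoints_of_fibres`, `surjective_of_fibres`: the field-point hypothesis from the hypothesis on
  the scheme-theoretic fibres (S0980);
* `fieldPoints_of_geomFibres`, `surjective_of_geomFibres`: from geometric fibres being reduced and
  connected (S0981).
-/

set_option autoImplicit false
set_option linter.style.haveILetI false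
universe u

open CategoryTheory CategoryTheory.Limits AlgebraicGeometry TopologicalSpace Opposite

namespace Groth.Agent.Lib.H0Univ5

theorem surjective_ρ_comp_iff {X S : Scheme.{u}} (f : X ⟶ S) [QuasiCompact f] [QuasiSeparated f]
    {κ K : Type u} [Field κ] [Field K] (y : Spec (CommRingCat.of κ) ⟶ S) (ψ : κ →+* K) :
    Function.Surjective (ρ (pullback.snd f (Spec.map (CommRingCat.ofHom ψ) ≫ y))) ↔
      Function.Surjective (ρ (pullback.snd f y)) := by
  have H := IsPullback.of_hasPullback (pullback.snd f y) (Spec.map (CommRingCat.ofHom ψ))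
  have h1 := surjective_ρ_fieldExt_iff ψ (pullback.snd f y) (pullback.snd (pullback.snd f y) _)
    (pullback.fst (pullback.snd f y) _) H
  have sq := H.paste_horiz (IsPullback.of_hasPullback f y)
  rw [← h1]
  constructor
  · exact surjective_ρ_of_isPullback f _ sq (IsPullback.of_hasPullback f _)
  · exact surjective_ρ_of_isPullback f _ (IsPullback.of_hasPullback f _) sq

theorem fieldPoints_of_fibres {X S : Scheme.{u}} (f : X ⟶ S) [QuasiCompact f] [QuasiSeparated f]
    (h : ∀ s : S, IsIso (f.fiberToSpecResidueField s).appTop)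
    (K : Type u) [Field K] (x : Spec (CommRingCat.of K) ⟶ S) :
    Function.Surjective (ρ (pullback.snd f x)) := by
  let s : S := x (IsLocalRing.closedPoint K)
  let φ : S.residueField s ⟶ CommRingCat.of K :=
    Scheme.descResidueField (Scheme.stalkClosedPointTo x)
  have hx : Spec.map φ ≫ S.fromSpecResidueField s = x :=
    Scheme.descResidueField_stalkClosedPointTo_fromSpecResidueField K S x
  have h0 : Function.Surjective
      (ρ (R := S.residueField s) (pullback.snd f (S.fromSpecResidueField s))) := by
    intro c
    haveI := h s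
    have hb := ConcreteCategory.bijective_of_isIso (f.fiberToSpecResidueField s).appTop
    obtain ⟨c', hc'⟩ := hb.2 c
    refine ⟨(Scheme.ΓSpecIso (S.residueField s)).hom.hom c', ?_⟩
    have h2 : (Scheme.ΓSpecIso (S.residueField s)).inv.hom
        ((Scheme.ΓSpecIso (S.residueField s)).hom.hom c') = c' := by
      rw [← CommRingCat.comp_apply, Iso.hom_inv_id]
      rfl
    change (f.fiberToSpecResidueField s).appTop.hom ((Scheme.ΓSpecIso (S.residueField s)).inv.hom
        ((Scheme.ΓSpecIso (S.residueField s)).hom.hom c')) = c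
    rw [h2]
    exact hc'
  have h1 := (surjective_ρ_comp_iff f (κ := S.residueField s) (S.fromSpecResidueField s)
    φ.hom).mpr h0
  have h1' : Function.Surjective (ρ (pullback.snd f (Spec.map φ ≫ S.fromSpecResidueField s))) := h1
  rw [hx] at h1'
  exact h1'

theorem surjective_of_fibres {X S : Scheme.{u}} (f : X ⟶ S)
    (h : ∀ s : S, IsIso (f.fiberToSpecResidueField s).appTop) : Function.Surjective f.base := by
  intro s
  haveI := h s
  by_contra hne
  have hE : IsEmpty (f.fiber s) := by
    constructor
    intro y
    apply hne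
    refine ⟨f.fiberι s y, ?_⟩
    have hy : f.fiberι s y ∈ f ⁻¹' {s} := f.range_fiberι s ▸ Set.mem_range_self y
    exact hy
  have htop : (⊤ : (f.fiber s).Opens) = ⊥ := by
    ext y
    exact (hE.false y).elim
  haveI : Subsingleton Γ(f.fiber s, ⊤) := by
    rw [htop]
    exact inferInstanceAs (Subsingleton Γ(f.fiber s, ⊥))
  have hb := ConcreteCategory.bijective_of_isIso (f.fiberToSpecResidueField s).appTop
  have h01 : (0 : Γ(Spec (S.residueField s), ⊤)) = 1 := hb.1 (Subsingleton.elim _ _)
  have h2 := congrArg (Scheme.ΓSpecIso (S.residueField s)).hom.hom h01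
  rw [map_zero, map_one] at h2
  exact zero_ne_one h2

theorem fieldPoints_of_geomFibres {X S : Scheme.{u}} (f : X ⟶ S) [IsProper f]
    (h : ∀ (K : Type u) [Field K] [IsAlgClosed K] (g : Spec (CommRingCat.of K) ⟶ S),
      IsReduced (pullback f g) ∧ ConnectedSpace ↥(pullback f g))
    (K : Type u) [Field K] (x : Spec (CommRingCat.of K) ⟶ S) :
    Function.Surjective (ρ (pullback.snd f x)) := by
  let L := AlgebraicClosure K
  let ψ : K →+* L := algebraMap K L
  rw [← surjective_ρ_comp_iff f x ψ]
  obtain ⟨hred, hconn⟩ := h L (Spec.map (CommRingCat.ofHom ψ) ≫ x)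
  haveI := hred
  haveI := hconn
  have hb := Groth.Agent.Lib.H0Const13.bijective_algebraMap_of_isAlgClosed L
    (pullback.snd f (Spec.map (CommRingCat.ofHom ψ) ≫ x))
  intro c
  obtain ⟨r, hr⟩ := hb.2 c
  exact ⟨r, hr⟩

theorem surjective_of_geomFibres {X S : Scheme.{u}} (f : X ⟶ S)
    (h : ∀ (K : Type u) [Field K] [IsAlgClosed K] (g : Spec (CommRingCat.of K) ⟶ S),
      IsReduced (pullback f g) ∧ ConnectedSpace ↥(pullback f g)) :
    Function.Surjective f.base := by
  intro s
  let L := AlgebraicClosure (S.residueField s)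
  let g : Spec (CommRingCat.of L) ⟶ S :=
    Spec.map (CommRingCat.ofHom (algebraMap (S.residueField s) L)) ≫ S.fromSpecResidueField s
  obtain ⟨_, hconn⟩ := h L g
  obtain ⟨y⟩ := hconn.toNonempty
  refine ⟨(pullback.fst f g) y, ?_⟩
  have hw : (pullback.fst f g ≫ f) y = (pullback.snd f g ≫ g) y := by
    rw [pullback.condition]
  have h2 : (pullback.snd f g ≫ g) y = s := by
    change S.fromSpecResidueField s _ = s
    exact Scheme.fromSpecResidueField_apply _ _
  exact hw.trans h2

end Groth.Agent.Lib.H0Univ5
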