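import Mathlib
import Groth.Agent.Lib.H80SmoothFiber
import Groth.Agent.S9501

/-!
# Smoothness at a point of a morphism of schemes via flatness + smoothness of the fibre

`mem_smoothLocus_of_flat_of_fiber`: if `f : X ⟶ S` is locally of finite presentation, `y` is a point
of the fibre `X_s`, `O_{S,s} → O_{X,x}` is flat and `X_s → Spec κ(s)` is smooth at `y`,
then `f` is smooth at `x = fiberι y`.
-/

open CategoryTheory AlgebraicGeometry IsLocalRing TensorProduct

universe u

namespace Groth.Agent.Lib.H80SmoothFiber

theorem isField_stalk_Spec_of_isField (K : CommRingCat.{u}) (hK : IsField K) (z : Spec K) :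
    IsField ((Spec K).presheaf.stalk z) := by
  let z' : PrimeSpectrum K := z
  let alg : Algebra K ((Spec K).presheaf.stalk z) := StructureSheaf.stalkAlgebra K z'
  have hloc : IsLocalization.AtPrime ((Spec K).presheaf.stalk z) z'.asIdeal :=
    StructureSheaf.IsLocalization.to_stalk K z'
  have hle : z'.asIdeal.primeCompl ≤ IsUnit.submonoid K := by
    intro a ha
    let := hK.toField
    have : a ≠ 0 := fun h => ha (h ▸ z'.asIdeal.zero_mem)
    exact this.isUnit
  exact MulEquiv.isField hK
    (IsLocalization.atUnits K z'.asIdeal.primeCompl hle).symm.toMulEquiv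

/-- Stalk-level data for the fibre: the composite `O_{S,f x} → O_{X,x} → O_{X_s,y}` factors
through a surjection onto a field `K'`, via the stalk map of `X_s → Spec κ(s)`. -/
theorem exists_stalk_factorization {X S : Scheme.{u}} (f : X ⟶ S) (s : S) (y : f.fiber s) :
    ∃ (ρ₀ : S.presheaf.stalk (f (f.fiberι s y)) ⟶
        (Spec (S.residueField s)).presheaf.stalk (f.fiberToSpecResidueField s y)),
      Function.Surjective ρ₀.hom ∧
      f.stalkMap (f.fiberι s y) ≫ (f.fiberι s).stalkMap y =
        ρ₀ ≫ (f.fiberToSpecResidueField s).stalkMap y := by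
  have h1 := Scheme.Hom.stalkMap_congr_hom _ _ (f.fiber_fac s) y
  rw [Scheme.Hom.stalkMap_comp, Scheme.Hom.stalkMap_comp] at h1
  have hpt : f (f.fiberι s y) =
      (S.fromSpecResidueField s) (f.fiberToSpecResidueField s y) := congr($(f.fiber_fac s) y)
  refine ⟨(S.presheaf.stalkCongr (.of_eq hpt)).hom ≫
    (S.fromSpecResidueField s).stalkMap (f.fiberToSpecResidueField s y), ?_, ?_⟩
  · rw [CommRingCat.hom_comp, RingHom.coe_comp]
    exact ((S.fromSpecResidueField s).stalkMap_surjective _).comp
      (ConcreteCategory.bijective_of_isIso _).2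
  · rw [Category.assoc]
    exact h1

theorem mem_smoothLocus_of_flat_of_fiber {X S : Scheme.{u}} (f : X ⟶ S)
    [LocallyOfFinitePresentation f] (s : S)
    [LocallyOfFinitePresentation (f.fiberToSpecResidueField s)] (y : f.fiber s)
    (hflat : (f.stalkMap (f.fiberι s y)).hom.Flat)
    (hy : y ∈ (f.fiberToSpecResidueField s).smoothLocus) :
    f.fiberι s y ∈ f.smoothLocus := by
  obtain ⟨ρ₀, hρ₀, hfac⟩ := exists_stalk_factorization f s y
  have hK := isField_stalk_Spec_of_isField (S.residueField s) (Field.toIsField _)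
    (f.fiberToSpecResidueField s y)
  obtain ⟨hbsurj, hbker⟩ := Groth.Agent.S9501.result f s y
  obtain ⟨_, ⟨U, hU, rfl⟩, hxU, -⟩ :=
    S.isBasis_affineOpens.exists_subset_of_mem_open (Set.mem_univ (f (f.fiberι s y))) isOpen_univ
  obtain ⟨_, ⟨V, hV, rfl⟩, hxV, hVU⟩ :=
    X.isBasis_affineOpens.exists_subset_of_mem_open hxU (U.2.preimage f.continuous)
  have := f.finitePresentation_appLE hU hV hVU
  algebraize [(f.appLE U V hVU).hom]
  rw [Scheme.Hom.mem_smoothLocus, formallySmooth_stalkMap_iff U hU V hV hVU hxV]
  let p := (hU.primeIdealOf ⟨f (f.fiberι s y), hVU hxV⟩).asIdeal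
  let q := (hV.primeIdealOf ⟨f.fiberι s y, hxV⟩).asIdeal
  have : q.LiesOver p :=
    ⟨congr($(IsAffineOpen.comap_primeIdealOf_appLE U hU V hV hVU hxV).1).symm⟩
  let iso := IsAffineOpen.arrowStalkMapIso f U hU V hV hVU hxV
  let eR : S.presheaf.stalk (f (f.fiberι s y)) ≃+* Localization.AtPrime p :=
    (Arrow.leftFunc.mapIso iso).commRingCatIsoToRingEquiv
  let eS : X.presheaf.stalk (f.fiberι s y) ≃+* Localization.AtPrime q :=
    (Arrow.rightFunc.mapIso iso).commRingCatIsoToRingEquiv
  have hw : ∀ r, Localization.localRingHom p q (algebraMap _ _) Ideal.LiesOver.over (eR r) =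
      eS ((f.stalkMap (f.fiberι s y)).hom r) := by
    intro r
    have := congr($(iso.hom.w) r)
    exact this
  change Algebra.IsSmoothAt _ q
  apply isSmoothAt_of_flat_of_fiber p q
  · let := Localization.AtPrime.algebraOfLiesOver p q
    rw [← RingHom.flat_algebraMap_iff]
    exact (RingHom.Flat.respectsIso.arrow_mk_iso_iff iso).mp hflat
  · let := Localization.AtPrime.algebraOfLiesOver p q
    have hloc : IsLocalHom (f.stalkMap (f.fiberι s y)).hom := inferInstance
    refine formallySmooth_residueField_tensor_of_surjective hK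
      (((f.fiberι s).stalkMap y).hom.comp eS.symm.toRingHom) ?_ ?_
      (ρ₀.hom.comp eR.symm.toRingHom) ?_
      ((f.fiberToSpecResidueField s).stalkMap y).hom hy ?_
    · rw [RingHom.coe_comp]
      exact hbsurj.comp eS.symm.surjective
    · rw [← RingHom.comap_ker, hbker]
      have hm : maximalIdeal (Localization.AtPrime p) =
          Ideal.map eR.toRingHom (maximalIdeal _) :=
        (IsLocalRing.map_ringEquiv_maximalIdeal eR).symm
      rw [hm]
      change Ideal.comap eS.symm _ = _
      rw [Ideal.comap_symm]
      change Ideal.map eS.toRingHom _ = _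
      rw [Ideal.map_map, Ideal.map_map]
      congr 1
      ext r
      exact (hw r).symm
    · rw [RingHom.coe_comp]
      exact hρ₀.comp eR.symm.surjective
    · ext r'
      obtain ⟨r, rfl⟩ := eR.surjective r'
      have h1 : eS.symm (algebraMap (Localization.AtPrime p) (Localization.AtPrime q) (eR r)) =
          (f.stalkMap (f.fiberι s y)).hom r := by
        rw [RingEquiv.symm_apply_eq]
        exact hw r
      have h2 := congr($hfac r)
      simp only [RingHom.comp_apply, RingEquiv.toRingHom_eq_coe, RingHom.coe_coe,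
        RingEquiv.symm_apply_apply, h1]
      exact h2.symm

end Groth.Agent.Lib.H80SmoothFiber
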