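import Groth.Agent.Lib.SmoothRegular
import Mathlib.AlgebraicGeometry.Morphisms.Smooth

/-!
# Stalks of a scheme smooth over a regular affine base are regular local rings (helper45)
-/

set_option autoImplicit false
universe u
open CategoryTheory AlgebraicGeometry

namespace Groth.Agent.Lib.SmoothStalkRegular45

theorem isRegularLocalRing_stalk_of_smooth {R : CommRingCat.{u}} [IsRegularRing R]
    {X : Scheme.{u}} (p : X ⟶ Spec R) [Smooth p] (x : X) :
    IsRegularLocalRing (X.presheaf.stalk x) := by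
  obtain ⟨_, ⟨V, hV, rfl⟩, hxV, -⟩ :=
    X.isBasis_affineOpens.exists_subset_of_mem_open (Set.mem_univ x) isOpen_univ
  replace hV : IsAffineOpen V := hV
  have hle : V ≤ p ⁻¹ᵁ ⊤ := le_top
  have hsm := Smooth.smooth_appLE p (isAffineOpen_top (Spec R)) hV hle
  let _ : Algebra Γ(Spec R, ⊤) Γ(X, V) := (p.appLE ⊤ V hle).hom.toAlgebra
  have hsm' : Algebra.Smooth Γ(Spec R, ⊤) Γ(X, V) := hsm
  have hR : IsRegularRing Γ(Spec R, ⊤) :=
    IsRegularRing.of_ringEquiv (Scheme.ΓSpecIso R).symm.commRingCatIsoToRingEquiv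
  let _ := X.presheaf.algebra_section_stalk ⟨x, hxV⟩
  have hloc := hV.isLocalization_stalk ⟨x, hxV⟩
  have hreg := Groth.Agent.Lib.SmoothRegular.isRegularLocalRing_of_smooth
    (K := Γ(Spec R, ⊤)) (B := Γ(X, V)) (hV.primeIdealOf ⟨x, hxV⟩).asIdeal
  exact IsRegularLocalRing.of_ringEquiv
    (IsLocalization.algEquiv (hV.primeIdealOf ⟨x, hxV⟩).asIdeal.primeCompl
      (Localization.AtPrime (hV.primeIdealOf ⟨x, hxV⟩).asIdeal) (X.presheaf.stalk x)).toRingEquiv

theorem isRegularLocalRing_stalk_of_smooth_field (k : Type u) [Field k]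
    {X : Scheme.{u}} (p : X ⟶ Spec (CommRingCat.of k)) [Smooth p] (x : X) :
    IsRegularLocalRing (X.presheaf.stalk x) :=
  isRegularLocalRing_stalk_of_smooth p x

end Groth.Agent.Lib.SmoothStalkRegular45
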