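import Groth.Agent.Lib.H14GorBC
import Groth.Agent.Lib.AlgSpBasic
import Groth.Agent.Lib.SmoothStalkRegular45
import Groth.Agent.Lib.EtaleLocusBC
import Groth.Agent.S3627
import Groth.Agent.S9766
import Groth.Agent.Lib.H80SmoothFiber2
import Groth.Agent.Lib.FibreStalkCM33

/-!
# `LocP` of Gorenstein / Cohen–Macaulay morphisms for schemes over a field (helper14)

* `GorLft`, `CMLft` : Gorenstein (resp. CM) morphisms locally of finite type; they contain étale
  morphisms (`gorLft_of_etale`, `cmLft_of_etale`), are stable under composition (`GorLft.comp`,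
  `CMLft.comp`, via S3627 / S9766) and under base change (instances).
* `locP_mono`, `locP_yon_map_of_stable`, `locP_gor_of_gorLft`, `locP_cm_of_cmLft`.
* `isGorensteinAt_over_field_iff`, `isCMAt_over_field_iff` : for `p : X ⟶ Spec k`, `p` is
  Gorenstein (CM) at `x` iff `O_{X,x}` is.
* `locP_gor_over_field_iff` (= S17307), `locP_cm_over_field_iff` (= S17306).
-/

set_option autoImplicit false
set_option linter.style.haveILetI false
set_option linter.unusedSectionVars false
universe u

open CategoryTheory CategoryTheory.Limits AlgebraicGeometry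

namespace Groth.Agent.Lib.H14LocPCurve

open Groth.Agent.Lib

section Fibre

variable {X Y : Scheme.{u}}

/-- The fibres of a morphism locally of finite type are locally Noetherian. -/
theorem isLocallyNoetherian_fiber (f : X ⟶ Y) [LocallyOfFiniteType f] (y : Y) :
    IsLocallyNoetherian (f.fiber y) := by
  have hlft : LocallyOfFiniteType (f.fiberToSpecResidueField y) :=
    MorphismProperty.pullback_snd (P := @LocallyOfFiniteType) _ _ inferInstance
  exact LocallyOfFiniteType.isLocallyNoetherian (f.fiberToSpecResidueField y)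

/-- The local rings of the fibres of an étale morphism are regular. -/
theorem isRegularLocalRing_fiber_stalk_of_etale (f : X ⟶ Y) [Etale f] (y : Y) (z : f.fiber y) :
    IsRegularLocalRing ((f.fiber y).presheaf.stalk z) := by
  have hsm : Smooth (f.fiberToSpecResidueField y) :=
    MorphismProperty.pullback_snd (P := @Smooth) _ _ inferInstance
  exact SmoothStalkRegular45.isRegularLocalRing_stalk_of_smooth_field (Y.residueField y)
    (f.fiberToSpecResidueField y) z

end Fibre

section Classes

/-- Gorenstein morphisms locally of finite type. -/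
def GorLft : MorphismProperty Scheme.{u} :=
  fun _ _ g => LocallyOfFiniteType g ∧ ∀ x, Dual3.IsGorensteinAt g x

/-- Cohen–Macaulay morphisms locally of finite type. -/
def CMLft : MorphismProperty Scheme.{u} :=
  fun _ _ g => LocallyOfFiniteType g ∧ ∀ x, MoreMor.IsCMAt g x

variable {X Y Z : Scheme.{u}}

theorem gorLft_of_etale (f : X ⟶ Y) [Etale f] : GorLft f := by
  refine ⟨inferInstance, fun x => ⟨Flat.stalkMap f x, ?_⟩⟩
  have := isRegularLocalRing_fiber_stalk_of_etale f (f x) (f.asFiber x)
  exact Groth.Agent.S0342.result _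

theorem cmLft_of_etale (f : X ⟶ Y) [Etale f] : CMLft f := by
  refine ⟨inferInstance, fun x => ⟨Flat.stalkMap f x, ?_⟩⟩
  have := isRegularLocalRing_fiber_stalk_of_etale f (f x) (f.asFiber x)
  exact H8CM.isCMLocalRing_of_isRegularLocalRing

theorem GorLft.comp {f : X ⟶ Y} {g : Y ⟶ Z} (hf : GorLft f) (hg : GorLft g) : GorLft (f ≫ g) := by
  have := hf.1
  have := hg.1
  refine ⟨inferInstance, fun x => ?_⟩
  exact (Groth.Agent.S3627.result X Y Z f g (fun y => isLocallyNoetherian_fiber f y)
    (fun y => isLocallyNoetherian_fiber g y) (fun z => isLocallyNoetherian_fiber (f ≫ g) z) x).1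
    (hf.2 x) (hg.2 (f x))

theorem CMLft.comp {f : X ⟶ Y} {g : Y ⟶ Z} (hf : CMLft f) (hg : CMLft g) : CMLft (f ≫ g) := by
  have := hf.1
  have := hg.1
  refine ⟨inferInstance, fun x => ?_⟩
  exact Groth.Agent.S9766.result f g x (isLocallyNoetherian_fiber (f ≫ g) _) (hf.2 x) (hg.2 (f x))

instance : MorphismProperty.IsStableUnderBaseChange GorLft.{u} where
  of_isPullback := by
    intro X Y Y' S f g f' g' sq hg
    have := hg.1
    refine ⟨MorphismProperty.of_isPullback (P := @LocallyOfFiniteType) sq hg.1, fun x' => ?_⟩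
    exact ⟨EtaleLocusBC.flat_stalkMap_fst_of_isPullback sq.flip x' (hg.2 _).1,
      H14GorBC.gor_fibre_ascent_of_locallyOfFiniteType sq x' (hg.2 _).2⟩

instance : MorphismProperty.IsStableUnderBaseChange CMLft.{u} where
  of_isPullback := by
    intro X Y Y' S f g f' g' sq hg
    have := hg.1
    refine ⟨MorphismProperty.of_isPullback (P := @LocallyOfFiniteType) sq hg.1, fun x' => ?_⟩
    exact ⟨EtaleLocusBC.flat_stalkMap_fst_of_isPullback sq.flip x' (hg.2 _).1,
      CMBaseChange33.cm_fibre_ascent_of_locallyOfFiniteType sq x' (hg.2 _).2⟩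

end Classes

section LocP

variable {S : Scheme.{u}}

/-- `LocP` is monotone in the property. -/
theorem locP_mono {P Q : MorphismProperty Scheme.{u}} (h : P ≤ Q) {F G : AlgSp.Sp S} {f : F ⟶ G}
    (hf : AlgSp.LocP P f) : AlgSp.LocP Q f :=
  fun _ _ a b g ha hb comm => h _ (hf a b g ha hb comm)

/-- For a class `P` stable under base change and precomposition with étale morphisms, `h_g` has
`LocP P` as soon as `g` has `P`. -/
theorem locP_yon_map_of_stable (P : MorphismProperty Scheme.{u}) [P.IsStableUnderBaseChange]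
    (hpre : ∀ ⦃A B C : Scheme.{u}⦄ (l : A ⟶ B) (w : B ⟶ C), Etale l → P w → P (l ≫ w))
    {U V : Over S} (g : U ⟶ V) (hg : P g.left) : AlgSp.LocP P ((AlgSp.yon S).map g) :=
  AlgSpBasic.locP_of_repWith P hpre
    (fun _ c => (AlgSp.IsAlgSpace.yon_obj U).representable_from_yon c)
    ((AlgSp.repWith_yon_map_iff P g).2 hg)

theorem locP_gor_of_gorLft {U V : Over S} (g : U ⟶ V) (hg : GorLft g.left) :
    AlgSp.LocP (fun _ _ g => ∀ x, Dual3.IsGorensteinAt g x) ((AlgSp.yon S).map g) :=
  locP_mono (fun _ _ _ h => h.2)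
    (locP_yon_map_of_stable GorLft (fun _ _ _ l _ _ hw => (gorLft_of_etale l).comp hw) g hg)

theorem locP_cm_of_cmLft {U V : Over S} (g : U ⟶ V) (hg : CMLft g.left) :
    AlgSp.LocP (fun _ _ g => ∀ x, MoreMor.IsCMAt g x) ((AlgSp.yon S).map g) :=
  locP_mono (fun _ _ _ h => h.2)
    (locP_yon_map_of_stable CMLft (fun _ _ _ l _ _ hw => (cmLft_of_etale l).comp hw) g hg)

end LocP

section OverField

variable {k : Type u} [Field k] {X : Scheme.{u}} (p : X ⟶ Spec (CommRingCat.of k))

theorem isField_stalk_spec_field (y : Spec (CommRingCat.of k)) :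
    IsField ((Spec (CommRingCat.of k)).presheaf.stalk y) :=
  H80SmoothFiber.isField_stalk_Spec_of_isField _ (Field.toIsField k) y

theorem maximalIdeal_stalk_spec_field (y : Spec (CommRingCat.of k)) :
    IsLocalRing.maximalIdeal ((Spec (CommRingCat.of k)).presheaf.stalk y) = ⊥ :=
  IsLocalRing.isField_iff_maximalIdeal_eq.1 (isField_stalk_spec_field y)

theorem flat_stalkMap_over_field (x : X) : (p.stalkMap x).hom.Flat :=
  RingHom.Flat.of_isField (isField_stalk_spec_field _) _

/-- The quotient of the local ring of `X` at `x` by the ideal generated by the maximal ideal of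
the (field) local ring of `Spec k` is the local ring itself. -/
noncomputable def quotEquiv (x : X) :
    (X.presheaf.stalk x ⧸ Ideal.map (p.stalkMap x).hom
      (IsLocalRing.maximalIdeal ((Spec (CommRingCat.of k)).presheaf.stalk (p x)))) ≃+*
      X.presheaf.stalk x :=
  (Ideal.quotEquivOfEq (by rw [maximalIdeal_stalk_spec_field, Ideal.map_bot])).trans
    (RingEquiv.quotientBot _)

theorem isGorensteinAt_over_field_iff (x : X) :
    Dual3.IsGorensteinAt p x ↔ LocCoh.IsGorensteinLocalRing (X.presheaf.stalk x) := by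
  rw [Groth.Agent.S3627.isGorensteinAt_iff]
  refine ⟨fun h => ?_, fun h => ⟨flat_stalkMap_over_field p x, ?_⟩⟩
  · have := h.2
    exact Groth.Agent.S16185.isGorensteinLocalRing_of_ringEquiv (quotEquiv p x).symm
  · exact Groth.Agent.S16185.isGorensteinLocalRing_of_ringEquiv (quotEquiv p x)

theorem isCMAt_over_field_iff (x : X) :
    MoreMor.IsCMAt p x ↔ LocCoh.IsCohenMacaulayLocalRing (X.presheaf.stalk x) := by
  rw [FibreStalkCM33.isCMAt_iff]
  refine ⟨fun h => ?_, fun h => ⟨flat_stalkMap_over_field p x, ?_⟩⟩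
  · have := h.2
    exact CMRingEquiv96.isCohenMacaulayLocalRing_of_ringEquiv (quotEquiv p x)
  · exact CMRingEquiv96.isCohenMacaulayLocalRing_of_ringEquiv (quotEquiv p x).symm

variable {S : Scheme.{u}} (t : Spec (CommRingCat.of k) ⟶ S)

/-- = S17307. -/
theorem locP_gor_over_field_iff [LocallyOfFiniteType p] :
    AlgSp.LocP (fun _ _ g => ∀ x, (g.stalkMap x).hom.Flat ∧
        LocCoh.IsGorensteinLocalRing ((g.fiber (g x)).presheaf.stalk (g.asFiber x)))
      ((AlgSp.yon S).map (Over.homMk p rfl : Over.mk (p ≫ t) ⟶ Over.mk t)) ↔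
      ∀ x : X, LocCoh.IsGorensteinLocalRing (X.presheaf.stalk x) := by
  constructor
  · intro h x
    exact (isGorensteinAt_over_field_iff p x).1 (AlgSp.locP_yon_map h x)
  · intro h
    exact locP_gor_of_gorLft _ ⟨‹_›, fun x => (isGorensteinAt_over_field_iff p x).2 (h x)⟩

/-- = S17306. -/
theorem locP_cm_over_field_iff [LocallyOfFiniteType p] :
    AlgSp.LocP (fun _ _ g => ∀ x, MoreMor.IsCMAt g x)
      ((AlgSp.yon S).map (Over.homMk p rfl : Over.mk (p ≫ t) ⟶ Over.mk t)) ↔
      ∀ x : X, LocCoh.IsCohenMacaulayLocalRing (X.presheaf.stalk x) := by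
  constructor
  · intro h x
    exact (isCMAt_over_field_iff p x).1 (AlgSp.locP_yon_map h x)
  · intro h
    exact locP_cm_of_cmLft _ ⟨‹_›, fun x => (isCMAt_over_field_iff p x).2 (h x)⟩

end OverField

end Groth.Agent.Lib.H14LocPCurve
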