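import Groth.Agent.Lib.H14AlgSpGorComp
import Groth.Agent.Lib.AlgSpQFBC91
import Groth.Agent.S3625

/-!
# Gorenstein morphisms of algebraic spaces at a point: base change (helper14)

* `gorensteinAt_baseChange`: the three base change statements (ascent; descent when `f` is flat at the point; descent
  when `g` is flat at the point) for `LocPAt IsGorensteinAt`, via `AlgSpQFBC91.exists_baseChange_chart`, the scheme
  statement `S3625` and chart independence (`H14AlgSpGorComp.locPAt_gor_iff`).
-/

set_option autoImplicit false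
set_option linter.style.haveILetI false
universe u
open CategoryTheory CategoryTheory.Limits AlgebraicGeometry Opposite

namespace Groth.Agent.Lib.H14AlgSpGorBC

open AlgSp Groth.Agent.Lib.AlgSpBasic Groth.Agent.Lib.H14AlgSpGorComp

variable {S : Scheme.{u}}

/-- **Base change** for Gorenstein morphisms of algebraic spaces at a point. -/
theorem gorensteinAt_baseChange {X Y X' Y' : Sp S} (hX : IsAlgSpace X) (hY : IsAlgSpace Y)
    (hX' : IsAlgSpace X') (hY' : IsAlgSpace Y')
    (f : X ⟶ Y) (g : Y' ⟶ Y) (g' : X' ⟶ X) (f' : X' ⟶ Y') (hsq : IsPullback g' f' f g)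
    (hf : ∀ (k : FieldPt Y) (Xk : Sp S) (a : Xk ⟶ X) (b : Xk ⟶ (yon S).obj k.pt),
        IsPullback a b f k.toHom → IsLocNoethSp Xk)
    (hg : LocP @LocallyOfFiniteType g) (x' : Points X') :
    (LocPAt (fun h u => Dual3.IsGorensteinAt h u) f (Points.map g' x') →
        LocPAt (fun h u => Dual3.IsGorensteinAt h u) f' x') ∧
      (IsFlatAtMor f (Points.map g' x') → LocPAt (fun h u => Dual3.IsGorensteinAt h u) f' x' →
        LocPAt (fun h u => Dual3.IsGorensteinAt h u) f (Points.map g' x')) ∧
      (IsFlatAtMor g (Points.map f' x') → LocPAt (fun h u => Dual3.IsGorensteinAt h u) f' x' →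
        LocPAt (fun h u => Dual3.IsGorensteinAt h u) f (Points.map g' x')) := by
  obtain ⟨U, V, U'', V'', a, c, a'', c'', h, h'', gU, gV, u'', ha, hc, ha'', hc'', hcf, hcf'', hab, hcg,
    sqA, rfl⟩ := Groth.Agent.Lib.AlgSpQFBC91.exists_baseChange_chart hX hY hX' hY' hsq x'
  have hl : LocallyOfFiniteType gV.left := hg c'' c gV hc'' hc hcg
  have hfib := isLocallyNoetherian_fiber_of_chart hY f hf a c ha hc h hcf
  have key := Groth.Agent.S3625.result U.left V.left U''.left V''.left h.left gV.left h''.left gU.left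
    sqA hfib u''
  have hpt : Points.map g' (Points.ofPt a'' u'') = Points.ofPt a (gU.left u'') := by
    rw [Points.map_ofPt, hab, Groth.Agent.Lib.AlgSpPoints.ofPt_yon_map_comp]
  have hpt' : Points.map f' (Points.ofPt a'' u'') = Points.ofPt c'' (h''.left u'') := by
    rw [Points.map_ofPt, hcf'', Groth.Agent.Lib.AlgSpPoints.ofPt_yon_map_comp]
  rw [hpt, hpt', locPAt_gor_iff f a c h ha hc hcf, locPAt_gor_iff f' a'' c'' h'' ha'' hc'' hcf'']
  refine ⟨key.1, fun Hfl => key.2.1 (Hfl a c h _ ha hc hcf rfl),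
    fun Hfl => key.2.2 (Hfl c'' c gV _ hc'' hc hcg rfl)⟩

end Groth.Agent.Lib.H14AlgSpGorBC
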