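import Groth.Agent.Lib.H14GorEtLocal
import Groth.Agent.Lib.AlgSpNear91
import Groth.Agent.Lib.WeaklyEtaleStalk61

/-!
# `Dual3.IsGorensteinAt` is étale local on source and target (helper14)

* `isGorensteinAt_iff_gorHomAt`, `isGorensteinAt_src`, `isGorensteinAt_tgt`.
* `etLocalAt_isGorensteinAt : AlgSpNear91.EtLocalAt (IsGorensteinAt)` (so chart independence
  `EtLocalAt.chart_indep` applies to `AlgSp.LocPAt IsGorensteinAt`).
-/

set_option autoImplicit false
set_option linter.style.haveILetI false
set_option linter.unusedSectionVars false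
universe u

open CategoryTheory CategoryTheory.Limits AlgebraicGeometry IsLocalRing

namespace Groth.Agent.Lib.H14GorEtLocal2

open Groth.Agent.Lib Groth.Agent.Lib.H14GorEtLocal

/-- `IsGorensteinAt` in terms of `GorHomAt` for the stalk map. -/
theorem isGorensteinAt_iff_gorHomAt {X Y : Scheme.{u}} (f : X ⟶ Y) (x : X) :
    Dual3.IsGorensteinAt f x ↔
      (letI := (f.stalkMap x).hom.toAlgebra
       GorHomAt (Y.presheaf.stalk (f x)) (X.presheaf.stalk x)) := by
  rw [Groth.Agent.S3627.isGorensteinAt_iff]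
  rfl

theorem isNoetherianRing_quotient_of_essFiniteType {B C : Type u} [CommRing B] [CommRing C]
    [Algebra B C] [Algebra.EssFiniteType B C] (I : Ideal B) (h : IsNoetherianRing (B ⧸ I)) :
    IsNoetherianRing (C ⧸ I.map (algebraMap B C)) :=
  Algebra.EssFiniteType.isNoetherianRing (B ⧸ I) _

/-- Étale-locality on the source. -/
theorem isGorensteinAt_src {P U V : Scheme.{u}} (e : P ⟶ U) (h : U ⟶ V) (p : P) [Etale e] :
    Dual3.IsGorensteinAt (e ≫ h) p ↔ Dual3.IsGorensteinAt h (e p) := by
  rw [isGorensteinAt_iff_gorHomAt, isGorensteinAt_iff_gorHomAt]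
  letI algAB : Algebra (V.presheaf.stalk (h (e p))) (U.presheaf.stalk (e p)) :=
    (h.stalkMap (e p)).hom.toAlgebra
  letI algBC : Algebra (U.presheaf.stalk (e p)) (P.presheaf.stalk p) :=
    (e.stalkMap p).hom.toAlgebra
  letI algAC : Algebra (V.presheaf.stalk (h (e p))) (P.presheaf.stalk p) :=
    ((e ≫ h).stalkMap p).hom.toAlgebra
  haveI : IsScalarTower (V.presheaf.stalk (h (e p))) (U.presheaf.stalk (e p))
      (P.presheaf.stalk p) := by
    refine IsScalarTower.of_algebraMap_eq' ?_
    change ((e ≫ h).stalkMap p).hom = ((e.stalkMap p).hom).comp ((h.stalkMap (e p)).hom)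
    rw [Scheme.Hom.stalkMap_comp]
    rfl
  haveI : IsLocalHom (algebraMap (V.presheaf.stalk (h (e p))) (U.presheaf.stalk (e p))) :=
    (inferInstance : IsLocalHom (h.stalkMap (e p)).hom)
  haveI : IsLocalHom (algebraMap (U.presheaf.stalk (e p)) (P.presheaf.stalk p)) :=
    (inferInstance : IsLocalHom (e.stalkMap p).hom)
  haveI : Module.Flat (U.presheaf.stalk (e p)) (P.presheaf.stalk p) := Flat.stalkMap e p
  haveI : Algebra.EssFiniteType (U.presheaf.stalk (e p)) (P.presheaf.stalk p) := by
    rw [← RingHom.essFiniteType_algebraMap, RingHom.algebraMap_toAlgebra]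
    exact LocallyOfFiniteType.stalkMap e p
  haveI : Algebra.FormallyUnramified (U.presheaf.stalk (e p)) (P.presheaf.stalk p) := by
    rw [← RingHom.formallyUnramified_algebraMap, RingHom.algebraMap_toAlgebra]
    exact FormallyUnramified.stalkMap e p
  have hm := Algebra.FormallyUnramified.map_maximalIdeal (R := U.presheaf.stalk (e p))
    (S := P.presheaf.stalk p)
  show @GorHomAt (V.presheaf.stalk (h (e p))) (P.presheaf.stalk p) _ _ _ algAC ↔
    @GorHomAt (V.presheaf.stalk (h (e p))) (U.presheaf.stalk (e p)) _ _ _ algAB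
  refine gorHomAt_src_iff hm (fun hB => ?_)
  have h2 := isNoetherianRing_quotient_of_essFiniteType (C := P.presheaf.stalk p) _ hB
  have hmap : ((maximalIdeal (V.presheaf.stalk (h (e p)))).map
      (algebraMap _ (U.presheaf.stalk (e p)))).map (algebraMap _ (P.presheaf.stalk p)) =
      (maximalIdeal (V.presheaf.stalk (h (e p)))).map (algebraMap _ (P.presheaf.stalk p)) := by
    rw [Ideal.map_map, ← IsScalarTower.algebraMap_eq]
  exact isNoetherianRing_of_ringEquiv _ (Ideal.quotEquivOfEq hmap)

/-- Étale-locality on the target. -/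
theorem isGorensteinAt_tgt {U V V' : Scheme.{u}} (h : U ⟶ V) (e : V ⟶ V') (u : U) [Etale e] :
    Dual3.IsGorensteinAt (h ≫ e) u ↔ Dual3.IsGorensteinAt h u := by
  rw [isGorensteinAt_iff_gorHomAt, isGorensteinAt_iff_gorHomAt]
  letI algA'A : Algebra (V'.presheaf.stalk (e (h u))) (V.presheaf.stalk (h u)) :=
    (e.stalkMap (h u)).hom.toAlgebra
  letI algAB : Algebra (V.presheaf.stalk (h u)) (U.presheaf.stalk u) :=
    (h.stalkMap u).hom.toAlgebra
  letI algA'B : Algebra (V'.presheaf.stalk (e (h u))) (U.presheaf.stalk u) :=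
    ((h ≫ e).stalkMap u).hom.toAlgebra
  haveI : IsScalarTower (V'.presheaf.stalk (e (h u))) (V.presheaf.stalk (h u))
      (U.presheaf.stalk u) := by
    refine IsScalarTower.of_algebraMap_eq' ?_
    change ((h ≫ e).stalkMap u).hom = ((h.stalkMap u).hom).comp ((e.stalkMap (h u)).hom)
    rw [Scheme.Hom.stalkMap_comp]
    rfl
  haveI : IsLocalHom (algebraMap (V'.presheaf.stalk (e (h u))) (V.presheaf.stalk (h u))) :=
    (inferInstance : IsLocalHom (e.stalkMap (h u)).hom)
  haveI : Algebra.EssFiniteType (V'.presheaf.stalk (e (h u))) (V.presheaf.stalk (h u)) := by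
    rw [← RingHom.essFiniteType_algebraMap, RingHom.algebraMap_toAlgebra]
    exact LocallyOfFiniteType.stalkMap e (h u)
  haveI : Algebra.FormallyUnramified (V'.presheaf.stalk (e (h u))) (V.presheaf.stalk (h u)) := by
    rw [← RingHom.formallyUnramified_algebraMap, RingHom.algebraMap_toAlgebra]
    exact FormallyUnramified.stalkMap e (h u)
  haveI : Algebra.WeaklyEtale (V'.presheaf.stalk (e (h u))) (V.presheaf.stalk (h u)) :=
    WeaklyEtaleStalk61.WE_stalkMap e inferInstance (h u)
  have hm := Algebra.FormallyUnramified.map_maximalIdeal (R := V'.presheaf.stalk (e (h u)))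
    (S := V.presheaf.stalk (h u))
  show @GorHomAt (V'.presheaf.stalk (e (h u))) (U.presheaf.stalk u) _ _ _ algA'B ↔
    @GorHomAt (V.presheaf.stalk (h u)) (U.presheaf.stalk u) _ _ _ algAB
  exact gorHomAt_tgt_iff hm

/-- `Dual3.IsGorensteinAt` is étale local on source and target. -/
theorem etLocalAt_isGorensteinAt :
    AlgSpNear91.EtLocalAt (fun (U V : Scheme.{u}) (h : U ⟶ V) (u : U) => Dual3.IsGorensteinAt h u) where
  src := fun _ _ _ e h p he => by
    haveI := he
    exact isGorensteinAt_src e h p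
  tgt := fun _ _ _ h e u he => by
    haveI := he
    exact isGorensteinAt_tgt h e u

end Groth.Agent.Lib.H14GorEtLocal2
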