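import Groth.Agent.Lib.AlgSpFibreChart36
import Groth.Agent.Lib.AlgSpDecentSpec
import Groth.Agent.Lib.H14GorEtLocal2
import Groth.Agent.S3627

/-!
# Gorenstein morphisms of algebraic spaces at a point: composition (helper14)

* `isLocallyNoetherian_fiber_of_chart`: if all fibres of `g : X ⟶ Z` over field points are locally Noetherian
  algebraic spaces, then all scheme fibres of the top arrow of any chart diagram of `g` are locally Noetherian.
* `exists_two_level_chart`: a global two-level chart of `X ⟶ Y ⟶ Z`.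
* `locPAt_gor_iff`: `LocPAt IsGorensteinAt f (ofPt a u)` can be tested on a single chart diagram.
* `gorensteinAt_comp`: composition / cancellation for Gorenstein morphisms at a point (Stacks 0E12-type).
-/

set_option autoImplicit false
set_option linter.style.haveILetI false
universe u
open CategoryTheory CategoryTheory.Limits AlgebraicGeometry Opposite

namespace Groth.Agent.Lib.H14AlgSpGorComp

open AlgSp Groth.Agent.Lib.AlgSpBasic

variable {S : Scheme.{u}}

/-- **Scheme fibres of chart arrows are locally Noetherian**: if every fibre of `g : X ⟶ Z` over a field point is a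
locally Noetherian algebraic space, then for every chart diagram `(a, c, k)` of `g` all scheme fibres of `k` are
locally Noetherian. -/
theorem isLocallyNoetherian_fiber_of_chart {X Z : Sp S} (hZ : IsAlgSpace Z) (g : X ⟶ Z)
    (hg : ∀ (k : FieldPt Z) (Xk : Sp S) (a : Xk ⟶ X) (b : Xk ⟶ (yon S).obj k.pt),
        IsPullback a b g k.toHom → IsLocNoethSp Xk)
    {U W : Over S} (a : (yon S).obj U ⟶ X) (c : (yon S).obj W ⟶ Z)
    (ha : RepWith @Etale a) (hc : RepWith @Etale c) (k : U ⟶ W)
    (comm : a ≫ g = (yon S).map k ≫ c) (w : ↥W.left) : IsLocallyNoetherian (k.left.fiber w) := by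
  set p : FieldPt Z := FieldPt.ofPt c w with hp
  let t : p.pt ⟶ W := Over.homMk (W.left.fromSpecResidueField w) rfl
  have hpt : p.toHom = (yon S).map t ≫ c := FieldPt.toHom_ofPt c w
  have sqP := IsPullback.of_hasPullback g p.toHom
  have hP : IsLocNoethSp (pullback g p.toHom) := hg p _ _ _ sqP
  let U' : Over S := Over.mk (k.left.fiberι w ≫ U.hom)
  let ι : U' ⟶ U := Over.homMk (k.left.fiberι w) rfl
  have hτ : k.left.fiberToSpecResidueField w ≫ p.pt.hom = U'.hom := by
    change k.left.fiberToSpecResidueField w ≫ W.left.fromSpecResidueField w ≫ W.hom =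
      k.left.fiberι w ≫ U.hom
    rw [← Category.assoc, ← Scheme.Hom.fiber_fac, Category.assoc, Over.w k]
  let τ : U' ⟶ p.pt := Over.homMk (k.left.fiberToSpecResidueField w) hτ
  have sqU : IsPullback ι.left τ.left k.left t.left :=
    IsPullback.of_hasPullback k.left (W.left.fromSpecResidueField w)
  have hw : τ ≫ t = ι ≫ k := by
    ext
    exact sqU.w.symm
  have hcond : ((yon S).map ι ≫ a) ≫ g = (yon S).map τ ≫ p.toHom := by
    rw [Category.assoc, comm, hpt, ← Category.assoc, ← Category.assoc, ← Functor.map_comp,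
      ← Functor.map_comp, hw]
  let a' : (yon S).obj U' ⟶ pullback g p.toHom := pullback.lift ((yon S).map ι ≫ a) ((yon S).map τ) hcond
  have h1 : a' ≫ pullback.fst g p.toHom = (yon S).map ι ≫ a := pullback.lift_fst _ _ _
  have h2 : a' ≫ pullback.snd g p.toHom = (yon S).map τ := pullback.lift_snd _ _ _
  have sqP' : IsPullback (pullback.fst g p.toHom) (pullback.snd g p.toHom) g ((yon S).map t ≫ c) := by
    rw [← hpt]; exact sqP
  have ha' : RepWith @Etale a' :=
    Groth.Agent.Lib.AlgSpFibreChart36.repWith_etale_fibre_chart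
      (fun _ a => hZ.representable_from_yon a) g a c ha hc k comm t sqP' ι τ sqU a' h1 h2
  exact Groth.Agent.Lib.AlgSpDecentSpec.isLocallyNoetherian_of_repWith_etale hP a' ha'

/-- A global two-level chart of `X ⟶ Y ⟶ Z`. -/
theorem exists_two_level_chart {X Y Z : Sp S} (hX : IsAlgSpace X) (hY : IsAlgSpace Y)
    (hZ : IsAlgSpace Z) (f : X ⟶ Y) (g : Y ⟶ Z) :
    ∃ (U V W : Over S) (a : (yon S).obj U ⟶ X) (b : (yon S).obj V ⟶ Y) (c : (yon S).obj W ⟶ Z)
      (k₁ : U ⟶ V) (k₂ : V ⟶ W), RepWith @Etale a ∧ RepWith @Surjective a ∧ RepWith @Etale b ∧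
      RepWith @Surjective b ∧ RepWith @Etale c ∧ RepWith @Surjective c ∧
      a ≫ f = (yon S).map k₁ ≫ b ∧ b ≫ g = (yon S).map k₂ ≫ c := by
  obtain ⟨W, c, hc, hcs⟩ := hZ.atlas
  obtain ⟨V, b, k₂, hb, hbs, comm₂, -⟩ :=
    Groth.Agent.Lib.AlgSpFibreChart36.exists_global_chart hY g c hc hcs
  obtain ⟨U, a, k₁, ha, has, comm₁, -⟩ :=
    Groth.Agent.Lib.AlgSpFibreChart36.exists_global_chart hX f b hb hbs
  exact ⟨U, V, W, a, b, c, k₁, k₂, ha, has, hb, hbs, hc, hcs, comm₁, comm₂⟩

/-- `LocPAt IsGorensteinAt` can be tested on one chart diagram through the point. -/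
theorem locPAt_gor_iff {X Y : Sp S} (f : X ⟶ Y) {U V : Over S} (a : (yon S).obj U ⟶ X)
    (b : (yon S).obj V ⟶ Y) (h : U ⟶ V) (ha : RepWith @Etale a) (hb : RepWith @Etale b)
    (hc : a ≫ f = (yon S).map h ≫ b) (u : ↥U.left) :
    LocPAt (fun h u => Dual3.IsGorensteinAt h u) f (Points.ofPt a u) ↔ Dual3.IsGorensteinAt h.left u := by
  constructor
  · intro H
    exact H a b h u ha hb hc rfl
  · intro H U' V' a' b' h' u' ha' hb' hc' hu'
    exact (Groth.Agent.Lib.H14GorEtLocal2.etLocalAt_isGorensteinAt.chart_indep f a b h a' b' h'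
      ha hb ha' hb' hc hc' u u' hu'.symm).1 H

/-- **Composition** for Gorenstein morphisms of algebraic spaces at a point. -/
theorem gorensteinAt_comp {X Y Z : Sp S} (hX : IsAlgSpace X) (hY : IsAlgSpace Y) (hZ : IsAlgSpace Z)
    (f : X ⟶ Y) (g : Y ⟶ Z)
    (hf : ∀ (k : FieldPt Y) (Xk : Sp S) (a : Xk ⟶ X) (b : Xk ⟶ (yon S).obj k.pt),
        IsPullback a b f k.toHom → IsLocNoethSp Xk)
    (hg : ∀ (k : FieldPt Z) (Xk : Sp S) (a : Xk ⟶ Y) (b : Xk ⟶ (yon S).obj k.pt),
        IsPullback a b g k.toHom → IsLocNoethSp Xk)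
    (hfg : ∀ (k : FieldPt Z) (Xk : Sp S) (a : Xk ⟶ X) (b : Xk ⟶ (yon S).obj k.pt),
        IsPullback a b (f ≫ g) k.toHom → IsLocNoethSp Xk)
    (x : Points X) :
    (LocPAt (fun h u => Dual3.IsGorensteinAt h u) f x →
      LocPAt (fun h u => Dual3.IsGorensteinAt h u) g (Points.map f x) →
        LocPAt (fun h u => Dual3.IsGorensteinAt h u) (f ≫ g) x) ∧
      (LocPAt (fun h u => Dual3.IsGorensteinAt h u) (f ≫ g) x → IsFlatAtMor f x →
        LocPAt (fun h u => Dual3.IsGorensteinAt h u) f x ∧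
          LocPAt (fun h u => Dual3.IsGorensteinAt h u) g (Points.map f x)) := by
  obtain ⟨U, V, W, a, b, c, k₁, k₂, ha, has, hb, hbs, hc, hcs, comm₁, comm₂⟩ :=
    exists_two_level_chart hX hY hZ f g
  obtain ⟨u, rfl⟩ := Groth.Agent.Lib.H86AlgSpPoints.ofPt_surjective has x
  have comm : a ≫ (f ≫ g) = (yon S).map (k₁ ≫ k₂) ≫ c := by
    rw [← Category.assoc, comm₁, Category.assoc, comm₂, Functor.map_comp, Category.assoc]
  have hpt : Points.map f (Points.ofPt a u) = Points.ofPt b (k₁.left u) := by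
    rw [Points.map_ofPt, comm₁, Groth.Agent.Lib.AlgSpPoints.ofPt_yon_map_comp]
  have h1 := isLocallyNoetherian_fiber_of_chart hY f hf a b ha hb k₁ comm₁
  have h2 := isLocallyNoetherian_fiber_of_chart hZ g hg b c hb hc k₂ comm₂
  have h3 := isLocallyNoetherian_fiber_of_chart hZ (f ≫ g) hfg a c ha hc (k₁ ≫ k₂) comm
  have key := Groth.Agent.S3627.result U.left V.left W.left k₁.left k₂.left h1 h2 h3 u
  rw [hpt, locPAt_gor_iff f a b k₁ ha hb comm₁ u, locPAt_gor_iff g b c k₂ hb hc comm₂ (k₁.left u),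
    locPAt_gor_iff (f ≫ g) a c (k₁ ≫ k₂) ha hc comm u]
  refine ⟨key.1, fun H Hfl => key.2 H ?_⟩
  exact Hfl a b k₁ u ha hb comm₁ rfl

end Groth.Agent.Lib.H14AlgSpGorComp
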