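import Groth.Agent.Lib.PushIso17
import Groth.Agent.Lib.KoszulIdeal

/-!
# Relative pseudo-coherence is local: moving between affine pairs (helper17)
-/

set_option autoImplicit false
universe u
open CategoryTheory CategoryTheory.Limits AlgebraicGeometry TopologicalSpace Opposite
attribute [local instance] HasDerivedCategory.standard

namespace Groth.Agent.Lib.RelPCLocal17

open Groth.Agent.Lib.PseudoCohTriangle Groth.Agent.Lib.PseudoCohSummand
  Groth.Agent.Lib.RelPCMorphism17 Groth.Agent.Lib.RelPCModule17 Groth.Agent.Lib.ClosedPushPC17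
  Groth.Agent.Lib.PerfectD Groth.Agent.Lib.RelPCQCoh17 Groth.Agent.Lib.RelPCChart17
  Groth.Agent.Lib.PushIso17 Groth.Agent.Lib.KRegImm

section KR

variable {D A A' : Scheme.{u}}

/-- An open immersion is a Koszul-regular immersion. -/
theorem isRegularImmersion_koszul_of_isOpenImmersion (i : D ⟶ A) [IsOpenImmersion i] :
    RegImm.IsRegularImmersion .koszul i := by
  rw [isRegularImmersion_koszul_iff]
  refine ⟨inferInstance, fun z => ?_⟩
  obtain ⟨_, ⟨U, hU, rfl⟩, hzU, hUle⟩ := A.isBasis_affineOpens.exists_subset_of_mem_open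
    (show i z ∈ (i.opensRange : Set A) from ⟨z, rfl⟩) i.opensRange.isOpen
  have hiso : IsIso (i ∣_ U) := by
    rw [isIso_iff_isOpenImmersion_and_epi_base]
    refine ⟨inferInstance, ?_⟩
    rw [TopCat.epi_iff_surjective]
    rintro ⟨y, hy⟩
    obtain ⟨w, rfl⟩ := hUle hy
    exact ⟨⟨w, hy⟩, Subtype.ext (morphismRestrict_base_coe i U ⟨w, hy⟩)⟩
  refine ⟨U, 0, hzU, hU, inferInstance, [], rfl,
    Groth.Agent.Lib.KoszulIdeal.isKoszulRegularSeq_nil, ?_⟩
  rw [Ideal.ofList_nil]
  haveI : IsIso (i.app U) := i.isIso_app U hUle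
  exact (RingHom.injective_iff_ker_eq_bot _).1
    (ConcreteCategory.bijective_of_isIso (i.app U)).injective

/-- The structure sheaf of a closed subscheme which maps by an open immersion to the base of a
smooth morphism is pseudo-coherent on the total space. -/
theorem pcMod_push_of_comp_smooth (ι : D ⟶ A') [IsClosedImmersion ι] (p : A' ⟶ A) [Smooth p]
    (i : D ⟶ A) [IsOpenImmersion i] (h : ι ≫ p = i) :
    PCMod ((Scheme.Modules.pushforward ι).obj (Coh.structureModule D)) := fun m =>
  Groth.Agent.Lib.PerfectIffPC.isPseudoCoherentD_of_isPerfect m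
    (Groth.Agent.Lib.PerfectClosedImm17.isPerfect_push_structureModule ι
      (Groth.Agent.Lib.KoszulImmPerfect.isPerfectMor_of_isRegularImmersion_koszul ι
        (isRegularImmersion_koszul_of_comp_smooth i ι p h
          (isRegularImmersion_koszul_of_isOpenImmersion i))))

end KR

section Restrict

open Groth.Agent.Lib.PseudoCohD

variable {X : Scheme.{u}}

/-- Pseudo-coherence restricts along arbitrary open immersions. -/
theorem isPseudoCoherentD_restrictD {m : ℤ} {K : DCoh.D X} (hK : DCoh.IsPseudoCoherentD m K)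
    {Y : Scheme.{u}} (j : Y ⟶ X) [IsOpenImmersion j] :
    DCoh.IsPseudoCoherentD m ((DCoh.restrictD j).obj K) := by
  apply isPseudoCoherentD_of_forall_pcOn
  intro y
  obtain ⟨V', hyV', hV'⟩ := (isPseudoCoherentD_iff_pcOn m K).1 hK (j y)
  let W : Y.Opens := j ⁻¹ᵁ V'
  have hyW : y ∈ W := hyV'
  refine ⟨W, W.ι, inferInstance, ⟨⟨y, hyW⟩, rfl⟩, ?_⟩
  rw [pcOn_restrictD_iff]
  have hsub : Set.range (W.ι ≫ j) ⊆ Set.range V'.ι := by
    rintro _ ⟨z, rfl⟩
    exact ⟨⟨_, z.2⟩, rfl⟩
  let e : (W : Scheme.{u}) ⟶ V' := IsOpenImmersion.lift V'.ι (W.ι ≫ j) hsub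
  have he : e ≫ V'.ι = W.ι ≫ j := IsOpenImmersion.lift_fac _ _ _
  have : IsOpenImmersion (e ≫ V'.ι) := by rw [he]; infer_instance
  have : IsOpenImmersion e := IsOpenImmersion.of_comp e V'.ι
  exact pcOn_comp hV' e _ he

/-- Pseudo-coherence can be checked on a cover by arbitrary open immersions. -/
theorem isPseudoCoherentD_of_forall_restrictD {m : ℤ} {K : DCoh.D X}
    (h : ∀ x : X, ∃ (Y : Scheme.{u}) (j : Y ⟶ X) (_ : IsOpenImmersion j),
      x ∈ Set.range j ∧ DCoh.IsPseudoCoherentD m ((DCoh.restrictD j).obj K)) :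
    DCoh.IsPseudoCoherentD m K := by
  apply isPseudoCoherentD_of_forall_pcOn
  intro x
  obtain ⟨Y, j, _, ⟨y, rfl⟩, hY⟩ := h x
  obtain ⟨W, hyW, hW⟩ := (isPseudoCoherentD_iff_pcOn m _).1 hY y
  rw [pcOn_restrictD_iff] at hW
  exact ⟨W, W.ι ≫ j, inferInstance, ⟨⟨y, hyW⟩, rfl⟩, hW⟩

end Restrict

section SpecObj

variable {X Y : Scheme.{u}}

/-- The restriction of `E` to an affine open `U`, transported to `Spec Γ(X, U)`. -/
noncomputable def specObj {U : X.Opens} (hU : IsAffineOpen U) (E : DCoh.D X) :
    DCoh.D (Spec Γ(X, U)) :=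
  (pushD hU.isoSpec.hom).obj ((DCoh.restrictD U.ι).obj E)

/-- `ChartPC` in terms of `specObj`. -/
theorem chartPC_iff_specObj (m : ℤ) (E : DCoh.D X) {U : X.Opens} (hU : IsAffineOpen U)
    (V : Y.Opens) {n : ℕ} (φ : MvPolynomial (Fin n) Γ(Y, V) →+* Γ(X, U))
    (hφ : Function.Surjective φ) :
    haveI : IsClosedImmersion (Spec.map (CommRingCat.ofHom φ)) :=
      IsClosedImmersion.spec_of_surjective _ hφ
    DerSch.ChartPC m E U V φ ↔
      DCoh.IsPseudoCoherentD m ((pushD (Spec.map (CommRingCat.ofHom φ))).obj (specObj hU E)) := by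
  haveI : IsClosedImmersion (Spec.map (CommRingCat.ofHom φ)) :=
    IsClosedImmersion.spec_of_surjective _ hφ
  haveI := isClosedImmersion_chartImm U hU φ hφ
  rw [chartPC_iff]
  have h : hU.isoSpec.hom ≫ Spec.map (CommRingCat.ofHom φ) = DerSch.chartImm U φ := by
    rw [hU.isoSpec_hom]
    rfl
  exact ⟨fun hE => isPseudoCoherentD_of_iso
      ((pushDCompIso hU.isoSpec.hom _ _ h).app ((DCoh.restrictD U.ι).obj E)).symm hE,
    fun hE => isPseudoCoherentD_of_iso
      ((pushDCompIso hU.isoSpec.hom _ _ h).app ((DCoh.restrictD U.ι).obj E)) hE⟩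

/-- Restricting `specObj` to a smaller affine open. -/
noncomputable def specObjRestrictIso {U W : X.Opens} (hU : IsAffineOpen U) (hW : IsAffineOpen W)
    (hWU : W ≤ U) [IsOpenImmersion (Spec.map (X.presheaf.map (homOfLE hWU).op))] (E : DCoh.D X) :
    (DCoh.restrictD (Spec.map (X.presheaf.map (homOfLE hWU).op))).obj (specObj hU E) ≅
      specObj hW E := by
  have hcomm : X.homOfLE hWU ≫ hU.isoSpec.hom =
      hW.isoSpec.hom ≫ Spec.map (X.presheaf.map (homOfLE hWU).op) := by
    rw [hU.isoSpec_hom, hW.isoSpec_hom]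
    exact (Scheme.Opens.toSpecΓ_SpecMap_presheaf_map W U hWU).symm
  have sq : IsPullback (X.homOfLE hWU) hW.isoSpec.hom hU.isoSpec.hom
      (Spec.map (X.presheaf.map (homOfLE hWU).op)) :=
    IsPullback.of_vert_isIso ⟨hcomm⟩
  exact baseChangeIso hU.isoSpec.hom _ hW.isoSpec.hom (X.homOfLE hWU) sq _ ≪≫
    (pushD hW.isoSpec.hom).mapIso
      ((restrictDCompIso (X.homOfLE hWU) U.ι W.ι (X.homOfLE_ι hWU)).app E)

end SpecObj

section ClaimB

variable {P Pg B'' : Type u} [CommRing P] [CommRing Pg] [CommRing B''] [Algebra P Pg] (g' : P)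
  [IsLocalization.Away g' Pg]

/-- `P[t] → P_g`, `t ↦ 1/g`. -/
noncomputable def invHom : MvPolynomial (Fin 1) P →+* Pg :=
  MvPolynomial.eval₂Hom (algebraMap P Pg) (fun _ => IsLocalization.Away.invSelf g')

theorem invHom_C (p : P) : invHom (Pg := Pg) g' (MvPolynomial.C p) = algebraMap P Pg p := by
  simp [invHom]

theorem invHom_X (i : Fin 1) :
    invHom (Pg := Pg) g' (MvPolynomial.X i) = IsLocalization.Away.invSelf g' := by
  simp [invHom]

theorem invHom_comp_C : (invHom (Pg := Pg) g').comp MvPolynomial.C = algebraMap P Pg :=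
  RingHom.ext fun p => invHom_C g' p

theorem invHom_surjective : Function.Surjective (invHom (Pg := Pg) g') := by
  intro y
  obtain ⟨n, a, ha⟩ := IsLocalization.Away.surj g' y
  refine ⟨MvPolynomial.C a * MvPolynomial.X 0 ^ n, ?_⟩
  rw [map_mul, map_pow, invHom_C, invHom_X, ← ha, mul_assoc, ← mul_pow,
    IsLocalization.Away.mul_invSelf, one_pow, mul_one]

/-- Enlarging the ring of a chart from a localization `P_g` to `P[t]` does not change the test. -/
theorem isPseudoCoherentD_invHom_iff (θ : Pg →+* B'') (hθ : Function.Surjective θ)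
    (K : DCoh.D (Spec (CommRingCat.of B''))) (m : ℤ) :
    haveI : IsClosedImmersion (Spec.map (CommRingCat.ofHom θ)) :=
      IsClosedImmersion.spec_of_surjective _ hθ
    haveI : IsClosedImmersion (Spec.map (CommRingCat.ofHom (θ.comp (invHom g')))) :=
      IsClosedImmersion.spec_of_surjective _ (hθ.comp (invHom_surjective g'))
    DCoh.IsPseudoCoherentD m ((pushD (Spec.map (CommRingCat.ofHom θ))).obj K) ↔
      DCoh.IsPseudoCoherentD m
        ((pushD (Spec.map (CommRingCat.ofHom (θ.comp (invHom g'))))).obj K) := by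
  haveI : IsClosedImmersion (Spec.map (CommRingCat.ofHom θ)) :=
    IsClosedImmersion.spec_of_surjective _ hθ
  haveI : IsClosedImmersion (Spec.map (CommRingCat.ofHom (θ.comp (invHom g')))) :=
    IsClosedImmersion.spec_of_surjective _ (hθ.comp (invHom_surjective g'))
  haveI : IsClosedImmersion (Spec.map (CommRingCat.ofHom (invHom (Pg := Pg) g'))) :=
    IsClosedImmersion.spec_of_surjective _ (invHom_surjective g')
  haveI : Smooth (Spec.map (CommRingCat.ofHom
      (MvPolynomial.C : P →+* MvPolynomial (Fin 1) P))) :=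
    (HasRingHomProperty.Spec_iff (P := @Smooth)).2 smooth_C
  haveI : IsOpenImmersion (Spec.map (CommRingCat.ofHom (algebraMap P Pg))) :=
    IsOpenImmersion.of_isLocalization g'
  have h1 : Spec.map (CommRingCat.ofHom (invHom (Pg := Pg) g')) ≫
      Spec.map (CommRingCat.ofHom (MvPolynomial.C : P →+* MvPolynomial (Fin 1) P)) =
      Spec.map (CommRingCat.ofHom (algebraMap P Pg)) := by
    rw [← Spec.map_comp, ← CommRingCat.ofHom_comp, invHom_comp_C]
  have h2 : Spec.map (CommRingCat.ofHom θ) ≫ Spec.map (CommRingCat.ofHom (invHom (Pg := Pg) g')) =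
      Spec.map (CommRingCat.ofHom (θ.comp (invHom g'))) := by
    rw [← Spec.map_comp, ← CommRingCat.ofHom_comp]
  exact isPseudoCoherentD_pushD_iff _ _ _ h2 (pcMod_push_of_comp_smooth _ _ _ h1) K m

end ClaimB

section ClaimA

variable {P B B' : Type u} [CommRing P] [CommRing B] [CommRing B'] (φ : P →+* B) [Algebra B B']
  (g' : P) [IsLocalization.Away (φ g') B']

/-- The map induced by `φ` on localizations. -/
noncomputable def awayHom : Localization.Away g' →+* B' :=
  IsLocalization.Away.lift g' (g := (algebraMap B B').comp φ)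
    (IsLocalization.Away.algebraMap_isUnit (φ g'))

theorem awayHom_comp :
    (awayHom (B' := B') φ g').comp (algebraMap P (Localization.Away g')) =
      (algebraMap B B').comp φ :=
  IsLocalization.Away.lift_comp _ _

theorem awayHom_surjective (hφ : Function.Surjective φ) :
    Function.Surjective (awayHom (B' := B') φ g') := by
  intro y
  obtain ⟨n, b, hb⟩ := IsLocalization.Away.surj (φ g') y
  obtain ⟨p, rfl⟩ := hφ b
  refine ⟨algebraMap P _ p * IsLocalization.Away.invSelf g' ^ n, ?_⟩
  have h1 : awayHom (B' := B') φ g' (algebraMap P _ p) = algebraMap B B' (φ p) :=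
    congr($(awayHom_comp φ g') p)
  have h2 : awayHom (B' := B') φ g' (algebraMap P _ g') = algebraMap B B' (φ g') :=
    congr($(awayHom_comp φ g') g')
  have h3 : algebraMap B B' (φ g') * awayHom (B' := B') φ g'
      (IsLocalization.Away.invSelf (S := Localization.Away g') g') = 1 := by
    rw [← h2, ← map_mul, IsLocalization.Away.mul_invSelf, map_one]
  have hu : IsUnit (algebraMap B B' (φ g')) := IsLocalization.Away.algebraMap_isUnit (φ g')
  rw [map_mul, map_pow, h1, ← hb]
  rw [mul_assoc, ← mul_pow, h3, one_pow, mul_one]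

theorem isPullback_spec_awayHom :
    IsPullback (Spec.map (CommRingCat.ofHom (algebraMap B B')))
      (Spec.map (CommRingCat.ofHom (awayHom (B' := B') φ g')))
      (Spec.map (CommRingCat.ofHom φ))
      (Spec.map (CommRingCat.ofHom (algebraMap P (Localization.Away g')))) := by
  apply isPullback_SpecMap_of_isPushout
  haveI : IsLocalization ((Submonoid.powers g').map φ) B' := by
    rw [Submonoid.map_powers]
    exact inferInstanceAs (IsLocalization.Away (φ g') B')
  exact CommRingCat.isPushout_of_isLocalization φ (awayHom φ g') (awayHom_comp φ g')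
    (Submonoid.powers g')

/-- The restriction of a direct image along `Spec φ` to the basic open `D(g)`. -/
noncomputable def restrictPushSpecIso (hφ : Function.Surjective φ)
    (K : DCoh.D (Spec (CommRingCat.of B))) :
    haveI : IsClosedImmersion (Spec.map (CommRingCat.ofHom φ)) :=
      IsClosedImmersion.spec_of_surjective _ hφ
    haveI : IsClosedImmersion (Spec.map (CommRingCat.ofHom (awayHom (B' := B') φ g'))) :=
      IsClosedImmersion.spec_of_surjective _ (awayHom_surjective φ g' hφ)
    haveI : IsOpenImmersion (Spec.map (CommRingCat.ofHom (algebraMap B B'))) :=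
      IsOpenImmersion.of_isLocalization (φ g')
    (DCoh.restrictD (Spec.map (CommRingCat.ofHom (algebraMap P (Localization.Away g'))))).obj
        ((pushD (Spec.map (CommRingCat.ofHom φ))).obj K) ≅
      (pushD (Spec.map (CommRingCat.ofHom (awayHom (B' := B') φ g')))).obj
        ((DCoh.restrictD (Spec.map (CommRingCat.ofHom (algebraMap B B')))).obj K) := by
  haveI : IsClosedImmersion (Spec.map (CommRingCat.ofHom φ)) :=
    IsClosedImmersion.spec_of_surjective _ hφ
  haveI : IsClosedImmersion (Spec.map (CommRingCat.ofHom (awayHom (B' := B') φ g'))) :=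
    IsClosedImmersion.spec_of_surjective _ (awayHom_surjective φ g' hφ)
  haveI : IsOpenImmersion (Spec.map (CommRingCat.ofHom (algebraMap B B'))) :=
    IsOpenImmersion.of_isLocalization (φ g')
  exact baseChangeIso _ _ _ _ (isPullback_spec_awayHom φ g') K

end ClaimA

section Enlarge

/-- Replacing the ring of a chart by a ring retracting smoothly onto it does not change the test
(on `Spec`). -/
theorem isPseudoCoherentD_specMap_comp_iff {P Q B'' : Type u} [CommRing P] [CommRing Q]
    [CommRing B''] (σ : P →+* Q) (ι : Q →+* P) (hι : ι.Smooth)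
    (hσι : σ.comp ι = RingHom.id Q) (θ : Q →+* B'') (hθ : Function.Surjective θ)
    (K : DCoh.D (Spec (CommRingCat.of B''))) (m : ℤ) :
    haveI : IsClosedImmersion (Spec.map (CommRingCat.ofHom θ)) :=
      IsClosedImmersion.spec_of_surjective _ hθ
    haveI : IsClosedImmersion (Spec.map (CommRingCat.ofHom (θ.comp σ))) :=
      IsClosedImmersion.spec_of_surjective _ (hθ.comp (fun q => ⟨ι q, congr($hσι q)⟩))
    DCoh.IsPseudoCoherentD m ((pushD (Spec.map (CommRingCat.ofHom θ))).obj K) ↔
      DCoh.IsPseudoCoherentD m ((pushD (Spec.map (CommRingCat.ofHom (θ.comp σ)))).obj K) := by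
  have hσ : Function.Surjective σ := fun q => ⟨ι q, congr($hσι q)⟩
  haveI : IsClosedImmersion (Spec.map (CommRingCat.ofHom θ)) :=
    IsClosedImmersion.spec_of_surjective _ hθ
  haveI : IsClosedImmersion (Spec.map (CommRingCat.ofHom (θ.comp σ))) :=
    IsClosedImmersion.spec_of_surjective _ (hθ.comp hσ)
  haveI : IsClosedImmersion (Spec.map (CommRingCat.ofHom σ)) :=
    IsClosedImmersion.spec_of_surjective _ hσ
  haveI : Smooth (Spec.map (CommRingCat.ofHom ι)) :=
    (HasRingHomProperty.Spec_iff (P := @Smooth)).2 hι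
  have h1 : Spec.map (CommRingCat.ofHom σ) ≫ Spec.map (CommRingCat.ofHom ι) = 𝟙 _ := by
    rw [← Spec.map_comp, ← CommRingCat.ofHom_comp, hσι]
    exact Spec.map_id _
  have h2 : Spec.map (CommRingCat.ofHom θ) ≫ Spec.map (CommRingCat.ofHom σ) =
      Spec.map (CommRingCat.ofHom (θ.comp σ)) := by
    rw [← Spec.map_comp, ← CommRingCat.ofHom_comp]
  exact isPseudoCoherentD_pushD_iff _ _ _ h2
    (pcMod_push_of_section _ (Spec.map (CommRingCat.ofHom ι)) h1) K m

variable (A : Type u) [CommRing A] (n : ℕ)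

/-- `A[x_0, …, x_n] ≃ A[x_1, …, x_n][t]`. -/
noncomputable def tauEquiv :
    MvPolynomial (Fin (1 + n)) A ≃ₐ[A] MvPolynomial (Fin 1) (MvPolynomial (Fin n) A) :=
  (MvPolynomial.renameEquiv A finSumFinEquiv).symm.trans
    (MvPolynomial.sumAlgEquiv A (Fin 1) (Fin n))

variable {A n} {Pg B'' : Type u} [CommRing Pg] [CommRing B''] [Algebra (MvPolynomial (Fin n) A) Pg]
  (g' : MvPolynomial (Fin n) A) [IsLocalization.Away g' Pg]

/-- The chart over `A` in one more variable obtained from a chart on a localization of the polynomial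
ring. -/
noncomputable def enlarge (θ : Pg →+* B'') : MvPolynomial (Fin (1 + n)) A →+* B'' :=
  (θ.comp (invHom g')).comp (tauEquiv A n).toRingEquiv.toRingHom

theorem enlarge_surjective (θ : Pg →+* B'') (hθ : Function.Surjective θ) :
    Function.Surjective (enlarge g' θ) :=
  (hθ.comp (invHom_surjective g')).comp (tauEquiv A n).surjective

theorem enlarge_C (θ : Pg →+* B'') (a : A) :
    enlarge g' θ (MvPolynomial.C a) =
      θ (algebraMap (MvPolynomial (Fin n) A) Pg (MvPolynomial.C a)) := by
  have h1 : (tauEquiv A n) (MvPolynomial.C a) = MvPolynomial.C (MvPolynomial.C a) :=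
    (tauEquiv A n).commutes a
  change θ (invHom g' ((tauEquiv A n) (MvPolynomial.C a))) = _
  rw [h1, invHom_C]

theorem isPseudoCoherentD_enlarge_iff (θ : Pg →+* B'') (hθ : Function.Surjective θ)
    (K : DCoh.D (Spec (CommRingCat.of B''))) (m : ℤ) :
    haveI : IsClosedImmersion (Spec.map (CommRingCat.ofHom θ)) :=
      IsClosedImmersion.spec_of_surjective _ hθ
    haveI : IsClosedImmersion (Spec.map (CommRingCat.ofHom (enlarge g' θ))) :=
      IsClosedImmersion.spec_of_surjective _ (enlarge_surjective g' θ hθ)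
    DCoh.IsPseudoCoherentD m ((pushD (Spec.map (CommRingCat.ofHom θ))).obj K) ↔
      DCoh.IsPseudoCoherentD m ((pushD (Spec.map (CommRingCat.ofHom (enlarge g' θ)))).obj K) := by
  let τ := (tauEquiv A n).toRingEquiv
  exact (isPseudoCoherentD_invHom_iff g' θ hθ K m).trans
    (isPseudoCoherentD_specMap_comp_iff τ.toRingHom τ.symm.toRingHom
      (RingHom.Smooth.of_bijective τ.symm.bijective)
      (RingHom.ext fun x => τ.apply_symm_apply x) (θ.comp (invHom g'))
      (hθ.comp (invHom_surjective g')) K m)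

end Enlarge

end Groth.Agent.Lib.RelPCLocal17
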