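import Groth.Agent.Lib.KoszulAtLCI
import Groth.Agent.Lib.RelPCLocal17
import Groth.Agent.S9729
import Groth.Prelude.Def_AlgSpMor6

/-!
# `LocP lci` for maps of representable sheaves (helper14)

* `isKoszulAt_of_smooth` : a smooth morphism is Koszul at every point.
* `locP_lci_yon_map_iff` : `AlgSp.IsLCIMor (h_g) ↔ ∀ x, Synt.IsKoszulAt g x` for every morphism `g`
  of schemes over `S` (composition with étale charts on the source, cancellation of étale
  (smooth) charts on the target: S9729).
-/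

set_option autoImplicit false
set_option linter.style.haveILetI false
universe u

open CategoryTheory CategoryTheory.Limits AlgebraicGeometry

namespace Groth.Agent.Lib.H14LocPLCI

/-- A smooth morphism is Koszul at every point. -/
theorem isKoszulAt_of_smooth {X Y : Scheme.{u}} (f : X ⟶ Y) [Smooth f] (x : X) :
    Synt.IsKoszulAt f x :=
  ⟨⊤, X, (⊤ : X.Opens).ι, f, trivial, inferInstance,
    Groth.Agent.Lib.RelPCLocal17.isRegularImmersion_koszul_of_isOpenImmersion _, inferInstance, rfl⟩

variable {S : Scheme.{u}}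

/-- `h_g` is a Koszul morphism (étale locally on charts) iff `g` is Koszul at every point. -/
theorem locP_lci_yon_map_iff {U V : Over S} (g : U ⟶ V) :
    AlgSp.IsLCIMor ((AlgSp.yon S).map g) ↔ ∀ x, Synt.IsKoszulAt g.left x := by
  refine ⟨fun h => AlgSp.locP_yon_map h, fun hg U' V' a b h ha hb comm => ?_⟩
  obtain ⟨a₀, rfl⟩ : ∃ a₀ : U' ⟶ U, (AlgSp.yon S).map a₀ = a :=
    ⟨(AlgSp.yon S).preimage a, (AlgSp.yon S).map_preimage a⟩
  obtain ⟨b₀, rfl⟩ : ∃ b₀ : V' ⟶ V, (AlgSp.yon S).map b₀ = b :=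
    ⟨(AlgSp.yon S).preimage b, (AlgSp.yon S).map_preimage b⟩
  have hae : Etale a₀.left := (AlgSp.repWith_yon_map_iff @Etale a₀).1 ha
  have hbe : Etale b₀.left := (AlgSp.repWith_yon_map_iff @Etale b₀).1 hb
  have e : a₀ ≫ g = h ≫ b₀ := by
    apply (AlgSp.yon S).map_injective
    rw [Functor.map_comp, Functor.map_comp]
    exact comm
  have e' : a₀.left ≫ g.left = h.left ≫ b₀.left := by
    rw [← Over.comp_left, e, Over.comp_left]
  have h1 : ∀ u, Synt.IsKoszulAt (a₀.left ≫ g.left) u := fun u =>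
    Groth.Agent.Lib.KoszulAtLCI.isKoszulAt_comp a₀.left g.left u (isKoszulAt_of_smooth a₀.left u)
      (hg _)
  rw [e'] at h1
  intro u
  exact Groth.Agent.S9729.result h.left b₀.left h1 u

end Groth.Agent.Lib.H14LocPLCI
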