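import Groth.Agent.Lib.H14KoszulEtLocal
import Groth.Agent.Lib.H14LocPLCI
import Groth.Agent.Lib.AlgSpBasic
import Groth.Agent.S9773

/-!
# Koszul (lci) morphisms of algebraic spaces (helper14)

* `locP_of_repLocT` : `RepLocT P f → LocP Q f` when étale followed by `P` is `Q`.
* `isLCIMor_of_isRegImmMor` (= S10665) : Koszul-regular immersions of algebraic spaces are lci.
* `bcObj`, `bcFst`, `bcSnd`, `bc_comm` : base change in `Over S` built from the pullback of schemes.
* `isLCIMor_of_comp_smooth` (= S10666) : `f ≫ q` lci, `q` smooth ⇒ `f` lci.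
* `isRegImmMor_of_lci_of_smooth` (= S10664) : an immersion of an étale `U ⟶ X` (X lci over Y) into a
  space smooth over `Y` is Koszul-regular.
-/

set_option autoImplicit false
set_option linter.style.haveILetI false
universe u

open CategoryTheory CategoryTheory.Limits AlgebraicGeometry

namespace Groth.Agent.Lib.H14AlgSpLCI

open Groth.Agent.Lib AlgSp

variable {S : Scheme.{u}}

/-- From `RepLocT P f` to `LocP Q f` when étale followed by `P` is `Q`. -/
theorem locP_of_repLocT (P Q : MorphismProperty Scheme.{u})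
    (hPQ : ∀ ⦃A B C : Scheme.{u}⦄ (l : A ⟶ B) (w : B ⟶ C), Etale l → P w → Q (l ≫ w))
    {X Y : Sp S} (hX : ∀ ⦃U : Over S⦄ (a : (yon S).obj U ⟶ X), Representable a) {f : X ⟶ Y}
    (hf : RepLocT P f) : LocP Q f := by
  intro U V a b h ha hb comm
  have hrep : Representable f := hf.1
  have sqW := hrep.isPullback b
  have hw : P (hrep.snd b).left := hf.2 b (hrep.fst b) (hrep.snd b) hb sqW
  have hfstb : RepWith @Etale (hrep.fst b) := AlgSpBasic.repWith_fst_of_isPullback _ sqW hb
  have e1 : hrep.lift a h comm ≫ hrep.snd b = h := hrep.lift_snd _ _ _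
  have e2 : (yon S).map (hrep.lift a h comm) ≫ hrep.fst b = a := hrep.lift_fst _ _ _
  have hl : Etale (hrep.lift a h comm).left :=
    AlgSpBasic.etale_of_comp_chart hX a (hrep.fst b) ha hfstb _ e2
  have e3 : h.left = (hrep.lift a h comm).left ≫ (hrep.snd b).left := by
    rw [← Over.comp_left, e1]
  rw [e3]
  exact hPQ _ _ hl hw

/-- = S10665. -/
theorem isLCIMor_of_isRegImmMor {X Y : AlgSp.Space S} (i : X ⟶ Y)
    (hi : AlgSp.IsRegImmMor RegImm.Kind.koszul i.hom) : AlgSp.IsLCIMor i.hom := by
  refine locP_of_repLocT (AlgSp.regImm .koszul) AlgSp.lci ?_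
    (fun _ a => X.property.representable_from_yon a) hi
  intro A B C l w hl hw x
  exact KoszulAtLCI.isKoszulAt_comp l w x (H14LocPLCI.isKoszulAt_of_smooth l x)
    (Groth.Agent.S9773.result w .koszul (Or.inr rfl) hw (l x))


/-- The base change in `Over S` of `h : U ⟶ V` along `s : V' ⟶ V`, built from the pullback of schemes. -/
noncomputable def bcObj {U V V' : Over S} (h : U ⟶ V) (s : V' ⟶ V) : Over S :=
  Over.mk (pullback.fst h.left s.left ≫ U.hom)

noncomputable def bcFst {U V V' : Over S} (h : U ⟶ V) (s : V' ⟶ V) : bcObj h s ⟶ U :=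
  Over.homMk (pullback.fst h.left s.left) rfl

noncomputable def bcSnd {U V V' : Over S} (h : U ⟶ V) (s : V' ⟶ V) : bcObj h s ⟶ V' :=
  Over.homMk (pullback.snd h.left s.left) (by
    show pullback.snd h.left s.left ≫ V'.hom = pullback.fst h.left s.left ≫ U.hom
    rw [← Over.w s, ← Over.w h, ← Category.assoc, ← Category.assoc, pullback.condition])

theorem bc_comm {U V V' : Over S} (h : U ⟶ V) (s : V' ⟶ V) : bcFst h s ≫ h = bcSnd h s ≫ s := by
  ext
  exact pullback.condition

/-- = S10666: cancellation of a smooth morphism for Koszul morphisms of algebraic spaces. -/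
theorem isLCIMor_of_comp_smooth {X Y Z : AlgSp.Space S} (f : X ⟶ Y) (p : X ⟶ Z) (q : Y ⟶ Z)
    (hc : f ≫ q = p) (hq : AlgSp.LocP @Smooth q.hom) (hp : AlgSp.IsLCIMor p.hom) :
    AlgSp.IsLCIMor f.hom := by
  intro U V a b h ha hb comm u
  obtain ⟨W, c, hce, hcs⟩ := Z.property.atlas
  let m : (yon S).obj V ⟶ Z.obj := b ≫ q.hom
  let V' : Over S := hce.rep.pullback m
  let s : V' ⟶ V := hce.rep.snd m
  have hsq : IsPullback (hce.rep.fst m) ((yon S).map s) c m := hce.rep.isPullback m
  have hse : Etale s.left := hce.property_snd m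
  have hss : Surjective s.left := hcs.property_snd m
  let g : V' ⟶ W := (yon S).preimage (hce.rep.fst m)
  have hg : (yon S).map g = hce.rep.fst m := (yon S).map_preimage _
  -- `g` is smooth
  have hsb : RepWith @Etale ((yon S).map s ≫ b) :=
    (RepWith @Etale).comp_mem _ _ ((repWith_yon_map_iff _ _).2 hse) hb
  have hgs : Smooth g.left := by
    refine hq ((yon S).map s ≫ b) c g hsb hce ?_
    rw [hg, Category.assoc]
    exact hsq.w.symm
  -- the base change of `h`
  let U' : Over S := bcObj h s
  let pr : U' ⟶ U := bcFst h s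
  let h' : U' ⟶ V' := bcSnd h s
  have hpre : Etale pr.left := inferInstanceAs (Etale (pullback.fst h.left s.left))
  have hpa : RepWith @Etale ((yon S).map pr ≫ a) :=
    (RepWith @Etale).comp_mem _ _ ((repWith_yon_map_iff _ _).2 hpre) ha
  have hpc : p.hom = f.hom ≫ q.hom := by
    rw [← hc]; rfl
  have h1 : ∀ x, Synt.IsKoszulAt (h' ≫ g).left x := by
    refine hp ((yon S).map pr ≫ a) c (h' ≫ g) hpa hce ?_
    rw [hpc, Category.assoc, ← Category.assoc a, comm, Category.assoc, ← Category.assoc,
      ← Functor.map_comp, bc_comm, Functor.map_comp, Functor.map_comp, Category.assoc,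
      Category.assoc, hg]
    congr 1
    exact hsq.w.symm
  have h2 : ∀ x, Synt.IsKoszulAt h'.left x := fun x =>
    Groth.Agent.S9729.result h'.left g.left h1 x
  exact H14KoszulEtLocal.isKoszulAt_of_etale_baseChange h.left s.left h'.left pr.left
    (IsPullback.of_hasPullback h.left s.left) h2 u (hss.surj _)

/-- = S10664: an immersion of a space étale over a Koszul `X ⟶ Y` into a space smooth over `Y` is
Koszul-regular. -/
theorem isRegImmMor_of_lci_of_smooth {X Y P U : AlgSp.Space S} (f : X ⟶ Y) (g : P ⟶ Y) (e : U ⟶ X)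
    (i : U ⟶ P) (hc : i ≫ g = e ≫ f) (hf : AlgSp.IsLCIMor f.hom) (hg : AlgSp.LocP @Smooth g.hom)
    (he : AlgSp.IsEtaleMor e.hom) (hi : AlgSp.RepWith @IsImmersion i.hom) :
    AlgSp.IsRegImmMor RegImm.Kind.koszul i.hom := by
  refine ⟨hi.rep, fun V W b fst snd hb sq => ?_⟩
  have himm : IsImmersion snd.left := hi.property b fst snd sq
  suffices hK : ∀ w, Synt.IsKoszulAt snd.left w by
    refine KRegImmSmooth.isRegularImmersion_of_isKoszulAt snd.left (𝟙 V.left) ?_
    rw [Category.comp_id]
    exact hK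
  intro w
  obtain ⟨T, c, hce, hcs⟩ := Y.property.atlas
  let m : (yon S).obj V ⟶ Y.obj := b ≫ g.hom
  let V' : Over S := hce.rep.pullback m
  let s : V' ⟶ V := hce.rep.snd m
  have hsq : IsPullback (hce.rep.fst m) ((yon S).map s) c m := hce.rep.isPullback m
  have hse : Etale s.left := hce.property_snd m
  have hss : Surjective s.left := hcs.property_snd m
  let gT : V' ⟶ T := (yon S).preimage (hce.rep.fst m)
  have hgT : (yon S).map gT = hce.rep.fst m := (yon S).map_preimage _
  have hsb : RepWith @Etale ((yon S).map s ≫ b) :=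
    (RepWith @Etale).comp_mem _ _ ((repWith_yon_map_iff _ _).2 hse) hb
  have hgs : Smooth gT.left := by
    refine hg ((yon S).map s ≫ b) c gT hsb hce ?_
    rw [hgT, Category.assoc]
    exact hsq.w.symm
  let W' : Over S := bcObj snd s
  let pr : W' ⟶ W := bcFst snd s
  let snd' : W' ⟶ V' := bcSnd snd s
  have hpre : Etale pr.left := inferInstanceAs (Etale (pullback.fst snd.left s.left))
  have hfst : RepWith @Etale fst := AlgSpBasic.repWith_fst_of_isPullback _ sq hb
  have hφ : RepWith @Etale ((yon S).map pr ≫ fst) :=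
    (RepWith @Etale).comp_mem _ _ ((repWith_yon_map_iff _ _).2 hpre) hfst
  have hφe : RepWith @Etale (((yon S).map pr ≫ fst) ≫ e.hom) := he _ hφ
  have hcc : i.hom ≫ g.hom = e.hom ≫ f.hom := by
    have := congrArg (fun k => k.hom) hc
    exact this
  have h1 : ∀ x, Synt.IsKoszulAt (snd' ≫ gT).left x := by
    refine hf (((yon S).map pr ≫ fst) ≫ e.hom) c (snd' ≫ gT) hφe hce ?_
    rw [Category.assoc, Category.assoc, ← hcc, ← Category.assoc fst, sq.w, Category.assoc,
      ← Category.assoc, ← Functor.map_comp, bc_comm, Functor.map_comp, Functor.map_comp,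
      Category.assoc, Category.assoc, hgT]
    congr 1
    exact hsq.w.symm
  have h2 : ∀ x, Synt.IsKoszulAt snd'.left x := fun x =>
    Groth.Agent.S9729.result snd'.left gT.left h1 x
  exact H14KoszulEtLocal.isKoszulAt_of_etale_baseChange snd.left s.left snd'.left pr.left
    (IsPullback.of_hasPullback snd.left s.left) h2 w (hss.surj _)

end Groth.Agent.Lib.H14AlgSpLCI
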