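import Mathlib

open MvPolynomial

namespace Groth.Agent.Lib.KoszulPoly67

variable {R : Type*} [CommRing R] {c : ℕ}

/-- `a` is the least index in the support of `β`. -/
def Piv (β : Fin c →₀ ℕ) (a : Fin c) : Prop := β a ≠ 0 ∧ ∀ b, b < a → β b = 0

instance (β : Fin c →₀ ℕ) (a : Fin c) : Decidable (Piv β a) := by unfold Piv; infer_instance

theorem piv_unique {β : Fin c →₀ ℕ} {a b : Fin c} (ha : Piv β a) (hb : Piv β b) : a = b := by
  rcases lt_trichotomy a b with h | h | h
  · exact absurd (hb.2 a h) ha.1
  · exact h
  · exact absurd (ha.2 b h) hb.1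

theorem exists_piv {β : Fin c →₀ ℕ} (hβ : β ≠ 0) : ∃ a, Piv β a := by
  have hne : β.support.Nonempty := by
    rwa [Finsupp.support_nonempty_iff]
  refine ⟨β.support.min' hne, ?_, ?_⟩
  · exact Finsupp.mem_support_iff.1 (Finset.min'_mem _ hne)
  · intro b hb
    by_contra h
    have : b ∈ β.support := Finsupp.mem_support_iff.2 h
    exact absurd (Finset.min'_le _ b this) (not_le.2 hb)

theorem piv_le {β : Fin c →₀ ℕ} {a b : Fin c} (ha : Piv β a) (hb : β b ≠ 0) : a ≤ b := by
  by_contra h
  exact hb (ha.2 b (not_le.1 h))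

/-- the "division by the pivot variable" operator. -/
noncomputable def D (a : Fin c) : MvPolynomial (Fin c) R →ₗ[R] MvPolynomial (Fin c) R :=
  (basisMonomials (Fin c) R).constr R
    (fun β => if Piv β a then monomial (β - Finsupp.single a 1) 1 else 0)

theorem D_monomial (a : Fin c) (β : Fin c →₀ ℕ) (r : R) :
    D a (monomial β r) = if Piv β a then monomial (β - Finsupp.single a 1) r else 0 := by
  have h : monomial β r = r • (basisMonomials (Fin c) R β) := by
    simp [smul_monomial]
  rw [h, map_smul, D, Module.Basis.constr_basis]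
  split_ifs <;> simp [smul_monomial]

theorem single_le_of_piv {β : Fin c →₀ ℕ} {a : Fin c} (h : Piv β a) : Finsupp.single a 1 ≤ β := by
  intro x
  by_cases hx : x = a
  · subst hx; simpa using Nat.one_le_iff_ne_zero.2 h.1
  · simp [Ne.symm hx]

theorem X_mul_monomial_sub {β : Fin c →₀ ℕ} {a : Fin c} (h : Piv β a) (r : R) :
    X a * monomial (β - Finsupp.single a 1) r = monomial β r := by
  rw [X, monomial_mul, one_mul, add_tsub_cancel_of_le (single_le_of_piv h)]

theorem sum_ite_X_mul_D_monomial (φ : Fin c → Prop) [DecidablePred φ] {β : Fin c →₀ ℕ} {p : Fin c}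
    (hp : Piv β p) (r : R) :
    ∑ a, (if φ a then X a * D a (monomial β r) else 0) = if φ p then monomial β r else 0 := by
  rw [Finset.sum_eq_single p]
  · rw [D_monomial, if_pos hp, X_mul_monomial_sub hp]
  · intro b _ hb
    have : ¬ Piv β b := fun h => hb (piv_unique h hp)
    rw [D_monomial, if_neg this, mul_zero, ite_self]
  · intro h; exact absurd (Finset.mem_univ p) h

theorem X_mul_monomial' (i : Fin c) (β : Fin c →₀ ℕ) (r : R) :
    X i * monomial β r = monomial (Finsupp.single i 1 + β) r := by
  rw [X, monomial_mul, one_mul]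

theorem piv_single_add_self (i : Fin c) (β : Fin c →₀ ℕ) :
    Piv (Finsupp.single i 1 + β) i ↔ ∀ b, b < i → β b = 0 := by
  constructor
  · intro h b hb
    have := h.2 b hb
    simpa [Finsupp.single_apply, (ne_of_lt hb).symm] using this
  · intro h
    refine ⟨by simp, fun b hb => ?_⟩
    simp [(ne_of_lt hb).symm, h b hb]

/-- decomposition of a polynomial according to the least variable, with threshold `i`. -/
theorem decomp_lt (Q : MvPolynomial (Fin c) R) (i : Fin c) :
    Q = ∑ a, (if a < i then X a * D a Q else 0) + D i (X i * Q) := by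
  induction Q using MvPolynomial.induction_on' with
  | monomial β r =>
    rw [X_mul_monomial', D_monomial]
    by_cases h : ∀ b, b < i → β b = 0
    · rw [if_pos ((piv_single_add_self i β).2 h), add_tsub_cancel_left]
      rw [Finset.sum_eq_zero, zero_add]
      intro a _
      split_ifs with ha
      · have : ¬ Piv β a := fun hp => hp.1 (h a ha)
        rw [D_monomial, if_neg this, mul_zero]
      · rfl
    · rw [if_neg (fun hp => h ((piv_single_add_self i β).1 hp)), add_zero]
      push Not at h
      obtain ⟨b, hb, hb0⟩ := h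
      have hβ : β ≠ 0 := fun h0 => hb0 (by simp [h0])
      obtain ⟨p, hp⟩ := exists_piv hβ
      rw [sum_ite_X_mul_D_monomial (fun a => a < i) hp, if_pos (lt_of_le_of_lt (piv_le hp hb0) hb)]
  | add p q hp hq =>
    have : ∀ a, (if a < i then X a * D a (p + q) else 0) =
        (if a < i then X a * D a p else 0) + (if a < i then X a * D a q else 0) := by
      intro a; split_ifs <;> simp [mul_add]
    simp only [this, Finset.sum_add_distrib]
    rw [mul_add, map_add]
    nth_rewrite 1 [hp, hq]
    abel

/-- decomposition of a polynomial according to the least variable. -/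
theorem decomp (Q : MvPolynomial (Fin c) R) :
    Q = ∑ a, X a * D a Q + C (coeff 0 Q) := by
  induction Q using MvPolynomial.induction_on' with
  | monomial β r =>
    by_cases hβ : β = 0
    · subst hβ
      rw [Finset.sum_eq_zero, zero_add]
      · simp
      · intro a _
        have : ¬ Piv (0 : Fin c →₀ ℕ) a := fun hp => hp.1 rfl
        rw [D_monomial, if_neg this, mul_zero]
    · obtain ⟨p, hp⟩ := exists_piv hβ
      have := sum_ite_X_mul_D_monomial (fun _ => True) hp r
      simp only [if_true] at this
      rw [this, coeff_monomial, if_neg hβ, map_zero, add_zero]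
  | add p q hp hq =>
    simp only [mul_add, map_add, Finset.sum_add_distrib, coeff_add]
    nth_rewrite 1 [hp, hq]
    abel

theorem D_X_mul_of_lt {i b : Fin c} (h : i < b) (Q : MvPolynomial (Fin c) R) :
    D i (X b * Q) = X b * D i Q := by
  induction Q using MvPolynomial.induction_on' with
  | monomial β r =>
    rw [X_mul_monomial', D_monomial, D_monomial]
    have hiff : Piv (Finsupp.single b 1 + β) i ↔ Piv β i := by
      unfold Piv
      have h1 : (Finsupp.single b 1 + β : Fin c →₀ ℕ) i = β i := by
        simp [(ne_of_lt h).symm]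
      have h2 : ∀ x, x < i → (Finsupp.single b 1 + β : Fin c →₀ ℕ) x = β x := by
        intro x hx
        simp [(ne_of_lt (lt_trans hx h)).symm]
      rw [h1]
      constructor
      · rintro ⟨ha, hb⟩; exact ⟨ha, fun x hx => (h2 x hx) ▸ hb x hx⟩
      · rintro ⟨ha, hb⟩; exact ⟨ha, fun x hx => (h2 x hx).symm ▸ hb x hx⟩
    by_cases hp : Piv β i
    · rw [if_pos (hiff.2 hp), if_pos hp, X_mul_monomial',
        add_tsub_assoc_of_le (single_le_of_piv hp)]
    · rw [if_neg (fun h' => hp (hiff.1 h')), if_neg hp, mul_zero]
  | add p q hp hq => simp only [mul_add, map_add, hp, hq]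

theorem D_X_mul_of_gt {i b : Fin c} (h : b < i) (Q : MvPolynomial (Fin c) R) :
    D i (X b * Q) = 0 := by
  induction Q using MvPolynomial.induction_on' with
  | monomial β r =>
    rw [X_mul_monomial', D_monomial, if_neg]
    intro hp
    have := hp.2 b h
    simp at this
  | add p q hp hq => simp only [mul_add, map_add, hp, hq, add_zero]

theorem D_mem_map_C {K : Ideal R} (a : Fin c) {Q : MvPolynomial (Fin c) R}
    (hQ : Q ∈ Ideal.map (C : R →+* MvPolynomial (Fin c) R) K) :
    D a Q ∈ Ideal.map (C : R →+* MvPolynomial (Fin c) R) K := by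
  rw [← Q.support_sum_monomial_coeff, map_sum]
  refine Ideal.sum_mem _ fun β _ => ?_
  rw [D_monomial]
  split_ifs
  · rw [mem_map_C_iff]
    intro d
    rw [coeff_monomial]
    split_ifs
    · exact (mem_map_C_iff.1 hQ β)
    · exact K.zero_mem
  · exact zero_mem _

theorem D_isHomogeneous (a : Fin c) {Q : MvPolynomial (Fin c) R} {m : ℕ}
    (hQ : Q.IsHomogeneous (m + 1)) : (D a Q).IsHomogeneous m := by
  rw [← Q.support_sum_monomial_coeff, map_sum]
  refine IsHomogeneous.sum _ _ _ fun β hβ => ?_
  rw [D_monomial]
  split_ifs with hp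
  · apply isHomogeneous_monomial
    have h1 : β.degree = m + 1 := by
      rw [Finsupp.degree_eq_weight_one]
      exact hQ (mem_support_iff.1 hβ)
    have h2 : β = Finsupp.single a 1 + (β - Finsupp.single a 1) :=
      (add_tsub_cancel_of_le (single_le_of_piv hp)).symm
    rw [h2, map_add, Finsupp.degree_single] at h1
    omega
  · exact isHomogeneous_zero _ _ _

/-- explicit exactness of the Koszul complex of the variables at `Λ¹`. -/
theorem k1 (W : Fin c → MvPolynomial (Fin c) R) (hW : ∑ i, X i * W i = 0) (i : Fin c) :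
    W i = ∑ j, ((if j < i then D j (W i) else 0) - (if i < j then D i (W j) else 0)) * X j := by
  have h1 := decomp_lt (W i) i
  have h2 : X i * W i = - ∑ b ∈ Finset.univ.erase i, X b * W b := by
    rw [← Finset.add_sum_erase _ _ (Finset.mem_univ i)] at hW
    exact eq_neg_of_add_eq_zero_left hW
  have h3 : D i (X i * W i) = - ∑ b, (if i < b then X b * D i (W b) else 0) := by
    rw [h2, map_neg, map_sum]
    congr 1
    rw [← Finset.sum_erase (Finset.univ) (a := i) (f := fun b => if i < b then X b * D i (W b) else 0)
      (by simp)]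
    refine Finset.sum_congr rfl fun b hb => ?_
    have hbi : b ≠ i := Finset.ne_of_mem_erase hb
    rcases lt_or_gt_of_ne hbi with h | h
    · rw [D_X_mul_of_gt h, if_neg (not_lt.2 h.le)]
    · rw [D_X_mul_of_lt h, if_pos h]
  rw [h3] at h1
  nth_rewrite 1 [h1]
  rw [← sub_eq_add_neg, ← Finset.sum_sub_distrib]
  refine Finset.sum_congr rfl fun j _ => ?_
  split_ifs <;> ring

end Groth.Agent.Lib.KoszulPoly67
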