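import Mathlib
import Groth.Agent.S2103
import Groth.Agent.Lib.QuasiReg97

open MvPolynomial

namespace Groth.Agent.Lib.QuasiRegAppend67

variable {A : Type*} [CommRing A] {n m : ℕ}

/-- the `X`-part of a multi-index in `n+m` variables. -/
noncomputable def lft (μ : Fin (n + m) →₀ ℕ) : Fin n →₀ ℕ :=
  Finsupp.equivFunOnFinite.symm (fun i => μ (Fin.castAdd m i))

/-- the `Y`-part of a multi-index in `n+m` variables. -/
noncomputable def rgt (μ : Fin (n + m) →₀ ℕ) : Fin m →₀ ℕ :=
  Finsupp.equivFunOnFinite.symm (fun j => μ (Fin.natAdd n j))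

/-- concatenation of multi-indices. -/
noncomputable def jn (α : Fin n →₀ ℕ) (β : Fin m →₀ ℕ) : Fin (n + m) →₀ ℕ :=
  Finsupp.equivFunOnFinite.symm (Fin.append (α : Fin n → ℕ) (β : Fin m → ℕ))

@[simp] theorem lft_apply (μ : Fin (n + m) →₀ ℕ) (i : Fin n) : lft μ i = μ (Fin.castAdd m i) := rfl
@[simp] theorem rgt_apply (μ : Fin (n + m) →₀ ℕ) (j : Fin m) : rgt μ j = μ (Fin.natAdd n j) := rfl
@[simp] theorem jn_castAdd (α : Fin n →₀ ℕ) (β : Fin m →₀ ℕ) (i : Fin n) :
    jn α β (Fin.castAdd m i) = α i := by simp [jn]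
@[simp] theorem jn_natAdd (α : Fin n →₀ ℕ) (β : Fin m →₀ ℕ) (j : Fin m) :
    jn α β (Fin.natAdd n j) = β j := by simp [jn]

@[simp] theorem lft_jn (α : Fin n →₀ ℕ) (β : Fin m →₀ ℕ) : lft (jn α β) = α := by
  ext i; simp
@[simp] theorem rgt_jn (α : Fin n →₀ ℕ) (β : Fin m →₀ ℕ) : rgt (jn α β) = β := by
  ext j; simp
@[simp] theorem jn_lft_rgt (μ : Fin (n + m) →₀ ℕ) : jn (lft μ) (rgt μ) = μ := by
  ext i
  refine Fin.addCases (fun i => ?_) (fun j => ?_) i <;> simp

theorem eq_jn_iff (μ : Fin (n + m) →₀ ℕ) (α : Fin n →₀ ℕ) (β : Fin m →₀ ℕ) :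
    μ = jn α β ↔ lft μ = α ∧ rgt μ = β := by
  constructor
  · rintro rfl; simp
  · rintro ⟨rfl, rfl⟩; simp

theorem degree_eq (μ : Fin (n + m) →₀ ℕ) : μ.degree = (lft μ).degree + (rgt μ).degree := by
  simp only [Finsupp.degree_eq_sum, Fin.sum_univ_add, lft_apply, rgt_apply]

/-- rewriting a polynomial in `n+m` variables as a polynomial in the last `m` variables with
coefficients polynomials in the first `n` variables (only as a linear map). -/
noncomputable def θ : MvPolynomial (Fin (n + m)) A →ₗ[A]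
    MvPolynomial (Fin m) (MvPolynomial (Fin n) A) :=
  (basisMonomials (Fin (n + m)) A).constr A
    (fun μ => monomial (rgt μ) (monomial (lft μ) (1 : A)))

theorem θ_monomial (μ : Fin (n + m) →₀ ℕ) (r : A) :
    θ (monomial μ r) = monomial (rgt μ) (monomial (lft μ) r) := by
  have h : monomial μ r = r • (basisMonomials (Fin (n + m)) A μ) := by
    simp [smul_monomial]
  rw [h, map_smul, θ, Module.Basis.constr_basis, smul_monomial, smul_monomial, smul_eq_mul, mul_one]

theorem coeff_θ (P : MvPolynomial (Fin (n + m)) A) (α : Fin n →₀ ℕ) (β : Fin m →₀ ℕ) :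
    coeff α (coeff β (θ P)) = coeff (jn α β) P := by
  classical
  induction P using MvPolynomial.induction_on' with
  | monomial μ r =>
    rw [θ_monomial, coeff_monomial, coeff_monomial]
    by_cases h : μ = jn α β
    · subst h; simp
    · rw [if_neg h]
      rw [eq_jn_iff] at h
      by_cases h2 : rgt μ = β
      · rw [if_pos h2, coeff_monomial, if_neg (fun h1 => h ⟨h1, h2⟩)]
      · rw [if_neg h2, coeff_zero]
  | add p q hp hq => simp only [map_add, coeff_add, hp, hq]

theorem eval_θ (f : Fin n → A) (g : Fin m → A) (P : MvPolynomial (Fin (n + m)) A) :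
    eval g (map (eval f) (θ P)) = eval (Fin.append f g) P := by
  induction P using MvPolynomial.induction_on' with
  | monomial μ r =>
    rw [θ_monomial, map_monomial, eval_monomial, eval_monomial, eval_monomial,
      Finsupp.prod_fintype _ _ (fun _ => pow_zero _), Finsupp.prod_fintype _ _ (fun _ => pow_zero _),
      Finsupp.prod_fintype _ _ (fun _ => pow_zero _), Fin.prod_univ_add]
    simp only [Fin.append_left, Fin.append_right, lft_apply, rgt_apply]
    ring
  | add p q hp hq => simp only [map_add, hp, hq]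

omit [CommRing A] in
theorem range_append (f : Fin n → A) (g : Fin m → A) :
    Set.range (Fin.append f g) = Set.range f ∪ Set.range g := by
  ext x
  constructor
  · rintro ⟨i, rfl⟩
    refine Fin.addCases (fun i => ?_) (fun j => ?_) i
    · left; exact ⟨i, by simp⟩
    · right; exact ⟨j, by simp⟩
  · rintro (⟨i, rfl⟩ | ⟨j, rfl⟩)
    · exact ⟨Fin.castAdd m i, by simp⟩
    · exact ⟨Fin.natAdd n j, by simp⟩

theorem span_range_append (f : Fin n → A) (g : Fin m → A) :
    Ideal.span (Set.range (Fin.append f g)) =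
      Ideal.span (Set.range f) ⊔ Ideal.span (Set.range g) := by
  rw [range_append, Ideal.span_union]

theorem sup_pow_succ_le (I J : Ideal A) (a b : ℕ) :
    (I ⊔ J) ^ (a + b + 1) ≤ I ^ (a + 1) ⊔ J ^ (b + 1) := by
  rw [← Ideal.add_eq_sup, ← Ideal.add_eq_sup, add_pow, Ideal.sum_eq_sup]
  apply Finset.sup_le
  intro i hi
  by_cases hn : a + 1 ≤ i
  · exact (Ideal.mul_le_left.trans (Ideal.mul_le_left.trans
      ((Ideal.pow_le_pow_right hn).trans le_sup_left)))
  · refine (Ideal.mul_le_left.trans (Ideal.mul_le_right.trans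
      ((Ideal.pow_le_pow_right ?_).trans le_sup_right)))
    have := Finset.mem_range.1 hi
    omega

open Groth.Agent.Lib.QuasiReg97

section HR

variable (f : Fin n → A) (g : Fin m → A)

/-- `H_1`-regularity of `g` modulo the `k`-th power of `(f)`. -/
def HR (k : ℕ) : Prop :=
  ∀ u : Fin m → A, ∑ j, u j * g j ∈ Ideal.span (Set.range f) ^ k →
    ∃ B : Fin m → Fin m → A,
      ∀ j, u j - ∑ l, (B j l - B l j) * g l ∈ Ideal.span (Set.range f) ^ k

theorem sum_mul_alt (B : Fin m → Fin m → A) :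
    ∑ j, (∑ l, (B j l - B l j) * g l) * g j = 0 := by
  simp only [Finset.sum_mul, sub_mul, Finset.sum_sub_distrib]
  rw [sub_eq_zero]
  nth_rewrite 2 [Finset.sum_comm]
  refine Finset.sum_congr rfl fun i _ => Finset.sum_congr rfl fun j _ => ?_
  ring

theorem hr_zero : HR f g 0 := by
  intro u _
  exact ⟨0, fun j => by simp⟩

theorem hr_one
    (hg : CAlgX.IsH1Regular (fun j => Ideal.Quotient.mk (Ideal.span (Set.range f)) (g j))) :
    HR f g 1 := by
  intro u hu
  rw [pow_one] at hu
  set J := Ideal.span (Set.range f) with hJ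
  have h0 : ∑ j, (Ideal.Quotient.mk J (u j)) * (Ideal.Quotient.mk J (g j)) = 0 := by
    simp only [← map_mul, ← map_sum]
    exact Ideal.Quotient.eq_zero_iff_mem.2 hu
  obtain ⟨Bb, hBb⟩ := Groth.Agent.S2103.exists_alt _ hg (fun j => Ideal.Quotient.mk J (u j)) h0
  choose B hB using fun j l => Ideal.Quotient.mk_surjective (Bb j l)
  refine ⟨B, fun j => ?_⟩
  rw [pow_one, ← Ideal.Quotient.eq_zero_iff_mem, map_sub, map_sum, hBb j, sub_eq_zero]
  refine Finset.sum_congr rfl fun l _ => ?_
  rw [map_mul, map_sub, hB, hB]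

theorem prod_pow_mem (α : Fin n →₀ ℕ) :
    ∏ i, f i ^ α i ∈ Ideal.span (Set.range f) ^ α.degree := by
  have h1 : ∏ i, f i ^ α i ∈ ∏ i : Fin n, Ideal.span (Set.range f) ^ α i :=
    Ideal.prod_mem_prod fun i _ => Ideal.pow_mem_pow (Ideal.subset_span (Set.mem_range_self i)) _
  rwa [Finset.prod_pow_eq_pow_sum, ← Finsupp.degree_eq_sum] at h1

theorem hr_succ (hf : ∀ k, QRn f k) (h1 : HR f g 1) (k : ℕ) (hk : HR f g k) : HR f g (k + 1) := by
  classical
  intro u hu
  set J := Ideal.span (Set.range f) with hJ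
  have hu' : ∑ j, u j * g j ∈ J ^ k := Ideal.pow_le_pow_right (Nat.le_succ k) hu
  obtain ⟨B, hB⟩ := hk u hu'
  set w : Fin m → A := fun j => u j - ∑ l, (B j l - B l j) * g l with hw_def
  have hw : ∀ j, w j ∈ J ^ k := hB
  have hwg : ∑ j, w j * g j = ∑ j, u j * g j := by
    have hh : ∀ j, w j * g j = u j * g j - (∑ l, (B j l - B l j) * g l) * g j := fun j => by
      rw [hw_def]; exact sub_mul _ _ _
    rw [Finset.sum_congr rfl (fun j _ => hh j), Finset.sum_sub_distrib, sum_mul_alt, sub_zero]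
  have hex : ∀ j, ∃ W : MvPolynomial (Fin n) A, W.IsHomogeneous k ∧ eval f W = w j := fun j =>
    (Ideal.mem_span_pow_iff_exists_isHomogeneous f _).1 (hw j)
  choose W hWh hWe using hex
  set Rr : MvPolynomial (Fin n) A := ∑ j, C (g j) * W j with hRr
  have hRh : Rr.IsHomogeneous k := IsHomogeneous.sum _ _ _ fun j _ => (hWh j).C_mul (g j)
  have hRe : eval f Rr = ∑ j, w j * g j := by
    simp only [hRr, map_sum, map_mul, eval_C, hWe]
    exact Finset.sum_congr rfl fun j _ => mul_comm _ _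
  have hRJ : Rr ∈ Ideal.map (C : A →+* MvPolynomial (Fin n) A) J :=
    hf k Rr hRh (by rw [hRe, hwg]; exact hu)
  have hco : ∀ α, ∑ j, coeff α (W j) * g j ∈ J ^ 1 := by
    intro α
    have := (mem_map_C_iff.1 hRJ) α
    rw [hRr, coeff_sum] at this
    rw [pow_one]
    convert this using 1
    exact Finset.sum_congr rfl fun j _ => by rw [coeff_C_mul, mul_comm]
  have hexB : ∀ α, ∃ Bα : Fin m → Fin m → A,
      ∀ j, coeff α (W j) - ∑ l, (Bα j l - Bα l j) * g l ∈ J := by
    intro α
    obtain ⟨Bα, h⟩ := h1 (fun j => coeff α (W j)) (hco α)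
    exact ⟨Bα, fun j => by simpa using h j⟩
  choose Bc hBc using hexB
  set S : Finset (Fin n →₀ ℕ) := Finset.univ.biUnion (fun j => (W j).support) with hS_def
  have hS : ∀ j, w j = ∑ α ∈ S, coeff α (W j) * ∏ i, f i ^ α i := by
    intro j
    rw [← hWe j, eval_eq']
    refine Finset.sum_subset (Finset.subset_biUnion_of_mem (fun j => (W j).support)
      (Finset.mem_univ j)) (fun α _ hα => ?_)
    rw [notMem_support_iff.1 hα, zero_mul]
  refine ⟨fun j l => B j l + ∑ α ∈ S, Bc α j l * ∏ i, f i ^ α i, fun j => ?_⟩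
  have key : u j - ∑ l, ((B j l + ∑ α ∈ S, Bc α j l * ∏ i, f i ^ α i) -
        (B l j + ∑ α ∈ S, Bc α l j * ∏ i, f i ^ α i)) * g l =
      ∑ α ∈ S, (coeff α (W j) - ∑ l, (Bc α j l - Bc α l j) * g l) * ∏ i, f i ^ α i := by
    have e1 : ∑ l, ((B j l + ∑ α ∈ S, Bc α j l * ∏ i, f i ^ α i) -
        (B l j + ∑ α ∈ S, Bc α l j * ∏ i, f i ^ α i)) * g l =
        ∑ l, (B j l - B l j) * g l +
          ∑ α ∈ S, (∑ l, (Bc α j l - Bc α l j) * g l) * ∏ i, f i ^ α i := by
      have e2 : ∑ α ∈ S, (∑ l, (Bc α j l - Bc α l j) * g l) * ∏ i, f i ^ α i =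
          ∑ l, ((∑ α ∈ S, Bc α j l * ∏ i, f i ^ α i) -
            (∑ α ∈ S, Bc α l j * ∏ i, f i ^ α i)) * g l := by
        simp only [Finset.sum_mul]
        rw [Finset.sum_comm]
        refine Finset.sum_congr rfl fun l _ => ?_
        rw [← Finset.sum_sub_distrib, Finset.sum_mul]
        refine Finset.sum_congr rfl fun α _ => ?_
        ring
      rw [e2, ← Finset.sum_add_distrib]
      refine Finset.sum_congr rfl fun l _ => ?_
      ring
    rw [e1, ← sub_sub]
    change w j - _ = _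
    rw [hS j, ← Finset.sum_sub_distrib]
    refine Finset.sum_congr rfl fun α _ => ?_
    ring
  rw [key]
  refine Ideal.sum_mem _ fun α hα => ?_
  rw [pow_succ']
  refine Ideal.mul_mem_mul (hBc α j) ?_
  obtain ⟨j', _, hj'⟩ := Finset.mem_biUnion.1 hα
  have hdeg : α.degree = k := by
    rw [Finsupp.degree_eq_weight_one]
    exact hWh j' (mem_support_iff.1 hj')
  rw [← hdeg]
  exact prod_pow_mem f α

theorem hr (hf : ∀ k, QRn f k)
    (hg : CAlgX.IsH1Regular (fun j => Ideal.Quotient.mk (Ideal.span (Set.range f)) (g j))) :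
    ∀ k, HR f g k := by
  intro k
  induction k with
  | zero => exact hr_zero f g
  | succ k ih => exact hr_succ f g hf (hr_one f g hg) k ih

end HR

section Steps

variable (f : Fin n → A) (g : Fin m → A)

theorem sum_sub_alt_mul (u : Fin m → A) (B : Fin m → Fin m → A) :
    ∑ j, (u j - ∑ l, (B j l - B l j) * g l) * g j = ∑ j, u j * g j := by
  have hh : ∀ j, (u j - ∑ l, (B j l - B l j) * g l) * g j =
      u j * g j - (∑ l, (B j l - B l j) * g l) * g j := fun j => sub_mul _ _ _
  rw [Finset.sum_congr rfl (fun j _ => hh j), Finset.sum_sub_distrib, sum_mul_alt, sub_zero]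

theorem fg_step (hf : ∀ k, QRn f k) {k : ℕ} (hk : HR f g k) {R : MvPolynomial (Fin n) A}
    (hR : R.IsHomogeneous k)
    (hev : eval f R ∈ Ideal.span (Set.range g) ⊔ Ideal.span (Set.range f) ^ (k + 1)) :
    R ∈ Ideal.map (C : A →+* MvPolynomial (Fin n) A)
      (Ideal.span (Set.range f) ⊔ Ideal.span (Set.range g)) := by
  set J := Ideal.span (Set.range f) with hJ
  set G := Ideal.span (Set.range g) with hG
  obtain ⟨x, hx, z, hz, hxz⟩ := Submodule.mem_sup.1 hev
  obtain ⟨u, hu⟩ := (Submodule.mem_span_range_iff_exists_fun A).1 hx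
  simp only [smul_eq_mul] at hu
  have hxk : ∑ j, u j * g j ∈ J ^ k := by
    rw [hu, show x = eval f R - z by rw [← hxz]; ring]
    refine Ideal.sub_mem _ ((Ideal.mem_span_pow_iff_exists_isHomogeneous f _).2 ⟨R, hR, rfl⟩) ?_
    exact Ideal.pow_le_pow_right (Nat.le_succ k) hz
  obtain ⟨B, hB⟩ := hk u hxk
  have hex : ∀ j, ∃ W : MvPolynomial (Fin n) A, W.IsHomogeneous k ∧
      eval f W = u j - ∑ l, (B j l - B l j) * g l := fun j =>
    (Ideal.mem_span_pow_iff_exists_isHomogeneous f _).1 (hB j)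
  choose W hWh hWe using hex
  have hsum : eval f (∑ j, C (g j) * W j) = x := by
    simp only [map_sum, map_mul, eval_C, hWe]
    rw [← hu, ← sum_sub_alt_mul g u B]
    exact Finset.sum_congr rfl fun j _ => mul_comm _ _
  have h1 : R - ∑ j, C (g j) * W j ∈ Ideal.map (C : A →+* MvPolynomial (Fin n) A) J := by
    refine hf k _ (hR.sub (IsHomogeneous.sum _ _ _ fun j _ => (hWh j).C_mul (g j))) ?_
    rw [map_sub, hsum, ← hxz, add_sub_cancel_left]
    exact hz
  have h2 : ∑ j, C (g j) * W j ∈ Ideal.map (C : A →+* MvPolynomial (Fin n) A) (J ⊔ G) :=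
    Ideal.sum_mem _ fun j _ => Ideal.mul_mem_right _ _
      (Ideal.mem_map_of_mem _ (le_sup_right (a := J) (Ideal.subset_span ⟨j, rfl⟩)))
  have := Ideal.add_mem _ (Ideal.map_mono (le_sup_left (b := G)) h1) h2
  rwa [sub_add_cancel] at this

theorem quot_step (𝔞 : Ideal A) (hq : ∀ e, QRn (fun j => Ideal.Quotient.mk 𝔞 (g j)) e) {e : ℕ}
    {Q : MvPolynomial (Fin m) A} (hQ : Q.IsHomogeneous e)
    (hev : eval g Q ∈ Ideal.span (Set.range g) ^ (e + 1) ⊔ 𝔞) (β : Fin m →₀ ℕ) :
    coeff β Q ∈ Ideal.span (Set.range g) ⊔ 𝔞 := by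
  set G := Ideal.span (Set.range g) with hG
  set π := Ideal.Quotient.mk 𝔞 with hπ
  have hGb : Ideal.span (Set.range (fun j => π (g j))) = Ideal.map π G := by
    rw [hG, Ideal.map_span, ← Set.range_comp]
    rfl
  have h1 : eval (fun j => π (g j)) (map π Q) = π (eval g Q) := by
    rw [eval_map, ← eval₂_id, eval₂_comp_left]
    rfl
  have h2 : π (eval g Q) ∈ Ideal.span (Set.range (fun j => π (g j))) ^ (e + 1) := by
    rw [hGb, ← Ideal.map_pow]
    have := Ideal.mem_map_of_mem π hev
    rwa [Ideal.map_sup, Ideal.map_quotient_self, sup_bot_eq] at this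
  have h3 := hq e (map π Q) (hQ.map π) (h1 ▸ h2)
  have h4 := (mem_map_C_iff.1 h3) β
  rw [coeff_map, hGb] at h4
  have h5 : coeff β Q ∈ Ideal.comap π (Ideal.map π G) := h4
  rwa [Ideal.comap_map_of_surjective π Ideal.Quotient.mk_surjective, ← RingHom.ker_eq_comap_bot,
    Ideal.mk_ker] at h5

theorem isH1Regular_of_hr (k : ℕ) (h : HR f g k) :
    CAlgX.IsH1Regular (fun j => Ideal.Quotient.mk (Ideal.span (Set.range f) ^ k) (g j)) := by
  classical
  intro ub hub
  set π := Ideal.Quotient.mk (Ideal.span (Set.range f) ^ k) with hπ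
  choose u hu using fun j => Ideal.Quotient.mk_surjective (ub j)
  have hsum : ∑ j, u j * g j ∈ Ideal.span (Set.range f) ^ k := by
    rw [← Ideal.Quotient.eq_zero_iff_mem, map_sum]
    simp only [map_mul, hu]
    exact hub
  obtain ⟨B, hB⟩ := h u hsum
  have hub' : ∀ j, ub j = ∑ l, (π (B j l) - π (B l j)) * π (g l) := by
    intro j
    have := Ideal.Quotient.eq_zero_iff_mem.2 (hB j)
    rw [map_sub, sub_eq_zero, hu] at this
    rw [this, map_sum]
    exact Finset.sum_congr rfl fun l _ => by rw [map_mul, map_sub]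
  have hrep : ub = ∑ j, ∑ l, π (B j l) • (Pi.single j (π (g l)) - Pi.single l (π (g j)) :
      Fin m → A ⧸ Ideal.span (Set.range f) ^ k) := by
    funext i
    rw [hub' i]
    have e0 : (∑ j, ∑ l, π (B j l) • (Pi.single j (π (g l)) - Pi.single l (π (g j)) :
        Fin m → A ⧸ Ideal.span (Set.range f) ^ k)) i =
        ∑ j, ∑ l, (π (B j l) * (if i = j then π (g l) else 0) -
          π (B j l) * (if i = l then π (g j) else 0)) := by
      simp only [Finset.sum_apply, Pi.smul_apply, Pi.sub_apply, Pi.single_apply, smul_eq_mul,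
        mul_sub]
    have e1 : ∑ j, ∑ l, π (B j l) * (if i = j then π (g l) else 0) =
        ∑ l, π (B i l) * π (g l) := by
      rw [Finset.sum_eq_single i]
      · simp
      · intro b _ hb
        simp [Ne.symm hb]
      · intro h; exact absurd (Finset.mem_univ i) h
    have e2 : ∑ j, ∑ l, π (B j l) * (if i = l then π (g j) else 0) =
        ∑ j, π (B j i) * π (g j) := by
      refine Finset.sum_congr rfl fun j _ => ?_
      simp
    rw [e0]
    simp only [Finset.sum_sub_distrib]
    rw [e1, e2]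
    simp only [sub_mul, Finset.sum_sub_distrib]
  rw [hrep]
  exact Submodule.sum_mem _ fun j _ => Submodule.sum_mem _ fun l _ =>
    Submodule.smul_mem _ _ (Submodule.subset_span ⟨j, l, rfl⟩)

theorem qrn_quot (hf : ∀ k, QRn f k)
    (hg : CAlgX.IsH1Regular (fun j => Ideal.Quotient.mk (Ideal.span (Set.range f)) (g j)))
    (k e : ℕ) : QRn (fun j => Ideal.Quotient.mk (Ideal.span (Set.range f) ^ k) (g j)) e :=
  fun P hP hev => mem_map_C_iff.2
    (Groth.Agent.S2103.result _ (isH1Regular_of_hr f g k (hr f g hf hg k)) e P hP hev)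

end Steps

end Groth.Agent.Lib.QuasiRegAppend67
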