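import Groth.Agent.Lib.SeqDescSch
import Groth.Agent.S2104
import Groth.Agent.S2105

/-!
# Composition of regular immersions of schemes: `H_1` after `H_1`, quasi after `H_1` (helper14)

Stacks 067Q (2), (3), on top of the ring-level statements S2104 / S2105 and the chart formalism `SeqDescSch.PChart`.

* `AppendH1 Φ`, `appendH1_h1`, `appendH1_quasi`.
* `exists_append_comp` (ring level), `PChart.comp`, `exists_pchart_comp`.
* `isRegularImmersion_comp`, `isRegularImmersion_h1_comp`, `isRegularImmersion_quasi_comp`.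
-/

set_option autoImplicit false
universe u
open CategoryTheory CategoryTheory.Limits AlgebraicGeometry TopologicalSpace

attribute [local instance] HasDerivedCategory.standard

namespace Groth.Agent.Lib.H14RegImmComp

open Groth.Agent.Lib.SeqDesc Groth.Agent.Lib.SeqDescPi Groth.Agent.Lib.KRegImm
  Groth.Agent.Lib.KoszulImmPerfect Groth.Agent.Lib.LCIDescentSch Groth.Agent.Lib.SeqDescSch

/-- `Φ` is closed under appending a family which is `H_1`-regular modulo the first family. -/
def AppendH1 (Φ : SeqProp.{u}) : Prop :=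
  ∀ {A : Type u} [CommRing A] {n m : ℕ} (f : Fin n → A) (g : Fin m → A), Φ.P A n f →
    CAlgX.IsH1Regular (fun j => Ideal.Quotient.mk (Ideal.span (Set.range f)) (g j)) →
      Φ.P A (n + m) (Fin.append f g)

theorem appendH1_h1 : AppendH1 Groth.Agent.Lib.H1Desc.h1Prop.{u} :=
  fun f g hf hg => Groth.Agent.S2105.result f g hf hg

theorem appendH1_quasi : AppendH1 Groth.Agent.Lib.QuasiDesc.quasiProp.{u} :=
  fun f g hf hg => Groth.Agent.S2104.result f g hf hg

section Ring

variable {Φ : SeqProp.{u}}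

theorem range_append {R : Type u} {n m : ℕ} (f : Fin n → R) (g : Fin m → R) :
    Set.range (Fin.append f g) = Set.range f ∪ Set.range g := by
  ext x
  constructor
  · rintro ⟨i, rfl⟩
    refine Fin.addCases (fun i => ?_) (fun j => ?_) i
    · rw [Fin.append_left]; exact Or.inl ⟨i, rfl⟩
    · rw [Fin.append_right]; exact Or.inr ⟨j, rfl⟩
  · rintro (⟨i, rfl⟩ | ⟨j, rfl⟩)
    · exact ⟨Fin.castAdd m i, Fin.append_left _ _ _⟩
    · exact ⟨Fin.natAdd n j, Fin.append_right _ _ _⟩

/-- ring-level composition -/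
theorem exists_append_comp (hΦ : AppendH1 Φ) {R R' R'' : Type u} [CommRing R] [CommRing R']
    [CommRing R''] (π : R →+* R') (hπ : Function.Surjective π) {n m : ℕ} (f : Fin n → R)
    (hf : Φ.P R n f) (hker : RingHom.ker π = Ideal.span (Set.range f))
    (ψ : R' →+* R'') (g : Fin m → R') (hg : CAlgX.IsH1Regular g)
    (hkerψ : RingHom.ker ψ = Ideal.span (Set.range g)) :
    ∃ F : Fin (n + m) → R, Φ.P R (n + m) F ∧
      RingHom.ker (ψ.comp π) = Ideal.span (Set.range F) := by
  set G : Fin m → R := fun j => Function.surjInv hπ (g j) with hG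
  have hGπ : ∀ j, π (G j) = g j := fun j => Function.surjInv_eq hπ (g j)
  refine ⟨Fin.append f G, hΦ f G hf ?_, ?_⟩
  · -- transport along the isomorphism `R' ≃ R / (f)`
    let e : (R ⧸ Ideal.span (Set.range f)) ≃+* R' :=
      (Ideal.quotEquivOfEq hker.symm).trans (RingHom.quotientKerEquivOfSurjective hπ)
    let _ : Algebra R' (R ⧸ Ideal.span (Set.range f)) := e.symm.toRingHom.toAlgebra
    have hflat : Module.Flat R' (R ⧸ Ideal.span (Set.range f)) :=
      RingHom.Flat.of_bijective e.symm.bijective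
    have h1 := Groth.Agent.Lib.RegImmFlatBC.isH1Regular_map_of_flat
      (B := R ⧸ Ideal.span (Set.range f)) g hg
    have h2 : (algebraMap R' (R ⧸ Ideal.span (Set.range f)) ∘ g) =
        fun j => Ideal.Quotient.mk (Ideal.span (Set.range f)) (G j) := by
      funext j
      show e.symm (g j) = _
      rw [RingEquiv.symm_apply_eq]
      show _ = π (G j)
      exact (hGπ j).symm
    rw [h2] at h1
    exact h1
  · rw [← RingHom.comap_ker, hkerψ, range_append, Ideal.span_union, ← hker]
    have : Ideal.span (Set.range g) = (Ideal.span (Set.range G)).map π := by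
      rw [Ideal.map_span, ← Set.range_comp]
      congr 2
      funext j
      exact (hGπ j).symm
    rw [this, Ideal.comap_map_of_surjective π hπ, RingHom.ker_eq_comap_bot, sup_comm]

end Ring


section Comp

variable {Φ : SeqProp.{u}} {X Y Z : Scheme.{u}}

/-- composition of charts over the same open -/
theorem PChart.comp (hΦ : AppendH1 Φ) {i : Y ⟶ X} {j : Z ⟶ Y} {U : X.Opens} {n m : ℕ}
    (hi : PChart Φ i U n) (hj : PChart Groth.Agent.Lib.H1Desc.h1Prop j (i ⁻¹ᵁ U) m) :
    PChart Φ (j ≫ i) U (n + m) := by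
  obtain ⟨hU, hcli, f, hf, hkeri⟩ := hi
  obtain ⟨hV, hclj, g, hg, hkerj⟩ := hj
  refine ⟨hU, ?_, ?_⟩
  · rw [morphismRestrict_comp]
    exact @IsClosedImmersion.comp _ _ _ _ _ hclj hcli
  · have hsurj := app_surjective_of_isClosedImmersion_restrict i U hU
    obtain ⟨F, hF, hker⟩ := exists_append_comp hΦ (i.app U).hom hsurj f hf hkeri
      (j.app (i ⁻¹ᵁ U)).hom g hg hkerj
    refine ⟨F, hF, ?_⟩
    rw [← hker]
    ext x
    rw [RingHom.mem_ker, RingHom.mem_ker]
    rfl

/-- composition of charts at a point -/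
theorem exists_pchart_comp (hΦ : AppendH1 Φ) {i : Y ⟶ X} {j : Z ⟶ Y} {U₁ : X.Opens} {W : Y.Opens}
    {n m : ℕ} (hi : PChart Φ i U₁ n) (hj : PChart Groth.Agent.Lib.H1Desc.h1Prop j W m) (z : Z)
    (hzW : j z ∈ W) (hzU : i (j z) ∈ U₁) :
    ∃ U : X.Opens, (j ≫ i) z ∈ U ∧ PChart Φ (j ≫ i) U (n + m) := by
  have hU₁ := hi.1
  have hcl := hi.2.1
  have hV : IsAffineOpen (i ⁻¹ᵁ U₁) := isAffineOpen_preimage_of_isClosedImmersion_restrict i U₁ hU₁
  obtain ⟨a, b, hab, hya⟩ := exists_basicOpen_le_affine_inter hV hj.1 (j z) ⟨hzU, hzW⟩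
  obtain ⟨h, rfl⟩ := app_surjective_of_isClosedImmersion_restrict i U₁ hU₁ a
  have hpre : i ⁻¹ᵁ X.basicOpen h = Y.basicOpen b := by
    rw [Scheme.preimage_basicOpen, ← hab]
  refine ⟨X.basicOpen h, ?_, ?_⟩
  · show i (j z) ∈ X.basicOpen h
    have : j z ∈ i ⁻¹ᵁ X.basicOpen h := by
      rw [hpre, ← hab]
      exact hya
    exact this
  · refine PChart.comp hΦ (hi.basicOpen h) ?_
    rw [hpre]
    exact hj.basicOpen b

/-- **composition**: an `H_1`-regular immersion followed by a regular immersion of kind `Φ` (closed under appending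
`H_1`-regular families) is a regular immersion of kind `Φ` -/
theorem isRegularImmersion_comp {k : RegImm.Kind} (hk : KindProp k Φ) (hΦ : AppendH1 Φ)
    (i : Y ⟶ X) (j : Z ⟶ Y)
    (hi : RegImm.IsRegularImmersion k i) (hj : RegImm.IsRegularImmersion .h1 j) :
    RegImm.IsRegularImmersion k (j ≫ i) := by
  have := hi.1
  have := hj.1
  refine ⟨inferInstance, fun z => ?_⟩
  rw [isRegularImmersionAt_iff hk]
  obtain ⟨W, m, hzW, hW⟩ := (isRegularImmersionAt_iff kindProp_h1 j z).1 (hj.2 z)
  obtain ⟨U₁, n, hzU, hU₁⟩ := (isRegularImmersionAt_iff hk i (j z)).1 (hi.2 (j z))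
  obtain ⟨U, hz, hU⟩ := exists_pchart_comp hΦ hU₁ hW z hzW hzU
  exact ⟨U, n + m, hz, hU⟩

/-- composition of `H_1`-regular immersions -/
theorem isRegularImmersion_h1_comp (i : Y ⟶ X) (j : Z ⟶ Y)
    (hi : RegImm.IsRegularImmersion .h1 i) (hj : RegImm.IsRegularImmersion .h1 j) :
    RegImm.IsRegularImmersion .h1 (j ≫ i) :=
  isRegularImmersion_comp kindProp_h1 appendH1_h1 i j hi hj

/-- an `H_1`-regular immersion followed by a quasi-regular immersion is quasi-regular -/
theorem isRegularImmersion_quasi_comp (i : Y ⟶ X) (j : Z ⟶ Y)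
    (hi : RegImm.IsRegularImmersion .quasi i) (hj : RegImm.IsRegularImmersion .h1 j) :
    RegImm.IsRegularImmersion .quasi (j ≫ i) :=
  isRegularImmersion_comp kindProp_quasi appendH1_quasi i j hi hj

end Comp

end Groth.Agent.Lib.H14RegImmComp
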