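import Groth.Agent.Lib.H69DescentAffine4
import Groth.Agent.Lib.H86AlgSpOpen
import Groth.Agent.Lib.AlgSpBasic

/-!
# helper69: étale descent of immersions of sheaves (via coborder + closed-immersion descent)

`repWith_isImmersion_of_etale_cover`: for `f : X ⟶ Y` a morphism of sheaves, `p : h_V ⟶ Y` an étale
surjective chart and a pullback square with `snd : P₀ ⟶ h_V` representable by immersions, `f` is
representable by immersions.
-/

set_option autoImplicit false
set_option linter.style.haveILetI false
universe u
open CategoryTheory CategoryTheory.Limits AlgebraicGeometry Opposite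

namespace Groth.Agent.Lib.H69Immersion

open AlgSp Groth.Agent.Lib.H86AlgSpPoints Groth.Agent.Lib.H86AlgSpSub Groth.Agent.Lib.H86AlgSpOpen

variable {S : Scheme.{u}}

/-- An immersion of schemes with closed range is a closed immersion. -/
theorem isClosedImmersion_of_isImmersion_of_isClosed_range {A B : Scheme.{u}} (g : A ⟶ B)
    [IsImmersion g] (h : IsClosed (Set.range g)) : IsClosedImmersion g :=
  IsClosedImmersion.of_isPreimmersion g h

/-- Etale descent of (representable) immersions. -/
theorem repWith_isImmersion_of_etale_cover {X Y : Sp S} (f : X ⟶ Y)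
    {V : Over S} (p : (yon S).obj V ⟶ Y) (hp : RepWith @Etale p) (hps : RepWith @Surjective p)
    {P₀ : Sp S} (fst : P₀ ⟶ X) (snd : P₀ ⟶ (yon S).obj V) (sq : IsPullback fst snd f p)
    (h : RepWith @IsImmersion snd) : RepWith @IsImmersion f := by
  -- the image of `f` on points
  set I : Set (Points Y) := Set.range (Points.map f) with hI
  set π : ↥V.left → Points Y := Points.ofPt p with hπ
  have hπc : Continuous π := Points.continuous_ofPt p
  have hπo : IsOpenMap π := isOpenMap_ofPt hp
  have hπs : Function.Surjective π := ofPt_surjective hps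
  have hπq : Topology.IsQuotientMap π := hπo.isQuotientMap hπc hπs
  -- the base change of `f` to `V` as a scheme
  obtain ⟨W', snd', fst', sq'⟩ := h.1 (𝟙 ((yon S).obj V))
  have himm' : IsImmersion snd'.left := h.2 _ _ _ sq'
  have sqV : IsPullback (fst' ≫ fst) ((yon S).map snd') f (𝟙 _ ≫ p) := sq'.paste_horiz sq
  rw [Category.id_comp] at sqV
  have hA : π ⁻¹' I = Set.range snd'.left := (range_left_eq_preimage sqV).symm
  have hAlc : IsLocallyClosed (π ⁻¹' I) := by
    rw [hA]
    exact snd'.left.isLocallyClosed_range
  -- `coborder I` is open
  have hW : IsOpen (coborder I) := by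
    rw [← hπq.isOpen_preimage, ← coborder_preimage hπo hπc]
    exact hAlc.isOpen_coborder
  -- the open subspace `G° = coborder I` of `Y` and the factorisation of `f`
  have hj := openSubι_repWith (F := Y) hW
  obtain ⟨f', hf'⟩ := exists_factor_of_range_subset hj f (by
    rw [range_map_openSubι]
    exact subset_coborder)
  set j := openSubι Y (coborder I) with hjdef
  -- the induced chart of `G°`
  have sqj := preimage_isPullback hW p
  have hp' : RepWith @Etale (preimageFst hW p) := AlgSpBasic.repWith_fst_of_isPullback _ sqj hp
  have hps' : RepWith @Surjective (preimageFst hW p) :=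
    AlgSpBasic.repWith_fst_of_isPullback _ sqj hps
  -- the base change of `f'` along the chart is an immersion of schemes ...
  obtain ⟨W, b, a, sqb⟩ := h.1 ((yon S).map (preimageι hW p))
  have himm : IsImmersion b.left := h.2 _ _ _ sqb
  have sqb' : IsPullback (a ≫ fst) ((yon S).map b) f ((yon S).map (preimageι hW p) ≫ p) :=
    sqb.paste_horiz sq
  have sqf' : IsPullback (a ≫ fst) ((yon S).map b) f' (preimageFst hW p) := by
    apply isPullback_of_comp_mono j
    rw [hf', preimage_w]
    exact sqb'
  -- ... with closed range
  have hrange : Set.range b.left = (preimageι hW p).left ⁻¹' (π ⁻¹' I) := by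
    rw [range_left_eq_preimage sqb']
    ext v
    simp only [Set.mem_preimage]
    rw [ofPt_map_comp]
  have hsub : ∀ v, (preimageι hW p).left v ∈ coborder (π ⁻¹' I) := by
    intro v
    rw [coborder_preimage hπo hπc]
    have : (preimageι hW p).left v ∈ Set.range (preimageι hW p).left := ⟨v, rfl⟩
    rw [range_preimageι] at this
    exact this
  have hclosed : IsClosed (Set.range b.left) := by
    have e : Set.range b.left = (preimageι hW p).left ⁻¹' (closure (π ⁻¹' I)) := by
      rw [hrange]
      ext v
      constructor
      · intro hv
        exact subset_closure hv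
      · intro hv
        have h1 : (preimageι hW p).left v ∈ coborder (π ⁻¹' I) ∩ closure (π ⁻¹' I) := ⟨hsub v, hv⟩
        rw [coborder_inter_closure] at h1
        exact h1
    rw [e]
    exact isClosed_closure.preimage (preimageι hW p).left.continuous
  have hci : IsClosedImmersion b.left := isClosedImmersion_of_isImmersion_of_isClosed_range _ hclosed
  have hb : RepWith @IsClosedImmersion ((yon S).map b) := (repWith_yon_map_iff _ b).2 hci
  -- closed-immersion descent
  have := Groth.Agent.Lib.H69FppfLocal.isClosedImmersion.{u}
  have hf'c : RepWith @IsClosedImmersion f' :=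
    Groth.Agent.Lib.H69DescentAffine.repWith_of_fppf_cover_of_le_isAffineHom @IsClosedImmersion
      (fun _ _ g (hg : IsClosedImmersion g) => (inferInstance : IsAffineHom g)) f' (preimageFst hW p)
      (Groth.Agent.Lib.H69AlgSp.repWith_flat_of_etale hp')
      (Groth.Agent.Lib.H69AlgSp.repWith_lfp_of_etale hp') hps' (a ≫ fst) ((yon S).map b) sqf' hb
  -- compose
  have h1 : RepWith @IsImmersion f' :=
    AlgSpBasic.repWith_mono (fun _ _ g (hg : IsClosedImmersion g) => (inferInstance : IsImmersion g))
      hf'c
  have h2 : RepWith @IsImmersion j :=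
    AlgSpBasic.repWith_mono (fun _ _ g (hg : IsOpenImmersion g) => (inferInstance : IsImmersion g)) hj
  rw [← hf']
  exact MorphismProperty.comp_mem _ _ _ h1 h2

end Groth.Agent.Lib.H69Immersion
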