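import Groth.Agent.Lib.H86Thick3
import Groth.Agent.Lib.AlgSpLocP
import Groth.Agent.S1312
import Groth.Agent.S1314

/-!
# helper86: cartesian morphisms of thickenings of algebraic spaces: etale-local properties
-/

set_option autoImplicit false
set_option linter.style.haveILetI false
universe u
open CategoryTheory CategoryTheory.Limits AlgebraicGeometry Opposite

namespace Groth.Agent.Lib.H86Thick
open AlgSp

variable {S : Scheme.{u}}

theorem isPullback_left_of_yon {A B C D : Over S} {f : A ⟶ B} {g : A ⟶ C} {h : B ⟶ D} {k : C ⟶ D}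
    (H : IsPullback ((yon S).map f) ((yon S).map g) ((yon S).map h) ((yon S).map k)) :
    IsPullback f.left g.left h.left k.left := by
  have comm : f ≫ h = g ≫ k := by
    apply (yon S).map_injective
    rw [Functor.map_comp, Functor.map_comp, H.w]
  have H' : IsPullback f g h k := IsPullback.of_map (yon S) comm H
  exact H'.map (Over.forget S)

section Chart

variable {X X' Y Y' : Sp S} {i : X ⟶ X'} {j : Y ⟶ Y'} {f : X ⟶ Y} {f' : X' ⟶ Y'}

set_option backward.isDefEq.respectTransparency false in
/-- The pullback along the thickenings of a chart diagram of `f'` is a chart diagram of `f`, and the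
chart morphisms form a cartesian square over a thickening. -/
theorem exists_chart_pullback (hi : IsThickMor i) (hj : IsThickMor j) (hcart : IsPullback i f f' j)
    {U' V' : Over S} (a' : (yon S).obj U' ⟶ X') (b' : (yon S).obj V' ⟶ Y') (h' : U' ⟶ V')
    (ha' : RepWith @Etale a') (hb' : RepWith @Etale b') (e' : a' ≫ f' = (yon S).map h' ≫ b') :
    ∃ (U V : Over S) (a : (yon S).obj U ⟶ X) (b : (yon S).obj V ⟶ Y) (h : U ⟶ V) (p : U ⟶ U')
      (q : V ⟶ V'), RepWith @Etale a ∧ RepWith @Etale b ∧ a ≫ f = (yon S).map h ≫ b ∧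
      MoreMor.IsThickening q.left ∧ IsPullback p.left h.left h'.left q.left := by
  obtain ⟨U, p, a, sqU⟩ := hi.1 a'
  obtain ⟨V, q, b, sqV⟩ := hj.1 b'
  have ha : RepWith @Etale a := (RepWith (S := S) @Etale).of_isPullback sqU.flip ha'
  have hb : RepWith @Etale b := (RepWith (S := S) @Etale).of_isPullback sqV.flip hb'
  have hq : MoreMor.IsThickening q.left := hj.2 b' b q sqV
  have cond : (a ≫ f) ≫ j = (yon S).map (p ≫ h') ≫ b' := by
    rw [Category.assoc, ← hcart.w, ← Category.assoc, sqU.w, Category.assoc, e', Functor.map_comp,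
      Category.assoc]
  let k : (yon S).obj U ⟶ (yon S).obj V := sqV.lift (a ≫ f) ((yon S).map (p ≫ h')) cond
  have hk1 : k ≫ b = a ≫ f := sqV.lift_fst _ _ _
  have hk2 : k ≫ (yon S).map q = (yon S).map (p ≫ h') := sqV.lift_snd _ _ _
  obtain ⟨h, hh⟩ := (yon S).map_surjective k
  refine ⟨U, V, a, b, h, p, q, ha, hb, by rw [hh, hk1], hq, ?_⟩
  apply isPullback_left_of_yon
  rw [hh]
  have houter : IsPullback ((yon S).map p) (a ≫ f) (a' ≫ f') j := sqU.flip.paste_vert hcart
  rw [← hk1, e'] at houter
  refine IsPullback.of_bot houter ?_ sqV.flip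
  rw [hk2, Functor.map_comp]

open Groth.Agent.Lib.AlgSpLocP Groth.Agent.Lib.AlgSpBasic in
/-- Transfer of an etale-local property along a cartesian morphism of thickenings, given the
scheme-level ascent along thickenings (for morphisms locally of finite type). -/
theorem locP_iff_of_thick_cart (Q : MorphismProperty Scheme.{u}) (hQ : EtLocalClass Q)
    [Q.DescendsAlong etCov]
    (hsch : ∀ {A A' B B' : Scheme.{u}} (iA : A ⟶ A') (iB : B ⟶ B') (g : A ⟶ B) (g' : A' ⟶ B'),
      MoreMor.IsThickening iB → IsPullback iA g g' iB → LocallyOfFiniteType g →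
      LocallyOfFiniteType g' → Q g → Q g')
    (hX' : IsAlgSpace X') (hY : IsAlgSpace Y) (hY' : IsAlgSpace Y')
    (hi : IsThickMor i) (hj : IsThickMor j) (hcart : IsPullback i f f' j)
    (hft : LocP @LocallyOfFiniteType f) (hft' : LocP @LocallyOfFiniteType f') :
    LocP Q f ↔ LocP Q f' := by
  constructor
  · intro hQf U' V' a' b' h' ha' hb' e'
    obtain ⟨U, V, a, b, h, p, q, ha, hb, e, hq, sq⟩ :=
      exists_chart_pullback hi hj hcart a' b' h' ha' hb' e'
    exact hsch p.left q.left h.left h'.left hq sq (hft a b h ha hb e) (hft' a' b' h' ha' hb' e')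
      (hQf a b h ha hb e)
  · intro h
    exact locP_of_isPullback hQ hX' hY' hY hcart h

open Groth.Agent.Lib.AlgSpLocP Groth.Agent.Lib.AlgSpBasic in
set_option backward.isDefEq.respectTransparency false in
theorem lqf_unramified_iff_of_thick_cart
    (hX' : IsAlgSpace X') (hY : IsAlgSpace Y) (hY' : IsAlgSpace Y')
    (hi : IsThickMor i) (hj : IsThickMor j) (hcart : IsPullback i f f' j)
    (hft : LocP @LocallyOfFiniteType f) (hft' : LocP @LocallyOfFiniteType f') :
    (LocP (@LocallyQuasiFinite ⊓ @LocallyOfFiniteType) f ↔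
      LocP (@LocallyQuasiFinite ⊓ @LocallyOfFiniteType) f') ∧
    (LocP (@LocallyOfFiniteType ⊓ @FormallyUnramified) f ↔
      LocP (@LocallyOfFiniteType ⊓ @FormallyUnramified) f') := by
  refine ⟨?_, ?_⟩
  · refine locP_iff_of_thick_cart _ etLocalClass_lqf_lft ?_ hX' hY hY' hi hj hcart hft hft'
    intro A A' B B' iA iB g g' hB sq hg hg' hQ
    haveI := hg
    haveI := hg'
    exact ⟨(Groth.Agent.S1312.result iA iB g g' hB sq).1 hQ.1, hg'⟩
  · refine locP_iff_of_thick_cart _ etLocalClass_lft_unramified ?_ hX' hY hY' hi hj hcart hft hft'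
    intro A A' B B' iA iB g g' hB sq hg hg' hQ
    haveI := hg
    haveI := hg'
    exact ⟨hg', (Groth.Agent.S1314.result iA iB g g' hB sq).1 hQ.2⟩

end Chart

end Groth.Agent.Lib.H86Thick
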