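import Groth.Agent.Lib.H14RegImmEtDesc
import Groth.Agent.Lib.H14RegImmComp
import Groth.Agent.Lib.H14AlgSpLCI
import Groth.Agent.Lib.H69Immersion
import Groth.Agent.Lib.H86Thick4
import Groth.Agent.Lib.AlgSpAffineSpace

/-!
# Regular immersions of algebraic spaces: flat base change and composition (helper14)

* `isRegImmMor_baseChange_flat` (= S10662): flat base change of regular immersions of kind Koszul, `H_1`, quasi.
  Pattern: atlas of the target, chart `V'' = V' ×_X V`, flat base change on schemes (`RegImmFlatBC`), étale descent of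
  immersions (`H69Immersion`) and of regular immersions (`H14RegImmEtDesc`).
* `isRegImmMor_comp` (⇒ S10663): composition, from a composition statement for schemes.
-/

set_option autoImplicit false
set_option linter.style.haveILetI false
universe u

open CategoryTheory CategoryTheory.Limits AlgebraicGeometry

attribute [local instance] HasDerivedCategory.standard

namespace Groth.Agent.Lib.H14AlgSpRegImm

open Groth.Agent.Lib AlgSp Groth.Agent.Lib.H14AlgSpLCI

variable {S : Scheme.{u}}

/-- **Flat base change of regular immersions of algebraic spaces** (kinds Koszul, `H_1`, quasi). -/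
theorem isRegImmMor_baseChange_flat (k : RegImm.Kind) (hk : k ≠ RegImm.Kind.regular)
    {Z X X' P : Sp S} (hX : IsAlgSpace X) (i : Z ⟶ X) (g : X' ⟶ X)
    (hi : IsRegImmMor k i) (hg : LocP @Flat g)
    (fst : P ⟶ Z) (i' : P ⟶ X') (sq : IsPullback fst i' i g) : IsRegImmMor k i' := by
  refine ⟨MorphismProperty.of_isPullback sq hi.1, ?_⟩
  intro V' W' b' fst' snd' hb' sq'
  obtain ⟨V, b, hb, hbs⟩ := hX.atlas
  -- the chart `V'' = V' ×_X V`
  have hr := hb.rep
  have sqV := hr.isPullback' (b' ≫ g)
  set t := hr.fst' (b' ≫ g) with ht_def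
  set s := hr.snd (b' ≫ g) with hs_def
  have hs_et : Etale s.left := hb.property_snd (b' ≫ g)
  have hs_surj : Surjective s.left := hbs.property _ _ _ (hr.isPullback (b' ≫ g))
  have ha : RepWith @Etale ((yon S).map s ≫ b') :=
    MorphismProperty.comp_mem _ _ _ ((repWith_yon_map_iff _ _).2 hs_et) hb'
  have comm : ((yon S).map s ≫ b') ≫ g = (yon S).map t ≫ b := by
    rw [Category.assoc]; exact sqV.w.symm
  have ht : Flat t.left := hg _ b t ha hb comm
  -- the regular immersion `W ⟶ V`
  have sqW := hi.1.isPullback b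
  set r := hi.1.snd b with hr_def
  have hr_reg : RegImm.IsRegularImmersion k r.left := hi.2 b (hi.1.fst b) r hb sqW
  -- the scheme `W₁ = W' ×_{V'} V''`
  have sq1 : IsPullback ((yon S).map (bcFst snd' s)) ((yon S).map (bcSnd snd' s))
      ((yon S).map snd') ((yon S).map s) :=
    AlgSpAffineSpace.isPullback_yon_of_left (IsPullback.of_hasPullback snd'.left s.left)
  have big : IsPullback ((yon S).map (bcFst snd' s) ≫ fst' ≫ fst) ((yon S).map (bcSnd snd' s)) i
      ((yon S).map s ≫ b' ≫ g) := sq1.paste_horiz (sq'.paste_horiz sq)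
  have hcomm2 : ((yon S).map (bcFst snd' s) ≫ fst' ≫ fst) ≫ i =
      (yon S).map (bcSnd snd' s ≫ t) ≫ b := by
    rw [big.w, Functor.map_comp, Category.assoc, ← sqV.w]
  set u := hi.1.lift ((yon S).map (bcFst snd' s) ≫ fst' ≫ fst) (bcSnd snd' s ≫ t) hcomm2 with hu_def
  have hu1 : (yon S).map u ≫ hi.1.fst b = (yon S).map (bcFst snd' s) ≫ fst' ≫ fst :=
    hi.1.lift_fst _ _ _
  have hu2 : u ≫ r = bcSnd snd' s ≫ t := hi.1.lift_snd _ _ _
  have big' : IsPullback ((yon S).map u ≫ hi.1.fst b) ((yon S).map (bcSnd snd' s)) i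
      ((yon S).map t ≫ b) := by
    rw [hu1, sqV.w]; exact big
  have hleft : IsPullback ((yon S).map u) ((yon S).map (bcSnd snd' s)) ((yon S).map r)
      ((yon S).map t) := by
    refine IsPullback.of_right big' ?_ sqW
    rw [← Functor.map_comp, ← Functor.map_comp, hu2]
  have hsch : IsPullback u.left (bcSnd snd' s).left r.left t.left :=
    Groth.Agent.Lib.H86Thick.isPullback_left_of_yon hleft
  have hreg' : RegImm.IsRegularImmersion k (bcSnd snd' s).left :=
    Groth.Agent.Lib.RegImmFlatBC.isRegularImmersion_baseChange r.left t.left _ _ hsch k hr_reg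
  -- `snd'` is an immersion by étale descent
  have himm : IsImmersion snd'.left := by
    have h1 : RepWith @IsImmersion ((yon S).map (bcSnd snd' s)) :=
      (repWith_yon_map_iff _ _).2 hreg'.1
    have h2 := Groth.Agent.Lib.H69Immersion.repWith_isImmersion_of_etale_cover ((yon S).map snd')
      ((yon S).map s) ((repWith_yon_map_iff _ _).2 hs_et) ((repWith_yon_map_iff _ _).2 hs_surj)
      _ _ sq1 h1
    exact (repWith_yon_map_iff _ _).1 h2
  -- étale descent of the regular immersion
  exact Groth.Agent.Lib.H14RegImmEtDesc.isRegularImmersion_of_baseChange_open snd'.left s.left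
    s.left.isOpenMap (bcSnd snd' s).left (bcFst snd' s).left
    (IsPullback.of_hasPullback snd'.left s.left) k hk hreg'


/-- **Composition of regular immersions of algebraic spaces**, from a composition statement for schemes. -/
theorem isRegImmMor_comp (k k' : RegImm.Kind)
    (hcomp : ∀ {X Y Z : Scheme.{u}} (i : Y ⟶ X) (j : Z ⟶ Y), RegImm.IsRegularImmersion k i →
      RegImm.IsRegularImmersion k' j → RegImm.IsRegularImmersion k (j ≫ i))
    {Z Y X : Sp S} (i : Z ⟶ Y) (j : Y ⟶ X) (hi : IsRegImmMor k' i) (hj : IsRegImmMor k j) :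
    IsRegImmMor k (i ≫ j) := by
  refine ⟨MorphismProperty.comp_mem _ _ _ hi.1 hj.1, ?_⟩
  intro V W b fst snd hb sq
  have sqY := hj.1.isPullback b
  set r := hj.1.snd b with hr_def
  have hr : RegImm.IsRegularImmersion k r.left := hj.2 b (hj.1.fst b) r hb sqY
  have hcomm : (fst ≫ i) ≫ j = (yon S).map snd ≫ b := by
    rw [Category.assoc]; exact sq.w
  set u := hj.1.lift (fst ≫ i) snd hcomm with hu_def
  have hu1 : (yon S).map u ≫ hj.1.fst b = fst ≫ i := hj.1.lift_fst _ _ _
  have hu2 : u ≫ r = snd := hj.1.lift_snd _ _ _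
  have hleft : IsPullback fst ((yon S).map u) i (hj.1.fst b) := by
    have big : IsPullback ((yon S).map u ≫ (yon S).map r) fst b (i ≫ j) := by
      rw [← Functor.map_comp, hu2]; exact sq.flip
    exact (IsPullback.of_right big hu1 sqY.flip).flip
  have het : RepWith @Etale (hj.1.fst b) := AlgSpBasic.repWith_fst_of_isPullback _ sqY hb
  have hu : RegImm.IsRegularImmersion k' u.left := hi.2 (hj.1.fst b) fst u het hleft
  have hfac : snd.left = u.left ≫ r.left := by rw [← Over.comp_left, hu2]
  show RegImm.IsRegularImmersion k snd.left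
  rw [hfac]
  exact hcomp r.left u.left hr hu

end Groth.Agent.Lib.H14AlgSpRegImm
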