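import Mathlib
import Groth.Agent.Lib.AlgSpNear91
import Groth.Agent.Lib.H14LocPCurve
import Groth.Agent.Lib.SmoothLocusBC
import Groth.Agent.Lib.AlgStSmoothLocus2
import Groth.Agent.S2155

/-!
# The smooth locus of a flat lfp morphism of algebraic spaces (helper14)

ns `Groth.Agent.Lib.H14AlgSpSmLocus`. Smooth analogue of `H14AlgSpCMLocus`.

* `SmAt h u` : the stalk map of `h` at `u` is formally smooth.
* `smooth_isMultiplicative`, `smooth_hasOfPostcomp_etale` (not instances).
* `sm_src`, `sm_tgt`, `chart_indep`, `locPAt_sm_iff`.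
* `smLocus_open_baseChange` : the set of points of `|X|` at which `f` is smooth (all-charts form
  `LocPAt`) is open, and commutes with base change (uses S2155).
-/

set_option autoImplicit false
set_option linter.style.haveILetI false
universe u
open CategoryTheory CategoryTheory.Limits AlgebraicGeometry
open AlgSp

namespace Groth.Agent.Lib.H14AlgSpSmLocus

open AlgSp Groth.Agent.Lib.AlgSpNear91 Groth.Agent.Lib.AlgSpPoints Groth.Agent.Lib.AlgSpDecentSpec
  Groth.Agent.Lib.AlgSpBasic Groth.Agent.Lib.H14LocPCurve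

variable {S : Scheme.{u}}

/-- Smooth at a point. -/
def SmAt {U V : Scheme.{u}} (h : U ⟶ V) (u : ↥U) : Prop := (h.stalkMap u).hom.FormallySmooth

theorem smooth_isMultiplicative : MorphismProperty.IsMultiplicative @Smooth where
  id_mem _ := inferInstance

theorem smooth_hasOfPostcomp_etale : MorphismProperty.HasOfPostcompProperty @Smooth @Etale := by
  haveI := smooth_isMultiplicative
  rw [MorphismProperty.hasOfPostcompProperty_iff_le_diagonal]
  intro X Y f hf
  have : Etale f := hf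
  exact inferInstanceAs <| Smooth (pullback.diagonal f)

/-- Smooth at a point is insensitive to étale precomposition. -/
theorem sm_src {P U V : Scheme.{u}} (e : P ⟶ U) (h : U ⟶ V) [Etale e]
    [LocallyOfFinitePresentation h] (p : ↥P) : SmAt (e ≫ h) p ↔ SmAt h (e p) := by
  unfold SmAt
  rw [← Groth.Agent.Lib.SmoothLocusBC.exists_nhds_smooth_iff,
    ← Groth.Agent.Lib.SmoothLocusBC.exists_nhds_smooth_iff]
  constructor
  · rintro ⟨O', hp, hO'⟩
    obtain ⟨O, hO, hsm⟩ := Groth.Agent.Lib.AlgStSmoothLocus.smooth_image_of_smooth_comp e h O' hO'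
    refine ⟨O, ?_, hsm⟩
    show e p ∈ (O : Set U)
    rw [hO]
    exact ⟨p, hp, rfl⟩
  · rintro ⟨W, hp, hW⟩
    exact ⟨e ⁻¹ᵁ W, hp, Groth.Agent.Lib.AlgStSmoothLocus.smooth_preimage_comp e h W hW⟩

/-- Smooth at a point is insensitive to étale postcomposition. -/
theorem sm_tgt {U V V' : Scheme.{u}} (h : U ⟶ V) (e : V ⟶ V') [Etale e]
    [LocallyOfFinitePresentation h] (u : ↥U) : SmAt (h ≫ e) u ↔ SmAt h u := by
  unfold SmAt
  rw [← Groth.Agent.Lib.SmoothLocusBC.exists_nhds_smooth_iff,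
    ← Groth.Agent.Lib.SmoothLocusBC.exists_nhds_smooth_iff]
  constructor
  · rintro ⟨W, hu, hW⟩
    refine ⟨W, hu, ?_⟩
    rw [← Category.assoc] at hW
    haveI := smooth_hasOfPostcomp_etale
    exact MorphismProperty.of_postcomp (W := @Smooth) (W' := @Etale) (W.ι ≫ h) e ‹_› hW
  · rintro ⟨W, hu, hW⟩
    refine ⟨W, hu, ?_⟩
    rw [← Category.assoc]
    infer_instance

/-- **Chart independence** of "smooth at a point" for a morphism locally of finite presentation. -/
theorem chart_indep {X Y : Sp S} (f : X ⟶ Y) (hf2 : LocP @LocallyOfFinitePresentation f)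
    {U V U' V' : Over S} (a : (yon S).obj U ⟶ X) (b : (yon S).obj V ⟶ Y) (h : U ⟶ V)
    (a' : (yon S).obj U' ⟶ X) (b' : (yon S).obj V' ⟶ Y) (h' : U' ⟶ V')
    (ha : RepWith @Etale a) (hb : RepWith @Etale b) (ha' : RepWith @Etale a')
    (hb' : RepWith @Etale b') (hc : a ≫ f = (yon S).map h ≫ b) (hc' : a' ≫ f = (yon S).map h' ≫ b')
    (u : ↥U.left) (u' : ↥U'.left) (hu : Points.ofPt a u = Points.ofPt a' u') :
    SmAt h.left u ↔ SmAt h'.left u' := by
  -- P = U' ×_X U
  have hrP := ((repWith_iff _ _).1 ha').1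
  have sqP := hrP.isPullback' a
  obtain ⟨p, hp1, hp2⟩ := exists_point_of_ofPt_eq sqP u' u hu.symm
  have e1 : Etale (hrP.snd a).left := ((repWith_iff _ _).1 ha').2 _ _ _ sqP
  have e2 : Etale (hrP.fst' a).left := ((repWith_iff _ _).1 ha).2 _ _ _ sqP.flip
  -- Q = V' ×_Y V
  have hrQ := ((repWith_iff _ _).1 hb').1
  have sqQ := hrQ.isPullback' b
  have e3 : Etale (hrQ.snd b).left := ((repWith_iff _ _).1 hb').2 _ _ _ sqQ
  have e4 : Etale (hrQ.fst' b).left := ((repWith_iff _ _).1 hb).2 _ _ _ sqQ.flip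
  -- k : P ⟶ Q
  have hk : (yon S).map (hrP.fst' a ≫ h') ≫ b' = (yon S).map (hrP.snd a ≫ h) ≫ b := by
    rw [Functor.map_comp, Functor.map_comp, Category.assoc, Category.assoc, ← hc, ← hc',
      ← Category.assoc, ← Category.assoc, sqP.w]
  let k := hrQ.lift' (hrP.fst' a ≫ h') (hrP.snd a ≫ h) hk
  have k1 : k ≫ hrQ.fst' b = hrP.fst' a ≫ h' := hrQ.lift'_fst _ _ hk
  have k2 : k ≫ hrQ.snd b = hrP.snd a ≫ h := hrQ.lift'_snd _ _ hk
  have k1' : k.left ≫ (hrQ.fst' b).left = (hrP.fst' a).left ≫ h'.left := by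
    rw [← Over.comp_left, k1, Over.comp_left]
  have k2' : k.left ≫ (hrQ.snd b).left = (hrP.snd a).left ≫ h.left := by
    rw [← Over.comp_left, k2, Over.comp_left]
  -- the chart diagram `(P, Q, k)`
  have haP : RepWith @Etale ((yon S).map (hrP.snd a) ≫ a) :=
    MorphismProperty.comp_mem _ _ _ ((repWith_yon_map_iff _ _).2 e1) ha
  have hbQ : RepWith @Etale ((yon S).map (hrQ.snd b) ≫ b) :=
    MorphismProperty.comp_mem _ _ _ ((repWith_yon_map_iff _ _).2 e3) hb
  have hcK : ((yon S).map (hrP.snd a) ≫ a) ≫ f = (yon S).map k ≫ (yon S).map (hrQ.snd b) ≫ b := by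
    rw [Category.assoc, hc, ← Category.assoc, ← Functor.map_comp, ← Category.assoc,
      ← Functor.map_comp, k2]
  haveI : LocallyOfFinitePresentation k.left := hf2 _ _ k haP hbQ hcK
  haveI : LocallyOfFinitePresentation h.left := hf2 a b h ha hb hc
  haveI : LocallyOfFinitePresentation h'.left := hf2 a' b' h' ha' hb' hc'
  haveI := e1; haveI := e2; haveI := e3; haveI := e4
  have r1 : SmAt h.left u ↔ SmAt k.left p := by
    rw [← hp2, ← sm_src (hrP.snd a).left h.left p, ← k2', sm_tgt]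
  have r2 : SmAt h'.left u' ↔ SmAt k.left p := by
    rw [← hp1, ← sm_src (hrP.fst' a).left h'.left p, ← k1', sm_tgt]
  rw [r1, r2]

/-- The all-charts form of "smooth at a point" can be tested on one chart diagram. -/
theorem locPAt_sm_iff {X Y : Sp S} (f : X ⟶ Y) (hf2 : LocP @LocallyOfFinitePresentation f)
    {U V : Over S} (a : (yon S).obj U ⟶ X) (b : (yon S).obj V ⟶ Y) (h : U ⟶ V)
    (ha : RepWith @Etale a) (hb : RepWith @Etale b) (hc : a ≫ f = (yon S).map h ≫ b) (u : ↥U.left) :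
    LocPAt (fun h u => SmAt h u) f (Points.ofPt a u) ↔ SmAt h.left u := by
  constructor
  · intro H
    exact H a b h u ha hb hc rfl
  · intro H U' V' a' b' h' u' ha' hb' hc' hu'
    exact (chart_indep f hf2 a b h a' b' h' ha hb ha' hb' hc hc' u u' hu'.symm).1 H

/-- For a flat morphism `f : X ⟶ Y` of algebraic spaces over `S`, locally of finite presentation,
the set of points of `|X|` at which `f` is smooth (all-charts form) is open and commutes with
base change. -/
theorem smLocus_open_baseChange {X Y : AlgSp.Space S} (f : X ⟶ Y)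
    (hf1 : AlgSp.LocP @Flat f.hom) (hf2 : AlgSp.LocP @LocallyOfFinitePresentation f.hom) :
    IsOpen {x : AlgSp.Points X.obj | AlgSp.LocPAt (fun h u => SmAt h u) f.hom x} ∧
      ∀ (X' Y' : AlgSp.Space S) (g : Y' ⟶ Y) (g' : X' ⟶ X) (f' : X' ⟶ Y'), IsPullback g'.hom f'.hom f.hom g.hom →
        {x' : AlgSp.Points X'.obj | AlgSp.LocPAt (fun h u => SmAt h u) f'.hom x'} =
          AlgSp.Points.map g'.hom ⁻¹' {x : AlgSp.Points X.obj | AlgSp.LocPAt (fun h u => SmAt h u) f.hom x} := by
  refine ⟨?_, ?_⟩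
  · rw [isOpen_iff_forall_mem_open]
    intro x hx
    obtain ⟨U, V, a, b, h, u, ha, hb, hc, rfl⟩ :=
      Groth.Agent.Lib.AlgSpQFAt91.exists_chart_diagram X.property Y.property f.hom x
    haveI : LocallyOfFinitePresentation h.left := hf2 a b h ha hb hc
    have hopen : IsOpen {y | SmAt h.left y} := h.left.isOpen_smoothLocus
    refine ⟨Points.ofPt a '' {y | SmAt h.left y}, ?_,
      Groth.Agent.Lib.H86AlgSpPoints.isOpenMap_ofPt ha _ hopen,
      ⟨u, (locPAt_sm_iff f.hom hf2 a b h ha hb hc u).1 hx, rfl⟩⟩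
    rintro _ ⟨y, hy, rfl⟩
    exact (locPAt_sm_iff f.hom hf2 a b h ha hb hc y).2 hy
  · intro X' Y' g g' f' sq
    have hf2' : AlgSp.LocP @LocallyOfFinitePresentation f'.hom :=
      Groth.Agent.Lib.AlgSpLocP.locP_of_isPullback Groth.Agent.Lib.AlgSpLocP.etLocalClass_lfp
        X.property Y.property Y'.property sq hf2
    ext x''
    simp only [Set.mem_ofPred_eq, Set.mem_preimage]
    obtain ⟨U, V, U'', V'', a, c, a'', c'', h, h'', gU, gV, u'', ha, hc, ha'', hc'', hcf, hcf'', hab, -,
      sqA, rfl⟩ := Groth.Agent.Lib.AlgSpQFBC91.exists_baseChange_chart X.property Y.property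
        X'.property Y'.property sq x''
    haveI : Flat h.left := hf1 a c h ha hc hcf
    haveI : LocallyOfFinitePresentation h.left := hf2 a c h ha hc hcf
    haveI : LocallyOfFinitePresentation h''.left := hf2' a'' c'' h'' ha'' hc'' hcf''
    have hpt : Points.map g'.hom (Points.ofPt a'' u'') = Points.ofPt a (gU.left u'') := by
      rw [Points.map_ofPt, hab, Groth.Agent.Lib.AlgSpPoints.ofPt_yon_map_comp]
    rw [hpt, locPAt_sm_iff f.hom hf2 a c h ha hc hcf,
      locPAt_sm_iff f'.hom hf2' a'' c'' h'' ha'' hc'' hcf'']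
    have hbc := Groth.Agent.S2155.result h.left gV.left h''.left gU.left sqA (Or.inl inferInstance)
    have hmem : u'' ∈ h''.left.smoothLocus ↔ u'' ∈ gU.left ⁻¹ᵁ h.left.smoothLocus := by rw [hbc]
    exact hmem

end Groth.Agent.Lib.H14AlgSpSmLocus
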