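/-
helper14: regularity passes to generizations; points of a scheme universally closed over a local
ring specialize into the closed fibre; regularity of `X` proper over a Noetherian local ring `A`
versus regularity of `X ×_A Â`.
-/
import Groth.Agent.Lib.H14BcCpl
import Groth.Agent.Lib.H87Serre2
import Mathlib

set_option autoImplicit false
set_option linter.style.haveILetI false
set_option linter.unusedSectionVars false
universe u

open CategoryTheory CategoryTheory.Limits AlgebraicGeometry TensorProduct

namespace Groth.Agent.Lib.H14BcCpl

open Groth.Agent.Lib.H71GeomRedAt IsLocalRing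

set_option backward.isDefEq.respectTransparency.types false in
/-- Regularity of local rings passes to generizations. -/
theorem regular_of_specializes {X : Scheme.{u}} {x x₀ : X} (h : x ⤳ x₀)
    (hreg : IsRegularLocalRing (X.presheaf.stalk x₀)) :
    IsRegularLocalRing (X.presheaf.stalk x) := by
  have hx : x ∈ Set.range (X.fromSpecStalk x₀) := by
    rw [Scheme.range_fromSpecStalk]; exact h
  obtain ⟨p, rfl⟩ := hx
  have hbij : Function.Bijective ((X.fromSpecStalk x₀).stalkMap p).hom :=
    ⟨Groth.Agent.Lib.GeomFieldExt.stalkMap_injective_of_flat _ p,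
      (X.fromSpecStalk x₀).stalkMap_surjective p⟩
  let e1 := RingEquiv.ofBijective _ hbij
  let e3 := (Spec.stalkIso (X.presheaf.stalk x₀) p).commRingCatIsoToRingEquiv
  haveI : p.asIdeal.IsPrime := p.isPrime
  haveI : IsRegularLocalRing (Localization.AtPrime p.asIdeal) :=
    Groth.Agent.Lib.H87Serre2.isRegularLocalRing_localization p.asIdeal
  exact IsRegularLocalRing.of_ringEquiv (e3.symm.trans e1.symm)

set_option backward.isDefEq.respectTransparency.types false in
/-- Every point of a scheme universally closed over a local ring specializes to a point of the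
closed fibre. -/
theorem exists_specializes_closedFibre {R : Type u} [CommRing R] [IsLocalRing R] {Y : Scheme.{u}}
    (g : Y ⟶ Spec (CommRingCat.of R)) [UniversallyClosed g] (y : Y) :
    ∃ y₀ : Y, y ⤳ y₀ ∧ g y₀ = closedPoint R := by
  have hcl : IsClosed (g '' closure {y}) := g.isClosedMap _ isClosed_closure
  have hz : g y ∈ g '' closure {y} := ⟨y, subset_closure rfl, rfl⟩
  have hmem : closedPoint R ∈ g '' closure {y} :=
    (specializes_closedPoint (g y)).mem_closed hcl hz
  obtain ⟨y₀, hy₀, hg⟩ := hmem
  exact ⟨y₀, specializes_iff_mem_closure.mpr hy₀, hg⟩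

/-- **Regularity of a proper scheme over a Noetherian local ring versus its base change to the
completion.** -/
theorem regular_iff_of_proper (A : Type u) [CommRing A] [IsLocalRing A] [IsNoetherianRing A]
    (X : Scheme.{u}) (f : X ⟶ Spec (CommRingCat.of A)) [IsProper f] :
    (∀ x : X, IsRegularLocalRing (X.presheaf.stalk x)) ↔
      ∀ y : Curv2.bcCpl A f, IsRegularLocalRing ((Curv2.bcCpl A f).presheaf.stalk y) := by
  constructor
  · intro h y
    obtain ⟨y₀, hy₀, hg⟩ := exists_specializes_closedFibre (Curv2.bcCplSnd A f) y
    exact regular_of_specializes hy₀ ((regular_iff A f y₀ hg).mpr (h _))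
  · intro h x
    obtain ⟨x₀, hx₀, hg⟩ := exists_specializes_closedFibre f x
    obtain ⟨y₀, hy1, hy2⟩ := Scheme.Pullback.exists_preimage_pullback
      (f := f) (g := Spec.map (CommRingCat.ofHom (algebraMap A (Curv2.cpl A))))
      x₀ (closedPoint (Curv2.cpl A))
      (by rw [hg]; exact (IsLocalRing.comap_closedPoint (algebraMap A (Curv2.cpl A))).symm)
    have h1 := (regular_iff A f y₀ hy2).mp (h y₀)
    rw [regular_stalk_congr hy1] at h1
    exact regular_of_specializes hx₀ h1

end Groth.Agent.Lib.H14BcCpl
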