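import Groth.Agent.Lib.H14CIAscent
import Groth.Agent.Lib.H56SkFibre
import Groth.Agent.Lib.H14GeomP7
import Groth.Prelude.Def_CAlg
import Mathlib

/-!
# Complete intersection homomorphisms (helper14)

Mirrors `H14GorHom`/`H14GorComp` for `LocCI` (Noetherian with complete intersection local rings).
* `isCompleteIntersection_localization_of_fiber`: `R → S` flat Noetherian, `Q` a prime of `κ(p) ⊗ S`
  with contraction `r`: `R_p` and `(κ(p) ⊗ S)_Q` CI ⇒ `S_r` CI (Avramov ascent).
* `LocCI.of_flat_of_fibre`: ascent for rings.
* `locCI_of_isRegularRing`, `locCI_field_tensor`, `IsCIHom`, `IsCIHom.comp`,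
  `isCIHom_of_isRegularHom` (S8951).
-/

set_option autoImplicit false
set_option linter.style.haveILetI false
set_option linter.unusedSectionVars false
universe u
open CategoryTheory IsLocalRing TensorProduct

namespace Groth.Agent.Lib.H14CIHom

open Groth.Agent.Lib Groth.Agent.Lib.H14CIPoly

section Fibre

variable {R S : Type u} [CommRing R] [CommRing S] [Algebra R S] [Module.Flat R S]
  [IsNoetherianRing R] [IsNoetherianRing S]

/-- For a flat map `R → S` of Noetherian rings, a prime `p` of `R` and a prime `Q` of the fibre ring
`κ(p) ⊗ S` with contraction `r` to `S`: if `R_p` and the local ring of the fibre at `Q` are complete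
intersections then so is `S_r`. -/
theorem isCompleteIntersection_localization_of_fiber (p : Ideal R) [p.IsPrime]
    (Q : Ideal (p.Fiber S)) [Q.IsPrime]
    (h1 : Pi1.IsCompleteIntersection (Localization.AtPrime p))
    (h2 : Pi1.IsCompleteIntersection (Localization.AtPrime Q)) :
    Pi1.IsCompleteIntersection (Localization.AtPrime (Q.comap
      (Algebra.TensorProduct.includeRight (R := R) (A := p.ResidueField) (B := S)))) := by
  set r := Q.comap (Algebra.TensorProduct.includeRight (R := R) (A := p.ResidueField) (B := S))
    with hr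
  let : Algebra (Localization.AtPrime p) (Localization.AtPrime r) :=
    Localization.AtPrime.algebraOfLiesOver p r
  have hloc : IsLocalHom (algebraMap (Localization.AtPrime p) (Localization.AtPrime r)) :=
    Localization.isLocalHom_localRingHom _ _ _ Ideal.LiesOver.over
  let e := Ideal.Fiber.algEquivAux₂ p Q
  have hI : (p.map (algebraMap R S)).map (algebraMap S (Localization.AtPrime r)) =
      (maximalIdeal (Localization.AtPrime p)).map
        (algebraMap (Localization.AtPrime p) (Localization.AtPrime r)) := by
    rw [← Localization.AtPrime.map_eq_maximalIdeal, Ideal.map_map, Ideal.map_map]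
    congr 1
    rw [← IsScalarTower.algebraMap_eq, ← IsScalarTower.algebraMap_eq]
  have hflat : Module.Flat (Localization.AtPrime p) (Localization.AtPrime r) := inferInstance
  let π : Localization.AtPrime r →+* Localization.AtPrime Q :=
    (e.symm.toRingEquiv : _ →+* Localization.AtPrime Q).comp
      (Ideal.Quotient.mk ((p.map (algebraMap R S)).map (algebraMap S (Localization.AtPrime r))))
  have hπe : ∀ x, π x = e.symm (Ideal.Quotient.mk _ x) := fun x => rfl
  have hπ : Function.Surjective π := by
    intro y
    obtain ⟨x, hx⟩ := Ideal.Quotient.mk_surjective (e y)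
    refine ⟨x, ?_⟩
    rw [hπe, hx, AlgEquiv.symm_apply_apply]
  have hker : RingHom.ker π = (maximalIdeal (Localization.AtPrime p)).map
      (algebraMap (Localization.AtPrime p) (Localization.AtPrime r)) := by
    rw [← hI]
    ext x
    rw [RingHom.mem_ker, hπe, map_eq_zero_iff _ e.symm.injective, Ideal.Quotient.eq_zero_iff_mem]
  exact H14CIAscent.isCompleteIntersection_of_flat (Localization.AtPrime p)
    (Localization.AtPrime r) (Localization.AtPrime Q) π hπ hker h1 h2

theorem isCompleteIntersection_localization_of_fiber' (p : Ideal R) [p.IsPrime]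
    (Q : Ideal (p.Fiber S)) [Q.IsPrime] (q : Ideal S) [q.IsPrime]
    (hq : Q.comap (Algebra.TensorProduct.includeRight
      (R := R) (A := p.ResidueField) (B := S)) = q)
    (h1 : Pi1.IsCompleteIntersection (Localization.AtPrime p))
    (h2 : Pi1.IsCompleteIntersection (Localization.AtPrime Q)) :
    Pi1.IsCompleteIntersection (Localization.AtPrime q) := by
  subst hq
  exact isCompleteIntersection_localization_of_fiber p Q h1 h2

/-- **CI ascent**: flat `R → S` of Noetherian rings, `R` locally CI and all fibre rings locally CI
⇒ `S` locally CI. -/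
theorem LocCI.of_flat_of_fibre (hR : LocCI R)
    (hfib : ∀ (p : Ideal R) [p.IsPrime], LocCI (p.Fiber S)) : LocCI S := by
  refine ⟨inferInstance, fun q hq => ?_⟩
  obtain ⟨Q, hQ, hQq⟩ := H56SkFibre.exists_fiber_prime (q.under R) q
  exact isCompleteIntersection_localization_of_fiber' (q.under R) Q q hQq (hR.2 _)
    ((hfib (q.under R)).2 Q)

end Fibre

/-- A regular local ring is a complete intersection. -/
theorem isCompleteIntersection_of_isRegularLocalRing (R : Type u) [CommRing R]
    [IsRegularLocalRing R] : Pi1.IsCompleteIntersection R := by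
  refine H14CIOpen.isCompleteIntersection_of_ker_regular (RingHom.id R) Function.surjective_id []
    ?_ (RingTheory.Sequence.IsRegular.nil R R)
  rw [Ideal.ofList_nil]
  exact (RingHom.ker_eq_bot_iff_eq_zero (RingHom.id R)).mpr (fun x hx => hx) |>.symm

/-- A regular ring is locally a complete intersection. -/
theorem locCI_of_isRegularRing (R : Type u) [CommRing R] [IsRegularRing R] : LocCI R :=
  ⟨inferInstance, fun _ _ => isCompleteIntersection_of_isRegularLocalRing _⟩

/-- For a ring map `R → T` with locally CI fibres and a field `K` essentially of finite type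
over `R`, the ring `K ⊗[R] T` is locally CI. -/
theorem locCI_field_tensor (R T K : Type u) [CommRing R] [CommRing T] [Algebra R T]
    [Field K] [Algebra R K] [Algebra.EssFiniteType R K]
    (h : ∀ (p : Ideal R) [p.IsPrime], LocCI (p.Fiber T)) : LocCI (K ⊗[R] T) := by
  obtain ⟨p, _, _, _⟩ := H14GeomP.exists_residueField_algebra R K
  have : Algebra.EssFiniteType p.ResidueField K := Algebra.EssFiniteType.of_comp R _ _
  have hfg : (⊤ : IntermediateField p.ResidueField K).FG := IntermediateField.fg_top_iff.mpr this
  have h1 : LocCI (K ⊗[p.ResidueField] (p.Fiber T)) :=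
    locCI_fieldExtStable.preserves_of_top_fg p.ResidueField K hfg _ (h p)
  exact h1.of_ringEquiv
    (Algebra.TensorProduct.cancelBaseChange R p.ResidueField p.ResidueField K T).toRingEquiv

/-- A complete intersection homomorphism: flat with locally CI fibre rings. -/
def IsCIHom (R T : Type u) [CommRing R] [CommRing T] [Algebra R T] : Prop :=
  Module.Flat R T ∧ ∀ (p : Ideal R) [p.IsPrime], LocCI (p.Fiber T)

section Comp

variable {R T U : Type u} [CommRing R] [CommRing T] [CommRing U] [Algebra R T] [Algebra T U]
  [Algebra R U] [IsScalarTower R T U]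

/-- The fibre of a composite: `(T ⊗[R] κ) ⊗[T] U ≃ κ ⊗[R] U`. -/
noncomputable def fibreCompEquiv (κ : Type u) [CommRing κ] [Algebra R κ] :
    ((T ⊗[R] κ) ⊗[T] U) ≃+* (κ ⊗[R] U) :=
  ((Algebra.TensorProduct.comm T (T ⊗[R] κ) U).toRingEquiv.trans
    (Algebra.TensorProduct.cancelBaseChange R T U U κ).toRingEquiv).trans
    (Algebra.TensorProduct.comm R U κ).toRingEquiv

/-- Composition of complete intersection homomorphisms (target Noetherian). -/
theorem IsCIHom.comp [IsNoetherianRing U] (h1 : IsCIHom R T) (h2 : IsCIHom T U) :
    IsCIHom R U := by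
  have hf1 := h1.1
  have hf2 := h2.1
  refine ⟨Module.Flat.trans R T U, fun p _ => ?_⟩
  have hF : LocCI (p.Fiber T) := h1.2 p
  have hF' : LocCI (T ⊗[R] p.ResidueField) :=
    hF.of_ringEquiv (Algebra.TensorProduct.comm R p.ResidueField T).toRingEquiv
  have hN0 : IsNoetherianRing (T ⊗[R] p.ResidueField) := hF'.1
  have hN1 : IsNoetherianRing (U ⊗[R] p.ResidueField) :=
    Algebra.EssFiniteType.isNoetherianRing U _
  have hN2 : IsNoetherianRing ((T ⊗[R] p.ResidueField) ⊗[T] U) :=
    isNoetherianRing_of_ringEquiv _
      ((Algebra.TensorProduct.comm T (T ⊗[R] p.ResidueField) U).toRingEquiv.trans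
        (Algebra.TensorProduct.cancelBaseChange R T U U p.ResidueField).toRingEquiv).symm
  have hG1 : LocCI ((T ⊗[R] p.ResidueField) ⊗[T] U) := by
    refine LocCI.of_flat_of_fibre
      (R := T ⊗[R] p.ResidueField) (S := (T ⊗[R] p.ResidueField) ⊗[T] U) hF' ?_
    intro Q _
    let _ : Algebra T Q.ResidueField :=
      ((algebraMap (T ⊗[R] p.ResidueField) Q.ResidueField).comp
        (algebraMap T (T ⊗[R] p.ResidueField))).toAlgebra
    have : IsScalarTower T (T ⊗[R] p.ResidueField) Q.ResidueField :=
      IsScalarTower.of_algebraMap_eq (fun _ => rfl)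
    have : Algebra.EssFiniteType T Q.ResidueField :=
      Algebra.EssFiniteType.comp T (T ⊗[R] p.ResidueField) Q.ResidueField
    have h3 := locCI_field_tensor T U Q.ResidueField h2.2
    exact h3.of_ringEquiv
      (Algebra.TensorProduct.cancelBaseChange T (T ⊗[R] p.ResidueField)
        Q.ResidueField Q.ResidueField U).symm.toRingEquiv
  exact hG1.of_ringEquiv (fibreCompEquiv (R := R) (T := T) (U := U) p.ResidueField)

end Comp

/-- A regular homomorphism is a complete intersection homomorphism. -/
theorem isCIHom_of_isRegularHom (R T : Type u) [CommRing R] [CommRing T] [Algebra R T]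
    (h : CAlg.IsRegularHom R T) : IsCIHom R T := by
  refine ⟨h.1, fun p _ => ?_⟩
  have hN := (h.2 p).1
  have h1 : IsRegularRing (p.ResidueField ⊗[p.ResidueField] (p.Fiber T)) :=
    (h.2 p).2 p.ResidueField inferInstance
  have h2 : IsRegularRing (p.Fiber T) :=
    @IsRegularRing.of_ringEquiv _ _ _ _
      (Algebra.TensorProduct.lid p.ResidueField (p.Fiber T)).toRingEquiv h1
  exact locCI_of_isRegularRing _

end Groth.Agent.Lib.H14CIHom
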