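/-
helper14: Stacks 0BG8-type statement (S1599): `A` Noetherian local, `B ⊆ C` finite `A`-algebras,
`B` normal and `Ĉ` normal ⇒ `B̂` normal.

* `isNormalRing_of_isLocalization` : normality passes to localizations.
* `two_le_of_flat_local` : flat local hom out of a normal local domain of dim ≥ 2 ⇒ target has
  dim ≥ 2 and depth ≥ 2.
* `exists_primes_over`, `flat_atPrime` : for `B ⊆ C` integral and `B_q` a PID there is a prime `n'`
  of `C` over `q` with `C_{n'}` flat over `B` (when `C_{n'}` is a domain).
* `isNormalRing_tensor_atPrime` : `D ⊗[B] C_{n'}` is a localization of `D ⊗[B] C`.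
* `normal_atPrime_of_tensor` : key descent step.
* `dichotomy`, `completion_normal`.
-/
import Mathlib
import Groth.Agent.Lib.H14SerreNormal
import Groth.Agent.Lib.H14NormalHom
import Groth.Agent.Lib.H14FlatAscent
import Groth.Agent.Lib.SkFlat33
import Groth.Agent.Lib.SrcLocalRing
import Groth.Agent.Lib.FibreBaseChangeApps
import Groth.Agent.Lib.ComplQuotient96
import Groth.Agent.Lib.AdicNoeth
import Groth.Agent.Lib.H8CM9
import Groth.Agent.Lib.ComplMap

set_option autoImplicit false
set_option linter.style.haveILetI false
universe u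
open TensorProduct IsLocalRing

namespace Groth.Agent.Lib.H14ComplNormalSub

/-- Normality passes to localizations. -/
theorem isNormalRing_of_isLocalization {R : Type u} [CommRing R] (M : Submonoid R) (S : Type u)
    [CommRing S] [Algebra R S] [IsLocalization M S] (hR : EGA4.IsNormalRing R) :
    EGA4.IsNormalRing S := by
  have h1 : EGA4.IsNormalRing (Localization M) :=
    Groth.Agent.Lib.H14NormalHom.isNormalRing_localization_of_atPrime M (fun P _ _ => hR P)
  exact Groth.Agent.Lib.FibreBaseChangeApps.isNormalRing_of_ringEquiv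
    (IsLocalization.algEquiv M (Localization M) S).toRingEquiv h1

theorem normal_congr {R : Type u} [CommRing R] (p p' : Ideal R) [p.IsPrime] [p'.IsPrime]
    (h : p = p')
    (hn : IsDomain (Localization.AtPrime p) ∧ IsIntegrallyClosed (Localization.AtPrime p)) :
    IsDomain (Localization.AtPrime p') ∧ IsIntegrallyClosed (Localization.AtPrime p') := by
  subst h; exact hn

/-- Flat local homomorphism out of a normal local domain of dimension `≥ 2`: the target has
dimension `≥ 2` and depth `≥ 2`. -/
theorem two_le_of_flat_local (M N : Type u) [CommRing M] [CommRing N] [IsLocalRing M]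
    [IsLocalRing N] [IsNoetherianRing M] [IsNoetherianRing N] [Algebra M N]
    [IsLocalHom (algebraMap M N)] [Module.Flat M N] [IsDomain M] [IsIntegrallyClosed M]
    (h : ¬ ringKrullDim M ≤ 1) :
    ¬ ringKrullDim N ≤ 1 ∧ (2 : ℕ∞) ≤ LocCoh.depth N N := by
  constructor
  · intro hN
    apply h
    have h1 := Groth.Agent.Lib.SkFlat33.ringKrullDim_eq_add (A := M) (B := N)
    haveI := Groth.Agent.Lib.SkFlat33.nontrivial_fibre (A := M) (B := N)
    have h2 : (0 : WithBot ℕ∞) ≤ ringKrullDim (N ⧸ (maximalIdeal M).map (algebraMap M N)) :=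
      ringKrullDim_nonneg_of_nontrivial
    calc ringKrullDim M ≤ ringKrullDim M + ringKrullDim (N ⧸ (maximalIdeal M).map (algebraMap M N)) :=
          le_add_of_nonneg_right h2
      _ = ringKrullDim N := h1.symm
      _ ≤ 1 := hN
  · have h1 := Groth.Agent.Lib.SkFlat33.depth_eq_add (A := M) (B := N)
    have h2 := Groth.Agent.Lib.H14SerreNormal.min_two_height_le_depth_of_normal M
    have h3 : (2 : ℕ∞) ≤ (maximalIdeal M).height := by
      by_contra hcon
      apply h
      rw [← maximalIdeal_height_eq_ringKrullDim]
      have : (maximalIdeal M).height ≤ 1 := by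
        have h4 : (maximalIdeal M).height < 1 + 1 := by
          have := not_le.mp hcon
          rwa [one_add_one_eq_two]
        exact Order.le_of_lt_add_one h4
      exact_mod_cast this
    rw [min_eq_left h3] at h2
    rw [h1]
    exact h2.trans le_self_add

section primes

variable (B C : Type u) [CommRing B] [CommRing C] [Algebra B C]

/-- For an injective integral extension `B → C` and a prime `q` of `B` with `B_q` a domain there
are primes `P ≤ n'` of `C` with `n' ∩ B = q` and `P ∩ B ⊆ ker (B → B_q)`. -/
theorem exists_primes_over [Algebra.IsIntegral B C]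
    (hinj : Function.Injective (algebraMap B C)) (q : Ideal B) [q.IsPrime]
    [IsDomain (Localization.AtPrime q)] :
    ∃ (P n' : Ideal C), P.IsPrime ∧ n'.IsPrime ∧ P ≤ n' ∧ n'.comap (algebraMap B C) = q ∧
      ∀ b : B, algebraMap B C b ∈ P → algebraMap B (Localization.AtPrime q) b = 0 := by
  set p₀ : Ideal B := RingHom.ker (algebraMap B (Localization.AtPrime q)) with hp₀
  haveI : p₀.IsPrime := RingHom.ker_isPrime _
  have hp₀q : p₀ ≤ q := by
    intro b hb
    have h1 : algebraMap B (Localization.AtPrime q) b = 0 := hb
    have h2 : b ∈ (maximalIdeal (Localization.AtPrime q)).comap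
        (algebraMap B (Localization.AtPrime q)) := by
      rw [Ideal.mem_comap, h1]; exact Ideal.zero_mem _
    have h3 := IsLocalization.AtPrime.under_maximalIdeal (Localization.AtPrime q) q
    rw [Ideal.under_def] at h3
    rwa [h3] at h2
  obtain ⟨P, hPprime, -, hPdisj⟩ := Ideal.exists_le_prime_disjoint (⊥ : Ideal C)
    (p₀.primeCompl.map (algebraMap B C)) (by
      rw [Set.disjoint_left]
      rintro x hx ⟨b, hb, rfl⟩
      have h0 : algebraMap B C b = 0 := hx
      have : b = 0 := hinj (by rw [h0, map_zero])
      exact hb (by rw [this]; exact Ideal.zero_mem _))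
  have hP : ∀ b : B, algebraMap B C b ∈ P → b ∈ p₀ := by
    intro b hb
    by_contra hcon
    exact Set.disjoint_left.mp hPdisj hb ⟨b, hcon, rfl⟩
  have hPq : P.comap (algebraMap B C) ≤ q := fun b hb => hp₀q (hP b hb)
  obtain ⟨n', hPn', hn'prime, hn'q⟩ := Ideal.exists_ideal_over_prime_of_isIntegral q P hPq
  exact ⟨P, n', hPprime, hn'prime, hPn', hn'q, fun b hb => hP b hb⟩

/-- In the situation of `exists_primes_over`, if moreover `B_q` is a PID and `C_{n'}` is a domain,
then `C_{n'}` is flat over `B`. -/
theorem flat_atPrime (q : Ideal B) [q.IsPrime] (P n' : Ideal C) [P.IsPrime] [n'.IsPrime]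
    (hPn' : P ≤ n') (hn'q : n'.comap (algebraMap B C) = q)
    (hP : ∀ b : B, algebraMap B C b ∈ P → algebraMap B (Localization.AtPrime q) b = 0)
    [IsDomain (Localization.AtPrime q)] [IsPrincipalIdealRing (Localization.AtPrime q)]
    [IsDomain (Localization.AtPrime n')] :
    Module.Flat B (Localization.AtPrime n') := by
  haveI : n'.LiesOver q := ⟨hn'q.symm⟩
  letI := Localization.AtPrime.algebraOfLiesOver q n'
  have hinj : Function.Injective (algebraMap (Localization.AtPrime q) (Localization.AtPrime n')) := by
    rw [injective_iff_map_eq_zero]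
    intro x hx
    obtain ⟨b, s, rfl⟩ := IsLocalization.exists_mk'_eq q.primeCompl x
    have h1 : algebraMap B (Localization.AtPrime n') b = 0 := by
      rw [IsScalarTower.algebraMap_apply B (Localization.AtPrime q) (Localization.AtPrime n'),
        ← IsLocalization.mk'_spec (Localization.AtPrime q) b s, map_mul, hx, zero_mul]
    rw [IsScalarTower.algebraMap_apply B C (Localization.AtPrime n'),
      IsLocalization.map_eq_zero_iff n'.primeCompl] at h1
    obtain ⟨t, ht⟩ := h1
    have htP : (t : C) ∉ P := fun h => t.2 (hPn' h)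
    have h2 : algebraMap B C b ∈ P := by
      have : (t : C) * algebraMap B C b ∈ P := by rw [ht]; exact Ideal.zero_mem _
      exact (‹P.IsPrime›.mem_or_mem this).resolve_left htP
    have h3 := hP b h2
    rw [IsLocalization.mk'_eq_zero_iff]
    exact (IsLocalization.map_eq_zero_iff q.primeCompl _ _).mp h3
  haveI : Module.IsTorsionFree (Localization.AtPrime q) (Localization.AtPrime n') :=
    Module.isTorsionFree_iff_algebraMap_injective.mpr hinj
  haveI : Module.Flat (Localization.AtPrime q) (Localization.AtPrime n') := inferInstance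
  exact Module.Flat.trans B (Localization.AtPrime q) (Localization.AtPrime n')

end primes

section descent

variable (B C D : Type u) [CommRing B] [CommRing C] [CommRing D] [Algebra B C] [Algebra B D]

/-- `D ⊗[B] C_{n'}` is a localization of `D ⊗[B] C`, so it is normal if the latter is. -/
theorem isNormalRing_tensor_atPrime (hE : EGA4.IsNormalRing (D ⊗[B] C)) (n' : Ideal C)
    [n'.IsPrime] : EGA4.IsNormalRing (D ⊗[B] Localization.AtPrime n') := by
  letI : Algebra (D ⊗[B] C) (D ⊗[B] Localization.AtPrime n') :=
    (Algebra.TensorProduct.map (AlgHom.id B D)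
      (IsScalarTower.toAlgHom B C (Localization.AtPrime n'))).toAlgebra
  haveI : IsScalarTower D (D ⊗[B] C) (D ⊗[B] Localization.AtPrime n') :=
    .of_algebraMap_eq <| by intro; simp [RingHom.algebraMap_toAlgebra]
  haveI := IsLocalization.tensorProduct_tensorProduct_right B D n'.primeCompl
    (Localization.AtPrime n') (by ext; simp [RingHom.algebraMap_toAlgebra])
  exact isNormalRing_of_isLocalization
    (n'.primeCompl.map (Algebra.TensorProduct.includeRight (R := B) (A := D))) _ hE

/-- **Key descent step**: `B → C` injective integral, `B → D` flat, `D ⊗[B] C` normal.  For a prime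
`Q` of `D` over `q` with `B_q` a PID, the ring `D_Q` is a normal domain. -/
theorem normal_atPrime_of_tensor [Module.Flat B D] [Algebra.IsIntegral B C]
    (hinj : Function.Injective (algebraMap B C))
    (hE : EGA4.IsNormalRing (D ⊗[B] C)) (Q : Ideal D) [Q.IsPrime]
    [IsDomain (Localization.AtPrime (Q.under B))]
    [IsPrincipalIdealRing (Localization.AtPrime (Q.under B))] :
    IsDomain (Localization.AtPrime Q) ∧ IsIntegrallyClosed (Localization.AtPrime Q) := by
  obtain ⟨P, n', hPprime, hn'prime, hPn', hn'q, hP⟩ := exists_primes_over B C hinj (Q.under B)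
  -- `C_{n'}` is a normal domain, by flat descent from `C ⊗[B] D`
  have hE' : EGA4.IsNormalRing (C ⊗[B] D) :=
    Groth.Agent.Lib.FibreBaseChangeApps.isNormalRing_of_ringEquiv
      (Algebra.TensorProduct.comm B D C).toRingEquiv hE
  have hn'normal : IsDomain (Localization.AtPrime n') ∧
      IsIntegrallyClosed (Localization.AtPrime n') := by
    obtain ⟨z₀, hz₀, -⟩ := Groth.Agent.Lib.SrcLocalRing.exists_prime_tensorProduct (R := B)
      (S := C) (T := D) ⟨n', hn'prime⟩ ⟨Q, inferInstance⟩ (PrimeSpectrum.ext hn'q)
    have h1 := Groth.Agent.Lib.H14NormalHom.normal_descent_atPrime C (C ⊗[B] D) z₀.asIdeal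
      (hE' z₀.asIdeal)
    have h2 : z₀.asIdeal.under C = n' := congrArg PrimeSpectrum.asIdeal hz₀
    exact normal_congr _ _ h2 h1
  haveI := hn'normal.1
  haveI : Module.Flat B (Localization.AtPrime n') :=
    flat_atPrime B C (Q.under B) P n' hPn' hn'q hP
  -- `Z' = D ⊗[B] C_{n'}` is flat over `D` and normal
  have hZ' := isNormalRing_tensor_atPrime B C D hE n'
  have hcomap : (maximalIdeal (Localization.AtPrime n')).comap
      (algebraMap B (Localization.AtPrime n')) = Q.under B := by
    rw [IsScalarTower.algebraMap_eq B C (Localization.AtPrime n'), ← Ideal.comap_comap]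
    have h3 := IsLocalization.AtPrime.under_maximalIdeal (Localization.AtPrime n') n'
    rw [Ideal.under_def] at h3
    rw [h3, hn'q]
  obtain ⟨z, hz, -⟩ := Groth.Agent.Lib.SrcLocalRing.exists_prime_tensorProduct (R := B)
    (S := D) (T := Localization.AtPrime n') ⟨Q, inferInstance⟩
    ⟨maximalIdeal (Localization.AtPrime n'), inferInstance⟩ (PrimeSpectrum.ext hcomap.symm)
  have h1 := Groth.Agent.Lib.H14NormalHom.normal_descent_atPrime D
    (D ⊗[B] Localization.AtPrime n') z.asIdeal (hZ' z.asIdeal)
  have h2 : z.asIdeal.under D = Q := congrArg PrimeSpectrum.asIdeal hz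
  exact normal_congr _ _ h2 h1

end descent


section main

open Groth.Agent.Lib

/-- Dichotomy at a prime `Q` of a flat algebra `D` over a normal Noetherian ring `B`: either
`B_q` (`q = Q ∩ B`) is a PID, or `D_Q` has dimension and depth at least `2`. -/
theorem dichotomy (B D : Type u) [CommRing B] [CommRing D] [IsNoetherianRing B]
    [IsNoetherianRing D] [Algebra B D] [Module.Flat B D] (hB : EGA4.IsNormalRing B)
    (Q : Ideal D) [Q.IsPrime] :
    (IsDomain (Localization.AtPrime (Q.under B)) ∧
      IsPrincipalIdealRing (Localization.AtPrime (Q.under B))) ∨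
    (¬ ringKrullDim (Localization.AtPrime Q) ≤ 1 ∧
      (2 : ℕ∞) ≤ LocCoh.depth (Localization.AtPrime Q) (Localization.AtPrime Q)) := by
  obtain ⟨hd, hic⟩ := hB (Q.under B)
  by_cases h : ringKrullDim (Localization.AtPrime (Q.under B)) ≤ 1
  · left
    refine ⟨hd, ?_⟩
    have hK : Ring.KrullDimLE 1 (Localization.AtPrime (Q.under B)) := Ring.krullDimLE_iff.mpr h
    have hmax : ∀ P : Ideal (Localization.AtPrime (Q.under B)), P ≠ ⊥ → P.IsPrime →
        P = maximalIdeal _ := fun P hP hPp =>
      IsLocalRing.eq_maximalIdeal ((Ring.krullDimLE_one_iff_of_isPrime_bot.mp hK) P hP hPp)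
    have h30 : (IsIntegrallyClosed (Localization.AtPrime (Q.under B)) ∧
        ∀ P : Ideal (Localization.AtPrime (Q.under B)), P ≠ ⊥ → P.IsPrime →
          P = maximalIdeal _) ↔
        IsPrincipalIdealRing (Localization.AtPrime (Q.under B)) :=
      (tfae_of_isNoetherianRing_of_isLocalRing_of_isDomain _).out 3 0
    exact h30.mp ⟨hic, hmax⟩
  · right
    letI := Localization.AtPrime.algebraOfLiesOver (Q.under B) Q
    haveI := H14FlatAscent.isLocalHom_localization B D Q
    haveI := H14FlatAscent.flat_localization B D Q
    exact two_le_of_flat_local (Localization.AtPrime (Q.under B)) (Localization.AtPrime Q) h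

/-- **Stacks 0BG8-type statement**: normality of the completion of `B` from that of `C ⊇ B`. -/
theorem completion_normal (A : Type u) [CommRing A] [IsLocalRing A] [IsNoetherianRing A]
    (B C : Type u) [CommRing B] [CommRing C] [Algebra A B] [Algebra A C] [Algebra B C]
    [IsScalarTower A B C] [Module.Finite A B] [Module.Finite A C]
    (hinj : Function.Injective (algebraMap B C)) (hB : EGA4.IsNormalRing B)
    (hC : EGA4.IsNormalRing
      (AdicCompletion ((IsLocalRing.maximalIdeal A).map (algebraMap A C)) C)) :
    EGA4.IsNormalRing (AdicCompletion ((IsLocalRing.maximalIdeal A).map (algebraMap A B)) B) := by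
  haveI : IsNoetherianRing B := IsNoetherianRing.of_finite A B
  haveI : Module.Finite B C := Module.Finite.of_restrictScalars_finite A B C
  haveI : Algebra.IsIntegral B C := inferInstance
  set IB : Ideal B := (maximalIdeal A).map (algebraMap A B) with hIB
  set IC : Ideal C := (maximalIdeal A).map (algebraMap A C) with hIC
  have hK : IC = IB.map (algebraMap B C) := by
    rw [hIB, hIC, Ideal.map_map, ← IsScalarTower.algebraMap_eq]
  haveI : IsNoetherianRing (AdicCompletion IB B) := AdicNoeth.isNoetherianRing_adicCompletion _
  haveI : Module.Flat B (AdicCompletion IB B) := AdicCompletion.flat_of_isNoetherian IB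
  letI alg : Algebra (AdicCompletion IB B) (AdicCompletion IC C) :=
    (FSch.complMap IB IC (algebraMap B C) hK.ge).toAlgebra
  haveI tower : IsScalarTower B (AdicCompletion IB B) (AdicCompletion IC C) := by
    apply IsScalarTower.of_algebraMap_eq
    intro a
    change _ = FSch.complMap IB IC (algebraMap B C) hK.ge (algebraMap B (AdicCompletion IB B) a)
    rw [ComplMap.complMap_algebraMap, ← IsScalarTower.algebraMap_apply B C (AdicCompletion IC C)]
  have hpo : Algebra.IsPushout B C (AdicCompletion IB B) (AdicCompletion IC C) :=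
    ComplQuotient96.isPushout IB C IC hK rfl
  have hpo' : Algebra.IsPushout B (AdicCompletion IB B) C (AdicCompletion IC C) := hpo.symm
  have hE : EGA4.IsNormalRing (AdicCompletion IB B ⊗[B] C) :=
    FibreBaseChangeApps.isNormalRing_of_ringEquiv
      (Algebra.IsPushout.equiv B (AdicCompletion IB B) C (AdicCompletion IC C)).symm.toRingEquiv hC
  have key : ∀ (Q : Ideal (AdicCompletion IB B)) [Q.IsPrime],
      (IsDomain (Localization.AtPrime Q) ∧ IsIntegrallyClosed (Localization.AtPrime Q)) ∨
      (¬ ringKrullDim (Localization.AtPrime Q) ≤ 1 ∧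
        (2 : ℕ∞) ≤ LocCoh.depth (Localization.AtPrime Q) (Localization.AtPrime Q)) := by
    intro Q _
    rcases dichotomy B (AdicCompletion IB B) hB Q with ⟨hd, hpid⟩ | h
    · left
      exact normal_atPrime_of_tensor B C (AdicCompletion IB B) hinj hE Q
    · right; exact h
  refine (H14SerreNormal.serre_criterion_normal (AdicCompletion IB B)).mpr ⟨?_, ?_⟩
  · intro Q _ hQ
    have hdim : ringKrullDim (Localization.AtPrime Q) ≤ 1 := by
      rw [IsLocalization.AtPrime.ringKrullDim_eq_height Q]
      exact_mod_cast hQ
    rcases key Q with ⟨hd, hic⟩ | h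
    · exact H14SerreNormal.isRegularLocalRing_of_normal _ hdim
    · exact absurd hdim h.1
  · rw [H8CM.hasSk_self_iff]
    intro Q _
    rcases key Q with ⟨hd, hic⟩ | h
    · have h1 := H14SerreNormal.min_two_height_le_depth_of_normal (Localization.AtPrime Q)
      have hht : (maximalIdeal (Localization.AtPrime Q)).height = Q.height := by
        apply WithBot.coe_injective
        rw [maximalIdeal_height_eq_ringKrullDim, IsLocalization.AtPrime.ringKrullDim_eq_height Q]
      rw [hht] at h1
      exact_mod_cast h1
    · exact (min_le_left _ _).trans (by exact_mod_cast h.2)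

end main

end Groth.Agent.Lib.H14ComplNormalSub
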