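import Groth.Agent.Lib.H14OpenSubPoly
import Groth.Agent.Lib.AlgSpPoints
import Groth.Agent.Lib.AlgSpProper
import Groth.Agent.Lib.AlgSpProper2
import Groth.Agent.Lib.AlgSpQC
import Groth.Prelude.Def_StCurv2

/-!
# The empty family of curves (helper14)

ns `Groth.Agent.Lib.H14CurvesEmpty`.

* `locP_of_isEmpty_points` : `LocP P f` when the source of `f` has no points and `P` holds for morphisms
  of schemes with empty source.
* `emptyFam T`, `emptyFam_isCurveFam` : the empty family over `T` is a family of curves.
* `nonempty_fiber_of_empty` : a substack of `Curves S 0` cut out by a condition that is vacuous on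
  families with empty total space has an object over every `T`.
-/

set_option autoImplicit false
set_option linter.style.haveILetI false
set_option backward.isDefEq.respectTransparency false
set_option backward.isDefEq.respectTransparency.types false

namespace Groth.Agent.Lib.H14CurvesEmpty

open CategoryTheory CategoryTheory.Limits AlgebraicGeometry Opposite AlgSt AlgSp CurvSt

universe u

variable {S : Scheme.{u}}

/-- A chart of a sheaf without points has empty source. -/
theorem isEmpty_chart {F : Sp S} [IsEmpty (Points F)] {U : Over S} (a : (yon S).obj U ⟶ F) :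
    IsEmpty ↥U.left :=
  ⟨fun u => IsEmpty.false (Points.ofPt a u)⟩

/-- Properties of morphisms of schemes which hold for morphisms with empty source hold etale
locally for morphisms of sheaves whose source has no points. -/
theorem locP_of_isEmpty_points {P : MorphismProperty Scheme.{u}}
    (hP : ∀ ⦃U V : Scheme.{u}⦄ (g : U ⟶ V), IsEmpty ↥U → P g) {F G : Sp S} (f : F ⟶ G)
    [IsEmpty (Points F)] : LocP P f := by
  intro U V a b h _ _ _
  exact hP _ (isEmpty_chart a)

instance isEmpty_points_yon (E : Over S) [IsEmpty ↥E.left] : IsEmpty (Points ((yon S).obj E)) :=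
  (Points.schemeEquiv E).symm.isEmpty

section

variable {T : Over S}

/-- The empty scheme over `T`. -/
noncomputable abbrev emptyOver (T : Over S) : Over S := Over.mk (Scheme.emptyTo T.left ≫ T.hom)

noncomputable abbrev emptyHom (T : Over S) : emptyOver T ⟶ T := Over.homMk (Scheme.emptyTo T.left) rfl

instance (T : Over S) : IsEmpty ↥(emptyOver T).left := inferInstanceAs (IsEmpty (∅ : Scheme.{u}))

/-- The empty family of curves over `T`. -/
noncomputable def emptyFam (T : Over S) : SpFamObj S 0 where
  base := T
  X := (yon S).obj (emptyOver T)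
  f := (yon S).map (emptyHom T)
  sect := fun i => Fin.elim0 i
  sect_f := fun i => Fin.elim0 i

instance (T : Over S) : IsEmpty (Points (emptyFam T).X) :=
  inferInstanceAs (IsEmpty (Points ((yon S).obj (emptyOver T))))

theorem emptyFam_isCurveFam (T : Over S) : IsCurveFam (emptyFam T) := by
  have hX : IsAlgSpace (emptyFam T).X := IsAlgSpace.yon_obj _
  have hY : IsAlgSpace ((yon S).obj T) := IsAlgSpace.yon_obj _
  have hci : RepWith @IsClosedImmersion (emptyFam T).f :=
    (repWith_yon_map_iff @IsClosedImmersion (emptyHom T)).2
      (inferInstanceAs (IsClosedImmersion (Scheme.emptyTo T.left)))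
  have hqc : RepWith @QuasiCompact (emptyFam T).f :=
    (repWith_yon_map_iff @QuasiCompact (emptyHom T)).2
      (inferInstanceAs (QuasiCompact (Scheme.emptyTo T.left)))
  refine ⟨hX, ?_, ?_, ⟨?_, ?_, ?_⟩, ?_⟩
  · exact locP_of_isEmpty_points (fun U V g hU => (inferInstance : Flat g)) _
  · exact Groth.Agent.Lib.AlgSpProper.isProperMor_of_repWith_isClosedImmersion hX hY hci
  · exact locP_of_isEmpty_points
      (fun U V g hU => (inferInstance : LocallyOfFinitePresentation g)) _
  · exact Groth.Agent.Lib.AlgSpQC.isQuasiCompactMor_of_repWith hqc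
  · exact (isQuasiSeparatedMor_yon_map_iff (emptyHom T)).2
      (inferInstanceAs (QuasiSeparated (Scheme.emptyTo T.left)))
  · intro x
    exact (IsEmpty.false x).elim

/-- A property of curve families that holds whenever the total space has no points is realised
over every base. -/
theorem nonempty_fiber_of_empty {Q : (Curves S 0).obj → Prop}
    (hQ : ∀ A : (Curves S 0).obj, IsEmpty (Points A.obj.X) → Q A) (T : Over S) :
    Nonempty ((AlgSt.fullSub (Curves S 0) Q).p.Fiber T) :=
  ⟨⟨⟨⟨emptyFam T, emptyFam_isCurveFam T⟩, hQ _ (inferInstanceAs (IsEmpty (Points (emptyFam T).X)))⟩,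
    rfl⟩⟩

end

end Groth.Agent.Lib.H14CurvesEmpty
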