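import Groth.Agent.Lib.H14OpenSubPoly
import Groth.Agent.Lib.AlgSpPoints
import Groth.Agent.Lib.AlgSpProper
import Groth.Prelude.Def_StCurv2

/-!
# Open substacks of the stack of curves from pointwise open loci (helper14)

ns `Groth.Agent.Lib.H14CurvesOpen`.

* `LocusData Q` : for every family `A` an open set `G A ⊆ |A.X|`, with `Q A ↔ G A = univ`, compatible
  with base change (`G A' = |φ.top|⁻¹ (G A)` for cartesian `φ : A' ⟶ A`).
* `LocusData.pbStable`, `LocusData.exists_locus` (properness: the image of the closed complement is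
  closed in the base), `LocusData.exists_locus_chart`.
* `LocusData.isOpenSubstack` : `Q` cuts out an open substack of `CurvSt.Curves S n`
  (given that `Curves S n` is an fppf algebraic stack).
-/

set_option autoImplicit false
set_option linter.style.haveILetI false
set_option backward.isDefEq.respectTransparency false
set_option backward.isDefEq.respectTransparency.types false

namespace Groth.Agent.Lib.H14CurvesOpen

open CategoryTheory CategoryTheory.Limits AlgebraicGeometry Opposite AlgSt AlgSp CurvSt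
  Groth.Agent.Lib.H14OpenSubPoly

universe u

variable {S : Scheme.{u}} {n : ℕ}

/-- Data of a pointwise open locus on the total spaces of families of curves, compatible with
base change. -/
structure LocusData (Q : (Curves S n).obj → Prop) where
  G : ∀ A : SpFamObj S n, Set (Points A.X)
  isOpen : ∀ A, IsCurveFam A → IsOpen (G A)
  iff : ∀ (A : SpFamObj S n) (hA : IsCurveFam A), Q ⟨A, hA⟩ ↔ G A = Set.univ
  bc : ∀ {A' A : SpFamObj S n}, IsCurveFam A' → IsCurveFam A → ∀ φ : A' ⟶ A,
    G A' = Points.map φ.top ⁻¹' G A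

variable {Q : (Curves S n).obj → Prop}

theorem LocusData.pbStable (D : LocusData Q) : PbStable (𝒳 := Curves S n) Q := by
  intro A' A φ hA
  have h1 := (D.iff A.obj A.property).1 hA
  refine (D.iff A'.obj A'.property).2 ?_
  rw [D.bc A'.property A.property φ.hom, h1, Set.preimage_univ]

/-- The open locus of the base over which the family satisfies `Q`. -/
theorem LocusData.exists_locus (D : LocusData Q) (A : SpFamObj S n) (hA : IsCurveFam A) :
    ∃ W : A.base.left.Opens, ∀ (A' : SpFamObj S n) (hA' : IsCurveFam A') (φ : A' ⟶ A),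
      Q ⟨A', hA'⟩ ↔ Set.range φ.base.left ⊆ (W : Set ↥A.base.left) := by
  have hcl : IsClosedMap (Points.map A.f) :=
    Groth.Agent.Lib.AlgSpProper.isClosedMor_of_isUnivClosedMor (IsAlgSpace.yon_obj _) hA.2.2.1.2.2
  have hC : IsClosed (Points.map A.f '' (D.G A)ᶜ) := hcl _ (D.isOpen A hA).isClosed_compl
  let W : A.base.left.Opens := ⟨{t | Points.schemeHomeo A.base t ∉ Points.map A.f '' (D.G A)ᶜ},
    (hC.isOpen_compl).preimage (Points.schemeHomeo A.base).continuous⟩
  refine ⟨W, fun A' hA' φ => ?_⟩
  rw [D.iff A' hA', D.bc hA' hA φ]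
  constructor
  · rintro h _ ⟨t', rfl⟩
    rintro ⟨z, hz, hzt⟩
    have h2 : Points.map A.f z = Points.map ((AlgSp.yon S).map φ.base) (Points.schemeHomeo A'.base t') := by
      rw [hzt, Points.map_yon_map_apply]
    obtain ⟨p, hp, -⟩ := Groth.Agent.Lib.AlgSpPoints.exists_point_of_isPullback φ.cart z _ h2
    have h3 : p ∈ Points.map φ.top ⁻¹' D.G A := by rw [h]; trivial
    rw [Set.mem_preimage, hp] at h3
    exact hz h3
  · intro h
    ext x'
    simp only [Set.mem_preimage, Set.mem_univ, iff_true]
    by_contra hx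
    obtain ⟨t', ht'⟩ := (Points.schemeHomeo A'.base).surjective (Points.map A'.f x')
    have h1 : φ.base.left t' ∈ (W : Set ↥A.base.left) := h ⟨t', rfl⟩
    apply h1
    refine ⟨Points.map φ.top x', hx, ?_⟩
    rw [← Points.map_comp, φ.cart.w, Points.map_comp, ← ht', Points.map_yon_map_apply]

/-- The locus hypothesis of `isOpenSubstack_of_locus` for the stack of curves. -/
theorem LocusData.exists_locus_chart (D : LocusData Q) (U : Over S)
    (y : FibCat.overCat U ⥤ᵇ Curves S n) :
    ∃ W : U.left.Opens, ∀ a : Over U, Q (y.obj a) ↔ Set.range a.hom.left ⊆ (W : Set ↥U.left) := by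
  let A₀ := y.obj (Over.mk (𝟙 U))
  obtain ⟨W₀, hW₀⟩ := D.exists_locus A₀.obj A₀.property
  have h₂ : A₀.obj.base = U := y.w_obj (Over.mk (𝟙 U))
  let i₂ : U.left ⟶ A₀.obj.base.left := (eqToHom h₂.symm).left
  refine ⟨i₂ ⁻¹ᵁ W₀, fun a => ?_⟩
  let τ : a ⟶ Over.mk (𝟙 U) := Over.homMk a.hom (by simp)
  have h₁ : (y.obj a).obj.base = a.left := y.w_obj a
  haveI : (Curves S n).p.IsHomLift ((FibCat.overCat U).p.map τ) (y.map τ) :=
    BasedFunctor.preserves_isHomLift y _ _
  have hfac : (y.map τ).hom.base = eqToHom h₁ ≫ a.hom ≫ eqToHom h₂.symm :=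
    IsHomLift.fac' (Curves S n).p ((FibCat.overCat U).p.map τ) (y.map τ)
  have hleft : (y.map τ).hom.base.left = (eqToHom h₁).left ≫ a.hom.left ≫ i₂ := by
    rw [hfac]; rfl
  have hiff := hW₀ (y.obj a).obj (y.obj a).property (y.map τ).hom
  have hQ' : Q (y.obj a) ↔ Q ⟨(y.obj a).obj, (y.obj a).property⟩ := Iff.rfl
  rw [hQ', hiff, hleft]
  have hsurj : Function.Surjective ((eqToHom h₁).left : (y.obj a).obj.base.left ⟶ a.left.left) := by
    haveI : IsIso (eqToHom h₁).left := inferInstance
    exact (asIso (eqToHom h₁).left).schemeIsoToHomeo.surjective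
  constructor
  · rintro h _ ⟨t, rfl⟩
    obtain ⟨s, rfl⟩ := hsurj t
    have := h ⟨s, rfl⟩
    simpa using this
  · rintro h _ ⟨s, rfl⟩
    have := h ⟨(eqToHom h₁).left s, rfl⟩
    simpa using this

/-- **Open substacks of the stack of curves from pointwise open loci.** -/
theorem LocusData.isOpenSubstack (D : LocusData Q)
    (hC : AlgSt.IsAlgStack Scheme.fppfPrecoverage (Curves S n)) :
    AlgSt.IsOpenSubstack (Curves S n) Q Scheme.fppfPrecoverage :=
  isOpenSubstack_of_locus hC D.pbStable D.exists_locus_chart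

end Groth.Agent.Lib.H14CurvesOpen
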