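import Groth.Agent.Lib.H14CurvesOpen
import Groth.Agent.Lib.H14AlgSpCMLocus
import Groth.Agent.Lib.AlgSpQFAt91
import Groth.Agent.Lib.AlgSpQFBC91
import Groth.Agent.Lib.H86FibDimChart
import Groth.Agent.Lib.H30FibBC
import Groth.Agent.Lib.H56OpenFibDim4
import Groth.Agent.S9374
import Groth.Agent.S1341
import Groth.Agent.S10689
import Groth.Agent.S0341

/-!
# Relative dimension exactly `d` on Cohen–Macaulay loci of families of curves (helper14)

ns `Groth.Agent.Lib.H14CurvesRelDim`.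

* `hasAtMor_fibreDimAt_baseChange` : "relative dimension `d` at a point" (some-chart form `HasAtMor`)
  commutes with base change of algebraic spaces.
* `isOpen_inter_hasAtMor_fibreDimAt` : inside an open contained in the CM locus of a flat lfp morphism
  of algebraic spaces, the points of relative dimension `d` form an open set (helper33's S9374).
* `withRelDim D₀ hCM d` : `LocusData` for `Q₀ ∧ relative dimension exactly d`.
* `cmData`, `gorData` : the `LocusData` of the CM and Gorenstein conditions.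
-/

set_option autoImplicit false
set_option linter.style.haveILetI false
set_option backward.isDefEq.respectTransparency false
set_option backward.isDefEq.respectTransparency.types false

namespace Groth.Agent.Lib.H14CurvesRelDim

open CategoryTheory CategoryTheory.Limits AlgebraicGeometry Opposite AlgSt AlgSp CurvSt
  Groth.Agent.Lib.H14CurvesOpen

universe u

variable {S : Scheme.{u}}

/-- Relative dimension `d` at a point (some-chart form) commutes with base change. -/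
theorem hasAtMor_fibreDimAt_baseChange {X Y X'' Y'' : Sp S} (hX : IsAlgSpace X) (hY : IsAlgSpace Y)
    (hX'' : IsAlgSpace X'') (hY'' : IsAlgSpace Y'')
    {f : X ⟶ Y} {g : Y'' ⟶ Y} {b : X'' ⟶ X} {f'' : X'' ⟶ Y''} (sq : IsPullback b f'' f g)
    (hf : LocP @LocallyOfFiniteType f) (d : WithBot ℕ∞) (x'' : Points X'') :
    HasAtMor (fun _ _ h u => FlatMor.fibreDimAt h u = d) f'' x'' ↔
      HasAtMor (fun _ _ h u => FlatMor.fibreDimAt h u = d) f (Points.map b x'') := by
  obtain ⟨U, V, U'', V'', a, c, a'', c'', h, h'', gU, gV, u'', ha, hc, ha'', hc'', hcf, hcf'', hab, -,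
    sqA, rfl⟩ := Groth.Agent.Lib.AlgSpQFBC91.exists_baseChange_chart hX hY hX'' hY'' sq x''
  haveI : LocallyOfFiniteType h.left := hf a c h ha hc hcf
  have hpt : Points.map b (Points.ofPt a'' u'') = Points.ofPt a (gU.left u'') := by
    rw [Points.map_ofPt, hab, Groth.Agent.Lib.AlgSpPoints.ofPt_yon_map_comp]
  rw [Groth.Agent.Lib.H86FibDimChart.hasAtMor_fibreDimAt_eq_iff f'' _ d a'' c'' h'' ha'' hc'' hcf''
      u'' rfl,
    Groth.Agent.Lib.H86FibDimChart.hasAtMor_fibreDimAt_eq_iff f _ d a c h ha hc hcf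
      (gU.left u'') hpt.symm,
    Groth.Agent.Lib.H30FibBC.fibreDimAt_eq_of_isPullback h.left gV.left gU.left h''.left sqA u'']

/-- On the Cohen–Macaulay locus of a flat lfp morphism of algebraic spaces, the points of relative
dimension `d` form an open set: more precisely, for an open `G₀` of `|X|` contained in the CM locus,
`G₀ ∩ {relative dimension d}` is open. -/
theorem isOpen_inter_hasAtMor_fibreDimAt {X Y : Sp S} (hX : IsAlgSpace X) (hY : IsAlgSpace Y)
    (f : X ⟶ Y) (hf1 : LocP @Flat f) (hf2 : LocP @LocallyOfFinitePresentation f)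
    (G₀ : Set (Points X)) (hG₀ : IsOpen G₀)
    (hCM : ∀ x ∈ G₀, LocPAt (fun h u => MoreMor.IsCMAt h u) f x) (d : WithBot ℕ∞) :
    IsOpen (G₀ ∩ {x | HasAtMor (fun _ _ h u => FlatMor.fibreDimAt h u = d) f x}) := by
  rw [isOpen_iff_forall_mem_open]
  rintro x ⟨hx0, hx1⟩
  obtain ⟨U, V, a, b, h, u, ha, hb, hc, rfl⟩ :=
    Groth.Agent.Lib.AlgSpQFAt91.exists_chart_diagram hX hY f x
  haveI : Flat h.left := hf1 a b h ha hb hc
  haveI : LocallyOfFinitePresentation h.left := hf2 a b h ha hb hc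
  -- the open of `U` over `G₀`
  let U₀ : U.left.Opens := ⟨Points.ofPt a ⁻¹' G₀, hG₀.preimage (Points.continuous_ofPt a)⟩
  have hcm : ∀ p : U₀, MoreMor.IsCMAt (U₀.ι ≫ h.left) p := by
    intro p
    rw [Groth.Agent.Lib.H14AlgSpCMLocus.cm_src U₀.ι h.left p]
    exact hCM _ p.2 a b h _ ha hb hc rfl
  have hlc := Groth.Agent.S9374.result (U₀.ι ≫ h.left) hcm
  have hdim : ∀ p : U₀, FlatMor.fibreDimAt (U₀.ι ≫ h.left) p = FlatMor.fibreDimAt h.left (U₀.ι p) :=
    fun p => Groth.Agent.Lib.H56OpenDim.fibreDimAt_ι_comp h.left U₀ p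
  have hN : IsOpen {p : U₀ | FlatMor.fibreDimAt (U₀.ι ≫ h.left) p = d} :=
    hlc.isOpen_fiber d
  have hN' : IsOpen (U₀.ι '' {p : U₀ | FlatMor.fibreDimAt (U₀.ι ≫ h.left) p = d}) :=
    U₀.ι.isOpenEmbedding.isOpenMap _ hN
  have hud : FlatMor.fibreDimAt h.left u = d :=
    (Groth.Agent.Lib.H86FibDimChart.hasAtMor_fibreDimAt_eq_iff f _ d a b h ha hb hc u rfl).1 hx1
  refine ⟨Points.ofPt a '' (U₀.ι '' {p : U₀ | FlatMor.fibreDimAt (U₀.ι ≫ h.left) p = d}), ?_,
    Groth.Agent.Lib.H86AlgSpPoints.isOpenMap_ofPt ha _ hN', ?_⟩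
  · rintro _ ⟨_, ⟨p, hp, rfl⟩, rfl⟩
    refine ⟨p.2, ?_⟩
    refine (Groth.Agent.Lib.H86FibDimChart.hasAtMor_fibreDimAt_eq_iff f _ d a b h ha hb hc
      (U₀.ι p) rfl).2 ?_
    rw [← hdim p]; exact hp
  · refine ⟨u, ⟨⟨u, hx0⟩, ?_, rfl⟩, rfl⟩
    show FlatMor.fibreDimAt (U₀.ι ≫ h.left) ⟨u, hx0⟩ = d
    rw [hdim]; exact hud

variable {Q₀ : (Curves S 0).obj → Prop}

/-- Adding "relative dimension exactly `d`" to a locus contained in the Cohen–Macaulay locus. -/
def withRelDim (D₀ : LocusData (n := 0) Q₀)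
    (hCM : ∀ (A : SpFamObj S 0), IsCurveFam A → ∀ x ∈ D₀.G A,
      LocPAt (fun h u => MoreMor.IsCMAt h u) A.f x) (d : ℕ) :
    LocusData (n := 0) (fun A => Q₀ A ∧ ∀ x : AlgSp.Points A.obj.X,
      AlgSp.HasAtMor (fun _ _ h u => FlatMor.fibreDimAt h u = ((d : ℕ) : WithBot ℕ∞)) A.obj.f x) where
  G := fun A => D₀.G A ∩
    {x | HasAtMor (fun _ _ h u => FlatMor.fibreDimAt h u = ((d : ℕ) : WithBot ℕ∞)) A.f x}
  isOpen := fun A hA =>
    isOpen_inter_hasAtMor_fibreDimAt hA.1 (IsAlgSpace.yon_obj _) A.f hA.2.1 hA.2.2.2.1.1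
      (D₀.G A) (D₀.isOpen A hA) (hCM A hA) _
  iff := fun A hA => by
    rw [show (D₀.G A ∩ {x | HasAtMor (fun _ _ h u => FlatMor.fibreDimAt h u = ((d : ℕ) : WithBot ℕ∞))
      A.f x} = Set.univ) ↔ _ from inf_eq_top_iff]
    refine and_congr (D₀.iff A hA) ?_
    constructor
    · intro h; ext x; simp only [Set.mem_ofPred_eq]; exact ⟨fun _ => trivial, fun _ => h x⟩
    · intro h x
      have hx : x ∈ {x | HasAtMor (fun _ _ h u => FlatMor.fibreDimAt h u = ((d : ℕ) : WithBot ℕ∞))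
          A.f x} := by rw [h]; trivial
      exact hx
  bc := fun {A' A} hA' hA φ => by
    rw [Set.preimage_inter, ← D₀.bc hA' hA φ]
    congr 1
    ext x'
    exact hasAtMor_fibreDimAt_baseChange hA.1 (IsAlgSpace.yon_obj _) hA'.1 (IsAlgSpace.yon_obj _)
      φ.cart hA.2.2.1.2.1.1 _ x'

/-- The Cohen–Macaulay locus data. -/
def cmData : LocusData (S := S) (n := 0)
    (fun A => AlgSp.LocP (fun _ _ g => ∀ x, MoreMor.IsCMAt g x) A.obj.f) where
  G := fun A => {x | AlgSp.LocPAt (fun h u => MoreMor.IsCMAt h u) A.f x}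
  isOpen := fun A hA =>
    (Groth.Agent.Lib.H14AlgSpCMLocus.cmLocus_open_baseChange (X := ⟨A.X, hA.1⟩)
      (Y := ⟨(AlgSp.yon S).obj A.base, AlgSp.IsAlgSpace.yon_obj _⟩)
      (ObjectProperty.homMk A.f) hA.2.1 hA.2.2.2.1.1).1
  iff := fun A hA => by
    constructor
    · intro h
      ext x
      simp only [Set.mem_ofPred_eq, Set.mem_univ, iff_true]
      intro U V a b k u ha hb hc _
      exact h a b k ha hb hc u
    · intro h U V a b k ha hb hc u
      have hx : AlgSp.Points.ofPt a u ∈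
          {x | AlgSp.LocPAt (fun h u => MoreMor.IsCMAt h u) A.f x} := by
        rw [h]; trivial
      exact hx a b k u ha hb hc rfl
  bc := fun {A' A} hA' hA φ =>
    (Groth.Agent.Lib.H14AlgSpCMLocus.cmLocus_open_baseChange (X := ⟨A.X, hA.1⟩)
      (Y := ⟨(AlgSp.yon S).obj A.base, AlgSp.IsAlgSpace.yon_obj _⟩)
      (ObjectProperty.homMk A.f) hA.2.1 hA.2.2.2.1.1).2
      ⟨A'.X, hA'.1⟩ ⟨(AlgSp.yon S).obj A'.base, AlgSp.IsAlgSpace.yon_obj _⟩
      (ObjectProperty.homMk ((AlgSp.yon S).map φ.base)) (ObjectProperty.homMk φ.top)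
      (ObjectProperty.homMk A'.f) φ.cart

/-- The Gorenstein locus data. -/
def gorData : LocusData (S := S) (n := 0)
    (fun A => AlgSp.LocP (fun _ _ g => ∀ x, (g.stalkMap x).hom.Flat ∧
      LocCoh.IsGorensteinLocalRing ((g.fiber (g x)).presheaf.stalk (g.asFiber x))) A.obj.f) where
  G := fun A => {x | AlgSp.LocPAt (fun h u => Dual3.IsGorensteinAt h u) A.f x}
  isOpen := fun A hA =>
    (Groth.Agent.S10689.result (X := ⟨A.X, hA.1⟩)
      (Y := ⟨(AlgSp.yon S).obj A.base, AlgSp.IsAlgSpace.yon_obj _⟩)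
      (ObjectProperty.homMk A.f) hA.2.1 hA.2.2.2.1.1).1
  iff := fun A hA => by
    constructor
    · intro h
      ext x
      simp only [Set.mem_ofPred_eq, Set.mem_univ, iff_true]
      intro U V a b k u ha hb hc _
      exact h a b k ha hb hc u
    · intro h U V a b k ha hb hc u
      have hx : AlgSp.Points.ofPt a u ∈
          {x | AlgSp.LocPAt (fun h u => Dual3.IsGorensteinAt h u) A.f x} := by
        rw [h]; trivial
      exact hx a b k u ha hb hc rfl
  bc := fun {A' A} hA' hA φ =>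
    (Groth.Agent.S10689.result (X := ⟨A.X, hA.1⟩)
      (Y := ⟨(AlgSp.yon S).obj A.base, AlgSp.IsAlgSpace.yon_obj _⟩)
      (ObjectProperty.homMk A.f) hA.2.1 hA.2.2.2.1.1).2
      ⟨A'.X, hA'.1⟩ ⟨(AlgSp.yon S).obj A'.base, AlgSp.IsAlgSpace.yon_obj _⟩
      (ObjectProperty.homMk ((AlgSp.yon S).map φ.base)) (ObjectProperty.homMk φ.top)
      (ObjectProperty.homMk A'.f) φ.cart

theorem gorData_le_cm (A : SpFamObj S 0) (_hA : IsCurveFam A) (x : Points A.X)
    (hx : x ∈ (gorData (S := S)).G A) : LocPAt (fun h u => MoreMor.IsCMAt h u) A.f x := by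
  intro U V a b k u ha hb hc hu
  have h1 : Dual3.IsGorensteinAt k.left u := hx a b k u ha hb hc hu
  have := h1.2
  exact ⟨h1.1, Groth.Agent.S0341.result _⟩

end Groth.Agent.Lib.H14CurvesRelDim
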