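import Groth.Agent.Lib.OmegaDer81B

/-!
# helper81: OmegaSh — functoriality of differentials (`IsDiffCompat`) via the adjunction

* `derComp b D'`: a derivation relative to `f'` is one relative to `f' ≫ b`.
* `pushDer' h b hsq D'`: for a commutative square `f' ≫ b = h ≫ f` the derivation `s ↦ D'(h♯ s)` of
  `O_X` into `h_* G` (relative to `f`).
* `pbHomEquiv_app`: the pullback/pushforward adjunction on sections, via `OmegaSh.pullSect`.
* `isDiffCompat_iff`: `IsDiffCompat h d d' c ↔ d.postcomp (adjunct of c) = pushDer' h b hsq d'`.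
* `existsUnique_isDiffCompat`: existence and uniqueness of the canonical map `h^*Ω → Ω'`.
-/

set_option autoImplicit false
set_option linter.style.haveILetI false
universe u

namespace Groth.Agent.Lib.OmegaDer81

open AlgebraicGeometry CategoryTheory

section
variable {X S X' S' : Scheme.{u}} {f : X ⟶ S} {f' : X' ⟶ S'} (h : X' ⟶ X) (b : S' ⟶ S)

/-- a derivation relative to `f'` is one relative to `f' ≫ b` -/
noncomputable def derComp {G : X'.Modules} (D' : OmegaSh.Der f' G) : OmegaSh.Der (f' ≫ b) G :=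
  derOfKills D' (fun V c => by
    have : (f' ≫ b).app V c = f'.app (b ⁻¹ᵁ V) (b.app V c) := by
      rw [Scheme.Hom.comp_app]; rfl
    rw [this]
    exact der_app_app D' (b ⁻¹ᵁ V) (b.app V c))

/-- the derivation `s ↦ d'(h♯ s)` of `O_X` into `h_* G` -/
noncomputable def pushDer' (hsq : f' ≫ b = h ≫ f) {G : X'.Modules} (D' : OmegaSh.Der f' G) :
    OmegaSh.Der f ((Scheme.Modules.pushforward h).obj G) :=
  pushDer h ((sameDer_of_eq hsq).der (derComp b D'))

theorem pushDer'_app (hsq : f' ≫ b = h ≫ f) {G : X'.Modules} (D' : OmegaSh.Der f' G)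
    (W : X.Opens) (s : Γ(X, W)) :
    (pushDer' h b hsq D').app W s = D'.app (h ⁻¹ᵁ W) (h.app W s) := rfl

theorem pbHomEquiv_app {Ω : X.Modules} {G : X'.Modules}
    (c : (Scheme.Modules.pullback h).obj Ω ⟶ G) (U : X.Opens) (m : Γ(Ω, U)) :
    (((Scheme.Modules.pullbackPushforwardAdjunction h).homEquiv Ω G) c).app U m =
      c.app (h ⁻¹ᵁ U) (OmegaSh.pullSect h Ω U m) := by
  rw [Adjunction.homEquiv_unit]
  rfl

theorem isDiffCompat_iff (hsq : f' ≫ b = h ≫ f) {Ω : X.Modules} (d : OmegaSh.Der f Ω)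
    {Ω' : X'.Modules} (d' : OmegaSh.Der f' Ω') (c : (Scheme.Modules.pullback h).obj Ω ⟶ Ω') :
    OmegaSh.IsDiffCompat h d d' c ↔
      d.postcomp (((Scheme.Modules.pullbackPushforwardAdjunction h).homEquiv Ω Ω') c).val =
        pushDer' h b hsq d' := by
  constructor
  · intro hc
    apply der_ext'
    intro W s
    rw [postcomp_app, pbHomEquiv_app, pushDer'_app]
    exact hc W s
  · intro hc U s
    have := congrArg (fun D => OmegaSh.Der.app D U s) hc
    change OmegaSh.Der.app (f := f) (F := (Scheme.Modules.pushforward h).obj Ω')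
      (d.postcomp (((Scheme.Modules.pullbackPushforwardAdjunction h).homEquiv Ω Ω') c).val) U s =
      (pushDer' h b hsq d').app U s at this
    rw [postcomp_app, pbHomEquiv_app, pushDer'_app] at this
    exact this

end


section
variable {X S X' S' : Scheme.{u}} {f : X ⟶ S} {f' : X' ⟶ S'} (h : X' ⟶ X) (b : S' ⟶ S)

theorem existsUnique_isDiffCompat (hsq : f' ≫ b = h ≫ f) {Ω : X.Modules} (d : OmegaSh.Der f Ω)
    (hd : OmegaSh.IsUniversal d) {Ω' : X'.Modules} (d' : OmegaSh.Der f' Ω') :
    ∃! c : (Scheme.Modules.pullback h).obj Ω ⟶ Ω', OmegaSh.IsDiffCompat h d d' c := by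
  obtain ⟨β, hβ, hβu⟩ := hd ((Scheme.Modules.pushforward h).obj Ω') (pushDer' h b hsq d')
  refine ⟨((Scheme.Modules.pullbackPushforwardAdjunction h).homEquiv Ω Ω').symm β, ?_, ?_⟩
  · change OmegaSh.IsDiffCompat h d d' _
    rw [isDiffCompat_iff h b hsq, Equiv.apply_symm_apply]
    exact hβ
  · intro c' hc'
    rw [isDiffCompat_iff h b hsq] at hc'
    rw [← hβu _ hc', Equiv.symm_apply_apply]

end

end Groth.Agent.Lib.OmegaDer81
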