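import Groth.Agent.Lib.OmegaDer81D
import Groth.Agent.Lib.OmegaDer81E
import Groth.Agent.Lib.UnitBaseChange
import Groth.Agent.Lib.H90OXModSections

/-!
# helper81: OmegaSh — the canonical map `h^*Ω → Ω'` on affine charts

`chart_alg`: the algebraic skeleton.
`exists_chart_description`: for `c : h^*Ω ⟶ Ω'` with `IsDiffCompat h d d' c` and affine charts
`U ⊆ X`, `V ⊆ S`, `U' ⊆ X'`, `V' ⊆ S'` (`U ≤ f⁻¹V`, `U' ≤ f'⁻¹V'`, `U' ≤ h⁻¹U`), with
`B = Γ(X,U)`, `A = Γ(S,V)`, `B' = Γ(X',U')`, `A' = Γ(S',V')`: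
there are a `B`-linear `κ : Ω[B/A] → Ω[B'/A']` with `κ (D s) = D (h♯ s)`, an equivalence
`τ : Γ(h^*Ω, U') ≃ B' ⊗[B] Ω[B/A]` and an equivalence `ε' : Ω[B'/A'] ≃ Γ(Ω', U')` with
`c.app U' y = ε' (κ.liftBaseChange B' (τ y))`.
-/

set_option autoImplicit false
set_option linter.style.haveILetI false
universe u

open CategoryTheory AlgebraicGeometry TopologicalSpace Opposite TensorProduct

namespace Groth.Agent.Lib.OmegaDer81

section alg

variable {A B A' B' : Type u} [CommRing A] [CommRing B] [CommRing A'] [CommRing B']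
  [Algebra A B] [Algebra A' B'] [Algebra B B']
  {M M' N' : Type u} [AddCommGroup M] [Module B M] [AddCommGroup M'] [Module B' M'] [Module B M']
  [IsScalarTower B B' M'] [AddCommGroup N'] [Module B' N']

theorem chart_alg (u : M →ₗ[B] M') (hu : IsBaseChange B' u) (ε : Ω[B⁄A] ≃ₗ[B] M)
    (ε' : Ω[B'⁄A'] ≃ₗ[B'] N') (cL : M' →ₗ[B'] N')
    (hc : ∀ s : B, cL (u (ε (KaehlerDifferential.D A B s))) =
      ε' (KaehlerDifferential.D A' B' (algebraMap B B' s))) :
    ∃ (κ : Ω[B⁄A] →ₗ[B] Ω[B'⁄A']) (τ : M' ≃ₗ[B'] B' ⊗[B] Ω[B⁄A]),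
      (∀ s, κ (KaehlerDifferential.D A B s) = KaehlerDifferential.D A' B' (algebraMap B B' s)) ∧
      ∀ y, cL y = ε' (κ.liftBaseChange B' (τ y)) := by
  let κ : Ω[B⁄A] →ₗ[B] Ω[B'⁄A'] :=
    ((ε'.symm.toLinearMap ∘ₗ cL).restrictScalars B) ∘ₗ u ∘ₗ ε.toLinearMap
  let τ : M' ≃ₗ[B'] B' ⊗[B] Ω[B⁄A] :=
    hu.equiv.symm ≪≫ₗ AlgebraTensorModule.congr (LinearEquiv.refl B' B') ε.symm
  refine ⟨κ, τ, fun s => ?_, fun y => ?_⟩
  · change ε'.symm (cL (u (ε (KaehlerDifferential.D A B s)))) = _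
    rw [hc, LinearEquiv.symm_apply_apply]
  · have key : cL = ε'.toLinearMap ∘ₗ κ.liftBaseChange B' ∘ₗ τ.toLinearMap := by
      apply hu.algHom_ext
      intro m
      change cL (u m) = ε' (κ.liftBaseChange B'
        (AlgebraTensorModule.congr (LinearEquiv.refl B' B') ε.symm (hu.equiv.symm (u m))))
      rw [hu.equiv_symm_apply, AlgebraTensorModule.congr_tmul, LinearMap.liftBaseChange_tmul]
      change cL (u m) = ε' ((1 : B') • ε'.symm (cL (u (ε (ε.symm m)))))
      rw [one_smul, LinearEquiv.apply_symm_apply, LinearEquiv.apply_symm_apply]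
    exact congrArg (fun l => l y) key

end alg

section ring

open KaehlerDifferential

variable {A B B' : Type u} [CommRing A] [CommRing B] [CommRing B'] [Algebra A B]

theorem linearMap_ext_D {N : Type*} [AddCommGroup N] [Module B N] (κ κ' : Ω[B⁄A] →ₗ[B] N)
    (h : ∀ s, κ (D A B s) = κ' (D A B s)) : κ = κ' :=
  LinearMap.ext_on (KaehlerDifferential.span_range_derivation A B) (by
    rintro _ ⟨s, rfl⟩
    exact h s)

section tower

variable [Algebra A B'] [Algebra B B'] [IsScalarTower A B B']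

theorem lift_eq_mapBaseChange (κ : Ω[B⁄A] →ₗ[B] Ω[B'⁄A])
    (hκ : ∀ s, κ (D A B s) = D A B' (algebraMap B B' s)) :
    κ.liftBaseChange B' = KaehlerDifferential.mapBaseChange A B B' := by
  have h1 : κ = KaehlerDifferential.map A A B B' :=
    linearMap_ext_D κ _ fun s => by rw [hκ, KaehlerDifferential.map_D]
  subst h1
  refine LinearMap.ext fun t => ?_
  induction t using TensorProduct.induction_on with
  | zero => simp
  | tmul x y => rw [LinearMap.liftBaseChange_tmul, KaehlerDifferential.mapBaseChange_tmul]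
  | add x y hx hy => rw [map_add, map_add, hx, hy]

theorem surjective_lift_iff_formallyUnramified (κ : Ω[B⁄A] →ₗ[B] Ω[B'⁄A])
    (hκ : ∀ s, κ (D A B s) = D A B' (algebraMap B B' s)) :
    Function.Surjective (κ.liftBaseChange B') ↔ Algebra.FormallyUnramified B B' := by
  rw [lift_eq_mapBaseChange κ hκ, ← LinearMap.range_eq_top,
    KaehlerDifferential.range_mapBaseChange]
  constructor
  · intro h
    refine ⟨⟨fun x y => ?_⟩⟩
    obtain ⟨x', rfl⟩ := KaehlerDifferential.map_surjective A B B' x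
    obtain ⟨y', rfl⟩ := KaehlerDifferential.map_surjective A B B' y
    have hx : x' ∈ LinearMap.ker (KaehlerDifferential.map A B B' B') := h ▸ Submodule.mem_top
    have hy : y' ∈ LinearMap.ker (KaehlerDifferential.map A B B' B') := h ▸ Submodule.mem_top
    rw [LinearMap.mem_ker.mp hx, LinearMap.mem_ker.mp hy]
  · intro h
    rw [eq_top_iff]
    intro x _
    exact LinearMap.mem_ker.mpr (Subsingleton.elim _ _)

theorem injective_lift_of_formallySmooth [Algebra.FormallySmooth B B'] (κ : Ω[B⁄A] →ₗ[B] Ω[B'⁄A])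
    (hκ : ∀ s, κ (D A B s) = D A B' (algebraMap B B' s)) :
    Function.Injective (κ.liftBaseChange B') := by
  rw [lift_eq_mapBaseChange κ hκ, ← LinearMap.ker_eq_bot, eq_bot_iff]
  intro x hx
  obtain ⟨y, rfl⟩ := (Algebra.H1Cotangent.exact_δ_mapBaseChange A B B' x).mp hx
  rw [Subsingleton.elim y 0, map_zero]
  exact Submodule.zero_mem _

end tower

section pushout

variable {A' : Type u} [CommRing A'] [Algebra A A'] [Algebra A' B'] [Algebra A B'] [Algebra B B']
  [IsScalarTower A A' B'] [IsScalarTower A B B']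

theorem bijective_lift_of_isPushout [Algebra.IsPushout A A' B B'] (κ : Ω[B⁄A] →ₗ[B] Ω[B'⁄A'])
    (hκ : ∀ s, κ (D A B s) = D A' B' (algebraMap B B' s)) :
    Function.Bijective (κ.liftBaseChange B') := by
  have h1 : κ = KaehlerDifferential.map A A' B B' :=
    linearMap_ext_D κ _ fun s => by rw [hκ, KaehlerDifferential.map_D]
  subst h1
  have h2 : (KaehlerDifferential.map A A' B B').liftBaseChange B' =
      (KaehlerDifferential.tensorKaehlerEquiv A A' B B').toLinearMap := by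
    have key : ∀ x : B',
        (((KaehlerDifferential.map A A' B B').liftBaseChange B').restrictScalars B) ∘ₗ
          (TensorProduct.mk B B' Ω[B⁄A] x) =
        ((KaehlerDifferential.tensorKaehlerEquiv A A' B B').toLinearMap.restrictScalars B) ∘ₗ
          (TensorProduct.mk B B' Ω[B⁄A] x) := fun x => linearMap_ext_D _ _ fun a => by
      change (KaehlerDifferential.map A A' B B').liftBaseChange B' (x ⊗ₜ D A B a) =
        KaehlerDifferential.tensorKaehlerEquiv A A' B B' (x ⊗ₜ D A B a)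
      rw [LinearMap.liftBaseChange_tmul, KaehlerDifferential.tensorKaehlerEquiv_tmul_D,
        KaehlerDifferential.map_D]
    refine LinearMap.ext fun t => ?_
    induction t using TensorProduct.induction_on with
    | zero => simp
    | tmul x y => exact LinearMap.congr_fun (key x) y
    | add x y hx hy => rw [map_add, map_add, hx, hy]
  rw [h2]
  exact (KaehlerDifferential.tensorKaehlerEquiv A A' B B').bijective

end pushout

end ring

section geo

open Groth.Agent.Lib.QCohStalk Groth.Agent.Lib.UnitBaseChange Scheme.Modules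

variable {X S X' S' : Scheme.{u}} {f : X ⟶ S} {f' : X' ⟶ S'} (h : X' ⟶ X)
  {Ω : X.Modules} (d : OmegaSh.Der f Ω) (hd : OmegaSh.IsUniversal d)
  {Ω' : X'.Modules} (d' : OmegaSh.Der f' Ω') (hd' : OmegaSh.IsUniversal d')
  (c : (Scheme.Modules.pullback h).obj Ω ⟶ Ω') (hc : OmegaSh.IsDiffCompat h d d' c)
  {U : X.Opens} {V : S.Opens} {U' : X'.Opens} {V' : S'.Opens}
  (hU : IsAffineOpen U) (hV : IsAffineOpen V) (hU' : IsAffineOpen U') (hV' : IsAffineOpen V')
  (e : U ≤ f ⁻¹ᵁ V) (e' : U' ≤ f' ⁻¹ᵁ V') (hUU' : U' ≤ h ⁻¹ᵁ U)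

include hc in
theorem c_unitSecFun (s : Γ(X, U)) :
    c.app U' (unitSecFun h Ω hUU' (d.app U s)) = d'.app U' (h.appLE U U' hUU' s) := by
  have h1 := hom_naturality_apply c (homOfLE hUU') (OmegaSh.pullSect h Ω U (d.app U s))
  refine h1.symm.trans ?_
  have := hc U s
  refine (congrArg (Ω'.presheaf.map (homOfLE hUU').op) this).trans ?_
  exact (der_app_map d' hUU' (h.app U s)).symm

include hd hd' hc hU hV hU' hV' in
set_option backward.isDefEq.respectTransparency false in
theorem exists_chart_description :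
    letI : Algebra Γ(S, V) Γ(X, U) := (f.appLE V U e).hom.toAlgebra
    letI : Algebra Γ(S', V') Γ(X', U') := (f'.appLE V' U' e').hom.toAlgebra
    letI : Algebra Γ(X, U) Γ(X', U') := (h.appLE U U' hUU').hom.toAlgebra
    ∃ (κ : Ω[Γ(X, U)⁄Γ(S, V)] →ₗ[Γ(X, U)] Ω[Γ(X', U')⁄Γ(S', V')])
      (τ : Γ((Scheme.Modules.pullback h).obj Ω, U') ≃ₗ[Γ(X', U')]
        Γ(X', U') ⊗[Γ(X, U)] Ω[Γ(X, U)⁄Γ(S, V)])
      (ε' : Ω[Γ(X', U')⁄Γ(S', V')] ≃ₗ[Γ(X', U')] Γ(Ω', U')),
      (∀ s, κ (KaehlerDifferential.D Γ(S, V) Γ(X, U) s) =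
        KaehlerDifferential.D Γ(S', V') Γ(X', U') (h.appLE U U' hUU' s)) ∧
      (∀ s', ε' (KaehlerDifferential.D Γ(S', V') Γ(X', U') s') = d'.app U' s') ∧
      ∀ y, c.app U' y = ε' (κ.liftBaseChange Γ(X', U') (τ y)) := by
  letI : Algebra Γ(S, V) Γ(X, U) := (f.appLE V U e).hom.toAlgebra
  letI : Algebra Γ(S', V') Γ(X', U') := (f'.appLE V' U' e').hom.toAlgebra
  letI : Algebra Γ(X, U) Γ(X', U') := (h.appLE U U' hUU').hom.toAlgebra
  haveI : Ω.IsQuasicoherent := isQuasicoherent_of_isUniversal f d hd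
  letI : Module Γ(X, U) Γ((Scheme.Modules.pullback h).obj Ω, U') :=
    Module.compHom _ (h.appLE U U' hUU').hom
  haveI : IsScalarTower Γ(X, U) Γ(X', U') Γ((Scheme.Modules.pullback h).obj Ω, U') :=
    .of_algebraMap_smul fun _ _ => rfl
  have hbc := isBaseChange_unitSec h Ω hU' hU hUU'
  obtain ⟨ε, hε⟩ := exists_linearEquiv_sections f d hU hV e hd
  obtain ⟨ε', hε'⟩ := exists_linearEquiv_sections f' d' hU' hV' e' hd'
  obtain ⟨κ, τ, h1, h2⟩ := chart_alg (A := Γ(S, V)) (A' := Γ(S', V')) (unitSec h Ω hUU') hbc ε ε'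
    (Groth.Agent.Lib.H90OXModSections.appLin c U') (by
      intro s
      rw [hε, hε']
      exact c_unitSecFun h d d' c hc hUU' s)
  exact ⟨κ, τ, ε', h1, hε', h2⟩

include hd hd' hc hU hV hU' hV' in
set_option backward.isDefEq.respectTransparency false in
/-- chart description, without the auxiliary equivalences -/
theorem exists_chart_kappa :
    letI : Algebra Γ(S, V) Γ(X, U) := (f.appLE V U e).hom.toAlgebra
    letI : Algebra Γ(S', V') Γ(X', U') := (f'.appLE V' U' e').hom.toAlgebra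
    letI : Algebra Γ(X, U) Γ(X', U') := (h.appLE U U' hUU').hom.toAlgebra
    ∃ (κ : Ω[Γ(X, U)⁄Γ(S, V)] →ₗ[Γ(X, U)] Ω[Γ(X', U')⁄Γ(S', V')]),
      (∀ s, κ (KaehlerDifferential.D Γ(S, V) Γ(X, U) s) =
        KaehlerDifferential.D Γ(S', V') Γ(X', U') (h.appLE U U' hUU' s)) ∧
      (Function.Surjective (c.app U') ↔ Function.Surjective (κ.liftBaseChange Γ(X', U'))) ∧
      (Function.Injective (c.app U') ↔ Function.Injective (κ.liftBaseChange Γ(X', U'))) ∧
      (Function.Bijective (c.app U') ↔ Function.Bijective (κ.liftBaseChange Γ(X', U'))) := by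
  letI : Algebra Γ(S, V) Γ(X, U) := (f.appLE V U e).hom.toAlgebra
  letI : Algebra Γ(S', V') Γ(X', U') := (f'.appLE V' U' e').hom.toAlgebra
  letI : Algebra Γ(X, U) Γ(X', U') := (h.appLE U U' hUU').hom.toAlgebra
  obtain ⟨κ, τ, ε', h1, -, h3⟩ :=
    exists_chart_description h d hd d' hd' c hc hU hV hU' hV' e e' hUU'
  have hfun : (c.app U' : Γ((Scheme.Modules.pullback h).obj Ω, U') → Γ(Ω', U')) =
      ε' ∘ (κ.liftBaseChange Γ(X', U')) ∘ τ := funext h3
  refine ⟨κ, h1, ?_, ?_, ?_⟩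
  · rw [hfun, Function.Surjective.of_comp_iff' ε'.bijective,
      Function.Surjective.of_comp_iff _ τ.surjective]
  · rw [hfun, Function.Injective.of_comp_iff ε'.injective,
      Function.Injective.of_comp_iff' _ τ.bijective]
  · rw [hfun, Function.Bijective.of_comp_iff' ε'.bijective,
      Function.Bijective.of_comp_iff _ τ.bijective]

end geo

end Groth.Agent.Lib.OmegaDer81
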