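import Mathlib
import Groth.Agent.Lib.H56FibDimSmooth2
import Groth.Agent.Lib.H56LocDimSch
import Groth.Agent.Lib.LocFreeRank
import Groth.Agent.Lib.QCohStalk
import Groth.Agent.Lib.OmegaDer81F

/-!
# helper87: smooth morphisms, ranks of differentials and fibre dimensions

* `formallyEtale_of_basis`: `R → A → B`, `H¹(L_{B/R}) = 0`, `B/A` formally unramified, `Ω[A/R]` and
  `Ω[B/R]` free of the same finite rank ⇒ `B/A` formally étale.
* `exists_basicOpen_isStandardSmooth`: for `f` smooth, around every point and inside every affine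
  chart there is a basic open on which `f` is standard smooth of relative dimension
  `fibreDimAt f x`.
* `nonempty_basis_kaehler`: basis of `Ω` for standard smooth of relative dimension `n`.
* `nonempty_restrict_iso_freeMod_of_basis`: quasi-coherent module with a finite basis of sections
  over an affine open is free there.
* `exists_free_omega_of_smooth`: for `f` smooth and a universal derivation `(Ω', d)`, `Ω'` is free
  of rank `fibreDimAt f x` near `x`.
-/

set_option autoImplicit false
set_option linter.style.haveILetI false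
universe u
open CategoryTheory AlgebraicGeometry TopologicalSpace TensorProduct KaehlerDifferential

namespace Groth.Agent.Lib.H87SmoothRank

section ring

variable {R A B : Type u} [CommRing R] [CommRing A] [CommRing B]
  [Algebra R A] [Algebra R B] [Algebra A B] [IsScalarTower R A B]

/-- `R → A → B` with `H¹(L_{B/R}) = 0`, `B/A` formally unramified and `Ω[A/R]`, `Ω[B/R]` free of the
same finite rank: then `B/A` is formally étale. -/
theorem formallyEtale_of_basis {n : ℕ} [Subsingleton (Algebra.H1Cotangent R B)]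
    [Algebra.FormallyUnramified A B]
    (bA : Module.Basis (Fin n) A Ω[A⁄R]) (bB : Module.Basis (Fin n) B Ω[B⁄R]) :
    Algebra.FormallyEtale A B := by
  have hsurj : Function.Surjective (mapBaseChange R A B) := by
    rw [← LinearMap.range_eq_top, range_mapBaseChange, ← top_le_iff]
    exact fun x _ ↦ LinearMap.mem_ker.mpr (Subsingleton.elim _ _)
  let e : (B ⊗[A] Ω[A⁄R]) ≃ₗ[B] Ω[B⁄R] := (bA.baseChange B).equiv bB (Equiv.refl _)
  haveI : Module.Finite B Ω[B⁄R] := Module.Finite.of_basis bB
  have hinj : Function.Injective (mapBaseChange R A B) :=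
    OrzechProperty.injective_of_surjective_of_injective e.toLinearMap (mapBaseChange R A B)
      e.injective hsurj
  haveI : Subsingleton (Algebra.H1Cotangent A B) := by
    refine ⟨fun y z => ?_⟩
    have h0 : ∀ y : Algebra.H1Cotangent A B, y = 0 := by
      intro y
      have h1 : Algebra.H1Cotangent.δ R A B y = 0 := by
        apply hinj
        rw [map_zero]
        exact (Algebra.H1Cotangent.exact_δ_mapBaseChange R A B _).mpr ⟨y, rfl⟩
      obtain ⟨z, rfl⟩ := (Algebra.H1Cotangent.exact_map_δ R A B y).mp h1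
      rw [Subsingleton.elim z 0, map_zero]
    rw [h0 y, h0 z]
  haveI : Algebra.FormallySmooth A B := ⟨inferInstance, inferInstance⟩
  exact Algebra.FormallyEtale.of_formallyUnramified_and_formallySmooth

/-- a basis of `Ω[S/R]` of cardinality `n` for `S/R` standard smooth of relative dimension `n` -/
theorem nonempty_basis_kaehler {R S : Type u} [CommRing R] [CommRing S] [Algebra R S]
    [Nontrivial S] (n : ℕ) [Algebra.IsStandardSmoothOfRelativeDimension n R S] :
    Nonempty (Module.Basis (Fin n) S Ω[S⁄R]) := by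
  haveI : Algebra.IsStandardSmooth R S :=
    Algebra.IsStandardSmoothOfRelativeDimension.isStandardSmooth n
  have hr :=
    Algebra.IsStandardSmoothOfRelativeDimension.rank_kaehlerDifferential (R := R) (S := S) n
  have hfr : Module.finrank S Ω[S⁄R] = n := Module.finrank_eq_of_rank_eq hr
  exact ⟨Module.finBasisOfFinrankEq S Ω[S⁄R] hfr⟩

/-- a standard smooth ring map is standard smooth of some relative dimension -/
theorem exists_relDim_of_isStandardSmooth {R S : Type u} [CommRing R] [CommRing S] (φ : R →+* S)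
    (h : φ.IsStandardSmooth) : ∃ n : ℕ, φ.IsStandardSmoothOfRelativeDimension n := by
  letI := φ.toAlgebra
  have h' : Algebra.IsStandardSmooth R S := h
  obtain ⟨ι, σ, _, _, ⟨P⟩⟩ := h'.out
  exact ⟨P.dimension, P.isStandardSmoothOfRelativeDimension rfl⟩

end ring

section charts

open Groth.Agent.Lib.H56LocDim

/-- **Smooth charts.** For a smooth morphism `f`, a point `x` and any affine chart `V ≤ f⁻¹U` around
`x`, there is a basic open `D(r) ⊆ V` containing `x` on which `f` is standard smooth of relative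
dimension `n = fibreDimAt f x`. -/
theorem exists_basicOpen_isStandardSmooth {X Y : Scheme.{u}} (f : X ⟶ Y) [Smooth f] (x : X)
    {U : Y.Opens} {V : X.Opens} (hU : IsAffineOpen U) (hV : IsAffineOpen V) (e : V ≤ f ⁻¹ᵁ U)
    (hx : x ∈ V) :
    ∃ (r : Γ(X, V)) (n : ℕ), x ∈ X.basicOpen r ∧
      (f.appLE U (X.basicOpen r)
        ((X.basicOpen_le r).trans e)).hom.IsStandardSmoothOfRelativeDimension n ∧
      FlatMor.fibreDimAt f x = (n : WithBot ℕ∞) := by
  have h1 : RingHom.Smooth (f.appLE U V e).hom :=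
    HasRingHomProperty.appLE (P := @Smooth) f inferInstance ⟨U, hU⟩ ⟨V, hV⟩ e
  rw [RingHom.smooth_iff_locally_isStandardSmooth,
    RingHom.locally_iff_isLocalization RingHom.isStandardSmooth_respectsIso] at h1
  obtain ⟨s, hs, hfs⟩ := h1
  have hs' := iSup_basicOpen_of_span_eq_top V (s : Set Γ(X, V)) hs
  have hx' : x ∈ (⨆ i ∈ s, X.basicOpen i) := hs'.symm ▸ hx
  obtain ⟨r, hr, hrs⟩ : ∃ r ∈ s, x ∈ X.basicOpen r := by simpa using hx'
  haveI : IsLocalization.Away r Γ(X, X.basicOpen r) := hV.isLocalization_basicOpen r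
  have h2 : (f.appLE U (X.basicOpen r) ((X.basicOpen_le r).trans e)).hom.IsStandardSmooth := by
    rw [← f.appLE_map e (homOfLE (X.basicOpen_le r)).op]
    exact hfs r hr _
  obtain ⟨n, hn⟩ := exists_relDim_of_isStandardSmooth _ h2
  refine ⟨r, n, hrs, hn, ?_⟩
  have hVr : IsAffineOpen (X.basicOpen r) := hV.basicOpen r
  have hq : hVr.fromSpec.base (hVr.primeIdealOf ⟨x, hrs⟩) = x := hVr.fromSpec_primeIdealOf ⟨x, hrs⟩
  rw [← hq, fibreDimAt_fromSpec f hVr hU ((X.basicOpen_le r).trans e)]
  letI := (f.appLE U (X.basicOpen r) ((X.basicOpen_le r).trans e)).hom.toAlgebra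
  exact fibLocDim_of_isStandardSmoothOfRelativeDimension Γ(Y, U) Γ(X, X.basicOpen r) n hn _

/-- variant of `exists_basicOpen_isStandardSmooth` producing just some affine chart -/
theorem exists_chart_isStandardSmooth {X Y : Scheme.{u}} (f : X ⟶ Y) [Smooth f] (x : X)
    {U : Y.Opens} (hU : IsAffineOpen U) (W : X.Opens) (hxW : x ∈ W) (hWU : W ≤ f ⁻¹ᵁ U) :
    ∃ (V : X.Opens) (_ : IsAffineOpen V) (_ : V ≤ W) (e : V ≤ f ⁻¹ᵁ U) (n : ℕ), x ∈ V ∧
      (f.appLE U V e).hom.IsStandardSmoothOfRelativeDimension n ∧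
      FlatMor.fibreDimAt f x = (n : WithBot ℕ∞) := by
  obtain ⟨_, ⟨V₀, hV₀, rfl⟩, hxV₀, hV₀W⟩ :=
    X.isBasis_affineOpens.exists_subset_of_mem_open hxW W.isOpen
  have e₀ : V₀ ≤ f ⁻¹ᵁ U := fun y hy => hWU (hV₀W hy)
  obtain ⟨r, n, hxr, hn, hdim⟩ := exists_basicOpen_isStandardSmooth f x hU hV₀ e₀ hxV₀
  exact ⟨X.basicOpen r, hV₀.basicOpen r, fun y hy => hV₀W (X.basicOpen_le r hy),
    (X.basicOpen_le r).trans e₀, n, hxr, hn, hdim⟩

end charts

section sheaf

open Groth.Agent.Lib.QCohStalk Groth.Agent.Lib.OmegaDer81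

/-- a quasi-coherent module whose sections over an affine open `V` have a finite basis is free
on `V` -/
theorem nonempty_restrict_iso_freeMod_of_basis {X : Scheme.{u}} (M : X.Modules) [M.IsQuasicoherent]
    {V : X.Opens} (hV : IsAffineOpen V) {n : ℕ} (b : Module.Basis (Fin n) Γ(X, V) Γ(M, V)) :
    Nonempty (M.restrict V.ι ≅ FlatMod.freeMod V n) := by
  have key : ∀ y : V,
      LinearIndependent (X.presheaf.stalk y.1) (fun i => M.presheaf.germ V y.1 y.2 (b i)) ∧
      Submodule.span (X.presheaf.stalk y.1)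
        (Set.range fun i => M.presheaf.germ V y.1 y.2 (b i)) = ⊤ := by
    intro y
    letI := moduleSectionStalk M y
    haveI := isScalarTower_sectionStalk M y
    haveI := isLocalizedModule_germ M hV y
    haveI := hV.isLocalization_stalk y
    let b' := b.ofIsLocalizedModule (X.presheaf.stalk y.1) (hV.primeIdealOf y).asIdeal.primeCompl
      (germLinear M y)
    have hb' : (fun i => M.presheaf.germ V y.1 y.2 (b i)) = b' := by
      funext i
      rw [Module.Basis.ofIsLocalizedModule_apply, germLinear_apply]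
    rw [hb']
    exact ⟨b'.linearIndependent, b'.span_eq⟩
  exact Groth.Agent.Lib.LocFreeRank.nonempty_iso_freeMod_of_forall_basis M (le_refl V)
    (fun i => b i) (fun y => (key y).1) (fun y => (key y).2)

set_option backward.isDefEq.respectTransparency false in
/-- For `f` smooth with sheaf of differentials `(Ω', d)`: near every point `Ω'` is free of rank
the local dimension of the fibre. -/
theorem exists_free_omega_of_smooth {X Y : Scheme.{u}} (f : X ⟶ Y) [Smooth f]
    (Ω' : X.Modules) (d : OmegaSh.Der f Ω') (hd : OmegaSh.IsUniversal d) (x : X) :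
    ∃ (U : X.Opens) (n : ℕ), x ∈ U ∧ Nonempty (Ω'.restrict U.ι ≅ FlatMod.freeMod (↑U) n) ∧
      FlatMor.fibreDimAt f x = (n : WithBot ℕ∞) := by
  obtain ⟨_, ⟨U₀, hU₀, rfl⟩, hxU₀, -⟩ :=
    Y.isBasis_affineOpens.exists_subset_of_mem_open (Set.mem_univ (f x)) isOpen_univ
  obtain ⟨V, hV, -, e, n, hxV, hn, hdim⟩ :=
    exists_chart_isStandardSmooth f x hU₀ (f ⁻¹ᵁ U₀) hxU₀ le_rfl
  refine ⟨V, n, hxV, ?_, hdim⟩
  letI : Algebra Γ(Y, U₀) Γ(X, V) := (f.appLE U₀ V e).hom.toAlgebra
  haveI : Algebra.IsStandardSmoothOfRelativeDimension n Γ(Y, U₀) Γ(X, V) := hn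
  haveI : Nonempty V := ⟨⟨x, hxV⟩⟩
  haveI : Nontrivial Γ(X, V) := X.component_nontrivial V
  obtain ⟨b⟩ := nonempty_basis_kaehler (R := Γ(Y, U₀)) (S := Γ(X, V)) n
  obtain ⟨ε, -⟩ := exists_linearEquiv_sections f d hV hU₀ e hd
  haveI : Ω'.IsQuasicoherent := isQuasicoherent_of_isUniversal f d hd
  exact nonempty_restrict_iso_freeMod_of_basis Ω' hV (b.map ε)

end sheaf

end Groth.Agent.Lib.H87SmoothRank
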