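import Groth.Agent.Lib.H14CurvesRelDim
import Groth.Agent.Lib.H14AlgSpSmLocus
import Groth.Agent.Lib.H87SmoothRank
import Groth.Agent.S2768

/-!
# Smooth families in the stack of curves (helper14)

ns `Groth.Agent.Lib.H14CurvesSmooth`.

* `isCMAt_of_smooth`, `isCMAt_of_smAt` : smooth (at a point) implies Cohen–Macaulay (at the point).
* `smoothOfRelativeDimension_iff` : `SmoothOfRelativeDimension n f ↔ Smooth f ∧ ∀ x, fibreDimAt f x = n`.
* `LocusData.congr`, `smData`, `smData_le_cm`, `locP_smoothOfRelDim_iff`, `smRelDimData d` :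
  `LocusData` for `LocP Smooth` and `LocP (SmoothOfRelativeDimension d)` on `Curves S 0`.
-/

set_option autoImplicit false
set_option linter.style.haveILetI false
set_option backward.isDefEq.respectTransparency false
set_option backward.isDefEq.respectTransparency.types false

namespace Groth.Agent.Lib.H14CurvesSmooth

open CategoryTheory CategoryTheory.Limits AlgebraicGeometry Opposite AlgSt AlgSp CurvSt
  Groth.Agent.Lib.H14CurvesOpen Groth.Agent.Lib.H14AlgSpSmLocus Groth.Agent.Lib.H14CurvesRelDim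

universe u

section Scheme

variable {X Y : Scheme.{u}}

/-- The local rings of the fibres of a smooth morphism are regular. -/
theorem isRegularLocalRing_fiber_stalk_of_smooth (f : X ⟶ Y) [Smooth f] (y : Y) (z : f.fiber y) :
    IsRegularLocalRing ((f.fiber y).presheaf.stalk z) := by
  have hsm : Smooth (f.fiberToSpecResidueField y) :=
    MorphismProperty.pullback_snd (P := @Smooth) _ _ inferInstance
  exact Groth.Agent.Lib.SmoothStalkRegular45.isRegularLocalRing_stalk_of_smooth_field
    (Y.residueField y) (f.fiberToSpecResidueField y) z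

/-- A smooth morphism is Cohen–Macaulay at every point. -/
theorem isCMAt_of_smooth (f : X ⟶ Y) [Smooth f] (x : X) : MoreMor.IsCMAt f x := by
  refine ⟨Flat.stalkMap f x, ?_⟩
  have := isRegularLocalRing_fiber_stalk_of_smooth f (f x) (f.asFiber x)
  exact Groth.Agent.Lib.H8CM.isCMLocalRing_of_isRegularLocalRing

/-- Smooth at a point implies Cohen–Macaulay at the point. -/
theorem isCMAt_of_smAt (f : X ⟶ Y) [LocallyOfFinitePresentation f] (x : X) (hx : SmAt f x) :
    MoreMor.IsCMAt f x := by
  obtain ⟨W, hxW, hW⟩ := (Groth.Agent.Lib.SmoothLocusBC.exists_nhds_smooth_iff f x).2 hx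
  have h1 : MoreMor.IsCMAt (W.ι ≫ f) ⟨x, hxW⟩ := isCMAt_of_smooth _ _
  exact (Groth.Agent.Lib.H14AlgSpCMLocus.cm_src W.ι f ⟨x, hxW⟩).1 h1

/-- Smooth of relative dimension `n` = smooth with all fibre dimensions `n`. -/
theorem smoothOfRelativeDimension_iff (f : X ⟶ Y) (n : ℕ) :
    SmoothOfRelativeDimension n f ↔
      Smooth f ∧ ∀ x, FlatMor.fibreDimAt f x = ((n : ℕ) : WithBot ℕ∞) := by
  constructor
  · intro h
    exact ⟨SmoothOfRelativeDimension.smooth n f, fun x => Groth.Agent.S2768.result n f x⟩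
  · rintro ⟨hsm, hd⟩
    refine ⟨fun x => ?_⟩
    obtain ⟨_, ⟨U, hU, rfl⟩, hxU, -⟩ :=
      Y.isBasis_affineOpens.exists_subset_of_mem_open (Set.mem_univ (f x)) isOpen_univ
    obtain ⟨V, hV, -, e, m, hxV, hstd, hdim⟩ :=
      Groth.Agent.Lib.H87SmoothRank.exists_chart_isStandardSmooth f x hU (f ⁻¹ᵁ U) hxU le_rfl
    have hmn : m = n := by
      have := hd x
      rw [hdim] at this
      exact_mod_cast this
    subst hmn
    exact ⟨U, hU, V, hV, hxV, e, hstd⟩

end Scheme

variable {S : Scheme.{u}}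

/-- Transport of locus data along an equivalence of conditions. -/
def LocusData.congr {n : ℕ} {Q Q' : (Curves S n).obj → Prop} (D : LocusData Q)
    (h : ∀ A, Q' A ↔ Q A) : LocusData Q' where
  G := D.G
  isOpen := D.isOpen
  iff := fun A hA => (h ⟨A, hA⟩).trans (D.iff A hA)
  bc := D.bc

/-- The smooth locus data. -/
def smData : LocusData (S := S) (n := 0) (fun A => AlgSp.LocP @Smooth A.obj.f) where
  G := fun A => {x | AlgSp.LocPAt (fun h u => SmAt h u) A.f x}
  isOpen := fun A hA =>
    (smLocus_open_baseChange (X := ⟨A.X, hA.1⟩)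
      (Y := ⟨(AlgSp.yon S).obj A.base, AlgSp.IsAlgSpace.yon_obj _⟩)
      (ObjectProperty.homMk A.f) hA.2.1 hA.2.2.2.1.1).1
  iff := fun A hA => by
    constructor
    · intro h
      ext x
      simp only [Set.mem_ofPred_eq, Set.mem_univ, iff_true]
      intro U V a b k u ha hb hc _
      haveI : Smooth k.left := h a b k ha hb hc
      have h1 : k.left.smoothLocus = ⊤ := Scheme.Hom.smoothLocus_eq_top _
      have : u ∈ k.left.smoothLocus := by rw [h1]; trivial
      exact this
    · intro h U V a b k ha hb hc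
      haveI : LocallyOfFinitePresentation k.left := hA.2.2.2.1.1 a b k ha hb hc
      rw [← Scheme.Hom.smoothLocus_eq_top_iff, ← top_le_iff]
      rintro u -
      have hx : AlgSp.Points.ofPt a u ∈
          {x | AlgSp.LocPAt (fun h u => SmAt h u) A.f x} := by
        rw [h]; trivial
      exact hx a b k u ha hb hc rfl
  bc := fun {A' A} hA' hA φ =>
    (smLocus_open_baseChange (X := ⟨A.X, hA.1⟩)
      (Y := ⟨(AlgSp.yon S).obj A.base, AlgSp.IsAlgSpace.yon_obj _⟩)
      (ObjectProperty.homMk A.f) hA.2.1 hA.2.2.2.1.1).2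
      ⟨A'.X, hA'.1⟩ ⟨(AlgSp.yon S).obj A'.base, AlgSp.IsAlgSpace.yon_obj _⟩
      (ObjectProperty.homMk ((AlgSp.yon S).map φ.base)) (ObjectProperty.homMk φ.top)
      (ObjectProperty.homMk A'.f) φ.cart

theorem smData_le_cm (A : SpFamObj S 0) (hA : IsCurveFam A) (x : Points A.X)
    (hx : x ∈ (smData (S := S)).G A) : LocPAt (fun h u => MoreMor.IsCMAt h u) A.f x := by
  intro U V a b k u ha hb hc hu
  haveI : LocallyOfFinitePresentation k.left := hA.2.2.2.1.1 a b k ha hb hc
  exact isCMAt_of_smAt k.left u (hx a b k u ha hb hc hu)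

/-- `LocP (SmoothOfRelativeDimension d)` = `LocP Smooth` + relative dimension `d` at all points. -/
theorem locP_smoothOfRelDim_iff (A : SpFamObj S 0) (hA : IsCurveFam A) (d : ℕ) :
    AlgSp.LocP (fun _ _ h => SmoothOfRelativeDimension d h) A.f ↔
      (AlgSp.LocP @Smooth A.f ∧ ∀ x : AlgSp.Points A.X,
        AlgSp.HasAtMor (fun _ _ h u => FlatMor.fibreDimAt h u = ((d : ℕ) : WithBot ℕ∞)) A.f x) := by
  constructor
  · intro h
    refine ⟨fun U V a b k ha hb hc => ?_, fun x => ?_⟩
    · haveI := h a b k ha hb hc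
      exact SmoothOfRelativeDimension.smooth d k.left
    · obtain ⟨U, V, a, b, k, u, ha, hb, hc, rfl⟩ :=
        Groth.Agent.Lib.AlgSpQFAt91.exists_chart_diagram hA.1 (IsAlgSpace.yon_obj _) A.f x
      haveI : LocallyOfFiniteType k.left := hA.2.2.1.2.1.1 a b k ha hb hc
      refine (Groth.Agent.Lib.H86FibDimChart.hasAtMor_fibreDimAt_eq_iff A.f _ _ a b k ha hb hc
        u rfl).2 ?_
      haveI := h a b k ha hb hc
      exact Groth.Agent.S2768.result d k.left u
  · rintro ⟨h1, h2⟩ U V a b k ha hb hc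
    haveI : LocallyOfFiniteType k.left := hA.2.2.1.2.1.1 a b k ha hb hc
    rw [smoothOfRelativeDimension_iff]
    refine ⟨h1 a b k ha hb hc, fun u => ?_⟩
    exact (Groth.Agent.Lib.H86FibDimChart.hasAtMor_fibreDimAt_eq_iff A.f _ _ a b k ha hb hc
      u rfl).1 (h2 _)

/-- The locus data of "smooth of relative dimension `d`". -/
def smRelDimData (d : ℕ) : LocusData (S := S) (n := 0)
    (fun A => AlgSp.LocP (fun _ _ h => SmoothOfRelativeDimension d h) A.obj.f) :=
  LocusData.congr (withRelDim smData smData_le_cm d)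
    (fun A => locP_smoothOfRelDim_iff A.obj A.property d)

end Groth.Agent.Lib.H14CurvesSmooth
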