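/- helper14: descent of a finite field extension of a directed union of subfields to a finite level (structure constants). Mathlib only. -/
import Mathlib

set_option autoImplicit false
set_option linter.style.haveILetI false
universe u

namespace Groth.Agent.Lib.H14FieldDescent

open TensorProduct Module

section descent

variable (K k l : Type u) [Field K] [Field k] [Field l] [Algebra K k] [Algebra k l] [Algebra K l]
  [IsScalarTower K k l] {n : ℕ} (b : Basis (Fin n) k l)

/-- The `K`-span of a `k`-basis of `l`. -/
def spanK : Submodule K l := Submodule.span K (Set.range b)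

variable {K k l}

theorem mem_spanK_of_repr (x : l) (h : ∀ a, b.repr x a ∈ Set.range (algebraMap K k)) :
    x ∈ spanK K k l b := by
  rw [← b.sum_repr x]
  refine Submodule.sum_mem _ (fun a _ => ?_)
  obtain ⟨u, hu⟩ := h a
  rw [← hu, algebraMap_smul]
  exact Submodule.smul_mem _ _ (Submodule.subset_span ⟨a, rfl⟩)

variable (hc : ∀ a a' c, b.repr (b a * b a') c ∈ Set.range (algebraMap K k))
  (hu : ∀ a, b.repr 1 a ∈ Set.range (algebraMap K k))

include hc in
theorem mul_mem_spanK {x y : l} (hx : x ∈ spanK K k l b) (hy : y ∈ spanK K k l b) :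
    x * y ∈ spanK K k l b := by
  have h1 : x * y ∈ spanK K k l b * spanK K k l b := Submodule.mul_mem_mul hx hy
  have h2 : spanK K k l b * spanK K k l b ≤ spanK K k l b := by
    unfold spanK
    rw [Submodule.span_mul_span, Submodule.span_le]
    rintro z ⟨x, ⟨a, rfl⟩, y, ⟨a', rfl⟩, rfl⟩
    exact mem_spanK_of_repr b _ (hc a a')
  exact h2 h1

/-- The descended subalgebra. -/
noncomputable def L0 : Subalgebra K l :=
  (spanK K k l b).toSubalgebra (mem_spanK_of_repr b 1 hu) (fun _ _ hx hy => mul_mem_spanK b hc hx hy)

theorem mem_L0 {x : l} : x ∈ L0 b hc hu ↔ x ∈ spanK K k l b := Submodule.mem_toSubalgebra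

/-- The basis vectors, as elements of `L0`. -/
noncomputable def vec (a : Fin n) : L0 b hc hu := ⟨b a, (mem_L0 b hc hu).mpr (Submodule.subset_span ⟨a, rfl⟩)⟩

theorem linearIndependent_vec : LinearIndependent K (vec b hc hu) := by
  have h1 : LinearIndependent K (b : Fin n → l) :=
    LinearIndependent.restrict_scalars (R := K) (K := k)
      (by
        intro x y hxy
        simp only [Algebra.smul_def, mul_one] at hxy
        exact (algebraMap K k).injective hxy) b.linearIndependent
  exact LinearIndependent.of_comp (L0 b hc hu).val.toLinearMap h1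

theorem span_vec : ⊤ ≤ Submodule.span K (Set.range (vec b hc hu)) := by
  rintro ⟨x, hx⟩ -
  have h1 : Submodule.map (L0 b hc hu).val.toLinearMap (Submodule.span K (Set.range (vec b hc hu))) =
      spanK K k l b := by
    rw [Submodule.map_span, ← Set.range_comp]
    rfl
  rw [mem_L0, ← h1] at hx
  obtain ⟨y, hy, hyx⟩ := hx
  have : y = ⟨x, (mem_L0 b hc hu).mpr (h1 ▸ ⟨y, hy, hyx⟩)⟩ := Subtype.ext hyx
  rw [← this]
  exact hy

/-- The basis of `L0` over `K`. -/
noncomputable def basisL0 : Basis (Fin n) K (L0 b hc hu) :=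
  Basis.mk (linearIndependent_vec b hc hu) (span_vec b hc hu)

theorem basisL0_apply (a : Fin n) : ((basisL0 b hc hu a : L0 b hc hu) : l) = b a := by
  simp [basisL0, vec]

theorem finite_L0 : Module.Finite K (L0 b hc hu) := Module.Finite.of_basis (basisL0 b hc hu)

theorem isField_L0 : IsField (L0 b hc hu) := by
  haveI := finite_L0 b hc hu
  haveI : IsArtinianRing (L0 b hc hu) := IsArtinianRing.of_finite K _
  exact IsArtinianRing.isField_of_isDomain _

/-- The canonical map `k ⊗_K L0 → l`. -/
noncomputable def toL : k ⊗[K] (L0 b hc hu) →ₐ[k] l :=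
  Algebra.TensorProduct.lift (Algebra.ofId k l) ((L0 b hc hu).val) (fun _ _ => Commute.all _ _)

theorem toL_bijective : Function.Bijective (toL b hc hu) := by
  let B := Algebra.TensorProduct.basis k (basisL0 b hc hu)
  have h : (toL b hc hu).toLinearMap = (B.equiv b (Equiv.refl _)).toLinearMap := by
    refine B.ext (fun a => ?_)
    have h1 : (B.equiv b (Equiv.refl _)) (B a) = b a := by
      rw [Basis.equiv_apply]; rfl
    rw [LinearEquiv.coe_coe, h1]
    simp [B, toL, Algebra.TensorProduct.basis_apply, basisL0_apply]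
  have h2 : ⇑(toL b hc hu) = ⇑(B.equiv b (Equiv.refl _)) := by
    ext x
    exact congrArg (fun f => f x) h
  rw [h2]
  exact (B.equiv b (Equiv.refl _)).bijective

/-- Descent of a finite field extension `l/k` to a subfield `K` of `k` containing the structure
constants of a basis. -/
theorem exists_descent
    (hc : ∀ a a' c, b.repr (b a * b a') c ∈ Set.range (algebraMap K k))
    (hu : ∀ a, b.repr 1 a ∈ Set.range (algebraMap K k)) :
    ∃ (L : Type u) (_ : Field L) (_ : Algebra K L) (_ : Module.Finite K L),
      Nonempty (k ⊗[K] L ≃ₐ[k] l) := by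
  refine ⟨L0 b hc hu, (isField_L0 b hc hu).toField, (L0 b hc hu).algebra, finite_L0 b hc hu, ?_⟩
  exact ⟨AlgEquiv.ofBijective (toL b hc hu) (toL_bijective b hc hu)⟩

end descent

section directed

variable (k : Type u) [Field k] {ι : Type u} (K : ι → Type u) [∀ i, Field (K i)]
  [∀ i, Algebra (K i) k]
  (hdir : ∀ i j, ∃ l, Set.range (algebraMap (K i) k) ⊆ Set.range (algebraMap (K l) k) ∧
      Set.range (algebraMap (K j) k) ⊆ Set.range (algebraMap (K l) k))
  (hcov : ∀ x : k, ∃ i, x ∈ Set.range (algebraMap (K i) k))

include hdir hcov in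
theorem exists_index_finset (s : Finset k) :
    ∃ i, ∀ x ∈ s, x ∈ Set.range (algebraMap (K i) k) := by
  classical
  induction s using Finset.induction_on with
  | empty =>
    obtain ⟨i, -⟩ := hcov 0
    exact ⟨i, fun x hx => absurd hx (Finset.notMem_empty x)⟩
  | insert a s _ ih =>
    obtain ⟨i, hi⟩ := ih
    obtain ⟨j, hj⟩ := hcov a
    obtain ⟨l, hil, hjl⟩ := hdir i j
    refine ⟨l, fun x hx => ?_⟩
    rcases Finset.mem_insert.mp hx with rfl | hx
    · exact hjl hj
    · exact hil (hi x hx)

include hdir hcov in
/-- A finite field extension of a directed union of subfields descends to a finite level. -/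
theorem exists_descent_directed (l : Type u) [Field l] [Algebra k l] [Module.Finite k l] :
    ∃ (i : ι) (L : Type u) (_ : Field L) (_ : Algebra (K i) L) (_ : Module.Finite (K i) L),
      Nonempty (k ⊗[K i] L ≃ₐ[k] l) := by
  classical
  let b := Module.finBasis k l
  let s : Finset k :=
    (Finset.univ.image (fun t : Fin (finrank k l) × Fin (finrank k l) × Fin (finrank k l) =>
      b.repr (b t.1 * b t.2.1) t.2.2)) ∪
    (Finset.univ.image (fun a : Fin (finrank k l) => b.repr 1 a))
  obtain ⟨i, hi⟩ := exists_index_finset k K hdir hcov s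
  letI : Algebra (K i) l := ((algebraMap k l).comp (algebraMap (K i) k)).toAlgebra
  haveI : IsScalarTower (K i) k l := IsScalarTower.of_algebraMap_eq (fun _ => rfl)
  have hc : ∀ a a' c, b.repr (b a * b a') c ∈ Set.range (algebraMap (K i) k) := by
    intro a a' c
    apply hi
    apply Finset.mem_union_left
    exact Finset.mem_image.mpr ⟨(a, a', c), Finset.mem_univ _, rfl⟩
  have hu : ∀ a, b.repr 1 a ∈ Set.range (algebraMap (K i) k) := by
    intro a
    apply hi
    apply Finset.mem_union_right
    exact Finset.mem_image.mpr ⟨a, Finset.mem_univ _, rfl⟩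
  obtain ⟨L, h1, h2, h3, h4⟩ := exists_descent b hc hu
  exact ⟨i, L, h1, h2, h3, h4⟩

end directed

end Groth.Agent.Lib.H14FieldDescent
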