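/-
helper14: finite length from support in maximal ideals; maximality of the irrelevant ideal.
-/
import Mathlib

set_option autoImplicit false
universe u

namespace Groth.Agent.Lib.H14FinLenSupp

open MvPolynomial

/-- A finitely generated module over a Noetherian ring whose support consists of maximal ideals
has finite length. -/
theorem isFiniteLength_of_support_maximal {A : Type u} [CommRing A] [IsNoetherianRing A]
    {N : Type u} [AddCommGroup N] [Module A N] (hN : Module.Finite A N)
    (h : ∀ p ∈ Module.support A N, p.asIdeal.IsMaximal) : IsFiniteLength A N := by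
  refine IsNoetherianRing.induction_on_isQuotientEquivQuotientPrime A hN
    (motive := fun N _ _ _ => (∀ p ∈ Module.support A N, p.asIdeal.IsMaximal) → IsFiniteLength A N)
    ?_ ?_ ?_ h
  · intro N _ _ _ _ _
    exact IsFiniteLength.of_subsingleton
  · intro N _ _ _ p f hsupp
    have hp : p ∈ Module.support A N := by
      rw [f.support_eq, Module.support_of_algebra, Ideal.Quotient.algebraMap_eq, Ideal.mk_ker,
        PrimeSpectrum.mem_zeroLocus]
    have hmax := hsupp p hp
    have : IsSimpleModule A N := isSimpleModule_iff_quot_maximal.mpr ⟨p.asIdeal, hmax, ⟨f⟩⟩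
    rw [isFiniteLength_iff_isNoetherian_isArtinian]
    exact ⟨inferInstance, inferInstance⟩
  · intro N₁ _ _ _ N₂ _ _ _ N₃ _ _ _ f g hf hg hfg h₁ h₃ hsupp
    have hs := Module.support_of_exact hfg hf hg
    have e₁ := h₁ (fun p hp => hsupp p (by rw [hs]; exact Or.inl hp))
    have e₃ := h₃ (fun p hp => hsupp p (by rw [hs]; exact Or.inr hp))
    rw [isFiniteLength_iff_isNoetherian_isArtinian] at e₁ e₃ ⊢
    obtain ⟨_, _⟩ := e₁
    obtain ⟨_, _⟩ := e₃
    refine ⟨inferInstance, isArtinian_of_range_eq_ker f g ?_⟩
    exact (LinearMap.exact_iff.mp hfg).symm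

/-- A prime of `k[x_i]` containing a power of every variable is maximal. -/
theorem isMaximal_of_X_pow_mem {k : Type u} [Field k] {σ : Type*} (d : ℕ)
    (P : Ideal (MvPolynomial σ k)) [hP : P.IsPrime] (h : ∀ i, (X i : MvPolynomial σ k) ^ d ∈ P) :
    P.IsMaximal := by
  have hX : ∀ i, (X i : MvPolynomial σ k) ∈ P := fun i => hP.mem_of_pow_mem d (h i)
  have key : ∀ f : MvPolynomial σ k, f - C (constantCoeff f) ∈ P := by
    intro f
    induction f using MvPolynomial.induction_on with
    | C a => simp
    | add p q hp hq =>
      have : p + q - C (constantCoeff (p + q)) = (p - C (constantCoeff p)) + (q - C (constantCoeff q)) := by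
        rw [map_add, map_add]; ring
      rw [this]; exact P.add_mem hp hq
    | mul_X p i _ =>
      have : constantCoeff (p * X i) = 0 := by simp
      rw [this, map_zero, sub_zero]
      exact P.mul_mem_left _ (hX i)
  rw [Ideal.isMaximal_iff]
  refine ⟨(Ideal.ne_top_iff_one _).mp hP.ne_top, ?_⟩
  intro J x hPJ hxP hxJ
  have h1 : C (constantCoeff x) ∈ J := by
    have := J.sub_mem hxJ (hPJ (key x))
    simpa using this
  have ha : constantCoeff x ≠ 0 := by
    intro h0
    apply hxP
    have := key x
    rwa [h0, map_zero, sub_zero] at this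
  have : (1 : MvPolynomial σ k) = C (constantCoeff x)⁻¹ * C (constantCoeff x) := by
    rw [← map_mul, inv_mul_cancel₀ ha, map_one]
  rw [this]
  exact J.mul_mem_left _ h1

end Groth.Agent.Lib.H14FinLenSupp
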