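import Mathlib
import Groth.Agent.Lib.H14CIAscent

/-!
# Invariance of the geometric depth (CI defect) along flat local maps with `𝔪_A A' = 𝔪_{A'}` (helper14)

`exists_presentations_of_map_maximalIdeal`: a flat local homomorphism `A → A'` of complete Noetherian
local rings with `𝔪_A A' = 𝔪_{A'}` admits regular presentations `R ↠ A`, `S ↠ A'` with
`dim R = dim S` and `μ(ker) = μ(ker')` (flat Cohen factorization with no new variables,
`H14CIAscent.ker_eq_span_append'`).  With `H14CIDefect.defect_eq` this gives S5179.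
-/

set_option autoImplicit false
set_option linter.style.haveILetI false
set_option linter.unusedSectionVars false
universe u
open IsLocalRing TensorProduct RingTheory.Sequence

namespace Groth.Agent.Lib.H14GeomDepth

open Groth.Agent.Lib Groth.Agent.Lib.H14CIDefect Groth.Agent.Lib.H14CIAscent

/-- A flat local homomorphism `A → A'` of complete Noetherian local rings with `𝔪_A A' = 𝔪_{A'}`
admits compatible regular presentations `R ↠ A`, `S ↠ A'` with `dim R = dim S` and
`μ(ker) = μ(ker')`. -/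
theorem exists_presentations_of_map_maximalIdeal (A A' : Type u) [CommRing A] [CommRing A']
    [IsNoetherianRing A] [IsNoetherianRing A'] [IsLocalRing A] [IsLocalRing A']
    [IsAdicComplete (maximalIdeal A) A] [IsAdicComplete (maximalIdeal A') A']
    [Algebra A A'] [IsLocalHom (algebraMap A A')] [Module.Flat A A']
    (hmax : (maximalIdeal A).map (algebraMap A A') = maximalIdeal A') :
    ∃ (R S : Type u) (_ : CommRing R) (_ : CommRing S) (_ : IsRegularLocalRing R)
      (_ : IsRegularLocalRing S) (ρ : R →+* A) (σ : S →+* A'),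
      Function.Surjective ρ ∧ Function.Surjective σ ∧ ringKrullDim S = ringKrullDim R ∧
        (RingHom.ker σ).spanFinrank = (RingHom.ker ρ).spanFinrank := by
  obtain ⟨Λ, _, _, q, v, hΛ, hchar, hvloc, hvsurj⟩ := CohenFactor.exists_isCoeff A
  obtain ⟨Λ', _, _, q', v', hΛ', hchar', hv'loc, hv'surj⟩ := CohenFactor.exists_isCoeff A'
  have hqq : q' = q := by
    have h1 : CharP (ResidueField A') q :=
      charP_of_injective_ringHom (f := ResidueField.map (algebraMap A A')) (RingHom.injective _) q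
    exact CharP.eq (ResidueField A') hchar' h1
  subst hqq
  haveI := hΛ.complete
  haveI := hΛ'.complete
  obtain ⟨n, a, ha⟩ := Submodule.fg_iff_exists_fin_generating_family.1
    (maximalIdeal A).fg_of_isNoetherianRing
  have ham : ∀ i, a i ∈ maximalIdeal A := fun i => by
    rw [← ha]; exact Submodule.subset_span ⟨i, rfl⟩
  have hv : ∀ x ∈ maximalIdeal Λ, v x ∈ maximalIdeal A := fun x hx => map_nonunit v x hx
  have hc : maximalIdeal A ≤ Ideal.span (Set.range a) ⊔ (maximalIdeal Λ).map v :=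
    le_sup_of_le_left ha.ge
  obtain ⟨ρ, hρs, hρX, hρC⟩ := CohenFactor.exists_surjective_of_family Λ A v hv hvsurj a ham hc
  let b : Fin 0 → A' := Fin.elim0
  have hbm : ∀ j, b j ∈ maximalIdeal A' := fun j => j.elim0
  have hb' : maximalIdeal A' ≤ Ideal.span (Set.range b) ⊔
      (maximalIdeal A).map (algebraMap A A') ⊔ (maximalIdeal Λ').map v' :=
    le_sup_of_le_left (le_sup_of_le_right hmax.ge)
  obtain ⟨σ, τ, hσ, hcomp, -, -, hτX, hτloc, hτflat, hSbar_reg, hSbar_dim⟩ :=
    CohenFactor.exists_factor hΛ hΛ' ρ hρs v' hv'surj b hbm hb'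
  haveI hRreg : IsRegularLocalRing (MvPowerSeries (Fin n) Λ) :=
    CohenFactor.isRegularLocalRing_mvPowerSeries hΛ n
  haveI hSreg : IsRegularLocalRing (MvPowerSeries (Fin (n + 0)) Λ') :=
    CohenFactor.isRegularLocalRing_mvPowerSeries hΛ' (n + 0)
  refine ⟨MvPowerSeries (Fin n) Λ, MvPowerSeries (Fin (n + 0)) Λ', inferInstance, inferInstance,
    hRreg, hSreg, ρ, σ, hρs, hσ, ?_, ?_⟩
  · have d5 := CMFlat33.ringKrullDim_eq_add' τ hτflat
    rw [hSbar_dim] at d5
    rw [d5]
    simp
  · set 𝔟 : Ideal (MvPowerSeries (Fin (n + 0)) Λ') :=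
      (maximalIdeal (MvPowerSeries (Fin n) Λ)).map τ with h𝔟
    -- `𝔟` is the maximal ideal
    have hm𝔟 : maximalIdeal (MvPowerSeries (Fin (n + 0)) Λ') ≤ 𝔟 := by
      have h1 : (maximalIdeal (MvPowerSeries (Fin (n + 0)) Λ' ⧸ 𝔟)).spanFinrank = 0 := by
        have := IsRegularLocalRing.spanFinrank_maximalIdeal
          (R := MvPowerSeries (Fin (n + 0)) Λ' ⧸ 𝔟)
        rw [hSbar_dim] at this
        exact_mod_cast this
      have h2 : maximalIdeal (MvPowerSeries (Fin (n + 0)) Λ' ⧸ 𝔟) = ⊥ :=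
        (Submodule.spanFinrank_eq_zero_iff_eq_bot (Ideal.fg_of_isNoetherianRing _)).mp h1
      have h3 := map_maximalIdeal_of_surjective (Ideal.Quotient.mk 𝔟) Ideal.Quotient.mk_surjective
      rw [h2, Ideal.map_eq_bot_iff_le_ker, Ideal.mk_ker] at h3
      exact h3
    obtain ⟨fI, hfI⟩ := exists_fin_generators (RingHom.ker ρ) (Ideal.fg_of_isNoetherianRing _)
    obtain ⟨N, aR, haR⟩ := Submodule.fg_iff_exists_fin_generating_family.1
      (maximalIdeal (MvPowerSeries (Fin n) Λ)).fg_of_isNoetherianRing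
    have haR' : maximalIdeal (MvPowerSeries (Fin n) Λ) = Ideal.span (Set.range aR) := haR.symm
    have h𝔟' : 𝔟 = Ideal.span (Set.range (τ ∘ aR)) := by
      rw [h𝔟, haR', Ideal.map_span, Set.range_comp]
    have haRm : ∀ k, τ (aR k) ∈ maximalIdeal (MvPowerSeries (Fin (n + 0)) Λ') := fun k =>
      map_nonunit τ _ (by rw [haR']; exact Ideal.subset_span ⟨k, rfl⟩)
    let g : Fin 0 → MvPowerSeries (Fin (n + 0)) Λ' := Fin.elim0
    have hgen : (RingHom.ker σ).map (Ideal.Quotient.mk 𝔟) ≤
        Ideal.span (Set.range (Ideal.Quotient.mk 𝔟 ∘ g)) := by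
      have h1 : RingHom.ker σ ≤ 𝔟 := (le_maximalIdeal (RingHom.ker_ne_top σ)).trans hm𝔟
      have h2 : (RingHom.ker σ).map (Ideal.Quotient.mk 𝔟) = ⊥ := by
        rw [Ideal.map_eq_bot_iff_le_ker, Ideal.mk_ker]
        exact h1
      rw [h2]
      exact bot_le
    have hJ := ker_eq_span_append' τ ρ σ hρs hσ hcomp aR haRm 𝔟 h𝔟' fI hfI g
      (fun j => j.elim0) hgen
    have hrange : Set.range (Fin.append (τ ∘ fI) g) = τ '' Set.range fI := by
      ext x
      constructor
      · rintro ⟨k, rfl⟩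
        refine Fin.addCases (fun i => ?_) (fun j => j.elim0) k
        rw [Fin.append_left]
        exact ⟨fI i, ⟨i, rfl⟩, rfl⟩
      · rintro ⟨_, ⟨i, rfl⟩, rfl⟩
        exact ⟨Fin.castAdd 0 i, by rw [Fin.append_left]; rfl⟩
    rw [hrange, ← Ideal.map_span, hfI] at hJ
    letI : Algebra (MvPowerSeries (Fin n) Λ) (MvPowerSeries (Fin (n + 0)) Λ') := τ.toAlgebra
    haveI : Module.Flat (MvPowerSeries (Fin n) Λ) (MvPowerSeries (Fin (n + 0)) Λ') := hτflat
    haveI : IsLocalHom (algebraMap (MvPowerSeries (Fin n) Λ) (MvPowerSeries (Fin (n + 0)) Λ')) :=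
      hτloc
    rw [hJ]
    exact spanFinrank_map_eq_of_flat (RingHom.ker ρ) (Ideal.fg_of_isNoetherianRing _)

end Groth.Agent.Lib.H14GeomDepth
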