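import Groth.Prelude.Def_StCurv2
import Groth.Agent.Lib.GeomFieldExt
import Groth.Agent.Lib.H77DimFieldExt
import Mathlib.AlgebraicGeometry.Geometrically.Reduced
import Mathlib.AlgebraicGeometry.Geometrically.Connected

/-!
# Geometric fibres of families of schemes over a field, as sheaf families (helper14)

* `geomFib_toSpFam_iff` : `CurvSt.GeomFib P (toSpFam.obj A)` (for `P` not looking at the marked
  points) iff `P` holds for all scheme-theoretic base changes to algebraically closed fields.
* `geometrically_iff_algClosed`, `geometricallyReduced_iff_algClosed`,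
  `geometricallyConnected_iff_algClosed`.
* `dim_eq_of_isPullback` (helper77's field-extension invariance of dimension, for arbitrary
  `Spec Ω ⟶ Spec k`), `forall_algClosed_const`.
-/

set_option autoImplicit false
set_option linter.style.haveILetI false
universe u

open CategoryTheory CategoryTheory.Limits AlgebraicGeometry

namespace Groth.Agent.Lib.H14GeomFib

variable {S : Scheme.{u}} {n : ℕ}

/-- Geometric fibres of the sheaf family attached to a family of schemes are the scheme-theoretic
base changes. -/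
theorem geomFib_toSpFam_iff (A : CurvSt.PtFamObj S n)
    (P : ∀ (Ω : Type u) [Field Ω] [IsAlgClosed Ω] (X' : Scheme.{u}),
      (X' ⟶ Spec (CommRingCat.of Ω)) → Prop) :
    CurvSt.GeomFib (fun Ω _ _ X' q _ => P Ω X' q) ((CurvSt.toSpFam S n).obj A) ↔
      ∀ (Ω : Type u) [Field Ω] [IsAlgClosed Ω] (t : Spec (CommRingCat.of Ω) ⟶ A.base.left)
        (X' : Scheme.{u}) (q : X' ⟶ Spec (CommRingCat.of Ω)) (i : X' ⟶ A.C),
        IsPullback i q A.f t → P Ω X' q := by
  constructor
  · intro h Ω _ _ t X' q i hP
    let B := (CurvSt.toSpFam S n).obj A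
    have hw : i ≫ A.totOver.hom = (B.ptOver (q ≫ t)).hom := by
      show i ≫ A.f ≫ A.base.hom = (q ≫ t) ≫ A.base.hom
      rw [← Category.assoc, hP.w, Category.assoc]
    let i₀ : B.ptOver (q ≫ t) ⟶ A.totOver := Over.homMk i hw
    have sqO : IsPullback i₀ (B.fibHom t q) A.fOver (B.ptHom t) :=
      IsPullback.of_map (Over.forget S) (Over.OverMorphism.ext hP.w) hP
    exact h Ω t X' q ((AlgSp.yon S).map i₀) (sqO.map (AlgSp.yon S))
  · intro h Ω _ _ t X' q i hP
    let B := (CurvSt.toSpFam S n).obj A
    obtain ⟨i₀, rfl⟩ : ∃ i₀ : B.ptOver (q ≫ t) ⟶ A.totOver, (AlgSp.yon S).map i₀ = i :=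
      ⟨(AlgSp.yon S).preimage i, (AlgSp.yon S).map_preimage i⟩
    have hw : i₀ ≫ A.fOver = B.fibHom t q ≫ B.ptHom t :=
      (AlgSp.yon S).map_injective
        (((AlgSp.yon S).map_comp _ _).trans (hP.w.trans ((AlgSp.yon S).map_comp _ _).symm))
    have sqO : IsPullback i₀ (B.fibHom t q) A.fOver (B.ptHom t) :=
      IsPullback.of_map (AlgSp.yon S) hw hP
    exact h Ω t X' q i₀.left (sqO.map (Over.forget S))

/-- Being geometrically `P` can be tested on algebraically closed fields, for `P` descending along
flat surjective quasi-compact morphisms. -/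
theorem geometrically_iff_algClosed (P : ObjectProperty Scheme.{u})
    (hdesc : ∀ {Z Z' : Scheme.{u}} (g : Z' ⟶ Z) [Surjective g] [Flat g] [QuasiCompact g],
      P Z' → P Z) {X Y : Scheme.{u}} (f : X ⟶ Y) :
    geometrically P f ↔
      ∀ (Ω : Type u) [Field Ω] [IsAlgClosed Ω] (t : Spec (CommRingCat.of Ω) ⟶ Y)
        (X' : Scheme.{u}) (q : X' ⟶ Spec (CommRingCat.of Ω)) (i : X' ⟶ X),
        IsPullback i q f t → P X' := by
  constructor
  · intro h Ω _ _ t X' q i hP
    exact h t i q hP
  · intro h K _ y Z fst snd hP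
    let ψ : Spec (CommRingCat.of (AlgebraicClosure K)) ⟶ Spec (CommRingCat.of K) :=
      Spec.map (CommRingCat.ofHom (algebraMap K (AlgebraicClosure K)))
    have sq1 := IsPullback.of_hasPullback snd ψ
    have sq2 : IsPullback (pullback.fst snd ψ ≫ fst) (pullback.snd snd ψ) f (ψ ≫ y) :=
      sq1.paste_horiz hP
    have hZ' : P (pullback snd ψ) := h (AlgebraicClosure K) (ψ ≫ y) _ _ _ sq2
    have : Surjective (pullback.fst snd ψ) := MorphismProperty.pullback_fst _ _ inferInstance
    have : Flat (pullback.fst snd ψ) := MorphismProperty.pullback_fst _ _ inferInstance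
    have : QuasiCompact (pullback.fst snd ψ) := MorphismProperty.pullback_fst _ _ inferInstance
    exact hdesc (pullback.fst snd ψ) hZ'

theorem geometricallyReduced_iff_algClosed {X Y : Scheme.{u}} (f : X ⟶ Y) :
    GeometricallyReduced f ↔
      ∀ (Ω : Type u) [Field Ω] [IsAlgClosed Ω] (t : Spec (CommRingCat.of Ω) ⟶ Y)
        (X' : Scheme.{u}) (q : X' ⟶ Spec (CommRingCat.of Ω)) (i : X' ⟶ X),
        IsPullback i q f t → IsReduced X' := by
  rw [geometricallyReduced_iff]
  exact geometrically_iff_algClosed (fun Z => IsReduced Z)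
    (fun g _ _ _ h => by
      have : IsReduced _ := h
      exact Groth.Agent.Lib.GeomFieldExt.isReduced_of_flat_of_surjective g) f

theorem geometricallyConnected_iff_algClosed {X Y : Scheme.{u}} (f : X ⟶ Y) :
    GeometricallyConnected f ↔
      ∀ (Ω : Type u) [Field Ω] [IsAlgClosed Ω] (t : Spec (CommRingCat.of Ω) ⟶ Y)
        (X' : Scheme.{u}) (q : X' ⟶ Spec (CommRingCat.of Ω)) (i : X' ⟶ X),
        IsPullback i q f t → ConnectedSpace X' := by
  rw [geometricallyConnected_iff]
  exact geometrically_iff_algClosed (fun Z => ConnectedSpace Z)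
    (fun g _ _ _ h => by
      have : ConnectedSpace _ := h
      exact Groth.Agent.Lib.GeomFieldExt.connectedSpace_of_surjective g) f

section OverField

variable {k : Type u} [Field k] {X : Scheme.{u}} (p : X ⟶ Spec (CommRingCat.of k))

/-- The dimension of a base change to a field of a scheme locally of finite type over a field. -/
theorem dim_eq_of_isPullback {Ω : Type u} [Field Ω] (t : Spec (CommRingCat.of Ω) ⟶ Spec (CommRingCat.of k))
    [LocallyOfFiniteType p] {X' : Scheme.{u}} (q : X' ⟶ Spec (CommRingCat.of Ω)) (i : X' ⟶ X)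
    (hP : IsPullback i q p t) : topologicalKrullDim X' = topologicalKrullDim X := by
  obtain ⟨ψ, rfl⟩ : ∃ ψ, Spec.map ψ = t := ⟨Spec.preimage t, Spec.map_preimage t⟩
  exact Groth.Agent.Lib.H77DimFieldExt.dim_eq_of_isPullback_spec_field ψ p q i hP

/-- A statement about all base changes to algebraically closed fields which does not depend on the
base change holds iff ... (there is at least one algebraically closed extension). -/
theorem forall_algClosed_const (Q : Prop) [LocallyOfFiniteType p]
    (R : Scheme.{u} → Prop)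
    (hR : ∀ (Ω : Type u) [Field Ω] (t : Spec (CommRingCat.of Ω) ⟶ Spec (CommRingCat.of k))
      (X' : Scheme.{u}) (q : X' ⟶ Spec (CommRingCat.of Ω)) (i : X' ⟶ X), IsPullback i q p t →
      (R X' ↔ Q)) :
    (∀ (Ω : Type u) [Field Ω] [IsAlgClosed Ω] (t : Spec (CommRingCat.of Ω) ⟶ Spec (CommRingCat.of k))
        (X' : Scheme.{u}) (q : X' ⟶ Spec (CommRingCat.of Ω)) (i : X' ⟶ X),
        IsPullback i q p t → R X') ↔ Q := by
  constructor
  · intro h
    let ψ : Spec (CommRingCat.of (AlgebraicClosure k)) ⟶ Spec (CommRingCat.of k) :=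
      Spec.map (CommRingCat.ofHom (algebraMap k (AlgebraicClosure k)))
    have sq := IsPullback.of_hasPullback p ψ
    exact (hR _ ψ _ _ _ sq).1 (h _ ψ _ _ _ sq)
  · intro hQ Ω _ _ t X' q i hP
    exact (hR Ω t X' q i hP).2 hQ

end OverField

end Groth.Agent.Lib.H14GeomFib
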