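import Groth.Prelude.Def_WeilCoh

set_option autoImplicit false
universe u v w

namespace Groth.Agent.Lib.WeilCohPush

open WeilCoh CategoryTheory AlgebraicGeometry

variable {k : Type u} [Field k] {P : ObjectProperty (Over (Spec (CommRingCat.of k)))}
variable {K : Type v} [Field K] (T : TheoryOn.{u, v, w} k P K)

lemma pairing_apply {A : Type w} [Ring A] [Algebra K A] (S S' : Submodule K A) (t : A →ₗ[K] K)
    (a : S) (b : S') : pairing K S S' t a b = t ((a : A) * (b : A)) := rfl

/-- The defining property of the push-forward. -/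
theorem tr_push_mul {X Y : P.FullSubcategory} (f : X ⟶ Y) (i : ℤ) (a : T.gr X i)
    (b : T.gr Y (2 * (dim X.obj.left : ℤ) - i)) :
    T.tr Y ((T.push f i a : T.H Y) * (b : T.H Y)) = T.tr X ((a : T.H X) * T.pull f (b : T.H Y)) := by
  have := T.duality Y (i + 2 * (dim Y.obj.left : ℤ) - 2 * (dim X.obj.left : ℤ))
    (2 * (dim X.obj.left : ℤ) - i) (by omega)
  have h := LinearMap.apply_symm_toPerfPair_self
    (pairing K (T.gr Y (i + 2 * (dim Y.obj.left : ℤ) - 2 * (dim X.obj.left : ℤ)))
      (T.gr Y (2 * (dim X.obj.left : ℤ) - i)) (T.tr Y)) (T.pushFunctional f i a)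
  have h2 := congrArg (fun φ => φ b) h
  exact h2

/-- A class of degree `i` is zero as soon as it pairs to zero with all classes of the
complementary degree. -/
theorem eq_zero_of_forall_tr_mul {Y : P.FullSubcategory} (i j : ℤ)
    (hij : i + j = 2 * (dim Y.obj.left : ℤ)) (x : T.H Y) (hx : x ∈ T.gr Y i)
    (H : ∀ b ∈ T.gr Y j, T.tr Y (x * b) = 0) : x = 0 := by
  have := T.duality Y i j hij
  have hinj := (LinearMap.IsPerfPair.bijective_left (pairing K (T.gr Y i) (T.gr Y j) (T.tr Y))).1
  have : (⟨x, hx⟩ : T.gr Y i) = 0 := by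
    apply hinj
    rw [map_zero]
    ext b
    exact H b b.2
  exact congrArg Subtype.val this

/-- A class which pairs to zero with all homogeneous classes, and is a sum of homogeneous classes
of two degrees, vanishes; we only need the homogeneous case and the following variant. -/
theorem eq_of_forall_tr_mul {Y : P.FullSubcategory} (i j : ℤ)
    (hij : i + j = 2 * (dim Y.obj.left : ℤ)) (x y : T.H Y) (hx : x ∈ T.gr Y i) (hy : y ∈ T.gr Y i)
    (H : ∀ b ∈ T.gr Y j, T.tr Y (x * b) = T.tr Y (y * b)) : x = y := by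
  rw [← sub_eq_zero]
  refine eq_zero_of_forall_tr_mul T i j hij (x - y) (Submodule.sub_mem _ hx hy) fun b hb => ?_
  rw [sub_mul, map_sub, H b hb, sub_self]

/-- Flexible form of `tr_push_mul`. -/
theorem tr_push_mul' {X Y : P.FullSubcategory} (f : X ⟶ Y) (i : ℤ) (a : T.gr X i) (b : T.H Y)
    (j : ℤ) (hj : i + j = 2 * (dim X.obj.left : ℤ)) (hb : b ∈ T.gr Y j) :
    T.tr Y ((T.push f i a : T.H Y) * b) = T.tr X ((a : T.H X) * T.pull f b) := by
  obtain rfl : j = 2 * (dim X.obj.left : ℤ) - i := by omega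
  exact tr_push_mul T f i a ⟨b, hb⟩

theorem push_mem {X Y : P.FullSubcategory} (f : X ⟶ Y) (i : ℤ) (a : T.gr X i) (D : ℤ)
    (hD : D = i + 2 * (dim Y.obj.left : ℤ) - 2 * (dim X.obj.left : ℤ)) :
    (T.push f i a : T.H Y) ∈ T.gr Y D := by
  subst hD
  exact (T.push f i a).2

/-- Projection formula. -/
theorem push_mul_pull {X Y : P.FullSubcategory} (f : X ⟶ Y) (i j : ℤ) (a : T.gr X i)
    (c : T.gr Y j) :
    (T.push f (i + j) ⟨(a : T.H X) * T.pull f c,
        SetLike.mul_mem_graded a.2 (T.pull_mem f j c c.2)⟩ : T.H Y) =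
      (T.push f i a : T.H Y) * c := by
  refine eq_of_forall_tr_mul T (i + j + 2 * (dim Y.obj.left : ℤ) - 2 * (dim X.obj.left : ℤ))
    (2 * (dim X.obj.left : ℤ) - (i + j)) (by ring) _ _ (push_mem T f _ _ _ rfl) ?_ fun b hb => ?_
  · have h := SetLike.mul_mem_graded (push_mem T f i a _ rfl) c.2
    convert h using 2
    ring
  · rw [tr_push_mul' T f (i + j) _ b _ (by ring) hb, mul_assoc (T.push f i a : T.H Y),
      tr_push_mul' T f i a ((c : T.H Y) * b) (j + (2 * (dim X.obj.left : ℤ) - (i + j))) (by ring)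
        (SetLike.mul_mem_graded c.2 hb), map_mul (T.pull f)]
    change T.tr X (((a : T.H X) * T.pull f c) * T.pull f b) = _
    rw [mul_assoc]

/-- Functoriality of the push-forward. -/
theorem push_comp {X Y Z : P.FullSubcategory} (f : X ⟶ Y) (g : Y ⟶ Z) (i : ℤ) (a : T.gr X i) :
    (T.push (f ≫ g) i a : T.H Z) =
      (T.push g (i + 2 * (dim Y.obj.left : ℤ) - 2 * (dim X.obj.left : ℤ)) (T.push f i a) :
        T.H Z) := by
  refine eq_of_forall_tr_mul T (i + 2 * (dim Z.obj.left : ℤ) - 2 * (dim X.obj.left : ℤ))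
    (2 * (dim X.obj.left : ℤ) - i) (by ring) _ _ (push_mem T _ _ _ _ rfl)
    (push_mem T _ _ _ _ (by ring)) fun b hb => ?_
  rw [tr_push_mul' T (f ≫ g) i a b _ (by ring) hb,
    tr_push_mul' T g _ (T.push f i a) b _ (by ring) hb,
    tr_push_mul' T f i a (T.pull g b) _ (by ring) (T.pull_mem g _ b hb), T.pull_comp]
  rfl

/-- The top cohomology is one-dimensional. -/
theorem finrank_gr_top (X : P.FullSubcategory) :
    Module.finrank K (T.gr X (2 * (dim X.obj.left : ℤ))) = 1 := by
  have e := LinearEquiv.ofBijective _ (T.tr_bijective X)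
  rw [e.finrank_eq, Module.finrank_self]

/-- The cohomology in degree zero is one-dimensional. -/
theorem finrank_gr_zero (X : P.FullSubcategory) : Module.finrank K (T.gr X 0) = 1 := by
  have := T.duality X 0 (2 * (dim X.obj.left : ℤ)) (by ring)
  rw [Module.finrank_of_isPerfPair
    (pairing K (T.gr X 0) (T.gr X (2 * (dim X.obj.left : ℤ))) (T.tr X)), finrank_gr_top]

theorem one_ne_zero (X : P.FullSubcategory) : (1 : T.H X) ≠ 0 := by
  intro h
  obtain ⟨a, ha⟩ := (T.tr_bijective X).2 1
  have ha0 : (a : T.H X) = 0 := by rw [← mul_one (a : T.H X), h, mul_zero]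
  have : T.tr X (a : T.H X) = 1 := ha
  rw [ha0, map_zero] at this
  exact zero_ne_one this

/-- `K → H^0(X)`, `c ↦ c • 1`, is bijective. -/
theorem smul_one_gr_zero_bijective (X : P.FullSubcategory) :
    Function.Bijective (fun c : K =>
      (⟨c • (1 : T.H X), (T.gr X 0).smul_mem c (SetLike.one_mem_graded (T.gr X))⟩ :
        ↥(T.gr X 0))) := by
  let v : T.gr X 0 := ⟨1, SetLike.one_mem_graded (T.gr X)⟩
  have hv : v ≠ 0 := fun h => one_ne_zero T X (congrArg Subtype.val h)
  have hspan := (finrank_eq_one_iff_of_nonzero' v hv).mp (finrank_gr_zero T X)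
  constructor
  · intro c c' h
    have h' : c • (1 : T.H X) = c' • (1 : T.H X) := congrArg Subtype.val h
    rw [← sub_eq_zero, ← sub_smul, smul_eq_zero] at h'
    rcases h' with h' | h'
    · exact sub_eq_zero.mp h'
    · exact absurd h' (one_ne_zero T X)
  · intro w
    obtain ⟨c, hc⟩ := hspan w
    exact ⟨c, hc⟩

include T in
/-- The dimension of a product is the sum of the dimensions (a consequence of the conditions on
the trace). -/
theorem dim_prod {X Y Q : P.FullSubcategory} (p : Q ⟶ X) (q : Q ⟶ Y) (hQ : IsProd p q) :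
    (dim Q.obj.left : ℤ) = dim X.obj.left + dim Y.obj.left := by
  obtain ⟨a, ha⟩ := (T.tr_bijective X).2 1
  obtain ⟨b, hb⟩ := (T.tr_bijective Y).2 1
  have ha' : T.tr X (a : T.H X) = 1 := ha
  have hb' : T.tr Y (b : T.H Y) = 1 := hb
  have h := T.tr_prod p q hQ a b a.2 b.2
  rw [ha', hb', mul_one] at h
  by_contra hne
  have hmem : T.pull p (a : T.H X) * T.pull q (b : T.H Y) ∈
      T.gr Q (2 * (dim X.obj.left : ℤ) + 2 * (dim Y.obj.left : ℤ)) :=
    SetLike.mul_mem_graded (T.pull_mem p _ _ a.2) (T.pull_mem q _ _ b.2)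
  have h0 := T.tr_vanish Q _ _ hmem (by omega)
  rw [h0] at h
  exact zero_ne_one h

/-- `p_* q^* a` for the two projections of a product. -/
theorem push_fst_pull_snd {X Y Q : P.FullSubcategory} (p : Q ⟶ X) (q : Q ⟶ Y) (hQ : IsProd p q)
    (i : ℤ) (a : T.gr Y i) :
    (i = 2 * (dim Y.obj.left : ℤ) →
      (T.push p i ⟨T.pull q a, T.pull_mem q i a a.2⟩ : T.H X) =
        algebraMap K (T.H X) (T.tr Y a)) ∧
    (i ≠ 2 * (dim Y.obj.left : ℤ) →
      (T.push p i ⟨T.pull q a, T.pull_mem q i a a.2⟩ : T.H X) = 0) := by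
  have hdim := dim_prod T p q hQ
  constructor
  · intro hi
    refine eq_of_forall_tr_mul T 0 (2 * (dim X.obj.left : ℤ)) (by ring) _ _
      (push_mem T _ _ _ _ (by omega)) ?_ fun b hb => ?_
    · rw [Algebra.algebraMap_eq_smul_one]
      exact (T.gr X 0).smul_mem _ (SetLike.one_mem_graded (T.gr X))
    · rw [tr_push_mul' T p i _ b _ (by omega) hb]
      have h := T.tr_prod q p hQ.flip (a : T.H Y) b (hi ▸ a.2) hb
      change T.tr Q (T.pull q (a : T.H Y) * T.pull p b) = _
      rw [h, Algebra.algebraMap_eq_smul_one, smul_mul_assoc, one_mul, map_smul, smul_eq_mul]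
  · intro hi
    refine eq_zero_of_forall_tr_mul T (i - 2 * (dim Y.obj.left : ℤ))
      (2 * (dim Q.obj.left : ℤ) - i) (by omega) _ (push_mem T _ _ _ _ (by omega)) fun b hb => ?_
    rw [tr_push_mul' T p i _ b _ (by omega) hb]
    change T.tr Q (T.pull q (a : T.H Y) * T.pull p b) = 0
    rcases lt_or_gt_of_ne hi with hlt | hgt
    · have hb0 : b = 0 := by
        have := T.vanish X (2 * (dim Q.obj.left : ℤ) - i) (Or.inr (by omega))
        rw [this] at hb
        exact hb
      rw [hb0, map_zero, mul_zero, map_zero]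
    · have ha0 : (a : T.H Y) = 0 := by
        have := T.vanish Y i (Or.inr hgt)
        have ha : (a : T.H Y) ∈ (⊥ : Submodule K (T.H Y)) := this ▸ a.2
        exact ha
      rw [ha0, map_zero, zero_mul, map_zero]

end Groth.Agent.Lib.WeilCohPush
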