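import Groth.Agent.Lib.H73WeilDim
import Groth.Agent.Lib.WeilCohPush
import Groth.Agent.Lib.ProjSpaceProper

/-!
helper73: the point `Spec k` as an object of `WeilCoh.Var k`, the structure morphism to it and
rational points of varieties over an algebraically closed field.
-/

set_option autoImplicit false
universe u v
open CategoryTheory CategoryTheory.Limits AlgebraicGeometry

namespace Groth.Agent.Lib.H73WeilPt

open WeilCoh Groth.Agent.Lib.H30DimField Groth.Agent.Lib.H73FibDim Groth.Agent.Lib.H73WeilDim

section proj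

variable (k : Type u) [Field k]

/-- the ring map `ℤ[x_0] → k`, `x_0 ↦ 1` -/
noncomputable def evalOne : MvPolynomial (Fin (0 + 1)) (ULift.{u} ℤ) →+* k :=
  MvPolynomial.eval₂Hom ((Int.castRingHom k).comp (ULift.ringEquiv.toRingHom)) (fun _ => 1)

theorem evalOne_X : evalOne k (MvPolynomial.X 0) = 1 := by
  unfold evalOne
  simp

theorem X_mem : (MvPolynomial.X 0 : MvPolynomial (Fin (0 + 1)) (ULift.{u} ℤ)) ∈
    CohB1.polyGrading 0 (ULift.{u} ℤ) 1 :=
  MvPolynomial.isHomogeneous_X _ _

/-- the ring map from the degree zero part of the localization at `x_0` to `k` -/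
noncomputable def awayHom :
    HomogeneousLocalization.Away (CohB1.polyGrading 0 (ULift.{u} ℤ)) (MvPolynomial.X 0) →+* k :=
  (IsLocalization.Away.lift (S := Localization.Away (MvPolynomial.X 0 :
      MvPolynomial (Fin (0 + 1)) (ULift.{u} ℤ))) (MvPolynomial.X 0) (g := evalOne k)
      (by rw [evalOne_X]; exact isUnit_one)).comp
    (algebraMap (HomogeneousLocalization.Away (CohB1.polyGrading 0 (ULift.{u} ℤ))
      (MvPolynomial.X 0)) (Localization.Away (MvPolynomial.X 0 :
      MvPolynomial (Fin (0 + 1)) (ULift.{u} ℤ))))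

/-- a `k`-point of `P^0_ℤ` -/
noncomputable def ptProj : Spec (CommRingCat.of k) ⟶ CohB1.ProjSpace 0 (ULift.{u} ℤ) :=
  Spec.map (CommRingCat.ofHom (awayHom k)) ≫
    Proj.awayι (CohB1.polyGrading 0 (ULift.{u} ℤ)) (MvPolynomial.X 0) (X_mem) one_pos

/-- a section of `P^0_k → Spec k` -/
noncomputable def ptSection :
    Spec (CommRingCat.of k) ⟶ CohB1.ProjSpaceOver 0 (Spec (CommRingCat.of k)) :=
  pullback.lift (ptProj k) (𝟙 _) (specULiftZIsTerminal.hom_ext _ _)

theorem ptSection_toBase :
    ptSection k ≫ CohB1.ProjSpaceOver.toBase 0 (Spec (CommRingCat.of k)) = 𝟙 _ := by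
  unfold ptSection CohB1.ProjSpaceOver.toBase
  exact pullback.lift_snd _ _ _

theorem isVar_pt : WeilCoh.IsVar k (Over.mk (𝟙 (Spec (CommRingCat.of k)))) := by
  refine ⟨?_, ⟨0, ptSection k, ?_, ptSection_toBase k⟩, ?_⟩
  · show Smooth (𝟙 (Spec (CommRingCat.of k)))
    infer_instance
  · exact isClosedImmersion_of_comp_eq_id _ (ptSection k) (ptSection_toBase k)
  · show IrreducibleSpace ↥(Spec (CommRingCat.of k))
    infer_instance

/-- the point as an object of `Var k` -/
noncomputable def pt : WeilCoh.Var k := ⟨Over.mk (𝟙 (Spec (CommRingCat.of k))), isVar_pt k⟩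

theorem dim_pt : WeilCoh.dim (pt k).obj.left = 0 := by
  show WeilCoh.natDim ↥(Spec (CommRingCat.of k)) = 0
  have h := topologicalKrullDim_zero_of_discreteTopology (↥(Spec (CommRingCat.of k)))
  unfold WeilCoh.natDim
  generalize topologicalKrullDim ↥(Spec (CommRingCat.of k)) = d at h
  induction d using WithBot.recBotCoe with
  | bot => rfl
  | coe a =>
    have : a ≤ 0 := by exact_mod_cast h
    have : a = 0 := le_antisymm this zero_le
    subst this
    rfl

/-- the structure morphism to the point -/
noncomputable def toPt (X : WeilCoh.Var k) : X ⟶ pt k :=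
  ObjectProperty.homMk (Over.homMk X.obj.hom (by simp [pt]))

theorem sm_toPt (X : WeilCoh.Var k) : sm (toPt k X) = X.obj.hom := rfl

end proj

section closedPts

variable (k : Type u) [Field k] [IsAlgClosed k]

theorem lft_of_isVar (X : WeilCoh.Var k) : LocallyOfFiniteType X.obj.hom := by
  haveI : Smooth X.obj.hom := X.property.1
  infer_instance

theorem compactSpace_of_isVar (X : WeilCoh.Var k) : CompactSpace ↥X.obj.left := by
  obtain ⟨n, i, hi, hcomp⟩ := X.property.2.1
  haveI := Groth.Agent.Lib.ProjSpaceProper.isProper_toBase n (Spec (CommRingCat.of k))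
  haveI : IsProper X.obj.hom := by
    rw [← hcomp]
    infer_instance
  exact QuasiCompact.compactSpace_of_compactSpace X.obj.hom

theorem isAlgClosed_residueField_base (s : Spec (CommRingCat.of k)) :
    IsAlgClosed ((Spec (CommRingCat.of k)).residueField s) :=
  IsAlgClosed.of_ringEquiv k _ (baseEquiv k s)

/-- a finite ring map out of an algebraically closed field into a field is bijective -/
theorem bijective_of_finite_of_isAlgClosed {F L : Type*} [Field F] [IsAlgClosed F] [Field L]
    (φ : F →+* L) (hφ : φ.Finite) : Function.Bijective φ := by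
  letI := φ.toAlgebra
  haveI : Module.Finite F L := hφ
  haveI : Algebra.IsIntegral F L := Algebra.IsIntegral.of_finite F L
  exact IsAlgClosed.algebraMap_bijective_of_isIntegral (k := F) (K := L)

theorem finite_residueFieldMap_of_isClosed {X S : Scheme.{u}} (f : X ⟶ S) [LocallyOfFiniteType f]
    (x : X) (hx : IsClosed ({x} : Set X)) : (f.residueFieldMap x).hom.Finite := by
  apply finite_residueFieldMap_of_isClosed_fibre f (f x) ⟨x, rfl⟩
  have : ({⟨x, rfl⟩} : Set (f ⁻¹' {f x})) = Subtype.val ⁻¹' ({x} : Set X) := by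
    ext y
    simp only [Set.mem_singleton_iff, Set.mem_preimage]
    exact Subtype.ext_iff
  rw [this]
  exact hx.preimage continuous_subtype_val

theorem residueDegree_eq_one (X : WeilCoh.Var k) (x : X.obj.left)
    (hx : IsClosed ({x} : Set X.obj.left)) : (X.obj.hom).residueDegree x = 1 := by
  haveI := lft_of_isVar k X
  have hfin := finite_residueFieldMap_of_isClosed X.obj.hom x hx
  haveI := isAlgClosed_residueField_base k (X.obj.hom x)
  have hbij := bijective_of_finite_of_isAlgClosed _ hfin
  unfold Scheme.Hom.residueDegree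
  letI := (X.obj.hom.residueFieldMap x).hom.toAlgebra
  have e : (Spec (CommRingCat.of k)).residueField (X.obj.hom x) ≃ₗ[(Spec (CommRingCat.of k)).residueField (X.obj.hom x)]
      X.obj.left.residueField x :=
    LinearEquiv.ofBijective (Algebra.linearMap _ _) hbij
  rw [← e.finrank_eq, Module.finrank_self]

/-- the `k`-rational point of `X` at a closed point, as a morphism in `Var k` -/
theorem exists_ratPt (X : WeilCoh.Var k) (x : X.obj.left) (hx : IsClosed ({x} : Set X.obj.left)) :
    ∃ i : pt k ⟶ X, ∀ w : (pt k).obj.left, sm i w = x := by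
  haveI := lft_of_isVar k X
  haveI : IsClosedImmersion (X.obj.left.fromSpecResidueField x) :=
    isClosed_singleton_iff_isClosedImmersion.mp hx
  obtain ⟨g, hg⟩ : ∃ g : Spec (X.obj.left.residueField x) ⟶ Spec (CommRingCat.of k),
    g = X.obj.left.fromSpecResidueField x ≫ X.obj.hom := ⟨_, rfl⟩
  haveI : LocallyOfFiniteType g := by rw [hg]; infer_instance
  obtain ⟨ρ, hρ⟩ : ∃ ρ : CommRingCat.of k ⟶ X.obj.left.residueField x, Spec.map ρ = g :=
    ⟨Spec.preimage g, Spec.map_preimage g⟩
  have h1 : IsFinite (Spec.map ρ) := by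
    rw [hρ]
    exact isFinite_iff_locallyOfFiniteType_of_jacobsonSpace.mpr inferInstance
  have h2 : ρ.hom.Finite := (IsFinite.SpecMap_iff _).mp h1
  have h3 : Function.Bijective ρ.hom := bijective_of_finite_of_isAlgClosed (F := k) ρ.hom h2
  haveI : IsIso ρ := (ConcreteCategory.isIso_iff_bijective ρ).mpr h3
  haveI hgiso : IsIso g := by rw [← hρ]; infer_instance
  obtain ⟨j, hj⟩ : ∃ j : Spec (CommRingCat.of k) ⟶ X.obj.left,
      j = inv g ≫ X.obj.left.fromSpecResidueField x := ⟨_, rfl⟩
  have hj1 : j ≫ X.obj.hom = 𝟙 _ := by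
    rw [hj, Category.assoc, ← hg, IsIso.inv_hom_id]
  refine ⟨ObjectProperty.homMk (Over.homMk j hj1), ?_⟩
  intro w
  show j w = x
  rw [hj, Scheme.Hom.comp_apply, Scheme.fromSpecResidueField_apply]

end closedPts

end Groth.Agent.Lib.H73WeilPt
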