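import Groth.Agent.Lib.H14GeomFib
import Groth.Agent.Lib.SmoothLocusBC
import Groth.Agent.Lib.H73WeilPt
import Mathlib.AlgebraicGeometry.Morphisms.QuasiFinite

/-!
# Finiteness of the non-smooth locus and extension of the base field (helper14)

* `isClosed_singleton_of_finite_closed` : in a Jacobson space the points of a finite closed set are
  closed.
* `nonsmooth_preimage` : the non-smooth locus commutes with base field extension (via helper37's
  `SmoothLocusBC`).
* `finite_preimage_singleton` : `X_Ω ⟶ X` has finite fibres over closed points (`X` lft over `k`).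
* `forall_finite_nonsmooth_iff` (= S17311, scheme form).
-/

set_option autoImplicit false
set_option linter.style.haveILetI false
universe u

open CategoryTheory CategoryTheory.Limits AlgebraicGeometry

namespace Groth.Agent.Lib.H14GeomFib2

theorem lfp_of_noeth {X Y : Scheme.{u}} (f : X ⟶ Y) [LocallyOfFiniteType f]
    [IsLocallyNoetherian Y] : LocallyOfFinitePresentation f := by
  rw [HasRingHomProperty.iff_appLE (P := @LocallyOfFinitePresentation)]
  intro U V e
  have : IsNoetherianRing Γ(Y, U) := IsLocallyNoetherian.component_noetherian U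
  exact RingHom.FinitePresentation.of_finiteType.mp (f.finiteType_appLE U.2 V.2 e)

/-- In a Jacobson space, all points of a finite closed set are closed. -/
theorem isClosed_singleton_of_finite_closed {T : Type*} [TopologicalSpace T] [JacobsonSpace T]
    {Z : Set T} (hZ : IsClosed Z) (hfin : Z.Finite) {x : T} (hx : x ∈ Z) : IsClosed ({x} : Set T) := by
  have h1 := JacobsonSpace.closure_inter_closedPoints_eq_closure hZ.isLocallyClosed
  rw [hZ.closure_eq] at h1
  have hfin' : (Z ∩ closedPoints T).Finite := hfin.subset Set.inter_subset_left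
  have hcl : IsClosed (Z ∩ closedPoints T) := by
    rw [← Set.biUnion_of_singleton (Z ∩ closedPoints T)]
    exact hfin'.isClosed_biUnion (fun y hy => hy.2)
  rw [hcl.closure_eq] at h1
  have : x ∈ Z ∩ closedPoints T := by rw [h1]; exact hx
  exact this.2

section OverField

variable {k : Type u} [Field k] {X : Scheme.{u}} (p : X ⟶ Spec (CommRingCat.of k))
  {Ω : Type u} [Field Ω] (t : Spec (CommRingCat.of Ω) ⟶ Spec (CommRingCat.of k))
  {X' : Scheme.{u}} (q : X' ⟶ Spec (CommRingCat.of Ω)) (i : X' ⟶ X)

/-- The non-smooth locus commutes with extension of the base field. -/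
theorem nonsmooth_preimage [LocallyOfFinitePresentation p] (hP : IsPullback i q p t) :
    {x' : X' | ¬ ∃ U : X'.Opens, x' ∈ U ∧ Smooth (U.ι ≫ q)} =
      i ⁻¹' {x : X | ¬ ∃ U : X.Opens, x ∈ U ∧ Smooth (U.ι ≫ p)} := by
  have : LocallyOfFinitePresentation q := MorphismProperty.of_isPullback hP ‹_›
  ext x'
  simp only [Set.mem_ofPred_eq, Set.mem_preimage]
  rw [SmoothLocusBC.exists_nhds_smooth_iff, SmoothLocusBC.exists_nhds_smooth_iff]
  refine not_congr ⟨fun h => ?_, fun h => ?_⟩
  · exact SmoothLocusBC.formallySmooth_stalkMap_of_isPullback_of_flat hP x' h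
  · exact SmoothLocusBC.formallySmooth_stalkMap_snd_of_isPullback hP x' h

theorem surjective_of_isPullback (hP : IsPullback i q p t) : Function.Surjective i := by
  have : Surjective i := MorphismProperty.of_isPullback hP.flip inferInstance
  exact i.surjective

/-- The fibre of `X_Ω ⟶ X` over a closed point is finite. -/
theorem finite_preimage_singleton [LocallyOfFiniteType p] (hP : IsPullback i q p t) (x : X)
    (hx : IsClosed ({x} : Set X)) : (i ⁻¹' {x}).Finite := by
  let ρ := X.fromSpecResidueField x
  have hfin1 : IsFinite (Spec.map (p.residueFieldMap x)) := by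
    rw [IsFinite.SpecMap_iff]
    exact H73WeilPt.finite_residueFieldMap_of_isClosed p x hx
  have hfin2 : IsFinite ((Spec (CommRingCat.of k)).fromSpecResidueField (p x)) := by
    rw [← Scheme.Spec.map_residueFieldIso_inv_eq_fromSpecResidueField]
    have : IsFinite (Spec.map (CommRingCat.ofHom
        (algebraMap k ((p x : PrimeSpectrum k).asIdeal.ResidueField)))) := by
      rw [IsFinite.SpecMap_iff]
      have : (p x : PrimeSpectrum k).asIdeal.IsMaximal := by
        have h0 : (p x : PrimeSpectrum k).asIdeal = ⊥ :=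
          (Ideal.eq_bot_or_top _).resolve_right (p x : PrimeSpectrum k).2.ne_top
        rw [h0]
        exact Ideal.bot_isMaximal
      exact RingHom.Finite.of_surjective _ (Ideal.algebraMap_residueField_surjective _)
    infer_instance
  have hfin : IsFinite (ρ ≫ p) := by
    rw [← Scheme.Hom.SpecMap_residueFieldMap_fromSpecResidueField]
    infer_instance
  have sqF := (IsPullback.of_hasPullback i ρ).flip
  have sq2 : IsPullback (pullback.snd i ρ) (pullback.fst i ρ ≫ q) (ρ ≫ p) t := sqF.paste_vert hP
  have hφ : IsFinite (pullback.fst i ρ ≫ q) := MorphismProperty.of_isPullback sq2 hfin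
  have huniv : (Set.univ : Set ↥(pullback i ρ)).Finite := by
    have hΩ : Finite ↥(Spec (CommRingCat.of Ω)) := inferInstanceAs (Finite (PrimeSpectrum Ω))
    have h1 := (pullback.fst i ρ ≫ q).finite_preimage (Set.finite_univ)
    rwa [Set.preimage_univ] at h1
  have : i ⁻¹' {x} = Set.range (pullback.fst i ρ) := (i.range_fiberι x).symm
  rw [this, ← Set.image_univ]
  exact huniv.image _

/-- The non-smooth locus is closed. -/
theorem isClosed_nonsmooth {X Y : Scheme.{u}} (f : X ⟶ Y) :
    IsClosed {x : X | ¬ ∃ U : X.Opens, x ∈ U ∧ Smooth (U.ι ≫ f)} := by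
  rw [← isOpen_compl_iff, isOpen_iff_forall_mem_open]
  intro x hx
  simp only [Set.mem_compl_iff, Set.mem_ofPred_eq, not_not] at hx
  obtain ⟨U, hxU, hU⟩ := hx
  refine ⟨U, fun y hy => ?_, U.2, hxU⟩
  simp only [Set.mem_compl_iff, Set.mem_ofPred_eq, not_not]
  exact ⟨U, hy, hU⟩

/-- = S17311 (scheme form). -/
theorem forall_finite_nonsmooth_iff [LocallyOfFiniteType p] :
    (∀ (Ω : Type u) [Field Ω] [IsAlgClosed Ω]
        (t : Spec (CommRingCat.of Ω) ⟶ Spec (CommRingCat.of k)) (X' : Scheme.{u})
        (q : X' ⟶ Spec (CommRingCat.of Ω)) (i : X' ⟶ X), IsPullback i q p t →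
        Set.Finite {x' : X' | ¬ ∃ U : X'.Opens, x' ∈ U ∧ Smooth (U.ι ≫ q)}) ↔
      Set.Finite {x : X | ¬ ∃ U : X.Opens, x ∈ U ∧ Smooth (U.ι ≫ p)} := by
  have hlfp : LocallyOfFinitePresentation p := lfp_of_noeth p
  have hJ : JacobsonSpace X := LocallyOfFiniteType.jacobsonSpace p
  constructor
  · intro h
    let ψ : Spec (CommRingCat.of (AlgebraicClosure k)) ⟶ Spec (CommRingCat.of k) :=
      Spec.map (CommRingCat.ofHom (algebraMap k (AlgebraicClosure k)))
    have sq := IsPullback.of_hasPullback p ψ
    have h1 := h _ ψ _ _ _ sq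
    rw [nonsmooth_preimage p ψ _ _ sq] at h1
    have h2 := h1.image (pullback.fst p ψ)
    rwa [Set.image_preimage_eq _ (surjective_of_isPullback p ψ _ _ sq)] at h2
  · intro hZ Ω _ _ t X' q i hP
    rw [nonsmooth_preimage p t q i hP]
    refine hZ.preimage' (fun x hx => ?_)
    exact finite_preimage_singleton p t q i hP x
      (isClosed_singleton_of_finite_closed (isClosed_nonsmooth p) hZ hx)

end OverField

end Groth.Agent.Lib.H14GeomFib2
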