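/- helper14: geometric regularity under finite separable change of base field (A is a localization of F ⊗_k A away from an idempotent), and localizations. -/
import Mathlib
import Groth.Agent.Lib.H14GeomP3
import Groth.Agent.Lib.H14GeomP2

set_option autoImplicit false
set_option linter.style.haveILetI false
universe u

namespace Groth.Agent.Lib.H14GeomP

open TensorProduct

section sep

variable (k F A : Type u) [Field k] [Field F] [Algebra k F] [Module.Finite k F]
  [Algebra.IsSeparable k F] [CommRing A] [Algebra k A] [Algebra F A] [IsScalarTower k F A]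

/-- The multiplication map `F ⊗_k A → A`. -/
noncomputable def muMap : F ⊗[k] A →ₐ[F] A :=
  Algebra.TensorProduct.lift (Algebra.ofId F A) (AlgHom.id k A) (fun _ _ => Commute.all _ _)

@[simp] theorem muMap_tmul (x : F) (a : A) : muMap k F A (x ⊗ₜ a) = algebraMap F A x * a := by
  simp [muMap]

/-- The kernel of `F ⊗_k F → F` is generated by an idempotent. -/
theorem exists_idempotent_ideal :
    ∃ ε : F ⊗[k] F, IsIdempotentElem ε ∧ KaehlerDifferential.ideal k F = Ideal.span {ε} := by
  haveI : Algebra.FormallyUnramified k F := Algebra.FormallyUnramified.of_isSeparable k F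
  have h1 : Subsingleton (KaehlerDifferential.ideal k F).Cotangent :=
    inferInstanceAs (Subsingleton (Ω[F⁄k]))
  rw [Ideal.cotangent_subsingleton_iff] at h1
  exact (Ideal.isIdempotentElem_iff_of_fg _ (KaehlerDifferential.ideal_fg k F)).mp h1

/-- The map `F ⊗_k F → F ⊗_k A`. -/
noncomputable def phiMap : F ⊗[k] F →ₐ[F] F ⊗[k] A :=
  Algebra.TensorProduct.map (AlgHom.id F F) (IsScalarTower.toAlgHom k F A)

theorem muMap_phiMap (t : F ⊗[k] F) :
    muMap k F A (phiMap k F A t) = algebraMap F A (Algebra.TensorProduct.lmul' k t) := by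
  induction t using TensorProduct.induction_on with
  | zero => simp
  | tmul x y => simp [phiMap]
  | add x y hx hy => simp only [map_add, hx, hy]

/-- `A` is a localization of `F ⊗_k A` away from an idempotent, for `F/k` finite separable. -/
theorem exists_away_muMap :
    ∃ e : F ⊗[k] A, IsIdempotentElem e ∧
      @IsLocalization.Away _ _ e A _ (muMap k F A).toRingHom.toAlgebra := by
  obtain ⟨ε, hε, hJ⟩ := exists_idempotent_ideal k F
  set ε' := phiMap k F A ε with hε'
  have hε'i : IsIdempotentElem ε' := by
    unfold IsIdempotentElem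
    rw [hε', ← map_mul, hε.eq]
  have hεJ : ε ∈ KaehlerDifferential.ideal k F := hJ ▸ Ideal.subset_span rfl
  have hμε : muMap k F A ε' = 0 := by
    rw [hε', muMap_phiMap]
    have : Algebra.TensorProduct.lmul' k ε = 0 := by
      simpa [KaehlerDifferential.ideal, RingHom.mem_ker] using hεJ
    rw [this, map_zero]
  -- the key congruence
  have key : ∀ t : F ⊗[k] A, t - 1 ⊗ₜ (muMap k F A t) ∈ Ideal.span {ε'} := by
    intro t
    induction t using TensorProduct.induction_on with
    | zero => simp
    | tmul x a =>
      have h1 : (x ⊗ₜ[k] (1 : F) - 1 ⊗ₜ[k] x) ∈ KaehlerDifferential.ideal k F := by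
        have := KaehlerDifferential.one_smul_sub_smul_one_mem_ideal k x
        have h2 : (x ⊗ₜ[k] (1 : F) - 1 ⊗ₜ[k] x) = -((1 : F) ⊗ₜ[k] x - x ⊗ₜ[k] (1 : F)) := by ring
        rw [h2]
        exact neg_mem this
      rw [hJ, Ideal.mem_span_singleton'] at h1
      obtain ⟨r, hr⟩ := h1
      have h3 : x ⊗ₜ[k] a - 1 ⊗ₜ[k] (muMap k F A (x ⊗ₜ a)) =
          phiMap k F A (x ⊗ₜ[k] (1 : F) - 1 ⊗ₜ[k] x) * (1 ⊗ₜ[k] a) := by
        simp [phiMap, sub_mul, Algebra.TensorProduct.tmul_mul_tmul]
      rw [h3, ← hr, map_mul]
      exact Ideal.mul_mem_right _ _ (Ideal.mul_mem_left _ _ (Ideal.subset_span rfl))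
    | add x y hx hy =>
      have : x + y - 1 ⊗ₜ[k] (muMap k F A (x + y)) =
          (x - 1 ⊗ₜ[k] (muMap k F A x)) + (y - 1 ⊗ₜ[k] (muMap k F A y)) := by
        rw [map_add, TensorProduct.tmul_add]; ring
      rw [this]
      exact add_mem hx hy
  have hker : ∀ t : F ⊗[k] A, muMap k F A t = 0 → (1 - ε') * t = 0 := by
    intro t ht
    have h1 := key t
    rw [ht, TensorProduct.tmul_zero, sub_zero, Ideal.mem_span_singleton'] at h1
    obtain ⟨r, hr⟩ := h1
    rw [← hr, ← mul_assoc, mul_comm (1 - ε') r, mul_assoc, sub_mul, one_mul, hε'i.eq, sub_self,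
      mul_zero]
  refine ⟨1 - ε', hε'i.one_sub, ?_⟩
  letI : Algebra (F ⊗[k] A) A := (muMap k F A).toRingHom.toAlgebra
  have halg : ∀ t : F ⊗[k] A, algebraMap (F ⊗[k] A) A t = muMap k F A t := fun _ => rfl
  refine IsLocalization.away_of_isIdempotentElem_of_mul hε'i.one_sub (fun x y => ?_) ?_
  · rw [halg, halg]
    constructor
    · intro hxy
      have h0 : muMap k F A (x - y) = 0 := by rw [map_sub, hxy, sub_self]
      have := hker (x - y) h0
      rw [mul_sub, sub_eq_zero] at this
      exact this
    · intro hxy
      have h1 : muMap k F A (1 - ε') = 1 := by rw [map_sub, map_one, hμε, sub_zero]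
      have := congrArg (muMap k F A) hxy
      rw [map_mul, map_mul, h1, one_mul, one_mul] at this
      exact this
  · intro a
    exact ⟨1 ⊗ₜ a, by rw [halg]; simp⟩

end sep

/-- Geometric regularity passes to localizations. -/
theorem g0_regular_of_isLocalization (k B A : Type u) [Field k] [CommRing B] [CommRing A]
    [Algebra k B] [Algebra k A] [Algebra B A] [IsScalarTower k B A] (M : Submonoid B)
    [IsLocalization M A] (h : G0 (fun (R : Type u) [CommRing R] => IsRegularRing R) k B) :
    G0 (fun (R : Type u) [CommRing R] => IsRegularRing R) k A := by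
  intro l _ _ hfin
  haveI h1 : IsRegularRing (l ⊗[k] B) := h l hfin
  letI : Algebra (l ⊗[k] B) (l ⊗[k] A) :=
    (Algebra.TensorProduct.map (AlgHom.id l l) (IsScalarTower.toAlgHom k B A)).toRingHom.toAlgebra
  haveI : IsScalarTower l (l ⊗[k] B) (l ⊗[k] A) :=
    IsScalarTower.of_algebraMap_eq (fun x => by
      rw [RingHom.algebraMap_toAlgebra]
      simp [Algebra.TensorProduct.algebraMap_apply])
  have hloc := IsLocalization.tensorProduct_tensorProduct_right k l M A (by
    ext b
    rw [RingHom.algebraMap_toAlgebra]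
    simp)
  exact @isRegularRing_of_isLocalization (l ⊗[k] B) _
    (M.map (Algebra.TensorProduct.includeRight (R := k) (A := l))) (l ⊗[k] A) _ _ hloc h1

/-- Geometric regularity over `k` implies geometric regularity over a finite separable
extension `F` of `k` (for `F`-algebras). -/
theorem g0_regular_of_finite_separable (k F A : Type u) [Field k] [Field F] [Algebra k F]
    [Module.Finite k F] [Algebra.IsSeparable k F] [CommRing A] [Algebra k A] [Algebra F A]
    [IsScalarTower k F A] [IsNoetherianRing A]
    (hA : G0 (fun (R : Type u) [CommRing R] => IsRegularRing R) k A) :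
    G0 (fun (R : Type u) [CommRing R] => IsRegularRing R) F A := by
  have hB : G0 (fun (R : Type u) [CommRing R] => IsRegularRing R) F (F ⊗[k] A) :=
    (g0_baseChange_iff good_regular k A F).mp hA
  obtain ⟨e, he, hloc⟩ := exists_away_muMap k F A
  letI : Algebra (F ⊗[k] A) A := (muMap k F A).toRingHom.toAlgebra
  haveI : IsScalarTower F (F ⊗[k] A) A := IsScalarTower.of_algebraMap_eq (fun x => by
    rw [RingHom.algebraMap_toAlgebra]
    simp [Algebra.TensorProduct.algebraMap_apply])
  haveI : IsLocalization (Submonoid.powers e) A := hloc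
  exact g0_regular_of_isLocalization F (F ⊗[k] A) A (Submonoid.powers e) hB

end Groth.Agent.Lib.H14GeomP
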