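import Groth.Agent.S0299
import Groth.Agent.S5170
import Groth.Agent.Lib.InjHull
import Groth.Agent.Lib.InjDecomp
import Groth.Agent.Lib.H29Matlis
import Groth.Agent.Lib.H29Gorenstein
import Mathlib

/-!
# Artinian local rings: socle, type, and the Gorenstein criterion (helper14)

For a local ring `R`: `soc R` (the ideal killed by `𝔪`), `typ R = length (soc R)`.
* `exists_mem_soc_of_ne_bot`: in an Artinian local ring every nonzero ideal meets the socle.
* `gorenstein_iff_typ_eq_one`: a Noetherian Artinian local ring is Gorenstein iff `typ R = 1`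
  (via Matlis duality: `R ↪ E(k)` and `length E(k) = length R`).
* `injective_self_of_gorenstein`, `typ_eq_one_of_gen`, `exists_gen_of_typ_eq_one`.
-/

set_option autoImplicit false
set_option linter.style.haveILetI false
set_option linter.unusedSectionVars false
universe u
open CategoryTheory IsLocalRing

namespace Groth.Agent.Lib.H14GorArt

section Soc
variable (R : Type u) [CommRing R] [IsLocalRing R]

/-- The socle of a local ring: the ideal of elements killed by the maximal ideal. -/
def soc : Ideal R where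
  carrier := {x | ∀ a ∈ maximalIdeal R, a * x = 0}
  add_mem' := by
    intro x y hx hy a ha
    rw [mul_add, hx a ha, hy a ha, add_zero]
  zero_mem' := fun a _ => mul_zero a
  smul_mem' := by
    intro c x hx a ha
    rw [smul_eq_mul, mul_left_comm, hx a ha, mul_zero]

variable {R}

lemma mem_soc {x : R} : x ∈ soc R ↔ ∀ a ∈ maximalIdeal R, a * x = 0 := Iff.rfl

variable (R)

/-- The type of a local ring: the length of its socle. -/
noncomputable def typ : ℕ∞ := Module.length R (soc R)

lemma isNilpotent_maximalIdeal [IsArtinianRing R] : IsNilpotent (maximalIdeal R) := by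
  rw [← IsLocalRing.jacobson_eq_maximalIdeal ⊥ bot_ne_top]
  exact IsArtinianRing.isNilpotent_jacobson_bot

variable {R}

/-- In an Artinian local ring every nonzero ideal meets the socle. -/
lemma exists_mem_soc_of_ne_bot [IsArtinianRing R] (J : Ideal R) (hJ : J ≠ ⊥) :
    ∃ x ∈ J, x ≠ 0 ∧ x ∈ soc R := by
  obtain ⟨x, hxJ, hx0⟩ := Submodule.exists_mem_ne_zero_of_ne_bot hJ
  obtain ⟨N, hN⟩ := isNilpotent_maximalIdeal R
  have hex : ∃ i, (maximalIdeal R) ^ i * Ideal.span {x} = ⊥ :=
    ⟨N, by rw [hN, Ideal.zero_eq_bot, Ideal.bot_mul]⟩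
  classical
  obtain ⟨i₀, hi₀, hmin⟩ : ∃ i₀, (maximalIdeal R) ^ i₀ * Ideal.span {x} = ⊥ ∧
      ∀ j < i₀, ¬ (maximalIdeal R) ^ j * Ideal.span {x} = ⊥ :=
    ⟨Nat.find hex, Nat.find_spec hex, fun j hj => Nat.find_min hex hj⟩
  have hpos : i₀ ≠ 0 := by
    intro h0
    rw [h0, pow_zero, Ideal.one_eq_top, Ideal.top_mul, Ideal.span_singleton_eq_bot] at hi₀
    exact hx0 hi₀
  obtain ⟨j, hj⟩ := Nat.exists_eq_succ_of_ne_zero hpos
  have hne : (maximalIdeal R) ^ j * Ideal.span {x} ≠ ⊥ := hmin j (by omega)
  obtain ⟨y, hy, hy0⟩ := Submodule.exists_mem_ne_zero_of_ne_bot hne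
  refine ⟨y, ?_, hy0, fun a ha => ?_⟩
  · have h1 : y ∈ Ideal.span {x} :=
      (Ideal.mul_le_right (I := maximalIdeal R ^ j) (J := Ideal.span {x})) hy
    have h2 : Ideal.span {x} ≤ J := by
      rw [Ideal.span_le]
      intro z hz
      rw [Set.mem_singleton_iff] at hz
      rw [hz]; exact hxJ
    exact h2 h1
  · have : a * y ∈ (maximalIdeal R) ^ i₀ * Ideal.span {x} := by
      rw [hj, pow_succ', mul_assoc]
      exact Ideal.mul_mem_mul ha hy
    rw [hi₀] at this
    exact this

end Soc

section Art

variable {R : Type u} [CommRing R] [IsLocalRing R] [IsNoetherianRing R] [IsArtinianRing R]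

lemma isFiniteLength_self : IsFiniteLength R R :=
  isFiniteLength_iff_isNoetherian_isArtinian.mpr ⟨inferInstance, inferInstance⟩

omit [IsNoetherianRing R] [IsArtinianRing R] in
/-- The annihilator of a nonzero socle element is the maximal ideal. -/
lemma ker_toSpanSingleton_of_mem_soc {s : R} (hs : s ∈ soc R) (hs0 : s ≠ 0) :
    maximalIdeal R = LinearMap.ker (LinearMap.toSpanSingleton R R s) := by
  have hle : maximalIdeal R ≤ LinearMap.ker (LinearMap.toSpanSingleton R R s) := by
    intro a ha
    rw [LinearMap.mem_ker, LinearMap.toSpanSingleton_apply, smul_eq_mul]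
    exact hs a ha
  have hne : LinearMap.ker (LinearMap.toSpanSingleton R R s) ≠ ⊤ := by
    intro htop
    have h1 : (1 : R) ∈ LinearMap.ker (LinearMap.toSpanSingleton R R s) := by rw [htop]; trivial
    rw [LinearMap.mem_ker, LinearMap.toSpanSingleton_apply, one_smul] at h1
    exact hs0 h1
  exact ((maximalIdeal.isMaximal R).eq_of_le hne hle)

omit [IsNoetherianRing R] [IsArtinianRing R] in
/-- The socle is simple as soon as it is generated by one nonzero element. -/
lemma typ_eq_one_of_gen {s : R} (hs : s ∈ soc R) (hs0 : s ≠ 0)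
    (hgen : ∀ y ∈ soc R, ∃ c, y = c * s) : typ R = 1 := by
  have hker := ker_toSpanSingleton_of_mem_soc hs hs0
  let ι : (R ⧸ maximalIdeal R) →ₗ[R] R :=
    (maximalIdeal R).liftQ (LinearMap.toSpanSingleton R R s) hker.le
  have hι : ∀ a : R, ι (Submodule.Quotient.mk a) = a * s := fun a => by
    change (maximalIdeal R).liftQ (LinearMap.toSpanSingleton R R s) hker.le
      (Submodule.Quotient.mk a) = a * s
    rw [Submodule.liftQ_apply, LinearMap.toSpanSingleton_apply, smul_eq_mul]
  have hιinj : Function.Injective ι := by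
    rw [← LinearMap.ker_eq_bot]
    exact Submodule.ker_liftQ_eq_bot' _ _ hker
  have hιmem : ∀ x, ι x ∈ soc R := by
    intro x
    obtain ⟨a, rfl⟩ := Submodule.Quotient.mk_surjective _ x
    rw [hι]
    exact (soc R).mul_mem_left a hs
  let ι' : (R ⧸ maximalIdeal R) →ₗ[R] soc R := ι.codRestrict (soc R) hιmem
  have hbij : Function.Bijective ι' := by
    constructor
    · intro x y hxy
      exact hιinj (congrArg Subtype.val hxy)
    · rintro ⟨y, hy⟩
      obtain ⟨c, rfl⟩ := hgen y hy
      exact ⟨Submodule.Quotient.mk c, Subtype.ext (hι c)⟩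
  have : IsSimpleModule R (R ⧸ maximalIdeal R) :=
    isSimpleModule_iff_isCoatom.mpr (Ideal.isMaximal_def.mp inferInstance)
  unfold typ
  rw [← (LinearEquiv.ofBijective ι' hbij).length_eq]
  exact Module.length_eq_one R (R ⧸ maximalIdeal R)

omit [IsNoetherianRing R] [IsArtinianRing R] in
lemma exists_gen_of_typ_eq_one (h : typ R = 1) :
    ∃ s ∈ soc R, s ≠ 0 ∧ ∀ y ∈ soc R, ∃ c, y = c * s := by
  have hs : IsSimpleModule R (soc R) := Module.length_eq_one_iff.mp h
  have hnt : Nontrivial (soc R) := IsSimpleModule.nontrivial R (soc R)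
  obtain ⟨⟨s, hs1⟩, hs0⟩ := exists_ne (0 : soc R)
  refine ⟨s, hs1, fun h0 => hs0 (Subtype.ext h0), fun y hy => ?_⟩
  obtain ⟨c, hc⟩ := IsSimpleModule.toSpanSingleton_surjective R hs0 ⟨y, hy⟩
  refine ⟨c, ?_⟩
  have := congrArg Subtype.val hc
  simpa [LinearMap.toSpanSingleton_apply] using this.symm

/-- An Artinian local ring with simple socle is Gorenstein. -/
theorem gorenstein_of_typ_eq_one (h : typ R = 1) : LocCoh.IsGorensteinLocalRing R := by
  obtain ⟨s, hs, hs0, hgen⟩ := exists_gen_of_typ_eq_one h
  obtain ⟨E, _, _, f, hf⟩ := Groth.Agent.S0299.result R (ResidueField R)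
  obtain ⟨φ, hφ⟩ := Groth.Agent.Lib.H29Matlis.exists_dual_ne_zero f hf s hs0
  have hinj : Function.Injective φ := by
    rw [← LinearMap.ker_eq_bot]
    by_contra hne
    obtain ⟨y, hyker, hy0, hysoc⟩ := exists_mem_soc_of_ne_bot (LinearMap.ker φ) hne
    obtain ⟨c, rfl⟩ := hgen y hysoc
    have hc : IsUnit c := by
      by_contra hcu
      exact hy0 (hs c ((mem_maximalIdeal c).mpr hcu))
    apply hφ
    have h1 : φ (c * s) = 0 := hyker
    rw [← smul_eq_mul, map_smul] at h1
    exact (hc.smul_eq_zero).mp h1
  have hfl : IsFiniteLength R R := isFiniteLength_self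
  have hl1 : Module.length R (R →ₗ[R] E) = Module.length R R :=
    Groth.Agent.S5170.result R E f hf R hfl
  have hl2 : Module.length R E = Module.length R R := by
    rw [← hl1]; exact (LinearMap.ringLmapEquivSelf R R E).symm.length_eq
  have hflE : IsFiniteLength R E := by
    rw [← Module.length_ne_top_iff, hl2, Module.length_ne_top_iff]; exact hfl
  obtain ⟨hN, hAr⟩ := isFiniteLength_iff_isNoetherian_isArtinian.mp hflE
  have hsurj : Function.Surjective φ := by
    rw [← LinearMap.range_eq_top]
    by_contra hne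
    have hlt := Submodule.length_lt (R := R) hne
    have heq : Module.length R (LinearMap.range φ) = Module.length R R :=
      (LinearEquiv.ofInjective φ hinj).length_eq.symm
    rw [heq, hl2] at hlt
    exact lt_irrefl _ hlt
  have e : R ≃ₗ[R] E := LinearEquiv.ofBijective φ ⟨hinj, hsurj⟩
  have h1 : Module.Injective R R :=
    Groth.Agent.Lib.InjDecomp.injective_of_linearEquiv e.symm hf.isInjective
  have h2 : Injective (ModuleCat.of R R) := Module.injective_object_of_injective_module R R
  exact { exists_hasInjectiveDimensionLT := ⟨1, inferInstance⟩ }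

/-- An Artinian Gorenstein local ring is injective as a module over itself. -/
theorem injective_self_of_gorenstein (hG : LocCoh.IsGorensteinLocalRing R) :
    Module.Injective R R := by
  obtain ⟨d, hd, -, hinj⟩ := Groth.Agent.Lib.H29Gorenstein.gorenstein_invariants R
  have h0 : ringKrullDim R = 0 := by
    have : Ring.KrullDimLE 0 R := inferInstance
    exact (ringKrullDimZero_iff_ringKrullDim_eq_zero).mp this
  have hd0 : d = 0 := by
    rw [h0] at hd
    exact_mod_cast hd.symm
  subst hd0
  have : Injective (ModuleCat.of R R) := inferInstance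
  exact Module.injective_module_of_injective_object R R

/-- An Artinian Gorenstein local ring has simple socle. -/
theorem typ_eq_one_of_gorenstein (hG : LocCoh.IsGorensteinLocalRing R) : typ R = 1 := by
  have hinj := injective_self_of_gorenstein hG
  obtain ⟨s, -, hs0, hs⟩ := exists_mem_soc_of_ne_bot (⊤ : Ideal R) top_ne_bot
  refine typ_eq_one_of_gen hs hs0 (fun y hy => ?_)
  have hker := ker_toSpanSingleton_of_mem_soc hs hs0
  have hley : maximalIdeal R ≤ LinearMap.ker (LinearMap.toSpanSingleton R R y) := by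
    intro a ha
    rw [LinearMap.mem_ker, LinearMap.toSpanSingleton_apply, smul_eq_mul]
    exact hy a ha
  let ι : (R ⧸ maximalIdeal R) →ₗ[R] R :=
    (maximalIdeal R).liftQ (LinearMap.toSpanSingleton R R s) hker.le
  let ιy : (R ⧸ maximalIdeal R) →ₗ[R] R :=
    (maximalIdeal R).liftQ (LinearMap.toSpanSingleton R R y) hley
  have hιinj : Function.Injective ι := by
    rw [← LinearMap.ker_eq_bot]
    exact Submodule.ker_liftQ_eq_bot' _ _ hker
  obtain ⟨h, hh⟩ := hinj.out ι hιinj ιy
  refine ⟨h 1, ?_⟩
  have h1 := hh (Submodule.Quotient.mk 1)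
  have e1 : ι (Submodule.Quotient.mk 1) = s := by
    change (maximalIdeal R).liftQ (LinearMap.toSpanSingleton R R s) hker.le
      (Submodule.Quotient.mk 1) = s
    rw [Submodule.liftQ_apply, LinearMap.toSpanSingleton_apply, one_smul]
  have e2 : ιy (Submodule.Quotient.mk 1) = y := by
    change (maximalIdeal R).liftQ (LinearMap.toSpanSingleton R R y) hley
      (Submodule.Quotient.mk 1) = y
    rw [Submodule.liftQ_apply, LinearMap.toSpanSingleton_apply, one_smul]
  rw [e1, e2] at h1
  rw [← h1]
  conv_lhs => rw [← mul_one s, ← smul_eq_mul, map_smul, smul_eq_mul, mul_comm]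

/-- **An Artinian local ring is Gorenstein iff its socle is simple.** -/
theorem gorenstein_iff_typ_eq_one : LocCoh.IsGorensteinLocalRing R ↔ typ R = 1 :=
  ⟨typ_eq_one_of_gorenstein, gorenstein_of_typ_eq_one⟩

end Art

end Groth.Agent.Lib.H14GorArt
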