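import Groth.Agent.Lib.H14GorComp
import Groth.Agent.Lib.CMBaseChange33b
import Groth.Agent.S0344

/-!
# Gorenstein fibres and base change (helper14; mirrors helper33's `CMBaseChange33`)

For a cartesian square `X' = X ×_Y Y'` and a point `x'` of `X'`: the Gorenstein property of the
local ring of the fibre at a point ascends (residue field extension finitely generated, or `f`
locally of finite type) and descends (fibres locally Noetherian).

* `isGorensteinRing_tensor_of_essFiniteType'`, `isGorensteinRing_tensor_of_essFiniteType_left`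
* `gor_of_tensor`, `gor_stalk_fiber_iff`
* `gor_fibre_ascent`, `gor_fibre_ascent_of_locallyOfFiniteType`, `gor_fibre_descent`
-/

set_option autoImplicit false
set_option linter.style.haveILetI false
set_option linter.unusedSectionVars false
universe u

open CategoryTheory CategoryTheory.Limits AlgebraicGeometry TensorProduct

namespace Groth.Agent.Lib.H14GorBC

open Groth.Agent.Lib Groth.Agent.Lib.H71GeomRedAt Groth.Agent.Lib.H30GeomNormalPt
open Groth.Agent.Lib.H14GorHom Groth.Agent.Lib.H14GorField Groth.Agent.Lib.CMBaseChange33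

section Alg

/-- A Gorenstein `k`-algebra stays Gorenstein after an essentially finite type field
extension. -/
theorem isGorensteinRing_tensor_of_essFiniteType' (k k' R : Type u) [Field k] [Field k']
    [Algebra k k'] [Algebra.EssFiniteType k k'] [CommRing R] [Algebra k R]
    (hR : LocCoh.IsGorensteinRing R) : LocCoh.IsGorensteinRing (R ⊗[k] k') := by
  have hfg : (⊤ : IntermediateField k k').FG := IntermediateField.fg_top_iff.mpr inferInstance
  exact isGorensteinRing_of_ringEquiv (Algebra.TensorProduct.comm k k' R).toRingEquiv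
    (preservesGor_of_top_fg k k' hfg R hR)

/-- A Gorenstein `k`-algebra essentially of finite type stays Gorenstein after an arbitrary field
extension. -/
theorem isGorensteinRing_tensor_of_essFiniteType_left (k R L : Type u) [Field k] [CommRing R]
    [Algebra k R] [Algebra.EssFiniteType k R] (hR : LocCoh.IsGorensteinRing R) [Field L]
    [Algebra k L] : LocCoh.IsGorensteinRing (R ⊗[k] L) := by
  have hN : IsNoetherianRing R := inferInstance
  have hN1 : IsNoetherianRing (L ⊗[k] R) := Algebra.EssFiniteType.isNoetherianRing L _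
  have hN2 : IsNoetherianRing (R ⊗[k] L) :=
    isNoetherianRing_of_ringEquiv _ (Algebra.TensorProduct.comm k L R).toRingEquiv
  apply isGorensteinRing_of_flat_of_fibre (R := R) hR
  intro P _
  have : Algebra.EssFiniteType k P.ResidueField := Algebra.EssFiniteType.comp k R P.ResidueField
  have hfg : (⊤ : IntermediateField k P.ResidueField).FG :=
    IntermediateField.fg_top_iff.mpr this
  have h1 : LocCoh.IsGorensteinRing (P.ResidueField ⊗[k] L) :=
    preservesGor_of_top_fg k P.ResidueField hfg L (isGorensteinRing_of_field L)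
  exact isGorensteinRing_of_ringEquiv
    (R := P.ResidueField ⊗[k] L) (R' := P.Fiber (R ⊗[k] L))
    (Algebra.TensorProduct.cancelBaseChange k R P.ResidueField P.ResidueField L).symm.toRingEquiv
    h1

end Alg

section Tensor

attribute [local instance] Curv2.stalkAlgebra

/-- If `𝒪_{X,x} ⊗[k] k'` is a Gorenstein ring then the local rings of `X_{k'}` over `x` are
Gorenstein. -/
theorem gor_of_tensor (k : Type u) [Field k] (X : Scheme.{u}) [X.Over (Spec (CommRingCat.of k))]
    (x : ↥X) (k' : Type u) [Field k'] [Algebra k k']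
    (h3 : LocCoh.IsGorensteinRing (↥(X.presheaf.stalk x) ⊗[k] k'))
    (x' : ↥(Curv2.bc k X k')) (hx' : Curv2.bcFst k X k' x' = x) :
    LocCoh.IsGorensteinLocalRing ↥((Curv2.bc k X k').presheaf.stalk x') := by
  obtain ⟨w, hw1, hw2⟩ := Scheme.Pullback.exists_preimage_pullback
    (f := X.fromSpecStalk x) (g := Curv2.bcFst k X k')
    (IsLocalRing.closedPoint (X.presheaf.stalk x)) x'
    (by rw [Scheme.fromSpecStalk_closedPoint, hx'])
  subst hw2
  let p : PrimeSpectrum (X.presheaf.stalk x ⊗[k] k') := (isoSpecTensor k X x k').hom w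
  have := p.isPrime
  obtain ⟨eq⟩ := nonempty_stalk_equiv k X x k' w p.asIdeal rfl
  have := h3.isGorensteinLocalRing_localization p.asIdeal
  exact isGorensteinLocalRing_of_ringEquiv eq.symm this

end Tensor

section Transport

variable {X Y : Scheme.{u}} (f : X ⟶ Y)

/-- The local ring of a fibre at a point only depends on the image point in the source. -/
theorem gor_stalk_fiber_iff (x : X) (y : Y) (z : f.fiber y) (hz : f.fiberι y z = x) :
    LocCoh.IsGorensteinLocalRing ((f.fiber y).presheaf.stalk z) ↔
      LocCoh.IsGorensteinLocalRing ((f.fiber (f x)).presheaf.stalk (f.asFiber x)) := by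
  have hy : f x = y := by
    have : f.fiberι y z ∈ f ⁻¹' {y} := by
      rw [← Scheme.Hom.range_fiberι]; exact ⟨z, rfl⟩
    rw [hz] at this
    exact this
  subst hy
  have hzz : z = f.asFiber x :=
    (f.fiberι (f x)).isEmbedding.injective (hz.trans (f.fiberι_asFiber x).symm)
  subst hzz
  rfl

end Transport

section Square

variable {X Y X' Y' : Scheme.{u}} {f : X ⟶ Y} {f' : X' ⟶ Y'} {g' : X' ⟶ X} {g : Y' ⟶ Y}
  (hc : IsPullback g' f' f g)

include hc in
/-- **Ascent**: if the fibre of `f` is Gorenstein at `g' x'` and the residue field extension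
at `f' x'` is finitely generated, the fibre of `f'` is Gorenstein at `x'`. -/
theorem gor_fibre_ascent (x' : X')
    (hess : (g.residueFieldMap (f' x')).hom.EssFiniteType)
    (h : LocCoh.IsGorensteinLocalRing
      ((f.fiber (f (g' x'))).presheaf.stalk (f.asFiber (g' x')))) :
    LocCoh.IsGorensteinLocalRing ((f'.fiber (f' x')).presheaf.stalk (f'.asFiber x')) := by
  have h1 : LocCoh.IsGorensteinLocalRing
      ((f.fiber (g (f' x'))).presheaf.stalk (fibMap hc (f' x') (f'.asFiber x'))) :=
    (gor_stalk_fiber_iff f (g' x') (g (f' x')) _ (fibMap_asFiber hc x')).mpr h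
  let _ : Algebra (Y.residueField (g (f' x'))) (Y'.residueField (f' x')) :=
    (g.residueFieldMap (f' x')).hom.toAlgebra
  let _ : (f.fiber (g (f' x'))).Over (Spec (CommRingCat.of (Y.residueField (g (f' x'))))) :=
    ⟨f.fiberToSpecResidueField (g (f' x'))⟩
  have hE : Algebra.EssFiniteType (Y.residueField (g (f' x'))) (Y'.residueField (f' x')) := hess
  let E : f'.fiber (f' x') ≅ Curv2.bc (Y.residueField (g (f' x'))) (f.fiber (g (f' x')))
      (Y'.residueField (f' x')) := (isPullback_fibMap hc (f' x')).isoPullback
  have hEfst : E.hom ≫ Curv2.bcFst (Y.residueField (g (f' x'))) (f.fiber (g (f' x')))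
      (Y'.residueField (f' x')) = fibMap hc (f' x') :=
    (isPullback_fibMap hc (f' x')).isoPullback_hom_fst
  have hR : LocCoh.IsGorensteinRing
      ((f.fiber (g (f' x'))).presheaf.stalk (fibMap hc (f' x') (f'.asFiber x'))) :=
    isGorensteinRing_of_isGorensteinLocalRing _ h1
  let _ := Curv2.stalkAlgebra (Y.residueField (g (f' x'))) (f.fiber (g (f' x')))
    (fibMap hc (f' x') (f'.asFiber x'))
  have h3 := isGorensteinRing_tensor_of_essFiniteType'
    (Y.residueField (g (f' x'))) (Y'.residueField (f' x'))
    ((f.fiber (g (f' x'))).presheaf.stalk (fibMap hc (f' x') (f'.asFiber x'))) hR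
  have h4 := gor_of_tensor (Y.residueField (g (f' x'))) (f.fiber (g (f' x')))
    (fibMap hc (f' x') (f'.asFiber x')) (Y'.residueField (f' x')) h3 (E.hom (f'.asFiber x'))
    (congrArg (fun φ : f'.fiber (f' x') ⟶ f.fiber (g (f' x')) => φ (f'.asFiber x')) hEfst)
  exact H30StalkProd.Q_stalk_of_iso (fun R _ => LocCoh.IsGorensteinLocalRing R)
    (fun R R' _ _ e hR => isGorensteinLocalRing_of_ringEquiv e hR) E _ h4

include hc in
/-- **Ascent for morphisms locally of finite type**: if `f` is locally of finite type and its fibre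
is Gorenstein at `g' x'`, then the fibre of `f'` is Gorenstein at `x'` (arbitrary base
change). -/
theorem gor_fibre_ascent_of_locallyOfFiniteType [LocallyOfFiniteType f] (x' : X')
    (h : LocCoh.IsGorensteinLocalRing
      ((f.fiber (f (g' x'))).presheaf.stalk (f.asFiber (g' x')))) :
    LocCoh.IsGorensteinLocalRing ((f'.fiber (f' x')).presheaf.stalk (f'.asFiber x')) := by
  have h1 : LocCoh.IsGorensteinLocalRing
      ((f.fiber (g (f' x'))).presheaf.stalk (fibMap hc (f' x') (f'.asFiber x'))) :=
    (gor_stalk_fiber_iff f (g' x') (g (f' x')) _ (fibMap_asFiber hc x')).mpr h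
  let _ : Algebra (Y.residueField (g (f' x'))) (Y'.residueField (f' x')) :=
    (g.residueFieldMap (f' x')).hom.toAlgebra
  let _ : (f.fiber (g (f' x'))).Over (Spec (CommRingCat.of (Y.residueField (g (f' x'))))) :=
    ⟨f.fiberToSpecResidueField (g (f' x'))⟩
  have hlft : LocallyOfFiniteType (f.fiberToSpecResidueField (g (f' x'))) :=
    MorphismProperty.pullback_snd (P := @LocallyOfFiniteType) _ _ inferInstance
  have hlft' : LocallyOfFiniteType ((f.fiber (g (f' x'))) ↘
      Spec (CommRingCat.of (Y.residueField (g (f' x'))))) := hlft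
  let E : f'.fiber (f' x') ≅ Curv2.bc (Y.residueField (g (f' x'))) (f.fiber (g (f' x')))
      (Y'.residueField (f' x')) := (isPullback_fibMap hc (f' x')).isoPullback
  have hEfst : E.hom ≫ Curv2.bcFst (Y.residueField (g (f' x'))) (f.fiber (g (f' x')))
      (Y'.residueField (f' x')) = fibMap hc (f' x') :=
    (isPullback_fibMap hc (f' x')).isoPullback_hom_fst
  have hR : LocCoh.IsGorensteinRing
      ((f.fiber (g (f' x'))).presheaf.stalk (fibMap hc (f' x') (f'.asFiber x'))) :=
    isGorensteinRing_of_isGorensteinLocalRing _ h1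
  let _ := Curv2.stalkAlgebra (Y.residueField (g (f' x'))) (f.fiber (g (f' x')))
    (fibMap hc (f' x') (f'.asFiber x'))
  have hess : Algebra.EssFiniteType (Y.residueField (g (f' x')))
      ((f.fiber (g (f' x'))).presheaf.stalk (fibMap hc (f' x') (f'.asFiber x'))) :=
    essFiniteType_stalkMap (Y.residueField (g (f' x'))) (f.fiber (g (f' x')))
      (fibMap hc (f' x') (f'.asFiber x'))
  have h3 := isGorensteinRing_tensor_of_essFiniteType_left
    (Y.residueField (g (f' x')))
    ((f.fiber (g (f' x'))).presheaf.stalk (fibMap hc (f' x') (f'.asFiber x')))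
    (Y'.residueField (f' x')) hR
  have h4 := gor_of_tensor (Y.residueField (g (f' x'))) (f.fiber (g (f' x')))
    (fibMap hc (f' x') (f'.asFiber x')) (Y'.residueField (f' x')) h3 (E.hom (f'.asFiber x'))
    (congrArg (fun φ : f'.fiber (f' x') ⟶ f.fiber (g (f' x')) => φ (f'.asFiber x')) hEfst)
  exact H30StalkProd.Q_stalk_of_iso (fun R _ => LocCoh.IsGorensteinLocalRing R)
    (fun R R' _ _ e hR => isGorensteinLocalRing_of_ringEquiv e hR) E _ h4

include hc in
/-- **Descent**: if the fibres of `f` are locally Noetherian and the fibre of `f'` is Gorenstein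
at `x'`, then the fibre of `f` is Gorenstein at `g' x'`. -/
theorem gor_fibre_descent (x' : X') (hN : IsLocallyNoetherian (f.fiber (g (f' x'))))
    (h : LocCoh.IsGorensteinLocalRing ((f'.fiber (f' x')).presheaf.stalk (f'.asFiber x'))) :
    LocCoh.IsGorensteinLocalRing
      ((f.fiber (f (g' x'))).presheaf.stalk (f.asFiber (g' x'))) := by
  refine (gor_stalk_fiber_iff f (g' x') (g (f' x')) _ (fibMap_asFiber hc x')).mp ?_
  have hfl : Flat (Spec.map (g.residueFieldMap (f' x'))) := inferInstance
  have : Flat (fibMap hc (f' x')) :=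
    MorphismProperty.of_isPullback (P := @Flat) (isPullback_fibMap hc (f' x')).flip hfl
  have hφ := Flat.stalkMap (fibMap hc (f' x')) (f'.asFiber x')
  have hNB : IsNoetherianRing ((f'.fiber (f' x')).presheaf.stalk (f'.asFiber x')) := inferInstance
  have hNA : IsNoetherianRing ((f.fiber (g (f' x'))).presheaf.stalk
    (fibMap hc (f' x') (f'.asFiber x'))) := inferInstance
  letI : Algebra ((f.fiber (g (f' x'))).presheaf.stalk (fibMap hc (f' x') (f'.asFiber x')))
      ((f'.fiber (f' x')).presheaf.stalk (f'.asFiber x')) :=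
    ((fibMap hc (f' x')).stalkMap (f'.asFiber x')).hom.toAlgebra
  haveI : IsLocalHom (algebraMap
      ((f.fiber (g (f' x'))).presheaf.stalk (fibMap hc (f' x') (f'.asFiber x')))
      ((f'.fiber (f' x')).presheaf.stalk (f'.asFiber x'))) :=
    (inferInstance : IsLocalHom ((fibMap hc (f' x')).stalkMap (f'.asFiber x')).hom)
  haveI : Module.Flat ((f.fiber (g (f' x'))).presheaf.stalk (fibMap hc (f' x') (f'.asFiber x')))
      ((f'.fiber (f' x')).presheaf.stalk (f'.asFiber x')) := hφ
  exact ((Groth.Agent.S0344.result _ _).mp h).1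

end Square

end Groth.Agent.Lib.H14GorBC
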