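import Groth.Agent.Lib.H14GorField
import Groth.Agent.Lib.H14GeomP7

/-!
# Gorenstein homomorphisms (helper14)

`IsGorHom R T`: `T` flat over `R` with Gorenstein fibre rings `κ(p) ⊗[R] T`.

* `isGorensteinRing_field_tensor`: Gorenstein fibres + `K` field ess. of finite type over `R` ⇒
  `K ⊗[R] T` Gorenstein (uses `H14GorField.preservesGor_of_top_fg`).
* `IsGorHom.comp`: composition of Gorenstein homomorphisms (Noetherian target).
* `isGorHom_of_isRegularHom`: a regular homomorphism is a Gorenstein homomorphism.
-/

set_option autoImplicit false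
set_option linter.style.haveILetI false
set_option linter.unusedSectionVars false
universe u

namespace Groth.Agent.Lib.H14GorComp

open IsLocalRing Groth.Agent.Lib TensorProduct
open Groth.Agent.Lib.H14GorHom Groth.Agent.Lib.H14GorField

/-- A Gorenstein homomorphism: flat with Gorenstein fibre rings. -/
def IsGorHom (R T : Type u) [CommRing R] [CommRing T] [Algebra R T] : Prop :=
  Module.Flat R T ∧ ∀ (p : Ideal R) [p.IsPrime], LocCoh.IsGorensteinRing (p.Fiber T)

/-- For a ring map `R → T` with Gorenstein fibres and a field `K` essentially of finite type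
over `R`, the ring `K ⊗[R] T` is Gorenstein. -/
theorem isGorensteinRing_field_tensor (R T K : Type u) [CommRing R] [CommRing T] [Algebra R T]
    [Field K] [Algebra R K] [Algebra.EssFiniteType R K]
    (h : ∀ (p : Ideal R) [p.IsPrime], LocCoh.IsGorensteinRing (p.Fiber T)) :
    LocCoh.IsGorensteinRing (K ⊗[R] T) := by
  obtain ⟨p, _, _, _⟩ := H14GeomP.exists_residueField_algebra R K
  have : Algebra.EssFiniteType p.ResidueField K := Algebra.EssFiniteType.of_comp R _ _
  have hfg : (⊤ : IntermediateField p.ResidueField K).FG := IntermediateField.fg_top_iff.mpr this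
  have h1 : LocCoh.IsGorensteinRing (K ⊗[p.ResidueField] (p.Fiber T)) :=
    preservesGor_of_top_fg p.ResidueField K hfg _ (h p)
  exact isGorensteinRing_of_ringEquiv
    (Algebra.TensorProduct.cancelBaseChange R p.ResidueField p.ResidueField K T).toRingEquiv h1

section Comp

variable {R T U : Type u} [CommRing R] [CommRing T] [CommRing U] [Algebra R T] [Algebra T U]
  [Algebra R U] [IsScalarTower R T U]

/-- The fibre of a composite: `(T ⊗[R] κ) ⊗[T] U ≃ κ ⊗[R] U`. -/
noncomputable def fibreCompEquiv (κ : Type u) [CommRing κ] [Algebra R κ] :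
    ((T ⊗[R] κ) ⊗[T] U) ≃+* (κ ⊗[R] U) :=
  ((Algebra.TensorProduct.comm T (T ⊗[R] κ) U).toRingEquiv.trans
    (Algebra.TensorProduct.cancelBaseChange R T U U κ).toRingEquiv).trans
    (Algebra.TensorProduct.comm R U κ).toRingEquiv

/-- Composition of Gorenstein homomorphisms (target Noetherian). -/
theorem IsGorHom.comp [IsNoetherianRing U] (h1 : IsGorHom R T) (h2 : IsGorHom T U) :
    IsGorHom R U := by
  have hf1 := h1.1
  have hf2 := h2.1
  refine ⟨Module.Flat.trans R T U, fun p _ => ?_⟩
  have hF : LocCoh.IsGorensteinRing (p.Fiber T) := h1.2 p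
  have hF' : LocCoh.IsGorensteinRing (T ⊗[R] p.ResidueField) :=
    isGorensteinRing_of_ringEquiv
      (Algebra.TensorProduct.comm R p.ResidueField T).toRingEquiv hF
  have hN0 : IsNoetherianRing (T ⊗[R] p.ResidueField) := inferInstance
  have hN1 : IsNoetherianRing (U ⊗[R] p.ResidueField) :=
    Algebra.EssFiniteType.isNoetherianRing U _
  have hN2 : IsNoetherianRing ((T ⊗[R] p.ResidueField) ⊗[T] U) :=
    isNoetherianRing_of_ringEquiv _
      ((Algebra.TensorProduct.comm T (T ⊗[R] p.ResidueField) U).toRingEquiv.trans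
        (Algebra.TensorProduct.cancelBaseChange R T U U p.ResidueField).toRingEquiv).symm
  have hG1 : LocCoh.IsGorensteinRing ((T ⊗[R] p.ResidueField) ⊗[T] U) := by
    refine isGorensteinRing_of_flat_of_fibre
      (R := T ⊗[R] p.ResidueField) (S := (T ⊗[R] p.ResidueField) ⊗[T] U) hF' ?_
    intro Q _
    let _ : Algebra T Q.ResidueField :=
      ((algebraMap (T ⊗[R] p.ResidueField) Q.ResidueField).comp
        (algebraMap T (T ⊗[R] p.ResidueField))).toAlgebra
    have : IsScalarTower T (T ⊗[R] p.ResidueField) Q.ResidueField :=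
      IsScalarTower.of_algebraMap_eq (fun _ => rfl)
    have : Algebra.EssFiniteType T Q.ResidueField :=
      Algebra.EssFiniteType.comp T (T ⊗[R] p.ResidueField) Q.ResidueField
    have h3 := isGorensteinRing_field_tensor T U Q.ResidueField h2.2
    exact isGorensteinRing_of_ringEquiv
      (Algebra.TensorProduct.cancelBaseChange T (T ⊗[R] p.ResidueField)
        Q.ResidueField Q.ResidueField U).symm.toRingEquiv h3
  exact isGorensteinRing_of_ringEquiv
    (R := (T ⊗[R] p.ResidueField) ⊗[T] U) (R' := p.Fiber U)
    (fibreCompEquiv (R := R) (T := T) (U := U) p.ResidueField) hG1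

end Comp

/-- A regular homomorphism is a Gorenstein homomorphism. -/
theorem isGorHom_of_isRegularHom (R T : Type u) [CommRing R] [CommRing T] [Algebra R T]
    (h : CAlg.IsRegularHom R T) : IsGorHom R T := by
  refine ⟨h.1, fun p _ => ?_⟩
  have hN := (h.2 p).1
  have h1 : IsRegularRing (p.ResidueField ⊗[p.ResidueField] (p.Fiber T)) :=
    (h.2 p).2 p.ResidueField inferInstance
  have h2 : IsRegularRing (p.Fiber T) :=
    @IsRegularRing.of_ringEquiv _ _ _ _
      (Algebra.TensorProduct.lid p.ResidueField (p.Fiber T)).toRingEquiv h1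
  exact isGorensteinRing_of_isRegularRing _

end Groth.Agent.Lib.H14GorComp
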