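import Groth.Agent.S3627
import Groth.Agent.S0540
import Groth.Agent.Lib.H14GorHom
import Groth.Agent.Lib.HenselizationNoeth
import Groth.Agent.Lib.WeaklyEtaleFlat61
import Groth.Agent.Lib.StrictHensQuot96
import Groth.Agent.Lib.HznWeaklyEtale96
import Groth.Agent.Lib.StrictHenselizationMax
import Groth.Agent.Lib.StrictHenselizationProps

/-!
# Gorenstein homomorphisms: étale-type locality and strict henselizations, ring level (helper14)

* `GorHomAt A B` : `A → B` flat with Gorenstein fibre ring `B ⧸ m_A B`.
* `gorHomAt_src_iff` : for `A → B → C` with `B → C` flat local and `m_B C = m_C`: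
  `GorHomAt A C ↔ GorHomAt A B` (via `S3627.main_alg` = S0344).
* `gorHomAt_tgt_iff` : for `A' → A` weakly étale with `m_{A'} A = m_A`: `GorHomAt A' B ↔ GorHomAt A B`.
* `isNoetherianRing_quotient_sh`, `gorHomAt_iff_sh` : `GorHomAt A B ↔ (A^sh → B^sh flat ∧ Gorenstein
  closed fibre)`.
-/

set_option autoImplicit false
set_option linter.style.haveILetI false
set_option linter.unusedSectionVars false
universe u

open IsLocalRing

namespace Groth.Agent.Lib.H14GorEtLocal

open Groth.Agent.Lib

/-- The pair "flat with Gorenstein fibre ring" for a local homomorphism. -/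
def GorHomAt (A B : Type u) [CommRing A] [CommRing B] [IsLocalRing A] [Algebra A B] : Prop :=
  Module.Flat A B ∧ LocCoh.IsGorensteinLocalRing (B ⧸ (maximalIdeal A).map (algebraMap A B))

section Src

variable {A B C : Type u} [CommRing A] [CommRing B] [CommRing C]
  [IsLocalRing A] [IsLocalRing B] [IsLocalRing C] [Algebra A B] [Algebra B C] [Algebra A C]
  [IsScalarTower A B C] [IsLocalHom (algebraMap A B)] [IsLocalHom (algebraMap B C)]

theorem isGorensteinLocalRing_quotient_of_eq_maximalIdeal (I : Ideal C) (hI : I = maximalIdeal C) :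
    LocCoh.IsGorensteinLocalRing (C ⧸ I) := by
  subst hI
  exact H14GorHom.isGorensteinLocalRing_of_isGorensteinRing (ResidueField C)
    (H14GorHom.isGorensteinRing_of_field (ResidueField C))

/-- Source-type locality: `B → C` flat with `m_B C = m_C`. -/
theorem gorHomAt_src_iff [Module.Flat B C]
    (hm : (maximalIdeal B).map (algebraMap B C) = maximalIdeal C)
    (hN : IsNoetherianRing (B ⧸ (maximalIdeal A).map (algebraMap A B)) →
      IsNoetherianRing (C ⧸ (maximalIdeal A).map (algebraMap A C))) :
    GorHomAt A C ↔ GorHomAt A B := by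
  have H : Groth.Agent.S3627.H0344.{u} := fun A _ _ _ B _ _ _ _ _ _ => Groth.Agent.S0344.result A B
  have hfield : LocCoh.IsGorensteinLocalRing (C ⧸ (maximalIdeal B).map (algebraMap B C)) :=
    isGorensteinLocalRing_quotient_of_eq_maximalIdeal _ hm
  constructor
  · rintro ⟨hAC, hG⟩
    have hC : IsNoetherianRing (C ⧸ (maximalIdeal A).map (algebraMap A C)) := by haveI := hG; infer_instance
    -- descent of Noetherianity along `B/m_A B → C/m_A C`
    set I := (maximalIdeal A).map (algebraMap A B) with hI
    have hIle : I ≤ maximalIdeal B := Groth.Agent.S3627.map_le_maximalIdeal _ le_rfl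
    have hmap : I.map (algebraMap B C) = (maximalIdeal A).map (algebraMap A C) := by
      rw [hI, Ideal.map_map, ← IsScalarTower.algebraMap_eq]
    haveI : IsNoetherianRing (C ⧸ I.map (algebraMap B C)) :=
      isNoetherianRing_of_ringEquiv _ (Ideal.quotEquivOfEq hmap).symm
    haveI := Groth.Agent.S3627.isLocalRing_quot I hIle
    haveI := Groth.Agent.S3627.isLocalRing_quot (I.map (algebraMap B C))
      (Groth.Agent.S3627.map_le_maximalIdeal I hIle)
    haveI := Groth.Agent.S3627.isLocalHom_quot (C := C) I hIle
    haveI := Groth.Agent.S3627.flat_quot (C := C) I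
    haveI : Module.FaithfullyFlat (B ⧸ I) (C ⧸ I.map (algebraMap B C)) :=
      Module.FaithfullyFlat.of_flat_of_isLocalHom
    have hB : IsNoetherianRing (B ⧸ I) :=
      HenselizationNoeth.isNoetherianRing_of_faithfullyFlat (B ⧸ I) (C ⧸ I.map (algebraMap B C))
    exact ((Groth.Agent.S3627.main_alg H hB hC).2 ⟨hAC, hG⟩ inferInstance).2
  · rintro ⟨hAB, hG⟩
    have hB : IsNoetherianRing (B ⧸ (maximalIdeal A).map (algebraMap A B)) := by haveI := hG; infer_instance
    exact (Groth.Agent.S3627.main_alg H hB (hN hB)).1 ⟨inferInstance, hfield⟩ ⟨hAB, hG⟩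

end Src

section Tgt

variable {A' A B : Type u} [CommRing A'] [CommRing A] [CommRing B]
  [IsLocalRing A'] [IsLocalRing A] [Algebra A' A] [Algebra A B] [Algebra A' B]
  [IsScalarTower A' A B]

/-- Target-type locality: `A' → A` weakly étale with `m_{A'} A = m_A`. -/
theorem gorHomAt_tgt_iff [Algebra.WeaklyEtale A' A]
    (hm : (maximalIdeal A').map (algebraMap A' A) = maximalIdeal A) :
    GorHomAt A' B ↔ GorHomAt A B := by
  have hmap : (maximalIdeal A').map (algebraMap A' B) = (maximalIdeal A).map (algebraMap A B) := by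
    rw [← hm, Ideal.map_map, ← IsScalarTower.algebraMap_eq]
  let e : (B ⧸ (maximalIdeal A').map (algebraMap A' B)) ≃+*
      (B ⧸ (maximalIdeal A).map (algebraMap A B)) := Ideal.quotEquivOfEq hmap
  constructor
  · rintro ⟨hfl, hG⟩
    exact ⟨WeaklyEtaleFlat61.flat_of_weaklyEtale A' A B,
      H14GorHom.isGorensteinLocalRing_of_ringEquiv e hG⟩
  · rintro ⟨hfl, hG⟩
    exact ⟨Module.Flat.trans A' A B, H14GorHom.isGorensteinLocalRing_of_ringEquiv e.symm hG⟩

end Tgt

section Sh

variable {A B : Type u} [CommRing A] [CommRing B] [IsLocalRing A] [IsLocalRing B] [Algebra A B]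
  [IsLocalHom (algebraMap A B)]
  (A' : Type u) [CommRing A'] [IsLocalRing A'] [Algebra A A'] [IsLocalHom (algebraMap A A')]
  [Hensel.IsStrictHenselization A A']
  (B' : Type u) [CommRing B'] [IsLocalRing B'] [Algebra B B'] [IsLocalHom (algebraMap B B')]
  [Hensel.IsStrictHenselization B B']

/-- Noetherianity of the fibre ring passes to the strict henselization. -/
theorem isNoetherianRing_quotient_sh (I : Ideal B) (hI : I ≤ maximalIdeal B)
    (h : IsNoetherianRing (B ⧸ I)) : IsNoetherianRing (B' ⧸ I.map (algebraMap B B')) := by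
  haveI := Groth.Agent.S3627.isLocalRing_quot I hI
  haveI := Groth.Agent.S3627.isLocalRing_quot (I.map (algebraMap B B'))
    (Groth.Agent.S3627.map_le_maximalIdeal I hI)
  haveI := Groth.Agent.S3627.isLocalHom_quot (C := B') I hI
  have hsh : Hensel.IsStrictHenselization (B ⧸ I) (B' ⧸ I.map (algebraMap B B')) :=
    StrictHensQuot96.isStrictHenselization_of_surjective (R := B) (S := B')
      (Ideal.Quotient.mk I) Ideal.Quotient.mk_surjective
      (B' ⧸ I.map (algebraMap B B')) (Ideal.Quotient.mk _) Ideal.Quotient.mk_surjective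
      (by rw [Ideal.mk_ker, Ideal.mk_ker]) (fun r => rfl)
  exact (Groth.Agent.S0540.result (B ⧸ I) (B' ⧸ I.map (algebraMap B B'))).1 h

/-- **Gorenstein homomorphisms and strict henselizations.** -/
theorem gorHomAt_iff_sh (φ : A' →+* B') [IsLocalHom φ]
    (hφ : φ.comp (algebraMap A A') = (algebraMap B B').comp (algebraMap A B)) :
    GorHomAt A B ↔
      (φ.Flat ∧ LocCoh.IsGorensteinLocalRing (B' ⧸ (maximalIdeal A').map φ)) := by
  letI : Algebra A B' := ((algebraMap B B').comp (algebraMap A B)).toAlgebra
  haveI : IsScalarTower A B B' := IsScalarTower.of_algebraMap_eq (fun _ => rfl)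
  letI : Algebra A' B' := φ.toAlgebra
  haveI : IsScalarTower A A' B' := IsScalarTower.of_algebraMap_eq (fun a => by
    show (algebraMap B B') (algebraMap A B a) = φ (algebraMap A A' a)
    exact (congrArg (fun k => k a) hφ).symm)
  haveI : Module.FaithfullyFlat B B' :=
    StrictHenselization.faithfullyFlat_of_isStrictHenselization B B'
  have hmB : (maximalIdeal B).map (algebraMap B B') = maximalIdeal B' :=
    StrictHenselizationMax.map_maximalIdeal_eq B B'
  have hmA : (maximalIdeal A).map (algebraMap A A') = maximalIdeal A' :=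
    StrictHenselizationMax.map_maximalIdeal_eq A A'
  haveI : Algebra.WeaklyEtale A A' := HznWeaklyEtale96.weaklyEtale_of_isStrictHenselization A A'
  have h1 : GorHomAt A B' ↔ GorHomAt A B := by
    refine gorHomAt_src_iff hmB (fun hB => ?_)
    have hIle : (maximalIdeal A).map (algebraMap A B) ≤ maximalIdeal B :=
      Groth.Agent.S3627.map_le_maximalIdeal _ le_rfl
    have h2 := isNoetherianRing_quotient_sh B' _ hIle hB
    have hmap : ((maximalIdeal A).map (algebraMap A B)).map (algebraMap B B') =
        (maximalIdeal A).map (algebraMap A B') := by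
      rw [Ideal.map_map, ← IsScalarTower.algebraMap_eq]
    exact isNoetherianRing_of_ringEquiv _ (Ideal.quotEquivOfEq hmap)
  have h2 : GorHomAt A B' ↔ GorHomAt A' B' := gorHomAt_tgt_iff hmA
  rw [← h1, h2]
  rfl

end Sh

end Groth.Agent.Lib.H14GorEtLocal
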