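import Groth.Agent.Lib.H14GorLCI
import Groth.Prelude.Def_Dual3

/-!
# Gorenstein schemes via affine opens (helper14)

* `isGorensteinRing_sections` : `Γ(X, U)` is a Gorenstein ring for `U` affine open in a Gorenstein
  scheme `X` (`Dual3.IsGorenstein`).
* `isGorensteinLocalRing_stalk` : converse on stalks.
* `isGorenstein_of_affine_cover` : local criterion.
* `isGorenstein_of_isLCIMor` : an LCI morphism (`Dual3.IsLCIMor`) to a Gorenstein scheme has
  Gorenstein source.
-/

set_option autoImplicit false
set_option linter.style.haveILetI false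
set_option linter.unusedSectionVars false
universe u

namespace Groth.Agent.Lib.H14GorScheme

open CategoryTheory CategoryTheory.Limits AlgebraicGeometry
open Groth.Agent.Lib.H14GorHom

/-- On a scheme with Gorenstein stalks and Noetherian sections over the affine open `U`, the ring
`Γ(X, U)` is a Gorenstein ring. -/
theorem isGorensteinRing_sections_of_stalks {X : Scheme.{u}} {U : X.Opens} (hU : IsAffineOpen U)
    [hN : IsNoetherianRing Γ(X, U)]
    (h : ∀ x ∈ U, LocCoh.IsGorensteinLocalRing (X.presheaf.stalk x)) :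
    LocCoh.IsGorensteinRing Γ(X, U) := by
  refine ⟨fun P hP => ?_⟩
  let _ : Algebra Γ(X, U) (X.presheaf.stalk (hU.fromSpec ⟨P, hP⟩)) :=
    TopCat.Presheaf.algebra_section_stalk X.presheaf ⟨_, (hU.isoSpec.inv _).2⟩
  have : IsLocalization.AtPrime (X.presheaf.stalk (hU.fromSpec ⟨P, hP⟩)) P :=
    hU.isLocalization_stalk' ⟨P, hP⟩ (hU.isoSpec.inv _).2
  have e := IsLocalization.algEquiv P.primeCompl (X.presheaf.stalk (hU.fromSpec ⟨P, hP⟩))
    (Localization.AtPrime P)
  exact isGorensteinLocalRing_of_ringEquiv e.toRingEquiv (h _ (hU.isoSpec.inv _).2)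

/-- Sections of a Gorenstein scheme over an affine open form a Gorenstein ring. -/
theorem isGorensteinRing_sections {X : Scheme.{u}} (hX : Dual3.IsGorenstein X) {U : X.Opens}
    (hU : IsAffineOpen U) : LocCoh.IsGorensteinRing Γ(X, U) := by
  have := hX.1
  have hN : IsNoetherianRing Γ(X, U) := IsLocallyNoetherian.component_noetherian ⟨U, hU⟩
  exact isGorensteinRing_sections_of_stalks hU (fun x _ => hX.2 x)

/-- If `Γ(X, U)` is a Gorenstein ring, `U` affine open, the stalks at points of `U` are
Gorenstein. -/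
theorem isGorensteinLocalRing_stalk {X : Scheme.{u}} {U : X.Opens} (hU : IsAffineOpen U)
    (h : LocCoh.IsGorensteinRing Γ(X, U)) (x : X) (hx : x ∈ U) :
    LocCoh.IsGorensteinLocalRing (X.presheaf.stalk x) := by
  let _ := X.presheaf.algebra_section_stalk ⟨x, hx⟩
  have := hU.isLocalization_stalk ⟨x, hx⟩
  have e := IsLocalization.algEquiv (hU.primeIdealOf ⟨x, hx⟩).asIdeal.primeCompl
    (Localization.AtPrime (hU.primeIdealOf ⟨x, hx⟩).asIdeal) (X.presheaf.stalk x)
  exact isGorensteinLocalRing_of_ringEquiv e.toRingEquiv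
    (h.isGorensteinLocalRing_localization _)

/-- A scheme covered by affine opens with Gorenstein rings of sections is Gorenstein. -/
theorem isGorenstein_of_affine_cover {X : Scheme.{u}}
    (h : ∀ x : X, ∃ U : X.affineOpens, x ∈ U.1 ∧ LocCoh.IsGorensteinRing Γ(X, U.1)) :
    Dual3.IsGorenstein X := by
  choose U hxU hG using h
  refine ⟨isLocallyNoetherian_of_affine_cover (S := U) ?_ (fun x => ?_), fun x => ?_⟩
  · rw [eq_top_iff]
    intro x _
    exact TopologicalSpace.Opens.mem_iSup.mpr ⟨x, hxU x⟩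
  · have := hG x
    infer_instance
  · exact isGorensteinLocalRing_stalk (U x).2 (hG x) x (hxU x)

/-- **LCI over Gorenstein is Gorenstein** (scheme form). -/
theorem isGorenstein_of_isLCIMor (Y X : Scheme.{u}) (f : Y ⟶ X) (hf : Dual3.IsLCIMor f)
    (hX : Dual3.IsGorenstein X) : Dual3.IsGorenstein Y := by
  apply isGorenstein_of_affine_cover
  intro y
  obtain ⟨U, V, e, hy, hLCI⟩ := hf y
  refine ⟨U, hy, ?_⟩
  letI := (f.appLE V.1 U.1 e).hom.toAlgebra
  exact H14GorLCI.isGorensteinRing_of_isLCI Γ(X, V.1) Γ(Y, U.1)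
    (isGorensteinRing_sections hX V.2) hLCI

end Groth.Agent.Lib.H14GorScheme
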