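import Groth.Agent.Lib.KoszulRelBC
import Groth.Agent.Lib.LCIComp
import Groth.Agent.Lib.CMComp33
import Groth.Agent.Lib.H14GorLCI
import Groth.Agent.Lib.H14GorComp

/-!
# Flat lci maps have Gorenstein fibres (helper14)

* `flat_quotient_map_away`, `GenAt.map_of_isPushout`, `isKoszulRegularIdeal_map_of_isPushout`:
  a Koszul-regular ideal `I` of a flat `R`-algebra `P` with `P/I` flat over `R` stays Koszul-regular
  after ANY base change `R → R'` (uses helper19's `KoszulRelBC`).
* `isGorensteinRing_tensor_field_of_isLCI`: `A → B` flat lci, `κ` a field over `A` ⇒ `B ⊗[A] κ`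
  Gorenstein (S1830).
-/

set_option autoImplicit false
set_option linter.style.haveILetI false
set_option linter.unusedSectionVars false
universe u

open TensorProduct

namespace Groth.Agent.Lib.H14GorSynt

open Groth.Agent.Lib.KoszulIdeal Groth.Agent.Lib.KoszulRelBC Groth.Agent.Lib.LCIComp

section bc

variable (R : Type u) [CommRing R] {P : Type u} [CommRing P] [Algebra R P]

/-- localization of a flat quotient is flat over the base -/
theorem flat_quotient_map_away (I : Ideal P) [Module.Flat R (P ⧸ I)] (g : P) :
    Module.Flat R (Localization.Away g ⧸ I.map (algebraMap P (Localization.Away g))) := by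
  haveI : Module.Flat P (Localization.Away g) := IsLocalization.flat _ (Submonoid.powers g)
  haveI : Module.Flat (P ⧸ I) (Localization.Away g ⧸ I.map (algebraMap P (Localization.Away g))) :=
    CMComp33.flat_quotient I
  haveI : IsScalarTower R (P ⧸ I)
      (Localization.Away g ⧸ I.map (algebraMap P (Localization.Away g))) := by
    refine IsScalarTower.of_algebraMap_eq (fun r => ?_)
    rfl
  exact Module.Flat.trans R (P ⧸ I) _

/-- base change (along an arbitrary pushout) of `GenAt` for an ideal with flat quotient -/
theorem GenAt.map_of_isPushout (R' : Type u) [CommRing R'] {P' : Type u} [CommRing P']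
    [Algebra R R'] [Algebra P P'] [Algebra R' P'] [Algebra R P'] [IsScalarTower R P P']
    [IsScalarTower R R' P'] [Algebra.IsPushout R P R' P'] [Module.Flat R P]
    {I : Ideal P} [Module.Flat R (P ⧸ I)] {g : P} (h : GenAt I g) :
    GenAt (I.map (algebraMap P P')) (algebraMap P P' g) := by
  obtain ⟨l, hl, hIl⟩ := h.exists_list (Localization.Away g)
  let T' := Localization (Algebra.algebraMapSubmonoid P' (Submonoid.powers g))
  haveI : IsLocalization.Away (algebraMap P P' g) T' := by
    have h1 := Algebra.algebraMapSubmonoid_powers (S := P') g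
    show IsLocalization (Submonoid.powers (algebraMap P P' g)) _
    rw [← h1]
    infer_instance
  haveI : Module.Flat P (Localization.Away g) := IsLocalization.flat _ (Submonoid.powers g)
  haveI : Module.Flat R (Localization.Away g) := Module.Flat.trans R P _
  haveI hfl : Module.Flat R (Localization.Away g ⧸ Ideal.ofList l) := by
    have := flat_quotient_map_away R I g
    rw [hIl] at this
    exact this
  haveI : IsScalarTower R (Localization.Away g) T' := by
    refine IsScalarTower.of_algebraMap_eq (fun r => ?_)
    rw [IsScalarTower.algebraMap_apply R P (Localization.Away g),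
      ← IsScalarTower.algebraMap_apply P (Localization.Away g) T',
      IsScalarTower.algebraMap_apply R P' T', IsScalarTower.algebraMap_apply R P P',
      ← IsScalarTower.algebraMap_apply P P' T']
  haveI h1 : Algebra.IsPushout P P' (Localization.Away g) T' :=
    Algebra.isPushout_of_isLocalization (Submonoid.powers g) (Localization.Away g) P' T'
  haveI h2 : Algebra.IsPushout P (Localization.Away g) P' T' := h1.symm
  haveI h3 : Algebra.IsPushout R (Localization.Away g) R' T' :=
    (Algebra.IsPushout.comp_iff R P R' P').mpr h2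
  refine GenAt.mk T' (l.map (algebraMap (Localization.Away g) T'))
    (isKoszulRegularSeq_map_of_isPushout R R' l hl) ?_
  rw [Ideal.map_map, ← IsScalarTower.algebraMap_eq,
    IsScalarTower.algebraMap_eq P (Localization.Away g), ← Ideal.map_map, hIl, Ideal.map_ofList]

/-- **arbitrary base change** of Koszul-regular ideals with flat quotient in a flat algebra -/
theorem isKoszulRegularIdeal_map_of_isPushout (R' : Type u) [CommRing R'] {P' : Type u}
    [CommRing P'] [Algebra R R'] [Algebra P P'] [Algebra R' P'] [Algebra R P']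
    [IsScalarTower R P P'] [IsScalarTower R R' P'] [Algebra.IsPushout R P R' P']
    [Module.Flat R P] (I : Ideal P) [Module.Flat R (P ⧸ I)]
    (hI : LCI.IsKoszulRegularIdeal I) : LCI.IsKoszulRegularIdeal (I.map (algebraMap P P')) := by
  rw [isKoszulRegularIdeal_iff] at hI ⊢
  intro 𝔮 h𝔮
  obtain ⟨g, hg, hgen⟩ := hI (𝔮.comap (algebraMap P P')) (Ideal.le_comap_of_map_le h𝔮)
  exact ⟨algebraMap P P' g, hg, GenAt.map_of_isPushout R R' hgen⟩

end bc

section main

open Groth.Agent.Lib.H14GorHom Groth.Agent.Lib.H14GorLCI

attribute [local instance] Algebra.TensorProduct.rightAlgebra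

/-- **Flat local complete intersection maps have Gorenstein fibres** (general field-valued
point): for `A → B` flat lci and `A → κ` with `κ` a field, `B ⊗[A] κ` is Gorenstein. -/
theorem isGorensteinRing_tensor_field_of_isLCI (A B : Type u) [CommRing A] [CommRing B]
    [Algebra A B] [Module.Flat A B] (hl : LCI.IsLCI A B) (κ : Type u) [Field κ] [Algebra A κ] :
    LocCoh.IsGorensteinRing (B ⊗[A] κ) := by
  obtain ⟨-, n, f, hf, hK⟩ := hl
  -- the polynomial ring over `κ`
  have hP' : LocCoh.IsGorensteinRing (MvPolynomial (Fin n) A ⊗[A] κ) := by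
    have h1 := isGorensteinRing_mvPolynomial_fin κ (isGorensteinRing_of_field κ) n
    have e1 : κ ⊗[A] MvPolynomial (Fin n) A ≃ₐ[κ] MvPolynomial (Fin n) κ :=
      MvPolynomial.algebraTensorAlgEquiv A κ
    exact isGorensteinRing_of_ringEquiv
      (e1.symm.toRingEquiv.trans (Algebra.TensorProduct.comm A κ _).toRingEquiv) h1
  -- flatness of the quotient
  let e0 : (MvPolynomial (Fin n) A ⧸ RingHom.ker f.toRingHom) ≃ₐ[A] B :=
    Ideal.quotientKerAlgEquivOfSurjective hf
  haveI : Module.Flat A (MvPolynomial (Fin n) A ⧸ RingHom.ker f.toRingHom) :=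
    Module.Flat.of_linearEquiv e0.toLinearEquiv
  have hK' := isKoszulRegularIdeal_map_of_isPushout A κ
    (P := MvPolynomial (Fin n) A) (P' := MvPolynomial (Fin n) A ⊗[A] κ)
    (RingHom.ker f.toRingHom) hK
  have hq := isGorensteinRing_quotient_of_isKoszulRegularIdeal hP' _ hK'
  -- identify the quotient
  let e1 := Algebra.TensorProduct.quotIdealMapEquivTensorQuot
    (MvPolynomial (Fin n) A ⊗[A] κ) (RingHom.ker f.toRingHom)
  let e2 : ((MvPolynomial (Fin n) A ⊗[A] κ) ⊗[MvPolynomial (Fin n) A]
      (MvPolynomial (Fin n) A ⧸ RingHom.ker f.toRingHom)) ≃+*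
      (κ ⊗[A] (MvPolynomial (Fin n) A ⧸ RingHom.ker f.toRingHom)) :=
    H14GorComp.fibreCompEquiv (R := A) (T := MvPolynomial (Fin n) A)
      (U := MvPolynomial (Fin n) A ⧸ RingHom.ker f.toRingHom) κ
  let e3 : (κ ⊗[A] (MvPolynomial (Fin n) A ⧸ RingHom.ker f.toRingHom)) ≃ₐ[A] κ ⊗[A] B :=
    Algebra.TensorProduct.congr AlgEquiv.refl e0
  exact isGorensteinRing_of_ringEquiv
    (((e1.toRingEquiv.trans e2).trans e3.toRingEquiv).trans
      (Algebra.TensorProduct.comm A κ B).toRingEquiv) hq

end main

end Groth.Agent.Lib.H14GorSynt
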