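import Groth.Agent.Lib.H14GorArt
import Mathlib

/-!
# The type formula for flat local homomorphisms (helper14)

`A → B` flat local homomorphism, `π : B ↠ F` with kernel `𝔪_A B` (closed fibre):
* `typ_eq_mul`: `typ B = typ A * typ F`;
* `gorenstein_iff_of_artinian`: if `A`, `B` are Artinian then `B` Gorenstein ↔ `A` and `F` Gorenstein.
Flatness inputs: `mem_map_of_sum_eq_zero`, `exists_sum_of_forall_mul_eq_zero` (equational criterion).
-/

set_option autoImplicit false
set_option linter.style.haveILetI false
set_option linter.unusedSectionVars false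
universe u
open CategoryTheory IsLocalRing

namespace Groth.Agent.Lib.H14GorType

open Groth.Agent.Lib.H14GorArt

/-- A "basis" of the socle of a Noetherian local ring over the residue field. -/
theorem exists_basis_soc (A : Type u) [CommRing A] [IsLocalRing A] [IsNoetherianRing A] :
    ∃ (t : ℕ) (s : Fin t → A), (∀ i, s i ∈ soc A) ∧
      (∀ y ∈ soc A, ∃ c : Fin t → A, y = ∑ i, c i * s i) ∧
      (∀ c : Fin t → A, ∑ i, c i * s i = 0 → ∀ i, c i ∈ maximalIdeal A) ∧ typ A = t := by
  have htors : Module.IsTorsionBySet A (soc A) (maximalIdeal A) := by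
    intro x a
    exact Subtype.ext (x.2 a a.2)
  letI : Module (A ⧸ maximalIdeal A) (soc A) := htors.module
  haveI : IsScalarTower A (A ⧸ maximalIdeal A) (soc A) := htors.isScalarTower
  letI : Field (A ⧸ maximalIdeal A) := Ideal.Quotient.field _
  haveI : Module.Finite (A ⧸ maximalIdeal A) (soc A) :=
    Module.Finite.of_restrictScalars_finite A (A ⧸ maximalIdeal A) (soc A)
  let b := Module.finBasis (A ⧸ maximalIdeal A) (soc A)
  have hsmul : ∀ (a : A) (x : soc A), (Ideal.Quotient.mk (maximalIdeal A) a) • x = a • x :=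
    fun a x => rfl
  refine ⟨Module.finrank (A ⧸ maximalIdeal A) (soc A), fun i => (b i : A), fun i => (b i).2,
    ?_, ?_, ?_⟩
  · intro y hy
    have h1 := b.sum_repr ⟨y, hy⟩
    choose c hc using fun i => Ideal.Quotient.mk_surjective (b.repr ⟨y, hy⟩ i)
    refine ⟨c, ?_⟩
    have h2 : y = ((∑ i, (b.repr ⟨y, hy⟩) i • b i : soc A) : A) := (congrArg Subtype.val h1).symm
    rw [h2]
    simp only [← hc, hsmul]
    simp
  · intro c hc i
    have h1 : ∑ i, (Ideal.Quotient.mk (maximalIdeal A) (c i)) • b i = 0 := by
      apply Subtype.ext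
      simp only [hsmul]
      simpa using hc
    have h2 := Fintype.linearIndependent_iff.mp b.linearIndependent _ h1 i
    exact Ideal.Quotient.eq_zero_iff_mem.mp h2
  · unfold typ
    rw [Module.length_eq_of_surjective (S := A) (R := A ⧸ maximalIdeal A) (M := soc A)
      Ideal.Quotient.mk_surjective, Module.length_eq_finrank]

section Flat

variable {A B : Type u} [CommRing A] [CommRing B] [IsLocalRing A] [Algebra A B]

/-- Socle elements of `A` kill `𝔪_A B`. -/
lemma algebraMap_mul_eq_zero_of_mem_map {s : A} (hs : s ∈ soc A) {z : B}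
    (hz : z ∈ (maximalIdeal A).map (algebraMap A B)) : algebraMap A B s * z = 0 := by
  refine Submodule.span_induction ?_ ?_ ?_ ?_ hz
  · rintro _ ⟨a, ha, rfl⟩
    rw [← map_mul, mul_comm, hs a ha, map_zero]
  · exact mul_zero _
  · intro x y _ _ hx hy; rw [mul_add, hx, hy, add_zero]
  · intro c x _ hx; rw [smul_eq_mul, mul_left_comm, hx, mul_zero]

variable [Module.Flat A B]

/-- Flatness: a relation over `B` between residually independent elements of `A` has
coefficients in `𝔪_A B`. -/
lemma mem_map_of_sum_eq_zero {t : ℕ} (s : Fin t → A)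
    (hind : ∀ c : Fin t → A, ∑ i, c i * s i = 0 → ∀ i, c i ∈ maximalIdeal A)
    (b : Fin t → B) (hb : ∑ i, algebraMap A B (s i) * b i = 0) :
    ∀ i, b i ∈ (maximalIdeal A).map (algebraMap A B) := by
  obtain ⟨k, a, y, hxy, hrel⟩ := Module.Flat.isTrivialRelation_of_sum_smul_eq_zero
    (R := A) (M := B) (f := s) (x := b) (by simpa [Algebra.smul_def] using hb)
  intro i
  rw [hxy i]
  refine Ideal.sum_mem _ (fun j _ => ?_)
  rw [Algebra.smul_def]
  refine Ideal.mul_mem_right _ _ (Ideal.mem_map_of_mem _ ?_)
  exact hind (fun i => a i j) (by simpa [mul_comm] using hrel j) i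

/-- Flatness: the annihilator of `𝔪_A B` in `B` is generated by the socle of `A`. -/
lemma exists_sum_of_forall_mul_eq_zero [IsNoetherianRing A] {t : ℕ} (s : Fin t → A)
    (hgen : ∀ y ∈ soc A, ∃ c : Fin t → A, y = ∑ i, c i * s i)
    (b : B) (hb : ∀ a ∈ maximalIdeal A, algebraMap A B a * b = 0) :
    ∃ c : Fin t → B, b = ∑ i, algebraMap A B (s i) * c i := by
  let x : A →ₗ[A] B := LinearMap.toSpanSingleton A B b
  let f : maximalIdeal A →ₗ[A] A := (maximalIdeal A).subtype
  have h : x ∘ₗ f = 0 := by
    ext ⟨a, ha⟩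
    simp [x, f, LinearMap.toSpanSingleton_apply, Algebra.smul_def, hb a ha]
  obtain ⟨k, a', y, hxy, haf⟩ := Module.Flat.exists_factorization_of_comp_eq_zero_of_free h
  have hvsoc : ∀ j, (a' 1) j ∈ soc A := by
    intro j g hg
    have h1 : a' g = 0 := LinearMap.congr_fun haf ⟨g, hg⟩
    have h2 : a' g = g • a' 1 := by rw [← map_smul, smul_eq_mul, mul_one]
    rw [h2] at h1
    have := DFunLike.congr_fun h1 j
    simpa using this
  choose c hc using fun j => hgen ((a' 1) j) (hvsoc j)
  have hb1 : b = y (a' 1) := by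
    have := LinearMap.congr_fun hxy 1
    simpa [x, LinearMap.toSpanSingleton_apply] using this
  have hv2 : a' 1 = ∑ j, (a' 1) j • Finsupp.single j (1 : A) := by
    conv_lhs => rw [← Finsupp.univ_sum_single (a' 1)]
    refine Finset.sum_congr rfl (fun j _ => ?_)
    rw [Finsupp.smul_single, smul_eq_mul, mul_one]
  refine ⟨fun i => ∑ j, algebraMap A B (c j i) * y (Finsupp.single j 1), ?_⟩
  rw [hb1]
  conv_lhs => rw [hv2]
  rw [map_sum]
  simp_rw [map_smul, Finset.mul_sum]
  rw [Finset.sum_comm]
  refine Finset.sum_congr rfl (fun j _ => ?_)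
  conv_lhs => rw [hc j]
  rw [Finset.sum_smul]
  refine Finset.sum_congr rfl (fun i _ => ?_)
  rw [Algebra.smul_def, map_mul]
  ring

end Flat

section Main

variable {A B : Type u} [CommRing A] [CommRing B] [IsLocalRing A] [IsLocalRing B]
  [IsNoetherianRing A] [Algebra A B] [IsLocalHom (algebraMap A B)] [Module.Flat A B]
  {F : Type u} [CommRing F] [IsLocalRing F] (π : B →+* F) (hπ : Function.Surjective π)
  (hker : RingHom.ker π = (maximalIdeal A).map (algebraMap A B))

include hπ in
lemma map_mem_maximalIdeal_iff (y : B) : π y ∈ maximalIdeal F ↔ y ∈ maximalIdeal B := by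
  haveI : IsLocalHom π := IsLocalHom.of_surjective π hπ
  rw [← IsLocalRing.maximalIdeal_comap π, Ideal.mem_comap]

include hπ hker in
/-- **Type formula** for a flat local homomorphism `A → B` with closed fibre `F` (Artinian case not
needed for the formula itself): `type B = type A * type F`. -/
theorem typ_eq_mul : typ B = typ A * typ F := by
  obtain ⟨t, s, hs, hgen, hind, htyp⟩ := exists_basis_soc A
  letI : Algebra B F := π.toAlgebra
  have halg : ∀ y : B, algebraMap B F y = π y := fun y => rfl
  -- the linear map Θ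
  let Θ : (Fin t → B) →ₗ[B] B :=
    { toFun := fun c => ∑ i, algebraMap A B (s i) * c i
      map_add' := by
        intro c c'
        simp only [Pi.add_apply, mul_add, Finset.sum_add_distrib]
      map_smul' := by
        intro y c
        simp only [Pi.smul_apply, smul_eq_mul, RingHom.id_apply, Finset.mul_sum]
        refine Finset.sum_congr rfl (fun i _ => ?_)
        ring }
  have hΘ : ∀ c, Θ c = ∑ i, algebraMap A B (s i) * c i := fun c => rfl
  have hΘ0 : ∀ c : Fin t → B, Θ c = 0 ↔ ∀ i, π (c i) = 0 := by
    intro c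
    constructor
    · intro h i
      have := mem_map_of_sum_eq_zero s hind c h i
      rwa [← hker, RingHom.mem_ker] at this
    · intro h
      rw [hΘ]
      refine Finset.sum_eq_zero (fun i _ => ?_)
      refine algebraMap_mul_eq_zero_of_mem_map (hs i) ?_
      rw [← hker, RingHom.mem_ker]
      exact h i
  -- the submodule P
  let P : Submodule B (Fin t → B) :=
    { carrier := {c | ∀ i, π (c i) ∈ soc F}
      add_mem' := by
        intro c c' hc hc' i
        rw [Pi.add_apply, map_add]
        exact (soc F).add_mem (hc i) (hc' i)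
      zero_mem' := by
        intro i
        rw [Pi.zero_apply, map_zero]
        exact (soc F).zero_mem
      smul_mem' := by
        intro y c hc i
        rw [Pi.smul_apply, smul_eq_mul, map_mul]
        exact (soc F).mul_mem_left _ (hc i) }
  have hP : ∀ c, c ∈ P ↔ ∀ i, π (c i) ∈ soc F := fun c => Iff.rfl
  -- Θ maps P into soc B
  have hΘP : ∀ c ∈ P, Θ c ∈ soc B := by
    intro c hc y hy
    have h1 : y * Θ c = Θ (y • c) := by rw [map_smul, smul_eq_mul]
    rw [h1, hΘ0]
    intro i
    rw [Pi.smul_apply, smul_eq_mul, map_mul]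
    exact hc i (π y) ((map_mem_maximalIdeal_iff π hπ y).mpr hy)
  let Θ' : P →ₗ[B] soc B := (Θ.domRestrict P).codRestrict (soc B) (fun c => hΘP c.1 c.2)
  have hΘ'surj : Function.Surjective Θ' := by
    rintro ⟨b, hb⟩
    have hbm : ∀ a ∈ maximalIdeal A, algebraMap A B a * b = 0 := by
      intro a ha
      exact hb _ (map_maximalIdeal_le (algebraMap A B) (Ideal.mem_map_of_mem _ ha))
    obtain ⟨c, hc⟩ := exists_sum_of_forall_mul_eq_zero s hgen b hbm
    have hcP : c ∈ P := by
      intro i z hz
      obtain ⟨y, rfl⟩ := hπ z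
      have hy : y ∈ maximalIdeal B := (map_mem_maximalIdeal_iff π hπ y).mp hz
      have h1 : Θ (y • c) = 0 := by
        rw [map_smul, smul_eq_mul, hΘ, ← hc]
        exact hb y hy
      have := (hΘ0 (y • c)).mp h1 i
      rwa [Pi.smul_apply, smul_eq_mul, map_mul] at this
    exact ⟨⟨c, hcP⟩, Subtype.ext hc.symm⟩
  -- the map χ
  let χ : P →ₗ[B] (Fin t → soc F) :=
    { toFun := fun c i => ⟨π (c.1 i), c.2 i⟩
      map_add' := by
        intro c c'
        ext i
        simp
      map_smul' := by
        intro y c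
        ext i
        simp [Algebra.smul_def, halg] }
  have hχsurj : Function.Surjective χ := by
    intro d
    choose c hc using fun i => hπ (d i).1
    refine ⟨⟨c, fun i => by rw [hc i]; exact (d i).2⟩, ?_⟩
    ext i
    exact hc i
  have hkereq : LinearMap.ker Θ' = LinearMap.ker χ := by
    ext c
    rw [LinearMap.mem_ker, LinearMap.mem_ker]
    constructor
    · intro h
      have h1 : Θ c.1 = 0 := congrArg Subtype.val h
      ext i
      exact (hΘ0 c.1).mp h1 i
    · intro h
      apply Subtype.ext
      change Θ c.1 = 0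
      rw [hΘ0]
      intro i
      have := congrFun h i
      exact congrArg Subtype.val this
  have e1 := (Θ'.quotKerEquivOfSurjective hΘ'surj).length_eq
  have e2 := (χ.quotKerEquivOfSurjective hχsurj).length_eq
  have e3 := (Submodule.quotEquivOfEq _ _ hkereq).length_eq
  have e4 : Module.length B (soc F) = Module.length F (soc F) :=
    Module.length_eq_of_surjective (S := B) (R := F) (M := soc F) hπ
  have htyp' : Module.length A (soc A) = t := htyp
  unfold typ
  rw [← e1, e3, e2, Module.length_pi, e4, htyp']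
  simp

/-- The type of an Artinian local ring is nonzero. -/
lemma typ_ne_zero (R : Type u) [CommRing R] [IsLocalRing R] [IsArtinianRing R] : typ R ≠ 0 := by
  obtain ⟨s, -, hs0, hs⟩ := exists_mem_soc_of_ne_bot (⊤ : Ideal R) top_ne_bot
  unfold typ
  rw [Ne, Module.length_eq_zero_iff]
  intro hsub
  exact hs0 (congrArg Subtype.val (Subsingleton.elim (⟨s, hs⟩ : soc R) 0))

lemma enat_mul_eq_one_iff {a b : ℕ∞} : a * b = 1 ↔ a = 1 ∧ b = 1 := by
  constructor
  · intro h
    have ha0 : a ≠ 0 := by rintro rfl; simp at h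
    have hb0 : b ≠ 0 := by rintro rfl; simp at h
    have hat : a ≠ ⊤ := by
      rintro rfl
      rw [ENat.top_mul hb0] at h
      exact absurd h (by simp)
    have hbt : b ≠ ⊤ := by
      rintro rfl
      rw [ENat.mul_top ha0] at h
      exact absurd h (by simp)
    obtain ⟨a', rfl⟩ := ENat.ne_top_iff_exists.mp hat
    obtain ⟨b', rfl⟩ := ENat.ne_top_iff_exists.mp hbt
    have h' : a' * b' = 1 := by exact_mod_cast h
    obtain ⟨h1, h2⟩ := mul_eq_one.mp h'
    exact ⟨by rw [h1]; rfl, by rw [h2]; rfl⟩
  · rintro ⟨rfl, rfl⟩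
    simp

include hπ hker in
/-- **Artinian case** of the Gorenstein flat base change theorem. -/
theorem gorenstein_iff_of_artinian [IsNoetherianRing B] [IsArtinianRing A] [IsArtinianRing B] :
    LocCoh.IsGorensteinLocalRing B ↔
      (LocCoh.IsGorensteinLocalRing A ∧ LocCoh.IsGorensteinLocalRing F) := by
  haveI : IsNoetherianRing F := isNoetherianRing_of_surjective B F π hπ
  haveI : IsArtinianRing F := hπ.isArtinianRing
  rw [gorenstein_iff_typ_eq_one, gorenstein_iff_typ_eq_one, gorenstein_iff_typ_eq_one,
    typ_eq_mul π hπ hker, enat_mul_eq_one_iff]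

end Main

end Groth.Agent.Lib.H14GorType
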