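import Groth.Agent.Lib.H14GorHom
import Groth.Agent.Lib.AdicNoeth

/-!
# Gorenstein multicross singularities are nodes (helper14)

* `isGorensteinLocalRing_adicCompletion_iff`: a Noetherian local ring is Gorenstein iff its
  completion is (from S0344).
* `MC k n`: the multicross ring (subring of `(k⟦X⟧)^n` of tuples with common constant term);
  `tE g = (X g_i)_i`; units / non-units; `le_two_of_gorenstein`: if `MC k n` is a (Noetherian local)
  Gorenstein ring then `n ≤ 2` (socle of `MC/(X,…,X)` has dimension `n - 1`).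
-/

set_option autoImplicit false
set_option linter.style.haveILetI false
set_option linter.unusedSectionVars false
set_option linter.unusedSimpArgs false
universe u

namespace Groth.Agent.Lib.H14Multicross

open IsLocalRing PowerSeries
open Groth.Agent.Lib.H14GorHom Groth.Agent.Lib.H14GorArt

section Cpl

/-- A Noetherian local ring is Gorenstein iff its completion is. -/
theorem isGorensteinLocalRing_adicCompletion_iff (A : Type u) [CommRing A] [IsLocalRing A]
    [IsNoetherianRing A] :
    LocCoh.IsGorensteinLocalRing (AdicCompletion (maximalIdeal A) A) ↔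
      LocCoh.IsGorensteinLocalRing A := by
  have hN : IsNoetherianRing (AdicCompletion (maximalIdeal A) A) :=
    Groth.Agent.Lib.AdicNoeth.isNoetherianRing_adicCompletion _
  have hfl : Module.Flat A (AdicCompletion (maximalIdeal A) A) :=
    AdicCompletion.flat_of_isNoetherian (maximalIdeal A)
  rw [H14GorFlat.gorenstein_flat_local_iff A (AdicCompletion (maximalIdeal A) A)]
  refine ⟨fun h => h.1, fun h => ⟨h, ?_⟩⟩
  rw [← AdicCompletion.maximalIdeal_eq_map]
  letI : Field (AdicCompletion (maximalIdeal A) A ⧸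
      maximalIdeal (AdicCompletion (maximalIdeal A) A)) :=
    Ideal.Quotient.field _
  exact isGorensteinLocalRing_of_isGorensteinRing _ (isGorensteinRing_of_field _)

end Cpl

section MC

variable (k : Type u) [Field k] (n : ℕ)

/-- The multicross ring: tuples of power series with a common constant term. -/
def MC : Subring (Fin n → PowerSeries k) where
  carrier := {f | ∀ i j : Fin n, constantCoeff (f i) = constantCoeff (f j)}
  mul_mem' := by
    intro f g hf hg i j
    simp only [Pi.mul_apply, map_mul]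
    rw [hf i j, hg i j]
  one_mem' := by
    intro i j
    simp
  add_mem' := by
    intro f g hf hg i j
    simp only [Pi.add_apply, map_add]
    rw [hf i j, hg i j]
  zero_mem' := by
    intro i j
    simp
  neg_mem' := by
    intro f hf i j
    simp only [Pi.neg_apply, map_neg]
    rw [hf i j]

variable {k n}

lemma mem_MC {f : Fin n → PowerSeries k} :
    f ∈ MC k n ↔ ∀ i j : Fin n, constantCoeff (f i) = constantCoeff (f j) := Iff.rfl

/-- The element `(X g_i)_i` of the multicross ring. -/
noncomputable def tE (g : Fin n → PowerSeries k) : MC k n :=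
  ⟨fun i => X * g i, fun i j => by simp⟩

@[simp] lemma tE_val (g : Fin n → PowerSeries k) (i : Fin n) : (tE g).1 i = X * g i := rfl

lemma tE_mul_tE (g g' : Fin n → PowerSeries k) :
    tE g * tE g' = tE (fun _ => 1) * tE (fun i => g i * g' i) := by
  apply Subtype.ext
  funext i
  simp only [Subring.coe_mul, Pi.mul_apply, tE_val]
  ring

lemma mul_tE (f : MC k n) (g : Fin n → PowerSeries k) :
    f * tE g = tE (fun i => f.1 i * g i) := by
  apply Subtype.ext
  funext i
  simp only [Subring.coe_mul, Pi.mul_apply, tE_val]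
  ring

lemma tE_mul_eq_iff (w : MC k n) (g : Fin n → PowerSeries k) :
    tE (fun _ => 1) * w = tE g ↔ ∀ i, w.1 i = g i := by
  constructor
  · intro h i
    have h1 := congrFun (congrArg Subtype.val h) i
    simp only [Subring.coe_mul, Pi.mul_apply, tE_val, mul_one] at h1
    exact mul_left_cancel₀ X_ne_zero h1
  · intro h
    apply Subtype.ext
    funext i
    simp only [Subring.coe_mul, Pi.mul_apply, tE_val, mul_one, h i]

lemma exists_eq_tE (f : MC k n) (i₀ : Fin n) (h : constantCoeff (f.1 i₀) = 0) :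
    ∃ g : Fin n → PowerSeries k, f = tE g := by
  have h1 : ∀ i, ∃ g : PowerSeries k, f.1 i = X * g := by
    intro i
    have : constantCoeff (f.1 i) = 0 := by rw [f.2 i i₀, h]
    exact X_dvd_iff.mpr this
  choose g hg using h1
  exact ⟨g, Subtype.ext (funext hg)⟩

lemma isUnit_of_constantCoeff_ne_zero (f : MC k n) (i₀ : Fin n)
    (h : constantCoeff (f.1 i₀) ≠ 0) : IsUnit f := by
  have h1 : ∀ i, constantCoeff (f.1 i) ≠ 0 := fun i => by rw [f.2 i i₀]; exact h
  have hg : (fun i => (f.1 i)⁻¹) ∈ MC k n := by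
    intro i j
    simp only [PowerSeries.constantCoeff_inv]
    rw [f.2 i j]
  refine IsUnit.of_mul_eq_one (⟨fun i => (f.1 i)⁻¹, hg⟩ : MC k n) ?_
  apply Subtype.ext
  funext i
  simp only [Subring.coe_mul, Pi.mul_apply, Subring.coe_one, Pi.one_apply]
  exact PowerSeries.mul_inv_cancel _ (h1 i)

lemma constantCoeff_eq_zero_of_not_isUnit (f : MC k n) (i₀ : Fin n) (h : ¬ IsUnit f) :
    constantCoeff (f.1 i₀) = 0 := by
  by_contra h0
  exact h (isUnit_of_constantCoeff_ne_zero f i₀ h0)

end MC

section Main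

variable {k : Type u} [Field k] {n : ℕ}

lemma tE_one_mem_maximalIdeal [IsLocalRing (MC k n)] (i₀ : Fin n) :
    tE (fun _ => (1 : PowerSeries k)) ∈ maximalIdeal (MC k n) := by
  rw [mem_maximalIdeal, mem_nonunits_iff]
  intro hu
  obtain ⟨w, hw⟩ := hu.exists_right_inv
  have h1 := congrArg (fun f => constantCoeff (f i₀)) (congrArg Subtype.val hw)
  simp at h1

lemma isSMulRegular_tE_one :
    IsSMulRegular (MC k n) (tE (fun _ => (1 : PowerSeries k)) : MC k n) := by
  intro a b hab
  simp only [smul_eq_mul] at hab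
  apply Subtype.ext
  funext i
  have h1 := congrFun (congrArg Subtype.val hab) i
  simp only [Subring.coe_mul, Pi.mul_apply, tE_val, mul_one] at h1
  exact mul_left_cancel₀ X_ne_zero h1

lemma mem_span_tE_one_iff (f : MC k n) :
    f ∈ Ideal.ofList [tE (fun _ => (1 : PowerSeries k))] ↔
      ∃ w : MC k n, tE (fun _ => 1) * w = f := by
  rw [Ideal.ofList_singleton, Ideal.mem_span_singleton']
  constructor
  · rintro ⟨w, hw⟩
    exact ⟨w, by rw [mul_comm]; exact hw⟩
  · rintro ⟨w, hw⟩
    exact ⟨w, by rw [mul_comm]; exact hw⟩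

lemma tE_notMem_span (g : Fin n → PowerSeries k) (i j : Fin n)
    (hij : constantCoeff (g i) ≠ constantCoeff (g j)) :
    tE g ∉ Ideal.ofList [tE (fun _ => (1 : PowerSeries k))] := by
  rw [mem_span_tE_one_iff]
  rintro ⟨w, hw⟩
  rw [tE_mul_eq_iff] at hw
  apply hij
  rw [← hw i, ← hw j]
  exact w.2 i j

/-- **A Gorenstein multicross ring has at most two branches.** -/
theorem le_two_of_gorenstein [IsLocalRing (MC k n)] [IsNoetherianRing (MC k n)]
    (hG : LocCoh.IsGorensteinLocalRing (MC k n)) : n ≤ 2 := by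
  by_contra hn3
  have hn3 : 3 ≤ n := by omega
  let i1 : Fin n := ⟨0, by omega⟩
  let i2 : Fin n := ⟨1, by omega⟩
  let i3 : Fin n := ⟨2, by omega⟩
  have h12 : i1 ≠ i2 := by simp [i1, i2, Fin.ext_iff]
  have h13 : i1 ≠ i3 := by simp [i1, i3, Fin.ext_iff]
  have h23 : i2 ≠ i3 := by simp [i2, i3, Fin.ext_iff]
  set s : MC k n := tE (fun _ => (1 : PowerSeries k)) with hs
  set I : Ideal (MC k n) := Ideal.ofList [s] with hI
  have hGT : LocCoh.IsGorensteinLocalRing (MC k n ⧸ I) :=
    isGorensteinLocalRing_quotient_ofList 1 (MC k n) [s] rfl hG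
      ((RingTheory.Sequence.isWeaklyRegular_singleton_iff _ _).mpr isSMulRegular_tE_one)
      (fun x hx => by
        rw [List.mem_singleton] at hx
        rw [hx]
        exact tE_one_mem_maximalIdeal i1)
  haveI : IsLocalRing (MC k n ⧸ I) := inferInstance
  haveI : IsNoetherianRing (MC k n ⧸ I) := inferInstance
  -- non-units of the quotient come from elements `tE g`
  have hlift : ∀ x ∈ maximalIdeal (MC k n ⧸ I), ∃ g : Fin n → PowerSeries k,
      x = Ideal.Quotient.mk I (tE g) := by
    intro x hx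
    obtain ⟨f, rfl⟩ := Ideal.Quotient.mk_surjective x
    have hnu : ¬ IsUnit f := fun hu => (mem_maximalIdeal _).mp hx (hu.map _)
    obtain ⟨g, hg⟩ := exists_eq_tE f i1 (constantCoeff_eq_zero_of_not_isUnit f i1 hnu)
    exact ⟨g, by rw [hg]⟩
  -- products of `tE`s die in the quotient
  have hkill : ∀ g g' : Fin n → PowerSeries k,
      Ideal.Quotient.mk I (tE g) * Ideal.Quotient.mk I (tE g') = 0 := by
    intro g g'
    rw [← map_mul, Ideal.Quotient.eq_zero_iff_mem, hI, mem_span_tE_one_iff]
    exact ⟨tE (fun i => g i * g' i), (tE_mul_tE g g').symm⟩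
  -- the quotient is Artinian
  haveI : IsArtinianRing (MC k n ⧸ I) := by
    rw [isArtinianRing_iff_isNilpotent_maximalIdeal]
    refine ⟨2, ?_⟩
    rw [Ideal.zero_eq_bot, eq_bot_iff, pow_two, Ideal.mul_le]
    intro x hx y hy
    obtain ⟨g, rfl⟩ := hlift x hx
    obtain ⟨g', rfl⟩ := hlift y hy
    rw [hkill]
    exact Ideal.zero_mem _
  obtain ⟨z, hz, hz0, hgen⟩ := exists_gen_of_typ_eq_one (typ_eq_one_of_gorenstein hGT)
  -- two socle elements
  set a : MC k n ⧸ I := Ideal.Quotient.mk I (tE (Pi.single i1 1)) with ha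
  set b : MC k n ⧸ I := Ideal.Quotient.mk I (tE (Pi.single i2 1)) with hb
  have hsoc : ∀ g : Fin n → PowerSeries k, Ideal.Quotient.mk I (tE g) ∈ soc (MC k n ⧸ I) := by
    intro g x hx
    obtain ⟨g', rfl⟩ := hlift x hx
    exact hkill g' g
  have ha0 : a ≠ 0 := by
    rw [ha, Ne, Ideal.Quotient.eq_zero_iff_mem]
    refine tE_notMem_span _ i1 i2 ?_
    simp [Pi.single_apply, h12, h12.symm]
  obtain ⟨α, hα⟩ := hgen a (hsoc _)
  obtain ⟨β, hβ⟩ := hgen b (hsoc _)
  have hαu : IsUnit α := by
    by_contra hnu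
    apply ha0
    rw [hα]
    exact hz α ((mem_maximalIdeal _).mpr hnu)
  obtain ⟨α', hα'⟩ := hαu.exists_left_inv
  -- b = γ a
  have hba : b = (β * α') * a := by
    rw [hα, mul_assoc, ← mul_assoc α' α z, hα', one_mul, hβ]
  obtain ⟨u, hu⟩ := Ideal.Quotient.mk_surjective (β * α')
  rw [← hu, ha, hb, ← map_mul, ← sub_eq_zero, ← map_sub, Ideal.Quotient.eq_zero_iff_mem,
    mul_tE, hI, mem_span_tE_one_iff] at hba
  obtain ⟨w, hw⟩ := hba
  have hw2 := congrFun (congrArg Subtype.val hw) i2
  have hw3 := congrFun (congrArg Subtype.val hw) i3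
  simp only [Subring.coe_mul, Pi.mul_apply, tE_val, mul_one, AddSubgroupClass.coe_sub, Pi.sub_apply,
    Pi.single_apply, h12, h12.symm, h13, h13.symm, h23, h23.symm, if_true, if_false,
    mul_zero, sub_zero, sub_self] at hw2 hw3
  have e2 : w.1 i2 = 1 := mul_left_cancel₀ X_ne_zero (by rw [hw2, mul_one])
  have e3 : w.1 i3 = 0 := mul_left_cancel₀ X_ne_zero (by rw [hw3, mul_zero])
  have := w.2 i2 i3
  rw [e2, e3] at this
  simp at this

end Main

end Groth.Agent.Lib.H14Multicross
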