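/-
helper14: the largest submodule with nowhere dense support (for S9644):
`Kmin M = ker (M → ∏ M_p)`, `p` running over the minimal primes of `Supp M`.
-/
import Mathlib

set_option autoImplicit false
set_option linter.unusedSectionVars false
universe u

namespace Groth.Agent.Lib.H14NDSupp

open PrimeSpectrum

section
variable {R : Type u} [CommRing R] [IsNoetherianRing R] (M : Type u) [AddCommGroup M] [Module R M]
  [Module.Finite R M]

/-- kernel of `M → ∏ M_p`, `p` minimal in `Supp M`. -/
def Kmin : Submodule R M where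
  carrier := {x | ∀ p ∈ (Module.annihilator R M).minimalPrimes, ∃ s : R, s ∉ p ∧ s • x = 0}
  zero_mem' := by
    intro p hp
    exact ⟨1, (Ideal.ne_top_iff_one p).mp hp.1.1.ne_top, by simp⟩
  add_mem' := by
    intro a b ha hb p hp
    obtain ⟨s, hs, hsa⟩ := ha p hp
    obtain ⟨t, ht, htb⟩ := hb p hp
    have := hp.1.1
    refine ⟨s * t, fun h => (hp.1.1.mem_or_mem h).elim hs ht, ?_⟩
    have e1 : (s * t) • a = 0 := by rw [mul_comm, mul_smul, hsa, smul_zero]
    have e2 : (s * t) • b = 0 := by rw [mul_smul, htb, smul_zero]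
    rw [smul_add, e1, e2, add_zero]
  smul_mem' := by
    intro c a ha p hp
    obtain ⟨s, hs, hsa⟩ := ha p hp
    exact ⟨s, hs, by rw [smul_comm, hsa, smul_zero]⟩

variable {M}

lemma mem_Kmin {x : M} : x ∈ Kmin (R := R) M ↔
    ∀ p ∈ (Module.annihilator R M).minimalPrimes, ∃ s : R, s ∉ p ∧ s • x = 0 := Iff.rfl

/-- nowhere density of the support in `Supp M`. -/
def ND (K' : Submodule R M) : Prop :=
  ∀ U : Set (PrimeSpectrum R), IsOpen U → U ∩ Module.support R M ⊆ closure (Module.support R ↥K') →
    U ∩ Module.support R M = ∅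

lemma isClosed_support (N : Type u) [AddCommGroup N] [Module R N] [Module.Finite R N] :
    IsClosed (Module.support R N) := by
  rw [Module.support_eq_zeroLocus]
  exact isClosed_zeroLocus _

lemma exists_minimal_le {y : PrimeSpectrum R} (hy : y ∈ Module.support R M) :
    ∃ p ∈ (Module.annihilator R M).minimalPrimes, p ≤ y.asIdeal := by
  rw [Module.mem_support_iff_of_finite] at hy
  exact Ideal.exists_minimalPrimes_le hy

lemma nd_iff (K' : Submodule R M) : ND K' ↔ K' ≤ Kmin (R := R) M := by
  have hK'fin : Module.Finite R K' := inferInstance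
  constructor
  · intro hnd x hx p hp
    by_contra hcon
    push Not at hcon
    have hprime : p.IsPrime := hp.1.1
    set pp : PrimeSpectrum R := ⟨p, hprime⟩ with hpp
    have hppK : pp ∈ Module.support R K' := by
      rw [Module.mem_support_iff']
      refine ⟨⟨x, hx⟩, fun r hr h0 => hcon r hr ?_⟩
      have := congrArg Subtype.val h0
      simpa using this
    have hfin : ((Module.annihilator R M).minimalPrimes).Finite :=
      Ideal.finite_minimalPrimes_of_isNoetherianRing R _
    set C : Set (PrimeSpectrum R) :=
      ⋃ p' ∈ ((Module.annihilator R M).minimalPrimes \ {p}), zeroLocus (p' : Set R) with hC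
    have hCclosed : IsClosed C :=
      Set.Finite.isClosed_biUnion (hfin.subset Set.sdiff_subset) (fun p' _ => isClosed_zeroLocus _)
    have hU : IsOpen Cᶜ := hCclosed.isOpen_compl
    have hsub : Cᶜ ∩ Module.support R M ⊆ closure (Module.support R ↥K') := by
      rintro y ⟨hyC, hyM⟩
      apply subset_closure
      obtain ⟨p', hp', hle⟩ := exists_minimal_le hyM
      have : p' = p := by
        by_contra hne
        apply hyC
        simp only [hC, Set.mem_iUnion, Set.mem_sdiff, Set.mem_singleton_iff]
        exact ⟨p', ⟨hp', hne⟩, by rw [mem_zeroLocus]; exact hle⟩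
      subst this
      exact Module.mem_support_mono (p := pp) (q := y) hle hppK
    have hempty := hnd _ hU hsub
    have hmem : pp ∈ Cᶜ ∩ Module.support R M := by
      refine ⟨?_, ?_⟩
      · intro hin
        simp only [hC, Set.mem_iUnion, Set.mem_sdiff, Set.mem_singleton_iff] at hin
        obtain ⟨p', ⟨hp', hne⟩, hz⟩ := hin
        rw [mem_zeroLocus] at hz
        have hle : p' ≤ p := hz
        exact hne (le_antisymm hle (hp.2 hp'.1 hle))
      · rw [Module.mem_support_iff_of_finite]
        exact hp.1.2
    rw [hempty] at hmem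
    exact hmem
  · intro hle U hU hsub
    by_contra hne
    obtain ⟨y, hyU, hyM⟩ := Set.nonempty_iff_ne_empty.mpr hne
    obtain ⟨p', hp', hple⟩ := exists_minimal_le hyM
    have hprime : p'.IsPrime := hp'.1.1
    set pp : PrimeSpectrum R := ⟨p', hprime⟩ with hpp
    have hspec : pp ⤳ y := (PrimeSpectrum.le_iff_specializes pp y).mp hple
    have hppU : pp ∈ U := hspec.mem_open hU hyU
    have hppM : pp ∈ Module.support R M := by
      rw [Module.mem_support_iff_of_finite]; exact hp'.1.2
    have h1 := hsub ⟨hppU, hppM⟩
    rw [(isClosed_support (R := R) K').closure_eq] at h1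
    revert h1
    rw [imp_false, Module.notMem_support_iff']
    rintro ⟨x, hx⟩
    obtain ⟨s, hs, hsx⟩ := hle hx p' hp'
    exact ⟨s, hs, Subtype.ext (by simpa using hsx)⟩

lemma notMem_support_Kmin {p : Ideal R} (hp : p ∈ (Module.annihilator R M).minimalPrimes) :
    (⟨p, hp.1.1⟩ : PrimeSpectrum R) ∉ Module.support R (Kmin (R := R) M) := by
  rw [Module.notMem_support_iff']
  rintro ⟨x, hx⟩
  obtain ⟨s, hs, hsx⟩ := hx p hp
  exact ⟨s, hs, Subtype.ext (by simpa using hsx)⟩

lemma support_quot : Module.support R (M ⧸ Kmin (R := R) M) = Module.support R M := by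
  apply le_antisymm
  · exact Module.support_subset_of_surjective _ (Submodule.mkQ_surjective _)
  · intro y hy
    obtain ⟨p, hp, hle⟩ := exists_minimal_le hy
    have hppM : (⟨p, hp.1.1⟩ : PrimeSpectrum R) ∈ Module.support R M := by
      rw [Module.mem_support_iff_of_finite]; exact hp.1.2
    have hex := Module.support_of_exact (LinearMap.exact_subtype_mkQ (Kmin (R := R) M))
      (Submodule.injective_subtype _) (Submodule.mkQ_surjective _)
    rw [hex] at hppM
    rcases hppM with h | h
    · exact absurd h (notMem_support_Kmin hp)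
    · exact Module.mem_support_mono (p := ⟨p, hp.1.1⟩) (q := y) hle h

lemma ass_incomparable : ∀ p ∈ associatedPrimes R (M ⧸ Kmin (R := R) M),
    ∀ q ∈ associatedPrimes R (M ⧸ Kmin (R := R) M), p ≤ q → p = q := by
  intro p hp q hq hpq
  by_contra hne
  have hlt : p < q := lt_of_le_of_ne hpq hne
  obtain ⟨hqprime, y, hy⟩ := (isAssociatedPrime_iff).mp hq
  obtain ⟨m, rfl⟩ := Submodule.mkQ_surjective _ y
  have hpprime : p.IsPrime := IsAssociatedPrime.isPrime hp
  have hpann : Module.annihilator R M ≤ p := by
    have h1 : Module.annihilator R (M ⧸ Kmin (R := R) M) ≤ p := by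
      rw [← Submodule.annihilator_top]; exact IsAssociatedPrime.annihilator_le hp
    refine le_trans ?_ h1
    exact LinearMap.annihilator_le_of_surjective _ (Submodule.mkQ_surjective (Kmin (R := R) M))
  have hmK : m ∈ Kmin (R := R) M := by
    intro p₀ hp₀
    have hnot : ¬ q ≤ p₀ := by
      intro hqp₀
      have := hp₀.2 ⟨hpprime, hpann⟩ (hlt.le.trans hqp₀)
      exact absurd (lt_of_lt_of_le hlt hqp₀) (not_lt_of_ge this)
    obtain ⟨s, hsq, hsp₀⟩ := Set.not_subset.mp hnot
    have hsm : s • m ∈ Kmin (R := R) M := by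
      have : s ∈ (⊥ : Submodule R (M ⧸ Kmin (R := R) M)).colon {(Kmin (R := R) M).mkQ m} := by
        rw [← hy]; exact hsq
      rw [Submodule.mem_colon_singleton, Submodule.mem_bot, ← map_smul] at this
      rwa [Submodule.mkQ_apply, Submodule.Quotient.mk_eq_zero] at this
    obtain ⟨s', hs', h0⟩ := hsm p₀ hp₀
    exact ⟨s' * s, fun h => (hp₀.1.1.mem_or_mem h).elim hs' hsp₀, by rw [mul_smul, h0]⟩
  apply hqprime.ne_top
  rw [hy]
  have : (Kmin (R := R) M).mkQ m = 0 := by simpa using hmK
  rw [this]
  simp

lemma exists_pow_smul_eq_zero (f : R)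
    (hf : ∀ p ∈ associatedPrimes R M, ¬ Minimal (fun x => x ∈ associatedPrimes R M) p → f ∈ p)
    {x : M} (hx : x ∈ Kmin (R := R) M) : ∃ n : ℕ, f ^ n • x = 0 := by
  set N : Submodule R M := Submodule.span R {x} with hN
  have hNK : N ≤ Kmin (R := R) M := (Submodule.span_singleton_le_iff_mem _ _).mpr hx
  have hNfin : Module.Finite R N := inferInstance
  have hmem : f ∈ (Module.annihilator R N).radical := by
    rw [← Ideal.sInf_minimalPrimes, Ideal.mem_sInf]
    intro P hP
    have hPass : P ∈ associatedPrimes R N :=
      Module.associatedPrimes.minimalPrimes_annihilator_subset_associatedPrimes R N hP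
    have hPM : P ∈ associatedPrimes R M :=
      associatedPrimes.subset_of_injective (f := N.subtype) N.injective_subtype hPass
    apply hf P hPM
    intro hmin
    -- `P` is then minimal over `Ann M`, but lies in `Supp N ⊆ Supp K`
    have hPprime : P.IsPrime := hP.1.1
    have hPannM : Module.annihilator R M ≤ P := by
      rw [← Submodule.annihilator_top]; exact IsAssociatedPrime.annihilator_le hPM
    obtain ⟨P₀, hP₀, hle⟩ := Ideal.exists_minimalPrimes_le hPannM
    have hP₀ass : P₀ ∈ associatedPrimes R M :=
      Module.associatedPrimes.minimalPrimes_annihilator_subset_associatedPrimes R M hP₀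
    have heq : P₀ = P := le_antisymm hle (hmin.2 hP₀ass hle)
    subst heq
    -- now `P₀ ∈ Supp N`
    have hsuppN : (⟨P₀, hPprime⟩ : PrimeSpectrum R) ∈ Module.support R N := by
      rw [Module.mem_support_iff_of_finite]; exact hP.1.2
    have hsuppK : (⟨P₀, hPprime⟩ : PrimeSpectrum R) ∈ Module.support R (Kmin (R := R) M) :=
      Module.support_subset_of_injective (Submodule.inclusion hNK)
        (Submodule.inclusion_injective hNK) hsuppN
    exact notMem_support_Kmin hP₀ hsuppK
  obtain ⟨n, hn⟩ := hmem
  refine ⟨n, ?_⟩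
  have := (Module.mem_annihilator.mp hn) ⟨x, Submodule.mem_span_singleton_self x⟩
  have h2 := congrArg Subtype.val this
  simpa using h2

lemma bijective_map (f : R)
    (hf : ∀ p ∈ associatedPrimes R M, ¬ Minimal (fun x => x ∈ associatedPrimes R M) p → f ∈ p) :
    Function.Bijective (LocalizedModule.map (Submonoid.powers f) (Kmin (R := R) M).mkQ) := by
  constructor
  · rw [← LinearMap.ker_eq_bot, LinearMap.ker_eq_bot']
    intro z hz
    induction z using LocalizedModule.induction_on with
    | h m s =>
      rw [LocalizedModule.map_mk, ← LocalizedModule.zero_mk s, LocalizedModule.mk_eq] at hz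
      obtain ⟨c, hc⟩ := hz
      rw [smul_zero, smul_zero] at hc
      have hcm : ((c * s : Submonoid.powers f) : R) • m ∈ Kmin (R := R) M := by
        have : (Kmin (R := R) M).mkQ (((c * s : Submonoid.powers f) : R) • m) = 0 := by
          rw [map_smul]
          have e : ((c * s : Submonoid.powers f) : R) • (Kmin (R := R) M).mkQ m =
              c • s • (Kmin (R := R) M).mkQ m := by
            rw [Submonoid.coe_mul, mul_smul]; rfl
          rw [e]; exact hc
        rwa [Submodule.mkQ_apply, Submodule.Quotient.mk_eq_zero] at this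
      obtain ⟨n, hn⟩ := exists_pow_smul_eq_zero f hf hcm
      rw [← LocalizedModule.zero_mk s, LocalizedModule.mk_eq]
      refine ⟨⟨f ^ n, n, rfl⟩ * c, ?_⟩
      rw [smul_zero, smul_zero]
      have e : ((⟨f ^ n, n, rfl⟩ : Submonoid.powers f) * c) • s • m =
          f ^ n • ((c * s : Submonoid.powers f) : R) • m := by
        rw [Submonoid.coe_mul, mul_smul, mul_smul]; rfl
      rw [e]; exact hn
  · exact LocalizedModule.map_surjective _ _ (Submodule.mkQ_surjective _)

end

end Groth.Agent.Lib.H14NDSupp
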