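import Groth.Agent.Lib.AlgStOpenSub
import Groth.Agent.Lib.AlgStRepStack

/-!
# Open substacks from open loci, universe-polymorphic, part B (helper14)

ns `Groth.Agent.Lib.H14OpenSubPoly`.

* `repByAlgSp1_diag_iff` : universe-polymorphic form of S12765 (diagonal representable iff all maps
  from schemes are).
* `fpMap_isEquivOver_of_ess` : variant of `FpEquiv.fpMap_isEquivOver` needing only the essential
  surjectivity actually used.
* `exists_rep_transport` : transport of a representing algebraic space (with a property of its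
  structure map) along an equivalence of 2-fibre products compatible with first projections.
-/

set_option autoImplicit false
set_option linter.style.haveILetI false
set_option backward.isDefEq.respectTransparency false
set_option backward.isDefEq.respectTransparency.types false

namespace Groth.Agent.Lib.H14OpenSubPoly

open CategoryTheory CategoryTheory.Limits AlgebraicGeometry Opposite AlgSt
  Groth.Agent.Lib.FibGrpd Groth.Agent.Lib.AlgStFp Groth.Agent.Lib.AlgStEquiv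
  Groth.Agent.Lib.FpEquiv Groth.Agent.Lib.FibYoneda Groth.Agent.Lib.AlgStPtsQC2
  Groth.Agent.Lib.EquivOver Groth.Agent.Lib.SelfProd

universe v₂ w₂ v w u

variable {S : Scheme.{u}} {𝒳 : BasedCategory.{v, w} (Over S)}

/-- Universe-polymorphic form of S12765. -/
theorem repByAlgSp1_diag_iff (_h𝒳 : FibCat.IsFibGrpd 𝒳.p) :
    AlgSt.RepByAlgSp1 (FibCat.diag (FibCat.toSelf 𝒳)) ↔
      ∀ (U : Over S) (x : FibCat.overCat U ⥤ᵇ 𝒳), AlgSt.RepByAlgSp1 x := by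
  constructor
  · intro hΔ U x V y
    have h1 : AlgSt.RepByAlgSp (FibCat.fp (BasedFunctor.comp (prodSlice V U) (prodMap y x))
        (FibCat.diag (FibCat.toSelf 𝒳))) := hΔ (V ⨯ U) _
    have e1 : EquivOver (FibCat.fp (BasedFunctor.comp (prodSlice V U) (prodMap y x))
        (FibCat.diag (FibCat.toSelf 𝒳))) (FibCat.fp (prodMap y x) (FibCat.diag (FibCat.toSelf 𝒳))) :=
      fp_precomp_left (prodSlice V U) (prodSlice_isEquivOver V U) (prodMap y x) _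
    have e2 : EquivOver (FibCat.fp y x)
        (FibCat.fp (prodMap y x) (FibCat.diag (FibCat.toSelf 𝒳))) :=
      ⟨diagEquiv y x, diagEquiv_isEquivOver y x⟩
    exact repByAlgSp_of_equivOver (e1.trans e2.symm) h1
  · intro hyp W K
    let Δ := FibCat.diag (FibCat.toSelf 𝒳)
    let K₁ := splitFst K
    let K₂ := splitSnd K
    let δ := FibCat.diag (FibCat.toSelf (FibCat.overCat W))
    let q := FibCat.fpFst (prodMap K₁ K₂) Δ
    have e1 : EquivOver (FibCat.fp K Δ) (FibCat.fp (BasedFunctor.comp δ (prodMap K₁ K₂)) Δ) :=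
      fp_congr_left (splitIso K) Δ
    have e2 : EquivOver (FibCat.fp δ q) (FibCat.fp (BasedFunctor.comp δ (prodMap K₁ K₂)) Δ) :=
      fp_pasteLeft δ (prodMap K₁ K₂) Δ
    have hB : AlgSt.RepByAlgSp (FibCat.fp (prodMap K₁ K₂) Δ) :=
      repByAlgSp_of_equivOver ⟨diagEquiv K₁ K₂, diagEquiv_isEquivOver K₁ K₂⟩ (hyp W K₂ W K₁)
    obtain ⟨c₀, hc₀⟩ := isEquivOver_inv (prodSlice_isEquivOver W W)
    have hH : ∃ (H : AlgSp.Sp S) (c : FibCat.fp (FibCat.toSelf (FibCat.overCat W))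
        (FibCat.toSelf (FibCat.overCat W)) ⥤ᵇ AlgSt.ofSp H),
        FibCat.IsEquivOver c ∧ AlgSp.Representable (Limits.diag H) :=
      ⟨(AlgSp.yon S).obj (W ⨯ W), BasedFunctor.comp c₀ (AlgSt.ofOverCat (W ⨯ W)),
        isEquivOver_comp hc₀ (ofOverCat_isEquivOver (W ⨯ W)),
        (AlgSp.IsAlgSpace.yon_obj (W ⨯ W)).diag⟩
    have h3 : AlgSt.RepByAlgSp (FibCat.fp δ q) := repByAlgSp_fp (repByAlgSp_overCat W) hB hH δ q
    exact repByAlgSp_of_equivOver (e2.trans e1.symm) h3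

universe v₃ w₃ v₄ w₄ v₅ w₅ v₆ w₆ v₇ w₇

section FpMapEss

variable {C : Type u} [Category.{v} C]
variable {𝒳 : BasedCategory.{v₂, w₂} C} {𝒴 : BasedCategory.{v₃, w₃} C}
  {𝒮 : BasedCategory.{v₄, w₄} C} {𝒳' : BasedCategory.{v₅, w₅} C} {𝒴' : BasedCategory.{v₆, w₆} C}
  {𝒮' : BasedCategory.{v₇, w₇} C} {F : 𝒳 ⥤ᵇ 𝒮} {G : 𝒴 ⥤ᵇ 𝒮} {F' : 𝒳' ⥤ᵇ 𝒮'} {G' : 𝒴' ⥤ᵇ 𝒮'}
  (a : 𝒳' ⥤ᵇ 𝒳) (b : 𝒴' ⥤ᵇ 𝒴) (c : 𝒮' ⥤ᵇ 𝒮)
  (α : BasedFunctor.comp F' c ≅ BasedFunctor.comp a F)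
  (β : BasedFunctor.comp G' c ≅ BasedFunctor.comp b G)

/-- Variant of `fpMap_isEquivOver`: only the essential surjectivity actually needed. -/
theorem fpMap_isEquivOver_of_ess [a.toFunctor.Full] [a.toFunctor.Faithful]
    [b.toFunctor.Full] [b.toFunctor.Faithful] [c.toFunctor.Full] [c.toFunctor.Faithful]
    (hess : ∀ z : (FibCat.fp F G).obj, ∃ (x' : 𝒳'.obj) (e₁ : a.obj x' ≅ z.obj.fst) (y' : 𝒴'.obj)
      (e₂ : b.obj y' ≅ z.obj.snd), 𝒳.p.IsHomLift (𝟙 (𝒳.p.obj z.obj.fst)) e₁.hom ∧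
        𝒴.p.IsHomLift (𝟙 (𝒴.p.obj z.obj.snd)) e₂.hom) :
    FibCat.IsEquivOver (fpMap a b c α β) := by
  haveI := fpMap_faithful a b c α β
  haveI := fpMap_full a b c α β
  apply isEquivOver_of_ff_of_ess
  intro z
  obtain ⟨x', e₁, y', e₂, he₁, he₂⟩ := hess z
  haveI := he₁
  haveI := he₂
  have hx' : 𝒳'.p.obj x' = 𝒳.p.obj z.obj.fst := by
    rw [← a.w_obj]
    exact IsHomLift.domain_eq 𝒳.p (𝟙 (𝒳.p.obj z.obj.fst)) e₁.hom
  have hy' : 𝒴'.p.obj y' = 𝒳.p.obj z.obj.fst := by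
    rw [← b.w_obj, ← fp_snd_proj F G z]
    exact IsHomLift.domain_eq 𝒴.p (𝟙 (𝒴.p.obj z.obj.snd)) e₂.hom
  -- the isomorphism `F' x' ≅ G' y'` in `𝒮'`
  let θ : c.obj (F'.obj x') ≅ c.obj (G'.obj y') :=
    appIso α x' ≪≫ F.toFunctor.mapIso e₁ ≪≫ z.obj.iso ≪≫ (G.toFunctor.mapIso e₂).symm ≪≫
      (appIso β y').symm
  let φ : F'.obj x' ≅ G'.obj y' := c.toFunctor.preimageIso θ
  have hφ : c.map φ.hom = θ.hom := c.toFunctor.map_preimage _
  have hθ : θ.hom = (appIso α x').hom ≫ F.map e₁.hom ≫ z.obj.iso.hom ≫ G.map e₂.inv ≫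
      (appIso β y').inv := rfl
  have hθl : 𝒮.p.IsHomLift (𝟙 (𝒳'.p.obj x')) θ.hom := by
    rw [hθ, hx']
    haveI h1 : 𝒮.p.IsHomLift (𝟙 (𝒳.p.obj z.obj.fst)) (appIso α x').hom := appIso_isHomLift α hx'
    haveI h2 : 𝒮.p.IsHomLift (𝟙 (𝒳.p.obj z.obj.fst)) (F.map e₁.hom) :=
      BasedFunctor.preserves_isHomLift F _ _
    haveI h3 : 𝒮.p.IsHomLift (𝟙 (𝒳.p.obj z.obj.fst)) z.obj.iso.hom := z.property
    haveI h4' : 𝒴.p.IsHomLift (𝟙 (𝒳.p.obj z.obj.fst)) e₂.hom := by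
      rw [← fp_snd_proj F G z]; exact he₂
    haveI h4'' : 𝒴.p.IsHomLift (𝟙 (𝒳.p.obj z.obj.fst)) e₂.inv := inferInstance
    haveI h4 : 𝒮.p.IsHomLift (𝟙 (𝒳.p.obj z.obj.fst)) (G.map e₂.inv) :=
      BasedFunctor.preserves_isHomLift G _ _
    haveI h5 : 𝒮.p.IsHomLift (𝟙 (𝒳.p.obj z.obj.fst)) (appIso β y').inv :=
      appIso_inv_isHomLift β hy'
    infer_instance
  have hφl : 𝒮'.p.IsHomLift (𝟙 (𝒳'.p.obj x')) φ.hom := by
    haveI : 𝒮.p.IsHomLift (𝟙 (𝒳'.p.obj x')) (c.map φ.hom) := by rw [hφ]; exact hθl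
    exact BasedFunctor.isHomLift_map c _ _
  let w : (FibCat.fp F' G').obj := ⟨{ fst := x', snd := y', iso := φ }, hφl⟩
  have hw : F.map e₁.hom ≫ z.obj.iso.hom =
      ((fpMap a b c α β).obj w).obj.iso.hom ≫ G.map e₂.hom := by
    rw [fpMap_obj_iso_hom]
    show F.map e₁.hom ≫ z.obj.iso.hom =
      ((appIso α x').inv ≫ c.map φ.hom ≫ (appIso β y').hom) ≫ G.map e₂.hom
    rw [hφ, hθ]
    simp only [Category.assoc, Iso.inv_hom_id_assoc, Iso.inv_hom_id, Category.comp_id]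
    rw [← G.map_comp, Iso.inv_hom_id, G.map_id, Category.comp_id]
  let m : (fpMap a b c α β).obj w ⟶ z :=
    ObjectProperty.homMk { fst := e₁.hom, snd := e₂.hom, w := hw }
  have hw' : F.map e₁.inv ≫ ((fpMap a b c α β).obj w).obj.iso.hom =
      z.obj.iso.hom ≫ G.map e₂.inv := by
    have := congrArg (fun t => F.map e₁.inv ≫ t ≫ G.map e₂.inv) hw
    simp only [Category.assoc] at this
    rw [← G.map_comp, Iso.hom_inv_id, G.map_id, Category.comp_id, ← Category.assoc,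
      ← F.map_comp, Iso.inv_hom_id, F.map_id, Category.id_comp] at this
    exact this.symm
  let m' : z ⟶ (fpMap a b c α β).obj w :=
    ObjectProperty.homMk { fst := e₁.inv, snd := e₂.inv, w := hw' }
  refine ⟨w, ⟨m, m', ?_, ?_⟩, ?_⟩
  · apply ObjectProperty.hom_ext
    exact Limits.CategoricalPullback.hom_ext e₁.hom_inv_id e₂.hom_inv_id
  · apply ObjectProperty.hom_ext
    exact Limits.CategoricalPullback.hom_ext e₁.inv_hom_id e₂.inv_hom_id
  · show (FibCat.fp F G).p.IsHomLift (𝟙 (𝒳.p.obj z.obj.fst)) m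
    rw [fp_isHomLift_iff]
    exact he₁

end FpMapEss


/-- Transport of a representing space along an equivalence of 2-fibre products compatible with
the first projections. -/
theorem exists_rep_transport (P : MorphismProperty (AlgSp.Sp S)) {T : Over S}
    {𝒜 : BasedCategory.{v₂, w₂} (Over S)} {ℬ : BasedCategory.{v₃, w₃} (Over S)}
    {𝒜₂ : BasedCategory.{v₄, w₄} (Over S)} {ℬ₂ : BasedCategory.{v₅, w₅} (Over S)}
    (z : FibCat.overCat T ⥤ᵇ ℬ) (g : 𝒜 ⥤ᵇ ℬ) (z₂ : FibCat.overCat T ⥤ᵇ ℬ₂) (g₂ : 𝒜₂ ⥤ᵇ ℬ₂)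
    (c : FibCat.fp z g ⥤ᵇ FibCat.fp z₂ g₂) (hc : FibCat.IsEquivOver c)
    (hfst : BasedFunctor.comp c (FibCat.fpFst z₂ g₂) = FibCat.fpFst z g)
    (h : ∃ (F : AlgSp.Space S) (e : ofSp F.obj ⥤ᵇ FibCat.fp z₂ g₂),
      FibCat.IsEquivOver e ∧ P (spMapOfOver (BasedFunctor.comp e (FibCat.fpFst z₂ g₂)))) :
    ∃ (F : AlgSp.Space S) (e : ofSp F.obj ⥤ᵇ FibCat.fp z g),
      FibCat.IsEquivOver e ∧ P (spMapOfOver (BasedFunctor.comp e (FibCat.fpFst z g))) := by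
  obtain ⟨F, e, he, hP⟩ := h
  obtain ⟨c', ⟨η'⟩, ⟨η⟩⟩ := hc
  have hc' : FibCat.IsEquivOver c' := isEquivOver_symm c η' η
  refine ⟨F, BasedFunctor.comp e c', isEquivOver_comp he hc', ?_⟩
  have key : spMapOfOver (BasedFunctor.comp (BasedFunctor.comp e c') (FibCat.fpFst z g)) =
      spMapOfOver (BasedFunctor.comp e (FibCat.fpFst z₂ g₂)) := by
    have h1 : BasedFunctor.comp (BasedFunctor.comp e c') (FibCat.fpFst z g) =
        BasedFunctor.comp (BasedFunctor.comp e (BasedFunctor.comp c' c))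
          (FibCat.fpFst z₂ g₂) := by
      rw [← hfst]; rfl
    rw [h1]
    exact Groth.Agent.Lib.AlgStRep.spMapOfOver_congr
      (whiskerRightIso (whiskerLeftIso e η ≪≫ compIdIso e) (FibCat.fpFst z₂ g₂)).hom
  rw [key]
  exact hP

end Groth.Agent.Lib.H14OpenSubPoly
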