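import Groth.Agent.Lib.H14OpenSubPolyA
import Groth.Agent.Lib.H14OpenSubPolyB

/-!
# Open substacks from open loci, universe-polymorphic (helper14)

ns `Groth.Agent.Lib.H14OpenSubPoly`. For `𝒳 : BasedCategory.{v, w} (Over S)` in ANY universe pair.

* `atlasEquiv_isEquivOver` : `(Sch/V) ×_{𝒳_Q} (Sch/W₀) ≃ (Sch/V) ×_𝒳 (Sch/U₀)`.
* `isAlgStack_fullSub`, `isOpenSubstack_of_locus` : if `𝒳` is an fppf algebraic stack, `Q` is stable
  under pullback and for every chart `y : (Sch/U) ⟶ 𝒳` there is an open `W ⊆ U` with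
  `Q (y a) ↔ range a ⊆ W` for all `a : T ⟶ U`, then `Q` cuts out an open substack.
-/

set_option autoImplicit false
set_option linter.style.haveILetI false
set_option backward.isDefEq.respectTransparency false
set_option backward.isDefEq.respectTransparency.types false

namespace Groth.Agent.Lib.H14OpenSubPoly

open CategoryTheory CategoryTheory.Limits AlgebraicGeometry Opposite AlgSt
  Groth.Agent.Lib.FibGrpd Groth.Agent.Lib.AlgStFp Groth.Agent.Lib.AlgStEquiv
  Groth.Agent.Lib.FpEquiv Groth.Agent.Lib.FibYoneda Groth.Agent.Lib.AlgStPtsQC2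
  Groth.Agent.Lib.EquivOver

universe v w u

variable {S : Scheme.{u}} {𝒳 : BasedCategory.{v, w} (Over S)}

instance overMap_faithful {U V : Over S} (h : U ⟶ V) : (AlgSt.overMap h).toFunctor.Faithful where
  map_injective {a b} f g hfg := by
    have h2 : ((Over.map h).map f).left = ((Over.map h).map g).left := congrArg (fun m => m.left) hfg
    exact Over.OverMorphism.ext h2

theorem overMap_full_of_mono {U V : Over S} (h : U ⟶ V) [Mono h] :
    (AlgSt.overMap h).toFunctor.Full where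
  map_surjective {a b} φ := by
    have hw : φ.left ≫ (b : Over U).hom = (a : Over U).hom := by
      have h1 : φ.left ≫ ((Over.map h).obj b).hom = ((Over.map h).obj a).hom := Over.w φ
      rw [← cancel_mono h]
      simpa using h1
    exact ⟨(Over.homMk φ.left hw : (a : Over U) ⟶ b), Over.OverMorphism.ext rfl⟩

section Main

variable {Q : 𝒳.obj → Prop}

/-- The atlas comparison: `(Sch/V) ×_{𝒳_Q} (Sch/W₀) ≃ (Sch/V) ×_𝒳 (Sch/U₀)`. -/
theorem atlasEquiv_isEquivOver [FibCat.IsFibGrpd 𝒳.p] (hQ : PbStable Q) {U₀ : Over S}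
    (x₀ : FibCat.overCat U₀ ⥤ᵇ 𝒳) (W₀ : U₀.left.Opens)
    (hW₀ : ∀ a : Over U₀, Q (x₀.obj a) ↔ Set.range a.hom.left ⊆ (W₀ : Set ↥U₀.left))
    {V : Over S} (y' : FibCat.overCat V ⥤ᵇ fullSub 𝒳 Q) :
    FibCat.IsEquivOver
      (fpMap (F := BasedFunctor.comp y' (subIncl 𝒳 Q)) (G := x₀) (F' := y')
        (G' := liftSub Q (BasedFunctor.comp (AlgSt.overMap (openIncl W₀)) x₀)
          (q_overMap_openIncl x₀ W₀ hW₀))
        (BasedFunctor.id _) (AlgSt.overMap (openIncl W₀)) (subIncl 𝒳 Q)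
        (idCompIso _).symm (Iso.refl _)) := by
  haveI := overMap_full_of_mono (openIncl W₀)
  apply fpMap_isEquivOver_of_ess
  intro z
  let b₀ : Over U₀ := z.obj.snd
  have hb₀ : Q (x₀.obj b₀) := hQ z.obj.iso.inv (y'.obj z.obj.fst).property
  have hr : Set.range b₀.hom.left ⊆ Set.range W₀.ι := by
    rw [Scheme.Opens.range_ι]
    exact (hW₀ b₀).1 hb₀
  let g : b₀.left.left ⟶ W₀.toScheme := IsOpenImmersion.lift W₀.ι b₀.hom.left hr
  have hg : g ≫ W₀.ι = b₀.hom.left := IsOpenImmersion.lift_fac _ _ _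
  let g' : b₀.left ⟶ openOver W₀ := Over.homMk g (by
    show g ≫ W₀.ι ≫ U₀.hom = b₀.left.hom
    rw [← Category.assoc, hg]
    exact Over.w b₀.hom)
  let ξ : Over (openOver W₀) := Over.mk g'
  have hξ : g' ≫ openIncl W₀ = b₀.hom := Over.OverMorphism.ext hg
  let κ : (Over.map (openIncl W₀)).obj ξ ≅ b₀ := Over.isoMk (Iso.refl _) (by
    show 𝟙 _ ≫ b₀.hom = g' ≫ openIncl W₀
    rw [hξ, Category.id_comp])
  refine ⟨z.obj.fst, Iso.refl _, ξ, κ, ?_, ?_⟩
  · exact IsHomLift.id rfl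
  · show (FibCat.overCat U₀).p.IsHomLift (𝟙 _) κ.hom
    exact IsHomLift.of_fac _ _ _ rfl rfl (by simp; rfl)

/-- **Open substacks from open loci** (any universe pair): if `𝒳` is an algebraic stack, `Q` is
stable under pullback, and over every chart `y : (Sch/U) ⟶ 𝒳` the locus of `Q` is an open `W ⊆ U`
in the functorial sense, then the full subcategory on `Q` is an algebraic stack. -/
theorem isAlgStack_fullSub (h𝒳 : IsAlgStack Scheme.fppfPrecoverage 𝒳) (hQ : PbStable Q)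
    (h : ∀ (U : Over S) (y : FibCat.overCat U ⥤ᵇ 𝒳), ∃ W : U.left.Opens,
      ∀ a : Over U, Q (y.obj a) ↔ Set.range a.hom.left ⊆ (W : Set ↥U.left)) :
    IsAlgStack Scheme.fppfPrecoverage (fullSub 𝒳 Q) := by
  haveI := h𝒳.isStack.1
  have hfg : FibCat.IsFibGrpd (fullSub 𝒳 Q).p := fullSub_isFibGrpd hQ
  have ho : IsOpenImm (subIncl 𝒳 Q) := isOpenImm_subIncl_of_locus hQ h
  refine ⟨?_, ?_, ?_⟩
  · refine Groth.Agent.Lib.StkLocalTarget.isStack_of_forall_fp (subIncl 𝒳 Q) _ hfg h𝒳.isStack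
      (fun U y => ?_)
    obtain ⟨F, e, he, -⟩ := ho U y
    exact Groth.Agent.Lib.AlgStRepStack.isStack_of_repByAlgSp ⟨F, e, he⟩
  · refine (repByAlgSp1_diag_iff hfg).2 (fun U x V x' => ?_)
    have h1 : AlgSt.RepByAlgSp (FibCat.fp (BasedFunctor.comp x' (subIncl 𝒳 Q))
        (BasedFunctor.comp x (subIncl 𝒳 Q))) :=
      (repByAlgSp1_diag_iff h𝒳.isStack.1).1 h𝒳.diag U _ V _
    have hc := fpMap_isEquivOver (F := BasedFunctor.comp x' (subIncl 𝒳 Q))
      (G := BasedFunctor.comp x (subIncl 𝒳 Q)) (F' := x') (G' := x)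
      (BasedFunctor.id _) (BasedFunctor.id _) (subIncl 𝒳 Q)
      (idCompIso _).symm (idCompIso _).symm isEquivOver_id isEquivOver_id
    exact repByAlgSp_of_equivOver (EquivOver.of hc).symm h1
  · obtain ⟨U₀, x₀, hsm, hsurj⟩ := h𝒳.atlas
    obtain ⟨W₀, hW₀⟩ := h U₀ x₀
    refine ⟨openOver W₀, liftSub Q (BasedFunctor.comp (AlgSt.overMap (openIncl W₀)) x₀)
      (q_overMap_openIncl x₀ W₀ hW₀), ?_, ?_⟩
    · intro V y'
      exact exists_rep_transport _ y' _ (BasedFunctor.comp y' (subIncl 𝒳 Q)) x₀ _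
        (atlasEquiv_isEquivOver hQ x₀ W₀ hW₀ y') rfl (hsm V _)
    · intro V y'
      exact exists_rep_transport _ y' _ (BasedFunctor.comp y' (subIncl 𝒳 Q)) x₀ _
        (atlasEquiv_isEquivOver hQ x₀ W₀ hW₀ y') rfl (hsurj V _)

/-- **Open-substack criterion** (any universe pair). -/
theorem isOpenSubstack_of_locus (h𝒳 : IsAlgStack Scheme.fppfPrecoverage 𝒳) (hQ : PbStable Q)
    (h : ∀ (U : Over S) (y : FibCat.overCat U ⥤ᵇ 𝒳), ∃ W : U.left.Opens,
      ∀ a : Over U, Q (y.obj a) ↔ Set.range a.hom.left ⊆ (W : Set ↥U.left)) :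
    IsOpenSubstack 𝒳 Q Scheme.fppfPrecoverage := by
  haveI := h𝒳.isStack.1
  exact ⟨hQ.closedUnderIso, isAlgStack_fullSub h𝒳 hQ h, isOpenImm_subIncl_of_locus hQ h⟩

end Main

end Groth.Agent.Lib.H14OpenSubPoly
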