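import Groth.Agent.Lib.AlgStOpenSub
import Groth.Agent.Lib.AlgStRepStack

/-!
# Open substacks from open loci, universe-polymorphic, part A (helper14)

ns `Groth.Agent.Lib.H14OpenSubPoly`. Everything is stated for `𝒳 : BasedCategory.{v, w} (Over S)` in an
arbitrary universe pair (so it applies e.g. to `CurvSt.Curves S n`, which lives in `{u+1, u+2}`);
the constructions follow helper36's `Lib/AlgStOpenSub` (which is stated for `AlgSt.Cat S`).

* `PbStable Q`, `fullSub_isFibGrpd`, `liftSub`.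
* `chartFunctor y W hW`, `chartFunctor_isEquivOver` : `(Sch/W) ≃ (Sch/U) ×_𝒳 𝒳_Q` when `W ⊆ U` is the
  (functorial) locus of `Q` for the chart `y`.
* `isOpenImm_subIncl_of_locus` : the open-locus criterion for `IsOpenImm (subIncl 𝒳 Q)`.
-/

set_option autoImplicit false
set_option linter.style.haveILetI false
set_option backward.isDefEq.respectTransparency false
set_option backward.isDefEq.respectTransparency.types false

namespace Groth.Agent.Lib.H14OpenSubPoly

open CategoryTheory CategoryTheory.Limits AlgebraicGeometry Opposite AlgSt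
  Groth.Agent.Lib.FibGrpd Groth.Agent.Lib.AlgStFp Groth.Agent.Lib.AlgStEquiv
  Groth.Agent.Lib.FpEquiv Groth.Agent.Lib.FibYoneda Groth.Agent.Lib.AlgStPtsQC2

universe v₂ w₂ v w u

variable {S : Scheme.{u}} {𝒳 : BasedCategory.{v, w} (Over S)}

/-- `Q` is stable under pullback (in particular closed under isomorphisms). -/
def PbStable (Q : 𝒳.obj → Prop) : Prop := ∀ ⦃y' y : 𝒳.obj⦄, (y' ⟶ y) → Q y → Q y'

theorem PbStable.closedUnderIso {Q : 𝒳.obj → Prop} (hQ : PbStable Q) :
    ObjectProperty.IsClosedUnderIsomorphisms Q :=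
  ⟨fun e h => hQ e.inv h⟩

/-- The full subcategory on a pullback-stable property is fibred in groupoids. -/
theorem fullSub_isFibGrpd [FibCat.IsFibGrpd 𝒳.p] {Q : 𝒳.obj → Prop} (hQ : PbStable Q) :
    FibCat.IsFibGrpd (fullSub 𝒳 Q).p where
  exists_lift {x V} f := by
    obtain ⟨y, φ, hφ⟩ := FibCat.IsFibGrpd.exists_lift (p := 𝒳.p) (x := x.obj) f
    refine ⟨⟨y, hQ φ x.property⟩, ObjectProperty.homMk φ, ?_⟩
    exact (isHomLift_comp_iff (ObjectProperty.ι Q) 𝒳.p f _).2 hφ
  isStronglyCartesian {y x} φ := by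
    have h := FibCat.IsFibGrpd.isStronglyCartesian (p := 𝒳.p) φ.hom
    refine { toIsHomLift := inferInstance, universal_property' := ?_ }
    intro a' g φ' hφ'
    haveI hφ'' : 𝒳.p.IsHomLift (g ≫ 𝒳.p.map φ.hom) φ'.hom :=
      (isHomLift_comp_iff (ObjectProperty.ι Q) 𝒳.p _ φ').1 hφ'
    obtain ⟨χ, ⟨hχ1, hχ2⟩, huniq⟩ := h.universal_property' g φ'.hom
    refine ⟨ObjectProperty.homMk χ, ⟨(isHomLift_comp_iff (ObjectProperty.ι Q) 𝒳.p g _).2 hχ1, ?_⟩, ?_⟩
    · apply ObjectProperty.hom_ext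
      exact hχ2
    · rintro χ' ⟨h1', h2'⟩
      apply ObjectProperty.hom_ext
      exact huniq χ'.hom ⟨(isHomLift_comp_iff (ObjectProperty.ι Q) 𝒳.p g χ').1 h1',
        congrArg (fun m => m.hom) h2'⟩

/-- A functor all of whose values satisfy `Q` lifts to the full subcategory. -/
def liftSub {𝒜 : BasedCategory.{v₂, w₂} (Over S)} (Q : 𝒳.obj → Prop) (g : 𝒜 ⥤ᵇ 𝒳)
    (h : ∀ a, Q (g.obj a)) : 𝒜 ⥤ᵇ fullSub 𝒳 Q where
  toFunctor := ObjectProperty.lift Q g.toFunctor h
  w := g.w

theorem liftSub_comp_subIncl {𝒜 : BasedCategory.{v₂, w₂} (Over S)} (Q : 𝒳.obj → Prop) (g : 𝒜 ⥤ᵇ 𝒳)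
    (h : ∀ a, Q (g.obj a)) : BasedFunctor.comp (liftSub Q g h) (subIncl 𝒳 Q) = g := rfl

instance subIncl_full (Q : 𝒳.obj → Prop) : (subIncl 𝒳 Q).toFunctor.Full :=
  inferInstanceAs (ObjectProperty.ι Q).Full

instance subIncl_faithful (Q : 𝒳.obj → Prop) : (subIncl 𝒳 Q).toFunctor.Faithful :=
  inferInstanceAs (ObjectProperty.ι Q).Faithful

/-! ### The chart of the substack over a chart of `𝒳` -/

section Chart

variable [FibCat.IsFibGrpd 𝒳.p] {Q : 𝒳.obj → Prop} (hQ : PbStable Q) {U : Over S}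
  (y : FibCat.overCat U ⥤ᵇ 𝒳) (W : U.left.Opens)
  (hW : ∀ a : Over U, Q (y.obj a) ↔ Set.range a.hom.left ⊆ (W : Set ↥U.left))

include hW in
theorem q_overMap_openIncl (a : Over (openOver W)) :
    Q ((BasedFunctor.comp (AlgSt.overMap (openIncl W)) y).obj a) := by
  apply (hW ((Over.map (openIncl W)).obj a)).2
  rintro _ ⟨t, rfl⟩
  have : ((Over.map (openIncl W)).obj a).hom.left t = W.ι (a.hom.left t) := by
    simp
  rw [this]
  exact (a.hom.left t).2

/-- The comparison functor `(Sch/W) ⟶ (Sch/U) ×_𝒳 𝒳_Q`. -/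
def chartFunctor : FibCat.overCat (openOver W) ⥤ᵇ FibCat.fp y (subIncl 𝒳 Q) :=
  FibCat.fpLift (AlgSt.overMap (openIncl W))
    (liftSub Q (BasedFunctor.comp (AlgSt.overMap (openIncl W)) y)
      (q_overMap_openIncl y W hW)) (Iso.refl _)

instance openIncl_mono : Mono (openIncl W) := by
  haveI : Mono (openIncl W).left := inferInstanceAs (Mono W.ι)
  exact Over.mono_of_mono_left _

theorem chartFunctor_faithful : (chartFunctor y W hW).toFunctor.Faithful where
  map_injective {a b} f g h := by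
    have h1 : (Over.map (openIncl W)).map f = (Over.map (openIncl W)).map g :=
      congrArg (fun m => m.hom.fst) h
    have h2 : ((Over.map (openIncl W)).map f).left = ((Over.map (openIncl W)).map g).left :=
      congrArg (fun m => m.left) h1
    exact Over.OverMorphism.ext h2

theorem chartFunctor_full : (chartFunctor y W hW).toFunctor.Full where
  map_surjective {a b} φ := by
    have hw : φ.hom.fst.left ≫ (b : Over (openOver W)).hom = (a : Over (openOver W)).hom := by
      have h1 : φ.hom.fst.left ≫ ((Over.map (openIncl W)).obj b).hom =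
          ((Over.map (openIncl W)).obj a).hom := Over.w φ.hom.fst
      rw [← cancel_mono (openIncl W)]
      simpa using h1
    refine ⟨(Over.homMk φ.hom.fst.left hw : (a : Over (openOver W)) ⟶ b), ?_⟩
    apply fp_hom_ext
    · exact Over.OverMorphism.ext rfl
    · have h2 := φ.hom.w
      have h3 : ((chartFunctor y W hW).obj b).obj.iso.hom = 𝟙 _ := rfl
      have h4 : ((chartFunctor y W hW).obj a).obj.iso.hom = 𝟙 _ := rfl
      rw [h3, h4, Category.comp_id, Category.id_comp] at h2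
      apply ObjectProperty.hom_ext
      refine Eq.trans ?_ h2
      show y.map ((Over.map (openIncl W)).map (Over.homMk φ.hom.fst.left hw)) = y.map φ.hom.fst
      congr 1

include hQ in
theorem chartFunctor_isEquivOver : FibCat.IsEquivOver (chartFunctor y W hW) := by
  haveI := chartFunctor_full y W hW
  haveI := chartFunctor_faithful y W hW
  apply isEquivOver_of_ff_of_ess
  intro η
  let a : Over U := η.obj.fst
  have hpa : Q (y.obj a) := hQ η.obj.iso.hom η.obj.snd.property
  have hr : Set.range a.hom.left ⊆ Set.range W.ι := by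
    rw [Scheme.Opens.range_ι]
    exact (hW a).1 hpa
  let g : a.left.left ⟶ W.toScheme := IsOpenImmersion.lift W.ι a.hom.left hr
  have hg : g ≫ W.ι = a.hom.left := IsOpenImmersion.lift_fac _ _ _
  let g' : a.left ⟶ openOver W := Over.homMk g (by
    show g ≫ W.ι ≫ U.hom = a.left.hom
    rw [← Category.assoc, hg]
    exact Over.w a.hom)
  let ξ : Over (openOver W) := Over.mk g'
  have hξ : g' ≫ openIncl W = a.hom := Over.OverMorphism.ext hg
  let κ : (Over.map (openIncl W)).obj ξ ≅ a := Over.isoMk (Iso.refl _) (by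
    show 𝟙 _ ≫ a.hom = g' ≫ openIncl W
    rw [hξ, Category.id_comp])
  let e₂ : ((chartFunctor y W hW).obj ξ).obj.snd ≅ η.obj.snd :=
    ObjectProperty.isoMk _ (y.toFunctor.mapIso κ ≪≫ η.obj.iso)
  let e : (chartFunctor y W hW).obj ξ ≅ η :=
    fpIsoMk (z := (chartFunctor y W hW).obj ξ) (z' := η) κ e₂ (by
      show y.map κ.hom ≫ η.obj.iso.hom = 𝟙 _ ≫ (y.map κ.hom ≫ η.obj.iso.hom)
      rw [Category.id_comp])
  refine ⟨ξ, e, ?_⟩
  rw [fp_isHomLift_iff]
  show (FibCat.overCat U).p.IsHomLift (𝟙 _) κ.hom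
  exact IsHomLift.of_fac _ _ _ rfl rfl (by simp; rfl)

end Chart

/-- **Open-locus criterion**: if over every chart `y : (Sch/U) ⟶ 𝒳` the locus of `Q` is an open
`W ⊆ U` (in the strong, functorial sense), then the inclusion of the full subcategory on `Q` is an
open immersion. -/
theorem isOpenImm_subIncl_of_locus [FibCat.IsFibGrpd 𝒳.p] {Q : 𝒳.obj → Prop} (hQ : PbStable Q)
    (h : ∀ (U : Over S) (y : FibCat.overCat U ⥤ᵇ 𝒳), ∃ W : U.left.Opens,
      ∀ a : Over U, Q (y.obj a) ↔ Set.range a.hom.left ⊆ (W : Set ↥U.left)) :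
    IsOpenImm (subIncl 𝒳 Q) := by
  intro U y
  obtain ⟨W, hW⟩ := h U y
  refine ⟨⟨(AlgSp.yon S).obj (openOver W), AlgSp.IsAlgSpace.yon_obj _⟩,
    BasedFunctor.comp (toOverCat (openOver W)) (chartFunctor y W hW),
    isEquivOver_comp (toOverCat_isEquivOver _) (chartFunctor_isEquivOver hQ y W hW), ?_⟩
  have h1 : BasedFunctor.comp (BasedFunctor.comp (toOverCat (openOver W)) (chartFunctor y W hW))
      (FibCat.fpFst y _) =
      BasedFunctor.comp (ofSpMap ((AlgSp.yon S).map (openIncl W))) (toOverCat U) := rfl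
  rw [h1, Groth.Agent.Lib.AlgStSpTest.spMapOfOver_ofSpMap_toOverCat]
  exact (AlgSp.repWith_yon_map_iff @IsOpenImmersion _).2 (inferInstanceAs (IsOpenImmersion W.ι))

end Groth.Agent.Lib.H14OpenSubPoly
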