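import Groth.Agent.Lib.ElemFibBC
import Groth.Agent.Lib.ProjOfAmpleH3
import Groth.Agent.Lib.P1Curve85
import Groth.Agent.Lib.ProjSpaceProper
import Groth.Agent.Lib.ClosedAct45
import Groth.Prelude

/-!
# Finite flat covers of `P^1_S` (helper14)

ns `Groth.Agent.Lib.H14P1Fin`.

* `irreducibleSpace_projSpaceOver_field`, `fibre_eq_range`, `isConnected_fibre` : the fibres of
  `P^n_S ⟶ S` are connected; `surjective_toBase`, `isQuotientMap_toBase`,
  `preconnectedSpace_projSpaceOver`.
* `sect_toBase`, `eq_empty_of_isClopen_of_sect_notMem` : a clopen of `P^1_S` missing a coordinate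
  section is empty.
* `isClopen_image`, `eq_univ_of_isClopen` (S13906) for finite flat lfp `g : X ⟶ P^1_S`.
* `exists_mem_connectedComponent_of_isOpenMap_of_isClosedMap` (pure topology).
-/

set_option autoImplicit false
set_option linter.style.haveILetI false
universe u
open CategoryTheory CategoryTheory.Limits AlgebraicGeometry

namespace Groth.Agent.Lib.H14P1Fin

open CohB1 Groth.Agent.Lib.ElemFibBC

/-- `P^n` over the spectrum of a field is irreducible. -/
theorem irreducibleSpace_projSpaceOver_field (n : ℕ) (k : Type u) [Field k] :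
    IrreducibleSpace ↥(ProjSpaceOver n (Spec (CommRingCat.of k))) := by
  haveI : IsIntegral (ProjSpace n k) := Groth.Agent.Lib.P1Curve85.isIntegral_projSpace k n
  let e := Groth.Agent.Lib.ProjOfAmpleH3.projSpaceIso n k
  haveI : IrreducibleSpace ↥(ProjSpace n k) := inferInstance
  exact Groth.Agent.Lib.ElemFibBC.irreducibleSpace_of_surjective e.hom e.hom.continuous
    e.hom.surjective

/-- The fibres of `P^n_S ⟶ S` are the images of `P^n` over the residue fields. -/
theorem fibre_eq_range (n : ℕ) (S : Scheme.{u}) (s : S) :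
    (ProjSpaceOver.toBase n S) ⁻¹' {s} =
      Set.range (projSpaceOverMap n (S.fromSpecResidueField s)) := by
  rw [Groth.Agent.Lib.ClosedAct45.range_fst_of_isPullback
    (isPullback_projSpaceOverMap n (S.fromSpecResidueField s)), Scheme.range_fromSpecResidueField]

/-- The fibres of `P^n_S ⟶ S` are connected. -/
theorem isConnected_fibre (n : ℕ) (S : Scheme.{u}) (s : S) :
    _root_.IsConnected ((ProjSpaceOver.toBase n S) ⁻¹' {s}) := by
  rw [fibre_eq_range]
  haveI : IrreducibleSpace ↥(ProjSpaceOver n (Spec (S.residueField s))) :=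
    irreducibleSpace_projSpaceOver_field n (S.residueField s)
  exact isConnected_range (projSpaceOverMap n (S.fromSpecResidueField s)).continuous

theorem surjective_toBase (n : ℕ) (S : Scheme.{u}) :
    Function.Surjective (ProjSpaceOver.toBase n S) := by
  intro s
  obtain ⟨p, hp⟩ := (isConnected_fibre n S s).nonempty
  exact ⟨p, hp⟩

/-- `P^n_S ⟶ S` is a quotient map of topological spaces (closed and surjective). -/
theorem isQuotientMap_toBase (n : ℕ) (S : Scheme.{u}) :
    Topology.IsQuotientMap (ProjSpaceOver.toBase n S) := by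
  haveI := Groth.Agent.Lib.ProjSpaceProper.isProper_toBase n S
  exact IsClosedMap.isQuotientMap (ProjSpaceOver.toBase n S).isClosedMap
    (ProjSpaceOver.toBase n S).continuous (surjective_toBase n S)

/-- `P^n_S` is preconnected if `S` is. -/
theorem preconnectedSpace_projSpaceOver (n : ℕ) (S : Scheme.{u}) [PreconnectedSpace S] :
    PreconnectedSpace ↥(ProjSpaceOver n S) := by
  rw [preconnectedSpace_iff_connectedComponent]
  intro a
  rw [← (isQuotientMap_toBase n S).isCoinducing.preimage_connectedComponent
    (isConnected_fibre n S) a, PreconnectedSpace.connectedComponent_eq_univ, Set.preimage_univ]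

theorem sect_toBase (S : Scheme.{u}) (i : Fin (1 + 1)) :
    P1.sect S i ≫ ProjSpaceOver.toBase 1 S = 𝟙 S :=
  pullback.lift_snd _ _ _

/-- A clopen subset of `P^1_S` missing a coordinate section is empty. -/
theorem eq_empty_of_isClopen_of_sect_notMem (S : Scheme.{u}) (i : Fin (1 + 1))
    (C : Set ↥(ProjSpaceOver 1 S)) (hC : IsClopen C) (h0 : ∀ s : S, P1.sect S i s ∉ C) :
    C = ∅ := by
  by_contra hne
  obtain ⟨p, hp⟩ := Set.nonempty_iff_ne_empty.mpr hne
  have hfib := (isConnected_fibre 1 S (ProjSpaceOver.toBase 1 S p)).isPreconnected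
  have hsub : (ProjSpaceOver.toBase 1 S) ⁻¹' {ProjSpaceOver.toBase 1 S p} ⊆ C :=
    hfib.subset_isClopen hC ⟨p, rfl, hp⟩
  have hmem : P1.sect S i (ProjSpaceOver.toBase 1 S p) ∈
      (ProjSpaceOver.toBase 1 S) ⁻¹' {ProjSpaceOver.toBase 1 S p} := by
    show ProjSpaceOver.toBase 1 S (P1.sect S i (ProjSpaceOver.toBase 1 S p)) = _
    rw [← Scheme.Hom.comp_apply, sect_toBase]
    rfl
  exact h0 _ (hsub hmem)

/-- For an open and closed map with finite fibres onto a preconnected space, every connected
component of the source surjects onto the target. -/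
theorem exists_mem_connectedComponent_of_isOpenMap_of_isClosedMap {X P : Type*}
    [TopologicalSpace X] [TopologicalSpace P]
    [PreconnectedSpace P] (f : X → P) (hcl : IsClosedMap f) (hop : IsOpenMap f)
    (hfin : ∀ p, (f ⁻¹' {p}).Finite) (x : X) (p : P) : ∃ y ∈ connectedComponent x, f y = p := by
  classical
  set F : Set X := f ⁻¹' {f x} with hF
  -- a clopen missing `F` is empty
  have key : ∀ U : Set X, IsClopen U → U ∩ F = ∅ → U = ∅ := by
    intro U hU hUF
    by_contra hne
    have hne' : (f '' U).Nonempty := (Set.nonempty_iff_ne_empty.mpr hne).image f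
    have hcl' : IsClopen (f '' U) := ⟨hcl _ hU.1, hop _ hU.2⟩
    have huniv : f '' U = Set.univ := hcl'.eq_univ hne'
    have : f x ∈ f '' U := by rw [huniv]; trivial
    obtain ⟨u, hu, hux⟩ := this
    have : u ∈ U ∩ F := ⟨hu, hux⟩
    rw [hUF] at this
    exact this
  -- clopens are determined by their trace on `F`
  have hinj : Set.InjOn (fun U : Set X => U ∩ F) {U | IsClopen U} := by
    intro U hU U' hU' h
    simp only at h
    have h1 : U \ U' = ∅ := key _ (hU.diff hU') (by
      ext z
      simp only [Set.mem_inter_iff, Set.mem_sdiff, Set.mem_empty_iff_false, iff_false]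
      rintro ⟨⟨hz, hz'⟩, hzF⟩
      have : z ∈ U ∩ F := ⟨hz, hzF⟩
      rw [h] at this
      exact hz' this.1)
    have h2 : U' \ U = ∅ := key _ (hU'.diff hU) (by
      ext z
      simp only [Set.mem_inter_iff, Set.mem_sdiff, Set.mem_empty_iff_false, iff_false]
      rintro ⟨⟨hz, hz'⟩, hzF⟩
      have : z ∈ U' ∩ F := ⟨hz, hzF⟩
      rw [← h] at this
      exact hz' this.1)
    exact Set.Subset.antisymm (Set.sdiff_eq_empty.mp h1) (Set.sdiff_eq_empty.mp h2)
  have hfinC : {U : Set X | IsClopen U}.Finite := by
    refine Set.Finite.of_finite_image ?_ hinj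
    refine ((hfin (f x)).finite_subsets).subset ?_
    rintro _ ⟨U, -, rfl⟩
    exact Set.inter_subset_right
  set 𝒰 : Set (Set X) := {U | IsClopen U ∧ x ∈ U} with h𝒰
  have h𝒰fin : 𝒰.Finite := hfinC.subset fun U hU => hU.1
  set D : Set X := ⋂₀ 𝒰 with hD
  have hDclosed : IsClosed D := isClosed_sInter fun U hU => hU.1.1
  have hDopen : IsOpen D := h𝒰fin.isOpen_sInter fun U hU => hU.1.2
  have hxD : x ∈ D := Set.mem_sInter.mpr fun U hU => hU.2
  have hDpre : IsPreconnected D := by
    rw [isPreconnected_iff_subset_of_fully_disjoint_closed hDclosed]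
    intro A B hA hB hAB hdis
    have hAD : IsClopen (A ∩ D) := by
      refine ⟨hA.inter hDclosed, ?_⟩
      have : A ∩ D = D ∩ Bᶜ := by
        ext z
        constructor
        · rintro ⟨hzA, hzD⟩
          exact ⟨hzD, fun hzB => Set.disjoint_left.mp hdis hzA hzB⟩
        · rintro ⟨hzD, hzB⟩
          rcases hAB hzD with h | h
          · exact ⟨h, hzD⟩
          · exact absurd h hzB
      rw [this]
      exact hDopen.inter hB.isOpen_compl
    have hBD : IsClopen (B ∩ D) := by
      refine ⟨hB.inter hDclosed, ?_⟩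
      have : B ∩ D = D ∩ Aᶜ := by
        ext z
        constructor
        · rintro ⟨hzB, hzD⟩
          exact ⟨hzD, fun hzA => Set.disjoint_left.mp hdis hzA hzB⟩
        · rintro ⟨hzD, hzA⟩
          rcases hAB hzD with h | h
          · exact absurd h hzA
          · exact ⟨h, hzD⟩
      rw [this]
      exact hDopen.inter hA.isOpen_compl
    rcases hAB hxD with hxA | hxB
    · left
      have : D ⊆ A ∩ D := Set.sInter_subset_of_mem ⟨hAD, hxA, hxD⟩
      exact this.trans Set.inter_subset_left
    · right
      have : D ⊆ B ∩ D := Set.sInter_subset_of_mem ⟨hBD, hxB, hxD⟩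
      exact this.trans Set.inter_subset_left
  have hDsub : D ⊆ connectedComponent x := hDpre.subset_connectedComponent hxD
  have hfD : f '' D = Set.univ :=
    (show IsClopen (f '' D) from ⟨hcl _ hDclosed, hop _ hDopen⟩).eq_univ ⟨f x, x, hxD, rfl⟩
  have : p ∈ f '' D := by rw [hfD]; trivial
  obtain ⟨y, hy, rfl⟩ := this
  exact ⟨y, hDsub hy, rfl⟩

section Finite

variable {S X : Scheme.{u}} (g : X ⟶ ProjSpaceOver 1 S) [IsFinite g] [Flat g]
  [LocallyOfFinitePresentation g]

include g in
/-- The image of a clopen set under a finite flat lfp morphism is clopen. -/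
theorem isClopen_image {W : Set X} (hW : IsClopen W) : IsClopen (g '' W) :=
  ⟨g.isClosedMap _ hW.1, g.isOpenMap _ hW.2⟩

/-- (S13906) A clopen subset of `X` containing the preimage of the zero section is everything. -/
theorem eq_univ_of_isClopen (W : Set X) (hW : IsClopen W)
    (h0 : ∀ x : X, g x ∈ Set.range (P1.sect S 0) → x ∈ W) : W = Set.univ := by
  have hC : IsClopen (g '' Wᶜ) := isClopen_image g hW.compl
  have hempty := eq_empty_of_isClopen_of_sect_notMem S 0 _ hC (by
    rintro s ⟨x, hx, hxs⟩
    exact hx (h0 x ⟨s, hxs.symm⟩))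
  rw [Set.image_eq_empty] at hempty
  exact Set.compl_empty_iff.mp hempty

end Finite

end Groth.Agent.Lib.H14P1Fin
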