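/-
helper14: power series over a Noetherian integrally closed domain are integrally closed (S6299).

* `lc` : lowest coefficient, a monoid hom `A⟦X⟧ →* A` for a domain `A`.
* `isAlmostIntegral_lc`, `coeff_mem_range` : the coefficients of a power series over `K = Frac R`
  which is almost integral over `R⟦X⟧` lie in `R` (`R` Noetherian integrally closed).
* `isIntegrallyClosed_powerSeries`.
-/
import Mathlib

set_option autoImplicit false
set_option linter.style.haveILetI false
set_option linter.unusedSectionVars false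
open PowerSeries
open scoped nonZeroDivisors

namespace Groth.Agent.Lib.H14PSNormal

section lc
variable {A : Type*} [CommRing A] [IsDomain A]

/-- The lowest nonzero coefficient of a power series over a domain, as a monoid hom. -/
noncomputable def lc : A⟦X⟧ →* A :=
  ((constantCoeff (R := A) : A⟦X⟧ →+* A) : A⟦X⟧ →* A).comp divXPowOrderHom

lemma lc_apply (f : A⟦X⟧) : lc f = coeff f.order.toNat f := constantCoeff_divXPowOrder

lemma lc_eq_zero_iff {f : A⟦X⟧} : lc f = 0 ↔ f = 0 := constantCoeff_divXPowOrder_eq_zero_iff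

lemma lc_eq_coeff_of_order_eq {f : A⟦X⟧} {n : ℕ} (h : f.order = n) : lc f = coeff n f := by
  rw [lc_apply, h]
  rfl

end lc

section map
variable {R K : Type*} [CommRing R] [IsDomain R] [Field K] [Algebra R K] [FaithfulSMul R K]

lemma order_map (f : R⟦X⟧) : (f.map (algebraMap R K)).order = f.order := by
  apply le_antisymm
  · by_cases hf : f = 0
    · simp [hf]
    · have h1 := coeff_order hf
      have h2 : coeff f.order.toNat (f.map (algebraMap R K)) ≠ 0 := by
        rw [coeff_map]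
        exact (map_ne_zero_iff _ (FaithfulSMul.algebraMap_injective R K)).mpr h1
      calc (f.map (algebraMap R K)).order ≤ (f.order.toNat : ℕ∞) := order_le _ h2
        _ = f.order := ENat.natCast_toNat (order_eq_top.not.mpr hf)
  · exact le_order_map _

lemma lc_map (f : R⟦X⟧) : lc (f.map (algebraMap R K)) = algebraMap R K (lc f) := by
  rw [lc_apply, lc_apply, order_map, coeff_map]

lemma isAlmostIntegral_lc {q : K⟦X⟧} (hq : IsAlmostIntegral R⟦X⟧ q) :
    IsAlmostIntegral R (lc q) := by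
  obtain ⟨d, hd, hd'⟩ := hq
  have hd0 : d ≠ 0 := nonZeroDivisors.ne_zero hd
  refine ⟨lc d, ?_, fun n => ?_⟩
  · rw [mem_nonZeroDivisors_iff_ne_zero]
    exact fun h => hd0 (lc_eq_zero_iff.mp h)
  · obtain ⟨c, hc⟩ := hd' n
    refine ⟨lc c, ?_⟩
    have h1 := congrArg lc hc
    rw [Algebra.smul_def, algebraMap_apply'', algebraMap_apply'', map_mul, lc_map, lc_map,
      map_pow] at h1
    rw [Algebra.smul_def]
    exact h1

variable [IsNoetherianRing R] [IsIntegrallyClosed R] [IsFractionRing R K]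

lemma coeff_mem_range {q : K⟦X⟧} (hq : IsAlmostIntegral R⟦X⟧ q) (i : ℕ) :
    coeff i q ∈ (algebraMap R K).range := by
  induction i using Nat.strong_induction_on with | h i IH =>
  choose! w hw using fun j (hj : j < i) => IH j hj
  let W : R⟦X⟧ := PowerSeries.mk fun j => if j < i then w j else 0
  have hW : ∀ j, coeff j (algebraMap R⟦X⟧ K⟦X⟧ W) = if j < i then coeff j q else 0 := by
    intro j
    rw [algebraMap_apply'', coeff_map, coeff_mk]
    split_ifs with hj
    · exact hw j hj
    · exact map_zero _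
  have hq' : IsAlmostIntegral R⟦X⟧ (q - algebraMap R⟦X⟧ K⟦X⟧ W) :=
    (completeIntegralClosure R⟦X⟧ K⟦X⟧).sub_mem hq
      ((completeIntegralClosure R⟦X⟧ K⟦X⟧).algebraMap_mem W)
  have hlow : ∀ j < i, coeff j (q - algebraMap R⟦X⟧ K⟦X⟧ W) = 0 := by
    intro j hj
    rw [map_sub, hW, if_pos hj, sub_self]
  have hi : coeff i (q - algebraMap R⟦X⟧ K⟦X⟧ W) = coeff i q := by
    rw [map_sub, hW, if_neg (lt_irrefl i), sub_zero]
  by_cases h0 : coeff i (q - algebraMap R⟦X⟧ K⟦X⟧ W) = 0
  · rw [← hi, h0]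
    exact zero_mem _
  · have hord : (q - algebraMap R⟦X⟧ K⟦X⟧ W).order = i := order_eq_nat.mpr ⟨h0, hlow⟩
    have h1 := isAlmostIntegral_lc hq'
    rw [lc_eq_coeff_of_order_eq hord, hi] at h1
    have h2 : IsIntegral R (coeff i q) := h1.isIntegral
    exact IsIntegrallyClosed.isIntegral_iff.mp h2

end map

section main

variable (R : Type*) [CommRing R] [IsDomain R] [IsNoetherianRing R] [IsIntegrallyClosed R]

/-- Power series over a Noetherian integrally closed domain form an integrally closed domain. -/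
theorem isIntegrallyClosed_powerSeries : IsIntegrallyClosed R⟦X⟧ := by
  let K := FractionRing R
  let ι := algebraMap R K
  have hι : Function.Injective ι := IsFractionRing.injective R K
  have hφinj : Function.Injective (PowerSeries.map ι) := by
    intro f g hfg
    ext n
    apply hι
    rw [← coeff_map, ← coeff_map, hfg]
  rw [isIntegrallyClosed_iff (FractionRing R⟦X⟧)]
  intro x hx
  obtain ⟨d, hd, hd'⟩ := hx.isAlmostIntegral
  obtain ⟨a, b, rfl⟩ := IsLocalization.exists_mk'_eq (R⟦X⟧)⁰ x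
  have hd0 : d ≠ 0 := nonZeroDivisors.ne_zero hd
  have hb0 : (b : R⟦X⟧) ≠ 0 := nonZeroDivisors.ne_zero b.2
  -- the relations `c_n b^n = d a^n`
  have key : ∀ n : ℕ, ∃ c : R⟦X⟧, c * (b : R⟦X⟧) ^ n = d * a ^ n := by
    intro n
    obtain ⟨c, hc⟩ := hd' n
    refine ⟨c, ?_⟩
    apply IsFractionRing.injective R⟦X⟧ (FractionRing R⟦X⟧)
    rw [map_mul, map_mul, hc, Algebra.smul_def, map_pow, map_pow, mul_assoc, ← mul_pow,
      IsLocalization.mk'_spec]
  by_cases ha0 : a = 0
  · refine ⟨0, ?_⟩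
    rw [ha0, map_zero, IsLocalization.mk'_zero]
  choose c hc using key
  -- orders
  have hoa : a.order ≠ ⊤ := order_eq_top.not.mpr ha0
  have hob : (b : R⟦X⟧).order ≠ ⊤ := order_eq_top.not.mpr hb0
  have hod : d.order ≠ ⊤ := order_eq_top.not.mpr hd0
  obtain ⟨oa, hoa'⟩ := ENat.ne_top_iff_exists.mp hoa
  obtain ⟨ob, hob'⟩ := ENat.ne_top_iff_exists.mp hob
  obtain ⟨od, hod'⟩ := ENat.ne_top_iff_exists.mp hod
  have hle : ob ≤ oa := by
    by_contra hlt
    push Not at hlt
    have h1 := congrArg order (hc (od + 1))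
    rw [order_mul, order_mul, order_pow, order_pow, ← hoa', ← hob', ← hod'] at h1
    have hc0 : c (od + 1) ≠ 0 := by
      intro h0
      have := hc (od + 1)
      rw [h0, zero_mul] at this
      exact mul_ne_zero hd0 (pow_ne_zero _ ha0) this.symm
    obtain ⟨oc, hoc'⟩ := ENat.ne_top_iff_exists.mp (order_eq_top.not.mpr hc0)
    rw [← hoc', nsmul_eq_mul, nsmul_eq_mul] at h1
    have h2 : oc + (od + 1) * ob = od + (od + 1) * oa := by exact_mod_cast h1
    nlinarith
  -- divisibility in `K⟦X⟧`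
  let φ : R⟦X⟧ →+* K⟦X⟧ := PowerSeries.map ι
  have hφb0 : φ b ≠ 0 := fun h => hb0 (hφinj (by rw [h, map_zero]))
  have hordb : (φ b).order = ob := by rw [order_map, ← hob']
  have horda : (φ a).order = oa := by rw [order_map, ← hoa']
  have hub : IsUnit (divXPowOrder (φ b)) := by
    rw [isUnit_iff_constantCoeff, isUnit_iff_ne_zero]
    exact fun h => hφb0 (constantCoeff_divXPowOrder_eq_zero_iff.mp h)
  obtain ⟨u, hu⟩ := hub
  let p : K⟦X⟧ := X ^ (oa - ob) * divXPowOrder (φ a) * ((u⁻¹ : K⟦X⟧ˣ) : K⟦X⟧)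
  have hp : φ a = φ b * p := by
    have h1 : φ a = X ^ oa * divXPowOrder (φ a) := by
      conv_lhs => rw [← X_pow_order_mul_divXPowOrder (f := φ a), horda]
      rfl
    have h2 : φ b = X ^ ob * (u : K⟦X⟧) := by
      conv_lhs => rw [← X_pow_order_mul_divXPowOrder (f := φ b), hordb, ← hu]
      rfl
    rw [h2, h1]
    have h3 : (X : K⟦X⟧) ^ oa = X ^ ob * X ^ (oa - ob) := by
      rw [← pow_add, Nat.add_sub_cancel' hle]
    rw [h3]
    have h4 : (u : K⟦X⟧) * ((u⁻¹ : K⟦X⟧ˣ) : K⟦X⟧) = 1 := Units.mul_inv u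
    calc X ^ ob * X ^ (oa - ob) * divXPowOrder (φ a)
        = X ^ ob * X ^ (oa - ob) * divXPowOrder (φ a) * ((u : K⟦X⟧) * ((u⁻¹ : K⟦X⟧ˣ) : K⟦X⟧)) := by
          rw [h4, mul_one]
      _ = X ^ ob * (u : K⟦X⟧) * (X ^ (oa - ob) * divXPowOrder (φ a) * ((u⁻¹ : K⟦X⟧ˣ) : K⟦X⟧)) := by ring
  -- `p` is almost integral
  have hpai : IsAlmostIntegral R⟦X⟧ p := by
    refine ⟨d, hd, fun n => ⟨c n, ?_⟩⟩
    rw [Algebra.smul_def, algebraMap_apply'', algebraMap_apply'']
    have h1 := congrArg φ (hc n)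
    rw [map_mul, map_mul, map_pow, map_pow, hp, mul_pow] at h1
    have h2 : φ (c n) * φ b ^ n = (φ d * p ^ n) * φ b ^ n := by rw [h1]; ring
    exact mul_right_cancel₀ (pow_ne_zero n hφb0) h2
  -- hence has coefficients in `R`
  choose y hy using fun i => coeff_mem_range (R := R) (K := K) hpai i
  have hY : φ (PowerSeries.mk y) = p := by
    ext i
    rw [show φ (PowerSeries.mk y) = PowerSeries.map ι (PowerSeries.mk y) from rfl, coeff_map,
      coeff_mk]
    exact hy i
  refine ⟨PowerSeries.mk y, ?_⟩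
  symm
  rw [IsLocalization.mk'_eq_iff_eq_mul, ← map_mul]
  congr 1
  apply hφinj
  show φ a = φ (PowerSeries.mk y * b)
  rw [map_mul, hY, hp, mul_comm]

end main

end Groth.Agent.Lib.H14PSNormal
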