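import Groth.Agent.Lib.SeqDescSch

/-!
# Descent of regular immersions along flat surjective OPEN morphisms (helper14)

The fpqc descent theorems of `SeqDescSch` / `LCIDescentSch` (helper32) assume the covering morphism quasi-compact.
For an étale surjective (more generally flat, surjective and open) morphism quasi-compactness is not needed: the
preimage of an affine open is covered by finitely many affine opens whose images cover it.

* `exists_finite_affine_cover`: that finite cover.
* `exists_pchart_of_baseChange_open`, `lciHom_appLE_of_baseChange_open`: the chart-level statements.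
* `isRegularImmersion_of_baseChange_open`: descent of regular immersions of kind Koszul, `H_1`, quasi along a flat
  surjective open morphism.
-/

set_option autoImplicit false
universe u
open CategoryTheory CategoryTheory.Limits AlgebraicGeometry TopologicalSpace

attribute [local instance] HasDerivedCategory.standard

namespace Groth.Agent.Lib.H14RegImmEtDesc

open Groth.Agent.Lib.SeqDesc Groth.Agent.Lib.SeqDescPi Groth.Agent.Lib.KRegImm
  Groth.Agent.Lib.KoszulImmPerfect Groth.Agent.Lib.LCIDescentSch Groth.Agent.Lib.SeqDescSch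
  Groth.Agent.Lib.LCIMaps Groth.Agent.Lib.LCIComp Groth.Agent.Lib.KoszulIdeal

/-- A finite affine cover of the preimage of an affine open under an open surjective morphism, in the form
needed for descent. -/
theorem exists_finite_affine_cover {X' X : Scheme.{u}} (g : X' ⟶ X) (hopen : IsOpenMap g)
    [Surjective g] (U : X.Opens) (hU : IsAffineOpen U) :
    ∃ (n : ℕ) (W : Fin n → X'.Opens), (∀ j, IsAffineOpen (W j)) ∧ (∀ j, W j ≤ g ⁻¹ᵁ U) ∧
      ∀ x ∈ U, ∃ j, ∃ x' ∈ W j, g x' = x := by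
  classical
  -- for every point of `U` an affine open of `g⁻¹ U` hitting it
  have hex : ∀ x : U, ∃ W : X'.Opens, IsAffineOpen W ∧ W ≤ g ⁻¹ᵁ U ∧ ∃ x' ∈ W, g x' = x.1 := by
    intro x
    obtain ⟨x', hx'⟩ := g.surjective x.1
    have hmem : x' ∈ g ⁻¹ᵁ U := by
      show g x' ∈ U
      rw [hx']; exact x.2
    obtain ⟨W, hW, hxW, hle⟩ := Opens.isBasis_iff_nbhd.mp X'.isBasis_affineOpens hmem
    exact ⟨W, hW, hle, x', hxW, hx'⟩
  choose W hW hle hpt using hex
  have hcov : (U : Set X) ⊆ ⋃ x : U, g '' (W x : Set X') := by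
    intro x hx
    obtain ⟨x', hx'W, hx'⟩ := hpt ⟨x, hx⟩
    exact Set.mem_iUnion.mpr ⟨⟨x, hx⟩, x', hx'W, hx'⟩
  obtain ⟨t, ht⟩ := hU.isCompact.elim_finite_subcover (fun x : U => g '' (W x : Set X'))
    (fun x => hopen _ (W x).isOpen) hcov
  let e : Fin t.card ≃ t := t.equivFin.symm
  refine ⟨t.card, fun j => W (e j).1, fun j => hW _, fun j => hle _, fun x hx => ?_⟩
  obtain ⟨y, hy⟩ := Set.mem_iUnion.mp (ht hx)
  obtain ⟨hyt, x', hx'W, hx'⟩ := Set.mem_iUnion.mp hy
  refine ⟨e.symm ⟨y, hyt⟩, x', ?_, hx'⟩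
  show x' ∈ W (e (e.symm ⟨y, hyt⟩)).1
  rw [Equiv.apply_symm_apply]
  exact hx'W


variable {Φ : SeqProp.{u}}

/-- descent of the chart condition for immersions along a flat surjective OPEN morphism (no quasi-compactness) -/
theorem exists_pchart_of_baseChange_open {X Y X' Y' : Scheme.{u}} (i : Y ⟶ X)
    [IsImmersion i] (g : X' ⟶ X) [Flat g] [Surjective g] (hopen : IsOpenMap g)
    (i' : Y' ⟶ X') (g' : Y' ⟶ Y) (hsq : IsPullback g' i' i g)
    (hi' : ∀ z : Y', ∃ (U : X'.Opens) (d : ℕ), i' z ∈ U ∧ PChart Φ i' U d) (y : Y) :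
    ∃ (U : X.Opens) (d : ℕ), i y ∈ U ∧ PChart Φ i U d := by
  obtain ⟨U, hyU, hcl⟩ := Groth.Agent.Lib.ImmersionLocal.exists_affine_isClosedImmersion_restrict i y
  have hK : LocGen Φ (RingHom.ker (i.app U.1).hom) := by
    obtain ⟨n, W, hW, hle, hcov⟩ := exists_finite_affine_cover g hopen U.1 U.2
    refine locGen_of_family (fun j => Γ(X', W j)) (fun j => (g.appLE U.1 (W j) (hle j)).hom)
      (fun j => g.flat_appLE U.2 (hW j) (hle j)) ?_ _ (fun j => ?_)
    · intro 𝔭
      obtain ⟨x, hx⟩ : ∃ x : U.1, U.2.primeIdealOf x = 𝔭 :=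
        ⟨U.2.isoSpec.inv 𝔭, by
          show U.2.isoSpec.hom (U.2.isoSpec.inv 𝔭) = 𝔭
          rw [← Scheme.Hom.comp_apply, Iso.inv_hom_id]
          rfl⟩
      obtain ⟨j, x', hmem, hx'⟩ := hcov x.1 x.2
      refine ⟨j, (hW _).primeIdealOf ⟨x', hmem⟩, ?_⟩
      rw [IsAffineOpen.comap_primeIdealOf_appLE U.1 U.2 _ (hW _) (hle _), ← hx]
      congr 1
      exact Subtype.ext hx'
    · obtain ⟨hclW, -, hker⟩ :=
        Groth.Agent.Lib.RegImmFlatBC.chart_baseChange hsq U.2 hcl (hW j) (hle j)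
      rw [← hker]
      exact locGen_ker_app i' hi' (W j) (hW j)
  exact exists_pchart_of_locGen i U.1 U.2 hK y hyU

/-- descent of regular immersions of a kind given by a `SeqProp` along a flat surjective open morphism -/
theorem isRegularImmersion_of_baseChange_open' {k : RegImm.Kind} (hk : KindProp k Φ)
    {X Y X' Y' : Scheme.{u}} (i : Y ⟶ X)
    [IsImmersion i] (g : X' ⟶ X) [Flat g] [Surjective g] (hopen : IsOpenMap g)
    (i' : Y' ⟶ X') (g' : Y' ⟶ Y) (hsq : IsPullback g' i' i g)
    (hi' : RegImm.IsRegularImmersion k i') : RegImm.IsRegularImmersion k i := by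
  refine ⟨inferInstance, fun y => ?_⟩
  rw [isRegularImmersionAt_iff hk]
  refine exists_pchart_of_baseChange_open i g hopen i' g' hsq (fun z => ?_) y
  rw [← isRegularImmersionAt_iff hk]
  exact hi'.2 z

/-- scheme-level descent of lci ring maps for an affine pair along a flat surjective open morphism -/
theorem lciHom_appLE_of_baseChange_open {X S X' S' : Scheme.{u}} (f : X ⟶ S) (f' : X' ⟶ S')
    (g' : X' ⟶ X) (g : S' ⟶ S) [Flat g] [Surjective g] (hopen : IsOpenMap g)
    (hc : IsPullback g' f' f g) (U : X.Opens) (V : S.Opens) (hU : IsAffineOpen U)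
    (hV : IsAffineOpen V) (hUV : U ≤ f ⁻¹ᵁ V)
    (H : ∀ W : S'.Opens, IsAffineOpen W → W ≤ g ⁻¹ᵁ V →
      LCIHom (f'.appLE W (g' ⁻¹ᵁ U ⊓ f' ⁻¹ᵁ W) inf_le_right).hom) :
    LCIHom (f.appLE V U hUV).hom := by
  obtain ⟨n, W, hW, hle, hcov⟩ := exists_finite_affine_cover g hopen V hV
  let U' : Fin n → X'.Opens := fun i => g' ⁻¹ᵁ U ⊓ f' ⁻¹ᵁ (W i)
  have hpo : ∀ i, IsPushout (f.appLE V U hUV) (g.appLE V (W i) (hle i))
      (g'.appLE U (U' i) inf_le_left) (f'.appLE (W i) (U' i) inf_le_right) := fun i =>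
    (isIso_pushoutSection_iff hc (hle i) hUV rfl).mp
      (isIso_pushoutSection_of_isAffineOpen hc (hle i) hUV rfl hV (hW i) hU)
  refine Groth.Agent.Lib.LCIDescent.lciHom_of_family (f.appLE V U hUV).hom
    (fun i => Γ(S', W i)) (fun i => Γ(X', U' i))
    (fun i => (g.appLE V (W i) (hle i)).hom) (fun i => (g'.appLE U (U' i) inf_le_left).hom)
    (fun i => (f'.appLE (W i) (U' i) inf_le_right).hom) (fun i => hpo i)
    (fun i => g.flat_appLE hV (hW i) (hle i)) ?_
    (fun i => H (W i) (hW i) (hle i))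
  intro 𝔭
  obtain ⟨y, hy⟩ : ∃ y : V, hV.primeIdealOf y = 𝔭 :=
    ⟨hV.isoSpec.inv 𝔭, by
      show hV.isoSpec.hom (hV.isoSpec.inv 𝔭) = 𝔭
      rw [← Scheme.Hom.comp_apply, Iso.inv_hom_id]
      rfl⟩
  obtain ⟨j, y', hmem, hy'⟩ := hcov y.1 y.2
  refine ⟨j, (hW _).primeIdealOf ⟨y', hmem⟩, ?_⟩
  rw [IsAffineOpen.comap_primeIdealOf_appLE V hV _ (hW _) (hle _), ← hy]
  congr 1
  exact Subtype.ext hy'

/-- descent of Koszul-regular immersions along a flat surjective open morphism -/
theorem isRegularImmersion_koszul_of_baseChange_open {X Y X' Y' : Scheme.{u}} (i : Y ⟶ X)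
    [IsImmersion i] (g : X' ⟶ X) [Flat g] [Surjective g] (hopen : IsOpenMap g)
    (i' : Y' ⟶ X') (g' : Y' ⟶ Y) (hsq : IsPullback g' i' i g)
    (hi' : RegImm.IsRegularImmersion .koszul i') : RegImm.IsRegularImmersion .koszul i := by
  rw [isRegularImmersion_koszul_iff]
  refine ⟨inferInstance, fun y => ?_⟩
  obtain ⟨U, hyU, hcl⟩ := Groth.Agent.Lib.ImmersionLocal.exists_affine_isClosedImmersion_restrict i y
  have hV : IsAffineOpen (i ⁻¹ᵁ U.1) :=
    isAffineOpen_preimage_of_isClosedImmersion_restrict i U.1 U.2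
  have hK : LCI.IsKoszulRegularIdeal (RingHom.ker (i.app U.1).hom) := by
    rw [← lciHom_iff_ker_of_surjective _ (app_surjective_of_isClosedImmersion_restrict i U.1 U.2),
      Scheme.Hom.app_eq_appLE]
    refine lciHom_appLE_of_baseChange_open i i' g' g hopen hsq (i ⁻¹ᵁ U.1) U.1 hV U.2 le_rfl ?_
    intro W hW hWle
    have hopen' : i' ⁻¹ᵁ W = g' ⁻¹ᵁ (i ⁻¹ᵁ U.1) ⊓ i' ⁻¹ᵁ W := by
      refine le_antisymm (le_inf ?_ le_rfl) inf_le_right
      intro z hz
      show i (g' z) ∈ U.1
      rw [← Scheme.Hom.comp_apply, hsq.w, Scheme.Hom.comp_apply]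
      exact hWle hz
    have hclW : IsClosedImmersion (i' ∣_ W) := by
      have hpb := Scheme.Hom.isPullback_resLE hsq hWle (le_refl (i ⁻¹ᵁ U.1)) hopen'
      have h1 : IsClosedImmersion (i.resLE U.1 (i ⁻¹ᵁ U.1) le_rfl) := by
        rw [Scheme.Hom.resLE_eq_morphismRestrict]
        exact hcl
      have h2 := MorphismProperty.of_isPullback (P := @IsClosedImmersion) hpb h1
      rwa [Scheme.Hom.resLE_eq_morphismRestrict] at h2
    have hKW := isKoszulRegularIdeal_ker_app i' hi' W hW
    have hL : LCIHom (i'.app W).hom :=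
      (lciHom_iff_ker_of_surjective _
        (app_surjective_of_isClosedImmersion_restrict i' W hW)).mpr hKW
    have key : ∀ (O : Y'.Opens) (hO : i' ⁻¹ᵁ W = O) (hle : O ≤ i' ⁻¹ᵁ W),
        LCIHom (i'.appLE W O hle).hom := by
      rintro O rfl hle
      rwa [Scheme.Hom.app_eq_appLE] at hL
    exact key _ hopen' inf_le_right
  exact exists_kchart_of_isKoszulRegularIdeal_ker i U.1 U.2 hK y hyU

/-- **Descent of regular immersions** of kind Koszul, `H_1` or quasi along a flat surjective open morphism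
(e.g. an étale surjective morphism), without quasi-compactness. -/
theorem isRegularImmersion_of_baseChange_open {X Y X' Y' : Scheme.{u}} (i : Y ⟶ X)
    [IsImmersion i] (g : X' ⟶ X) [Flat g] [Surjective g] (hopen : IsOpenMap g)
    (i' : Y' ⟶ X') (g' : Y' ⟶ Y) (hsq : IsPullback g' i' i g)
    (k : RegImm.Kind) (hk : k ≠ RegImm.Kind.regular)
    (hi' : RegImm.IsRegularImmersion k i') : RegImm.IsRegularImmersion k i := by
  cases k with
  | regular => exact absurd rfl hk
  | koszul => exact isRegularImmersion_koszul_of_baseChange_open i g hopen i' g' hsq hi'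
  | h1 => exact isRegularImmersion_of_baseChange_open' kindProp_h1 i g hopen i' g' hsq hi'
  | quasi => exact isRegularImmersion_of_baseChange_open' kindProp_quasi i g hopen i' g' hsq hi'

end Groth.Agent.Lib.H14RegImmEtDesc
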