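/-
helper14: closed points of integral curves over a field: DVR iff smooth (separable residue field).
-/
import Groth.Agent.Lib.H14SmoothReg
import Groth.Agent.Lib.RegularDimOne
import Mathlib

set_option autoImplicit false
set_option linter.style.haveILetI false
set_option linter.unusedSectionVars false
universe u

open CategoryTheory CategoryTheory.Limits AlgebraicGeometry TensorProduct

namespace Groth.Agent.Lib.H14SmoothReg

open IsLocalRing

/-- A closed point of an integral scheme of dimension one is not the generic point: its local ring
is not a field. -/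
theorem not_isField_stalk_of_isClosed (X : Scheme.{u}) [IsIntegral X]
    (hdim : topologicalKrullDim X = 1) (x : X) (hx : IsClosed ({x} : Set X)) :
    ¬ IsField (X.presheaf.stalk x) := by
  intro hF
  have h0 : ringKrullDim (X.presheaf.stalk x) = 0 := by
    letI := hF.toField
    exact ringKrullDim_eq_zero_of_field _
  rw [ringKrullDim_stalk_eq_coheight] at h0
  have hmax : IsMax x := Order.coheight_eq_zero.mp (by exact_mod_cast h0)
  have hη : genericPoint X ⤳ x := genericPoint_specializes x
  have h1 : x ⤳ genericPoint X := hmax hη
  have hall : ∀ y : X, y = x := by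
    intro y
    have h2 : x ⤳ y := h1.trans (genericPoint_specializes y)
    exact h2.mem_closed hx (Set.mem_singleton x)
  haveI : Subsingleton X := ⟨fun a b => (hall a).trans (hall b).symm⟩
  have h3 : topologicalKrullDim X ≤ 0 := by
    rw [Groth.Agent.Lib.SpecDim.topologicalKrullDim_eq_krullDim (A := X)]
    exact Order.krullDim_nonpos_of_subsingleton
  rw [hdim] at h3
  exact absurd h3 (by decide)

attribute [local instance] Curv2.stalkAlgebra

/-- **Closed points of curves with separable residue field: DVR iff smooth.** -/
theorem dvr_iff_mem_smoothLocus (k : Type u) [Field k] (X : Scheme.{u})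
    [X.Over (Spec (CommRingCat.of k))] [IsIntegral X]
    [LocallyOfFinitePresentation (X ↘ Spec (CommRingCat.of k))]
    (hdim : topologicalKrullDim X = 1) (x : X) (hx : IsClosed ({x} : Set X))
    [Algebra.FormallySmooth k (IsLocalRing.ResidueField (X.presheaf.stalk x))] :
    IsDiscreteValuationRing (X.presheaf.stalk x) ↔
      x ∈ (X ↘ Spec (CommRingCat.of k)).smoothLocus := by
  rw [mem_smoothLocus_iff_isRegularLocalRing_of_residueField]
  constructor
  · intro h
    infer_instance
  · intro h
    have hle : ringKrullDim (X.presheaf.stalk x) ≤ 1 :=
      hdim ▸ Groth.Agent.Lib.RegularDimOne.dim_stalk_le X x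
    haveI := Groth.Agent.Lib.RegularDimOne.isPrincipalIdealRing_of_regular_of_dim_le_one
      (X.presheaf.stalk x) hle
    have hnf : maximalIdeal (X.presheaf.stalk x) ≠ ⊥ := fun h0 =>
      not_isField_stalk_of_isClosed X hdim x hx (IsLocalRing.isField_iff_maximalIdeal_eq.mpr h0)
    exact { not_a_field' := hnf }

end Groth.Agent.Lib.H14SmoothReg
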