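import Mathlib
import Groth.Agent.Lib.SrcLocalFppf64
import Groth.Agent.Lib.UnramifiedLocusBC
import Groth.Agent.Lib.FiberClosed
import Groth.Agent.S2806
import Groth.Agent.S0115

/-!
# More properties that are fppf-local on the source (helper14)

Complements `Lib/SrcLocalFppf64` (lft, lfp) with: smooth (`S0115`), étale (`S2806`),
(formally unramified + lft), (locally quasi-finite + lft).

Ring level (pointwise):
* `lTensor_injective_of_faithfullyFlat`: a faithfully flat ring map `B → C` of `A`-algebras is
  universally injective: `K ⊗[A] B → K ⊗[A] C` is injective.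
* `quasiFinite_of_faithfullyFlat`: `A → B → C`, `B → C` faithfully flat, `C` quasi-finite over `A`
  ⟹ `B` quasi-finite over `A`.
* `ringHom_quasiFinite_of_flat_comp`, `ringHom_formallyUnramified_of_flat_comp`: local versions.

Scheme level:
* `formallyUnramified_stalkMap_of_flat_comp`, `quasiFiniteAt_of_flat_comp` (pointwise).
* `sourceFppfLocal_smooth`, `sourceFppfLocal_etale`, `sourceFppfLocal_formallyUnramified_lft`,
  `sourceFppfLocal_locallyQuasiFinite_lft`.
* `quasiCompact_of_comp_surjective`, `quasiSeparated_of_comp_surjective_quasiCompact`: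
  if `p` is surjective (and quasi-compact) and `p ≫ g` is quasi-compact (quasi-separated), so is `g`.
-/

set_option autoImplicit false
universe u

open TensorProduct IsLocalRing CategoryTheory CategoryTheory.Limits AlgebraicGeometry

namespace Groth.Agent.Lib.H14SrcLocalFppf

open Groth.Agent.Lib.SrcLocalFppf64


/-- universal injectivity of a faithfully flat ring map, in the form needed below. -/
theorem lTensor_injective_of_faithfullyFlat {A B C : Type*} [CommRing A] [CommRing B] [CommRing C]
    [Algebra A B] [Algebra B C] [Algebra A C] [IsScalarTower A B C] [Module.FaithfullyFlat B C]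
    (K : Type*) [AddCommGroup K] [Module A K] :
    Function.Injective (LinearMap.lTensor K (IsScalarTower.toAlgHom A B C).toLinearMap) := by
  -- `B ⊗[A] K → C ⊗[B] (B ⊗[A] K) ≃ C ⊗[A] K`
  have h1 : Function.Injective (TensorProduct.mk B C (B ⊗[A] K) 1) :=
    Module.FaithfullyFlat.tensorProduct_mk_injective (A := B) (B := C) (B ⊗[A] K)
  let e := TensorProduct.AlgebraTensorModule.cancelBaseChange A B C C K
  have h2 : Function.Injective (LinearMap.rTensor K (IsScalarTower.toAlgHom A B C).toLinearMap) := by
    have : (LinearMap.rTensor K (IsScalarTower.toAlgHom A B C).toLinearMap : B ⊗[A] K → C ⊗[A] K) =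
        (e : C ⊗[B] (B ⊗[A] K) → C ⊗[A] K) ∘ (TensorProduct.mk B C (B ⊗[A] K) 1) := by
      funext x
      induction x using TensorProduct.induction_on with
      | zero => simp
      | tmul b k =>
        simp [e, Algebra.smul_def]
      | add x y hx hy =>
        simp only [map_add, Function.comp_apply] at hx hy ⊢
        rw [hx, hy]
    rw [this]
    exact e.injective.comp h1
  have h3 : (LinearMap.lTensor K (IsScalarTower.toAlgHom A B C).toLinearMap : K ⊗[A] B → K ⊗[A] C) =
      (TensorProduct.comm A C K) ∘
        (LinearMap.rTensor K (IsScalarTower.toAlgHom A B C).toLinearMap) ∘ (TensorProduct.comm A K B) := by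
    funext x
    induction x using TensorProduct.induction_on with
    | zero => simp
    | tmul k b => simp
    | add x y hx hy =>
      simp only [map_add, Function.comp_apply] at hx hy ⊢
      rw [hx, hy]
  rw [h3]
  exact (TensorProduct.comm A C K).injective.comp (h2.comp (TensorProduct.comm A K B).injective)

theorem quasiFinite_of_faithfullyFlat {A B C : Type*} [CommRing A] [CommRing B] [CommRing C]
    [Algebra A B] [Algebra B C] [Algebra A C] [IsScalarTower A B C] [Module.FaithfullyFlat B C]
    [Algebra.QuasiFinite A C] : Algebra.QuasiFinite A B := by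
  constructor
  intro P _
  have hinj := lTensor_injective_of_faithfullyFlat (A := A) (B := B) (C := C) P.ResidueField
  let g : P.Fiber B →ₗ[P.ResidueField] P.Fiber C :=
    (Algebra.TensorProduct.map (AlgHom.id P.ResidueField P.ResidueField)
      (IsScalarTower.toAlgHom A B C)).toLinearMap
  have hg : Function.Injective g := by
    have : (g : P.Fiber B → P.Fiber C) =
        LinearMap.lTensor P.ResidueField (IsScalarTower.toAlgHom A B C).toLinearMap := by
      funext x
      induction x using TensorProduct.induction_on with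
      | zero => simp
      | tmul k b => simp [g, Ideal.Fiber]
      | add x y hx hy =>
        simp only [map_add] at hx hy ⊢
        rw [hx, hy]
    rw [this]
    exact hinj
  exact Module.Finite.of_injective g hg

theorem ringHom_quasiFinite_of_flat_comp {A B C : Type u} [CommRing A] [CommRing B] [CommRing C]
    [IsLocalRing B] [IsLocalRing C] (φ : A →+* B) (ψ : B →+* C)
    [IsLocalHom ψ] (hψ : ψ.Flat) (h : (ψ.comp φ).QuasiFinite) : φ.QuasiFinite := by
  algebraize [φ, ψ, ψ.comp φ]
  have : IsLocalHom (algebraMap B C) := ‹IsLocalHom ψ›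
  have : Module.FaithfullyFlat B C := Module.FaithfullyFlat.of_flat_of_isLocalHom
  exact quasiFinite_of_faithfullyFlat (A := A) (B := B) (C := C)

theorem ringHom_formallyUnramified_of_flat_comp {A B C : Type u} [CommRing A] [CommRing B]
    [CommRing C] [IsLocalRing A] [IsLocalRing B] [IsLocalRing C] (φ : A →+* B) (ψ : B →+* C)
    [IsLocalHom φ] [IsLocalHom ψ] (hψ : ψ.Flat) (hφ : φ.EssFiniteType)
    (hψφ : (ψ.comp φ).EssFiniteType)
    (h : (ψ.comp φ).FormallyUnramified) : φ.FormallyUnramified := by
  algebraize [φ, ψ, ψ.comp φ]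
  have : IsLocalHom (algebraMap B C) := ‹IsLocalHom ψ›
  have : IsLocalHom (algebraMap A B) := ‹IsLocalHom φ›
  have : IsLocalHom (algebraMap A C) := by
    show IsLocalHom (ψ.comp φ)
    infer_instance
  have : Module.FaithfullyFlat B C := Module.FaithfullyFlat.of_flat_of_isLocalHom
  obtain ⟨hsep, hm⟩ := Algebra.FormallyUnramified.iff_map_maximalIdeal_eq.mp
    (inferInstance : Algebra.FormallyUnramified A C)
  have : IsScalarTower (ResidueField A) (ResidueField B) (ResidueField C) := by
    refine IsScalarTower.of_algebraMap_eq' ?_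
    ext x
    obtain ⟨x, rfl⟩ := IsLocalRing.residue_surjective x
    simp [← IsScalarTower.algebraMap_apply]
  have hsepB : Algebra.IsSeparable (ResidueField A) (ResidueField B) :=
    Algebra.isSeparable_tower_bot_of_isSeparable (ResidueField A) (ResidueField B) (ResidueField C)
  refine Algebra.FormallyUnramified.of_map_maximalIdeal ?_
  apply le_antisymm
  · exact ((IsLocalRing.local_hom_TFAE (algebraMap A B)).out 0 2).mp ‹_›
  · intro b hb
    rw [← Ideal.comap_map_eq_self_of_faithfullyFlat (B := C)
      ((maximalIdeal A).map (algebraMap A B)), Ideal.mem_comap, Ideal.map_map,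
      ← IsScalarTower.algebraMap_eq, hm]
    have hle : (maximalIdeal B).map (algebraMap B C) ≤ maximalIdeal C :=
      ((IsLocalRing.local_hom_TFAE (algebraMap B C)).out 0 2).mp ‹_›
    exact hle (Ideal.mem_map_of_mem _ hb)



/-- pointwise: unramifiedness descends along a morphism flat at `x`. -/
theorem formallyUnramified_stalkMap_of_flat_comp {X Y S : Scheme.{u}} (p : X ⟶ Y) (g : Y ⟶ S)
    [LocallyOfFiniteType g] [LocallyOfFiniteType (p ≫ g)] (x : X)
    (hp : (p.stalkMap x).hom.Flat) (h : ((p ≫ g).stalkMap x).hom.FormallyUnramified) :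
    (g.stalkMap (p.base x)).hom.FormallyUnramified := by
  have e1 := LocallyOfFiniteType.stalkMap g (p.base x)
  have e2 := LocallyOfFiniteType.stalkMap (p ≫ g) x
  rw [Scheme.Hom.stalkMap_comp] at h e2
  exact ringHom_formallyUnramified_of_flat_comp (g.stalkMap (p.base x)).hom (p.stalkMap x).hom
    hp e1 e2 h

theorem quasiFiniteAt_of_flat_comp {X Y S : Scheme.{u}} (p : X ⟶ Y) (g : Y ⟶ S) (x : X)
    (hp : (p.stalkMap x).hom.Flat) (h : (p ≫ g).QuasiFiniteAt x) :
    g.QuasiFiniteAt (p.base x) := by
  unfold Scheme.Hom.QuasiFiniteAt at h ⊢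
  rw [Scheme.Hom.stalkMap_comp] at h
  exact ringHom_quasiFinite_of_flat_comp (g.stalkMap (p.base x)).hom (p.stalkMap x).hom hp h

theorem sourceFppfLocal_formallyUnramified_lft :
    SourceFppfLocal (@FormallyUnramified.{u} ⊓ @LocallyOfFiniteType.{u}) := by
  intro X' X Y p h hp hpfp hps ⟨hu, hft⟩
  have hft' : LocallyOfFiniteType h := sourceFppfLocal_locallyOfFiniteType p h hp hpfp hps hft
  refine ⟨?_, hft'⟩
  apply Groth.Agent.Lib.UnramifiedLocusBC.formallyUnramified_of_forall_stalkMap
  intro y
  obtain ⟨x, rfl⟩ := hps.surj y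
  exact formallyUnramified_stalkMap_of_flat_comp p h x (Flat.stalkMap p x)
    (FormallyUnramified.stalkMap (p ≫ h) x)

theorem sourceFppfLocal_locallyQuasiFinite_lft :
    SourceFppfLocal (@LocallyQuasiFinite.{u} ⊓ @LocallyOfFiniteType.{u}) := by
  intro X' X Y p h hp hpfp hps ⟨hu, hft⟩
  have hft' : LocallyOfFiniteType h := sourceFppfLocal_locallyOfFiniteType p h hp hpfp hps hft
  refine ⟨?_, hft'⟩
  apply Groth.Agent.Lib.FiberClosed.locallyQuasiFinite_of_forall_quasiFiniteAt
  intro y
  obtain ⟨x, rfl⟩ := hps.surj y
  exact quasiFiniteAt_of_flat_comp p h x (Flat.stalkMap p x) ((p ≫ h).quasiFiniteAt x)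

theorem sourceFppfLocal_smooth : SourceFppfLocal @Smooth.{u} := by
  intro X' X Y p h hp hpfp hps hsm
  exact Groth.Agent.S0115.result p h

theorem sourceFppfLocal_etale : SourceFppfLocal @Etale.{u} := by
  intro X' X Y p h hp hpfp hps het
  have hfp' : LocallyOfFinitePresentation (p ≫ h) := inferInstance
  have hfp : LocallyOfFinitePresentation h :=
    sourceFppfLocal_locallyOfFinitePresentation p h hp hpfp hps hfp'
  have key : ∀ y : X, ∃ V : X.Opens, y ∈ V ∧ Etale (V.ι ≫ h) := by
    intro y
    obtain ⟨x, rfl⟩ := hps.surj y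
    refine Groth.Agent.S2806.result h (p ≫ h) p rfl x (Flat.stalkMap p x) ⟨⊤, trivial, ?_⟩
    infer_instance
  choose V hyV hV using key
  have hsup : iSup V = ⊤ := by
    rw [eq_top_iff]
    intro y _
    exact TopologicalSpace.Opens.mem_iSup.mpr ⟨y, hyV y⟩
  exact (IsZariskiLocalAtSource.iff_of_iSup_eq_top (P := @Etale) V hsup).mpr hV


theorem quasiSeparatedSpace_of_surjective_quasiCompact {X Y : Scheme.{u}} (p : X ⟶ Y)
    [Surjective p] [QuasiCompact p] [QuasiSeparatedSpace X] : QuasiSeparatedSpace Y := by
  constructor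
  intro U V hU hUc hV hVc
  have h1 := QuasiCompact.isCompact_preimage (f := p) U hU hUc
  have h2 := QuasiCompact.isCompact_preimage (f := p) V hV hVc
  have h3 := QuasiSeparatedSpace.inter_isCompact _ _ (hU.preimage p.continuous) h1
    (hV.preimage p.continuous) h2
  have : U ∩ V = p.base '' (p.base ⁻¹' U ∩ p.base ⁻¹' V) := by
    rw [← Set.preimage_inter, Set.image_preimage_eq _ p.surjective]
  rw [this]
  exact h3.image p.continuous

theorem quasiSeparated_of_comp_surjective_quasiCompact {X Y S : Scheme.{u}} (p : X ⟶ Y)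
    (g : Y ⟶ S) [Surjective p] [QuasiCompact p] [QuasiSeparated (p ≫ g)] : QuasiSeparated g := by
  rw [HasAffineProperty.iff_of_openCover (P := @QuasiSeparated) S.affineCover]
  intro i
  have h := (HasAffineProperty.iff_of_openCover (P := @QuasiSeparated) (f := p ≫ g)
    S.affineCover).mp inferInstance i
  let q : pullback (p ≫ g) (S.affineCover.f i) ⟶ pullback g (S.affineCover.f i) :=
    pullback.lift (pullback.fst _ _ ≫ p) (pullback.snd _ _)
      (by rw [Category.assoc, pullback.condition])
  have sq : IsPullback q (pullback.fst _ _) (pullback.fst _ _) p := by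
    refine IsPullback.of_right (h₁₂ := pullback.snd g (S.affineCover.f i)) (h₂₂ := g)
      (v₁₃ := S.affineCover.f i) ?_ (pullback.lift_fst _ _ _)
      (IsPullback.of_hasPullback _ _).flip
    have : q ≫ pullback.snd g (S.affineCover.f i) = pullback.snd _ _ := pullback.lift_snd _ _ _
    rw [this]
    exact (IsPullback.of_hasPullback (p ≫ g) (S.affineCover.f i)).flip
  have hs : Surjective q := MorphismProperty.of_isPullback (P := @Surjective) sq.flip inferInstance
  have hq : QuasiCompact q := MorphismProperty.of_isPullback (P := @QuasiCompact) sq.flip inferInstance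
  have : QuasiSeparatedSpace ↥(pullback (p ≫ g) (S.affineCover.f i)) := h
  show QuasiSeparatedSpace ↥(pullback g (S.affineCover.f i))
  exact quasiSeparatedSpace_of_surjective_quasiCompact q

theorem quasiCompact_of_comp_surjective {X Y S : Scheme.{u}} (p : X ⟶ Y)
    (g : Y ⟶ S) [Surjective p] [QuasiCompact (p ≫ g)] : QuasiCompact g := by
  constructor
  intro U hU hUc
  have h1 := QuasiCompact.isCompact_preimage (f := p ≫ g) U hU hUc
  have : g.base ⁻¹' U = p.base '' ((p ≫ g).base ⁻¹' U) := by
    rw [Scheme.Hom.comp_base, TopCat.coe_comp, Set.preimage_comp,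
      Set.image_preimage_eq _ p.surjective]
  rw [this]
  exact h1.image p.continuous

end Groth.Agent.Lib.H14SrcLocalFppf
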