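import Mathlib.RingTheory.Spectrum.Prime.Topology
import Mathlib.RingTheory.Localization.Away.Basic
import Mathlib.RingTheory.Localization.Ideal
import Mathlib.RingTheory.Ideal.Quotient.Operations

/-!
# Principal open neighbourhoods of `V(J)` (helper15)

* `exists_sub_one_mem_basicOpen_subset`: an open set `U ⊇ V(J)` of `Spec R` contains a principal
  open `D(f)` with `f ≡ 1 mod J`.
* `quotientMap_away_bijective`: for `f ≡ 1 mod J`, `R / J → R_f / J R_f` is bijective.
-/

namespace Groth.Agent.Lib.H15AwayNbhd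

open PrimeSpectrum

theorem exists_sub_one_mem_basicOpen_subset {R : Type*} [CommRing R] (J : Ideal R)
    (U : Set (PrimeSpectrum R)) (hU : IsOpen U) (hJU : zeroLocus (J : Set R) ⊆ U) :
    ∃ f : R, f - 1 ∈ J ∧ (↑(basicOpen f) : Set (PrimeSpectrum R)) ⊆ U := by
  obtain ⟨K, hK⟩ := (isClosed_iff_zeroLocus_ideal _).mp hU.isClosed_compl
  have hempty : zeroLocus ((K ⊔ J : Ideal R) : Set R) = ∅ := by
    rw [zeroLocus_sup]
    rw [Set.eq_empty_iff_forall_notMem]
    rintro x ⟨hxK, hxJ⟩
    rw [← hK] at hxK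
    exact hxK (hJU hxJ)
  rw [zeroLocus_empty_iff_eq_top] at hempty
  have h1 : (1 : R) ∈ K ⊔ J := by rw [hempty]; trivial
  obtain ⟨k, hk, j, hj, hkj⟩ := Submodule.mem_sup.mp h1
  refine ⟨k, ?_, ?_⟩
  · have : k - 1 = -j := by rw [← hkj]; ring
    rw [this]; exact J.neg_mem hj
  · intro x hx
    by_contra hxU
    have hxK : x ∈ zeroLocus (K : Set R) := by rw [← hK]; exact hxU
    exact hx (hxK hk)

theorem quotientMap_away_bijective {R : Type*} [CommRing R] (J : Ideal R) (f : R)
    (hf : f - 1 ∈ J) (S : Type*) [CommRing S] [Algebra R S] [IsLocalization.Away f S] :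
    Function.Bijective (Ideal.quotientMap (J.map (algebraMap R S)) (algebraMap R S)
      Ideal.le_comap_map) := by
  have hpow : ∀ n : ℕ, f ^ n - 1 ∈ J := by
    intro n
    induction n with
    | zero => simp
    | succ n ih =>
      have : f ^ (n + 1) - 1 = f ^ n * (f - 1) + (f ^ n - 1) := by ring
      rw [this]
      exact J.add_mem (J.mul_mem_left _ hf) ih
  constructor
  · rw [injective_iff_map_eq_zero]
    intro x hx
    obtain ⟨x, rfl⟩ := Ideal.Quotient.mk_surjective x
    rw [Ideal.quotientMap_mk, Ideal.Quotient.eq_zero_iff_mem,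
      IsLocalization.mem_map_algebraMap_iff (Submonoid.powers f)] at hx
    obtain ⟨⟨⟨a, ha⟩, ⟨s, n, rfl⟩⟩, h⟩ := hx
    rw [Ideal.Quotient.eq_zero_iff_mem]
    simp only at h
    rw [← map_mul] at h
    obtain ⟨⟨c, m, rfl⟩, hc⟩ := (IsLocalization.eq_iff_exists (Submonoid.powers f) S).mp h
    simp only at hc
    -- f^m * (x * f^n) = f^m * a
    have h2 : f ^ m * f ^ n * x ∈ J := by
      have : f ^ m * f ^ n * x = f ^ m * a := by rw [← hc]; ring
      rw [this]; exact J.mul_mem_left _ ha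
    have h3 : x = f ^ m * f ^ n * x - (f ^ (m + n) - 1) * x := by rw [pow_add]; ring
    rw [h3]
    exact J.sub_mem h2 (J.mul_mem_right _ (hpow _))
  · intro y
    obtain ⟨y, rfl⟩ := Ideal.Quotient.mk_surjective y
    obtain ⟨r, ⟨_, n, rfl⟩, rfl⟩ := IsLocalization.exists_mk'_eq (Submonoid.powers f) y
    refine ⟨Ideal.Quotient.mk _ r, ?_⟩
    rw [Ideal.quotientMap_mk, Ideal.Quotient.eq]
    have hu : IsUnit (algebraMap R S (f ^ n)) :=
      IsLocalization.map_units S (⟨f ^ n, n, rfl⟩ : Submonoid.powers f)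
    have : algebraMap R S r - IsLocalization.mk' S r (⟨f ^ n, n, rfl⟩ : Submonoid.powers f)
        = IsLocalization.mk' S r (⟨f ^ n, n, rfl⟩ : Submonoid.powers f) *
          algebraMap R S (f ^ n - 1) := by
      rw [map_sub, map_one, mul_sub, mul_one, IsLocalization.mk'_spec]
    rw [this]
    exact Ideal.mul_mem_left _ _ (Ideal.mem_map_of_mem _ (hpow n))

end Groth.Agent.Lib.H15AwayNbhd
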