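import Groth.Agent.Lib.H15BMSeq

set_option autoImplicit false
set_option linter.style.haveILetI false
set_option linter.unusedSectionVars false
universe u

open CategoryTheory CategoryTheory.Limits AlgebraicGeometry Opposite Set Topology TopologicalSpace
open BMCoh WeilCoh Groth.Agent.Lib.H15BMGeom Groth.Agent.Lib.H15BMFilt Groth.Agent.Lib.H15BMDecomp
  Groth.Agent.Lib.H15BMData Groth.Agent.Lib.H15BMExt Groth.Agent.Lib.H15BMKer Groth.Agent.Lib.H15BMSeq

/-!
helper15: `H^i(X) → H^i(F_jX)` is bijective for `i ≤ 2j` (S15884).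
-/

namespace Groth.Agent.Lib.H15BMToFj

variable {V : ObjectProperty Scheme.{u}} [BMCoh.IsConstructible V] {R : Type u} [CommRing R]
  {A : BMCoh.Coefs R}

section ToFj

variable (T : BMCoh.PreTheory V R A) (X : Obj V)

/-- the whole space as a member of the index family of `F_m` -/
noncomputable abbrev topIdx (m : ℕ) : Idx X (ContainsFj X m) := ⟨⊤, fun _ _ => trivial, dim_top X.scheme⟩

theorem toFj_app (m : ℕ) (M : A.Cat) (i n : ℤ) :
    (T.toFj X m i n).app M = T.pull X.resTop M i n ≫ (T.fjι X m i n (topIdx X m)).app M := rfl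

theorem toFj_succ (m : ℕ) (M : A.Cat) (i n : ℤ) :
    (T.toFj X (m + 1) i n).app M ≫ (T.fjRes X (Nat.le_succ m) i n).app M =
      (T.toFj X m i n).app M := by
  rw [toFj_app, toFj_app, Category.assoc, fjRes_fjι]
  rfl

theorem codim_le_dim (y : X.scheme) : codim X.scheme y ≤ dim X.scheme := by
  unfold codim
  omega

theorem subsingleton_idx_of_dim_le (m : ℕ) (hm : dim X.scheme ≤ m) :
    Subsingleton (Idx X (ContainsFj X m)) := by
  constructor
  intro U U'
  apply Subtype.ext
  have h1 : U.1 = ⊤ := by
    rw [eq_top_iff]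
    intro y _
    exact U.2.1 y ((codim_le_dim X y).trans hm)
  have h2 : U'.1 = ⊤ := by
    rw [eq_top_iff]
    intro y _
    exact U'.2.1 y ((codim_le_dim X y).trans hm)
  rw [h1, h2]

/-- the inverse of `resTop` -/
noncomputable def resTopInv : X ⟶ X.res ⊤ :=
  ⟨X.scheme.topIso.inv, inferInstance, (dim_top X.scheme).symm⟩

theorem resTopInv_resTop : resTopInv X ≫ X.resTop = 𝟙 X := by
  apply BMCoh.Hom.ext
  show X.scheme.topIso.inv ≫ (⊤ : X.scheme.Opens).ι = 𝟙 _
  exact X.scheme.topIso.inv_hom_id

theorem resTop_resTopInv : X.resTop ≫ resTopInv X = 𝟙 (X.res ⊤) := by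
  apply BMCoh.Hom.ext
  show (⊤ : X.scheme.Opens).ι ≫ X.scheme.topIso.inv = 𝟙 _
  exact X.scheme.topIso.hom_inv_id

theorem bijective_pull_resTop (M : A.Cat) (i n : ℤ) :
    Function.Bijective (T.pull X.resTop M i n).hom := by
  have h1 : T.pull X.resTop M i n ≫ T.pull (resTopInv X) M i n = 𝟙 _ := by
    show ((T.H i n).map X.resTop.op).app M ≫ ((T.H i n).map (resTopInv X).op).app M = _
    rw [← NatTrans.comp_app, ← Functor.map_comp, ← op_comp, resTopInv_resTop]
    exact pull_id T _ M i n
  have h2 : T.pull (resTopInv X) M i n ≫ T.pull X.resTop M i n = 𝟙 _ := by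
    show ((T.H i n).map (resTopInv X).op).app M ≫ ((T.H i n).map X.resTop.op).app M = _
    rw [← NatTrans.comp_app, ← Functor.map_comp, ← op_comp, resTop_resTopInv]
    exact pull_id T _ M i n
  refine Function.bijective_iff_has_inverse.2 ⟨(T.pull (resTopInv X) M i n).hom, ?_, ?_⟩
  · intro a
    exact congrArg (fun k => k.hom a) h1
  · intro a
    exact congrArg (fun k => k.hom a) h2

theorem bijective_toFj_of_dim_le (m : ℕ) (hm : dim X.scheme ≤ m) (M : A.Cat) (i n : ℤ) :
    Function.Bijective ((T.toFj X m i n).app M).hom := by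
  haveI := subsingleton_idx_of_dim_le X m hm
  have hι : Function.Bijective ((T.fjι X m i n (topIdx X m)).app M).hom := by
    constructor
    · rw [injective_iff_map_eq_zero]
      intro a ha
      obtain ⟨U', hle, h0⟩ := ocolimι_eq_zero T X (ContainsFj X m) M i n (topIdx X m) a ha
      obtain rfl : U' = topIdx X m := Subsingleton.elim _ _
      have := congrArg (fun k => k.hom a) (idxRes_refl T X (ContainsFj X m) (topIdx X m) M i n)
      exact this.symm.trans h0
    · intro α
      obtain ⟨U, b, hb⟩ := ocolim_exists_rep T X (ContainsFj X m) M i n α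
      obtain rfl : U = topIdx X m := Subsingleton.elim _ _
      exact ⟨b, hb⟩
  rw [toFj_app]
  exact hι.comp (bijective_pull_resTop T X M i n)

end ToFj

section Main

theorem bijective_toFj (T : BMCoh.TheoryOn V R A) (X : Obj V) (M : A.Cat) (j : ℕ) (i n : ℤ)
    (hj : i ≤ 2 * (j : ℤ)) : Function.Bijective ((T.toFj X j i n).app M).hom := by
  suffices h : ∀ (k m : ℕ), dim X.scheme ≤ m + k → j ≤ m →
      Function.Bijective ((T.toPreTheory.toFj X m i n).app M).hom from
    h (dim X.scheme) j (Nat.le_add_left _ _) le_rfl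
  intro k
  induction k with
  | zero =>
    intro m hm _
    exact bijective_toFj_of_dim_le T.toPreTheory X m hm M i n
  | succ k ih =>
    intro m hm hjm
    have h1 := ih (m + 1) (by omega) (by omega)
    have hres : Function.Bijective
        ((T.toPreTheory.fjRes X (Nat.le_succ m) i n).app M).hom := by
      have hjm' : (j : ℤ) ≤ (m : ℤ) := by exact_mod_cast hjm
      refine ⟨injective_fjRes T.toPreTheory X M m i n ?_, surjective_fjRes T.toPreTheory X M m i n ?_⟩
      · intro x _
        exact T.pt_vanish X x M _ _ (by omega)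
      · intro x _
        exact T.pt_vanish X x M _ _ (by omega)
    have h2 := toFj_succ T.toPreTheory X m M i n
    have h3 : ((T.toPreTheory.toFj X m i n).app M).hom =
        ((T.toPreTheory.fjRes X (Nat.le_succ m) i n).app M).hom ∘
          ((T.toPreTheory.toFj X (m + 1) i n).app M).hom := by
      rw [← h2]
      rfl
    rw [h3]
    exact hres.comp h1

end Main

end Groth.Agent.Lib.H15BMToFj
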