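import Groth.Agent.Lib.H15BMRetr
import Groth.Agent.Lib.H15BMToFj

set_option autoImplicit false
set_option linter.style.haveILetI false
set_option linter.unusedSectionVars false
universe u

open CategoryTheory CategoryTheory.Limits AlgebraicGeometry Opposite Set Topology TopologicalSpace
open BMCoh WeilCoh Groth.Agent.Lib.H15BMGeom Groth.Agent.Lib.H15BMFilt Groth.Agent.Lib.H15BMDecomp
  Groth.Agent.Lib.H15BMData Groth.Agent.Lib.H15BMExt Groth.Agent.Lib.H15BMKer Groth.Agent.Lib.H15BMSeq
  Groth.Agent.Lib.H15BMKerGen Groth.Agent.Lib.H15BMLevel0 Groth.Agent.Lib.H15BMRetr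
  Groth.Agent.Lib.H15BMToFj

/-!
helper15: additivity of twisted Borel–Moore groups over a finite cover of an object by pairwise
disjoint open pieces (joint injectivity of restrictions, sum of push-pulls).
-/

namespace Groth.Agent.Lib.H15BMAdd

variable {V : ObjectProperty Scheme.{u}} [BMCoh.IsConstructible V] {R : Type u} [CommRing R]
  {A : BMCoh.Coefs R}

section LiftObj

variable (Z : Obj V)

/-- a morphism of objects into `Z` whose image lies in an open `O` of full dimension, as a morphism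
into `Z.res O` -/
noncomputable def liftObj {Y : Obj V} (g : Y ⟶ Z) (O : Z.scheme.Opens)
    (h : Set.range g.hom ⊆ O) (hd : dim (O : Scheme.{u}) = dim Z.scheme) : Y ⟶ Z.res O :=
  ⟨IsOpenImmersion.lift O.ι g.hom (by rw [Scheme.Opens.range_ι]; exact h),
    (by
      haveI : IsOpenImmersion (IsOpenImmersion.lift O.ι g.hom
          (by rw [Scheme.Opens.range_ι]; exact h) ≫ O.ι) := by
        rw [IsOpenImmersion.lift_fac]
        infer_instance
      exact IsOpenImmersion.of_comp _ O.ι),
    g.dim_eq.trans hd.symm⟩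

theorem liftObj_ι {Y : Obj V} (g : Y ⟶ Z) (O : Z.scheme.Opens)
    (h : Set.range g.hom ⊆ O) (hd : dim (O : Scheme.{u}) = dim Z.scheme) :
    (liftObj Z g O h hd).hom ≫ O.ι = g.hom := IsOpenImmersion.lift_fac _ _ _

theorem liftObj_resι {Y : Obj V} (g : Y ⟶ Z) (O : Z.scheme.Opens)
    (h : Set.range g.hom ⊆ O) (hd : dim (O : Scheme.{u}) = dim Z.scheme) :
    liftObj Z g O h hd ≫ Z.resι O hd = g :=
  BMCoh.Hom.ext (liftObj_ι Z g O h hd)

theorem liftObj_resLE {Y : Obj V} (g : Y ⟶ Z) {O' O : Z.scheme.Opens} (hle : O' ≤ O)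
    (h' : Set.range g.hom ⊆ O') (hd' : dim (O' : Scheme.{u}) = dim Z.scheme)
    (hd : dim (O : Scheme.{u}) = dim Z.scheme) :
    liftObj Z g O' h' hd' ≫ Z.resLE hle (hd'.trans hd.symm) =
      liftObj Z g O (h'.trans hle) hd := by
  apply BMCoh.Hom.ext
  rw [← cancel_mono O.ι]
  show ((liftObj Z g O' h' hd').hom ≫ Z.scheme.homOfLE hle) ≫ O.ι = (liftObj Z g O _ hd).hom ≫ O.ι
  rw [Category.assoc, Scheme.homOfLE_ι, liftObj_ι, liftObj_ι]

theorem range_liftObj {Y : Obj V} (g : Y ⟶ Z) (O : Z.scheme.Opens)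
    (h : Set.range g.hom ⊆ O) (hd : dim (O : Scheme.{u}) = dim Z.scheme) :
    Set.range (liftObj Z g O h hd).hom = ⇑O.ι ⁻¹' Set.range g.hom := by
  rw [← liftObj_ι Z g O h hd, Scheme.Hom.comp_base, TopCat.coe_comp, Set.range_comp,
    Set.preimage_image_eq _ O.ι.isOpenEmbedding.injective]

theorem dim_eq_of_range_subset {Y : Obj V} (g : Y ⟶ Z) (O : Z.scheme.Opens)
    (h : Set.range g.hom ⊆ O) : dim (O : Scheme.{u}) = dim Z.scheme := by
  apply le_antisymm (dim_opens_le Z O)
  rw [← g.dim_eq]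
  let l : Y.scheme ⟶ (O : Scheme.{u}) :=
    IsOpenImmersion.lift O.ι g.hom (by rw [Scheme.Opens.range_ι]; exact h)
  haveI : IsOpenImmersion (l ≫ O.ι) := by
    rw [IsOpenImmersion.lift_fac]
    infer_instance
  haveI : IsOpenImmersion l := IsOpenImmersion.of_comp _ O.ι
  exact natDim_le_of_isInducing l.isOpenEmbedding.isInducing (finiteDim_opens Z O)

end LiftObj

section Pieces

variable (T : BMCoh.PreTheory V R A)

theorem hi_of_hom {Y W : Obj V} (f : Y ⟶ W) (i : ℤ) : i = i + 2 * relCodim Y.scheme W.scheme := by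
  unfold relCodim
  rw [f.dim_eq]
  ring

theorem hn_of_hom {Y W : Obj V} (f : Y ⟶ W) (n : ℤ) : n = n + relCodim Y.scheme W.scheme := by
  unfold relCodim
  rw [f.dim_eq]
  ring

theorem isClosedImmersion_of_isClosed_range {Y W : Scheme.{u}} (f : Y ⟶ W) [IsOpenImmersion f]
    (h : IsClosed (Set.range f)) : IsClosedImmersion f :=
  IsClosedImmersion.of_isPreimmersion f h

/-- two-piece injectivity -/
theorem eq_zero_of_pull_eq_zero {Y₁ Y₂ W : Obj V} (i₁ : Y₁ ⟶ W) (i₂ : Y₂ ⟶ W)
    (h : Set.range i₁.hom = (Set.range i₂.hom)ᶜ) (M : A.Cat) (i n : ℤ) (e : T.gp W M i n)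
    (h₁ : (T.pull i₁ M i n).hom e = 0) (h₂ : (T.pull i₂ M i n).hom e = 0) : e = 0 := by
  obtain ⟨i0, rfl⟩ : ∃ i0, i = i0 + 1 := ⟨i - 1, by ring⟩
  haveI : IsClosedImmersion i₂.hom := by
    apply isClosedImmersion_of_isClosed_range
    have : Set.range i₂.hom = (Set.range i₁.hom)ᶜ := by rw [h, compl_compl]
    rw [this]
    exact (IsOpenImmersion.isOpen_range i₁.hom).isClosed_compl
  let D : Decomp W := ⟨Y₂, Y₁, i₂.hom, inferInstance, i₁, h⟩
  have hex := T.exact_push_pull D M i0 n (i0 + 1) n (hi_of_hom i₂ (i0 + 1)) (hn_of_hom i₂ n)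
  obtain ⟨c, hc⟩ := (hex e).1 h₁
  have hpp := congrArg (fun k => k.hom c)
    (pull_push_self' T i₂ M (i0 + 1) n (hi_of_hom i₂ (i0 + 1)) (hn_of_hom i₂ n))
  have hc0 : c = 0 := by
    have : (T.pull i₂ M (i0 + 1) n).hom
        ((T.push i₂.hom M (i0 + 1) n (i0 + 1) n (hi_of_hom i₂ (i0 + 1)) (hn_of_hom i₂ n)).hom c) =
        c := hpp
    rw [hc, h₂] at this
    exact this.symm
  rw [← hc, hc0, map_zero]

/-- push-forward from a closed-open piece restricts to zero on a disjoint piece -/
theorem pull_push_of_disjoint {Y₁ Y₂ W : Obj V} (i₁ : Y₁ ⟶ W) (i₂ : Y₂ ⟶ W)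
    [IsClosedImmersion i₂.hom] (hdisj : Disjoint (Set.range i₁.hom) (Set.range i₂.hom))
    (M : A.Cat) (i n : ℤ) (c : T.gp Y₂ M i n) :
    (T.pull i₁ M i n).hom
      ((T.push i₂.hom M i n i n (hi_of_hom i₂ i) (hn_of_hom i₂ n)).hom c) = 0 := by
  obtain ⟨i0, rfl⟩ : ∃ i0, i = i0 + 1 := ⟨i - 1, by ring⟩
  let O : W.scheme.Opens := ⟨(Set.range i₂.hom)ᶜ, i₂.hom.isClosedEmbedding.isClosed_range.isOpen_compl⟩
  have h1 : Set.range i₁.hom ⊆ O := fun z hz hz' => Set.disjoint_left.1 hdisj hz hz'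
  have hd := dim_eq_of_range_subset W i₁ O h1
  let D : Decomp W := ⟨Y₂, W.res O, i₂.hom, inferInstance, W.resι O hd, by
    show Set.range O.ι = _
    rw [Scheme.Opens.range_ι]
    rfl⟩
  have hex := T.exact_push_pull D M i0 n (i0 + 1) n (hi_of_hom i₂ (i0 + 1)) (hn_of_hom i₂ n)
  have hz := hex.apply_apply_eq_zero c
  have hcomp := congrArg (fun k => k.hom
      ((T.push i₂.hom M (i0 + 1) n (i0 + 1) n (hi_of_hom i₂ (i0 + 1)) (hn_of_hom i₂ n)).hom c))
    (pull_comp T (liftObj W i₁ O h1 hd) (W.resι O hd) M (i0 + 1) n)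
  rw [liftObj_resι] at hcomp
  refine hcomp.symm.trans ?_
  show (T.pull (liftObj W i₁ O h1 hd) M (i0 + 1) n).hom
    ((T.pull (W.resι O hd) M (i0 + 1) n).hom _) = 0
  rw [show (T.pull (W.resι O hd) M (i0 + 1) n).hom
    ((T.push i₂.hom M (i0 + 1) n (i0 + 1) n (hi_of_hom i₂ (i0 + 1)) (hn_of_hom i₂ n)).hom c) = 0
    from hz, map_zero]

end Pieces

section Joint

variable (T : BMCoh.PreTheory V R A) (Z : Obj V)

theorem eq_zero_of_forall_pull_eq_zero {K : Type*} [DecidableEq K] (Zk : K → Obj V)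
    (g : ∀ k, Zk k ⟶ Z) (M : A.Cat) (i n : ℤ) (s : Finset K) :
    (∀ k ∈ s, ∀ l ∈ s, k ≠ l → Disjoint (Set.range (g k).hom) (Set.range (g l).hom)) →
    ∀ (O : Z.scheme.Opens), (O : Set Z.scheme) = ⋃ k ∈ s, Set.range (g k).hom →
    ∀ (hd : dim (O : Scheme.{u}) = dim Z.scheme) (e : T.gp (Z.res O) M i n),
      (∀ k ∈ s, ∀ h : Set.range (g k).hom ⊆ O,
        (T.pull (liftObj Z (g k) O h hd) M i n).hom e = 0) → e = 0 := by
  induction s using Finset.induction_on with
  | empty =>
    intro _ O hO hd e _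
    haveI : IsEmpty (Z.res O).scheme := by
      constructor
      intro z
      have : O.ι z ∈ (O : Set Z.scheme) := z.2
      rw [hO] at this
      simp at this
    exact gp_eq_zero_of_isEmpty T (Z.res O) M i n e
  | insert k₀ s'' hk₀ ih =>
    intro hdisj O hO hd e he
    have hk₀O : Set.range (g k₀).hom ⊆ O := by
      rw [hO]
      exact Set.subset_biUnion_of_mem (u := fun k => Set.range (g k).hom)
        (Finset.mem_insert_self k₀ s'')
    have he₀ := he k₀ (Finset.mem_insert_self k₀ s'') hk₀O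
    by_cases hs : s'' = ∅
    · subst hs
      have hsurj : Function.Surjective (liftObj Z (g k₀) O hk₀O hd).hom := by
        intro z
        have : O.ι z ∈ (O : Set Z.scheme) := z.2
        rw [hO] at this
        simp only [Finset.insert_empty, Finset.mem_singleton, Set.iUnion_iUnion_eq_left] at this
        obtain ⟨w, hw⟩ := this
        refine ⟨w, ?_⟩
        apply O.ι.isOpenEmbedding.injective
        have := congrArg (fun k => k.base w) (liftObj_ι Z (g k₀) O hk₀O hd)
        exact this.trans hw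
      haveI : Surjective (liftObj Z (g k₀) O hk₀O hd).hom := ⟨hsurj⟩
      haveI : IsIso (liftObj Z (g k₀) O hk₀O hd).hom :=
        (isIso_iff_isOpenImmersion_and_epi_base _).2 ⟨inferInstance, by
          rw [TopCat.epi_iff_surjective]; exact hsurj⟩
      have := push_pull_of_isIso T (liftObj Z (g k₀) O hk₀O hd) M i n
        (hi_of_hom (liftObj Z (g k₀) O hk₀O hd) i) (hn_of_hom (liftObj Z (g k₀) O hk₀O hd) n) e
      rw [he₀, map_zero] at this
      exact this.symm
    · obtain ⟨k₁, hk₁⟩ := Finset.nonempty_iff_ne_empty.2 hs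
      let O'' : Z.scheme.Opens := ⟨⋃ k ∈ s'', Set.range (g k).hom,
        isOpen_biUnion (fun k _ => IsOpenImmersion.isOpen_range (g k).hom)⟩
      have hO''O : O'' ≤ O := by
        intro z hz
        rw [← SetLike.mem_coe, hO]
        have hz' : z ∈ ⋃ k ∈ s'', Set.range (g k).hom := hz
        simp only [Set.mem_iUnion] at hz' ⊢
        obtain ⟨k, hk, hzk⟩ := hz'
        exact ⟨k, Finset.mem_insert_of_mem hk, hzk⟩
      have hk₁O'' : Set.range (g k₁).hom ⊆ O'' :=
        Set.subset_biUnion_of_mem (u := fun k => Set.range (g k).hom) hk₁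
      have hd'' : dim (O'' : Scheme.{u}) = dim Z.scheme := dim_eq_of_range_subset Z (g k₁) O'' hk₁O''
      let r : Z.res O'' ⟶ Z.res O := Z.resLE hO''O (hd''.trans hd.symm)
      let e'' := (T.pull r M i n).hom e
      have he'' : e'' = 0 := by
        refine ih (fun k hk l hl hkl => hdisj k (Finset.mem_insert_of_mem hk) l
          (Finset.mem_insert_of_mem hl) hkl) O'' rfl hd'' e'' ?_
        intro k hk h
        have hcomp := congrArg (fun f => f.hom e)
          (pull_comp T (liftObj Z (g k) O'' h hd'') r M i n)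
        rw [liftObj_resLE Z (g k) hO''O h hd'' hd] at hcomp
        exact hcomp.trans (he k (Finset.mem_insert_of_mem hk) (h.trans hO''O))
      refine eq_zero_of_pull_eq_zero T r (liftObj Z (g k₀) O hk₀O hd) ?_ M i n e he'' he₀
      rw [range_liftObj]
      show Set.range (Z.scheme.homOfLE hO''O) = _
      rw [range_homOfLE]
      ext z
      simp only [Set.mem_preimage, Set.mem_compl_iff]
      constructor
      · intro hz hz'
        have hz1 : O.ι z ∈ ⋃ k ∈ s'', Set.range (g k).hom := hz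
        simp only [Set.mem_iUnion] at hz1
        obtain ⟨k, hk, hzk⟩ := hz1
        have hne : k ≠ k₀ := fun h => hk₀ (h ▸ hk)
        exact Set.disjoint_left.1 (hdisj k (Finset.mem_insert_of_mem hk) k₀
          (Finset.mem_insert_self k₀ s'') hne) hzk hz'
      · intro hz
        have hzO : O.ι z ∈ (O : Set Z.scheme) := z.2
        rw [hO] at hzO
        simp only [Set.mem_iUnion] at hzO
        obtain ⟨k, hk, hzk⟩ := hzO
        rcases Finset.mem_insert.1 hk with rfl | hk'
        · exact absurd hzk hz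
        · show O.ι z ∈ ⋃ k ∈ s'', Set.range (g k).hom
          simp only [Set.mem_iUnion]
          exact ⟨k, hk', hzk⟩

end Joint

section Add

variable (T : BMCoh.PreTheory V R A) (Z : Obj V)

theorem isClosedImmersion_of_cover {K : Type*} (Zk : K → Obj V) (g : ∀ k, Zk k ⟶ Z)
    (hdisj : ∀ k l, k ≠ l → Disjoint (Set.range (g k).hom) (Set.range (g l).hom))
    (hcov : ∀ z : Z.scheme, ∃ k, z ∈ Set.range (g k).hom) (k : K) :
    IsClosedImmersion (g k).hom := by
  apply isClosedImmersion_of_isClosed_range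
  have : Set.range (g k).hom = (⋃ l ∈ {l | l ≠ k}, Set.range (g l).hom)ᶜ := by
    ext z
    simp only [Set.mem_compl_iff, Set.mem_iUnion, Set.mem_ofPred_eq, not_exists]
    constructor
    · intro hz l hl hzl
      exact Set.disjoint_left.1 (hdisj k l (fun h => hl h.symm)) hz hzl
    · intro hz
      obtain ⟨l, hl⟩ := hcov z
      by_cases hlk : l = k
      · exact hlk ▸ hl
      · exact absurd hl (hz l hlk)
  rw [this]
  exact (isOpen_biUnion (fun l _ => IsOpenImmersion.isOpen_range (g l).hom)).isClosed_compl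

/-- additivity of the groups of an object over a finite cover by pairwise disjoint open pieces -/
theorem sum_push_pull {K : Type*} [Fintype K] [DecidableEq K] (Zk : K → Obj V)
    (g : ∀ k, Zk k ⟶ Z)
    (hdisj : ∀ k l, k ≠ l → Disjoint (Set.range (g k).hom) (Set.range (g l).hom))
    (hcov : ∀ z : Z.scheme, ∃ k, z ∈ Set.range (g k).hom)
    [hcl : ∀ k, IsClosedImmersion (g k).hom] (M : A.Cat) (i n : ℤ) (ρ : T.gp Z M i n) :
    ∑ k, (T.push (g k).hom M i n i n (hi_of_hom (g k) i) (hn_of_hom (g k) n)).hom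
      ((T.pull (g k) M i n).hom ρ) = ρ := by
  let sρ := ∑ k, (T.push (g k).hom M i n i n (hi_of_hom (g k) i) (hn_of_hom (g k) n)).hom
      ((T.pull (g k) M i n).hom ρ)
  have hpull : ∀ k, (T.pull (g k) M i n).hom (ρ - sρ) = 0 := by
    intro k
    rw [map_sub, map_sum, Finset.sum_eq_single k]
    · have := congrArg (fun f => f.hom ((T.pull (g k) M i n).hom ρ))
        (pull_push_self' T (g k) M i n (hi_of_hom (g k) i) (hn_of_hom (g k) n))
      have h2 : (T.pull (g k) M i n).hom
          ((T.push (g k).hom M i n i n (hi_of_hom (g k) i) (hn_of_hom (g k) n)).hom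
            ((T.pull (g k) M i n).hom ρ)) = (T.pull (g k) M i n).hom ρ := this
      rw [h2, sub_self]
    · intro l _ hlk
      exact pull_push_of_disjoint T (g k) (g l) (hdisj k l (fun h => hlk h.symm)) M i n _
    · intro h
      exact absurd (Finset.mem_univ k) h
  have hd : dim ((⊤ : Z.scheme.Opens) : Scheme.{u}) = dim Z.scheme := dim_top Z.scheme
  have hO : (((⊤ : Z.scheme.Opens)) : Set Z.scheme) = ⋃ k ∈ (Finset.univ : Finset K),
      Set.range (g k).hom := by
    ext z
    simp only [Opens.coe_top, Set.mem_univ, Finset.mem_univ, Set.iUnion_true, Set.mem_iUnion,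
      true_iff]
    exact hcov z
  have h0 : (T.pull Z.resTop M i n).hom (ρ - sρ) = 0 := by
    refine eq_zero_of_forall_pull_eq_zero T Z Zk g M i n Finset.univ
      (fun k _ l _ hkl => hdisj k l hkl) ⊤ hO hd _ ?_
    intro k _ h
    have hcomp := congrArg (fun f => f.hom (ρ - sρ))
      (pull_comp T (liftObj Z (g k) ⊤ h hd) Z.resTop M i n)
    have hres : liftObj Z (g k) ⊤ h hd ≫ Z.resTop = g k := liftObj_resι Z (g k) ⊤ h hd
    rw [hres] at hcomp
    exact hcomp.trans (hpull k)
  have hinj := (bijective_pull_resTop T Z M i n).1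
  have : ρ - sρ = 0 := hinj (h0.trans (map_zero _).symm)
  exact (sub_eq_zero.1 this).symm

end Add

end Groth.Agent.Lib.H15BMAdd
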