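import Groth.Agent.Lib.H15BMAdd
import Groth.Agent.Lib.H15BMToFj

set_option autoImplicit false
set_option linter.style.haveILetI false
set_option linter.unusedSectionVars false
universe u

open CategoryTheory CategoryTheory.Limits AlgebraicGeometry Opposite Set Topology TopologicalSpace
open BMCoh WeilCoh Groth.Agent.Lib.H15BMGeom Groth.Agent.Lib.H15BMFilt Groth.Agent.Lib.H15BMDecomp
  Groth.Agent.Lib.H15BMData Groth.Agent.Lib.H15BMExt Groth.Agent.Lib.H15BMKer Groth.Agent.Lib.H15BMSeq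
  Groth.Agent.Lib.H15BMKerGen Groth.Agent.Lib.H15BMLevel0 Groth.Agent.Lib.H15BMRetr
  Groth.Agent.Lib.H15BMToFj Groth.Agent.Lib.H15BMAdd

/-!
helper15: restriction to an open containing all points of codimension `≤ j` is bijective on `H^i`
for `i ≤ 2j` (S15888: big opens and `H^2`).
-/

namespace Groth.Agent.Lib.H15BMBig

variable {V : ObjectProperty Scheme.{u}} [BMCoh.IsConstructible V] {R : Type u} [CommRing R]
  {A : BMCoh.Coefs R}

section ObjIso

theorem dim_opensRange {W Y : Obj V} (g : W ⟶ Y) :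
    dim (g.hom.opensRange : Scheme.{u}) = dim Y.scheme :=
  (dim_eq_of_iso g.hom.isoOpensRange).symm.trans g.dim_eq

/-- a morphism of objects, as an isomorphism onto its open range -/
noncomputable def toRange {W Y : Obj V} (g : W ⟶ Y) : W ⟶ Y.res g.hom.opensRange :=
  ⟨g.hom.isoOpensRange.hom, inferInstance, dim_eq_of_iso g.hom.isoOpensRange⟩

noncomputable def ofRange {W Y : Obj V} (g : W ⟶ Y) : Y.res g.hom.opensRange ⟶ W :=
  ⟨g.hom.isoOpensRange.inv, inferInstance, (dim_eq_of_iso g.hom.isoOpensRange).symm⟩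

theorem toRange_ofRange {W Y : Obj V} (g : W ⟶ Y) : toRange g ≫ ofRange g = 𝟙 W :=
  BMCoh.Hom.ext g.hom.isoOpensRange.hom_inv_id

theorem ofRange_toRange {W Y : Obj V} (g : W ⟶ Y) : ofRange g ≫ toRange g = 𝟙 _ :=
  BMCoh.Hom.ext g.hom.isoOpensRange.inv_hom_id

theorem toRange_resι {W Y : Obj V} (g : W ⟶ Y) :
    toRange g ≫ Y.resι g.hom.opensRange (dim_opensRange g) = g :=
  BMCoh.Hom.ext g.hom.isoOpensRange_hom_ι

theorem bijective_pull_of_inv (T : BMCoh.PreTheory V R A) {Y W : Obj V} (l : Y ⟶ W) (l' : W ⟶ Y)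
    (h1 : l ≫ l' = 𝟙 Y) (h2 : l' ≫ l = 𝟙 W) (M : A.Cat) (i n : ℤ) :
    Function.Bijective (T.pull l M i n).hom := by
  have e1 : T.pull l M i n ≫ T.pull l' M i n = 𝟙 _ := by
    rw [pull_comp, h2]
    exact pull_id T _ M i n
  have e2 : T.pull l' M i n ≫ T.pull l M i n = 𝟙 _ := by
    rw [pull_comp, h1]
    exact pull_id T _ M i n
  refine Function.bijective_iff_has_inverse.2 ⟨(T.pull l' M i n).hom, ?_, ?_⟩
  · intro a
    exact congrArg (fun k => k.hom a) e1
  · intro b
    exact congrArg (fun k => k.hom b) e2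

end ObjIso

section Codim

theorem pdim_opens_le (Y : Obj V) (O : Y.scheme.Opens) (z : (O : Scheme.{u})) :
    pdim (O : Scheme.{u}) z ≤ pdim Y.scheme (O.ι z) := by
  have hmem : ∀ w : ↥(closure ({z} : Set (O : Scheme.{u}))),
      O.ι w.1 ∈ closure ({O.ι z} : Set Y.scheme) := by
    intro w
    have := map_mem_closure O.ι.continuous w.2 (t := {O.ι z}) (fun a ha => by
      rw [Set.mem_singleton_iff] at ha
      rw [ha]
      exact Set.mem_singleton _)
    exact this
  let φ : ↥(closure ({z} : Set (O : Scheme.{u}))) → ↥(closure ({O.ι z} : Set Y.scheme)) :=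
    fun w => ⟨O.ι w.1, hmem w⟩
  have hfin : topologicalKrullDim ↥(closure ({O.ι z} : Set Y.scheme)) < ⊤ :=
    lt_of_le_of_lt (topologicalKrullDim_subspace_le _ _) (finiteDim Y)
  have hφc : Continuous φ :=
    (O.ι.continuous.comp continuous_subtype_val).subtype_mk _
  have hind : IsInducing φ := by
    refine IsInducing.of_comp hφc continuous_subtype_val ?_
    exact O.ι.isOpenEmbedding.isInducing.comp IsInducing.subtypeVal
  exact natDim_le_of_isInducing hind hfin

theorem codim_le_codim_opens (Y : Obj V) (O : Y.scheme.Opens)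
    (hd : dim (O : Scheme.{u}) = dim Y.scheme) (z : (O : Scheme.{u})) :
    codim Y.scheme (O.ι z) ≤ codim (O : Scheme.{u}) z := by
  have := pdim_opens_le Y O z
  unfold codim
  rw [hd]
  omega

end Codim

section Big

theorem toFj_eq (T : BMCoh.PreTheory V R A) (Y : Obj V) {j : ℕ} (O : Idx Y (ContainsFj Y j))
    (M : A.Cat) (i n : ℤ) :
    (T.toFj Y j i n).app M = T.pull (Y.resι O.1 O.2.2) M i n ≫ (T.fjι Y j i n O).app M := by
  rw [toFj_app]
  have hle : O ≤ topIdx Y j := fun _ _ => trivial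
  rw [← idxRes_ocolimι T Y (ContainsFj Y j) hle M i n, ← Category.assoc]
  congr 1
  refine (pull_comp T _ _ M i n).trans ?_
  congr 1
  exact BMCoh.Hom.ext (Scheme.homOfLE_ι Y.scheme hle)

theorem injective_pull_of_containsFj (T : BMCoh.TheoryOn V R A) {W Y : Obj V} (g : W ⟶ Y) (j : ℕ)
    (hg : ∀ y : Y.scheme, codim Y.scheme y ≤ j → y ∈ Set.range g.hom) (M : A.Cat) (i n : ℤ)
    (hi : i ≤ 2 * (j : ℤ)) : Function.Injective (T.pull g M i n).hom := by
  rw [injective_iff_map_eq_zero]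
  intro a ha
  let O : Idx Y (ContainsFj Y j) := ⟨g.hom.opensRange, fun y hy => hg y hy, dim_opensRange g⟩
  have h1 : T.pull g M i n = T.pull (Y.resι O.1 O.2.2) M i n ≫ T.pull (toRange g) M i n := by
    rw [pull_comp, toRange_resι]
  have h2 : (T.pull (toRange g) M i n).hom ((T.pull (Y.resι O.1 O.2.2) M i n).hom a) = 0 := by
    rw [← ha, h1]
    rfl
  have h3 : (T.pull (Y.resι O.1 O.2.2) M i n).hom a = 0 :=
    (bijective_pull_of_inv T.toPreTheory (toRange g) (ofRange g) (toRange_ofRange g)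
      (ofRange_toRange g) M i n).1 (h2.trans (map_zero _).symm)
  have h4 : ((T.toFj Y j i n).app M).hom a = 0 := by
    rw [toFj_eq T.toPreTheory Y O M i n]
    show ((T.fjι Y j i n O).app M).hom ((T.pull (Y.resι O.1 O.2.2) M i n).hom a) = 0
    rw [h3, map_zero]
  exact (bijective_toFj T Y M j i n hi).1 (h4.trans (map_zero _).symm)

theorem surjective_pull_of_containsFj (T : BMCoh.TheoryOn V R A) {W Y : Obj V} (g : W ⟶ Y)
    (j : ℕ) (hg : ∀ y : Y.scheme, codim Y.scheme y ≤ j → y ∈ Set.range g.hom) (M : A.Cat)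
    (i n : ℤ) (hi : i ≤ 2 * (j : ℤ)) : Function.Surjective (T.pull g M i n).hom := by
  intro b
  let O : Idx Y (ContainsFj Y j) := ⟨g.hom.opensRange, fun y hy => hg y hy, dim_opensRange g⟩
  let b' := (T.pull (ofRange g) M i n).hom b
  have hb' : (T.pull (toRange g) M i n).hom b' = b := by
    have e : T.pull (ofRange g) M i n ≫ T.pull (toRange g) M i n = 𝟙 _ := by
      rw [pull_comp, toRange_ofRange]
      exact pull_id T.toPreTheory _ M i n
    exact congrArg (fun k => k.hom b) e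
  obtain ⟨a, ha⟩ := (bijective_toFj T Y M j i n hi).2 (((T.fjι Y j i n O).app M).hom b')
  have ha' : ((T.fjι Y j i n O).app M).hom ((T.pull (Y.resι O.1 O.2.2) M i n).hom a) =
      ((T.fjι Y j i n O).app M).hom b' := by
    rw [← ha, toFj_eq T.toPreTheory Y O M i n]
    rfl
  have h1 : ((T.fjι Y j i n O).app M).hom (b' - (T.pull (Y.resι O.1 O.2.2) M i n).hom a) = 0 := by
    rw [map_sub, ha', sub_self]
  obtain ⟨O', hle, h0⟩ := ocolimι_eq_zero T.toPreTheory Y (ContainsFj Y j) M i n O _ h1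
  have hinj := injective_pull_of_containsFj T ((idxDiag Y (ContainsFj Y j)).map (homOfLE hle)) j
    (by
      intro z hz
      have hcz : codim Y.scheme (O.1.ι z) ≤ j := (codim_le_codim_opens Y O.1 O.2.2 z).trans hz
      have hzO' : O.1.ι z ∈ O'.1 := O'.2.1 _ hcz
      show z ∈ Set.range (Y.scheme.homOfLE hle)
      rw [range_homOfLE]
      exact hzO') M i n hi
  have h2 : b' - (T.pull (Y.resι O.1 O.2.2) M i n).hom a = 0 := hinj (h0.trans (map_zero _).symm)
  refine ⟨a, ?_⟩
  rw [← hb', sub_eq_zero.1 h2]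
  have h3 := pull_comp T.toPreTheory (toRange g) (Y.resι O.1 O.2.2) M i n
  rw [toRange_resι] at h3
  exact (congrArg (fun k => k.hom a) h3).symm

theorem bijective_pull_of_containsFj (T : BMCoh.TheoryOn V R A) {W Y : Obj V} (g : W ⟶ Y)
    (j : ℕ) (hg : ∀ y : Y.scheme, codim Y.scheme y ≤ j → y ∈ Set.range g.hom) (M : A.Cat)
    (i n : ℤ) (hi : i ≤ 2 * (j : ℤ)) : Function.Bijective (T.pull g M i n).hom :=
  ⟨injective_pull_of_containsFj T g j hg M i n hi, surjective_pull_of_containsFj T g j hg M i n hi⟩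

end Big

end Groth.Agent.Lib.H15BMBig
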