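import Groth.Agent.Lib.H15BMTot
import Groth.Agent.Lib.DimLift
import Groth.Prelude.Def_BMCoh4

set_option autoImplicit false
set_option linter.style.haveILetI false
set_option linter.unusedSectionVars false
universe u

open CategoryTheory CategoryTheory.Limits AlgebraicGeometry Opposite Set Topology TopologicalSpace
open BMCoh WeilCoh Groth.Agent.Lib.H15BMGeom Groth.Agent.Lib.H15BMFilt Groth.Agent.Lib.H15BMDecomp
  Groth.Agent.Lib.H15BMData Groth.Agent.Lib.H15BMExt Groth.Agent.Lib.H15BMKer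
  Groth.Agent.Lib.H15RedLift Groth.Agent.Lib.H15BMTot

/-!
helper15: push-forward data between groups of points along a proper morphism are unique (S16096):
the induced proper map between reduced closures, and the open of the target over which its
preimage lies in a given open of the source.
-/

namespace Groth.Agent.Lib.H15BMPtPush

variable {V : ObjectProperty Scheme.{u}} [BMCoh.IsConstructible V] {R : Type u} [CommRing R]
  {A : BMCoh.Coefs R}

section Geom

variable {Y X : Obj V} (φ : Y.scheme ⟶ X.scheme) [IsProper φ] (y : Y.scheme) (x : X.scheme)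

/-- a proper map does not lower the dimension of the closure of a point below that of its image -/
theorem pdim_le_of_map_eq (c : Y.scheme) (hcx : φ c = x) : pdim X.scheme x ≤ pdim Y.scheme c := by
  have hcl : IsClosedMap φ := φ.isClosedMap
  have himg : φ '' closure ({c} : Set Y.scheme) = closure ({x} : Set X.scheme) := by
    rw [← hcl.closure_image_eq_of_continuous φ.continuous, Set.image_singleton, hcx]
  let g : ↥(closure ({c} : Set Y.scheme)) → ↥(closure ({x} : Set X.scheme)) :=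
    fun w => ⟨φ w.1, by rw [← himg]; exact ⟨w.1, w.2, rfl⟩⟩
  have hgc : Continuous g := (φ.continuous.comp continuous_subtype_val).subtype_mk _
  have hgs : Function.Surjective g := by
    rintro ⟨z, hz⟩
    rw [← himg] at hz
    obtain ⟨w, hw, rfl⟩ := hz
    exact ⟨⟨w, hw⟩, rfl⟩
  have hgcl : IsClosedMap g := by
    intro S hS
    have hS' : IsClosed (Subtype.val '' S) := isClosed_closure.isClosedMap_subtype_val S hS
    have := hcl _ hS'
    have heq : g '' S = Subtype.val ⁻¹' (φ '' (Subtype.val '' S)) := by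
      ext z
      constructor
      · rintro ⟨w, hw, rfl⟩
        exact ⟨w.1, ⟨w, hw, rfl⟩, rfl⟩
      · rintro ⟨_, ⟨w, hw, rfl⟩, hz⟩
        exact ⟨w, hw, Subtype.ext hz⟩
    rw [heq]
    exact this.preimage continuous_subtype_val
  haveI : QuasiSober ↥(closure ({c} : Set Y.scheme)) :=
    (isClosed_closure.isClosedEmbedding_subtypeVal).quasiSober
  haveI : QuasiSober ↥(closure ({x} : Set X.scheme)) :=
    (isClosed_closure.isClosedEmbedding_subtypeVal).quasiSober
  have h := Groth.Agent.Lib.DimLift.topDim_le_of_specializingMap g hgc hgs hgcl.specializingMap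
  have hfin : topologicalKrullDim ↥(closure ({c} : Set Y.scheme)) < ⊤ :=
    lt_of_le_of_lt (topologicalKrullDim_subspace_le _ _) (finiteDim Y)
  exact natDim_le_of_le h hfin

/-- the only point of the closure of `y` lying over `x` is `y` -/
theorem eq_of_map_eq (hd : pdim Y.scheme y = pdim X.scheme x) (c : Y.scheme)
    (hc : c ∈ closure ({y} : Set Y.scheme)) (hcx : φ c = x) : c = y := by
  by_contra hne
  have h1 := pdim_lt_of_specializes Y (specializes_iff_mem_closure.2 hc) (fun h => hne h.symm)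
  have h2 := pdim_le_of_map_eq φ x c hcx
  omega

end Geom

section Lift

variable {Y X : Obj V} (φ : Y.scheme ⟶ X.scheme) [IsProper φ] (y : Y.scheme) (x : X.scheme)
  (hxy : φ y = x)

include hxy in
theorem range_comp_subset :
    Set.range (Y.ptSubι y ≫ φ) ⊆ ((⟨closure ({x} : Set X.scheme), isClosed_closure⟩ :
      Closeds X.scheme) : Set X.scheme) := by
  rintro _ ⟨z, rfl⟩
  have hz : Y.ptSubι y z ∈ closure ({y} : Set Y.scheme) := by
    rw [← range_ptSubι]
    exact ⟨z, rfl⟩
  have := map_mem_closure φ.continuous hz (t := {x}) (fun a ha => by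
    rw [Set.mem_singleton_iff] at ha
    rw [ha, hxy]
    exact Set.mem_singleton _)
  exact this

/-- the map induced by `φ` between the reduced closures of `y` and `x = φ(y)` -/
noncomputable def ptMap : (Y.ptSub y).scheme ⟶ (X.ptSub x).scheme :=
  redLift (Y.ptSubι y ≫ φ) ⟨closure ({x} : Set X.scheme), isClosed_closure⟩
    (range_comp_subset φ y x hxy)

@[reassoc]
theorem ptMap_ι : ptMap φ y x hxy ≫ X.ptSubι x = Y.ptSubι y ≫ φ :=
  redLift_ι _ _ _

theorem ptMap_apply (z : (Y.ptSub y).scheme) :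
    X.ptSubι x (ptMap φ y x hxy z) = φ (Y.ptSubι y z) :=
  congrArg (fun k => k.base z) (ptMap_ι φ y x hxy)

instance isProper_ptMap : IsProper (ptMap φ y x hxy) := by
  haveI : IsProper (ptMap φ y x hxy ≫ X.ptSubι x) := by
    rw [ptMap_ι]
    infer_instance
  exact IsProper.of_comp (ptMap φ y x hxy) (X.ptSubι x)

variable (hd : pdim Y.scheme y = pdim X.scheme x)

/-- the open of the closure of `x` over which `ψ⁻¹` lies in `W` -/
noncomputable def lowOpen (W : (Y.ptSub y).scheme.Opens) : (X.ptSub x).scheme.Opens :=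
  ⟨(ptMap φ y x hxy '' (W : Set (Y.ptSub y).scheme)ᶜ)ᶜ,
    ((ptMap φ y x hxy).isClosedMap _ W.2.isClosed_compl).isOpen_compl⟩

theorem preimage_lowOpen_le (W : (Y.ptSub y).scheme.Opens) :
    ptMap φ y x hxy ⁻¹ᵁ lowOpen φ y x hxy W ≤ W := by
  intro z hz
  by_contra hzW
  exact hz ⟨z, hzW, rfl⟩

include hd in
theorem exists_mem_lowOpen (W : (Y.ptSub y).scheme.Opens)
    (hW : (W : Set (Y.ptSub y).scheme).Nonempty) :
    ∃ z : (Y.ptSub y).scheme, z ∈ ptMap φ y x hxy ⁻¹ᵁ lowOpen φ y x hxy W := by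
  have hy : y ∈ Set.range (Y.ptSubι y) := by
    rw [range_ptSubι]
    exact subset_closure rfl
  obtain ⟨y₁, hy₁⟩ := hy
  refine ⟨y₁, ?_⟩
  rintro ⟨c, hcW, hc⟩
  have h1 : φ (Y.ptSubι y c) = x := by
    rw [← ptMap_apply φ y x hxy c, hc, ptMap_apply, hy₁, hxy]
  have h2 : Y.ptSubι y c ∈ closure ({y} : Set Y.scheme) := by
    rw [← range_ptSubι]
    exact ⟨c, rfl⟩
  have h3 := eq_of_map_eq φ y x hd _ h2 h1
  obtain ⟨w, hw, hwy⟩ := mem_pieceSet_self Y y W hW
  have : w = c := (Y.ptSubι y).isEmbedding.injective (hwy.trans h3.symm)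
  exact hcW (this ▸ hw)

end Lift

section Uniq

variable (T : BMCoh.PreTheory V R A) {Y X : Obj V} (φ : Y.scheme ⟶ X.scheme) [IsProper φ]
  (y : Y.scheme) (x : X.scheme)

theorem ptPush_cpt_eq (L L' : T.PtPush φ y x) (M : A.Cat) (i n : ℤ) :
    L.cpt M i n = L'.cpt M i n := by
  have hxy : φ y = x := L.maps_pt
  have hd : pdim Y.scheme y = pdim X.scheme x := by
    have := L.codim_eq
    unfold relCodim at this
    rw [dim_ptSub, dim_ptSub] at this
    omega
  ext a
  obtain ⟨W, γ, rfl⟩ := ocolim_exists_rep T (Y.ptSub y) _ M i n a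
  obtain ⟨z, hz⟩ := exists_mem_lowOpen φ y x hxy hd W.1 W.2.1
  let W₁ : ptIdx Y y := ptIdxMk Y y (ptMap φ y x hxy ⁻¹ᵁ lowOpen φ y x hxy W.1) ⟨z, hz⟩
  let W' : ptIdx X x := ptIdxMk X x (lowOpen φ y x hxy W.1) ⟨ptMap φ y x hxy z, hz⟩
  have hle : W₁ ≤ W := preimage_lowOpen_le φ y x hxy W.1
  let f : ((Y.ptSub y).res W₁.1).scheme ⟶ ((X.ptSub x).res W'.1).scheme :=
    ptMap φ y x hxy ∣_ lowOpen φ y x hxy W.1
  haveI : IsProper f :=
    IsZariskiLocalAtTarget.restrict (inferInstance : IsProper (ptMap φ y x hxy)) _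
  have hf : f ≫ W'.1.ι ≫ X.ptSubι x = W₁.1.ι ≫ Y.ptSubι y ≫ φ := by
    show (ptMap φ y x hxy ∣_ lowOpen φ y x hxy W.1) ≫ (lowOpen φ y x hxy W.1).ι ≫ X.ptSubι x =
      (ptMap φ y x hxy ⁻¹ᵁ lowOpen φ y x hxy W.1).ι ≫ Y.ptSubι y ≫ φ
    rw [← Category.assoc, morphismRestrict_ι, Category.assoc, ptMap_ι]
  have hrc : relCodim ((Y.ptSub y).res W₁.1).scheme ((X.ptSub x).res W'.1).scheme = 0 := by
    have h1 := L.codim_eq
    unfold relCodim at h1 ⊢
    have h2 : dim ((X.ptSub x).res W'.1).scheme = dim (X.ptSub x).scheme := W'.2.2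
    have h3 : dim ((Y.ptSub y).res W₁.1).scheme = dim (Y.ptSub y).scheme := W₁.2.2
    rw [h2, h3]
    exact h1
  have hi' : i = i + 2 * relCodim ((Y.ptSub y).res W₁.1).scheme ((X.ptSub x).res W'.1).scheme := by
    rw [hrc]; ring
  have hn' : n = n + relCodim ((Y.ptSub y).res W₁.1).scheme ((X.ptSub x).res W'.1).scheme := by
    rw [hrc]; ring
  have e1 := L.cpt_spec M i n W₁ W' f hf hi' hn'
  have e2 := L'.cpt_spec M i n W₁ W' f hf hi' hn'
  have h0 := idxRes_ocolimι_apply T (Y.ptSub y) _ hle M i n γ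
  rw [← h0]
  exact (congrArg (fun k => k.hom ((idxRes T (Y.ptSub y) _ hle M i n).hom γ)) e1).trans
    (congrArg (fun k => k.hom ((idxRes T (Y.ptSub y) _ hle M i n).hom γ)) e2).symm

theorem subsingleton_ptPush : Subsingleton (T.PtPush φ y x) := by
  constructor
  intro L L'
  have h : L.cpt = L'.cpt := by
    funext M i n
    exact ptPush_cpt_eq T φ y x L L' M i n
  obtain ⟨h1, h2, c, hc⟩ := L
  obtain ⟨h1', h2', c', hc'⟩ := L'
  have h' : c = c' := h
  subst h'
  rfl

end Uniq

end Groth.Agent.Lib.H15BMPtPush
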