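import Groth.Agent.Lib.H15BMBig
import Groth.Agent.Lib.H15BMPtPush
import Groth.Agent.Lib.DimChain48

set_option autoImplicit false
set_option linter.style.haveILetI false
set_option linter.unusedSectionVars false
universe u

open CategoryTheory CategoryTheory.Limits AlgebraicGeometry Opposite Set Topology TopologicalSpace
open BMCoh WeilCoh Groth.Agent.Lib.H15BMGeom Groth.Agent.Lib.H15BMFilt Groth.Agent.Lib.H15BMDecomp
  Groth.Agent.Lib.H15BMData Groth.Agent.Lib.H15BMExt Groth.Agent.Lib.H15BMKer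
  Groth.Agent.Lib.H15RedLift Groth.Agent.Lib.H15BMTot Groth.Agent.Lib.H15BMPtPush
  Groth.Agent.Lib.H15BMToFj Groth.Agent.Lib.H15BMBig

/-!
helper15: reduced closed subschemes of an object as objects, the decomposition of an open into
its closed part and the complement, existence of points of every codimension, and the bijectivity
criterion for `H(F_{j+1+m}X) → H(F_jX)` (S15887).
-/

namespace Groth.Agent.Lib.H15BMClosed

variable {V : ObjectProperty Scheme.{u}} [BMCoh.IsConstructible V] {R : Type u} [CommRing R]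
  {A : BMCoh.Coefs R}

section TopDim

theorem topologicalKrullDim_eq_of_natDim {T : Type u} [TopologicalSpace T] {n : ℕ}
    (h : natDim T = n + 1) (hfin : topologicalKrullDim T < ⊤) :
    topologicalKrullDim T = ((n + 1 : ℕ) : WithBot ℕ∞) := by
  unfold natDim at h
  generalize topologicalKrullDim T = a at h hfin
  induction a using WithBot.recBotCoe with
  | bot => simp at h
  | coe a =>
    have ha : a ≠ ⊤ := by
      rintro rfl
      exact lt_irrefl _ hfin
    lift a to ℕ using ha
    simp only [WithBot.unbotD_coe, ENat.toNat_natCast] at h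
    rw [h]
    rfl

theorem natDim_eq_of_topologicalKrullDim {T : Type u} [TopologicalSpace T] {n : ℕ}
    (h : topologicalKrullDim T = (n : WithBot ℕ∞)) : natDim T = n := by
  unfold natDim
  rw [h]
  simp

end TopDim

section Pts

variable (X : Obj V)

/-- a point whose closure has dimension `p + 1` specialises to one whose closure has dimension `p` -/
theorem exists_pdim_pred (x : X.scheme) {p : ℕ} (hx : pdim X.scheme x = p + 1) :
    ∃ x' : X.scheme, x' ∈ closure ({x} : Set X.scheme) ∧ pdim X.scheme x' = p := by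
  have hfin : topologicalKrullDim ↥(closure ({x} : Set X.scheme)) < ⊤ :=
    lt_of_le_of_lt (topologicalKrullDim_subspace_le _ _) (finiteDim X)
  have hd := topologicalKrullDim_eq_of_natDim (T := ↥(closure ({x} : Set X.scheme))) hx hfin
  obtain ⟨W, hWc, hWi, hWZ, -, hWd⟩ :=
    Groth.Agent.Lib.DimChain48.exists_irreducible_closed_dim_pred isClosed_closure
      isIrreducible_singleton.closure hd
  have hg : IsGenericPoint hWi.genericPoint (closure W) := hWi.isGenericPoint_genericPoint_closure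
  rw [hWc.closure_eq] at hg
  refine ⟨hWi.genericPoint, hWZ hg.mem, ?_⟩
  unfold pdim
  rw [hg.def]
  exact natDim_eq_of_topologicalKrullDim hWd

theorem exists_pdim_eq [Nonempty X.scheme] (p : ℕ) (hp : p ≤ dim X.scheme) :
    ∃ x : X.scheme, pdim X.scheme x = p := by
  suffices h : ∀ k p : ℕ, p + k = dim X.scheme → ∃ x : X.scheme, pdim X.scheme x = p from
    h (dim X.scheme - p) p (by omega)
  intro k
  induction k with
  | zero =>
    intro p hpk
    obtain ⟨η, hη⟩ := exists_natDim_closure_eq (X := X.scheme) (finiteDim X)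
    exact ⟨η, by unfold pdim; unfold dim at hpk; omega⟩
  | succ k ih =>
    intro p hpk
    obtain ⟨x, hx⟩ := ih (p + 1) (by omega)
    obtain ⟨x', -, hx'⟩ := exists_pdim_pred X x hx
    exact ⟨x', hx'⟩

theorem exists_codim_eq [Nonempty X.scheme] (k : ℕ) (hk : k ≤ dim X.scheme) :
    ∃ x : X.scheme, codim X.scheme x = k := by
  obtain ⟨x, hx⟩ := exists_pdim_eq X (dim X.scheme - k) (by omega)
  exact ⟨x, by unfold codim; omega⟩

end Pts

section ClosedObj

open Scheme.IdealSheafData

theorem pdim_le_of_isInducing {Y X : Obj V} (f : Y.scheme ⟶ X.scheme) (hf : IsInducing f)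
    (z : Y.scheme) : pdim Y.scheme z ≤ pdim X.scheme (f z) := by
  have hmem : ∀ w : ↥(closure ({z} : Set Y.scheme)), f w.1 ∈ closure ({f z} : Set X.scheme) := by
    intro w
    have := map_mem_closure f.continuous w.2 (t := {f z}) (fun a ha => by
      rw [Set.mem_singleton_iff] at ha
      rw [ha]
      exact Set.mem_singleton _)
    exact this
  let φ : ↥(closure ({z} : Set Y.scheme)) → ↥(closure ({f z} : Set X.scheme)) :=
    fun w => ⟨f w.1, hmem w⟩
  have hfin : topologicalKrullDim ↥(closure ({f z} : Set X.scheme)) < ⊤ :=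
    lt_of_le_of_lt (topologicalKrullDim_subspace_le _ _) (finiteDim X)
  have hφc : Continuous φ := (f.continuous.comp continuous_subtype_val).subtype_mk _
  have hind : IsInducing φ := by
    refine IsInducing.of_comp hφc continuous_subtype_val ?_
    exact hf.comp IsInducing.subtypeVal
  exact natDim_le_of_isInducing hind hfin

variable (X : Obj V) (C : Closeds X.scheme)

/-- a closed subset with its reduced structure, as an object -/
noncomputable abbrev closedObj : Obj V :=
  ⟨(vanishingIdeal C).subscheme,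
    IsConstructible.of_isClosedImmersion (vanishingIdeal C).subschemeι X.mem⟩

/-- its closed immersion -/
noncomputable abbrev closedι : (closedObj X C).scheme ⟶ X.scheme :=
  (vanishingIdeal C).subschemeι

instance isReduced_closedObj : IsReduced (closedObj X C).scheme :=
  Groth.Agent.Lib.ReducedSubscheme.isReduced_subscheme_vanishingIdeal C

theorem range_closedι : Set.range (closedι X C) = (C : Set X.scheme) := by
  rw [range_subschemeι]
  exact coe_support_vanishingIdeal _

theorem pdim_closedObj (z : (closedObj X C).scheme) :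
    pdim (closedObj X C).scheme z = pdim X.scheme (closedι X C z) := by
  apply le_antisymm
  · exact pdim_le_of_isInducing (Y := closedObj X C) (X := X) (closedι X C)
      (closedι X C).isEmbedding.isInducing z
  · exact pdim_le_of_map_eq (Y := closedObj X C) (X := X) (closedι X C) _ z rfl

theorem dim_closedObj_le (p : ℕ) (h : ∀ x ∈ C, pdim X.scheme x ≤ p) :
    dim (closedObj X C).scheme ≤ p := by
  by_cases hne : Nonempty (closedObj X C).scheme
  · obtain ⟨η, hη⟩ := exists_natDim_closure_eq (X := (closedObj X C).scheme)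
      (finiteDim (closedObj X C))
    have h1 : pdim (closedObj X C).scheme η = dim (closedObj X C).scheme := hη
    rw [← h1, pdim_closedObj]
    apply h
    rw [← SetLike.mem_coe, ← range_closedι]
    exact ⟨η, rfl⟩
  · rw [not_nonempty_iff] at hne
    have : dim (closedObj X C).scheme = 0 := natDim_of_isEmpty _
    omega

theorem le_dim_closedObj (x : X.scheme) (hx : x ∈ C) :
    pdim X.scheme x ≤ dim (closedObj X C).scheme := by
  have hx' : x ∈ Set.range (closedι X C) := by rw [range_closedι]; exact hx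
  obtain ⟨z, rfl⟩ := hx'
  rw [← pdim_closedObj]
  exact pdim_le_dim _ z

theorem range_morphismRestrict {Y₁ Y₂ : Scheme.{u}} (f : Y₁ ⟶ Y₂) (O : Y₂.Opens) :
    Set.range (f ∣_ O) = ⇑O.ι ⁻¹' Set.range f := by
  ext z
  constructor
  · rintro ⟨t, rfl⟩
    exact ⟨t.1, (morphismRestrict_base_coe f O t).symm⟩
  · rintro ⟨t, ht⟩
    have htO : t ∈ f ⁻¹ᵁ O := by
      show f t ∈ O
      rw [ht]
      exact z.2
    refine ⟨⟨t, htO⟩, Subtype.ext ?_⟩
    exact (morphismRestrict_base_coe f O ⟨t, htO⟩).trans ht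

/-- the open complement of a closed subset -/
noncomputable abbrev complOpen : X.scheme.Opens := ⟨(C : Set X.scheme)ᶜ, C.2.isOpen_compl⟩

/-- decomposition of an open `O` of `X` into the reduced closed part `C ∩ O` and `O \ C` -/
noncomputable def closedDecomp (O : X.scheme.Opens)
    (hd : dim ((O ⊓ complOpen X C : X.scheme.Opens) : Scheme.{u}) = dim (O : Scheme.{u})) :
    Decomp (X.res O) where
  Z := (closedObj X C).res (closedι X C ⁻¹ᵁ O)
  U := X.res (O ⊓ complOpen X C)
  i := closedι X C ∣_ O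
  closedImm := IsZariskiLocalAtTarget.restrict (inferInstance : IsClosedImmersion (closedι X C)) O
  j := X.resLE inf_le_left hd
  range_eq := by
    show Set.range (X.scheme.homOfLE (inf_le_left : O ⊓ complOpen X C ≤ O)) = _
    rw [range_homOfLE, range_morphismRestrict, range_closedι]
    ext z
    simp only [Set.mem_preimage, Set.mem_compl_iff]
    constructor
    · intro h
      exact h.2
    · intro h
      exact ⟨z.2, h⟩

end ClosedObj

section Codim

variable (X : Obj V) (C : Closeds X.scheme) {j : ℕ}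
  (hCd : dim (closedObj X C).scheme + (j + 1) = dim X.scheme)

include hCd in
theorem codim_ge_of_mem (x : X.scheme) (hx : x ∈ C) : j + 1 ≤ codim X.scheme x := by
  have h1 := le_dim_closedObj X C x hx
  unfold codim
  omega

include hCd in
theorem containsFj_complOpen : ContainsFj X j (complOpen X C) := by
  intro y hy hyC
  have := codim_ge_of_mem X C hCd y hyC
  omega

include hCd in
theorem codim_closedObj (z : (closedObj X C).scheme) :
    codim (closedObj X C).scheme z + (j + 1) = codim X.scheme (closedι X C z) := by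
  have h1 := pdim_closedObj X C z
  have h2 := pdim_le_dim (closedObj X C) z
  unfold codim
  omega

include hCd in
theorem containsFj_preimage (m : ℕ) (O : X.scheme.Opens) (hO : ContainsFj X (j + 1 + m) O) :
    ContainsFj (closedObj X C) m (closedι X C ⁻¹ᵁ O) := by
  intro z hz
  apply hO
  rw [← codim_closedObj X C hCd z]
  omega

/-- `O` minus the image of the complement of an open `Z'` of the closed part -/
noncomputable def cutOpen (O : X.scheme.Opens) (Z' : (closedObj X C).scheme.Opens) :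
    X.scheme.Opens :=
  O ⊓ ⟨(closedι X C '' (Z' : Set (closedObj X C).scheme)ᶜ)ᶜ,
    ((closedι X C).isClosedMap _ Z'.2.isClosed_compl).isOpen_compl⟩

theorem cutOpen_le (O : X.scheme.Opens) (Z' : (closedObj X C).scheme.Opens) :
    cutOpen X C O Z' ≤ O := inf_le_left

theorem preimage_cutOpen_le (O : X.scheme.Opens) (Z' : (closedObj X C).scheme.Opens) :
    closedι X C ⁻¹ᵁ cutOpen X C O Z' ≤ Z' := by
  intro z hz
  by_contra hzZ
  exact hz.2 ⟨z, hzZ, rfl⟩

include hCd in
theorem containsFj_cutOpen (m : ℕ) (O : X.scheme.Opens) (hO : ContainsFj X (j + 1 + m) O)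
    (Z' : (closedObj X C).scheme.Opens) (hZ' : ContainsFj (closedObj X C) m Z') :
    ContainsFj X (j + 1 + m) (cutOpen X C O Z') := by
  intro x hx
  refine ⟨hO x hx, ?_⟩
  rintro ⟨z, hzZ, rfl⟩
  apply hzZ
  apply hZ'
  have := codim_closedObj X C hCd z
  omega

theorem complOpen_le_cutOpen (O : X.scheme.Opens) (Z' : (closedObj X C).scheme.Opens) :
    O ⊓ complOpen X C ≤ cutOpen X C O Z' := by
  intro x hx
  refine ⟨hx.1, ?_⟩
  rintro ⟨z, -, rfl⟩
  apply hx.2
  rw [← range_closedι]
  exact ⟨z, rfl⟩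

theorem exists_closed (U : Idx X (ContainsFj X j)) (hdim : j + 1 ≤ dim X.scheme) :
    ∃ C : Closeds X.scheme, complOpen X C ≤ U.1 ∧
      dim (closedObj X C).scheme + (j + 1) = dim X.scheme := by
  haveI : Nonempty X.scheme := by
    by_contra hne
    rw [not_nonempty_iff] at hne
    have : dim X.scheme = 0 := natDim_of_isEmpty _
    omega
  obtain ⟨x₀, hx₀⟩ := exists_codim_eq X (j + 1) hdim
  have hp₀ := pdim_le_dim X x₀
  let C : Closeds X.scheme := ⟨(U.1 : Set X.scheme)ᶜ ∪ closure {x₀},
    U.1.2.isClosed_compl.union isClosed_closure⟩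
  refine ⟨C, ?_, ?_⟩
  · intro x hx
    by_contra hxU
    exact hx (Or.inl hxU)
  · have h1 : dim (closedObj X C).scheme ≤ dim X.scheme - (j + 1) := by
      apply dim_closedObj_le
      rintro x (hx | hx)
      · have hcd : j + 1 ≤ codim X.scheme x := by
          by_contra hlt
          exact hx (U.2.1 x (by omega))
        have := pdim_le_dim X x
        unfold codim at hcd
        omega
      · have := pdim_le_of_mem_closure X hx
        unfold codim at hx₀
        omega
    have h2 := le_dim_closedObj X C x₀ (Or.inr (subset_closure rfl))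
    unfold codim at hx₀
    omega

end Codim

section Inj

theorem isPullback_restrict_le' {X Y : Scheme.{u}} (f : X ⟶ Y) {W'' W' : Y.Opens} (hle : W'' ≤ W') :
    IsPullback (X.homOfLE (f.preimage_mono hle)) (f ∣_ W'') (f ∣_ W') (Y.homOfLE hle) := by
  have hbig := (isPullback_morphismRestrict f W'').flip
  have hright := (isPullback_morphismRestrict f W').flip
  refine IsPullback.of_right ?_ ?_ hright
  · rw [Scheme.homOfLE_ι, Scheme.homOfLE_ι]
    exact hbig
  · exact (morphismRestrict_homOfLE f W'' W' hle).symm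

variable (T : BMCoh.PreTheory V R A) (X : Obj V) (C : Closeds X.scheme) {j : ℕ}
  (hCd : dim (closedObj X C).scheme + (j + 1) = dim X.scheme)

include hCd in
theorem relCodim_closedDecomp (m : ℕ) (O : Idx X (ContainsFj X (j + 1 + m)))
    (hd : dim ((O.1 ⊓ complOpen X C : X.scheme.Opens) : Scheme.{u}) = dim (O.1 : Scheme.{u})) :
    relCodim (closedDecomp X C O.1 hd).Z.scheme (X.res O.1).scheme = (j : ℤ) + 1 := by
  have hZc := containsFj_preimage X C hCd m O.1 O.2.1
  have h1 : dim ((closedι X C ⁻¹ᵁ O.1 : (closedObj X C).scheme.Opens) : Scheme.{u}) =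
      dim (closedObj X C).scheme := dim_eq_of_containsFj _ _ hZc
  have h2 : dim (O.1 : Scheme.{u}) = dim X.scheme := O.2.2
  unfold relCodim
  show ((dim (O.1 : Scheme.{u}) : ℕ) : ℤ) -
    dim ((closedι X C ⁻¹ᵁ O.1 : (closedObj X C).scheme.Opens) : Scheme.{u}) = _
  rw [h1, h2]
  omega

include hCd in
theorem fjι_eq_zero_of_closed (m : ℕ) (M : A.Cat) (i0 n i' n' : ℤ)
    (hi' : i0 + 1 = i' + 2 * ((j : ℤ) + 1)) (hn' : n = n' + ((j : ℤ) + 1))
    (hvan : IsZero (T.fjGp (closedObj X C) m M i' n'))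
    (O : Idx X (ContainsFj X (j + 1 + m)))
    (hd : dim ((O.1 ⊓ complOpen X C : X.scheme.Opens) : Scheme.{u}) = dim (O.1 : Scheme.{u}))
    (b : T.gp (X.res O.1) M (i0 + 1) n)
    (hb : (T.pull (X.resLE (inf_le_left : O.1 ⊓ complOpen X C ≤ O.1) hd) M (i0 + 1) n).hom b = 0) :
    ((T.fjι X (j + 1 + m) (i0 + 1) n O).app M).hom b = 0 := by
  let D := closedDecomp X C O.1 hd
  have hZc := containsFj_preimage X C hCd m O.1 O.2.1
  let ZO : Idx (closedObj X C) (ContainsFj (closedObj X C) m) :=
    ⟨closedι X C ⁻¹ᵁ O.1, hZc, dim_eq_of_containsFj _ _ hZc⟩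
  have hcd := relCodim_closedDecomp X C hCd m O hd
  have hiD : i0 + 1 = i' + 2 * relCodim D.Z.scheme (X.res O.1).scheme := by rw [hcd]; exact hi'
  have hnD : n = n' + relCodim D.Z.scheme (X.res O.1).scheme := by rw [hcd]; exact hn'
  obtain ⟨γ, hγ⟩ := (T.exact_push_pull D M i0 n i' n' hiD hnD b).1 hb
  have h0 : ((T.fjι (closedObj X C) m i' n' ZO).app M).hom γ = 0 :=
    Groth.Agent.Lib.H15BMSeq.eq_zero_of_isZero hvan _
  haveI : IsCofiltered (Idx (closedObj X C) (ContainsFj (closedObj X C) m)) :=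
    isCofiltered_idx_containsFj (closedObj X C) m
  obtain ⟨Z', hle, hz⟩ := ocolimι_eq_zero T (closedObj X C) _ M i' n' ZO γ h0
  have hO'c := containsFj_cutOpen X C hCd m O.1 O.2.1 Z'.1 Z'.2.1
  let O' : Idx X (ContainsFj X (j + 1 + m)) :=
    ⟨cutOpen X C O.1 Z'.1, hO'c, dim_eq_of_containsFj X _ hO'c⟩
  have hO'O : O' ≤ O := cutOpen_le X C O.1 Z'.1
  have hZ''c := containsFj_preimage X C hCd m O'.1 hO'c
  let Z'' : Idx (closedObj X C) (ContainsFj (closedObj X C) m) :=
    ⟨closedι X C ⁻¹ᵁ O'.1, hZ''c, dim_eq_of_containsFj _ _ hZ''c⟩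
  have hZ''Z' : Z'' ≤ Z' := preimage_cutOpen_le X C O.1 Z'.1
  have hZ''ZO : Z'' ≤ ZO := (closedι X C).preimage_mono hO'O
  have hd' : dim ((O'.1 ⊓ complOpen X C : X.scheme.Opens) : Scheme.{u}) = dim (O'.1 : Scheme.{u}) := by
    have hc : ContainsFj X j (O'.1 ⊓ complOpen X C) := fun y hy =>
      ⟨O'.2.1 y (by omega), containsFj_complOpen X C hCd y hy⟩
    exact (dim_eq_of_containsFj X _ hc).trans O'.2.2.symm
  have hcd' := relCodim_closedDecomp X C hCd m O' hd'
  have hiD' : i0 + 1 = i' + 2 * relCodim (closedDecomp X C O'.1 hd').Z.scheme (X.res O'.1).scheme := by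
    rw [hcd']; exact hi'
  have hnD' : n = n' + relCodim (closedDecomp X C O'.1 hd').Z.scheme (X.res O'.1).scheme := by
    rw [hcd']; exact hn'
  haveI : IsClosedImmersion (closedι X C ∣_ O.1) :=
    IsZariskiLocalAtTarget.restrict (inferInstance : IsClosedImmersion (closedι X C)) O.1
  haveI : IsClosedImmersion (closedι X C ∣_ O'.1) :=
    IsZariskiLocalAtTarget.restrict (inferInstance : IsClosedImmersion (closedι X C)) O'.1
  have hbc := T.push_pull (X := (closedObj X C).res (closedι X C ⁻¹ᵁ O.1)) (Y := X.res O.1)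
    (X' := (closedObj X C).res (closedι X C ⁻¹ᵁ O'.1)) (Y' := X.res O'.1)
    (closedι X C ∣_ O.1) (closedι X C ∣_ O'.1) (X.resLE hO'O (O'.2.2.trans O.2.2.symm))
    ((closedObj X C).resLE hZ''ZO (Z''.2.2.trans ZO.2.2.symm))
    (isPullback_restrict_le' (closedι X C) hO'O) M i' n' (i0 + 1) n hiD hnD hiD' hnD'
  have h1 : (idxRes T X _ hO'O M (i0 + 1) n).hom b = 0 := by
    rw [← hγ]
    refine (congrArg (fun k => k.hom γ) hbc).trans ?_
    show (T.push (X := (closedObj X C).res (closedι X C ⁻¹ᵁ O'.1)) (Y := X.res O'.1)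
      (closedι X C ∣_ O'.1) M i' n' (i0 + 1) n hiD' hnD').hom
      ((idxRes T (closedObj X C) _ hZ''ZO M i' n').hom γ) = 0
    rw [← idxRes_comp_apply T (closedObj X C) _ hZ''Z' hle M i' n' γ, hz, map_zero, map_zero]
  rw [← idxRes_ocolimι_apply T X _ hO'O M (i0 + 1) n b, h1, map_zero]

end Inj

section Surj

variable (T : BMCoh.PreTheory V R A) (X : Obj V) (C : Closeds X.scheme) {j : ℕ}
  (hCd : dim (closedObj X C).scheme + (j + 1) = dim X.scheme)

include hCd in
theorem containsFj_inf_complOpen (m : ℕ) (O : X.scheme.Opens) (hO : ContainsFj X (j + 1 + m) O) :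
    ContainsFj X j (O ⊓ complOpen X C) := fun y hy =>
  ⟨hO y (by omega), containsFj_complOpen X C hCd y hy⟩

include hCd in
theorem exists_extension_of_closed (m : ℕ) (M : A.Cat) (i n i' n' : ℤ)
    (hi' : i' = i + 1 - 2 * ((j : ℤ) + 1)) (hn' : n' = n - ((j : ℤ) + 1))
    (hvan : IsZero (T.fjGp (closedObj X C) m M i' n'))
    (UC : Idx X (ContainsFj X j)) (hUC : UC.1 = ⊤ ⊓ complOpen X C)
    (a : T.gp (X.res UC.1) M i n) :
    ∃ β : T.fjGp X (j + 1 + m) M i n,
      ((T.fjRes X ((Nat.le_succ j).trans (Nat.le_add_right (j + 1) m)) i n).app M).hom β =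
        ((T.fjι X j i n UC).app M).hom a := by
  obtain ⟨UCo, hUC1, hUC2⟩ := UC
  obtain rfl : UCo = ⊤ ⊓ complOpen X C := hUC
  let Otop : Idx X (ContainsFj X (j + 1 + m)) := topIdx X (j + 1 + m)
  have hd : dim (((⊤ : X.scheme.Opens) ⊓ complOpen X C : X.scheme.Opens) : Scheme.{u}) =
      dim ((⊤ : X.scheme.Opens) : Scheme.{u}) := hUC2.trans Otop.2.2.symm
  let D := closedDecomp X C ⊤ hd
  have hcd : relCodim D.Z.scheme (X.res ⊤).scheme = (j : ℤ) + 1 :=
    relCodim_closedDecomp X C hCd m Otop hd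
  have hiD : i' = i + 1 - 2 * D.codim := by
    rw [show D.codim = (j : ℤ) + 1 from hcd]; exact hi'
  have hnD : n' = n - D.codim := by
    rw [show D.codim = (j : ℤ) + 1 from hcd]; exact hn'
  let ρ := (T.res D M i n i' n' hiD hnD).hom a
  have hZc := containsFj_preimage X C hCd m ⊤ Otop.2.1
  let ZO : Idx (closedObj X C) (ContainsFj (closedObj X C) m) :=
    ⟨closedι X C ⁻¹ᵁ ⊤, hZc, dim_eq_of_containsFj _ _ hZc⟩
  have h0 : ((T.fjι (closedObj X C) m i' n' ZO).app M).hom ρ = 0 :=
    Groth.Agent.Lib.H15BMSeq.eq_zero_of_isZero hvan _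
  haveI : IsCofiltered (Idx (closedObj X C) (ContainsFj (closedObj X C) m)) :=
    isCofiltered_idx_containsFj (closedObj X C) m
  obtain ⟨Z', hle, hz⟩ := ocolimι_eq_zero T (closedObj X C) _ M i' n' ZO ρ h0
  have hO'c := containsFj_cutOpen X C hCd m ⊤ Otop.2.1 Z'.1 Z'.2.1
  let O' : Idx X (ContainsFj X (j + 1 + m)) :=
    ⟨cutOpen X C ⊤ Z'.1, hO'c, dim_eq_of_containsFj X _ hO'c⟩
  have hO'O : O' ≤ Otop := cutOpen_le X C ⊤ Z'.1
  have hZ''c := containsFj_preimage X C hCd m O'.1 hO'c
  let Z'' : Idx (closedObj X C) (ContainsFj (closedObj X C) m) :=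
    ⟨closedι X C ⁻¹ᵁ O'.1, hZ''c, dim_eq_of_containsFj _ _ hZ''c⟩
  have hZ''Z' : Z'' ≤ Z' := preimage_cutOpen_le X C ⊤ Z'.1
  have hZ''ZO : Z'' ≤ ZO := (closedι X C).preimage_mono hO'O
  have hcF' := containsFj_inf_complOpen X C hCd m O'.1 hO'c
  let UC' : Idx X (ContainsFj X j) := ⟨O'.1 ⊓ complOpen X C, hcF', dim_eq_of_containsFj X _ hcF'⟩
  have hd' : dim ((O'.1 ⊓ complOpen X C : X.scheme.Opens) : Scheme.{u}) = dim (O'.1 : Scheme.{u}) :=
    UC'.2.2.trans O'.2.2.symm
  let D' := closedDecomp X C O'.1 hd'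
  have hcd' : relCodim D'.Z.scheme (X.res O'.1).scheme = (j : ℤ) + 1 :=
    relCodim_closedDecomp X C hCd m O' hd'
  have hiD' : i' = i + 1 - 2 * D'.codim := by
    rw [show D'.codim = (j : ℤ) + 1 from hcd']; exact hi'
  have hnD' : n' = n - D'.codim := by
    rw [show D'.codim = (j : ℤ) + 1 from hcd']; exact hn'
  have hUle : O'.1 ⊓ complOpen X C ≤ ⊤ ⊓ complOpen X C := inf_le_inf_right _ hO'O
  let gZ : D'.Z ⟶ D.Z := (closedObj X C).resLE hZ''ZO (Z''.2.2.trans ZO.2.2.symm)
  let gU : D'.U ⟶ D.U := X.resLE hUle (UC'.2.2.trans hUC2.symm)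
  let g : X.res O'.1 ⟶ X.res ⊤ := X.resLE hO'O (O'.2.2.trans Otop.2.2.symm)
  have hrp := T.res_pull D D' g gZ gU
    (by
      show (closedObj X C).scheme.homOfLE hZ''ZO ≫ (closedι X C ∣_ ⊤) =
        (closedι X C ∣_ O'.1) ≫ X.scheme.homOfLE hO'O
      exact (morphismRestrict_homOfLE (closedι X C) O'.1 ⊤ hO'O).symm)
    (by
      apply BMCoh.Hom.ext
      show X.scheme.homOfLE hUle ≫ X.scheme.homOfLE inf_le_left =
        X.scheme.homOfLE inf_le_left ≫ X.scheme.homOfLE hO'O
      rw [Scheme.homOfLE_homOfLE, Scheme.homOfLE_homOfLE])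
    M i n i' n' hiD hnD hiD' hnD'
  have h1 : (T.res D' M i n i' n' hiD' hnD').hom ((T.pull gU M i n).hom a) = 0 := by
    refine (congrArg (fun k => k.hom a) hrp).symm.trans ?_
    show (idxRes T (closedObj X C) _ hZ''ZO M i' n').hom ρ = 0
    rw [← idxRes_comp_apply T (closedObj X C) _ hZ''Z' hle M i' n' ρ, hz, map_zero]
  obtain ⟨ã, hã⟩ := (T.exact_pull_res D' M i n i' n' hiD' hnD' _).1 h1
  refine ⟨((T.fjι X (j + 1 + m) i n O').app M).hom ã, ?_⟩
  have hfr := congrArg (fun k => k.hom ã)
    (fjRes_fjι T X ((Nat.le_succ j).trans (Nat.le_add_right (j + 1) m)) O' M i n)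
  refine hfr.trans ?_
  have hUC'le : UC' ≤ (idxIncl X (containsFj_mono X
      ((Nat.le_succ j).trans (Nat.le_add_right (j + 1) m)))).obj O' :=
    (inf_le_left : O'.1 ⊓ complOpen X C ≤ O'.1)
  have e1 := idxRes_ocolimι_apply T X (ContainsFj X j) hUC'le M i n ã
  have hUC'UC : UC' ≤ (⟨⊤ ⊓ complOpen X C, hUC1, hUC2⟩ : Idx X (ContainsFj X j)) := hUle
  have e2 := idxRes_ocolimι_apply T X (ContainsFj X j) hUC'UC M i n a
  refine e1.symm.trans (Eq.trans ?_ e2)
  exact congrArg ((T.fjι X j i n UC').app M).hom hã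

end Surj

section Main

theorem bijective_fjRes_of_vanish (T : BMCoh.PreTheory V R A) (X : Obj V) (M : A.Cat) (j m : ℕ)
    (i n : ℤ)
    (hZ : ∀ (Z : BMCoh.Obj V) (ι : Z.scheme ⟶ X.scheme) [IsClosedImmersion ι] [IsReduced Z.scheme],
      WeilCoh.dim Z.scheme + (j + 1) = WeilCoh.dim X.scheme →
      IsZero (T.fjGp Z m M (i - 2 * ((j : ℤ) + 1)) (n - ((j : ℤ) + 1))) ∧
        IsZero (T.fjGp Z m M (i + 1 - 2 * ((j : ℤ) + 1)) (n - ((j : ℤ) + 1)))) :
    Function.Bijective
      ((T.fjRes X ((Nat.le_succ j).trans (Nat.le_add_right (j + 1) m)) i n).app M).hom := by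
  by_cases hdim : j + 1 ≤ dim X.scheme
  · constructor
    · obtain ⟨i0, rfl⟩ : ∃ i0, i = i0 + 1 := ⟨i - 1, by ring⟩
      rw [injective_iff_map_eq_zero]
      intro β hβ
      obtain ⟨O, b, rfl⟩ := ocolim_exists_rep T X (ContainsFj X (j + 1 + m)) M (i0 + 1) n β
      have h0 : ((T.fjι X j (i0 + 1) n ((idxIncl X (containsFj_mono X
          ((Nat.le_succ j).trans (Nat.le_add_right (j + 1) m)))).obj O)).app M).hom b = 0 :=
        (congrArg (fun k => k.hom b) (fjRes_fjι T X
          ((Nat.le_succ j).trans (Nat.le_add_right (j + 1) m)) O M (i0 + 1) n)).symm.trans hβ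
      obtain ⟨U, hUO, hz⟩ := ocolimι_eq_zero T X (ContainsFj X j) M (i0 + 1) n
        ((idxIncl X (containsFj_mono X
          ((Nat.le_succ j).trans (Nat.le_add_right (j + 1) m)))).obj O) b h0
      obtain ⟨C, hCU, hCd⟩ := exists_closed X U hdim
      have hvan := (hZ (closedObj X C) (closedι X C) hCd).1
      have hcF := containsFj_inf_complOpen X C hCd m O.1 O.2.1
      have hd : dim ((O.1 ⊓ complOpen X C : X.scheme.Opens) : Scheme.{u}) = dim (O.1 : Scheme.{u}) :=
        (dim_eq_of_containsFj X _ hcF).trans O.2.2.symm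
      refine fjι_eq_zero_of_closed T X C hCd m M i0 n _ _ (by ring) (by ring) hvan O hd b ?_
      let UCO : Idx X (ContainsFj X j) :=
        ⟨O.1 ⊓ complOpen X C, hcF, dim_eq_of_containsFj X _ hcF⟩
      have hle1 : UCO ≤ U := fun x hx => hCU hx.2
      have h3 := idxRes_comp_apply T X (ContainsFj X j) hle1 hUO M (i0 + 1) n b
      show (idxRes T X (ContainsFj X j) (hle1.trans hUO) M (i0 + 1) n).hom b = 0
      rw [← h3, hz, map_zero]
    · intro α
      obtain ⟨U, a, rfl⟩ := ocolim_exists_rep T X (ContainsFj X j) M i n α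
      obtain ⟨C, hCU, hCd⟩ := exists_closed X U hdim
      have hvan := (hZ (closedObj X C) (closedι X C) hCd).2
      have hcF := containsFj_inf_complOpen X C hCd m ⊤ (fun _ _ => trivial)
      let UC : Idx X (ContainsFj X j) :=
        ⟨⊤ ⊓ complOpen X C, hcF, dim_eq_of_containsFj X _ hcF⟩
      have hle : UC ≤ U := fun x hx => hCU hx.2
      obtain ⟨β, hβ⟩ := exists_extension_of_closed T X C hCd m M i n _ _ rfl rfl hvan UC rfl
        ((idxRes T X _ hle M i n).hom a)
      exact ⟨β, hβ.trans (idxRes_ocolimι_apply T X _ hle M i n a)⟩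
  · have hj : dim X.scheme ≤ j := by omega
    have h1 := bijective_toFj_of_dim_le T X j hj M i n
    have h2 := bijective_toFj_of_dim_le T X (j + 1 + m) (by omega) M i n
    have h3 : (T.toFj X (j + 1 + m) i n).app M ≫
        (T.fjRes X ((Nat.le_succ j).trans (Nat.le_add_right (j + 1) m)) i n).app M =
        (T.toFj X j i n).app M := by
      rw [toFj_app, toFj_app, Category.assoc, fjRes_fjι]
      rfl
    have h4 : ((T.toFj X j i n).app M).hom =
        ((T.fjRes X ((Nat.le_succ j).trans (Nat.le_add_right (j + 1) m)) i n).app M).hom ∘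
          ((T.toFj X (j + 1 + m) i n).app M).hom := by
      rw [← h3]
      rfl
    rw [h4] at h1
    exact (Function.Bijective.of_comp_iff _ h2).1 h1

end Main

end Groth.Agent.Lib.H15BMClosed
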