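import Groth.Agent.Lib.H15BMTot

set_option autoImplicit false
set_option linter.style.haveILetI false
set_option linter.unusedSectionVars false
universe u

open CategoryTheory CategoryTheory.Limits AlgebraicGeometry Opposite Set Topology TopologicalSpace
open BMCoh WeilCoh Groth.Agent.Lib.H15BMGeom Groth.Agent.Lib.H15BMFilt Groth.Agent.Lib.H15BMDecomp
  Groth.Agent.Lib.H15BMData Groth.Agent.Lib.H15BMExt Groth.Agent.Lib.H15BMKer Groth.Agent.Lib.H15BMSeq
  Groth.Agent.Lib.H15BMKerGen Groth.Agent.Lib.H15BMLevel0 Groth.Agent.Lib.H15BMRetr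
  Groth.Agent.Lib.H15BMToFj Groth.Agent.Lib.H15BMAdd Groth.Agent.Lib.H15RedLift
  Groth.Agent.Lib.H15BMTot

/-!
helper15: the composite `ι_* ∘ ∂` of the total residue and the total push-forward vanishes
(half of S15928).
-/

namespace Groth.Agent.Lib.H15BMComp

variable {V : ObjectProperty Scheme.{u}} [BMCoh.IsConstructible V] {R : Type u} [CommRing R]
  {A : BMCoh.Coefs R}

theorem directSum_eq_sum_subtype {ι : Type*} [DecidableEq ι] {β : ι → Type*}
    [∀ i, AddCommGroup (β i)] [∀ i, Module R (β i)] (p : ι → Prop) [Fintype {i // p i}]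
    (ξ : DirectSum ι β) (h : ∀ i, ¬ p i → ξ i = 0) :
    ξ = ∑ x : {i // p i}, DirectSum.lof R ι β x.1 (ξ x.1) := by
  refine DFinsupp.ext fun i => ?_
  rw [DFinsupp.finsetSum_apply]
  by_cases hp : p i
  · rw [Finset.sum_eq_single ⟨i, hp⟩]
    · exact (DirectSum.lof_apply R i (ξ i)).symm
    · intro x _ hx
      exact DirectSum.of_eq_of_ne x.1 i (ξ x.1) (fun h => hx (Subtype.ext h.symm))
    · intro h
      exact absurd (Finset.mem_univ _) h
  · rw [h i hp]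
    symm
    apply Finset.sum_eq_zero
    intro x _
    exact DirectSum.of_eq_of_ne x.1 i (ξ x.1) (fun h => hp (h ▸ x.2))

theorem push_congr (T : BMCoh.PreTheory V R A) {Y W : Obj V} {f f' : Y.scheme ⟶ W.scheme}
    [IsProper f] [IsProper f'] (h : f = f') (M : A.Cat) (i n i' n' : ℤ)
    (hi : i' = i + 2 * relCodim Y.scheme W.scheme) (hn : n' = n + relCodim Y.scheme W.scheme) :
    T.push f M i n i' n' hi hn = T.push f' M i n i' n' hi hn := by
  subst h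
  rfl

section Main1

variable (T : BMCoh.PreTheory V R A) (X : Obj V) {j : ℕ}

theorem tot_tot_eq_zero (Q : T.ResData X j) (P : T.PushData X (j + 1)) (M : A.Cat)
    (i n i' n' : ℤ) (hi : i' = i + 1 - 2 * ((j : ℤ) + 1)) (hn : n' = n - ((j : ℤ) + 1))
    (hi2 : i + 1 = i' + 2 * ((j + 1 : ℕ) : ℤ)) (hn2 : n = n' + ((j + 1 : ℕ) : ℤ))
    (α : T.fjGp X j M i n) :
    (P.tot M i' n' (i + 1) n hi2 hn2).hom ((Q.tot M i n i' n' hi hn).hom α) = 0 := by
  classical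
  obtain ⟨U₀, a, rfl⟩ := ocolim_exists_rep T X (ContainsFj X j) M i n α
  haveI := finite_bad X U₀
  let Yc : Idx X (ContainsFj X (j + 1)) := topIdx X (j + 1)
  letI : Fintype (Bad X U₀) := Fintype.ofFinite _
  let α := ((T.ocolimι X (ContainsFj X j) i n U₀).app M).hom a
  let ξ := (Q.tot M i n i' n' hi hn).hom α
  have hξ0 : ∀ y : X.cdPt (j + 1), ¬ (y.1 ∉ U₀.1) → ξ y = 0 := by
    intro y hy
    rw [not_not] at hy
    exact congrArg (fun k => k.hom a) (resData_cpt_in T X Q U₀ y hy M i n i' n' hi hn)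
  have hξ := directSum_eq_sum_subtype (R := R) (fun y : X.cdPt (j + 1) => y.1 ∉ U₀.1) ξ hξ0
  show (P.tot M i' n' (i + 1) n hi2 hn2).hom ξ = 0
  rw [hξ, map_sum]
  by_cases hne : Nonempty (Bad X U₀)
  swap
  · rw [not_nonempty_iff] at hne
    exact Finset.sum_of_isEmpty _
  obtain ⟨x₁⟩ := hne
  let D := Dtot X U₀ Yc
  have hcd : D.codim = (j : ℤ) + 1 := codim_Dtot X U₀ Yc x₁
  have hiD : i' = i + 1 - 2 * D.codim := by rw [hcd]; exact hi
  have hnD : n' = n - D.codim := by rw [hcd]; exact hn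
  have hcd' : relCodim D.Z.scheme (X.res (Ytot X U₀ Yc)).scheme = ((j + 1 : ℕ) : ℤ) := by
    rw [Nat.cast_add, Nat.cast_one]; exact hcd
  have hiP : i + 1 = i' + 2 * relCodim D.Z.scheme (X.res (Ytot X U₀ Yc)).scheme := by
    rw [hcd']; exact hi2
  have hnP : n = n' + relCodim D.Z.scheme (X.res (Ytot X U₀ Yc)).scheme := by
    rw [hcd']; exact hn2
  let ρ := (T.res D M i n i' n' hiD hnD).hom a
  have hE : (T.push D.i M i' n' (i + 1) n hiP hnP).hom ρ = 0 :=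
    (T.exact_res_push D M i n i' n' hiD hnD hiP hnP).apply_apply_eq_zero a
  haveI hclg : ∀ x : Bad X U₀, IsClosedImmersion (gTot X U₀ Yc x).hom :=
    isClosedImmersion_of_cover (Ztot X U₀ Yc) (fun x : Bad X U₀ => (X.ptSub x.1.1).res (Wc X U₀ Yc x).1)
      (gTot X U₀ Yc) (fun x x' h => disjoint_range_gSch X U₀ Yc x x' h) (exists_mem_range_gSch X U₀ Yc)
  have hD := sum_push_pull T (Ztot X U₀ Yc) (fun x : Bad X U₀ => (X.ptSub x.1.1).res (Wc X U₀ Yc x).1)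
    (gTot X U₀ Yc) (fun x x' h => disjoint_range_gSch X U₀ Yc x x' h) (exists_mem_range_gSch X U₀ Yc)
    M i' n' ρ
  have hA : ∀ x : Bad X U₀, (Q.cpt x.1 M i n i' n' hi hn).hom α =
      ((T.ptι X x.1.1 i' n' (Wc X U₀ Yc x)).app M).hom ((T.pull (gTot X U₀ Yc x) M i' n').hom ρ) := by
    intro x
    have hYd : dim ((Ytot X U₀ Yc : X.scheme.Opens) : Scheme.{u}) = dim X.scheme :=
      (YtotIdx X U₀ Yc).2.2
    let e : X.res (Ytot X U₀ Yc) ⟶ X := X.resι (Ytot X U₀ Yc) hYd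
    have h1 := Q.cpt_spec x.1 M i n i' n' hi hn e D (Wc X U₀ Yc x) (gTot X U₀ Yc x)
      (by
        show gSch X U₀ Yc x ≫ ιtot X U₀ Yc ≫ (Ytot X U₀ Yc).ι = _
        rw [gSch_ιtot_assoc, pieceLift_ι])
      U₀ (𝟙 _)
      (by
        show 𝟙 _ ≫ X.scheme.homOfLE (le_Ytot X U₀ Yc) ≫ (Ytot X U₀ Yc).ι = _
        rw [Category.id_comp, Scheme.homOfLE_ι])
      hiD hnD
    erw [pull_id, Category.id_comp] at h1
    exact congrArg (fun k => k.hom a) h1
  have hB : ∀ (x : Bad X U₀) (γ : T.gp ((X.ptSub x.1.1).res (Wc X U₀ Yc x).1) M i' n'),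
      (P.cpt x.1 M i' n' (i + 1) n hi2 hn2).hom
        (((T.ptι X x.1.1 i' n' (Wc X U₀ Yc x)).app M).hom γ) =
      ((T.fjι X (j + 1) (i + 1) n (YtotIdx X U₀ Yc)).app M).hom
        ((T.push D.i M i' n' (i + 1) n hiP hnP).hom
          ((T.push (gTot X U₀ Yc x).hom M i' n' i' n' (hi_of_hom (gTot X U₀ Yc x) i')
            (hn_of_hom (gTot X U₀ Yc x) n')).hom γ)) := by
    intro x γ
    let f : ((X.ptSub x.1.1).res (Wc X U₀ Yc x).1).scheme ⟶ (X.res (YtotIdx X U₀ Yc).1).scheme :=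
      pieceLift X x.1.1 (Wc X U₀ Yc x).1 (Ytot X U₀ Yc) (pieceSet_Wc_subset_Ytot X U₀ Yc x)
    haveI hclf : IsClosedImmersion (pieceLift X x.1.1 (Wc X U₀ Yc x).1 (Ytot X U₀ Yc)
        (pieceSet_Wc_subset_Ytot X U₀ Yc x)) :=
      isClosedImmersion_pieceLift X x.1.1 (Wc X U₀ Yc x).1 (Ytot X U₀ Yc) _
        (closure_inter_Ytot_subset X U₀ Yc x)
    haveI : IsClosedImmersion f := hclf
    have hrc : relCodim ((X.ptSub x.1.1).res (Wc X U₀ Yc x).1).scheme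
        (X.res (YtotIdx X U₀ Yc).1).scheme = ((j + 1 : ℕ) : ℤ) :=
      relCodim_piece X x.1.1 x.1.2 (Wc X U₀ Yc x).1 (Wc X U₀ Yc x).2.2 (Ytot X U₀ Yc) (YtotIdx X U₀ Yc).2.2
    have hi' : i + 1 = i' + 2 * relCodim ((X.ptSub x.1.1).res (Wc X U₀ Yc x).1).scheme
        (X.res (YtotIdx X U₀ Yc).1).scheme := by rw [hrc]; exact hi2
    have hn' : n = n' + relCodim ((X.ptSub x.1.1).res (Wc X U₀ Yc x).1).scheme
        (X.res (YtotIdx X U₀ Yc).1).scheme := by rw [hrc]; exact hn2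
    have h1 := P.cpt_spec x.1 M i' n' (i + 1) n hi2 hn2 (YtotIdx X U₀ Yc) (Wc X U₀ Yc x) f
      (pieceLift_ι X x.1.1 (Wc X U₀ Yc x).1 (Ytot X U₀ Yc) _) hi' hn'
    have h1' := congrArg (fun k => k.hom γ) h1
    refine h1'.trans ?_
    haveI : IsClosedImmersion (gSch X U₀ Yc x) := hclg x
    have hcomp := T.push_comp (X := (X.ptSub x.1.1).res (Wc X U₀ Yc x).1) (Y := Ztot X U₀ Yc)
      (Z := X.res (Ytot X U₀ Yc)) (gSch X U₀ Yc x) (ιtot X U₀ Yc) M i' n' i' n' (i + 1) n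
      (hi_of_hom (gTot X U₀ Yc x) i') (hn_of_hom (gTot X U₀ Yc x) n') hiP hnP hi' hn'
    have hcongr := push_congr T (Y := (X.ptSub x.1.1).res (Wc X U₀ Yc x).1)
      (W := X.res (Ytot X U₀ Yc)) (gSch_ιtot X U₀ Yc x) M i' n' (i + 1) n hi' hn'
    have h2 := congrArg (fun k => k.hom γ) (hcomp.trans hcongr)
    show ((T.fjι X (j + 1) (i + 1) n (YtotIdx X U₀ Yc)).app M).hom
      ((T.push f M i' n' (i + 1) n hi' hn').hom γ) = _
    exact congrArg ((T.fjι X (j + 1) (i + 1) n (YtotIdx X U₀ Yc)).app M).hom h2.symm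
  have hterm : ∀ x : Bad X U₀, (P.tot M i' n' (i + 1) n hi2 hn2).hom
      (DirectSum.lof R (X.cdPt (j + 1)) (fun y : X.cdPt (j + 1) => T.ptGp X y.1 M i' n') x.1
        (ξ x.1)) =
      ((T.fjι X (j + 1) (i + 1) n (YtotIdx X U₀ Yc)).app M).hom
        ((T.push D.i M i' n' (i + 1) n hiP hnP).hom
          ((T.push (gTot X U₀ Yc x).hom M i' n' i' n' (hi_of_hom (gTot X U₀ Yc x) i')
            (hn_of_hom (gTot X U₀ Yc x) n')).hom ((T.pull (gTot X U₀ Yc x) M i' n').hom ρ))) := by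
    intro x
    rw [P.tot_lof M i' n' (i + 1) n hi2 hn2 x.1 (ξ x.1)]
    have h1 : ξ x.1 = (Q.cpt x.1 M i n i' n' hi hn).hom α := rfl
    rw [h1, hA x, hB x]
  refine (Finset.sum_congr rfl (fun x _ => hterm x)).trans ?_
  have h1 := map_sum ((T.fjι X (j + 1) (i + 1) n (YtotIdx X U₀ Yc)).app M).hom
    (fun x : Bad X U₀ => (T.push D.i M i' n' (i + 1) n hiP hnP).hom
      ((T.push (gTot X U₀ Yc x).hom M i' n' i' n' (hi_of_hom (gTot X U₀ Yc x) i')
        (hn_of_hom (gTot X U₀ Yc x) n')).hom ((T.pull (gTot X U₀ Yc x) M i' n').hom ρ))) Finset.univ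
  have h2 := map_sum (T.push D.i M i' n' (i + 1) n hiP hnP).hom
    (fun x : Bad X U₀ => (T.push (gTot X U₀ Yc x).hom M i' n' i' n' (hi_of_hom (gTot X U₀ Yc x) i')
        (hn_of_hom (gTot X U₀ Yc x) n')).hom ((T.pull (gTot X U₀ Yc x) M i' n').hom ρ)) Finset.univ
  refine h1.symm.trans ?_
  refine (congrArg ((T.fjι X (j + 1) (i + 1) n (YtotIdx X U₀ Yc)).app M).hom
    (h2.symm.trans (congrArg (T.push D.i M i' n' (i + 1) n hiP hnP).hom hD))).trans ?_
  rw [hE]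
  exact map_zero _

end Main1

end Groth.Agent.Lib.H15BMComp
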