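import Groth.Agent.Lib.H15BMComp

set_option autoImplicit false
set_option linter.style.haveILetI false
set_option linter.unusedSectionVars false
universe u

open CategoryTheory CategoryTheory.Limits AlgebraicGeometry Opposite Set Topology TopologicalSpace
open BMCoh WeilCoh Groth.Agent.Lib.H15BMGeom Groth.Agent.Lib.H15BMFilt Groth.Agent.Lib.H15BMDecomp
  Groth.Agent.Lib.H15BMData Groth.Agent.Lib.H15BMExt Groth.Agent.Lib.H15BMKer Groth.Agent.Lib.H15BMSeq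
  Groth.Agent.Lib.H15BMKerGen Groth.Agent.Lib.H15BMLevel0 Groth.Agent.Lib.H15BMRetr
  Groth.Agent.Lib.H15BMToFj Groth.Agent.Lib.H15BMAdd Groth.Agent.Lib.H15RedLift
  Groth.Agent.Lib.H15BMTot Groth.Agent.Lib.H15BMComp

/-!
helper15: exactness of `H(F_jX) → ⊕_{x ∈ X^{(j+1)}} H(x) → H(F_{j+1}X)` (S15928): the kernel of the
total push-forward is the image of the total residue.
-/

namespace Groth.Agent.Lib.H15BMExact

variable {V : ObjectProperty Scheme.{u}} [BMCoh.IsConstructible V] {R : Type u} [CommRing R]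
  {A : BMCoh.Coefs R}

section TotLemmas

variable (T : BMCoh.PreTheory V R A) (X : Obj V) {j : ℕ} (U₀ : Idx X (ContainsFj X j))
  (Yc : Idx X (ContainsFj X (j + 1)))

theorem Ytot_le (h : U₀.1 ≤ Yc.1) : Ytot X U₀ Yc ≤ Yc.1 := by
  intro z hz
  rcases (mem_Ytot_iff X U₀ Yc z).1 hz with h1 | ⟨x, hx⟩
  · exact h h1
  · exact hx.2

theorem le_of_pieceSet_subset (x : X.scheme) {W₁ W₂ : (X.ptSub x).scheme.Opens}
    (h : pieceSet X x W₁ ⊆ pieceSet X x W₂) : W₁ ≤ W₂ := by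
  intro z hz
  obtain ⟨z', hz', hzz'⟩ := h ⟨z, hz, rfl⟩
  have hinj : Function.Injective (X.ptSubι x) := (X.ptSubι x).isEmbedding.injective
  rw [← hinj hzz']
  exact hz'

/-- the residue of a class on `U₀` at a bad point, through the total decomposition -/
theorem resData_cpt_tot (Q : T.ResData X j) (x : Bad X U₀) (M : A.Cat) (i n i' n' : ℤ)
    (hi : i' = i + 1 - 2 * ((j : ℤ) + 1)) (hn : n' = n - ((j : ℤ) + 1))
    (hiD : i' = i + 1 - 2 * (Dtot X U₀ Yc).codim) (hnD : n' = n - (Dtot X U₀ Yc).codim)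
    (a : T.gp (X.res U₀.1) M i n) :
    (Q.cpt x.1 M i n i' n' hi hn).hom (((T.fjι X j i n U₀).app M).hom a) =
      ((T.ptι X x.1.1 i' n' (Wc X U₀ Yc x)).app M).hom
        ((T.pull (gTot X U₀ Yc x) M i' n').hom
          ((T.res (Dtot X U₀ Yc) M i n i' n' hiD hnD).hom a)) := by
  have hYd : dim ((Ytot X U₀ Yc : X.scheme.Opens) : Scheme.{u}) = dim X.scheme :=
    (YtotIdx X U₀ Yc).2.2
  let e : X.res (Ytot X U₀ Yc) ⟶ X := X.resι (Ytot X U₀ Yc) hYd
  have h1 := Q.cpt_spec x.1 M i n i' n' hi hn e (Dtot X U₀ Yc) (Wc X U₀ Yc x) (gTot X U₀ Yc x)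
    (by
      show gSch X U₀ Yc x ≫ ιtot X U₀ Yc ≫ (Ytot X U₀ Yc).ι = _
      rw [gSch_ιtot_assoc, pieceLift_ι])
    U₀ (𝟙 _)
    (by
      show 𝟙 _ ≫ X.scheme.homOfLE (le_Ytot X U₀ Yc) ≫ (Ytot X U₀ Yc).ι = _
      rw [Category.id_comp, Scheme.homOfLE_ι])
    hiD hnD
  erw [pull_id, Category.id_comp] at h1
  exact congrArg (fun k => k.hom a) h1

theorem push_ιtot_gTot (x : Bad X U₀) [hcl : IsClosedImmersion (gTot X U₀ Yc x).hom]
    (M : A.Cat) (i n i' n' : ℤ)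
    (hiP : i' = i + 2 * relCodim (Dtot X U₀ Yc).Z.scheme (X.res (Ytot X U₀ Yc)).scheme)
    (hnP : n' = n + relCodim (Dtot X U₀ Yc).Z.scheme (X.res (Ytot X U₀ Yc)).scheme)
    (hi' : i' = i + 2 * relCodim ((Wc X U₀ Yc x).1 : Scheme.{u}) (Ytot X U₀ Yc : Scheme.{u}))
    (hn' : n' = n + relCodim ((Wc X U₀ Yc x).1 : Scheme.{u}) (Ytot X U₀ Yc : Scheme.{u}))
    (γ : T.gp ((X.ptSub x.1.1).res (Wc X U₀ Yc x).1) M i n) :
    (T.push (Dtot X U₀ Yc).i M i n i' n' hiP hnP).hom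
      ((T.push (gTot X U₀ Yc x).hom M i n i n (hi_of_hom (gTot X U₀ Yc x) i)
        (hn_of_hom (gTot X U₀ Yc x) n)).hom γ) =
      (piecePush T X x.1.1 (Wc X U₀ Yc x).1 (Ytot X U₀ Yc) (pieceSet_Wc_subset_Ytot X U₀ Yc x)
        (closure_inter_Ytot_subset X U₀ Yc x) M i n i' n' hi' hn').hom γ := by
  haveI hclf : IsClosedImmersion (pieceLift X x.1.1 (Wc X U₀ Yc x).1 (Ytot X U₀ Yc)
      (pieceSet_Wc_subset_Ytot X U₀ Yc x)) :=
    isClosedImmersion_pieceLift X x.1.1 (Wc X U₀ Yc x).1 (Ytot X U₀ Yc) _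
      (closure_inter_Ytot_subset X U₀ Yc x)
  haveI : IsClosedImmersion (gSch X U₀ Yc x) := hcl
  have hcomp := T.push_comp (X := (X.ptSub x.1.1).res (Wc X U₀ Yc x).1) (Y := Ztot X U₀ Yc)
    (Z := X.res (Ytot X U₀ Yc)) (gSch X U₀ Yc x) (ιtot X U₀ Yc) M i n i n i' n'
    (hi_of_hom (gTot X U₀ Yc x) i) (hn_of_hom (gTot X U₀ Yc x) n) hiP hnP hi' hn'
  have hcongr := push_congr T (Y := (X.ptSub x.1.1).res (Wc X U₀ Yc x).1)
    (W := X.res (Ytot X U₀ Yc)) (gSch_ιtot X U₀ Yc x) M i n i' n' hi' hn'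
  exact congrArg (fun k => k.hom γ) (hcomp.trans hcongr)

end TotLemmas

section Main2

variable (T : BMCoh.PreTheory V R A) (X : Obj V) {j : ℕ}

theorem exists_idx_notMem (s : Finset (X.cdPt (j + 1))) :
    ∃ U₁ : Idx X (ContainsFj X j), ∀ y ∈ s, y.1 ∉ U₁.1 := by
  have hcl : IsClosed (⋃ y ∈ s, closure ({(y : X.cdPt (j + 1)).1} : Set X.scheme)) :=
    isClosed_biUnion_finset (fun _ _ => isClosed_closure)
  let O : X.scheme.Opens := ⟨_, hcl.isOpen_compl⟩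
  have hO : ContainsFj X j O := by
    intro z hz hmem
    simp only [Set.mem_iUnion] at hmem
    obtain ⟨y, _, hzy⟩ := hmem
    have := codim_le_of_mem_closure X hzy
    have hy := y.2
    omega
  refine ⟨⟨O, hO, dim_eq_of_containsFj X O hO⟩, ?_⟩
  intro y hy hmem
  apply hmem
  simp only [Set.mem_iUnion]
  exact ⟨y, hy, subset_closure rfl⟩

theorem exists_of_tot_eq_zero_aux (Q : T.ResData X j) (P : T.PushData X (j + 1)) (M : A.Cat)
    (i n i' n' : ℤ) (hi : i' = i + 1 - 2 * ((j : ℤ) + 1)) (hn : n' = n - ((j : ℤ) + 1))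
    (hi2 : i + 1 = i' + 2 * ((j + 1 : ℕ) : ℤ)) (hn2 : n = n' + ((j + 1 : ℕ) : ℤ))
    (U₁ : Idx X (ContainsFj X j)) (ξ : T.ptSum X (j + 1) M i' n')
    (hξ₀ : ∀ y : X.cdPt (j + 1), y.1 ∈ U₁.1 → ξ y = 0)
    (hP : (P.tot M i' n' (i + 1) n hi2 hn2).hom ξ = 0) :
    ∃ α : T.fjGp X j M i n, (Q.tot M i n i' n' hi hn).hom α = ξ := by
  classical
  haveI := finite_bad X U₁
  letI : Fintype (Bad X U₁) := Fintype.ofFinite _
  -- representatives
  have hrep : ∀ x : X.cdPt (j + 1), ∃ (W : ptIdx X x.1)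
      (γ : T.gp ((X.ptSub x.1).res W.1) M i' n'),
      ((T.ptι X x.1 i' n' W).app M).hom γ = ξ x := fun x =>
    ocolim_exists_rep T (X.ptSub x.1) _ M i' n' (ξ x)
  choose W γ hγ using hrep
  let B : X.cdPt (j + 1) → Idx X (ContainsFj X (j + 1)) := fun x => bigIdx X x (W x)
  let c : ∀ x : X.cdPt (j + 1), T.gp (X.res (B x).1) M (i + 1) n := fun x =>
    (bigPush T X x (W x) M i' n' (i + 1) n hi2 hn2).hom (γ x)
  have hc : ∀ x, ((T.fjι X (j + 1) (i + 1) n (B x)).app M).hom (c x) =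
      (P.cpt x M i' n' (i + 1) n hi2 hn2).hom (ξ x) := by
    intro x
    rw [← hγ x]
    exact (congrArg (fun k => k.hom (γ x))
      (pushData_cpt_big T X P x (W x) M i' n' (i + 1) n hi2 hn2)).symm
  -- common stage
  obtain ⟨Us, hUs⟩ := IsCofiltered.inf_objs_exists
    (Finset.univ.image (fun x : Bad X U₁ => B x.1))
  have hle : ∀ x : Bad X U₁, Us ≤ B x.1 := fun x =>
    leOfHom (hUs (Finset.mem_image_of_mem _ (Finset.mem_univ x))).some
  let bs : T.gp (X.res Us.1) M (i + 1) n :=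
    ∑ x : Bad X U₁, (idxRes T X (ContainsFj X (j + 1)) (hle x) M (i + 1) n).hom (c x.1)
  have hξ := directSum_eq_sum_subtype (R := R) (fun y : X.cdPt (j + 1) => y.1 ∉ U₁.1) ξ
    (fun y hy => hξ₀ y (not_not.1 hy))
  have hPξ : (P.tot M i' n' (i + 1) n hi2 hn2).hom ξ =
      ∑ x : Bad X U₁, (P.cpt x.1 M i' n' (i + 1) n hi2 hn2).hom (ξ x.1) := by
    conv_lhs => rw [hξ]
    rw [map_sum]
    exact Finset.sum_congr rfl (fun x _ => P.tot_lof M i' n' (i + 1) n hi2 hn2 x.1 (ξ x.1))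
  have hbs : ((T.fjι X (j + 1) (i + 1) n Us).app M).hom bs = 0 := by
    rw [← hP, hPξ]
    refine (map_sum ((T.fjι X (j + 1) (i + 1) n Us).app M).hom _ _).trans ?_
    refine Finset.sum_congr rfl (fun x _ => ?_)
    rw [← hc x.1]
    exact idxRes_ocolimι_apply T X (ContainsFj X (j + 1)) (hle x) M (i + 1) n (c x.1)
  obtain ⟨U', hU', hzero⟩ := ocolimι_eq_zero T X (ContainsFj X (j + 1)) M (i + 1) n Us bs hbs
  -- the open U₀
  let U₀ : Idx X (ContainsFj X j) := idxInf X U₁ (up X U')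
  have hU₀U₁ : U₀.1 ≤ U₁.1 := inf_le_left
  have hU₀U' : U₀.1 ≤ U'.1 := inf_le_right
  haveI := finite_bad X U₀
  letI : Fintype (Bad X U₀) := Fintype.ofFinite _
  let eB : Bad X U₀ ≃ Bad X U₁ := Equiv.subtypeEquivRight (fun x => by
    constructor
    · intro h h1; exact h ⟨h1, U'.2.1 x.1 (le_of_eq x.2)⟩
    · intro h h1; exact h h1.1)
  by_cases hne : Nonempty (Bad X U₀)
  swap
  · rw [not_nonempty_iff] at hne
    haveI : IsEmpty (Bad X U₁) := eB.symm.isEmpty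
    refine ⟨0, ?_⟩
    rw [hξ]
    exact (map_zero _).trans (Finset.sum_of_isEmpty _).symm
  obtain ⟨x₁⟩ := hne
  have hYU' : Ytot X U₀ U' ≤ U'.1 := Ytot_le X U₀ U' hU₀U'
  have hYB : ∀ xb : Bad X U₀, YtotIdx X U₀ U' ≤ B xb.1 := fun xb z hz =>
    hle (eB xb) (hU' (hYU' hz))
  have hWc : ∀ xb : Bad X U₀, (Wc X U₀ U' xb).1 ≤ (W xb.1).1 := fun xb =>
    le_of_pieceSet_subset X xb.1.1 (fun z hz =>
      closure_inter_bigOpen_subset X xb.1.1 (W xb.1).1
        ⟨pieceSet_subset_closure X xb.1.1 _ hz, hYB xb (pieceSet_Wc_subset_Ytot X U₀ U' xb hz)⟩)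
  have hWc' : ∀ xb : Bad X U₀, Wc X U₀ U' xb ≤ W xb.1 := hWc
  let γc : ∀ xb : Bad X U₀, T.gp ((X.ptSub xb.1.1).res (Wc X U₀ U' xb).1) M i' n' := fun xb =>
    (idxRes T (X.ptSub xb.1.1) _ (hWc' xb) M i' n').hom (γ xb.1)
  let D := Dtot X U₀ U'
  have hcd : D.codim = (j : ℤ) + 1 := codim_Dtot X U₀ U' x₁
  have hiD : i' = i + 1 - 2 * D.codim := by rw [hcd]; exact hi
  have hnD : n' = n - D.codim := by rw [hcd]; exact hn
  have hcd' : relCodim D.Z.scheme (X.res (Ytot X U₀ U')).scheme = ((j + 1 : ℕ) : ℤ) := by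
    rw [Nat.cast_add, Nat.cast_one]; exact hcd
  have hiP : i + 1 = i' + 2 * relCodim D.Z.scheme (X.res (Ytot X U₀ U')).scheme := by
    rw [hcd']; exact hi2
  have hnP : n = n' + relCodim D.Z.scheme (X.res (Ytot X U₀ U')).scheme := by
    rw [hcd']; exact hn2
  haveI hclg : ∀ x : Bad X U₀, IsClosedImmersion (gTot X U₀ U' x).hom :=
    isClosedImmersion_of_cover (Ztot X U₀ U')
      (fun x : Bad X U₀ => (X.ptSub x.1.1).res (Wc X U₀ U' x).1)
      (gTot X U₀ U') (fun x x' h => disjoint_range_gSch X U₀ U' x x' h)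
      (exists_mem_range_gSch X U₀ U')
  let ρ : T.gp (Ztot X U₀ U') M i' n' :=
    ∑ xb : Bad X U₀, (T.push (gTot X U₀ U' xb).hom M i' n' i' n' (hi_of_hom (gTot X U₀ U' xb) i')
      (hn_of_hom (gTot X U₀ U' xb) n')).hom (γc xb)
  have hrcW : ∀ xb : Bad X U₀, relCodim ((Wc X U₀ U' xb).1 : Scheme.{u})
      (Ytot X U₀ U' : Scheme.{u}) = ((j + 1 : ℕ) : ℤ) := fun xb =>
    relCodim_piece X xb.1.1 xb.1.2 (Wc X U₀ U' xb).1 (Wc X U₀ U' xb).2.2 (Ytot X U₀ U')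
      (YtotIdx X U₀ U').2.2
  have hiW : ∀ xb : Bad X U₀, i + 1 = i' + 2 * relCodim ((Wc X U₀ U' xb).1 : Scheme.{u})
      (Ytot X U₀ U' : Scheme.{u}) := fun xb => by rw [hrcW xb]; exact hi2
  have hnW : ∀ xb : Bad X U₀, n = n' + relCodim ((Wc X U₀ U' xb).1 : Scheme.{u})
      (Ytot X U₀ U' : Scheme.{u}) := fun xb => by rw [hrcW xb]; exact hn2
  -- each summand
  have hterm : ∀ xb : Bad X U₀, (T.push D.i M i' n' (i + 1) n hiP hnP).hom
      ((T.push (gTot X U₀ U' xb).hom M i' n' i' n' (hi_of_hom (gTot X U₀ U' xb) i')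
        (hn_of_hom (gTot X U₀ U' xb) n')).hom (γc xb)) =
      (idxRes T X (ContainsFj X (j + 1)) (hYB xb) M (i + 1) n).hom (c xb.1) := by
    intro xb
    refine (push_ιtot_gTot T X U₀ U' xb M i' n' (i + 1) n hiP hnP (hiW xb) (hnW xb) (γc xb)).trans ?_
    have hrcB : relCodim ((W xb.1).1 : Scheme.{u}) (bigOpen X xb.1.1 (W xb.1).1 : Scheme.{u}) =
        ((j + 1 : ℕ) : ℤ) :=
      relCodim_piece X xb.1.1 xb.1.2 (W xb.1).1 (W xb.1).2.2 (bigOpen X xb.1.1 (W xb.1).1)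
        (B xb.1).2.2
    have hiB : i + 1 = i' + 2 * relCodim ((W xb.1).1 : Scheme.{u})
        (bigOpen X xb.1.1 (W xb.1).1 : Scheme.{u}) := by rw [hrcB]; exact hi2
    have hnB : n = n' + relCodim ((W xb.1).1 : Scheme.{u})
        (bigOpen X xb.1.1 (W xb.1).1 : Scheme.{u}) := by rw [hrcB]; exact hn2
    have key := piecePush_pull T X xb.1.1 (hWc xb) (O' := Ytot X U₀ U')
      (O := bigOpen X xb.1.1 (W xb.1).1) (hYB xb)
      (pieceSet_subset_bigOpen X xb.1.1 (W xb.1).1) (pieceSet_Wc_subset_Ytot X U₀ U' xb)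
      (closure_inter_bigOpen_subset X xb.1.1 (W xb.1).1) (closure_inter_Ytot_subset X U₀ U' xb)
      ((Wc X U₀ U' xb).2.2.trans (W xb.1).2.2.symm)
      ((YtotIdx X U₀ U').2.2.trans (B xb.1).2.2.symm)
      M i' n' (i + 1) n hiB hnB (hiW xb) (hnW xb)
    exact (congrArg (fun k => k.hom (γ xb.1)) key).symm
  have hρ0 : (T.push D.i M i' n' (i + 1) n hiP hnP).hom ρ = 0 := by
    refine (map_sum (T.push D.i M i' n' (i + 1) n hiP hnP).hom _ _).trans ?_
    refine (Finset.sum_congr rfl (fun xb _ => hterm xb)).trans ?_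
    have hYUs : YtotIdx X U₀ U' ≤ Us := fun z hz => hU' (hYU' hz)
    have h1 : ∀ xb : Bad X U₀,
        (idxRes T X (ContainsFj X (j + 1)) (hYB xb) M (i + 1) n).hom (c xb.1) =
        (idxRes T X (ContainsFj X (j + 1)) hYUs M (i + 1) n).hom
          ((idxRes T X (ContainsFj X (j + 1)) (hle (eB xb)) M (i + 1) n).hom (c (eB xb).1)) :=
      fun xb =>
      (idxRes_comp_apply T X (ContainsFj X (j + 1)) hYUs (hle (eB xb)) M (i + 1) n (c xb.1)).symm
    refine (Finset.sum_congr rfl (fun xb _ => h1 xb)).trans ?_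
    refine (map_sum (idxRes T X (ContainsFj X (j + 1)) hYUs M (i + 1) n).hom _ _).symm.trans ?_
    have h2 : ∑ xb : Bad X U₀, (idxRes T X (ContainsFj X (j + 1)) (hle (eB xb)) M (i + 1) n).hom
        (c (eB xb).1) = bs :=
      Fintype.sum_equiv eB _ _ (fun xb => rfl)
    rw [h2]
    have hYU'' : YtotIdx X U₀ U' ≤ U' := hYU'
    rw [← idxRes_comp_apply T X (ContainsFj X (j + 1)) hYU'' hU' M (i + 1) n bs, hzero]
    exact map_zero _
  obtain ⟨a, ha⟩ := (T.exact_res_push D M i n i' n' hiD hnD hiP hnP ρ).1 hρ0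
  refine ⟨((T.fjι X j i n U₀).app M).hom a, ?_⟩
  refine DFinsupp.ext fun y => ?_
  show (Q.cpt y M i n i' n' hi hn).hom (((T.fjι X j i n U₀).app M).hom a) = ξ y
  by_cases hy : y.1 ∈ U₀.1
  · rw [hξ₀ y (hU₀U₁ hy)]
    exact congrArg (fun k => k.hom a) (resData_cpt_in T X Q U₀ y hy M i n i' n' hi hn)
  · let yb : Bad X U₀ := ⟨y, hy⟩
    have h1 := resData_cpt_tot T X U₀ U' Q yb M i n i' n' hi hn hiD hnD a
    refine h1.trans ?_
    have h2 : (T.pull (gTot X U₀ U' yb) M i' n').hom ρ = γc yb := by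
      refine (map_sum (T.pull (gTot X U₀ U' yb) M i' n').hom _ _).trans ?_
      rw [Finset.sum_eq_single yb]
      · exact congrArg (fun f => f.hom (γc yb)) (pull_push_self' T (gTot X U₀ U' yb) M i' n'
          (hi_of_hom (gTot X U₀ U' yb) i') (hn_of_hom (gTot X U₀ U' yb) n'))
      · intro xb _ hne
        exact pull_push_of_disjoint T (gTot X U₀ U' yb) (gTot X U₀ U' xb)
          (disjoint_range_gSch X U₀ U' yb xb (fun h => hne h.symm)) M i' n' _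
      · intro h; exact absurd (Finset.mem_univ yb) h
    have h3 : (T.res (Dtot X U₀ U') M i n i' n' hiD hnD).hom a = ρ := ha
    rw [h3, h2]
    exact (idxRes_ocolimι_apply T (X.ptSub y.1) _ (hWc' yb) M i' n' (γ y)).trans (hγ y)

theorem exists_of_tot_eq_zero (Q : T.ResData X j) (P : T.PushData X (j + 1)) (M : A.Cat)
    (i n i' n' : ℤ) (hi : i' = i + 1 - 2 * ((j : ℤ) + 1)) (hn : n' = n - ((j : ℤ) + 1))
    (hi2 : i + 1 = i' + 2 * ((j + 1 : ℕ) : ℤ)) (hn2 : n = n' + ((j + 1 : ℕ) : ℤ))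
    (ξ : T.ptSum X (j + 1) M i' n')
    (hP : (P.tot M i' n' (i + 1) n hi2 hn2).hom ξ = 0) :
    ∃ α : T.fjGp X j M i n, (Q.tot M i n i' n' hi hn).hom α = ξ := by
  classical
  obtain ⟨U₁, hU₁⟩ := exists_idx_notMem X (DFinsupp.support ξ)
  refine exists_of_tot_eq_zero_aux T X Q P M i n i' n' hi hn hi2 hn2 U₁ ξ ?_ hP
  intro y hy
  by_contra hne
  exact hU₁ y (DFinsupp.mem_support_iff.2 hne) hy

/-- exactness of `H(F_jX) → ⊕_x H(x) → H(F_{j+1}X)` (S15928) -/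
theorem exact_tot_tot (Q : T.ResData X j) (P : T.PushData X (j + 1)) (M : A.Cat)
    (i n i' n' : ℤ) (hi : i' = i + 1 - 2 * ((j : ℤ) + 1)) (hn : n' = n - ((j : ℤ) + 1))
    (hi2 : i + 1 = i' + 2 * ((j + 1 : ℕ) : ℤ)) (hn2 : n = n' + ((j + 1 : ℕ) : ℤ)) :
    Function.Exact (Q.tot M i n i' n' hi hn).hom (P.tot M i' n' (i + 1) n hi2 hn2).hom := by
  intro ξ
  constructor
  · intro h
    exact exists_of_tot_eq_zero T X Q P M i n i' n' hi hn hi2 hn2 ξ h
  · rintro ⟨α, rfl⟩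
    exact tot_tot_eq_zero T X Q P M i n i' n' hi hn hi2 hn2 α

end Main2

end Groth.Agent.Lib.H15BMExact
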