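import Groth.Agent.Lib.H15BMDiff
import Groth.Agent.Lib.H15BMExact

set_option autoImplicit false
set_option linter.style.haveILetI false
set_option linter.unusedSectionVars false
universe u

open CategoryTheory CategoryTheory.Limits AlgebraicGeometry Opposite Set Topology TopologicalSpace
open BMCoh WeilCoh Groth.Agent.Lib.H15BMGeom Groth.Agent.Lib.H15BMFilt Groth.Agent.Lib.H15BMDecomp
  Groth.Agent.Lib.H15BMData Groth.Agent.Lib.H15BMExt Groth.Agent.Lib.H15BMKer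
  Groth.Agent.Lib.H15RedLift Groth.Agent.Lib.H15BMTot Groth.Agent.Lib.H15BMDiff
  Groth.Agent.Lib.H15BMAdd Groth.Agent.Lib.H15BMComp Groth.Agent.Lib.H15BMLevel0
  Groth.Agent.Lib.H15BMRetr

/-!
helper15: the cohomological core of the first-differential lemma (S16097): the residue at a point
`x` of a proper push-forward is the sum of the push-forwards of the residues at the points over `x`,
given a good system of pieces.
-/

namespace Groth.Agent.Lib.H15BMD1Core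

variable {V : ObjectProperty Scheme.{u}} [BMCoh.IsConstructible V] {R : Type u} [CommRing R]
  {A : BMCoh.Coefs R}

instance isProper_restrict {X Y : Scheme.{u}} (f : Y ⟶ X) [IsProper f] (U : X.Opens) :
    IsProper (f ∣_ U) :=
  IsZariskiLocalAtTarget.restrict (inferInstance : IsProper f) U

section Core

variable (T : BMCoh.PreTheory V R A)
  (hred : ∀ (S : BMCoh.Obj V) (D D'' : BMCoh.Decomp S) (gU : D''.U ⟶ D.U)
      (k : D''.Z.scheme ⟶ D.Z.scheme) [IsClosedImmersion k] [AlgebraicGeometry.Surjective k],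
      gU ≫ D.j = D''.j → k ≫ D.i = D''.i →
      ∀ (M : A.Cat) (i n i' n' : ℤ) (hi : i' = i + 1 - 2 * D.codim) (hn : n' = n - D.codim)
        (hi'' : i' = i + 1 - 2 * D''.codim) (hn'' : n' = n - D''.codim)
        (hk : i' = i' + 2 * BMCoh.relCodim D''.Z.scheme D.Z.scheme)
        (hk' : n' = n' + BMCoh.relCodim D''.Z.scheme D.Z.scheme),
      T.pull gU M i n ≫ T.res D'' M i n i' n' hi'' hn'' ≫ T.push k M i' n' i' n' hk hk' =
        T.res D M i n i' n' hi hn)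
  {X Y : Obj V} (φ : Y.scheme ⟶ X.scheme) [IsProper φ] {q : ℕ}
  (Q : T.ResData X q) (Q' : T.ResData Y 0)
  (B : Idx X (ContainsFj X q)) (hc : ContainsFj Y 0 (φ ⁻¹ᵁ B.1))
  (x : X.cdPt (q + 1)) (hx : x.1 ∉ B.1) (Wx : ptIdx X x.1)
  (hWx : pieceSet X x.1 Wx.1 ⊆ goodOpen X B.1 x.1)
  {I : Type*} [Fintype I] [DecidableEq I] (y : I → Y.cdPt 1) (G : ∀ i, T.PtPush φ (y i).1 x.1)
  (W : ∀ i, ptIdx Y (y i).1)
  (hsub : ∀ i, pieceSet Y (y i).1 (W i).1 ⊆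
    (φ ⁻¹ᵁ outOpen X B.1 x.1 Wx.1 hWx : Y.scheme.Opens))
  (hG : ∀ i, ∃ G : Y.scheme.Opens, pieceSet Y (y i).1 (W i).1 =
    ((G : Set Y.scheme) ∩ (φ ⁻¹ᵁ outOpen X B.1 x.1 Wx.1 hWx : Y.scheme.Opens)) \
      (φ ⁻¹ᵁ B.1 : Y.scheme.Opens))
  (hdisj : ∀ i i', i ≠ i' →
    Disjoint (pieceSet Y (y i).1 (W i).1) (pieceSet Y (y i').1 (W i').1))
  (hcov : ∀ z ∈ ((φ ⁻¹ᵁ outOpen X B.1 x.1 Wx.1 hWx : Y.scheme.Opens) : Set Y.scheme),
    z ∉ (φ ⁻¹ᵁ B.1 : Y.scheme.Opens) → ∃ i, z ∈ pieceSet Y (y i).1 (W i).1)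
  (i₀ : I) (hdimXY : dim X.scheme = dim Y.scheme + q)

include hred hx hsub hG hdisj hcov i₀ hdimXY in
theorem resData_push_eq (M : A.Cat) (i₃ n₃ i₁ n₁ i₂ n₂ : ℤ)
    (h2 : i₂ = i₁ + 1 - 2 * ((q : ℤ) + 1)) (h2' : n₂ = n₁ - ((q : ℤ) + 1))
    (h4 : i₂ = i₃ + 1 - 2 * (((0 : ℕ) : ℤ) + 1)) (h4' : n₂ = n₃ - (((0 : ℕ) : ℤ) + 1))
    (hiB : i₁ = i₃ + 2 * relCodim ((φ ⁻¹ᵁ B.1 : Y.scheme.Opens) : Scheme.{u}) (B.1 : Scheme.{u}))
    (hnB : n₁ = n₃ + relCodim ((φ ⁻¹ᵁ B.1 : Y.scheme.Opens) : Scheme.{u}) (B.1 : Scheme.{u}))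
    (b : T.gp (Y.res (φ ⁻¹ᵁ B.1)) M i₃ n₃) :
    (Q.cpt x M i₁ n₁ i₂ n₂ h2 h2').hom (((T.fjι X q i₁ n₁ B).app M).hom
        ((T.push (X := Y.res (φ ⁻¹ᵁ B.1)) (Y := X.res B.1) (φ ∣_ B.1) M i₃ n₃ i₁ n₁
          hiB hnB).hom b)) =
      ∑ i : I, ((G i).cpt M i₂ n₂).hom ((Q'.cpt (y i) M i₃ n₃ i₂ n₂ h4 h4').hom
        (((T.fjι Y 0 i₃ n₃ ⟨φ ⁻¹ᵁ B.1, hc, dim_eq_of_containsFj Y _ hc⟩).app M).hom b)) := by
  classical
  let O : X.scheme.Opens := outOpen X B.1 x.1 Wx.1 hWx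
  let D : Decomp (X.res O) := outDecomp X B.1 x.1 Wx.1 hWx B.2.1 hx
  let YO : Y.scheme.Opens := φ ⁻¹ᵁ O
  let YB : Y.scheme.Opens := φ ⁻¹ᵁ B.1
  have hBO : B.1 ≤ O := le_outOpen X B.1 x.1 Wx.1 hWx
  have hYBO : YB ≤ YO := φ.preimage_mono hBO
  have hcO : ContainsFj Y 0 YO := fun z hz => hYBO (hc z hz)
  have hdYB : dim (YB : Scheme.{u}) = dim Y.scheme := dim_eq_of_containsFj Y _ hc
  have hdYO : dim (YO : Scheme.{u}) = dim Y.scheme := dim_eq_of_containsFj Y _ hcO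
  have hdimB : dim (YB : Scheme.{u}) = dim (YO : Scheme.{u}) := hdYB.trans hdYO.symm
  let U₀' : Idx Y (ContainsFj Y 0) := ⟨YB, hc, hdYB⟩
  let Zx : Obj V := (X.ptSub x.1).res Wx.1
  let iZ : Zx.scheme ⟶ ((O : X.scheme.Opens) : Scheme.{u}) := D.i
  haveI : IsClosedImmersion iZ := D.closedImm
  have hr : Set.range (X.scheme.homOfLE hBO) = (Set.range iZ)ᶜ := D.range_eq
  let D' : Decomp (Y.res YO) := pbDecomp φ hBO hdimB Zx iZ hr
  let D'' : Decomp (Y.res YO) := Ddiff Y YO YB hYBO hdimB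
  let k : (Zdiff Y YO YB).scheme ⟶ (pbZ φ Zx iZ).scheme := kDiff φ hBO Zx iZ hr
  let fZ : (pbZ φ Zx iZ).scheme ⟶ Zx.scheme := pullback.snd (φ ∣_ O) iZ
  -- dimensions
  have hdYge : 1 ≤ dim Y.scheme := by
    have h := (y i₀).2
    unfold codim at h
    omega
  have hdW : ∀ i, dim ((W i).1 : Scheme.{u}) = dim Y.scheme - 1 := fun i => by
    have h1 := (W i).2.2
    have h2 := dim_ptSub Y (y i).1
    have h3 := pdim_le_dim Y (y i).1
    have h4 := (y i).2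
    unfold codim at h4
    have h1' : dim ((W i).1 : Scheme.{u}) = dim (Y.ptSub (y i).1).scheme := h1
    omega
  have hdZ'' : dim (Zdiff Y YO YB).scheme = dim Y.scheme - 1 :=
    dim_Zdiff Y YO YB (fun i => (y i).1) W hsub hG hdisj hcov _ hdW i₀
  have hdZ' : dim (pbZ φ Zx iZ).scheme = dim Y.scheme - 1 :=
    (dim_pbZ φ hBO Zx iZ hr).trans hdZ''
  have hdWx : dim (Wx.1 : Scheme.{u}) = dim Y.scheme - 1 := by
    have h1 : dim (Wx.1 : Scheme.{u}) = dim (X.ptSub x.1).scheme := Wx.2.2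
    have h2 := dim_ptSub X x.1
    have h3 := pdim_le_dim X x.1
    have h4 := x.2
    unfold codim at h4
    omega
  have hcdD : D.codim = (q : ℤ) + 1 := relCodim_outDecomp X B.1 B.2.1 x hx Wx hWx
  have hcdD' : D'.codim = 1 := by
    show relCodim (pbZ φ Zx iZ).scheme (YO : Scheme.{u}) = 1
    unfold relCodim
    rw [hdZ', hdYO]
    omega
  have hcdD'' : D''.codim = 1 := by
    show relCodim (Zdiff Y YO YB).scheme (YO : Scheme.{u}) = 1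
    unfold relCodim
    rw [hdZ'', hdYO]
    omega
  have hrcZ : relCodim (pbZ φ Zx iZ).scheme Zx.scheme = 0 := by
    unfold relCodim
    have : dim Zx.scheme = dim Y.scheme - 1 := hdWx
    rw [hdZ', this]
    omega
  have hrck : relCodim (Zdiff Y YO YB).scheme (pbZ φ Zx iZ).scheme = 0 := by
    unfold relCodim
    rw [hdZ', hdZ'']
    omega
  -- E1
  have hiD : i₂ = i₁ + 1 - 2 * D.codim := by rw [hcdD]; exact h2
  have hnD : n₂ = n₁ - D.codim := by rw [hcdD]; exact h2'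
  have E1 := resData_cpt_out T X Q B x hx Wx hWx M i₁ n₁ i₂ n₂ h2 h2' hiD hnD
  -- E2
  haveI hpfZ : @IsProper D'.Z.scheme D.Z.scheme fZ :=
    inferInstanceAs (IsProper (pullback.snd (φ ∣_ O) iZ))
  haveI hpfU : @IsProper D'.U.scheme D.U.scheme (φ ∣_ B.1) := isProper_restrict φ B.1
  haveI hpfO : @IsProper (Y.res YO).scheme (X.res O).scheme (φ ∣_ O) := isProper_restrict φ O
  have hpbZ : IsPullback D'.i fZ (φ ∣_ O) D.i := IsPullback.of_hasPullback (φ ∣_ O) iZ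
  have hpbU : IsPullback D'.j.hom (φ ∣_ B.1) (φ ∣_ O) D.j.hom := isPullback_pbDecomp_U φ hBO
  have hiD' : i₂ = i₃ + 1 - 2 * D'.codim := by rw [hcdD']; simpa using h4
  have hnD' : n₂ = n₃ - D'.codim := by rw [hcdD']; simpa using h4'
  have hiZ : i₂ = i₂ + 2 * relCodim D'.Z.scheme D.Z.scheme := by
    show i₂ = i₂ + 2 * relCodim (pbZ φ Zx iZ).scheme Zx.scheme
    rw [hrcZ]; ring
  have hnZ : n₂ = n₂ + relCodim D'.Z.scheme D.Z.scheme := by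
    show n₂ = n₂ + relCodim (pbZ φ Zx iZ).scheme Zx.scheme
    rw [hrcZ]; ring
  have E2 := T.res_push D D' (φ ∣_ O) fZ (φ ∣_ B.1) hpbZ hpbU M i₃ n₃ i₂ n₂ i₁ n₁ i₂ n₂
    hiD' hnD' hiB hnB hiZ hnZ hiD hnD
  -- E3
  have hiD'' : i₂ = i₃ + 1 - 2 * D''.codim := by rw [hcdD'']; simpa using h4
  have hnD'' : n₂ = n₃ - D''.codim := by rw [hcdD'']; simpa using h4'
  have hik : i₂ = i₂ + 2 * relCodim D''.Z.scheme D'.Z.scheme := by
    show i₂ = i₂ + 2 * relCodim (Zdiff Y YO YB).scheme (pbZ φ Zx iZ).scheme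
    rw [hrck]; ring
  have hnk : n₂ = n₂ + relCodim D''.Z.scheme D'.Z.scheme := by
    show n₂ = n₂ + relCodim (Zdiff Y YO YB).scheme (pbZ φ Zx iZ).scheme
    rw [hrck]; ring
  haveI hkcl : @IsClosedImmersion D''.Z.scheme D'.Z.scheme k := isClosedImmersion_kDiff φ hBO Zx iZ hr
  haveI hksurj : @Surjective D''.Z.scheme D'.Z.scheme k := surjective_kDiff φ hBO Zx iZ hr
  have E3 := hred (Y.res YO) D' D'' (𝟙 (Y.res YB)) k (Category.id_comp _)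
    (kDiff_fst φ hBO Zx iZ hr) M i₃ n₃ i₂ n₂ hiD' hnD' hiD'' hnD'' hik hnk
  -- the pieces
  let yp : I → Y.scheme := fun i => (y i).1
  let g : ∀ i, (Y.ptSub (y i).1).res (W i).1 ⟶ Zdiff Y YO YB := fun i =>
    gFamHom Y YO YB yp W hsub hG hdisj hcov _ hdW i
  have hgdisj : ∀ i i', i ≠ i' → Disjoint (Set.range (g i).hom) (Set.range (g i').hom) :=
    fun i i' h => disjoint_range_gFam Y YO YB yp W hsub hG hdisj i i' h
  have hgcov : ∀ z : (Zdiff Y YO YB).scheme, ∃ i, z ∈ Set.range (g i).hom :=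
    exists_mem_range_gFam Y YO YB yp W hsub hG hcov
  haveI hgcl : ∀ i, IsClosedImmersion (g i).hom :=
    isClosedImmersion_of_cover (Zdiff Y YO YB) (fun i => (Y.ptSub (y i).1).res (W i).1) g
      hgdisj hgcov
  let ρ : T.gp (Zdiff Y YO YB) M i₂ n₂ := (T.res D'' M i₃ n₃ i₂ n₂ hiD'' hnD'').hom b
  have E4 := sum_push_pull T (Zdiff Y YO YB) (fun i => (Y.ptSub (y i).1).res (W i).1) g
    hgdisj hgcov M i₂ n₂ ρ
  -- compatibilities of the maps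
  have h_iZ : iZ ≫ O.ι = Wx.1.ι ≫ X.ptSubι x.1 :=
    pieceDecomp_i_ι X x.1 Wx.1 O B.1 _ _ _ _
  have h_cond : pullback.fst (φ ∣_ O) iZ ≫ (φ ∣_ O) = fZ ≫ iZ := pullback.condition
  have h_k : k ≫ pullback.fst (φ ∣_ O) iZ = ιdiff Y YO YB := kDiff_fst φ hBO Zx iZ hr
  have h_r : (φ ∣_ O) ≫ O.ι = YO.ι ≫ φ := morphismRestrict_ι φ O
  have h_g : ∀ i, (g i).hom ≫ ιdiff Y YO YB = pieceLift Y (y i).1 (W i).1 YO (hsub i) := fun i =>
    gDiff_ι Y YO YB (y i).1 (W i).1 (hsub i) (notMem_of_mem_pieceSet Y YO YB yp W hG i)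
  have h_p : ∀ i, pieceLift Y (y i).1 (W i).1 YO (hsub i) ≫ YO.ι = (W i).1.ι ≫ Y.ptSubι (y i).1 :=
    fun i => pieceLift_ι Y (y i).1 (W i).1 YO (hsub i)
  -- the terms
  have hterm : ∀ i, ((T.ptι X x.1 i₂ n₂ Wx).app M).hom
      ((T.push fZ M i₂ n₂ i₂ n₂ hiZ hnZ).hom ((T.push k M i₂ n₂ i₂ n₂ hik hnk).hom
        ((T.push (g i).hom M i₂ n₂ i₂ n₂ (hi_of_hom (g i) i₂) (hn_of_hom (g i) n₂)).hom
          ((T.pull (g i) M i₂ n₂).hom ρ)))) =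
      ((G i).cpt M i₂ n₂).hom ((Q'.cpt (y i) M i₃ n₃ i₂ n₂ h4 h4').hom
        (((T.fjι Y 0 i₃ n₃ U₀').app M).hom b)) := by
    intro i
    let fi : ((Y.ptSub (y i).1).res (W i).1).scheme ⟶ ((X.ptSub x.1).res Wx.1).scheme :=
      (g i).hom ≫ k ≫ fZ
    haveI hpk : @IsProper (Zdiff Y YO YB).scheme (pbZ φ Zx iZ).scheme k := by
      haveI : IsClosedImmersion k := hkcl
      infer_instance
    haveI hpfZ' : @IsProper (pbZ φ Zx iZ).scheme Zx.scheme fZ := hpfZ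
    haveI hpkf : IsProper (k ≫ fZ) := inferInstance
    haveI hpfi : IsProper fi := by
      haveI : IsProper (g i).hom := inferInstance
      exact (inferInstance : IsProper ((g i).hom ≫ (k ≫ fZ)))
    have hfi1 : fi ≫ iZ = pieceLift Y (y i).1 (W i).1 YO (hsub i) ≫ (φ ∣_ O) := by
      calc fi ≫ iZ = (g i).hom ≫ k ≫ (fZ ≫ iZ) := by simp only [fi, Category.assoc]
        _ = (g i).hom ≫ k ≫ (pullback.fst (φ ∣_ O) iZ ≫ (φ ∣_ O)) := by rw [h_cond]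
        _ = (g i).hom ≫ (k ≫ pullback.fst (φ ∣_ O) iZ) ≫ (φ ∣_ O) := by
          simp only [Category.assoc]
        _ = ((g i).hom ≫ ιdiff Y YO YB) ≫ (φ ∣_ O) := by rw [h_k, Category.assoc]
        _ = pieceLift Y (y i).1 (W i).1 YO (hsub i) ≫ (φ ∣_ O) := by rw [h_g]
    have hfi : fi ≫ Wx.1.ι ≫ X.ptSubι x.1 = (W i).1.ι ≫ Y.ptSubι (y i).1 ≫ φ := by
      calc fi ≫ Wx.1.ι ≫ X.ptSubι x.1 = fi ≫ iZ ≫ O.ι := by rw [h_iZ]
        _ = (fi ≫ iZ) ≫ O.ι := (Category.assoc _ _ _).symm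
        _ = (pieceLift Y (y i).1 (W i).1 YO (hsub i) ≫ (φ ∣_ O)) ≫ O.ι := by rw [hfi1]
        _ = pieceLift Y (y i).1 (W i).1 YO (hsub i) ≫ ((φ ∣_ O) ≫ O.ι) := Category.assoc _ _ _
        _ = pieceLift Y (y i).1 (W i).1 YO (hsub i) ≫ (YO.ι ≫ φ) := by rw [h_r]
        _ = (pieceLift Y (y i).1 (W i).1 YO (hsub i) ≫ YO.ι) ≫ φ := (Category.assoc _ _ _).symm
        _ = ((W i).1.ι ≫ Y.ptSubι (y i).1) ≫ φ := by rw [h_p]
        _ = (W i).1.ι ≫ Y.ptSubι (y i).1 ≫ φ := Category.assoc _ _ _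
    have hrcfi : relCodim ((Y.ptSub (y i).1).res (W i).1).scheme
        ((X.ptSub x.1).res Wx.1).scheme = 0 := by
      unfold relCodim
      have h1 : dim ((X.ptSub x.1).res Wx.1).scheme = dim Y.scheme - 1 := hdWx
      have h2 : dim ((Y.ptSub (y i).1).res (W i).1).scheme = dim Y.scheme - 1 := hdW i
      rw [h1, h2]
      omega
    have hifi : i₂ = i₂ + 2 * relCodim ((Y.ptSub (y i).1).res (W i).1).scheme
        ((X.ptSub x.1).res Wx.1).scheme := by rw [hrcfi]; ring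
    have hnfi : n₂ = n₂ + relCodim ((Y.ptSub (y i).1).res (W i).1).scheme
        ((X.ptSub x.1).res Wx.1).scheme := by rw [hrcfi]; ring
    have E6 := (G i).cpt_spec M i₂ n₂ (W i) Wx fi hfi hifi hnfi
    -- E5
    have hikf : i₂ = i₂ + 2 * relCodim (Zdiff Y YO YB).scheme Zx.scheme := by
      have : relCodim (Zdiff Y YO YB).scheme Zx.scheme = 0 := by
        unfold relCodim at hrcZ hrck ⊢
        omega
      rw [this]; ring
    have hnkf : n₂ = n₂ + relCodim (Zdiff Y YO YB).scheme Zx.scheme := by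
      have : relCodim (Zdiff Y YO YB).scheme Zx.scheme = 0 := by
        unfold relCodim at hrcZ hrck ⊢
        omega
      rw [this]; ring
    have E5a := T.push_comp (X := Zdiff Y YO YB) (Y := pbZ φ Zx iZ) (Z := Zx) k fZ M
      i₂ n₂ i₂ n₂ i₂ n₂ hik hnk hiZ hnZ hikf hnkf
    have E5b := T.push_comp (X := (Y.ptSub (y i).1).res (W i).1) (Y := Zdiff Y YO YB) (Z := Zx)
      (g i).hom (k ≫ fZ) M i₂ n₂ i₂ n₂ i₂ n₂ (hi_of_hom (g i) i₂) (hn_of_hom (g i) n₂)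
      hikf hnkf hifi hnfi
    -- E7
    have hg7 : (g i).hom ≫ D''.i ≫ (Y.resι YO hdYO).hom = (W i).1.ι ≫ Y.ptSubι (y i).1 := by
      show (g i).hom ≫ ιdiff Y YO YB ≫ YO.ι = _
      rw [← Category.assoc, h_g, h_p]
    have hh7 : (𝟙 (Y.res YB) : Y.res YB ⟶ Y.res YB).hom ≫ D''.j.hom ≫ (Y.resι YO hdYO).hom =
        U₀'.1.ι := by
      show 𝟙 _ ≫ Y.scheme.homOfLE hYBO ≫ YO.ι = YB.ι
      rw [Category.id_comp, Scheme.homOfLE_ι Y.scheme hYBO]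
    have E7 := Q'.cpt_spec (y i) M i₃ n₃ i₂ n₂ h4 h4' (Y.resι YO hdYO) D'' (W i) (g i) hg7
      U₀' (𝟙 (Y.res YB)) hh7 hiD'' hnD''
    erw [pull_id, Category.id_comp] at E7
    let δ := (T.pull (g i) M i₂ n₂).hom ρ
    have s1 : (T.push fZ M i₂ n₂ i₂ n₂ hiZ hnZ).hom ((T.push k M i₂ n₂ i₂ n₂ hik hnk).hom
        ((T.push (g i).hom M i₂ n₂ i₂ n₂ (hi_of_hom (g i) i₂) (hn_of_hom (g i) n₂)).hom δ)) =
        (T.push (X := Zdiff Y YO YB) (Y := Zx) (k ≫ fZ) M i₂ n₂ i₂ n₂ hikf hnkf).hom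
          ((T.push (g i).hom M i₂ n₂ i₂ n₂ (hi_of_hom (g i) i₂) (hn_of_hom (g i) n₂)).hom δ) :=
      congrArg (fun m => m.hom
        ((T.push (g i).hom M i₂ n₂ i₂ n₂ (hi_of_hom (g i) i₂) (hn_of_hom (g i) n₂)).hom δ)) E5a
    have s2 : (T.push (X := Zdiff Y YO YB) (Y := Zx) (k ≫ fZ) M i₂ n₂ i₂ n₂ hikf hnkf).hom
          ((T.push (g i).hom M i₂ n₂ i₂ n₂ (hi_of_hom (g i) i₂) (hn_of_hom (g i) n₂)).hom δ) =
        (T.push (X := (Y.ptSub (y i).1).res (W i).1) (Y := Zx) fi M i₂ n₂ i₂ n₂ hifi hnfi).hom δ :=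
      congrArg (fun m => m.hom δ) E5b
    have s3 : ((T.ptι X x.1 i₂ n₂ Wx).app M).hom
        ((T.push (X := (Y.ptSub (y i).1).res (W i).1) (Y := Zx) fi M i₂ n₂ i₂ n₂ hifi hnfi).hom δ) =
        ((G i).cpt M i₂ n₂).hom (((T.ptι Y (y i).1 i₂ n₂ (W i)).app M).hom δ) :=
      (congrArg (fun m => m.hom δ) E6).symm
    have s4 : ((T.ptι Y (y i).1 i₂ n₂ (W i)).app M).hom δ =
        (Q'.cpt (y i) M i₃ n₃ i₂ n₂ h4 h4').hom (((T.fjι Y 0 i₃ n₃ U₀').app M).hom b) :=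
      (congrArg (fun m => m.hom b) E7).symm
    show ((T.ptι X x.1 i₂ n₂ Wx).app M).hom
      ((T.push fZ M i₂ n₂ i₂ n₂ hiZ hnZ).hom ((T.push k M i₂ n₂ i₂ n₂ hik hnk).hom
        ((T.push (g i).hom M i₂ n₂ i₂ n₂ (hi_of_hom (g i) i₂) (hn_of_hom (g i) n₂)).hom δ))) = _
    rw [s1, s2, s3, s4]
  erw [pull_id, Category.id_comp] at E3
  have sA : (Q.cpt x M i₁ n₁ i₂ n₂ h2 h2').hom (((T.fjι X q i₁ n₁ B).app M).hom
      ((T.push (X := Y.res YB) (Y := X.res B.1) (φ ∣_ B.1) M i₃ n₃ i₁ n₁ hiB hnB).hom b)) =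
      ((T.ptι X x.1 i₂ n₂ Wx).app M).hom ((T.res D M i₁ n₁ i₂ n₂ hiD hnD).hom
        ((T.push (X := Y.res YB) (Y := X.res B.1) (φ ∣_ B.1) M i₃ n₃ i₁ n₁ hiB hnB).hom b)) :=
    congrArg (fun m => m.hom
      ((T.push (X := Y.res YB) (Y := X.res B.1) (φ ∣_ B.1) M i₃ n₃ i₁ n₁ hiB hnB).hom b)) E1
  have sB : (T.res D M i₁ n₁ i₂ n₂ hiD hnD).hom
      ((T.push (X := Y.res YB) (Y := X.res B.1) (φ ∣_ B.1) M i₃ n₃ i₁ n₁ hiB hnB).hom b) =
      (T.push fZ M i₂ n₂ i₂ n₂ hiZ hnZ).hom ((T.res D' M i₃ n₃ i₂ n₂ hiD' hnD').hom b) :=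
    (congrArg (fun m => m.hom b) E2).symm
  have sC : (T.res D' M i₃ n₃ i₂ n₂ hiD' hnD').hom b = (T.push k M i₂ n₂ i₂ n₂ hik hnk).hom ρ :=
    (congrArg (fun m => m.hom b) E3).symm
  refine sA.trans ?_
  rw [sB, sC]
  conv_lhs => rw [← E4]
  rw [map_sum, map_sum, map_sum]
  exact Finset.sum_congr rfl (fun i _ => hterm i)

end Core

end Groth.Agent.Lib.H15BMD1Core
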