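import Mathlib.AlgebraicGeometry.ZariskisMainTheorem
import Mathlib.AlgebraicGeometry.FunctionField
import Mathlib.RingTheory.ZariskisMainTheorem

/-! # Birational quasi-finite morphisms are local isomorphisms over normal points (helper34)

`exists_isIso_morphismRestrict_of_quasiFiniteAt`: `f : X ⟶ Y` separated, locally of finite type,
birational, `X`, `Y` integral, `f` quasi-finite at `x₀`, `𝒪_{Y, f x₀}` integrally closed ⟹ `f` is an
isomorphism over a neighbourhood of `f x₀`. -/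

universe u
open CategoryTheory AlgebraicGeometry Limits

namespace Groth.Agent.Lib.ZMTBir

theorem exists_pow_mul_eq_of_quasiFiniteAt {R A K : Type*} [CommRing R] [CommRing A] [Field K]
    [Algebra R A] [Algebra A K] [Algebra R K] [IsScalarTower R A K] [Algebra.FiniteType R A]
    (hAK : Function.Injective (algebraMap A K)) (q : Ideal A) [q.IsPrime]
    [Algebra.QuasiFiniteAt R q]
    (H : ∀ z : K, IsIntegral R z → ∃ c d : R, d ∉ q.under R ∧
      z * algebraMap R K d = algebraMap R K c) :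
    ∃ s : R, s ∉ q.under R ∧ ∀ a : A, ∃ (n : ℕ) (c : R),
      algebraMap A K a * algebraMap R K s ^ n = algebraMap R K c := by
  classical
  have hp : (q.under R).IsPrime := inferInstance
  obtain ⟨r, hrq, hr, hrm⟩ := Algebra.zariskisMainProperty_iff.mp
    (Algebra.ZariskisMainProperty.of_finiteType (R := R) q)
  -- r = c_r / d_r with c_r ∉ p
  obtain ⟨cr, dr, hdr, hcr⟩ := H (algebraMap A K r) (hr.map (IsScalarTower.toAlgHom R A K))
  have hcrp : cr ∉ q.under R := by
    intro h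
    have h1 : algebraMap R A cr ∈ q := h
    have h2 : algebraMap R A cr = r * algebraMap R A dr := by
      apply hAK
      rw [map_mul, ← IsScalarTower.algebraMap_apply, ← IsScalarTower.algebraMap_apply, hcr]
    rw [h2] at h1
    rcases Ideal.IsPrime.mem_or_mem ‹q.IsPrime› h1 with h3 | h3
    · exact hrq h3
    · exact hdr h3
  -- every element has a denominator outside p
  have key : ∀ a : A, ∃ t c : R, t ∉ q.under R ∧ algebraMap A K a * algebraMap R K t =
      algebraMap R K c := by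
    intro a
    obtain ⟨m, hm⟩ := hrm a
    obtain ⟨c, d, hd, hc⟩ := H (algebraMap A K (r ^ m * a)) (hm.map (IsScalarTower.toAlgHom R A K))
    refine ⟨cr ^ m * d, c * dr ^ m, ?_, ?_⟩
    · exact fun h => (hp.mem_or_mem h).elim (fun h' => hcrp (hp.mem_of_pow_mem _ h')) hd
    · simp only [map_mul, map_pow] at hc ⊢
      rw [← hcr, ← hc]
      ring
  obtain ⟨g, hg⟩ := (Algebra.FiniteType.out : (⊤ : Subalgebra R A).FG)
  choose t c ht hc using key
  refine ⟨∏ i ∈ g, t i, ?_, ?_⟩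
  · intro h
    obtain ⟨i, -, hi⟩ := (hp.prod_mem_iff).mp h
    exact ht i hi
  · intro a
    have ha : a ∈ Algebra.adjoin R (g : Set A) := by rw [hg]; trivial
    induction ha using Algebra.adjoin_induction with
    | mem x hx =>
      refine ⟨1, c x * ∏ i ∈ g.erase x, t i, ?_⟩
      rw [pow_one, ← Finset.mul_prod_erase g t hx, map_mul, ← mul_assoc, hc, map_mul]
    | algebraMap r' =>
      exact ⟨0, r', by rw [pow_zero, mul_one, ← IsScalarTower.algebraMap_apply]⟩
    | add x y _ _ hx hy =>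
      obtain ⟨n₁, c₁, e₁⟩ := hx
      obtain ⟨n₂, c₂, e₂⟩ := hy
      refine ⟨n₁ + n₂, c₁ * (∏ i ∈ g, t i) ^ n₂ + c₂ * (∏ i ∈ g, t i) ^ n₁, ?_⟩
      simp only [map_add, map_mul, map_pow, ← e₁, ← e₂]
      ring
    | mul x y _ _ hx hy =>
      obtain ⟨n₁, c₁, e₁⟩ := hx
      obtain ⟨n₂, c₂, e₂⟩ := hy
      refine ⟨n₁ + n₂, c₁ * c₂, ?_⟩
      simp only [map_mul, ← e₁, ← e₂]
      ring

theorem away_map_bijective {R A K : Type*} [CommRing R] [CommRing A] [Field K] [Algebra R A]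
    [Algebra A K] [Algebra R K] [IsScalarTower R A K]
    (hAK : Function.Injective (algebraMap A K)) (hRK : Function.Injective (algebraMap R K)) (s : R)
    (h : ∀ a : A, ∃ (n : ℕ) (c : R), algebraMap A K a * algebraMap R K s ^ n = algebraMap R K c)
    (R' A' : Type*) [CommRing R'] [CommRing A'] [Algebra R R'] [Algebra A A']
    [IsLocalization.Away s R'] [IsLocalization.Away (algebraMap R A s) A'] :
    Function.Bijective (IsLocalization.Away.map R' A' (algebraMap R A) s) := by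
  have hRA : Function.Injective (algebraMap R A) := by
    intro a b hab
    apply hRK
    rw [IsScalarTower.algebraMap_apply R A K, hab, ← IsScalarTower.algebraMap_apply]
  constructor
  · rw [IsLocalization.Away.map_injective_iff]
    intro a ha
    refine ⟨0, ?_⟩
    rw [pow_zero, one_mul]
    exact hRA (ha.trans (map_zero _).symm)
  · intro a'
    obtain ⟨a, ⟨_, m, rfl⟩, rfl⟩ := IsLocalization.exists_mk'_eq
      (Submonoid.powers (algebraMap R A s)) a'
    obtain ⟨n, c, hc⟩ := h a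
    have hc' : a * algebraMap R A s ^ n = algebraMap R A c := by
      apply hAK
      rw [map_mul, map_pow, ← IsScalarTower.algebraMap_apply, ← IsScalarTower.algebraMap_apply, hc]
    refine ⟨IsLocalization.mk' R' c (⟨s ^ (n + m), n + m, rfl⟩ : Submonoid.powers s), ?_⟩
    rw [IsLocalization.Away.map, IsLocalization.map_mk', IsLocalization.mk'_eq_iff_eq]
    simp only [map_pow, ← hc']
    congr 1
    ring

theorem isIso_morphismRestrict_of_section {X Y P : Scheme.{u}} [IsIntegral X] (f : X ⟶ Y)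
    [IsSeparated f] (σ : P ⟶ X) (ι : P ⟶ Y) [IsOpenImmersion σ] [IsOpenImmersion ι] [Nonempty P]
    (h : σ ≫ f = ι) : IsIso (f ∣_ ι.opensRange) := by
  set V := ι.opensRange with hV
  have hrange : Set.range σ ⊆ Set.range (f ⁻¹ᵁ V).ι := by
    rintro _ ⟨p, rfl⟩
    rw [Scheme.Opens.range_ι]
    show f (σ p) ∈ V
    rw [← Scheme.Hom.comp_apply, h]
    exact ⟨p, rfl⟩
  let σ' := IsOpenImmersion.lift (f ⁻¹ᵁ V).ι σ hrange
  have hσ' : σ' ≫ (f ⁻¹ᵁ V).ι = σ := IsOpenImmersion.lift_fac _ _ _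
  have hι' : ι.isoOpensRange.hom ≫ V.ι = ι := ι.isoOpensRange_hom_ι
  have hcomp : σ' ≫ f ∣_ V = ι.isoOpensRange.hom := by
    rw [← cancel_mono V.ι, Category.assoc, morphismRestrict_ι, ← Category.assoc, hσ', h, hι']
  have : IsSeparated (f ∣_ V) := inferInstance
  have : IsClosedImmersion (σ' ≫ f ∣_ V) := hcomp ▸ inferInstance
  have hcl : IsClosedImmersion σ' := IsClosedImmersion.of_comp σ' (f ∣_ V)
  have : IsOpenImmersion (σ' ≫ (f ⁻¹ᵁ V).ι) := hσ' ▸ inferInstance
  have hop : IsOpenImmersion σ' := IsOpenImmersion.of_comp σ' (f ⁻¹ᵁ V).ι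
  obtain ⟨p⟩ := ‹Nonempty P›
  have : Nonempty ↥((f ⁻¹ᵁ V).toScheme) := ⟨⟨σ p, by
    show f (σ p) ∈ V
    rw [← Scheme.Hom.comp_apply, h]
    exact ⟨p, rfl⟩⟩⟩
  have : IsIntegral (f ⁻¹ᵁ V).toScheme := inferInstance
  have hclopen : IsClopen (Set.range σ') :=
    ⟨σ'.isClosedEmbedding.isClosed_range, σ'.isOpenEmbedding.isOpen_range⟩
  have huniv : Set.range σ' = Set.univ := hclopen.eq_univ ⟨σ' p, p, rfl⟩
  have hsurj : Surjective σ' := ⟨Set.range_eq_univ.mp huniv⟩
  have : IsIso σ' := (isIso_iff_isOpenImmersion_and_surjective _).mpr ⟨hop, hsurj⟩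
  have e : f ∣_ V = inv σ' ≫ ι.isoOpensRange.hom := by
    rw [← hcomp, IsIso.inv_hom_id_assoc]
  rw [e]
  infer_instance

set_option maxHeartbeats 400000 in
theorem exists_isIso_morphismRestrict_of_quasiFiniteAt {X Y : Scheme.{u}} [IsIntegral X]
    [IsIntegral Y] (f : X ⟶ Y) [IsSeparated f] [LocallyOfFiniteType f]
    (hgen : f (genericPoint X) = genericPoint Y) (hbir : IsIso (f.stalkMap (genericPoint X)))
    (x₀ : X) (hy : IsIntegrallyClosed (Y.presheaf.stalk (f x₀))) (hx : f.QuasiFiniteAt x₀) :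
    ∃ U : Y.Opens, f x₀ ∈ U ∧ IsIso (f ∣_ U) := by
  obtain ⟨_, ⟨V₀, hV₀, rfl⟩, hyV₀, -⟩ := Y.isBasis_affineOpens.exists_subset_of_mem_open
    (Set.mem_univ (f x₀)) isOpen_univ
  obtain ⟨_, ⟨X₀, hX₀, rfl⟩, hxX₀, hle : X₀ ≤ f ⁻¹ᵁ V₀⟩ :=
    X.isBasis_affineOpens.exists_subset_of_mem_open hyV₀ (f ⁻¹ᵁ V₀).2
  have hneX : Nonempty ↥(Scheme.Opens.toScheme X₀) := ⟨⟨x₀, hxX₀⟩⟩
  have hneY : Nonempty ↥(Scheme.Opens.toScheme V₀) := ⟨⟨f x₀, hyV₀⟩⟩
  have hft : (f.appLE V₀ X₀ hle).hom.FiniteType := f.finiteType_appLE hV₀ hX₀ hle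
  algebraize [(f.appLE V₀ X₀ hle).hom]
  have hlies : (hX₀.primeIdealOf ⟨x₀, hxX₀⟩).asIdeal.LiesOver
      (hV₀.primeIdealOf ⟨f x₀, hyV₀⟩).asIdeal := by
    suffices hV₀.primeIdealOf ⟨f x₀, hyV₀⟩ =
        Spec.map (f.appLE V₀ X₀ hle) (hX₀.primeIdealOf ⟨x₀, hxX₀⟩) from ⟨congr(($this).1)⟩
    apply hV₀.isoSpec.inv.homeomorph.injective
    apply Subtype.ext
    simp only [IsAffineOpen.primeIdealOf, Scheme.Hom.homeomorph_apply,
      ← Scheme.Hom.comp_apply, ← Scheme.Opens.ι_apply, IsAffineOpen.isoSpec_hom]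
    simp
  have hqf : Algebra.QuasiFiniteAt Γ(Y, V₀) (hX₀.primeIdealOf ⟨x₀, hxX₀⟩).asIdeal :=
    hx.quasiFiniteAt hX₀ hV₀ hle hxX₀
  -- the function field
  have hsp : IsIso (Y.presheaf.stalkSpecializes (specializes_of_eq hgen)) :=
    (Y.presheaf.stalkCongr (.of_eq hgen)).isIso_inv
  let ψ : Y.functionField ⟶ X.functionField :=
    Y.presheaf.stalkSpecializes (specializes_of_eq hgen) ≫ f.stalkMap (genericPoint X)
  have hψ : IsIso ψ := inferInstance
  have hcomm : Y.germToFunctionField V₀ ≫ ψ = f.appLE V₀ X₀ hle ≫ X.germToFunctionField X₀ := by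
    have hη : genericPoint X ∈ X₀ :=
      ((genericPoint_spec X).mem_open_set_iff X₀.isOpen).mpr ⟨x₀, trivial, hxX₀⟩
    have hη' : f (genericPoint X) ∈ V₀ := hle hη
    dsimp only [ψ, Scheme.germToFunctionField]
    rw [← Category.assoc, TopCat.Presheaf.germ_stalkSpecializes, Scheme.Hom.germ_stalkMap,
      Scheme.Hom.appLE, Category.assoc, TopCat.Presheaf.germ_res]
  -- algebra structures over `K = Y.functionField`
  let algAK : Algebra Γ(X, X₀) Y.functionField :=
    ((inv ψ).hom.comp (X.germToFunctionField X₀).hom).toAlgebra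
  have hAKdef : algebraMap Γ(X, X₀) Y.functionField =
      (inv ψ).hom.comp (X.germToFunctionField X₀).hom := rfl
  have hRKdef : algebraMap Γ(Y, V₀) Y.functionField = (Y.germToFunctionField V₀).hom := rfl
  have htower : IsScalarTower Γ(Y, V₀) Γ(X, X₀) Y.functionField := by
    refine IsScalarTower.of_algebraMap_eq' ?_
    rw [hAKdef, hRKdef, RingHom.algebraMap_toAlgebra, RingHom.comp_assoc, ← CommRingCat.hom_comp,
      ← hcomm, ← CommRingCat.hom_comp, Category.assoc, IsIso.hom_inv_id, Category.comp_id]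
  have hAK : Function.Injective (algebraMap Γ(X, X₀) Y.functionField) := by
    rw [hAKdef]
    exact (ConcreteCategory.bijective_of_isIso (inv ψ)).1.comp
      (X.germToFunctionField_injective X₀)
  have hRK : Function.Injective (algebraMap Γ(Y, V₀) Y.functionField) :=
    Y.germToFunctionField_injective V₀
  have H : ∀ z : Y.functionField, IsIntegral Γ(Y, V₀) z → ∃ c d : Γ(Y, V₀),
      d ∉ (hX₀.primeIdealOf ⟨x₀, hxX₀⟩).asIdeal.under Γ(Y, V₀) ∧
      z * algebraMap Γ(Y, V₀) Y.functionField d = algebraMap Γ(Y, V₀) Y.functionField c := by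
    intro z hz
    let _ : Algebra Γ(Y, V₀) (Y.presheaf.stalk (f x₀)) :=
      TopCat.Presheaf.algebra_section_stalk Y.presheaf (⟨f x₀, hyV₀⟩ : V₀)
    have hloc := hV₀.isLocalization_stalk ⟨f x₀, hyV₀⟩
    have hst : IsScalarTower Γ(Y, V₀) (Y.presheaf.stalk (f x₀)) Y.functionField :=
      functionField_isScalarTower Y V₀ ⟨f x₀, hyV₀⟩
    have hz' : IsIntegral (Y.presheaf.stalk (f x₀)) z := hz.tower_top
    obtain ⟨c', hc'⟩ := IsIntegrallyClosed.algebraMap_eq_of_integral hz'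
    obtain ⟨c, d, hcd⟩ := IsLocalization.exists_mk'_eq
      (hV₀.primeIdealOf ⟨f x₀, hyV₀⟩).asIdeal.primeCompl c'
    refine ⟨c, d.1, ?_, ?_⟩
    · rw [← hlies.over]
      exact d.2
    · rw [← hc', ← hcd, IsScalarTower.algebraMap_apply Γ(Y, V₀) (Y.presheaf.stalk (f x₀))
        Y.functionField d.1, ← map_mul, IsLocalization.mk'_spec,
        ← IsScalarTower.algebraMap_apply]
  obtain ⟨s, hs, hA⟩ := exists_pow_mul_eq_of_quasiFiniteAt hAK
    (hX₀.primeIdealOf ⟨x₀, hxX₀⟩).asIdeal H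
  have hbij := away_map_bijective hAK hRK s hA (Localization.Away s)
    (Localization.Away (algebraMap Γ(Y, V₀) Γ(X, X₀) s))
  let e : Localization.Away s ≃+* Localization.Away (algebraMap Γ(Y, V₀) Γ(X, X₀) s) :=
    RingEquiv.ofBijective _ hbij
  have hι₀ : IsOpenImmersion (Spec.map (CommRingCat.ofHom
      (algebraMap Γ(Y, V₀) (Localization.Away s)))) := IsOpenImmersion.of_isLocalization s
  have hσ₀ : IsOpenImmersion (Spec.map (CommRingCat.ofHom (algebraMap Γ(X, X₀)
      (Localization.Away (algebraMap Γ(Y, V₀) Γ(X, X₀) s))))) :=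
    IsOpenImmersion.of_isLocalization (algebraMap Γ(Y, V₀) Γ(X, X₀) s)
  let ι : Spec (.of (Localization.Away s)) ⟶ Y :=
    Spec.map (CommRingCat.ofHom (algebraMap Γ(Y, V₀) (Localization.Away s))) ≫ hV₀.fromSpec
  let σ : Spec (.of (Localization.Away s)) ⟶ X :=
    Spec.map e.toCommRingCatIso.inv ≫ Spec.map (CommRingCat.ofHom (algebraMap Γ(X, X₀)
      (Localization.Away (algebraMap Γ(Y, V₀) Γ(X, X₀) s)))) ≫ hX₀.fromSpec
  have hι : IsOpenImmersion ι := inferInstance
  have hσ : IsOpenImmersion σ := inferInstance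
  have hσι : σ ≫ f = ι := by
    dsimp only [σ, ι]
    rw [Category.assoc, Category.assoc, ← IsAffineOpen.SpecMap_appLE_fromSpec f hV₀ hX₀ hle,
      ← Spec.map_comp_assoc, ← Spec.map_comp_assoc]
    congr 2
    ext r
    change e.symm (algebraMap Γ(X, X₀) _ (algebraMap Γ(Y, V₀) Γ(X, X₀) r)) = _
    rw [RingEquiv.symm_apply_eq]
    change _ = IsLocalization.Away.map (Localization.Away s)
      (Localization.Away (algebraMap Γ(Y, V₀) Γ(X, X₀) s)) (algebraMap Γ(Y, V₀) Γ(X, X₀)) s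
      (algebraMap _ _ r)
    rw [IsLocalization.Away.map, IsLocalization.map_eq]
  have hmem : f x₀ ∈ ι.opensRange := by
    have h1 : hV₀.fromSpec (hV₀.primeIdealOf ⟨f x₀, hyV₀⟩) = f x₀ :=
      hV₀.fromSpec_primeIdealOf ⟨f x₀, hyV₀⟩
    have h2 : hV₀.primeIdealOf ⟨f x₀, hyV₀⟩ ∈ Set.range (Spec.map (CommRingCat.ofHom
        (algebraMap Γ(Y, V₀) (Localization.Away s)))) := by
      have h3 : Set.range (Spec.map (CommRingCat.ofHom
          (algebraMap Γ(Y, V₀) (Localization.Away s)))) =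
          (PrimeSpectrum.basicOpen s : Set (PrimeSpectrum Γ(Y, V₀))) :=
        PrimeSpectrum.localization_away_comap_range (Localization.Away s) s
      rw [h3]
      show s ∉ (hV₀.primeIdealOf ⟨f x₀, hyV₀⟩).asIdeal
      rw [hlies.over]
      exact hs
    obtain ⟨z, hz⟩ := h2
    exact ⟨z, by rw [Scheme.Hom.comp_apply, hz, h1]⟩
  have : Nonempty ↥(Spec (.of (Localization.Away s))) := ⟨hmem.choose⟩
  exact ⟨ι.opensRange, hmem, isIso_morphismRestrict_of_section f σ ι hσι⟩

lemma quasiFiniteAt_of_isOpen_singleton_fiber {X Y : Scheme.{u}} (f : X ⟶ Y)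
    [LocallyOfFiniteType f] (y : Y) (x : f.fiber y) (hx : IsOpen ({x} : Set (f.fiber y))) :
    f (f.fiberι y x) = y ∧ f.QuasiFiniteAt (f.fiberι y x) := by
  have h : f (f.fiberι y x) = y := by
    have : f.fiberι y x ∈ f ⁻¹' {y} := f.range_fiberι y ▸ ⟨x, rfl⟩
    exact this
  refine ⟨h, ?_⟩
  rw [Scheme.Hom.quasiFiniteAt_iff_isOpen_singleton_asFiber]
  have key : ∀ (y' : Y) (_ : y = y') (x' : f.fiber y'), f.fiberι y' x' = f.fiberι y x →
      IsOpen ({x'} : Set (f.fiber y')) := by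
    rintro y' rfl x' hx'
    have : x' = x := (f.fiberι y).isEmbedding.injective hx'
    rw [this]
    exact hx
  exact key _ h.symm _ (f.fiberι_asFiber _)

theorem exists_isIso_morphismRestrict_of_isOpen_singleton_fiber {X Y : Scheme.{u}} [IsIntegral X]
    [IsIntegral Y] (f : X ⟶ Y) [IsSeparated f] [LocallyOfFiniteType f]
    (hgen : f (genericPoint X) = genericPoint Y) (hbir : IsIso (f.stalkMap (genericPoint X)))
    (y : Y) (hy : IsIntegrallyClosed (Y.presheaf.stalk y))
    (x : f.fiber y) (hx : IsOpen ({x} : Set (f.fiber y))) :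
    ∃ U : Y.Opens, y ∈ U ∧ IsIso (f ∣_ U) := by
  obtain ⟨h, hq⟩ := quasiFiniteAt_of_isOpen_singleton_fiber f y x hx
  generalize f.fiberι y x = x₀ at h hq
  subst h
  exact exists_isIso_morphismRestrict_of_quasiFiniteAt f hgen hbir _ hy hq

lemma isIso_stalkMap_of_isIso_morphismRestrict {X Y : Scheme.{u}} (f : X ⟶ Y) (W : Y.Opens)
    [IsIso (f ∣_ W)] (x : X) (hx : f x ∈ W) : IsIso (f.stalkMap x) := by
  have h1 : IsIso ((f ∣_ W).stalkMap ⟨x, hx⟩) := inferInstance
  exact ((MorphismProperty.isomorphisms _).arrow_mk_iso_iff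
    (morphismRestrictStalkMap f W ⟨x, hx⟩)).mp h1

theorem exists_isIso_morphismRestrict_of_isIso_morphismRestrict {X Y : Scheme.{u}} [IsIntegral X]
    [IsIntegral Y] (f : Y ⟶ X) [IsSeparated f] [LocallyOfFiniteType f] (W : X.Opens)
    (hW : (W : Set X).Nonempty) (hfW : IsIso (f ∣_ W))
    (y : Y) (hx : IsIntegrallyClosed (X.presheaf.stalk (f y))) (hq : f.QuasiFiniteAt y) :
    ∃ V : X.Opens, f y ∈ V ∧ IsIso (f ∣_ V) := by
  -- `W ⊆ range f`
  have hWr : (W : Set X) ⊆ Set.range f := by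
    intro w hw
    obtain ⟨z, hz⟩ := (ConcreteCategory.bijective_of_isIso (f ∣_ W).base).2 ⟨w, hw⟩
    refine ⟨z.1, ?_⟩
    have := congrArg Subtype.val hz
    simpa using this
  have hgen : f (genericPoint Y) = genericPoint X := by
    refine ((genericPoint_spec X).eq ?_).symm
    have h1 := (genericPoint_spec Y).image f.continuous
    rw [isGenericPoint_def] at h1 ⊢
    rw [h1, Set.image_univ, Set.eq_univ_iff_forall]
    intro z
    have hd : Dense (W : Set X) := W.isOpen.dense hW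
    exact closure_mono hWr (hd z)
  have hηW : f (genericPoint Y) ∈ W := by
    rw [hgen]
    exact ((genericPoint_spec X).mem_open_set_iff W.isOpen).mpr (by simpa using hW)
  have hbir : IsIso (f.stalkMap (genericPoint Y)) :=
    isIso_stalkMap_of_isIso_morphismRestrict f W _ hηW
  exact exists_isIso_morphismRestrict_of_quasiFiniteAt f hgen hbir y hx hq

end Groth.Agent.Lib.ZMTBir
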