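import Groth.Agent.Lib.H15BMPtPush
import Groth.Agent.Lib.ZMTBir
import Groth.Agent.Lib.NormalizationChar

set_option autoImplicit false
set_option linter.style.haveILetI false
set_option linter.unusedSectionVars false
universe u

open CategoryTheory CategoryTheory.Limits AlgebraicGeometry Opposite Set Topology TopologicalSpace
open BMCoh WeilCoh Groth.Agent.Lib.H15BMGeom Groth.Agent.Lib.H15BMFilt Groth.Agent.Lib.H15BMDecomp
  Groth.Agent.Lib.H15BMData Groth.Agent.Lib.H15BMExt Groth.Agent.Lib.H15BMKer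
  Groth.Agent.Lib.H15RedLift Groth.Agent.Lib.H15BMTot Groth.Agent.Lib.H15BMPtPush

/-!
helper15: the push-forward datum of groups of points along the (finite) normalisation of the
closure of a point is bijective (S16095): the normalisation is an isomorphism over a dense open,
and push-forward data along a map which is an isomorphism over a dense open are bijective.
-/

namespace Groth.Agent.Lib.H15BMNormPush

section Sch

theorem isIso_morphismRestrict_of_le {X Y : Scheme.{u}} (f : X ⟶ Y) {U V : Y.Opens} (hVU : V ≤ U)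
    [IsIso (f ∣_ U)] : IsIso (f ∣_ V) := by
  have h1 : IsIso (f ∣_ U ∣_ (U.ι ⁻¹ᵁ V)) := inferInstance
  have h2 : IsIso (f ∣_ U.ι ''ᵁ (U.ι ⁻¹ᵁ V)) :=
    ((MorphismProperty.isomorphisms _).arrow_mk_iso_iff
      (morphismRestrictRestrict f U (U.ι ⁻¹ᵁ V))).1 h1
  have h3 : U.ι ''ᵁ (U.ι ⁻¹ᵁ V) = V := by
    rw [Scheme.Hom.image_preimage_eq_opensRange_inf, Scheme.Opens.opensRange_ι]
    exact inf_eq_right.2 hVU
  exact ((MorphismProperty.isomorphisms _).arrow_mk_iso_iff (morphismRestrictEq f h3)).1 h2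

/-- the normalisation of an integral scheme, when finite, is an isomorphism over a nonempty open -/
theorem exists_isIso_restrict_normalization (Z : Scheme.{u}) [IsIntegral Z]
    [QuasiCompact (Z.fromSpecStalk (genericPoint Z))]
    [QuasiSeparated (Z.fromSpecStalk (genericPoint Z))]
    {Y : Scheme.{u}} [IsIntegral Y] (e : Y ≅ Curv2.normalization Z)
    [IsProper (e.hom ≫ Curv2.normalizationι Z)] :
    ∃ U : Z.Opens, (U : Set Z).Nonempty ∧ IsIso ((e.hom ≫ Curv2.normalizationι Z) ∣_ U) := by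
  have hp := Groth.Agent.Lib.NormalizationChar.props_of_iso Z e (Curv2.normalizationι Z)
    (Groth.Agent.Lib.NormalizationChar.normalization_props Z).1 inferInstance
    (Groth.Agent.Lib.NormalizationChar.normalization_props Z).2
    (Groth.Agent.Lib.NormalizationChar.isIso_stalkMap_normalizationι Z)
  obtain ⟨-, hint, hirr, hfib, hiso⟩ := hp
  let f := e.hom ≫ Curv2.normalizationι Z
  have hgen : f (genericPoint Y) = genericPoint Z := by
    have : genericPoint Y ∈ f.base ⁻¹' {genericPoint Z} := by rw [hfib]; rfl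
    exact this
  haveI : IsFinite f := by
    rw [IsFinite.iff_isIntegralHom_and_locallyOfFiniteType]
    exact ⟨hint, inferInstance⟩
  have hic : IsIntegrallyClosed (Z.presheaf.stalk (f (genericPoint Y))) := by
    have hF := Groth.Agent.Lib.NormalizationChar.isField_stalk_of_eq_genericPoint Z _ hgen
    letI := hF.toField
    infer_instance
  obtain ⟨U, hU, hUiso⟩ := Groth.Agent.Lib.ZMTBir.exists_isIso_morphismRestrict_of_quasiFiniteAt f
    hgen hiso (genericPoint Y) hic (f.quasiFiniteAt _)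
  exact ⟨U, ⟨_, hU⟩, hUiso⟩

end Sch

section Main

variable {V : ObjectProperty Scheme.{u}} [BMCoh.IsConstructible V] {R : Type u} [CommRing R]
  {A : BMCoh.Coefs R}

theorem push_congr' (T : BMCoh.PreTheory V R A) {Y W : Obj V} {f f' : Y.scheme ⟶ W.scheme}
    [IsProper f] [IsProper f'] (h : f = f') (M : A.Cat) (i n i' n' : ℤ)
    (hi : i' = i + 2 * relCodim Y.scheme W.scheme) (hn : n' = n + relCodim Y.scheme W.scheme) :
    T.push f M i n i' n' hi hn = T.push f' M i n i' n' hi hn := by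
  subst h
  rfl

theorem bijective_push_of_isIso (T : BMCoh.PreTheory V R A) {Y₁ Y₂ : Obj V}
    (g : Y₁.scheme ⟶ Y₂.scheme) [IsIso g] [IsProper g] (M : A.Cat) (i n i' n' : ℤ)
    (hi : i' = i + 2 * relCodim Y₁.scheme Y₂.scheme) (hn : n' = n + relCodim Y₁.scheme Y₂.scheme) :
    Function.Bijective (T.push g M i n i' n' hi hn).hom := by
  have hrc : relCodim Y₂.scheme Y₁.scheme = - relCodim Y₁.scheme Y₂.scheme := by
    unfold relCodim; ring
  have hi2 : i = i' + 2 * relCodim Y₂.scheme Y₁.scheme := by rw [hrc, hi]; ring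
  have hn2 : n = n' + relCodim Y₂.scheme Y₁.scheme := by rw [hrc, hn]; ring
  have hi3 : i = i + 2 * relCodim Y₁.scheme Y₁.scheme := by unfold relCodim; ring
  have hn3 : n = n + relCodim Y₁.scheme Y₁.scheme := by unfold relCodim; ring
  have hi4 : i' = i' + 2 * relCodim Y₂.scheme Y₂.scheme := by unfold relCodim; ring
  have hn4 : n' = n' + relCodim Y₂.scheme Y₂.scheme := by unfold relCodim; ring
  have e1 : T.push g M i n i' n' hi hn ≫ T.push (inv g) M i' n' i n hi2 hn2 = 𝟙 _ := by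
    rw [T.push_comp g (inv g) M i n i' n' i n hi hn hi2 hn2 hi3 hn3,
      push_congr' T (IsIso.hom_inv_id g) M i n i n hi3 hn3]
    exact T.push_id Y₁ M i n hi3 hn3
  have e2 : T.push (inv g) M i' n' i n hi2 hn2 ≫ T.push g M i n i' n' hi hn = 𝟙 _ := by
    rw [T.push_comp (inv g) g M i' n' i n i' n' hi2 hn2 hi hn hi4 hn4,
      push_congr' T (IsIso.inv_hom_id g) M i' n' i' n' hi4 hn4]
    exact T.push_id Y₂ M i' n' hi4 hn4
  refine Function.bijective_iff_has_inverse.2 ⟨(T.push (inv g) M i' n' i n hi2 hn2).hom, ?_, ?_⟩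
  · intro a
    exact congrArg (fun k => k.hom a) e1
  · intro b
    exact congrArg (fun k => k.hom b) e2

theorem isPullback_restrict_le {X Y : Scheme.{u}} (f : X ⟶ Y) {W'' W' : Y.Opens} (hle : W'' ≤ W') :
    IsPullback (X.homOfLE (f.preimage_mono hle)) (f ∣_ W'') (f ∣_ W') (Y.homOfLE hle) := by
  have hbig := (isPullback_morphismRestrict f W'').flip
  have hright := (isPullback_morphismRestrict f W').flip
  refine IsPullback.of_right ?_ ?_ hright
  · rw [Scheme.homOfLE_ι, Scheme.homOfLE_ι]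
    exact hbig
  · exact (morphismRestrict_homOfLE f W'' W' hle).symm

end Main

section PtPushIso

variable {V : ObjectProperty Scheme.{u}} [BMCoh.IsConstructible V] {R : Type u} [CommRing R]
  {A : BMCoh.Coefs R}

variable (T : BMCoh.PreTheory V R A) {Y X : Obj V} (φ : Y.scheme ⟶ X.scheme) [IsProper φ]
  (y : Y.scheme) (x : X.scheme) (L : T.PtPush φ y x)

theorem relCodim_restrict (h1 : relCodim (Y.ptSub y).scheme (X.ptSub x).scheme = 0)
    (W₁ : ptIdx Y y) (W' : ptIdx X x) :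
    relCodim ((Y.ptSub y).res W₁.1).scheme ((X.ptSub x).res W'.1).scheme = 0 := by
  unfold relCodim at h1 ⊢
  have h2 : dim ((X.ptSub x).res W'.1).scheme = dim (X.ptSub x).scheme := W'.2.2
  have h3 : dim ((Y.ptSub y).res W₁.1).scheme = dim (Y.ptSub y).scheme := W₁.2.2
  rw [h2, h3]
  exact h1

theorem cpt_restrict (W' : (X.ptSub x).scheme.Opens) (hne : (W' : Set (X.ptSub x).scheme).Nonempty)
    (hne₁ : ((ptMap φ y x L.maps_pt ⁻¹ᵁ W' : (Y.ptSub y).scheme.Opens) :
      Set (Y.ptSub y).scheme).Nonempty)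
    [hp : IsProper (ptMap φ y x L.maps_pt ∣_ W')] (M : A.Cat) (i n : ℤ)
    (hi' : i = i + 2 * relCodim ((Y.ptSub y).res (ptMap φ y x L.maps_pt ⁻¹ᵁ W')).scheme
      ((X.ptSub x).res W').scheme)
    (hn' : n = n + relCodim ((Y.ptSub y).res (ptMap φ y x L.maps_pt ⁻¹ᵁ W')).scheme
      ((X.ptSub x).res W').scheme)
    (γ : T.gp ((Y.ptSub y).res (ptMap φ y x L.maps_pt ⁻¹ᵁ W')) M i n) :
    (L.cpt M i n).hom (((T.ptι Y y i n (ptIdxMk Y y _ hne₁)).app M).hom γ) =
      ((T.ptι X x i n (ptIdxMk X x W' hne)).app M).hom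
        ((T.push (X := (Y.ptSub y).res (ptMap φ y x L.maps_pt ⁻¹ᵁ W')) (Y := (X.ptSub x).res W')
          (ptMap φ y x L.maps_pt ∣_ W') M i n i n hi' hn').hom γ) := by
  have hf : (ptMap φ y x L.maps_pt ∣_ W') ≫ W'.ι ≫ X.ptSubι x =
      (ptMap φ y x L.maps_pt ⁻¹ᵁ W').ι ≫ Y.ptSubι y ≫ φ := by
    rw [← Category.assoc, morphismRestrict_ι, Category.assoc, ptMap_ι]
  let f : ((Y.ptSub y).res (ptIdxMk Y y _ hne₁).1).scheme ⟶
      ((X.ptSub x).res (ptIdxMk X x W' hne).1).scheme := ptMap φ y x L.maps_pt ∣_ W'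
  haveI : IsProper f := hp
  have e1 := L.cpt_spec M i n (ptIdxMk Y y _ hne₁) (ptIdxMk X x W' hne) f hf hi' hn'
  exact congrArg (fun k => k.hom γ) e1

theorem bijective_cpt_of_isIso_restrict (U₀ : (X.ptSub x).scheme.Opens)
    (hU₀ : (U₀ : Set (X.ptSub x).scheme).Nonempty)
    [hiso : IsIso (ptMap φ y x L.maps_pt ∣_ U₀)] (M : A.Cat) (i n : ℤ) :
    Function.Bijective (L.cpt M i n).hom := by
  have hxy : φ y = x := L.maps_pt
  have hd : pdim Y.scheme y = pdim X.scheme x := by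
    have := L.codim_eq
    unfold relCodim at this
    rw [dim_ptSub, dim_ptSub] at this
    omega
  have hnepre : ∀ (W' : (X.ptSub x).scheme.Opens), W' ≤ U₀ →
      (W' : Set (X.ptSub x).scheme).Nonempty →
      ((ptMap φ y x L.maps_pt ⁻¹ᵁ W' : (Y.ptSub y).scheme.Opens) :
        Set (Y.ptSub y).scheme).Nonempty := by
    intro W' hle hne
    haveI := isIso_morphismRestrict_of_le (ptMap φ y x L.maps_pt) hle
    obtain ⟨z, hz⟩ := hne
    obtain ⟨t, -⟩ :=
      (ConcreteCategory.bijective_of_isIso (ptMap φ y x L.maps_pt ∣_ W').base).2 ⟨z, hz⟩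
    exact ⟨t.1, t.2⟩
  constructor
  · rw [injective_iff_map_eq_zero]
    intro a ha
    obtain ⟨W, γ, rfl⟩ := ocolim_exists_rep T (Y.ptSub y) _ M i n a
    obtain ⟨z, hz⟩ := exists_mem_lowOpen φ y x hxy hd W.1 W.2.1
    let W'o : (X.ptSub x).scheme.Opens := lowOpen φ y x hxy W.1 ⊓ U₀
    have hW'ne : (W'o : Set (X.ptSub x).scheme).Nonempty :=
      nonempty_preirreducible_inter (lowOpen φ y x hxy W.1).2 U₀.2 ⟨_, hz⟩ hU₀
    have hW'U : W'o ≤ U₀ := inf_le_right
    have hne₁ := hnepre W'o hW'U hW'ne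
    haveI : IsIso (ptMap φ y x L.maps_pt ∣_ W'o) := isIso_morphismRestrict_of_le _ hW'U
    let W₁ : ptIdx Y y := ptIdxMk Y y _ hne₁
    let W' : ptIdx X x := ptIdxMk X x W'o hW'ne
    have hle : W₁ ≤ W := fun t ht => preimage_lowOpen_le φ y x hxy W.1 ht.1
    have hrc := relCodim_restrict y x L.codim_eq W₁ W'
    have hi' : i = i + 2 * relCodim ((Y.ptSub y).res (ptMap φ y x L.maps_pt ⁻¹ᵁ W'o)).scheme
        ((X.ptSub x).res W'o).scheme := by
      rw [show relCodim ((Y.ptSub y).res (ptMap φ y x L.maps_pt ⁻¹ᵁ W'o)).scheme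
        ((X.ptSub x).res W'o).scheme = 0 from hrc]; ring
    have hn' : n = n + relCodim ((Y.ptSub y).res (ptMap φ y x L.maps_pt ⁻¹ᵁ W'o)).scheme
        ((X.ptSub x).res W'o).scheme := by
      rw [show relCodim ((Y.ptSub y).res (ptMap φ y x L.maps_pt ⁻¹ᵁ W'o)).scheme
        ((X.ptSub x).res W'o).scheme = 0 from hrc]; ring
    let γ₁ := (idxRes T (Y.ptSub y) _ hle M i n).hom γ
    have h0 : ((T.ptι Y y i n W₁).app M).hom γ₁ = ((T.ptι Y y i n W).app M).hom γ :=
      idxRes_ocolimι_apply T (Y.ptSub y) _ hle M i n γ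
    have h1 := cpt_restrict T φ y x L W'o hW'ne hne₁ M i n hi' hn' γ₁
    have h2 : ((T.ptι X x i n W').app M).hom
        ((T.push (X := (Y.ptSub y).res (ptMap φ y x L.maps_pt ⁻¹ᵁ W'o))
          (Y := (X.ptSub x).res W'o) (ptMap φ y x L.maps_pt ∣_ W'o) M i n i n hi' hn').hom γ₁) = 0 := by
      refine h1.symm.trans ?_
      show (L.cpt M i n).hom (((T.ptι Y y i n W₁).app M).hom γ₁) = 0
      rw [h0]
      exact ha
    obtain ⟨W'', hle'', h3⟩ := ocolimι_eq_zero T (X.ptSub x) _ M i n W' _ h2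
    have hle''o : W''.1 ≤ W'o := hle''
    have hW''U : W''.1 ≤ U₀ := hle''o.trans hW'U
    have hne₁'' := hnepre W''.1 hW''U W''.2.1
    haveI : IsIso (ptMap φ y x L.maps_pt ∣_ W''.1) := isIso_morphismRestrict_of_le _ hW''U
    let W₁'' : ptIdx Y y := ptIdxMk Y y _ hne₁''
    have hle₁''o : ptMap φ y x L.maps_pt ⁻¹ᵁ W''.1 ≤ ptMap φ y x L.maps_pt ⁻¹ᵁ W'o :=
      (ptMap φ y x L.maps_pt).preimage_mono hle''o
    have hle₁'' : W₁'' ≤ W₁ := hle₁''o
    have hrc'' := relCodim_restrict y x L.codim_eq W₁'' W''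
    have hi'' : i = i + 2 * relCodim ((Y.ptSub y).res (ptMap φ y x L.maps_pt ⁻¹ᵁ W''.1)).scheme
        ((X.ptSub x).res W''.1).scheme := by
      rw [show relCodim ((Y.ptSub y).res (ptMap φ y x L.maps_pt ⁻¹ᵁ W''.1)).scheme
        ((X.ptSub x).res W''.1).scheme = 0 from hrc'']; ring
    have hn'' : n = n + relCodim ((Y.ptSub y).res (ptMap φ y x L.maps_pt ⁻¹ᵁ W''.1)).scheme
        ((X.ptSub x).res W''.1).scheme := by
      rw [show relCodim ((Y.ptSub y).res (ptMap φ y x L.maps_pt ⁻¹ᵁ W''.1)).scheme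
        ((X.ptSub x).res W''.1).scheme = 0 from hrc'']; ring
    have hbc := T.push_pull (X := (Y.ptSub y).res (ptMap φ y x L.maps_pt ⁻¹ᵁ W'o))
      (Y := (X.ptSub x).res W'o) (X' := (Y.ptSub y).res (ptMap φ y x L.maps_pt ⁻¹ᵁ W''.1))
      (Y' := (X.ptSub x).res W''.1) (ptMap φ y x L.maps_pt ∣_ W'o)
      (ptMap φ y x L.maps_pt ∣_ W''.1)
      ((X.ptSub x).resLE hle''o (W''.2.2.trans W'.2.2.symm))
      ((Y.ptSub y).resLE hle₁''o (W₁''.2.2.trans W₁.2.2.symm))
      (isPullback_restrict_le (ptMap φ y x L.maps_pt) hle''o) M i n i n hi' hn' hi'' hn''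
    have h4 : (T.push (X := (Y.ptSub y).res (ptMap φ y x L.maps_pt ⁻¹ᵁ W''.1))
        (Y := (X.ptSub x).res W''.1) (ptMap φ y x L.maps_pt ∣_ W''.1) M i n i n hi'' hn'').hom
        ((idxRes T (Y.ptSub y) _ hle₁'' M i n).hom γ₁) = 0 :=
      (congrArg (fun k => k.hom γ₁) hbc).symm.trans h3
    have h5 : (idxRes T (Y.ptSub y) _ hle₁'' M i n).hom γ₁ = 0 :=
      (bijective_push_of_isIso T (Y₁ := (Y.ptSub y).res (ptMap φ y x L.maps_pt ⁻¹ᵁ W''.1))
        (Y₂ := (X.ptSub x).res W''.1) (ptMap φ y x L.maps_pt ∣_ W''.1) M i n i n hi'' hn'').1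
        (h4.trans (map_zero _).symm)
    rw [← h0, ← idxRes_ocolimι_apply T (Y.ptSub y) _ hle₁'' M i n γ₁, h5, map_zero]
  · intro b
    obtain ⟨W'', β, rfl⟩ := ocolim_exists_rep T (X.ptSub x) _ M i n b
    let W'o : (X.ptSub x).scheme.Opens := W''.1 ⊓ U₀
    have hW'ne : (W'o : Set (X.ptSub x).scheme).Nonempty :=
      nonempty_preirreducible_inter W''.1.2 U₀.2 W''.2.1 hU₀
    have hW'U : W'o ≤ U₀ := inf_le_right
    have hne₁ := hnepre W'o hW'U hW'ne
    haveI : IsIso (ptMap φ y x L.maps_pt ∣_ W'o) := isIso_morphismRestrict_of_le _ hW'U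
    let W₁ : ptIdx Y y := ptIdxMk Y y _ hne₁
    let W' : ptIdx X x := ptIdxMk X x W'o hW'ne
    have hle' : W' ≤ W'' := (inf_le_left : W''.1 ⊓ U₀ ≤ W''.1)
    have hrc := relCodim_restrict y x L.codim_eq W₁ W'
    have hi' : i = i + 2 * relCodim ((Y.ptSub y).res (ptMap φ y x L.maps_pt ⁻¹ᵁ W'o)).scheme
        ((X.ptSub x).res W'o).scheme := by
      rw [show relCodim ((Y.ptSub y).res (ptMap φ y x L.maps_pt ⁻¹ᵁ W'o)).scheme
        ((X.ptSub x).res W'o).scheme = 0 from hrc]; ring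
    have hn' : n = n + relCodim ((Y.ptSub y).res (ptMap φ y x L.maps_pt ⁻¹ᵁ W'o)).scheme
        ((X.ptSub x).res W'o).scheme := by
      rw [show relCodim ((Y.ptSub y).res (ptMap φ y x L.maps_pt ⁻¹ᵁ W'o)).scheme
        ((X.ptSub x).res W'o).scheme = 0 from hrc]; ring
    let β' := (idxRes T (X.ptSub x) _ hle' M i n).hom β
    obtain ⟨γ, hγ⟩ := (bijective_push_of_isIso T
      (Y₁ := (Y.ptSub y).res (ptMap φ y x L.maps_pt ⁻¹ᵁ W'o))
      (Y₂ := (X.ptSub x).res W'o) (ptMap φ y x L.maps_pt ∣_ W'o) M i n i n hi' hn').2 β'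
    refine ⟨((T.ptι Y y i n W₁).app M).hom γ, ?_⟩
    refine (cpt_restrict T φ y x L W'o hW'ne hne₁ M i n hi' hn' γ).trans ?_
    rw [hγ]
    exact idxRes_ocolimι_apply T (X.ptSub x) _ hle' M i n β

end PtPushIso

section Final

variable {V : ObjectProperty Scheme.{u}} [BMCoh.IsConstructible V] {R : Type u} [CommRing R]
  {A : BMCoh.Coefs R}

theorem bijective_ptPush_normalization (T : BMCoh.PreTheory V R A) (X : Obj V) (w : X.scheme)
    [IsIntegral (X.ptSub w).scheme]
    [QuasiCompact ((X.ptSub w).scheme.fromSpecStalk (genericPoint (X.ptSub w).scheme))]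
    [QuasiSeparated ((X.ptSub w).scheme.fromSpecStalk (genericPoint (X.ptSub w).scheme))]
    (Y : Obj V) [IsIntegral Y.scheme] (e : Y.scheme ≅ Curv2.normalization (X.ptSub w).scheme)
    (φ : Y.scheme ⟶ X.scheme) [IsProper φ]
    (hφ : φ = e.hom ≫ Curv2.normalizationι (X.ptSub w).scheme ≫ X.ptSubι w)
    (L : T.PtPush φ (genericPoint Y.scheme) w) (M : A.Cat) (i n : ℤ) :
    Function.Bijective (L.cpt M i n).hom := by
  have hφ' : φ = (e.hom ≫ Curv2.normalizationι (X.ptSub w).scheme) ≫ X.ptSubι w := by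
    rw [hφ, Category.assoc]
  haveI : IsProper ((e.hom ≫ Curv2.normalizationι (X.ptSub w).scheme) ≫ X.ptSubι w) :=
    hφ' ▸ inferInstance
  haveI : IsProper (e.hom ≫ Curv2.normalizationι (X.ptSub w).scheme) :=
    IsProper.of_comp _ (X.ptSubι w)
  obtain ⟨U₀, hU₀, hiso⟩ := exists_isIso_restrict_normalization (X.ptSub w).scheme e
  have hψ : ptMap φ (genericPoint Y.scheme) w L.maps_pt =
      Y.ptSubι (genericPoint Y.scheme) ≫ (e.hom ≫ Curv2.normalizationι (X.ptSub w).scheme) := by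
    rw [← cancel_mono (X.ptSubι w), ptMap_ι, Category.assoc, ← hφ']
  haveI : IsIso (Y.ptSubι (genericPoint Y.scheme)) := by
    haveI : Surjective (Y.ptSubι (genericPoint Y.scheme)) := ⟨by
      rw [← Set.range_eq_univ, range_ptSubι]
      exact (genericPoint_spec Y.scheme).def⟩
    exact isIso_of_isClosedImmersion_of_surjective _
  haveI : IsIso (ptMap φ (genericPoint Y.scheme) w L.maps_pt ∣_ U₀) := by
    rw [hψ, morphismRestrict_comp]
    haveI := hiso
    haveI h1 : IsIso (Y.ptSubι (genericPoint Y.scheme) ∣_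
        ((e.hom ≫ Curv2.normalizationι (X.ptSub w).scheme) ⁻¹ᵁ U₀)) := inferInstance
    exact @IsIso.comp_isIso _ _ _ _ _ _ _ h1 hiso
  exact bijective_cpt_of_isIso_restrict T φ (genericPoint Y.scheme) w L U₀ hU₀ M i n

end Final

end Groth.Agent.Lib.H15BMNormPush
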