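import Groth.Agent.Lib.H15BMD1Main
import Groth.Agent.Lib.H15BMNormPush

set_option autoImplicit false
set_option linter.style.haveILetI false
set_option linter.unusedSectionVars false
universe u

open CategoryTheory CategoryTheory.Limits AlgebraicGeometry Opposite Set Topology TopologicalSpace
open BMCoh WeilCoh Groth.Agent.Lib.H15BMGeom Groth.Agent.Lib.H15BMFilt Groth.Agent.Lib.H15BMDecomp
  Groth.Agent.Lib.H15BMData Groth.Agent.Lib.H15BMExt Groth.Agent.Lib.H15BMKer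
  Groth.Agent.Lib.H15RedLift Groth.Agent.Lib.H15BMTot Groth.Agent.Lib.H15BMDiff
  Groth.Agent.Lib.H15BMAdd Groth.Agent.Lib.H15BMComp Groth.Agent.Lib.H15BMLevel0
  Groth.Agent.Lib.H15BMRetr Groth.Agent.Lib.H15BMD1Core Groth.Agent.Lib.H15BMD1Geom
  Groth.Agent.Lib.H15BMD1Main Groth.Agent.Lib.H15BMPtPush Groth.Agent.Lib.H15BMNormPush

/-!
helper15: the first-differential lemma for pre-theories (S16097): the total residue of the
push-forward of a class of the generic point of the normalisation of a closure is the family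
push-forward of its total residue upstairs.
-/

namespace Groth.Agent.Lib.H15BMD1Final

variable {V : ObjectProperty Scheme.{u}} [BMCoh.IsConstructible V] {R : Type u} [CommRing R]
  {A : BMCoh.Coefs R}

section GeomFacts

variable {X Y : Obj V} [IsIntegral Y.scheme] (φ : Y.scheme ⟶ X.scheme) [IsProper φ] {q : ℕ}
  (w : X.cdPt q) (hη : codim Y.scheme (genericPoint Y.scheme) = 0)
  (hxy : φ (genericPoint Y.scheme) = w.1)
  (hpd : pdim Y.scheme (genericPoint Y.scheme) = pdim X.scheme w.1)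

theorem mem_closure_genericPoint (y' : Y.scheme) :
    y' ∈ closure ({genericPoint Y.scheme} : Set Y.scheme) := by
  rw [(genericPoint_spec Y.scheme).def]
  exact Set.mem_univ _

include hη in
theorem dim_eq_pdim_generic : dim Y.scheme = pdim Y.scheme (genericPoint Y.scheme) := by
  have h1 := pdim_le_dim Y (genericPoint Y.scheme)
  unfold codim at hη
  omega

include hη hpd in
theorem dim_eq_add : dim X.scheme = dim Y.scheme + q := by
  have h1 := dim_eq_pdim_generic (Y := Y) hη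
  have h2 := pdim_le_dim X w.1
  have h3 := w.2
  unfold codim at h3
  omega

include hη hxy hpd in
theorem codim_eq_one_of_map (x : X.cdPt (q + 1)) (y' : Y.scheme) (h : φ y' = x.1) :
    codim Y.scheme y' = 1 := by
  have h1 := dim_eq_pdim_generic (Y := Y) hη
  have h2 := dim_eq_add w hη hpd
  have h3 := pdim_le_of_map_eq φ x.1 y' h
  have hne : genericPoint Y.scheme ≠ y' := by
    intro he
    have h4 : w.1 = x.1 := by rw [← hxy, he, h]
    have h5 := w.2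
    have h6 := x.2
    rw [h4] at h5
    omega
  have hsp : genericPoint Y.scheme ⤳ y' :=
    specializes_iff_mem_closure.2 (mem_closure_genericPoint y')
  have h4 := pdim_lt_of_specializes Y hsp hne
  have h5 := x.2
  have h6 := pdim_le_dim X x.1
  unfold codim at h5 ⊢
  omega

include hη hxy in
theorem containsFj_preimage (B : Idx X (ContainsFj X q)) : ContainsFj Y 0 (φ ⁻¹ᵁ B.1) := by
  intro y' hy'
  have h1 := eq_of_codim_le_of_mem_closure Y hη hy' (mem_closure_genericPoint y')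
  show φ y' ∈ B.1
  rw [h1, hxy]
  exact B.2.1 w.1 (le_of_eq w.2)

include hxy in
theorem exists_map_eq_of_mem_closure (x : X.scheme) (hx : x ∈ closure ({w.1} : Set X.scheme)) :
    ∃ y' : Y.scheme, φ y' = x := by
  have hcl : IsClosedMap φ := φ.isClosedMap
  have himg : φ '' closure ({genericPoint Y.scheme} : Set Y.scheme) =
      closure ({w.1} : Set X.scheme) := by
    rw [← hcl.closure_image_eq_of_continuous φ.continuous, Set.image_singleton, hxy]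
  rw [← himg] at hx
  obtain ⟨y', -, h⟩ := hx
  exact ⟨y', h⟩

end GeomFacts


section Final

variable (T : BMCoh.PreTheory V R A)
  (hred : ∀ (S : BMCoh.Obj V) (D D'' : BMCoh.Decomp S) (gU : D''.U ⟶ D.U)
      (k : D''.Z.scheme ⟶ D.Z.scheme) [IsClosedImmersion k] [AlgebraicGeometry.Surjective k],
      gU ≫ D.j = D''.j → k ≫ D.i = D''.i →
      ∀ (M : A.Cat) (i n i' n' : ℤ) (hi : i' = i + 1 - 2 * D.codim) (hn : n' = n - D.codim)
        (hi'' : i' = i + 1 - 2 * D''.codim) (hn'' : n' = n - D''.codim)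
        (hk : i' = i' + 2 * BMCoh.relCodim D''.Z.scheme D.Z.scheme)
        (hk' : n' = n' + BMCoh.relCodim D''.Z.scheme D.Z.scheme),
      T.pull gU M i n ≫ T.res D'' M i n i' n' hi'' hn'' ≫ T.push k M i' n' i' n' hk hk' =
        T.res D M i n i' n' hi hn)

include hred in
theorem resTot_pushCpt_eq (X : BMCoh.Obj V) (q : ℕ) (w : X.cdPt q)
    (Y : BMCoh.Obj V) [IsIntegral Y.scheme]
    (φ : Y.scheme ⟶ X.scheme) [IsProper φ]
    (hη : WeilCoh.codim Y.scheme (genericPoint Y.scheme) = 0)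
    (P : T.PushData X q) (Q : T.ResData X q) (L : T.PtPush φ (genericPoint Y.scheme) w.1)
    (P' : T.PushData Y 0) (Q' : T.ResData Y 0) (t : Y.cdPt 1 → X.cdPt (q + 1))
    (F : ∀ y : Y.cdPt 1, T.PtPush φ y.1 (t y).1)
    (M : A.Cat) (i n i₁ n₁ i₂ n₂ i₃ n₃ : ℤ)
    (h1 : i₁ = i + 2 * (q : ℤ)) (h1' : n₁ = n + (q : ℤ))
    (h2 : i₂ = i₁ + 1 - 2 * ((q : ℤ) + 1)) (h2' : n₂ = n₁ - ((q : ℤ) + 1))
    (h3 : i₃ = i + 2 * ((0 : ℕ) : ℤ)) (h3' : n₃ = n + ((0 : ℕ) : ℤ))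
    (h4 : i₂ = i₃ + 1 - 2 * (((0 : ℕ) : ℤ) + 1)) (h4' : n₂ = n₃ - (((0 : ℕ) : ℤ) + 1))
    (a : T.ptGp Y (genericPoint Y.scheme) M i n) :
    (Q.tot M i₁ n₁ i₂ n₂ h2 h2').hom ((P.cpt w M i n i₁ n₁ h1 h1').hom ((L.cpt M i n).hom a)) =
      (BMCoh.PreTheory.PtPush.famTot t F M i₂ n₂).hom
        ((Q'.tot M i₃ n₃ i₂ n₂ h4 h4').hom
          ((P'.cpt ⟨genericPoint Y.scheme, hη⟩ M i n i₃ n₃ h3 h3').hom a)) := by
  classical
  have hxy : φ (genericPoint Y.scheme) = w.1 := L.maps_pt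
  have hpd : pdim Y.scheme (genericPoint Y.scheme) = pdim X.scheme w.1 := by
    have := L.codim_eq
    unfold relCodim at this
    rw [dim_ptSub, dim_ptSub] at this
    omega
  have hdimXY := dim_eq_add (Y := Y) w hη hpd
  have hdY := dim_eq_pdim_generic (Y := Y) hη
  -- representative
  obtain ⟨W₀, γ₀, rfl⟩ := ocolim_exists_rep T (Y.ptSub (genericPoint Y.scheme)) _ M i n a
  obtain ⟨z₀, hz₀⟩ := exists_mem_lowOpen φ (genericPoint Y.scheme) w.1 hxy hpd W₀.1 W₀.2.1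
  let ψ : (Y.ptSub (genericPoint Y.scheme)).scheme ⟶ (X.ptSub w.1).scheme :=
    ptMap φ (genericPoint Y.scheme) w.1 hxy
  let W' : (X.ptSub w.1).scheme.Opens := lowOpen φ (genericPoint Y.scheme) w.1 hxy W₀.1
  have hneW' : (W' : Set (X.ptSub w.1).scheme).Nonempty := ⟨ψ z₀, hz₀⟩
  have hneW₁ : ((ψ ⁻¹ᵁ W' : (Y.ptSub (genericPoint Y.scheme)).scheme.Opens) :
      Set (Y.ptSub (genericPoint Y.scheme)).scheme).Nonempty := ⟨z₀, hz₀⟩
  let W₁ : ptIdx Y (genericPoint Y.scheme) := ptIdxMk Y (genericPoint Y.scheme) (ψ ⁻¹ᵁ W') hneW₁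
  let W'i : ptIdx X w.1 := ptIdxMk X w.1 W' hneW'
  have hle : W₁ ≤ W₀ := preimage_lowOpen_le φ (genericPoint Y.scheme) w.1 hxy W₀.1
  let γ₁ : T.gp ((Y.ptSub (genericPoint Y.scheme)).res W₁.1) M i n :=
    (idxRes T (Y.ptSub (genericPoint Y.scheme)) _ hle M i n).hom γ₀
  have ha : ((T.ptι Y (genericPoint Y.scheme) i n W₀).app M).hom γ₀ =
      ((T.ptι Y (genericPoint Y.scheme) i n W₁).app M).hom γ₁ :=
    (idxRes_ocolimι_apply T (Y.ptSub (genericPoint Y.scheme)) _ hle M i n γ₀).symm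
  rw [ha]
  -- L
  have hrc0 : relCodim ((Y.ptSub (genericPoint Y.scheme)).res (ψ ⁻¹ᵁ W')).scheme
      ((X.ptSub w.1).res W').scheme = 0 :=
    relCodim_restrict (genericPoint Y.scheme) w.1 L.codim_eq W₁ W'i
  have hi0 : i = i + 2 * relCodim ((Y.ptSub (genericPoint Y.scheme)).res (ψ ⁻¹ᵁ W')).scheme
      ((X.ptSub w.1).res W').scheme := by rw [hrc0]; ring
  have hn0 : n = n + relCodim ((Y.ptSub (genericPoint Y.scheme)).res (ψ ⁻¹ᵁ W')).scheme
      ((X.ptSub w.1).res W').scheme := by rw [hrc0]; ring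
  haveI hpψ : IsProper (ψ ∣_ W') := isProper_restrict ψ W'
  have hL := cpt_restrict T φ (genericPoint Y.scheme) w.1 L W' hneW' hneW₁ M i n hi0 hn0 γ₁
  -- P
  let B : Idx X (ContainsFj X q) := bigIdx X w W'i
  have hP := pushData_cpt_big T X P w W'i M i n i₁ n₁ h1 h1'
  -- the Y side
  have hc : ContainsFj Y 0 (φ ⁻¹ᵁ B.1) := containsFj_preimage φ w hη hxy B
  have hψ : ∀ z : (Y.ptSub (genericPoint Y.scheme)).scheme,
      X.ptSubι w.1 (ψ z) = φ (Y.ptSubι (genericPoint Y.scheme) z) :=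
    ptMap_apply φ (genericPoint Y.scheme) w.1 hxy
  have hsubY : pieceSet Y (genericPoint Y.scheme) W₁.1 ⊆ (φ ⁻¹ᵁ B.1 : Y.scheme.Opens) := by
    rintro _ ⟨z, hz, rfl⟩
    show φ (Y.ptSubι (genericPoint Y.scheme) z) ∈ bigOpen X w.1 W'
    rw [← hψ]
    exact pieceSet_subset_bigOpen X w.1 W' ⟨ψ z, hz, rfl⟩
  have hclY : closure ({genericPoint Y.scheme} : Set Y.scheme) ∩ (φ ⁻¹ᵁ B.1 : Y.scheme.Opens) ⊆
      pieceSet Y (genericPoint Y.scheme) W₁.1 := by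
    rintro z ⟨hz1, hz2⟩
    rw [← range_ptSubι] at hz1
    obtain ⟨z', rfl⟩ := hz1
    have h1 : φ (Y.ptSubι (genericPoint Y.scheme) z') ∈ bigOpen X w.1 W' := hz2
    rw [← hψ] at h1
    have h2 : X.ptSubι w.1 (ψ z') ∈ closure ({w.1} : Set X.scheme) := by
      rw [← range_ptSubι]
      exact ⟨_, rfl⟩
    obtain ⟨u, hu, hu'⟩ := closure_inter_bigOpen_subset X w.1 W' ⟨h2, h1⟩
    have h3 : u = ψ z' := (X.ptSubι w.1).isEmbedding.injective hu'
    exact ⟨z', (h3 ▸ hu : ψ z' ∈ W'), rfl⟩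
  let fY : ((Y.ptSub (genericPoint Y.scheme)).res W₁.1).scheme ⟶ (Y.res (φ ⁻¹ᵁ B.1)).scheme :=
    pieceLift Y (genericPoint Y.scheme) W₁.1 (φ ⁻¹ᵁ B.1) hsubY
  haveI hclfY : IsClosedImmersion fY :=
    isClosedImmersion_pieceLift Y (genericPoint Y.scheme) W₁.1 (φ ⁻¹ᵁ B.1) hsubY hclY
  have hpfY0 : IsProper fY := inferInstance
  haveI hpfY : @IsProper ((Y.ptSub (genericPoint Y.scheme)).res (ψ ⁻¹ᵁ W')).scheme
      (Y.res (φ ⁻¹ᵁ B.1)).scheme fY := hpfY0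
  have hfY : fY ≫ (preIdx φ B hc).1.ι = W₁.1.ι ≫ Y.ptSubι (genericPoint Y.scheme) :=
    pieceLift_ι Y (genericPoint Y.scheme) W₁.1 (φ ⁻¹ᵁ B.1) hsubY
  have hrcY : relCodim ((Y.ptSub (genericPoint Y.scheme)).res W₁.1).scheme
      (Y.res (preIdx φ B hc).1).scheme = ((0 : ℕ) : ℤ) :=
    relCodim_piece Y (genericPoint Y.scheme) hη W₁.1 W₁.2.2 (φ ⁻¹ᵁ B.1) (preIdx φ B hc).2.2
  have hiY : i₃ = i + 2 * relCodim ((Y.ptSub (genericPoint Y.scheme)).res W₁.1).scheme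
      (Y.res (preIdx φ B hc).1).scheme := by rw [hrcY]; exact h3
  have hnY : n₃ = n + relCodim ((Y.ptSub (genericPoint Y.scheme)).res W₁.1).scheme
      (Y.res (preIdx φ B hc).1).scheme := by rw [hrcY]; exact h3'
  have hP' := P'.cpt_spec ⟨genericPoint Y.scheme, hη⟩ M i n i₃ n₃ h3 h3' (preIdx φ B hc) W₁ fY hfY
    hiY hnY
  -- degrees of the push-forward along φ ∣_ B
  have hrcB : relCodim ((φ ⁻¹ᵁ B.1 : Y.scheme.Opens) : Scheme.{u}) (B.1 : Scheme.{u}) = (q : ℤ) := by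
    unfold relCodim
    have e1 : dim ((φ ⁻¹ᵁ B.1 : Y.scheme.Opens) : Scheme.{u}) = dim Y.scheme := (preIdx φ B hc).2.2
    have e2 : dim (B.1 : Scheme.{u}) = dim X.scheme := B.2.2
    rw [e1, e2, hdimXY]
    push_cast
    ring
  have hiB : i₁ = i₃ + 2 * relCodim ((φ ⁻¹ᵁ B.1 : Y.scheme.Opens) : Scheme.{u}) (B.1 : Scheme.{u}) := by
    rw [hrcB, h1, h3]; push_cast; ring
  have hnB : n₁ = n₃ + relCodim ((φ ⁻¹ᵁ B.1 : Y.scheme.Opens) : Scheme.{u}) (B.1 : Scheme.{u}) := by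
    rw [hrcB, h1', h3']; push_cast; ring
  let b : T.gp (Y.res (φ ⁻¹ᵁ B.1)) M i₃ n₃ :=
    (T.push (X := (Y.ptSub (genericPoint Y.scheme)).res W₁.1) (Y := Y.res (φ ⁻¹ᵁ B.1)) fY M i n i₃ n₃
      hiY hnY).hom γ₁
  -- the two composites agree
  let fX : ((X.ptSub w.1).res W').scheme ⟶ (X.res B.1).scheme :=
    pieceLift X w.1 W' (bigOpen X w.1 W') (pieceSet_subset_bigOpen X w.1 W')
  haveI hclfX : IsClosedImmersion fX :=
    isClosedImmersion_pieceLift X w.1 W' (bigOpen X w.1 W') _ (closure_inter_bigOpen_subset X w.1 W')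
  have hcomm : (ψ ∣_ W') ≫ fX = fY ≫ (φ ∣_ B.1) := by
    refine (cancel_mono B.1.ι).1 ?_
    have e1 : fX ≫ B.1.ι = W'.ι ≫ X.ptSubι w.1 :=
      pieceLift_ι X w.1 W' (bigOpen X w.1 W') (pieceSet_subset_bigOpen X w.1 W')
    have e2 : (ψ ∣_ W') ≫ W'.ι = (ψ ⁻¹ᵁ W').ι ≫ ψ := morphismRestrict_ι ψ W'
    have e3 : ψ ≫ X.ptSubι w.1 = Y.ptSubι (genericPoint Y.scheme) ≫ φ :=
      ptMap_ι φ (genericPoint Y.scheme) w.1 hxy
    have e4 : (φ ∣_ B.1) ≫ B.1.ι = (φ ⁻¹ᵁ B.1).ι ≫ φ := morphismRestrict_ι φ B.1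
    have e5 : fY ≫ (φ ⁻¹ᵁ B.1).ι = (ψ ⁻¹ᵁ W').ι ≫ Y.ptSubι (genericPoint Y.scheme) := hfY
    have l1 : ((ψ ∣_ W') ≫ fX) ≫ B.1.ι =
        (ψ ⁻¹ᵁ W').ι ≫ (Y.ptSubι (genericPoint Y.scheme) ≫ φ) :=
      (Category.assoc _ _ _).trans ((congrArg (fun m => (ψ ∣_ W') ≫ m) e1).trans
        ((Category.assoc _ _ _).symm.trans ((congrArg (fun m => m ≫ X.ptSubι w.1) e2).trans
          ((Category.assoc _ _ _).trans (congrArg (fun m => (ψ ⁻¹ᵁ W').ι ≫ m) e3)))))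
    have l2 : (fY ≫ (φ ∣_ B.1)) ≫ B.1.ι =
        (ψ ⁻¹ᵁ W').ι ≫ (Y.ptSubι (genericPoint Y.scheme) ≫ φ) :=
      (Category.assoc _ _ _).trans ((congrArg (fun m => fY ≫ m) e4).trans
        ((Category.assoc _ _ _).symm.trans ((congrArg (fun m => m ≫ φ) e5).trans
          (Category.assoc _ _ _))))
    exact l1.trans l2.symm
  -- the classes agree
  have hrcX : relCodim ((X.ptSub w.1).res W').scheme (X.res B.1).scheme = (q : ℤ) :=
    relCodim_piece X w.1 w.2 W' W'i.2.2 (bigOpen X w.1 W') B.2.2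
  have hiX : i₁ = i + 2 * relCodim ((X.ptSub w.1).res W').scheme (X.res B.1).scheme := by
    rw [hrcX]; exact h1
  have hnX : n₁ = n + relCodim ((X.ptSub w.1).res W').scheme (X.res B.1).scheme := by
    rw [hrcX]; exact h1'
  have hrcT : relCodim ((Y.ptSub (genericPoint Y.scheme)).res (ψ ⁻¹ᵁ W')).scheme
      (X.res B.1).scheme = (q : ℤ) := by
    unfold relCodim at hrc0 hrcX ⊢
    omega
  have hiT : i₁ = i + 2 * relCodim ((Y.ptSub (genericPoint Y.scheme)).res (ψ ⁻¹ᵁ W')).scheme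
      (X.res B.1).scheme := by rw [hrcT]; exact h1
  have hnT : n₁ = n + relCodim ((Y.ptSub (genericPoint Y.scheme)).res (ψ ⁻¹ᵁ W')).scheme
      (X.res B.1).scheme := by rw [hrcT]; exact h1'
  haveI hpφB : IsProper (φ ∣_ B.1) := isProper_restrict φ B.1
  have hpcomp : IsProper (fY ≫ (φ ∣_ B.1)) := inferInstance
  haveI hpcomp' : @IsProper ((Y.ptSub (genericPoint Y.scheme)).res (ψ ⁻¹ᵁ W')).scheme
      (X.res B.1).scheme (fY ≫ (φ ∣_ B.1)) := hpcomp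
  have c1 := T.push_comp (X := (Y.ptSub (genericPoint Y.scheme)).res (ψ ⁻¹ᵁ W'))
    (Y := (X.ptSub w.1).res W') (Z := X.res B.1) (ψ ∣_ W') fX M i n i n i₁ n₁ hi0 hn0 hiX hnX
    hiT hnT
  have c2 := T.push_comp (X := (Y.ptSub (genericPoint Y.scheme)).res (ψ ⁻¹ᵁ W'))
    (Y := Y.res (φ ⁻¹ᵁ B.1)) (Z := X.res B.1) fY (φ ∣_ B.1) M i n i₃ n₃ i₁ n₁ hiY hnY hiB hnB
    hiT hnT
  have c3 := @push_congr V _ R _ A T ((Y.ptSub (genericPoint Y.scheme)).res (ψ ⁻¹ᵁ W'))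
    (X.res B.1) ((ψ ∣_ W') ≫ fX) (fY ≫ (φ ∣_ B.1)) inferInstance hpcomp hcomm M i n i₁ n₁ hiT hnT
  let c : T.gp ((X.ptSub w.1).res W') M i n :=
    (T.push (X := (Y.ptSub (genericPoint Y.scheme)).res (ψ ⁻¹ᵁ W')) (Y := (X.ptSub w.1).res W')
      (ψ ∣_ W') M i n i n hi0 hn0).hom γ₁
  have e_L : (L.cpt M i n).hom (((T.ptι Y (genericPoint Y.scheme) i n W₁).app M).hom γ₁) =
      ((T.ptι X w.1 i n W'i).app M).hom c := hL
  have e_P : (P.cpt w M i n i₁ n₁ h1 h1').hom (((T.ptι X w.1 i n W'i).app M).hom c) =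
      ((T.fjι X q i₁ n₁ B).app M).hom ((bigPush T X w W'i M i n i₁ n₁ h1 h1').hom c) :=
    congrArg (fun m => m.hom c) hP
  have e_big : (bigPush T X w W'i M i n i₁ n₁ h1 h1').hom c =
      (T.push (X := Y.res (φ ⁻¹ᵁ B.1)) (Y := X.res B.1) (φ ∣_ B.1) M i₃ n₃ i₁ n₁ hiB hnB).hom b := by
    have s1 : (T.push (X := (X.ptSub w.1).res W') (Y := X.res B.1) fX M i n i₁ n₁ hiX hnX).hom c =
        (T.push (X := (Y.ptSub (genericPoint Y.scheme)).res (ψ ⁻¹ᵁ W')) (Y := X.res B.1)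
          ((ψ ∣_ W') ≫ fX) M i n i₁ n₁ hiT hnT).hom γ₁ := congrArg (fun m => m.hom γ₁) c1
    have s2 : (T.push (X := (Y.ptSub (genericPoint Y.scheme)).res (ψ ⁻¹ᵁ W')) (Y := X.res B.1)
          ((ψ ∣_ W') ≫ fX) M i n i₁ n₁ hiT hnT).hom γ₁ =
        (T.push (X := (Y.ptSub (genericPoint Y.scheme)).res (ψ ⁻¹ᵁ W')) (Y := X.res B.1)
          (fY ≫ (φ ∣_ B.1)) M i n i₁ n₁ hiT hnT).hom γ₁ := congrArg (fun m => m.hom γ₁) c3
    have s3 : (T.push (X := Y.res (φ ⁻¹ᵁ B.1)) (Y := X.res B.1) (φ ∣_ B.1) M i₃ n₃ i₁ n₁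
          hiB hnB).hom b =
        (T.push (X := (Y.ptSub (genericPoint Y.scheme)).res (ψ ⁻¹ᵁ W')) (Y := X.res B.1)
          (fY ≫ (φ ∣_ B.1)) M i n i₁ n₁ hiT hnT).hom γ₁ := congrArg (fun m => m.hom γ₁) c2
    exact s1.trans (s2.trans s3.symm)
  have e_P' : (P'.cpt ⟨genericPoint Y.scheme, hη⟩ M i n i₃ n₃ h3 h3').hom
      (((T.ptι Y (genericPoint Y.scheme) i n W₁).app M).hom γ₁) =
      ((T.fjι Y 0 i₃ n₃ (preIdx φ B hc)).app M).hom b := congrArg (fun m => m.hom γ₁) hP'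
  rw [e_L, e_P, e_big, e_P']
  refine tot_push_eq T hred φ Q Q' B hc t F
    (fun x y' h => codim_eq_one_of_map φ w hη hxy hpd x y' h) ?_ hdimXY M i₃ n₃ i₁ n₁ i₂ n₂
    h2 h2' h4 h4' hiB hnB b
  intro x hx
  have hx' : x.1 ∈ closure ({w.1} : Set X.scheme) := by
    by_contra h
    exact hx (fun h' => h h'.1)
  exact exists_map_eq_of_mem_closure φ w hxy x.1 hx'

end Final

end Groth.Agent.Lib.H15BMD1Final
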