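import Groth.Agent.Lib.H15BMD1Core

set_option autoImplicit false
set_option linter.style.haveILetI false
set_option linter.unusedSectionVars false
universe u

open CategoryTheory CategoryTheory.Limits AlgebraicGeometry Opposite Set Topology TopologicalSpace
open BMCoh WeilCoh Groth.Agent.Lib.H15BMGeom Groth.Agent.Lib.H15BMFilt Groth.Agent.Lib.H15BMDecomp
  Groth.Agent.Lib.H15BMData Groth.Agent.Lib.H15BMExt Groth.Agent.Lib.H15BMKer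
  Groth.Agent.Lib.H15RedLift Groth.Agent.Lib.H15BMTot Groth.Agent.Lib.H15BMDiff
  Groth.Agent.Lib.H15BMAdd Groth.Agent.Lib.H15BMComp Groth.Agent.Lib.H15BMLevel0
  Groth.Agent.Lib.H15BMRetr Groth.Agent.Lib.H15BMD1Core

/-!
helper15: the choice of pieces for the first-differential lemma (S16097) and the resulting formula
for the residue at a point of a proper push-forward.
-/

namespace Groth.Agent.Lib.H15BMD1Geom

variable {V : ObjectProperty Scheme.{u}} [BMCoh.IsConstructible V] {R : Type u} [CommRing R]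
  {A : BMCoh.Coefs R}

section Choice

variable {X Y : Obj V} (φ : Y.scheme ⟶ X.scheme) [IsProper φ] {q : ℕ}
  (B : Idx X (ContainsFj X q)) (hc : ContainsFj Y 0 (φ ⁻¹ᵁ B.1))
  (x : X.cdPt (q + 1)) (hx : x.1 ∉ B.1)
  (hcodim : ∀ y' : Y.scheme, φ y' = x.1 → codim Y.scheme y' = 1)

/-- the preimage of `B` as a member of the index family of `F_0 Y` -/
noncomputable abbrev preIdx : Idx Y (ContainsFj Y 0) :=
  ⟨φ ⁻¹ᵁ B.1, hc, dim_eq_of_containsFj Y _ hc⟩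

variable {I : Type*} (yI : I → Bad Y (preIdx φ B hc)) (hinj : Function.Injective yI)
  (hmap : ∀ i, φ (yI i).1.1 = x.1)
  (hsurj : ∀ yb : Bad Y (preIdx φ B hc), φ yb.1.1 = x.1 → ∃ i, yI i = yb)

/-- the points over the closure of `x` not covered by the good opens of the points over `x` -/
def Kbad : Set Y.scheme :=
  (⇑φ ⁻¹' closure ({x.1} : Set X.scheme)) \
    ⋃ i : I, (goodOpen Y (φ ⁻¹ᵁ B.1) (yI i).1.1 : Set Y.scheme)

theorem isClosed_Kbad : IsClosed (Kbad φ B hc x yI) := by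
  refine (isClosed_closure.preimage φ.continuous).sdiff ?_
  exact isOpen_iUnion fun i => (goodOpen Y (φ ⁻¹ᵁ B.1) (yI i).1.1).2

/-- the open of `X` over which the good opens cover -/
noncomputable def Nopen : X.scheme.Opens :=
  ⟨(⇑φ '' Kbad φ B hc x yI)ᶜ, (φ.isClosedMap _ (isClosed_Kbad φ B hc x yI)).isOpen_compl⟩

include hx hcodim hsurj in
theorem mem_Nopen : x.1 ∈ Nopen φ B hc x yI := by
  rintro ⟨z, hz, hzx⟩
  have hzB : z ∉ (φ ⁻¹ᵁ B.1 : Y.scheme.Opens) := fun h => hx (by rw [← hzx]; exact h)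
  let zb : Bad Y (preIdx φ B hc) := ⟨⟨z, hcodim z hzx⟩, hzB⟩
  obtain ⟨i, hi⟩ := hsurj zb hzx
  apply hz.2
  rw [Set.mem_iUnion]
  refine ⟨i, ?_⟩
  rw [hi]
  exact mem_goodOpen Y (φ ⁻¹ᵁ B.1) hc z (hcodim z hzx)

/-- the piece of the closure of `x` -/
noncomputable def Wx (hxN : x.1 ∈ Nopen φ B hc x yI) : ptIdx X x.1 :=
  pieceInIdx X x.1 (goodOpen X B.1 x.1 ⊓ Nopen φ B hc x yI)
    ⟨mem_goodOpen X B.1 B.2.1 x.1 x.2, hxN⟩

variable (hxN : x.1 ∈ Nopen φ B hc x yI)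

theorem pieceSet_Wx : pieceSet X x.1 (Wx φ B hc x yI hxN).1 =
    closure ({x.1} : Set X.scheme) ∩ (goodOpen X B.1 x.1 ⊓ Nopen φ B hc x yI : X.scheme.Opens) := by
  show pieceSet X x.1 (pieceIn X x.1 _) = _
  rw [pieceSet_pieceIn]

theorem hWx : pieceSet X x.1 (Wx φ B hc x yI hxN).1 ⊆ goodOpen X B.1 x.1 := by
  rw [pieceSet_Wx]
  exact fun z hz => hz.2.1

/-- the open `B ∪ piece` -/
noncomputable abbrev Oout : X.scheme.Opens :=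
  outOpen X B.1 x.1 (Wx φ B hc x yI hxN).1 (hWx φ B hc x yI hxN)

theorem mem_Oout : x.1 ∈ Oout φ B hc x yI hxN := by
  refine Or.inr ?_
  rw [pieceSet_Wx]
  exact ⟨subset_closure rfl, mem_goodOpen X B.1 B.2.1 x.1 x.2, hxN⟩

include hmap in
theorem mem_pre_Oout (i : I) : (yI i).1.1 ∈ (φ ⁻¹ᵁ Oout φ B hc x yI hxN : Y.scheme.Opens) := by
  show φ (yI i).1.1 ∈ Oout φ B hc x yI hxN
  rw [hmap i]
  exact mem_Oout φ B hc x yI hxN

/-- the pieces of the closures of the points over `x` -/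
noncomputable def Wy (i : I) : ptIdx Y (yI i).1.1 :=
  pieceInIdx Y (yI i).1.1 (goodOpen Y (φ ⁻¹ᵁ B.1) (yI i).1.1 ⊓ φ ⁻¹ᵁ Oout φ B hc x yI hxN)
    ⟨mem_goodOpen Y (φ ⁻¹ᵁ B.1) hc (yI i).1.1 (yI i).1.2, mem_pre_Oout φ B hc x yI hmap hxN i⟩

theorem pieceSet_Wy (i : I) : pieceSet Y (yI i).1.1 (Wy φ B hc x yI hmap hxN i).1 =
    closure ({(yI i).1.1} : Set Y.scheme) ∩
      (goodOpen Y (φ ⁻¹ᵁ B.1) (yI i).1.1 ⊓ φ ⁻¹ᵁ Oout φ B hc x yI hxN : Y.scheme.Opens) := by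
  show pieceSet Y (yI i).1.1 (pieceIn Y (yI i).1.1 _) = _
  rw [pieceSet_pieceIn]

theorem hsub_Wy (i : I) : pieceSet Y (yI i).1.1 (Wy φ B hc x yI hmap hxN i).1 ⊆
    (φ ⁻¹ᵁ Oout φ B hc x yI hxN : Y.scheme.Opens) := by
  rw [pieceSet_Wy]
  exact fun z hz => hz.2.2

theorem pieceSet_Wy_eq (i : I) : pieceSet Y (yI i).1.1 (Wy φ B hc x yI hmap hxN i).1 =
    ((goodOpen Y (φ ⁻¹ᵁ B.1) (yI i).1.1 : Set Y.scheme) ∩
      (φ ⁻¹ᵁ Oout φ B hc x yI hxN : Y.scheme.Opens)) \ (φ ⁻¹ᵁ B.1 : Y.scheme.Opens) := by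
  rw [pieceSet_Wy]
  ext z
  constructor
  · rintro ⟨hz1, hz2, hz3⟩
    refine ⟨⟨hz2, hz3⟩, fun hzB => ?_⟩
    have : z ∈ closure ({(yI i).1.1} : Set Y.scheme) ∩ (φ ⁻¹ᵁ B.1 : Y.scheme.Opens) := ⟨hz1, hzB⟩
    rw [closure_inter_eq_empty_of_notMem Y (yI i).1.1 (φ ⁻¹ᵁ B.1) (yI i).2] at this
    exact this
  · rintro ⟨⟨hz2, hz3⟩, hzB⟩
    exact ⟨goodOpen_diff_subset Y (φ ⁻¹ᵁ B.1) (yI i).1.1 ⟨hz2, hzB⟩, hz2, hz3⟩

theorem hG_Wy (i : I) : ∃ G : Y.scheme.Opens, pieceSet Y (yI i).1.1 (Wy φ B hc x yI hmap hxN i).1 =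
    ((G : Set Y.scheme) ∩ (φ ⁻¹ᵁ Oout φ B hc x yI hxN : Y.scheme.Opens)) \
      (φ ⁻¹ᵁ B.1 : Y.scheme.Opens) :=
  ⟨goodOpen Y (φ ⁻¹ᵁ B.1) (yI i).1.1, pieceSet_Wy_eq φ B hc x yI hmap hxN i⟩

include hinj in
theorem hdisj_Wy (i i' : I) (hne : i ≠ i') :
    Disjoint (pieceSet Y (yI i).1.1 (Wy φ B hc x yI hmap hxN i).1)
      (pieceSet Y (yI i').1.1 (Wy φ B hc x yI hmap hxN i').1) := by
  rw [Set.disjoint_left]
  intro z hz hz'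
  rw [pieceSet_Wy] at hz hz'
  have : z ∈ closure ({(yI i).1.1} : Set Y.scheme) ∩
      goodOpen Y (preIdx φ B hc).1 (yI i').1.1 := ⟨hz.1, hz'.2.1⟩
  rw [closure_inter_goodOpen_eq_empty Y (preIdx φ B hc) (yI i) (yI i')
    (fun h => hne (hinj h))] at this
  exact this

theorem hcov_Wy (z : Y.scheme)
    (hz : z ∈ ((φ ⁻¹ᵁ Oout φ B hc x yI hxN : Y.scheme.Opens) : Set Y.scheme))
    (hzB : z ∉ (φ ⁻¹ᵁ B.1 : Y.scheme.Opens)) :
    ∃ i, z ∈ pieceSet Y (yI i).1.1 (Wy φ B hc x yI hmap hxN i).1 := by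
  have hz' : φ z ∈ Oout φ B hc x yI hxN := hz
  rcases hz' with h | h
  · exact absurd h hzB
  · rw [pieceSet_Wx] at h
    obtain ⟨h1, h2, h3⟩ := h
    have hzK : z ∉ Kbad φ B hc x yI := fun hK => h3 ⟨z, hK, rfl⟩
    have hzU : z ∈ ⋃ i : I, (goodOpen Y (φ ⁻¹ᵁ B.1) (yI i).1.1 : Set Y.scheme) := by
      by_contra hn
      exact hzK ⟨h1, hn⟩
    rw [Set.mem_iUnion] at hzU
    obtain ⟨i, hi⟩ := hzU
    refine ⟨i, ?_⟩
    rw [pieceSet_Wy_eq]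
    exact ⟨⟨hi, hz⟩, hzB⟩

end Choice


section PerX

variable (T : BMCoh.PreTheory V R A)
  (hred : ∀ (S : BMCoh.Obj V) (D D'' : BMCoh.Decomp S) (gU : D''.U ⟶ D.U)
      (k : D''.Z.scheme ⟶ D.Z.scheme) [IsClosedImmersion k] [AlgebraicGeometry.Surjective k],
      gU ≫ D.j = D''.j → k ≫ D.i = D''.i →
      ∀ (M : A.Cat) (i n i' n' : ℤ) (hi : i' = i + 1 - 2 * D.codim) (hn : n' = n - D.codim)
        (hi'' : i' = i + 1 - 2 * D''.codim) (hn'' : n' = n - D''.codim)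
        (hk : i' = i' + 2 * BMCoh.relCodim D''.Z.scheme D.Z.scheme)
        (hk' : n' = n' + BMCoh.relCodim D''.Z.scheme D.Z.scheme),
      T.pull gU M i n ≫ T.res D'' M i n i' n' hi'' hn'' ≫ T.push k M i' n' i' n' hk hk' =
        T.res D M i n i' n' hi hn)
  {X Y : Obj V} (φ : Y.scheme ⟶ X.scheme) [IsProper φ] {q : ℕ}
  (Q : T.ResData X q) (Q' : T.ResData Y 0)
  (B : Idx X (ContainsFj X q)) (hc : ContainsFj Y 0 (φ ⁻¹ᵁ B.1))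
  (x : X.cdPt (q + 1)) (hx : x.1 ∉ B.1)
  (hcodim : ∀ y' : Y.scheme, φ y' = x.1 → codim Y.scheme y' = 1)
  {I : Type*} [Fintype I] [DecidableEq I] (yI : I → Bad Y (preIdx φ B hc))
  (hinj : Function.Injective yI) (hmap : ∀ i, φ (yI i).1.1 = x.1)
  (hsurj : ∀ yb : Bad Y (preIdx φ B hc), φ yb.1.1 = x.1 → ∃ i, yI i = yb)
  (G : ∀ i, T.PtPush φ (yI i).1.1 x.1) (i₀ : I) (hdimXY : dim X.scheme = dim Y.scheme + q)

include hred hx hcodim hinj hmap hsurj i₀ hdimXY in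
/-- the residue at `x` of a push-forward is the sum of the push-forwards of the residues at the
points over `x` -/
theorem resData_push_eq' (M : A.Cat) (i₃ n₃ i₁ n₁ i₂ n₂ : ℤ)
    (h2 : i₂ = i₁ + 1 - 2 * ((q : ℤ) + 1)) (h2' : n₂ = n₁ - ((q : ℤ) + 1))
    (h4 : i₂ = i₃ + 1 - 2 * (((0 : ℕ) : ℤ) + 1)) (h4' : n₂ = n₃ - (((0 : ℕ) : ℤ) + 1))
    (hiB : i₁ = i₃ + 2 * relCodim ((φ ⁻¹ᵁ B.1 : Y.scheme.Opens) : Scheme.{u}) (B.1 : Scheme.{u}))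
    (hnB : n₁ = n₃ + relCodim ((φ ⁻¹ᵁ B.1 : Y.scheme.Opens) : Scheme.{u}) (B.1 : Scheme.{u}))
    (b : T.gp (Y.res (φ ⁻¹ᵁ B.1)) M i₃ n₃) :
    (Q.cpt x M i₁ n₁ i₂ n₂ h2 h2').hom (((T.fjι X q i₁ n₁ B).app M).hom
        ((T.push (X := Y.res (φ ⁻¹ᵁ B.1)) (Y := X.res B.1) (φ ∣_ B.1) M i₃ n₃ i₁ n₁
          hiB hnB).hom b)) =
      ∑ i : I, ((G i).cpt M i₂ n₂).hom ((Q'.cpt (yI i).1 M i₃ n₃ i₂ n₂ h4 h4').hom
        (((T.fjι Y 0 i₃ n₃ (preIdx φ B hc)).app M).hom b)) := by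
  have hxN := mem_Nopen φ B hc x hx hcodim yI hsurj
  exact resData_push_eq T hred φ Q Q' B hc x hx (Wx φ B hc x yI hxN) (hWx φ B hc x yI hxN)
    (fun i => (yI i).1) G (Wy φ B hc x yI hmap hxN) (hsub_Wy φ B hc x yI hmap hxN)
    (hG_Wy φ B hc x yI hmap hxN) (hdisj_Wy φ B hc x yI hinj hmap hxN)
    (hcov_Wy φ B hc x yI hmap hxN) i₀ hdimXY M i₃ n₃ i₁ n₁ i₂ n₂ h2 h2' h4 h4' hiB hnB b

end PerX

end Groth.Agent.Lib.H15BMD1Geom
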