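import Groth.Agent.Lib.H15BMD1Geom

set_option autoImplicit false
set_option linter.style.haveILetI false
set_option linter.unusedSectionVars false
universe u

open CategoryTheory CategoryTheory.Limits AlgebraicGeometry Opposite Set Topology TopologicalSpace
open BMCoh WeilCoh Groth.Agent.Lib.H15BMGeom Groth.Agent.Lib.H15BMFilt Groth.Agent.Lib.H15BMDecomp
  Groth.Agent.Lib.H15BMData Groth.Agent.Lib.H15BMExt Groth.Agent.Lib.H15BMKer
  Groth.Agent.Lib.H15RedLift Groth.Agent.Lib.H15BMTot Groth.Agent.Lib.H15BMDiff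
  Groth.Agent.Lib.H15BMAdd Groth.Agent.Lib.H15BMComp Groth.Agent.Lib.H15BMLevel0
  Groth.Agent.Lib.H15BMRetr Groth.Agent.Lib.H15BMD1Core Groth.Agent.Lib.H15BMD1Geom

/-!
helper15: the total residue of a proper push-forward from an integral object is the family
push-forward of the total residue upstairs (main step of S16097).
-/

namespace Groth.Agent.Lib.H15BMD1Main

variable {V : ObjectProperty Scheme.{u}} [BMCoh.IsConstructible V] {R : Type u} [CommRing R]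
  {A : BMCoh.Coefs R}

section Cast

variable (T : BMCoh.PreTheory V R A) {X Y : Obj V} {φ : Y.scheme ⟶ X.scheme}

/-- transport of a push-forward datum along an equality of target points -/
def ptPushCast {y : Y.scheme} {x x' : X.scheme} (h : x' = x) (G : T.PtPush φ y x') :
    T.PtPush φ y x := h ▸ G

theorem lof_ptPushCast {k : ℕ} [DecidableEq (X.cdPt k)] {y : Y.scheme} (x x' : X.cdPt k) (h : x' = x)
    (G : T.PtPush φ y x'.1) (M : A.Cat) (i n : ℤ) (v : T.ptGp Y y M i n) :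
    DirectSum.lof R (X.cdPt k) (fun z : X.cdPt k => T.ptGp X z.1 M i n) x'
        ((G.cpt M i n).hom v) =
      DirectSum.lof R (X.cdPt k) (fun z : X.cdPt k => T.ptGp X z.1 M i n) x
        (((ptPushCast T (congrArg Subtype.val h) G).cpt M i n).hom v) := by
  subst h
  rfl

end Cast

section Main

variable (T : BMCoh.PreTheory V R A)
  (hred : ∀ (S : BMCoh.Obj V) (D D'' : BMCoh.Decomp S) (gU : D''.U ⟶ D.U)
      (k : D''.Z.scheme ⟶ D.Z.scheme) [IsClosedImmersion k] [AlgebraicGeometry.Surjective k],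
      gU ≫ D.j = D''.j → k ≫ D.i = D''.i →
      ∀ (M : A.Cat) (i n i' n' : ℤ) (hi : i' = i + 1 - 2 * D.codim) (hn : n' = n - D.codim)
        (hi'' : i' = i + 1 - 2 * D''.codim) (hn'' : n' = n - D''.codim)
        (hk : i' = i' + 2 * BMCoh.relCodim D''.Z.scheme D.Z.scheme)
        (hk' : n' = n' + BMCoh.relCodim D''.Z.scheme D.Z.scheme),
      T.pull gU M i n ≫ T.res D'' M i n i' n' hi'' hn'' ≫ T.push k M i' n' i' n' hk hk' =
        T.res D M i n i' n' hi hn)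
  {X Y : Obj V} (φ : Y.scheme ⟶ X.scheme) [IsProper φ] {q : ℕ}
  (Q : T.ResData X q) (Q' : T.ResData Y 0)
  (B : Idx X (ContainsFj X q)) (hc : ContainsFj Y 0 (φ ⁻¹ᵁ B.1))
  (t : Y.cdPt 1 → X.cdPt (q + 1)) (F : ∀ y : Y.cdPt 1, T.PtPush φ y.1 (t y).1)
  (hcodim : ∀ (x : X.cdPt (q + 1)) (y' : Y.scheme), φ y' = x.1 → codim Y.scheme y' = 1)
  (hne : ∀ x : X.cdPt (q + 1), x.1 ∉ B.1 → ∃ y' : Y.scheme, φ y' = x.1)
  (hdimXY : dim X.scheme = dim Y.scheme + q)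

include hred hcodim hne hdimXY in
theorem tot_push_eq (M : A.Cat) (i₃ n₃ i₁ n₁ i₂ n₂ : ℤ)
    (h2 : i₂ = i₁ + 1 - 2 * ((q : ℤ) + 1)) (h2' : n₂ = n₁ - ((q : ℤ) + 1))
    (h4 : i₂ = i₃ + 1 - 2 * (((0 : ℕ) : ℤ) + 1)) (h4' : n₂ = n₃ - (((0 : ℕ) : ℤ) + 1))
    (hiB : i₁ = i₃ + 2 * relCodim ((φ ⁻¹ᵁ B.1 : Y.scheme.Opens) : Scheme.{u}) (B.1 : Scheme.{u}))
    (hnB : n₁ = n₃ + relCodim ((φ ⁻¹ᵁ B.1 : Y.scheme.Opens) : Scheme.{u}) (B.1 : Scheme.{u}))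
    (b : T.gp (Y.res (φ ⁻¹ᵁ B.1)) M i₃ n₃) :
    (Q.tot M i₁ n₁ i₂ n₂ h2 h2').hom (((T.fjι X q i₁ n₁ B).app M).hom
        ((T.push (X := Y.res (φ ⁻¹ᵁ B.1)) (Y := X.res B.1) (φ ∣_ B.1) M i₃ n₃ i₁ n₁
          hiB hnB).hom b)) =
      (BMCoh.PreTheory.PtPush.famTot t F M i₂ n₂).hom ((Q'.tot M i₃ n₃ i₂ n₂ h4 h4').hom
        (((T.fjι Y 0 i₃ n₃ (preIdx φ B hc)).app M).hom b)) := by
  classical
  haveI := finite_bad X B
  letI : Fintype (Bad X B) := Fintype.ofFinite _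
  haveI := finite_bad Y (preIdx φ B hc)
  letI : Fintype (Bad Y (preIdx φ B hc)) := Fintype.ofFinite _
  let α : T.fjGp X q M i₁ n₁ := ((T.fjι X q i₁ n₁ B).app M).hom
    ((T.push (X := Y.res (φ ⁻¹ᵁ B.1)) (Y := X.res B.1) (φ ∣_ B.1) M i₃ n₃ i₁ n₁ hiB hnB).hom b)
  let α' : T.fjGp Y 0 M i₃ n₃ := ((T.fjι Y 0 i₃ n₃ (preIdx φ B hc)).app M).hom b
  let ζ : T.ptSum X (q + 1) M i₂ n₂ := (Q.tot M i₁ n₁ i₂ n₂ h2 h2').hom α
  let ξ : T.ptSum Y (0 + 1) M i₂ n₂ := (Q'.tot M i₃ n₃ i₂ n₂ h4 h4').hom α'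
  have hζ : ζ = ∑ xb : Bad X B, DirectSum.lof R (X.cdPt (q + 1))
      (fun z : X.cdPt (q + 1) => T.ptGp X z.1 M i₂ n₂) xb.1 (ζ xb.1) :=
    directSum_eq_sum_subtype (R := R) (fun x : X.cdPt (q + 1) => x.1 ∉ B.1) ζ (fun x hx => by
      show (Q.cpt x M i₁ n₁ i₂ n₂ h2 h2').hom (((T.fjι X q i₁ n₁ B).app M).hom
        ((T.push (X := Y.res (φ ⁻¹ᵁ B.1)) (Y := X.res B.1) (φ ∣_ B.1) M i₃ n₃ i₁ n₁
          hiB hnB).hom b)) = 0
      exact congrArg (fun k => k.hom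
        ((T.push (X := Y.res (φ ⁻¹ᵁ B.1)) (Y := X.res B.1) (φ ∣_ B.1) M i₃ n₃ i₁ n₁
          hiB hnB).hom b))
        (resData_cpt_in T X Q B x (not_not.1 hx) M i₁ n₁ i₂ n₂ h2 h2'))
  have hξ : ξ = ∑ yb : Bad Y (preIdx φ B hc), DirectSum.lof R (Y.cdPt (0 + 1))
      (fun z : Y.cdPt (0 + 1) => T.ptGp Y z.1 M i₂ n₂) yb.1 (ξ yb.1) :=
    directSum_eq_sum_subtype (R := R) (fun y : Y.cdPt (0 + 1) => y.1 ∉ (preIdx φ B hc).1) ξ
      (fun y hy => by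
        show (Q'.cpt y M i₃ n₃ i₂ n₂ h4 h4').hom
          (((T.fjι Y 0 i₃ n₃ (preIdx φ B hc)).app M).hom b) = 0
        exact congrArg (fun k => k.hom b)
          (resData_cpt_in T Y Q' (preIdx φ B hc) y (not_not.1 hy) M i₃ n₃ i₂ n₂ h4 h4'))
  have hτ : ∀ yb : Bad Y (preIdx φ B hc), (t yb.1).1 ∉ B.1 := fun yb h => yb.2 (by
    show φ yb.1.1 ∈ B.1
    rw [(F yb.1).maps_pt]
    exact h)
  let τ : Bad Y (preIdx φ B hc) → Bad X B := fun yb => ⟨t yb.1, hτ yb⟩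
  have hR : (BMCoh.PreTheory.PtPush.famTot t F M i₂ n₂).hom ξ =
      ∑ yb : Bad Y (preIdx φ B hc), DirectSum.lof R (X.cdPt (q + 1))
        (fun z : X.cdPt (q + 1) => T.ptGp X z.1 M i₂ n₂) (t yb.1)
        (((F yb.1).cpt M i₂ n₂).hom (ξ yb.1)) := by
    conv_lhs => rw [hξ]
    rw [map_sum]
    exact Finset.sum_congr rfl (fun yb _ =>
      BMCoh.PreTheory.PtPush.famTot_lof t F M i₂ n₂ yb.1 (ξ yb.1))
  show ζ = (BMCoh.PreTheory.PtPush.famTot t F M i₂ n₂).hom ξ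
  rw [hR, ← Fintype.sum_fiberwise τ]
  conv_lhs => rw [hζ]
  refine Finset.sum_congr rfl (fun xb _ => ?_)
  -- the fibre over xb
  let I := {yb : Bad Y (preIdx φ B hc) // τ yb = xb}
  let yI : I → Bad Y (preIdx φ B hc) := Subtype.val
  have hteq : ∀ i : I, t i.1.1 = xb.1 := fun i => congrArg Subtype.val i.2
  have hmapI : ∀ i : I, φ (yI i).1.1 = xb.1.1 := fun i =>
    (F i.1.1).maps_pt.trans (congrArg Subtype.val (hteq i))
  have hsurjI : ∀ yb : Bad Y (preIdx φ B hc), φ yb.1.1 = xb.1.1 → ∃ i : I, yI i = yb :=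
    fun yb h => ⟨⟨yb, Subtype.ext (Subtype.ext ((F yb.1).maps_pt.symm.trans h))⟩, rfl⟩
  let G : ∀ i : I, T.PtPush φ (yI i).1.1 xb.1.1 := fun i =>
    ptPushCast T (congrArg Subtype.val (hteq i)) (F i.1.1)
  obtain ⟨y', hy'⟩ := hne xb.1 xb.2
  have hy'B : y' ∉ (preIdx φ B hc).1 := fun h => xb.2 (by rw [← hy']; exact h)
  obtain ⟨i₀, -⟩ := hsurjI ⟨⟨y', hcodim xb.1 y' hy'⟩, hy'B⟩ hy'
  have key := resData_push_eq' T hred φ Q Q' B hc xb.1 xb.2 (hcodim xb.1) yI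
    Subtype.val_injective hmapI hsurjI G i₀ hdimXY M i₃ n₃ i₁ n₁ i₂ n₂ h2 h2' h4 h4' hiB hnB b
  have hζx : ζ xb.1 = ∑ i : I, ((G i).cpt M i₂ n₂).hom (ξ i.1.1) := key
  rw [hζx, map_sum]
  refine Finset.sum_congr rfl (fun i _ => ?_)
  exact (lof_ptPushCast T xb.1 (t i.1.1) (hteq i) (F i.1.1) M i₂ n₂ (ξ i.1.1)).symm

end Main

end Groth.Agent.Lib.H15BMD1Main
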