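import Groth.Agent.Lib.H15BMGeom

set_option autoImplicit false
set_option linter.style.haveILetI false
universe u

open CategoryTheory CategoryTheory.Limits AlgebraicGeometry Opposite Set Topology TopologicalSpace
open BMCoh WeilCoh Groth.Agent.Lib.H15BMGeom

/-!
helper15: uniqueness of push-forward data for twisted Borel–Moore theories (S15931).
-/

namespace Groth.Agent.Lib.H15BMData

variable {V : ObjectProperty Scheme.{u}} [BMCoh.IsConstructible V] {R : Type u} [CommRing R]
  {A : BMCoh.Coefs R}

/-- the index of `F_jX`-opens attached to a piece -/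
noncomputable def bigIdx (X : Obj V) {j : ℕ} (x : X.cdPt j) (W : ptIdx X x.1) : Idx X (ContainsFj X j) :=
  ⟨bigOpen X x.1 W.1, containsFj_bigOpen X x.1 x.2 W.1 W.2.1,
    dim_eq_of_containsFj X _ (containsFj_bigOpen X x.1 x.2 W.1 W.2.1)⟩

theorem subsingleton_pushData (T : BMCoh.PreTheory V R A) (X : BMCoh.Obj V) (j : ℕ) :
    Subsingleton (T.PushData X j) := by
  constructor
  intro P P'
  obtain ⟨c, hc⟩ := P
  obtain ⟨c', hc'⟩ := P'
  have : c = c' := by
    funext x M i n i' n' hi hn
    apply colimit_obj_ext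
    rintro ⟨W⟩
    let U : Idx X (ContainsFj X j) := bigIdx X x W
    let f : ((X.ptSub x.1).res W.1).scheme ⟶ (X.res U.1).scheme :=
      pieceLift X x.1 W.1 U.1 (pieceSet_subset_bigOpen X x.1 W.1)
    haveI : IsClosedImmersion f :=
      isClosedImmersion_pieceLift X x.1 W.1 U.1 _ (closure_inter_bigOpen_subset X x.1 W.1)
    have hfac : f ≫ U.1.ι = W.1.ι ≫ X.ptSubι x.1 := pieceLift_ι X x.1 W.1 U.1 _
    have hrc : relCodim ((X.ptSub x.1).res W.1).scheme (X.res U.1).scheme = (j : ℤ) :=
      relCodim_piece X x.1 x.2 W.1 W.2.2 U.1 U.2.2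
    have hi' : i' = i + 2 * relCodim ((X.ptSub x.1).res W.1).scheme (X.res U.1).scheme := by
      rw [hrc]; exact hi
    have hn' : n' = n + relCodim ((X.ptSub x.1).res W.1).scheme (X.res U.1).scheme := by
      rw [hrc]; exact hn
    have h1 := hc x M i n i' n' hi hn U W f hfac hi' hn'
    have h2 := hc' x M i n i' n' hi hn U W f hfac hi' hn'
    exact h1.trans h2.symm
  subst this
  rfl

end Groth.Agent.Lib.H15BMData
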