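import Groth.Agent.Lib.H15BMFilt
import Groth.Agent.Lib.H15BMData

set_option autoImplicit false
set_option linter.style.haveILetI false
set_option linter.unusedSectionVars false
universe u

open CategoryTheory CategoryTheory.Limits AlgebraicGeometry Opposite Set Topology TopologicalSpace
open BMCoh WeilCoh Groth.Agent.Lib.H15BMGeom Groth.Agent.Lib.H15BMFilt

/-!
helper15: decompositions of opens of an object into an open and a closed piece of the reduced closure of
a point (Def_BMCoh `Decomp`), the value of residue data on representatives, uniqueness of residue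
data (S15932).
-/

namespace Groth.Agent.Lib.H15BMDecomp

variable {V : ObjectProperty Scheme.{u}} [BMCoh.IsConstructible V] {R : Type u} [CommRing R]
  {A : BMCoh.Coefs R}

theorem closure_inter_eq_empty_of_notMem (X : Obj V) (x : X.scheme) (U : X.scheme.Opens)
    (hx : x ∉ U) : closure ({x} : Set X.scheme) ∩ U = ∅ := by
  rw [Set.eq_empty_iff_forall_notMem]
  rintro z ⟨hz, hzU⟩
  obtain ⟨y, hyU, hy⟩ := mem_closure_iff.1 hz U U.2 hzU
  rw [Set.mem_singleton_iff.1 hy] at hyU
  exact hx hyU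

theorem range_homOfLE (X : Scheme.{u}) {U Y : X.Opens} (h : U ≤ Y) :
    Set.range (X.homOfLE h) = ⇑Y.ι ⁻¹' (U : Set X) := by
  have := congrArg (fun O : (Y : Scheme.{u}).Opens => (O : Set (Y : Scheme.{u})))
    (Scheme.opensRange_homOfLE h)
  exact this

/-- decomposition of an open `Y` into an open `U` and a closed piece of the closure of `x` -/
noncomputable def pieceDecomp (X : Obj V) (x : X.scheme) (W : (X.ptSub x).scheme.Opens)
    (Y U : X.scheme.Opens) (hUY : U ≤ Y)
    (hY : (Y : Set X.scheme) = (U : Set X.scheme) ∪ pieceSet X x W)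
    (hdisj : closure ({x} : Set X.scheme) ∩ U = ∅)
    (hdim : dim (U : Scheme.{u}) = dim (Y : Scheme.{u})) : Decomp (X.res Y) where
  Z := (X.ptSub x).res W
  U := X.res U
  i := pieceLift X x W Y (by rw [hY]; exact Set.subset_union_right)
  closedImm := isClosedImmersion_pieceLift X x W Y _ (by
    rintro z ⟨hz, hzY⟩
    rw [SetLike.mem_coe, ← SetLike.mem_coe, hY] at hzY
    rcases hzY with hzU | hzW
    · exact absurd (show z ∈ closure ({x} : Set X.scheme) ∩ U from ⟨hz, hzU⟩) (by rw [hdisj]; exact id)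
    · exact hzW)
  j := X.resLE hUY hdim
  range_eq := by
    show Set.range (X.scheme.homOfLE hUY) = _
    rw [range_homOfLE, range_pieceLift, ← Set.preimage_compl]
    ext z
    simp only [Set.mem_preimage, Set.mem_compl_iff]
    have hzY : (Y.ι z) ∈ (Y : Set X.scheme) := z.2
    rw [hY] at hzY
    constructor
    · intro hzU hzW
      have : (Y.ι z) ∈ closure ({x} : Set X.scheme) ∩ U := ⟨pieceSet_subset_closure X x W hzW, hzU⟩
      rw [hdisj] at this
      exact this
    · intro hzW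
      rcases hzY with h | h
      · exact h
      · exact absurd h hzW

@[reassoc]
theorem pieceDecomp_i_ι (X : Obj V) (x : X.scheme) (W : (X.ptSub x).scheme.Opens)
    (Y U : X.scheme.Opens) (hUY : U ≤ Y)
    (hY : (Y : Set X.scheme) = (U : Set X.scheme) ∪ pieceSet X x W)
    (hdisj : closure ({x} : Set X.scheme) ∩ U = ∅)
    (hdim : dim (U : Scheme.{u}) = dim (Y : Scheme.{u})) :
    (pieceDecomp X x W Y U hUY hY hdisj hdim).i ≫ Y.ι = W.ι ≫ X.ptSubι x :=
  pieceLift_ι X x W Y (by rw [hY]; exact Set.subset_union_right)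

@[reassoc]
theorem pieceDecomp_j_ι (X : Obj V) (x : X.scheme) (W : (X.ptSub x).scheme.Opens)
    (Y U : X.scheme.Opens) (hUY : U ≤ Y)
    (hY : (Y : Set X.scheme) = (U : Set X.scheme) ∪ pieceSet X x W)
    (hdisj : closure ({x} : Set X.scheme) ∩ U = ∅)
    (hdim : dim (U : Scheme.{u}) = dim (Y : Scheme.{u})) :
    (pieceDecomp X x W Y U hUY hY hdisj hdim).j.hom ≫ Y.ι = U.ι :=
  Scheme.homOfLE_ι _ hUY

section TopLemma

theorem notMem_closure_diff_closure {X : Type*} [TopologicalSpace X] [NoetherianSpace X]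
    [QuasiSober X] {C : Set X} (hC : IsClosed C) {x : X}
    (hmax : ∀ t ∈ C, x ∈ closure ({t} : Set X) → closure ({t} : Set X) = closure {x}) :
    x ∉ closure (C \ closure ({x} : Set X)) := by
  obtain ⟨S, hSf, hSc, hSi, hSU⟩ := NoetherianSpace.exists_finite_set_isClosed_irreducible hC
  let S' : Set (Set X) := {t ∈ S | x ∉ t}
  have hS'f : S'.Finite := hSf.subset (fun t ht => ht.1)
  have hcl : IsClosed (⋃₀ S') := by
    rw [Set.sUnion_eq_biUnion]
    exact hS'f.isClosed_biUnion (fun t ht => hSc t ht.1)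
  have hx : x ∉ ⋃₀ S' := by
    rintro ⟨t, ht, hxt⟩
    exact ht.2 hxt
  have hsub : C \ closure ({x} : Set X) ⊆ ⋃₀ S' := by
    rintro z ⟨hzC, hzx⟩
    rw [hSU] at hzC
    obtain ⟨t, htS, hzt⟩ := hzC
    refine ⟨t, ⟨htS, ?_⟩, hzt⟩
    intro hxt
    have hgen : IsGenericPoint (hSi t htS).genericPoint (closure t) :=
      (hSi t htS).isGenericPoint_genericPoint_closure
    rw [(hSc t htS).closure_eq] at hgen
    have hgC : (hSi t htS).genericPoint ∈ C := by
      rw [hSU]
      exact ⟨t, htS, hgen.mem⟩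
    have := hmax _ hgC (by rw [hgen.def]; exact hxt)
    rw [hgen.def] at this
    exact hzx (this ▸ hzt)
  exact fun h => hx ((hcl.closure_subset_iff.2 hsub) h)

end TopLemma

theorem pdim_le_of_mem_closure (X : Obj V) {x y : X.scheme} (h : y ∈ closure ({x} : Set X.scheme)) :
    pdim X.scheme y ≤ pdim X.scheme x := by
  have hsub : closure ({y} : Set X.scheme) ⊆ closure ({x} : Set X.scheme) :=
    (isClosed_closure.closure_subset_iff).2 (Set.singleton_subset_iff.2 h)
  have hfin : topologicalKrullDim ↥(closure ({x} : Set X.scheme)) < ⊤ :=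
    lt_of_le_of_lt (topologicalKrullDim_subspace_le _ _) (finiteDim X)
  exact natDim_le_of_isInducing (f := Set.inclusion hsub)
    (IsInducing.of_comp (continuous_inclusion hsub) continuous_subtype_val
      (by exact IsInducing.subtypeVal)) hfin

theorem codim_le_of_mem_closure (X : Obj V) {x y : X.scheme} (h : y ∈ closure ({x} : Set X.scheme)) :
    codim X.scheme x ≤ codim X.scheme y := by
  have := pdim_le_of_mem_closure X h
  unfold codim
  omega

/-- maximality of a codimension `j+1` point outside an open containing `F_j` -/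
theorem closure_eq_of_mem_compl (X : Obj V) {j : ℕ} (U₀ : X.scheme.Opens) (hU₀ : ContainsFj X j U₀)
    (x : X.scheme) (hx : codim X.scheme x = j + 1) (t : X.scheme) (ht : t ∉ U₀)
    (hxt : x ∈ closure ({t} : Set X.scheme)) : t = x := by
  by_contra hne
  have h1 := pdim_lt_of_specializes X (specializes_iff_mem_closure.2 hxt) hne
  have h2 := pdim_le_dim X t
  have h3 : codim X.scheme t ≤ j := by
    unfold codim at hx ⊢
    omega
  exact ht (hU₀ t h3)

/-- the maximal good open around a codimension `j+1` point outside `U₀` -/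
noncomputable def goodOpen (X : Obj V) (U₀ : X.scheme.Opens) (x : X.scheme) : X.scheme.Opens :=
  ⟨(closure ((U₀ : Set X.scheme)ᶜ \ closure ({x} : Set X.scheme)))ᶜ, isClosed_closure.isOpen_compl⟩

theorem le_goodOpen (X : Obj V) (U₀ : X.scheme.Opens) (x : X.scheme) : U₀ ≤ goodOpen X U₀ x := by
  intro z hz hz'
  have hop : IsOpen ((U₀ : Set X.scheme)) := U₀.2
  obtain ⟨y, hyU, hy⟩ := mem_closure_iff.1 hz' U₀ hop hz
  exact hy.1 hyU

theorem goodOpen_diff_subset (X : Obj V) (U₀ : X.scheme.Opens) (x : X.scheme) :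
    (goodOpen X U₀ x : Set X.scheme) \ U₀ ⊆ closure {x} := by
  rintro z ⟨hz, hzU⟩
  by_contra hzx
  exact hz (subset_closure ⟨hzU, hzx⟩)

theorem mem_goodOpen (X : Obj V) {j : ℕ} (U₀ : X.scheme.Opens) (hU₀ : ContainsFj X j U₀)
    (x : X.scheme) (hx : codim X.scheme x = j + 1) : x ∈ goodOpen X U₀ x := by
  haveI : IsNoetherian X.scheme := IsConstructible.isNoetherian X.mem
  refine notMem_closure_diff_closure U₀.2.isClosed_compl ?_
  intro t ht hxt
  rw [closure_eq_of_mem_compl X U₀ hU₀ x hx t ht hxt]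

/-- the piece of the closure of `x` inside an open `O` -/
noncomputable def pieceIn (X : Obj V) (x : X.scheme) (O : X.scheme.Opens) : (X.ptSub x).scheme.Opens :=
  (X.ptSubι x) ⁻¹ᵁ O

theorem pieceSet_pieceIn (X : Obj V) (x : X.scheme) (O : X.scheme.Opens) :
    pieceSet X x (pieceIn X x O) = closure ({x} : Set X.scheme) ∩ O := by
  show (X.ptSubι x) '' ((X.ptSubι x) ⁻¹' (O : Set X.scheme)) = _
  rw [Set.image_preimage_eq_inter_range, range_ptSubι, Set.inter_comm]

theorem pieceIn_nonempty (X : Obj V) (x : X.scheme) (O : X.scheme.Opens) (hx : x ∈ O) :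
    (pieceIn X x O : Set (X.ptSub x).scheme).Nonempty := by
  have : x ∈ Set.range (X.ptSubι x) := by
    rw [range_ptSubι]
    exact subset_closure rfl
  obtain ⟨z, hz⟩ := this
  refine ⟨z, show (X.ptSubι x) z ∈ O from ?_⟩
  rw [hz]
  exact hx

/-- a nonempty open of the reduced closure of a point, as a member of the index family -/
noncomputable def ptIdxMk (X : Obj V) (x : X.scheme) (W : (X.ptSub x).scheme.Opens)
    (hW : (W : Set (X.ptSub x).scheme).Nonempty) : ptIdx X x :=
  ⟨W, hW, IsConstructible.dim_open (X.ptSub x).mem inferInstance W hW⟩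

noncomputable def pieceInIdx (X : Obj V) (x : X.scheme) (O : X.scheme.Opens) (hx : x ∈ O) :
    ptIdx X x := ptIdxMk X x (pieceIn X x O) (pieceIn_nonempty X x O hx)

section Out

variable (X : Obj V) {j : ℕ} (U₀ : X.scheme.Opens) (x : X.scheme)
  (W : (X.ptSub x).scheme.Opens) (hW : pieceSet X x W ⊆ goodOpen X U₀ x)

include hW in
theorem isOpen_union_pieceSet : IsOpen ((U₀ : Set X.scheme) ∪ pieceSet X x W) := by
  obtain ⟨O₁, hO₁⟩ := exists_opens_pieceSet_eq X x W
  have : (U₀ : Set X.scheme) ∪ pieceSet X x W =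
      (U₀ : Set X.scheme) ∪ ((O₁ : Set X.scheme) ∩ goodOpen X U₀ x) := by
    ext z
    constructor
    · rintro (hz | hz)
      · exact Or.inl hz
      · refine Or.inr ⟨?_, hW hz⟩
        rw [hO₁] at hz
        exact hz.2
    · rintro (hz | ⟨hz1, hz2⟩)
      · exact Or.inl hz
      · by_cases hzU : z ∈ (U₀ : Set X.scheme)
        · exact Or.inl hzU
        · refine Or.inr ?_
          rw [hO₁]
          exact ⟨goodOpen_diff_subset X U₀ x ⟨hz2, hzU⟩, hz1⟩
  rw [this]
  exact U₀.2.union (O₁.2.inter (goodOpen X U₀ x).2)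

/-- `U₀` together with a piece of the closure of `x` -/
noncomputable def outOpen : X.scheme.Opens :=
  ⟨(U₀ : Set X.scheme) ∪ pieceSet X x W, isOpen_union_pieceSet X U₀ x W hW⟩

theorem le_outOpen : U₀ ≤ outOpen X U₀ x W hW := fun _ hz => Or.inl hz

theorem containsFj_outOpen (hU₀ : ContainsFj X j U₀) : ContainsFj X j (outOpen X U₀ x W hW) :=
  fun y hy => Or.inl (hU₀ y hy)

/-- the decomposition of `U₀ ∪ piece` into `U₀` and the piece -/
noncomputable def outDecomp (hU₀ : ContainsFj X j U₀) (hx : x ∉ U₀) :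
    Decomp (X.res (outOpen X U₀ x W hW)) :=
  pieceDecomp X x W (outOpen X U₀ x W hW) U₀ (le_outOpen X U₀ x W hW) rfl
    (closure_inter_eq_empty_of_notMem X x U₀ hx)
    ((dim_eq_of_containsFj X U₀ hU₀).trans
      (dim_eq_of_containsFj X _ (containsFj_outOpen X U₀ x W hW hU₀)).symm)

end Out

section In

variable (X : Obj V) {j : ℕ} (U₀ : X.scheme.Opens) (x : X.scheme)

/-- `U₀` minus the closure of `x` -/
noncomputable def inOpen : X.scheme.Opens :=
  U₀ ⊓ ⟨(closure ({x} : Set X.scheme))ᶜ, isClosed_closure.isOpen_compl⟩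

theorem inOpen_le : inOpen X U₀ x ≤ U₀ := inf_le_left

theorem containsFj_inOpen (hU₀ : ContainsFj X j U₀) (hx : codim X.scheme x = j + 1) :
    ContainsFj X j (inOpen X U₀ x) := by
  intro y hy
  refine ⟨hU₀ y hy, ?_⟩
  intro hyx
  have := codim_le_of_mem_closure X hyx
  omega

/-- the decomposition of `U₀ ∋ x` into `U₀ ∖ closure x` and `closure x ∩ U₀` -/
noncomputable def inDecomp (hU₀ : ContainsFj X j U₀) (hx : codim X.scheme x = j + 1) :
    Decomp (X.res U₀) :=
  pieceDecomp X x (pieceIn X x U₀) U₀ (inOpen X U₀ x) (inOpen_le X U₀ x)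
    (by
      rw [pieceSet_pieceIn]
      ext z
      constructor
      · intro hz
        by_cases hzx : z ∈ closure ({x} : Set X.scheme)
        · exact Or.inr ⟨hzx, hz⟩
        · exact Or.inl ⟨hz, hzx⟩
      · rintro (hz | hz)
        · exact hz.1
        · exact hz.2)
    (by
      rw [Set.eq_empty_iff_forall_notMem]
      rintro z ⟨hz, hz'⟩
      exact hz'.2 hz)
    ((dim_eq_of_containsFj X _ (containsFj_inOpen X U₀ x hU₀ hx)).trans
      (dim_eq_of_containsFj X U₀ hU₀).symm)

end In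

section ResFormula

variable (T : BMCoh.PreTheory V R A) (X : Obj V) {j : ℕ}

theorem pull_id (Y : Obj V) (M : A.Cat) (i n : ℤ) : T.pull (𝟙 Y) M i n = 𝟙 _ := by
  show ((T.H i n).map (𝟙 Y).op).app M = 𝟙 _
  rw [op_id, CategoryTheory.Functor.map_id, NatTrans.id_app]

theorem relCodim_outDecomp (U₀ : X.scheme.Opens) (hU₀ : ContainsFj X j U₀) (x : X.cdPt (j + 1))
    (hx : x.1 ∉ U₀) (W : ptIdx X x.1) (hW : pieceSet X x.1 W.1 ⊆ goodOpen X U₀ x.1) :
    (outDecomp X U₀ x.1 W.1 hW hU₀ hx).codim = (j : ℤ) + 1 := by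
  have := relCodim_piece X x.1 x.2 W.1 W.2.2 (outOpen X U₀ x.1 W.1 hW)
    (dim_eq_of_containsFj X _ (containsFj_outOpen X U₀ x.1 W.1 hW hU₀))
  rw [Nat.cast_add, Nat.cast_one] at this
  exact this

/-- the value of residue data on classes defined on an open not containing the point -/
theorem resData_cpt_out (Q : T.ResData X j) (U₀ : Idx X (ContainsFj X j)) (x : X.cdPt (j + 1))
    (hx : x.1 ∉ U₀.1) (W : ptIdx X x.1) (hW : pieceSet X x.1 W.1 ⊆ goodOpen X U₀.1 x.1)
    (M : A.Cat) (i n i' n' : ℤ) (hi : i' = i + 1 - 2 * ((j : ℤ) + 1)) (hn : n' = n - ((j : ℤ) + 1))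
    (hiD : i' = i + 1 - 2 * (outDecomp X U₀.1 x.1 W.1 hW U₀.2.1 hx).codim)
    (hnD : n' = n - (outDecomp X U₀.1 x.1 W.1 hW U₀.2.1 hx).codim) :
    (T.fjι X j i n U₀).app M ≫ Q.cpt x M i n i' n' hi hn =
      T.res (outDecomp X U₀.1 x.1 W.1 hW U₀.2.1 hx) M i n i' n' hiD hnD ≫
        (T.ptι X x.1 i' n' W).app M := by
  let Y := outOpen X U₀.1 x.1 W.1 hW
  have hYd : dim (Y : Scheme.{u}) = dim X.scheme :=
    dim_eq_of_containsFj X _ (containsFj_outOpen X U₀.1 x.1 W.1 hW U₀.2.1)
  let e : X.res Y ⟶ X := X.resι Y hYd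
  let D := outDecomp X U₀.1 x.1 W.1 hW U₀.2.1 hx
  have h1 := Q.cpt_spec x M i n i' n' hi hn e D W (𝟙 _)
    (by
      show 𝟙 _ ≫ D.i ≫ Y.ι = _
      rw [Category.id_comp]
      exact pieceDecomp_i_ι X x.1 W.1 Y U₀.1 _ _ _ _)
    U₀ (𝟙 _)
    (by
      show 𝟙 _ ≫ D.j.hom ≫ Y.ι = _
      rw [Category.id_comp]
      exact pieceDecomp_j_ι X x.1 W.1 Y U₀.1 _ _ _ _)
    hiD hnD
  erw [pull_id, pull_id, Category.id_comp, Category.id_comp] at h1
  exact h1

theorem relCodim_inDecomp (U₀ : Idx X (ContainsFj X j)) (x : X.cdPt (j + 1)) (hx : x.1 ∈ U₀.1) :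
    (inDecomp X U₀.1 x.1 U₀.2.1 x.2).codim = (j : ℤ) + 1 := by
  have := relCodim_piece X x.1 x.2 (pieceIn X x.1 U₀.1) (pieceInIdx X x.1 U₀.1 hx).2.2 U₀.1 U₀.2.2
  rw [Nat.cast_add, Nat.cast_one] at this
  exact this

/-- the open `U₀ ∖ closure x` as a member of the index family -/
noncomputable def inIdx (U₀ : Idx X (ContainsFj X j)) (x : X.cdPt (j + 1)) : Idx X (ContainsFj X j) :=
  ⟨inOpen X U₀.1 x.1, containsFj_inOpen X U₀.1 x.1 U₀.2.1 x.2,
    dim_eq_of_containsFj X _ (containsFj_inOpen X U₀.1 x.1 U₀.2.1 x.2)⟩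

/-- residue data vanish on classes defined on an open containing the point -/
theorem resData_cpt_in (Q : T.ResData X j) (U₀ : Idx X (ContainsFj X j)) (x : X.cdPt (j + 1))
    (hx : x.1 ∈ U₀.1) (M : A.Cat) (i n i' n' : ℤ) (hi : i' = i + 1 - 2 * ((j : ℤ) + 1))
    (hn : n' = n - ((j : ℤ) + 1)) :
    (T.fjι X j i n U₀).app M ≫ Q.cpt x M i n i' n' hi hn = 0 := by
  let e : X.res U₀.1 ⟶ X := X.resι U₀.1 U₀.2.2
  let D := inDecomp X U₀.1 x.1 U₀.2.1 x.2
  let W := pieceInIdx X x.1 U₀.1 hx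
  let U₁ := inIdx X U₀ x
  have hcd : D.codim = (j : ℤ) + 1 := relCodim_inDecomp X U₀ x hx
  have hiD : i' = i + 1 - 2 * D.codim := by rw [hcd]; exact hi
  have hnD : n' = n - D.codim := by rw [hcd]; exact hn
  have h1 := Q.cpt_spec x M i n i' n' hi hn e D W (𝟙 _)
    (by
      show 𝟙 _ ≫ D.i ≫ U₀.1.ι = _
      rw [Category.id_comp]
      exact pieceDecomp_i_ι X x.1 _ U₀.1 _ _ _ _ _)
    U₁ (𝟙 _)
    (by
      show 𝟙 _ ≫ D.j.hom ≫ U₀.1.ι = _
      rw [Category.id_comp]
      exact pieceDecomp_j_ι X x.1 _ U₀.1 _ _ _ _ _)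
    hiD hnD
  erw [pull_id, pull_id, Category.id_comp, Category.id_comp] at h1
  have hle : U₁ ≤ U₀ := inOpen_le X U₀.1 x.1
  have h2 := idxRes_ocolimι T X (ContainsFj X j) hle M i n
  have hex := T.exact_pull_res D M i n i' n' hiD hnD
  have hzero : idxRes T X (ContainsFj X j) hle M i n ≫ T.res D M i n i' n' hiD hnD = 0 := by
    ext a
    exact hex.apply_apply_eq_zero a
  have h3 : (T.fjι X j i n U₀).app M ≫ Q.cpt x M i n i' n' hi hn =
      idxRes T X (ContainsFj X j) hle M i n ≫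
        (T.fjι X j i n U₁).app M ≫ Q.cpt x M i n i' n' hi hn := by
    rw [← Category.assoc, h2]
  rw [h3, h1]
  have h4 : idxRes T X (ContainsFj X j) hle M i n ≫
      T.res D M i n i' n' hiD hnD ≫ (T.ptι X x.1 i' n' W).app M =
      (idxRes T X (ContainsFj X j) hle M i n ≫ T.res D M i n i' n' hiD hnD) ≫
        (T.ptι X x.1 i' n' W).app M := (Category.assoc _ _ _).symm
  exact h4.trans (by rw [hzero]; exact zero_comp)

end ResFormula

theorem subsingleton_resData (T : BMCoh.PreTheory V R A) (X : BMCoh.Obj V) (j : ℕ) :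
    Subsingleton (T.ResData X j) := by
  constructor
  intro Q Q'
  have key : Q.cpt = Q'.cpt := by
    funext x M i n i' n' hi hn
    apply colimit_obj_ext
    rintro ⟨U₀⟩
    by_cases hx : x.1 ∈ U₀.1
    · exact (resData_cpt_in T X Q U₀ x hx M i n i' n' hi hn).trans
        (resData_cpt_in T X Q' U₀ x hx M i n i' n' hi hn).symm
    · have hxg : x.1 ∈ goodOpen X U₀.1 x.1 := mem_goodOpen X U₀.1 U₀.2.1 x.1 x.2
      let W := pieceInIdx X x.1 (goodOpen X U₀.1 x.1) hxg
      have hW : pieceSet X x.1 W.1 ⊆ goodOpen X U₀.1 x.1 := by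
        show pieceSet X x.1 (pieceIn X x.1 (goodOpen X U₀.1 x.1)) ⊆ _
        rw [pieceSet_pieceIn]
        exact Set.inter_subset_right
      have hcd := relCodim_outDecomp X U₀.1 U₀.2.1 x hx W hW
      have hiD : i' = i + 1 - 2 * (outDecomp X U₀.1 x.1 W.1 hW U₀.2.1 hx).codim := by
        rw [hcd]; exact hi
      have hnD : n' = n - (outDecomp X U₀.1 x.1 W.1 hW U₀.2.1 hx).codim := by
        rw [hcd]; exact hn
      exact (resData_cpt_out T X Q U₀ x hx W hW M i n i' n' hi hn hiD hnD).trans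
        (resData_cpt_out T X Q' U₀ x hx W hW M i n i' n' hi hn hiD hnD).symm
  obtain ⟨c, hc, hf⟩ := Q
  obtain ⟨c', hc', hf'⟩ := Q'
  have : c = c' := key
  subst this
  rfl

end Groth.Agent.Lib.H15BMDecomp
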