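import Groth.Agent.Lib.H15BMPtPush
import Groth.Agent.Lib.H15BMNormPush

set_option autoImplicit false
set_option linter.style.haveILetI false
set_option linter.unusedSectionVars false
universe u

open CategoryTheory CategoryTheory.Limits AlgebraicGeometry Opposite Set Topology TopologicalSpace
open BMCoh WeilCoh Groth.Agent.Lib.H15BMGeom Groth.Agent.Lib.H15BMFilt Groth.Agent.Lib.H15BMDecomp
  Groth.Agent.Lib.H15BMData Groth.Agent.Lib.H15BMExt Groth.Agent.Lib.H15BMKer
  Groth.Agent.Lib.H15RedLift Groth.Agent.Lib.H15BMTot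

/-!
helper15: the decomposition of an open `O` into a smaller open `U` and the reduced closed complement,
with lifts of pieces of closures of points covering the complement; its comparison with the
scheme-theoretic preimage of a closed part under a proper map (for S16097).
-/

namespace Groth.Agent.Lib.H15BMDiff

variable {V : ObjectProperty Scheme.{u}} [BMCoh.IsConstructible V] {R : Type u} [CommRing R]
  {A : BMCoh.Coefs R}

section LiftRed

open Scheme.IdealSheafData in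
theorem ker_le_of_range_subset {W Z S : Scheme.{u}} [IsReduced W] (f : W ⟶ S) (i : Z ⟶ S)
    [IsClosedImmersion i] (h : Set.range f ⊆ Set.range i) : i.ker ≤ f.ker := by
  let C : Closeds S := ⟨Set.range i, i.isClosedEmbedding.isClosed_range⟩
  have h1 : i.ker ≤ vanishingIdeal C := by
    rw [← le_support_iff_le_vanishingIdeal]
    intro z hz
    have h2 : (i.ker.support : Set S) = closure (Set.range i) := Scheme.Hom.support_ker i
    show z ∈ (i.ker.support : Set S)
    rw [h2]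
    exact subset_closure hz
  exact h1.trans (vanishingIdeal_le_ker f C h)

/-- a morphism from a reduced scheme landing in the image of a closed immersion factors through it -/
noncomputable def liftRed {W Z S : Scheme.{u}} [IsReduced W] (f : W ⟶ S) (i : Z ⟶ S)
    [IsClosedImmersion i] (h : Set.range f ⊆ Set.range i) : W ⟶ Z :=
  IsClosedImmersion.lift i f (ker_le_of_range_subset f i h)

@[reassoc]
theorem liftRed_fac {W Z S : Scheme.{u}} [IsReduced W] (f : W ⟶ S) (i : Z ⟶ S)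
    [IsClosedImmersion i] (h : Set.range f ⊆ Set.range i) : liftRed f i h ≫ i = f :=
  IsClosedImmersion.lift_fac _ _ _

end LiftRed

section Diff

variable (S : Obj V) (O U : S.scheme.Opens)

open Scheme.IdealSheafData

/-- the closed complement of `U` in `O`, as a closed subset of the scheme `O` -/
noncomputable def Cdiff : Closeds ((O : S.scheme.Opens) : Scheme.{u}) :=
  ⟨(⇑O.ι ⁻¹' (U : Set S.scheme))ᶜ, (U.2.preimage O.ι.continuous).isClosed_compl⟩

theorem mem_Cdiff_iff (z : ((O : S.scheme.Opens) : Scheme.{u})) :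
    z ∈ (Cdiff S O U : Set _) ↔ O.ι z ∉ U := Iff.rfl

/-- the reduced closed subscheme of `O` on the complement of `U` -/
noncomputable abbrev Zdiff : Obj V :=
  ⟨(vanishingIdeal (Cdiff S O U)).subscheme,
    IsConstructible.of_isClosedImmersion (vanishingIdeal (Cdiff S O U)).subschemeι (S.res O).mem⟩

/-- its closed immersion -/
noncomputable abbrev ιdiff : (Zdiff S O U).scheme ⟶ (S.res O).scheme :=
  (vanishingIdeal (Cdiff S O U)).subschemeι

theorem range_ιdiff : Set.range (ιdiff S O U) = (Cdiff S O U : Set _) := by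
  rw [range_subschemeι]
  exact coe_support_vanishingIdeal _

instance isReduced_Zdiff : IsReduced (Zdiff S O U).scheme :=
  Groth.Agent.Lib.ReducedSubscheme.isReduced_subscheme_vanishingIdeal _

/-- the decomposition of `O` into `U` and the reduced complement -/
noncomputable def Ddiff (hUO : U ≤ O) (hdim : dim (U : Scheme.{u}) = dim (O : Scheme.{u})) :
    Decomp (S.res O) where
  Z := Zdiff S O U
  U := S.res U
  i := ιdiff S O U
  closedImm := inferInstance
  j := S.resLE hUO hdim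
  range_eq := by
    show Set.range (S.scheme.homOfLE hUO) = _
    rw [range_homOfLE, range_ιdiff]
    show _ = ((⇑O.ι ⁻¹' (U : Set S.scheme))ᶜ)ᶜ
    rw [compl_compl]

variable (y : S.scheme) (W : (S.ptSub y).scheme.Opens) (hsub : pieceSet S y W ⊆ O)
  (hU : ∀ z ∈ pieceSet S y W, z ∉ U)

/-- the lift of a piece to the reduced complement -/
noncomputable def gDiff : (W : Scheme.{u}) ⟶ (Zdiff S O U).scheme :=
  redLift (pieceLift S y W O hsub) (Cdiff S O U) (by
    rw [range_pieceLift]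
    intro z hz
    exact hU _ hz)

@[reassoc]
theorem gDiff_ι : gDiff S O U y W hsub hU ≫ ιdiff S O U = pieceLift S y W O hsub :=
  redLift_ι _ _ _

theorem isOpenImmersion_gDiff (G : S.scheme.Opens)
    (hG : pieceSet S y W = ((G : Set S.scheme) ∩ O) \ U) :
    IsOpenImmersion (gDiff S O U y W hsub hU) := by
  unfold gDiff
  refine isOpenImmersion_redLift _ (Cdiff S O U) _ (O.ι ⁻¹ᵁ G) ?_
  rw [range_pieceLift, hG]
  ext z
  constructor
  · rintro ⟨hz1, hz2⟩
    exact ⟨⟨hz2, z.2⟩, hz1⟩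
  · rintro ⟨⟨hz1, _⟩, hz2⟩
    exact ⟨hz2, hz1⟩

theorem range_gDiff :
    Set.range (gDiff S O U y W hsub hU) =
      ⇑(ιdiff S O U) ⁻¹' (⇑O.ι ⁻¹' pieceSet S y W) := by
  rw [← range_pieceLift S y W O hsub, ← gDiff_ι S O U y W hsub hU, Scheme.Hom.comp_base,
    TopCat.coe_comp, Set.range_comp, Set.preimage_image_eq _ (ιdiff S O U).isEmbedding.injective]

end Diff


section Family

variable (S : Obj V) (O U : S.scheme.Opens) {I : Type*} (y : I → S.scheme)
  (W : ∀ i, ptIdx S (y i))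
  (hsub : ∀ i, pieceSet S (y i) (W i).1 ⊆ O)
  (hG : ∀ i, ∃ G : S.scheme.Opens, pieceSet S (y i) (W i).1 = ((G : Set S.scheme) ∩ O) \ U)
  (hdisj : ∀ i i', i ≠ i' → Disjoint (pieceSet S (y i) (W i).1) (pieceSet S (y i') (W i').1))
  (hcov : ∀ z ∈ (O : Set S.scheme), z ∉ U → ∃ i, z ∈ pieceSet S (y i) (W i).1)
  (d : ℕ) (hd : ∀ i, dim ((W i).1 : Scheme.{u}) = d)

include hG in
theorem notMem_of_mem_pieceSet (i : I) : ∀ z ∈ pieceSet S (y i) (W i).1, z ∉ U := by
  intro z hz
  obtain ⟨G, hG'⟩ := hG i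
  rw [hG'] at hz
  exact hz.2

/-- the lift of the `i`-th piece -/
noncomputable abbrev gFam (i : I) : ((W i).1 : Scheme.{u}) ⟶ (Zdiff S O U).scheme :=
  gDiff S O U (y i) (W i).1 (hsub i) (notMem_of_mem_pieceSet S O U y W hG i)

instance isOpenImmersion_gFam (i : I) : IsOpenImmersion (gFam S O U y W hsub hG i) := by
  obtain ⟨G, hG'⟩ := hG i
  exact isOpenImmersion_gDiff S O U (y i) (W i).1 (hsub i) _ G hG'

include hdisj in
theorem disjoint_range_gFam (i i' : I) (hne : i ≠ i') :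
    Disjoint (Set.range (gFam S O U y W hsub hG i)) (Set.range (gFam S O U y W hsub hG i')) := by
  rw [range_gDiff, range_gDiff, Set.disjoint_left]
  intro z hz hz'
  exact Set.disjoint_left.1 (hdisj i i' hne) hz hz'

include hcov in
theorem exists_mem_range_gFam (z : (Zdiff S O U).scheme) :
    ∃ i : I, z ∈ Set.range (gFam S O U y W hsub hG i) := by
  have hz : ιdiff S O U z ∈ (Cdiff S O U : Set _) := by
    rw [← range_ιdiff]
    exact Set.mem_range_self z
  have hzU : O.ι (ιdiff S O U z) ∉ U := (mem_Cdiff_iff S O U _).1 hz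
  have hzO : O.ι (ιdiff S O U z) ∈ (O : Set S.scheme) := (ιdiff S O U z).2
  obtain ⟨i, hi⟩ := hcov _ hzO hzU
  exact ⟨i, by rw [range_gDiff]; exact hi⟩

include hsub hG hdisj hcov hd in
theorem dim_Zdiff (i₀ : I) : dim (Zdiff S O U).scheme = d := by
  apply le_antisymm
  · refine natDim_le_of_disjoint_open_cover (fun i : I => Set.range (gFam S O U y W hsub hG i))
      (fun i => IsOpenImmersion.isOpen_range (gFam S O U y W hsub hG i))
      (fun i i' h => disjoint_range_gFam S O U y W hsub hG hdisj i i' h)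
      (exists_mem_range_gFam S O U y W hsub hG hcov) _ ?_
    intro i
    have hhomeo : topologicalKrullDim ↥(Set.range (gFam S O U y W hsub hG i)) =
        topologicalKrullDim ((W i).1 : Scheme.{u}) :=
      (IsHomeomorph.topologicalKrullDim_eq _
        (gFam S O U y W hsub hG i).isOpenEmbedding.isEmbedding.toHomeomorph.isHomeomorph).symm
    rw [hhomeo]
    have h1 := krullDim_le_natDim (Y := ((W i).1 : Scheme.{u}))
      (finiteDim ((S.ptSub (y i)).res (W i).1))
    have h2 : natDim ((W i).1 : Scheme.{u}) = d := hd i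
    rw [h2] at h1
    exact h1
  · rw [← hd i₀]
    exact natDim_le_of_isInducing (gFam S O U y W hsub hG i₀).isOpenEmbedding.isInducing
      (finiteDim (Zdiff S O U))

/-- the lift of the `i`-th piece as a morphism of objects -/
noncomputable def gFamHom (i : I) : (S.ptSub (y i)).res (W i).1 ⟶ Zdiff S O U :=
  ⟨gFam S O U y W hsub hG i, inferInstance,
    (hd i).trans (dim_Zdiff S O U y W hsub hG hdisj hcov d hd i).symm⟩

end Family


section Pb

variable {X Y : Obj V} (φ : Y.scheme ⟶ X.scheme) [IsProper φ] {B O : X.scheme.Opens} (hBO : B ≤ O)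
  (hdimB : dim ((φ ⁻¹ᵁ B : Y.scheme.Opens) : Scheme.{u}) =
    dim ((φ ⁻¹ᵁ O : Y.scheme.Opens) : Scheme.{u}))
  (Zx : Obj V) (iZ : Zx.scheme ⟶ ((O : X.scheme.Opens) : Scheme.{u})) [IsClosedImmersion iZ]
  (hr : Set.range (X.scheme.homOfLE hBO) = (Set.range iZ)ᶜ)

theorem restrict_apply (z : ((φ ⁻¹ᵁ O : Y.scheme.Opens) : Scheme.{u})) :
    O.ι ((φ ∣_ O) z) = φ ((φ ⁻¹ᵁ O).ι z) :=
  congrArg (fun k => k.base z) (morphismRestrict_ι φ O)

/-- the scheme-theoretic preimage of the closed part -/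
noncomputable abbrev pbZ : Obj V :=
  ⟨pullback (φ ∣_ O) iZ,
    IsConstructible.of_isClosedImmersion (pullback.fst (φ ∣_ O) iZ) (Y.res (φ ⁻¹ᵁ O)).mem⟩

include hr in
theorem mem_range_iff (z : ((φ ⁻¹ᵁ O : Y.scheme.Opens) : Scheme.{u})) :
    (φ ∣_ O) z ∈ Set.range iZ ↔ (φ ⁻¹ᵁ O).ι z ∉ (φ ⁻¹ᵁ B : Y.scheme.Opens) := by
  have h1 : (φ ∣_ O) z ∈ Set.range (X.scheme.homOfLE hBO) ↔ O.ι ((φ ∣_ O) z) ∈ B := by
    rw [range_homOfLE]
    rfl
  rw [restrict_apply] at h1
  constructor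
  · intro hz hzB
    have : (φ ∣_ O) z ∈ (Set.range iZ)ᶜ := by
      rw [← hr]
      exact h1.2 hzB
    exact this hz
  · intro hz
    by_contra hn
    have : (φ ∣_ O) z ∈ Set.range (X.scheme.homOfLE hBO) := by
      rw [hr]
      exact hn
    exact hz (h1.1 this)

/-- the base change of a decomposition of `O` along `φ` -/
noncomputable def pbDecomp : Decomp (Y.res (φ ⁻¹ᵁ O)) where
  Z := pbZ φ Zx iZ
  U := Y.res (φ ⁻¹ᵁ B)
  i := pullback.fst (φ ∣_ O) iZ
  closedImm := inferInstance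
  j := Y.resLE (φ.preimage_mono hBO) hdimB
  range_eq := by
    show Set.range (Y.scheme.homOfLE (φ.preimage_mono hBO)) = _
    rw [range_homOfLE, Scheme.Pullback.range_fst]
    ext z
    have h := mem_range_iff φ hBO Zx iZ hr z
    constructor
    · intro hz hz'
      exact h.1 hz' hz
    · intro hz
      by_contra hn
      exact hz (h.2 hn)

theorem isPullback_pbDecomp_U :
    IsPullback (Y.scheme.homOfLE (φ.preimage_mono hBO)) (φ ∣_ B) (φ ∣_ O)
      (X.scheme.homOfLE hBO) :=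
  Groth.Agent.Lib.H15BMNormPush.isPullback_restrict_le φ hBO

include hr in
theorem range_ιdiff_comp_subset :
    Set.range (ιdiff Y (φ ⁻¹ᵁ O) (φ ⁻¹ᵁ B) ≫ φ ∣_ O) ⊆ Set.range iZ := by
  rintro _ ⟨z, rfl⟩
  rw [Scheme.Hom.comp_base, TopCat.comp_app, mem_range_iff φ hBO Zx iZ hr]
  have hz : ιdiff Y (φ ⁻¹ᵁ O) (φ ⁻¹ᵁ B) z ∈ (Cdiff Y (φ ⁻¹ᵁ O) (φ ⁻¹ᵁ B) : Set _) := by
    rw [← range_ιdiff]
    exact Set.mem_range_self z
  exact (mem_Cdiff_iff Y _ _ _).1 hz

/-- the map from the reduced complement to the closed part downstairs -/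
noncomputable def kMid : (Zdiff Y (φ ⁻¹ᵁ O) (φ ⁻¹ᵁ B)).scheme ⟶ Zx.scheme :=
  liftRed (ιdiff Y (φ ⁻¹ᵁ O) (φ ⁻¹ᵁ B) ≫ φ ∣_ O) iZ (range_ιdiff_comp_subset φ hBO Zx iZ hr)

@[reassoc]
theorem kMid_fac : kMid φ hBO Zx iZ hr ≫ iZ = ιdiff Y (φ ⁻¹ᵁ O) (φ ⁻¹ᵁ B) ≫ φ ∣_ O :=
  liftRed_fac _ _ _

/-- the comparison from the reduced complement to the scheme-theoretic preimage -/
noncomputable def kDiff : (Zdiff Y (φ ⁻¹ᵁ O) (φ ⁻¹ᵁ B)).scheme ⟶ (pbZ φ Zx iZ).scheme :=
  pullback.lift (ιdiff Y (φ ⁻¹ᵁ O) (φ ⁻¹ᵁ B)) (kMid φ hBO Zx iZ hr) (kMid_fac φ hBO Zx iZ hr).symm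

@[reassoc]
theorem kDiff_fst : kDiff φ hBO Zx iZ hr ≫ pullback.fst (φ ∣_ O) iZ =
    ιdiff Y (φ ⁻¹ᵁ O) (φ ⁻¹ᵁ B) :=
  pullback.lift_fst _ _ _

@[reassoc]
theorem kDiff_snd : kDiff φ hBO Zx iZ hr ≫ pullback.snd (φ ∣_ O) iZ = kMid φ hBO Zx iZ hr :=
  pullback.lift_snd _ _ _

instance isClosedImmersion_kDiff : IsClosedImmersion (kDiff φ hBO Zx iZ hr) := by
  haveI : IsClosedImmersion (kDiff φ hBO Zx iZ hr ≫ pullback.fst (φ ∣_ O) iZ) := by
    rw [kDiff_fst]
    infer_instance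
  exact IsClosedImmersion.of_comp (kDiff φ hBO Zx iZ hr) (pullback.fst (φ ∣_ O) iZ)

instance surjective_kDiff : Surjective (kDiff φ hBO Zx iZ hr) := by
  constructor
  intro z'
  have h1 : (φ ∣_ O) (pullback.fst (φ ∣_ O) iZ z') ∈ Set.range iZ := by
    refine ⟨pullback.snd (φ ∣_ O) iZ z', ?_⟩
    exact (congrArg (fun k => k.base z') (pullback.condition (f := φ ∣_ O) (g := iZ))).symm
  rw [mem_range_iff φ hBO Zx iZ hr] at h1
  have h2 : pullback.fst (φ ∣_ O) iZ z' ∈ Set.range (ιdiff Y (φ ⁻¹ᵁ O) (φ ⁻¹ᵁ B)) := by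
    rw [range_ιdiff]
    exact h1
  obtain ⟨z, hz⟩ := h2
  refine ⟨z, ?_⟩
  apply (pullback.fst (φ ∣_ O) iZ).isEmbedding.injective
  rw [← hz]
  exact congrArg (fun k => k.base z) (kDiff_fst φ hBO Zx iZ hr)

include hr in
theorem dim_pbZ : dim (pbZ φ Zx iZ).scheme = dim (Zdiff Y (φ ⁻¹ᵁ O) (φ ⁻¹ᵁ B)).scheme := by
  have hs : Function.Surjective (kDiff φ hBO Zx iZ hr) := (surjective_kDiff φ hBO Zx iZ hr).surj
  have hh : IsHomeomorph (kDiff φ hBO Zx iZ hr) :=
    isHomeomorph_iff_isEmbedding_surjective.2 ⟨(kDiff φ hBO Zx iZ hr).isEmbedding, hs⟩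
  unfold WeilCoh.dim WeilCoh.natDim
  rw [IsHomeomorph.topologicalKrullDim_eq _ hh]

end Pb

end Groth.Agent.Lib.H15BMDiff
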