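import Groth.Agent.Lib.H15BMDecomp

set_option autoImplicit false
set_option linter.style.haveILetI false
set_option linter.unusedSectionVars false
universe u

open CategoryTheory CategoryTheory.Limits AlgebraicGeometry Opposite Set Topology TopologicalSpace
open BMCoh WeilCoh Groth.Agent.Lib.H15BMGeom Groth.Agent.Lib.H15BMFilt Groth.Agent.Lib.H15BMDecomp

/-!
helper15: extension of classes across a codimension `j+1` point (Schreieder Lemma 5.8 steps).
-/

namespace Groth.Agent.Lib.H15BMExt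

variable {V : ObjectProperty Scheme.{u}} [BMCoh.IsConstructible V] {R : Type u} [CommRing R]
  {A : BMCoh.Coefs R}

theorem pieceSet_mono (X : Obj V) (x : X.scheme) {W' W : (X.ptSub x).scheme.Opens} (h : W' ≤ W) :
    pieceSet X x W' ⊆ pieceSet X x W := Set.image_mono h

theorem outOpen_mono (X : Obj V) (U₀ : X.scheme.Opens) (x : X.scheme)
    {W' W : (X.ptSub x).scheme.Opens} (h : W' ≤ W) (hW : pieceSet X x W ⊆ goodOpen X U₀ x) :
    outOpen X U₀ x W' ((pieceSet_mono X x h).trans hW) ≤ outOpen X U₀ x W hW := by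
  rintro z (hz | hz)
  · exact Or.inl hz
  · exact Or.inr (pieceSet_mono X x h hz)

section Step

variable (T : BMCoh.PreTheory V R A) (X : Obj V) {j : ℕ}

/-- the open `U₀ ∪ piece` as a member of the index family -/
noncomputable def outIdx (U₀ : Idx X (ContainsFj X j)) (x : X.scheme)
    (W : (X.ptSub x).scheme.Opens) (hW : pieceSet X x W ⊆ goodOpen X U₀.1 x) :
    Idx X (ContainsFj X j) :=
  ⟨outOpen X U₀.1 x W hW, containsFj_outOpen X U₀.1 x W hW U₀.2.1,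
    dim_eq_of_containsFj X _ (containsFj_outOpen X U₀.1 x W hW U₀.2.1)⟩

theorem le_outIdx (U₀ : Idx X (ContainsFj X j)) (x : X.scheme)
    (W : (X.ptSub x).scheme.Opens) (hW : pieceSet X x W ⊆ goodOpen X U₀.1 x) :
    U₀ ≤ outIdx X U₀ x W hW := le_outOpen X U₀.1 x W hW

/-- compatibility of the residue maps of the decompositions attached to nested pieces -/
theorem res_outDecomp_mono (U₀ : Idx X (ContainsFj X j)) (x : X.cdPt (j + 1)) (hx : x.1 ∉ U₀.1)
    {W' W : ptIdx X x.1} (hle : W' ≤ W) (hW : pieceSet X x.1 W.1 ⊆ goodOpen X U₀.1 x.1)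
    (M : A.Cat) (i n i' n' : ℤ)
    (hiD : i' = i + 1 - 2 * (outDecomp X U₀.1 x.1 W.1 hW U₀.2.1 hx).codim)
    (hnD : n' = n - (outDecomp X U₀.1 x.1 W.1 hW U₀.2.1 hx).codim)
    (hiD' : i' = i + 1 - 2 * (outDecomp X U₀.1 x.1 W'.1
      ((pieceSet_mono X x.1 hle).trans hW) U₀.2.1 hx).codim)
    (hnD' : n' = n - (outDecomp X U₀.1 x.1 W'.1
      ((pieceSet_mono X x.1 hle).trans hW) U₀.2.1 hx).codim) :
    T.res (outDecomp X U₀.1 x.1 W.1 hW U₀.2.1 hx) M i n i' n' hiD hnD ≫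
        idxRes T (X.ptSub x.1) _ hle M i' n' =
      T.res (outDecomp X U₀.1 x.1 W'.1 ((pieceSet_mono X x.1 hle).trans hW) U₀.2.1 hx)
        M i n i' n' hiD' hnD' := by
  have hW' := (pieceSet_mono X x.1 hle).trans hW
  let D := outDecomp X U₀.1 x.1 W.1 hW U₀.2.1 hx
  let D' := outDecomp X U₀.1 x.1 W'.1 hW' U₀.2.1 hx
  let Y := outOpen X U₀.1 x.1 W.1 hW
  let Y' := outOpen X U₀.1 x.1 W'.1 hW'
  have hYY : Y' ≤ Y := outOpen_mono X U₀.1 x.1 hle hW
  have hpY : pieceSet X x.1 W.1 ⊆ Y := fun z hz => Or.inr hz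
  have hpY' : pieceSet X x.1 W'.1 ⊆ Y' := fun z hz => Or.inr hz
  let g : X.res Y' ⟶ X.res Y := X.resLE hYY
    ((outIdx X U₀ x.1 W'.1 hW').2.2.trans (outIdx X U₀ x.1 W.1 hW).2.2.symm)
  let gZ : (X.ptSub x.1).res W'.1 ⟶ (X.ptSub x.1).res W.1 :=
    (idxDiag (X.ptSub x.1) _).map (homOfLE hle)
  have c1 : gZ.hom ≫ pieceLift X x.1 W.1 Y hpY = pieceLift X x.1 W'.1 Y' hpY' ≫ g.hom := by
    rw [← cancel_mono Y.ι, Category.assoc, Category.assoc]
    have e3 : g.hom ≫ Y.ι = Y'.ι := Scheme.homOfLE_ι X.scheme hYY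
    have e4 : gZ.hom ≫ W.1.ι = W'.1.ι := Scheme.homOfLE_ι (X.ptSub x.1).scheme hle
    rw [pieceLift_ι, e3, pieceLift_ι, ← Category.assoc, e4]
  have c2 : (𝟙 (X.res U₀.1) : X.res U₀.1 ⟶ X.res U₀.1) ≫ D.j = D'.j ≫ g := by
    apply BMCoh.Hom.ext
    show 𝟙 _ ≫ X.scheme.homOfLE (le_outOpen X U₀.1 x.1 W.1 hW) =
      X.scheme.homOfLE (le_outOpen X U₀.1 x.1 W'.1 hW') ≫ X.scheme.homOfLE hYY
    rw [Category.id_comp, Scheme.homOfLE_homOfLE]
  have h := T.res_pull D D' g gZ (𝟙 (X.res U₀.1)) c1 c2 M i n i' n' hiD hnD hiD' hnD'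
  refine h.trans ?_
  have hid : ((T.H i n).map (𝟙 (X.res U₀.1)).op).app M = 𝟙 _ := pull_id T _ M i n
  exact (congrArg (· ≫ T.res D' M i n i' n' hiD' hnD') hid).trans (Category.id_comp _)

end Step




section Step

variable (T : BMCoh.PreTheory V R A) (X : Obj V) {j : ℕ}

theorem hiD_out (U₀ : Idx X (ContainsFj X j)) (x : X.cdPt (j + 1)) (hx : x.1 ∉ U₀.1)
    (W : ptIdx X x.1) (hW : pieceSet X x.1 W.1 ⊆ goodOpen X U₀.1 x.1) {i i' : ℤ}
    (hi : i' = i + 1 - 2 * ((j : ℤ) + 1)) :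
    i' = i + 1 - 2 * (outDecomp X U₀.1 x.1 W.1 hW U₀.2.1 hx).codim := by
  rw [relCodim_outDecomp]; exact hi

theorem hnD_out (U₀ : Idx X (ContainsFj X j)) (x : X.cdPt (j + 1)) (hx : x.1 ∉ U₀.1)
    (W : ptIdx X x.1) (hW : pieceSet X x.1 W.1 ⊆ goodOpen X U₀.1 x.1) {n n' : ℤ}
    (hn : n' = n - ((j : ℤ) + 1)) :
    n' = n - (outDecomp X U₀.1 x.1 W.1 hW U₀.2.1 hx).codim := by
  rw [relCodim_outDecomp]; exact hn

/-- a class on `U₀` whose residue at `x` dies in the group of the point extends over a piece -/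
theorem extend_step (U₀ : Idx X (ContainsFj X j)) (x : X.cdPt (j + 1)) (hx : x.1 ∉ U₀.1)
    (W : ptIdx X x.1) (hW : pieceSet X x.1 W.1 ⊆ goodOpen X U₀.1 x.1)
    (M : A.Cat) (i n i' n' : ℤ) (hi : i' = i + 1 - 2 * ((j : ℤ) + 1)) (hn : n' = n - ((j : ℤ) + 1))
    (a : T.gp (X.res U₀.1) M i n)
    (h : ((T.ptι X x.1 i' n' W).app M).hom
      ((T.res (outDecomp X U₀.1 x.1 W.1 hW U₀.2.1 hx) M i n i' n'
        (hiD_out X U₀ x hx W hW hi) (hnD_out X U₀ x hx W hW hn)).hom a) = 0) :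
    ∃ (W' : ptIdx X x.1) (hle : W' ≤ W)
      (b : T.gp (X.res (outOpen X U₀.1 x.1 W'.1 ((pieceSet_mono X x.1 hle).trans hW))) M i n),
      (idxRes T X (ContainsFj X j)
        (le_outIdx X U₀ x.1 W'.1 ((pieceSet_mono X x.1 hle).trans hW)) M i n).hom b = a := by
  obtain ⟨W', hle, h0⟩ := ocolimι_eq_zero T (X.ptSub x.1) _ M i' n' W _ h
  have hW' := (pieceSet_mono X x.1 hle).trans hW
  refine ⟨W', hle, ?_⟩
  have hmono := res_outDecomp_mono T X U₀ x hx hle hW M i n i' n'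
    (hiD_out X U₀ x hx W hW hi) (hnD_out X U₀ x hx W hW hn)
    (hiD_out X U₀ x hx W' hW' hi) (hnD_out X U₀ x hx W' hW' hn)
  have h1 : (T.res (outDecomp X U₀.1 x.1 W'.1 hW' U₀.2.1 hx) M i n i' n'
      (hiD_out X U₀ x hx W' hW' hi) (hnD_out X U₀ x hx W' hW' hn)).hom a = 0 := by
    rw [← hmono]
    exact h0
  have hex := T.exact_pull_res (outDecomp X U₀.1 x.1 W'.1 hW' U₀.2.1 hx) M i n i' n'
    (hiD_out X U₀ x hx W' hW' hi) (hnD_out X U₀ x hx W' hW' hn)
  obtain ⟨b, hb⟩ := (hex a).1 h1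
  exact ⟨b, hb⟩

theorem fjRes_fjι {j m : ℕ} (h : j ≤ m) (U : Idx X (ContainsFj X m)) (M : A.Cat) (i n : ℤ) :
    (T.fjι X m i n U).app M ≫ (T.fjRes X h i n).app M =
      (T.fjι X j i n ((idxIncl X (containsFj_mono X h)).obj U)).app M := by
  have := colimit.ι_pre ((idxDiag X (ContainsFj X j)).op ⋙ T.H i n)
    (idxIncl X (containsFj_mono X h)).op (op U)
  exact congrArg (fun k => k.app M) this

/-- strict growth of the open when a piece of a bad point is added -/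
theorem lt_outOpen (U₀ : X.scheme.Opens) (x : X.scheme) (hx : x ∉ U₀)
    (W : (X.ptSub x).scheme.Opens) (hne : (W : Set (X.ptSub x).scheme).Nonempty)
    (hW : pieceSet X x W ⊆ goodOpen X U₀ x) : U₀ < outOpen X U₀ x W hW := by
  refine lt_of_le_of_ne (le_outOpen X U₀ x W hW) ?_
  intro heq
  obtain ⟨z, hz⟩ := hne
  have hz1 : (X.ptSubι x) z ∈ pieceSet X x W := ⟨z, hz, rfl⟩
  have hz2 : (X.ptSubι x) z ∈ (outOpen X U₀ x W hW : Set X.scheme) := Or.inr hz1
  rw [← heq] at hz2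
  have := closure_inter_eq_empty_of_notMem X x U₀ hx
  have hmem : (X.ptSubι x) z ∈ closure ({x} : Set X.scheme) ∩ U₀ :=
    ⟨pieceSet_subset_closure X x W hz1, hz2⟩
  rw [this] at hmem
  exact hmem

/-- a point of codimension `j+1` outside an open which does not contain `F_{j+1}` -/
theorem exists_bad (U₀ : Idx X (ContainsFj X j)) (h : ¬ ContainsFj X (j + 1) U₀.1) :
    ∃ x : X.cdPt (j + 1), x.1 ∉ U₀.1 := by
  unfold ContainsFj at h
  push Not at h
  obtain ⟨y, hy, hyU⟩ := h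
  have : codim X.scheme y = j + 1 := by
    by_contra hne
    exact hyU (U₀.2.1 y (by omega))
  exact ⟨⟨y, this⟩, hyU⟩

theorem extend_all (M : A.Cat) (i n i' n' : ℤ) (hi : i' = i + 1 - 2 * ((j : ℤ) + 1))
    (hn : n' = n - ((j : ℤ) + 1)) (α : T.fjGp X j M i n)
    (H : ∀ (U₀ : Idx X (ContainsFj X j)) (a : T.gp (X.res U₀.1) M i n),
      ((T.fjι X j i n U₀).app M).hom a = α →
      ∀ (x : X.cdPt (j + 1)) (hx : x.1 ∉ U₀.1) (W : ptIdx X x.1)
        (hW : pieceSet X x.1 W.1 ⊆ goodOpen X U₀.1 x.1),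
        ((T.ptι X x.1 i' n' W).app M).hom
          ((T.res (outDecomp X U₀.1 x.1 W.1 hW U₀.2.1 hx) M i n i' n'
            (hiD_out X U₀ x hx W hW hi) (hnD_out X U₀ x hx W hW hn)).hom a) = 0) :
    ∃ β : T.fjGp X (j + 1) M i n, ((T.fjRes X (Nat.le_succ j) i n).app M).hom β = α := by
  haveI : IsNoetherian X.scheme := IsConstructible.isNoetherian X.mem
  obtain ⟨U₁, a₁, ha₁⟩ := ocolim_exists_rep T X (ContainsFj X j) M i n α
  suffices hP : ∀ (O : X.scheme.Opens) (hO : ContainsFj X j O ∧ dim (O : Scheme.{u}) = dim X.scheme)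
      (a : T.gp (X.res O) M i n), ((T.fjι X j i n ⟨O, hO⟩).app M).hom a = α →
      ∃ β : T.fjGp X (j + 1) M i n, ((T.fjRes X (Nat.le_succ j) i n).app M).hom β = α from
    hP U₁.1 U₁.2 a₁ ha₁
  intro O
  induction O using WellFoundedGT.induction with
  | ind O ih =>
    intro hO a ha
    by_cases hc : ContainsFj X (j + 1) O
    · refine ⟨((T.fjι X (j + 1) i n ⟨O, hc, hO.2⟩).app M).hom a, ?_⟩
      have := fjRes_fjι T X (Nat.le_succ j) ⟨O, hc, hO.2⟩ M i n
      have h2 := congrArg (fun k => k.hom a) this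
      exact h2.trans ha
    · obtain ⟨x, hx⟩ := exists_bad X ⟨O, hO⟩ hc
      have hxg : x.1 ∈ goodOpen X O x.1 := mem_goodOpen X O hO.1 x.1 x.2
      let W := pieceInIdx X x.1 (goodOpen X O x.1) hxg
      have hW : pieceSet X x.1 W.1 ⊆ goodOpen X O x.1 := by
        show pieceSet X x.1 (pieceIn X x.1 (goodOpen X O x.1)) ⊆ _
        rw [pieceSet_pieceIn]
        exact Set.inter_subset_right
      obtain ⟨W', hle, b, hb⟩ := extend_step T X ⟨O, hO⟩ x hx W hW M i n i' n' hi hn a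
        (H ⟨O, hO⟩ a ha x hx W hW)
      have hW' := (pieceSet_mono X x.1 hle).trans hW
      refine ih (outOpen X O x.1 W'.1 hW') (lt_outOpen X O x.1 hx W'.1 W'.2.1 hW')
        (outIdx X ⟨O, hO⟩ x.1 W'.1 hW').2 b ?_
      have h3 := idxRes_ocolimι T X (ContainsFj X j) (le_outIdx X ⟨O, hO⟩ x.1 W'.1 hW') M i n
      have h4 := congrArg (fun k => k.hom b) h3
      refine h4.symm.trans ?_
      show ((T.fjι X j i n ⟨O, hO⟩).app M).hom
        ((idxRes T X (ContainsFj X j) (le_outIdx X ⟨O, hO⟩ x.1 W'.1 hW') M i n).hom b) = α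
      rw [hb]
      exact ha

end Step





theorem isPullback_pieceLift (X : Obj V) (x : X.scheme) {W' W : (X.ptSub x).scheme.Opens}
    (hle : W' ≤ W) {O' O : X.scheme.Opens} (hO : O' ≤ O) (hW : pieceSet X x W ⊆ O)
    (hW' : pieceSet X x W' ⊆ O') (hcap : pieceSet X x W ∩ O' ⊆ pieceSet X x W') :
    IsPullback ((X.ptSub x).scheme.homOfLE hle) (pieceLift X x W' O' hW') (pieceLift X x W O hW)
      (X.scheme.homOfLE hO) := by
  refine (IsOpenImmersion.isPullback (pieceLift X x W' O' hW') ((X.ptSub x).scheme.homOfLE hle)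
    (X.scheme.homOfLE hO) (pieceLift X x W O hW) ?_ ?_).flip
  · rw [← cancel_mono O.ι, Category.assoc, Category.assoc, pieceLift_ι, Scheme.homOfLE_ι,
      pieceLift_ι, ← Category.assoc, Scheme.homOfLE_ι]
  · rw [Scheme.opensRange_homOfLE, Scheme.opensRange_homOfLE]
    ext z
    show (O.ι (pieceLift X x W O hW z)) ∈ O' ↔ (W.ι z) ∈ W'
    have hz : O.ι (pieceLift X x W O hW z) = (X.ptSubι x) (W.ι z) := by
      have := congrArg (fun f => f.base z) (pieceLift_ι X x W O hW)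
      exact this
    rw [hz]
    constructor
    · intro h
      have h1 : (X.ptSubι x) (W.ι z) ∈ pieceSet X x W ∩ O' := ⟨⟨W.ι z, z.2, rfl⟩, h⟩
      obtain ⟨z', hz', hzz'⟩ := hcap h1
      have hinj : Function.Injective (X.ptSubι x) := (X.ptSubι x).isEmbedding.injective
      rw [← hinj hzz']
      exact hz'
    · intro h
      exact hW' ⟨W.ι z, h, rfl⟩


end Groth.Agent.Lib.H15BMExt
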