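import Groth.Agent.Lib.H15BMGeom
import Mathlib.Algebra.Category.ModuleCat.FilteredColimits
import Mathlib.CategoryTheory.Limits.ConcreteCategory.Basic

set_option autoImplicit false
set_option linter.style.haveILetI false
universe u

open CategoryTheory CategoryTheory.Limits AlgebraicGeometry Opposite Set Topology TopologicalSpace
open BMCoh WeilCoh Groth.Agent.Lib.H15BMGeom

/-!
helper15: filteredness of the index families of the open-system colimits of Def_BMCoh and
representatives of elements.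
-/

namespace Groth.Agent.Lib.H15BMFilt

variable {V : ObjectProperty Scheme.{u}} [BMCoh.IsConstructible V] {R : Type u} [CommRing R]
  {A : BMCoh.Coefs R}

section Directed

instance isCofiltered_idx_containsFj (X : Obj V) (j : ℕ) : IsCofiltered (Idx X (ContainsFj X j)) := by
  haveI : Nonempty (Idx X (ContainsFj X j)) :=
    ⟨⟨⊤, fun _ _ => trivial, dim_top X.scheme⟩⟩
  haveI : IsCodirectedOrder (Idx X (ContainsFj X j)) := by
    constructor
    intro U U'
    have hc : ContainsFj X j (U.1 ⊓ U'.1) := fun y hy => ⟨U.2.1 y hy, U'.2.1 y hy⟩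
    exact ⟨⟨U.1 ⊓ U'.1, hc, dim_eq_of_containsFj X _ hc⟩,
      (show U.1 ⊓ U'.1 ≤ U.1 from inf_le_left), (show U.1 ⊓ U'.1 ≤ U'.1 from inf_le_right)⟩
  infer_instance

instance isCofiltered_ptIdx (X : Obj V) (x : X.scheme) : IsCofiltered (ptIdx X x) := by
  haveI : Nonempty (ptIdx X x) := by
    refine ⟨⟨⊤, ?_, dim_top _⟩⟩
    haveI : Nonempty (X.ptSub x).scheme := (irreducibleSpace_ptSub X x).toNonempty
    exact Set.univ_nonempty
  haveI : IsCodirectedOrder (ptIdx X x) := by
    constructor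
    intro U U'
    have hne : ((U.1 ⊓ U'.1 : (X.ptSub x).scheme.Opens) : Set (X.ptSub x).scheme).Nonempty :=
      nonempty_preirreducible_inter U.1.2 U'.1.2 U.2.1 U'.2.1
    exact ⟨⟨U.1 ⊓ U'.1, hne,
      IsConstructible.dim_open (X.ptSub x).mem inferInstance _ hne⟩,
      (show U.1 ⊓ U'.1 ≤ U.1 from inf_le_left), (show U.1 ⊓ U'.1 ≤ U'.1 from inf_le_right)⟩
  infer_instance

end Directed

section Colim

variable (T : BMCoh.PreTheory V R A) (X : Obj V) (P : X.scheme.Opens → Prop)

/-- restriction between members of an index family -/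
noncomputable abbrev idxRes {U' U : Idx X P} (hle : U' ≤ U) (M : A.Cat) (i n : ℤ) :
    T.gp (X.res U.1) M i n ⟶ T.gp (X.res U'.1) M i n :=
  T.pull ((idxDiag X P).map (homOfLE hle)) M i n

theorem idxRes_ocolimι {U' U : Idx X P} (hle : U' ≤ U) (M : A.Cat) (i n : ℤ) :
    idxRes T X P hle M i n ≫ (T.ocolimι X P i n U').app M = (T.ocolimι X P i n U).app M := by
  have := colimit.w ((idxDiag X P).op ⋙ T.H i n) (homOfLE hle).op
  have h2 := congrArg (fun k => k.app M) this
  exact h2

/-- the evaluated colimit cocone -/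
noncomputable def evalIsColimit (M : A.Cat) (i n : ℤ) :
    IsColimit (((evaluation A.Cat (ModuleCat.{u} R)).obj M).mapCocone
      (colimit.cocone ((idxDiag X P).op ⋙ T.H i n))) :=
  isColimitOfPreserves _ (colimit.isColimit _)

theorem ocolim_exists_rep [IsCofiltered (Idx X P)] (M : A.Cat) (i n : ℤ)
    (a : (T.ocolim X P i n).obj M) :
    ∃ (U : Idx X P) (b : T.gp (X.res U.1) M i n), ((T.ocolimι X P i n U).app M).hom b = a := by
  obtain ⟨⟨U⟩, b, hb⟩ := Concrete.isColimit_exists_rep
    (((idxDiag X P).op ⋙ T.H i n) ⋙ (evaluation A.Cat (ModuleCat.{u} R)).obj M)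
    (evalIsColimit T X P M i n) a
  exact ⟨U, b, hb⟩

theorem ocolimι_eq_zero [IsCofiltered (Idx X P)] (M : A.Cat) (i n : ℤ) (U : Idx X P)
    (b : T.gp (X.res U.1) M i n) (h : ((T.ocolimι X P i n U).app M).hom b = 0) :
    ∃ (U' : Idx X P) (hle : U' ≤ U), (idxRes T X P hle M i n).hom b = 0 := by
  have h0 : ((T.ocolimι X P i n U).app M).hom b = ((T.ocolimι X P i n U).app M).hom 0 := by
    rw [h, map_zero]
  obtain ⟨⟨U'⟩, f, g, hfg⟩ := Concrete.isColimit_exists_of_rep_eq
    (((idxDiag X P).op ⋙ T.H i n) ⋙ (evaluation A.Cat (ModuleCat.{u} R)).obj M)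
    (evalIsColimit T X P M i n) (i := op U) (j := op U) b 0 h0
  refine ⟨U', leOfHom f.unop, ?_⟩
  have : (idxRes T X P (leOfHom f.unop) M i n).hom b =
      ((((idxDiag X P).op ⋙ T.H i n) ⋙ (evaluation A.Cat (ModuleCat.{u} R)).obj M).map g).hom 0 :=
    hfg
  rw [this]
  exact map_zero _

end Colim

end Groth.Agent.Lib.H15BMFilt
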