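import Groth.Prelude.Def_BMCoh3
import Groth.Agent.Lib.H43GVDim

set_option autoImplicit false
set_option linter.style.haveILetI false
universe u

open CategoryTheory CategoryTheory.Limits AlgebraicGeometry Opposite Set Topology TopologicalSpace
open BMCoh WeilCoh

/-!
helper15: geometric toolkit for twisted Borel–Moore theories (Prelude Def_BMCoh*): dimensions
(`natDim`, `pdim`, `codim`), pieces of reduced closures of points and their lifts into opens.
-/

namespace Groth.Agent.Lib.H15BMGeom

section Top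

variable {X : Type u} [TopologicalSpace X]

theorem natDim_le_of_le {Y X : Type u} [TopologicalSpace Y] [TopologicalSpace X]
    (h : topologicalKrullDim Y ≤ topologicalKrullDim X) (hX : topologicalKrullDim X < ⊤) :
    natDim Y ≤ natDim X := by
  unfold natDim
  generalize topologicalKrullDim Y = a at h
  generalize topologicalKrullDim X = b at h hX
  induction a using WithBot.recBotCoe with
  | bot => simp
  | coe a =>
    induction b using WithBot.recBotCoe with
    | bot => exact absurd h (by simp)
    | coe b =>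
      have hb : b ≠ ⊤ := by
        rintro rfl
        exact lt_irrefl _ hX
      simp only [WithBot.unbotD_coe]
      exact ENat.toNat_le_toNat (WithBot.coe_le_coe.1 h) hb

theorem natDim_le_of_isInducing {Y X : Type u} [TopologicalSpace Y] [TopologicalSpace X] {f : Y → X}
    (hf : IsInducing f) (hX : topologicalKrullDim X < ⊤) : natDim Y ≤ natDim X :=
  natDim_le_of_le hf.topologicalKrullDim_le hX

theorem natDim_lt_of_add_one_le {Y X : Type u} [TopologicalSpace Y] [TopologicalSpace X]
    [Nonempty Y] (h : topologicalKrullDim Y + 1 ≤ topologicalKrullDim X)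
    (hX : topologicalKrullDim X < ⊤) : natDim Y < natDim X := by
  unfold natDim
  have hY : topologicalKrullDim Y ≠ ⊥ := by
    unfold topologicalKrullDim
    rw [Order.krullDim_ne_bot_iff]
    obtain ⟨y⟩ := ‹Nonempty Y›
    exact ⟨⟨closure {y}, isIrreducible_singleton.closure, isClosed_closure⟩⟩
  generalize topologicalKrullDim Y = a at h hY
  generalize topologicalKrullDim X = b at h hX
  induction a using WithBot.recBotCoe with
  | bot => exact absurd rfl hY
  | coe a =>
    induction b using WithBot.recBotCoe with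
    | bot => exact absurd h (by simp)
    | coe b =>
      have hb : b ≠ ⊤ := by
        rintro rfl
        exact lt_irrefl _ hX
      simp only [WithBot.unbotD_coe]
      have h' : a + 1 ≤ b := by
        have : ((a + 1 : ℕ∞) : WithBot ℕ∞) ≤ (b : WithBot ℕ∞) := by
          rwa [WithBot.coe_add, WithBot.coe_one]
        exact WithBot.coe_le_coe.1 this
      lift b to ℕ using hb
      have ha : a ≠ ⊤ := by
        rintro rfl
        simp at h'
      lift a to ℕ using ha
      simp only [ENat.toNat_natCast]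
      have : ((a + 1 : ℕ) : ℕ∞) ≤ (b : ℕ∞) := by exact_mod_cast h'
      exact_mod_cast this

theorem isPreirreducible_preimage_of_isInducing {Y : Type*} [TopologicalSpace Y] {f : Y → X}
    (hf : IsInducing f) {t : Set X} (ht : IsPreirreducible t) (hsub : t ⊆ Set.range f) :
    IsPreirreducible (f ⁻¹' t) := by
  rintro U₁ U₂ hU₁ hU₂ ⟨y₁, hy₁t, hy₁U⟩ ⟨y₂, hy₂t, hy₂U⟩
  obtain ⟨O₁, hO₁, rfl⟩ := hf.isOpen_iff.1 hU₁
  obtain ⟨O₂, hO₂, rfl⟩ := hf.isOpen_iff.1 hU₂
  obtain ⟨z, hzt, hz₁, hz₂⟩ := ht O₁ O₂ hO₁ hO₂ ⟨f y₁, hy₁t, hy₁U⟩ ⟨f y₂, hy₂t, hy₂U⟩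
  obtain ⟨y, rfl⟩ := hsub hzt
  exact ⟨y, hzt, hz₁, hz₂⟩

theorem length_le_topologicalKrullDim_of_last_le (l : LTSeries (IrreducibleCloseds X)) (Z : Set X)
    (hZ : (l.last : Set X) ⊆ Z) : (l.length : WithBot ℕ∞) ≤ topologicalKrullDim ↥Z := by
  have hsub : ∀ i, (l i : Set X) ⊆ Z := fun i =>
    Set.Subset.trans (show l i ≤ l.last from l.monotone (Fin.le_last i)) hZ
  have hind : IsInducing (Subtype.val : Z → X) := IsInducing.subtypeVal
  let g : Fin (l.length + 1) → IrreducibleCloseds Z := fun i =>
    ⟨Subtype.val ⁻¹' (l i : Set X), by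
      refine ⟨?_, isPreirreducible_preimage_of_isInducing hind (l i).isIrreducible.isPreirreducible
        (by rw [Subtype.range_coe]; exact hsub i)⟩
      obtain ⟨x, hx⟩ := (l i).isIrreducible.nonempty
      exact ⟨⟨x, hsub i hx⟩, hx⟩, (l i).isClosed.preimage continuous_subtype_val⟩
  have hg : StrictMono g := by
    intro i j hij
    have hlt : l i < l j := l.strictMono hij
    refine lt_of_le_of_ne (fun z hz => (show (l i : Set X) ⊆ l j from hlt.le) hz) ?_
    intro heq
    apply hlt.ne
    apply IrreducibleCloseds.ext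
    apply Set.Subset.antisymm hlt.le
    intro x hx
    have : (⟨x, hsub j hx⟩ : Z) ∈ (g j : Set Z) := hx
    rw [← heq] at this
    exact this
  exact Order.LTSeries.length_le_krullDim (LTSeries.mk l.length g hg)

/-- a nonempty finite-dimensional quasi-sober space has a point whose closure has full dimension -/
theorem exists_natDim_closure_eq [QuasiSober X] [Nonempty X] (hX : topologicalKrullDim X < ⊤) :
    ∃ η : X, natDim ↥(closure ({η} : Set X)) = natDim X := by
  have hne : topologicalKrullDim X ≠ ⊥ := by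
    unfold topologicalKrullDim
    rw [Order.krullDim_ne_bot_iff]
    obtain ⟨y⟩ := ‹Nonempty X›
    exact ⟨⟨closure {y}, isIrreducible_singleton.closure, isClosed_closure⟩⟩
  obtain ⟨n, hn⟩ : ∃ n : ℕ, topologicalKrullDim X = (n : WithBot ℕ∞) := by
    generalize topologicalKrullDim X = b at hX hne
    induction b using WithBot.recBotCoe with
    | bot => exact absurd rfl hne
    | coe b =>
      have hb : b ≠ ⊤ := by
        rintro rfl
        exact lt_irrefl _ hX
      lift b to ℕ using hb
      exact ⟨b, rfl⟩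
  obtain ⟨l, hl⟩ := Order.le_krullDim_iff.1 (show ((n : ℕ) : WithBot ℕ∞) ≤ Order.krullDim _ from hn.ge)
  obtain ⟨η, hη⟩ : ∃ η, IsGenericPoint η (closure (l.last : Set X)) :=
    ⟨l.last.isIrreducible.genericPoint, l.last.isIrreducible.isGenericPoint_genericPoint_closure⟩
  rw [l.last.isClosed.closure_eq] at hη
  refine ⟨η, ?_⟩
  have h1 : (n : WithBot ℕ∞) ≤ topologicalKrullDim ↥(closure ({η} : Set X)) := by
    rw [← hl]
    exact length_le_topologicalKrullDim_of_last_le l _ hη.def.ge
  have h2 : topologicalKrullDim ↥(closure ({η} : Set X)) ≤ topologicalKrullDim X :=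
    topologicalKrullDim_subspace_le X _
  apply le_antisymm (natDim_le_of_le h2 hX)
  have h3 : topologicalKrullDim X ≤ topologicalKrullDim ↥(closure ({η} : Set X)) := hn ▸ h1
  exact natDim_le_of_le h3 (lt_of_le_of_lt h2 hX)

theorem natDim_of_isEmpty (Y : Type u) [TopologicalSpace Y] [IsEmpty Y] : natDim Y = 0 := by
  unfold natDim topologicalKrullDim
  rw [Order.krullDim_eq_bot_iff.2 (by
    constructor
    intro s
    obtain ⟨x, -⟩ := s.isIrreducible.nonempty
    exact isEmptyElim x)]
  rfl

theorem natDim_eq_of_homeomorph {Y Z : Type u} [TopologicalSpace Y] [TopologicalSpace Z]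
    (e : Y ≃ₜ Z) : natDim Y = natDim Z := by
  unfold natDim
  rw [IsHomeomorph.topologicalKrullDim_eq _ e.isHomeomorph]

theorem natDim_closure_lt [T0Space X] (hX : topologicalKrullDim X < ⊤) {x y : X} (h : x ⤳ y)
    (hne : x ≠ y) : natDim ↥(closure ({y} : Set X)) < natDim ↥(closure ({x} : Set X)) := by
  let T := ↥(closure ({x} : Set X))
  haveI : IrreducibleSpace T := Subtype.irreducibleSpace isIrreducible_singleton.closure
  let Y' : Set T := Subtype.val ⁻¹' closure ({y} : Set X)
  have hY' : IsClosed Y' := isClosed_closure.preimage continuous_subtype_val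
  have hne' : Y' ≠ Set.univ := by
    intro heq
    have hx : (⟨x, subset_closure rfl⟩ : T) ∈ Y' := heq ▸ Set.mem_univ _
    have hyx : y ⤳ x := specializes_iff_mem_closure.2 hx
    exact hne (h.antisymm hyx).eq
  have hsub : closure ({y} : Set X) ⊆ closure ({x} : Set X) :=
    (isClosed_closure.closure_subset_iff).2 (Set.singleton_subset_iff.2 (specializes_iff_mem_closure.1 h))
  let e : ↥Y' ≃ₜ ↥(closure ({y} : Set X)) :=
    { toFun := fun t => ⟨t.1.1, t.2⟩
      invFun := fun t => ⟨⟨t.1, hsub t.2⟩, t.2⟩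
      left_inv := fun t => rfl
      right_inv := fun t => rfl
      continuous_toFun := (continuous_subtype_val.comp continuous_subtype_val).subtype_mk _
      continuous_invFun := (continuous_subtype_val.subtype_mk _).subtype_mk _ }
  haveI : Nonempty ↥Y' := ⟨⟨⟨y, specializes_iff_mem_closure.1 h⟩, subset_closure rfl⟩⟩
  have h1 := Groth.Agent.Lib.H43GV.topologicalKrullDim_add_one_le_of_isClosed_ne_univ Y' hY' hne'
  have hT : topologicalKrullDim T < ⊤ := lt_of_le_of_lt (topologicalKrullDim_subspace_le X _) hX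
  rw [← natDim_eq_of_homeomorph e]
  exact natDim_lt_of_add_one_le h1 hT

end Top

section Sch

variable {V : ObjectProperty Scheme.{u}} [IsConstructible V]

theorem finiteDim (X : Obj V) : topologicalKrullDim X.scheme < ⊤ := IsConstructible.finiteDim X.mem

theorem range_ptSubι (X : Obj V) (x : X.scheme) : Set.range (X.ptSubι x) = closure {x} := by
  rw [Scheme.IdealSheafData.range_subschemeι]
  exact Scheme.IdealSheafData.coe_support_vanishingIdeal _

theorem dim_ptSub (X : Obj V) (x : X.scheme) :
    WeilCoh.dim (X.ptSub x).scheme = WeilCoh.pdim X.scheme x := by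
  unfold WeilCoh.dim WeilCoh.pdim
  let e₁ : (X.ptSub x).scheme ≃ₜ Set.range (X.ptSubι x) :=
    (X.ptSubι x).isEmbedding.toHomeomorph
  rw [natDim_eq_of_homeomorph e₁]
  rw [natDim_eq_of_homeomorph (Homeomorph.setCongr (range_ptSubι X x))]

theorem pdim_le_dim (X : Obj V) (x : X.scheme) : pdim X.scheme x ≤ dim X.scheme :=
  natDim_le_of_isInducing IsInducing.subtypeVal (finiteDim X)

theorem pdim_lt_of_specializes (X : Obj V) {x y : X.scheme} (h : x ⤳ y) (hne : x ≠ y) :
    pdim X.scheme y < pdim X.scheme x :=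
  natDim_closure_lt (finiteDim X) h hne

theorem eq_of_codim_le_of_mem_closure (X : Obj V) {x y : X.scheme} {j : ℕ}
    (hx : codim X.scheme x = j) (hy : codim X.scheme y ≤ j) (hmem : y ∈ closure ({x} : Set X.scheme)) :
    y = x := by
  by_contra hne
  have hsp : x ⤳ y := specializes_iff_mem_closure.2 hmem
  have h1 := pdim_lt_of_specializes X hsp (fun h => hne h.symm)
  have h2 := pdim_le_dim X x
  unfold codim at hx hy
  omega

instance irreducibleSpace_ptSub (X : Obj V) (x : X.scheme) : IrreducibleSpace (X.ptSub x).scheme := by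
  let e₁ : (X.ptSub x).scheme ≃ₜ Set.range (X.ptSubι x) :=
    (X.ptSubι x).isEmbedding.toHomeomorph
  let e₂ := e₁.trans (Homeomorph.setCongr (range_ptSubι X x))
  haveI : IrreducibleSpace ↥(closure ({x} : Set X.scheme)) :=
    Subtype.irreducibleSpace isIrreducible_singleton.closure
  haveI : Nonempty (X.ptSub x).scheme := ⟨e₂.symm ⟨x, subset_closure rfl⟩⟩
  exact e₂.isOpenEmbedding.irreducibleSpace

theorem dim_opens_le (X : Obj V) (O : X.scheme.Opens) : dim (O : Scheme.{u}) ≤ dim X.scheme :=
  natDim_le_of_isInducing O.ι.isOpenEmbedding.isInducing (finiteDim X)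

theorem finiteDim_opens (X : Obj V) (O : X.scheme.Opens) :
    topologicalKrullDim (O : Scheme.{u}) < ⊤ :=
  lt_of_le_of_lt O.ι.isOpenEmbedding.isInducing.topologicalKrullDim_le (finiteDim X)

/-- an open containing the points of codimension 0 has the dimension of the whole -/
theorem dim_opens_eq (X : Obj V) (O : X.scheme.Opens)
    (hO : ∀ y : X.scheme, codim X.scheme y = 0 → y ∈ O) : dim (O : Scheme.{u}) = dim X.scheme := by
  apply le_antisymm (dim_opens_le X O)
  by_cases hE : IsEmpty X.scheme
  · unfold WeilCoh.dim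
    rw [natDim_of_isEmpty X.scheme]
    exact Nat.zero_le _
  · rw [not_isEmpty_iff] at hE
    obtain ⟨η, hη⟩ := exists_natDim_closure_eq (X := X.scheme) (finiteDim X)
    have hηO : η ∈ O := hO η (by unfold codim pdim dim; omega)
    let O' : (X.ptSub η).scheme.Opens := (X.ptSubι η) ⁻¹ᵁ O
    have hne : (O' : Set (X.ptSub η).scheme).Nonempty := by
      have : η ∈ Set.range (X.ptSubι η) := by
        rw [range_ptSubι]
        exact subset_closure rfl
      obtain ⟨z, hz⟩ := this
      refine ⟨z, show (X.ptSubι η) z ∈ O from ?_⟩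
      rw [hz]
      exact hηO
    have h1 := IsConstructible.dim_open (X.ptSub η).mem inferInstance O' hne
    have h2 : dim (O' : Scheme.{u}) ≤ dim (O : Scheme.{u}) :=
      natDim_le_of_isInducing ((X.ptSubι η) ∣_ O).isEmbedding.isInducing (finiteDim_opens X O)
    have h3 := dim_ptSub X η
    unfold WeilCoh.pdim at h3
    unfold WeilCoh.dim at h1 h2 h3 ⊢
    omega

/-- image in `X` of an open of the reduced closure of `x` -/
def pieceSet (X : Obj V) (x : X.scheme) (W : (X.ptSub x).scheme.Opens) : Set X.scheme :=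
  (X.ptSubι x) '' (W : Set (X.ptSub x).scheme)

theorem pieceSet_subset_closure (X : Obj V) (x : X.scheme) (W : (X.ptSub x).scheme.Opens) :
    pieceSet X x W ⊆ closure {x} := by
  rw [← range_ptSubι]
  exact Set.image_subset_range _ _

theorem exists_opens_pieceSet_eq (X : Obj V) (x : X.scheme) (W : (X.ptSub x).scheme.Opens) :
    ∃ O₁ : X.scheme.Opens, pieceSet X x W = closure {x} ∩ (O₁ : Set X.scheme) := by
  obtain ⟨O₁, hO₁, hW⟩ := (X.ptSubι x).isEmbedding.isInducing.isOpen_iff.1 W.2
  refine ⟨⟨O₁, hO₁⟩, ?_⟩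
  show (X.ptSubι x) '' W.carrier = _
  rw [← hW, Set.image_preimage_eq_inter_range, range_ptSubι, Set.inter_comm]
  rfl

theorem mem_pieceSet_self (X : Obj V) (x : X.scheme) (W : (X.ptSub x).scheme.Opens)
    (hW : (W : Set (X.ptSub x).scheme).Nonempty) : x ∈ pieceSet X x W := by
  obtain ⟨O₁, hO₁⟩ := exists_opens_pieceSet_eq X x W
  have hne : (pieceSet X x W).Nonempty := hW.image _
  rw [hO₁] at hne ⊢
  have hg : IsGenericPoint x (closure ({x} : Set X.scheme)) := isGenericPoint_closure
  exact ⟨subset_closure rfl, (hg.mem_open_set_iff O₁.2).2 hne⟩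

theorem isClosed_closure_diff_pieceSet (X : Obj V) (x : X.scheme) (W : (X.ptSub x).scheme.Opens) :
    IsClosed (closure ({x} : Set X.scheme) \ pieceSet X x W) := by
  obtain ⟨O₁, hO₁⟩ := exists_opens_pieceSet_eq X x W
  have : closure ({x} : Set X.scheme) \ pieceSet X x W =
      closure ({x} : Set X.scheme) ∩ (O₁ : Set X.scheme)ᶜ := by
    rw [hO₁]
    ext z
    simp only [Set.mem_sdiff, Set.mem_inter_iff, Set.mem_compl_iff]
    tauto
  rw [this]
  exact isClosed_closure.inter O₁.2.isClosed_compl

theorem range_ι_ptSubι (X : Obj V) (x : X.scheme) (W : (X.ptSub x).scheme.Opens) :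
    Set.range (W.ι ≫ X.ptSubι x) = pieceSet X x W := by
  rw [Scheme.Hom.comp_base, TopCat.coe_comp, Set.range_comp, Scheme.Opens.range_ι]
  rfl

/-- the lift of a piece into an open containing it -/
noncomputable def pieceLift (X : Obj V) (x : X.scheme) (W : (X.ptSub x).scheme.Opens) (O : X.scheme.Opens)
    (h : pieceSet X x W ⊆ O) : (W : Scheme.{u}) ⟶ (O : Scheme.{u}) :=
  IsOpenImmersion.lift O.ι (W.ι ≫ X.ptSubι x) (by
    rw [range_ι_ptSubι, Scheme.Opens.range_ι]
    exact h)

@[reassoc]
theorem pieceLift_ι (X : Obj V) (x : X.scheme) (W : (X.ptSub x).scheme.Opens) (O : X.scheme.Opens)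
    (h : pieceSet X x W ⊆ O) : pieceLift X x W O h ≫ O.ι = W.ι ≫ X.ptSubι x :=
  IsOpenImmersion.lift_fac _ _ _

theorem range_pieceLift (X : Obj V) (x : X.scheme) (W : (X.ptSub x).scheme.Opens) (O : X.scheme.Opens)
    (h : pieceSet X x W ⊆ O) :
    Set.range (pieceLift X x W O h) = ⇑O.ι ⁻¹' pieceSet X x W := by
  rw [← range_ι_ptSubι, ← pieceLift_ι X x W O h, Scheme.Hom.comp_base, TopCat.coe_comp,
    Set.range_comp, Set.preimage_image_eq _ O.ι.isOpenEmbedding.injective]

instance isPreimmersion_pieceLift (X : Obj V) (x : X.scheme) (W : (X.ptSub x).scheme.Opens)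
    (O : X.scheme.Opens) (h : pieceSet X x W ⊆ O) : IsPreimmersion (pieceLift X x W O h) := by
  haveI : IsPreimmersion (pieceLift X x W O h ≫ O.ι) := by
    rw [pieceLift_ι]
    infer_instance
  exact IsPreimmersion.of_comp (pieceLift X x W O h) O.ι

theorem isClosedImmersion_pieceLift (X : Obj V) (x : X.scheme) (W : (X.ptSub x).scheme.Opens)
    (O : X.scheme.Opens) (h : pieceSet X x W ⊆ O)
    (hcl : closure ({x} : Set X.scheme) ∩ O ⊆ pieceSet X x W) :
    IsClosedImmersion (pieceLift X x W O h) := by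
  apply IsClosedImmersion.of_isPreimmersion
  rw [range_pieceLift]
  have : ⇑O.ι ⁻¹' pieceSet X x W =
      ⇑O.ι ⁻¹' closure ({x} : Set X.scheme) := by
    ext z
    constructor
    · intro hz
      exact pieceSet_subset_closure X x W hz
    · intro hz
      exact hcl ⟨hz, z.2⟩
  rw [this]
  exact isClosed_closure.preimage O.ι.continuous

/-- the complement of the boundary of a piece -/
def bigOpen (X : Obj V) (x : X.scheme) (W : (X.ptSub x).scheme.Opens) : X.scheme.Opens :=
  ⟨(closure ({x} : Set X.scheme) \ pieceSet X x W)ᶜ, (isClosed_closure_diff_pieceSet X x W).isOpen_compl⟩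

theorem pieceSet_subset_bigOpen (X : Obj V) (x : X.scheme) (W : (X.ptSub x).scheme.Opens) :
    pieceSet X x W ⊆ bigOpen X x W := by
  intro z hz hz'
  exact hz'.2 hz

theorem closure_inter_bigOpen_subset (X : Obj V) (x : X.scheme) (W : (X.ptSub x).scheme.Opens) :
    closure ({x} : Set X.scheme) ∩ bigOpen X x W ⊆ pieceSet X x W := by
  rintro z ⟨hz, hz'⟩
  by_contra hn
  exact hz' ⟨hz, hn⟩

theorem containsFj_bigOpen (X : Obj V) {j : ℕ} (x : X.scheme) (hx : codim X.scheme x = j)
    (W : (X.ptSub x).scheme.Opens) (hW : (W : Set (X.ptSub x).scheme).Nonempty) :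
    ContainsFj X j (bigOpen X x W) := by
  intro y hy hy'
  have := eq_of_codim_le_of_mem_closure X hx hy hy'.1
  subst this
  exact hy'.2 (mem_pieceSet_self X y W hW)

theorem dim_eq_of_containsFj (X : Obj V) {j : ℕ} (O : X.scheme.Opens) (hO : ContainsFj X j O) :
    dim (O : Scheme.{u}) = dim X.scheme :=
  dim_opens_eq X O (fun y hy => hO y (by rw [hy]; exact Nat.zero_le _))

theorem relCodim_piece (X : Obj V) {j : ℕ} (x : X.scheme) (hx : codim X.scheme x = j)
    (W : (X.ptSub x).scheme.Opens) (hW : dim (W : Scheme.{u}) = dim (X.ptSub x).scheme)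
    (O : X.scheme.Opens) (hO : dim (O : Scheme.{u}) = dim X.scheme) :
    relCodim (W : Scheme.{u}) (O : Scheme.{u}) = (j : ℤ) := by
  unfold relCodim
  rw [hW, hO, dim_ptSub]
  have := pdim_le_dim X x
  unfold codim at hx
  omega

end Sch

end Groth.Agent.Lib.H15BMGeom
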