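import Groth.Agent.Lib.H15BMExt

set_option autoImplicit false
set_option linter.style.haveILetI false
set_option linter.unusedSectionVars false
universe u

open CategoryTheory CategoryTheory.Limits AlgebraicGeometry Opposite Set Topology TopologicalSpace
open BMCoh WeilCoh Groth.Agent.Lib.H15BMGeom Groth.Agent.Lib.H15BMFilt Groth.Agent.Lib.H15BMDecomp
  Groth.Agent.Lib.H15BMData Groth.Agent.Lib.H15BMExt

/-!
helper15: restriction API, push-forward along pieces, and the kernel induction for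
`H(F_{j+1}X) → H(F_jX)` (Schreieder Lemma 5.8).
-/

namespace Groth.Agent.Lib.H15BMKer

variable {V : ObjectProperty Scheme.{u}} [BMCoh.IsConstructible V] {R : Type u} [CommRing R]
  {A : BMCoh.Coefs R}

section Res

variable (T : BMCoh.PreTheory V R A) (X : Obj V) (P : X.scheme.Opens → Prop)

theorem idxRes_comp {U'' U' U : Idx X P} (h1 : U'' ≤ U') (h2 : U' ≤ U) (M : A.Cat) (i n : ℤ) :
    idxRes T X P h2 M i n ≫ idxRes T X P h1 M i n = idxRes T X P (h1.trans h2) M i n := by
  have h : (idxDiag X P).map (homOfLE h1) ≫ (idxDiag X P).map (homOfLE h2) =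
      (idxDiag X P).map (homOfLE (h1.trans h2)) := by
    rw [← Functor.map_comp]
    rfl
  show ((T.H i n).map ((idxDiag X P).map (homOfLE h2)).op).app M ≫
    ((T.H i n).map ((idxDiag X P).map (homOfLE h1)).op).app M = _
  rw [← NatTrans.comp_app, ← Functor.map_comp, ← op_comp, h]

theorem idxRes_comp_apply {U'' U' U : Idx X P} (h1 : U'' ≤ U') (h2 : U' ≤ U) (M : A.Cat) (i n : ℤ)
    (a : T.gp (X.res U.1) M i n) :
    (idxRes T X P h1 M i n).hom ((idxRes T X P h2 M i n).hom a) =
      (idxRes T X P (h1.trans h2) M i n).hom a := by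
  rw [← idxRes_comp T X P h1 h2 M i n]
  rfl

theorem idxRes_refl (U : Idx X P) (M : A.Cat) (i n : ℤ) :
    idxRes T X P (le_refl U) M i n = 𝟙 _ := by
  have h : (idxDiag X P).map (homOfLE (le_refl U)) = 𝟙 _ := (idxDiag X P).map_id U
  show ((T.H i n).map ((idxDiag X P).map (homOfLE (le_refl U))).op).app M = _
  rw [h]
  exact pull_id T _ M i n

theorem idxRes_ocolimι_apply {U' U : Idx X P} (hle : U' ≤ U) (M : A.Cat) (i n : ℤ)
    (a : T.gp (X.res U.1) M i n) :
    ((T.ocolimι X P i n U').app M).hom ((idxRes T X P hle M i n).hom a) =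
      ((T.ocolimι X P i n U).app M).hom a :=
  congrArg (fun k => k.hom a) (idxRes_ocolimι T X P hle M i n)

end Res

section Push

variable (T : BMCoh.PreTheory V R A) (X : Obj V)

/-- push-forward along the closed immersion of a piece into an open in which it is closed -/
noncomputable def piecePush (x : X.scheme) (W : (X.ptSub x).scheme.Opens) (O : X.scheme.Opens)
    (h : pieceSet X x W ⊆ O) (hcl : closure ({x} : Set X.scheme) ∩ O ⊆ pieceSet X x W)
    (M : A.Cat) (i n i' n' : ℤ)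
    (hi : i' = i + 2 * relCodim (W : Scheme.{u}) (O : Scheme.{u}))
    (hn : n' = n + relCodim (W : Scheme.{u}) (O : Scheme.{u})) :
    T.gp ((X.ptSub x).res W) M i n ⟶ T.gp (X.res O) M i' n' :=
  haveI : IsClosedImmersion (pieceLift X x W O h) := isClosedImmersion_pieceLift X x W O h hcl
  T.push (X := (X.ptSub x).res W) (Y := X.res O) (pieceLift X x W O h) M i n i' n' hi hn

theorem piecePush_pull (x : X.scheme) {W' W : (X.ptSub x).scheme.Opens} (hle : W' ≤ W)
    {O' O : X.scheme.Opens} (hO : O' ≤ O) (hW : pieceSet X x W ⊆ O) (hW' : pieceSet X x W' ⊆ O')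
    (hcl : closure ({x} : Set X.scheme) ∩ O ⊆ pieceSet X x W)
    (hcl' : closure ({x} : Set X.scheme) ∩ O' ⊆ pieceSet X x W')
    (hdW : dim (W' : Scheme.{u}) = dim (W : Scheme.{u}))
    (hdO : dim (O' : Scheme.{u}) = dim (O : Scheme.{u}))
    (M : A.Cat) (i n i' n' : ℤ)
    (hi : i' = i + 2 * relCodim (W : Scheme.{u}) (O : Scheme.{u}))
    (hn : n' = n + relCodim (W : Scheme.{u}) (O : Scheme.{u}))
    (hi' : i' = i + 2 * relCodim (W' : Scheme.{u}) (O' : Scheme.{u}))
    (hn' : n' = n + relCodim (W' : Scheme.{u}) (O' : Scheme.{u})) :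
    piecePush T X x W O hW hcl M i n i' n' hi hn ≫ T.pull (X.resLE hO hdO) M i' n' =
      T.pull ((X.ptSub x).resLE hle hdW) M i n ≫
        piecePush T X x W' O' hW' hcl' M i n i' n' hi' hn' := by
  haveI : IsClosedImmersion (pieceLift X x W O hW) := isClosedImmersion_pieceLift X x W O hW hcl
  haveI : IsClosedImmersion (pieceLift X x W' O' hW') :=
    isClosedImmersion_pieceLift X x W' O' hW' hcl'
  have hcap : pieceSet X x W ∩ O' ⊆ pieceSet X x W' := fun z hz =>
    hcl' ⟨pieceSet_subset_closure X x W hz.1, hz.2⟩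
  exact T.push_pull (X := (X.ptSub x).res W) (Y := X.res O) (X' := (X.ptSub x).res W')
    (Y' := X.res O') (pieceLift X x W O hW) (pieceLift X x W' O' hW') (X.resLE hO hdO)
    ((X.ptSub x).resLE hle hdW) (isPullback_pieceLift X x hle hO hW hW' hcap)
    M i n i' n' hi hn hi' hn'

end Push

section Kernel

variable (T : BMCoh.PreTheory V R A) (X : Obj V) {j : ℕ}

/-- intersection of two members of the index family of `F_m` -/
noncomputable def idxInf {m : ℕ} (U U' : Idx X (ContainsFj X m)) : Idx X (ContainsFj X m) :=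
  ⟨U.1 ⊓ U'.1, fun y hy => ⟨U.2.1 y hy, U'.2.1 y hy⟩,
    dim_eq_of_containsFj X _ (fun y hy => ⟨U.2.1 y hy, U'.2.1 y hy⟩)⟩

theorem idxInf_le_left {m : ℕ} (U U' : Idx X (ContainsFj X m)) : idxInf X U U' ≤ U :=
  (inf_le_left : U.1 ⊓ U'.1 ≤ U.1)

theorem idxInf_le_right {m : ℕ} (U U' : Idx X (ContainsFj X m)) : idxInf X U U' ≤ U' :=
  (inf_le_right : U.1 ⊓ U'.1 ≤ U'.1)

/-- a member of the index family of `F_{j+1}` as a member of that of `F_j` -/
noncomputable abbrev up (U : Idx X (ContainsFj X (j + 1))) : Idx X (ContainsFj X j) :=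
  (idxIncl X (containsFj_mono X (Nat.le_succ j))).obj U

theorem closure_inter_outOpen_subset (O : X.scheme.Opens) (x : X.scheme) (hx : x ∉ O)
    (W : (X.ptSub x).scheme.Opens) (hW : pieceSet X x W ⊆ goodOpen X O x) :
    closure ({x} : Set X.scheme) ∩ outOpen X O x W hW ⊆ pieceSet X x W := by
  rintro z ⟨hz, (hzO | hzW)⟩
  · have : z ∈ closure ({x} : Set X.scheme) ∩ O := ⟨hz, hzO⟩
    rw [closure_inter_eq_empty_of_notMem X x O hx] at this
    exact absurd this (Set.notMem_empty z)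
  · exact hzW

theorem le_bigOpen_of_notMem (O : X.scheme.Opens) (x : X.scheme) (hx : x ∉ O)
    (W : (X.ptSub x).scheme.Opens) : O ≤ bigOpen X x W := by
  intro z hz hz'
  have : z ∈ closure ({x} : Set X.scheme) ∩ O := ⟨hz'.1, hz⟩
  rw [closure_inter_eq_empty_of_notMem X x O hx] at this
  exact this

/-- push-forward from a piece of a point of codimension `j` to its big open -/
noncomputable def bigPush (x : X.cdPt j) (W : ptIdx X x.1) (M : A.Cat) (i n i' n' : ℤ)
    (hi : i' = i + 2 * (j : ℤ)) (hn : n' = n + (j : ℤ)) :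
    T.gp ((X.ptSub x.1).res W.1) M i n ⟶ T.gp (X.res (bigIdx X x W).1) M i' n' :=
  piecePush T X x.1 W.1 (bigOpen X x.1 W.1) (pieceSet_subset_bigOpen X x.1 W.1)
    (closure_inter_bigOpen_subset X x.1 W.1) M i n i' n'
    (by rw [relCodim_piece X x.1 x.2 W.1 W.2.2 (bigOpen X x.1 W.1) (bigIdx X x W).2.2]; exact hi)
    (by rw [relCodim_piece X x.1 x.2 W.1 W.2.2 (bigOpen X x.1 W.1) (bigIdx X x W).2.2]; exact hn)

theorem pushData_cpt_big (P : T.PushData X j) (x : X.cdPt j) (W : ptIdx X x.1) (M : A.Cat)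
    (i n i' n' : ℤ) (hi : i' = i + 2 * (j : ℤ)) (hn : n' = n + (j : ℤ)) :
    (T.ptι X x.1 i n W).app M ≫ P.cpt x M i n i' n' hi hn =
      bigPush T X x W M i n i' n' hi hn ≫ (T.fjι X j i' n' (bigIdx X x W)).app M := by
  let f : ((X.ptSub x.1).res W.1).scheme ⟶ (X.res (bigIdx X x W).1).scheme :=
    pieceLift X x.1 W.1 (bigOpen X x.1 W.1) (pieceSet_subset_bigOpen X x.1 W.1)
  haveI : IsClosedImmersion f :=
    isClosedImmersion_pieceLift X x.1 W.1 _ _ (closure_inter_bigOpen_subset X x.1 W.1)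
  have hrc : relCodim ((X.ptSub x.1).res W.1).scheme (X.res (bigIdx X x W).1).scheme = (j : ℤ) :=
    relCodim_piece X x.1 x.2 W.1 W.2.2 (bigOpen X x.1 W.1) (bigIdx X x W).2.2
  exact P.cpt_spec x M i n i' n' hi hn (bigIdx X x W) W f
    (pieceLift_ι X x.1 W.1 _ _) (by rw [hrc]; exact hi) (by rw [hrc]; exact hn)

theorem kernel_all (M : A.Cat) (i0 n i' n' : ℤ) (hi' : i0 + 1 = i' + 2 * ((j + 1 : ℕ) : ℤ))
    (hn' : n = n' + ((j + 1 : ℕ) : ℤ))
    (S : Submodule R (T.fjGp X (j + 1) M (i0 + 1) n))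
    (H : ∀ (x : X.cdPt (j + 1)) (W : ptIdx X x.1) (γ : T.gp ((X.ptSub x.1).res W.1) M i' n'),
      ∃ (W' : ptIdx X x.1) (hle : W' ≤ W),
        ((T.fjι X (j + 1) (i0 + 1) n (bigIdx X x W')).app M).hom
          ((bigPush T X x W' M i' n' (i0 + 1) n hi' hn').hom
            ((idxRes T (X.ptSub x.1) _ hle M i' n').hom γ)) ∈ S)
    (β : T.fjGp X (j + 1) M (i0 + 1) n)
    (hβ : ((T.fjRes X (Nat.le_succ j) (i0 + 1) n).app M).hom β = 0) : β ∈ S := by
  haveI : IsNoetherian X.scheme := IsConstructible.isNoetherian X.mem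
  obtain ⟨U₁, b₁, hb₁⟩ := ocolim_exists_rep T X (ContainsFj X (j + 1)) M (i0 + 1) n β
  have h0 : ((T.fjι X j (i0 + 1) n (up X U₁)).app M).hom b₁ = 0 := by
    rw [← hβ, ← hb₁]
    exact (congrArg (fun k => k.hom b₁) (fjRes_fjι T X (Nat.le_succ j) U₁ M (i0 + 1) n)).symm
  obtain ⟨O₁, hle₁, hz₁⟩ := ocolimι_eq_zero T X (ContainsFj X j) M (i0 + 1) n (up X U₁) b₁ h0
  suffices hP : ∀ (O : X.scheme.Opens)
      (hO : ContainsFj X j O ∧ dim (O : Scheme.{u}) = dim X.scheme)
      (U' : Idx X (ContainsFj X (j + 1))) (hOU : (⟨O, hO⟩ : Idx X (ContainsFj X j)) ≤ up X U')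
      (b : T.gp (X.res U'.1) M (i0 + 1) n),
      (idxRes T X (ContainsFj X j) hOU M (i0 + 1) n).hom b = 0 →
      ((T.fjι X (j + 1) (i0 + 1) n U').app M).hom b ∈ S by
    rw [← hb₁]
    exact hP O₁.1 O₁.2 U₁ hle₁ b₁ hz₁
  intro O
  induction O using WellFoundedGT.induction with
  | ind O ih =>
    intro hO U' hOU b hb
    by_cases hc : ContainsFj X (j + 1) O
    · have := idxRes_ocolimι_apply T X (ContainsFj X (j + 1)) (U' := ⟨O, hc, hO.2⟩) (U := U')
        hOU M (i0 + 1) n b
      rw [← this]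
      have hb' : (idxRes T X (ContainsFj X (j + 1)) (U' := ⟨O, hc, hO.2⟩) (U := U') hOU
          M (i0 + 1) n).hom b = 0 := hb
      rw [hb', map_zero]
      exact S.zero_mem
    · obtain ⟨x, hx⟩ := exists_bad X ⟨O, hO⟩ hc
      have hxU' : x.1 ∈ U'.1 := U'.2.1 x.1 (le_of_eq x.2)
      have hxg : x.1 ∈ goodOpen X O x.1 := mem_goodOpen X O hO.1 x.1 x.2
      let G : X.scheme.Opens := goodOpen X O x.1 ⊓ U'.1
      let W : ptIdx X x.1 := pieceInIdx X x.1 G ⟨hxg, hxU'⟩
      have hWG : pieceSet X x.1 W.1 ⊆ G := by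
        show pieceSet X x.1 (pieceIn X x.1 G) ⊆ _
        rw [pieceSet_pieceIn]
        exact Set.inter_subset_right
      have hW : pieceSet X x.1 W.1 ⊆ goodOpen X O x.1 := fun z hz => (hWG hz).1
      let Y : Idx X (ContainsFj X j) := outIdx X ⟨O, hO⟩ x.1 W.1 hW
      have hOY : (⟨O, hO⟩ : Idx X (ContainsFj X j)) ≤ Y := le_outIdx X ⟨O, hO⟩ x.1 W.1 hW
      have hYU : Y ≤ up X U' := by
        rintro z (hz | hz)
        · exact hOU hz
        · exact (hWG hz).2
      let D := outDecomp X O x.1 W.1 hW hO.1 hx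
      have hcd : D.codim = ((j + 1 : ℕ) : ℤ) := by
        rw [Nat.cast_add, Nat.cast_one]
        exact relCodim_outDecomp X O hO.1 x hx W hW
      have hiD : i0 + 1 = i' + 2 * relCodim D.Z.scheme (X.res Y.1).scheme := by
        rw [show relCodim D.Z.scheme (X.res Y.1).scheme = ((j + 1 : ℕ) : ℤ) from hcd]
        exact hi'
      have hnD : n = n' + relCodim D.Z.scheme (X.res Y.1).scheme := by
        rw [show relCodim D.Z.scheme (X.res Y.1).scheme = ((j + 1 : ℕ) : ℤ) from hcd]
        exact hn'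
      have h1 : (T.pull D.j M (i0 + 1) n).hom
          ((idxRes T X (ContainsFj X j) hYU M (i0 + 1) n).hom b) = 0 :=
        (idxRes_comp_apply T X (ContainsFj X j) hOY hYU M (i0 + 1) n b).trans hb
      obtain ⟨γ, hγ⟩ := (T.exact_push_pull D M i0 n i' n' hiD hnD _).1 h1
      obtain ⟨W', hle, hS⟩ := H x W γ
      have hW' := (pieceSet_mono X x.1 hle).trans hW
      let Y' : Idx X (ContainsFj X j) := outIdx X ⟨O, hO⟩ x.1 W'.1 hW'
      have hY'Y : Y' ≤ Y := outOpen_mono X O x.1 hle hW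
      let B : Idx X (ContainsFj X (j + 1)) := bigIdx X x W'
      let U'' : Idx X (ContainsFj X (j + 1)) := idxInf X U' B
      have hU''U' : U'' ≤ U' := idxInf_le_left X U' B
      have hU''B : U'' ≤ B := idxInf_le_right X U' B
      let γ' := (idxRes T (X.ptSub x.1) _ hle M i' n').hom γ
      let c := (bigPush T X x W' M i' n' (i0 + 1) n hi' hn').hom γ'
      let b'' := (idxRes T X (ContainsFj X (j + 1)) hU''U' M (i0 + 1) n).hom b -
        (idxRes T X (ContainsFj X (j + 1)) hU''B M (i0 + 1) n).hom c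
      have hY'B : Y' ≤ up X B := by
        rintro z (hz | hz)
        · exact le_bigOpen_of_notMem X O x.1 hx W'.1 hz
        · exact pieceSet_subset_bigOpen X x.1 W'.1 hz
      have hY'U'' : Y' ≤ up X U'' := fun z hz => ⟨hYU (hY'Y hz), hY'B hz⟩
      have hWY : pieceSet X x.1 W.1 ⊆ Y.1 := fun z hz => Or.inr hz
      have hW'Y' : pieceSet X x.1 W'.1 ⊆ Y'.1 := fun z hz => Or.inr hz
      have hclY := closure_inter_outOpen_subset X O x.1 hx W.1 hW
      have hclY' := closure_inter_outOpen_subset X O x.1 hx W'.1 hW'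
      have hrc' : relCodim (W'.1 : Scheme.{u}) (Y'.1 : Scheme.{u}) = ((j + 1 : ℕ) : ℤ) :=
        relCodim_piece X x.1 x.2 W'.1 W'.2.2 Y'.1 Y'.2.2
      have hiD' : i0 + 1 = i' + 2 * relCodim (W'.1 : Scheme.{u}) (Y'.1 : Scheme.{u}) := by
        rw [hrc']; exact hi'
      have hnD' : n = n' + relCodim (W'.1 : Scheme.{u}) (Y'.1 : Scheme.{u}) := by
        rw [hrc']; exact hn'
      let pD' := piecePush T X x.1 W'.1 Y'.1 hW'Y' hclY' M i' n' (i0 + 1) n hiD' hnD'
      -- first computation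
      have e1 : (idxRes T X (ContainsFj X j) (hY'Y.trans hYU) M (i0 + 1) n).hom b = pD'.hom γ' := by
        rw [← idxRes_comp_apply T X (ContainsFj X j) hY'Y hYU M (i0 + 1) n b]
        have key := piecePush_pull T X x.1 hle hY'Y hWY hW'Y' hclY hclY'
          (W'.2.2.trans W.2.2.symm) (Y'.2.2.trans Y.2.2.symm) M i' n' (i0 + 1) n hiD hnD hiD' hnD'
        have key' := congrArg (fun k => k.hom γ) key
        refine Eq.trans ?_ key'
        show (idxRes T X (ContainsFj X j) hY'Y M (i0 + 1) n).hom _ =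
          (idxRes T X (ContainsFj X j) hY'Y M (i0 + 1) n).hom _
        congr 1
        exact hγ.symm
      have hrcB : relCodim (W'.1 : Scheme.{u}) (bigOpen X x.1 W'.1 : Scheme.{u}) =
          ((j + 1 : ℕ) : ℤ) :=
        relCodim_piece X x.1 x.2 W'.1 W'.2.2 (bigOpen X x.1 W'.1) B.2.2
      have hiB : i0 + 1 = i' + 2 * relCodim (W'.1 : Scheme.{u}) (bigOpen X x.1 W'.1 : Scheme.{u}) := by
        rw [hrcB]; exact hi'
      have hnB : n = n' + relCodim (W'.1 : Scheme.{u}) (bigOpen X x.1 W'.1 : Scheme.{u}) := by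
        rw [hrcB]; exact hn'
      have e2 : (idxRes T X (ContainsFj X j) hY'B M (i0 + 1) n).hom c = pD'.hom γ' := by
        have key := piecePush_pull T X x.1 (le_refl W'.1) (O' := Y'.1) (O := bigOpen X x.1 W'.1)
          hY'B (pieceSet_subset_bigOpen X x.1 W'.1) hW'Y'
          (closure_inter_bigOpen_subset X x.1 W'.1) hclY' rfl (Y'.2.2.trans B.2.2.symm)
          M i' n' (i0 + 1) n hiB hnB hiD' hnD'
        have key' := congrArg (fun k => k.hom γ') key
        refine Eq.trans key' ?_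
        have hid := idxRes_refl T (X.ptSub x.1) _ W' M i' n'
        have hid' := congrArg (fun k => k.hom γ') hid
        show pD'.hom ((idxRes T (X.ptSub x.1) _ (le_refl W') M i' n').hom γ') = _
        rw [hid']
        rfl
      have hb'' : (idxRes T X (ContainsFj X j) hY'U'' M (i0 + 1) n).hom b'' = 0 := by
        have hup1 : (up X U'' : Idx X (ContainsFj X j)) ≤ up X U' := hU''U'
        have hup2 : (up X U'' : Idx X (ContainsFj X j)) ≤ up X B := hU''B
        have t1 : (idxRes T X (ContainsFj X j) hY'U'' M (i0 + 1) n).hom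
            ((idxRes T X (ContainsFj X (j + 1)) hU''U' M (i0 + 1) n).hom b) = pD'.hom γ' :=
          (idxRes_comp_apply T X (ContainsFj X j) hY'U'' hup1 M (i0 + 1) n b).trans e1
        have t2 : (idxRes T X (ContainsFj X j) hY'U'' M (i0 + 1) n).hom
            ((idxRes T X (ContainsFj X (j + 1)) hU''B M (i0 + 1) n).hom c) = pD'.hom γ' :=
          (idxRes_comp_apply T X (ContainsFj X j) hY'U'' hup2 M (i0 + 1) n c).trans e2
        show (idxRes T X (ContainsFj X j) hY'U'' M (i0 + 1) n).hom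
          ((idxRes T X (ContainsFj X (j + 1)) hU''U' M (i0 + 1) n).hom b -
            (idxRes T X (ContainsFj X (j + 1)) hU''B M (i0 + 1) n).hom c) = 0
        refine ((idxRes T X (ContainsFj X j) hY'U'' M (i0 + 1) n).hom.map_sub _ _).trans ?_
        exact (congrArg₂ (· - ·) t1 t2).trans (sub_self _)
      have ih' := ih Y'.1 (lt_outOpen X O x.1 hx W'.1 W'.2.1 hW') Y'.2 U'' hY'U'' b'' hb''
      have f1 := idxRes_ocolimι_apply T X (ContainsFj X (j + 1)) hU''U' M (i0 + 1) n b
      have f2 := idxRes_ocolimι_apply T X (ContainsFj X (j + 1)) hU''B M (i0 + 1) n c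
      have f3 : ((T.fjι X (j + 1) (i0 + 1) n U').app M).hom b =
          ((T.fjι X (j + 1) (i0 + 1) n U'').app M).hom b'' +
            ((T.fjι X (j + 1) (i0 + 1) n B).app M).hom c := by
        rw [← f1, ← f2, ← map_add]
        congr 1
        show _ = (_ - _) + _
        rw [sub_add_cancel]
      rw [f3]
      exact S.add_mem ih' hS

end Kernel

end Groth.Agent.Lib.H15BMKer
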