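import Groth.Agent.Lib.H15BMSeq

set_option autoImplicit false
set_option linter.style.haveILetI false
set_option linter.unusedSectionVars false
universe u

open CategoryTheory CategoryTheory.Limits AlgebraicGeometry Opposite Set Topology TopologicalSpace
open BMCoh WeilCoh Groth.Agent.Lib.H15BMGeom Groth.Agent.Lib.H15BMFilt Groth.Agent.Lib.H15BMDecomp
  Groth.Agent.Lib.H15BMData Groth.Agent.Lib.H15BMExt Groth.Agent.Lib.H15BMKer Groth.Agent.Lib.H15BMSeq

/-!
helper15: the kernel induction for `H(F_mX)` relative to an arbitrary upward-closed family of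
opens (used at level `m = 0` with the family of all opens of full dimension).
-/

namespace Groth.Agent.Lib.H15BMKerGen

variable {V : ObjectProperty Scheme.{u}} [BMCoh.IsConstructible V] {R : Type u} [CommRing R]
  {A : BMCoh.Coefs R}

/-- the trivial property of opens -/
abbrev PT (X : Obj V) : X.scheme.Opens → Prop := fun _ => True

section Geo

variable (X : Obj V)

theorem dim_mono {O O' : X.scheme.Opens} (h : O ≤ O') :
    dim (O : Scheme.{u}) ≤ dim (O' : Scheme.{u}) :=
  natDim_le_of_isInducing (f := (X.scheme.homOfLE h))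
    (X.scheme.homOfLE h).isOpenEmbedding.isInducing (finiteDim_opens X O')

theorem dim_eq_of_le_of_dim_eq {O O' : X.scheme.Opens} (h : O ≤ O')
    (hd : dim (O : Scheme.{u}) = dim X.scheme) : dim (O' : Scheme.{u}) = dim X.scheme :=
  le_antisymm (dim_opens_le X O') (hd ▸ dim_mono X h)

theorem mem_goodOpen_of_max (O : X.scheme.Opens) (x : X.scheme)
    (hmax : ∀ t, t ∉ O → x ∈ closure ({t} : Set X.scheme) → t = x) : x ∈ goodOpen X O x := by
  haveI : IsNoetherian X.scheme := IsConstructible.isNoetherian X.mem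
  refine notMem_closure_diff_closure O.2.isClosed_compl ?_
  intro t ht hxt
  rw [hmax t ht hxt]

/-- an open of full dimension, as a member of the index family of all opens -/
noncomputable abbrev mkLow (O : X.scheme.Opens) (hd : dim (O : Scheme.{u}) = dim X.scheme) :
    Idx X (PT X) := ⟨O, trivial, hd⟩

/-- a member of the index family of `F_m`, as a member of the index family of all opens -/
noncomputable abbrev low {m : ℕ} (U : Idx X (ContainsFj X m)) : Idx X (PT X) :=
  ⟨U.1, trivial, U.2.2⟩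

/-- the decomposition of `O ∪ piece` into `O` and the piece, for `O` of full dimension -/
noncomputable def outDecompG (O : X.scheme.Opens) (x : X.scheme) (W : (X.ptSub x).scheme.Opens)
    (hW : pieceSet X x W ⊆ goodOpen X O x) (hd : dim (O : Scheme.{u}) = dim X.scheme)
    (hx : x ∉ O) : Decomp (X.res (outOpen X O x W hW)) :=
  pieceDecomp X x W (outOpen X O x W hW) O (le_outOpen X O x W hW) rfl
    (closure_inter_eq_empty_of_notMem X x O hx)
    (hd.trans (dim_eq_of_le_of_dim_eq X (le_outOpen X O x W hW) hd).symm)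

end Geo

section KerGen

variable (T : BMCoh.PreTheory V R A) (X : Obj V) {m : ℕ}

theorem subtract_piece (x : X.cdPt m) (W' : ptIdx X x.1) (Y' : X.scheme.Opens)
    (hdY' : dim (Y' : Scheme.{u}) = dim X.scheme) (hW'Y' : pieceSet X x.1 W'.1 ⊆ Y')
    (hclY' : closure ({x.1} : Set X.scheme) ∩ Y' ⊆ pieceSet X x.1 W'.1)
    (hY'B : Y' ≤ bigOpen X x.1 W'.1)
    (U' : Idx X (ContainsFj X m)) (hY'U' : mkLow X Y' hdY' ≤ low X U')
    (M : A.Cat) (i n i' n' : ℤ) (hi : i' = i + 2 * (m : ℤ)) (hn : n' = n + (m : ℤ))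
    (hiD' : i' = i + 2 * relCodim (W'.1 : Scheme.{u}) (Y' : Scheme.{u}))
    (hnD' : n' = n + relCodim (W'.1 : Scheme.{u}) (Y' : Scheme.{u}))
    (b : T.gp (X.res U'.1) M i' n') (γ' : T.gp ((X.ptSub x.1).res W'.1) M i n)
    (hb : (idxRes T X (PT X) hY'U' M i' n').hom b =
      (piecePush T X x.1 W'.1 Y' hW'Y' hclY' M i n i' n' hiD' hnD').hom γ') :
    ∃ (U'' : Idx X (ContainsFj X m)) (hY'U'' : mkLow X Y' hdY' ≤ low X U'')
      (b'' : T.gp (X.res U''.1) M i' n'),
      (idxRes T X (PT X) hY'U'' M i' n').hom b'' = 0 ∧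
      ((T.fjι X m i' n' U').app M).hom b = ((T.fjι X m i' n' U'').app M).hom b'' +
        ((T.fjι X m i' n' (bigIdx X x W')).app M).hom
          ((bigPush T X x W' M i n i' n' hi hn).hom γ') := by
  let B : Idx X (ContainsFj X m) := bigIdx X x W'
  let U'' : Idx X (ContainsFj X m) := idxInf X U' B
  have hU''U' : U'' ≤ U' := idxInf_le_left X U' B
  have hU''B : U'' ≤ B := idxInf_le_right X U' B
  let c := (bigPush T X x W' M i n i' n' hi hn).hom γ'
  let b'' := (idxRes T X (ContainsFj X m) hU''U' M i' n').hom b -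
    (idxRes T X (ContainsFj X m) hU''B M i' n').hom c
  have hY'B' : mkLow X Y' hdY' ≤ low X B := hY'B
  have hY'U'' : mkLow X Y' hdY' ≤ low X U'' := fun z hz => ⟨hY'U' hz, hY'B hz⟩
  let pD' := piecePush T X x.1 W'.1 Y' hW'Y' hclY' M i n i' n' hiD' hnD'
  have hrcB : relCodim (W'.1 : Scheme.{u}) (bigOpen X x.1 W'.1 : Scheme.{u}) = (m : ℤ) :=
    relCodim_piece X x.1 x.2 W'.1 W'.2.2 (bigOpen X x.1 W'.1) B.2.2
  have hiB : i' = i + 2 * relCodim (W'.1 : Scheme.{u}) (bigOpen X x.1 W'.1 : Scheme.{u}) := by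
    rw [hrcB]; exact hi
  have hnB : n' = n + relCodim (W'.1 : Scheme.{u}) (bigOpen X x.1 W'.1 : Scheme.{u}) := by
    rw [hrcB]; exact hn
  have e2 : (idxRes T X (PT X) hY'B' M i' n').hom c = pD'.hom γ' := by
    have key := piecePush_pull T X x.1 (le_refl W'.1) (O' := Y') (O := bigOpen X x.1 W'.1)
      hY'B (pieceSet_subset_bigOpen X x.1 W'.1) hW'Y'
      (closure_inter_bigOpen_subset X x.1 W'.1) hclY' rfl (hdY'.trans B.2.2.symm)
      M i n i' n' hiB hnB hiD' hnD'
    have key' := congrArg (fun k => k.hom γ') key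
    refine Eq.trans key' ?_
    have hid := idxRes_refl T (X.ptSub x.1) _ W' M i n
    have hid' := congrArg (fun k => k.hom γ') hid
    show pD'.hom ((idxRes T (X.ptSub x.1) _ (le_refl W') M i n).hom γ') = _
    rw [hid']
    rfl
  have hb'' : (idxRes T X (PT X) hY'U'' M i' n').hom b'' = 0 := by
    have hup1 : low X U'' ≤ low X U' := hU''U'
    have hup2 : low X U'' ≤ low X B := hU''B
    have t1 : (idxRes T X (PT X) hY'U'' M i' n').hom
        ((idxRes T X (ContainsFj X m) hU''U' M i' n').hom b) = pD'.hom γ' :=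
      (idxRes_comp_apply T X (PT X) hY'U'' hup1 M i' n' b).trans hb
    have t2 : (idxRes T X (PT X) hY'U'' M i' n').hom
        ((idxRes T X (ContainsFj X m) hU''B M i' n').hom c) = pD'.hom γ' :=
      (idxRes_comp_apply T X (PT X) hY'U'' hup2 M i' n' c).trans e2
    show (idxRes T X (PT X) hY'U'' M i' n').hom
      ((idxRes T X (ContainsFj X m) hU''U' M i' n').hom b -
        (idxRes T X (ContainsFj X m) hU''B M i' n').hom c) = 0
    refine ((idxRes T X (PT X) hY'U'' M i' n').hom.map_sub _ _).trans ?_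
    exact (congrArg₂ (· - ·) t1 t2).trans (sub_self _)
  refine ⟨U'', hY'U'', b'', hb'', ?_⟩
  have f1 := idxRes_ocolimι_apply T X (ContainsFj X m) hU''U' M i' n' b
  have f2 := idxRes_ocolimι_apply T X (ContainsFj X m) hU''B M i' n' c
  rw [← f1, ← f2, ← map_add]
  congr 1
  show _ = (_ - _) + _
  rw [sub_add_cancel]

theorem relCodim_outDecompG (O : X.scheme.Opens) (x : X.cdPt m) (W : ptIdx X x.1)
    (hW : pieceSet X x.1 W.1 ⊆ goodOpen X O x.1) (hd : dim (O : Scheme.{u}) = dim X.scheme)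
    (hx : x.1 ∉ O) : (outDecompG X O x.1 W.1 hW hd hx).codim = (m : ℤ) :=
  relCodim_piece X x.1 x.2 W.1 W.2.2 (outOpen X O x.1 W.1 hW)
    (dim_eq_of_le_of_dim_eq X (le_outOpen X O x.1 W.1 hW) hd)

theorem kernel_gen (P₀ : X.scheme.Opens → Prop)
    (hmono : ∀ O O' : X.scheme.Opens, O ≤ O' → P₀ O → P₀ O')
    (hbad : ∀ O : X.scheme.Opens, P₀ O → ¬ ContainsFj X m O → ∃ x : X.cdPt m, x.1 ∉ O)
    (hmax : ∀ O : X.scheme.Opens, P₀ O → ∀ x : X.cdPt m, x.1 ∉ O → ∀ t, t ∉ O →
      x.1 ∈ closure ({t} : Set X.scheme) → t = x.1)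
    (M : A.Cat) (i0 n i' n' : ℤ) (hi' : i0 + 1 = i' + 2 * (m : ℤ)) (hn' : n = n' + (m : ℤ))
    (S : Submodule R (T.fjGp X m M (i0 + 1) n))
    (H : ∀ (x : X.cdPt m) (W : ptIdx X x.1) (γ : T.gp ((X.ptSub x.1).res W.1) M i' n'),
      ∃ (W' : ptIdx X x.1) (hle : W' ≤ W),
        ((T.fjι X m (i0 + 1) n (bigIdx X x W')).app M).hom
          ((bigPush T X x W' M i' n' (i0 + 1) n hi' hn').hom
            ((idxRes T (X.ptSub x.1) _ hle M i' n').hom γ)) ∈ S)
    (O : X.scheme.Opens) (hP : P₀ O) (hd : dim (O : Scheme.{u}) = dim X.scheme)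
    (U' : Idx X (ContainsFj X m)) (hOU : mkLow X O hd ≤ low X U')
    (b : T.gp (X.res U'.1) M (i0 + 1) n)
    (hb : (idxRes T X (PT X) hOU M (i0 + 1) n).hom b = 0) :
    ((T.fjι X m (i0 + 1) n U').app M).hom b ∈ S := by
  haveI : IsNoetherian X.scheme := IsConstructible.isNoetherian X.mem
  induction O using WellFoundedGT.induction generalizing U' with
  | ind O ih =>
    by_cases hc : ContainsFj X m O
    · have := idxRes_ocolimι_apply T X (ContainsFj X m) (U' := ⟨O, hc, hd⟩) (U := U')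
        hOU M (i0 + 1) n b
      rw [← this]
      have hb' : (idxRes T X (ContainsFj X m) (U' := ⟨O, hc, hd⟩) (U := U') hOU
          M (i0 + 1) n).hom b = 0 := hb
      rw [hb', map_zero]
      exact S.zero_mem
    · obtain ⟨x, hx⟩ := hbad O hP hc
      have hxU' : x.1 ∈ U'.1 := U'.2.1 x.1 (le_of_eq x.2)
      have hxg : x.1 ∈ goodOpen X O x.1 := mem_goodOpen_of_max X O x.1 (hmax O hP x hx)
      let G : X.scheme.Opens := goodOpen X O x.1 ⊓ U'.1
      let W : ptIdx X x.1 := pieceInIdx X x.1 G ⟨hxg, hxU'⟩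
      have hWG : pieceSet X x.1 W.1 ⊆ G := by
        show pieceSet X x.1 (pieceIn X x.1 G) ⊆ _
        rw [pieceSet_pieceIn]
        exact Set.inter_subset_right
      have hW : pieceSet X x.1 W.1 ⊆ goodOpen X O x.1 := fun z hz => (hWG hz).1
      have hdY : dim (outOpen X O x.1 W.1 hW : Scheme.{u}) = dim X.scheme :=
        dim_eq_of_le_of_dim_eq X (le_outOpen X O x.1 W.1 hW) hd
      let Y : Idx X (PT X) := mkLow X (outOpen X O x.1 W.1 hW) hdY
      have hOY : mkLow X O hd ≤ Y := le_outOpen X O x.1 W.1 hW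
      have hYU : Y ≤ low X U' := by
        rintro z (hz | hz)
        · exact hOU hz
        · exact (hWG hz).2
      let D := outDecompG X O x.1 W.1 hW hd hx
      have hcd : D.codim = (m : ℤ) := relCodim_outDecompG X O x W hW hd hx
      have hiD : i0 + 1 = i' + 2 * relCodim D.Z.scheme (X.res Y.1).scheme := by
        rw [show relCodim D.Z.scheme (X.res Y.1).scheme = (m : ℤ) from hcd]
        exact hi'
      have hnD : n = n' + relCodim D.Z.scheme (X.res Y.1).scheme := by
        rw [show relCodim D.Z.scheme (X.res Y.1).scheme = (m : ℤ) from hcd]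
        exact hn'
      have h1 : (T.pull D.j M (i0 + 1) n).hom
          ((idxRes T X (PT X) hYU M (i0 + 1) n).hom b) = 0 :=
        (idxRes_comp_apply T X (PT X) hOY hYU M (i0 + 1) n b).trans hb
      obtain ⟨γ, hγ⟩ := (T.exact_push_pull D M i0 n i' n' hiD hnD _).1 h1
      obtain ⟨W', hle, hS⟩ := H x W γ
      have hW' := (pieceSet_mono X x.1 hle).trans hW
      have hdY' : dim (outOpen X O x.1 W'.1 hW' : Scheme.{u}) = dim X.scheme :=
        dim_eq_of_le_of_dim_eq X (le_outOpen X O x.1 W'.1 hW') hd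
      let Y' : Idx X (PT X) := mkLow X (outOpen X O x.1 W'.1 hW') hdY'
      have hY'Y : Y' ≤ Y := outOpen_mono X O x.1 hle hW
      let γ' := (idxRes T (X.ptSub x.1) _ hle M i' n').hom γ
      have hWY : pieceSet X x.1 W.1 ⊆ Y.1 := fun z hz => Or.inr hz
      have hW'Y' : pieceSet X x.1 W'.1 ⊆ Y'.1 := fun z hz => Or.inr hz
      have hclY := closure_inter_outOpen_subset X O x.1 hx W.1 hW
      have hclY' := closure_inter_outOpen_subset X O x.1 hx W'.1 hW'
      have hrc' : relCodim (W'.1 : Scheme.{u}) (Y'.1 : Scheme.{u}) = (m : ℤ) :=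
        relCodim_piece X x.1 x.2 W'.1 W'.2.2 Y'.1 Y'.2.2
      have hiD' : i0 + 1 = i' + 2 * relCodim (W'.1 : Scheme.{u}) (Y'.1 : Scheme.{u}) := by
        rw [hrc']; exact hi'
      have hnD' : n = n' + relCodim (W'.1 : Scheme.{u}) (Y'.1 : Scheme.{u}) := by
        rw [hrc']; exact hn'
      let pD' := piecePush T X x.1 W'.1 Y'.1 hW'Y' hclY' M i' n' (i0 + 1) n hiD' hnD'
      have e1 : (idxRes T X (PT X) (hY'Y.trans hYU) M (i0 + 1) n).hom b = pD'.hom γ' := by
        rw [← idxRes_comp_apply T X (PT X) hY'Y hYU M (i0 + 1) n b]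
        have key := piecePush_pull T X x.1 hle hY'Y hWY hW'Y' hclY hclY'
          (W'.2.2.trans W.2.2.symm) (Y'.2.2.trans Y.2.2.symm) M i' n' (i0 + 1) n hiD hnD hiD' hnD'
        have key' := congrArg (fun k => k.hom γ) key
        refine Eq.trans ?_ key'
        show (idxRes T X (PT X) hY'Y M (i0 + 1) n).hom _ =
          (idxRes T X (PT X) hY'Y M (i0 + 1) n).hom _
        congr 1
        exact hγ.symm
      have hY'B : Y'.1 ≤ bigOpen X x.1 W'.1 := by
        rintro z (hz | hz)
        · exact le_bigOpen_of_notMem X O x.1 hx W'.1 hz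
        · exact pieceSet_subset_bigOpen X x.1 W'.1 hz
      obtain ⟨U'', hY'U'', b'', hb'', hsum⟩ := subtract_piece T X x W' Y'.1 hdY' hW'Y' hclY' hY'B
        U' (hY'Y.trans hYU) M i' n' (i0 + 1) n hi' hn' hiD' hnD' b γ' e1
      have ih' := ih Y'.1 (lt_outOpen X O x.1 hx W'.1 W'.2.1 hW')
        (hmono O Y'.1 (le_outOpen X O x.1 W'.1 hW') hP) hdY' U'' hY'U'' b'' hb''
      rw [hsum]
      exact S.add_mem ih' hS

end KerGen

end Groth.Agent.Lib.H15BMKerGen
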