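import Groth.Agent.Lib.H15BMKerGen

set_option autoImplicit false
set_option linter.style.haveILetI false
set_option linter.unusedSectionVars false
universe u

open CategoryTheory CategoryTheory.Limits AlgebraicGeometry Opposite Set Topology TopologicalSpace
open BMCoh WeilCoh Groth.Agent.Lib.H15BMGeom Groth.Agent.Lib.H15BMFilt Groth.Agent.Lib.H15BMDecomp
  Groth.Agent.Lib.H15BMData Groth.Agent.Lib.H15BMExt Groth.Agent.Lib.H15BMKer Groth.Agent.Lib.H15BMSeq
  Groth.Agent.Lib.H15BMKerGen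

/-!
helper15: level `0` of the groups of `F_jX` on a reduced object: every class of `H(F_0X)` is a sum
of push-forwards from pieces of generic points; vanishing of `H^i(F_jX)` in high degrees (S15885).
-/

namespace Groth.Agent.Lib.H15BMLevel0

variable {V : ObjectProperty Scheme.{u}} [BMCoh.IsConstructible V] {R : Type u} [CommRing R]
  {A : BMCoh.Coefs R}

section Basic

variable (T : BMCoh.PreTheory V R A)

theorem relCodim_self (Y : Scheme.{u}) : relCodim Y Y = 0 := by unfold relCodim; ring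

/-- the groups of an empty object vanish -/
theorem gp_eq_zero_of_isEmpty (Y : Obj V) [IsEmpty Y.scheme] (M : A.Cat) (i n : ℤ)
    (a : T.gp Y M i n) : a = 0 := by
  obtain ⟨i0, rfl⟩ : ∃ i0, i = i0 + 1 := ⟨i - 1, by ring⟩
  let D : Decomp Y := ⟨Y, Y, 𝟙 Y.scheme, inferInstance, 𝟙 Y, Subsingleton.elim _ _⟩
  have hi : i0 + 1 = i0 + 1 + 2 * relCodim Y.scheme Y.scheme := by rw [relCodim_self]; ring
  have hn : n = n + relCodim Y.scheme Y.scheme := by rw [relCodim_self]; ring
  have hex := T.exact_push_pull D M i0 n (i0 + 1) n hi hn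
  have h1 : (T.push (𝟙 Y.scheme) M (i0 + 1) n (i0 + 1) n hi hn).hom a = a := by
    rw [T.push_id]
    rfl
  have h2 := (hex a).2 ⟨a, h1⟩
  have h3 := congrArg (fun k => k.hom a) (pull_id T Y M (i0 + 1) n)
  exact h3.symm.trans h2

/-- restriction along a morphism of objects after push-forward along it is the identity -/
theorem pull_push_self' {Y W : Obj V} (f : Y ⟶ W) [IsProper f.hom] (M : A.Cat) (i n : ℤ)
    (hi : i = i + 2 * relCodim Y.scheme W.scheme) (hn : n = n + relCodim Y.scheme W.scheme) :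
    T.push f.hom M i n i n hi hn ≫ T.pull f M i n = 𝟙 _ := by
  have hpb : IsPullback (𝟙 Y : Y ⟶ Y).hom (𝟙 Y.scheme) f.hom f.hom :=
    IsKernelPair.id_of_mono f.hom
  have hi' : i = i + 2 * relCodim Y.scheme Y.scheme := by rw [relCodim_self]; ring
  have hn' : n = n + relCodim Y.scheme Y.scheme := by rw [relCodim_self]; ring
  have := T.push_pull f.hom (𝟙 Y.scheme) f (𝟙 Y) hpb M i n i n hi hn hi' hn'
  rw [this, T.push_id]
  exact (Category.comp_id _).trans (pull_id T Y M i n)

/-- for an isomorphism of schemes underlying a morphism of objects, push-forward after restriction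
is the identity -/
theorem push_pull_of_isIso {Y W : Obj V} (f : Y ⟶ W) [IsIso f.hom] (M : A.Cat) (i n : ℤ)
    (hi : i = i + 2 * relCodim Y.scheme W.scheme) (hn : n = n + relCodim Y.scheme W.scheme)
    (a : T.gp W M i n) :
    (T.push f.hom M i n i n hi hn).hom ((T.pull f M i n).hom a) = a := by
  let g : W ⟶ Y := ⟨inv f.hom, inferInstance, f.dim_eq.symm⟩
  have hgf : g ≫ f = 𝟙 W := BMCoh.Hom.ext (IsIso.inv_hom_id f.hom)
  have hinj : Function.Injective (T.pull f M i n).hom := by
    have h : T.pull f M i n ≫ T.pull g M i n = 𝟙 _ := by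
      show ((T.H i n).map f.op).app M ≫ ((T.H i n).map g.op).app M = _
      rw [← NatTrans.comp_app, ← Functor.map_comp, ← op_comp, hgf]
      exact pull_id T _ M i n
    intro a b hab
    have ha := congrArg (fun k => k.hom a) h
    have hb := congrArg (fun k => k.hom b) h
    have : (T.pull g M i n).hom ((T.pull f M i n).hom a) =
        (T.pull g M i n).hom ((T.pull f M i n).hom b) := by rw [hab]
    exact ha.symm.trans (this.trans hb)
  apply hinj
  exact congrArg (fun k => k.hom ((T.pull f M i n).hom a)) (pull_push_self' T f M i n hi hn)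

end Basic

section Geo0

variable (X : Obj V)

theorem max_of_codim_zero (x : X.scheme) (hx : codim X.scheme x = 0) (t : X.scheme)
    (hxt : x ∈ closure ({t} : Set X.scheme)) : t = x := by
  by_contra hne
  have h1 := pdim_lt_of_specializes X (specializes_iff_mem_closure.2 hxt) hne
  have h2 := pdim_le_dim X t
  have h3 := pdim_le_dim X x
  unfold codim at hx
  omega

theorem exists_cdPt_zero [Nonempty X.scheme] : ∃ x : X.scheme, codim X.scheme x = 0 := by
  obtain ⟨η, hη⟩ := exists_natDim_closure_eq (X := X.scheme) (finiteDim X)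
  exact ⟨η, by unfold codim pdim dim; omega⟩

theorem dim_eq_of_mem_codim_zero (O : X.scheme.Opens) (x : X.scheme) (hx : codim X.scheme x = 0)
    (hxO : x ∈ O) : dim (O : Scheme.{u}) = dim X.scheme := by
  apply le_antisymm (dim_opens_le X O)
  let O' : (X.ptSub x).scheme.Opens := (X.ptSubι x) ⁻¹ᵁ O
  have hne : (O' : Set (X.ptSub x).scheme).Nonempty := pieceIn_nonempty X x O hxO
  have h1 := IsConstructible.dim_open (X.ptSub x).mem inferInstance O' hne
  have h2 : dim (O' : Scheme.{u}) ≤ dim (O : Scheme.{u}) :=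
    natDim_le_of_isInducing ((X.ptSubι x) ∣_ O).isEmbedding.isInducing (finiteDim_opens X O)
  have h3 := dim_ptSub X x
  have h4 := pdim_le_dim X x
  unfold codim at hx
  omega

theorem exists_bad_zero (O : X.scheme.Opens) (h : ¬ ContainsFj X 0 O) :
    ∃ x : X.cdPt 0, x.1 ∉ O := by
  unfold ContainsFj at h
  push Not at h
  obtain ⟨y, hy, hyO⟩ := h
  exact ⟨⟨y, Nat.le_zero.1 hy⟩, hyO⟩

theorem isIso_pieceLift [IsReduced X.scheme] (x : X.scheme) (W : (X.ptSub x).scheme.Opens)
    (O : X.scheme.Opens) (h : pieceSet X x W ⊆ O) (hO : (O : Set X.scheme) ⊆ pieceSet X x W) :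
    IsIso (pieceLift X x W O h) := by
  haveI : IsClosedImmersion (pieceLift X x W O h) :=
    isClosedImmersion_pieceLift X x W O h (fun z hz => hO hz.2)
  haveI : Surjective (pieceLift X x W O h) := by
    constructor
    rw [← Set.range_eq_univ, range_pieceLift, Set.eq_univ_iff_forall]
    intro z
    exact hO z.2
  exact isIso_of_isClosedImmersion_of_surjective (pieceLift X x W O h)

end Geo0

section Level0

variable (T : BMCoh.PreTheory V R A) (X : Obj V)

theorem fj0_mem [IsReduced X.scheme] (M : A.Cat) (i0 n i' n' : ℤ)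
    (hi' : i0 + 1 = i' + 2 * ((0 : ℕ) : ℤ)) (hn' : n = n' + ((0 : ℕ) : ℤ))
    (S : Submodule R (T.fjGp X 0 M (i0 + 1) n))
    (H : ∀ (x : X.cdPt 0) (W : ptIdx X x.1) (γ : T.gp ((X.ptSub x.1).res W.1) M i' n'),
      ∃ (W' : ptIdx X x.1) (hle : W' ≤ W),
        ((T.fjι X 0 (i0 + 1) n (bigIdx X x W')).app M).hom
          ((bigPush T X x W' M i' n' (i0 + 1) n hi' hn').hom
            ((idxRes T (X.ptSub x.1) _ hle M i' n').hom γ)) ∈ S)
    (β : T.fjGp X 0 M (i0 + 1) n) : β ∈ S := by
  have hi0 : i0 + 1 = i' := by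
    have := hi'
    simp only [Nat.cast_zero, mul_zero, add_zero] at this
    exact this
  subst hi0
  have hn0 : n = n' := by
    have := hn'
    simp only [Nat.cast_zero, add_zero] at this
    exact this
  subst hn0
  obtain ⟨U₁, b₁, rfl⟩ := ocolim_exists_rep T X (ContainsFj X 0) M (i0 + 1) n β
  by_cases hE : IsEmpty X.scheme
  · haveI : IsEmpty (X.res U₁.1).scheme := ⟨fun z => hE.false (U₁.1.ι z)⟩
    rw [gp_eq_zero_of_isEmpty T (X.res U₁.1) M (i0 + 1) n b₁, map_zero]
    exact S.zero_mem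
  · rw [not_isEmpty_iff] at hE
    obtain ⟨x₀, hx₀⟩ := exists_cdPt_zero X
    let x : X.cdPt 0 := ⟨x₀, hx₀⟩
    have hxU : x.1 ∈ U₁.1 := U₁.2.1 x.1 (le_of_eq x.2)
    have hxbot : x.1 ∉ (⊥ : X.scheme.Opens) := fun h => h
    have hxg : x.1 ∈ goodOpen X ⊥ x.1 :=
      mem_goodOpen_of_max X ⊥ x.1 (fun t _ hxt => max_of_codim_zero X x.1 x.2 t hxt)
    let G : X.scheme.Opens := goodOpen X ⊥ x.1 ⊓ U₁.1
    let W : ptIdx X x.1 := pieceInIdx X x.1 G ⟨hxg, hxU⟩
    have hWG : pieceSet X x.1 W.1 ⊆ G := by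
      show pieceSet X x.1 (pieceIn X x.1 G) ⊆ _
      rw [pieceSet_pieceIn]
      exact Set.inter_subset_right
    have hW : pieceSet X x.1 W.1 ⊆ goodOpen X ⊥ x.1 := fun z hz => (hWG hz).1
    let Y₁ : X.scheme.Opens := outOpen X ⊥ x.1 W.1 hW
    have hdY₁ : dim (Y₁ : Scheme.{u}) = dim X.scheme :=
      dim_eq_of_mem_codim_zero X Y₁ x.1 x.2 (Or.inr (mem_pieceSet_self X x.1 W.1 W.2.1))
    have hWY : pieceSet X x.1 W.1 ⊆ Y₁ := fun z hz => Or.inr hz
    have hYW : (Y₁ : Set X.scheme) ⊆ pieceSet X x.1 W.1 := by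
      rintro z (hz | hz)
      · exact absurd hz (fun h => h)
      · exact hz
    haveI := isIso_pieceLift X x.1 W.1 Y₁ hWY hYW
    have hdW : dim (W.1 : Scheme.{u}) = dim (Y₁ : Scheme.{u}) := by
      have h1 := W.2.2
      have h2 := dim_ptSub X x.1
      have h3 := pdim_le_dim X x.1
      have h4 := x.2
      unfold codim at h4
      omega
    let φ : (X.ptSub x.1).res W.1 ⟶ X.res Y₁ := ⟨pieceLift X x.1 W.1 Y₁ hWY, inferInstance, hdW⟩
    have hYU : mkLow X Y₁ hdY₁ ≤ low X U₁ := by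
      rintro z (hz | hz)
      · exact absurd hz (fun h => h)
      · exact (hWG hz).2
    let bY := (idxRes T X (PT X) hYU M (i0 + 1) n).hom b₁
    have hrc : relCodim (W.1 : Scheme.{u}) (Y₁ : Scheme.{u}) = ((0 : ℕ) : ℤ) :=
      relCodim_piece X x.1 x.2 W.1 W.2.2 Y₁ hdY₁
    have hiD : i0 + 1 = i0 + 1 + 2 * relCodim (W.1 : Scheme.{u}) (Y₁ : Scheme.{u}) := by
      rw [hrc]; exact hi'
    have hnD : n = n + relCodim (W.1 : Scheme.{u}) (Y₁ : Scheme.{u}) := by
      rw [hrc]; exact hn'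
    let γ := (T.pull φ M (i0 + 1) n).hom bY
    have hγ : (T.push φ.hom M (i0 + 1) n (i0 + 1) n hiD hnD).hom γ = bY :=
      push_pull_of_isIso T φ M (i0 + 1) n hiD hnD bY
    obtain ⟨W', hle, hS⟩ := H x W γ
    have hW' := (pieceSet_mono X x.1 hle).trans hW
    let Y' : X.scheme.Opens := outOpen X ⊥ x.1 W'.1 hW'
    have hdY' : dim (Y' : Scheme.{u}) = dim X.scheme :=
      dim_eq_of_mem_codim_zero X Y' x.1 x.2 (Or.inr (mem_pieceSet_self X x.1 W'.1 W'.2.1))
    have hY'Y : mkLow X Y' hdY' ≤ mkLow X Y₁ hdY₁ := outOpen_mono X ⊥ x.1 hle hW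
    let γ' := (idxRes T (X.ptSub x.1) _ hle M (i0 + 1) n).hom γ
    have hW'Y' : pieceSet X x.1 W'.1 ⊆ Y' := fun z hz => Or.inr hz
    have hclY := closure_inter_outOpen_subset X ⊥ x.1 hxbot W.1 hW
    have hclY' := closure_inter_outOpen_subset X ⊥ x.1 hxbot W'.1 hW'
    have hrc' : relCodim (W'.1 : Scheme.{u}) (Y' : Scheme.{u}) = ((0 : ℕ) : ℤ) :=
      relCodim_piece X x.1 x.2 W'.1 W'.2.2 Y' hdY'
    have hiD' : i0 + 1 = i0 + 1 + 2 * relCodim (W'.1 : Scheme.{u}) (Y' : Scheme.{u}) := by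
      rw [hrc']; exact hi'
    have hnD' : n = n + relCodim (W'.1 : Scheme.{u}) (Y' : Scheme.{u}) := by
      rw [hrc']; exact hn'
    let pD' := piecePush T X x.1 W'.1 Y' hW'Y' hclY' M (i0 + 1) n (i0 + 1) n hiD' hnD'
    have e1 : (idxRes T X (PT X) (hY'Y.trans hYU) M (i0 + 1) n).hom b₁ = pD'.hom γ' := by
      rw [← idxRes_comp_apply T X (PT X) hY'Y hYU M (i0 + 1) n b₁]
      have key := piecePush_pull T X x.1 hle (O' := Y') (O := Y₁) hY'Y hWY hW'Y' hclY hclY'
        (W'.2.2.trans W.2.2.symm) (hdY'.trans hdY₁.symm) M (i0 + 1) n (i0 + 1) n hiD hnD hiD' hnD'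
      have key' := congrArg (fun k => k.hom γ) key
      refine Eq.trans ?_ key'
      show (idxRes T X (PT X) hY'Y M (i0 + 1) n).hom _ =
        (idxRes T X (PT X) hY'Y M (i0 + 1) n).hom _
      congr 1
      exact hγ.symm
    have hY'B : Y' ≤ bigOpen X x.1 W'.1 := by
      rintro z (hz | hz)
      · exact absurd hz (fun h => h)
      · exact pieceSet_subset_bigOpen X x.1 W'.1 hz
    obtain ⟨U'', hY'U'', b'', hb'', hsum⟩ := subtract_piece T X x W' Y' hdY' hW'Y' hclY' hY'B
      U₁ (hY'Y.trans hYU) M (i0 + 1) n (i0 + 1) n hi' hn' hiD' hnD' b₁ γ' e1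
    have hk := kernel_gen T X (PT X) (fun _ _ _ _ => trivial)
      (fun O _ hc => exists_bad_zero X O hc)
      (fun O _ y _ t _ hyt => max_of_codim_zero X y.1 y.2 t hyt)
      M i0 n (i0 + 1) n hi' hn' S H Y' trivial hdY' U'' hY'U'' b'' hb''
    have hsum' : ((T.ocolimι X (ContainsFj X 0) (i0 + 1) n U₁).app M).hom b₁ =
        ((T.fjι X 0 (i0 + 1) n U'').app M).hom b'' +
          ((T.fjι X 0 (i0 + 1) n (bigIdx X x W')).app M).hom
            ((bigPush T X x W' M (i0 + 1) n (i0 + 1) n hi' hn').hom γ') := hsum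
    rw [hsum']
    exact S.add_mem hk hS

end Level0

section Vanish

theorem isZero_of_forall_eq_zero {N : ModuleCat.{u} R} (h : ∀ a : N, a = 0) : IsZero N := by
  haveI : Subsingleton N := ⟨fun a b => (h a).trans (h b).symm⟩
  exact ModuleCat.isZero_of_subsingleton N

theorem isZero_fjGp (T : BMCoh.PreTheory V R A) (M : A.Cat) (c : ℕ)
    (hc : ∀ (Y : BMCoh.Obj V) (y : Y.scheme) (i n : ℤ), (WeilCoh.pdim Y.scheme y : ℤ) + c < i →
      IsZero (T.ptGp Y y M i n))
    (X : BMCoh.Obj V) [IsReduced X.scheme] (j : ℕ) (i n : ℤ)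
    (hi : (WeilCoh.dim X.scheme : ℤ) + j + c < i) : IsZero (T.fjGp X j M i n) := by
  induction j with
  | zero =>
    obtain ⟨i0, rfl⟩ : ∃ i0, i = i0 + 1 := ⟨i - 1, by ring⟩
    apply isZero_of_forall_eq_zero
    intro β
    have hi' : i0 + 1 = (i0 + 1) + 2 * ((0 : ℕ) : ℤ) := by simp
    have hn' : n = n + ((0 : ℕ) : ℤ) := by simp
    have := fj0_mem T X M i0 n (i0 + 1) n hi' hn' ⊥ ?_ β
    · exact (Submodule.mem_bot R).1 this
    · intro x W γ
      have hpd : (WeilCoh.pdim X.scheme x.1 : ℤ) + c < i0 + 1 := by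
        have h3 := pdim_le_dim X x.1
        have h4 := x.2
        unfold codim at h4
        have : pdim X.scheme x.1 = dim X.scheme := by omega
        rw [this]
        simpa using hi
      have hz : ((T.ptι X x.1 (i0 + 1) n W).app M).hom γ = 0 :=
        eq_zero_of_isZero (hc X x.1 (i0 + 1) n hpd) _
      obtain ⟨W', hle, hW'⟩ := ocolimι_eq_zero T (X.ptSub x.1) _ M _ _ W γ hz
      refine ⟨W', hle, ?_⟩
      rw [hW', map_zero, map_zero]
      exact Submodule.zero_mem _
  | succ j ih =>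
    have hi0 : (WeilCoh.dim X.scheme : ℤ) + j + c < i := by push_cast at hi; omega
    have hz := ih hi0
    have hinj := injective_fjRes T X M j i n (by
      intro x hx
      apply hc X x
      have h3 := pdim_le_dim X x
      unfold codim at hx
      push_cast at hi
      omega)
    apply isZero_of_forall_eq_zero
    intro β
    apply hinj
    exact (eq_zero_of_isZero hz _).trans (eq_zero_of_isZero hz _).symm

end Vanish

end Groth.Agent.Lib.H15BMLevel0
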