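import Groth.Agent.Lib.H15BMExact

set_option autoImplicit false
set_option linter.style.haveILetI false
set_option linter.unusedSectionVars false
universe u

open CategoryTheory CategoryTheory.Limits AlgebraicGeometry Opposite Set Topology TopologicalSpace
open BMCoh WeilCoh Groth.Agent.Lib.H15BMGeom Groth.Agent.Lib.H15BMFilt Groth.Agent.Lib.H15BMDecomp
  Groth.Agent.Lib.H15BMData Groth.Agent.Lib.H15BMExt Groth.Agent.Lib.H15BMKer Groth.Agent.Lib.H15BMSeq
  Groth.Agent.Lib.H15BMKerGen Groth.Agent.Lib.H15BMLevel0 Groth.Agent.Lib.H15BMRetr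
  Groth.Agent.Lib.H15BMToFj Groth.Agent.Lib.H15BMAdd Groth.Agent.Lib.H15RedLift
  Groth.Agent.Lib.H15BMTot Groth.Agent.Lib.H15BMComp Groth.Agent.Lib.H15BMExact

/-!
helper15: refined unramified cohomology in top degree via the kernel of `∂ ∘ ι_*` modulo its image
(S15933).
-/

namespace Groth.Agent.Lib.H15BMNr

variable {V : ObjectProperty Scheme.{u}} [BMCoh.IsConstructible V] {R : Type u} [CommRing R]
  {A : BMCoh.Coefs R}

theorem isZero_fjGp' (T : BMCoh.PreTheory V R A) (M : A.Cat) (c : ℕ)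
    (X : BMCoh.Obj V) [IsReduced X.scheme]
    (hc : ∀ (y : X.scheme) (i n : ℤ), (WeilCoh.pdim X.scheme y : ℤ) + c < i →
      IsZero (T.ptGp X y M i n))
    (j : ℕ) (i n : ℤ)
    (hi : (WeilCoh.dim X.scheme : ℤ) + j + c < i) : IsZero (T.fjGp X j M i n) := by
  induction j with
  | zero =>
    obtain ⟨i0, rfl⟩ : ∃ i0, i = i0 + 1 := ⟨i - 1, by ring⟩
    apply isZero_of_forall_eq_zero
    intro β
    have hi' : i0 + 1 = (i0 + 1) + 2 * ((0 : ℕ) : ℤ) := by simp
    have hn' : n = n + ((0 : ℕ) : ℤ) := by simp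
    have := fj0_mem T X M i0 n (i0 + 1) n hi' hn' ⊥ ?_ β
    · exact (Submodule.mem_bot R).1 this
    · intro x W γ
      have hpd : (WeilCoh.pdim X.scheme x.1 : ℤ) + c < i0 + 1 := by
        have h3 := pdim_le_dim X x.1
        have h4 := x.2
        unfold codim at h4
        have : pdim X.scheme x.1 = dim X.scheme := by omega
        rw [this]
        simpa using hi
      have hz : ((T.ptι X x.1 (i0 + 1) n W).app M).hom γ = 0 :=
        eq_zero_of_isZero (hc x.1 (i0 + 1) n hpd) _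
      obtain ⟨W', hle, hW'⟩ := ocolimι_eq_zero T (X.ptSub x.1) _ M _ _ W γ hz
      refine ⟨W', hle, ?_⟩
      rw [hW', map_zero, map_zero]
      exact Submodule.zero_mem _
  | succ j ih =>
    have hi0 : (WeilCoh.dim X.scheme : ℤ) + j + c < i := by push_cast at hi; omega
    have hz := ih hi0
    have hinj := injective_fjRes T X M j i n (by
      intro x hx
      apply hc x
      have h3 := pdim_le_dim X x
      unfold codim at hx
      push_cast at hi
      omega)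
    apply isZero_of_forall_eq_zero
    intro β
    apply hinj
    exact (eq_zero_of_isZero hz _).trans (eq_zero_of_isZero hz _).symm

section Nr

variable (T : BMCoh.PreTheory V R A) (X : Obj V) [IsReduced X.scheme] (M : A.Cat) (c : ℕ)
  (hc : ∀ (y : X.scheme) (i n : ℤ), (WeilCoh.pdim X.scheme y : ℤ) + c < i →
      IsZero (T.ptGp X y M i n))

include hc in
theorem surjective_tot_of_vanish (q : ℕ) (P₀ : T.PushData X q) (b k a₀ n₀ : ℤ)
    (hb : a₀ = b + 2 * (q : ℤ)) (hk : n₀ = k + (q : ℤ))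
    (hdeg : (WeilCoh.dim X.scheme : ℤ) + q + c ≤ a₀) (α : T.fjGp X q M a₀ n₀) :
    ∃ ζ : T.ptSum X q M b k, (P₀.tot M b k a₀ n₀ hb hk).hom ζ = α := by
  classical
  cases q with
  | zero =>
    obtain ⟨i0, rfl⟩ : ∃ i0, a₀ = i0 + 1 := ⟨a₀ - 1, by ring⟩
    have := fj0_mem T X M i0 n₀ b k hb hk (LinearMap.range (P₀.tot M b k (i0 + 1) n₀ hb hk).hom)
      ?_ α
    · exact this
    · intro x W γ
      refine ⟨W, le_refl W, ?_⟩
      have hid := congrArg (fun f => f.hom γ) (idxRes_refl T (X.ptSub x.1) _ W M b k)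
      have hid' : (idxRes T (X.ptSub x.1) _ (le_refl W) M b k).hom γ = γ := hid
      rw [hid']
      have h1 := congrArg (fun f => f.hom γ) (pushData_cpt_big T X P₀ x W M b k (i0 + 1) n₀ hb hk)
      have h1' : (P₀.cpt x M b k (i0 + 1) n₀ hb hk).hom (((T.ptι X x.1 b k W).app M).hom γ) =
        ((T.fjι X 0 (i0 + 1) n₀ (bigIdx X x W)).app M).hom
          ((bigPush T X x W M b k (i0 + 1) n₀ hb hk).hom γ) := h1
      rw [← h1', ← P₀.tot_lof M b k (i0 + 1) n₀ hb hk x]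
      exact LinearMap.mem_range_self _ _
  | succ q' =>
    have hz : IsZero (T.fjGp X q' M a₀ n₀) := isZero_fjGp' T M c X hc q' a₀ n₀ (by
      push_cast at hdeg; omega)
    exact (exact_tot_fjRes T X P₀ M b k a₀ n₀ hb hk α).1 (eq_zero_of_isZero hz _)

include hc in
theorem nr_main (q : ℕ) (P₀ : T.PushData X q) (Q₀ : T.ResData X q)
    (P₁ : T.PushData X (q + 1)) (Q₁ : T.ResData X (q + 1)) (e m a n e' m' b k a₀ n₀ : ℤ)
    (hd : e + ((q + 1 : ℕ) : ℤ) = (WeilCoh.dim X.scheme : ℤ) + c)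
    (ha : a = e + 2 * ((q + 1 : ℕ) : ℤ)) (hn : n = m + ((q + 1 : ℕ) : ℤ))
    (he' : e' = a + 1 - 2 * (((q + 1 : ℕ) : ℤ) + 1)) (hm' : m' = n - (((q + 1 : ℕ) : ℤ) + 1))
    (hb : a₀ = b + 2 * (q : ℤ)) (hk : n₀ = k + (q : ℤ)) (he : e = a₀ + 1 - 2 * ((q : ℤ) + 1))
    (hm : m = n₀ - ((q : ℤ) + 1)) :
    (∀ α : T.fjGp X (q + 1) M a n, α ∈ T.nr X (q + 1) a n M →
      ∃ ξ : T.ptSum X (q + 1) M e m,
        (Q₁.tot M a n e' m' he' hm').hom ((P₁.tot M e m a n ha hn).hom ξ) = 0 ∧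
          (P₁.tot M e m a n ha hn).hom ξ = α) ∧
    (∀ ξ : T.ptSum X (q + 1) M e m,
      (Q₁.tot M a n e' m' he' hm').hom ((P₁.tot M e m a n ha hn).hom ξ) = 0 →
      (P₁.tot M e m a n ha hn).hom ξ = 0 →
      ∃ ζ : T.ptSum X q M b k,
        (Q₀.tot M a₀ n₀ e m he hm).hom ((P₀.tot M b k a₀ n₀ hb hk).hom ζ) = ξ) := by
  constructor
  · rintro α ⟨β, rfl⟩
    have hQ : (Q₁.tot M a n e' m' he' hm').hom
        (((T.fjRes X (Nat.le_succ (q + 1)) a n).app M).hom β) = 0 :=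
      (exact_fjRes_tot T X (q + 1) Q₁ M a n e' m' he' hm' _).2 ⟨β, rfl⟩
    have hz : IsZero (T.fjGp X q M a n) := isZero_fjGp' T M c X hc q a n (by
      push_cast at hd ha; omega)
    obtain ⟨ξ, hξ⟩ := (exact_tot_fjRes T X P₁ M e m a n ha hn
      (((T.fjRes X (Nat.le_succ (q + 1)) a n).app M).hom β)).1 (eq_zero_of_isZero hz _)
    refine ⟨ξ, ?_, hξ⟩
    rw [hξ]
    exact hQ
  · intro ξ _ hP
    obtain rfl : a = a₀ + 1 := by push_cast at ha; omega
    obtain rfl : n = n₀ := by push_cast at hn; omega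
    obtain ⟨α, hα⟩ := (exact_tot_tot T X Q₀ P₁ M a₀ n e m he hm ha hn ξ).1 hP
    obtain ⟨ζ, hζ⟩ := surjective_tot_of_vanish T X M c hc q P₀ b k a₀ n hb hk (by
      push_cast at hd; omega) α
    exact ⟨ζ, by rw [hζ]; exact hα⟩

end Nr

end Groth.Agent.Lib.H15BMNr
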