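import Groth.Agent.Lib.H15BMLevel0

set_option autoImplicit false
set_option linter.style.haveILetI false
set_option linter.unusedSectionVars false
universe u

open CategoryTheory CategoryTheory.Limits AlgebraicGeometry Opposite Set Topology TopologicalSpace
open BMCoh WeilCoh Groth.Agent.Lib.H15BMGeom Groth.Agent.Lib.H15BMFilt Groth.Agent.Lib.H15BMDecomp
  Groth.Agent.Lib.H15BMData Groth.Agent.Lib.H15BMExt Groth.Agent.Lib.H15BMKer Groth.Agent.Lib.H15BMSeq
  Groth.Agent.Lib.H15BMKerGen Groth.Agent.Lib.H15BMLevel0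

/-!
helper15: the push-forward `⊕ H(x) → H(F_0X)` over the points of codimension 0 of a reduced object is
bijective (S15930): retraction onto the group of a generic point.
-/

namespace Groth.Agent.Lib.H15BMRetr

variable {V : ObjectProperty Scheme.{u}} [BMCoh.IsConstructible V] {R : Type u} [CommRing R]
  {A : BMCoh.Coefs R}

section PullComp

variable (T : BMCoh.PreTheory V R A)

theorem pull_comp {Y₁ Y₂ Y₃ : Obj V} (g : Y₁ ⟶ Y₂) (f : Y₂ ⟶ Y₃) (M : A.Cat) (i n : ℤ) :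
    T.pull f M i n ≫ T.pull g M i n = T.pull (g ≫ f) M i n := by
  show ((T.H i n).map f.op).app M ≫ ((T.H i n).map g.op).app M = ((T.H i n).map (g ≫ f).op).app M
  rw [← NatTrans.comp_app, ← Functor.map_comp, ← op_comp]

end PullComp

section Retr

variable (T : BMCoh.PreTheory V R A) (X : Obj V) [IsReduced X.scheme] (x₀ : X.cdPt 0)

/-- the open set of points lying only on the component of `x₀` -/
noncomputable def compOpen : X.scheme.Opens := goodOpen X ⊥ x₀.1

theorem mem_compOpen : x₀.1 ∈ compOpen X x₀ :=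
  mem_goodOpen_of_max X ⊥ x₀.1 (fun t _ hxt => max_of_codim_zero X x₀.1 x₀.2 t hxt)

theorem compOpen_subset_closure : (compOpen X x₀ : Set X.scheme) ⊆ closure {x₀.1} := by
  intro z hz
  exact goodOpen_diff_subset X ⊥ x₀.1 ⟨hz, fun h => h⟩

/-- the part of an open lying only on the component of `x₀` -/
noncomputable def retrOpen (U : X.scheme.Opens) : X.scheme.Opens := U ⊓ compOpen X x₀

theorem retrOpen_le (U : X.scheme.Opens) : retrOpen X x₀ U ≤ U := inf_le_left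

theorem dim_retrOpen (U : X.scheme.Opens) (hU : x₀.1 ∈ U) :
    dim (retrOpen X x₀ U : Scheme.{u}) = dim X.scheme :=
  dim_eq_of_mem_codim_zero X _ x₀.1 x₀.2 ⟨hU, mem_compOpen X x₀⟩

/-- the same set, as an open of the reduced closure of `x₀` -/
noncomputable def retrW (U : X.scheme.Opens) (hU : x₀.1 ∈ U) : ptIdx X x₀.1 :=
  pieceInIdx X x₀.1 (retrOpen X x₀ U) ⟨hU, mem_compOpen X x₀⟩

theorem pieceSet_retrW (U : X.scheme.Opens) (hU : x₀.1 ∈ U) :
    pieceSet X x₀.1 (retrW X x₀ U hU).1 = retrOpen X x₀ U := by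
  show pieceSet X x₀.1 (pieceIn X x₀.1 (retrOpen X x₀ U)) = _
  rw [pieceSet_pieceIn]
  apply Set.inter_eq_right.2
  intro z hz
  exact compOpen_subset_closure X x₀ hz.2

theorem retrW_mono {U' U : X.scheme.Opens} (h : U' ≤ U) (hU' : x₀.1 ∈ U') :
    retrW X x₀ U' hU' ≤ retrW X x₀ U (h hU') := by
  intro z hz
  exact ⟨h hz.1, hz.2⟩

/-- the isomorphism between the two, as a morphism of objects -/
noncomputable def retrφ (U : X.scheme.Opens) (hU : x₀.1 ∈ U) :
    (X.ptSub x₀.1).res (retrW X x₀ U hU).1 ⟶ X.res (retrOpen X x₀ U) :=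
  haveI := isIso_pieceLift X x₀.1 (retrW X x₀ U hU).1 (retrOpen X x₀ U)
    (pieceSet_retrW X x₀ U hU).le (pieceSet_retrW X x₀ U hU).ge
  ⟨pieceLift X x₀.1 (retrW X x₀ U hU).1 (retrOpen X x₀ U) (pieceSet_retrW X x₀ U hU).le,
    inferInstance, by
      show dim ((retrW X x₀ U hU).1 : Scheme.{u}) = dim (retrOpen X x₀ U : Scheme.{u})
      have h1 := (retrW X x₀ U hU).2.2
      have h2 := dim_ptSub X x₀.1
      have h3 := pdim_le_dim X x₀.1
      have h4 := x₀.2
      have h5 := dim_retrOpen X x₀ U hU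
      unfold codim at h4
      omega⟩

instance (U : X.scheme.Opens) (hU : x₀.1 ∈ U) : IsIso (retrφ X x₀ U hU).hom :=
  isIso_pieceLift X x₀.1 (retrW X x₀ U hU).1 (retrOpen X x₀ U)
    (pieceSet_retrW X x₀ U hU).le (pieceSet_retrW X x₀ U hU).ge

end Retr

section RetrMap

variable (T : BMCoh.PreTheory V R A) (X : Obj V) [IsReduced X.scheme] (x₀ : X.cdPt 0)

theorem mem_of_idx0 (U : Idx X (ContainsFj X 0)) : x₀.1 ∈ U.1 := U.2.1 x₀.1 (le_of_eq x₀.2)

/-- inclusion of the `x₀`-part of `U` into `U`, as a morphism of objects -/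
noncomputable def retrIncl (U : Idx X (ContainsFj X 0)) : X.res (retrOpen X x₀ U.1) ⟶ X.res U.1 :=
  X.resLE (retrOpen_le X x₀ U.1)
    ((dim_retrOpen X x₀ U.1 (mem_of_idx0 X x₀ U)).trans U.2.2.symm)

/-- the composite from the `x₀`-piece of `U` to `U` -/
noncomputable def retrTot (U : Idx X (ContainsFj X 0)) :
    (X.ptSub x₀.1).res (retrW X x₀ U.1 (mem_of_idx0 X x₀ U)).1 ⟶ X.res U.1 :=
  retrφ X x₀ U.1 (mem_of_idx0 X x₀ U) ≫ retrIncl X x₀ U

theorem retrTot_ι (U : Idx X (ContainsFj X 0)) :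
    (retrTot X x₀ U).hom ≫ U.1.ι =
      (retrW X x₀ U.1 (mem_of_idx0 X x₀ U)).1.ι ≫ X.ptSubι x₀.1 := by
  show (pieceLift X x₀.1 (retrW X x₀ U.1 (mem_of_idx0 X x₀ U)).1 (retrOpen X x₀ U.1)
    (pieceSet_retrW X x₀ U.1 (mem_of_idx0 X x₀ U)).le ≫
      X.scheme.homOfLE (retrOpen_le X x₀ U.1)) ≫ U.1.ι = _
  rw [Category.assoc, Scheme.homOfLE_ι, pieceLift_ι]

/-- the component of the retraction on an open `U ⊇ F_0X` -/
noncomputable def retrMap (U : Idx X (ContainsFj X 0)) (M : A.Cat) (i n : ℤ) :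
    T.gp (X.res U.1) M i n ⟶ T.ptGp X x₀.1 M i n :=
  T.pull (retrTot X x₀ U) M i n ≫
    (T.ptι X x₀.1 i n (retrW X x₀ U.1 (mem_of_idx0 X x₀ U))).app M

theorem retrMap_comp {U' U : Idx X (ContainsFj X 0)} (hle : U' ≤ U) (M : A.Cat) (i n : ℤ) :
    idxRes T X (ContainsFj X 0) hle M i n ≫ retrMap T X x₀ U' M i n =
      retrMap T X x₀ U M i n := by
  have hW : retrW X x₀ U'.1 (mem_of_idx0 X x₀ U') ≤ retrW X x₀ U.1 (mem_of_idx0 X x₀ U) :=
    retrW_mono X x₀ hle (mem_of_idx0 X x₀ U')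
  have hsq : retrTot X x₀ U' ≫ X.resLE hle (U'.2.2.trans U.2.2.symm) =
      (X.ptSub x₀.1).resLE hW ((retrW X x₀ U'.1 (mem_of_idx0 X x₀ U')).2.2.trans
        (retrW X x₀ U.1 (mem_of_idx0 X x₀ U)).2.2.symm) ≫ retrTot X x₀ U := by
    apply BMCoh.Hom.ext
    rw [← cancel_mono U.1.ι]
    show ((retrTot X x₀ U').hom ≫ X.scheme.homOfLE hle) ≫ U.1.ι =
      ((X.ptSub x₀.1).scheme.homOfLE hW ≫ (retrTot X x₀ U).hom) ≫ U.1.ι
    rw [Category.assoc, Scheme.homOfLE_ι, retrTot_ι, Category.assoc, retrTot_ι,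
      ← Category.assoc, Scheme.homOfLE_ι]
  unfold retrMap
  rw [← Category.assoc]
  have h1 : idxRes T X (ContainsFj X 0) hle M i n ≫ T.pull (retrTot X x₀ U') M i n =
      T.pull (retrTot X x₀ U) M i n ≫ idxRes T (X.ptSub x₀.1) _ hW M i n := by
    show T.pull (X.resLE hle (U'.2.2.trans U.2.2.symm)) M i n ≫ T.pull (retrTot X x₀ U') M i n =
      T.pull (retrTot X x₀ U) M i n ≫ T.pull ((X.ptSub x₀.1).resLE hW
        ((retrW X x₀ U'.1 (mem_of_idx0 X x₀ U')).2.2.trans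
          (retrW X x₀ U.1 (mem_of_idx0 X x₀ U)).2.2.symm)) M i n
    rw [pull_comp, pull_comp, hsq]
  rw [h1, Category.assoc, idxRes_ocolimι]

/-- the retraction `H(F_0X) → H(x₀)` -/
noncomputable def retr (M : A.Cat) (i n : ℤ) : T.fjGp X 0 M i n ⟶ T.ptGp X x₀.1 M i n :=
  (evalIsColimit T X (ContainsFj X 0) M i n).desc
    ⟨T.ptGp X x₀.1 M i n,
      { app := fun U => retrMap T X x₀ (unop U) M i n
        naturality := by
          intro U U' f
          have := retrMap_comp T X x₀ (leOfHom f.unop) M i n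
          simp only [Functor.const_obj_obj, Functor.const_obj_map]
          exact this }⟩

theorem fjι_retr (U : Idx X (ContainsFj X 0)) (M : A.Cat) (i n : ℤ) :
    (T.fjι X 0 i n U).app M ≫ retr T X x₀ M i n = retrMap T X x₀ U M i n :=
  (evalIsColimit T X (ContainsFj X 0) M i n).fac _ (op U)

end RetrMap

section Compute

variable (T : BMCoh.PreTheory V R A) (X : Obj V)

/-- decomposition of the big open of a piece into the piece and the complement of the closure,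
when the latter has full dimension -/
noncomputable def bigDecompG {m : ℕ} (x : X.cdPt m) (W : ptIdx X x.1)
    (hd : dim (inOpen X (bigOpen X x.1 W.1) x.1 : Scheme.{u}) = dim X.scheme) :
    Decomp (X.res (bigOpen X x.1 W.1)) :=
  pieceDecomp X x.1 W.1 (bigOpen X x.1 W.1) (inOpen X (bigOpen X x.1 W.1) x.1)
    (inOpen_le X _ x.1)
    (by
      ext z
      constructor
      · intro hz
        by_cases hzx : z ∈ closure ({x.1} : Set X.scheme)
        · exact Or.inr (closure_inter_bigOpen_subset X x.1 W.1 ⟨hzx, hz⟩)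
        · exact Or.inl ⟨hz, hzx⟩
      · rintro (hz | hz)
        · exact hz.1
        · exact pieceSet_subset_bigOpen X x.1 W.1 hz)
    (by
      rw [Set.eq_empty_iff_forall_notMem]
      rintro z ⟨hz, hz'⟩
      exact hz'.2 hz)
    (hd.trans (bigIdx X x W).2.2.symm)

theorem bigPush_res_eq_zeroG {m : ℕ} (x : X.cdPt m) (W : ptIdx X x.1)
    (hd : dim (inOpen X (bigOpen X x.1 W.1) x.1 : Scheme.{u}) = dim X.scheme)
    (M : A.Cat) (i0 n i' n' : ℤ)
    (hi' : i0 + 1 = i' + 2 * (m : ℤ)) (hn' : n = n' + (m : ℤ))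
    (γ : T.gp ((X.ptSub x.1).res W.1) M i' n') :
    (idxRes T X (PT X) (U' := mkLow X (inOpen X (bigOpen X x.1 W.1) x.1) hd)
      (U := low X (bigIdx X x W)) (inOpen_le X _ x.1) M (i0 + 1) n).hom
      ((bigPush T X x W M i' n' (i0 + 1) n hi' hn').hom γ) = 0 := by
  let D := bigDecompG X x W hd
  have hrc : relCodim D.Z.scheme (X.res (bigOpen X x.1 W.1)).scheme = (m : ℤ) :=
    relCodim_piece X x.1 x.2 W.1 W.2.2 (bigOpen X x.1 W.1) (bigIdx X x W).2.2
  have hiD : i0 + 1 = i' + 2 * relCodim D.Z.scheme (X.res (bigOpen X x.1 W.1)).scheme := by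
    rw [hrc]; exact hi'
  have hnD : n = n' + relCodim D.Z.scheme (X.res (bigOpen X x.1 W.1)).scheme := by
    rw [hrc]; exact hn'
  exact (T.exact_push_pull D M i0 n i' n' hiD hnD).apply_apply_eq_zero γ

end Compute

section Main0

variable (T : BMCoh.PreTheory V R A) (X : Obj V) [IsReduced X.scheme]

theorem retrW_le_of_big (x₀ : X.cdPt 0) (W : ptIdx X x₀.1) (h : x₀.1 ∈ bigOpen X x₀.1 W.1) :
    retrW X x₀ (bigOpen X x₀.1 W.1) h ≤ W := by
  intro z hz
  have hz1 : (X.ptSubι x₀.1) z ∈ bigOpen X x₀.1 W.1 := hz.1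
  have hz2 : (X.ptSubι x₀.1) z ∈ closure ({x₀.1} : Set X.scheme) := by
    rw [← range_ptSubι]
    exact Set.mem_range_self z
  obtain ⟨z', hz', hzz'⟩ := closure_inter_bigOpen_subset X x₀.1 W.1 ⟨hz2, hz1⟩
  have hinj : Function.Injective (X.ptSubι x₀.1) := (X.ptSubι x₀.1).isEmbedding.injective
  rw [← hinj hzz']
  exact hz'

theorem retr_cpt_self (P : T.PushData X 0) (x₀ : X.cdPt 0) (M : A.Cat) (i n : ℤ)
    (hi : i = i + 2 * ((0 : ℕ) : ℤ)) (hn : n = n + ((0 : ℕ) : ℤ)) (a : T.ptGp X x₀.1 M i n) :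
    (retr T X x₀ M i n).hom ((P.cpt x₀ M i n i n hi hn).hom a) = a := by
  obtain ⟨W, γ, rfl⟩ := ocolim_exists_rep T (X.ptSub x₀.1) _ M i n a
  let B : Idx X (ContainsFj X 0) := bigIdx X x₀ W
  let c := (bigPush T X x₀ W M i n i n hi hn).hom γ
  have h1 : (P.cpt x₀ M i n i n hi hn).hom (((T.ocolimι (X.ptSub x₀.1) _ i n W).app M).hom γ) =
      ((T.fjι X 0 i n B).app M).hom c :=
    congrArg (fun k => k.hom γ) (pushData_cpt_big T X P x₀ W M i n i n hi hn)
  rw [h1]
  have h2 : (retr T X x₀ M i n).hom (((T.fjι X 0 i n B).app M).hom c) =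
      (retrMap T X x₀ B M i n).hom c := congrArg (fun k => k.hom c) (fjι_retr T X x₀ B M i n)
  rw [h2]
  have hxB : x₀.1 ∈ B.1 := mem_of_idx0 X x₀ B
  let WB : ptIdx X x₀.1 := retrW X x₀ B.1 hxB
  let VB : X.scheme.Opens := retrOpen X x₀ B.1
  have hle : WB ≤ W := retrW_le_of_big X x₀ W hxB
  have hWB : pieceSet X x₀.1 WB.1 ⊆ VB := (pieceSet_retrW X x₀ B.1 hxB).le
  have hclB : closure ({x₀.1} : Set X.scheme) ∩ VB ⊆ pieceSet X x₀.1 WB.1 :=
    fun z hz => (pieceSet_retrW X x₀ B.1 hxB).ge hz.2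
  have hdVB : dim (VB : Scheme.{u}) = dim X.scheme := dim_retrOpen X x₀ B.1 hxB
  have hrcB : relCodim (W.1 : Scheme.{u}) (bigOpen X x₀.1 W.1 : Scheme.{u}) = ((0 : ℕ) : ℤ) :=
    relCodim_piece X x₀.1 x₀.2 W.1 W.2.2 (bigOpen X x₀.1 W.1) B.2.2
  have hiB : i = i + 2 * relCodim (W.1 : Scheme.{u}) (bigOpen X x₀.1 W.1 : Scheme.{u}) := by
    rw [hrcB]; exact hi
  have hnB : n = n + relCodim (W.1 : Scheme.{u}) (bigOpen X x₀.1 W.1 : Scheme.{u}) := by
    rw [hrcB]; exact hn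
  have hrcV : relCodim (WB.1 : Scheme.{u}) (VB : Scheme.{u}) = ((0 : ℕ) : ℤ) :=
    relCodim_piece X x₀.1 x₀.2 WB.1 WB.2.2 VB hdVB
  have hiV : i = i + 2 * relCodim (WB.1 : Scheme.{u}) (VB : Scheme.{u}) := by
    rw [hrcV]; exact hi
  have hnV : n = n + relCodim (WB.1 : Scheme.{u}) (VB : Scheme.{u}) := by
    rw [hrcV]; exact hn
  have key := piecePush_pull T X x₀.1 hle (O' := VB) (O := bigOpen X x₀.1 W.1)
    (retrOpen_le X x₀ B.1) (pieceSet_subset_bigOpen X x₀.1 W.1) hWB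
    (closure_inter_bigOpen_subset X x₀.1 W.1) hclB (WB.2.2.trans W.2.2.symm)
    (hdVB.trans B.2.2.symm) M i n i n hiB hnB hiV hnV
  have key' := congrArg (fun k => k.hom γ) key
  let γ' := (idxRes T (X.ptSub x₀.1) _ hle M i n).hom γ
  have h3 : (T.pull (retrIncl X x₀ B) M i n).hom c =
      (piecePush T X x₀.1 WB.1 VB hWB hclB M i n i n hiV hnV).hom γ' := key'
  have h4 : (T.pull (retrTot X x₀ B) M i n).hom c = γ' := by
    have hc := congrArg (fun k => k.hom c)
      (pull_comp T (retrφ X x₀ B.1 hxB) (retrIncl X x₀ B) M i n)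
    have hc' : (T.pull (retrTot X x₀ B) M i n).hom c =
        (T.pull (retrφ X x₀ B.1 hxB) M i n).hom ((T.pull (retrIncl X x₀ B) M i n).hom c) :=
      hc.symm
    rw [hc', h3]
    exact congrArg (fun k => k.hom γ')
      (pull_push_self' T (retrφ X x₀ B.1 hxB) M i n hiV hnV)
  show ((T.ptι X x₀.1 i n WB).app M).hom ((T.pull (retrTot X x₀ B) M i n).hom c) = _
  rw [h4]
  exact idxRes_ocolimι_apply T (X.ptSub x₀.1) _ hle M i n γ

theorem retr_cpt_ne (P : T.PushData X 0) (x₀ x : X.cdPt 0) (hne : x ≠ x₀) (M : A.Cat) (i n : ℤ)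
    (hi : i = i + 2 * ((0 : ℕ) : ℤ)) (hn : n = n + ((0 : ℕ) : ℤ)) (a : T.ptGp X x.1 M i n) :
    (retr T X x₀ M i n).hom ((P.cpt x M i n i n hi hn).hom a) = 0 := by
  obtain ⟨i0, rfl⟩ : ∃ i0, i = i0 + 1 := ⟨i - 1, by ring⟩
  obtain ⟨W, γ, rfl⟩ := ocolim_exists_rep T (X.ptSub x.1) _ M (i0 + 1) n a
  let B : Idx X (ContainsFj X 0) := bigIdx X x W
  let c := (bigPush T X x W M (i0 + 1) n (i0 + 1) n hi hn).hom γ
  have h1 : (P.cpt x M (i0 + 1) n (i0 + 1) n hi hn).hom
      (((T.ocolimι (X.ptSub x.1) _ (i0 + 1) n W).app M).hom γ) =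
      ((T.fjι X 0 (i0 + 1) n B).app M).hom c :=
    congrArg (fun k => k.hom γ) (pushData_cpt_big T X P x W M (i0 + 1) n (i0 + 1) n hi hn)
  rw [h1]
  have h2 : (retr T X x₀ M (i0 + 1) n).hom (((T.fjι X 0 (i0 + 1) n B).app M).hom c) =
      (retrMap T X x₀ B M (i0 + 1) n).hom c :=
    congrArg (fun k => k.hom c) (fjι_retr T X x₀ B M (i0 + 1) n)
  rw [h2]
  have hxB : x₀.1 ∈ B.1 := mem_of_idx0 X x₀ B
  let VB : X.scheme.Opens := retrOpen X x₀ B.1
  have hdVB : dim (VB : Scheme.{u}) = dim X.scheme := dim_retrOpen X x₀ B.1 hxB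
  let I : X.scheme.Opens := inOpen X (bigOpen X x.1 W.1) x.1
  have hx₀x : x₀.1 ∉ closure ({x.1} : Set X.scheme) := by
    intro h
    exact hne (Subtype.ext (max_of_codim_zero X x₀.1 x₀.2 x.1 h))
  have hxx₀ : x.1 ∉ closure ({x₀.1} : Set X.scheme) := by
    intro h
    exact hne (Subtype.ext (max_of_codim_zero X x.1 x.2 x₀.1 h).symm)
  have hxI : x₀.1 ∈ I := ⟨hxB, hx₀x⟩
  have hdI : dim (I : Scheme.{u}) = dim X.scheme := dim_eq_of_mem_codim_zero X I x₀.1 x₀.2 hxI
  have hVI : mkLow X VB hdVB ≤ mkLow X I hdI := by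
    intro z hz
    refine ⟨hz.1, ?_⟩
    intro hzx
    apply hz.2
    have hsub : closure ({x.1} : Set X.scheme) ⊆
        closure ((((⊥ : X.scheme.Opens) : Set X.scheme))ᶜ \ closure ({x₀.1} : Set X.scheme)) :=
      closure_mono (Set.singleton_subset_iff.2 ⟨fun h => h, hxx₀⟩)
    exact hsub hzx
  have hIB : mkLow X I hdI ≤ low X B := inOpen_le X _ x.1
  have hz := bigPush_res_eq_zeroG T X x W hdI M i0 n (i0 + 1) n hi hn γ
  have h3 : (T.pull (retrIncl X x₀ B) M (i0 + 1) n).hom c = 0 := by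
    have := idxRes_comp_apply T X (PT X) hVI hIB M (i0 + 1) n c
    refine Eq.trans ?_ (this.symm.trans ?_)
    · rfl
    · show (idxRes T X (PT X) hVI M (i0 + 1) n).hom
        ((idxRes T X (PT X) hIB M (i0 + 1) n).hom c) = 0
      rw [hz, map_zero]
  have hc := congrArg (fun k => k.hom c)
    (pull_comp T (retrφ X x₀ B.1 hxB) (retrIncl X x₀ B) M (i0 + 1) n)
  have hc' : (T.pull (retrTot X x₀ B) M (i0 + 1) n).hom c =
      (T.pull (retrφ X x₀ B.1 hxB) M (i0 + 1) n).hom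
        ((T.pull (retrIncl X x₀ B) M (i0 + 1) n).hom c) := hc.symm
  show ((T.ptι X x₀.1 (i0 + 1) n (retrW X x₀ B.1 hxB)).app M).hom
    ((T.pull (retrTot X x₀ B) M (i0 + 1) n).hom c) = 0
  rw [hc', h3, map_zero, map_zero]

theorem bijective_tot0 (P : T.PushData X 0) (M : A.Cat) (i n i' n' : ℤ)
    (hi : i' = i + 2 * ((0 : ℕ) : ℤ)) (hn : n' = n + ((0 : ℕ) : ℤ)) :
    Function.Bijective (P.tot M i n i' n' hi hn).hom := by
  classical
  have hi0 : i = i' := by
    have := hi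
    simp only [Nat.cast_zero, mul_zero, add_zero] at this
    exact this.symm
  subst hi0
  have hn0 : n = n' := by
    have := hn
    simp only [Nat.cast_zero, add_zero] at this
    exact this.symm
  subst hn0
  constructor
  · rw [injective_iff_map_eq_zero]
    intro ξ hξ
    refine DFinsupp.ext fun x₀ => ?_
    have hcomp : (retr T X x₀ M i n).hom.comp (P.tot M i n i n hi hn).hom =
        DirectSum.component R (X.cdPt 0) (fun y : X.cdPt 0 => T.ptGp X y.1 M i n) x₀ := by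
      apply DirectSum.linearMap_ext
      intro x
      ext a
      show (retr T X x₀ M i n).hom ((P.tot M i n i n hi hn).hom (DirectSum.lof R (X.cdPt 0)
          (fun y : X.cdPt 0 => T.ptGp X y.1 M i n) x a)) =
        (DirectSum.lof R (X.cdPt 0) (fun y : X.cdPt 0 => T.ptGp X y.1 M i n) x a) x₀
      rw [P.tot_lof M i n i n hi hn x a]
      by_cases hx : x = x₀
      · subst hx
        rw [retr_cpt_self]
        exact (DirectSum.lof_apply (M := fun y : X.cdPt 0 => T.ptGp X y.1 M i n) R x a).symm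
      · rw [retr_cpt_ne T X P x₀ x hx]
        exact (DirectSum.of_eq_of_ne (β := fun y : X.cdPt 0 => T.ptGp X y.1 M i n) x x₀ a
          (fun h => hx h.symm)).symm
    have h1 := congrArg (fun f => f ξ) hcomp
    have h2 : (retr T X x₀ M i n).hom ((P.tot M i n i n hi hn).hom ξ) = ξ x₀ := h1
    rw [hξ, map_zero] at h2
    exact h2.symm
  · obtain ⟨i0, rfl⟩ : ∃ i0, i = i0 + 1 := ⟨i - 1, by ring⟩
    intro β
    have := fj0_mem T X M i0 n (i0 + 1) n hi hn
      (LinearMap.range (P.tot M (i0 + 1) n (i0 + 1) n hi hn).hom) ?_ β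
    · exact this
    · intro x W γ
      refine ⟨W, le_refl W, ?_⟩
      have hid := congrArg (fun k => k.hom γ) (idxRes_refl T (X.ptSub x.1) _ W M (i0 + 1) n)
      have hid' : (idxRes T (X.ptSub x.1) _ (le_refl W) M (i0 + 1) n).hom γ = γ := hid
      rw [hid']
      have h1 := congrArg (fun k => k.hom γ)
        (pushData_cpt_big T X P x W M (i0 + 1) n (i0 + 1) n hi hn)
      have h1' : (P.cpt x M (i0 + 1) n (i0 + 1) n hi hn).hom
          (((T.ptι X x.1 (i0 + 1) n W).app M).hom γ) =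
        ((T.fjι X 0 (i0 + 1) n (bigIdx X x W)).app M).hom
          ((bigPush T X x W M (i0 + 1) n (i0 + 1) n hi hn).hom γ) := h1
      rw [← h1', ← P.tot_lof M (i0 + 1) n (i0 + 1) n hi hn x]
      exact LinearMap.mem_range_self _ _

end Main0

end Groth.Agent.Lib.H15BMRetr
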