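import Groth.Agent.Lib.H15BMKer

set_option autoImplicit false
set_option linter.style.haveILetI false
set_option linter.unusedSectionVars false
universe u

open CategoryTheory CategoryTheory.Limits AlgebraicGeometry Opposite Set Topology TopologicalSpace
open BMCoh WeilCoh Groth.Agent.Lib.H15BMGeom Groth.Agent.Lib.H15BMFilt Groth.Agent.Lib.H15BMDecomp
  Groth.Agent.Lib.H15BMData Groth.Agent.Lib.H15BMExt Groth.Agent.Lib.H15BMKer

/-!
helper15: exactness statements for the groups of `F_jX` (Schreieder Lemma 5.8) from the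
extension and kernel inductions.
-/

namespace Groth.Agent.Lib.H15BMSeq

variable {V : ObjectProperty Scheme.{u}} [BMCoh.IsConstructible V] {R : Type u} [CommRing R]
  {A : BMCoh.Coefs R}

theorem eq_zero_of_isZero {M : ModuleCat.{u} R} (h : IsZero M) (a : M) : a = 0 := by
  haveI := ModuleCat.subsingleton_of_isZero h
  exact Subsingleton.elim _ _

theorem surjective_fjRes (T : BMCoh.PreTheory V R A) (X : Obj V) (M : A.Cat) (j : ℕ) (i n : ℤ)
    (h1 : ∀ x : X.scheme, codim X.scheme x = j + 1 →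
      IsZero (T.ptGp X x M (i + 1 - 2 * ((j : ℤ) + 1)) (n - ((j : ℤ) + 1)))) :
    Function.Surjective ((T.fjRes X (Nat.le_succ j) i n).app M).hom := by
  intro α
  exact extend_all T X M i n _ _ rfl rfl α
    (fun U₀ a _ x hx W hW => eq_zero_of_isZero (h1 x.1 x.2) _)

theorem injective_fjRes (T : BMCoh.PreTheory V R A) (X : Obj V) (M : A.Cat) (j : ℕ) (i n : ℤ)
    (h0 : ∀ x : X.scheme, codim X.scheme x = j + 1 →
      IsZero (T.ptGp X x M (i - 2 * ((j : ℤ) + 1)) (n - ((j : ℤ) + 1)))) :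
    Function.Injective ((T.fjRes X (Nat.le_succ j) i n).app M).hom := by
  obtain ⟨i0, rfl⟩ : ∃ i0, i = i0 + 1 := ⟨i - 1, by ring⟩
  rw [injective_iff_map_eq_zero]
  intro β hβ
  have hi' : i0 + 1 = (i0 + 1 - 2 * ((j : ℤ) + 1)) + 2 * ((j + 1 : ℕ) : ℤ) := by
    push_cast; ring
  have hn' : n = (n - ((j : ℤ) + 1)) + ((j + 1 : ℕ) : ℤ) := by
    push_cast; ring
  have := kernel_all T X M i0 n _ _ hi' hn' ⊥ ?_ β hβ
  · exact (Submodule.mem_bot R).1 this
  · intro x W γ
    have hz : ((T.ptι X x.1 _ _ W).app M).hom γ = 0 := eq_zero_of_isZero (h0 x.1 x.2) _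
    obtain ⟨W', hle, hW'⟩ := ocolimι_eq_zero T (X.ptSub x.1) _ M _ _ W γ hz
    refine ⟨W', hle, ?_⟩
    rw [hW', map_zero, map_zero]
    exact Submodule.zero_mem _

theorem exact_fjRes_tot (T : BMCoh.PreTheory V R A) (X : Obj V) (j : ℕ) (Q : T.ResData X j)
    (M : A.Cat) (i n i' n' : ℤ) (hi : i' = i + 1 - 2 * ((j : ℤ) + 1))
    (hn : n' = n - ((j : ℤ) + 1)) :
    Function.Exact ((T.fjRes X (Nat.le_succ j) i n).app M).hom (Q.tot M i n i' n' hi hn).hom := by
  intro α
  constructor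
  · intro hα
    have hcpt : ∀ x : X.cdPt (j + 1), (Q.cpt x M i n i' n' hi hn).hom α = 0 := by
      intro x
      have := congrArg (fun f => f x) hα
      exact this
    refine extend_all T X M i n i' n' hi hn α ?_
    intro U₀ a ha x hx W hW
    have h1 := resData_cpt_out T X Q U₀ x hx W hW M i n i' n' hi hn
      (hiD_out X U₀ x hx W hW hi) (hnD_out X U₀ x hx W hW hn)
    have h2 := congrArg (fun k => k.hom a) h1
    refine h2.symm.trans ?_
    show (Q.cpt x M i n i' n' hi hn).hom (((T.fjι X j i n U₀).app M).hom a) = 0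
    rw [ha]
    exact hcpt x
  · rintro ⟨β, rfl⟩
    obtain ⟨U', b, rfl⟩ := ocolim_exists_rep T X (ContainsFj X (j + 1)) M i n β
    refine DFinsupp.ext fun x => ?_
    show (Q.cpt x M i n i' n' hi hn).hom _ = 0
    have h1 := congrArg (fun k => k.hom b) (fjRes_fjι T X (Nat.le_succ j) U' M i n)
    have h1' : ((T.fjRes X (Nat.le_succ j) i n).app M).hom
        (((T.ocolimι X (ContainsFj X (j + 1)) i n U').app M).hom b) =
        ((T.fjι X j i n (up X U')).app M).hom b := h1
    rw [h1']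
    have hxU' : x.1 ∈ (up X U').1 := U'.2.1 x.1 (le_of_eq x.2)
    have h2 := resData_cpt_in T X Q (up X U') x hxU' M i n i' n' hi hn
    exact congrArg (fun k => k.hom b) h2

section BigDecomp

variable (T : BMCoh.PreTheory V R A) (X : Obj V) {j : ℕ}

/-- the big open of a piece minus the closure of the point -/
noncomputable def bigInIdx (x : X.cdPt (j + 1)) (W : ptIdx X x.1) : Idx X (ContainsFj X j) :=
  inIdx X (up X (bigIdx X x W)) x

theorem bigInIdx_le (x : X.cdPt (j + 1)) (W : ptIdx X x.1) :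
    bigInIdx X x W ≤ up X (bigIdx X x W) := inOpen_le X _ x.1

/-- decomposition of the big open of a piece into the piece and the complement of the closure -/
noncomputable def bigDecomp (x : X.cdPt (j + 1)) (W : ptIdx X x.1) :
    Decomp (X.res (bigOpen X x.1 W.1)) :=
  pieceDecomp X x.1 W.1 (bigOpen X x.1 W.1) (inOpen X (bigOpen X x.1 W.1) x.1)
    (inOpen_le X _ x.1)
    (by
      ext z
      constructor
      · intro hz
        by_cases hzx : z ∈ closure ({x.1} : Set X.scheme)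
        · exact Or.inr (closure_inter_bigOpen_subset X x.1 W.1 ⟨hzx, hz⟩)
        · exact Or.inl ⟨hz, hzx⟩
      · rintro (hz | hz)
        · exact hz.1
        · exact pieceSet_subset_bigOpen X x.1 W.1 hz)
    (by
      rw [Set.eq_empty_iff_forall_notMem]
      rintro z ⟨hz, hz'⟩
      exact hz'.2 hz)
    ((bigInIdx X x W).2.2.trans (bigIdx X x W).2.2.symm)

/-- the push-forward of a class on a piece to its big open dies away from the closure -/
theorem bigPush_res_eq_zero (x : X.cdPt (j + 1)) (W : ptIdx X x.1) (M : A.Cat) (i0 n i' n' : ℤ)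
    (hi' : i0 + 1 = i' + 2 * ((j + 1 : ℕ) : ℤ)) (hn' : n = n' + ((j + 1 : ℕ) : ℤ))
    (γ : T.gp ((X.ptSub x.1).res W.1) M i' n') :
    (idxRes T X (ContainsFj X j) (bigInIdx_le X x W) M (i0 + 1) n).hom
      ((bigPush T X x W M i' n' (i0 + 1) n hi' hn').hom γ) = 0 := by
  let D := bigDecomp X x W
  have hrc : relCodim D.Z.scheme (X.res (bigOpen X x.1 W.1)).scheme = ((j + 1 : ℕ) : ℤ) :=
    relCodim_piece X x.1 x.2 W.1 W.2.2 (bigOpen X x.1 W.1) (bigIdx X x W).2.2
  have hiD : i0 + 1 = i' + 2 * relCodim D.Z.scheme (X.res (bigOpen X x.1 W.1)).scheme := by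
    rw [hrc]; exact hi'
  have hnD : n = n' + relCodim D.Z.scheme (X.res (bigOpen X x.1 W.1)).scheme := by
    rw [hrc]; exact hn'
  exact (T.exact_push_pull D M i0 n i' n' hiD hnD).apply_apply_eq_zero γ

end BigDecomp

section Exact2

variable (T : BMCoh.PreTheory V R A) (X : Obj V) {j : ℕ}

theorem fjRes_cpt_eq_zero (P : T.PushData X (j + 1)) (M : A.Cat) (i n i0 n' : ℤ)
    (hi : i0 + 1 = i + 2 * ((j + 1 : ℕ) : ℤ)) (hn : n' = n + ((j + 1 : ℕ) : ℤ))
    (x : X.cdPt (j + 1)) (a : T.ptGp X x.1 M i n) :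
    ((T.fjRes X (Nat.le_succ j) (i0 + 1) n').app M).hom
      ((P.cpt x M i n (i0 + 1) n' hi hn).hom a) = 0 := by
  obtain ⟨W, γ, rfl⟩ := ocolim_exists_rep T (X.ptSub x.1) _ M i n a
  have h1 := congrArg (fun k => k.hom γ) (pushData_cpt_big T X P x W M i n (i0 + 1) n' hi hn)
  have h1' : (P.cpt x M i n (i0 + 1) n' hi hn).hom (((T.ocolimι (X.ptSub x.1) _ i n W).app M).hom γ) =
      ((T.fjι X (j + 1) (i0 + 1) n' (bigIdx X x W)).app M).hom
        ((bigPush T X x W M i n (i0 + 1) n' hi hn).hom γ) := h1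
  rw [h1']
  have h2 := congrArg (fun k => k.hom ((bigPush T X x W M i n (i0 + 1) n' hi hn).hom γ))
    (fjRes_fjι T X (Nat.le_succ j) (bigIdx X x W) M (i0 + 1) n')
  refine h2.trans ?_
  have h3 := idxRes_ocolimι_apply T X (ContainsFj X j) (bigInIdx_le X x W) M (i0 + 1) n'
    ((bigPush T X x W M i n (i0 + 1) n' hi hn).hom γ)
  refine h3.symm.trans ?_
  rw [bigPush_res_eq_zero T X x W M i0 n' i n hi hn γ, map_zero]

theorem exact_tot_fjRes (P : T.PushData X (j + 1)) (M : A.Cat) (i n i' n' : ℤ)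
    (hi : i' = i + 2 * ((j + 1 : ℕ) : ℤ)) (hn : n' = n + ((j + 1 : ℕ) : ℤ)) :
    Function.Exact (P.tot M i n i' n' hi hn).hom
      ((T.fjRes X (Nat.le_succ j) i' n').app M).hom := by
  classical
  obtain ⟨i0, rfl⟩ : ∃ i0, i' = i0 + 1 := ⟨i' - 1, by ring⟩
  intro β
  constructor
  · intro hβ
    refine kernel_all T X M i0 n' i n hi hn (LinearMap.range (P.tot M i n (i0 + 1) n' hi hn).hom)
      ?_ β hβ
    intro x W γ
    refine ⟨W, le_refl W, ?_⟩
    have hid := congrArg (fun k => k.hom γ) (idxRes_refl T (X.ptSub x.1) _ W M i n)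
    have hid' : (idxRes T (X.ptSub x.1) _ (le_refl W) M i n).hom γ = γ := hid
    rw [hid']
    have h1 := congrArg (fun k => k.hom γ) (pushData_cpt_big T X P x W M i n (i0 + 1) n' hi hn)
    have h1' : (P.cpt x M i n (i0 + 1) n' hi hn).hom (((T.ptι X x.1 i n W).app M).hom γ) =
      ((T.fjι X (j + 1) (i0 + 1) n' (bigIdx X x W)).app M).hom
        ((bigPush T X x W M i n (i0 + 1) n' hi hn).hom γ) := h1
    rw [← h1', ← P.tot_lof M i n (i0 + 1) n' hi hn x]
    exact LinearMap.mem_range_self _ _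
  · rintro ⟨ξ, rfl⟩
    have hcomp : ((T.fjRes X (Nat.le_succ j) (i0 + 1) n').app M).hom.comp
        (P.tot M i n (i0 + 1) n' hi hn).hom = 0 := by
      apply DirectSum.linearMap_ext
      intro x
      ext a
      show ((T.fjRes X (Nat.le_succ j) (i0 + 1) n').app M).hom
        ((P.tot M i n (i0 + 1) n' hi hn).hom (DirectSum.lof R (X.cdPt (j + 1))
          (fun y : X.cdPt (j + 1) => T.ptGp X y.1 M i n) x a)) = 0
      rw [P.tot_lof M i n (i0 + 1) n' hi hn x a]
      exact fjRes_cpt_eq_zero T X P M i n i0 n' hi hn x a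
    exact congrArg (fun f => f ξ) hcomp

end Exact2

end Groth.Agent.Lib.H15BMSeq
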