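import Groth.Agent.Lib.ReducedSubscheme
import Mathlib.AlgebraicGeometry.IdealSheaf.Functorial

set_option autoImplicit false
set_option linter.style.haveILetI false
universe u

open CategoryTheory AlgebraicGeometry TopologicalSpace

/-!
helper15: morphisms from reduced schemes into a closed subset factor through the reduced induced
subscheme; such a lift of a preimmersion whose image is open in the closed subset is an open immersion.
-/

namespace Groth.Agent.Lib.H15RedLift

open Scheme.IdealSheafData in
theorem vanishingIdeal_le_ker {W Y : Scheme.{u}} [IsReduced W] (f : W ⟶ Y) (C : Closeds Y)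
    (h : Set.range f ⊆ C) : vanishingIdeal C ≤ f.ker := by
  rw [← map_bot, ← Scheme.nilradical_eq_bot (X := W), ← vanishingIdeal_top, map_vanishingIdeal]
  apply vanishingIdeal_antimono
  rw [Closeds.closure_le]
  rintro _ ⟨w, -, rfl⟩
  exact h ⟨w, rfl⟩

open Scheme.IdealSheafData in
/-- a morphism from a reduced scheme landing in a closed set factors through the reduced induced
structure -/
noncomputable def redLift {W Y : Scheme.{u}} [IsReduced W] (f : W ⟶ Y) (C : Closeds Y)
    (h : Set.range f ⊆ C) : W ⟶ (vanishingIdeal C).subscheme :=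
  IsClosedImmersion.lift (vanishingIdeal C).subschemeι f (by
    rw [ker_subschemeι]
    exact vanishingIdeal_le_ker f C h)

open Scheme.IdealSheafData in
@[reassoc]
theorem redLift_ι {W Y : Scheme.{u}} [IsReduced W] (f : W ⟶ Y) (C : Closeds Y)
    (h : Set.range f ⊆ C) : redLift f C h ≫ (vanishingIdeal C).subschemeι = f :=
  IsClosedImmersion.lift_fac _ _ _

open Scheme.IdealSheafData in
theorem isOpenImmersion_redLift {W Y : Scheme.{u}} [IsReduced W] (f : W ⟶ Y) [IsPreimmersion f]
    (C : Closeds Y) (h : Set.range f ⊆ C) (O : Y.Opens)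
    (hO : (C : Set Y) ∩ O = Set.range f) : IsOpenImmersion (redLift f C h) := by
  let Z := (vanishingIdeal C).subscheme
  let ι : Z ⟶ Y := (vanishingIdeal C).subschemeι
  let g : W ⟶ Z := redLift f C h
  have hg : g ≫ ι = f := redLift_ι f C h
  have hgpt : ∀ w, ι (g w) = f w := fun w => by
    have := congrArg (fun k => k.base w) hg
    exact this
  let OZ : Z.Opens := ι ⁻¹ᵁ O
  have hrange : Set.range g ⊆ Set.range OZ.ι := by
    rintro _ ⟨w, rfl⟩
    rw [Scheme.Opens.range_ι]
    show ι (g w) ∈ O
    rw [hgpt]
    have : f w ∈ (C : Set Y) ∩ O := by rw [hO]; exact ⟨w, rfl⟩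
    exact this.2
  let g' : W ⟶ OZ := IsOpenImmersion.lift OZ.ι g hrange
  have hg' : g' ≫ OZ.ι = g := IsOpenImmersion.lift_fac _ _ _
  haveI : IsPreimmersion (g' ≫ (OZ.ι ≫ ι)) := by
    rw [← Category.assoc, hg', hg]
    infer_instance
  haveI : IsPreimmersion g' := IsPreimmersion.of_comp g' (OZ.ι ≫ ι)
  have hsurj : Function.Surjective g' := by
    intro z
    have hz : ι (OZ.ι z) ∈ (C : Set Y) ∩ O := by
      refine ⟨?_, z.2⟩
      have : ι (OZ.ι z) ∈ Set.range ι := ⟨_, rfl⟩
      rw [range_subschemeι] at this
      have h2 : ((vanishingIdeal C).support : Set Y) = C := coe_support_vanishingIdeal _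
      rw [h2] at this
      exact this
    rw [hO] at hz
    obtain ⟨w, hw⟩ := hz
    refine ⟨w, ?_⟩
    apply OZ.ι.isOpenEmbedding.injective
    apply ι.isEmbedding.injective
    have h3 : OZ.ι (g' w) = g w := by
      have := congrArg (fun k => k.base w) hg'
      exact this
    rw [h3, hgpt, hw]
  haveI : IsClosedImmersion g' := by
    apply IsClosedImmersion.of_isPreimmersion
    rw [hsurj.range_eq]
    exact isClosed_univ
  haveI : Surjective g' := ⟨hsurj⟩
  haveI : IsReduced Z := Groth.Agent.Lib.ReducedSubscheme.isReduced_subscheme_vanishingIdeal C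
  haveI : IsIso g' := isIso_of_isClosedImmersion_of_surjective g'
  show IsOpenImmersion g
  rw [← hg']
  infer_instance

end Groth.Agent.Lib.H15RedLift
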