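import Groth.Agent.Lib.H15BMAdd
import Groth.Agent.Lib.H15RedLift

set_option autoImplicit false
set_option linter.style.haveILetI false
set_option linter.unusedSectionVars false
universe u

open CategoryTheory CategoryTheory.Limits AlgebraicGeometry Opposite Set Topology TopologicalSpace
open BMCoh WeilCoh Groth.Agent.Lib.H15BMGeom Groth.Agent.Lib.H15BMFilt Groth.Agent.Lib.H15BMDecomp
  Groth.Agent.Lib.H15BMData Groth.Agent.Lib.H15BMExt Groth.Agent.Lib.H15BMKer Groth.Agent.Lib.H15BMSeq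
  Groth.Agent.Lib.H15BMKerGen Groth.Agent.Lib.H15BMLevel0 Groth.Agent.Lib.H15BMRetr
  Groth.Agent.Lib.H15BMToFj Groth.Agent.Lib.H15BMAdd Groth.Agent.Lib.H15RedLift

/-!
helper15: the total decomposition of `U₀ ∪ (pieces of all codimension j+1 points outside U₀)` with
closed part the reduced subscheme on the union of the pieces; finiteness of the bad points.
-/

namespace Groth.Agent.Lib.H15BMTot

variable {V : ObjectProperty Scheme.{u}} [BMCoh.IsConstructible V] {R : Type u} [CommRing R]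
  {A : BMCoh.Coefs R}

section TopDim

theorem krullDim_le_natDim {Y : Type u} [TopologicalSpace Y] (h : topologicalKrullDim Y < ⊤) :
    topologicalKrullDim Y ≤ ((natDim Y : ℕ) : WithBot ℕ∞) := by
  unfold natDim
  generalize topologicalKrullDim Y = a at h
  induction a using WithBot.recBotCoe with
  | bot => exact bot_le
  | coe a =>
    have ha : a ≠ ⊤ := by
      rintro rfl
      exact lt_irrefl _ h
    lift a to ℕ using ha
    simp

theorem natDim_le_of_krullDim_le {Y : Type u} [TopologicalSpace Y] {n : ℕ}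
    (h : topologicalKrullDim Y ≤ ((n : ℕ) : WithBot ℕ∞)) : natDim Y ≤ n := by
  unfold natDim
  generalize topologicalKrullDim Y = a at h
  induction a using WithBot.recBotCoe with
  | bot => simp
  | coe a =>
    have h' : a ≤ (n : ℕ∞) := by
      have : ((a : ℕ∞) : WithBot ℕ∞) ≤ (((n : ℕ) : ℕ∞) : WithBot ℕ∞) := h
      exact WithBot.coe_le_coe.1 this
    have ha : a ≠ ⊤ := by
      rintro rfl
      simp at h'
    lift a to ℕ using ha
    simp only [WithBot.unbotD_coe, ENat.toNat_natCast]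
    exact_mod_cast h'

/-- a space covered by pairwise disjoint open pieces of dimension at most `n` has dimension at most
`n` -/
theorem natDim_le_of_disjoint_open_cover {Y : Type u} [TopologicalSpace Y] {ι : Type*}
    (Vs : ι → Set Y) (hV : ∀ i, IsOpen (Vs i)) (hdisj : ∀ i i', i ≠ i' → Disjoint (Vs i) (Vs i'))
    (hcov : ∀ y, ∃ i, y ∈ Vs i) (n : ℕ)
    (hn : ∀ i, topologicalKrullDim ↥(Vs i) ≤ ((n : ℕ) : WithBot ℕ∞)) : natDim Y ≤ n := by
  apply natDim_le_of_krullDim_le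
  unfold topologicalKrullDim Order.krullDim
  refine iSup_le fun l => ?_
  obtain ⟨y, hy⟩ := l.last.isIrreducible.nonempty
  obtain ⟨i, hi⟩ := hcov y
  have hsub : (l.last : Set Y) ⊆ Vs i := by
    intro w hw
    obtain ⟨i', hi'⟩ := hcov w
    by_cases hii' : i = i'
    · exact hii' ▸ hi'
    · exfalso
      obtain ⟨z, -, hz1, hz2⟩ := l.last.isIrreducible.isPreirreducible (Vs i) (Vs i') (hV i) (hV i')
        ⟨y, hy, hi⟩ ⟨w, hw, hi'⟩
      exact Set.disjoint_left.1 (hdisj i i' hii') hz1 hz2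
  exact (length_le_topologicalKrullDim_of_last_le l (Vs i) hsub).trans (hn i)

end TopDim

section Bad

variable (X : Obj V) {j : ℕ} (U₀ : Idx X (ContainsFj X j)) (Yc : Idx X (ContainsFj X (j + 1)))

/-- the points of codimension `j+1` outside `U₀` -/
abbrev Bad : Type u := {x : X.cdPt (j + 1) // x.1 ∉ U₀.1}

theorem finite_bad : Finite (Bad X U₀) := by
  haveI : IsNoetherian X.scheme := IsConstructible.isNoetherian X.mem
  obtain ⟨S, hSf, hSc, hSi, hSU⟩ :=
    NoetherianSpace.exists_finite_set_isClosed_irreducible U₀.1.2.isClosed_compl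
  haveI : Finite ↥S := hSf.to_subtype
  have hmem : ∀ x : Bad X U₀, closure ({x.1.1} : Set X.scheme) ∈ S := by
    intro x
    have hx : x.1.1 ∈ (U₀.1).carrierᶜ := x.2
    rw [hSU] at hx
    obtain ⟨t, htS, hxt⟩ := hx
    have hgen : IsGenericPoint (hSi t htS).genericPoint (closure t) :=
      (hSi t htS).isGenericPoint_genericPoint_closure
    rw [(hSc t htS).closure_eq] at hgen
    have hgU : (hSi t htS).genericPoint ∉ U₀.1 := by
      have : (hSi t htS).genericPoint ∈ (U₀.1).carrierᶜ := by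
        rw [hSU]
        exact ⟨t, htS, hgen.mem⟩
      exact this
    have heq := closure_eq_of_mem_compl X U₀.1 U₀.2.1 x.1.1 x.1.2 _ hgU
      (by rw [hgen.def]; exact hxt)
    rw [← heq, hgen.def]
    exact htS
  let φ : Bad X U₀ → ↥S := fun x => ⟨closure ({x.1.1} : Set X.scheme), hmem x⟩
  have hinj : Function.Injective φ := by
    intro x x' h
    have h1 : closure ({x.1.1} : Set X.scheme) = closure ({x'.1.1} : Set X.scheme) :=
      congrArg Subtype.val h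
    have h2 : x.1.1 ∈ closure ({x'.1.1} : Set X.scheme) := by
      rw [← h1]
      exact subset_closure rfl
    have h3 := eq_of_codim_le_of_mem_closure X x'.1.2 (le_of_eq x.1.2) h2
    exact Subtype.ext (Subtype.ext h3)
  exact Finite.of_injective φ hinj

theorem closure_inter_goodOpen_eq_empty (x x' : Bad X U₀) (hne : x ≠ x') :
    closure ({x.1.1} : Set X.scheme) ∩ goodOpen X U₀.1 x'.1.1 = ∅ := by
  rw [Set.eq_empty_iff_forall_notMem]
  rintro z ⟨hz, hz'⟩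
  apply hz'
  have hx : x.1.1 ∈ ((U₀.1 : Set X.scheme))ᶜ \ closure ({x'.1.1} : Set X.scheme) := by
    refine ⟨x.2, ?_⟩
    intro h
    exact hne (Subtype.ext (Subtype.ext (eq_of_codim_le_of_mem_closure X x'.1.2 (le_of_eq x.1.2) h)))
  exact closure_mono (Set.singleton_subset_iff.2 hx) hz

/-- the good open of a bad point, cut down to `Yc` -/
noncomputable def gOpen (x : Bad X U₀) : X.scheme.Opens := goodOpen X U₀.1 x.1.1 ⊓ Yc.1

theorem mem_gOpen (x : Bad X U₀) : x.1.1 ∈ gOpen X U₀ Yc x :=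
  ⟨mem_goodOpen X U₀.1 U₀.2.1 x.1.1 x.1.2, Yc.2.1 x.1.1 (le_of_eq x.1.2)⟩

theorem gOpen_le_goodOpen (x : Bad X U₀) : gOpen X U₀ Yc x ≤ goodOpen X U₀.1 x.1.1 := inf_le_left

/-- the canonical piece of a bad point -/
noncomputable def Wc (x : Bad X U₀) : ptIdx X x.1.1 :=
  pieceInIdx X x.1.1 (gOpen X U₀ Yc x) (mem_gOpen X U₀ Yc x)

theorem pieceSet_Wc (x : Bad X U₀) :
    pieceSet X x.1.1 (Wc X U₀ Yc x).1 = (gOpen X U₀ Yc x : Set X.scheme) \ U₀.1 := by
  show pieceSet X x.1.1 (pieceIn X x.1.1 (gOpen X U₀ Yc x)) = _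
  rw [pieceSet_pieceIn]
  ext z
  constructor
  · rintro ⟨hz, hz'⟩
    refine ⟨hz', fun hzU => ?_⟩
    have : z ∈ closure ({x.1.1} : Set X.scheme) ∩ U₀.1 := ⟨hz, hzU⟩
    rw [closure_inter_eq_empty_of_notMem X x.1.1 U₀.1 x.2] at this
    exact this
  · rintro ⟨hz, hzU⟩
    exact ⟨goodOpen_diff_subset X U₀.1 x.1.1 ⟨gOpen_le_goodOpen X U₀ Yc x hz, hzU⟩, hz⟩

/-- the open `U₀` together with the canonical pieces of all bad points -/
noncomputable def Ytot : X.scheme.Opens := U₀.1 ⊔ ⨆ x : Bad X U₀, gOpen X U₀ Yc x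

theorem le_Ytot : U₀.1 ≤ Ytot X U₀ Yc := le_sup_left

theorem goodOpen_le_Ytot (x : Bad X U₀) : gOpen X U₀ Yc x ≤ Ytot X U₀ Yc :=
  le_sup_of_le_right (le_iSup (fun x : Bad X U₀ => gOpen X U₀ Yc x) x)

theorem mem_Ytot_iff (z : X.scheme) :
    z ∈ Ytot X U₀ Yc ↔ z ∈ U₀.1 ∨ ∃ x : Bad X U₀, z ∈ gOpen X U₀ Yc x := by
  unfold Ytot
  rw [← SetLike.mem_coe, Opens.coe_sup, Opens.coe_iSup]
  simp only [Set.mem_union, Set.mem_iUnion, SetLike.mem_coe]

theorem containsFj_Ytot : ContainsFj X (j + 1) (Ytot X U₀ Yc) := by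
  intro y hy
  by_cases hyU : y ∈ U₀.1
  · exact le_Ytot X U₀ Yc hyU
  · have hcd : codim X.scheme y = j + 1 := by
      by_contra hne
      exact hyU (U₀.2.1 y (by omega))
    let x : Bad X U₀ := ⟨⟨y, hcd⟩, hyU⟩
    exact goodOpen_le_Ytot X U₀ Yc x (mem_gOpen X U₀ Yc x)

/-- `Ytot` as a member of the index family of `F_{j+1}` -/
noncomputable def YtotIdx : Idx X (ContainsFj X (j + 1)) :=
  ⟨Ytot X U₀ Yc, containsFj_Ytot X U₀ Yc, dim_eq_of_containsFj X _ (containsFj_Ytot X U₀ Yc)⟩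

theorem pieceSet_Wc_subset_Ytot (x : Bad X U₀) :
    pieceSet X x.1.1 (Wc X U₀ Yc x).1 ⊆ Ytot X U₀ Yc := by
  rw [pieceSet_Wc]
  exact fun z hz => goodOpen_le_Ytot X U₀ Yc x hz.1

theorem closure_inter_Ytot_subset (x : Bad X U₀) :
    closure ({x.1.1} : Set X.scheme) ∩ Ytot X U₀ Yc ⊆ pieceSet X x.1.1 (Wc X U₀ Yc x).1 := by
  rintro z ⟨hz, hzY⟩
  rw [pieceSet_Wc]
  have hzU : z ∉ U₀.1 := by
    intro hzU
    have : z ∈ closure ({x.1.1} : Set X.scheme) ∩ U₀.1 := ⟨hz, hzU⟩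
    rw [closure_inter_eq_empty_of_notMem X x.1.1 U₀.1 x.2] at this
    exact this
  refine ⟨?_, hzU⟩
  rcases (mem_Ytot_iff X U₀ Yc z).1 hzY with h | ⟨x', hx'⟩
  · exact absurd h hzU
  · by_cases hxx' : x = x'
    · exact hxx' ▸ hx'
    · have : z ∈ closure ({x.1.1} : Set X.scheme) ∩ goodOpen X U₀.1 x'.1.1 :=
        ⟨hz, gOpen_le_goodOpen X U₀ Yc x' hx'⟩
      rw [closure_inter_goodOpen_eq_empty X U₀ x x' hxx'] at this
      exact absurd this (Set.notMem_empty z)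

theorem exists_bad_of_mem_Ytot (z : X.scheme) (hzY : z ∈ Ytot X U₀ Yc) (hzU : z ∉ U₀.1) :
    ∃ x : Bad X U₀, z ∈ pieceSet X x.1.1 (Wc X U₀ Yc x).1 := by
  rcases (mem_Ytot_iff X U₀ Yc z).1 hzY with h | ⟨x, hx⟩
  · exact absurd h hzU
  · exact ⟨x, by rw [pieceSet_Wc]; exact ⟨hx, hzU⟩⟩

end Bad

section Tot

variable (X : Obj V) {j : ℕ} (U₀ : Idx X (ContainsFj X j)) (Yc : Idx X (ContainsFj X (j + 1)))

open Scheme.IdealSheafData

instance isReduced_ptSub (x : X.scheme) : IsReduced (X.ptSub x).scheme :=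
  Groth.Agent.Lib.ReducedSubscheme.isReduced_subscheme_vanishingIdeal _

/-- the closed complement of `U₀` in `Ytot`, as a closed subset of the scheme `Ytot` -/
noncomputable def Ctot : Closeds ((Ytot X U₀ Yc : X.scheme.Opens) : Scheme.{u}) :=
  ⟨(⇑(Ytot X U₀ Yc).ι ⁻¹' (U₀.1 : Set X.scheme))ᶜ,
    (U₀.1.2.preimage (Ytot X U₀ Yc).ι.continuous).isClosed_compl⟩

theorem mem_Ctot_iff (z : ((Ytot X U₀ Yc : X.scheme.Opens) : Scheme.{u})) :
    z ∈ (Ctot X U₀ Yc : Set _) ↔ (Ytot X U₀ Yc).ι z ∉ U₀.1 := Iff.rfl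

/-- the reduced closed subscheme of `Ytot` on the complement of `U₀` -/
noncomputable abbrev Ztot : Obj V :=
  ⟨(vanishingIdeal (Ctot X U₀ Yc)).subscheme,
    IsConstructible.of_isClosedImmersion (vanishingIdeal (Ctot X U₀ Yc)).subschemeι
      (X.res (Ytot X U₀ Yc)).mem⟩

/-- its closed immersion -/
noncomputable abbrev ιtot : (Ztot X U₀ Yc).scheme ⟶ (X.res (Ytot X U₀ Yc)).scheme :=
  (vanishingIdeal (Ctot X U₀ Yc)).subschemeι


theorem range_ιtot : Set.range (ιtot X U₀ Yc) = (Ctot X U₀ Yc : Set _) := by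
  rw [range_subschemeι]
  exact coe_support_vanishingIdeal _

/-- the total decomposition of `Ytot` -/
noncomputable def Dtot : Decomp (X.res (Ytot X U₀ Yc)) where
  Z := Ztot X U₀ Yc
  U := X.res U₀.1
  i := ιtot X U₀ Yc
  closedImm := inferInstance
  j := X.resLE (le_Ytot X U₀ Yc) (U₀.2.2.trans (YtotIdx X U₀ Yc).2.2.symm)
  range_eq := by
    show Set.range (X.scheme.homOfLE (le_Ytot X U₀ Yc)) = _
    rw [range_homOfLE, range_ιtot]
    show _ = ((⇑(Ytot X U₀ Yc).ι ⁻¹' (U₀.1 : Set X.scheme))ᶜ)ᶜ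
    rw [compl_compl]

/-- the lift of a canonical piece to the total closed part, as a morphism of schemes -/
noncomputable def gSch (x : Bad X U₀) :
    ((Wc X U₀ Yc x).1 : Scheme.{u}) ⟶ (Ztot X U₀ Yc).scheme :=
  redLift (pieceLift X x.1.1 (Wc X U₀ Yc x).1 (Ytot X U₀ Yc) (pieceSet_Wc_subset_Ytot X U₀ Yc x))
    (Ctot X U₀ Yc) (by
      rw [range_pieceLift]
      intro z hz
      have hz' : (Ytot X U₀ Yc).ι z ∈ pieceSet X x.1.1 (Wc X U₀ Yc x).1 := hz
      rw [pieceSet_Wc] at hz'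
      exact hz'.2)

@[reassoc]
theorem gSch_ιtot (x : Bad X U₀) :
    gSch X U₀ Yc x ≫ ιtot X U₀ Yc =
      pieceLift X x.1.1 (Wc X U₀ Yc x).1 (Ytot X U₀ Yc) (pieceSet_Wc_subset_Ytot X U₀ Yc x) :=
  redLift_ι _ _ _

instance (x : Bad X U₀) : IsOpenImmersion (gSch X U₀ Yc x) := by
  unfold gSch
  refine isOpenImmersion_redLift _ (Ctot X U₀ Yc) _ ((Ytot X U₀ Yc).ι ⁻¹ᵁ gOpen X U₀ Yc x) ?_
  rw [range_pieceLift, pieceSet_Wc]
  ext z
  constructor
  · rintro ⟨hz1, hz2⟩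
    exact ⟨hz2, hz1⟩
  · rintro ⟨hz1, hz2⟩
    exact ⟨hz2, hz1⟩

theorem range_gSch (x : Bad X U₀) :
    Set.range (gSch X U₀ Yc x) =
      ⇑(ιtot X U₀ Yc) ⁻¹' (⇑(Ytot X U₀ Yc).ι ⁻¹' pieceSet X x.1.1 (Wc X U₀ Yc x).1) := by
  rw [← range_pieceLift X x.1.1 (Wc X U₀ Yc x).1 (Ytot X U₀ Yc) (pieceSet_Wc_subset_Ytot X U₀ Yc x),
    ← gSch_ιtot, Scheme.Hom.comp_base, TopCat.coe_comp, Set.range_comp,
    Set.preimage_image_eq _ (ιtot X U₀ Yc).isEmbedding.injective]

end Tot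

section TotDim

variable (X : Obj V) {j : ℕ} (U₀ : Idx X (ContainsFj X j)) (Yc : Idx X (ContainsFj X (j + 1)))

theorem dim_Wc (x : Bad X U₀) :
    dim ((Wc X U₀ Yc x).1 : Scheme.{u}) + (j + 1) = dim X.scheme := by
  have h1 := (Wc X U₀ Yc x).2.2
  have h2 := dim_ptSub X x.1.1
  have h3 := pdim_le_dim X x.1.1
  have h4 := x.1.2
  unfold codim at h4
  omega

theorem disjoint_pieceSet_Wc (x x' : Bad X U₀) (hne : x ≠ x') :
    Disjoint (pieceSet X x.1.1 (Wc X U₀ Yc x).1) (pieceSet X x'.1.1 (Wc X U₀ Yc x').1) := by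
  rw [Set.disjoint_left]
  intro z hz hz'
  have h1 : z ∈ closure ({x.1.1} : Set X.scheme) := pieceSet_subset_closure X x.1.1 _ hz
  rw [pieceSet_Wc] at hz'
  have : z ∈ closure ({x.1.1} : Set X.scheme) ∩ goodOpen X U₀.1 x'.1.1 :=
    ⟨h1, gOpen_le_goodOpen X U₀ Yc x' hz'.1⟩
  rw [closure_inter_goodOpen_eq_empty X U₀ x x' hne] at this
  exact this

theorem disjoint_range_gSch (x x' : Bad X U₀) (hne : x ≠ x') :
    Disjoint (Set.range (gSch X U₀ Yc x)) (Set.range (gSch X U₀ Yc x')) := by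
  rw [range_gSch, range_gSch, Set.disjoint_left]
  intro z hz hz'
  exact Set.disjoint_left.1 (disjoint_pieceSet_Wc X U₀ Yc x x' hne) hz hz'

theorem exists_mem_range_gSch (z : (Ztot X U₀ Yc).scheme) : ∃ x : Bad X U₀, z ∈ Set.range (gSch X U₀ Yc x) := by
  have hz : ιtot X U₀ Yc z ∈ (Ctot X U₀ Yc : Set _) := by
    rw [← range_ιtot]
    exact Set.mem_range_self z
  have hzU : (Ytot X U₀ Yc).ι (ιtot X U₀ Yc z) ∉ U₀.1 := (mem_Ctot_iff X U₀ Yc _).1 hz
  have hzY : (Ytot X U₀ Yc).ι (ιtot X U₀ Yc z) ∈ Ytot X U₀ Yc := (ιtot X U₀ Yc z).2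
  obtain ⟨x, hx⟩ := exists_bad_of_mem_Ytot X U₀ Yc _ hzY hzU
  exact ⟨x, by rw [range_gSch]; exact hx⟩

theorem dim_Ztot (x : Bad X U₀) :
    dim (Ztot X U₀ Yc).scheme = dim ((Wc X U₀ Yc x).1 : Scheme.{u}) := by
  apply le_antisymm
  · refine natDim_le_of_disjoint_open_cover (fun x' : Bad X U₀ => Set.range (gSch X U₀ Yc x'))
      (fun x' => IsOpenImmersion.isOpen_range (gSch X U₀ Yc x'))
      (fun x' x'' h => disjoint_range_gSch X U₀ Yc x' x'' h) (exists_mem_range_gSch X U₀ Yc) _ ?_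
    intro x'
    have hhomeo : topologicalKrullDim ↥(Set.range (gSch X U₀ Yc x')) =
        topologicalKrullDim ((Wc X U₀ Yc x').1 : Scheme.{u}) :=
      (IsHomeomorph.topologicalKrullDim_eq _
        (gSch X U₀ Yc x').isOpenEmbedding.isEmbedding.toHomeomorph.isHomeomorph).symm
    rw [hhomeo]
    have h1 := krullDim_le_natDim (Y := ((Wc X U₀ Yc x').1 : Scheme.{u}))
      (finiteDim ((X.ptSub x'.1.1).res (Wc X U₀ Yc x').1))
    have h2 : natDim ((Wc X U₀ Yc x').1 : Scheme.{u}) = dim ((Wc X U₀ Yc x).1 : Scheme.{u}) := by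
      have := dim_Wc X U₀ Yc x
      have := dim_Wc X U₀ Yc x'
      unfold WeilCoh.dim at *
      omega
    rw [h2] at h1
    exact h1
  · exact natDim_le_of_isInducing (gSch X U₀ Yc x).isOpenEmbedding.isInducing
      (finiteDim (Ztot X U₀ Yc))

/-- the lift of a canonical piece to the total closed part, as a morphism of objects -/
noncomputable def gTot (x : Bad X U₀) : (X.ptSub x.1.1).res (Wc X U₀ Yc x).1 ⟶ Ztot X U₀ Yc :=
  ⟨gSch X U₀ Yc x, inferInstance, (dim_Ztot X U₀ Yc x).symm⟩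

theorem codim_Dtot (x : Bad X U₀) : (Dtot X U₀ Yc).codim = (j : ℤ) + 1 := by
  show relCodim (Ztot X U₀ Yc).scheme ((Ytot X U₀ Yc : X.scheme.Opens) : Scheme.{u}) = _
  unfold relCodim
  rw [dim_Ztot X U₀ Yc x]
  have h1 : dim ((Ytot X U₀ Yc : X.scheme.Opens) : Scheme.{u}) = dim X.scheme := (YtotIdx X U₀ Yc).2.2
  rw [h1]
  have := dim_Wc X U₀ Yc x
  omega

end TotDim

end Groth.Agent.Lib.H15BMTot
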