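import Mathlib.Topology.Connected.Clopen
import Mathlib.Topology.Homeomorph.Lemmas
import Mathlib.Topology.Separation.Basic
import Mathlib.Topology.LocalAtTarget

/-!
# Lifting clopen subsets along closed maps with connected fibres (helper15, Mathlib only)

* `HasClosedPoints S`, `exists_clopen_preimage_eq`: clopens descend along a closed surjective map
  whose fibres over closed points are preconnected.
* `LiftsClopens Z`: clopens of the subspace `Z` lift uniquely to clopens of the ambient space.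
* `liftsClopens_preimage`: `LiftsClopens` transfers along such maps to preimages.
* `liftsClopens_range_iff`: reparametrisation along an embedding.
-/

set_option autoImplicit false
set_option linter.style.haveILetI false

open Set Topology

namespace Groth.Agent.Lib.H15ClopenLift

variable {Y S : Type*} [TopologicalSpace Y] [TopologicalSpace S]

/-- every nonempty closed subset contains a closed point -/
def HasClosedPoints (S : Type*) [TopologicalSpace S] : Prop :=
  ∀ F : Set S, IsClosed F → F.Nonempty → ∃ s ∈ F, IsClosed ({s} : Set S)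

/-- clopens descend along a closed map with connected fibres over closed points -/
theorem exists_clopen_preimage_eq (h : Y → S) (hcl : IsClosedMap h)
    (hsurj : Function.Surjective h) (hS : HasClosedPoints S)
    (hfib : ∀ s : S, IsClosed ({s} : Set S) → IsPreconnected (h ⁻¹' {s}))
    (W : Set Y) (hW : IsClopen W) : ∃ C : Set S, IsClopen C ∧ h ⁻¹' C = W := by
  have hdisj : Disjoint (h '' W) (h '' Wᶜ) := by
    rw [Set.disjoint_iff_inter_eq_empty]
    by_contra hne
    have hne' : (h '' W ∩ h '' Wᶜ).Nonempty := Set.nonempty_iff_ne_empty.2 hne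
    obtain ⟨s, hs, hsc⟩ := hS _ ((hcl _ hW.1).inter (hcl _ hW.compl.1)) hne'
    obtain ⟨⟨y₁, hy₁, e₁⟩, ⟨y₂, hy₂, e₂⟩⟩ := hs
    have hpre := hfib s hsc
    have := hpre.subset_isClopen hW ⟨y₁, e₁, hy₁⟩
    exact hy₂ (this e₂)
  have hunion : h '' W ∪ h '' Wᶜ = univ := by
    rw [← Set.image_union, Set.union_compl_self, Set.image_univ, hsurj.range_eq]
  have hcompl : (h '' W)ᶜ = h '' Wᶜ := by
    apply Set.Subset.antisymm
    · intro s hs
      have : s ∈ h '' W ∪ h '' Wᶜ := by rw [hunion]; trivial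
      exact this.resolve_left hs
    · exact hdisj.symm.subset_compl_right
  refine ⟨h '' W, ⟨hcl _ hW.1, ?_⟩, ?_⟩
  · rw [← isClosed_compl_iff, hcompl]
    exact hcl _ hW.compl.1
  · apply Set.Subset.antisymm
    · intro y hy
      by_contra hyW
      exact Set.disjoint_left.1 hdisj hy ⟨y, hyW, rfl⟩
    · exact Set.subset_preimage_image h W

/-- clopens of a subset `Z` lift uniquely to clopens of the ambient space -/
def LiftsClopens (Z : Set S) : Prop :=
  ∀ V : Set Z, IsClopen V → ∃! U : Set S, IsClopen U ∧ (Subtype.val : Z → S) ⁻¹' U = V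

theorem hasClosedPoints_subtype (hS : HasClosedPoints S) (Z : Set S) (hZ : IsClosed Z) :
    HasClosedPoints Z := by
  intro F hF hne
  have hF' : IsClosed ((Subtype.val : Z → S) '' F) := hZ.isClosedEmbedding_subtypeVal.isClosedMap _ hF
  obtain ⟨s, ⟨z, hz, rfl⟩, hs⟩ := hS _ hF' (hne.image _)
  refine ⟨z, hz, ?_⟩
  have : ({z} : Set Z) = (Subtype.val : Z → S) ⁻¹' {z.1} := by
    ext w
    simp [Subtype.ext_iff]
  rw [this]
  exact hs.preimage continuous_subtype_val

theorem liftsClopens_preimage (h : Y → S) (hc : Continuous h) (hcl : IsClosedMap h)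
    (hsurj : Function.Surjective h) (hS : HasClosedPoints S)
    (hfib : ∀ s : S, IsClosed ({s} : Set S) → IsPreconnected (h ⁻¹' {s}))
    (Z : Set S) (hZ : IsClosed Z) (hlift : LiftsClopens Z) : LiftsClopens (h ⁻¹' Z) := by
  -- the restricted map
  let h' : h ⁻¹' Z → Z := Z.restrictPreimage h
  have hc' : Continuous h' := hc.restrictPreimage
  have hcl' : IsClosedMap h' := hcl.restrictPreimage Z
  have hsurj' : Function.Surjective h' := by
    rintro ⟨s, hs⟩
    obtain ⟨y, rfl⟩ := hsurj s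
    exact ⟨⟨y, hs⟩, rfl⟩
  have hS' : HasClosedPoints Z := hasClosedPoints_subtype hS Z hZ
  have hfib' : ∀ s : Z, IsClosed ({s} : Set Z) → IsPreconnected (h' ⁻¹' {s}) := by
    intro s hs
    have hs' : IsClosed ({s.1} : Set S) := by
      have := hZ.isClosedEmbedding_subtypeVal.isClosedMap _ hs
      rwa [Set.image_singleton] at this
    have hpre := hfib s.1 hs'
    have himg : (Subtype.val : h ⁻¹' Z → Y) '' (h' ⁻¹' {s}) = h ⁻¹' {s.1} := by
      ext y
      constructor
      · rintro ⟨w, hw, rfl⟩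
        have : h' w = s := hw
        exact congrArg Subtype.val this
      · intro hy
        have hyZ : y ∈ h ⁻¹' Z := by
          have : h y = s.1 := hy
          show h y ∈ Z
          rw [this]; exact s.2
        exact ⟨⟨y, hyZ⟩, Subtype.ext hy, rfl⟩
    rw [← himg] at hpre
    exact (Topology.IsInducing.subtypeVal.isPreconnected_image).1 hpre
  intro W₀ hW₀
  obtain ⟨C₀, hC₀, hC₀W⟩ := exists_clopen_preimage_eq h' hcl' hsurj' hS' hfib' W₀ hW₀
  obtain ⟨C, ⟨hC, hCC₀⟩, hCuniq⟩ := hlift C₀ hC₀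
  refine ⟨h ⁻¹' C, ⟨hC.preimage hc, ?_⟩, ?_⟩
  · rw [← hC₀W, ← hCC₀]
    rfl
  · rintro W' ⟨hW', hW'W₀⟩
    obtain ⟨C', hC', hC'W'⟩ := exists_clopen_preimage_eq h hcl hsurj hS hfib W' hW'
    have h1 : (Subtype.val : Z → S) ⁻¹' C' = C₀ := by
      have : h' ⁻¹' ((Subtype.val : Z → S) ⁻¹' C') = h' ⁻¹' C₀ := by
        rw [hC₀W, ← hW'W₀, ← hC'W']
        rfl
      exact hsurj'.preimage_injective this
    have := hCuniq C' ⟨hC', h1⟩
    rw [← hC'W', this]


/-- converse of `liftsClopens_preimage` -/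
theorem liftsClopens_of_preimage (h : Y → S) (hc : Continuous h) (hcl : IsClosedMap h)
    (hsurj : Function.Surjective h) (hS : HasClosedPoints S)
    (hfib : ∀ s : S, IsClosed ({s} : Set S) → IsPreconnected (h ⁻¹' {s}))
    (Z : Set S) (hlift : LiftsClopens (h ⁻¹' Z)) : LiftsClopens Z := by
  let h' : h ⁻¹' Z → Z := Z.restrictPreimage h
  have hc' : Continuous h' := hc.restrictPreimage
  have hsurj' : Function.Surjective h' := by
    rintro ⟨s, hs⟩
    obtain ⟨y, rfl⟩ := hsurj s
    exact ⟨⟨y, hs⟩, rfl⟩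
  intro C₀ hC₀
  obtain ⟨W, ⟨hW, hWC₀⟩, hWuniq⟩ := hlift (h' ⁻¹' C₀) (hC₀.preimage hc')
  obtain ⟨C, hC, hCW⟩ := exists_clopen_preimage_eq h hcl hsurj hS hfib W hW
  have key : ∀ C' : Set S, h' ⁻¹' ((Subtype.val : Z → S) ⁻¹' C') =
      (Subtype.val : h ⁻¹' Z → Y) ⁻¹' (h ⁻¹' C') := fun C' => rfl
  refine ⟨C, ⟨hC, ?_⟩, ?_⟩
  · apply hsurj'.preimage_injective
    rw [key, hCW, hWC₀]
  · rintro C' ⟨hC', hC'C₀⟩
    have h1 : h ⁻¹' C' = W := by
      apply hWuniq
      refine ⟨hC'.preimage hc, ?_⟩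
      rw [← key, hC'C₀]
    apply hsurj.preimage_injective
    rw [h1, hCW]

/-- reparametrisation along an embedding -/
theorem liftsClopens_range_iff {T₀ : Type*} [TopologicalSpace T₀] (e : T₀ → S) (he : IsEmbedding e) :
    LiftsClopens (Set.range e) ↔
      ∀ V : Set T₀, IsClopen V → ∃! U : Set S, IsClopen U ∧ e ⁻¹' U = V := by
  let φ : T₀ ≃ₜ Set.range e := he.toHomeomorph
  have hφ : ∀ t, (φ t : S) = e t := fun t => rfl
  constructor
  · intro hl V hV
    have hV' : IsClopen (φ.symm ⁻¹' V) := hV.preimage φ.symm.continuous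
    obtain ⟨U, ⟨hU, hUV⟩, huniq⟩ := hl _ hV'
    refine ⟨U, ⟨hU, ?_⟩, ?_⟩
    · ext t
      have := Set.ext_iff.1 hUV (φ t)
      simp only [Set.mem_preimage, Homeomorph.symm_apply_apply] at this
      exact this
    · rintro U' ⟨hU', hU'V⟩
      apply huniq
      refine ⟨hU', ?_⟩
      ext z
      obtain ⟨t, rfl⟩ := φ.surjective z
      have := Set.ext_iff.1 hU'V t
      simp only [Set.mem_preimage, Homeomorph.symm_apply_apply]
      exact this
  · intro hl V hV
    have hV' : IsClopen (φ ⁻¹' V) := hV.preimage φ.continuous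
    obtain ⟨U, ⟨hU, hUV⟩, huniq⟩ := hl _ hV'
    refine ⟨U, ⟨hU, ?_⟩, ?_⟩
    · ext z
      obtain ⟨t, rfl⟩ := φ.surjective z
      exact Set.ext_iff.1 hUV t
    · rintro U' ⟨hU', hU'V⟩
      apply huniq
      refine ⟨hU', ?_⟩
      ext t
      exact Set.ext_iff.1 hU'V (φ t)

end Groth.Agent.Lib.H15ClopenLift
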