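import Mathlib
import Groth.Agent.Lib.H15ClosedSupp

set_option autoImplicit false
universe u

open CategoryTheory TopologicalSpace Opposite Topology CategoryTheory.Limits
open Groth.Agent.Lib.H15SheafLocal Groth.Agent.Lib.H15ClosedSupp

namespace Groth.Agent.Lib.H15ClosedPush

lemma preservesFiniteColimits_of_epi {C D : Type*} [Category C] [Category D] [Abelian C] [Abelian D]
    (R : C ⥤ D) [R.Additive] [PreservesFiniteLimits R]
    (hepi : ∀ {X Y : C} (f : X ⟶ Y), Epi f → Epi (R.map f)) :
    PreservesFiniteColimits R := by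
  rw [Functor.preservesFiniteColimits_iff_forall_exact_map_and_epi]
  intro S hS
  refine ⟨?_, hepi S.g hS.epi_g⟩
  exact ((Functor.preservesFiniteLimits_iff_forall_exact_map_and_mono R).1 inferInstance S hS).1

variable {Z X : TopCat.{u}} (i : Z ⟶ X)

lemma epi_push (hi : Topology.IsClosedEmbedding i) {F G : CohTop.Ab Z} (f : F ⟶ G) [Epi f] :
    Epi ((CohTop.push i).map f) := by
  have hf : TopCat.Presheaf.IsLocallySurjective f.hom :=
    (TopCat.Sheaf.isLocallySurjective_iff_epi (C := AddCommGrpCat.{u}) (X := Z) (F := F) (G := G) f).2 ‹Epi f›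
  rw [TopCat.Presheaf.isLocallySurjective_iff] at hf
  refine (TopCat.Sheaf.isLocallySurjective_iff_epi (C := AddCommGrpCat.{u}) ((CohTop.push i).map f)).1 ?_
  rw [TopCat.Presheaf.isLocallySurjective_iff]
  intro U t x hx
  by_cases hxr : x ∈ Set.range i
  · obtain ⟨z, rfl⟩ := hxr
    obtain ⟨W, hWU, ⟨s, hs⟩, hzW⟩ := hf ((Opens.map i).obj U) t z hx
    obtain ⟨O, hO, hOW⟩ := hi.isInducing.isOpen_iff.1 W.isOpen
    have hV : (Opens.map i).obj (U ⊓ ⟨O, hO⟩) ≤ W := by
      intro y hy
      have : y ∈ (i : Z → X) ⁻¹' O := hy.2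
      rw [hOW] at this
      exact this
    refine ⟨U ⊓ ⟨O, hO⟩, inf_le_left, ⟨F.obj.map (homOfLE hV).op s, ?_⟩, ⟨hx, ?_⟩⟩
    · have h1 := NatTrans.naturality_apply f.hom (homOfLE hV).op s
      refine h1.trans ?_
      rw [hs]
      change G.obj.map (homOfLE hV).op (G.obj.map (homOfLE hWU).op t) = G.obj.map _ t
      rw [← ConcreteCategory.comp_apply, ← Functor.map_comp]
      rfl
    · have : z ∈ (i : Z → X) ⁻¹' O := by rw [hOW]; exact hzW
      exact this
  · let C : Opens X := ⟨(Set.range i)ᶜ, hi.isClosed_range.isOpen_compl⟩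
    have hbot : (Opens.map i).obj (U ⊓ C) = ⊥ := by
      ext y
      simp only [Opens.map_coe, Opens.coe_inf, Set.mem_preimage, Set.mem_inter_iff, Opens.coe_bot,
        Set.mem_empty_iff_false, iff_false, not_and]
      intro _ hy
      exact hy ⟨y, rfl⟩
    have hsub : Subsingleton (ToType (G.obj.obj (op ((Opens.map i).obj (U ⊓ C))))) :=
      subsingleton_section_of_eq_bot (A := AddCommGrpCat.{u}) G hbot
    refine ⟨U ⊓ C, inf_le_left, ⟨0, ?_⟩, ⟨hx, hxr⟩⟩
    exact hsub.elim _ _


lemma isZero_stalk_push (hi : Topology.IsClosedEmbedding i) (G : CohTop.Ab Z) (x : X)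
    (hx : x ∉ Set.range i) : IsZero (CohTop.stalk ((CohTop.push i).obj G) x) := by
  let C : Opens X := ⟨(Set.range i)ᶜ, hi.isClosed_range.isOpen_compl⟩
  let P : TopCat.Presheaf AddCommGrpCat.{u} X := ((CohTop.push i).obj G).obj
  have hsub : Subsingleton (ToType (TopCat.Presheaf.stalk P x)) := by
    refine ⟨fun a b => ?_⟩
    have key : ∀ g : ToType (TopCat.Presheaf.stalk P x), g = 0 := by
      intro g
      obtain ⟨V, hxV, t, rfl⟩ := TopCat.Presheaf.exists_germ_eq P g
      have hbot : (Opens.map i).obj (V ⊓ C) = ⊥ := by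
        ext y
        simp only [Opens.map_coe, Opens.coe_inf, Set.mem_preimage, Set.mem_inter_iff, Opens.coe_bot,
          Set.mem_empty_iff_false, iff_false, not_and]
        intro _ hy
        exact hy ⟨y, rfl⟩
      have hsub : Subsingleton (ToType (G.obj.obj (op ((Opens.map i).obj (V ⊓ C))))) :=
        subsingleton_section_of_eq_bot (A := AddCommGrpCat.{u}) G hbot
      have h1 := TopCat.Presheaf.germ_res_apply P (homOfLE (inf_le_left : V ⊓ C ≤ V)) x ⟨hxV, hx⟩ t
      rw [← h1]
      have h2 : P.map (homOfLE (inf_le_left : V ⊓ C ≤ V)).op t = 0 := hsub.elim _ _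
      rw [h2, map_zero]
    rw [key a, key b]
  exact AddCommGrpCat.isZero_of_subsingleton _

lemma subsingleton_of_stalk_zero (F : CohTop.Ab X)
    (h : ∀ x : X, x ∉ Set.range i → IsZero (CohTop.stalk F x)) (V : Opens X)
    (hV : Disjoint (V : Set X) (Set.range i)) : Subsingleton (ToType (F.obj.obj (op V))) := by
  refine ⟨fun a b => ?_⟩
  refine TopCat.Presheaf.section_ext (C := AddCommGrpCat.{u}) F V a b ?_
  intro x hx
  have hxr : x ∉ Set.range i := fun hx' => Set.disjoint_left.1 hV hx hx'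
  have := AddCommGrpCat.subsingleton_of_isZero (h x hxr)
  exact Subsingleton.elim _ _


lemma abstract_ff {C D : Type*} [Category C] [Category D] {L : D ⥤ C} {R : C ⥤ D} (adj : L ⊣ R)
    (hε : ∀ B, IsIso (adj.counit.app B)) :
    R.Full ∧ R.Faithful ∧ Nonempty (R ⋙ L ≅ 𝟭 C) := by
  have : IsIso adj.counit := NatIso.isIso_of_isIso_app _
  exact ⟨adj.fullyFaithfulROfIsIsoCounit.full, adj.fullyFaithfulROfIsIsoCounit.faithful,
    ⟨asIso adj.counit⟩⟩

lemma abstract_essImage {C D : Type*} [Category C] [Category D] {L : D ⥤ C} {R : C ⥤ D}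
    (adj : L ⊣ R) (F : D) (h : IsIso (adj.unit.app F)) : R.essImage F :=
  ⟨L.obj F, ⟨(asIso (adj.unit.app F)).symm⟩⟩

theorem main (hi : Topology.IsClosedEmbedding i) :
    PreservesFiniteColimits (CohTop.push i) ∧ (CohTop.push i).Full ∧ (CohTop.push i).Faithful ∧
      (∀ F : CohTop.Ab X, (CohTop.push i).essImage F ↔
        ∀ x : X, x ∉ Set.range i → IsZero (CohTop.stalk F x)) ∧
      Nonempty (CohTop.push i ⋙ CohTop.pull i ≅ 𝟭 (CohTop.Ab Z)) := by
  have hff := abstract_ff (C := CohTop.Ab Z) (D := CohTop.Ab X) (L := CohTop.pull i)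
    (R := CohTop.push i) (TopCat.Sheaf.pullbackPushforwardAdjunction AddCommGrpCat.{u} i)
    (fun B => isIso_counit_of_isInducing AddCommGrpCat.{u} i B hi.isInducing)
  have hlim : PreservesFiniteLimits (CohTop.push i) := by
    have h0 : PreservesLimitsOfSize.{0, 0} (CohTop.push i) :=
      Adjunction.rightAdjoint_preservesLimits (C := CohTop.Ab X) (D := CohTop.Ab Z)
        (F := CohTop.pull i) (G := CohTop.push i)
        (TopCat.Sheaf.pullbackPushforwardAdjunction AddCommGrpCat.{u} i)
    exact PreservesLimitsOfSize.preservesFiniteLimits _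
  refine ⟨?_, hff.1, hff.2.1, ?_, hff.2.2⟩
  · exact preservesFiniteColimits_of_epi (CohTop.push i) (fun f hf => epi_push i hi f)
  · intro F
    constructor
    · rintro ⟨G, ⟨e⟩⟩ x hx
      have h1 := isZero_stalk_push i hi G x hx
      exact h1.of_iso ((TopCat.Presheaf.stalkFunctor AddCommGrpCat.{u} x).mapIso
        ((sheafToPresheaf _ _).mapIso e)).symm
    · intro h
      refine abstract_essImage (C := CohTop.Ab Z) (D := CohTop.Ab X) (L := CohTop.pull i)
        (R := CohTop.push i) (TopCat.Sheaf.pullbackPushforwardAdjunction AddCommGrpCat.{u} i) F ?_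
      exact isIso_unit_of_supported AddCommGrpCat.{u} i F hi.isInducing hi.isClosed_range
        (fun V hV => subsingleton_of_stalk_zero i F h V hV) (fun V => ⟨0⟩)

end Groth.Agent.Lib.H15ClosedPush
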