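import Mathlib.CategoryTheory.Galois.Equivalence
import Mathlib.CategoryTheory.Galois.Examples
import Mathlib.CategoryTheory.Galois.Topology

set_option autoImplicit false
universe u
open scoped FintypeCatDiscrete
open CategoryTheory PreGaloisCategory

namespace Groth.Agent.Lib.H15ContAut

variable (G : Type u) [Group G] [TopologicalSpace G] 

abbrev FF := forget₂ (ContAction FintypeCat.{u} G) FintypeCat.{u}

variable {G}

lemma isOpen_setOf_smul_eq (X : ContAction FintypeCat.{u} G) (x y : X.obj.V) :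
    IsOpen {g : G | g • x = y} := by
  have h := (Action.isContinuous_def X.obj).1 X.property
  have h2 : Continuous (fun g : G => g • x) := by
    have := h.comp (Continuous.prodMk_left (x : (forget₂ (Action FintypeCat.{u} G) TopCat).obj X.obj))
    exact this
  have : {g : G | g • x = y} = (fun g : G => g • x) ⁻¹' {y} := rfl
  rw [this]
  exact (isOpen_discrete _).preimage h2

lemma ev_nat (σ : Aut (FF G)) {X Y : ContAction FintypeCat.{u} G} (f : X ⟶ Y) (x : X.obj.V) :
    σ.hom.app Y (f.hom.hom x) = f.hom.hom (σ.hom.app X x) :=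
  FunctorToFintypeCat.naturality (FF G) (FF G) σ.hom f x

lemma ev_mul (σ τ : Aut (FF G)) (X : ContAction FintypeCat.{u} G) (x : X.obj.V) :
    (σ * τ).hom.app X x = σ.hom.app X (τ.hom.app X x) := rfl

lemma ev_one (X : ContAction FintypeCat.{u} G) (x : X.obj.V) :
    (1 : Aut (FF G)).hom.app X x = x := rfl

/-- the canonical map. -/
noncomputable def iota : G →* Aut (FF G) where
  toFun g := NatIso.ofComponents (fun X => X.obj.ρAut g) (fun {X Y} f => by
    exact (f.hom.comm g).symm)
  map_one' := by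
    ext X x
    let x' : X.obj.V := x
    show (1 : G) • x' = x'
    exact one_smul G x'
  map_mul' g h := by
    ext X x
    let x' : X.obj.V := x
    show (g * h) • x' = g • (h • x')
    exact mul_smul g h x'

lemma iota_app (g : G) (X : ContAction FintypeCat.{u} G) (x : X.obj.V) :
    (iota g).hom.app X x = (X.obj.ρ g).hom x := rfl

lemma iota_app' (g : G) (X : ContAction FintypeCat.{u} G) (x : X.obj.V) :
    (iota g).hom.app X x = g • x := rfl

lemma continuous_app (X : ContAction FintypeCat.{u} G) :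
    Continuous (fun σ : Aut (FF G) => autEmbedding (FF G) σ X) :=
  (continuous_apply X).comp continuous_induced_dom

lemma isOpen_ev (X : ContAction FintypeCat.{u} G) (x y : X.obj.V) :
    IsOpen {σ : Aut (FF G) | σ.hom.app X x = y} := by
  have : {σ : Aut (FF G) | σ.hom.app X x = y} =
      (fun σ : Aut (FF G) => autEmbedding (FF G) σ X) ⁻¹' {a | a.hom x = y} := rfl
  rw [this]
  exact (isOpen_discrete _).preimage (continuous_app X)

lemma aut_ext {X : FintypeCat.{u}} (a b : Aut X) (h : ∀ x : X, a.hom x = b.hom x) : a = b := by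
  ext x
  exact h x

lemma continuous_iota : Continuous (iota : G → Aut (FF G)) := by
  rw [continuous_induced_rng]
  refine continuous_pi (fun X => ?_)
  rw [continuous_discrete_rng]
  intro a
  by_cases hne : ∃ g₀ : G, autEmbedding (FF G) (iota g₀) X = a
  · obtain ⟨g₀, rfl⟩ := hne
    have : ((fun σ => autEmbedding (FF G) σ X) ∘ (iota : G → Aut (FF G))) ⁻¹'
        {autEmbedding (FF G) (iota g₀) X} = ⋂ x : X.obj.V, {g : G | g • x = g₀ • x} := by
      ext g
      simp only [Set.mem_preimage, Set.mem_singleton_iff, Set.mem_iInter, Set.mem_ofPred_eq]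
      constructor
      · intro h x
        have := congrArg (fun a : Aut ((FF G).obj X) => a.hom x) h
        exact this
      · intro h
        exact aut_ext _ _ h
    change IsOpen (((fun σ => autEmbedding (FF G) σ X) ∘ (iota : G → Aut (FF G))) ⁻¹' _)
    rw [this]
    exact isOpen_iInter_of_finite (fun x => isOpen_setOf_smul_eq X x _)
  · have : ((fun σ => autEmbedding (FF G) σ X) ∘ (iota : G → Aut (FF G))) ⁻¹' {a} = ∅ := by
      ext g
      simp only [Set.mem_preimage, Set.mem_singleton_iff, Set.mem_empty_iff_false, iff_false]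
      exact fun hg => hne ⟨g, hg⟩
    change IsOpen (((fun σ => autEmbedding (FF G) σ X) ∘ (iota : G → Aut (FF G))) ⁻¹' _)
    rw [this]
    exact isOpen_empty


variable [IsTopologicalGroup G]

lemma isContinuous_of (X : Action FintypeCat.{u} G)
    (h : ∀ x : X.V, IsOpen {g : G | g • x = x}) : X.IsContinuous := by
  rw [Action.isContinuous_def]
  show Continuous (fun p : G × X.V => p.1 • p.2)
  rw [continuous_prod_of_discrete_right]
  intro x
  rw [continuous_discrete_rng]
  intro y
  by_cases hne : ∃ g₀ : G, g₀ • x = y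
  · obtain ⟨g₀, hg₀⟩ := hne
    have : (fun g : G => g • x) ⁻¹' {y} =
        (fun g : G => g₀⁻¹ * g) ⁻¹' {g : G | g • x = x} := by
      ext g
      simp only [Set.mem_preimage, Set.mem_singleton_iff, Set.mem_ofPred_eq]
      rw [mul_smul, inv_smul_eq_iff, hg₀]
    rw [this]
    exact (h x).preimage (continuous_const.mul continuous_id)
  · have : (fun g : G => g • x) ⁻¹' {y} = ∅ := by
      ext g
      simp only [Set.mem_preimage, Set.mem_singleton_iff, Set.mem_empty_iff_false, iff_false]
      exact fun hg => hne ⟨g, hg⟩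
    rw [this]
    exact isOpen_empty

/-- a finite continuous `G`-set from a finite type with an action with open stabilizers. -/
noncomputable def mkObj (Y : Type u) [Finite Y] [MulAction G Y]
    (h : ∀ y : Y, IsOpen {g : G | g • y = y}) : ContAction FintypeCat.{u} G :=
  haveI : Fintype Y := Fintype.ofFinite Y
  ⟨Action.FintypeCat.ofMulAction G (FintypeCat.of Y), isContinuous_of _ h⟩

/-- an equivariant map out of `mkObj`. -/
noncomputable def homOfMk (Y : Type u) [Finite Y] [MulAction G Y]
    (h : ∀ y : Y, IsOpen {g : G | g • y = y}) (X : ContAction FintypeCat.{u} G)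
    (f : Y → X.obj.V) (hf : ∀ (g : G) (y : Y), f (g • y) = g • f y) : mkObj Y h ⟶ X :=
  ObjectProperty.homMk ⟨FintypeCat.homMk f, fun g => by
    ext y
    exact hf g y⟩

/-- an equivariant map between `mkObj`s. -/
noncomputable def homMkMk (Y Z : Type u) [Finite Y] [MulAction G Y] [Finite Z] [MulAction G Z]
    (h : ∀ y : Y, IsOpen {g : G | g • y = y}) (h' : ∀ y : Z, IsOpen {g : G | g • y = y})
    (f : Y → Z) (hf : ∀ (g : G) (y : Y), f (g • y) = g • f y) : mkObj Y h ⟶ mkObj Z h' :=
  ObjectProperty.homMk ⟨FintypeCat.homMk f, fun g => by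
    ext y
    exact hf g y⟩

/-- evaluation of an automorphism on `mkObj`. -/
noncomputable def evMk (σ : Aut (FF G)) (Y : Type u) [Finite Y] [MulAction G Y]
    (h : ∀ y : Y, IsOpen {g : G | g • y = y}) (y : Y) : Y :=
  σ.hom.app (mkObj Y h) y

lemma evMk_homOfMk (σ : Aut (FF G)) (Y : Type u) [Finite Y] [MulAction G Y]
    (h : ∀ y : Y, IsOpen {g : G | g • y = y}) (X : ContAction FintypeCat.{u} G)
    (f : Y → X.obj.V) (hf : ∀ (g : G) (y : Y), f (g • y) = g • f y) (y : Y) :
    σ.hom.app X (f y) = f (evMk σ Y h y) :=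
  ev_nat σ (homOfMk Y h X f hf) y

lemma evMk_homMkMk (σ : Aut (FF G)) (Y Z : Type u) [Finite Y] [MulAction G Y] [Finite Z]
    [MulAction G Z]
    (h : ∀ y : Y, IsOpen {g : G | g • y = y}) (h' : ∀ y : Z, IsOpen {g : G | g • y = y})
    (f : Y → Z) (hf : ∀ (g : G) (y : Y), f (g • y) = g • f y) (y : Y) :
    evMk σ Z h' (f y) = f (evMk σ Y h y) :=
  ev_nat σ (homMkMk Y Z h h' f hf) y


section key

variable {n : ℕ} (Xf : Fin n → ContAction FintypeCat.{u} G)

/-- the big product. -/
abbrev PP : Type u := (i : Fin n) → (x : (Xf i).obj.V) → (Xf i).obj.V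

lemma PP_isOpen (f : PP Xf) : IsOpen {g : G | g • f = f} := by
  have : {g : G | g • f = f} = ⋂ i : Fin n, ⋂ x : (Xf i).obj.V, {g : G | g • f i x = f i x} := by
    ext g
    simp only [Set.mem_ofPred_eq, Set.mem_iInter]
    constructor
    · intro h i x
      exact congrFun (congrFun h i) x
    · intro h
      funext i x
      exact h i x
  rw [this]
  exact isOpen_iInter_of_finite (fun i => isOpen_iInter_of_finite
    (fun x => isOpen_setOf_smul_eq (Xf i) _ _))

/-- the tautological point. -/
def tt : PP Xf := fun _ x => x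

lemma orbit_isOpen (y : MulAction.orbit G (tt Xf)) : IsOpen {g : G | g • y = y} := by
  have : {g : G | g • y = y} = {g : G | g • (y : PP Xf) = (y : PP Xf)} := by
    ext g
    simp only [Set.mem_ofPred_eq]
    rw [← MulAction.orbit.coe_smul, Subtype.ext_iff]
  rw [this]
  exact PP_isOpen Xf _

lemma exists_smul_eq (σ : Aut (FF G)) :
    ∃ g : G, ∀ (i : Fin n) (x : (Xf i).obj.V), g • x = σ.hom.app (Xf i) x := by
  have h1 := evMk_homMkMk σ (MulAction.orbit G (tt Xf)) (PP Xf) (orbit_isOpen Xf) (PP_isOpen Xf)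
    (fun y => (y : PP Xf)) (fun g y => MulAction.orbit.coe_smul) ⟨tt Xf, MulAction.mem_orbit_self _⟩
  have h2 : evMk σ (PP Xf) (PP_isOpen Xf) (tt Xf) ∈ MulAction.orbit G (tt Xf) := by
    rw [show tt Xf = ((⟨tt Xf, MulAction.mem_orbit_self _⟩ : MulAction.orbit G (tt Xf)) : PP Xf)
      from rfl, h1]
    exact Subtype.property _
  obtain ⟨g, hg⟩ := MulAction.mem_orbit_iff.1 h2
  refine ⟨g, fun i x => ?_⟩
  have h3 := evMk_homOfMk σ (PP Xf) (PP_isOpen Xf) (Xf i) (fun f => f i x) (fun g f => rfl) (tt Xf)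
  have h4 : σ.hom.app (Xf i) x = evMk σ (PP Xf) (PP_isOpen Xf) (tt Xf) i x := h3
  rw [h4, ← hg]
  rfl

end key


lemma denseRange_iota : DenseRange (iota : G → Aut (FF G)) := by
  intro σ
  rw [mem_closure_iff]
  intro o ho hσ
  obtain ⟨t, ht, rfl⟩ := isOpen_induced_iff.1 ho
  obtain ⟨I, v, hv, hsub⟩ := isOpen_pi_iff.1 ht _ hσ
  let e := I.equivFin.symm
  obtain ⟨g, hg⟩ := exists_smul_eq (fun i => (e i).1) σ
  refine ⟨iota g, ?_, ⟨g, rfl⟩⟩
  refine hsub ?_
  intro X hX
  have h1 : autEmbedding (FF G) (iota g) X = autEmbedding (FF G) σ X := by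
    refine aut_ext _ _ (fun x => ?_)
    obtain ⟨i, hi⟩ := e.surjective ⟨X, hX⟩
    have h2 : (e i).1 = X := congrArg Subtype.val hi
    subst h2
    exact hg i x
  rw [h1]
  exact (hv X hX).2


section univ

variable {Q : Type u} [Group Q] [Finite Q] [TopologicalSpace Q] [DiscreteTopology Q]
  (π : G →* Q) (hπ : Continuous π)

/-- `Q` as a `G`-set via `π`. -/
def QS (_ : G →* Q) : Type u := Q

/-- to `Q`. -/
def QS.val {π : G →* Q} (q : QS π) : Q := q

/-- from `Q`. -/
def QS.mk (π : G →* Q) (q : Q) : QS π := q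

instance : Finite (QS π) := inferInstanceAs (Finite Q)

instance : MulAction G (QS π) := MulAction.compHom Q π

lemma QS_smul (g : G) (q : QS π) : g • q = QS.mk π (π g * q.val) := rfl

include hπ in
lemma QS_isOpen (q : QS π) : IsOpen {g : G | g • q = q} := by
  have : {g : G | g • q = q} = π ⁻¹' {a : Q | a * q.val = q.val} := rfl
  rw [this]
  exact (isOpen_discrete _).preimage hπ

/-- the candidate factorization. -/
noncomputable def psiFun (σ : Aut (FF G)) : Q :=
  (evMk σ (QS π) (QS_isOpen π hπ) (QS.mk π 1)).val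

lemma evMk_QS (σ : Aut (FF G)) (q : Q) :
    (evMk σ (QS π) (QS_isOpen π hπ) (QS.mk π q)).val = psiFun π hπ σ * q := by
  have h := evMk_homMkMk σ (QS π) (QS π) (QS_isOpen π hπ) (QS_isOpen π hπ)
    (fun a => QS.mk π (a.val * q)) (fun g a => congrArg (QS.mk π) (mul_assoc (π g) a.val q))
    (QS.mk π 1)
  have h2 : QS.mk π ((QS.mk π (1 : Q)).val * q) = QS.mk π q := congrArg (QS.mk π) (one_mul q)
  rw [h2] at h
  exact congrArg QS.val h

/-- the factorization. -/
noncomputable def psi : Aut (FF G) →* Q where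
  toFun := psiFun π hπ
  map_one' := rfl
  map_mul' σ τ := by
    have h1 : psiFun π hπ (σ * τ) =
        (evMk σ (QS π) (QS_isOpen π hπ) (QS.mk π (psiFun π hπ τ))).val := rfl
    rw [h1, evMk_QS]

lemma psi_iota (g : G) : psi π hπ (iota g) = π g := by
  show (g • (QS.mk π (1 : Q))).val = π g
  rw [QS_smul]
  exact mul_one _

lemma continuous_psi : Continuous (psi π hπ) := by
  rw [continuous_discrete_rng]
  intro q
  exact isOpen_ev (mkObj (QS π) (QS_isOpen π hπ)) (QS.mk π 1) (QS.mk π q)

end univ

/-- `S18428`. -/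
theorem main (G : Type u) [Group G] [TopologicalSpace G] [IsTopologicalGroup G] :
    ∃ ι : G →* Aut (forget₂ (ContAction FintypeCat.{u} G) FintypeCat.{u}),
      Continuous ι ∧
      (∀ (g : G) (X : ContAction FintypeCat.{u} G) (x : X.obj.V),
        (ι g).hom.app X x = (X.obj.ρ g).hom x) ∧
      DenseRange ι ∧
      ∀ (Q : Type u) [Group Q] [Finite Q] [TopologicalSpace Q] [DiscreteTopology Q] (π : G →* Q),
        Continuous π → ∃! ψ : Aut (forget₂ (ContAction FintypeCat.{u} G) FintypeCat.{u}) →* Q,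
          Continuous ψ ∧ ψ.comp ι = π := by
  refine ⟨iota, continuous_iota, fun g X x => rfl, denseRange_iota, ?_⟩
  intro Q _ _ _ _ π hπ
  refine ⟨psi π hπ, ⟨continuous_psi π hπ, MonoidHom.ext (psi_iota π hπ)⟩, ?_⟩
  rintro ψ' ⟨hc, he⟩
  have h1 : (ψ' : Aut (FF G) → Q) = psi π hπ := by
    refine Continuous.ext_on denseRange_iota hc (continuous_psi π hπ) ?_
    rintro _ ⟨g, rfl⟩
    rw [psi_iota]
    exact DFunLike.congr_fun he g
  exact MonoidHom.ext (congrFun h1)

end Groth.Agent.Lib.H15ContAut
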