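import Mathlib.Algebra.Category.ModuleCat.Limits
import Mathlib.Algebra.Category.ModuleCat.Basic
import Mathlib.RingTheory.Localization.Away.Basic
import Mathlib.LinearAlgebra.Finsupp.LSum
import Mathlib.LinearAlgebra.Finsupp.Defs
import Mathlib.LinearAlgebra.Quotient.Basic
import Mathlib.CategoryTheory.Limits.Types.Limits

/-!
# Derived `f`-complete modules, elementary theory (helper15)

For `f : Λ` and a `Λ`-module `M`, `DCseq f M` says that `(x_i) ↦ (x_i - f x_{i+1})` is bijective on
`ℕ → M` (i.e. `Hom(Λ_f, M) = 0 = Ext^1(Λ_f, M)`).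

* `Dmap`, `epsMap`: the free resolution `0 → Λ^(ℕ) → Λ^(ℕ) → Λ_f → 0`
  (`Dmap_injective`, `epsMap_surjective`, `epsMap_comp_Dmap`, `ker_epsMap_le`).
* `DCseq.of_ker`, `DCseq.of_coker`, `DCseq.of_ext`, `DCseq.of_pow_smul_eq_zero`, `DCseq.of_isLimit`.
* `subsingleton_of_DCseq_of_gen`: derived Nakayama.
* `DCHom`, `dcHom_iff_dcSeq`.
-/

set_option autoImplicit false
set_option linter.style.haveILetI false
universe v u

open CategoryTheory CategoryTheory.Limits

namespace Groth.Agent.Lib.H15DCModule

section resolution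

variable (Λ : Type*) [CommRing Λ] (f : Λ)

/-- `D : Λ^(ℕ) → Λ^(ℕ)`, `e_i ↦ e_i - f e_{i+1}`. -/
noncomputable def Dmap : (ℕ →₀ Λ) →ₗ[Λ] (ℕ →₀ Λ) :=
  LinearMap.id - f • Finsupp.lmapDomain Λ Λ Nat.succ

lemma Dmap_single (i : ℕ) (a : Λ) :
    Dmap Λ f (Finsupp.single i a) = Finsupp.single i a - Finsupp.single (i + 1) (f * a) := by
  simp [Dmap, Finsupp.lmapDomain_apply, Finsupp.mapDomain_single, Finsupp.smul_single]

lemma Dmap_apply_zero (x : ℕ →₀ Λ) : Dmap Λ f x 0 = x 0 := by
  have : (Finsupp.mapDomain Nat.succ x) 0 = 0 := by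
    apply Finsupp.mapDomain_of_notMem_range
    simp
  simp [Dmap, Finsupp.lmapDomain_apply, this]

lemma Dmap_apply_succ (x : ℕ →₀ Λ) (j : ℕ) : Dmap Λ f x (j + 1) = x (j + 1) - f * x j := by
  have : (Finsupp.mapDomain Nat.succ x) (j + 1) = x j :=
    Finsupp.mapDomain_apply Nat.succ_injective x j
  simp [Dmap, Finsupp.lmapDomain_apply, this]

lemma Dmap_injective : Function.Injective (Dmap Λ f) := by
  rw [← LinearMap.ker_eq_bot, LinearMap.ker_eq_bot']
  intro x hx
  ext j
  induction j with
  | zero => rw [← Dmap_apply_zero Λ f x, hx]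
  | succ j ih =>
    have := Dmap_apply_succ Λ f x j
    rw [hx, ih] at this
    simpa using this.symm

/-- `ε : Λ^(ℕ) → Λ_f`, `e_i ↦ 1/f^i`. -/
noncomputable def epsMap : (ℕ →₀ Λ) →ₗ[Λ] Localization.Away f :=
  Finsupp.lift (Localization.Away f) Λ ℕ (fun i => IsLocalization.Away.invSelf f ^ i)

lemma epsMap_single (i : ℕ) (a : Λ) :
    epsMap Λ f (Finsupp.single i a) = a • (IsLocalization.Away.invSelf f : Localization.Away f) ^ i := by
  simp [epsMap]

lemma smul_invSelf : f • (IsLocalization.Away.invSelf f : Localization.Away f) = 1 := by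
  rw [Algebra.smul_def]
  exact IsLocalization.Away.mul_invSelf f

lemma epsMap_comp_Dmap : epsMap Λ f ∘ₗ Dmap Λ f = 0 := by
  apply Finsupp.lhom_ext
  intro i a
  simp only [LinearMap.comp_apply, Dmap_single, map_sub, epsMap_single, LinearMap.zero_apply]
  have key : algebraMap Λ (Localization.Away f) f * IsLocalization.Away.invSelf f = 1 :=
    IsLocalization.Away.mul_invSelf f
  rw [Algebra.smul_def, Algebra.smul_def, map_mul, pow_succ]
  have : algebraMap Λ (Localization.Away f) f * algebraMap Λ (Localization.Away f) a *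
      (IsLocalization.Away.invSelf f ^ i * IsLocalization.Away.invSelf f) =
      algebraMap Λ (Localization.Away f) a * IsLocalization.Away.invSelf f ^ i *
        (algebraMap Λ (Localization.Away f) f * IsLocalization.Away.invSelf f) := by ring
  rw [this, key, mul_one, sub_self]

lemma epsMap_surjective : Function.Surjective (epsMap Λ f) := by
  intro z
  obtain ⟨n, a, ha⟩ := IsLocalization.Away.surj f z
  refine ⟨Finsupp.single n a, ?_⟩
  rw [epsMap_single, Algebra.smul_def, ← ha, mul_assoc, ← mul_pow,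
    IsLocalization.Away.mul_invSelf, one_pow, mul_one]

lemma range_Dmap_aux (i k : ℕ) (a : Λ) :
    Finsupp.single i a - Finsupp.single (i + k) (f ^ k * a) ∈ LinearMap.range (Dmap Λ f) := by
  induction k with
  | zero => simp
  | succ k ih =>
    have h1 : Finsupp.single (i + k) (f ^ k * a) - Finsupp.single (i + k + 1) (f * (f ^ k * a)) ∈
        LinearMap.range (Dmap Λ f) := ⟨_, Dmap_single Λ f _ _⟩
    have := Submodule.add_mem _ ih h1
    convert this using 1
    rw [pow_succ, add_assoc]
    have : f ^ k * f * a = f * (f ^ k * a) := by ring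
    rw [this]
    abel

lemma ker_epsMap_le : LinearMap.ker (epsMap Λ f) ≤ LinearMap.range (Dmap Λ f) := by
  intro x hx
  -- bound on the support
  obtain ⟨n, hn⟩ : ∃ n, ∀ i ∈ x.support, i ≤ n := ⟨x.support.sup id, fun i hi => Finset.le_sup (f := id) hi⟩
  let c : Λ := x.sum (fun i a => f ^ (n - i) * a)
  have h1 : x - Finsupp.single n c ∈ LinearMap.range (Dmap Λ f) := by
    have hc : Finsupp.single n c = x.sum (fun i a => Finsupp.single n (f ^ (n - i) * a)) := by
      simp only [c, Finsupp.sum]
      rw [Finsupp.single_finsetSum]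
    have hx' : x.sum (fun i a => Finsupp.single i a - Finsupp.single n (f ^ (n - i) * a)) =
        x - Finsupp.single n c := by
      rw [Finsupp.sum_sub, Finsupp.sum_single, hc]
    rw [← hx']
    apply Submodule.sum_mem
    intro i hi
    have := range_Dmap_aux Λ f i (n - i) (x i)
    rwa [Nat.add_sub_cancel' (hn i hi)] at this
  have h2 : epsMap Λ f (Finsupp.single n c) = 0 := by
    have h3 : epsMap Λ f (x - Finsupp.single n c) = 0 := by
      obtain ⟨y, hy⟩ := h1
      rw [← hy]
      exact LinearMap.congr_fun (epsMap_comp_Dmap Λ f) y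
    rw [map_sub, LinearMap.mem_ker.1 hx, zero_sub, neg_eq_zero] at h3
    exact h3
  -- `c / f^n = 0` so `f^m c = 0`
  have h4 : algebraMap Λ (Localization.Away f) c = 0 := by
    rw [epsMap_single, Algebra.smul_def] at h2
    have : algebraMap Λ (Localization.Away f) c =
        algebraMap Λ (Localization.Away f) c * IsLocalization.Away.invSelf f ^ n *
          algebraMap Λ (Localization.Away f) f ^ n := by
      rw [mul_assoc, ← mul_pow, mul_comm (IsLocalization.Away.invSelf f),
        IsLocalization.Away.mul_invSelf, one_pow, mul_one]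
    rw [this, h2, zero_mul]
  obtain ⟨⟨_, m, rfl⟩, hm⟩ := (IsLocalization.map_eq_zero_iff (Submonoid.powers f) _ c).1 h4
  have h5 : Finsupp.single n c ∈ LinearMap.range (Dmap Λ f) := by
    have := range_Dmap_aux Λ f n m c
    simp only at hm
    rwa [hm, Finsupp.single_zero, sub_zero] at this
  have := Submodule.add_mem _ h1 h5
  rwa [sub_add_cancel] at this


end resolution

section seq

variable {Λ : Type u} [CommRing Λ] (f : Λ)

/-- `(x_i) ↦ (x_i - f x_{i+1})` on sequences. -/
def Phi (M : Type*) [AddCommGroup M] [Module Λ M] : (ℕ → M) →ₗ[Λ] (ℕ → M) :=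
  LinearMap.id - f • LinearMap.funLeft Λ M Nat.succ

variable {M N K : Type*} [AddCommGroup M] [Module Λ M] [AddCommGroup N] [Module Λ N]
  [AddCommGroup K] [Module Λ K]

@[simp] lemma Phi_apply (x : ℕ → M) (i : ℕ) : Phi f M x i = x i - f • x (i + 1) := by
  simp [Phi, LinearMap.funLeft_apply]

lemma Phi_comp (g : M →ₗ[Λ] N) (x : ℕ → M) : Phi f N (fun i => g (x i)) = fun i => g (Phi f M x i) := by
  funext i
  simp

lemma Phi_comp_apply (g : M →ₗ[Λ] N) (x : ℕ → M) (j : ℕ) :
    Phi f N (fun i => g (x i)) j = g (Phi f M x j) := congrFun (Phi_comp f g x) j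

/-- derived `f`-completeness of a module, in terms of sequences. -/
def DCseq (M : Type*) [AddCommGroup M] [Module Λ M] : Prop := Function.Bijective (Phi f M)

variable {f}

/-- kernels -/
theorem DCseq.of_ker (hM : DCseq f M) (hN : DCseq f N) (i : K →ₗ[Λ] M) (φ : M →ₗ[Λ] N)
    (hi : Function.Injective i) (hex : ∀ m, φ m = 0 → ∃ k, i k = m) (hz : ∀ k, φ (i k) = 0) :
    DCseq f K := by
  constructor
  · rw [← LinearMap.ker_eq_bot, LinearMap.ker_eq_bot']
    intro x hx
    have h1 : Phi f M (fun j => i (x j)) = 0 := by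
      rw [Phi_comp, hx]; funext j; simp
    have h2 := (LinearMap.ker_eq_bot'.1 (LinearMap.ker_eq_bot.2 hM.1)) _ h1
    funext j
    exact hi ((congrFun h2 j).trans (map_zero i).symm)
  · intro y
    obtain ⟨b, hb⟩ := hM.2 (fun j => i (y j))
    have h1 : Phi f N (fun j => φ (b j)) = 0 := by
      rw [Phi_comp, hb]; funext j; simp [hz]
    have h2 := (LinearMap.ker_eq_bot'.1 (LinearMap.ker_eq_bot.2 hN.1)) _ h1
    have h3 : ∀ j, ∃ k, i k = b j := fun j => hex _ (congrFun h2 j)
    choose a ha using h3
    refine ⟨a, ?_⟩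
    funext j
    apply hi
    have := Phi_comp_apply f i a j
    rw [← this]
    have hab : (fun j => i (a j)) = b := funext ha
    rw [hab, hb]

/-- cokernels -/
theorem DCseq.of_coker (hM : DCseq f M) (hN : DCseq f N) (φ : M →ₗ[Λ] N) (p : N →ₗ[Λ] K)
    (hp : Function.Surjective p) (hex : ∀ n, p n = 0 → ∃ m, φ m = n) (hz : ∀ m, p (φ m) = 0) :
    DCseq f K := by
  constructor
  · rw [← LinearMap.ker_eq_bot, LinearMap.ker_eq_bot']
    intro x hx
    choose b hb using fun j => hp (x j)
    have hbx : (fun j => p (b j)) = x := funext hb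
    have h1 : ∀ j, p (Phi f N b j) = 0 := by
      intro j
      have := Phi_comp_apply f p b j
      rw [← this, hbx, hx]; rfl
    choose m hm using fun j => hex _ (h1 j)
    obtain ⟨m', hm'⟩ := hM.2 m
    have h2 : Phi f N (fun j => b j - φ (m' j)) = 0 := by
      have e1 : (fun j => b j - φ (m' j)) = b - fun j => φ (m' j) := rfl
      rw [e1, map_sub, Phi_comp, hm']
      funext j
      simp only [Pi.sub_apply, Pi.zero_apply]
      rw [hm j, sub_self]
    have h3 := (LinearMap.ker_eq_bot'.1 (LinearMap.ker_eq_bot.2 hN.1)) _ h2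
    funext j
    have h4 : b j = φ (m' j) := sub_eq_zero.1 (congrFun h3 j)
    rw [← hb j, h4, hz]; rfl
  · intro y
    choose b hb using fun j => hp (y j)
    obtain ⟨c, hc⟩ := hN.2 b
    refine ⟨fun j => p (c j), ?_⟩
    rw [Phi_comp, hc]
    exact funext hb

/-- extensions -/
theorem DCseq.of_ext (hK : DCseq f K) (hN : DCseq f N) (i : K →ₗ[Λ] M) (p : M →ₗ[Λ] N)
    (hi : Function.Injective i) (hp : Function.Surjective p)
    (hex : ∀ m, p m = 0 → ∃ k, i k = m) : DCseq f M := by
  constructor
  · rw [← LinearMap.ker_eq_bot, LinearMap.ker_eq_bot']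
    intro x hx
    have h1 : Phi f N (fun j => p (x j)) = 0 := by
      rw [Phi_comp, hx]; funext j; simp
    have h2 := (LinearMap.ker_eq_bot'.1 (LinearMap.ker_eq_bot.2 hN.1)) _ h1
    choose a ha using fun j => hex _ (congrFun h2 j)
    have hax : (fun j => i (a j)) = x := funext ha
    have h3 : Phi f K a = 0 := by
      funext j
      apply hi
      have := Phi_comp_apply f i a j
      rw [← this, hax, hx]; simp
    have h4 := (LinearMap.ker_eq_bot'.1 (LinearMap.ker_eq_bot.2 hK.1)) _ h3
    rw [← hax, h4]; funext j; simp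
  · intro y
    obtain ⟨c, hc⟩ := hN.2 (fun j => p (y j))
    choose b hb using fun j => hp (c j)
    have hbc : (fun j => p (b j)) = c := funext hb
    have h1 : ∀ j, p (y j - Phi f M b j) = 0 := by
      intro j
      have := Phi_comp_apply f p b j
      rw [map_sub, ← this, hbc, hc, sub_self]
    choose a ha using fun j => hex _ (h1 j)
    obtain ⟨a', ha'⟩ := hK.2 a
    refine ⟨b + fun j => i (a' j), ?_⟩
    rw [map_add, Phi_comp, ha']
    funext j
    simp only [Pi.add_apply]
    rw [ha j]; abel

/-- modules killed by a power of `f` -/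
theorem DCseq.of_pow_smul_eq_zero (n : ℕ) (h : ∀ m : M, f ^ n • m = 0) : DCseq f M := by
  have key : ∀ (x : ℕ → M) (k i : ℕ),
      x i = (∑ l ∈ Finset.range k, f ^ l • Phi f M x (i + l)) + f ^ k • x (i + k) := by
    intro x k
    induction k with
    | zero => intro i; simp
    | succ k ih =>
      intro i
      rw [Finset.sum_range_succ, add_assoc]
      conv_lhs => rw [ih i]
      congr 1
      rw [Phi_apply, smul_sub, pow_succ, mul_smul]
      have : i + (k + 1) = i + k + 1 := rfl
      rw [this]
      abel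
  constructor
  · rw [← LinearMap.ker_eq_bot, LinearMap.ker_eq_bot']
    intro x hx
    funext i
    rw [key x n i, hx, h]
    simp
  · intro y
    refine ⟨fun i => ∑ l ∈ Finset.range n, f ^ l • y (i + l), ?_⟩
    funext i
    rw [Phi_apply, Finset.smul_sum]
    have e1 : ∑ l ∈ Finset.range n, f • f ^ l • y (i + 1 + l) =
        ∑ l ∈ Finset.range n, f ^ (l + 1) • y (i + (l + 1)) := by
      apply Finset.sum_congr rfl
      intro l _
      have e0 : i + 1 + l = i + (l + 1) := by omega
      rw [pow_succ, mul_comm, mul_smul, e0]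
    rw [e1]
    have e2 := Finset.sum_range_succ' (fun l => f ^ l • y (i + l)) n
    have e3 := Finset.sum_range_succ (fun l => f ^ l • y (i + l)) n
    rw [h, add_zero] at e3
    rw [← e3, e2]
    simp


theorem DCseq.of_isLimit {J : Type*} [Category J] (G : J ⥤ ModuleCat.{v} Λ) (c : Cone G)
    (hc : IsLimit c) [PreservesLimit G (forget (ModuleCat.{v} Λ))]
    (h : ∀ j, DCseq f (G.obj j)) : DCseq f c.pt := by
  let t := isLimitOfPreserves (forget (ModuleCat.{v} Λ)) hc
  let e := Types.isLimitEquivSections t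
  let π : ∀ j, c.pt →ₗ[Λ] G.obj j := fun j => (c.π.app j).hom
  have he : ∀ (x : c.pt) (j : J), (e x).1 j = π j x := fun x j => rfl
  have hw : ∀ {j j' : J} (g : j ⟶ j') (x : c.pt), (G.map g).hom (π j x) = π j' x := by
    intro j j' g x
    have := c.w g
    exact congrArg (fun k => k.hom x) this
  have hinj : ∀ x x' : c.pt, (∀ j, π j x = π j x') → x = x' := by
    intro x x' hx
    apply e.injective
    apply Subtype.ext
    funext j
    exact hx j
  constructor
  · intro x x' hxx
    funext i
    apply hinj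
    intro j
    have h1 : Phi f (G.obj j) (fun i => π j (x i)) = Phi f (G.obj j) (fun i => π j (x' i)) := by
      rw [Phi_comp, Phi_comp, hxx]
    exact congrFun ((h j).1 h1) i
  · intro y
    -- solve in each `G.obj j`
    choose z hz using fun j => (h j).2 (fun i => π j (y i))
    have hcompat : ∀ (i : ℕ) {j j' : J} (g : j ⟶ j'), (G.map g).hom (z j i) = z j' i := by
      intro i j j' g
      have h1 : Phi f (G.obj j') (fun i => (G.map g).hom (z j i)) = Phi f (G.obj j') (z j') := by
        rw [Phi_comp, hz j, hz j']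
        funext i
        exact hw g (y i)
      exact congrFun ((h j').1 h1) i
    let x : ℕ → c.pt := fun i => e.symm ⟨fun j => z j i, fun {j j'} g => hcompat i g⟩
    have hx : ∀ i j, π j (x i) = z j i := by
      intro i j
      rw [← he]
      simp only [x, Equiv.apply_symm_apply]
    refine ⟨x, ?_⟩
    funext i
    apply hinj
    intro j
    rw [← Phi_comp_apply]
    have : (fun i => π j (x i)) = z j := funext (fun i => hx i j)
    rw [this, hz j]


theorem subsingleton_of_smul_surjective (hM : DCseq f M)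
    (hs : Function.Surjective (fun m : M => f • m)) : Subsingleton M := by
  suffices h : ∀ m : M, m = 0 from ⟨fun a b => by rw [h a, h b]⟩
  intro m
  choose g hg using hs
  let x : ℕ → M := fun i => Nat.rec m (fun _ y => g y) i
  have hx : ∀ i, f • x (i + 1) = x i := fun i => hg (x i)
  have h0 : Phi f M x = Phi f M 0 := by
    funext i
    rw [Phi_apply, hx i, sub_self, map_zero]
    rfl
  have := congrFun (hM.1 h0) 0
  exact this

theorem subsingleton_of_DCseq_of_gen : ∀ (r : ℕ) (a : Fin r → Λ) (M : Type v) [AddCommGroup M]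
    [Module Λ M], (∀ k, DCseq (a k) M) → (∀ m : M, ∃ c : Fin r → M, m = ∑ k, a k • c k) →
    Subsingleton M := by
  intro r
  induction r with
  | zero =>
    intro a M _ _ _ hgen
    refine ⟨fun m m' => ?_⟩
    obtain ⟨c, hc⟩ := hgen m
    obtain ⟨c', hc'⟩ := hgen m'
    rw [hc, hc']
    simp
  | succ r ih =>
    intro a M _ _ hDC hgen
    let φ : M →ₗ[Λ] M := LinearMap.lsmul Λ M (a 0)
    let Nq := M ⧸ LinearMap.range φ
    let p : M →ₗ[Λ] Nq := (LinearMap.range φ).mkQ
    have hp : Function.Surjective p := Submodule.mkQ_surjective _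
    have hN : Subsingleton Nq := by
      apply ih (fun k => a k.succ) Nq
      · intro k
        refine DCseq.of_coker (hDC k.succ) (hDC k.succ) φ p hp ?_ ?_
        · intro n hn
          have : n ∈ LinearMap.range φ := by
            rwa [← Submodule.ker_mkQ (LinearMap.range φ)]
          exact this
        · intro m
          have : φ m ∈ LinearMap.range φ := ⟨m, rfl⟩
          rwa [← Submodule.ker_mkQ (LinearMap.range φ)] at this
      · intro n
        obtain ⟨m, rfl⟩ := hp n
        obtain ⟨c, hc⟩ := hgen m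
        refine ⟨fun k => p (c k.succ), ?_⟩
        rw [hc, Fin.sum_univ_succ, map_add, map_sum]
        have h1 : p (a 0 • c 0) = 0 := by
          have : a 0 • c 0 ∈ LinearMap.range φ := ⟨c 0, rfl⟩
          rwa [← Submodule.ker_mkQ (LinearMap.range φ)] at this
        rw [h1, zero_add]
        simp
    apply subsingleton_of_smul_surjective (hDC 0)
    intro m
    have h1 : p m = 0 := Subsingleton.elim _ _
    have h2 : m ∈ LinearMap.range φ := by
      rwa [← Submodule.ker_mkQ (LinearMap.range φ)]
    obtain ⟨m', hm'⟩ := h2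
    exact ⟨m', hm'⟩


variable (f)

/-- derived `f`-completeness of a module, in terms of homs out of the free module. -/
def DCHom (M : ModuleCat.{u} Λ) : Prop :=
  Function.Bijective (fun h : ModuleCat.of Λ (ℕ →₀ Λ) ⟶ M => ModuleCat.ofHom (Dmap Λ f) ≫ h)

/-- sequences in `M` are maps out of the free module. -/
noncomputable def seqEquiv (M : ModuleCat.{u} Λ) : (ℕ → M) ≃ (ModuleCat.of Λ (ℕ →₀ Λ) ⟶ M) :=
  (Finsupp.lift M Λ ℕ).toEquiv.trans (ModuleCat.homEquiv (M := ModuleCat.of Λ (ℕ →₀ Λ)) (N := M)).symm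

lemma seqEquiv_Phi (M : ModuleCat.{u} Λ) (x : ℕ → M) :
    seqEquiv M (Phi f M x) = ModuleCat.ofHom (Dmap Λ f) ≫ seqEquiv M x := by
  ext i
  simp [seqEquiv, Dmap_single, ModuleCat.homEquiv]
  rw [Finsupp.sum_sub_index (fun a b₁ b₂ => by rw [sub_smul])]
  simp

theorem dcHom_iff_dcSeq (M : ModuleCat.{u} Λ) : DCHom f M ↔ DCseq f M := by
  have h1 : (fun h : ModuleCat.of Λ (ℕ →₀ Λ) ⟶ M => ModuleCat.ofHom (Dmap Λ f) ≫ h) ∘ seqEquiv M =
      seqEquiv M ∘ Phi f M := by
    funext x
    exact (seqEquiv_Phi f M x).symm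
  unfold DCHom DCseq
  rw [← Function.Bijective.of_comp_iff _ (seqEquiv M).bijective, h1,
    Function.Bijective.of_comp_iff' (seqEquiv M).bijective]


end seq

end Groth.Agent.Lib.H15DCModule
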