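import Groth.Agent.Lib.DirLimHens50
import Mathlib.RingTheory.FinitePresentation
import Mathlib.Data.Fintype.Order
import Mathlib.Data.Finset.Order

/-!
# Finitely presented algebras and direct limits (unbundled `DirectLimit`) (helper15)

For a directed system `G a` of `A`-algebras (ring maps `t a b` compatible with the structure maps)
with direct limit `L = DirectLimit G t` carrying the induced `A`-algebra structure:
* `exists_factor`: an `A`-algebra map from a finitely presented `A`-algebra to `L` factors through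
  some stage.
* `exists_eq_of_finiteType`: two `A`-algebra maps from a finite type `A`-algebra to a stage which
  agree in `L` agree at a later stage.
-/

set_option autoImplicit false
universe u v

namespace Groth.Agent.Lib.H15DirLimFP

open Groth.Agent.Lib

variable {κ : Type v} [Preorder κ] [IsDirectedOrder κ] [Nonempty κ]
  (A : Type u) [CommRing A]
  (G : κ → Type u) [∀ a, CommRing (G a)] [∀ a, Algebra A (G a)]
  (t : ∀ a b : κ, a ≤ b → (G a →+* G b)) [DirectedSystem G (fun a b h => t a b h)]
  (ht : ∀ (a b : κ) (h : a ≤ b), (t a b h).comp (algebraMap A (G a)) = algebraMap A (G b))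
  [Algebra A (DirectLimit G t)]
  (halg : ∀ (a : κ) (x : A), algebraMap A (DirectLimit G t) x =
      DirectLimit.Ring.of G t a (algebraMap A (G a) x))

/-- The transition maps as algebra homs. -/
def tAlg (a b : κ) (h : a ≤ b) : G a →ₐ[A] G b :=
  { t a b h with commutes' := fun x => congrArg (fun k : A →+* G b => k x) (ht a b h) }

/-- The canonical maps to the limit as algebra homs. -/
noncomputable def ofAlg (a : κ) : G a →ₐ[A] DirectLimit G t :=
  { DirectLimit.Ring.of G t a with commutes' := fun x => (halg a x).symm }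

omit [IsDirectedOrder κ] [Nonempty κ] [DirectedSystem G fun a b h => t a b h] in
@[simp] lemma tAlg_apply (a b : κ) (h : a ≤ b) (x : G a) : tAlg A G t ht a b h x = t a b h x := rfl

@[simp] lemma ofAlg_apply (a : κ) (x : G a) :
    ofAlg A G t halg a x = DirectLimit.Ring.of G t a x := rfl

omit [Algebra A (DirectLimit G t)] in
include ht in
theorem exists_eq_of_finiteType (R : Type u) [CommRing R] [Algebra A R] [Algebra.FiniteType A R]
    (a : κ) (φ ψ : R →ₐ[A] G a)
    (h : ∀ x, DirectLimit.Ring.of G t a (φ x) = DirectLimit.Ring.of G t a (ψ x)) :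
    ∃ (b : κ) (hab : a ≤ b), ∀ x, t a b hab (φ x) = t a b hab (ψ x) := by
  classical
  obtain ⟨s, hs⟩ := Algebra.FiniteType.out (R := A) (A := R)
  have h1 : ∀ x : R, ∃ (b : κ) (hab : a ≤ b), t a b hab (φ x) = t a b hab (ψ x) := by
    intro x
    obtain ⟨k, hik, hjk, hk⟩ := DirLimHens50.of_eq_of G t (h x)
    exact ⟨k, hik, hk⟩
  choose bx habx hbx using h1
  obtain ⟨M, hM⟩ := Finset.exists_le (s.image bx)
  obtain ⟨b, hMb, hab⟩ := exists_ge_ge M a
  refine ⟨b, hab, ?_⟩
  have hxs : ∀ x ∈ s, t a b hab (φ x) = t a b hab (ψ x) := by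
    intro x hx
    have hle : bx x ≤ b := (hM _ (Finset.mem_image_of_mem _ hx)).trans hMb
    rw [← DirectedSystem.map_map' (f := t) (habx x) hle, ← DirectedSystem.map_map' (f := t) (habx x) hle,
      hbx x]
  have : (tAlg A G t ht a b hab).comp φ = (tAlg A G t ht a b hab).comp ψ := by
    apply AlgHom.ext_of_adjoin_eq_top hs
    intro x hx
    exact hxs x hx
  intro x
  exact congrArg (fun k : R →ₐ[A] G b => k x) this

include ht halg in
theorem exists_factor (R : Type u) [CommRing R] [Algebra A R] [Algebra.FinitePresentation A R]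
    (g : R →ₐ[A] DirectLimit G t) :
    ∃ (a : κ) (φ : R →ₐ[A] G a), ∀ x, DirectLimit.Ring.of G t a (φ x) = g x := by
  classical
  obtain ⟨n, f, hf, hker⟩ := Algebra.FinitePresentation.out (R := A) (A := R)
  obtain ⟨s, hs⟩ := hker
  -- lift the images of the variables
  have h1 : ∀ j : Fin n, ∃ (a : κ) (z : G a), DirectLimit.Ring.of G t a z = g (f (MvPolynomial.X j)) :=
    fun j => DirLimHens50.exists_of G t _
  choose aj zj hzj using h1
  obtain ⟨a, ha⟩ := Finite.exists_le aj
  let w : Fin n → G a := fun j => t (aj j) a (ha j) (zj j)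
  let θ : MvPolynomial (Fin n) A →ₐ[A] G a := MvPolynomial.aeval w
  have hθ : (ofAlg A G t halg a).comp θ = g.comp f := by
    apply MvPolynomial.algHom_ext
    intro j
    simp only [AlgHom.comp_apply, θ, MvPolynomial.aeval_X, ofAlg_apply, w]
    rw [DirLimHens50.of_f, hzj]
  -- kill the relations
  have h2 : ∀ p : MvPolynomial (Fin n) A, p ∈ s → ∃ (b : κ) (hab : a ≤ b), t a b hab (θ p) = 0 := by
    intro p hp
    have hp0 : f p = 0 := by
      have : p ∈ RingHom.ker f.toRingHom := by
        rw [← hs]; exact Ideal.subset_span hp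
      exact this
    have : DirectLimit.Ring.of G t a (θ p) = DirectLimit.Ring.of G t a 0 := by
      have h3 := congrArg (fun k : MvPolynomial (Fin n) A →ₐ[A] DirectLimit G t => k p) hθ
      simp only [AlgHom.comp_apply, ofAlg_apply] at h3
      rw [h3, hp0, map_zero, map_zero]
    obtain ⟨k, hik, hjk, hk⟩ := DirLimHens50.of_eq_of G t this
    exact ⟨k, hik, by rw [hk, map_zero]⟩
  have h2' : ∀ p : MvPolynomial (Fin n) A, ∃ (b : κ) (hab : a ≤ b), p ∈ s → t a b hab (θ p) = 0 := by
    intro p
    by_cases hp : p ∈ s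
    · obtain ⟨b, hab, h⟩ := h2 p hp
      exact ⟨b, hab, fun _ => h⟩
    · exact ⟨a, le_rfl, fun h => absurd h hp⟩
  choose bp habp hbp using h2'
  obtain ⟨M, hM⟩ := Finset.exists_le (s.image bp)
  obtain ⟨b, hMb, hab⟩ := exists_ge_ge M a
  let θ' : MvPolynomial (Fin n) A →ₐ[A] G b := (tAlg A G t ht a b hab).comp θ
  have hθ's : ∀ p ∈ s, θ' p = 0 := by
    intro p hp
    have hle : bp p ≤ b := (hM _ (Finset.mem_image_of_mem _ hp)).trans hMb
    show t a b hab (θ p) = 0
    rw [← DirectedSystem.map_map' (f := t) (habp p) hle, hbp p hp, map_zero]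
  have hker' : ∀ p, f p = 0 → θ' p = 0 := by
    intro p hp
    have hle : Ideal.span (s : Set (MvPolynomial (Fin n) A)) ≤
        RingHom.ker (θ' : MvPolynomial (Fin n) A →+* G b) := by
      rw [Ideal.span_le]
      intro p hp
      exact hθ's p hp
    have : p ∈ RingHom.ker f.toRingHom := hp
    rw [← hs] at this
    exact hle this
  -- descend to `R`
  let e := Ideal.quotientKerAlgEquivOfSurjective hf
  let φ₁ : (MvPolynomial (Fin n) A ⧸ RingHom.ker (f : MvPolynomial (Fin n) A →+* R)) →ₐ[A] G b :=
    Ideal.Quotient.liftₐ _ θ' (fun p hp => hker' p hp)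
  let φ : R →ₐ[A] G b := φ₁.comp e.symm.toAlgHom
  have hφ : ∀ p, φ (f p) = θ' p := by
    intro p
    have : e.symm (f p) = Ideal.Quotient.mk _ p := by
      rw [AlgEquiv.symm_apply_eq]
      rfl
    show φ₁ (e.symm (f p)) = θ' p
    rw [this]
    rfl
  refine ⟨b, φ, ?_⟩
  intro x
  obtain ⟨p, rfl⟩ := hf x
  rw [hφ]
  show DirectLimit.Ring.of G t b (t a b hab (θ p)) = g (f p)
  rw [DirLimHens50.of_f]
  have h3 := congrArg (fun k : MvPolynomial (Fin n) A →ₐ[A] DirectLimit G t => k p) hθ
  simpa only [AlgHom.comp_apply, ofAlg_apply] using h3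

end Groth.Agent.Lib.H15DirLimFP
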