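import Mathlib

set_option autoImplicit false
set_option linter.style.haveILetI false
universe u

namespace Groth.Agent.Lib.H15EDQuasiFinite

open PrimeSpectrum Topology TensorProduct

lemma isSepClosed_of_ringEquiv {k k' : Type*} [Field k] [Field k'] (e : k ≃+* k')
    [IsSepClosed k] : IsSepClosed k' := by
  refine IsSepClosed.of_exists_root (k := k') (fun p _ hirr hsep => ?_)
  have hdeg : (p.map (e.symm : k' →+* k)).degree ≠ 0 := by
    rw [Polynomial.degree_map]
    exact (Polynomial.degree_pos_of_irreducible hirr).ne'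
  obtain ⟨x, hx⟩ := IsSepClosed.exists_root (p.map (e.symm : k' →+* k)) hdeg hsep.map
  refine ⟨e x, ?_⟩
  rw [Polynomial.IsRoot.def, Polynomial.eval_map] at hx
  have := congrArg (e : k →+* k') hx
  rw [Polynomial.hom_eval₂, map_zero] at this
  have hcomp : (e : k →+* k').comp (e.symm : k' →+* k) = RingHom.id k' := by
    ext y
    exact e.apply_symm_apply y
  rw [hcomp, Polynomial.eval₂_id] at this
  exact this

section general

variable {R : Type*} [CommRing R]

lemma t2Space_of_forall_isMaximal (h : ∀ p : PrimeSpectrum R, p.asIdeal.IsMaximal) :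
    T2Space (PrimeSpectrum R) := by
  refine ⟨fun p q hpq => ?_⟩
  let S : Submonoid R := p.asIdeal.primeCompl ⊔ q.asIdeal.primeCompl
  by_cases h0 : (0 : R) ∈ S
  · obtain ⟨s, hs, t, ht, hst⟩ := Submonoid.mem_sup.1 h0
    refine ⟨basicOpen s, basicOpen t, (basicOpen s).2, (basicOpen t).2, hs, ht, ?_⟩
    rw [Set.disjoint_iff_inter_eq_empty, ← TopologicalSpace.Opens.coe_inf, ← basicOpen_mul, hst,
      basicOpen_zero]
    rfl
  · exfalso
    have hd : Disjoint ((⊥ : Ideal R) : Set R) (S : Set R) := by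
      rw [Set.disjoint_left]
      intro x hx hxS
      rw [SetLike.mem_coe, Ideal.mem_bot] at hx
      exact h0 (hx ▸ hxS)
    obtain ⟨r, hr, -, hrS⟩ := Ideal.exists_le_prime_disjoint ⊥ S hd
    have hrp : r ≤ p.asIdeal := by
      intro x hx
      by_contra hxp
      exact Set.disjoint_left.1 hrS hx (Submonoid.mem_sup_left (S := p.asIdeal.primeCompl) hxp)
    have hrq : r ≤ q.asIdeal := by
      intro x hx
      by_contra hxq
      exact Set.disjoint_left.1 hrS hx (Submonoid.mem_sup_right (T := q.asIdeal.primeCompl) hxq)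
    have hmax := h ⟨r, hr⟩
    have e1 : r = p.asIdeal := hmax.eq_of_le p.2.ne_top hrp
    have e2 : r = q.asIdeal := hmax.eq_of_le q.2.ne_top hrq
    exact hpq (PrimeSpectrum.ext (e1.symm.trans e2))

/-- constructible sets in a compact Hausdorff space are clopen. -/
lemma isClopen_of_isConstructible {X : Type*} [TopologicalSpace X] [T2Space X] [CompactSpace X]
    {s : Set X} (hs : IsConstructible s) : IsClopen s := by
  induction hs using IsConstructible.empty_union_induction with
  | open_retrocompact U hU hU' => exact ⟨hU'.isCompact.isClosed, hU⟩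
  | union s _ t _ hs ht => exact hs.union ht
  | compl s _ hs => exact hs.compl

end general

section alg

variable {A B : Type u} [CommRing A] [CommRing B] [Algebra A B] [Algebra.QuasiFinite A B]

lemma isMaximal_of_quasiFinite (hmax : ∀ p : PrimeSpectrum A, p.asIdeal.IsMaximal)
    (Q : PrimeSpectrum B) : Q.asIdeal.IsMaximal := by
  obtain ⟨M, hM, hQM⟩ := Ideal.exists_le_maximal Q.asIdeal Q.2.ne_top
  haveI := hM.isPrime
  have h1 : Q.asIdeal.under A ≤ M.under A := Ideal.comap_mono hQM
  have h2 : (Q.asIdeal.under A).IsMaximal := hmax ⟨Q.asIdeal.under A, inferInstance⟩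
  have h3 : Q.asIdeal.under A = M.under A :=
    h2.eq_of_le (Ideal.IsPrime.ne_top inferInstance) h1
  have := Algebra.QuasiFinite.eq_of_le_of_under_eq (R := A) Q.asIdeal M hQM h3
  rw [this]
  exact hM

/-- the purely inseparable trick. -/
lemma exists_pow_sub_mem (p : Ideal A) [p.IsMaximal] (hsep : IsSepClosed p.ResidueField)
    (q : Ideal B) [q.IsPrime] [q.LiesOver p] (e : ℕ) [ExpChar (A ⧸ p) e] (b : B) :
    ∃ (n : ℕ) (a : A), b ^ (e ^ n) - algebraMap A B a ∈ q := by
  letI : Field (A ⧸ p) := Ideal.Quotient.field p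
  haveI : IsSepClosed (A ⧸ p) :=
    isSepClosed_of_ringEquiv (RingEquiv.ofBijective _ p.bijective_algebraMap_quotient_residueField).symm
  haveI : Algebra.QuasiFinite (A ⧸ p) (B ⧸ q) := .of_restrictScalars A _ _
  haveI : Module.Finite (A ⧸ p) (B ⧸ q) := Module.Finite.of_quasiFinite
  haveI : Algebra.IsAlgebraic (A ⧸ p) (B ⧸ q) := Algebra.IsAlgebraic.of_finite _ _
  haveI : IsPurelyInseparable (A ⧸ p) (B ⧸ q) := inferInstance
  obtain ⟨n, y, hy⟩ := IsPurelyInseparable.pow_mem (A ⧸ p) e (Ideal.Quotient.mk q b)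
  obtain ⟨a, rfl⟩ := Ideal.Quotient.mk_surjective y
  refine ⟨n, a, ?_⟩
  rw [← Ideal.Quotient.eq_zero_iff_mem, map_sub, map_pow, ← hy, sub_eq_zero]
  rfl


/-- a prime of `B ⊗ B` whose two projections agree contains the kernel of multiplication. -/
lemma ker_lmul_le (hmax : ∀ p : PrimeSpectrum A, p.asIdeal.IsMaximal)
    (hres : ∀ p : PrimeSpectrum A, IsSepClosed p.asIdeal.ResidueField)
    (t : PrimeSpectrum (B ⊗[A] B))
    (h : comap (Algebra.TensorProduct.includeLeftRingHom (R := A) (A := B) (B := B)) t =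
      comap (Algebra.TensorProduct.includeRight (R := A) (A := B) (B := B)).toRingHom t) :
    RingHom.ker (Algebra.TensorProduct.lmul' A (S := B)).toRingHom ≤ t.asIdeal := by
  have hspan := KaehlerDifferential.span_range_eq_ideal A B
  have hker : RingHom.ker (Algebra.TensorProduct.lmul' A (S := B)).toRingHom =
      KaehlerDifferential.ideal A B := rfl
  rw [hker, ← hspan, Ideal.span_le]
  rintro _ ⟨b, rfl⟩
  set q : PrimeSpectrum B :=
    comap (Algebra.TensorProduct.includeLeftRingHom (R := A) (A := B) (B := B)) t with hq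
  set p : PrimeSpectrum A := comap (algebraMap A B) q with hp
  haveI : p.asIdeal.IsMaximal := hmax p
  haveI : q.asIdeal.LiesOver p.asIdeal := ⟨rfl⟩
  letI : Field (A ⧸ p.asIdeal) := Ideal.Quotient.field _
  let e := ringExpChar (A ⧸ p.asIdeal)
  haveI : ExpChar (A ⧸ p.asIdeal) e := ringExpChar.expChar _
  obtain ⟨n, a, hna⟩ := exists_pow_sub_mem p.asIdeal (hres p) q.asIdeal e b
  -- membership in `t`
  have h1 : (b ^ (e ^ n) - algebraMap A B a) ⊗ₜ[A] (1 : B) ∈ t.asIdeal := hna
  have h2 : (1 : B) ⊗ₜ[A] (b ^ (e ^ n) - algebraMap A B a) ∈ t.asIdeal := by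
    have : b ^ (e ^ n) - algebraMap A B a ∈
        (comap (Algebra.TensorProduct.includeRight (R := A) (A := B) (B := B)).toRingHom t).asIdeal := by
      rw [← h]; exact hna
    exact this
  have h3 : (1 : B) ⊗ₜ[A] (b ^ (e ^ n)) - (b ^ (e ^ n)) ⊗ₜ[A] (1 : B) ∈ t.asIdeal := by
    have h4 := t.asIdeal.sub_mem h2 h1
    have h5 : (1 : B) ⊗ₜ[A] (b ^ (e ^ n) - algebraMap A B a) -
        (b ^ (e ^ n) - algebraMap A B a) ⊗ₜ[A] (1 : B) =
        (1 : B) ⊗ₜ[A] (b ^ (e ^ n)) - (b ^ (e ^ n)) ⊗ₜ[A] (1 : B) := by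
      rw [TensorProduct.tmul_sub, TensorProduct.sub_tmul, Algebra.algebraMap_eq_smul_one,
        TensorProduct.smul_tmul]
      ring
    rwa [h5] at h4
  -- exponential characteristic of the quotient
  have hle : p.asIdeal ≤ Ideal.comap (algebraMap A (B ⊗[A] B)) t.asIdeal := by
    intro x hx
    exact hx
  let φ : A ⧸ p.asIdeal →+* (B ⊗[A] B) ⧸ t.asIdeal := Ideal.quotientMap t.asIdeal _ hle
  haveI : ExpChar ((B ⊗[A] B) ⧸ t.asIdeal) e := expChar_of_injective_ringHom φ.injective e
  have h6 : (Ideal.Quotient.mk t.asIdeal ((1 : B) ⊗ₜ[A] b - b ⊗ₜ[A] (1 : B))) ^ (e ^ n) = 0 := by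
    rw [map_sub, sub_pow_expChar_pow, ← map_pow, ← map_pow, ← map_sub,
      Algebra.TensorProduct.tmul_pow, Algebra.TensorProduct.tmul_pow, one_pow,
      Ideal.Quotient.eq_zero_iff_mem]
    exact h3
  exact Ideal.Quotient.eq_zero_iff_mem.1 (pow_eq_zero_iff (pow_ne_zero _ (expChar_ne_zero (A ⧸ p.asIdeal) e)) |>.1 h6)


/-- exists_prime_tensorProduct (copied from Lib/SrcLocalRing). -/
theorem exists_prime_tensorProduct {R S T : Type u} [CommRing R] [CommRing S] [CommRing T]
    [Algebra R S] [Algebra R T] (p : PrimeSpectrum S) (q : PrimeSpectrum T)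
    (h : PrimeSpectrum.comap (algebraMap R S) p = PrimeSpectrum.comap (algebraMap R T) q) :
    ∃ z : PrimeSpectrum (S ⊗[R] T),
      PrimeSpectrum.comap (Algebra.TensorProduct.includeLeftRingHom (R := R) (A := S) (B := T)) z = p ∧
      PrimeSpectrum.comap (Algebra.TensorProduct.includeRight (R := R) (A := S) (B := T)).toRingHom z = q := by
  open AlgebraicGeometry CategoryTheory CategoryTheory.Limits in
  let f : Spec (CommRingCat.of S) ⟶ Spec (CommRingCat.of R) :=
    Spec.map (CommRingCat.ofHom (algebraMap R S))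
  open AlgebraicGeometry CategoryTheory CategoryTheory.Limits in
  let g : Spec (CommRingCat.of T) ⟶ Spec (CommRingCat.of R) :=
    Spec.map (CommRingCat.ofHom (algebraMap R T))
  open AlgebraicGeometry CategoryTheory CategoryTheory.Limits in
  obtain ⟨z, hz1, hz2⟩ := Scheme.Pullback.exists_preimage_pullback (f := f) (g := g) p q h
  open AlgebraicGeometry CategoryTheory CategoryTheory.Limits in
  refine ⟨(pullbackSpecIso R S T).hom z, ?_, ?_⟩
  · open AlgebraicGeometry CategoryTheory CategoryTheory.Limits in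
    have h1 := pullbackSpecIso_hom_fst R S T
    open AlgebraicGeometry CategoryTheory CategoryTheory.Limits in
    have h2 := congrArg (fun φ : pullback f g ⟶ Spec (CommRingCat.of S) => φ z) h1
    simp only [AlgebraicGeometry.Scheme.Hom.comp_apply] at h2
    exact h2.trans hz1
  · open AlgebraicGeometry CategoryTheory CategoryTheory.Limits in
    have h1 := pullbackSpecIso_hom_snd R S T
    open AlgebraicGeometry CategoryTheory CategoryTheory.Limits in
    have h2 := congrArg (fun φ : pullback f g ⟶ Spec (CommRingCat.of T) => φ z) h1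
    simp only [AlgebraicGeometry.Scheme.Hom.comp_apply] at h2
    exact h2.trans hz2

/-- local injectivity. -/
lemma exists_isClopen_injOn [Algebra.FiniteType A B] [T2Space (PrimeSpectrum A)]
    (hres : ∀ p : PrimeSpectrum A, IsSepClosed p.asIdeal.ResidueField) (y : PrimeSpectrum B) :
    ∃ V : Set (PrimeSpectrum B), IsClopen V ∧ y ∈ V ∧ Set.InjOn (comap (algebraMap A B)) V := by
  have hmax : ∀ p : PrimeSpectrum A, p.asIdeal.IsMaximal := fun p =>
    (PrimeSpectrum.isClosed_singleton_iff_isMaximal p).1 isClosed_singleton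
  haveI : T2Space (PrimeSpectrum B) := t2Space_of_forall_isMaximal (isMaximal_of_quasiFinite hmax)
  set f := comap (algebraMap A B) with hf
  -- step 2: isolate y in its fibre
  have hF : (f ⁻¹' {f y}).Finite := Algebra.QuasiFinite.finite_comap_preimage_singleton (f y)
  have hFo : IsOpen ((f ⁻¹' {f y}) \ {y})ᶜ := (hF.subset Set.sdiff_subset).isClosed.isOpen_compl
  obtain ⟨_, ⟨s, rfl⟩, hys, hsF⟩ := PrimeSpectrum.isTopologicalBasis_basic_opens.exists_subset_of_mem_open
    (show y ∈ ((f ⁻¹' {f y}) \ {y})ᶜ from fun h => h.2 rfl) hFo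
  have hDs : IsClopen (basicOpen s : Set (PrimeSpectrum B)) :=
    ⟨(isCompact_basicOpen s).isClosed, (basicOpen s).2⟩
  have hsF' : ∀ z : PrimeSpectrum B, z ∈ (basicOpen s : Set (PrimeSpectrum B)) → f z = f y → z = y := by
    intro z hz hzy
    by_contra hne
    exact hsF hz ⟨hzy, hne⟩
  -- step 3
  let C := B ⊗[A] B
  let pr1 : PrimeSpectrum C → PrimeSpectrum B :=
    comap (Algebra.TensorProduct.includeLeftRingHom (R := A) (A := B) (B := B))
  let pr2 : PrimeSpectrum C → PrimeSpectrum B :=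
    comap (Algebra.TensorProduct.includeRight (R := A) (A := B) (B := B)).toRingHom
  let g : PrimeSpectrum C → PrimeSpectrum A := comap (algebraMap A C)
  have hg1 : ∀ t, f (pr1 t) = g t := by
    intro t
    show comap (algebraMap A B) (comap _ t) = _
    rw [← PrimeSpectrum.comap_comp_apply]
    rfl
  have hg2 : ∀ t, f (pr2 t) = g t := by
    intro t
    show comap (algebraMap A B) (comap _ t) = _
    rw [← PrimeSpectrum.comap_comp_apply]
    congr 1
    ext a
    show (1 : B) ⊗ₜ[A] (algebraMap A B a) = (algebraMap A B a) ⊗ₜ[A] (1 : B)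
    rw [Algebra.algebraMap_eq_smul_one, TensorProduct.smul_tmul]
  let J : Ideal C := KaehlerDifferential.ideal A B
  have hJ : J.FG := KaehlerDifferential.ideal_fg A B
  let W : Set (PrimeSpectrum C) := (zeroLocus (J : Set C))ᶜ
  have hW : IsCompact W := (isRetrocompact_zeroLocus_compl_of_fg hJ).isCompact
  let K : Set (PrimeSpectrum C) := (pr1 ⁻¹' (basicOpen s) ∩ pr2 ⁻¹' (basicOpen s)) ∩ W
  have hK : IsCompact K :=
    hW.inter_left ((hDs.1.preimage (continuous_comap _)).inter (hDs.1.preimage (continuous_comap _)))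
  have hgK : IsClosed (g '' K) := (hK.image (continuous_comap _)).isClosed
  have hyK : f y ∉ g '' K := by
    rintro ⟨t, ⟨⟨ht1, ht2⟩, htW⟩, hgt⟩
    have e1 : pr1 t = y := hsF' _ ht1 ((hg1 t).trans hgt)
    have e2 : pr2 t = y := hsF' _ ht2 ((hg2 t).trans hgt)
    exact htW (ker_lmul_le hmax hres t (e1.trans e2.symm))
  obtain ⟨_, ⟨r, rfl⟩, hyr, hrK⟩ := PrimeSpectrum.isTopologicalBasis_basic_opens.exists_subset_of_mem_open
    hyK hgK.isOpen_compl
  have hDr : IsClopen (basicOpen r : Set (PrimeSpectrum A)) :=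
    ⟨(isCompact_basicOpen r).isClosed, (basicOpen r).2⟩
  refine ⟨(basicOpen s : Set (PrimeSpectrum B)) ∩ f ⁻¹' (basicOpen r),
    hDs.inter (hDr.preimage (continuous_comap _)), ⟨hys, hyr⟩, ?_⟩
  intro y' hy' y'' hy'' heq
  by_contra hne
  obtain ⟨t, ht1, ht2⟩ := exists_prime_tensorProduct (R := A) y' y'' heq
  have htW : t ∈ W := by
    intro htJ
    apply hne
    have hle : J ≤ t.asIdeal := htJ
    ext b
    have hb : (1 : B) ⊗ₜ[A] b - b ⊗ₜ[A] (1 : B) ∈ t.asIdeal :=
      hle (KaehlerDifferential.one_smul_sub_smul_one_mem_ideal A b)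
    have h1 : b ∈ y'.asIdeal ↔ b ⊗ₜ[A] (1 : B) ∈ t.asIdeal := by rw [← ht1]; rfl
    have h2 : b ∈ y''.asIdeal ↔ (1 : B) ⊗ₜ[A] b ∈ t.asIdeal := by rw [← ht2]; rfl
    rw [h1, h2]
    constructor
    · intro h
      have := t.asIdeal.add_mem hb h
      rwa [sub_add_cancel] at this
    · intro h
      have := t.asIdeal.sub_mem h hb
      rwa [sub_sub_cancel] at this
  have e1 : pr1 t = y' := ht1
  have e2 : pr2 t = y'' := ht2
  have htK : t ∈ K := ⟨⟨by rw [Set.mem_preimage, e1]; exact hy'.1,
    by rw [Set.mem_preimage, e2]; exact hy''.1⟩, htW⟩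
  have : g t ∈ (basicOpen r : Set (PrimeSpectrum A)) := by
    rw [← hg1 t, e1]
    exact hy'.2
  exact hrK this ⟨t, htK, rfl⟩


/-- `S0750`. -/
theorem main (A B : Type u) [CommRing A]
    [CommRing B] [Algebra A B] [Algebra.QuasiFinite A B] [Algebra.FinitePresentation A B]
    (hres : ∀ p : PrimeSpectrum A, IsSepClosed p.asIdeal.ResidueField)
    [T2Space (PrimeSpectrum A)] [ExtremallyDisconnected (PrimeSpectrum A)] :
    ExtremallyDisconnected (PrimeSpectrum B) := by
  have hmax : ∀ p : PrimeSpectrum A, p.asIdeal.IsMaximal := fun p =>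
    (PrimeSpectrum.isClosed_singleton_iff_isMaximal p).1 isClosed_singleton
  haveI : T2Space (PrimeSpectrum B) := t2Space_of_forall_isMaximal (isMaximal_of_quasiFinite hmax)
  refine ⟨fun W hW => ?_⟩
  rw [isOpen_iff_forall_mem_open]
  intro y hy
  obtain ⟨V, hV, hyV, hinj⟩ := exists_isClopen_injOn hres y
  set f := comap (algebraMap A B) with hf
  have hfc : Continuous f := continuous_comap _
  have hVc : IsCompact V := hV.1.isCompact
  have hfV : IsClopen (f '' V) := by
    apply isClopen_of_isConstructible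
    exact isConstructible_comap_image
      (RingHom.finitePresentation_algebraMap.2 inferInstance) (hVc.isConstructible hV.2)
  -- the image of `W ∩ V` is open
  have hS : IsOpen (f '' (W ∩ V)) := by
    have hcl : IsClosed (f '' (V \ W)) :=
      ((hVc.inter_right hW.isClosed_compl).image hfc).isClosed
    have : f '' (W ∩ V) = f '' V \ f '' (V \ W) := by
      ext a
      constructor
      · rintro ⟨z, ⟨hzW, hzV⟩, rfl⟩
        refine ⟨⟨z, hzV, rfl⟩, ?_⟩
        rintro ⟨z', ⟨hz'V, hz'W⟩, hzz'⟩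
        exact hz'W (hinj hz'V hzV hzz' ▸ hzW)
      · rintro ⟨⟨z, hzV, rfl⟩, hz⟩
        refine ⟨z, ⟨?_, hzV⟩, rfl⟩
        by_contra hzW
        exact hz ⟨z, ⟨hzV, hzW⟩, rfl⟩
    rw [this]
    exact hfV.2.sdiff hcl
  have hclS : IsOpen (closure (f '' (W ∩ V))) := ExtremallyDisconnected.open_closure _ hS
  have hclS' : closure (f '' (W ∩ V)) ⊆ f '' closure (W ∩ V) := by
    apply closure_minimal (Set.image_mono subset_closure)
    exact (isClosed_closure.isCompact.image hfc).isClosed
  refine ⟨V ∩ f ⁻¹' closure (f '' (W ∩ V)), ?_, hV.2.inter (hclS.preimage hfc), ⟨hyV, ?_⟩⟩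
  · rintro z ⟨hzV, hz⟩
    obtain ⟨z', hz', hzz'⟩ := hclS' hz
    have hz'V : z' ∈ V := closure_minimal Set.inter_subset_right hV.1 hz'
    have : z' = z := hinj hz'V hzV hzz'
    exact this ▸ closure_mono Set.inter_subset_left hz'
  · have h1 : y ∈ closure (W ∩ V) := by
      have := hV.2.inter_closure (t := W) ⟨hyV, hy⟩
      rwa [Set.inter_comm] at this
    exact image_closure_subset_closure_image hfc ⟨y, h1, rfl⟩

end alg

end Groth.Agent.Lib.H15EDQuasiFinite
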