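import Groth.Agent.Lib.ColimDescent96
import Groth.Agent.S7289

/-!
# Ind-étale ring maps are stable under composition (helper96)

* `etaleMP`: the morphism property of étale morphisms in `CommRingCat`.
* `isWeakColim_of_isColimit`: a filtered colimit in `CommRingCat` is a weak colimit system.
* `exists_isPushout_of_etale`: étale morphisms out of a filtered colimit descend to a finite stage
  (the `PreIndSpreads` property of Mathlib for étale morphisms, for index categories in `Type u`).
* `ind_comp_etale`: étale after ind-étale is ind-étale.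
* `ind_comp`: ind-étale after ind-étale is ind-étale.
* `isIndEtale_iff_ind`, `isIndEtale_trans`: the same in the vocabulary `EtPBC.IsIndEtale`.
-/

set_option autoImplicit false
universe u

namespace Groth.Agent.Lib.IndEtaleComp96

open CategoryTheory CategoryTheory.Limits TensorProduct Groth.Agent.Lib.ColimDescent96

/-- Étale morphisms of commutative rings. -/
def etaleMP : MorphismProperty CommRingCat.{u} := RingHom.toMorphismProperty @RingHom.Etale

theorem etaleMP_iff {R S : CommRingCat.{u}} (f : R ⟶ S) : etaleMP f ↔ f.hom.Etale := Iff.rfl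

instance : etaleMP.{u}.IsStableUnderComposition where
  comp_mem f g hf hg := RingHom.Etale.stableUnderComposition f.hom g.hom hf hg

instance : etaleMP.{u}.IsStableUnderCobaseChange := by
  unfold etaleMP
  rw [RingHom.isStableUnderCobaseChange_toMorphismProperty_iff]
  exact RingHom.Etale.isStableUnderBaseChange

theorem etaleMP_le : etaleMP.{u} ≤ MorphismProperty.isFinitelyPresentable.{u} CommRingCat.{u} := by
  intro R S f hf
  refine CommRingCat.isFinitelyPresentable_hom f ?_
  have hf' : f.hom.Etale := hf
  algebraize [f.hom]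
  have : Algebra.FinitePresentation R S := inferInstance
  rw [← RingHom.finitePresentation_algebraMap] at this
  exact this

section WeakColim

variable {J : Type u} [SmallCategory J] [IsFiltered J] {D : J ⥤ CommRingCat.{u}} {c : Cocone D}

/-- A filtered colimit of commutative rings is a weak colimit system. -/
theorem isWeakColim_of_isColimit (hc : IsColimit c) :
    IsWeakColim (A := (c.pt : Type u)) (fun j => (D.obj j : Type u))
      (fun j => (c.ι.app j).hom) := by
  classical
  have hG : IsColimit ((forget CommRingCat).mapCocone c) := isColimitOfPreserves _ hc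
  have hw : ∀ {i j : J} (f : i ⟶ j) (x : D.obj i),
      (c.ι.app j).hom ((D.map f).hom x) = (c.ι.app i).hom x := by
    intro i j f x
    have := c.w f
    exact congrArg (fun g => g.hom x) this
  constructor
  · intro T
    induction T using Finset.induction_on with
    | empty => exact ⟨IsFiltered.nonempty.some, by simp⟩
    | insert a T _ ih =>
      obtain ⟨i, hi⟩ := ih
      obtain ⟨i', x', hx'⟩ := Types.jointly_surjective_of_isColimit hG a
      refine ⟨IsFiltered.max i i', fun b hb => ?_⟩
      rcases Finset.mem_insert.1 hb with rfl | hb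
      · refine ⟨(D.map (IsFiltered.rightToMax i i')).hom x', ?_⟩
        rw [hw]; exact hx'
      · obtain ⟨x, hx⟩ := hi b hb
        refine ⟨(D.map (IsFiltered.leftToMax i i')).hom x, ?_⟩
        rw [hw]; exact hx
  · intro i T
    induction T using Finset.induction_on with
    | empty => intro _; exact ⟨i, RingHom.id _, by simp, by simp⟩
    | insert a T _ ih =>
      intro hT
      obtain ⟨j, h, hh, hk⟩ := ih (fun x hx => hT x (Finset.mem_insert_of_mem hx))
      have ha : (c.ι.app j).hom (h a) = 0 := by
        have := RingHom.congr_fun hh a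
        rw [RingHom.comp_apply] at this
        rw [this]; exact hT a (Finset.mem_insert_self a T)
      have h3 : ((forget CommRingCat).mapCocone c).ι.app j (h a) =
          ((forget CommRingCat).mapCocone c).ι.app j (0 : D.obj j) := by
        show (c.ι.app j).hom (h a) = (c.ι.app j).hom 0
        rw [ha, map_zero]
      obtain ⟨k, f, hf⟩ := (Types.FilteredColimit.isColimit_eq_iff' hG (h a) (0 : D.obj j)).1 h3
      have hf' : (D.map f).hom (h a) = 0 := by
        have : (D.map f).hom (h a) = (D.map f).hom 0 := hf
        rw [this, map_zero]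
      refine ⟨k, (D.map f).hom.comp h, ?_, fun x hx => ?_⟩
      · rw [← RingHom.comp_assoc]
        have : (c.ι.app k).hom.comp (D.map f).hom = (c.ι.app j).hom := by
          ext x; exact hw f x
        rw [this, hh]
      · rcases Finset.mem_insert.1 hx with rfl | hx
        · exact hf'
        · rw [RingHom.comp_apply, hk x hx, map_zero]

/-- Étale morphisms out of a filtered colimit descend to a finite stage. -/
theorem exists_isPushout_of_etale (hc : IsColimit c) {T : CommRingCat.{u}} (f : c.pt ⟶ T)
    (hf : etaleMP f) :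
    ∃ (j : J) (T' : CommRingCat.{u}) (f' : D.obj j ⟶ T') (g : T' ⟶ T),
      IsPushout (c.ι.app j) f' f g ∧ etaleMP f' := by
  have hf' : f.hom.Etale := hf
  algebraize [f.hom]
  obtain ⟨j, Bi, _, _, hE, he⟩ := (isWeakColim_of_isColimit hc).exists_etale_descent T
  let _ : Algebra (D.obj j) c.pt := (c.ι.app j).hom.toAlgebra
  obtain ⟨e⟩ := he
  have h0 := CommRingCat.isPushout_tensorProduct (D.obj j) c.pt Bi
  refine ⟨j, CommRingCat.of Bi, CommRingCat.ofHom (algebraMap (D.obj j) Bi),
    CommRingCat.ofHom ((e.symm : _ →+* T).comp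
      (Algebra.TensorProduct.includeRight : Bi →ₐ[D.obj j] c.pt ⊗[D.obj j] Bi).toRingHom), ?_, ?_⟩
  · refine h0.of_iso (Iso.refl _) (Iso.refl _) (Iso.refl _)
      (e.symm.toRingEquiv.toCommRingCatIso) ?_ ?_ ?_ ?_
    · ext x; rfl
    · ext x; rfl
    · ext x
      show e.symm (x ⊗ₜ[D.obj j] (1 : Bi)) = f.hom x
      have : (x ⊗ₜ[D.obj j] (1 : Bi)) = algebraMap c.pt (c.pt ⊗[D.obj j] Bi) x := rfl
      rw [this, e.symm.commutes]
      rfl
    · ext x; rfl
  · show (algebraMap (D.obj j) Bi).Etale
    rw [RingHom.etale_algebraMap]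
    exact hE

end WeakColim

section Comp

open MorphismProperty

set_option backward.defeqAttrib.useBackward true in
set_option backward.isDefEq.respectTransparency false in
/-- Étale after ind-étale is ind-étale. -/
theorem ind_comp_etale {X Y T : CommRingCat.{u}} (f : X ⟶ Y) (h : Y ⟶ T)
    (hf : MorphismProperty.ind.{u} etaleMP f) (hh : etaleMP h) :
    MorphismProperty.ind.{u} etaleMP (f ≫ h) := by
  obtain ⟨J₁, _, _, D₁, s₁, t₁, ht₁, h₁⟩ := hf
  obtain ⟨j₁, W, f', g', hpo, hf'⟩ := exists_isPushout_of_etale ht₁ h hh
  let D' : Under j₁ ⥤ CommRingCat.{u} :=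
    (Under.post D₁ ⋙ Under.pushout f') ⋙ CategoryTheory.Under.forget _
  let c' : Cocone D' :=
    (Under.pushout f' ⋙ CategoryTheory.Under.forget _).mapCocone
      ((Cocone.mk _ t₁).underPost j₁) |>.extend hpo.isoPushout.inv
  let hc' : IsColimit c' :=
    IsColimit.extendIso _ <| isColimitOfPreserves _ (ht₁.underPost j₁)
  let s' : (Functor.const (Under j₁)).obj X ⟶ D' :=
    { app k := s₁.app k.right ≫ pushout.inl _ _
      naturality k l a := by
        have h2 := s₁.naturality a.right
        simp only [Functor.const_obj_obj, Functor.const_obj_map, Category.id_comp] at h2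
        simp [h2, D'] }
  refine ⟨Under j₁, inferInstance, inferInstance, D', s', c'.ι, hc', fun k => ⟨?_, ?_⟩⟩
  · exact etaleMP.comp_mem _ _ (h₁ _).1 (etaleMP.pushout_inl _ _ hf')
  · simp [c', s', reassoc_of% (h₁ k.right).2]

/-- Ind-étale after ind-étale is ind-étale. -/
theorem ind_comp {X Y Z : CommRingCat.{u}} (f : X ⟶ Y) (g : Y ⟶ Z)
    (hf : MorphismProperty.ind.{u} etaleMP f) (hg : MorphismProperty.ind.{u} etaleMP g) :
    MorphismProperty.ind.{u} etaleMP (f ≫ g) := by
  have key : MorphismProperty.ind.{u} (MorphismProperty.ind.{u} etaleMP.{u}) (f ≫ g) := by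
    obtain ⟨J₂, _, _, D₂, s₂, t₂, ht₂, h₂⟩ := hg
    refine ⟨J₂, inferInstance, inferInstance, D₂, (Functor.const J₂).map f ≫ s₂, t₂, ht₂,
      fun j => ⟨?_, ?_⟩⟩
    · exact ind_comp_etale f (s₂.app j) hf (h₂ j).1
    · simp [(h₂ j).2]
  rwa [MorphismProperty.ind_ind.{u} etaleMP_le.{u}] at key

/-- `EtPBC.IsIndEtale` in terms of Mathlib's `MorphismProperty.ind`. -/
theorem isIndEtale_iff_ind (A B : Type u) [CommRing A] [CommRing B] [Algebra A B] :
    EtPBC.IsIndEtale A B ↔
      MorphismProperty.ind.{u} etaleMP (CommRingCat.ofHom (algebraMap A B)) := by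
  rw [Groth.Agent.S7289.isIndEtale_iff, MorphismProperty.ind_iff_ind_underMk]
  rfl

/-- A composite of ind-étale ring maps is ind-étale. -/
theorem isIndEtale_trans (A B C : Type u) [CommRing A] [CommRing B] [CommRing C] [Algebra A B]
    [Algebra B C] [Algebra A C] [IsScalarTower A B C] (hAB : EtPBC.IsIndEtale A B)
    (hBC : EtPBC.IsIndEtale B C) : EtPBC.IsIndEtale A C := by
  rw [isIndEtale_iff_ind] at hAB hBC ⊢
  have h : CommRingCat.ofHom (algebraMap A C) =
      CommRingCat.ofHom (algebraMap A B) ≫ CommRingCat.ofHom (algebraMap B C) := by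
    ext x
    exact IsScalarTower.algebraMap_apply A B C x
  rw [h]
  exact ind_comp _ _ hAB hBC

end Comp

end Groth.Agent.Lib.IndEtaleComp96
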