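/-
helper56: ind-étale algebras in towers (Stacks 097H-type cancellation).

* `isIndEtale_quotient_iSup`, `isIndEtale_quotient_idempotents` : quotients by directed unions of
  ideals generated by complements of idempotents are ind-étale (étale version of helper15's
  ind-Zariski lemma).
* `isIndEtale_of_algEquiv` : transport along algebra isomorphisms.
* `exists_diag_idempotent` : for `E` étale over `A`, the kernel of `E ⊗ E → E` is generated by an
  idempotent.
* `isIndEtale_of_tower` : if `A → B` and `A → C` are ind-étale and `C` is a `B`-algebra compatibly,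
  then `B → C` is ind-étale (= S0735).
-/
import Groth.Agent.Lib.H15IndZariski
import Groth.Agent.Lib.IndEtale
import Groth.Agent.S0733
import Groth.Agent.S0734
import Mathlib.RingTheory.Unramified.Basic
import Mathlib.RingTheory.Etale.Basic

set_option autoImplicit false
universe u

namespace Groth.Agent.Lib.H56IndEtaleTower

open CategoryTheory CategoryTheory.Limits TensorProduct Groth.Agent.Lib.H15IndZariski

section quot

variable {A : Type u} [CommRing A] {ι : Type u} [Preorder ι] (K : ι → Ideal A) (hK : Monotone K)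

include hK in
theorem isIndEtale_quotient_iSup [IsDirectedOrder ι] [Nonempty ι]
    (hloc : ∀ i, Algebra.Etale A (A ⧸ K i)) :
    EtPBC.IsIndEtale A (A ⧸ ⨆ i, K i) := by
  have : IsFiltered ι := isFiltered_of_directed_le_nonempty ι
  obtain ⟨hc⟩ := isColimit_under_of_elementwise (quotDiagram K hK) (quotCocone K hK) (by
    intro b
    obtain ⟨a, rfl⟩ := Ideal.Quotient.mk_surjective (I := ⨆ i, K i) b
    obtain ⟨i⟩ := ‹Nonempty ι›
    exact ⟨i, Ideal.Quotient.mk (K i) a, rfl⟩) (by
    intro j x y hxy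
    obtain ⟨a, rfl⟩ := Ideal.Quotient.mk_surjective x
    obtain ⟨b, rfl⟩ := Ideal.Quotient.mk_surjective y
    replace hxy : Ideal.Quotient.mk (⨆ i, K i) a = Ideal.Quotient.mk (⨆ i, K i) b := hxy
    rw [Ideal.Quotient.eq, Submodule.mem_iSup_of_directed _ hK.directed_le] at hxy
    obtain ⟨k, hk⟩ := hxy
    obtain ⟨m, hjm, hkm⟩ := exists_ge_ge j k
    refine ⟨m, homOfLE hjm, ?_⟩
    change Ideal.Quotient.mk (K m) a = Ideal.Quotient.mk (K m) b
    rw [Ideal.Quotient.eq]
    exact hK hkm hk)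
  refine ⟨ι, inferInstance, inferInstance, quotDiagram K hK, quotCocone K hK, hc, ?_, ⟨Iso.refl _⟩⟩
  intro j
  have : (algebraMap A (A ⧸ K j)).toAlgebra = (inferInstance : Algebra A (A ⧸ K j)) :=
    Algebra.algebra_ext _ _ (fun r => rfl)
  change @Algebra.Etale A (A ⧸ K j) _ _ (algebraMap A (A ⧸ K j)).toAlgebra
  rw [this]
  exact hloc j

end quot

section idem

variable {A : Type u} [CommRing A]

theorem etale_quotient_of_isIdempotentElem {e : A} (he : IsIdempotentElem e) :
    Algebra.Etale A (A ⧸ Ideal.span {1 - e}) := by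
  have : IsLocalization.Away e (A ⧸ Ideal.span {1 - e}) :=
    IsLocalization.Away.quotient_of_isIdempotentElem he
  exact Algebra.Etale.of_isLocalizationAway e

/-- Quotient by the ideal generated by `1 - e`, `e` ranging over a multiplicatively closed set of
idempotents, is ind-étale. -/
theorem isIndEtale_quotient_idempotents (E : Set A) (hE : ∀ e ∈ E, IsIdempotentElem e)
    (h1 : (1 : A) ∈ E) (hmul : ∀ e ∈ E, ∀ e' ∈ E, e * e' ∈ E) :
    EtPBC.IsIndEtale A (A ⧸ Ideal.span ((fun e => 1 - e) '' E)) := by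
  let _ : Preorder E := Preorder.lift (fun e : E => Ideal.span {1 - (e : A)})
  let K : E → Ideal A := fun e => Ideal.span {1 - (e : A)}
  have hK : Monotone K := fun _ _ h => h
  have : Nonempty E := ⟨⟨1, h1⟩⟩
  have : IsDirectedOrder E := ⟨fun e e' => ⟨⟨e * e', hmul _ e.2 _ e'.2⟩,
    span_one_sub_le_span_one_sub_mul _ _ (hE _ e.2), by
      have := span_one_sub_le_span_one_sub_mul (e' : A) e (hE _ e'.2)
      rwa [mul_comm] at this⟩⟩
  have hI : ⨆ e, K e = Ideal.span ((fun e => 1 - e) '' E) := by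
    apply le_antisymm
    · refine iSup_le fun e => Ideal.span_mono ?_
      rintro _ rfl
      exact ⟨e, e.2, rfl⟩
    · rw [Ideal.span_le]
      rintro _ ⟨e, he, rfl⟩
      exact (le_iSup K ⟨e, he⟩) (Ideal.subset_span rfl)
  rw [← hI]
  exact isIndEtale_quotient_iSup K hK (fun e => etale_quotient_of_isIdempotentElem (hE _ e.2))

end idem

section Transport

variable {A B B' : Type u} [CommRing A] [CommRing B] [CommRing B'] [Algebra A B] [Algebra A B']

theorem isIndEtale_of_algEquiv (e : B ≃ₐ[A] B') (h : EtPBC.IsIndEtale A B) :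
    EtPBC.IsIndEtale A B' := by
  obtain ⟨J, hJ, hJf, D, c, hc, hD, ⟨i⟩⟩ := h
  refine ⟨J, hJ, hJf, D, c, hc, hD, ⟨i ≪≫ ?_⟩⟩
  exact Under.isoMk (e.toRingEquiv.toCommRingCatIso) (by
    ext a
    exact e.commutes a)

end Transport

section Diag

variable (A E : Type u) [CommRing A] [CommRing E] [Algebra A E] [Algebra.Etale A E]

/-- For an étale algebra the kernel of the multiplication map is generated by an idempotent. -/
theorem exists_diag_idempotent :
    ∃ e' : E ⊗[A] E, IsIdempotentElem e' ∧ KaehlerDifferential.ideal A E = Ideal.span {e'} := by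
  obtain ⟨e, he, hsp⟩ : ∃ e, IsIdempotentElem e ∧
      KaehlerDifferential.ideal A E = Submodule.span (E ⊗[A] E) {e} :=
    (Ideal.isIdempotentElem_iff_of_fg _ (KaehlerDifferential.ideal_fg A E)).mp <|
      (Ideal.cotangent_subsingleton_iff _).mp <| inferInstanceAs <| Subsingleton Ω[E⁄A]
  exact ⟨e, he, hsp⟩

end Diag

section Tower

variable (A B C : Type u) [CommRing A] [CommRing B] [CommRing C] [Algebra A B] [Algebra B C]
  [Algebra A C] [IsScalarTower A B C]

/-- The multiplication map `B ⊗[A] C → C`. -/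
noncomputable def mulMap : B ⊗[A] C →ₐ[B] C :=
  Algebra.TensorProduct.lift (Algebra.ofId B C) (AlgHom.id A C) (fun _ _ => Commute.all _ _)

@[simp]
theorem mulMap_tmul (b : B) (c : C) : mulMap A B C (b ⊗ₜ c) = algebraMap B C b * c := by
  simp [mulMap, Algebra.ofId_apply]

/-- The idempotents of `B ⊗[A] C` mapping to `1` in `C`. -/
def idemSet : Set (B ⊗[A] C) := {e | IsIdempotentElem e ∧ mulMap A B C e = 1}

/-- The ideal generated by the complements of `idemSet`. -/
def idemIdeal : Ideal (B ⊗[A] C) := Ideal.span ((fun e => 1 - e) '' idemSet A B C)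

variable {A B C}

theorem idemIdeal_le_ker : idemIdeal A B C ≤ RingHom.ker (mulMap A B C) := by
  rw [idemIdeal, Ideal.span_le]
  rintro _ ⟨e, he, rfl⟩
  rw [SetLike.mem_coe, RingHom.mem_ker, map_sub, map_one, he.2, sub_self]

/-- Elements of `B` coming from an étale `A`-algebra give generators in `idemIdeal`. -/
theorem tmul_sub_mem_idemIdeal {E : Type u} [CommRing E] [Algebra A E] [Algebra.Etale A E]
    (φ : E →ₐ[A] B) (x : E) :
    (φ x) ⊗ₜ[A] (1 : C) - (1 : B) ⊗ₜ[A] (algebraMap B C (φ x)) ∈ idemIdeal A B C := by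
  obtain ⟨e', he', hsp⟩ := exists_diag_idempotent A E
  let χ : E →ₐ[A] C := (IsScalarTower.toAlgHom A B C).comp φ
  let ψ : E ⊗[A] E →ₐ[A] B ⊗[A] C := Algebra.TensorProduct.map φ χ
  have hmψ : ∀ z : E ⊗[A] E, mulMap A B C (ψ z) =
      algebraMap B C (φ (Algebra.TensorProduct.lmul' A (S := E) z)) := by
    intro z
    induction z using TensorProduct.induction_on with
    | zero => simp
    | tmul a b => simp [ψ, χ]
    | add a b ha hb => simp only [map_add, ha, hb]
  have hx : x ⊗ₜ[A] (1 : E) - (1 : E) ⊗ₜ[A] x ∈ KaehlerDifferential.ideal A E := by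
    simp [RingHom.mem_ker]
  rw [hsp, Ideal.mem_span_singleton'] at hx
  obtain ⟨y, hy⟩ := hx
  have he'0 : mulMap A B C (ψ e') = 0 := by
    rw [hmψ]
    have : Algebra.TensorProduct.lmul' A (S := E) e' = 0 := by
      have : e' ∈ KaehlerDifferential.ideal A E := by
        rw [hsp]; exact Ideal.mem_span_singleton_self e'
      exact this
    rw [this, map_zero, map_zero]
  have hmem : 1 - ψ e' ∈ idemSet A B C :=
    ⟨(he'.map ψ).one_sub, by rw [map_sub, map_one, he'0, sub_zero]⟩
  have h1 : (φ x) ⊗ₜ[A] (1 : C) - (1 : B) ⊗ₜ[A] (algebraMap B C (φ x)) = ψ y * ψ e' := by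
    rw [← map_mul, hy, map_sub]
    simp [ψ, χ]
  rw [h1]
  have h2 : ψ e' = 1 - (1 - ψ e') := by ring
  rw [h2]
  exact Ideal.mul_mem_left _ _ (Ideal.subset_span ⟨_, hmem, rfl⟩)

theorem sub_one_tmul_mem_idemIdeal (hB : EtPBC.IsIndEtale A B) (z : B ⊗[A] C) :
    z - (1 : B) ⊗ₜ[A] (mulMap A B C z) ∈ idemIdeal A B C := by
  obtain ⟨J, _, _, E, _, _, _, t, φ, -, hsurj, -⟩ := Groth.Agent.Lib.IndEtale.exists_concrete A B hB
  induction z using TensorProduct.induction_on with
  | zero => simp
  | tmul b c =>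
    obtain ⟨j, x, rfl⟩ := hsurj b
    have h := tmul_sub_mem_idemIdeal (C := C) (φ j) x
    have h2 : (φ j x) ⊗ₜ[A] c - (1 : B) ⊗ₜ[A] (mulMap A B C ((φ j x) ⊗ₜ[A] c)) =
        ((φ j x) ⊗ₜ[A] (1 : C) - (1 : B) ⊗ₜ[A] (algebraMap B C (φ j x))) * ((1 : B) ⊗ₜ[A] c) := by
      simp [sub_mul]
    rw [h2]
    exact Ideal.mul_mem_right _ _ h
  | add a b ha hb =>
    have : a + b - (1 : B) ⊗ₜ[A] (mulMap A B C (a + b)) =
        (a - (1 : B) ⊗ₜ[A] (mulMap A B C a)) + (b - (1 : B) ⊗ₜ[A] (mulMap A B C b)) := by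
      rw [map_add, TensorProduct.tmul_add]; ring
    rw [this]
    exact Ideal.add_mem _ ha hb

theorem ker_mulMap_eq (hB : EtPBC.IsIndEtale A B) :
    RingHom.ker (mulMap A B C) = idemIdeal A B C := by
  refine le_antisymm ?_ idemIdeal_le_ker
  intro z hz
  have := sub_one_tmul_mem_idemIdeal (C := C) hB z
  rw [RingHom.mem_ker] at hz
  rwa [hz, TensorProduct.tmul_zero, sub_zero] at this

variable (A B C) in
/-- **Cancellation for ind-étale maps**: if `A → B` and `A → C` are ind-étale and `C` is a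
`B`-algebra compatibly, then `B → C` is ind-étale. -/
theorem isIndEtale_of_tower (hB : EtPBC.IsIndEtale A B) (hC : EtPBC.IsIndEtale A C) :
    EtPBC.IsIndEtale B C := by
  have h1 : EtPBC.IsIndEtale B (B ⊗[A] C) := Groth.Agent.S0733.result A C B hC
  let _ : Algebra (B ⊗[A] C) C := (mulMap A B C).toRingHom.toAlgebra
  have htower : IsScalarTower B (B ⊗[A] C) C := IsScalarTower.of_algebraMap_eq (fun b => by
    change algebraMap B C b = mulMap A B C (b ⊗ₜ 1)
    simp)
  have hsurj : Function.Surjective (Algebra.ofId (B ⊗[A] C) C) := by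
    intro c
    exact ⟨1 ⊗ₜ c, by change mulMap A B C (1 ⊗ₜ c) = c; simp⟩
  have hker : idemIdeal A B C = RingHom.ker (Algebra.ofId (B ⊗[A] C) C) :=
    (ker_mulMap_eq hB).symm
  have h2 : EtPBC.IsIndEtale (B ⊗[A] C) ((B ⊗[A] C) ⧸ idemIdeal A B C) := by
    refine isIndEtale_quotient_idempotents (idemSet A B C) (fun e he => he.1) ?_ ?_
    · exact ⟨IsIdempotentElem.one, map_one _⟩
    · intro e he e' he'
      exact ⟨he.1.mul he'.1, by rw [map_mul, he.2, he'.2, one_mul]⟩
  have h3 : EtPBC.IsIndEtale (B ⊗[A] C) C :=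
    isIndEtale_of_algEquiv ((Ideal.quotientEquivAlgOfEq (B ⊗[A] C) hker).trans
      (Ideal.quotientKerAlgEquivOfSurjective hsurj)) h2
  exact Groth.Agent.S0734.result B (B ⊗[A] C) C h1 h3

end Tower

end Groth.Agent.Lib.H56IndEtaleTower
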