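import Groth.Agent.Lib.H56IndEtale
import Groth.Agent.Lib.H56IndEtaleTower

set_option autoImplicit false
universe u

namespace Groth.Agent.Lib.H15EtHull

open CategoryTheory CategoryTheory.Limits TensorProduct Groth.Agent.Lib.H56IndEtale

variable {A B : Type u} [CommRing A] [CommRing B] [Algebra A B]

/-- coequalizing two maps of étale algebras over `B`. -/
theorem exists_coeq {X Y : Sk A B} (f g : X ⟶ Y) : ∃ (Z : Sk A B) (h : Y ⟶ Z), f ≫ h = g ≫ h := by
  obtain ⟨e, he, hsp⟩ := Groth.Agent.Lib.H56IndEtaleTower.exists_diag_idempotent A X.alg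
  -- the map `X ⊗ X → Y`
  let fg : X.alg ⊗[A] X.alg →ₐ[A] Y.alg := Algebra.TensorProduct.productMap f.1 g.1
  have hfg : ∀ z : X.alg ⊗[A] X.alg, Y.ψ (fg z) = X.ψ (Algebra.TensorProduct.lmul' A z) := by
    intro z
    induction z using TensorProduct.induction_on with
    | zero => simp
    | tmul x y =>
      have h1 := AlgHom.congr_fun f.2 x
      have h2 := AlgHom.congr_fun g.2 y
      simp only [AlgHom.comp_apply] at h1 h2
      simp [fg, h1, h2]
    | add x y hx hy => simp only [map_add, hx, hy]
  have heK : e ∈ KaehlerDifferential.ideal A X.alg := by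
    rw [hsp]; exact Ideal.subset_span rfl
  have hψε : Y.ψ (fg e) = 0 := by
    rw [hfg]
    have : Algebra.TensorProduct.lmul' A e = 0 := by
      have := heK
      rwa [KaehlerDifferential.ideal, RingHom.mem_ker] at this
    rw [this, map_zero]
  have hεid : IsIdempotentElem (fg e) := he.map fg
  have hunit : IsUnit (Y.ψ (1 - fg e)) := by
    rw [map_sub, map_one, hψε, sub_zero]; exact isUnit_one
  obtain ⟨Z, h, hZ⟩ := exists_away Y (1 - fg e) hunit
  refine ⟨Z, h, ?_⟩
  apply Subtype.ext
  change h.1.comp f.1 = h.1.comp g.1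
  ext x
  show h.1 (f.1 x) = h.1 (g.1 x)
  rw [← sub_eq_zero, ← map_sub]
  apply hZ
  -- `f x - g x = fg (x ⊗ 1 - 1 ⊗ x) ∈ (fg e)`
  have hmem : x ⊗ₜ[A] (1 : X.alg) - (1 : X.alg) ⊗ₜ[A] x ∈ KaehlerDifferential.ideal A X.alg := by
    have h := (KaehlerDifferential.ideal A X.alg).neg_mem
      (KaehlerDifferential.one_smul_sub_smul_one_mem_ideal A x)
    rwa [neg_sub] at h
  rw [hsp, Ideal.mem_span_singleton'] at hmem
  obtain ⟨a, ha⟩ := hmem
  have h1 : f.1 x - g.1 x = fg (x ⊗ₜ[A] (1 : X.alg) - (1 : X.alg) ⊗ₜ[A] x) := by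
    simp [fg]
  rw [h1, ← ha, map_mul, ← mul_assoc, mul_comm _ (fg a), mul_assoc, sub_mul, one_mul, hεid.eq,
    sub_self, mul_zero]

theorem isFiltered_sk : IsFiltered (Sk A B) where
  nonempty := by
    obtain ⟨X, -, -⟩ := exists_sk (Algebra.ofId A B)
    exact ⟨X⟩
  cocone_objs X Y := by
    have : Algebra.Etale A (X.alg ⊗[A] Y.alg) := Algebra.Etale.comp A X.alg (X.alg ⊗[A] Y.alg)
    obtain ⟨Z, e, he⟩ := exists_sk (E := X.alg ⊗[A] Y.alg)
      (Algebra.TensorProduct.productMap X.ψ Y.ψ)
    refine ⟨Z, ⟨e.toAlgHom.comp Algebra.TensorProduct.includeLeft, ?_⟩,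
      ⟨e.toAlgHom.comp Algebra.TensorProduct.includeRight, ?_⟩, trivial⟩
    · rw [← AlgHom.comp_assoc, he, Algebra.TensorProduct.productMap_left]
    · rw [← AlgHom.comp_assoc, he, Algebra.TensorProduct.productMap_right]
  cocone_maps {X Y} f g := exists_coeq f g


section hull

variable (A B)

/-- the colimit cocone of all étale `A`-algebras over `B`. -/
noncomputable def hullCocone : Cocone (diag (A := A) (B := B)) := colimit.cocone diag

/-- it is a colimit. -/
noncomputable def hullIsColimit : IsColimit (hullCocone A B) := colimit.isColimit diag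

/-- the étale hull of `A` in `B`: the colimit of all étale `A`-algebras with a map to `B`. -/
abbrev Hull : Type u := (hullCocone A B).pt.right

noncomputable instance : Algebra A (Hull A B) := (hullCocone A B).pt.hom.hom.toAlgebra

variable {A B}

/-- the structure maps. -/
noncomputable def ι (X : Sk A B) : X.alg →ₐ[A] Hull A B where
  toRingHom := ((hullCocone A B).ι.app X).right.hom
  commutes' := fun a => by
    have := Under.w ((hullCocone A B).ι.app X)
    exact congrArg (fun g => g.hom a) this

lemma ι_comp {X Y : Sk A B} (f : X ⟶ Y) : (ι Y).comp f.1 = ι X := by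
  ext x
  have := (hullCocone A B).w f
  exact congrArg (fun g => g.right.hom x) this

lemma ι_map {X Y : Sk A B} (f : X ⟶ Y) (x : X.alg) : ι Y (f.1 x) = ι X x :=
  AlgHom.congr_fun (ι_comp f) x

variable (A B) in
/-- the canonical map to `B`. -/
noncomputable def θ : Hull A B →ₐ[A] B where
  toRingHom := ((hullIsColimit A B).desc (cocone (A := A) (B := B))).right.hom
  commutes' := fun a => by
    have := Under.w ((hullIsColimit A B).desc (cocone (A := A) (B := B)))
    exact congrArg (fun g => g.hom a) this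

lemma θ_ι (X : Sk A B) (x : X.alg) : θ A B (ι X x) = X.ψ x := by
  have := (hullIsColimit A B).fac (cocone (A := A) (B := B)) X
  exact congrArg (fun g => g.right.hom x) this

lemma ι_surj (c : Hull A B) : ∃ (X : Sk A B) (x : X.alg), ι X x = c := by
  have := isFiltered_sk (A := A) (B := B)
  let G : Under (CommRingCat.of A) ⥤ Type u := Under.forget _ ⋙ forget CommRingCat
  have hG : IsColimit (G.mapCocone (hullCocone A B)) := isColimitOfPreserves G (hullIsColimit A B)
  obtain ⟨X, x, hx⟩ := Types.jointly_surjective_of_isColimit hG c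
  exact ⟨X, x, hx⟩

lemma ι_inj (X : Sk A B) (x y : X.alg) (h : ι X x = ι X y) :
    ∃ (Z : Sk A B) (f : X ⟶ Z), f.1 x = f.1 y := by
  have := isFiltered_sk (A := A) (B := B)
  let G : Under (CommRingCat.of A) ⥤ Type u := Under.forget _ ⋙ forget CommRingCat
  have hG : IsColimit (G.mapCocone (hullCocone A B)) := isColimitOfPreserves G (hullIsColimit A B)
  have h3 : (G.mapCocone (hullCocone A B)).ι.app X x = (G.mapCocone (hullCocone A B)).ι.app X y := h
  obtain ⟨Z, f, hf⟩ := (Types.FilteredColimit.isColimit_eq_iff' hG x y).1 h3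
  exact ⟨Z, f, hf⟩

variable (A B) in
theorem isIndEtale_hull : EtPBC.IsIndEtale A (Hull A B) := by
  refine ⟨Sk A B, inferInstance, isFiltered_sk, diag, hullCocone A B, hullIsColimit A B, ?_,
    ⟨Iso.refl _⟩⟩
  intro X
  have heq : ((diag (A := A) (B := B)).obj X).hom.hom.toAlgebra =
      (inferInstance : Algebra A X.alg) := by
    apply Algebra.algebra_ext
    intro r
    rfl
  show @Algebra.Etale A X.alg _ _ ((diag (A := A) (B := B)).obj X).hom.hom.toAlgebra
  rw [heq]
  exact X.etale

end hull

end Groth.Agent.Lib.H15EtHull
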