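import Mathlib.Algebra.Homology.DerivedCategory.Ext.ExactSequences
import Mathlib.Algebra.Homology.DerivedCategory.Ext.EnoughProjectives
import Mathlib.Algebra.Homology.DerivedCategory.Ext.EnoughInjectives

/-!
# Generic vanishing lemmas for `Abelian.Ext` (helper15)

* `ext_subsingleton_of_resolution`: `0 → P₁ → P₀ → T → 0` with `P₁, P₀` projective and
  `Hom(P₀,F) → Hom(P₁,F)` bijective ⇒ `Ext^n(T,F) = 0` for all `n`.
* `bijective_of_ext_subsingleton`: converse.
* `ext_subsingleton_of_resolving`: syzygy induction.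
* `ext_coprod_eq_zero`, `ext_coprod_subsingleton`: `Ext^n(∐ P_i, F) → ∏ Ext^n(P_i, F)` is injective
  (enough injectives).
-/

set_option autoImplicit false
set_option linter.style.haveILetI false
universe w v u

open CategoryTheory CategoryTheory.Limits Opposite

namespace Groth.Agent.Lib.H15ExtVanish

section A


open Abelian

variable {C : Type u} [Category.{v} C] [Abelian C] [HasExt.{w} C]

/-- vanishing of all Ext from the cokernel of a mono between projectives. -/
theorem ext_subsingleton_of_resolution {S : ShortComplex C} (hS : S.ShortExact)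
    [Projective S.X₁] [Projective S.X₂] (F : C)
    (hbij : Function.Bijective (fun g : S.X₂ ⟶ F => S.f ≫ g)) (n : ℕ) :
    Subsingleton (Ext.{w} S.X₃ F n) := by
  have hepi : Epi S.g := hS.epi_g
  suffices h : ∀ x : Ext.{w} S.X₃ F n, x = 0 from ⟨fun a b => by rw [h a, h b]⟩
  intro x₃
  match n, x₃ with
  | 0, x₃ =>
    obtain ⟨h, rfl⟩ := (Ext.mk₀_bijective _ _).2 x₃
    have h1 : S.f ≫ (S.g ≫ h) = S.f ≫ 0 := by rw [← Category.assoc, S.zero, zero_comp, comp_zero]
    have h2 : S.g ≫ h = 0 := hbij.1 h1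
    have h3 : h = 0 := by rw [← cancel_epi S.g, h2, comp_zero]
    rw [h3, Ext.mk₀_zero]
  | 1, x₃ =>
    have h0 : (Ext.mk₀ S.g).comp x₃ (zero_add 1) = 0 := Ext.eq_zero_of_projective _
    obtain ⟨x₁, hx₁⟩ := Ext.contravariant_sequence_exact₃ hS F x₃ h0 (n₀ := 0) rfl
    obtain ⟨h₁, rfl⟩ := (Ext.mk₀_bijective _ _).2 x₁
    obtain ⟨g, rfl⟩ := hbij.2 h₁
    rw [← hx₁, ← Ext.mk₀_comp_mk₀, ← Ext.comp_assoc_of_second_deg_zero, hS.extClass_comp,
      Ext.zero_comp]
  | (k + 2), x₃ =>
    have h0 : (Ext.mk₀ S.g).comp x₃ (zero_add (k + 2)) = 0 := Ext.eq_zero_of_projective _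
    obtain ⟨x₁, hx₁⟩ := Ext.contravariant_sequence_exact₃ hS F x₃ h0 (n₀ := k + 1) (by omega)
    have : x₁ = 0 := Ext.eq_zero_of_projective _
    rw [← hx₁, this, Ext.comp_zero]

theorem bijective_of_ext_subsingleton {S : ShortComplex C} (hS : S.ShortExact) (F : C)
    (h0 : Subsingleton (Ext.{w} S.X₃ F 0)) (h1 : Subsingleton (Ext.{w} S.X₃ F 1)) :
    Function.Bijective (fun g : S.X₂ ⟶ F => S.f ≫ g) := by
  have hepi : Epi S.g := hS.epi_g
  constructor
  · intro g g' hgg
    have hd : S.f ≫ (g - g') = 0 := by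
      rw [Preadditive.comp_sub]; exact sub_eq_zero.2 hgg
    have h2 : (Ext.mk₀ S.f).comp (Ext.mk₀ (g - g')) (zero_add 0) = 0 := by
      rw [Ext.mk₀_comp_mk₀, hd, Ext.mk₀_zero]
    obtain ⟨x, hx⟩ := Ext.contravariant_sequence_exact₂ hS F _ h2
    have : x = 0 := Subsingleton.elim _ _
    rw [this, Ext.comp_zero] at hx
    have h3 : g - g' = 0 := (Ext.mk₀_eq_zero_iff _).1 hx.symm
    exact sub_eq_zero.1 h3
  · intro h₁
    have h2 : hS.extClass.comp (Ext.mk₀ h₁) (add_zero 1) = 0 := Subsingleton.elim _ _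
    obtain ⟨x₂, hx₂⟩ := Ext.contravariant_sequence_exact₁ hS F (Ext.mk₀ h₁) (n₁ := 1) rfl h2
    obtain ⟨g, rfl⟩ := (Ext.mk₀_bijective _ _).2 x₂
    rw [Ext.mk₀_comp_mk₀] at hx₂
    exact ⟨g, (Ext.mk₀_bijective _ _).1 hx₂⟩

/-- syzygy induction -/
theorem ext_subsingleton_of_resolving (Q : C → Prop) (F : C)
    (h : ∀ T, Q T → ∃ (P : C) (π : P ⟶ T), Epi π ∧ Q (kernel π) ∧
      ∀ n, Subsingleton (Ext.{w} P F n)) :
    ∀ (n : ℕ) (T : C), Q T → Subsingleton (Ext.{w} T F n) := by
  intro n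
  induction n with
  | zero =>
    intro T hT
    obtain ⟨P, π, hπ, -, hP⟩ := h T hT
    suffices h : ∀ x : Ext.{w} T F 0, x = 0 from ⟨fun a b => by rw [h a, h b]⟩
    intro x
    apply Ext.precomp_mk₀_injective_of_epi F π
    have := hP 0
    exact Subsingleton.elim _ _
  | succ n ih =>
    intro T hT
    obtain ⟨P, π, hπ, hK, hP⟩ := h T hT
    suffices h : ∀ x : Ext.{w} T F (n + 1), x = 0 from ⟨fun a b => by rw [h a, h b]⟩
    intro x
    let S : ShortComplex C := ShortComplex.mk (kernel.ι π) π (kernel.condition π)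
    have hS : S.ShortExact :=
      { exact := ShortComplex.exact_of_f_is_kernel _ (kernelIsKernel π)
        mono_f := inferInstanceAs (Mono (kernel.ι π))
        epi_g := hπ }
    have h0 : (Ext.mk₀ S.g).comp x (zero_add (n + 1)) = 0 := by
      have := hP (n + 1)
      exact Subsingleton.elim _ _
    obtain ⟨x₁, hx₁⟩ := Ext.contravariant_sequence_exact₃ hS F x h0 (n₀ := n) (by omega)
    have := ih (kernel π) hK
    have h1 : x₁ = 0 := Subsingleton.elim _ _
    rw [← hx₁, h1, Ext.comp_zero]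


end A

section B


open Abelian

variable {C : Type u} [Category.{v} C] [Abelian C] [HasExt.{w} C] [EnoughInjectives C]

theorem ext_coprod_eq_zero {ι : Type*} (P : ι → C) [HasCoproduct P] :
    ∀ (n : ℕ) (F : C) (x : Ext.{w} (∐ P) F n),
      (∀ i, (Ext.mk₀ (Sigma.ι P i)).comp x (zero_add n) = 0) → x = 0 := by
  intro n
  induction n with
  | zero =>
    intro F x hx
    obtain ⟨h, rfl⟩ := (Ext.mk₀_bijective _ _).2 x
    have : h = 0 := by
      apply Sigma.hom_ext
      intro i
      have := hx i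
      rw [Ext.mk₀_comp_mk₀] at this
      rw [(Ext.mk₀_eq_zero_iff _).1 this, comp_zero]
    rw [this, Ext.mk₀_zero]
  | succ n ih =>
    intro F x hx
    let j : F ⟶ Injective.under F := Injective.ι F
    let S : ShortComplex C := ShortComplex.mk j (cokernel.π j) (cokernel.condition j)
    have hS : S.ShortExact :=
      { exact := ShortComplex.exact_of_g_is_cokernel _ (cokernelIsCokernel j)
        mono_f := inferInstanceAs (Mono (Injective.ι F))
        epi_g := inferInstanceAs (Epi (cokernel.π j)) }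
    have h0 : x.comp (Ext.mk₀ S.f) (add_zero (n + 1)) = 0 :=
      Ext.eq_zero_of_injective (I := Injective.under F) _
    obtain ⟨x₃, hx₃⟩ := Ext.covariant_sequence_exact₁ (∐ P) hS x h0 (n₀ := n) rfl
    -- restrictions
    have hy : ∀ i, ∃ z : Ext.{w} (P i) S.X₂ n,
        z.comp (Ext.mk₀ S.g) (add_zero n) = (Ext.mk₀ (Sigma.ι P i)).comp x₃ (zero_add n) := by
      intro i
      apply Ext.covariant_sequence_exact₃ (P i) hS _ (n₁ := n + 1) rfl
      rw [Ext.comp_assoc (Ext.mk₀ (Sigma.ι P i)) x₃ hS.extClass (zero_add n) rfl (by omega), hx₃]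
      exact hx i
    rcases n with _ | n
    · choose z hz using hy
      have hz' : ∀ i, ∃ h : P i ⟶ S.X₂, Ext.mk₀ h = z i := fun i => (Ext.mk₀_bijective _ _).2 (z i)
      choose h hh using hz'
      let hh' : ∐ P ⟶ S.X₂ := Sigma.desc h
      have key : x₃ - (Ext.mk₀ hh').comp (Ext.mk₀ S.g) (zero_add 0) = 0 := by
        apply ih
        intro i
        have e1 : (Ext.mk₀ (Sigma.ι P i)).comp (Ext.mk₀ hh') (zero_add 0) = Ext.mk₀ (h i) := by
          rw [Ext.mk₀_comp_mk₀, Sigma.ι_desc]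
        rw [sub_eq_add_neg, Ext.comp_add, Ext.comp_neg, ← hz i, ← hh i,
          ← Ext.comp_assoc_of_second_deg_zero, e1, add_neg_cancel]
      rw [sub_eq_zero] at key
      rw [← hx₃, key, Ext.comp_assoc (Ext.mk₀ hh') (Ext.mk₀ S.g) hS.extClass (zero_add 0)
        (zero_add 1) (by omega), hS.comp_extClass, Ext.comp_zero]
    · have key : x₃ = 0 := by
        apply ih
        intro i
        obtain ⟨z, hz⟩ := hy i
        have : z = 0 := Ext.eq_zero_of_injective (I := Injective.under F) _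
        rw [← hz, this, Ext.zero_comp]
      rw [← hx₃, key, Ext.zero_comp]

theorem ext_coprod_subsingleton {ι : Type*} (P : ι → C) [HasCoproduct P] (F : C)
    (h : ∀ i n, Subsingleton (Ext.{w} (P i) F n)) (n : ℕ) : Subsingleton (Ext.{w} (∐ P) F n) := by
  suffices h' : ∀ x : Ext.{w} (∐ P) F n, x = 0 from ⟨fun a b => by rw [h' a, h' b]⟩
  intro x
  apply ext_coprod_eq_zero P n F x
  intro i
  have := h i n
  exact Subsingleton.elim _ _


end B

end Groth.Agent.Lib.H15ExtVanish
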