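import Mathlib.RingTheory.Spectrum.Prime.Topology
import Mathlib.Topology.LocallyConstant.Algebra
import Mathlib.Topology.Separation.Profinite

set_option autoImplicit false
universe u

namespace Groth.Agent.Lib.H15SpecLC

open PrimeSpectrum TopologicalSpace

variable (T : Type u) [TopologicalSpace T] (A : Type u) [CommRing A]

/-- the map `Spec A × T → Spec (LocallyConstant T A)`. -/
noncomputable def Φ (x : PrimeSpectrum A × T) : PrimeSpectrum (LocallyConstant T A) :=
  PrimeSpectrum.comap (LocallyConstant.evalRingHom x.2) x.1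

variable {T A}

lemma mem_Φ (x : PrimeSpectrum A × T) (f : LocallyConstant T A) :
    f ∈ (Φ T A x).asIdeal ↔ f x.2 ∈ x.1.asIdeal := Iff.rfl

lemma comap_algebraMap_Φ (x : PrimeSpectrum A × T) :
    PrimeSpectrum.comap (algebraMap A (LocallyConstant T A)) (Φ T A x) = x.1 := by
  ext a
  rfl

lemma continuous_Φ : Continuous (Φ T A) := by
  rw [PrimeSpectrum.isTopologicalBasis_basic_opens.continuous_iff]
  rintro _ ⟨f, rfl⟩
  rw [isOpen_iff_forall_mem_open]
  rintro ⟨p, t⟩ hpt
  refine ⟨(PrimeSpectrum.basicOpen (f t) : Set _) ×ˢ (f ⁻¹' {f t}), ?_, ?_, ?_⟩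
  · rintro ⟨p', t'⟩ ⟨hp', ht'⟩
    show f t' ∉ p'.asIdeal
    rw [show f t' = f t from ht']
    exact hp'
  · exact (PrimeSpectrum.basicOpen _).isOpen.prod (f.isLocallyConstant.isOpen_fiber _)
  · exact ⟨hpt, rfl⟩

lemma charFn_apply_of_mem {U : Set T} (hU : IsClopen U) {t : T} (ht : t ∈ U) :
    LocallyConstant.charFn A hU t = 1 := by
  rw [LocallyConstant.coe_charFn, Set.indicator_of_mem ht]; rfl

lemma charFn_apply_of_notMem {U : Set T} (hU : IsClopen U) {t : T} (ht : t ∉ U) :
    LocallyConstant.charFn A hU t = 0 := by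
  rw [LocallyConstant.coe_charFn, Set.indicator_of_notMem ht]

lemma Φ_injective [TotallySeparatedSpace T] : Function.Injective (Φ T A) := by
  rintro ⟨p, t⟩ ⟨p', t'⟩ h
  have ht : t = t' := by
    by_contra hne
    obtain ⟨U, hU, htU, ht'U⟩ := exists_isClopen_of_totally_separated hne
    have h1 : LocallyConstant.charFn A hU ∉ (Φ T A (p, t)).asIdeal := by
      rw [mem_Φ]
      show LocallyConstant.charFn A hU t ∉ p.asIdeal
      rw [charFn_apply_of_mem hU htU]
      exact p.2.one_notMem
    have h2 : LocallyConstant.charFn A hU ∈ (Φ T A (p', t')).asIdeal := by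
      rw [mem_Φ]
      show LocallyConstant.charFn A hU t' ∈ p'.asIdeal
      rw [charFn_apply_of_notMem hU ht'U]
      exact zero_mem _
    rw [h] at h1
    exact h1 h2
  subst ht
  have hp : p = p' := by
    have := congrArg (PrimeSpectrum.comap (algebraMap A (LocallyConstant T A))) h
    rwa [comap_algebraMap_Φ, comap_algebraMap_Φ] at this
  rw [hp]

lemma Φ_surjective [CompactSpace T] : Function.Surjective (Φ T A) := by
  intro q
  -- find the point `t`
  have hex : ∃ t : T, ∀ U : Set T, ∀ hU : IsClopen U, t ∈ U →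
      LocallyConstant.charFn A hU ∉ q.asIdeal := by
    by_contra hcon
    push Not at hcon
    have key : ∃ U : Set T, ∃ hU : IsClopen U, (Set.univ : Set T) ⊆ U ∧
        LocallyConstant.charFn A hU ∈ q.asIdeal := by
      refine isCompact_univ.induction_on (p := fun W => ∃ U : Set T, ∃ hU : IsClopen U, W ⊆ U ∧
        LocallyConstant.charFn A hU ∈ q.asIdeal) ?_ ?_ ?_ ?_
      · refine ⟨∅, isClopen_empty, le_rfl, ?_⟩
        have : LocallyConstant.charFn A (isClopen_empty (X := T)) = 0 := by
          ext t
          exact charFn_apply_of_notMem _ (Set.notMem_empty t)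
        rw [this]
        exact zero_mem _
      · rintro W W' hWW' ⟨U, hU, hW'U, hmem⟩
        exact ⟨U, hU, hWW'.trans hW'U, hmem⟩
      · rintro W W' ⟨U, hU, hWU, hmem⟩ ⟨U', hU', hWU', hmem'⟩
        refine ⟨U ∪ U', hU.union hU', Set.union_subset_union hWU hWU', ?_⟩
        have : LocallyConstant.charFn A (hU.union hU') =
            LocallyConstant.charFn A hU + LocallyConstant.charFn A hU' -
              LocallyConstant.charFn A hU * LocallyConstant.charFn A hU' := by
          ext t
          show _ = LocallyConstant.charFn A hU t + LocallyConstant.charFn A hU' t -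
            LocallyConstant.charFn A hU t * LocallyConstant.charFn A hU' t
          simp only [LocallyConstant.coe_charFn]
          by_cases h1 : t ∈ U <;> by_cases h2 : t ∈ U' <;> simp [h1, h2]
        rw [this]
        exact sub_mem (add_mem hmem hmem') (Ideal.mul_mem_left _ _ hmem')
      · intro t _
        obtain ⟨U, hU, htU, hmem⟩ := hcon t
        exact ⟨U, mem_nhdsWithin_of_mem_nhds (hU.isOpen.mem_nhds htU), U, hU, le_rfl, hmem⟩
    obtain ⟨U, hU, hUuniv, hmem⟩ := key
    have : LocallyConstant.charFn A hU = 1 := by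
      ext t
      exact charFn_apply_of_mem _ (hUuniv (Set.mem_univ t))
    rw [this] at hmem
    exact q.2.one_notMem hmem
  obtain ⟨t, ht⟩ := hex
  refine ⟨(PrimeSpectrum.comap (algebraMap A (LocallyConstant T A)) q, t), ?_⟩
  ext f
  rw [mem_Φ]
  show algebraMap A (LocallyConstant T A) (f t) ∈ q.asIdeal ↔ f ∈ q.asIdeal
  have hU : IsClopen (f ⁻¹' {f t}) := f.isLocallyConstant.isClopen_fiber _
  have hχ := ht _ hU rfl
  have heq : f * LocallyConstant.charFn A hU =
      algebraMap A (LocallyConstant T A) (f t) * LocallyConstant.charFn A hU := by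
    ext t'
    show f t' * LocallyConstant.charFn A hU t' = f t * LocallyConstant.charFn A hU t'
    by_cases h : t' ∈ f ⁻¹' {f t}
    · rw [show f t' = f t from h]
    · rw [charFn_apply_of_notMem _ h, mul_zero, mul_zero]
  constructor
  · intro h
    have : f * LocallyConstant.charFn A hU ∈ q.asIdeal := by
      rw [heq]; exact Ideal.mul_mem_right _ _ h
    exact (q.2.mem_or_mem this).resolve_right hχ
  · intro h
    have : algebraMap A (LocallyConstant T A) (f t) * LocallyConstant.charFn A hU ∈ q.asIdeal := by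
      rw [← heq]; exact Ideal.mul_mem_right _ _ h
    exact (q.2.mem_or_mem this).resolve_right hχ

lemma isOpenMap_Φ [CompactSpace T] [T2Space T] [TotallyDisconnectedSpace T] :
    IsOpenMap (Φ T A) := by
  rw [((PrimeSpectrum.isTopologicalBasis_basic_opens (R := A)).prod
    (isTopologicalBasis_isClopen (X := T))).isOpenMap_iff]
  rintro _ ⟨_, ⟨a, rfl⟩, U, hU, rfl⟩
  replace hU : IsClopen U := hU
  have : Φ T A '' ((PrimeSpectrum.basicOpen a : Set (PrimeSpectrum A)) ×ˢ U) =
      (PrimeSpectrum.basicOpen (algebraMap A (LocallyConstant T A) a *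
        LocallyConstant.charFn A hU) : Set _) := by
    ext q
    constructor
    · rintro ⟨⟨p, t⟩, ⟨hp, ht⟩, rfl⟩
      show _ ∉ (Φ T A (p, t)).asIdeal
      rw [mem_Φ]
      show a * LocallyConstant.charFn A hU t ∉ p.asIdeal
      rw [charFn_apply_of_mem hU ht, mul_one]
      exact hp
    · intro hq
      obtain ⟨⟨p, t⟩, rfl⟩ := Φ_surjective q
      refine ⟨(p, t), ?_, rfl⟩
      replace hq : a * LocallyConstant.charFn A hU t ∉ p.asIdeal := hq
      have ht : t ∈ U := by
        by_contra h
        rw [charFn_apply_of_notMem hU h, mul_zero] at hq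
        exact hq (zero_mem _)
      rw [charFn_apply_of_mem hU ht, mul_one] at hq
      exact ⟨hq, ht⟩
  rw [this]
  exact (PrimeSpectrum.basicOpen _).isOpen

lemma isHomeomorph_Φ [CompactSpace T] [T2Space T] [TotallyDisconnectedSpace T] :
    IsHomeomorph (Φ T A) :=
  ⟨continuous_Φ, isOpenMap_Φ, Φ_injective, Φ_surjective⟩

variable (T A) in
/-- `Spec A × T ≃ₜ Spec (LocallyConstant T A)` for profinite `T`. -/
noncomputable def homeo [CompactSpace T] [T2Space T] [TotallyDisconnectedSpace T] :
    PrimeSpectrum A × T ≃ₜ PrimeSpectrum (LocallyConstant T A) :=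
  isHomeomorph_Φ.homeomorph

lemma homeo_apply [CompactSpace T] [T2Space T] [TotallyDisconnectedSpace T]
    (x : PrimeSpectrum A × T) : homeo T A x = Φ T A x := rfl

lemma homeo_symm_fst [CompactSpace T] [T2Space T] [TotallyDisconnectedSpace T]
    (q : PrimeSpectrum (LocallyConstant T A)) :
    ((homeo T A).symm q).1 = PrimeSpectrum.comap (algebraMap A (LocallyConstant T A)) q := by
  obtain ⟨x, rfl⟩ := (homeo T A).surjective q
  rw [Homeomorph.symm_apply_apply, homeo_apply, comap_algebraMap_Φ]

/-- membership in a prime of `LocallyConstant T A` in terms of the corresponding point. -/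
lemma mem_iff_homeo_symm [CompactSpace T] [T2Space T] [TotallyDisconnectedSpace T]
    (q : PrimeSpectrum (LocallyConstant T A)) (f : LocallyConstant T A) :
    f ∈ q.asIdeal ↔ f ((homeo T A).symm q).2 ∈ ((homeo T A).symm q).1.asIdeal := by
  conv_lhs => rw [← (homeo T A).apply_symm_apply q]
  rfl

end Groth.Agent.Lib.H15SpecLC
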