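import Groth.Agent.Lib.SpectralCons
import Groth.Agent.S7566
import Groth.Agent.S7584
import Mathlib.Topology.Separation.Profinite
import Mathlib.Topology.Connected.TotallyDisconnected
import Mathlib.Topology.Homeomorph.Lemmas

/-!
Fibre products `X ×_{π₀ X} T` of a spectral space with a profinite space over `π₀ X`
(Stacks 096C), and basic facts used there.
-/

set_option autoImplicit false
universe u

namespace Groth.Agent.Lib.SpectralPi0Fib33

open Topology Set

/-- `π₀` of a spectral space is Hausdorff. -/
theorem t2Space_connectedComponents (X : Type u) [TopologicalSpace X] [SpectralSpace X] :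
    T2Space (ConnectedComponents X) :=
  Groth.Agent.S7584.result X fun x => Groth.Agent.S7566.result x

/-- A profinite space is spectral. -/
theorem spectralSpace_of_profinite (T : Type u) [TopologicalSpace T] [CompactSpace T] [T2Space T]
    [TotallyDisconnectedSpace T] : SpectralSpace T :=
  { toPrespectralSpace := PrespectralSpace.of_isTopologicalBasis
      (isTopologicalBasis_isClopen (X := T)) fun _ hU => hU.1.isCompact }

variable (X T : Type u) [TopologicalSpace X] [TopologicalSpace T]

/-- The fibre product of `X` and `T` over `π₀ X`. -/
abbrev Fib (g : C(T, ConnectedComponents X)) : Type u :=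
  {p : X × T // ConnectedComponents.mk p.1 = g p.2}

variable {X T}

theorem isClosed_fib [SpectralSpace X] (g : C(T, ConnectedComponents X)) :
    IsClosed {p : X × T | ConnectedComponents.mk p.1 = g p.2} := by
  have := t2Space_connectedComponents X
  exact isClosed_eq (ConnectedComponents.continuous_coe.comp continuous_fst)
    (g.continuous.comp continuous_snd)

theorem spectralSpace_fib [SpectralSpace X] [CompactSpace T] [T2Space T]
    [TotallyDisconnectedSpace T] (g : C(T, ConnectedComponents X)) : SpectralSpace (Fib X T g) := by
  have := spectralSpace_of_profinite T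
  have : SpectralSpace (X × T) := SpectralCons.spectralSpace_prod
  exact SpectralCons.spectralSpace_of_isClosed_cons
    (SpectralCons.isClosed_cons_of_isClosed (isClosed_fib g))

/-- Two points of the fibre product with the same `T`-coordinate lie in the same connected
component. -/
theorem mk_eq_mk_of_snd_eq (g : C(T, ConnectedComponents X)) (y y' : Fib X T g)
    (h : y.1.2 = y'.1.2) : ConnectedComponents.mk y = ConnectedComponents.mk y' := by
  rw [ConnectedComponents.coe_eq_coe']
  -- the connected component `C` of `y'.1.1` in `X`, embedded in the fibre over `t`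
  set t := y'.1.2 with ht
  set C := connectedComponent y'.1.1 with hC
  have hmem : ∀ c : C, ConnectedComponents.mk (c : X) = g t := by
    intro c
    have : ConnectedComponents.mk (c : X) = ConnectedComponents.mk y'.1.1 :=
      ConnectedComponents.coe_eq_coe'.mpr c.2
    rw [this]; exact y'.2
  let ι : C → Fib X T g := fun c => ⟨((c : X), t), hmem c⟩
  have hι : Continuous ι :=
    Continuous.subtype_mk (continuous_subtype_val.prodMk continuous_const) _
  have : PreconnectedSpace C := Subtype.preconnectedSpace isPreconnected_connectedComponent
  have hpre : IsPreconnected (range ι) := isPreconnected_range hι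
  have hy' : y' ∈ range ι := ⟨⟨y'.1.1, mem_connectedComponent⟩, Subtype.ext rfl⟩
  have hy : y ∈ range ι := by
    have hyC : y.1.1 ∈ C := by
      rw [hC, ← ConnectedComponents.coe_eq_coe']
      rw [y.2, y'.2, h]
    refine ⟨⟨y.1.1, hyC⟩, Subtype.ext ?_⟩
    exact Prod.ext rfl h.symm
  exact hpre.subset_connectedComponent hy' hy

/-- Stacks 096C (1): `π₀(X ×_{π₀ X} T) ≅ T`. -/
theorem exists_homeomorph_connectedComponents_fib [SpectralSpace X] [CompactSpace T] [T2Space T]
    [TotallyDisconnectedSpace T] (g : C(T, ConnectedComponents X)) :
    ∃ e : ConnectedComponents (Fib X T g) ≃ₜ T,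
      ∀ y : Fib X T g, e (ConnectedComponents.mk y) = y.1.2 := by
  have := spectralSpace_fib g
  have hpr : Continuous fun y : Fib X T g => y.1.2 :=
    continuous_snd.comp continuous_subtype_val
  have hφ : Continuous hpr.connectedComponentsLift := hpr.connectedComponentsLift_continuous
  have hφapp : ∀ y : Fib X T g, hpr.connectedComponentsLift (ConnectedComponents.mk y) = y.1.2 :=
    fun y => hpr.connectedComponentsLift_apply_coe y
  have hinj : Function.Injective hpr.connectedComponentsLift := by
    intro a b hab
    obtain ⟨y, rfl⟩ := ConnectedComponents.surjective_coe a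
    obtain ⟨y', rfl⟩ := ConnectedComponents.surjective_coe b
    change hpr.connectedComponentsLift (ConnectedComponents.mk y) =
      hpr.connectedComponentsLift (ConnectedComponents.mk y') at hab
    rw [hφapp, hφapp] at hab
    exact mk_eq_mk_of_snd_eq g y y' hab
  have hsurj : Function.Surjective hpr.connectedComponentsLift := by
    intro t
    obtain ⟨x, hx⟩ := ConnectedComponents.surjective_coe (g t)
    exact ⟨ConnectedComponents.mk (⟨(x, t), hx⟩ : Fib X T g), hφapp _⟩
  let e₀ : ConnectedComponents (Fib X T g) ≃ T := Equiv.ofBijective _ ⟨hinj, hsurj⟩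
  have he₀ : Continuous e₀ := hφ
  exact ⟨he₀.homeoOfEquivCompactToT2, fun y => hφapp y⟩

section WLocal

/-- Specializations stay in the connected component. -/
theorem mk_eq_mk_of_specializes {x x' : X} (h : x ⤳ x') :
    ConnectedComponents.mk x' = ConnectedComponents.mk x := by
  rw [ConnectedComponents.coe_eq_coe']
  have hconn : IsPreconnected (closure ({x} : Set X)) :=
    (isPreconnected_singleton (x := x)).closure
  exact hconn.subset_connectedComponent (subset_closure rfl) (specializes_iff_mem_closure.mp h)

/-- A point is closed iff it has no proper specialization. -/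
theorem isClosed_singleton_iff_forall_specializes {Z : Type*} [TopologicalSpace Z] {z : Z} :
    IsClosed ({z} : Set Z) ↔ ∀ z', z ⤳ z' → z' = z := by
  constructor
  · intro h z' hz'
    have := specializes_iff_mem_closure.mp hz'
    rw [h.closure_eq] at this
    exact this
  · intro h
    have : closure ({z} : Set Z) = {z} := by
      refine subset_antisymm (fun z' hz' => ?_) subset_closure
      exact h z' (specializes_iff_mem_closure.mpr hz')
    rw [← this]
    exact isClosed_closure

theorem specializes_fib_iff [T1Space T] (g : C(T, ConnectedComponents X)) (y y' : Fib X T g) :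
    y ⤳ y' ↔ y.1.1 ⤳ y'.1.1 ∧ y.1.2 = y'.1.2 := by
  rw [subtype_specializes_iff]
  have : (y : X × T) ⤳ (y' : X × T) ↔ (y.1.1, y.1.2) ⤳ (y'.1.1, y'.1.2) := Iff.rfl
  rw [this, specializes_prod, specializes_iff_eq (X := T)]

/-- Closed points of the fibre product are the points over closed points of `X`. -/
theorem isClosed_singleton_fib_iff [T1Space T] (g : C(T, ConnectedComponents X)) (y : Fib X T g) :
    IsClosed ({y} : Set (Fib X T g)) ↔ IsClosed ({y.1.1} : Set X) := by
  rw [isClosed_singleton_iff_forall_specializes, isClosed_singleton_iff_forall_specializes]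
  constructor
  · intro h x' hx'
    have hmem : ConnectedComponents.mk x' = g y.1.2 := by
      rw [mk_eq_mk_of_specializes hx']; exact y.2
    have := h ⟨(x', y.1.2), hmem⟩ ((specializes_fib_iff g _ _).mpr ⟨hx', rfl⟩)
    exact congrArg (fun z : Fib X T g => z.1.1) this
  · intro h y' hy'
    obtain ⟨h1, h2⟩ := (specializes_fib_iff g _ _).mp hy'
    exact Subtype.ext (Prod.ext (h _ h1) h2.symm)

theorem isSpectralMap_fst_fib [SpectralSpace X] [CompactSpace T] [T2Space T]
    [TotallyDisconnectedSpace T] (g : C(T, ConnectedComponents X)) :
    IsSpectralMap (fun y : Fib X T g => y.1.1) := by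
  have := spectralSpace_of_profinite T
  have : SpectralSpace (X × T) := SpectralCons.spectralSpace_prod
  have h1 : IsSpectralMap (Subtype.val : Fib X T g → X × T) :=
    SpectralCons.isSpectralMap_subtype_val
      (SpectralCons.isClosed_cons_of_isClosed (isClosed_fib g))
  have h2 : IsSpectralMap (Prod.fst : X × T → X) := by
    refine ⟨continuous_fst, fun U _ hUc => ?_⟩
    have : (Prod.fst : X × T → X) ⁻¹' U = U ×ˢ (univ : Set T) := by
      ext p; simp
    rw [this]
    exact hUc.prod isCompact_univ
  exact h2.comp h1

end WLocal

end Groth.Agent.Lib.SpectralPi0Fib33
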