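import Groth.Agent.Lib.H15IndZariskiLoc
import Groth.Agent.Lib.H15SpecLC
import Groth.Agent.Lib.SpectralPi0Fib33

set_option autoImplicit false
universe u

namespace Groth.Agent.Lib.H15Pi0Fibre

open PrimeSpectrum TopologicalSpace Groth.Agent.Lib.H15IndZariskiLoc Groth.Agent.Lib.H15SpecLC
  Groth.Agent.Lib.SpectralPi0Fib33

variable (A : Type u) [CommRing A] (T : Type u) [TopologicalSpace T]
  (g : C(T, ConnectedComponents (PrimeSpectrum A)))

/-- functions which are invertible on the fibre product `Spec A ×_{π₀} T`. -/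
def E : Submonoid (LocallyConstant T A) where
  carrier := {e | ∀ (t : T) (p : PrimeSpectrum A), ConnectedComponents.mk p = g t → e t ∉ p.asIdeal}
  one_mem' := fun _ p _ => p.2.one_notMem
  mul_mem' := fun he he' t p h => p.2.mul_notMem (he t p h) (he' t p h)

/-- the ring of the fibre product. -/
abbrev B : Type u := Localization (E A T g)

variable [CompactSpace T]

theorem isIndZariski : EtPBC.IsIndZariski A (B A T g) :=
  isIndZariski_of_isLocalization (isIndZariski_locallyConstant T A) (E A T g)

variable [T2Space T] [TotallyDisconnectedSpace T]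

/-- the map `Spec B → Spec A × T`. -/
noncomputable def ψ (y : PrimeSpectrum (B A T g)) : PrimeSpectrum A × T :=
  (homeo T A).symm (PrimeSpectrum.comap (algebraMap (LocallyConstant T A) (B A T g)) y)

variable {A T g}

lemma ψ_fst (y : PrimeSpectrum (B A T g)) :
    (ψ A T g y).1 = PrimeSpectrum.comap (algebraMap A (B A T g)) y := by
  rw [ψ, homeo_symm_fst, IsScalarTower.algebraMap_eq A (LocallyConstant T A) (B A T g)]
  rfl

lemma isEmbedding_ψ : Topology.IsEmbedding (ψ A T g) :=
  (homeo T A).symm.isEmbedding.comp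
    (PrimeSpectrum.localization_comap_isEmbedding (B A T g) (E A T g))

omit [CompactSpace T] [T2Space T] [TotallyDisconnectedSpace T] in
/-- key separation: if `(p, t)` is not in the fibre product there is `e ∈ E` with `e t ∈ p`. -/
lemma exists_mem_E_of_ne (p : PrimeSpectrum A) (t : T)
    (h : ConnectedComponents.mk p ≠ g t) : ∃ e ∈ E A T g, e t ∈ p.asIdeal := by
  have := t2Space_connectedComponents (PrimeSpectrum A)
  obtain ⟨W, hW, hgW, hpW⟩ := exists_isClopen_of_totally_separated h.symm
  have hV : IsClopen (ConnectedComponents.mk ⁻¹' W : Set (PrimeSpectrum A)) :=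
    hW.preimage ConnectedComponents.continuous_coe
  obtain ⟨a, -, ha⟩ := PrimeSpectrum.isClopen_iff.1 hV
  have hU : IsClopen (g ⁻¹' W) := hW.preimage g.continuous
  refine ⟨algebraMap A (LocallyConstant T A) a * LocallyConstant.charFn A hU +
    (1 - LocallyConstant.charFn A hU), ?_, ?_⟩
  · intro t' p' hp'
    show a * LocallyConstant.charFn A hU t' + (1 - LocallyConstant.charFn A hU t') ∉ p'.asIdeal
    by_cases ht' : t' ∈ g ⁻¹' W
    · rw [charFn_apply_of_mem hU ht', mul_one, sub_self, add_zero]
      have : p' ∈ (ConnectedComponents.mk ⁻¹' W : Set (PrimeSpectrum A)) := by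
        show ConnectedComponents.mk p' ∈ W
        rw [hp']; exact ht'
      rw [ha] at this
      exact this
    · rw [charFn_apply_of_notMem hU ht', mul_zero, sub_zero, zero_add]
      exact p'.2.one_notMem
  · show a * LocallyConstant.charFn A hU t + (1 - LocallyConstant.charFn A hU t) ∈ p.asIdeal
    rw [charFn_apply_of_mem hU hgW, mul_one, sub_self, add_zero]
    have : p ∉ (ConnectedComponents.mk ⁻¹' W : Set (PrimeSpectrum A)) := hpW
    rw [ha] at this
    by_contra hcon
    exact this hcon

lemma range_ψ : Set.range (ψ A T g) = {p | ConnectedComponents.mk p.1 = g p.2} := by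
  ext x
  have hr := PrimeSpectrum.localization_comap_range (B A T g) (E A T g)
  constructor
  · rintro ⟨y, rfl⟩
    have hy : PrimeSpectrum.comap (algebraMap (LocallyConstant T A) (B A T g)) y ∈
        Set.range (PrimeSpectrum.comap (algebraMap (LocallyConstant T A) (B A T g))) := ⟨y, rfl⟩
    rw [hr] at hy
    by_contra hne
    obtain ⟨e, heE, he⟩ := exists_mem_E_of_ne _ _ hne
    refine Set.disjoint_left.1 hy heE ?_
    rw [SetLike.mem_coe, mem_iff_homeo_symm]
    exact he
  · intro hx
    have : homeo T A x ∈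
        Set.range (PrimeSpectrum.comap (algebraMap (LocallyConstant T A) (B A T g))) := by
      rw [hr]
      show Disjoint _ _
      rw [Set.disjoint_left]
      intro e heE he
      exact heE x.2 x.1 hx he
    obtain ⟨y, hy⟩ := this
    refine ⟨y, ?_⟩
    rw [ψ, hy, Homeomorph.symm_apply_apply]

lemma ψ_mem (y : PrimeSpectrum (B A T g)) :
    ConnectedComponents.mk (ψ A T g y).1 = g (ψ A T g y).2 := by
  have : ψ A T g y ∈ Set.range (ψ A T g) := ⟨y, rfl⟩
  rw [range_ψ] at this
  exact this

variable (A T g) in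
/-- the homeomorphism `Spec B → Spec A ×_{π₀} T`. -/
noncomputable def toFib (y : PrimeSpectrum (B A T g)) : Fib (PrimeSpectrum A) T g :=
  ⟨ψ A T g y, ψ_mem y⟩

lemma isHomeomorph_toFib : IsHomeomorph (toFib A T g) := by
  rw [isHomeomorph_iff_isEmbedding_surjective]
  constructor
  · refine Topology.IsEmbedding.of_comp ?_ continuous_subtype_val ?_
    · exact isEmbedding_ψ.continuous.subtype_mk _
    · exact isEmbedding_ψ
  · rintro ⟨x, hx⟩
    have : x ∈ Set.range (ψ A T g) := by rw [range_ψ]; exact hx
    obtain ⟨y, rfl⟩ := this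
    exact ⟨y, rfl⟩

/-- a homeomorphism induces a homeomorphism on `π₀`. -/
noncomputable def pi0Homeo {X Y : Type*} [TopologicalSpace X] [TopologicalSpace Y] (h : X ≃ₜ Y) :
    ConnectedComponents X ≃ₜ ConnectedComponents Y :=
  h.isQuotientMap.isCoinducing.connectedComponentsHomeomorph (fun y => by
    have : (h : X → Y) ⁻¹' {y} = {h.symm y} := by
      ext x
      simp only [Set.mem_preimage, Set.mem_singleton_iff]
      exact ⟨fun hx => by rw [← hx, h.symm_apply_apply], fun hx => by rw [hx, h.apply_symm_apply]⟩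
    rw [this]
    exact isConnected_singleton)

lemma pi0Homeo_mk {X Y : Type*} [TopologicalSpace X] [TopologicalSpace Y] (h : X ≃ₜ Y) (x : X) :
    pi0Homeo h (ConnectedComponents.mk x) = ConnectedComponents.mk (h x) := rfl

variable (A T g) in
/-- `π₀ (Spec B) ≃ₜ T`, compatible with `ψ`. -/
theorem exists_pi0_homeo : ∃ e : ConnectedComponents (PrimeSpectrum (B A T g)) ≃ₜ T,
    ∀ y, e (ConnectedComponents.mk y) = (ψ A T g y).2 := by
  obtain ⟨e₀, he₀⟩ := exists_homeomorph_connectedComponents_fib g
  refine ⟨(pi0Homeo (isHomeomorph_toFib (A := A) (T := T) (g := g)).homeomorph).trans e₀, fun y => ?_⟩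
  rw [Homeomorph.trans_apply, pi0Homeo_mk, he₀]
  rfl

/-- Stacks 096C-type statement: for profinite `T → π₀(Spec A)` there is an ind-Zariski
`A`-algebra `B` with `Spec B = Spec A ×_{π₀(Spec A)} T`. -/
theorem main (A : Type u) [CommRing A] (T : Type u)
    [TopologicalSpace T] [CompactSpace T] [T2Space T] [TotallyDisconnectedSpace T]
    (g : C(T, _root_.ConnectedComponents (PrimeSpectrum A))) :
    ∃ (B : Type u) (_ : CommRing B) (_ : Algebra A B) (e : _root_.ConnectedComponents (PrimeSpectrum B) ≃ₜ T),
      EtPBC.IsIndZariski A B ∧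
      (∀ y : PrimeSpectrum B,
        g (e (_root_.ConnectedComponents.mk y)) = _root_.ConnectedComponents.mk (PrimeSpectrum.comap (algebraMap A B) y)) ∧
      Topology.IsEmbedding (fun y : PrimeSpectrum B =>
        (PrimeSpectrum.comap (algebraMap A B) y, e (_root_.ConnectedComponents.mk y))) ∧
      Set.range (fun y : PrimeSpectrum B =>
        (PrimeSpectrum.comap (algebraMap A B) y, e (_root_.ConnectedComponents.mk y))) =
        {p : PrimeSpectrum A × T | _root_.ConnectedComponents.mk p.1 = g p.2} := by
  obtain ⟨e, he⟩ := exists_pi0_homeo A T g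
  have hfun : (fun y : PrimeSpectrum (B A T g) =>
      (PrimeSpectrum.comap (algebraMap A (B A T g)) y, e (ConnectedComponents.mk y))) = ψ A T g := by
    funext y
    rw [he, ← ψ_fst]
  refine ⟨B A T g, inferInstance, inferInstance, e, isIndZariski A T g, fun y => ?_, ?_, ?_⟩
  · rw [he, ← ψ_fst, ψ_mem]
  · rw [hfun]; exact isEmbedding_ψ
  · rw [hfun]; exact range_ψ

end Groth.Agent.Lib.H15Pi0Fibre
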