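import Groth.Agent.Lib.H15IndZariski
import Mathlib.RingTheory.Localization.Away.Basic
import Mathlib.CategoryTheory.Limits.Preserves.Over
import Mathlib.Topology.LocallyConstant.Algebra
import Mathlib.Topology.DiscreteQuotient

set_option autoImplicit false
open CategoryTheory CategoryTheory.Limits
universe u

namespace Groth.Agent.Lib.H15IndZariskiLoc

open Groth.Agent.Lib.H15IndZariski

/-- A system of `A`-algebras indexed by a category (a functor to `A`-algebras in unbundled form). -/
structure Sys (A : Type u) [CommRing A] (J : Type u) [SmallCategory J] where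
  E : J → Type u
  [ring : ∀ j, CommRing (E j)]
  [alg : ∀ j, Algebra A (E j)]
  t : ∀ {i j : J}, (i ⟶ j) → (E i →ₐ[A] E j)
  t_id : ∀ j, t (𝟙 j) = AlgHom.id A (E j)
  t_comp : ∀ {i j k : J} (f : i ⟶ j) (g : j ⟶ k), t (f ≫ g) = (t g).comp (t f)

attribute [instance] Sys.ring Sys.alg

/-- A cocone under a system. -/
structure Sys.Cocone {A : Type u} [CommRing A] {J : Type u} [SmallCategory J] (𝒮 : Sys A J)
    (B : Type u) [CommRing B] [Algebra A B] where
  φ : ∀ j, 𝒮.E j →ₐ[A] B
  hφ : ∀ {i j : J} (f : i ⟶ j), (φ j).comp (𝒮.t f) = φ i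

/-- Elementwise colimit condition. -/
structure Sys.Cocone.IsColim {A : Type u} [CommRing A] {J : Type u} [SmallCategory J]
    {𝒮 : Sys A J} {B : Type u} [CommRing B] [Algebra A B] (c : 𝒮.Cocone B) : Prop where
  surj : ∀ b : B, ∃ j x, c.φ j x = b
  inj : ∀ j (x y : 𝒮.E j), c.φ j x = c.φ j y → ∃ (k : J) (f : j ⟶ k), 𝒮.t f x = 𝒮.t f y

/-- Constructor for `EtPBC.IsIndZariski` from concrete (elementwise) data. -/
theorem isIndZariski_of_concrete {A B : Type u} [CommRing A] [CommRing B] [Algebra A B]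
    {J : Type u} [SmallCategory J] [IsFiltered J] (𝒮 : Sys A J)
    (hE : ∀ j, Algebra.IsLocalIso A (𝒮.E j)) (c : 𝒮.Cocone B) (hc : c.IsColim) :
    EtPBC.IsIndZariski A B := by
  let D : J ⥤ Under (CommRingCat.of A) :=
    { obj := fun j => Under.mk (CommRingCat.ofHom (algebraMap A (𝒮.E j)))
      map := fun {i j} f => Under.homMk (CommRingCat.ofHom (𝒮.t f).toRingHom) (by
        ext x
        exact (𝒮.t f).commutes x)
      map_id := fun j => by
        ext x
        exact congrArg (fun g => g x) (𝒮.t_id j)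
      map_comp := fun f g => by
        ext x
        exact congrArg (fun h => h x) (𝒮.t_comp f g) }
  let c' : Limits.Cocone D :=
    { pt := Under.mk (CommRingCat.ofHom (algebraMap A B))
      ι :=
        { app := fun j => Under.homMk (CommRingCat.ofHom (c.φ j).toRingHom) (by
            ext x
            exact (c.φ j).commutes x)
          naturality := fun i j f => by
            ext x
            exact congrArg (fun g => g x) (c.hφ f) } }
  obtain ⟨hc'⟩ := isColimit_under_of_elementwise D c' (fun b => hc.surj b)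
    (fun j x y h => hc.inj j x y h)
  refine ⟨J, inferInstance, inferInstance, D, c', hc', ?_, ⟨Iso.refl _⟩⟩
  intro j
  have : (algebraMap A (𝒮.E j)).toAlgebra = (inferInstance : Algebra A (𝒮.E j)) :=
    Algebra.algebra_ext _ _ (fun r => rfl)
  change @Algebra.IsLocalIso A (𝒮.E j) _ _ (algebraMap A (𝒮.E j)).toAlgebra
  rw [this]
  exact hE j

/-- Concrete (elementwise) description of an ind-Zariski algebra. -/
theorem exists_concrete (A B : Type u) [CommRing A] [CommRing B] [Algebra A B]
    (h : EtPBC.IsIndZariski A B) :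
    ∃ (J : Type u) (_ : SmallCategory J) (_ : IsFiltered J) (𝒮 : Sys A J) (c : 𝒮.Cocone B),
      (∀ j, Algebra.IsLocalIso A (𝒮.E j)) ∧ c.IsColim := by
  obtain ⟨J, hJ, hJf, D, c, hc, hD, ⟨e⟩⟩ := h
  let G : Under (CommRingCat.of A) ⥤ Type u := Under.forget _ ⋙ forget CommRingCat
  have hG : IsColimit (G.mapCocone c) := isColimitOfPreserves G hc
  let instAlg : ∀ j, Algebra A (D.obj j).right := fun j => (D.obj j).hom.hom.toAlgebra
  let t : ∀ {i j : J}, (i ⟶ j) → ((D.obj i).right →ₐ[A] (D.obj j).right) := fun {i j} f =>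
    { toRingHom := (D.map f).right.hom
      commutes' := fun a => by
        have := Under.w (D.map f)
        exact congrArg (fun g => g.hom a) this }
  let φ : ∀ j, (D.obj j).right →ₐ[A] B := fun j =>
    { toRingHom := (c.ι.app j ≫ e.hom).right.hom
      commutes' := fun a => by
        have := Under.w (c.ι.app j ≫ e.hom)
        exact congrArg (fun g => g.hom a) this }
  let 𝒮 : Sys A J :=
    { E := fun j => (D.obj j).right
      t := t
      t_id := fun j => by
        ext x
        show (D.map (𝟙 j)).right.hom x = x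
        rw [D.map_id]
        rfl
      t_comp := fun {i j k} f g => by
        ext x
        show (D.map (f ≫ g)).right.hom x = (D.map g).right.hom ((D.map f).right.hom x)
        rw [D.map_comp]
        rfl }
  let c₀ : 𝒮.Cocone B :=
    { φ := φ
      hφ := fun {i j} f => by
        ext x
        have := c.w f
        show (c.ι.app j ≫ e.hom).right.hom ((D.map f).right.hom x) =
          (c.ι.app i ≫ e.hom).right.hom x
        rw [← this]
        rfl }
  refine ⟨J, hJ, hJf, 𝒮, c₀, hD, ?_, ?_⟩
  · intro b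
    obtain ⟨j, y, hy⟩ := Types.jointly_surjective_of_isColimit hG (e.inv.right b)
    refine ⟨j, y, ?_⟩
    have hy' : (c.ι.app j).right.hom y = e.inv.right.hom b := hy
    show e.hom.right.hom ((c.ι.app j).right.hom y) = b
    rw [hy']
    exact congrArg (fun g => g.right.hom b) e.inv_hom_id
  · intro j x y hxy
    have hx' : e.hom.right.hom ((c.ι.app j).right.hom x) =
        e.hom.right.hom ((c.ι.app j).right.hom y) := hxy
    have h0 : (c.ι.app j).right.hom x = (c.ι.app j).right.hom y := by
      have h1 := fun z => congrArg (fun g => g.right.hom ((c.ι.app j).right.hom z)) e.hom_inv_id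
      have h2 : ∀ z, e.inv.right.hom (e.hom.right.hom ((c.ι.app j).right.hom z)) =
          (c.ι.app j).right.hom z := h1
      rw [← h2 x, hx', h2 y]
    have h3 : (G.mapCocone c).ι.app j x = (G.mapCocone c).ι.app j y := h0
    obtain ⟨k, f, hf⟩ := (Types.FilteredColimit.isColimit_eq_iff' hG x y).1 h3
    exact ⟨k, f, hf⟩

section loc

variable {A A' : Type u} [CommRing A] [CommRing A'] [Algebra A A']
  {J : Type u} [SmallCategory J] (𝒮 : Sys A J) (c : 𝒮.Cocone A') (S : Submonoid A')

/-- Index category for the localization of a filtered colimit. -/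
structure LocIdx where
  j : J
  s : 𝒮.E j
  hs : c.φ j s ∈ S

variable {𝒮 c S}

instance LocIdx.category : Category (LocIdx 𝒮 c S) where
  Hom X Y := {f : X.j ⟶ Y.j // 𝒮.t f X.s ∣ Y.s}
  id X := ⟨𝟙 _, by rw [𝒮.t_id]; exact dvd_refl _⟩
  comp {X Y Z} f g := ⟨f.1 ≫ g.1, by
    rw [𝒮.t_comp]
    exact dvd_trans (map_dvd (𝒮.t g.1) f.2) g.2⟩
  id_comp f := Subtype.ext (Category.id_comp _)
  comp_id f := Subtype.ext (Category.comp_id _)
  assoc f g h := Subtype.ext (Category.assoc _ _ _)


@[simp] lemma LocIdx.id_val (X : LocIdx 𝒮 c S) : (𝟙 X : X ⟶ X).1 = 𝟙 X.j := rfl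
@[simp] lemma LocIdx.comp_val {X Y Z : LocIdx 𝒮 c S} (f : X ⟶ Y) (g : Y ⟶ Z) :
    (f ≫ g).1 = f.1 ≫ g.1 := rfl

lemma LocIdx.hom_ext {X Y : LocIdx 𝒮 c S} (f g : X ⟶ Y) (h : f.1 = g.1) : f = g :=
  Subtype.ext h

lemma cocone_apply (c : 𝒮.Cocone A') {i j : J} (f : i ⟶ j) (x : 𝒮.E i) :
    c.φ j (𝒮.t f x) = c.φ i x :=
  congrArg (fun g => g x) (c.hφ f)

instance LocIdx.isFiltered [IsFiltered J] : IsFiltered (LocIdx 𝒮 c S) where
  cocone_objs X Y := by
    let l := IsFiltered.max X.j Y.j
    let u : X.j ⟶ l := IsFiltered.leftToMax _ _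
    let v : Y.j ⟶ l := IsFiltered.rightToMax _ _
    refine ⟨⟨l, 𝒮.t u X.s * 𝒮.t v Y.s, ?_⟩, ⟨u, dvd_mul_right _ _⟩, ⟨v, dvd_mul_left _ _⟩, trivial⟩
    rw [map_mul, cocone_apply, cocone_apply]
    exact S.mul_mem X.hs Y.hs
  cocone_maps {X Y} f g := by
    let l := IsFiltered.coeq f.1 g.1
    let h : Y.j ⟶ l := IsFiltered.coeqHom f.1 g.1
    refine ⟨⟨l, 𝒮.t h Y.s, ?_⟩, ⟨h, dvd_refl _⟩, ?_⟩
    · rw [cocone_apply]; exact Y.hs
    · exact LocIdx.hom_ext _ _ (IsFiltered.coeq_condition f.1 g.1)
  nonempty := by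
    obtain ⟨j⟩ := (IsFiltered.nonempty : Nonempty J)
    exact ⟨⟨j, 1, by rw [map_one]; exact S.one_mem⟩⟩

lemma isUnit_of_hom {X Y : LocIdx 𝒮 c S} (f : X ⟶ Y) :
    IsUnit (algebraMap (𝒮.E Y.j) (Localization.Away Y.s) (𝒮.t f.1 X.s)) :=
  isUnit_of_dvd_unit (map_dvd _ f.2) (IsLocalization.Away.algebraMap_isUnit Y.s)

/-- transition maps of the localized system. -/
noncomputable def locT {X Y : LocIdx 𝒮 c S} (f : X ⟶ Y) :
    Localization.Away X.s →ₐ[A] Localization.Away Y.s :=
  IsLocalization.liftAlgHom (M := Submonoid.powers X.s)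
    (f := (IsScalarTower.toAlgHom A (𝒮.E Y.j) (Localization.Away Y.s)).comp (𝒮.t f.1)) (by
      rintro ⟨_, n, rfl⟩
      simp only [AlgHom.coe_comp, Function.comp_apply, map_pow]
      exact (isUnit_of_hom f).pow n)

lemma locT_algebraMap {X Y : LocIdx 𝒮 c S} (f : X ⟶ Y) (x : 𝒮.E X.j) :
    locT f (algebraMap _ (Localization.Away X.s) x) =
      algebraMap _ (Localization.Away Y.s) (𝒮.t f.1 x) := by
  simp [locT]

variable (𝒮 c S) in
/-- the localized system. -/
noncomputable def locSys : Sys A (LocIdx 𝒮 c S) where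
  E X := Localization.Away X.s
  t f := locT f
  t_id X := by
    apply AlgHom.coe_ringHom_injective
    apply IsLocalization.ringHom_ext (Submonoid.powers X.s)
    ext x
    show locT (𝟙 X) (algebraMap _ _ x) = algebraMap _ _ x
    rw [locT_algebraMap, LocIdx.id_val, 𝒮.t_id]
    rfl
  t_comp {X Y Z} f g := by
    apply AlgHom.coe_ringHom_injective
    apply IsLocalization.ringHom_ext (Submonoid.powers X.s)
    ext x
    show locT (f ≫ g) (algebraMap _ _ x) = locT g (locT f (algebraMap _ _ x))
    rw [locT_algebraMap, locT_algebraMap, locT_algebraMap, LocIdx.comp_val, 𝒮.t_comp]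
    rfl

section cocone

variable {B : Type u} [CommRing B] [Algebra A' B] [Algebra A B] [IsScalarTower A A' B]
  [IsLocalization S B]

omit [Algebra A B] [IsScalarTower A A' B] in
variable (B) in
lemma isUnit_locφ (X : LocIdx 𝒮 c S) :
    IsUnit (algebraMap A' B (c.φ X.j X.s)) :=
  IsLocalization.map_units B (⟨_, X.hs⟩ : S)

variable (B) in
/-- cocone maps of the localized system. -/
noncomputable def locφ (X : LocIdx 𝒮 c S) : Localization.Away X.s →ₐ[A] B :=
  IsLocalization.liftAlgHom (M := Submonoid.powers X.s)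
    (f := (IsScalarTower.toAlgHom A A' B).comp (c.φ X.j)) (by
      rintro ⟨_, n, rfl⟩
      simp only [AlgHom.coe_comp, Function.comp_apply, map_pow]
      exact (isUnit_locφ B X).pow n)

lemma locφ_algebraMap (X : LocIdx 𝒮 c S) (x : 𝒮.E X.j) :
    locφ B X (algebraMap _ (Localization.Away X.s) x) = algebraMap A' B (c.φ X.j x) := by
  simp [locφ]

variable (𝒮 c S B) in
/-- the cocone of the localized system. -/
noncomputable def locCocone : (locSys 𝒮 c S).Cocone B where
  φ X := locφ B X
  hφ {X Y} f := by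
    show (locφ B Y).comp (locT f) = locφ B X
    apply AlgHom.coe_ringHom_injective
    apply IsLocalization.ringHom_ext (Submonoid.powers X.s)
    ext x
    show locφ B Y (locT f (algebraMap _ _ x)) = locφ B X (algebraMap _ _ x)
    rw [locT_algebraMap, locφ_algebraMap, locφ_algebraMap, cocone_apply]

theorem locCocone_isColim [IsFiltered J] (hc : c.IsColim) : (locCocone 𝒮 c S B).IsColim where
  surj b := by
    obtain ⟨a', σ, rfl⟩ := IsLocalization.exists_mk'_eq S b
    obtain ⟨j, x, hx⟩ := hc.surj a'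
    obtain ⟨k, y, hy⟩ := hc.surj σ
    let l := IsFiltered.max j k
    let u : j ⟶ l := IsFiltered.leftToMax _ _
    let v : k ⟶ l := IsFiltered.rightToMax _ _
    have hy' : c.φ l (𝒮.t v y) = σ := by rw [cocone_apply, hy]
    let X : LocIdx 𝒮 c S := ⟨l, 𝒮.t v y, by rw [hy']; exact σ.2⟩
    refine ⟨X, IsLocalization.mk' (Localization.Away X.s) (𝒮.t u x)
      (⟨X.s, Submonoid.mem_powers _⟩ : Submonoid.powers X.s), ?_⟩
    show locφ B X _ = _
    rw [locφ, IsLocalization.liftAlgHom_apply, IsLocalization.lift_mk'_spec]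
    show algebraMap A' B (c.φ l (𝒮.t u x)) = algebraMap A' B (c.φ l (𝒮.t v y)) *
      IsLocalization.mk' B a' σ
    rw [hy', cocone_apply, hx, IsLocalization.mk'_spec']
  inj X := by
    intro (x : Localization.Away X.s) (y : Localization.Away X.s) hxy
    replace hxy : locφ B X x = locφ B X y := hxy
    obtain ⟨n, a, ha⟩ := IsLocalization.Away.surj X.s x
    obtain ⟨m, b, hb⟩ := IsLocalization.Away.surj X.s y
    -- equation in `B`
    have h1 : algebraMap A' B (c.φ X.j (a * X.s ^ m)) = algebraMap A' B (c.φ X.j (b * X.s ^ n)) := by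
      have ha' := congrArg (locφ B X) ha
      have hb' := congrArg (locφ B X) hb
      rw [map_mul, map_pow, locφ_algebraMap, locφ_algebraMap] at ha' hb'
      rw [map_mul, map_mul, map_mul, map_mul, ← ha', ← hb', map_pow, map_pow, map_pow, map_pow,
        hxy]
      ring
    rw [IsLocalization.eq_iff_exists S B] at h1
    obtain ⟨σ, hσ⟩ := h1
    obtain ⟨k, z, hz⟩ := hc.surj σ
    let l := IsFiltered.max X.j k
    let u : X.j ⟶ l := IsFiltered.leftToMax _ _
    let v : k ⟶ l := IsFiltered.rightToMax _ _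
    have h2 : c.φ l (𝒮.t v z * 𝒮.t u (a * X.s ^ m)) = c.φ l (𝒮.t v z * 𝒮.t u (b * X.s ^ n)) := by
      have e1 : ∀ r, c.φ l (𝒮.t v z * 𝒮.t u r) = σ * c.φ X.j r := fun r => by
        rw [map_mul, cocone_apply, cocone_apply, hz]
      rw [e1, e1]
      exact hσ
    obtain ⟨l', w, hw⟩ := hc.inj l _ _ h2
    have hmem : c.φ l' (𝒮.t (u ≫ w) X.s * 𝒮.t (v ≫ w) z) ∈ S := by
      rw [map_mul, cocone_apply, cocone_apply, hz]
      exact S.mul_mem X.hs σ.2
    let Y : LocIdx 𝒮 c S := ⟨l', 𝒮.t (u ≫ w) X.s * 𝒮.t (v ≫ w) z, hmem⟩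
    let f : X ⟶ Y := ⟨u ≫ w, dvd_mul_right _ _⟩
    refine ⟨Y, f, ?_⟩
    show locT f x = locT f y
    have ha' := congrArg (locT f) ha
    have hb' := congrArg (locT f) hb
    rw [map_mul, map_pow, locT_algebraMap, locT_algebraMap] at ha' hb'
    have hunit : IsUnit (algebraMap (𝒮.E l') (Localization.Away Y.s) (𝒮.t (u ≫ w) X.s)) :=
      isUnit_of_hom f
    have hunit' : IsUnit (algebraMap (𝒮.E l') (Localization.Away Y.s) (𝒮.t (v ≫ w) z)) :=
      isUnit_of_dvd_unit (map_dvd _ (dvd_mul_left _ _)) (IsLocalization.Away.algebraMap_isUnit Y.s)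
    have h3 : algebraMap (𝒮.E l') (Localization.Away Y.s) (𝒮.t (u ≫ w) (a * X.s ^ m)) =
        algebraMap (𝒮.E l') (Localization.Away Y.s) (𝒮.t (u ≫ w) (b * X.s ^ n)) := by
      apply hunit'.mul_left_cancel
      rw [← map_mul, ← map_mul]
      congr 1
      have e2 : ∀ r, 𝒮.t (v ≫ w) z * 𝒮.t (u ≫ w) r = 𝒮.t w (𝒮.t v z * 𝒮.t u r) := fun r => by
        rw [𝒮.t_comp, 𝒮.t_comp, map_mul]
        rfl
      rw [e2, e2]
      exact hw
    have h4 : locT f x * algebraMap (𝒮.E l') (Localization.Away Y.s) (𝒮.t (u ≫ w) X.s) ^ n *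
        algebraMap (𝒮.E l') (Localization.Away Y.s) (𝒮.t (u ≫ w) X.s) ^ m =
        locT f y * algebraMap (𝒮.E l') (Localization.Away Y.s) (𝒮.t (u ≫ w) X.s) ^ m *
        algebraMap (𝒮.E l') (Localization.Away Y.s) (𝒮.t (u ≫ w) X.s) ^ n := by
      rw [ha', hb']
      simpa only [map_mul, map_pow] using h3
    apply (hunit.pow (n + m)).mul_right_cancel
    rw [pow_add]
    linear_combination h4

end cocone

end loc

/-- A localization of an ind-Zariski algebra is ind-Zariski. -/
theorem isIndZariski_of_isLocalization {A A' B : Type u} [CommRing A] [CommRing A'] [CommRing B]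
    [Algebra A A'] [Algebra A' B] [Algebra A B] [IsScalarTower A A' B]
    (h : EtPBC.IsIndZariski A A') (S : Submonoid A') [IsLocalization S B] :
    EtPBC.IsIndZariski A B := by
  obtain ⟨J, _, _, 𝒮, c, hE, hc⟩ := exists_concrete A A' h
  refine isIndZariski_of_concrete (locSys 𝒮 c S) ?_ (locCocone 𝒮 c S B) (locCocone_isColim hc)
  intro X
  show Algebra.IsLocalIso A (Localization.Away X.s)
  have := hE X.j
  have : Algebra.IsStandardOpenImmersion (𝒮.E X.j) (Localization.Away X.s) :=
    ⟨X.s, inferInstance⟩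
  exact Algebra.IsLocalIso.trans A (𝒮.E X.j) (Localization.Away X.s)

/-- `A` is ind-Zariski over itself. -/
theorem isIndZariski_self (A : Type u) [CommRing A] : EtPBC.IsIndZariski A A := by
  let 𝒮 : Sys A PUnit.{u+1} :=
    { E := fun _ => A
      t := fun _ => AlgHom.id A A
      t_id := fun _ => rfl
      t_comp := fun _ _ => rfl }
  let c : 𝒮.Cocone A := { φ := fun _ => AlgHom.id A A, hφ := fun _ => rfl }
  refine isIndZariski_of_concrete 𝒮 (fun _ => ?_) c ⟨fun b => ⟨PUnit.unit, b, rfl⟩,
    fun j x y h => ⟨j, 𝟙 _, h⟩⟩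
  show Algebra.IsLocalIso A A
  have : Algebra.IsStandardOpenImmersion A A := .of_bijective Function.bijective_id
  infer_instance

/-- Any localization of `A` is ind-Zariski over `A`. -/
theorem isIndZariski_localization {A B : Type u} [CommRing A] [CommRing B] [Algebra A B]
    (S : Submonoid A) [IsLocalization S B] : EtPBC.IsIndZariski A B :=
  isIndZariski_of_isLocalization (isIndZariski_self A) S

/-- transport of ind-Zariski along an algebra isomorphism. -/
theorem isIndZariski_of_algEquiv {A B B' : Type u} [CommRing A] [CommRing B] [CommRing B']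
    [Algebra A B] [Algebra A B'] (e : B ≃ₐ[A] B') (h : EtPBC.IsIndZariski A B) :
    EtPBC.IsIndZariski A B' := by
  obtain ⟨J, _, _, 𝒮, c, hE, hc⟩ := exists_concrete A B h
  refine isIndZariski_of_concrete 𝒮 hE
    ⟨fun j => (e : B →ₐ[A] B').comp (c.φ j), fun {i j} f => ?_⟩ ⟨fun b => ?_, fun j x y hxy => ?_⟩
  · rw [AlgHom.comp_assoc, c.hφ]
  · obtain ⟨j, x, hx⟩ := hc.surj (e.symm b)
    exact ⟨j, x, by simp [hx]⟩
  · exact hc.inj j x y (e.injective hxy)

section LC

variable (T : Type u) [TopologicalSpace T] [CompactSpace T] (A : Type u) [CommRing A]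

/-- underlying discrete quotient. -/
abbrev dq {T : Type u} [TopologicalSpace T] (S : (DiscreteQuotient T)ᵒᵈ) : DiscreteQuotient T :=
  OrderDual.ofDual S

/-- the system `S ↦ (S → A)` over discrete quotients of `T`. -/
noncomputable def lcSys : Sys A (DiscreteQuotient T)ᵒᵈ where
  E S := (↥(dq S) → A)
  t {S S'} f :=
    { toFun := fun x => x ∘ DiscreteQuotient.ofLE (A := dq S') (B := dq S) (leOfHom f)
      map_one' := rfl
      map_mul' := fun _ _ => rfl
      map_zero' := rfl
      map_add' := fun _ _ => rfl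
      commutes' := fun _ => rfl }
  t_id S := by
    ext x s
    show x (DiscreteQuotient.ofLE _ s) = x s
    rw [DiscreteQuotient.ofLE_refl_apply]
  t_comp {S S' S''} f g := by
    ext x s
    show x (DiscreteQuotient.ofLE _ s) = x (DiscreteQuotient.ofLE _ (DiscreteQuotient.ofLE _ s))
    rw [DiscreteQuotient.ofLE_ofLE]

/-- the cocone to `LocallyConstant T A`. -/
noncomputable def lcCocone : (lcSys T A).Cocone (LocallyConstant T A) where
  φ S :=
    { toFun := fun x => ⟨x ∘ (dq S).proj, (dq S).proj_isLocallyConstant.comp x⟩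
      map_one' := rfl
      map_mul' := fun _ _ => rfl
      map_zero' := rfl
      map_add' := fun _ _ => rfl
      commutes' := fun _ => rfl }
  hφ {S S'} f := by
    ext x t
    show x (DiscreteQuotient.ofLE _ ((dq S').proj t)) = x ((dq S).proj t)
    rw [DiscreteQuotient.ofLE_proj]

omit [CompactSpace T] in
theorem lcCocone_isColim : (lcCocone T A).IsColim where
  surj f := ⟨OrderDual.toDual f.discreteQuotient, (f.lift : f.discreteQuotient → A),
    LocallyConstant.ext fun _ => rfl⟩
  inj S x y hxy := by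
    refine ⟨S, 𝟙 S, ?_⟩
    have : x = y := by
      funext s
      obtain ⟨t, rfl⟩ := (dq S).proj_surjective s
      exact congrArg (fun f : LocallyConstant T A => f t) hxy
    rw [this]

/-- `LocallyConstant T A` is ind-Zariski over `A` for compact `T`. -/
theorem isIndZariski_locallyConstant : EtPBC.IsIndZariski A (LocallyConstant T A) := by
  have : IsFiltered (DiscreteQuotient T)ᵒᵈ := isFiltered_of_directed_le_nonempty _
  refine isIndZariski_of_concrete (lcSys T A) (fun S => ?_) (lcCocone T A) (lcCocone_isColim T A)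
  show Algebra.IsLocalIso A (↥(dq S) → A)
  have : Algebra.IsStandardOpenImmersion A A := .of_bijective Function.bijective_id
  exact Algebra.IsLocalIso.pi_of_finite A (fun _ : ↥(dq S) => A)

end LC

end Groth.Agent.Lib.H15IndZariskiLoc
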