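import Groth.Agent.Lib.H15LocalRingHom
import Groth.Prelude.Def_PBC
import Mathlib.RingTheory.Ideal.Over
import Mathlib.RingTheory.Localization.Ideal

set_option autoImplicit false
universe u

namespace Groth.Agent.Lib.H15QuotLocal

open Groth.Agent.Lib.H15LocalRingHom

variable {A B : Type u} [CommRing A] [CommRing B] [Algebra A B]

/-- If `A → B` identifies local rings then so does `A/I → B/IB`. -/
theorem identifiesLocalRings_quotient (h : EtPBC.IdentifiesLocalRings A B) (I : Ideal A) :
    EtPBC.IdentifiesLocalRings (A ⧸ I) (B ⧸ I.map (algebraMap A B)) := by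
  intro qbar
  -- the prime of `B`
  let q : PrimeSpectrum B := PrimeSpectrum.comap (Ideal.Quotient.mk (I.map (algebraMap A B))) qbar
  have hq : ∀ b : B, b ∈ q.asIdeal ↔ Ideal.Quotient.mk (I.map (algebraMap A B)) b ∈ qbar.asIdeal := fun b => Iff.rfl
  obtain ⟨hinj, hsurj⟩ := h q
  have hmapmk : ∀ a : A, algebraMap (A ⧸ I) (B ⧸ (I.map (algebraMap A B))) (Ideal.Quotient.mk I a) =
      Ideal.Quotient.mk (I.map (algebraMap A B)) (algebraMap A B a) := fun a => rfl
  have hcomap : ∀ s : A, s ∉ q.asIdeal.comap (algebraMap A B) →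
      Ideal.Quotient.mk I s ∉ qbar.asIdeal.comap (algebraMap (A ⧸ I) (B ⧸ (I.map (algebraMap A B)))) := by
    intro s hs hs'
    apply hs
    rw [Ideal.mem_comap, hq, ← hmapmk]
    exact hs'
  constructor
  · apply injective_localRingHom_of
    rintro abar ⟨cbar, hc, hca⟩
    obtain ⟨a, rfl⟩ := Ideal.Quotient.mk_surjective abar
    obtain ⟨c, rfl⟩ := Ideal.Quotient.mk_surjective cbar
    rw [hmapmk, ← map_mul, Ideal.Quotient.eq_zero_iff_mem] at hca
    have hcq : c ∉ q.asIdeal := by rw [hq]; exact hc
    -- work in the local rings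
    set p := q.asIdeal.comap (algebraMap A B) with hp
    set lrh := Localization.localRingHom p q.asIdeal (algebraMap A B) rfl with hlrh
    have h1 : algebraMap B (Localization.AtPrime q.asIdeal) (algebraMap A B a) ∈
        (I.map (algebraMap A (Localization.AtPrime p))).map lrh := by
      have h2 : algebraMap B (Localization.AtPrime q.asIdeal) (c * algebraMap A B a) ∈
          (I.map (algebraMap A B)).map (algebraMap B (Localization.AtPrime q.asIdeal)) := Ideal.mem_map_of_mem _ hca
      rw [map_mul, Ideal.unit_mul_mem_iff_mem _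
        (IsLocalization.map_units _ (⟨c, hcq⟩ : q.asIdeal.primeCompl))] at h2
      have h3 : (I.map (algebraMap A B)).map (algebraMap B (Localization.AtPrime q.asIdeal)) =
          (I.map (algebraMap A (Localization.AtPrime p))).map lrh := by
        rw [Ideal.map_map, Ideal.map_map]
        congr 1
        ext x
        simp only [RingHom.coe_comp, Function.comp_apply, hlrh, Localization.localRingHom_to_map]
      rw [← h3]
      exact h2
    rw [Ideal.mem_map_iff_of_surjective lrh hsurj] at h1
    obtain ⟨β, hβ, hβa⟩ := h1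
    have h4 : β = algebraMap A (Localization.AtPrime p) a := by
      apply hinj
      rw [hβa, Localization.localRingHom_to_map]
    rw [h4, IsLocalization.mem_map_algebraMap_iff p.primeCompl] at hβ
    obtain ⟨⟨i, m⟩, him⟩ := hβ
    rw [← map_mul, IsLocalization.eq_iff_exists p.primeCompl] at him
    obtain ⟨m', hm'⟩ := him
    refine ⟨Ideal.Quotient.mk I ((m' : A) * (m : A)), hcomap _ ?_, ?_⟩
    · exact (m' * m).2
    · rw [← map_mul, Ideal.Quotient.eq_zero_iff_mem]
      have : (m' : A) * (m : A) * a = m' * i := by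
        rw [← hm']; ring
      rw [this]
      exact I.mul_mem_left _ i.2
  · apply surjective_localRingHom_of
    intro bbar
    obtain ⟨b, rfl⟩ := Ideal.Quotient.mk_surjective bbar
    obtain ⟨x, hx⟩ := hsurj (algebraMap B (Localization.AtPrime q.asIdeal) b)
    obtain ⟨a, s, rfl⟩ := IsLocalization.exists_mk'_eq
      (q.asIdeal.comap (algebraMap A B)).primeCompl x
    rw [Localization.localRingHom_mk', IsLocalization.mk'_eq_iff_eq_mul, ← map_mul,
      IsLocalization.eq_iff_exists q.asIdeal.primeCompl] at hx
    obtain ⟨c, hc⟩ := hx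
    refine ⟨Ideal.Quotient.mk I a, Ideal.Quotient.mk I (s : A), Ideal.Quotient.mk (I.map (algebraMap A B)) (c : B),
      hcomap _ s.2, ?_, ?_⟩
    · rw [← hq]; exact c.2
    · rw [hmapmk, hmapmk, ← map_mul, ← map_mul, ← map_mul, hc]
      congr 1
      ring

end Groth.Agent.Lib.H15QuotLocal
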