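import Groth.Agent.Lib.H15LCLocal2
import Groth.Agent.Lib.H15IndZariskiLoc
import Groth.Agent.Lib.H15QuotLocal
import Groth.Agent.Lib.SpectralPi0Fib33
import Groth.Agent.S0699
import Groth.Agent.S0701

set_option autoImplicit false
universe u

namespace Groth.Agent.Lib.H15ProfiniteLoc

open PrimeSpectrum Groth.Agent.Lib.H15SpecLC Groth.Agent.Lib.H15LocalRingHom
  Groth.Agent.Lib.H15LCLocal Groth.Agent.Lib.H15IndZariskiLoc ProEtW

variable (A : Type u) [CommRing A] (I : Ideal A)

/-- the closed subset `V(I)` as a type. -/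
abbrev Z : Type u := ↥(PrimeSpectrum.zeroLocus (R := A) I)

/-- locally constant functions on `V(I)` which are invertible on the diagonal. -/
def M : Submonoid (LocallyConstant (Z A I) A) where
  carrier := {f | ∀ z : Z A I, f z ∉ z.1.asIdeal}
  one_mem' := fun z => z.1.2.one_notMem
  mul_mem' := fun hf hg z => z.1.2.mul_notMem (hf z) (hg z)

/-- the w-localization of `A` along `V(I)`. -/
abbrev Bz : Type u := Localization (M A I)

variable [CompactSpace (Z A I)]

theorem isIndZariski : EtPBC.IsIndZariski A (Bz A I) :=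
  isIndZariski_of_isLocalization (isIndZariski_locallyConstant (Z A I) A) (M A I)

variable [T2Space (Z A I)] [TotallyDisconnectedSpace (Z A I)]

variable {A I}

lemma forall_M_iff (x : PrimeSpectrum A × Z A I) :
    (∀ m ∈ M A I, m x.2 ∉ x.1.asIdeal) ↔ x.1.asIdeal ≤ x.2.1.asIdeal := by
  constructor
  · intro h
    by_contra hle
    obtain ⟨a, hax, haz⟩ := SetLike.not_le_iff_exists.1 hle
    have hopen : IsOpen {z : Z A I | a ∉ z.1.asIdeal} :=
      (PrimeSpectrum.basicOpen a).isOpen.preimage continuous_subtype_val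
    obtain ⟨U, hU, hxU, hUa⟩ := compact_exists_isClopen_in_isOpen hopen (x := x.2) haz
    refine h (algebraMap A (LocallyConstant (Z A I) A) a * LocallyConstant.charFn A hU +
      (1 - LocallyConstant.charFn A hU)) ?_ ?_
    · intro z
      show a * LocallyConstant.charFn A hU z + (1 - LocallyConstant.charFn A hU z) ∉ z.1.asIdeal
      by_cases hz : z ∈ U
      · rw [charFn_apply_of_mem hU hz, mul_one, sub_self, add_zero]
        exact hUa hz
      · rw [charFn_apply_of_notMem hU hz, mul_zero, sub_zero, zero_add]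
        exact z.1.2.one_notMem
    · show a * LocallyConstant.charFn A hU x.2 + (1 - LocallyConstant.charFn A hU x.2) ∈
        x.1.asIdeal
      rw [charFn_apply_of_mem hU hxU, mul_one, sub_self, add_zero]
      exact hax
  · intro hle m hm hmem
    exact hm x.2 (hle hmem)

/-- first coordinate. -/
noncomputable abbrev P (y : PrimeSpectrum (Bz A I)) : PrimeSpectrum A := (pt A (Z A I) y).1
/-- second coordinate. -/
noncomputable abbrev τ (y : PrimeSpectrum (Bz A I)) : Z A I := (pt A (Z A I) y).2

lemma P_eq (y : PrimeSpectrum (Bz A I)) : P y = PrimeSpectrum.comap (algebraMap A (Bz A I)) y :=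
  pt_fst y

lemma P_le (y : PrimeSpectrum (Bz A I)) : (P y).asIdeal ≤ (τ y).1.asIdeal := by
  have : pt A (Z A I) y ∈ Set.range (pt A (Z A I) : PrimeSpectrum (Bz A I) → _) := ⟨y, rfl⟩
  rw [range_pt (M A I), Set.mem_ofPred_eq, forall_M_iff] at this
  exact this

lemma exists_diag (t : Z A I) : ∃ y : PrimeSpectrum (Bz A I), pt A (Z A I) y = (t.1, t) := by
  have : ((t.1, t) : PrimeSpectrum A × Z A I) ∈
      Set.range (pt A (Z A I) : PrimeSpectrum (Bz A I) → _) := by
    rw [range_pt (M A I), Set.mem_ofPred_eq, forall_M_iff]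
  exact this

lemma pt_injective : Function.Injective (pt A (Z A I) : PrimeSpectrum (Bz A I) → _) :=
  (isEmbedding_pt (M A I) (Bz A I)).injective

lemma isClosed_singleton_iff (y : PrimeSpectrum (Bz A I)) :
    IsClosed ({y} : Set (PrimeSpectrum (Bz A I))) ↔ P y = (τ y).1 := by
  constructor
  · intro hy
    obtain ⟨y₀, hy₀⟩ := exists_diag (τ y)
    have hspec : y ⤳ y₀ := by
      rw [specializes_iff_pt (M A I), hy₀]
      exact ⟨(PrimeSpectrum.le_iff_specializes _ _).1 (P_le y), rfl⟩
    have := specializes_iff_mem_closure.1 hspec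
    rw [hy.closure_eq, Set.mem_singleton_iff] at this
    rw [← this, P, hy₀]
    show (τ y).1 = (pt A (Z A I) y₀).2.1
    rw [hy₀]
  · intro hy
    rw [SpectralPi0Fib33.isClosed_singleton_iff_forall_specializes]
    intro y' hyy'
    obtain ⟨h1, h2⟩ := (specializes_iff_pt (M A I) _ y y').1 hyy'
    apply pt_injective
    refine Prod.ext ?_ h2.symm
    apply PrimeSpectrum.ext
    apply le_antisymm
    · have := P_le y'
      rw [show τ y' = τ y from h2.symm, ← hy] at this
      exact this
    · exact (PrimeSpectrum.le_iff_specializes _ _).2 h1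

lemma mem_zeroLocus_iff (y : PrimeSpectrum (Bz A I)) :
    y ∈ PrimeSpectrum.zeroLocus (R := Bz A I) (I.map (algebraMap A (Bz A I))) ↔
      P y ∈ PrimeSpectrum.zeroLocus (R := A) I := by
  rw [PrimeSpectrum.mem_zeroLocus, PrimeSpectrum.mem_zeroLocus, SetLike.coe_subset_coe,
    SetLike.coe_subset_coe, Ideal.map_le_iff_le_comap, P_eq]
  rfl

theorem closedPoints_eq : ProEtW.closedPoints (PrimeSpectrum (Bz A I)) =
    PrimeSpectrum.zeroLocus (R := Bz A I) (I.map (algebraMap A (Bz A I))) := by
  ext y
  rw [mem_zeroLocus_iff]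
  show IsClosed ({y} : Set _) ↔ _
  rw [isClosed_singleton_iff]
  constructor
  · intro h
    rw [h]
    exact (τ y).2
  · intro h
    have hspec : (⟨P y, h⟩ : Z A I) ⤳ τ y := by
      rw [subtype_specializes_iff]
      exact (PrimeSpectrum.le_iff_specializes _ _).1 (P_le y)
    have := hspec.eq
    exact congrArg Subtype.val this

theorem isWLocal : IsWLocal (PrimeSpectrum (Bz A I)) := by
  refine ⟨inferInstance, ?_, fun y => ?_⟩
  · have := closedPoints_eq (A := A) (I := I)
    rw [ProEtW.closedPoints] at this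
    rw [this]
    exact PrimeSpectrum.isClosed_zeroLocus _
  · obtain ⟨y₀, hy₀⟩ := exists_diag (τ y)
    have hP₀ : P y₀ = (τ y).1 := by rw [P, hy₀]
    have hτ₀ : τ y₀ = τ y := by rw [τ, hy₀]
    refine ⟨y₀, ⟨?_, ?_⟩, ?_⟩
    · rw [isClosed_singleton_iff, hP₀, hτ₀]
    · rw [specializes_iff_pt (M A I), hy₀]
      exact ⟨(PrimeSpectrum.le_iff_specializes _ _).1 (P_le y), rfl⟩
    · rintro y' ⟨hy'1, hy'2⟩
      rw [isClosed_singleton_iff] at hy'1
      obtain ⟨-, h2⟩ := (specializes_iff_pt (M A I) _ y y').1 hy'2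
      apply pt_injective
      rw [hy₀]
      refine Prod.ext ?_ h2.symm
      show P y' = (τ y).1
      rw [hy'1]
      exact congrArg Subtype.val h2.symm

section bij

lemma isMaximal_of_comap_isMaximal {R S : Type*} [CommRing R] [CommRing S] (f : R →+* S)
    (hf : Function.Surjective f) (K : Ideal S) (h : (K.comap f).IsMaximal) : K.IsMaximal := by
  rw [← Ideal.map_comap_of_surjective f hf K]
  exact Ideal.IsMaximal.map_of_surjective_of_ker_le hf (Ideal.comap_mono bot_le)

lemma mk_injective_of_totallyDisconnected {X : Type*} [TopologicalSpace X]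
    [TotallyDisconnectedSpace X] :
    Function.Injective (ConnectedComponents.mk : X → ConnectedComponents X) := by
  intro x y h
  rw [ConnectedComponents.coe_eq_coe', connectedComponent_eq_singleton] at h
  exact h

lemma connectedComponentsMap_bijective {X Y : Type*} [TopologicalSpace X] [TopologicalSpace Y]
    [TotallyDisconnectedSpace X] [TotallyDisconnectedSpace Y] {f : X → Y} (hf : Continuous f)
    (hbij : Function.Bijective f) : Function.Bijective hf.connectedComponentsMap := by
  constructor
  · intro c c' h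
    obtain ⟨x, rfl⟩ := ConnectedComponents.surjective_coe c
    obtain ⟨x', rfl⟩ := ConnectedComponents.surjective_coe c'
    rw [Continuous.connectedComponentsMap_mk, Continuous.connectedComponentsMap_mk] at h
    rw [hbij.1 (mk_injective_of_totallyDisconnected h)]
  · intro c
    obtain ⟨y, rfl⟩ := ConnectedComponents.surjective_coe c
    obtain ⟨x, rfl⟩ := hbij.2 y
    exact ⟨ConnectedComponents.mk x, rfl⟩

variable (A I) in
theorem bijective_quotientMap :
    Function.Bijective (Ideal.quotientMap (I.map (algebraMap A (Bz A I))) (algebraMap A (Bz A I))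
      Ideal.le_comap_map) := by
  set J := I.map (algebraMap A (Bz A I)) with hJ
  have hsq : (Ideal.Quotient.mk J).comp (algebraMap A (Bz A I)) =
      (algebraMap (A ⧸ I) (Bz A I ⧸ J)).comp (Ideal.Quotient.mk I) := rfl
  have hsqc : ∀ qbar : PrimeSpectrum (Bz A I ⧸ J),
      PrimeSpectrum.comap (algebraMap A (Bz A I)) (PrimeSpectrum.comap (Ideal.Quotient.mk J) qbar) =
      PrimeSpectrum.comap (Ideal.Quotient.mk I)
        (PrimeSpectrum.comap (algebraMap (A ⧸ I) (Bz A I ⧸ J)) qbar) := fun qbar => rfl
  -- all primes of `A ⧸ I` are maximal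
  have hmaxA : ∀ p : PrimeSpectrum (A ⧸ I), p.asIdeal.IsMaximal := by
    intro p
    apply isMaximal_of_comap_isMaximal (Ideal.Quotient.mk I) Ideal.Quotient.mk_surjective
    let q : PrimeSpectrum A := PrimeSpectrum.comap (Ideal.Quotient.mk I) p
    have hq : q ∈ PrimeSpectrum.zeroLocus (R := A) I := by
      intro a ha
      show Ideal.Quotient.mk I a ∈ p.asIdeal
      rw [Ideal.Quotient.eq_zero_iff_mem.2 ha]
      exact zero_mem _
    have h1 : IsClosed ({(⟨q, hq⟩ : Z A I)} : Set (Z A I)) := isClosed_singleton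
    have h2 : IsClosed ({q} : Set (PrimeSpectrum A)) := by
      have := (PrimeSpectrum.isClosed_zeroLocus (R := A) (I : Set A)).isClosedMap_subtype_val _ h1
      rwa [Set.image_singleton] at this
    exact (PrimeSpectrum.isClosed_singleton_iff_isMaximal q).1 h2
  -- all primes of the quotient of `Bz` are maximal
  have hmemJ : ∀ qbar : PrimeSpectrum (Bz A I ⧸ J),
      PrimeSpectrum.comap (Ideal.Quotient.mk J) qbar ∈ PrimeSpectrum.zeroLocus (R := Bz A I) J := by
    intro qbar b hb
    show Ideal.Quotient.mk J b ∈ qbar.asIdeal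
    rw [Ideal.Quotient.eq_zero_iff_mem.2 hb]
    exact zero_mem _
  have hmaxB : ∀ p : PrimeSpectrum (Bz A I ⧸ J), p.asIdeal.IsMaximal := by
    intro p
    refine isMaximal_of_comap_isMaximal (R := Bz A I) (S := Bz A I ⧸ J) (Ideal.Quotient.mk J)
      Ideal.Quotient.mk_surjective p.asIdeal ?_
    have h1 : PrimeSpectrum.comap (Ideal.Quotient.mk J) p ∈
        ProEtW.closedPoints (PrimeSpectrum (Bz A I)) := by
      rw [closedPoints_eq]
      exact hmemJ p
    exact (PrimeSpectrum.isClosed_singleton_iff_isMaximal _).1 h1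
  have hincA : ∀ q q' : PrimeSpectrum (A ⧸ I), q ≤ q' → q = q' := fun q q' h =>
    PrimeSpectrum.ext ((hmaxA q).eq_of_le (hmaxA q').ne_top h)
  have hincB : ∀ q q' : PrimeSpectrum (Bz A I ⧸ J), q ≤ q' → q = q' := fun q q' h =>
    PrimeSpectrum.ext ((hmaxB q).eq_of_le (hmaxB q').ne_top h)
  have : T2Space (PrimeSpectrum (A ⧸ I)) := Groth.Agent.S0701.t2Space_of_incomparable (B := A ⧸ I) hincA
  have : T2Space (PrimeSpectrum (Bz A I ⧸ J)) := Groth.Agent.S0701.t2Space_of_incomparable (B := Bz A I ⧸ J) hincB
  -- the map on spectra is bijective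
  have hbij : Function.Bijective (PrimeSpectrum.comap (algebraMap (A ⧸ I) (Bz A I ⧸ J))) := by
    constructor
    · intro qbar qbar' h
      apply PrimeSpectrum.comap_injective_of_surjective (Ideal.Quotient.mk J)
        Ideal.Quotient.mk_surjective
      apply pt_injective
      have hP : P (PrimeSpectrum.comap (Ideal.Quotient.mk J) qbar) =
          P (PrimeSpectrum.comap (Ideal.Quotient.mk J) qbar') := by
        rw [P_eq, P_eq, hsqc, hsqc, h]
      have hc : ∀ qb : PrimeSpectrum (Bz A I ⧸ J),
          P (PrimeSpectrum.comap (Ideal.Quotient.mk J) qb) =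
            (τ (PrimeSpectrum.comap (Ideal.Quotient.mk J) qb)).1 := by
        intro qb
        rw [← isClosed_singleton_iff]
        have h1 : PrimeSpectrum.comap (Ideal.Quotient.mk J) qb ∈
            ProEtW.closedPoints (PrimeSpectrum (Bz A I)) := by
          rw [closedPoints_eq]
          exact hmemJ qb
        exact h1
      refine Prod.ext hP (Subtype.ext ?_)
      rw [← hc, ← hc, hP]
    · intro pbar
      let q : PrimeSpectrum A := PrimeSpectrum.comap (Ideal.Quotient.mk I) pbar
      have hq : q ∈ PrimeSpectrum.zeroLocus (R := A) I := by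
        intro a ha
        show Ideal.Quotient.mk I a ∈ pbar.asIdeal
        rw [Ideal.Quotient.eq_zero_iff_mem.2 ha]
        exact zero_mem _
      obtain ⟨y₀, hy₀⟩ := exists_diag (⟨q, hq⟩ : Z A I)
      have hP₀ : P y₀ = q := by rw [P, hy₀]
      have hy₀J : y₀ ∈ PrimeSpectrum.zeroLocus (R := Bz A I) J := by
        rw [hJ, mem_zeroLocus_iff, hP₀]
        exact hq
      have hrange : ∃ qbar : PrimeSpectrum (Bz A I ⧸ J),
          PrimeSpectrum.comap (Ideal.Quotient.mk J) qbar = y₀ := by
        have := _root_.range_comap_of_surjective (Bz A I ⧸ J) (Ideal.Quotient.mk J)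
          Ideal.Quotient.mk_surjective
        rw [Ideal.mk_ker] at this
        have h' : y₀ ∈ Set.range (PrimeSpectrum.comap (Ideal.Quotient.mk J) :
            PrimeSpectrum (Bz A I ⧸ J) → PrimeSpectrum (Bz A I)) := by
          rw [this]; exact hy₀J
        exact h'
      obtain ⟨qbar, hqbar⟩ := hrange
      refine ⟨qbar, ?_⟩
      apply PrimeSpectrum.comap_injective_of_surjective (Ideal.Quotient.mk I)
        Ideal.Quotient.mk_surjective
      rw [← hsqc, hqbar, ← P_eq, hP₀]
  apply Groth.Agent.S0699.result (A ⧸ I) (Bz A I ⧸ J)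
  · exact Groth.Agent.Lib.H15QuotLocal.identifiesLocalRings_quotient
      (Groth.Agent.Lib.H15LCLocal.identifiesLocalRings (M A I)) I
  · exact isWLocal_of_forall_isMaximal _ hmaxA
  · exact isWLocal_of_forall_isMaximal _ hmaxB
  · exact ⟨isSpectralMap_comap _, fun x _ =>
      (PrimeSpectrum.isClosed_singleton_iff_isMaximal _).2 (hmaxA _)⟩
  · exact connectedComponentsMap_bijective _ hbij

end bij

/-- Stacks 097A-type statement (= S0705). -/
theorem main (A : Type u) [CommRing A] (I : Ideal A)
    (hI : ProEtW.IsProfinite (PrimeSpectrum.zeroLocus (R := A) I)) :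
    ∃ (B : Type u) (_ : CommRing B) (_ : Algebra A B),
      EtPBC.IsIndZariski A B ∧ ProEtW.IsWLocal (PrimeSpectrum B) ∧
      ProEtW.closedPoints (PrimeSpectrum B) = PrimeSpectrum.zeroLocus (I.map (algebraMap A B)) ∧
      Function.Bijective (Ideal.quotientMap (I.map (algebraMap A B)) (algebraMap A B)
        Ideal.le_comap_map) := by
  obtain ⟨h1, h2, h3⟩ := hI
  have : CompactSpace (Z A I) := h1
  have : T2Space (Z A I) := h2
  have : TotallyDisconnectedSpace (Z A I) := h3
  exact ⟨Bz A I, inferInstance, inferInstance, isIndZariski A I, isWLocal, closedPoints_eq,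
    bijective_quotientMap A I⟩

end Groth.Agent.Lib.H15ProfiniteLoc
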