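import Groth.Agent.Lib.H15WLocSquare
import Groth.Agent.Lib.SrcLocalRing
import Groth.Agent.S0675
import Groth.Agent.S0693
import Groth.Agent.S0694
import Groth.Agent.S0733
import Groth.Agent.S0734
import Groth.Agent.S0737

set_option autoImplicit false
universe u

namespace Groth.Agent.Lib.H15WLocSquare

open Polynomial TensorProduct Groth.Agent.Lib.H15IndZarLocal Groth.Agent.Lib.H15WLoc

/-- First half of Stacks 097X: the ring `C`. -/
theorem step1 (A : Type u) [CommRing A] :
    ∃ (C : Type u) (_ : CommRing C) (_ : Algebra A C),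
      Module.FaithfullyFlat A C ∧ EtPBC.IsIndEtale A C ∧ ProEtW.IsWLocal (PrimeSpectrum C) ∧
      PrimeSpectrum.comap (algebraMap A C) '' ProEtW.closedPoints (PrimeSpectrum C) = Set.univ ∧
      ∀ (m : Ideal C) [m.IsMaximal],
        EtCoh.IsStrictlyHenselianLocalRing (Localization.AtPrime m) := by
  obtain ⟨Aw, _, _, hAwff, hAwIZ, hAwW, hAwbij⟩ := Groth.Agent.S0694.result A
  obtain ⟨C', _, _, hC'ff, hC'IE, hC'ret⟩ := Groth.Agent.S0693.result Aw
  set I : Ideal Aw := PrimeSpectrum.vanishingIdeal (ProEtW.closedPoints (PrimeSpectrum Aw)) with hI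
  have hIrad : I.IsRadical := PrimeSpectrum.isRadical_vanishingIdeal _
  have hI0 : PrimeSpectrum.zeroLocus (R := Aw) I = ProEtW.closedPoints (PrimeSpectrum Aw) := by
    rw [hI, PrimeSpectrum.zeroLocus_vanishingIdeal_eq_closure]
    exact hAwW.2.1.closure_eq
  have hres : ProEtW.AlgebraicResidueExtensions Aw C' :=
    algebraicResidueExtensions_of_isIndEtale hC'IE
  obtain ⟨hcl', C, _, _, _, hst, hCIZ, hCbij, hCW, hCmap, hCcl⟩ :=
    Groth.Agent.S0737.result Aw C' hAwW I hIrad hI0 hres
  letI : Algebra A C := ((algebraMap Aw C).comp (algebraMap A Aw)).toAlgebra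
  have hstA : IsScalarTower A Aw C := IsScalarTower.of_algebraMap_eq (fun _ => rfl)
  -- flatness
  have hfl1 : Module.Flat C' C := flat_of_isIndZariski C' C hCIZ
  have hfl2 : Module.Flat Aw C := Module.Flat.trans Aw C' C
  have hfl3 : Module.Flat A C := Module.Flat.trans A Aw C
  -- closed points surject
  have hsurj : PrimeSpectrum.comap (algebraMap A C) '' ProEtW.closedPoints (PrimeSpectrum C) =
      Set.univ := by
    rw [Set.eq_univ_iff_forall]
    intro p
    obtain ⟨x, hx, rfl⟩ := hAwbij.surjOn (Set.mem_univ p)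
    obtain ⟨y', hy'⟩ := PrimeSpectrum.comap_surjective_of_faithfullyFlat (A := Aw) (B := C') x
    have hy'I : I.map (algebraMap Aw C') ≤ y'.asIdeal := by
      rw [Ideal.map_le_iff_le_comap]
      have hx' : x ∈ PrimeSpectrum.zeroLocus (R := Aw) I := by rw [hI0]; exact hx
      rw [← hy'] at hx'
      exact hx'
    obtain ⟨y, hy⟩ := exists_comap_eq_of_bijective_quotientMap (I.map (algebraMap Aw C')) hCbij
      y' hy'I
    have hyx : PrimeSpectrum.comap (algebraMap Aw C) y = x := by
      rw [IsScalarTower.algebraMap_eq Aw C' C, PrimeSpectrum.comap_comp_apply, hy, hy']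
    refine ⟨y, ?_, ?_⟩
    · rw [hCcl, Set.mem_preimage, hyx]
      exact hx
    · rw [IsScalarTower.algebraMap_eq A Aw C, PrimeSpectrum.comap_comp_apply, hyx]
  have hff : Module.FaithfullyFlat A C := by
    refine Module.FaithfullyFlat.of_comap_surjective (fun p => ?_)
    have : p ∈ PrimeSpectrum.comap (algebraMap A C) '' ProEtW.closedPoints (PrimeSpectrum C) := by
      rw [hsurj]; exact Set.mem_univ p
    obtain ⟨y, -, hy⟩ := this
    exact ⟨y, hy⟩
  have hIE : EtPBC.IsIndEtale A C :=
    Groth.Agent.S0734.result A Aw C (isIndEtale_of_isIndZariski A Aw hAwIZ)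
      (Groth.Agent.S0734.result Aw C' C hC'IE (isIndEtale_of_isIndZariski C' C hCIZ))
  refine ⟨C, inferInstance, inferInstance, hff, hIE, hCW, hsurj, ?_⟩
  intro m hm
  let ym : PrimeSpectrum C := ⟨m, hm.isPrime⟩
  have hymcl : ym ∈ ProEtW.closedPoints (PrimeSpectrum C) :=
    (PrimeSpectrum.isClosed_singleton_iff_isMaximal ym).2 hm
  rw [hCcl, Set.mem_preimage, ← hI0] at hymcl
  -- the contraction to `C'` is maximal
  have hy'I : PrimeSpectrum.comap (algebraMap C' C) ym ∈
      PrimeSpectrum.zeroLocus (R := C') (I.map (algebraMap Aw C')) := by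
    rw [PrimeSpectrum.mem_zeroLocus, SetLike.coe_subset_coe, Ideal.map_le_iff_le_comap]
    rw [IsScalarTower.algebraMap_eq Aw C' C, PrimeSpectrum.comap_comp_apply] at hymcl
    exact hymcl
  have hmax : (m.comap (algebraMap C' C)).IsMaximal :=
    (PrimeSpectrum.isClosed_singleton_iff_isMaximal _).1 (hcl' hy'I)
  have hsh := Groth.Agent.S0675.result C' hC'ret (m.comap (algebraMap C' C))
  have hbij := identifiesLocalRings_of_isIndZariski hCIZ ym
  exact isStrictlyHenselian_of_ringEquiv (RingEquiv.ofBijective _ hbij) hsh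


attribute [local instance] Algebra.TensorProduct.rightAlgebra in
/-- Second half of Stacks 097X: the ring `D`. -/
theorem step2 (A B C : Type u) [CommRing A] [CommRing B] [CommRing C] [Algebra A B] [Algebra A C]
    (h : ProEtW.AlgebraicResidueExtensions A B) (hCfl : Module.Flat A C)
    (hCIE : EtPBC.IsIndEtale A C) (hCW : ProEtW.IsWLocal (PrimeSpectrum C))
    (hCsurj : PrimeSpectrum.comap (algebraMap A C) '' ProEtW.closedPoints (PrimeSpectrum C) =
      Set.univ) :
    ∃ (D : Type u) (_ : CommRing D) (_ : Algebra B D) (_ : Algebra C D) (_ : Algebra A D)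
      (_ : IsScalarTower A C D) (_ : IsScalarTower A B D),
      Module.FaithfullyFlat B D ∧ EtPBC.IsIndEtale B D ∧ ProEtW.IsWLocal (PrimeSpectrum D) ∧
      ProEtW.IsWLocalMap (PrimeSpectrum.comap (algebraMap C D)) ∧
      ProEtW.closedPoints (PrimeSpectrum D) =
        PrimeSpectrum.comap (algebraMap C D) ⁻¹' ProEtW.closedPoints (PrimeSpectrum C) ∧
      PrimeSpectrum.comap (algebraMap B D) '' ProEtW.closedPoints (PrimeSpectrum D) =
        Set.univ := by
  set J : Ideal C := PrimeSpectrum.vanishingIdeal (ProEtW.closedPoints (PrimeSpectrum C)) with hJ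
  have hJrad : J.IsRadical := PrimeSpectrum.isRadical_vanishingIdeal _
  have hJ0 : PrimeSpectrum.zeroLocus (R := C) J = ProEtW.closedPoints (PrimeSpectrum C) := by
    rw [hJ, PrimeSpectrum.zeroLocus_vanishingIdeal_eq_closure]
    exact hCW.2.1.closure_eq
  have hres : ProEtW.AlgebraicResidueExtensions C (B ⊗[A] C) :=
    algebraicResidueExtensions_baseChange A B C h
  obtain ⟨-, D, _, _, _, hst, hDIZ, hDbij, hDW, hDmap, hDcl⟩ :=
    Groth.Agent.S0737.result C (B ⊗[A] C) hCW J hJrad hJ0 hres
  letI : Algebra B D := ((algebraMap (B ⊗[A] C) D).comp (algebraMap B (B ⊗[A] C))).toAlgebra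
  have hstB : IsScalarTower B (B ⊗[A] C) D := IsScalarTower.of_algebraMap_eq (fun _ => rfl)
  letI : Algebra A D := ((algebraMap C D).comp (algebraMap A C)).toAlgebra
  have hstAC : IsScalarTower A C D := IsScalarTower.of_algebraMap_eq (fun _ => rfl)
  have hstAB : IsScalarTower A B D := by
    refine IsScalarTower.of_algebraMap_eq (fun a => ?_)
    change algebraMap C D (algebraMap A C a) =
      algebraMap (B ⊗[A] C) D (algebraMap B (B ⊗[A] C) (algebraMap A B a))
    rw [IsScalarTower.algebraMap_apply C (B ⊗[A] C) D]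
    congr 1
    exact (tmul_one_eq A B C a).symm
  -- flatness
  have hfl1 : Module.Flat (B ⊗[A] C) D := flat_of_isIndZariski _ D hDIZ
  have hfl2 : Module.Flat B (B ⊗[A] C) := inferInstance
  have hfl3 : Module.Flat B D := Module.Flat.trans B (B ⊗[A] C) D
  have hIE : EtPBC.IsIndEtale B D :=
    Groth.Agent.S0734.result B (B ⊗[A] C) D (Groth.Agent.S0733.result A C B hCIE)
      (isIndEtale_of_isIndZariski _ D hDIZ)
  have hsurj : PrimeSpectrum.comap (algebraMap B D) '' ProEtW.closedPoints (PrimeSpectrum D) =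
      Set.univ := by
    rw [Set.eq_univ_iff_forall]
    intro pB
    have : PrimeSpectrum.comap (algebraMap A B) pB ∈
        PrimeSpectrum.comap (algebraMap A C) '' ProEtW.closedPoints (PrimeSpectrum C) := by
      rw [hCsurj]; exact Set.mem_univ _
    obtain ⟨c, hc, hcp⟩ := this
    obtain ⟨z, hz1, hz2⟩ := Groth.Agent.Lib.SrcLocalRing.exists_prime_tensorProduct
      (R := A) (S := B) (T := C) pB c hcp.symm
    have hzJ : J.map (algebraMap C (B ⊗[A] C)) ≤ z.asIdeal := by
      rw [Ideal.map_le_iff_le_comap]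
      have hc' : c ∈ PrimeSpectrum.zeroLocus (R := C) J := by rw [hJ0]; exact hc
      rw [← hz2] at hc'
      exact hc'
    obtain ⟨d, hd⟩ := exists_comap_eq_of_bijective_quotientMap (J.map (algebraMap C (B ⊗[A] C)))
      hDbij z hzJ
    refine ⟨d, ?_, ?_⟩
    · rw [hDcl, Set.mem_preimage, IsScalarTower.algebraMap_eq C (B ⊗[A] C) D,
        PrimeSpectrum.comap_comp_apply, hd]
      have : PrimeSpectrum.comap (algebraMap C (B ⊗[A] C)) z = c := hz2
      rw [this]
      exact hc
    · rw [IsScalarTower.algebraMap_eq B (B ⊗[A] C) D, PrimeSpectrum.comap_comp_apply, hd]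
      exact hz1
  have hff : Module.FaithfullyFlat B D := by
    refine Module.FaithfullyFlat.of_comap_surjective (fun p => ?_)
    have : p ∈ PrimeSpectrum.comap (algebraMap B D) '' ProEtW.closedPoints (PrimeSpectrum D) := by
      rw [hsurj]; exact Set.mem_univ p
    obtain ⟨y, -, hy⟩ := this
    exact ⟨y, hy⟩
  exact ⟨D, inferInstance, inferInstance, inferInstance, inferInstance, hstAC, hstAB, hff, hIE,
    hDW, hDmap, hDcl, hsurj⟩


/-- `S0692` (Stacks 097X). -/
theorem main (A B : Type u) [CommRing A] [CommRing B] [Algebra A B]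
    (h : ProEtW.AlgebraicResidueExtensions A B) :
    ∃ (C D : Type u) (_ : CommRing C) (_ : CommRing D) (_ : Algebra A C) (_ : Algebra B D)
      (_ : Algebra C D) (_ : Algebra A D) (_ : IsScalarTower A C D) (_ : IsScalarTower A B D),
      Module.FaithfullyFlat A C ∧ EtPBC.IsIndEtale A C ∧ Module.FaithfullyFlat B D ∧
      EtPBC.IsIndEtale B D ∧ ProEtW.IsWLocal (PrimeSpectrum C) ∧ ProEtW.IsWLocal (PrimeSpectrum D) ∧
      ProEtW.IsWLocalMap (PrimeSpectrum.comap (algebraMap C D)) ∧
      ProEtW.closedPoints (PrimeSpectrum D) =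
        PrimeSpectrum.comap (algebraMap C D) ⁻¹' ProEtW.closedPoints (PrimeSpectrum C) ∧
      PrimeSpectrum.comap (algebraMap A C) '' ProEtW.closedPoints (PrimeSpectrum C) = Set.univ ∧
      PrimeSpectrum.comap (algebraMap B D) '' ProEtW.closedPoints (PrimeSpectrum D) = Set.univ ∧
      ∀ (m : Ideal C) [m.IsMaximal],
        EtCoh.IsStrictlyHenselianLocalRing (Localization.AtPrime m) := by
  obtain ⟨C, _, _, hCff, hCIE, hCW, hCsurj, hCsh⟩ := step1 A
  obtain ⟨D, _, _, _, _, hstAC, hstAB, hDff, hDIE, hDW, hDmap, hDcl, hDsurj⟩ :=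
    step2 A B C h inferInstance hCIE hCW hCsurj
  exact ⟨C, D, inferInstance, inferInstance, inferInstance, inferInstance, inferInstance,
    inferInstance, hstAC, hstAB, hCff, hCIE, hDff, hDIE, hCW, hDW, hDmap, hDcl, hCsurj, hDsurj,
    hCsh⟩

end Groth.Agent.Lib.H15WLocSquare
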