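import Groth.Agent.Lib.WContr22
import Groth.Agent.Lib.H15WLocSquare2
import Groth.Agent.Lib.H15Pi0Fibre
import Groth.Agent.S0704
import Groth.Agent.S0734

/-!
# Existence of w-contractible covers (Stacks 0983, Bhatt–Scholze 2.4.9) (helper22)

* `exists_wContractible_cover`: every ring `A` has a faithfully flat ind-étale algebra `D` which is
  w-contractible.
-/

set_option autoImplicit false
universe u

namespace Groth.Agent.Lib.WContrCover22

open PrimeSpectrum ProEtW Groth.Agent.Lib.H15IndZarRetract Groth.Agent.Lib.H15Pi0Fibre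
  Groth.Agent.Lib.H15WLoc Groth.Agent.Lib.H15WLocalIndZar Groth.Agent.Lib.H15IndZarLocal
  Groth.Agent.Lib.SpectralPi0Fib33

/-- The w-contractible ind-Zariski cover of a w-local ring with strictly henselian local rings at
closed points. -/
theorem exists_wContractible_indZariski (C : Type u) [CommRing C]
    (hW : ProEtW.IsWLocal (PrimeSpectrum C))
    (hSH : ∀ (m : Ideal C) [m.IsMaximal],
      EtCoh.IsStrictlyHenselianLocalRing (Localization.AtPrime m)) :
    ∃ (D : Type u) (_ : CommRing D) (_ : Algebra C D),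
      Module.FaithfullyFlat C D ∧ EtPBC.IsIndZariski C D ∧ EtPBC.IsWContractible D := by
  let T : Type u := Tp (_root_.ConnectedComponents (PrimeSpectrum C))
  haveI : CompactSpace (_root_.ConnectedComponents (PrimeSpectrum C)) := inferInstance
  haveI : T2Space (_root_.ConnectedComponents (PrimeSpectrum C)) :=
    Groth.Agent.Lib.SpectralPi0Fib33.t2Space_connectedComponents _
  let g : C(T, _root_.ConnectedComponents (PrimeSpectrum C)) :=
    gp (_root_.ConnectedComponents (PrimeSpectrum C))
  have hIZ := H15Pi0Fibre.isIndZariski C T g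
  have hflat := flat_of_isIndZariski C _ hIZ
  have hff : Module.FaithfullyFlat C (H15Pi0Fibre.B C T g) := by
    apply Module.FaithfullyFlat.of_comap_surjective
    intro p
    obtain ⟨t, ht⟩ := gp_surjective (_root_.ConnectedComponents (PrimeSpectrum C))
      (_root_.ConnectedComponents.mk p)
    have : ((p, t) : PrimeSpectrum C × T) ∈ Set.range (ψ C T g) := by
      rw [range_ψ]
      exact ht.symm
    obtain ⟨y, hy⟩ := this
    refine ⟨y, ?_⟩
    rw [← ψ_fst, hy]
  refine ⟨H15Pi0Fibre.B C T g, inferInstance, inferInstance, hff, hIZ, ?_⟩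
  -- the fibre product is w-local
  obtain ⟨hFW, -, hFcl⟩ := Groth.Agent.S0704.result (PrimeSpectrum C) T hW g
  let h : PrimeSpectrum (H15Pi0Fibre.B C T g) ≃ₜ Fib (PrimeSpectrum C) T g :=
    (isHomeomorph_toFib (A := C) (T := T) (g := g)).homeomorph
  have hWD : ProEtW.IsWLocal (PrimeSpectrum (H15Pi0Fibre.B C T g)) :=
    isWLocal_of_homeomorph h hFW
  -- `π₀` is extremally disconnected
  obtain ⟨e, -⟩ := exists_pi0_homeo C T g
  have hED : ExtremallyDisconnected
      (_root_.ConnectedComponents (PrimeSpectrum (H15Pi0Fibre.B C T g))) :=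
    extremallyDisconnected_of_homeo e.symm
  refine Groth.Agent.Lib.WContr22.isWContractible_of _ hWD hED ?_
  intro n hn
  let y : PrimeSpectrum (H15Pi0Fibre.B C T g) := ⟨n, hn.isPrime⟩
  have hycl : IsClosed ({y} : Set (PrimeSpectrum (H15Pi0Fibre.B C T g))) :=
    (PrimeSpectrum.isClosed_singleton_iff_isMaximal y).2 hn
  have hhy : IsClosed ({h y} : Set (Fib (PrimeSpectrum C) T g)) := by
    rw [← Set.image_singleton, h.isClosed_image]
    exact hycl
  have hmem : h y ∈ ProEtW.closedPoints (Fib (PrimeSpectrum C) T g) := hhy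
  rw [hFcl, Set.mem_preimage] at hmem
  have hcl : IsClosed ({PrimeSpectrum.comap (algebraMap C (H15Pi0Fibre.B C T g)) y} :
      Set (PrimeSpectrum C)) := by
    rw [← ψ_fst]
    exact hmem
  have hmax : (n.comap (algebraMap C (H15Pi0Fibre.B C T g))).IsMaximal :=
    (PrimeSpectrum.isClosed_singleton_iff_isMaximal _).1 hcl
  have hsh := hSH (n.comap (algebraMap C (H15Pi0Fibre.B C T g)))
  have hbij := identifiesLocalRings_of_isIndZariski hIZ y
  exact Groth.Agent.Lib.H15WLocSquare.isStrictlyHenselian_of_ringEquiv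
    (RingEquiv.ofBijective _ hbij) hsh

/-- **Stacks 0983**: every ring has a faithfully flat ind-étale w-contractible algebra. -/
theorem exists_wContractible_cover (A : Type u) [CommRing A] :
    ∃ (D : Type u) (_ : CommRing D) (_ : Algebra A D),
      Module.FaithfullyFlat A D ∧ EtPBC.IsIndEtale A D ∧ EtPBC.IsWContractible D := by
  obtain ⟨C, _, _, hCff, hCIE, hCW, -, hCSH⟩ := Groth.Agent.Lib.H15WLocSquare.step1 A
  obtain ⟨D, _, _, hDff, hDIZ, hDWC⟩ := exists_wContractible_indZariski C hCW hCSH
  letI : Algebra A D := ((algebraMap C D).comp (algebraMap A C)).toAlgebra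
  haveI : IsScalarTower A C D := IsScalarTower.of_algebraMap_eq (fun _ => rfl)
  refine ⟨D, inferInstance, inferInstance, Module.FaithfullyFlat.trans A C D, ?_, hDWC⟩
  exact Groth.Agent.S0734.result A C D hCIE
    (Groth.Agent.Lib.H15WLocSquare.isIndEtale_of_isIndZariski C D hDIZ)

end Groth.Agent.Lib.WContrCover22
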