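import Groth.Agent.Lib.ProEtCover22
import Groth.Agent.Lib.WContrCover22
import Groth.Agent.Lib.HznWeaklyEtale96

/-!
# w-contractible covers in the small pro-étale site (helper22)

* `isWContractible_of_ringEquiv`;
* `exists_wContractible_family`: every object of `X.ProEt` has a covering family of affines with
  w-contractible rings of functions (Bhatt–Scholze 4.2.8).
-/

set_option autoImplicit false
universe u

open CategoryTheory AlgebraicGeometry Limits MorphismProperty

namespace Groth.Agent.Lib.WContrSite22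

/-- w-contractibility is invariant under ring isomorphisms. -/
theorem isWContractible_of_ringEquiv {A A' : Type u} [CommRing A] [CommRing A'] (e : A ≃+* A')
    (h : EtPBC.IsWContractible A) : EtPBC.IsWContractible A' := by
  intro B _ _ hff hWE
  letI : Algebra A A' := e.toRingHom.toAlgebra
  letI : Algebra A B := ((algebraMap A' B).comp e.toRingHom).toAlgebra
  haveI : IsScalarTower A A' B := IsScalarTower.of_algebraMap_eq (fun _ => rfl)
  let e' : A ≃ₐ[A] A' := AlgEquiv.ofRingEquiv (f := e) (fun _ => rfl)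
  haveI : Algebra.WeaklyEtale A A' :=
    Groth.Agent.Lib.HznWeaklyEtale96.weaklyEtale_of_algEquiv e'
  haveI : Module.FaithfullyFlat A A' :=
    Module.FaithfullyFlat.of_linearEquiv A A e'.toLinearEquiv.symm
  haveI : Module.FaithfullyFlat A B := Module.FaithfullyFlat.trans A A' B
  haveI : Algebra.WeaklyEtale A B := Algebra.WeaklyEtale.trans A A' B
  obtain ⟨r⟩ := h B inferInstance inferInstance
  refine ⟨{ toRingHom := e.toRingHom.comp r.toRingHom, commutes' := fun a' => ?_ }⟩
  show e (r (algebraMap A' B a')) = a'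
  have h1 : algebraMap A' B a' = algebraMap A B (e.symm a') := by
    show _ = algebraMap A' B (e (e.symm a'))
    rw [e.apply_symm_apply]
  rw [h1, r.commutes]
  exact e.apply_symm_apply a'

/-- The `Spec` of a faithfully flat weakly étale algebra is weakly étale and surjective. -/
theorem weaklyEtale_and_surjective_SpecMap (R D : Type u) [CommRing R] [CommRing D] [Algebra R D]
    [Module.FaithfullyFlat R D] [Algebra.WeaklyEtale R D] :
    WeaklyEtale (Spec.map (CommRingCat.ofHom (algebraMap R D))) ∧
      Surjective (Spec.map (CommRingCat.ofHom (algebraMap R D))) := by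
  refine ⟨Groth.Agent.S7178.weaklyEtale_SpecMap_iff.2 inferInstance, ?_⟩
  have := (flat_and_surjective_SpecMap_iff (CommRingCat.ofHom (algebraMap R D))).2
    ((RingHom.faithfullyFlat_algebraMap_iff).2 inferInstance)
  exact this.2

open Groth.Agent.Lib.ProEtCover22 in
/-- **Bhatt–Scholze 4.2.8**, small site version: every object of `X.ProEt` is covered by affines
with w-contractible rings of functions. -/
theorem exists_wContractible_family {X : Scheme.{u}} (U : X.ProEt) :
    ∃ (ι : Type u) (V : ι → X.ProEt) (g : ∀ i, V i ⟶ U),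
      Sieve.generate (Presieve.ofArrows V g) ∈ Scheme.ProEt.topology X U ∧
        ∀ i, IsAffine (V i).left ∧ EtPBC.IsWContractible ↥(Γ((V i).left, ⊤)) := by
  let 𝒜 : Scheme.AffineOpenCover.{u} U.left := U.left.affineOpenCover
  have hex : ∀ i : 𝒜.I₀, ∃ (D : Type u) (_ : CommRing D) (_ : Algebra (𝒜.X i) D),
      Module.FaithfullyFlat (𝒜.X i) D ∧ EtPBC.IsIndEtale (𝒜.X i) D ∧ EtPBC.IsWContractible D :=
    fun i => Groth.Agent.Lib.WContrCover22.exists_wContractible_cover (𝒜.X i)
  choose D hD1 hD2 hff hIE hWC using hex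
  let D' : 𝒜.I₀ → CommRingCat.{u} := fun i => CommRingCat.of (D i)
  let φ : ∀ i, 𝒜.X i ⟶ D' i := fun i => CommRingCat.ofHom (algebraMap (𝒜.X i) (D i))
  have hφ : ∀ i, WeaklyEtale (Spec.map (φ i)) ∧ Surjective (Spec.map (φ i)) := fun i => by
    haveI := Groth.Agent.S0736.result (𝒜.X i) (D i) (hIE i)
    haveI := hff i
    exact weaklyEtale_and_surjective_SpecMap (𝒜.X i) (D i)
  haveI : ∀ i, WeaklyEtale (Spec.map (φ i)) := fun i => (hφ i).1
  haveI : ∀ i, Surjective (Spec.map (φ i)) := fun i => (hφ i).2
  refine ⟨𝒜.I₀, famObj 𝒜 D' φ, famHom 𝒜 D' φ, generate_fam_mem_topology 𝒜 D' φ,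
    fun i => ⟨?_, ?_⟩⟩
  · show IsAffine (Spec (D' i))
    infer_instance
  · exact isWContractible_of_ringEquiv
      (Scheme.ΓSpecIso (D' i)).symm.commRingCatIsoToRingEquiv (hWC i)

end Groth.Agent.Lib.WContrSite22
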