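import Groth.Agent.Lib.ProEtWC22
import Groth.Agent.Lib.WContrSite22

/-!
# Weakly contractible objects of the small pro-étale site, part 2 (helper22)

* `exists_finite_affine_refinement`: a covering sieve of a quasi-compact object contains a finite
  jointly surjective family of affine objects.
-/

set_option autoImplicit false
universe u

open CategoryTheory AlgebraicGeometry Limits MorphismProperty Opposite TopologicalSpace

namespace Groth.Agent.Lib.ProEtWC22

variable {X : Scheme.{u}}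

set_option backward.isDefEq.respectTransparency.types false in
/-- auxiliary: an arrow in the image presieve restricted to an affine open. -/
theorem exists_affine_of_map {U : X.ProEt} (R : Sieve U) (R' : Presieve U) (hle : R' ≤ R)
    {Y : Scheme.{u}} (f : Y ⟶ U.left)
    (hf : (R'.map (Scheme.ProEt.forget X ⋙ Over.forget X)) f) (V : Y.Opens)
    (hV : IsAffineOpen V) :
    ∃ (Z : X.ProEt) (g : Z ⟶ U), IsAffine Z.left ∧ R.arrows g ∧ Set.range g.left = f '' V := by
  obtain ⟨Z, h, g, hg, hgf⟩ := Presieve.map_iff.1 hf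
  subst h
  rw [eqToHom_refl, Category.id_comp] at hgf
  subst hgf
  let V' : Z.left.Opens := V
  refine ⟨opensObj Z V', opensHom Z V' ≫ g, hV, R.downward_closed (hle _ _ hg) _, ?_⟩
  show Set.range (V'.ι ≫ g.left) = g.left '' (V' : Set Z.left)
  rw [Scheme.Hom.comp_base, TopCat.coe_comp, Set.range_comp]
  congr 1
  exact Scheme.Opens.range_ι V'

set_option backward.isDefEq.respectTransparency.types false in
/-- A covering sieve of a quasi-compact object contains a finite jointly surjective family of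
affine objects. -/
theorem exists_finite_affine_refinement (U : X.ProEt) [CompactSpace U.left] (R : Sieve U)
    (hR : R ∈ Scheme.ProEt.topology X U) :
    ∃ (n : ℕ) (Z : Fin n → X.ProEt) (g : ∀ k, Z k ⟶ U),
      (∀ k, IsAffine (Z k).left) ∧ (∀ k, R.arrows (g k)) ∧
        ∀ x : U.left, ∃ k, x ∈ Set.range (g k).left := by
  obtain ⟨R', hR', hle⟩ := (Groth.Agent.Lib.ProEtCover22.mem_topology_iff U R).1 hR
  rw [Groth.Agent.Lib.ProEtCover22.mem_precoverage_iff] at hR'
  obtain ⟨𝒰, h𝒰, hEq⟩ := Scheme.mem_propQCPrecoverage_iff_exists_quasiCompactCover.1 hR'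
  obtain ⟨n, f, V, hV, hcov⟩ := QuasiCompactCover.exists_isAffineOpen_of_isCompact
    𝒰.toPreZeroHypercover (U := ⊤) isCompact_univ
  have key : ∀ k : Fin n, ∃ (Z : X.ProEt) (g : Z ⟶ U), IsAffine Z.left ∧ R.arrows g ∧
      Set.range g.left = 𝒰.f (f k) '' (V k) := fun k => by
    refine exists_affine_of_map R R' hle (𝒰.f (f k)) ?_ (V k) (hV k)
    rw [hEq]
    exact ⟨f k⟩
  choose Z g hZ hg hrange using key
  refine ⟨n, Z, g, hZ, hg, fun x => ?_⟩
  have hx : x ∈ ⋃ i, 𝒰.f (f i) '' (V i) := by rw [hcov]; trivial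
  obtain ⟨k, hk⟩ := Set.mem_iUnion.1 hx
  exact ⟨k, by rw [hrange k]; exact hk⟩

/-- A surjective weakly étale morphism of affine schemes onto an affine scheme with
w-contractible ring of functions has a section. -/
theorem exists_section_of_isWContractible {Y T : Scheme.{u}} [IsAffine Y] [IsAffine T]
    (p : T ⟶ Y) [WeaklyEtale p] [Surjective p] (hY : EtPBC.IsWContractible Γ(Y, ⊤)) :
    ∃ σ : Y ⟶ T, σ ≫ p = 𝟙 Y := by
  let φ : Γ(Y, ⊤) ⟶ Γ(T, ⊤) := p.appTop
  letI : Algebra Γ(Y, ⊤) Γ(T, ⊤) := φ.hom.toAlgebra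
  have hφ : CommRingCat.ofHom (algebraMap Γ(Y, ⊤) Γ(T, ⊤)) = φ := rfl
  have hiso := arrowIsoSpecΓOfIsAffine p
  have h1 : WeaklyEtale (Spec.map φ) :=
    (MorphismProperty.arrow_mk_iso_iff @WeaklyEtale hiso).1 inferInstance
  have h2 : Surjective (Spec.map φ) :=
    (MorphismProperty.arrow_mk_iso_iff @Surjective hiso).1 inferInstance
  haveI : Algebra.WeaklyEtale Γ(Y, ⊤) Γ(T, ⊤) :=
    Groth.Agent.S7178.weaklyEtale_SpecMap_iff.1 (by rw [hφ]; exact h1)
  haveI : Module.FaithfullyFlat Γ(Y, ⊤) Γ(T, ⊤) := by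
    have h3 : φ.hom.FaithfullyFlat :=
      (flat_and_surjective_SpecMap_iff φ).1 ⟨inferInstance, h2⟩
    exact RingHom.faithfullyFlat_algebraMap_iff.1 h3
  obtain ⟨r⟩ := hY Γ(T, ⊤) inferInstance inferInstance
  let ρ : Γ(T, ⊤) ⟶ Γ(Y, ⊤) := CommRingCat.ofHom r.toRingHom
  have hρ : φ ≫ ρ = 𝟙 _ := by
    ext a
    exact r.commutes a
  refine ⟨Y.isoSpec.hom ≫ Spec.map ρ ≫ T.isoSpec.inv, ?_⟩
  rw [Category.assoc, Category.assoc, ← Scheme.isoSpec_inv_naturality p, ← Category.assoc
    (Spec.map ρ), ← Spec.map_comp]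
  have : Spec.map (p.appTop ≫ ρ) = 𝟙 _ := (congrArg Spec.map hρ).trans (Spec.map_id _)
  rw [this, Category.id_comp, Iso.hom_inv_id]

/-- **Clopen sections**: over an affine object with w-contractible ring of functions, a finite
jointly surjective family of affine objects admits sections over the pieces of a finite
disjoint open cover. -/
theorem exists_clopen_sections (U : X.ProEt) [IsAffine U.left]
    (hU : EtPBC.IsWContractible Γ(U.left, ⊤)) (n : ℕ) (Z : Fin n → X.ProEt) (g : ∀ k, Z k ⟶ U)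
    (hZ : ∀ k, IsAffine (Z k).left) (hsurj : ∀ x : U.left, ∃ k, x ∈ Set.range (g k).left) :
    ∃ (W : Fin n → U.left.Opens), IsOpenCover W ∧
      Pairwise (fun k l => Disjoint (W k) (W l)) ∧
      ∀ k, ∃ t : (W k).toScheme ⟶ (Z k).left, t ≫ (g k).left = (W k).ι := by
  let Y : Fin n → Scheme.{u} := fun k => (Z k).left
  haveI : ∀ k, IsAffine (Y k) := hZ
  let p : (∐ Y) ⟶ U.left := Sigma.desc (fun k => (g k).left)
  have hp : ∀ k, Sigma.ι Y k ≫ p = (g k).left := fun k => Sigma.ι_desc _ _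
  haveI : WeaklyEtale p :=
    IsZariskiLocalAtSource.sigmaDesc (P := @WeaklyEtale)
      (fun k => Groth.Agent.Lib.ProEtGeomPt22.weaklyEtale_left (g k))
  haveI : Surjective p := by
    refine ⟨fun x => ?_⟩
    obtain ⟨k, z, hz⟩ := hsurj x
    refine ⟨Sigma.ι Y k z, ?_⟩
    rw [← Scheme.Hom.comp_apply, hp k, hz]
  obtain ⟨σ, hσ⟩ := exists_section_of_isWContractible p hU
  let W : Fin n → U.left.Opens := fun k => σ ⁻¹ᵁ (Sigma.ι Y k).opensRange
  refine ⟨W, ?_, ?_, fun k => ?_⟩
  · -- cover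
    rw [IsOpenCover, eq_top_iff]
    intro x _
    obtain ⟨k, y, hy⟩ := (sigmaOpenCover Y).exists_eq (σ x)
    rw [Opens.mem_iSup]
    exact ⟨k, y, hy⟩
  · -- disjoint
    intro k l hkl
    have hd := disjoint_opensRange_sigmaι Y k l hkl
    rw [← Opens.coe_disjoint] at hd ⊢
    exact hd.preimage σ
  · -- sections
    have hrange : Set.range ((W k).ι ≫ σ) ⊆ Set.range (Sigma.ι Y k) := by
      rintro _ ⟨x, rfl⟩
      have hx : (W k).ι x ∈ W k := x.2
      rw [Scheme.Hom.comp_apply]
      exact hx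
    refine ⟨IsOpenImmersion.lift (Sigma.ι Y k) ((W k).ι ≫ σ) hrange, ?_⟩
    rw [← hp k, ← Category.assoc, IsOpenImmersion.lift_fac, Category.assoc, hσ, Category.comp_id]

end Groth.Agent.Lib.ProEtWC22
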