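
import Groth.Prelude.Def_ProEtS
import Groth.Agent.Lib.ProEtWC22b

set_option autoImplicit false
set_option linter.style.haveILetI false
universe u

open CategoryTheory CategoryTheory.Limits AlgebraicGeometry Opposite ProEtS

namespace Groth.Agent.Lib.H15ExtZeroVanish

section lan

variable {U X : Scheme.{u}} (j : U ⟶ X) [WeaklyEtale j]

/-- the left Kan extension along `compP j` vanishes on objects with no map to `U`. -/
theorem subsingleton_lan_of_isEmpty (P : U.ProEtᵒᵖ ⥤ AddCommGrpCat.{u+1}) (V' : X.ProEt)
    (h : ∀ W : U.ProEt, IsEmpty (V' ⟶ (compP j).obj W)) :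
    Subsingleton (((compP j).op.lan.obj P).obj (op V')) := by
  let L := (compP j).op
  have hpw := Functor.isPointwiseLeftKanExtensionOfIsLeftKanExtension (L.lan.obj P)
    (L.lanUnit.app P)
  have hc := hpw (op V')
  haveI : IsEmpty (CostructuredArrow L (op V')) := by
    constructor
    intro g
    exact (h g.left.unop).false g.hom.unop
  have hz : IsZero ((L.lan.obj P).obj (op V')) := by
    rw [IsZero.iff_id_eq_zero]
    exact hc.hom_ext (fun g => isEmptyElim g)
  exact AddCommGrpCat.subsingleton_of_isZero hz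

end lan

section cov

variable {X : Scheme.{u}}

/-- a finite jointly surjective family of affine objects over an affine object is covering. -/
theorem generate_mem_of_finite_affine (V : X.ProEt) [IsAffine V.left] {ι : Type*} [Finite ι]
    (Zk : ι → X.ProEt) (g : ∀ k, Zk k ⟶ V) (hZ : ∀ k, IsAffine (Zk k).left)
    (hsurj : ∀ x : V.left, ∃ k, x ∈ Set.range (g k).left) :
    Sieve.generate (Presieve.ofArrows Zk g) ∈ Scheme.ProEt.topology X V := by
  apply Groth.Agent.Lib.ProEtCover22.generate_ofArrows_mem_topology Zk g hsurj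
  refine ⟨fun {O} hO => ?_⟩
  refine .of_finite_of_isSpectralMap (fun k => ?_) (fun x _ => ?_) O.2 hO.isCompact
  · haveI := hZ k
    exact (g k).left.isSpectralMap
  · obtain ⟨k, hk⟩ := hsurj x
    exact ⟨k, hk⟩

end cov

section main

open Groth.Agent.Lib.ProEtWC22

set_option backward.isDefEq.respectTransparency false in
theorem main {U X Z : Scheme.{u}} (j : U ⟶ X) [WeaklyEtale j] (i : Z ⟶ X)
    [IsClosedImmersion i] (hUZ : Disjoint (Set.range j.base) (Set.range i.base)) [ProEtS.JPCont j]
    (V : X.ProEt) [IsAffine V.left]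
    (hV : ∀ v : ↥V.left, ∃ z : ↥V.left, V.hom.base z ∈ Set.range i.base ∧ v ⤳ z)
    (F : ProEtS.AbP U) :
    Subsingleton (ProEtS.sectP ((ProEtS.extZeroP j).obj F) V) := by
  let J := Scheme.ProEt.topology X
  let P := (compP j).op.lan.obj F.obj
  let G : Sheaf J AddCommGrpCat.{u+1} := (presheafToSheaf J _).obj P
  let e : (extZeroP j).obj F ≅ G :=
    (Functor.sheafPullbackConstruction.sheafPullbackIso (compP j) AddCommGrpCat.{u+1}
      (Scheme.ProEt.topology U) J).app F
  suffices h : Subsingleton (G.obj.obj (op V)) by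
    let e' : ((extZeroP j).obj F).obj.obj (op V) ≅ G.obj.obj (op V) :=
      ((sheafToPresheaf _ _).mapIso e).app (op V)
    exact e'.addCommGroupIsoToAddEquiv.toEquiv.subsingleton
  have key : ∀ s : G.obj.obj (op V), s = 0 := by
    intro s
    have hmem := Presheaf.imageSieve_mem J (toSheafify J P) s
    obtain ⟨n, Zk, g, hZ, hg, hsurj⟩ := exists_finite_affine_refinement V _ hmem
    let K0 := {k : Fin n // ∀ W : U.ProEt, IsEmpty (Zk k ⟶ (compP j).obj W)}
    have hzero : ∀ k : K0, G.obj.map (g k.1).op s = 0 := by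
      intro k
      obtain ⟨t, ht⟩ := hg k.1
      haveI := subsingleton_lan_of_isEmpty j F.obj (Zk k.1) k.2
      have h0 : t = 0 := Subsingleton.elim _ _
      rw [← ht, h0, map_zero]
    have hsurj0 : ∀ x : V.left, ∃ k : K0, x ∈ Set.range (g k.1).left := by
      intro v
      obtain ⟨z, hz, hvz⟩ := hV v
      obtain ⟨k, z', hz'⟩ := hsurj z
      have hk : ∀ W : U.ProEt, IsEmpty (Zk k ⟶ (compP j).obj W) := by
        intro W
        constructor
        intro m
        apply Set.disjoint_left.1 hUZ _ hz
        refine ⟨W.hom (m.left z'), ?_⟩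
        have h1 : m.left ≫ ((compP j).obj W).hom = (Zk k).hom := MorphismProperty.Over.w m
        have h2 : (g k).left ≫ V.hom = (Zk k).hom := MorphismProperty.Over.w (g k)
        have h3 : ((compP j).obj W).hom = W.hom ≫ j := rfl
        rw [← hz']
        have h4 : V.hom ((g k).left z') = ((g k).left ≫ V.hom) z' := rfl
        have h5 : j (W.hom (m.left z')) = (m.left ≫ W.hom ≫ j) z' := rfl
        show j (W.hom (m.left z')) = V.hom ((g k).left z')
        rw [h4, h5, h2, ← h3, h1]
        rfl
      haveI : WeaklyEtale (g k).left := Groth.Agent.Lib.ProEtGeomPt22.weaklyEtale_left (g k)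
      have hgen := Flat.generalizingMap (g k).left
      obtain ⟨v', -, hv'e⟩ := hgen (a := z') (b := v) (by rw [hz']; exact hvz)
      exact ⟨⟨k, hk⟩, v', hv'e⟩
    have hcov := generate_mem_of_finite_affine V (fun k : K0 => Zk k.1) (fun k => g k.1)
      (fun k => hZ k.1) hsurj0
    apply Sheaf.isSeparated G V _ hcov
    rintro Y f ⟨Y', a, b, ⟨k⟩, rfl⟩
    rw [map_zero, op_comp, G.obj.map_comp]
    show (G.obj.map a.op) ((G.obj.map (g k.1).op) s) = 0
    rw [hzero k, map_zero]
  exact ⟨fun a b => by rw [key a, key b]⟩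

end main

end Groth.Agent.Lib.H15ExtZeroVanish
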