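import Mathlib.RingTheory.Henselian
import Mathlib.RingTheory.Jacobson.Ideal
import Mathlib.RingTheory.Ideal.Operations
import Mathlib.Tactic.LinearCombination
import Mathlib.Tactic.Ring

/-!
Henselian pairs only depend on the radical of the ideal.
-/

set_option autoImplicit false
universe u

namespace Groth.Agent.Lib.HenselRadical

open Polynomial

variable {R : Type u} [CommRing R]

theorem radical_le_jacobson_bot {I : Ideal R} (h : I ≤ Ideal.jacobson ⊥) :
    I.radical ≤ Ideal.jacobson ⊥ := by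
  have h1 : I.radical ≤ (Ideal.jacobson (⊥ : Ideal R)).radical := Ideal.radical_mono h
  rwa [(Ideal.isRadical_jacobson (⊥ : Ideal R)).radical] at h1

/-- A unit modulo an ideal contained in the Jacobson radical is a unit. -/
theorem isUnit_of_isUnit_mk {I : Ideal R} (h : I ≤ Ideal.jacobson ⊥) {x : R}
    (hx : IsUnit (Ideal.Quotient.mk I x)) : IsUnit x := by
  have := isLocalHom_of_le_jacobson_bot I h
  exact IsUnit.of_map (Ideal.Quotient.mk I) x hx

/-- If `x` is a unit and `y - x` lies in an ideal inside the Jacobson radical, then `y` is a unit. -/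
theorem isUnit_of_sub_mem {I : Ideal R} (h : I ≤ Ideal.jacobson ⊥) {x y : R}
    (hx : IsUnit x) (hxy : y - x ∈ I) : IsUnit y := by
  apply isUnit_of_isUnit_mk h
  have : Ideal.Quotient.mk I y = Ideal.Quotient.mk I x := by
    rw [Ideal.Quotient.eq]; exact hxy
  rw [this]
  exact hx.map _

theorem eval_sub_eval_mem {I : Ideal R} (f : R[X]) {a b : R} (h : a - b ∈ I) :
    f.eval a - f.eval b ∈ I := by
  have h1 : a ≡ b [SMOD I] := by
    rw [SModEq.sub_mem]; exact h
  have h2 := h1.eval f
  rwa [SModEq.sub_mem] at h2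

/-- One Newton step. -/
theorem newton_step (f : R[X]) (b : R) (hb : IsUnit (f.derivative.eval b)) :
    ∃ b' c : R, b' - b = - (f.eval b * c) ∧ ∃ d : R, f.eval b' = d * (f.eval b) ^ 2 := by
  obtain ⟨u, hu⟩ := hb
  refine ⟨b - f.eval b * ↑u⁻¹, ↑u⁻¹, by ring, ?_⟩
  obtain ⟨c, hc⟩ := exists_mul_sq_add_linear_part_eq_eval_add f b (-(f.eval b * ↑u⁻¹))
  refine ⟨c * (↑u⁻¹) ^ 2, ?_⟩
  rw [sub_eq_add_neg, ← hc, ← hu]
  have : (u : R) * ↑u⁻¹ = 1 := u.mul_inv
  linear_combination (- eval b f) * this

theorem newton_iterate {I : Ideal R} (hI : I ≤ Ideal.jacobson ⊥) (f : R[X]) (a₀ : R)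
    (h₂ : IsUnit (f.derivative.eval a₀)) (hx : f.eval a₀ ∈ I) (m : ℕ) :
    ∃ b : R, b - a₀ ∈ Ideal.span {f.eval a₀} ∧ f.eval b ∈ Ideal.span {(f.eval a₀) ^ (m + 1)} := by
  have hspan : Ideal.span {f.eval a₀} ≤ I := by
    rw [Ideal.span_singleton_le_iff_mem]; exact hx
  induction m with
  | zero =>
    refine ⟨a₀, by simp, ?_⟩
    simp only [zero_add, pow_one]
    exact Ideal.subset_span rfl
  | succ m ih =>
    obtain ⟨b, hb1, hb2⟩ := ih
    have hub : IsUnit (f.derivative.eval b) := by
      apply isUnit_of_sub_mem hI h₂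
      exact hspan (eval_sub_eval_mem f.derivative hb1)
    obtain ⟨b', c, hb', d, hd⟩ := newton_step f b hub
    obtain ⟨e, he⟩ := Ideal.mem_span_singleton'.mp hb2
    refine ⟨b', ?_, ?_⟩
    · have : b' - a₀ = (b' - b) + (b - a₀) := by ring
      rw [this]
      refine Ideal.add_mem _ ?_ hb1
      rw [hb', ← he]
      rw [Ideal.mem_span_singleton']
      refine ⟨-(e * (f.eval a₀) ^ m * c), ?_⟩
      ring
    · rw [hd, ← he, Ideal.mem_span_singleton']
      refine ⟨d * e ^ 2 * (f.eval a₀) ^ m, ?_⟩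
      ring

theorem henselianRing_radical_of {I : Ideal R} (hI : HenselianRing R I) :
    HenselianRing R I.radical where
  jac := radical_le_jacobson_bot hI.jac
  is_henselian := by
    intro f hf a₀ h₁ h₂
    have hrj := radical_le_jacobson_bot hI.jac
    have hu : IsUnit (f.derivative.eval a₀) := isUnit_of_isUnit_mk hrj h₂
    obtain ⟨k, hk⟩ := h₁
    obtain ⟨b, hb1, hb2⟩ := newton_iterate hrj f a₀ hu ⟨k, hk⟩ k
    have hspan : Ideal.span {f.eval a₀} ≤ I.radical := by
      rw [Ideal.span_singleton_le_iff_mem]; exact ⟨k, hk⟩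
    have hbI : f.eval b ∈ I := by
      obtain ⟨e, he⟩ := Ideal.mem_span_singleton'.mp hb2
      rw [← he, pow_succ]
      exact I.mul_mem_left _ (I.mul_mem_right _ hk)
    have hub : IsUnit (f.derivative.eval b) := by
      apply isUnit_of_sub_mem hrj hu
      exact hspan (eval_sub_eval_mem f.derivative hb1)
    obtain ⟨a, ha1, ha2⟩ := hI.is_henselian f hf b hbI (hub.map _)
    refine ⟨a, ha1, ?_⟩
    have : a - a₀ = (a - b) + (b - a₀) := by ring
    rw [this]
    exact Ideal.add_mem _ (Ideal.le_radical ha2) (hspan hb1)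

theorem henselianRing_of_radical {I : Ideal R} (hI : HenselianRing R I.radical) :
    HenselianRing R I where
  jac := Ideal.le_radical.trans hI.jac
  is_henselian := by
    intro f hf a₀ h₁ h₂
    have hj : I ≤ Ideal.jacobson ⊥ := Ideal.le_radical.trans hI.jac
    have hu : IsUnit (f.derivative.eval a₀) := isUnit_of_isUnit_mk hj h₂
    obtain ⟨a, ha1, ha2⟩ := hI.is_henselian f hf a₀ (Ideal.le_radical h₁) (hu.map _)
    refine ⟨a, ha1, ?_⟩
    obtain ⟨c, hc⟩ := exists_mul_sq_add_linear_part_eq_eval_add f a₀ (a - a₀)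
    have ha1' : f.eval a = 0 := ha1
    rw [add_sub_cancel, ha1'] at hc
    have hunit : IsUnit (c * (a - a₀) + f.derivative.eval a₀) := by
      apply isUnit_of_sub_mem hI.jac hu
      have : c * (a - a₀) + f.derivative.eval a₀ - f.derivative.eval a₀ = c * (a - a₀) := by ring
      rw [this]
      exact Ideal.mul_mem_left _ _ ha2
    obtain ⟨v, hv⟩ := hunit
    have hkey : (a - a₀) = - (f.eval a₀) * ↑v⁻¹ := by
      have h3 : (a - a₀) * (v : R) = - f.eval a₀ := by
        rw [hv]; linear_combination hc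
      calc (a - a₀) = (a - a₀) * ((v : R) * ↑v⁻¹) := by rw [v.mul_inv, mul_one]
        _ = ((a - a₀) * (v : R)) * ↑v⁻¹ := by ring
        _ = - (f.eval a₀) * ↑v⁻¹ := by rw [h3]
    rw [hkey]
    exact I.mul_mem_right _ (I.neg_mem h₁)

theorem henselianRing_radical_iff {I : Ideal R} :
    HenselianRing R I.radical ↔ HenselianRing R I :=
  ⟨henselianRing_of_radical, henselianRing_radical_of⟩

theorem henselianRing_iff_of_radical_eq {I J : Ideal R} (h : I.radical = J.radical) :
    HenselianRing R I ↔ HenselianRing R J := by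
  rw [← henselianRing_radical_iff (I := I), ← henselianRing_radical_iff (I := J), h]

end Groth.Agent.Lib.HenselRadical
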