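import Groth.Agent.Lib.PairHenselization
import Groth.Agent.Lib.HenselizationFlat

/-!
# Properties of the henselization of a pair (helper22)

* `equivHzn2 hB : B ≃ₐ[A] Hzn2 A I` for any henselization `B` of the pair `(A, I)`.
* `flat_Hzn2`, `flat_of_isPairHenselization`.
* `quotientMap_pow_bijective`: `A / I^n → B / I^n B` is bijective (from the universal property).
-/

namespace Groth.Agent.Lib.PairHenselization

open Polynomial Groth.Agent.Lib Groth.Agent.Lib.PairStep

universe u

variable (A : Type u) [CommRing A] (I : Ideal A)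

section Flat

theorem flat_next (n : ℕ) : (next A I n).Flat :=
  (RingHom.flat_algebraMap_iff (R := G A I n) (S := PStep (G A I n) (GI A I n))).mpr
    (PairStep.flat_pStep (G A I n) (GI A I n))

theorem flat_trans (m n : ℕ) (h : m ≤ n) : (trans A I m n h).Flat := by
  induction n, h using Nat.le_induction with
  | base => rw [trans_self]; exact RingHom.Flat.id _
  | succ n h ih =>
    rw [trans_succ A I m n h]
    exact RingHom.Flat.comp ih (flat_next A I n)

theorem flat_ofStage_zero : (ofStage A I 0).Flat := by
  refine HenselizationFlat.flat_of_directed_system (ι := ℕ) (ofStage A I 0) (G A I)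
    (fun j => trans A I 0 j (Nat.zero_le j)) (fun j => flat_trans A I 0 j _)
    (fun j => ofStage A I j) (fun j => ofStage_comp_trans A I 0 j _)
    (fun i j h => trans A I i j h) (fun i j h => ofStage_comp_trans A I i j h)
    (fun i j h => RingHom.ext fun x => trans_trans A I 0 i j (Nat.zero_le i) h x)
    (fun s => exists_ofStage A I s) (fun j x hx => ofStage_eq_zero A I hx)

instance flat_Hzn2 : Module.Flat A (Hzn2 A I) :=
  flat_ofStage_zero A I

end Flat

section Transfer

variable {A I}
variable {B : Type u} [CommRing B] [Algebra A B] (hB : Hens2.IsPairHenselization A I B)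

/-- Any henselization of the pair `(A, I)` is isomorphic, as an `A`-algebra, to `Hzn2 A I`. -/
noncomputable def equivHzn2 : B ≃ₐ[A] Hzn2 A I := by
  have hBh : HenselianRing B (I.map (algebraMap A B)) := hB.1
  have hH := isPairHenselization A I
  have hHh : HenselianRing (Hzn2 A I) (I.map (algebraMap A (Hzn2 A I))) := hH.1
  have h1 := hB.2 (Hzn2 A I) _ (algebraMap A (Hzn2 A I)) hHh le_rfl
  have h2 := hH.2 B _ (algebraMap A B) hBh le_rfl
  have h3 := hB.2 B _ (algebraMap A B) hBh le_rfl
  have h4 := hH.2 (Hzn2 A I) _ (algebraMap A (Hzn2 A I)) hHh le_rfl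
  let a : B →+* Hzn2 A I := h1.choose
  let b : Hzn2 A I →+* B := h2.choose
  have ha : a.comp (algebraMap A B) = algebraMap A (Hzn2 A I) := h1.choose_spec.1
  have hb : b.comp (algebraMap A (Hzn2 A I)) = algebraMap A B := h2.choose_spec.1
  have hba : b.comp a = RingHom.id B := by
    obtain ⟨e, -, he⟩ := h3
    rw [he (b.comp a) (by show (b.comp a).comp _ = _; rw [RingHom.comp_assoc, ha, hb]),
      he (RingHom.id B) rfl]
  have hab : a.comp b = RingHom.id (Hzn2 A I) := by
    obtain ⟨e, -, he⟩ := h4
    rw [he (a.comp b) (by show (a.comp b).comp _ = _; rw [RingHom.comp_assoc, hb, ha]),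
      he (RingHom.id _) rfl]
  exact
    { toFun := a
      invFun := b
      left_inv := fun x => congrArg (fun k => k x) hba
      right_inv := fun x => congrArg (fun k => k x) hab
      map_mul' := a.map_mul
      map_add' := a.map_add
      commutes' := fun r => congrArg (fun k => k r) ha }

include hB in
/-- Every henselization of a pair `(A, I)` is flat over `A`. -/
theorem flat_of_isPairHenselization : Module.Flat A B :=
  Module.Flat.of_linearEquiv (equivHzn2 hB).toLinearEquiv

include hB in
/-- `A / I^n → B / I^n B` is bijective for a henselization `B` of `(A, I)`. -/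
theorem quotientMap_pow_bijective (n : ℕ) :
    Function.Bijective (Ideal.quotientMap ((I ^ n).map (algebraMap A B)) (algebraMap A B)
      Ideal.le_comap_map) := by
  set q := Ideal.quotientMap ((I ^ n).map (algebraMap A B)) (algebraMap A B)
      Ideal.le_comap_map with hq
  have hqmk : ∀ a, q (Ideal.Quotient.mk _ a) = Ideal.Quotient.mk _ (algebraMap A B a) :=
    fun a => Ideal.quotientMap_mk
  -- the henselian pair `(A / I^n, I / I^n)`
  let πA : A →+* A ⧸ I ^ n := Ideal.Quotient.mk (I ^ n)
  let JA : Ideal (A ⧸ I ^ n) := I.map πA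
  have hJA : HenselianRing (A ⧸ I ^ n) JA := by
    apply HenselPair.henselian_of_nilpotent
    intro x hx
    refine ⟨n, ?_⟩
    have h1 : x ^ n ∈ JA ^ n := Ideal.pow_mem_pow hx n
    have h2 : JA ^ n = ⊥ := by
      rw [← Ideal.map_pow, Ideal.map_quotient_self]
    rw [h2] at h1
    exact h1
  obtain ⟨g, hg, -⟩ := hB.2 (A ⧸ I ^ n) JA πA hJA le_rfl
  have hgker : ∀ b ∈ (I ^ n).map (algebraMap A B), g b = 0 := by
    intro b hb
    have hle : (I ^ n).map (algebraMap A B) ≤ RingHom.ker g := by
      rw [Ideal.map_le_iff_le_comap]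
      intro a ha
      rw [Ideal.mem_comap, RingHom.mem_ker]
      have := congrArg (fun k => k a) hg
      simp only [RingHom.comp_apply] at this
      rw [this]
      exact Ideal.Quotient.eq_zero_iff_mem.mpr ha
    exact hle hb
  let gbar : B ⧸ (I ^ n).map (algebraMap A B) →+* A ⧸ I ^ n := Ideal.Quotient.lift _ g hgker
  have h1 : ∀ x, gbar (q x) = x := by
    intro x
    obtain ⟨a, rfl⟩ := Ideal.Quotient.mk_surjective x
    rw [hqmk, Ideal.Quotient.lift_mk]
    exact congrArg (fun k => k a) hg
  -- the henselian pair `(B / I^n B, I B / I^n B)`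
  let πB : B →+* B ⧸ (I ^ n).map (algebraMap A B) := Ideal.Quotient.mk _
  let JB : Ideal (B ⧸ (I ^ n).map (algebraMap A B)) := (I.map (algebraMap A B)).map πB
  have hJB : HenselianRing (B ⧸ (I ^ n).map (algebraMap A B)) JB := by
    apply HenselPair.henselian_of_nilpotent
    intro x hx
    refine ⟨n, ?_⟩
    have h1 : x ^ n ∈ JB ^ n := Ideal.pow_mem_pow hx n
    have h2 : JB ^ n = ⊥ := by
      rw [← Ideal.map_pow, ← Ideal.map_pow, Ideal.map_quotient_self]
    rw [h2] at h1
    exact h1
  have hle : I.map (πB.comp (algebraMap A B)) ≤ JB := by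
    rw [← Ideal.map_map]
  obtain ⟨e, -, he⟩ := hB.2 _ JB (πB.comp (algebraMap A B)) hJB hle
  have h2 : πB = (q.comp g) := by
    rw [he πB rfl, he (q.comp g) (by
      show (q.comp g).comp (algebraMap A B) = πB.comp (algebraMap A B)
      rw [RingHom.comp_assoc, hg]
      ext a
      exact hqmk a)]
  refine ⟨Function.LeftInverse.injective h1, fun y => ?_⟩
  obtain ⟨b, rfl⟩ := Ideal.Quotient.mk_surjective y
  exact ⟨g b, (congrArg (fun k => k b) h2).symm⟩

end Transfer

end Groth.Agent.Lib.PairHenselization
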