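import Groth.Agent.Lib.HenselIdem
import Groth.Agent.Lib.HenselRadical
import Groth.Agent.Lib.PairHenselizationProps
import Mathlib.RingTheory.IntegralClosure.Algebra.Basic

/-!
# Henselization of pairs commutes with integral base change (Stacks 0DYE)
-/

set_option autoImplicit false
universe u

namespace Groth.Agent.Lib.PairHenselizationIntegral

open TensorProduct

/-- Two henselizations of the same pair: any comparison map is bijective. -/
theorem bijective_of_isPairHenselization {B : Type u} [CommRing B] (J : Ideal B)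
    {T T' : Type u} [CommRing T] [CommRing T'] [Algebra B T] [Algebra B T']
    (hT : Hens2.IsPairHenselization B J T) (hT' : Hens2.IsPairHenselization B J T')
    (ψ : T →+* T') (hψ : ψ.comp (algebraMap B T) = algebraMap B T') : Function.Bijective ψ := by
  obtain ⟨χ, hχ, -⟩ := hT'.2 T _ (algebraMap B T) hT.1 le_rfl
  obtain ⟨e, -, he⟩ := hT.2 T _ (algebraMap B T) hT.1 le_rfl
  obtain ⟨e', -, he'⟩ := hT'.2 T' _ (algebraMap B T') hT'.1 le_rfl
  have h1 : χ.comp ψ = RingHom.id T := by
    rw [he (χ.comp ψ) (by show (χ.comp ψ).comp _ = _; rw [RingHom.comp_assoc, hψ, hχ]),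
      he (RingHom.id T) rfl]
  have h2 : ψ.comp χ = RingHom.id T' := by
    rw [he' (ψ.comp χ) (by show (ψ.comp χ).comp _ = _; rw [RingHom.comp_assoc, hχ, hψ]),
      he' (RingHom.id T') rfl]
  refine ⟨fun x y hxy => ?_, fun y => ⟨χ y, ?_⟩⟩
  · have hx := congrArg (fun k : T →+* T => k x) h1
    have hy := congrArg (fun k : T →+* T => k y) h1
    simp only [RingHom.comp_apply, RingHom.id_apply] at hx hy
    rw [← hx, ← hy, hxy]
  · have := congrArg (fun k : T' →+* T' => k y) h2
    simpa using this

variable {A B Ah : Type u} [CommRing A] [CommRing B] [CommRing Ah] [Algebra A B] [Algebra A Ah]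

/-- `A^h ⊗_A B` is a henselization of `(B, J)` when `B` is integral over `A` and `J`, `IB` have
the same radical. -/
theorem isPairHenselization_tensor (I : Ideal A) (J : Ideal B)
    (hIJ : I.map (algebraMap A B) ≤ J) (hrad : J.radical = (I.map (algebraMap A B)).radical)
    [Algebra.IsIntegral A B] (hA : Hens2.IsPairHenselization A I Ah) :
    letI : Algebra B (Ah ⊗[A] B) :=
      (Algebra.TensorProduct.includeRight : B →ₐ[A] Ah ⊗[A] B).toRingHom.toAlgebra
    Hens2.IsPairHenselization B J (Ah ⊗[A] B) := by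
  let _ : Algebra B (Ah ⊗[A] B) :=
    (Algebra.TensorProduct.includeRight : B →ₐ[A] Ah ⊗[A] B).toRingHom.toAlgebra
  set ιB : B →+* Ah ⊗[A] B :=
    (Algebra.TensorProduct.includeRight : B →ₐ[A] Ah ⊗[A] B).toRingHom with hιB
  have hιBalg : algebraMap B (Ah ⊗[A] B) = ιB := rfl
  have hcompB : ιB.comp (algebraMap A B) = algebraMap A (Ah ⊗[A] B) :=
    (Algebra.TensorProduct.includeRight : B →ₐ[A] Ah ⊗[A] B).comp_algebraMap
  have hcompA : (algebraMap Ah (Ah ⊗[A] B)).comp (algebraMap A Ah) =
      algebraMap A (Ah ⊗[A] B) := (IsScalarTower.algebraMap_eq A Ah (Ah ⊗[A] B)).symm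
  have : HenselianRing Ah (I.map (algebraMap A Ah)) := hA.1
  have h1 : HenselianRing (Ah ⊗[A] B)
      ((I.map (algebraMap A Ah)).map (algebraMap Ah (Ah ⊗[A] B))) :=
    Groth.Agent.Lib.HenselIdem.henselianRing_of_isIntegral (A := Ah) (B := Ah ⊗[A] B)
      (I.map (algebraMap A Ah))
  have hideal : (I.map (algebraMap A Ah)).map (algebraMap Ah (Ah ⊗[A] B)) =
      (I.map (algebraMap A B)).map ιB := by
    rw [Ideal.map_map, Ideal.map_map, hcompA, hcompB]
  rw [hideal] at h1
  have hradT : ((I.map (algebraMap A B)).map ιB).radical = (J.map ιB).radical := by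
    apply le_antisymm
    · exact Ideal.radical_mono (Ideal.map_mono hIJ)
    · rw [Ideal.radical_le_radical_iff]
      have : J ≤ (I.map (algebraMap A B)).radical := hrad ▸ Ideal.le_radical
      exact (Ideal.map_mono this).trans (Ideal.map_radical_le ιB)
  have h2 : HenselianRing (Ah ⊗[A] B) (J.map ιB) :=
    (Groth.Agent.Lib.HenselRadical.henselianRing_iff_of_radical_eq hradT).1 h1
  refine ⟨h2, ?_⟩
  intro C _ K f hC hf
  -- the map `A^h → C`
  have hfI : I.map (f.comp (algebraMap A B)) ≤ K := by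
    rw [← Ideal.map_map]
    exact (Ideal.map_mono hIJ).trans hf
  obtain ⟨g, hg, hguniq⟩ := hA.2 C K (f.comp (algebraMap A B)) hC hfI
  let _ : Algebra A C := (f.comp (algebraMap A B)).toAlgebra
  let g' : Ah →ₐ[A] C := { toRingHom := g, commutes' := fun r => congrArg (fun k => k r) hg }
  let f' : B →ₐ[A] C := { toRingHom := f, commutes' := fun r => rfl }
  let h : Ah ⊗[A] B →ₐ[A] C := Algebra.TensorProduct.productMap g' f'
  have hh : ∀ a b, h (a ⊗ₜ b) = g a * f b := fun a b =>
    Algebra.TensorProduct.productMap_apply_tmul g' f' a b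
  refine ⟨h, ?_, ?_⟩
  · ext b
    change h ((1 : Ah) ⊗ₜ b) = f b
    rw [hh, map_one, one_mul]
  · intro h' hh'
    have hh'B : ∀ b, h' ((1 : Ah) ⊗ₜ b) = f b := fun b => congrArg (fun k : B →+* C => k b) hh'
    have hh'A : h'.comp (algebraMap Ah (Ah ⊗[A] B)) = g := by
      apply hguniq
      rw [RingHom.comp_assoc, hcompA, ← hcompB, ← RingHom.comp_assoc]
      exact congrArg (fun k : B →+* C => k.comp (algebraMap A B)) hh'
    have hh'A' : ∀ a, h' (a ⊗ₜ (1 : B)) = g a := fun a => congrArg (fun k : Ah →+* C => k a) hh'A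
    refine RingHom.ext fun z => ?_
    change h' z = h z
    induction z using TensorProduct.induction_on with
    | zero => rw [map_zero, map_zero]
    | tmul a b =>
      have : a ⊗ₜ[A] b = (a ⊗ₜ (1 : B)) * ((1 : Ah) ⊗ₜ b) := by
        rw [Algebra.TensorProduct.tmul_mul_tmul, mul_one, one_mul]
      rw [hh, this, map_mul, hh'A', hh'B]
    | add x y hx hy => rw [map_add, map_add, hx, hy]

/-- Henselization commutes with integral base change. -/
theorem productMap_bijective {Bh : Type u} [CommRing Bh] (I : Ideal A) (J : Ideal B)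
    (hIJ : I.map (algebraMap A B) ≤ J) (hrad : J.radical = (I.map (algebraMap A B)).radical)
    [Algebra.IsIntegral A B] (hA : Hens2.IsPairHenselization A I Ah)
    [Algebra B Bh] [Algebra A Bh] [IsScalarTower A B Bh] (hB : Hens2.IsPairHenselization B J Bh)
    (φ : Ah →ₐ[A] Bh) :
    Function.Bijective (Algebra.TensorProduct.productMap φ (IsScalarTower.toAlgHom A B Bh)) := by
  let _ : Algebra B (Ah ⊗[A] B) :=
    (Algebra.TensorProduct.includeRight : B →ₐ[A] Ah ⊗[A] B).toRingHom.toAlgebra
  have hT := isPairHenselization_tensor (Ah := Ah) I J hIJ hrad hA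
  refine bijective_of_isPairHenselization J hT hB
    ((Algebra.TensorProduct.productMap φ (IsScalarTower.toAlgHom A B Bh) : Ah ⊗[A] B →ₐ[A] Bh) :
      Ah ⊗[A] B →+* Bh) ?_
  ext b
  change Algebra.TensorProduct.productMap φ (IsScalarTower.toAlgHom A B Bh) ((1 : Ah) ⊗ₜ b) = _
  rw [Algebra.TensorProduct.productMap_apply_tmul, map_one, one_mul]
  rfl

end Groth.Agent.Lib.PairHenselizationIntegral
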