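import Groth.Agent.Lib.PairEtaleNbhd
import Groth.Agent.Lib.PairHenselizationIntegral
import Mathlib.RingTheory.IsTensorProduct
import Mathlib.RingTheory.FiniteStability
import Mathlib.RingTheory.Extension.Presentation.Core

/-!
# Henselian finitely presented maps

Tools for maps of henselian pairs of the form `A → hens(R, IR)` with `R` finitely presented
over `A`.
-/

set_option autoImplicit false
universe u

namespace Groth.Agent.Lib.HFP

open Groth.Agent.Lib.PairEtaleNbhd Groth.Agent.Lib.PairHenselizationEtale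

section Basic

/-- A henselian pair is its own henselization. -/
theorem isPairHenselization_self {S : Type u} [CommRing S] (J : Ideal S) [hS : HenselianRing S J] :
    Hens2.IsPairHenselization S J S := by
  refine ⟨by rw [Algebra.algebraMap_self, Ideal.map_id]; exact hS, ?_⟩
  intro C _ K f _ _
  exact ⟨f, RingHom.comp_id f, fun g hg => by rw [← hg]; rfl⟩

/-- Transfer of henselizations along an isomorphism of algebras. -/
theorem isPairHenselization_of_algEquiv {S : Type u} [CommRing S] (J : Ideal S)
    {C C' : Type u} [CommRing C] [CommRing C'] [Algebra S C] [Algebra S C'] (e : C ≃ₐ[S] C')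
    (hC : Hens2.IsPairHenselization S J C) : Hens2.IsPairHenselization S J C' := by
  have hcomp : (e : C →+* C').comp (algebraMap S C) = algebraMap S C' := by
    ext s; exact e.commutes s
  have hcomp' : (e.symm : C' →+* C).comp (algebraMap S C') = algebraMap S C := by
    ext s; exact e.symm.commutes s
  refine ⟨?_, ?_⟩
  · have h1 : HenselianRing C (J.map (algebraMap S C)) := hC.1
    let _ : Algebra C C' := (e : C →+* C').toAlgebra
    have : Algebra.IsIntegral C C' :=
      Algebra.isIntegral_of_surjective (e.surjective)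
    have h2 := Groth.Agent.Lib.HenselIdem.henselianRing_of_isIntegral (A := C) (B := C')
      (J.map (algebraMap S C))
    have h3 : (J.map (algebraMap S C)).map (algebraMap C C') = J.map (algebraMap S C') := by
      rw [Ideal.map_map]
      exact congrArg (fun k => Ideal.map k J) hcomp
    rwa [h3] at h2
  · intro D _ K f hD hf
    obtain ⟨g, hg, hguniq⟩ := hC.2 D K f hD hf
    refine ⟨g.comp (e.symm : C' →+* C), ?_, ?_⟩
    · beta_reduce
      rw [RingHom.comp_assoc, hcomp', hg]
    · intro g' hg'
      have := hguniq (g'.comp (e : C →+* C'))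
        (by beta_reduce; rw [RingHom.comp_assoc, hcomp, hg'])
      rw [← this]
      ext x
      simp

variable {A : Type u} [CommRing A] {I : Ideal A}

/-- A henselization of `(A, I)` is a henselization of each étale neighbourhood of `(A, I)`. -/
theorem isPairHenselization_of_nbhd {A' B : Type u} [CommRing A'] [CommRing B]
    [Algebra A A'] [Algebra A B] [Algebra A' B] [IsScalarTower A A' B]
    (hA' : IsNbhd I A') (hB : Hens2.IsPairHenselization A I B) :
    Hens2.IsPairHenselization A' (I.map (algebraMap A A')) B := by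
  have := hA'.etale
  have hideal : (I.map (algebraMap A A')).map (algebraMap A' B) = I.map (algebraMap A B) := by
    rw [Ideal.map_map, ← IsScalarTower.algebraMap_eq]
  refine ⟨hideal ▸ hB.1, ?_⟩
  intro D _ K g hD hg
  have hgI : I.map (g.comp (algebraMap A A')) ≤ K := by
    rw [← Ideal.map_map]; exact hg
  obtain ⟨h, hh, hhuniq⟩ := hB.2 D K (g.comp (algebraMap A A')) hD hgI
  let _ : Algebra A D := (g.comp (algebraMap A A')).toAlgebra
  have hIK : I.map (algebraMap A D) ≤ K := hgI
  obtain ⟨θ, -, hθ⟩ := existsUnique_algHom_of_etale_nbhd (S := A') I hA'.qbij K hIK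
  let g₁ : A' →ₐ[A] D := { toRingHom := g, commutes' := fun r => rfl }
  let g₂ : A' →ₐ[A] D :=
    { toRingHom := h.comp (algebraMap A' B)
      commutes' := fun r => by
        change h (algebraMap A' B (algebraMap A A' r)) = g (algebraMap A A' r)
        rw [← IsScalarTower.algebraMap_apply A A' B]
        exact congrArg (fun k : A →+* D => k r) hh }
  have h12 : g₂ = g₁ := (hθ g₂ trivial).trans (hθ g₁ trivial).symm
  refine ⟨h, ?_, ?_⟩
  · ext x
    exact AlgHom.congr_fun h12 x
  · intro h' hh'
    apply hhuniq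
    rw [IsScalarTower.algebraMap_eq A A' B, ← RingHom.comp_assoc, hh']

end Basic


section Pushout

variable {R₀ : Type u} [CommRing R₀] (J : Ideal R₀)
variable {B T S C : Type u} [CommRing B] [CommRing T] [CommRing S] [CommRing C]
variable [Algebra R₀ B] [Algebra R₀ T] [Algebra R₀ S] [Algebra B S] [Algebra T S]
variable [IsScalarTower R₀ B S] [IsScalarTower R₀ T S] [Algebra.IsPushout R₀ B T S]
variable [Algebra S C] [Algebra T C] [IsScalarTower T S C]

omit [Algebra.IsPushout R₀ B T S] [IsScalarTower R₀ B S] [Algebra R₀ B] [Algebra B S] in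
theorem map_map_map_eq :
    ((J.map (algebraMap R₀ T)).map (algebraMap T C)) =
      (J.map (algebraMap R₀ S)).map (algebraMap S C) := by
  rw [Ideal.map_map, Ideal.map_map, IsScalarTower.algebraMap_eq T S C, RingHom.comp_assoc,
    ← IsScalarTower.algebraMap_eq R₀ T S]

/-- Let `B` be a henselization of `(R₀, J)`, `T` an `R₀`-algebra and `S = B ⊗_{R₀} T`. Then a
henselization of `(S, JS)` is a henselization of `(T, JT)`. -/
theorem isPairHenselization_of_isPushout (hB : Hens2.IsPairHenselization R₀ J B)
    (hC : Hens2.IsPairHenselization S (J.map (algebraMap R₀ S)) C) :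
    Hens2.IsPairHenselization T (J.map (algebraMap R₀ T)) C := by
  refine ⟨(map_map_map_eq (T := T) (S := S) (C := C) J) ▸ hC.1, ?_⟩
  intro D _ K g hD hg
  let _ : Algebra R₀ D := (g.comp (algebraMap R₀ T)).toAlgebra
  have hgJ : J.map (g.comp (algebraMap R₀ T)) ≤ K := by rw [← Ideal.map_map]; exact hg
  obtain ⟨β, hβ, hβuniq⟩ := hB.2 D K (g.comp (algebraMap R₀ T)) hD hgJ
  let β' : B →ₐ[R₀] D := { toRingHom := β, commutes' := fun r => congrArg (fun k => k r) hβ }
  let g' : T →ₐ[R₀] D := { toRingHom := g, commutes' := fun r => rfl }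
  let σ : S →ₐ[R₀] D := Algebra.pushoutDesc S β' g' (fun _ _ => mul_comm _ _)
  have hσT : ∀ t, σ (algebraMap T S t) = g t := fun t => Algebra.pushoutDesc_right S β' g' _ t
  have hσB : ∀ b, σ (algebraMap B S b) = β b := fun b => Algebra.pushoutDesc_left S β' g' _ b
  have hσJ : (J.map (algebraMap R₀ S)).map (σ : S →+* D) ≤ K := by
    rw [Ideal.map_map]
    have : (σ : S →+* D).comp (algebraMap R₀ S) = g.comp (algebraMap R₀ T) := σ.comp_algebraMap
    rw [this]
    exact hgJ
  obtain ⟨h, hh, hhuniq⟩ := hC.2 D K (σ : S →+* D) hD hσJ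
  refine ⟨h, ?_, ?_⟩
  · ext t
    change h (algebraMap T C t) = g t
    rw [IsScalarTower.algebraMap_apply T S C, ← hσT]
    exact congrArg (fun k : S →+* D => k (algebraMap T S t)) hh
  · intro h' hh'
    apply hhuniq
    have hh't : ∀ t, h' (algebraMap S C (algebraMap T S t)) = g t := by
      intro t
      rw [← IsScalarTower.algebraMap_apply T S C]
      exact congrArg (fun k : T →+* D => k t) hh'
    let σ' : S →ₐ[R₀] D :=
      { toRingHom := h'.comp (algebraMap S C)
        commutes' := fun r => by
          change h' (algebraMap S C (algebraMap R₀ S r)) = g (algebraMap R₀ T r)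
          rw [IsScalarTower.algebraMap_apply R₀ T S, hh't] }
    have hσ'B : (σ'.comp (IsScalarTower.toAlgHom R₀ B S) : B →+* D) = β := by
      apply hβuniq
      ext r
      change h' (algebraMap S C (algebraMap B S (algebraMap R₀ B r))) = g (algebraMap R₀ T r)
      rw [← IsScalarTower.algebraMap_apply R₀ B S, IsScalarTower.algebraMap_apply R₀ T S, hh't]
    have : σ' = σ := by
      apply Algebra.IsPushout.algHom_ext (R := R₀) (S := B) (R' := T) (S' := S)
      · ext t
        change h' (algebraMap S C (algebraMap T S t)) = σ (algebraMap T S t)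
        rw [hh't, hσT]
      · ext b
        change (σ'.comp (IsScalarTower.toAlgHom R₀ B S) : B →+* D) b = σ (algebraMap B S b)
        rw [hσ'B, hσB]
    exact congrArg (fun k : S →ₐ[R₀] D => (k : S →+* D)) this

/-- Conversely, a henselization `C` of `(T, JT)`, with the `S`-algebra structure induced by the
unique `R₀`-algebra map `B → C`, is a henselization of `(S, JS)` for `S = B ⊗_{R₀} T`. -/
theorem isPairHenselization_isPushout_of (hB : Hens2.IsPairHenselization R₀ J B)
    (hC : Hens2.IsPairHenselization T (J.map (algebraMap R₀ T)) C) :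
    Hens2.IsPairHenselization S (J.map (algebraMap R₀ S)) C := by
  refine ⟨(map_map_map_eq (T := T) (S := S) (C := C) J) ▸ hC.1, ?_⟩
  intro D _ K g hD hg
  have hgT : (J.map (algebraMap R₀ T)).map (g.comp (algebraMap T S)) ≤ K := by
    rw [Ideal.map_map, RingHom.comp_assoc, ← IsScalarTower.algebraMap_eq R₀ T S, ← Ideal.map_map]
    exact hg
  obtain ⟨h, hh, hhuniq⟩ := hC.2 D K (g.comp (algebraMap T S)) hD hgT
  have hgJ : J.map (g.comp (algebraMap R₀ S)) ≤ K := by rw [← Ideal.map_map]; exact hg
  obtain ⟨β, hβ, hβuniq⟩ := hB.2 D K (g.comp (algebraMap R₀ S)) hD hgJ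
  let _ : Algebra R₀ D := (g.comp (algebraMap R₀ S)).toAlgebra
  let g' : S →ₐ[R₀] D := { toRingHom := g, commutes' := fun r => rfl }
  have hhT : ∀ t, h (algebraMap S C (algebraMap T S t)) = g (algebraMap T S t) := by
    intro t
    rw [← IsScalarTower.algebraMap_apply T S C]
    exact congrArg (fun k : T →+* D => k t) hh
  let σ' : S →ₐ[R₀] D :=
    { toRingHom := h.comp (algebraMap S C)
      commutes' := fun r => by
        change h (algebraMap S C (algebraMap R₀ S r)) = g (algebraMap R₀ S r)
        rw [IsScalarTower.algebraMap_apply R₀ T S, hhT] }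
  have h1 : (σ'.comp (IsScalarTower.toAlgHom R₀ B S) : B →+* D) = β := by
    apply hβuniq
    ext r
    change h (algebraMap S C (algebraMap B S (algebraMap R₀ B r))) = g (algebraMap R₀ S r)
    rw [← IsScalarTower.algebraMap_apply R₀ B S, IsScalarTower.algebraMap_apply R₀ T S, hhT]
  have h2 : (g'.comp (IsScalarTower.toAlgHom R₀ B S) : B →+* D) = β := by
    apply hβuniq
    ext r
    change g (algebraMap B S (algebraMap R₀ B r)) = g (algebraMap R₀ S r)
    rw [← IsScalarTower.algebraMap_apply R₀ B S]
  have h3 : σ' = g' := by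
    apply Algebra.IsPushout.algHom_ext (R := R₀) (S := B) (R' := T) (S' := S)
    · ext t
      exact hhT t
    · ext b
      change (σ'.comp (IsScalarTower.toAlgHom R₀ B S) : B →+* D) b =
        (g'.comp (IsScalarTower.toAlgHom R₀ B S) : B →+* D) b
      rw [h1, h2]
  refine ⟨h, congrArg (fun k : S →ₐ[R₀] D => (k : S →+* D)) h3, ?_⟩
  intro h' hh'
  apply hhuniq
  rw [IsScalarTower.algebraMap_eq T S C, ← RingHom.comp_assoc, hh']

end Pushout


section Quotient

variable {A : Type u} [CommRing A] (I : Ideal A) {B : Type u} [CommRing B] [Algebra A B]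

/-- Henselization commutes with quotients: `B/𝔞B` is a henselization of `(A/𝔞, I(A/𝔞))`. -/
theorem isPairHenselization_quotient (hB : Hens2.IsPairHenselization A I B) (𝔞 : Ideal A) :
    Hens2.IsPairHenselization (A ⧸ 𝔞) (I.map (Ideal.Quotient.mk 𝔞))
      (B ⧸ 𝔞.map (algebraMap A B)) := by
  set 𝔟 := 𝔞.map (algebraMap A B) with h𝔟
  have hsq : (algebraMap (A ⧸ 𝔞) (B ⧸ 𝔟)).comp (Ideal.Quotient.mk 𝔞) =
      (Ideal.Quotient.mk 𝔟).comp (algebraMap A B) := by
    ext a; rfl
  refine ⟨?_, ?_⟩
  · have : HenselianRing B (I.map (algebraMap A B)) := hB.1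
    have : Algebra.IsIntegral B (B ⧸ 𝔟) :=
      Algebra.isIntegral_of_surjective Ideal.Quotient.mk_surjective
    have h2 := Groth.Agent.Lib.HenselIdem.henselianRing_of_isIntegral (A := B) (B := B ⧸ 𝔟)
      (I.map (algebraMap A B))
    have h3 : (I.map (algebraMap A B)).map (algebraMap B (B ⧸ 𝔟)) =
        (I.map (Ideal.Quotient.mk 𝔞)).map (algebraMap (A ⧸ 𝔞) (B ⧸ 𝔟)) := by
      rw [Ideal.map_map, Ideal.map_map, hsq]
      rfl
    rwa [h3] at h2
  · intro D _ K f hD hf
    have hfI : I.map (f.comp (Ideal.Quotient.mk 𝔞)) ≤ K := by rw [← Ideal.map_map]; exact hf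
    obtain ⟨g, hg, hguniq⟩ := hB.2 D K (f.comp (Ideal.Quotient.mk 𝔞)) hD hfI
    have hgker : ∀ b ∈ 𝔟, g b = 0 := by
      intro b hb
      have hle : 𝔟 ≤ RingHom.ker g := by
        rw [h𝔟, Ideal.map_le_iff_le_comap]
        intro a ha
        rw [Ideal.mem_comap, RingHom.mem_ker]
        have := congrArg (fun k : A →+* D => k a) hg
        simp only [RingHom.comp_apply] at this
        rw [this, Ideal.Quotient.eq_zero_iff_mem.2 ha, map_zero]
      exact hle hb
    refine ⟨Ideal.Quotient.lift 𝔟 g hgker, ?_, ?_⟩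
    · refine Ideal.Quotient.ringHom_ext (RingHom.ext fun a => ?_)
      change Ideal.Quotient.lift 𝔟 g hgker
        (algebraMap (A ⧸ 𝔞) (B ⧸ 𝔟) (Ideal.Quotient.mk 𝔞 a)) = f (Ideal.Quotient.mk 𝔞 a)
      have h0 : algebraMap (A ⧸ 𝔞) (B ⧸ 𝔟) (Ideal.Quotient.mk 𝔞 a) =
          Ideal.Quotient.mk 𝔟 (algebraMap A B a) := rfl
      rw [h0, Ideal.Quotient.lift_mk]
      exact congrArg (fun k : A →+* D => k a) hg
    · intro g' hg'
      have h1 : g'.comp (Ideal.Quotient.mk 𝔟) = g := by
        apply hguniq
        rw [RingHom.comp_assoc, ← hsq, ← RingHom.comp_assoc, hg']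
      refine Ideal.Quotient.ringHom_ext (RingHom.ext fun b => ?_)
      change g' (Ideal.Quotient.mk 𝔟 b) = Ideal.Quotient.lift 𝔟 g hgker (Ideal.Quotient.mk 𝔟 b)
      rw [Ideal.Quotient.lift_mk, ← h1]
      rfl

end Quotient

section Factor

variable {A : Type u} [CommRing A] {I : Ideal A} {B : Type u} [CommRing B] [Algebra A B]

/-- Finitely many elements of a henselization come from a common étale neighbourhood. -/
theorem exists_nbhd_of_finset (hB : Hens2.IsPairHenselization A I B) (T : Finset B) :
    ∃ (A' : Type u) (_ : CommRing A') (_ : Algebra A A') (_ : IsNbhd I A')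
      (φ : A' →ₐ[A] B), ∀ x ∈ T, x ∈ φ.range := by
  classical
  have htop := fromNbhd_eq_top hB
  let T' : Finset (fromNbhd I B) :=
    T.attach.image fun x => ⟨x.1, by rw [htop]; exact Algebra.mem_top⟩
  obtain ⟨S, i1, i2, hS, ψ, hψ⟩ := exists_algHom_fromNbhd_finset T'
  refine ⟨S, i1, i2, hS, (fromNbhd _ B).val.comp ψ, fun x hx => ?_⟩
  have hx' : (⟨x, by rw [htop]; exact Algebra.mem_top⟩ : fromNbhd I B) ∈ T' :=
    Finset.mem_image.2 ⟨⟨x, hx⟩, Finset.mem_attach _ _, rfl⟩
  obtain ⟨s, hs⟩ := hψ _ hx'
  exact ⟨s, congrArg Subtype.val hs⟩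

/-- A finite product of elements congruent to `1` is congruent to `1`. -/
theorem prod_sub_one_mem {S : Type*} [CommRing S] (J : Ideal S) {ι : Type*} (s : Finset ι)
    (t : ι → S) (ht : ∀ i ∈ s, t i - 1 ∈ J) : (∏ i ∈ s, t i) - 1 ∈ J := by
  rw [← Ideal.Quotient.eq_zero_iff_mem, map_sub, map_prod, map_one]
  rw [Finset.prod_eq_one, sub_self]
  intro i hi
  have := Ideal.Quotient.eq_zero_iff_mem.2 (ht i hi)
  rwa [map_sub, map_one, sub_eq_zero] at this

/-- A map from a finitely presented algebra to a henselization factors through an étale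
neighbourhood. -/
theorem exists_factor {k : Type u} [CommRing k] {R₁ : Type u} [CommRing R₁] [Algebra k R₁]
    [Algebra.FinitePresentation k R₁] [Algebra k A] [Algebra k B] [IsScalarTower k A B]
    (hB : Hens2.IsPairHenselization A I B) (ρ : R₁ →ₐ[k] B) :
    ∃ (A' : Type u) (_ : CommRing A') (_ : Algebra A A') (_ : IsNbhd I A')
      (φ : A' →ₐ[A] B) (ρ' : R₁ →+* A'),
      ρ'.comp (algebraMap k R₁) = (algebraMap A A').comp (algebraMap k A) ∧
        (φ : A' →+* B).comp ρ' = (ρ : R₁ →+* B) := by
  classical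
  obtain ⟨n, π, hπ, hker⟩ := Algebra.FinitePresentation.out (R := k) (A := R₁)
  obtain ⟨s, hs⟩ := hker
  let c : Fin n → B := fun i => ρ (π (MvPolynomial.X i))
  obtain ⟨A₁, _, _, hA₁, φ₁, hφ₁⟩ := exists_nbhd_of_finset hB (Finset.univ.image c)
  have hc : ∀ i, ∃ a : A₁, φ₁ a = c i := fun i =>
    hφ₁ (c i) (Finset.mem_image.2 ⟨i, Finset.mem_univ _, rfl⟩)
  choose σ₁ hσ₁ using hc
  let ev₁ : MvPolynomial (Fin n) k →+* A₁ :=
    MvPolynomial.eval₂Hom ((algebraMap A A₁).comp (algebraMap k A)) σ₁
  have hev₁ : (φ₁ : A₁ →+* B).comp ev₁ = (ρ : R₁ →+* B).comp π.toRingHom := by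
    apply MvPolynomial.ringHom_ext
    · intro a
      change φ₁ (ev₁ (MvPolynomial.C a)) = ρ (π (MvPolynomial.C a))
      rw [MvPolynomial.coe_eval₂Hom, MvPolynomial.eval₂_C]
      change φ₁ (algebraMap A A₁ (algebraMap k A a)) = _
      rw [φ₁.commutes, ← IsScalarTower.algebraMap_apply, ← MvPolynomial.algebraMap_eq,
        π.commutes, ρ.commutes]
    · intro i
      change φ₁ (ev₁ (MvPolynomial.X i)) = ρ (π (MvPolynomial.X i))
      rw [MvPolynomial.coe_eval₂Hom, MvPolynomial.eval₂_X]
      exact hσ₁ i
  have hkill : ∀ p ∈ s, ∃ t : A₁, t - 1 ∈ I.map (algebraMap A A₁) ∧ t * ev₁ p = 0 := by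
    intro p hp
    apply exists_mul_eq_zero_of_algHom_eq_zero hB hA₁ φ₁
    have h1 := congrArg (fun k' : MvPolynomial (Fin n) k →+* B => k' p) hev₁
    simp only [RingHom.comp_apply] at h1
    change φ₁ (ev₁ p) = ρ (π p) at h1
    rw [h1]
    have : p ∈ RingHom.ker π.toRingHom := by
      rw [← hs]; exact Ideal.subset_span hp
    have h0 : π p = 0 := (RingHom.mem_ker).1 this
    rw [h0, map_zero]
  choose! t ht1 ht2 using hkill
  set tt : A₁ := ∏ p ∈ s, t p with htt
  have htt1 : tt - 1 ∈ I.map (algebraMap A A₁) := prod_sub_one_mem _ s t ht1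
  have htt2 : ∀ p ∈ s, tt * ev₁ p = 0 := by
    intro p hp
    rw [htt, ← Finset.mul_prod_erase s t hp, mul_comm (t p), mul_assoc, ht2 p hp, mul_zero]
  have hA' : IsNbhd I (Localization.Away tt) := hA₁.away tt htt1
  obtain ⟨φ', -, -⟩ := existsUnique_algHom hB hA'
  have hφ' : φ'.comp (IsScalarTower.toAlgHom A A₁ (Localization.Away tt)) = φ₁ :=
    algHom_ext hB hA₁ _ _
  let ev' : MvPolynomial (Fin n) k →+* Localization.Away tt :=
    (algebraMap A₁ (Localization.Away tt)).comp ev₁
  have hkerle : RingHom.ker π.toRingHom ≤ RingHom.ker ev' := by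
    rw [← hs, Ideal.span_le]
    intro p hp
    rw [SetLike.mem_coe, RingHom.mem_ker]
    change algebraMap A₁ (Localization.Away tt) (ev₁ p) = 0
    have hunit : IsUnit (algebraMap A₁ (Localization.Away tt) tt) :=
      IsLocalization.Away.algebraMap_isUnit tt
    have h2 : algebraMap A₁ (Localization.Away tt) tt *
        algebraMap A₁ (Localization.Away tt) (ev₁ p) = 0 := by
      rw [← map_mul, htt2 p hp, map_zero]
    exact (hunit.mul_right_eq_zero).mp h2
  let ρ' : R₁ →+* Localization.Away tt :=
    π.toRingHom.liftOfSurjective hπ ⟨ev', hkerle⟩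
  have hρ' : ρ'.comp π.toRingHom = ev' :=
    RingHom.liftOfSurjective_comp _ hπ ⟨ev', hkerle⟩
  refine ⟨Localization.Away tt, inferInstance, inferInstance, hA', φ', ρ', ?_, ?_⟩
  · ext a
    change ρ' (algebraMap k R₁ a) = algebraMap A (Localization.Away tt) (algebraMap k A a)
    rw [← π.commutes, MvPolynomial.algebraMap_eq]
    have := congrArg (fun k' : MvPolynomial (Fin n) k →+* _ => k' (MvPolynomial.C a)) hρ'
    simp only [RingHom.comp_apply] at this
    change ρ' (π (MvPolynomial.C a)) = _ at this
    rw [this]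
    change algebraMap A₁ (Localization.Away tt) (ev₁ (MvPolynomial.C a)) = _
    rw [MvPolynomial.coe_eval₂Hom, MvPolynomial.eval₂_C]
    change algebraMap A₁ (Localization.Away tt) (algebraMap A A₁ (algebraMap k A a)) = _
    rw [← IsScalarTower.algebraMap_apply A A₁ (Localization.Away tt)]
  · have hsurj : Function.Surjective π.toRingHom := hπ
    refine (RingHom.cancel_right hsurj).1 ?_
    rw [RingHom.comp_assoc, hρ', ← hev₁]
    refine RingHom.ext fun x => ?_
    change φ' (algebraMap A₁ (Localization.Away tt) (ev₁ x)) = φ₁ (ev₁ x)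
    rw [← hφ']; rfl

end Factor


section Presentation

open Groth.Agent.Lib.PairHenselization

variable {A : Type u} [CommRing A] (I : Ideal A)

/-- Let `π : A[X] → R` be surjective, `B` a henselization of `(R, IR)` and `P` one of
`(A[X], IA[X])`. Then there is a surjective `A`-algebra map `P → B` with kernel `(ker π)P`. -/
theorem exists_surjective_of_surjective (R : Type u) [CommRing R] [Algebra A R]
    (B : Type u) [CommRing B] [Algebra A B] [Algebra R B]
    [IsScalarTower A R B] (hB : Hens2.IsPairHenselization R (I.map (algebraMap A R)) B)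
    {Q : Type u} [CommRing Q] [Algebra A Q] (π : Q →ₐ[A] R) (hπ : Function.Surjective π)
    (P : Type u) [CommRing P] [Algebra Q P] [Algebra A P] [IsScalarTower A Q P]
    (hP : Hens2.IsPairHenselization Q (I.map (algebraMap A Q)) P) :
    ∃ φ : P →ₐ[A] B, Function.Surjective φ ∧
      RingHom.ker φ = (RingHom.ker π.toRingHom).map (algebraMap Q P) := by
  set J : Ideal Q := I.map (algebraMap A Q) with hJ
  have hBh : HenselianRing B ((I.map (algebraMap A R)).map (algebraMap R B)) := hB.1
  -- the map `P → B`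
  have hJB : J.map ((algebraMap R B).comp π.toRingHom) ≤
      (I.map (algebraMap A R)).map (algebraMap R B) := by
    rw [hJ, Ideal.map_map, Ideal.map_map]
    have : ((algebraMap R B).comp π.toRingHom).comp (algebraMap A Q) =
        (algebraMap R B).comp (algebraMap A R) := by
      rw [RingHom.comp_assoc]
      congr 1
      exact π.comp_algebraMap
    rw [this]
  obtain ⟨φ₀, hφ₀, -⟩ := hP.2 B _ ((algebraMap R B).comp π.toRingHom) hBh hJB
  have hφ₀' : ∀ x : Q, φ₀ (algebraMap Q P x) = algebraMap R B (π x) := fun x =>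
    congrArg (fun k : Q →+* B => k x) hφ₀
  set 𝔞 : Ideal Q := RingHom.ker π.toRingHom with h𝔞
  set 𝔟 : Ideal P := 𝔞.map (algebraMap Q P) with h𝔟
  have hφ₀ker : ∀ b ∈ 𝔟, φ₀ b = 0 := by
    intro b hb
    have hle : 𝔟 ≤ RingHom.ker φ₀ := by
      rw [h𝔟, Ideal.map_le_iff_le_comap]
      intro x hx
      rw [Ideal.mem_comap, RingHom.mem_ker, hφ₀']
      have : π x = 0 := (RingHom.mem_ker).1 hx
      rw [this, map_zero]
    exact hle hb
  let φb : P ⧸ 𝔟 →+* B := Ideal.Quotient.lift 𝔟 φ₀ hφ₀ker
  -- `P/𝔟` is henselian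
  have hPh : HenselianRing P (J.map (algebraMap Q P)) := hP.1
  have : Algebra.IsIntegral P (P ⧸ 𝔟) :=
    Algebra.isIntegral_of_surjective Ideal.Quotient.mk_surjective
  have hPb : HenselianRing (P ⧸ 𝔟) ((J.map (algebraMap Q P)).map (algebraMap P (P ⧸ 𝔟))) :=
    Groth.Agent.Lib.HenselIdem.henselianRing_of_isIntegral (A := P) (B := P ⧸ 𝔟)
      (J.map (algebraMap Q P))
  -- the map `R → P/𝔟`
  let μ : Q →+* P ⧸ 𝔟 := (Ideal.Quotient.mk 𝔟).comp (algebraMap Q P)
  have hμker : RingHom.ker π.toRingHom ≤ RingHom.ker μ := by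
    intro x hx
    rw [RingHom.mem_ker]
    change Ideal.Quotient.mk 𝔟 (algebraMap Q P x) = 0
    exact Ideal.Quotient.eq_zero_iff_mem.2 (Ideal.mem_map_of_mem _ hx)
  have hπs : Function.Surjective π.toRingHom := hπ
  let ν : R →+* P ⧸ 𝔟 := π.toRingHom.liftOfSurjective hπs ⟨μ, hμker⟩
  have hν : ν.comp π.toRingHom = μ := RingHom.liftOfSurjective_comp _ hπs ⟨μ, hμker⟩
  have hνI : (I.map (algebraMap A R)).map ν ≤
      (J.map (algebraMap Q P)).map (algebraMap P (P ⧸ 𝔟)) := by
    rw [Ideal.map_map, hJ, Ideal.map_map, Ideal.map_map]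
    have : ν.comp (algebraMap A R) =
        ((algebraMap P (P ⧸ 𝔟)).comp (algebraMap Q P)).comp (algebraMap A Q) := by
      have h1 : algebraMap A R = π.toRingHom.comp (algebraMap A Q) := π.comp_algebraMap.symm
      rw [h1, ← RingHom.comp_assoc, hν]
      rfl
    rw [this]
  obtain ⟨χ, hχ, -⟩ := hB.2 (P ⧸ 𝔟) _ ν hPb hνI
  -- `χ ∘ φb = id`
  have h1 : χ.comp φb = RingHom.id _ := by
    refine Ideal.Quotient.ringHom_ext ?_
    have hμJ : J.map μ ≤ (J.map (algebraMap Q P)).map (algebraMap P (P ⧸ 𝔟)) := by
      have h0 : (J.map (algebraMap Q P)).map (algebraMap P (P ⧸ 𝔟)) = J.map μ :=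
        Ideal.map_map _ _
      rw [h0]
    obtain ⟨e, -, he⟩ := hP.2 (P ⧸ 𝔟) _ μ hPb hμJ
    rw [he ((χ.comp φb).comp (Ideal.Quotient.mk 𝔟)) (by
      refine RingHom.ext fun x => ?_
      change χ (φb (Ideal.Quotient.mk 𝔟 (algebraMap Q P x))) = μ x
      have : φb (Ideal.Quotient.mk 𝔟 (algebraMap Q P x)) = φ₀ (algebraMap Q P x) :=
        Ideal.Quotient.lift_mk 𝔟 φ₀ hφ₀ker
      rw [this, hφ₀']
      have h2 := congrArg (fun k : R →+* P ⧸ 𝔟 => k (π x)) hχ
      simp only [RingHom.comp_apply] at h2
      rw [h2]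
      exact congrArg (fun k : Q →+* P ⧸ 𝔟 => k x) hν),
      he ((RingHom.id _).comp (Ideal.Quotient.mk 𝔟)) rfl]
  -- `φb ∘ χ = id`
  have h2 : φb.comp χ = RingHom.id _ := by
    obtain ⟨e, -, he⟩ := hB.2 B _ (algebraMap R B) hBh le_rfl
    rw [he (φb.comp χ) (by
      beta_reduce
      rw [RingHom.comp_assoc, hχ]
      refine (RingHom.cancel_right hπs).1 ?_
      rw [RingHom.comp_assoc, hν]
      refine RingHom.ext fun x => ?_
      change φb (Ideal.Quotient.mk 𝔟 (algebraMap Q P x)) = algebraMap R B (π x)
      have : φb (Ideal.Quotient.mk 𝔟 (algebraMap Q P x)) = φ₀ (algebraMap Q P x) :=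
        Ideal.Quotient.lift_mk 𝔟 φ₀ hφ₀ker
      rw [this, hφ₀']),
      he (RingHom.id B) rfl]
  have hφb_inj : Function.Injective φb := by
    intro x y hxy
    have hx := congrArg (fun k : P ⧸ 𝔟 →+* P ⧸ 𝔟 => k x) h1
    have hy := congrArg (fun k : P ⧸ 𝔟 →+* P ⧸ 𝔟 => k y) h1
    simp only [RingHom.comp_apply, RingHom.id_apply] at hx hy
    rw [← hx, ← hy, hxy]
  have hφb_surj : Function.Surjective φb := by
    intro y
    refine ⟨χ y, ?_⟩
    have := congrArg (fun k : B →+* B => k y) h2
    simpa using this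
  let φ : P →ₐ[A] B :=
    { toRingHom := φ₀
      commutes' := fun a => by
        change φ₀ (algebraMap A P a) = algebraMap A B a
        rw [IsScalarTower.algebraMap_apply A Q P, hφ₀', π.commutes,
          ← IsScalarTower.algebraMap_apply] }
  refine ⟨φ, ?_, ?_⟩
  · intro y
    obtain ⟨x, hx⟩ := hφb_surj y
    obtain ⟨p, rfl⟩ := Ideal.Quotient.mk_surjective x
    exact ⟨p, hx⟩
  · ext p
    rw [RingHom.mem_ker]
    change φ₀ p = 0 ↔ _
    have : φ₀ p = φb (Ideal.Quotient.mk 𝔟 p) := (Ideal.Quotient.lift_mk 𝔟 φ₀ hφ₀ker).symm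
    rw [this, map_eq_zero_iff φb hφb_inj, Ideal.Quotient.eq_zero_iff_mem]

/-- The henselization of a finitely presented `A`-algebra is a quotient of a henselized
polynomial ring by a finitely generated ideal. -/
theorem exists_surjective_of_isPairHenselization (R : Type u) [CommRing R] [Algebra A R]
    [Algebra.FinitePresentation A R] (B : Type u) [CommRing B] [Algebra A B] [Algebra R B]
    [IsScalarTower A R B] (hB : Hens2.IsPairHenselization R (I.map (algebraMap A R)) B) :
    ∃ (n : ℕ) (P : Type u) (_ : CommRing P) (_ : Algebra (MvPolynomial (Fin n) A) P)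
      (_ : Algebra A P) (_ : IsScalarTower A (MvPolynomial (Fin n) A) P),
      Hens2.IsPairHenselization (MvPolynomial (Fin n) A)
        (I.map (algebraMap A (MvPolynomial (Fin n) A))) P ∧
      ∃ φ : P →ₐ[A] B, Function.Surjective φ ∧ (RingHom.ker φ).FG := by
  obtain ⟨n, π, hπ, hker⟩ := Algebra.FinitePresentation.out (R := A) (A := R)
  let P := Hzn2 (MvPolynomial (Fin n) A) (I.map (algebraMap A (MvPolynomial (Fin n) A)))
  let _ : Algebra A P := ((algebraMap (MvPolynomial (Fin n) A) P).comp
    (algebraMap A (MvPolynomial (Fin n) A))).toAlgebra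
  have htower : IsScalarTower A (MvPolynomial (Fin n) A) P :=
    IsScalarTower.of_algebraMap_eq (fun _ => rfl)
  have hP : Hens2.IsPairHenselization (MvPolynomial (Fin n) A)
      (I.map (algebraMap A (MvPolynomial (Fin n) A))) P := isPairHenselization _ _
  obtain ⟨φ, hφ, hkerφ⟩ := exists_surjective_of_surjective I R B hB π hπ P hP
  refine ⟨n, P, inferInstance, inferInstance, inferInstance, htower, hP, φ, hφ, ?_⟩
  rw [hkerφ]
  exact hker.map _

/-- A quotient of the henselization of a finitely presented algebra by a finitely generated ideal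
is the henselization of a finitely presented algebra. -/
theorem exists_fp_of_surjective (Q : Type u) [CommRing Q] [Algebra A Q]
    [Algebra.FinitePresentation A Q]
    (P : Type u) [CommRing P] [Algebra Q P] [Algebra A P] [IsScalarTower A Q P]
    (hP : Hens2.IsPairHenselization Q (I.map (algebraMap A Q)) P)
    (B : Type u) [CommRing B] [Algebra A B] (φ : P →ₐ[A] B) (hφ : Function.Surjective φ)
    (hker : (RingHom.ker φ.toRingHom).FG) :
    ∃ (R : Type u) (_ : CommRing R) (_ : Algebra A R) (_ : Algebra R B) (_ : IsScalarTower A R B),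
      Algebra.FinitePresentation A R ∧
        Hens2.IsPairHenselization R (I.map (algebraMap A R)) B := by
  classical
  obtain ⟨s, hs⟩ := hker
  obtain ⟨Q', _, _, hQ', ψ, hψ⟩ := exists_nbhd_of_finset hP s
  have hψ' : ∀ x ∈ s, ∃ a : Q', ψ a = x := fun x hx => hψ x hx
  choose! l hl using hψ'
  let 𝔞 : Ideal Q' := Ideal.span (l '' (s : Set P))
  let _ : Algebra A Q' := ((algebraMap Q Q').comp (algebraMap A Q)).toAlgebra
  have t1 : IsScalarTower A Q Q' := IsScalarTower.of_algebraMap_eq (fun _ => rfl)
  let _ : Algebra Q' P := ψ.toRingHom.toAlgebra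
  have t2 : IsScalarTower Q Q' P := IsScalarTower.of_algebraMap_eq (fun x => (ψ.commutes x).symm)
  have t3 : IsScalarTower A Q' P := IsScalarTower.of_algebraMap_eq (fun a => by
    change algebraMap A P a = ψ (algebraMap Q Q' (algebraMap A Q a))
    rw [ψ.commutes, ← IsScalarTower.algebraMap_apply])
  have hP' : Hens2.IsPairHenselization Q' ((I.map (algebraMap A Q)).map (algebraMap Q Q')) P :=
    isPairHenselization_of_nbhd hQ' hP
  have hq := isPairHenselization_quotient _ hP' 𝔞
  have h𝔞P : 𝔞.map (algebraMap Q' P) = RingHom.ker φ.toRingHom := by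
    rw [← hs, Ideal.map_span]
    congr 1
    rw [Set.image_image]
    ext x
    constructor
    · rintro ⟨y, hy, rfl⟩
      change ψ (l y) ∈ _
      rw [hl y hy]; exact hy
    · intro hx
      exact ⟨x, hx, hl x hx⟩
  have := hQ'.etale
  have f1 : Algebra.FinitePresentation Q Q' := inferInstance
  have f2 : Algebra.FinitePresentation A Q' := Algebra.FinitePresentation.trans A Q Q'
  have h𝔞fg : 𝔞.FG := ⟨s.image l, by simp [𝔞]⟩
  have f3 : Algebra.FinitePresentation A (Q' ⧸ 𝔞) := Algebra.FinitePresentation.quotient h𝔞fg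
  have hφs : Function.Surjective φ.toRingHom := hφ
  let e : (P ⧸ 𝔞.map (algebraMap Q' P)) ≃+* B :=
    (Ideal.quotEquivOfEq h𝔞P).trans (RingHom.quotientKerEquivOfSurjective hφs)
  have he : ∀ p : P, e (Ideal.Quotient.mk _ p) = φ p := fun p => rfl
  let _ : Algebra (Q' ⧸ 𝔞) B :=
    (e.toRingHom.comp (algebraMap (Q' ⧸ 𝔞) (P ⧸ 𝔞.map (algebraMap Q' P)))).toAlgebra
  let e' : (P ⧸ 𝔞.map (algebraMap Q' P)) ≃ₐ[Q' ⧸ 𝔞] B := { e with commutes' := fun r => rfl }
  have hB := isPairHenselization_of_algEquiv _ e' hq
  have t4 : IsScalarTower A (Q' ⧸ 𝔞) B := IsScalarTower.of_algebraMap_eq (fun a => by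
    change algebraMap A B a = e (algebraMap (Q' ⧸ 𝔞) (P ⧸ 𝔞.map (algebraMap Q' P))
      (Ideal.Quotient.mk 𝔞 (algebraMap A Q' a)))
    have h0 : algebraMap (Q' ⧸ 𝔞) (P ⧸ 𝔞.map (algebraMap Q' P))
        (Ideal.Quotient.mk 𝔞 (algebraMap A Q' a)) =
        Ideal.Quotient.mk _ (algebraMap Q' P (algebraMap A Q' a)) := rfl
    rw [h0, he, ← IsScalarTower.algebraMap_apply A Q' P, φ.commutes])
  refine ⟨Q' ⧸ 𝔞, inferInstance, inferInstance, inferInstance, t4, f3, ?_⟩
  have hideal : ((I.map (algebraMap A Q)).map (algebraMap Q Q')).map (Ideal.Quotient.mk 𝔞) =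
      I.map (algebraMap A (Q' ⧸ 𝔞)) := by
    rw [Ideal.map_map, Ideal.map_map]
    rfl
  rw [← hideal]
  exact hB

end Presentation


section Comp

open TensorProduct

variable {A : Type u} [CommRing A] (I : Ideal A)

/-- Auxiliary form of `exists_fp_comp`, with the model `T` over an étale neighbourhood `R'`
given. -/
theorem exists_fp_comp_aux (R : Type u) [CommRing R] [Algebra A R] [Algebra.FinitePresentation A R]
    (B : Type u) [CommRing B] [Algebra R B] [Algebra A B] [IsScalarTower A R B]
    (hB : Hens2.IsPairHenselization R (I.map (algebraMap A R)) B)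
    (S : Type u) [CommRing S] [Algebra B S] [Algebra A S] [IsScalarTower A B S]
    (C : Type u) [CommRing C] [Algebra S C] [Algebra B C] [Algebra A C] [IsScalarTower B S C]
    [IsScalarTower A B C]
    (hC : Hens2.IsPairHenselization S (I.map (algebraMap A S)) C)
    (R' : Type u) [CommRing R'] [Algebra R R'] (hR' : IsNbhd (I.map (algebraMap A R)) R')
    [Algebra R' B] [IsScalarTower R R' B] [Algebra R' S] [IsScalarTower R' B S]
    (T : Type u) [CommRing T] [Algebra R' T] [Algebra.FinitePresentation R' T]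
    (e : B ⊗[R'] T ≃ₐ[B] S) :
    ∃ (T : Type u) (_ : CommRing T) (_ : Algebra A T) (_ : Algebra T C) (_ : IsScalarTower A T C),
      Algebra.FinitePresentation A T ∧
        Hens2.IsPairHenselization T (I.map (algebraMap A T)) C := by
  let _ : Algebra T (B ⊗[R'] T) := Algebra.TensorProduct.rightAlgebra
  let _ : Algebra T S := (e.toRingHom.comp (algebraMap T (B ⊗[R'] T))).toAlgebra
  have t3 : IsScalarTower R' T S := IsScalarTower.of_algebraMap_eq (fun r => by
    change algebraMap R' S r = e (algebraMap T (B ⊗[R'] T) (algebraMap R' T r))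
    rw [← IsScalarTower.algebraMap_apply R' T (B ⊗[R'] T),
      IsScalarTower.algebraMap_apply R' B (B ⊗[R'] T), e.commutes,
      ← IsScalarTower.algebraMap_apply R' B S])
  have hpush : Algebra.IsPushout R' B T S :=
    Algebra.IsPushout.of_equiv (R := R') (R' := B) (S := T) (S' := B ⊗[R'] T) e rfl
  -- `B` is a henselization of `(R', IR')`
  have hB' : Hens2.IsPairHenselization R' ((I.map (algebraMap A R)).map (algebraMap R R')) B :=
    isPairHenselization_of_nbhd hR' hB
  let _ : Algebra T C := ((algebraMap S C).comp (algebraMap T S)).toAlgebra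
  have t4 : IsScalarTower T S C := IsScalarTower.of_algebraMap_eq (fun _ => rfl)
  -- algebra structures over `A`
  let _ : Algebra A R' := ((algebraMap R R').comp (algebraMap A R)).toAlgebra
  have t5 : IsScalarTower A R R' := IsScalarTower.of_algebraMap_eq (fun _ => rfl)
  let _ : Algebra A T := ((algebraMap R' T).comp (algebraMap A R')).toAlgebra
  have t6 : IsScalarTower A R' T := IsScalarTower.of_algebraMap_eq (fun _ => rfl)
  have := hR'.etale
  have f2 : Algebra.FinitePresentation R R' := inferInstance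
  have f3 : Algebra.FinitePresentation A R' := Algebra.FinitePresentation.trans A R R'
  have f4 : Algebra.FinitePresentation A T := Algebra.FinitePresentation.trans A R' T
  have hAS : ∀ a : A, algebraMap R' S (algebraMap A R' a) = algebraMap A S a := by
    intro a
    change algebraMap R' S (algebraMap R R' (algebraMap A R a)) = _
    rw [IsScalarTower.algebraMap_apply R' B S, ← IsScalarTower.algebraMap_apply R R' B,
      ← IsScalarTower.algebraMap_apply A R B, ← IsScalarTower.algebraMap_apply A B S]
  have hidealS : ((I.map (algebraMap A R)).map (algebraMap R R')).map (algebraMap R' S) =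
      I.map (algebraMap A S) := by
    rw [Ideal.map_map, Ideal.map_map]
    congr 1
    ext a
    exact hAS a
  have hC' : Hens2.IsPairHenselization S
      (((I.map (algebraMap A R)).map (algebraMap R R')).map (algebraMap R' S)) C := by
    rw [hidealS]; exact hC
  have hT := isPairHenselization_of_isPushout (R₀ := R') (B := B) (T := T) (S := S) (C := C)
    ((I.map (algebraMap A R)).map (algebraMap R R')) hB' hC'
  have t7 : IsScalarTower A T C := IsScalarTower.of_algebraMap_eq (fun a => by
    change algebraMap A C a = algebraMap S C (algebraMap T S (algebraMap R' T (algebraMap A R' a)))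
    rw [← IsScalarTower.algebraMap_apply R' T S, hAS, IsScalarTower.algebraMap_apply A B S,
      ← IsScalarTower.algebraMap_apply B S C, ← IsScalarTower.algebraMap_apply A B C])
  refine ⟨T, inferInstance, inferInstance, inferInstance, t7, f4, ?_⟩
  have hidealT : ((I.map (algebraMap A R)).map (algebraMap R R')).map (algebraMap R' T) =
      I.map (algebraMap A T) := by
    rw [Ideal.map_map, Ideal.map_map]
    rfl
  rw [← hidealT]
  exact hT

/-- Composition of henselian finitely presented maps. -/
theorem exists_fp_comp (R : Type u) [CommRing R] [Algebra A R] [Algebra.FinitePresentation A R]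
    (B : Type u) [CommRing B] [Algebra R B] [Algebra A B] [IsScalarTower A R B]
    (hB : Hens2.IsPairHenselization R (I.map (algebraMap A R)) B)
    (S : Type u) [CommRing S] [Algebra B S] [Algebra A S] [IsScalarTower A B S]
    [Algebra.FinitePresentation B S]
    (C : Type u) [CommRing C] [Algebra S C] [Algebra B C] [Algebra A C] [IsScalarTower B S C]
    [IsScalarTower A B C]
    (hC : Hens2.IsPairHenselization S (I.map (algebraMap A S)) C) :
    ∃ (T : Type u) (_ : CommRing T) (_ : Algebra A T) (_ : Algebra T C) (_ : IsScalarTower A T C),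
      Algebra.FinitePresentation A T ∧
        Hens2.IsPairHenselization T (I.map (algebraMap A T)) C := by
  classical
  let Pres := Algebra.Presentation.ofFinitePresentation B S
  obtain ⟨R', _, _, hR', φ, hφ⟩ := exists_nbhd_of_finset hB Pres.finite_coeffs.toFinset
  let _ : Algebra R' B := φ.toRingHom.toAlgebra
  have t1 : IsScalarTower R R' B := IsScalarTower.of_algebraMap_eq (fun x => (φ.commutes x).symm)
  let _ : Algebra R' S := ((algebraMap B S).comp (algebraMap R' B)).toAlgebra
  have t2 : IsScalarTower R' B S := IsScalarTower.of_algebraMap_eq (fun _ => rfl)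
  have hcoeffs : Pres.HasCoeffs R' := ⟨fun x hx => by
    obtain ⟨a, ha⟩ := hφ x (by simpa using hx)
    exact ⟨a, ha⟩⟩
  exact exists_fp_comp_aux I R B hB S C hC R' hR' (Pres.ModelOfHasCoeffs R')
    (Pres.tensorModelOfHasCoeffsEquiv R')

end Comp


section Hom

open TensorProduct

variable {A : Type u} [CommRing A] (I : Ideal A)

/-- Auxiliary form of `exists_fp_of_algebra`. -/
theorem exists_fp_of_algebra_aux (R : Type u) [CommRing R] [Algebra A R]
    [Algebra.FinitePresentation A R]
    (B : Type u) [CommRing B] [Algebra R B] [Algebra A B] [IsScalarTower A R B]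
    (hB : Hens2.IsPairHenselization R (I.map (algebraMap A R)) B)
    (C : Type u) [CommRing C] [Algebra A C] [Algebra B C] [IsScalarTower A B C]
    (S' : Type u) [CommRing S'] [Algebra A S'] [Algebra.FinitePresentation A S'] [Algebra R S']
    [IsScalarTower A R S'] [Algebra S' C] [Algebra R C] [IsScalarTower R B C]
    [IsScalarTower R S' C]
    (hC : Hens2.IsPairHenselization S' (I.map (algebraMap A S')) C) :
    ∃ (T : Type u) (_ : CommRing T) (_ : Algebra B T) (_ : Algebra T C) (_ : IsScalarTower B T C),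
      Algebra.FinitePresentation B T ∧
      Hens2.IsPairHenselization T ((I.map (algebraMap A B)).map (algebraMap B T)) C := by
  have f1 : Algebra.FinitePresentation R S' :=
    Algebra.FinitePresentation.of_restrict_scalars_finitePresentation A R S'
  let _ : Algebra S' (B ⊗[R] S') := Algebra.TensorProduct.rightAlgebra
  let β : B →ₐ[R] C := IsScalarTower.toAlgHom R B C
  let γ : S' →ₐ[R] C := IsScalarTower.toAlgHom R S' C
  let _ : Algebra (B ⊗[R] S') C := (Algebra.TensorProduct.productMap β γ).toRingHom.toAlgebra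
  have t1 : IsScalarTower B (B ⊗[R] S') C := IsScalarTower.of_algebraMap_eq (fun b => by
    change algebraMap B C b = Algebra.TensorProduct.productMap β γ (b ⊗ₜ 1)
    rw [Algebra.TensorProduct.productMap_apply_tmul, map_one, mul_one]
    rfl)
  have t2 : IsScalarTower S' (B ⊗[R] S') C := IsScalarTower.of_algebraMap_eq (fun s => by
    change algebraMap S' C s = Algebra.TensorProduct.productMap β γ (1 ⊗ₜ s)
    rw [Algebra.TensorProduct.productMap_apply_tmul, map_one, one_mul]
    rfl)
  have hideal1 : (I.map (algebraMap A R)).map (algebraMap R S') = I.map (algebraMap A S') := by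
    rw [Ideal.map_map, ← IsScalarTower.algebraMap_eq]
  have hC' : Hens2.IsPairHenselization S' ((I.map (algebraMap A R)).map (algebraMap R S')) C := by
    rw [hideal1]; exact hC
  have hT := isPairHenselization_isPushout_of (R₀ := R) (B := B) (T := S') (S := B ⊗[R] S')
    (C := C) (I.map (algebraMap A R)) hB hC'
  refine ⟨B ⊗[R] S', inferInstance, inferInstance, inferInstance, t1, inferInstance, ?_⟩
  have hideal2 : (I.map (algebraMap A B)).map (algebraMap B (B ⊗[R] S')) =
      (I.map (algebraMap A R)).map (algebraMap R (B ⊗[R] S')) := by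
    rw [Ideal.map_map, Ideal.map_map, IsScalarTower.algebraMap_eq A R B, ← RingHom.comp_assoc,
      ← IsScalarTower.algebraMap_eq R B (B ⊗[R] S')]
  rw [hideal2]
  exact hT

/-- Any `A`-algebra map between henselizations of finitely presented `A`-algebras is henselian
finitely presented. -/
theorem exists_fp_of_algebra (R : Type u) [CommRing R] [Algebra A R]
    [Algebra.FinitePresentation A R]
    (B : Type u) [CommRing B] [Algebra R B] [Algebra A B] [IsScalarTower A R B]
    (hB : Hens2.IsPairHenselization R (I.map (algebraMap A R)) B)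
    (S : Type u) [CommRing S] [Algebra A S] [Algebra.FinitePresentation A S]
    (C : Type u) [CommRing C] [Algebra S C] [Algebra A C] [IsScalarTower A S C]
    (hC : Hens2.IsPairHenselization S (I.map (algebraMap A S)) C)
    [Algebra B C] [IsScalarTower A B C] :
    ∃ (T : Type u) (_ : CommRing T) (_ : Algebra B T) (_ : Algebra T C) (_ : IsScalarTower B T C),
      Algebra.FinitePresentation B T ∧
      Hens2.IsPairHenselization T ((I.map (algebraMap A B)).map (algebraMap B T)) C := by
  let ρ : R →ₐ[A] C :=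
    { toRingHom := (algebraMap B C).comp (algebraMap R B)
      commutes' := fun a => by
        change algebraMap B C (algebraMap R B (algebraMap A R a)) = algebraMap A C a
        rw [← IsScalarTower.algebraMap_apply A R B, ← IsScalarTower.algebraMap_apply A B C] }
  obtain ⟨S', _, _, hS', φ, ρ', hρ'1, hρ'2⟩ := exists_factor (k := A) hC ρ
  let _ : Algebra A S' := ((algebraMap S S').comp (algebraMap A S)).toAlgebra
  have t1 : IsScalarTower A S S' := IsScalarTower.of_algebraMap_eq (fun _ => rfl)
  let _ : Algebra R S' := ρ'.toAlgebra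
  have t2 : IsScalarTower A R S' := IsScalarTower.of_algebraMap_eq (fun a =>
    (congrArg (fun k : A →+* S' => k a) hρ'1).symm)
  let _ : Algebra S' C := φ.toRingHom.toAlgebra
  have t3 : IsScalarTower S S' C := IsScalarTower.of_algebraMap_eq (fun x => (φ.commutes x).symm)
  let _ : Algebra R C := ((algebraMap B C).comp (algebraMap R B)).toAlgebra
  have t4 : IsScalarTower R B C := IsScalarTower.of_algebraMap_eq (fun _ => rfl)
  have t5 : IsScalarTower R S' C := IsScalarTower.of_algebraMap_eq (fun r =>
    (congrArg (fun k : R →+* C => k r) hρ'2).symm)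
  have := hS'.etale
  have f1 : Algebra.FinitePresentation S S' := inferInstance
  have f2 : Algebra.FinitePresentation A S' := Algebra.FinitePresentation.trans A S S'
  have hC' : Hens2.IsPairHenselization S' ((I.map (algebraMap A S)).map (algebraMap S S')) C :=
    isPairHenselization_of_nbhd hS' hC
  have hideal : (I.map (algebraMap A S)).map (algebraMap S S') = I.map (algebraMap A S') := by
    rw [Ideal.map_map, ← IsScalarTower.algebraMap_eq]
  rw [hideal] at hC'
  exact exists_fp_of_algebra_aux I R B hB C S' hC'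

end Hom

end Groth.Agent.Lib.HFP
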