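import Groth.Agent.Lib.PairHenselizationCRT
import Groth.Agent.Lib.HFP
import Mathlib.RingTheory.ZariskisMainTheorem

/-!
# Finite type algebras over a henselian pair with finite special fibre

Let `(A, I)` be a henselian pair and `R` a finite type `A`-algebra with `R/IR` finite over `A`.
Then there is an idempotent `e ∈ R` with `1 - e ∈ IR` such that `eR` is integral over `A`
(`exists_idempotent_of_finite_quotient`).
-/

set_option autoImplicit false
universe u

namespace Groth.Agent.Lib.HenselQFDecomp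

open Groth.Agent.Lib.PairHenselizationCRT

variable {A R : Type u} [CommRing A] [CommRing R] [Algebra A R]

/-- The set of elements `r` that are integral over `A` and such that `R[1/r]` is integral over
`A[1/r]`-ish: for every `x` some `r ^ m * x` is integral. -/
def good (A R : Type u) [CommRing A] [CommRing R] [Algebra A R] : Set R :=
  {r | IsIntegral A r ∧ ∀ x, ∃ m, IsIntegral A (r ^ m * x)}

/-- Zariski's main theorem, in the form we need: the good elements together with `IR` generate the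
unit ideal when `R/IR` is finite. -/
theorem span_good_sup_eq_top (I : Ideal A) [Algebra.FiniteType A R]
    (hfin : Module.Finite A (R ⧸ I.map (algebraMap A R))) :
    Ideal.span (good A R) ⊔ I.map (algebraMap A R) = ⊤ := by
  by_contra h
  obtain ⟨q, hqmax, hle⟩ := Ideal.exists_le_maximal _ h
  have hqp : q.IsPrime := hqmax.isPrime
  have hIq : I ≤ q.under A := by
    intro a ha
    exact (le_sup_right.trans hle) (Ideal.mem_map_of_mem _ ha)
  have hle' : I.map (algebraMap A R) ≤ (q.under A).map (algebraMap A R) := Ideal.map_mono hIq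
  have hfin' : Module.Finite A (R ⧸ (q.under A).map (algebraMap A R)) :=
    Module.Finite.of_surjective (Ideal.Quotient.factorₐ A hle').toLinearMap
      (Ideal.Quotient.factor_surjective hle')
  have hw : Algebra.WeaklyQuasiFiniteAt A q := by
    change Algebra.QuasiFinite A (Localization.AtPrime _)
    infer_instance
  obtain ⟨r, hrq, hr1, hr2⟩ := Algebra.zariskisMainProperty_iff.1
    (Algebra.ZariskisMainProperty.of_finiteType_of_weaklyQuasiFiniteAt (R := A) q)
  exact hrq (hle (Ideal.mem_sup_left (Ideal.subset_span ⟨hr1, hr2⟩)))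


section Decomp

variable (I : Ideal A)

local notation "A'" => integralClosure A R

/-- The extension of `I` to the integral closure maps into `IR`. -/
theorem coe_mem_of_mem_map {t : A'} (ht : t ∈ I.map (algebraMap A A')) :
    (t : R) ∈ I.map (algebraMap A R) := by
  have := Ideal.mem_map_of_mem (A').val.toRingHom ht
  rw [Ideal.map_map] at this
  have h2 : (A').val.toRingHom.comp (algebraMap A A') = algebraMap A R :=
    (A').val.comp_algebraMap
  rwa [h2] at this

/-- For a good element `r` and `w ∈ IR`, a power of `r` moves `w` into `I A'`. -/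
theorem exists_pow_mul_mem (r : A') (hr : (r : R) ∈ good A R) {w : R}
    (hw : w ∈ I.map (algebraMap A R)) :
    ∃ N, ∀ n, N ≤ n → ∃ t ∈ I.map (algebraMap A A'), (t : R) = (r : R) ^ n * w := by
  refine Submodule.span_induction (p := fun w _ => ∃ N, ∀ n, N ≤ n →
    ∃ t ∈ I.map (algebraMap A A'), (t : R) = (r : R) ^ n * w) ?_ ?_ ?_ ?_ hw
  · rintro _ ⟨i, hi, rfl⟩
    refine ⟨0, fun n _ => ⟨r ^ n * algebraMap A A' i, ?_, ?_⟩⟩
    · exact Ideal.mul_mem_left _ _ (Ideal.mem_map_of_mem _ hi)
    · rfl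
  · exact ⟨0, fun n _ => ⟨0, Ideal.zero_mem _, by simp⟩⟩
  · rintro x y _ _ ⟨N₁, h₁⟩ ⟨N₂, h₂⟩
    refine ⟨max N₁ N₂, fun n hn => ?_⟩
    obtain ⟨t₁, ht₁, e₁⟩ := h₁ n (le_trans (le_max_left _ _) hn)
    obtain ⟨t₂, ht₂, e₂⟩ := h₂ n (le_trans (le_max_right _ _) hn)
    refine ⟨t₁ + t₂, Ideal.add_mem _ ht₁ ht₂, ?_⟩
    rw [mul_add, ← e₁, ← e₂]; rfl
  · rintro c x _ ⟨N, h⟩
    obtain ⟨m, hm⟩ := hr.2 c
    refine ⟨m + N, fun n hn => ?_⟩
    obtain ⟨k, rfl⟩ := Nat.exists_eq_add_of_le hn
    obtain ⟨t, ht, e⟩ := h (N + k) (Nat.le_add_right _ _)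
    refine ⟨⟨(r : R) ^ m * c, hm⟩ * t, Ideal.mul_mem_left _ _ ht, ?_⟩
    change (r : R) ^ m * c * (t : R) = _
    rw [e, smul_eq_mul]
    ring

/-- **Decomposition of quasi-finite algebras over a henselian pair.** -/
theorem exists_idempotent_of_finite_quotient [HenselianRing A I] [Algebra.FiniteType A R]
    (hfin : Module.Finite A (R ⧸ I.map (algebraMap A R))) :
    ∃ e : R, IsIdempotentElem e ∧ 1 - e ∈ I.map (algebraMap A R) ∧
      ∀ y : R, IsIntegral A (e * y) := by
  set IR := I.map (algebraMap A R) with hIR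
  set J' : Ideal A' := I.map (algebraMap A A') with hJ'
  have hJ'h : HenselianRing A' J' :=
    Groth.Agent.Lib.HenselIdem.henselianRing_of_isIntegral (A := A) (B := A') I
  have hG := span_good_sup_eq_top I hfin
  -- the ideal of `A'` generated by the good elements
  let 𝔞 : Ideal A' := Ideal.span {t : A' | (t : R) ∈ good A R}
  obtain ⟨g, hg, z, hz, hgz⟩ := Submodule.mem_sup.1 (hG ▸ Submodule.mem_top : (1 : R) ∈ _)
  -- Nakayama
  let M := R ⧸ IR
  have hMfin : Module.Finite A' M := Module.Finite.of_restrictScalars_finite A A' M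
  have hmk : ∀ (t : A') (m : R), t • (Ideal.Quotient.mk IR m) = Ideal.Quotient.mk IR ((t : R) * m) :=
    fun t m => rfl
  have hkey : ∀ g ∈ Ideal.span (good A R), ∀ c : R,
      Ideal.Quotient.mk IR (c * g) ∈ 𝔞 • (⊤ : Submodule A' M) := by
    intro g hg
    refine Submodule.span_induction (p := fun g _ => ∀ c : R,
      Ideal.Quotient.mk IR (c * g) ∈ 𝔞 • (⊤ : Submodule A' M)) ?_ ?_ ?_ ?_ hg
    · intro r hr c
      have : Ideal.Quotient.mk IR (c * r) = (⟨r, hr.1⟩ : A') • Ideal.Quotient.mk IR c := by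
        rw [hmk, mul_comm]
      rw [this]
      exact Submodule.smul_mem_smul (Ideal.subset_span hr) Submodule.mem_top
    · intro c; rw [mul_zero, map_zero]; exact Submodule.zero_mem _
    · intro x y _ _ hx hy c
      rw [mul_add, map_add]; exact Submodule.add_mem _ (hx c) (hy c)
    · intro d x _ hx c
      rw [smul_eq_mul, ← mul_assoc]; exact hx (c * d)
  have htop : (⊤ : Submodule A' M) ≤ 𝔞 • (⊤ : Submodule A' M) := by
    intro m _
    obtain ⟨m, rfl⟩ := Ideal.Quotient.mk_surjective m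
    have h1 : Ideal.Quotient.mk IR m = Ideal.Quotient.mk IR (m * g) := by
      rw [Ideal.Quotient.eq]
      have : m - m * g = m * z := by linear_combination (-m) * hgz
      rw [this]
      exact Ideal.mul_mem_left _ _ hz
    rw [h1]
    exact hkey g hg m
  obtain ⟨x', hx'1, hx'2⟩ := Submodule.exists_sub_one_mem_and_smul_eq_zero_of_fg_of_le_smul 𝔞
    (⊤ : Submodule A' M) hMfin.1 htop
  have hx'IR : (x' : R) ∈ IR := by
    have := hx'2 (Ideal.Quotient.mk IR 1) Submodule.mem_top
    rw [hmk, mul_one] at this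
    exact Ideal.Quotient.eq_zero_iff_mem.1 this
  set x : A' := 1 - x' with hx
  have hx𝔞 : x ∈ 𝔞 := by
    have : x = -(x' - 1) := by rw [hx]; ring
    rw [this]; exact neg_mem hx'1
  -- a power of `x` moves `x'` into `J'`
  let 𝔡 : Ideal A' := Submodule.comap (LinearMap.mulLeft A' x') J'
  have h𝔡 : ∀ t, t ∈ 𝔡 ↔ x' * t ∈ J' := fun t => Iff.rfl
  have h𝔞𝔡 : 𝔞 ≤ 𝔡.radical := by
    rw [Ideal.span_le]
    intro r hr
    obtain ⟨N, hN⟩ := exists_pow_mul_mem I r hr hx'IR
    obtain ⟨t, ht, e⟩ := hN N le_rfl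
    refine ⟨N, ?_⟩
    rw [h𝔡]
    have : x' * r ^ N = t := by
      apply Subtype.ext
      rw [e, mul_comm]; rfl
    rw [this]; exact ht
  obtain ⟨M₀, hM₀⟩ := h𝔞𝔡 hx𝔞
  rw [h𝔡] at hM₀
  -- the idempotent modulo `J'`
  set M' := M₀ + 1 with hM'
  have hab : x ^ M' * x' ^ M' ∈ J' := by
    have : x ^ M' * x' ^ M' = (x' * x ^ M₀) * (x * x' ^ M₀) := by
      rw [hM', pow_succ, pow_succ]; ring
    rw [this]
    exact Ideal.mul_mem_right _ _ hM₀
  have hcop : IsCoprime (x ^ M') (x' ^ M') := by
    apply IsCoprime.pow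
    exact ⟨1, 1, by rw [hx]; ring⟩
  obtain ⟨u, v, huv⟩ := hcop
  set e₀ : A' := u * x ^ M' with he₀
  have he₀idem : e₀ * e₀ - e₀ ∈ J' := by
    have : e₀ * e₀ - e₀ = -(u * v) * (x ^ M' * x' ^ M') := by
      rw [he₀]
      linear_combination (u * x ^ M') * huv
    rw [this]
    exact Ideal.mul_mem_left _ _ hab
  obtain ⟨e, heidem, hee₀⟩ := exists_idempotent_lift J' e₀ he₀idem
  have he𝔞 : e ∈ 𝔞 := by
    have he₀𝔞 : e₀ ∈ 𝔞 := by
      rw [he₀, hM', pow_succ]
      exact Ideal.mul_mem_left _ _ (Ideal.mul_mem_left _ _ hx𝔞)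
    set ι := e - e₀ with hι
    have hunit : IsUnit (1 - ι) := by
      have := Ideal.mem_jacobson_bot.1 (hJ'h.jac (neg_mem hee₀)) 1
      rwa [mul_one, neg_add_eq_sub] at this
    have h1 : e * (1 - ι) = e * e₀ := by
      have he' : e * e = e := heidem
      rw [hι]
      linear_combination (-1 : A') * he'
    obtain ⟨w, hw⟩ := hunit.exists_right_inv
    have : e = e * e₀ * w := by
      rw [← h1, mul_assoc, hw, mul_one]
    rw [this]
    exact Ideal.mul_mem_right _ _ (Ideal.mul_mem_left _ _ he₀𝔞)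
  refine ⟨(e : R), ?_, ?_, ?_⟩
  · change (e : R) * (e : R) = (e : R)
    have : ((e * e : A') : R) = (e : R) := congrArg Subtype.val heidem
    exact this
  · -- `1 - e ∈ IR`
    have h1 : (1 : A') - e = v * x' ^ M' - (e - e₀) := by
      linear_combination (-1 : A') * huv
    have h2 : ((1 - e : A') : R) ∈ IR := by
      rw [h1]
      have h3 : ((v * x' ^ M' : A') : R) ∈ IR := by
        change (v : R) * (x' : R) ^ M' ∈ IR
        rw [hM', pow_succ]
        exact Ideal.mul_mem_left _ _ (Ideal.mul_mem_left _ _ hx'IR)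
      have h4 : ((e - e₀ : A') : R) ∈ IR := coe_mem_of_mem_map I hee₀
      exact Ideal.sub_mem _ h3 h4
    exact h2
  · intro y
    let 𝔠 : Ideal A' :=
      { carrier := {t | IsIntegral A ((t : R) * y)}
        add_mem' := fun {a b} ha hb => by
          change IsIntegral A (((a + b : A') : R) * y)
          have : ((a + b : A') : R) * y = (a : R) * y + (b : R) * y := by
            change ((a : R) + (b : R)) * y = _; ring
          rw [this]; exact ha.add hb
        zero_mem' := by
          change IsIntegral A (((0 : A') : R) * y)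
          have : ((0 : A') : R) * y = 0 := by change (0 : R) * y = 0; ring
          rw [this]; exact isIntegral_zero
        smul_mem' := fun c a ha => by
          change IsIntegral A (((c * a : A') : R) * y)
          have : ((c * a : A') : R) * y = (c : R) * ((a : R) * y) := by
            change ((c : R) * (a : R)) * y = _; ring
          rw [this]; exact c.2.mul ha }
    have h𝔞𝔠 : 𝔞 ≤ 𝔠.radical := by
      rw [Ideal.span_le]
      intro r hr
      obtain ⟨m, hm⟩ := hr.2 y
      exact ⟨m, hm⟩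
    obtain ⟨L, hL⟩ := h𝔞𝔠 he𝔞
    have : e ∈ 𝔠 := by
      rcases Nat.eq_zero_or_pos L with rfl | hLpos
      · rw [pow_zero] at hL
        have := 𝔠.mul_mem_left e hL
        rwa [mul_one] at this
      · obtain ⟨k, rfl⟩ := Nat.exists_eq_succ_of_ne_zero hLpos.ne'
        rwa [heidem.pow_succ_eq] at hL
    exact this

end Decomp


section Finite

open Groth.Agent.Lib.HFP Groth.Agent.Lib.PairEtaleNbhd Groth.Agent.Lib.PairHenselizationIntegral

/-- A henselian finitely presented algebra over a henselian pair with finite special fibre is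
finite and finitely presented. -/
theorem finite_of_finite_quotient {A : Type u} [CommRing A] (I : Ideal A) [HenselianRing A I]
    (R : Type u) [CommRing R] [Algebra A R] [Algebra.FinitePresentation A R]
    (B : Type u) [CommRing B] [Algebra R B] [Algebra A B] [IsScalarTower A R B]
    (hB : Hens2.IsPairHenselization R (I.map (algebraMap A R)) B)
    (hfin : Module.Finite A (B ⧸ I.map (algebraMap A B))) :
    Module.Finite A B ∧ Algebra.FinitePresentation A B := by
  have hideal : (I.map (algebraMap A R)).map (algebraMap R B) = I.map (algebraMap A B) := by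
    rw [Ideal.map_map, ← IsScalarTower.algebraMap_eq]
  have hq := qbij_of_isPairHenselization hB
  -- `R/IR` is finite over `A`
  have hle : I.map (algebraMap A R) ≤
      (I.map (algebraMap A B)).comap (IsScalarTower.toAlgHom A R B) := by
    rw [← hideal]; exact Ideal.le_comap_map
  let φ : R ⧸ I.map (algebraMap A R) →ₐ[A] B ⧸ I.map (algebraMap A B) :=
    Ideal.quotientMapₐ (I.map (algebraMap A B)) (IsScalarTower.toAlgHom A R B) hle
  have hφmk : ∀ r, φ (Ideal.Quotient.mk _ r) = Ideal.Quotient.mk _ (algebraMap R B r) :=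
    fun r => rfl
  have hφbij : Function.Bijective φ := by
    constructor
    · rw [injective_iff_map_eq_zero]
      intro x hx
      obtain ⟨r, rfl⟩ := Ideal.Quotient.mk_surjective x
      rw [hφmk, Ideal.Quotient.eq_zero_iff_mem, ← hideal] at hx
      exact Ideal.Quotient.eq_zero_iff_mem.2 (hq.mem_of_algebraMap_mem hx)
    · intro y
      obtain ⟨b, rfl⟩ := Ideal.Quotient.mk_surjective y
      obtain ⟨r, hr⟩ := hq.exists_sub_mem b
      refine ⟨Ideal.Quotient.mk _ r, ?_⟩
      rw [hφmk]
      rw [hideal] at hr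
      exact (Ideal.Quotient.eq.2 hr).symm
  have hfinR : Module.Finite A (R ⧸ I.map (algebraMap A R)) :=
    Module.Finite.equiv (LinearEquiv.ofBijective φ.toLinearMap hφbij).symm
  obtain ⟨e, heidem, he1, heint⟩ := exists_idempotent_of_finite_quotient I hfinR
  -- the finite factor
  set 𝔞 : Ideal R := Ideal.span {1 - e} with h𝔞
  have hmke : Ideal.Quotient.mk 𝔞 e = 1 := by
    have h0 : Ideal.Quotient.mk 𝔞 (1 - e) = 0 :=
      Ideal.Quotient.eq_zero_iff_mem.2 (Ideal.mem_span_singleton_self _)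
    have h1 : Ideal.Quotient.mk 𝔞 e = Ideal.Quotient.mk 𝔞 1 - Ideal.Quotient.mk 𝔞 (1 - e) := by
      rw [← map_sub]; congr 1; ring
    rw [h1, h0, sub_zero, map_one]
  have hint : Algebra.IsIntegral A (R ⧸ 𝔞) := ⟨fun x => by
    obtain ⟨y, rfl⟩ := Ideal.Quotient.mk_surjective x
    have h1 : Ideal.Quotient.mk 𝔞 y = Ideal.Quotient.mkₐ A 𝔞 (e * y) := by
      rw [Ideal.Quotient.mkₐ_eq_mk, map_mul, hmke, one_mul]
    rw [h1]
    exact (heint y).map (Ideal.Quotient.mkₐ A 𝔞)⟩
  have hfinR₁ : Module.Finite A (R ⧸ 𝔞) := Algebra.IsIntegral.finite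
  have hfpR₁ : Algebra.FinitePresentation A (R ⧸ 𝔞) :=
    Algebra.FinitePresentation.quotient ⟨{1 - e}, by simp [h𝔞]⟩
  have hhens : HenselianRing (R ⧸ 𝔞) (I.map (algebraMap A (R ⧸ 𝔞))) :=
    Groth.Agent.Lib.HenselIdem.henselianRing_of_isIntegral (A := A) (B := R ⧸ 𝔞) I
  have hquot := isPairHenselization_quotient (I.map (algebraMap A R)) hB 𝔞
  have hideal2 : (I.map (algebraMap A R)).map (Ideal.Quotient.mk 𝔞) =
      I.map (algebraMap A (R ⧸ 𝔞)) := by
    rw [Ideal.map_map]; rfl
  rw [hideal2] at hquot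
  have hself := isPairHenselization_self (I.map (algebraMap A (R ⧸ 𝔞)))
  set 𝔟 : Ideal B := 𝔞.map (algebraMap R B) with h𝔟
  have hψ : Function.Bijective (algebraMap (R ⧸ 𝔞) (B ⧸ 𝔟)) :=
    bijective_of_isPairHenselization _ hself hquot (algebraMap (R ⧸ 𝔞) (B ⧸ 𝔟))
      (by rw [Algebra.algebraMap_self, RingHom.comp_id])
  -- `𝔟 = 0`
  have hBh : HenselianRing B ((I.map (algebraMap A R)).map (algebraMap R B)) := hB.1
  have hzero : algebraMap R B (1 - e) = 0 := by
    apply idempotent_eq_of_sub_mem ((I.map (algebraMap A R)).map (algebraMap R B))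
      (heidem.one_sub.map (algebraMap R B)) IsIdempotentElem.zero
    rw [sub_zero]
    exact Ideal.mem_map_of_mem _ he1
  have h𝔟bot : 𝔟 = ⊥ := by
    rw [h𝔟, h𝔞, Ideal.map_span, Set.image_singleton, hzero]
    exact Ideal.span_singleton_eq_bot.2 rfl
  have hθ : Function.Bijective (Ideal.Quotient.mkₐ A 𝔟) := by
    constructor
    · rw [injective_iff_map_eq_zero]
      intro b hb
      rw [Ideal.Quotient.mkₐ_eq_mk, Ideal.Quotient.eq_zero_iff_mem, h𝔟bot] at hb
      exact hb
    · exact Ideal.Quotient.mk_surjective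
  let ψₐ : R ⧸ 𝔞 →ₐ[A] B ⧸ 𝔟 :=
    Ideal.quotientMapₐ 𝔟 (IsScalarTower.toAlgHom A R B) Ideal.le_comap_map
  have hψₐ : Function.Bijective ψₐ := by
    have : (ψₐ : R ⧸ 𝔞 → B ⧸ 𝔟) = algebraMap (R ⧸ 𝔞) (B ⧸ 𝔟) := by
      funext x
      obtain ⟨r, rfl⟩ := Ideal.Quotient.mk_surjective x
      rfl
    rw [this]; exact hψ
  let E : (R ⧸ 𝔞) ≃ₐ[A] B :=
    (AlgEquiv.ofBijective ψₐ hψₐ).trans (AlgEquiv.ofBijective (Ideal.Quotient.mkₐ A 𝔟) hθ).symm
  exact ⟨Module.Finite.equiv E.toLinearEquiv, Algebra.FinitePresentation.equiv E⟩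

end Finite

end Groth.Agent.Lib.HenselQFDecomp
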