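
import Groth.Agent.Lib.HenselEtaleLift
import Groth.Agent.Lib.HenselIdem
import Groth.Agent.Lib.HenselQFDecomp
import Groth.Agent.S9436
import Groth.Prelude.Def_FEt
import Groth.Agent.Lib.PairHenselizationLocal

set_option autoImplicit false
set_option linter.style.haveILetI false
universe u

open CategoryTheory CategoryTheory.Limits AlgebraicGeometry Opposite TensorProduct

namespace Groth.Agent.Lib.H15FEtHenselPair

section ring

theorem ring_lemma {R C B C₀ R₀ : CommRingCat.{u}} (α : R ⟶ C) (β : R ⟶ B) (π : C ⟶ C₀)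
    (ι : R ⟶ R₀) (σ : R₀ ⟶ C₀) (h : IsPushout α ι π σ) (hι : Function.Surjective ι.hom)
    (hH : HenselianRing R (RingHom.ker ι.hom)) (hα : α.hom.IsIntegral) (hβ : β.hom.Etale)
    (ψ : B ⟶ C₀) (hψ : β ≫ ψ = α ≫ π) : ∃! φ : B ⟶ C, β ≫ φ = α ∧ φ ≫ π = ψ := by
  letI : Algebra R C := α.hom.toAlgebra
  letI : Algebra R B := β.hom.toAlgebra
  haveI : Algebra.IsIntegral R C := ⟨hα⟩
  haveI : Algebra.Etale R B := hβ
  let K : Ideal R := RingHom.ker ι.hom
  let J : Ideal C := K.map (algebraMap R C)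
  haveI : HenselianRing C J := Groth.Agent.Lib.HenselIdem.henselianRing_of_isIntegral K
  have hJ : J ≤ Ideal.jacobson ⊥ := HenselianRing.jac
  have hαalg : ∀ r : R, algebraMap R C r = α.hom r := fun r => rfl
  have hβalg : ∀ r : R, algebraMap R B r = β.hom r := fun r => rfl
  have hsq : ∀ r : R, π.hom (α.hom r) = σ.hom (ι.hom r) := fun r =>
    ConcreteCategory.congr_hom h.w r
  have hψ' : ∀ r : R, ψ.hom (β.hom r) = π.hom (α.hom r) := fun r =>
    ConcreteCategory.congr_hom hψ r
  -- τ : R₀ → C/J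
  have hker : RingHom.ker ι.hom ≤ RingHom.ker ((Ideal.Quotient.mk J).comp α.hom) := by
    intro r hr
    rw [RingHom.mem_ker, RingHom.comp_apply, Ideal.Quotient.eq_zero_iff_mem]
    exact Ideal.mem_map_of_mem _ hr
  let τ : R₀ →+* C ⧸ J := RingHom.liftOfSurjective ι.hom hι ⟨_, hker⟩
  have hτ : ∀ r : R, τ (ι.hom r) = Ideal.Quotient.mk J (α.hom r) := fun r =>
    RingHom.liftOfRightInverse_comp_apply _ _ _ _ r
  let u : C₀ ⟶ CommRingCat.of (C ⧸ J) :=
    h.desc (CommRingCat.ofHom (Ideal.Quotient.mk J)) (CommRingCat.ofHom τ) (by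
      ext r
      exact (hτ r).symm)
  have hu1 : ∀ c : C, u.hom (π.hom c) = Ideal.Quotient.mk J c := fun c =>
    ConcreteCategory.congr_hom (h.inl_desc _ _ _) c
  have hu2 : ∀ y : R₀, u.hom (σ.hom y) = τ y := fun y =>
    ConcreteCategory.congr_hom (h.inr_desc _ _ _) y
  have hπJ : ∀ x ∈ J, π.hom x = 0 := by
    intro x hx
    have : J ≤ RingHom.ker π.hom := by
      rw [Ideal.map_le_iff_le_comap]
      intro r hr
      rw [Ideal.mem_comap, RingHom.mem_ker, hαalg, hsq, (RingHom.mem_ker).1 hr, map_zero]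
    exact (RingHom.mem_ker).1 (this hx)
  let v : C ⧸ J →+* C₀ := Ideal.Quotient.lift J π.hom hπJ
  have hv : ∀ c : C, v (Ideal.Quotient.mk J c) = π.hom c := fun c => Ideal.Quotient.lift_mk _ _ _
  have hvu : ∀ z : C₀, v (u.hom z) = z := by
    have : u ≫ CommRingCat.ofHom v = 𝟙 C₀ := by
      apply h.hom_ext
      · ext c
        show v (u.hom (π.hom c)) = π.hom c
        rw [hu1, hv]
      · ext y
        show v (u.hom (σ.hom y)) = σ.hom y
        obtain ⟨r, rfl⟩ := hι y
        rw [hu2, hτ, hv, hsq]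
    intro z
    exact ConcreteCategory.congr_hom this z
  let σ₀ : B →ₐ[R] C ⧸ J :=
    { toRingHom := u.hom.comp ψ.hom
      commutes' := fun r => by
        show u.hom (ψ.hom (algebraMap R B r)) = _
        rw [hβalg, hψ', hu1]
        rfl }
  obtain ⟨φa, hφa⟩ := Groth.Agent.Lib.HenselEtaleLift.exists_lift_of_algebra J σ₀
  have hφa' : ∀ b : B, Ideal.Quotient.mk J (φa b) = u.hom (ψ.hom b) := fun b =>
    congrArg (fun g : B →ₐ[R] C ⧸ J => g b) hφa
  refine ⟨CommRingCat.ofHom φa.toRingHom, ⟨?_, ?_⟩, ?_⟩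
  · ext r
    exact φa.commutes r
  · ext b
    show π.hom (φa b) = ψ.hom b
    rw [← hv, hφa', hvu]
  · rintro φ' ⟨h1, h2⟩
    let φ'a : B →ₐ[R] C :=
      { toRingHom := φ'.hom
        commutes' := fun r => ConcreteCategory.congr_hom h1 r }
    have heq : φ'a = φa := by
      apply Groth.Agent.Lib.HenselEtaleLift.lift_unique_of_algebra J hJ
      ext b
      show Ideal.Quotient.mk J (φ'.hom b) = Ideal.Quotient.mk J (φa b)
      rw [hφa', ← hu1]
      congr 1
      exact ConcreteCategory.congr_hom h2 b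
    ext b
    exact congrArg (fun g : B →ₐ[R] C => g b) heq

end ring

section geom

theorem exists_hom_appTop_eq {Y Y' : Scheme.{u}} [IsAffine Y'] (g : Γ(Y', ⊤) ⟶ Γ(Y, ⊤)) :
    ∃ φ : Y ⟶ Y', φ.appTop = g := by
  refine ⟨Y.toSpecΓ ≫ Spec.map g ≫ Y'.isoSpec.inv, ?_⟩
  have h1 : Y'.isoSpec.inv.appTop = (Scheme.ΓSpecIso Γ(Y', ⊤)).inv := by
    have : Y'.isoSpec.hom.appTop = (Scheme.ΓSpecIso Γ(Y', ⊤)).hom := Scheme.toSpecΓ_appTop Y'
    have h2 : Y'.isoSpec.hom.appTop ≫ Y'.isoSpec.inv.appTop = 𝟙 _ := by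
      rw [← Scheme.Hom.comp_appTop, Iso.inv_hom_id]
      rfl
    rw [this] at h2
    exact (Iso.eq_inv_comp _).2 h2 |>.trans (Category.comp_id _)
  rw [Scheme.Hom.comp_appTop, Scheme.Hom.comp_appTop, h1, Scheme.toSpecΓ_appTop]
  have h3 := Scheme.ΓSpecIso_naturality g
  rw [Category.assoc, h3, Iso.inv_hom_id_assoc]


variable (A : Type u) [CommRing A] (I : Ideal A)

/-- the closed immersion `Spec A/I ⟶ Spec A`. -/
noncomputable abbrev clI : Spec (CommRingCat.of (A ⧸ I)) ⟶ Spec (CommRingCat.of A) :=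
  Spec.map (CommRingCat.ofHom (Ideal.Quotient.mk I))

lemma appTop_clI_apply (x : Γ(Spec (CommRingCat.of A), ⊤)) :
    (Scheme.ΓSpecIso (CommRingCat.of (A ⧸ I))).hom.hom ((clI A I).appTop.hom x) =
      Ideal.Quotient.mk I ((Scheme.ΓSpecIso (CommRingCat.of A)).hom.hom x) :=
  ConcreteCategory.congr_hom
    (Scheme.ΓSpecIso_naturality (CommRingCat.ofHom (Ideal.Quotient.mk I))) x

lemma surjective_appTop_clI : Function.Surjective (clI A I).appTop.hom := by
  intro y
  obtain ⟨a, ha⟩ := Ideal.Quotient.mk_surjective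
    ((Scheme.ΓSpecIso (CommRingCat.of (A ⧸ I))).hom.hom y)
  refine ⟨(Scheme.ΓSpecIso (CommRingCat.of A)).inv.hom a, ?_⟩
  have hinj : Function.Injective (Scheme.ΓSpecIso (CommRingCat.of (A ⧸ I))).hom.hom :=
    (ConcreteCategory.bijective_of_isIso (Scheme.ΓSpecIso (CommRingCat.of (A ⧸ I))).hom).1
  apply hinj
  rw [appTop_clI_apply, ← ha]
  congr 1
  exact Iso.inv_hom_id_apply (Scheme.ΓSpecIso (CommRingCat.of A)) a

lemma ker_appTop_clI : RingHom.ker (clI A I).appTop.hom =
    I.comap ((Scheme.ΓSpecIso (CommRingCat.of A)).commRingCatIsoToRingEquiv : _ →+* A) := by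
  ext x
  rw [RingHom.mem_ker, Ideal.mem_comap]
  have hinj : Function.Injective (Scheme.ΓSpecIso (CommRingCat.of (A ⧸ I))).hom.hom :=
    (ConcreteCategory.bijective_of_isIso (Scheme.ΓSpecIso (CommRingCat.of (A ⧸ I))).hom).1
  rw [← hinj.eq_iff, appTop_clI_apply, map_zero, Ideal.Quotient.eq_zero_iff_mem]
  rfl

instance henselianRing_ker_appTop_clI [HenselianRing A I] :
    HenselianRing Γ(Spec (CommRingCat.of A), ⊤) (RingHom.ker (clI A I).appTop.hom) := by
  rw [ker_appTop_clI]
  exact Groth.Agent.Lib.PairHenselization.henselianRing_of_ringEquiv _ I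


set_option backward.isDefEq.respectTransparency false in
theorem existsUnique_extension [HenselianRing A I] {Y Y' : Scheme.{u}}
    (a : Y ⟶ Spec (CommRingCat.of A)) (b : Y' ⟶ Spec (CommRingCat.of A))
    [IsFinite a] [IsAffineHom b] [Etale b]
    (ψ : pullback a (clI A I) ⟶ Y') (hψ : ψ ≫ b = pullback.fst a (clI A I) ≫ a) :
    ∃! φ : Y ⟶ Y', φ ≫ b = a ∧ pullback.fst a (clI A I) ≫ φ = ψ := by
  haveI : IsAffine Y := isAffine_of_isAffineHom a
  haveI : IsAffine Y' := isAffine_of_isAffineHom b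
  haveI : IsAffine (pullback a (clI A I)) := isAffine_of_isAffineHom (pullback.snd a (clI A I))
  have hpo : IsPushout a.appTop (clI A I).appTop (pullback.fst a (clI A I)).appTop
      (pullback.snd a (clI A I)).appTop :=
    isPushout_appTop_of_isPullback (IsPullback.of_hasPullback a (clI A I))
  have hα : a.appTop.hom.IsIntegral := (Scheme.Hom.finite_appTop a).to_isIntegral
  have hβ : b.appTop.hom.Etale :=
    (HasRingHomProperty.iff_of_isAffine (P := @Etale) (f := b)).1 inferInstance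
  have hψ' : b.appTop ≫ ψ.appTop = a.appTop ≫ (pullback.fst a (clI A I)).appTop := by
    rw [← Scheme.Hom.comp_appTop, ← Scheme.Hom.comp_appTop, hψ]
  obtain ⟨φs, ⟨h1, h2⟩, huniq⟩ := ring_lemma a.appTop b.appTop (pullback.fst a (clI A I)).appTop
    (clI A I).appTop (pullback.snd a (clI A I)).appTop hpo (surjective_appTop_clI A I)
    inferInstance hα hβ ψ.appTop hψ'
  obtain ⟨φ, hφ⟩ := exists_hom_appTop_eq (Y := Y) (Y' := Y') φs
  refine ⟨φ, ⟨?_, ?_⟩, ?_⟩
  · apply ext_of_isAffine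
    rw [Scheme.Hom.comp_appTop, hφ, h1]
  · apply ext_of_isAffine
    rw [Scheme.Hom.comp_appTop, hφ, h2]
  · rintro φ' ⟨e1, e2⟩
    apply ext_of_isAffine
    rw [hφ]
    apply huniq
    constructor
    · rw [← Scheme.Hom.comp_appTop, e1]
    · rw [← Scheme.Hom.comp_appTop, e2]

end geom

section alg

variable (A : Type u) [CommRing A] (I : Ideal A)

lemma one_tmul_eq_zero {S' : Type u} [CommRing S'] [Algebra A S'] (x : S')
    (hx : x ∈ I.map (algebraMap A S')) : (1 : A ⧸ I) ⊗ₜ[A] x = 0 := by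
  have h := Algebra.TensorProduct.quotIdealMapEquivQuotTensor_mk (A := A) S' I x
  rw [← h, Ideal.Quotient.eq_zero_iff_mem.2 hx, map_zero]

theorem exists_finite_etale_lift [HenselianRing A I] (Bb : Type u) [CommRing Bb]
    [Algebra (A ⧸ I) Bb] [Algebra.Etale (A ⧸ I) Bb] [Module.Finite (A ⧸ I) Bb] :
    ∃ (B : Type u) (_ : CommRing B) (_ : Algebra A B), Algebra.Etale A B ∧ Module.Finite A B ∧
      Nonempty (((A ⧸ I) ⊗[A] B) ≃ₐ[A ⧸ I] Bb) := by
  obtain ⟨S', _, _, hét, ⟨e₀⟩⟩ := Groth.Agent.S9436.result A I Bb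
  -- finiteness of S'/IS'
  have hfin : Module.Finite A (S' ⧸ I.map (algebraMap A S')) := by
    let e₁ := (Algebra.TensorProduct.quotIdealMapEquivQuotTensor (A := A) S' I).trans e₀
    haveI : Module.Finite (A ⧸ I) (S' ⧸ I.map (algebraMap A S')) :=
      Module.Finite.equiv e₁.symm.toLinearEquiv
    exact Module.Finite.trans (A ⧸ I) _
  obtain ⟨e, he, h1e, hint⟩ :=
    Groth.Agent.Lib.HenselQFDecomp.exists_idempotent_of_finite_quotient (A := A) (R := S')
      (I := I) hfin
  let J : Ideal S' := Ideal.span {1 - e}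
  let B := S' ⧸ J
  haveI hloc : IsLocalization.Away e B := IsLocalization.Away.quotient_of_isIdempotentElem he
  haveI : Algebra.Etale S' B := Algebra.Etale.of_isLocalizationAway e
  haveI : Algebra.Etale A B := Algebra.Etale.comp A S' B
  -- integrality
  have hmk : ∀ y : S', Ideal.Quotient.mk J y = Ideal.Quotient.mk J (e * y) := by
    intro y
    rw [Ideal.Quotient.eq]
    have : y - e * y = y * (1 - e) := by ring
    rw [this]
    exact Ideal.mul_mem_left _ _ (Ideal.mem_span_singleton_self _)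
  haveI : Algebra.IsIntegral A B := by
    constructor
    intro b
    obtain ⟨y, rfl⟩ := Ideal.Quotient.mk_surjective b
    rw [hmk y]
    exact (hint y).map (IsScalarTower.toAlgHom A S' B)
  haveI : Algebra.FiniteType A B := Algebra.FiniteType.trans (S := S') inferInstance inferInstance
  haveI : Module.Finite A B := Algebra.IsIntegral.finite
  refine ⟨B, inferInstance, inferInstance, inferInstance, inferInstance, ⟨?_⟩⟩
  have hJ0 : ∀ x ∈ J, (Algebra.TensorProduct.includeRight : S' →ₐ[A] (A ⧸ I) ⊗[A] S') x = 0 := by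
    intro x hx
    obtain ⟨s, rfl⟩ := Ideal.mem_span_singleton'.1 hx
    show (1 : A ⧸ I) ⊗ₜ[A] (s * (1 - e)) = 0
    exact one_tmul_eq_zero A I _ (Ideal.mul_mem_left _ _ h1e)
  let g : B →ₐ[A] (A ⧸ I) ⊗[A] S' :=
    Ideal.Quotient.liftₐ J Algebra.TensorProduct.includeRight hJ0
  have hg : ∀ y : S', g (Ideal.Quotient.mk J y) = (1 : A ⧸ I) ⊗ₜ[A] y := fun y => rfl
  let G : (A ⧸ I) ⊗[A] B →ₐ[A ⧸ I] (A ⧸ I) ⊗[A] S' :=
    Algebra.TensorProduct.lift (Algebra.ofId (A ⧸ I) _) g (fun _ _ => Commute.all _ _)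
  let F : (A ⧸ I) ⊗[A] S' →ₐ[A ⧸ I] (A ⧸ I) ⊗[A] B :=
    Algebra.TensorProduct.map (AlgHom.id (A ⧸ I) (A ⧸ I)) (Ideal.Quotient.mkₐ A J)
  have hGF : G.comp F = AlgHom.id _ _ := by
    apply Algebra.TensorProduct.ext
    · ext
    · ext y
      simp only [AlgHom.coe_comp, AlgHom.coe_restrictScalars', Function.comp_apply,
        Algebra.TensorProduct.includeRight_apply, AlgHom.coe_id, id_eq, F, G,
        Algebra.TensorProduct.map_tmul, map_one, Algebra.TensorProduct.lift_tmul, one_mul]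
      exact hg y
  have hFG : F.comp G = AlgHom.id _ _ := by
    apply Algebra.TensorProduct.ext
    · ext
    · ext b
      obtain ⟨y, rfl⟩ := Ideal.Quotient.mk_surjective b
      simp only [AlgHom.coe_comp, AlgHom.coe_restrictScalars', Function.comp_apply,
        Algebra.TensorProduct.includeRight_apply, AlgHom.coe_id, id_eq, F, G,
        Algebra.TensorProduct.lift_tmul, map_one, one_mul]
      rw [hg y]
      simp only [Algebra.TensorProduct.map_tmul, map_one]
      rfl
  exact (AlgEquiv.ofAlgHom G F hGF hFG).trans e₀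

end alg

section ff

variable (A : Type u) [CommRing A] (I : Ideal A) [HenselianRing A I]

set_option backward.isDefEq.respectTransparency false in
theorem full_faithful : (FEt.restrict (clI A I)).Full ∧ (FEt.restrict (clI A I)).Faithful := by
  constructor
  · constructor
    intro P Q ψ
    let a : P.left ⟶ Spec (CommRingCat.of A) := P.hom
    let b : Q.left ⟶ Spec (CommRingCat.of A) := Q.hom
    haveI : IsFinite a := P.prop.1
    haveI : Etale a := P.prop.2
    haveI : IsFinite b := Q.prop.1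
    haveI : Etale b := Q.prop.2
    let ψl : pullback a (clI A I) ⟶ pullback b (clI A I) := ψ.left
    have hw : ψl ≫ pullback.snd b (clI A I) = pullback.snd a (clI A I) :=
      MorphismProperty.Over.w ψ
    obtain ⟨φ, ⟨h1, h2⟩, -⟩ := existsUnique_extension A I a b
      (ψl ≫ pullback.fst b (clI A I))
      (by rw [Category.assoc, pullback.condition, ← Category.assoc, hw, pullback.condition])
    refine ⟨MorphismProperty.Over.homMk φ h1 trivial, ?_⟩
    apply MorphismProperty.Over.Hom.ext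
    have key : pullback.lift (pullback.fst a (clI A I) ≫ φ) (pullback.snd a (clI A I))
        (by rw [Category.assoc, h1, pullback.condition]) = ψl := by
      apply pullback.hom_ext
      · rw [pullback.lift_fst, h2]
      · rw [pullback.lift_snd, hw]
    exact key
  · constructor
    intro P Q φ₁ φ₂ heq
    let a : P.left ⟶ Spec (CommRingCat.of A) := P.hom
    let b : Q.left ⟶ Spec (CommRingCat.of A) := Q.hom
    haveI : IsFinite a := P.prop.1
    haveI : Etale a := P.prop.2
    haveI : IsFinite b := Q.prop.1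
    haveI : Etale b := Q.prop.2
    apply MorphismProperty.Over.Hom.ext
    have e1 : ((FEt.restrict (clI A I)).map φ₁).left ≫ pullback.fst b (clI A I) =
        pullback.fst a (clI A I) ≫ φ₁.left := pullback.lift_fst _ _ _
    have e2 : ((FEt.restrict (clI A I)).map φ₂).left ≫ pullback.fst b (clI A I) =
        pullback.fst a (clI A I) ≫ φ₂.left := pullback.lift_fst _ _ _
    have h1 : pullback.fst a (clI A I) ≫ φ₁.left = pullback.fst a (clI A I) ≫ φ₂.left :=
      e1.symm.trans ((congrArg (fun x => x.left ≫ pullback.fst b (clI A I)) heq).trans e2)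
    have w1 : φ₁.left ≫ b = a := MorphismProperty.Over.w φ₁
    have w2 : φ₂.left ≫ b = a := MorphismProperty.Over.w φ₂
    obtain ⟨φ, -, huniq⟩ := existsUnique_extension A I a b
      (pullback.fst a (clI A I) ≫ φ₁.left) (by rw [Category.assoc, w1])
    rw [huniq φ₁.left ⟨w1, rfl⟩, huniq φ₂.left ⟨w2, h1.symm⟩]

end ff

section ess

variable (A : Type u) [CommRing A] (I : Ideal A) [HenselianRing A I]

lemma isoSpec_inv_comp {Y : Scheme.{u}} [IsAffine Y] {R : CommRingCat.{u}} (q : Y ⟶ Spec R) :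
    Y.isoSpec.inv ≫ q = Spec.map ((Scheme.ΓSpecIso R).inv ≫ q.appTop) := by
  rw [Iso.inv_comp_eq, Spec.map_comp, ← Category.assoc, Scheme.isoSpec_hom_naturality,
    Scheme.isoSpec_Spec_hom, Category.assoc, ← Spec.map_comp, Iso.inv_hom_id, Spec.map_id,
    Category.comp_id]

set_option backward.isDefEq.respectTransparency false in
theorem essSurj : (FEt.restrict (clI A I)).EssSurj := by
  constructor
  intro Q
  let q : Q.left ⟶ Spec (CommRingCat.of (A ⧸ I)) := Q.hom
  haveI : IsFinite q := Q.prop.1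
  haveI : Etale q := Q.prop.2
  haveI : IsAffine Q.left := isAffine_of_isAffineHom q
  let Bb : CommRingCat.{u} := Γ(Q.left, ⊤)
  let φb : CommRingCat.of (A ⧸ I) ⟶ Bb := (Scheme.ΓSpecIso (CommRingCat.of (A ⧸ I))).inv ≫ q.appTop
  have hiso : Function.Bijective (Scheme.ΓSpecIso (CommRingCat.of (A ⧸ I))).inv.hom :=
    ConcreteCategory.bijective_of_isIso _
  have hφb_et : φb.hom.Etale := by
    have h1 : q.appTop.hom.Etale :=
      (HasRingHomProperty.iff_of_isAffine (P := @Etale) (f := q)).1 inferInstance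
    exact RingHom.Etale.stableUnderComposition _ _ (RingHom.Etale.of_bijective hiso) h1
  have hφb_fin : φb.hom.Finite := by
    have h1 : q.appTop.hom.Finite := Scheme.Hom.finite_appTop q
    exact RingHom.Finite.comp h1 (RingHom.Finite.of_surjective _ hiso.2)
  letI : Algebra (A ⧸ I) Bb := φb.hom.toAlgebra
  haveI : Algebra.Etale (A ⧸ I) Bb := hφb_et
  haveI : Module.Finite (A ⧸ I) Bb := hφb_fin
  obtain ⟨B, _, _, hét, hfin, ⟨θ⟩⟩ := exists_finite_etale_lift A I Bb
  let p : Spec (CommRingCat.of B) ⟶ Spec (CommRingCat.of A) :=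
    Spec.map (CommRingCat.ofHom (algebraMap A B))
  have hp : FEt.prop p := by
    constructor
    · exact (IsFinite.SpecMap_iff _).2 (RingHom.finite_algebraMap.2 hfin)
    · exact (HasRingHomProperty.Spec_iff (P := @Etale)).2 (RingHom.etale_algebraMap.2 hét)
  let P : FEt.Cat (Spec (CommRingCat.of A)) := MorphismProperty.Over.mk ⊤ p hp
  refine ⟨P, ⟨?_⟩⟩
  -- ring iso ρ : Bb ≅ B ⊗ A/I
  let ρe : Bb ≃+* (B ⊗[A] (A ⧸ I)) :=
    θ.symm.toRingEquiv.trans (Algebra.TensorProduct.comm A (A ⧸ I) B).toRingEquiv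
  let ρ : Bb ≅ CommRingCat.of (B ⊗[A] (A ⧸ I)) := ρe.toCommRingCatIso
  have hρ : φb ≫ ρ.hom = CommRingCat.ofHom
      (RingHomClass.toRingHom (Algebra.TensorProduct.includeRight :
        (A ⧸ I) →ₐ[A] B ⊗[A] (A ⧸ I))) := by
    ext t
    show (Algebra.TensorProduct.comm A (A ⧸ I) B) (θ.symm (algebraMap (A ⧸ I) Bb t)) = _
    rw [θ.symm.commutes]
    rfl
  let ℓ : pullback p (clI A I) ≅ Q.left :=
    pullbackSpecIso A B (A ⧸ I) ≪≫ Scheme.Spec.mapIso ρ.op ≪≫ Q.left.isoSpec.symm
  refine MorphismProperty.Over.isoMk ℓ ?_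
  show ((pullbackSpecIso A B (A ⧸ I)).hom ≫ Spec.map ρ.hom ≫ Q.left.isoSpec.inv) ≫ q =
    pullback.snd p (clI A I)
  rw [Category.assoc, Category.assoc, isoSpec_inv_comp q]
  show (pullbackSpecIso A B (A ⧸ I)).hom ≫ Spec.map ρ.hom ≫ Spec.map φb = _
  rw [← Spec.map_comp, hρ]
  exact pullbackSpecIso_hom_snd A B (A ⧸ I)

theorem main : (FEt.restrict (Spec.map (CommRingCat.ofHom (Ideal.Quotient.mk I)))).IsEquivalence := by
  haveI := (full_faithful A I).1
  haveI := (full_faithful A I).2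
  haveI := essSurj A I
  exact { }

end ess

end Groth.Agent.Lib.H15FEtHenselPair
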