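
import Mathlib.AlgebraicGeometry.Morphisms.FlatMono
import Mathlib.AlgebraicGeometry.PullbackCarrier
import Groth.Prelude.Def_FEt
import Groth.Agent.Lib.SpectralPi0Fib33

set_option autoImplicit false
set_option linter.style.haveILetI false
universe u

open CategoryTheory CategoryTheory.Limits AlgebraicGeometry Opposite

namespace Groth.Agent.Lib.H15FEtPi0

section top

variable {X Y : Type u} [TopologicalSpace X] [TopologicalSpace Y] [SpectralSpace X]
  [SpectralSpace Y]

/-- clopens separate connected components in a spectral space. -/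
lemma exists_isClopen_of_mk_ne {x x' : X}
    (h : (ConnectedComponents.mk x : _root_.ConnectedComponents X) ≠ ConnectedComponents.mk x') :
    ∃ U : Set X, IsClopen U ∧ x ∈ U ∧ x' ∉ U := by
  haveI := Groth.Agent.Lib.SpectralPi0Fib33.t2Space_connectedComponents X
  obtain ⟨W, hW, hxW, hx'W⟩ := exists_isClopen_of_totally_separated h
  refine ⟨ConnectedComponents.mk ⁻¹' W, hW.preimage ConnectedComponents.continuous_coe, hxW, hx'W⟩

theorem isHomeomorph_connectedComponentsMap {g : X → Y} (hg : Continuous g)
    (h1 : ∀ U : Set X, IsClopen U → ∃ V : Set Y, IsClopen V ∧ g ⁻¹' V = U)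
    (h2 : ∀ V : Set Y, IsClopen V → g ⁻¹' V = ∅ → V = ∅) :
    IsHomeomorph hg.connectedComponentsMap := by
  haveI := Groth.Agent.Lib.SpectralPi0Fib33.t2Space_connectedComponents X
  haveI := Groth.Agent.Lib.SpectralPi0Fib33.t2Space_connectedComponents Y
  rw [isHomeomorph_iff_continuous_bijective]
  refine ⟨hg.connectedComponentsMap_continuous, ?_, ?_⟩
  · intro a b hab
    obtain ⟨x, rfl⟩ := ConnectedComponents.surjective_coe a
    obtain ⟨x', rfl⟩ := ConnectedComponents.surjective_coe b
    by_contra hne
    obtain ⟨U, hU, hxU, hx'U⟩ := exists_isClopen_of_mk_ne hne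
    obtain ⟨V, hV, rfl⟩ := h1 U hU
    have h3 : (ConnectedComponents.mk (g x) : _root_.ConnectedComponents Y) =
        ConnectedComponents.mk (g x') := hab
    have h3 := h3.symm
    rw [ConnectedComponents.coe_eq_coe'] at h3
    exact hx'U (hV.connectedComponent_subset hxU h3)
  · intro b
    by_contra hb
    have hcl : IsClosed (Set.range hg.connectedComponentsMap) :=
      (isCompact_range hg.connectedComponentsMap_continuous).isClosed
    obtain ⟨W, hW, hbW, hWsub⟩ := compact_exists_isClopen_in_isOpen hcl.isOpen_compl hb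
    obtain ⟨y, rfl⟩ := ConnectedComponents.surjective_coe b
    have hV : IsClopen (ConnectedComponents.mk ⁻¹' W : Set Y) :=
      hW.preimage ConnectedComponents.continuous_coe
    have hempty : g ⁻¹' (ConnectedComponents.mk ⁻¹' W) = ∅ := by
      ext x
      simp only [Set.mem_preimage, Set.mem_empty_iff_false, iff_false]
      intro hx
      exact hWsub hx ⟨ConnectedComponents.mk x, rfl⟩
    have := h2 _ hV hempty
    have hy : y ∈ (ConnectedComponents.mk ⁻¹' W : Set Y) := hbW
    rw [this] at hy
    exact hy

end top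

section geom

variable {Y : Scheme.{u}}

lemma isClosedImmersion_ι (V : Y.Opens) (hV : IsClosed (V : Set Y)) : IsClosedImmersion V.ι :=
  { isClosedEmbedding := ⟨V.ι.isOpenEmbedding.isEmbedding, by
      rw [Scheme.Opens.range_ι]; exact hV⟩ }

lemma prop_ι (V : Y.Opens) (hV : IsClosed (V : Set Y)) : FEt.prop V.ι := by
  haveI := isClosedImmersion_ι V hV
  exact ⟨inferInstance, inferInstance⟩

/-- the finite etale cover associated to an open and closed subset. -/
noncomputable def clopenObj (V : Y.Opens) (hV : IsClosed (V : Set Y)) : FEt.Cat Y :=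
  MorphismProperty.Over.mk ⊤ V.ι (prop_ι V hV)

end geom

section main

variable {X Y : Scheme.{u}} (f : X ⟶ Y)

lemma isEmpty_pullback_of_preimage_eq_empty (V : Y.Opens)
    (h : f ⁻¹' (V : Set Y) = ∅) : IsEmpty ↥(pullback V.ι f) := by
  constructor
  intro p
  have h1 : pullback.snd V.ι f p ∈ Set.range (pullback.snd V.ι f) := ⟨p, rfl⟩
  rw [Scheme.Pullback.range_snd, Scheme.Opens.range_ι, h] at h1
  exact h1

set_option backward.isDefEq.respectTransparency false in
theorem eq_empty_of_preimage_eq_empty [hE : (FEt.restrict f).IsEquivalence] (V : Y.Opens)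
    (hV : IsClosed (V : Set Y)) (h : f ⁻¹' (V : Set Y) = ∅) : (V : Set Y) = ∅ := by
  have hbot : IsClosed ((⊥ : Y.Opens) : Set Y) := by simp
  let A := clopenObj V hV
  let B := clopenObj (⊥ : Y.Opens) hbot
  haveI hA : IsEmpty ↥((FEt.restrict f).obj A).left := isEmpty_pullback_of_preimage_eq_empty f V h
  haveI hB : IsEmpty ↥((FEt.restrict f).obj B).left :=
    isEmpty_pullback_of_preimage_eq_empty f ⊥ (by simp)
  let e0 : ((FEt.restrict f).obj A).left ≅ ((FEt.restrict f).obj B).left :=
    (isInitialOfIsEmpty).uniqueUpToIso (isInitialOfIsEmpty)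
  let e : (FEt.restrict f).obj A ≅ (FEt.restrict f).obj B :=
    MorphismProperty.Over.isoMk e0 ((isInitialOfIsEmpty).hom_ext _ _)
  let e' : A ≅ B := (FEt.restrict f).preimageIso e
  let e'' : A.left ≅ B.left :=
    (MorphismProperty.Over.forget _ _ _ ⋙ Over.forget _).mapIso e'
  have : IsEmpty ↥A.left := by
    haveI : IsEmpty ↥B.left := by
      show IsEmpty ↥((⊥ : Y.Opens) : Set Y)
      simp
    exact Function.isEmpty e''.hom
  rw [Set.eq_empty_iff_forall_notMem]
  intro y hy
  exact this.false ⟨y, hy⟩


lemma mono_of_fst_eq_snd {C : Type*} [Category C] {A B : C} (w : A ⟶ B) [HasPullback w w]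
    (h : pullback.fst w w = pullback.snd w w) : Mono w := by
  constructor
  intro Z a b hab
  calc a = pullback.lift a b hab ≫ pullback.fst w w := (pullback.lift_fst _ _ _).symm
    _ = pullback.lift a b hab ≫ pullback.snd w w := by rw [h]
    _ = b := pullback.lift_snd _ _ _

set_option backward.isDefEq.respectTransparency false in
theorem exists_clopen_preimage_eq [hE : (FEt.restrict f).IsEquivalence] (U : X.Opens)
    (hU : IsClosed (U : Set X)) :
    ∃ V : Y.Opens, IsClosed (V : Set Y) ∧ f ⁻¹' (V : Set Y) = (U : Set X) := by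
  let E := FEt.restrict f
  let W : FEt.Cat Y := E.objPreimage (clopenObj U hU)
  let e : E.obj W ≅ clopenObj U hU := E.objObjPreimageIso (clopenObj U hU)
  let w : W.left ⟶ Y := W.hom
  haveI : IsFinite w := W.prop.1
  haveI : Etale w := W.prop.2
  -- `w` is a monomorphism
  have hT : FEt.prop (pullback.fst w w ≫ w) :=
    FEt.prop.comp_mem _ _ (FEt.prop.pullback_fst _ _ W.prop) W.prop
  let T : FEt.Cat Y := MorphismProperty.Over.mk ⊤ (pullback.fst w w ≫ w) hT
  let a : T ⟶ W := MorphismProperty.Over.homMk (pullback.fst w w) rfl trivial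
  let b : T ⟶ W := MorphismProperty.Over.homMk (pullback.snd w w) pullback.condition.symm trivial
  have hab : a = b := by
    apply E.map_injective
    rw [← cancel_mono e.hom]
    apply MorphismProperty.Over.Hom.ext
    have h1 : (E.map a ≫ e.hom).left ≫ U.ι = (E.obj T).hom :=
      MorphismProperty.Over.w (E.map a ≫ e.hom)
    have h2 : (E.map b ≫ e.hom).left ≫ U.ι = (E.obj T).hom :=
      MorphismProperty.Over.w (E.map b ≫ e.hom)
    rw [← cancel_mono U.ι, h1, h2]
  have hfs : pullback.fst w w = pullback.snd w w := congrArg (fun t => t.left) hab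
  haveI : Mono w := mono_of_fst_eq_snd w hfs
  haveI : IsOpenImmersion w := IsOpenImmersion.of_flat_of_mono w
  refine ⟨w.opensRange, ?_, ?_⟩
  · rw [Scheme.Hom.coe_opensRange]
    exact w.isClosedMap.isClosed_range
  · rw [Scheme.Hom.coe_opensRange, ← Scheme.Pullback.range_snd w f]
    have h1 : e.hom.left ≫ U.ι = pullback.snd w f := MorphismProperty.Over.w e.hom
    have hsurj : Function.Surjective e.hom.left := by
      have : IsIso e.hom.left :=
        (MorphismProperty.Over.forget _ _ _ ⋙ Over.forget _).map_isIso e.hom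
      exact e.hom.left.surjective
    have h2 : Set.range (e.hom.left ≫ U.ι) = Set.range U.ι := by
      ext x
      constructor
      · rintro ⟨p, rfl⟩
        exact ⟨e.hom.left p, rfl⟩
      · rintro ⟨u, rfl⟩
        obtain ⟨p, rfl⟩ := hsurj u
        exact ⟨p, rfl⟩
    rw [← h1]
    exact h2.trans (Scheme.Opens.range_ι U)

end main

section final

theorem main {X Y : Scheme.{u}} [CompactSpace X] [QuasiSeparatedSpace X] [CompactSpace Y]
    [QuasiSeparatedSpace Y] (f : X ⟶ Y) (h : (FEt.restrict f).IsEquivalence) :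
    IsHomeomorph f.continuous.connectedComponentsMap := by
  haveI : SpectralSpace ↥X := { }
  haveI : SpectralSpace ↥Y := { }
  apply isHomeomorph_connectedComponentsMap
  · intro U hU
    obtain ⟨V, hV, hVU⟩ := exists_clopen_preimage_eq f ⟨U, hU.2⟩ hU.1
    exact ⟨V, ⟨hV, V.2⟩, hVU⟩
  · intro V hV hempty
    exact eq_empty_of_preimage_eq_empty f ⟨V, hV.2⟩ hV.1 hempty

end final

end Groth.Agent.Lib.H15FEtPi0
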