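/-
helper42: fpqc descent of triviality of invertible modules along `f` with `O_S ≅ f_*O_X` (ns Groth.Agent.Lib.PicDescent).
* `isGen_of_isGen_pb`: a section of an invertible module whose pullback along a surjective morphism is a free generator
  is a free generator.
* `isGen_structure_of_isGen_toPush`, `isGen_of_isGen_toPush`.
* `isGen_toPush_pb`: (flat base change) a generator of `f_*L` over `U` pulls back to a generator of `f'_*(g'^*L)` over `g⁻¹U`.
* `isGen_of_isGen_toPush_of_trivial` (core lemma).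
* `isInvertible_of_pullback_iso_structureModule`: fpqc descent of invertibility (qcoh `N` with `g^*N ≅ O`).
* `nonempty_pushforward_structureModule_iso`: `O_S ≅ f_*O_X` is stable under flat base change (abstract iso).
* `nonempty_pullback_pushforward_iso`: `g^*(f_*L) ≅ O_{S'}` when `g'^*L ≅ O_{X'}`.
* `isInvertible_pushforward_and_isIso_counit` (= S11973).
-/
import Groth.Agent.Lib.CounitEpi
import Groth.Agent.Lib.H78PullSec
import Groth.Agent.Lib.FlatBaseChangeQcqs
import Groth.Agent.Lib.UnitFinLocFree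
import Groth.Agent.Lib.GenericRankPullback
import Groth.Agent.Lib.SemilocalFree
import Groth.Agent.S1177
import Groth.Agent.S12057

set_option autoImplicit false
set_option linter.style.haveILetI false
universe u
open CategoryTheory CategoryTheory.Limits AlgebraicGeometry Opposite TopologicalSpace
open Groth.Agent.Lib.H90Invertible Groth.Agent.Lib.StructureModule Groth.Agent.Lib.H78TensorGen
open Groth.Agent.Lib.H78SecCoord Groth.Agent.Lib.H78PullSec Groth.Agent.Lib.H78Atlas

namespace Groth.Agent.Lib.PicDescent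

variable {X X' : Scheme.{u}}

/-- **descent of generators along a surjective morphism**: a section of an invertible module whose pullback
along a surjective morphism is a free generator is a free generator. -/
theorem isGen_of_isGen_pb (g' : X' ⟶ X) [Surjective g'] {L : X.Modules} (hL : PicF.IsInvertible L)
    {W : X.Opens} (m : Γ(L, W))
    (h : IsGen ((Scheme.Modules.pullback g').obj L) (g' ⁻¹ᵁ W) (pb g' L m)) : IsGen L W m := by
  rw [isInvertible_iff_exists_isGen] at hL
  -- local statement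
  have key : ∀ x : W, ∃ (Wx : X.Opens) (hWx : Wx ≤ W), x.1 ∈ Wx ∧ IsGen L Wx (rs L hWx m) := by
    intro x
    obtain ⟨V, hxV, e, he⟩ := hL x.1
    -- work on `W₀ = W ⊓ V`
    have he₀ : IsGen L (W ⊓ V) (rs L inf_le_right e) := he.mono inf_le_right
    set a := coord he₀ le_rfl (rs L (inf_le_left : W ⊓ V ≤ W) m) with ha
    have hspec : a • rs L le_rfl (rs L inf_le_right e) = rs L (inf_le_left : W ⊓ V ≤ W) m :=
      coord_spec he₀ le_rfl _
    rw [rs_self] at hspec
    -- pull back
    have h1 : IsGen ((Scheme.Modules.pullback g').obj L) (g' ⁻¹ᵁ (W ⊓ V))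
        (pb g' L (rs L (inf_le_left : W ⊓ V ≤ W) m)) := by
      rw [pb_rs]
      exact h.mono _
    rw [← hspec, pb_smul] at h1
    have h2 : IsUnit (g'.app (W ⊓ V) a) := (isGen_smul_iff (isGen_pb g' he₀) _).1 h1
    -- `a` does not vanish at `x`
    obtain ⟨x', hx'⟩ := g'.surjective x.1
    have hxa : x.1 ∈ X.basicOpen a := by
      have h3 : x' ∈ X'.basicOpen (g'.app (W ⊓ V) a) := by
        rw [X'.basicOpen_of_isUnit h2]
        change g' x' ∈ W ⊓ V
        rw [hx']
        exact ⟨x.2, hxV⟩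
      rw [← Scheme.preimage_basicOpen] at h3
      rw [← hx']
      exact h3
    refine ⟨X.basicOpen a, (X.basicOpen_le a).trans inf_le_left, hxa, ?_⟩
    have h4 : rs L ((X.basicOpen_le a).trans inf_le_left) m =
        rf (X.basicOpen_le a) a • rs L (X.basicOpen_le a) (rs L inf_le_right e) := by
      rw [← rs_smul, hspec, rs_rs]
    rw [h4]
    exact (isGen_smul_iff (he₀.mono (X.basicOpen_le a)) _).2
      (RingedSpace.isUnit_res_basicOpen _ a)
  choose Wx hWx hxWx hgen using key
  exact isGen_of_cover m Wx hWx (fun y hy => Opens.mem_iSup.2 ⟨⟨y, hy⟩, hxWx ⟨y, hy⟩⟩) hgen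

variable {Y' : Scheme.{u}}

/-- a function on `f'⁻¹V'` generating `f'_* O_{X'}` over `V'` is invertible -/
theorem isGen_structure_of_isGen_toPush (f' : X' ⟶ Y') (V' : Y'.Opens) (φ : Γ(X', f' ⁻¹ᵁ V'))
    (h : IsGen ((Scheme.Modules.pushforward f').obj (Coh.structureModule X')) V'
      (toPush f' (Coh.structureModule X') V' (toSec (f' ⁻¹ᵁ V') φ))) :
    IsGen (Coh.structureModule X') (f' ⁻¹ᵁ V') (toSec (f' ⁻¹ᵁ V') φ) := by
  obtain ⟨a, ha⟩ := (h V' le_rfl).2 (toPush f' (Coh.structureModule X') V' (toSec (f' ⁻¹ᵁ V') 1))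
  have ha' : a • rs ((Scheme.Modules.pushforward f').obj (Coh.structureModule X')) le_rfl
      (toPush f' (Coh.structureModule X') V' (toSec (f' ⁻¹ᵁ V') φ)) =
      toPush f' (Coh.structureModule X') V' (toSec (f' ⁻¹ᵁ V') 1) := ha
  rw [rs_self] at ha'
  have h1 : f'.app V' a * φ = 1 := ha'
  have hu : IsUnit φ := IsUnit.of_mul_eq_one _ ((mul_comm _ _).trans h1)
  have h2 := (isGen_smul_iff (isGen_one (f' ⁻¹ᵁ V')) φ).2 hu
  have h3 : φ • toSec (f' ⁻¹ᵁ V') (1 : Γ(X', f' ⁻¹ᵁ V')) = toSec (f' ⁻¹ᵁ V') φ :=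
    congrArg (toSec (f' ⁻¹ᵁ V')) (mul_one φ)
  rwa [h3] at h2

/-- if `M' ≅ O_{X'}` and a section `m'` of `M'` over `f'⁻¹V'` generates `f'_*M'` over `V'`, then it generates
`M'` over `f'⁻¹V'`. -/
theorem isGen_of_isGen_toPush (f' : X' ⟶ Y') {M' : X'.Modules} (θ : M' ≅ Coh.structureModule X')
    (V' : Y'.Opens) (m' : Γ(M', f' ⁻¹ᵁ V'))
    (h : IsGen ((Scheme.Modules.pushforward f').obj M') V' (toPush f' M' V' m')) :
    IsGen M' (f' ⁻¹ᵁ V') m' := by
  have h1 := h.of_iso ((Scheme.Modules.pushforward f').mapIso θ)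
  have h2 : ((Scheme.Modules.pushforward f').mapIso θ).hom.app V' (toPush f' M' V' m') =
      toPush f' (Coh.structureModule X') V' (toSec (f' ⁻¹ᵁ V') (θ.hom.app (f' ⁻¹ᵁ V') m')) := rfl
  rw [h2] at h1
  have h3 := (isGen_structure_of_isGen_toPush f' V' _ h1).of_iso θ.symm
  have h4 : θ.symm.hom.app (f' ⁻¹ᵁ V') (toSec (f' ⁻¹ᵁ V') (θ.hom.app (f' ⁻¹ᵁ V') m')) = m' :=
    iso_inv_hom_app θ _ _
  rwa [h4] at h3

section BaseChange

open Groth.Agent.Lib.AffineBaseChange Groth.Agent.Lib.UnitBaseChange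

variable {X S S' : Scheme.{u}} (f : X ⟶ S) (g : S' ⟶ S) (g' : X' ⟶ X) (f' : X' ⟶ S')
  (h : IsPullback g' f' f g)

include h in
/-- a generator of `f_*L` over `U` pulls back to a generator of `f'_*(g'^*L)` over `g⁻¹U` (flat base change) -/
theorem isGen_toPush_pb [QuasiCompact f] [QuasiSeparated f] [Flat g] (L : X.Modules) [L.IsQuasicoherent]
    (U : S.Opens) (m : Γ(L, f ⁻¹ᵁ U))
    (hm : IsGen ((Scheme.Modules.pushforward f).obj L) U (toPush f L U m)) :
    IsGen ((Scheme.Modules.pushforward f').obj ((Scheme.Modules.pullback g').obj L)) (g ⁻¹ᵁ U)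
      (toPush f' _ (g ⁻¹ᵁ U)
        (rs _ (preimage_le f g g' f' h (le_refl (g ⁻¹ᵁ U))) (pb g' L m))) := by
  have h1 := isGen_pb g hm
  haveI := Groth.Agent.Lib.FlatBaseChangeQcqs.isIso_uMap_of_flat f g g' f' h L
  have h2 := h1.of_iso (asIso (uMap f g g' f' h L))
  have h3 := uMap_unitSec f g g' f' h L (le_refl (g ⁻¹ᵁ U)) m
  have h4 : unitSec g ((Scheme.Modules.pushforward f).obj L) (le_refl (g ⁻¹ᵁ U)) m =
      pb g ((Scheme.Modules.pushforward f).obj L) (toPush f L U m) :=
    rs_self _ _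
  rw [h4] at h3
  have h5 : (asIso (uMap f g g' f' h L)).hom.app (g ⁻¹ᵁ U)
      (pb g ((Scheme.Modules.pushforward f).obj L) (toPush f L U m)) =
      toPush f' _ (g ⁻¹ᵁ U)
        (rs _ (preimage_le f g g' f' h (le_refl (g ⁻¹ᵁ U))) (pb g' L m)) := h3
  rwa [h5] at h2

lemma isGen_of_rs_eq {Z : Scheme.{u}} {M : Z.Modules} {V V' : Z.Opens} (e : V' = V) (s : Γ(M, V))
    (hs : IsGen M V' (rs M (le_of_eq e) s)) : IsGen M V s := by
  subst e
  rwa [rs_self] at hs

include h in
/-- **Core lemma**: let `f` be qcqs, `g` flat surjective, `L` invertible on `X` with `g'^*L ≅ O_{X'}`. A section of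
`L` over `f⁻¹U` which is a free generator of `f_*L` over `U` is a free generator of `L` over `f⁻¹U`. -/
theorem isGen_of_isGen_toPush_of_trivial [QuasiCompact f] [QuasiSeparated f] [Flat g] [Surjective g]
    {L : X.Modules} (hL : PicF.IsInvertible L)
    (θ : (Scheme.Modules.pullback g').obj L ≅ Coh.structureModule X')
    (U : S.Opens) (m : Γ(L, f ⁻¹ᵁ U))
    (hm : IsGen ((Scheme.Modules.pushforward f).obj L) U (toPush f L U m)) :
    IsGen L (f ⁻¹ᵁ U) m := by
  haveI : L.IsQuasicoherent :=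
    isQuasicoherent_of_isFinLocFree (isFinLocFree_of_isInvertible hL)
  haveI : Surjective g' := MorphismProperty.of_isPullback h.flip inferInstance
  have h1 := isGen_toPush_pb f g g' f' h L U m hm
  have h2 := isGen_of_isGen_toPush f' θ (g ⁻¹ᵁ U) _ h1
  have e : f' ⁻¹ᵁ (g ⁻¹ᵁ U) = g' ⁻¹ᵁ (f ⁻¹ᵁ U) := by
    change (f' ≫ g) ⁻¹ᵁ U = (g' ≫ f) ⁻¹ᵁ U
    rw [h.w]
  have h3 := isGen_of_rs_eq e _ h2
  exact isGen_of_isGen_pb g' hL m h3

/-- fpqc descent of invertibility for quasi-coherent modules -/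
theorem isInvertible_of_pullback_iso_structureModule {S S' : Scheme.{u}} (g : S' ⟶ S) [QuasiCompact g] [Flat g]
    [Surjective g] (N : S.Modules) [N.IsQuasicoherent]
    (e : (Scheme.Modules.pullback g).obj N ≅ Coh.structureModule S') : PicF.IsInvertible N := by
  have hinv' : PicF.IsInvertible ((Scheme.Modules.pullback g).obj N) :=
    isInvertible_of_iso e.symm (isInvertible_structureModule S')
  have hflf : FlatMod.IsFinLocFree N :=
    Groth.Agent.S1177.result g N (isFinLocFree_of_isInvertible hinv')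
  rw [isInvertible_iff_isFinLocFreeOfRank_one]
  intro y
  obtain ⟨U, n, hyU, ⟨a⟩⟩ := hflf y
  obtain ⟨y', rfl⟩ := g.surjective y
  have h1 := Groth.Agent.Lib.SemilocalFree.finrank_stalk_eq_of_restrict_iso U a ⟨g y', hyU⟩
  obtain ⟨U', hy'U', ⟨a'⟩⟩ := (isInvertible_iff_isFinLocFreeOfRank_one _).1 hinv' y'
  have h2 := Groth.Agent.Lib.SemilocalFree.finrank_stalk_eq_of_restrict_iso U' a' ⟨y', hy'U'⟩
  haveI := Groth.Agent.Lib.LocFreeFP.free_stalk_of_isFinLocFree hflf (g y')
  have h3 := Groth.Agent.Lib.GenericRankPullback.rank_stalk_pullback g N y'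
  have h4 : Module.finrank (S'.presheaf.stalk y')
      (((Scheme.Modules.pullback g).obj N).presheaf.stalk y') =
      Module.finrank (S.presheaf.stalk (g y')) (N.presheaf.stalk (g y')) :=
    congrArg Cardinal.toNat h3
  have hn : n = 1 := by
    rw [← h1]
    change Module.finrank (S.presheaf.stalk (g y')) (N.presheaf.stalk (g y')) = 1
    rw [← h4]
    exact h2
  subst hn
  exact ⟨U, hyU, ⟨a⟩⟩

include h in
/-- if `O_S ≅ f_*O_X` then `f'_*O_{X'} ≅ O_{S'}` for a flat base change (abstract isomorphism) -/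
theorem nonempty_pushforward_structureModule_iso [QuasiCompact f] [QuasiSeparated f] [Flat g]
    (hf : ∀ U : S.Opens, Function.Bijective (f.app U)) :
    Nonempty ((Scheme.Modules.pushforward f').obj (Coh.structureModule X') ≅ Coh.structureModule S') := by
  haveI := Groth.Agent.Lib.StructureModule.isQuasicoherent_structureModule X
  haveI := Groth.Agent.Lib.FlatBaseChangeQcqs.isIso_uMap_of_flat f g g' f' h (Coh.structureModule X)
  haveI := Groth.Agent.Lib.UnitFinLocFree.isIso_unit_structureModule f hf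
  exact ⟨(Scheme.Modules.pushforward f').mapIso (unitIso g').symm ≪≫
    (asIso (uMap f g g' f' h (Coh.structureModule X))).symm ≪≫
    (Scheme.Modules.pullback g).mapIso ((Scheme.Modules.pushforward f).mapIso (unitIso f).symm) ≪≫
    (Scheme.Modules.pullback g).mapIso
      (asIso ((Scheme.Modules.pullbackPushforwardAdjunction f).unit.app (Coh.structureModule S))).symm ≪≫
    unitIso g⟩

include h in
/-- `g^*(f_*L) ≅ O_{S'}` when `g'^*L ≅ O_{X'}` (abstract isomorphism) -/
theorem nonempty_pullback_pushforward_iso [QuasiCompact f] [QuasiSeparated f] [Flat g]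
    (hf : ∀ U : S.Opens, Function.Bijective (f.app U)) (L : X.Modules) [L.IsQuasicoherent]
    (θ : (Scheme.Modules.pullback g').obj L ≅ Coh.structureModule X') :
    Nonempty ((Scheme.Modules.pullback g).obj ((Scheme.Modules.pushforward f).obj L) ≅
      Coh.structureModule S') := by
  haveI := Groth.Agent.Lib.FlatBaseChangeQcqs.isIso_uMap_of_flat f g g' f' h L
  obtain ⟨e₃⟩ := nonempty_pushforward_structureModule_iso f g g' f' h hf
  exact ⟨asIso (uMap f g g' f' h L) ≪≫ (Scheme.Modules.pushforward f').mapIso θ ≪≫ e₃⟩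

include h in
/-- **S11973**: descent of triviality. -/
theorem isInvertible_pushforward_and_isIso_counit [QuasiCompact f] [QuasiSeparated f] [Flat g] [Surjective g]
    [QuasiCompact g] (hf : ∀ U : S.Opens, Function.Bijective (f.app U))
    {L : X.Modules} (hL : PicF.IsInvertible L)
    (θ : (Scheme.Modules.pullback g').obj L ≅ Coh.structureModule X') :
    PicF.IsInvertible ((Scheme.Modules.pushforward f).obj L) ∧
      IsIso ((Scheme.Modules.pullbackPushforwardAdjunction f).counit.app L) := by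
  haveI : L.IsQuasicoherent :=
    isQuasicoherent_of_isFinLocFree (isFinLocFree_of_isInvertible hL)
  haveI : ((Scheme.Modules.pushforward f).obj L).IsQuasicoherent :=
    Groth.Agent.Lib.H90OXModQcqs.isQuasicoherent_pushforward_of_qcqs f L
  haveI := Groth.Agent.Lib.FlatBaseChangeQcqs.isIso_uMap_of_flat f g g' f' h L
  obtain ⟨e₃⟩ := nonempty_pushforward_structureModule_iso f g g' f' h hf
  have hN : PicF.IsInvertible ((Scheme.Modules.pushforward f).obj L) :=
    isInvertible_of_pullback_iso_structureModule g _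
      (asIso (uMap f g g' f' h L) ≪≫ (Scheme.Modules.pushforward f').mapIso θ ≪≫ e₃)
  refine ⟨hN, ?_⟩
  have key : ∀ s : S, ∃ (U : S.Opens) (e : Γ(L, f ⁻¹ᵁ U)), s ∈ U ∧ IsGen L (f ⁻¹ᵁ U) e := by
    intro s
    obtain ⟨U, hsU, m, hm⟩ := (isInvertible_iff_exists_isGen _).1 hN s
    exact ⟨U, ofPush f L U m, hsU, isGen_of_isGen_toPush_of_trivial f g g' f' h hL θ U _ hm⟩
  choose U e hsU he using key
  refine Groth.Agent.Lib.IdealMod.isIso_of_bijective_on_basis _
    (fun W : {W : X.Opens // ∃ s, W ≤ f ⁻¹ᵁ U s} => W.1) ?_ (fun W => ?_)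
  · refine Opens.isBasis_iff_nbhd.mpr fun {V x} hx => ?_
    exact ⟨V ⊓ f ⁻¹ᵁ U (f x), ⟨⟨V ⊓ f ⁻¹ᵁ U (f x), f x, inf_le_right⟩, rfl⟩,
      ⟨hx, hsU (f x)⟩, inf_le_left⟩
  · obtain ⟨W, s, hW⟩ := W
    refine Groth.Agent.S12057.bijective_app_of_isGen _ (f ⁻¹ᵁ U s)
      (pb f ((Scheme.Modules.pushforward f).obj L) (toPush f L (U s) (e s)))
      (isGen_pb f (Groth.Agent.S12057.isGen_pushforward f hf L (U s) (e s) (he s))) ?_ W hW
    rw [Groth.Agent.S12057.counit_pb]
    exact he s

end BaseChange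

end Groth.Agent.Lib.PicDescent
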