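import Groth.Agent.Lib.SemilocalFree2
import Groth.Agent.Lib.H90InvertiblePullback

/-!
# Locally free modules of constant rank on schemes finite over a local scheme are free
-/

set_option autoImplicit false
universe u

open CategoryTheory CategoryTheory.Limits AlgebraicGeometry

namespace Groth.Agent.Lib.SemilocalFree

open Groth.Agent.Lib.PerfectLocal Groth.Agent.Lib.FinLocFree

variable {X : Scheme.{u}}

/-- A module whose restriction to the whole space is free is free. -/
theorem nonempty_iso_freeMod_of_restrict_top {M : X.Modules} {n : ℕ}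
    (e : M.restrict (⊤ : X.Opens).ι ≅ FlatMod.freeMod (↑(⊤ : X.Opens)) n) :
    Nonempty (M ≅ FlatMod.freeMod X n) := by
  let t : X ⟶ (⊤ : X.Opens) := (Scheme.topIso X).inv
  have ht : t ≫ (⊤ : X.Opens).ι = 𝟙 X := by
    simp [t]
  exact ⟨(Scheme.Modules.restrictFunctorId.app M).symm ≪≫
    ((restrictFactorIso t (⊤ : X.Opens).ι (𝟙 X) ht).app M).symm ≪≫
    (Scheme.Modules.restrictFunctor t).mapIso e ≪≫ restrictFreeModIso t n⟩

/-- On a scheme finite over the spectrum of a local ring, a locally free module of constant rank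
is free. -/
theorem nonempty_iso_freeMod_of_isFinite_of_isLocalRing {R : CommRingCat.{u}} [IsLocalRing R]
    (f : X ⟶ Spec R) [IsFinite f] (r : ℕ) (F : X.Modules)
    (hF : FlatMod.IsFinLocFreeOfRank r F) : Nonempty (F ≅ FlatMod.freeMod X r) := by
  obtain ⟨U, hyU, ⟨e⟩⟩ := exists_open_preimage_free f r F hF (IsLocalRing.closedPoint R)
  have hU : U = ⊤ := (IsLocalRing.closedPoint_mem_iff U).1 hyU
  subst hU
  exact nonempty_iso_freeMod_of_restrict_top e

end Groth.Agent.Lib.SemilocalFree
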