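import Mathlib.AlgebraicGeometry.Morphisms.Proper
import Mathlib.AlgebraicGeometry.Morphisms.Finite
import Mathlib.AlgebraicGeometry.Geometrically.Connected
import Mathlib.RingTheory.Henselian
import Groth.Agent.Lib.H15ClopenLift
import Groth.Agent.Lib.ConnFib5C
import Groth.Agent.Lib.ConnFib5I
import Groth.Agent.Lib.ToSpecGamma
import Groth.Agent.Lib.HenselIdem
import Groth.Agent.S17971

/-!
helper15: henselian couples `(X, X₀)` for `X` proper over a Noetherian ring (S17960, S17961, S17965),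
in hypothesis form on `H2` (= S0002) and `H58` (= S0058).
-/

set_option autoImplicit false
set_option linter.style.haveILetI false
universe u

open CategoryTheory CategoryTheory.Limits AlgebraicGeometry Opposite Set Topology
open Groth.Agent.Lib.H15ClopenLift Groth.Agent.Lib.ProperFinHyp Groth.Agent.Lib.ConnFib5

namespace Groth.Agent.Lib.H15HenselCouple

theorem preimage_comp_eq {Y X T S : Type*} (g : Y → X) (a : X → S) (π : Y → T) (τ : T → S)
    (h : a ∘ g = τ ∘ π) (Z : Set S) : g ⁻¹' (a ⁻¹' Z) = π ⁻¹' (τ ⁻¹' Z) := by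
  rw [← Set.preimage_comp, ← Set.preimage_comp, h]

theorem surjective_toSpecΓ (Y : Scheme.{u}) [CompactSpace Y] (hcl : IsClosedMap Y.toSpecΓ) :
    Function.Surjective Y.toSpecΓ := by
  have hd : DenseRange Y.toSpecΓ := Y.toSpecΓ.denseRange
  have hc : IsClosed (Set.range Y.toSpecΓ) := hcl.isClosed_range
  rw [← Set.range_eq_univ, ← hc.closure_eq]
  exact hd.closure_range

/-- factorisation of `p : Y ⟶ Spec A` through `Spec Γ(Y)`. -/
theorem toSpecΓ_comp_SpecMap {A : Type u} [CommRing A] {Y : Scheme.{u}}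
    (p : Y ⟶ Spec (CommRingCat.of A)) :
    Y.toSpecΓ ≫ Spec.map ((Scheme.ΓSpecIso (CommRingCat.of A)).inv ≫ p.appTop) = p := by
  rw [Spec.map_comp, ← Category.assoc, ← Scheme.toSpecΓ_naturality, Category.assoc]
  rw [toSpecΓ_SpecMap_ΓSpecIso_inv, Category.comp_id]

theorem isClosedImmersion_SpecMap_mk {A : Type u} [CommRing A] (I : Ideal A) :
    IsClosedImmersion (Spec.map (CommRingCat.ofHom (Ideal.Quotient.mk I))) :=
  IsClosedImmersion.spec_of_surjective _ Ideal.Quotient.mk_surjective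

theorem range_SpecMap_mk {A : Type u} [CommRing A] (I : Ideal A) :
    Set.range (Spec.map (CommRingCat.ofHom (Ideal.Quotient.mk I))) =
      PrimeSpectrum.zeroLocus (I : Set A) := by
  have := range_comap_of_surjective _ (Ideal.Quotient.mk I) Ideal.Quotient.mk_surjective
  rw [Ideal.mk_ker] at this
  exact this

theorem preimage_range_SpecMap_mk {A : Type u} [CommRing A] (I : Ideal A) {Y : Scheme.{u}}
    (p : Y ⟶ Spec (CommRingCat.of A)) :
    p ⁻¹' (Set.range (Spec.map (CommRingCat.ofHom (Ideal.Quotient.mk I)))) =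
      Y.toSpecΓ ⁻¹' (PrimeSpectrum.zeroLocus
        (I.map ((Scheme.ΓSpecIso (CommRingCat.of A)).inv ≫ p.appTop).hom : Set Γ(Y, ⊤))) := by
  rw [range_SpecMap_mk]
  ext y
  have hp : p y = Spec.map ((Scheme.ΓSpecIso (CommRingCat.of A)).inv ≫ p.appTop) (Y.toSpecΓ y) := by
    conv_lhs => rw [← toSpecΓ_comp_SpecMap p]
    rfl
  have key : ∀ z : PrimeSpectrum Γ(Y, ⊤),
      (PrimeSpectrum.comap ((Scheme.ΓSpecIso (CommRingCat.of A)).inv ≫ p.appTop).hom z ∈
        PrimeSpectrum.zeroLocus (I : Set A)) ↔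
      z ∈ PrimeSpectrum.zeroLocus
        (I.map ((Scheme.ΓSpecIso (CommRingCat.of A)).inv ≫ p.appTop).hom : Set Γ(Y, ⊤)) := by
    intro z
    rw [PrimeSpectrum.mem_zeroLocus, PrimeSpectrum.mem_zeroLocus, SetLike.coe_subset_coe,
      SetLike.coe_subset_coe, PrimeSpectrum.comap_asIdeal]
    exact Ideal.map_le_iff_le_comap.symm
  show p y ∈ PrimeSpectrum.zeroLocus (I : Set A) ↔ _
  rw [hp]
  exact key (Y.toSpecΓ y)

theorem map_le_ker_appTop {A : Type u} [CommRing A] (I : Ideal A) {X : Scheme.{u}}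
    (f : X ⟶ Spec (CommRingCat.of A)) :
    I.map ((Scheme.ΓSpecIso (CommRingCat.of A)).inv ≫ f.appTop).hom ≤
      RingHom.ker (pullback.fst f (Spec.map (CommRingCat.ofHom (Ideal.Quotient.mk I)))).appTop.hom := by
  rw [Ideal.map_le_iff_le_comap]
  intro a ha
  rw [Ideal.mem_comap, RingHom.mem_ker]
  let ι := Spec.map (CommRingCat.ofHom (Ideal.Quotient.mk I))
  have hc : pullback.fst f ι ≫ f = pullback.snd f ι ≫ ι := pullback.condition
  have h1 : f.appTop ≫ (pullback.fst f ι).appTop = ι.appTop ≫ (pullback.snd f ι).appTop := by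
    rw [← Scheme.Hom.comp_appTop, ← Scheme.Hom.comp_appTop, hc]
  have h2 : (Scheme.ΓSpecIso (CommRingCat.of A)).inv ≫ ι.appTop =
      CommRingCat.ofHom (Ideal.Quotient.mk I) ≫ (Scheme.ΓSpecIso (CommRingCat.of (A ⧸ I))).inv := by
    rw [Iso.inv_comp_eq, ← Category.assoc, Iso.eq_comp_inv]
    exact Scheme.ΓSpecIso_naturality (CommRingCat.ofHom (Ideal.Quotient.mk I))
  have h3 : ((Scheme.ΓSpecIso (CommRingCat.of A)).inv ≫ f.appTop) ≫ (pullback.fst f ι).appTop =
      CommRingCat.ofHom (Ideal.Quotient.mk I) ≫ (Scheme.ΓSpecIso (CommRingCat.of (A ⧸ I))).inv ≫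
        (pullback.snd f ι).appTop := by
    rw [Category.assoc, h1, ← Category.assoc, h2, Category.assoc]
  have h4 := congrArg (fun k => k.hom a) h3
  simp only [CommRingCat.hom_comp, RingHom.comp_apply, CommRingCat.hom_ofHom] at h4
  show (pullback.fst f ι).appTop.hom (f.appTop.hom
    ((Scheme.ΓSpecIso (CommRingCat.of A)).inv.hom a)) = 0
  rw [h4, Ideal.Quotient.eq_zero_iff_mem.2 ha, map_zero, map_zero]

theorem zeroLocus_ker_appTop_eq {A : Type u} [CommRing A] (I : Ideal A) {X : Scheme.{u}}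
    (f : X ⟶ Spec (CommRingCat.of A)) (hsurj : Function.Surjective X.toSpecΓ) :
    PrimeSpectrum.zeroLocus (RingHom.ker
      (pullback.fst f (Spec.map (CommRingCat.ofHom (Ideal.Quotient.mk I)))).appTop.hom : Set Γ(X, ⊤)) =
    PrimeSpectrum.zeroLocus
      (I.map ((Scheme.ΓSpecIso (CommRingCat.of A)).inv ≫ f.appTop).hom : Set Γ(X, ⊤)) := by
  apply Set.Subset.antisymm
  · exact PrimeSpectrum.zeroLocus_anti_mono (map_le_ker_appTop I f)
  · intro z hz
    obtain ⟨x, rfl⟩ := hsurj z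
    let ι := Spec.map (CommRingCat.ofHom (Ideal.Quotient.mk I))
    have hx : x ∈ f ⁻¹' (Set.range ι) := by
      rw [preimage_range_SpecMap_mk I f]
      exact hz
    rw [← Scheme.Pullback.range_fst] at hx
    obtain ⟨x₀, rfl⟩ := hx
    refine (PrimeSpectrum.mem_zeroLocus _ _).2 ?_
    intro b hb
    have hb0 : (pullback.fst f ι).appTop.hom b = 0 := hb
    by_contra hbx
    have hmem : (pullback.fst f ι) x₀ ∈ X.basicOpen b := by
      rw [← Scheme.toSpecΓ_preimage_basicOpen]
      exact hbx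
    have h2 : x₀ ∈ (pullback.fst f ι) ⁻¹ᵁ X.basicOpen b := hmem
    rw [Scheme.preimage_basicOpen] at h2
    have h3 : (pullback.fst f ι).app ⊤ b = 0 := hb0
    rw [h3, Scheme.basicOpen_zero] at h2
    exact h2

theorem isPushout_quotient_map {A A' : Type u} [CommRing A] [CommRing A'] (φ : A →+* A')
    (I : Ideal A) :
    IsPushout (CommRingCat.ofHom (Ideal.Quotient.mk I)) (CommRingCat.ofHom φ)
      (CommRingCat.ofHom (Ideal.quotientMap (I.map φ) φ Ideal.le_comap_map))
      (CommRingCat.ofHom (Ideal.Quotient.mk (I.map φ))) := by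
  have hw : CommRingCat.ofHom (Ideal.Quotient.mk I) ≫
      CommRingCat.ofHom (Ideal.quotientMap (I.map φ) φ Ideal.le_comap_map) =
      CommRingCat.ofHom φ ≫ CommRingCat.ofHom (Ideal.Quotient.mk (I.map φ)) := by
    ext a
    simp
  refine ⟨⟨hw⟩, ⟨PushoutCocone.IsColimit.mk _ (fun s => ?_) ?_ ?_ ?_⟩⟩
  · refine CommRingCat.ofHom (Ideal.Quotient.lift (I.map φ) s.inr.hom ?_)
    intro a ha
    have hle : I.map φ ≤ RingHom.ker s.inr.hom := by
      rw [Ideal.map_le_iff_le_comap]
      intro x hx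
      rw [Ideal.mem_comap, RingHom.mem_ker]
      have h1 := congrArg (fun k => k.hom x) s.condition
      simp only [CommRingCat.hom_comp, RingHom.comp_apply, CommRingCat.hom_ofHom] at h1
      rw [← h1, Ideal.Quotient.eq_zero_iff_mem.2 hx, map_zero]
    exact hle ha
  · intro s
    ext a
    have h1 := congrArg (fun k => k.hom a) s.condition
    simp only [CommRingCat.hom_comp, RingHom.comp_apply, CommRingCat.hom_ofHom] at h1
    simp only [CommRingCat.hom_comp, RingHom.comp_apply, CommRingCat.hom_ofHom,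
      Ideal.quotientMap_mk, h1]
    exact Ideal.Quotient.lift_mk _ _ _
  · intro s
    ext a
    simp only [CommRingCat.hom_comp, RingHom.comp_apply, CommRingCat.hom_ofHom]
    exact Ideal.Quotient.lift_mk (I.map φ) s.inr.hom _
  · intro s m h1 h2
    ext a
    have := congrArg (fun k => k.hom a) h2
    simp only [CommRingCat.hom_comp, RingHom.comp_apply, CommRingCat.hom_ofHom] at this ⊢
    rw [this]
    exact (Ideal.Quotient.lift_mk _ _ _).symm

/-- the cartesian square of the Stein factor. -/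
theorem exists_isPullback_toSpecΓ {A : Type u} [CommRing A] (I : Ideal A) {X : Scheme.{u}}
    (f : X ⟶ Spec (CommRingCat.of A)) :
    ∃ t : pullback f (Spec.map (CommRingCat.ofHom (Ideal.Quotient.mk I))) ⟶
        Spec (CommRingCat.of ((Γ(X, ⊤) : Type u) ⧸
          I.map ((Scheme.ΓSpecIso (CommRingCat.of A)).inv ≫ f.appTop).hom)),
      IsPullback (pullback.fst f (Spec.map (CommRingCat.ofHom (Ideal.Quotient.mk I)))) t
        (X.toSpecΓ : X ⟶ Spec (CommRingCat.of (Γ(X, ⊤) : Type u)))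
        (Spec.map (CommRingCat.ofHom (Ideal.Quotient.mk
          (I.map ((Scheme.ΓSpecIso (CommRingCat.of A)).inv ≫ f.appTop).hom)))) := by
  let φ : A →+* Γ(X, ⊤) := ((Scheme.ΓSpecIso (CommRingCat.of A)).inv ≫ f.appTop).hom
  let ι := Spec.map (CommRingCat.ofHom (Ideal.Quotient.mk I))
  have hbot := (isPullback_SpecMap_of_isPushout _ _ _ _ (isPushout_quotient_map φ I)).flip
  have hf : (X.toSpecΓ : X ⟶ Spec (CommRingCat.of (Γ(X, ⊤) : Type u))) ≫
      Spec.map (CommRingCat.ofHom φ) = f := toSpecΓ_comp_SpecMap f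
  have hcond : (pullback.fst f ι ≫ X.toSpecΓ) ≫ Spec.map (CommRingCat.ofHom φ) =
      pullback.snd f ι ≫ ι := by
    rw [Category.assoc, hf, pullback.condition]
  refine ⟨hbot.lift (pullback.fst f ι ≫ X.toSpecΓ) (pullback.snd f ι) hcond, ?_⟩
  refine IsPullback.of_bot ?_ (hbot.lift_fst _ _ hcond).symm hbot
  rw [hbot.lift_snd, hf]
  exact IsPullback.of_hasPullback f ι

theorem isProper_toSpecΓ {A : Type u} [CommRing A] (Y : Scheme.{u})
    (p : Y ⟶ Spec (CommRingCat.of A)) [IsProper p] : IsProper Y.toSpecΓ := by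
  have : IsProper (Y.toSpecΓ ≫ Spec.map p.appTop) := by
    rw [← Scheme.toSpecΓ_naturality]
    infer_instance
  exact IsProper.of_comp Y.toSpecΓ (Spec.map p.appTop)

theorem finite_of_hyp (H2 : Hyp.{u}) (A : Type u) [CommRing A] [IsNoetherianRing A]
    (Y : Scheme.{u}) (p : Y ⟶ Spec (CommRingCat.of A)) [IsProper p] :
    ((Scheme.ΓSpecIso (CommRingCat.of A)).inv ≫ p.appTop).hom.Finite := by
  have h1 : (p.appTop).hom.Finite := Groth.Agent.Lib.SteinFin5.finite_appTop_of_hyp H2 A Y p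
  have h2 : ((Scheme.ΓSpecIso (CommRingCat.of A)).inv).hom.Finite :=
    RingHom.Finite.of_surjective _
      (ConcreteCategory.bijective_of_isIso (Scheme.ΓSpecIso (CommRingCat.of A)).inv).2
  exact h1.comp h2

/-- Stein factor: `LiftsClopens` transfers from `Spec Γ(Y)` to `Y`, for `Y` proper over a
Noetherian ring. -/
theorem liftsClopens_toSpecΓ_preimage (H2 : Hyp.{u}) (H58 : Hyp58.{u}) (A : Type u) [CommRing A]
    [IsNoetherianRing A] (Y : Scheme.{u}) (p : Y ⟶ Spec (CommRingCat.of A)) [IsProper p]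
    (Z : Set (PrimeSpectrum Γ(Y, ⊤))) (hZ : IsClosed Z) (hl : LiftsClopens Z) :
    LiftsClopens ((Y.toSpecΓ : Y → PrimeSpectrum Γ(Y, ⊤)) ⁻¹' Z) := by
  haveI : CompactSpace Y := (quasiCompact_iff_compactSpace p).mp inferInstance
  haveI : IsProper Y.toSpecΓ := isProper_toSpecΓ Y p
  have hcl : IsClosedMap Y.toSpecΓ := Y.toSpecΓ.isClosedMap
  refine liftsClopens_preimage (Y.toSpecΓ : Y → PrimeSpectrum Γ(Y, ⊤)) Y.toSpecΓ.continuous hcl
    (surjective_toSpecΓ Y hcl) (fun F hF hne => IsClosed.exists_closed_singleton hF hne) ?_ Z hZ hl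
  intro s hs
  haveI hmax : s.asIdeal.IsMaximal := (PrimeSpectrum.isClosed_singleton_iff_isMaximal s).1 hs
  exact isPreconnected_toSpecΓ_preimage H2 H58 A Y p s.asIdeal

/-- henselian pair ⇒ clopens of `V(J)` lift uniquely to `Spec B`. -/
theorem liftsClopens_zeroLocus_of_henselian (B : Type u) [CommRing B] (J : Ideal B)
    [HenselianRing B J] : LiftsClopens (PrimeSpectrum.zeroLocus (J : Set B)) := by
  have h := (Groth.Agent.S17971.result B J).1 inferInstance (Spec (CommRingCat.of B)) (𝟙 _)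
    inferInstance
  haveI := isClosedImmersion_SpecMap_mk J
  let e := pullback.fst (𝟙 (Spec (CommRingCat.of B)))
    (Spec.map (CommRingCat.ofHom (Ideal.Quotient.mk J)))
  have hr : Set.range e = PrimeSpectrum.zeroLocus (J : Set B) := by
    rw [Scheme.Pullback.range_fst, range_SpecMap_mk]
    rfl
  have h2 := (liftsClopens_range_iff (e : _ → PrimeSpectrum B) e.isClosedEmbedding.isEmbedding).2 h
  rw [hr] at h2
  exact h2

section Couple

variable (A : Type u) [CommRing A] (I : Ideal A) {X : Scheme.{u}}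
  (f : X ⟶ Spec (CommRingCat.of A))

theorem range_fst_fst (Y : Scheme.{u}) (g : Y ⟶ X) :
    Set.range (pullback.fst g (pullback.fst f (Spec.map (CommRingCat.ofHom (Ideal.Quotient.mk I))))) =
      (Y.toSpecΓ : Y → PrimeSpectrum Γ(Y, ⊤)) ⁻¹' (PrimeSpectrum.zeroLocus
        (I.map ((Scheme.ΓSpecIso (CommRingCat.of A)).inv ≫ (g ≫ f).appTop).hom : Set Γ(Y, ⊤))) := by
  rw [Scheme.Pullback.range_fst, Scheme.Pullback.range_fst, ← preimage_range_SpecMap_mk I (g ≫ f)]
  rfl

/-- core: lifting of clopens from `V(I Γ(Y))` gives the couple property for `(Y, g)`. -/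
theorem couple_of_liftsClopens (H2 : Hyp.{u}) (H58 : Hyp58.{u}) [IsNoetherianRing A] [IsProper f]
    (Y : Scheme.{u}) (g : Y ⟶ X) [IsFinite g]
    (hl : LiftsClopens (PrimeSpectrum.zeroLocus
        (I.map ((Scheme.ΓSpecIso (CommRingCat.of A)).inv ≫ (g ≫ f).appTop).hom : Set Γ(Y, ⊤)))) :
    ∀ V : Set ↥(pullback g (pullback.fst f (Spec.map (CommRingCat.ofHom (Ideal.Quotient.mk I))))), IsClopen V →
        ∃! U : Set ↥Y, IsClopen U ∧ (pullback.fst g (pullback.fst f (Spec.map (CommRingCat.ofHom (Ideal.Quotient.mk I))))).base ⁻¹' U = V := by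
  let p : Y ⟶ Spec (CommRingCat.of A) := g ≫ f
  haveI : IsProper p := inferInstance
  haveI := isClosedImmersion_SpecMap_mk I
  have h2 := liftsClopens_toSpecΓ_preimage H2 H58 A Y p _ (PrimeSpectrum.isClosed_zeroLocus _) hl
  let q := pullback.fst g (pullback.fst f (Spec.map (CommRingCat.ofHom (Ideal.Quotient.mk I))))
  rw [← range_fst_fst A I f Y g] at h2
  exact (liftsClopens_range_iff (q : _ → Y) q.isClosedEmbedding.isEmbedding).1 h2

theorem main_S17961 (H2 : Hyp.{u}) (H58 : Hyp58.{u}) [IsNoetherianRing A] [HenselianRing A I]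
    [IsProper f] :
    ∀ (Y : Scheme.{u}) (g : Y ⟶ X), IsFinite g →
      ∀ V : Set ↥(pullback g (pullback.fst f (Spec.map (CommRingCat.ofHom (Ideal.Quotient.mk I))))), IsClopen V →
        ∃! U : Set ↥Y, IsClopen U ∧ (pullback.fst g (pullback.fst f (Spec.map (CommRingCat.ofHom (Ideal.Quotient.mk I))))).base ⁻¹' U = V := by
  intro Y g hg
  haveI := hg
  let p : Y ⟶ Spec (CommRingCat.of A) := g ≫ f
  haveI : IsProper p := inferInstance
  let φ : A →+* Γ(Y, ⊤) := ((Scheme.ΓSpecIso (CommRingCat.of A)).inv ≫ p.appTop).hom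
  have hfin : φ.Finite := finite_of_hyp H2 A Y p
  letI : Algebra A Γ(Y, ⊤) := φ.toAlgebra
  haveI : Module.Finite A Γ(Y, ⊤) := hfin
  haveI : Algebra.IsIntegral A Γ(Y, ⊤) := Algebra.IsIntegral.of_finite A _
  haveI : HenselianRing Γ(Y, ⊤) (I.map (algebraMap A Γ(Y, ⊤))) :=
    Groth.Agent.Lib.HenselIdem.henselianRing_of_isIntegral I
  have h1 := liftsClopens_zeroLocus_of_henselian Γ(Y, ⊤) (I.map φ)
  exact couple_of_liftsClopens A I f H2 H58 Y g h1

theorem main_S17960 (H2 : Hyp.{u}) (H58 : Hyp58.{u}) [IsNoetherianRing A] [IsProper f]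
    (h : HenselianRing (Γ(X, ⊤) : Type u)
      (RingHom.ker (pullback.fst f (Spec.map (CommRingCat.ofHom (Ideal.Quotient.mk I)))).appTop.hom)) :
    ∀ (Y : Scheme.{u}) (g : Y ⟶ X), IsFinite g →
      ∀ V : Set ↥(pullback g (pullback.fst f (Spec.map (CommRingCat.ofHom (Ideal.Quotient.mk I))))), IsClopen V →
        ∃! U : Set ↥Y, IsClopen U ∧ (pullback.fst g (pullback.fst f (Spec.map (CommRingCat.ofHom (Ideal.Quotient.mk I))))).base ⁻¹' U = V := by
  intro Y g hg
  haveI := hg
  haveI := h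
  let p : Y ⟶ Spec (CommRingCat.of A) := g ≫ f
  haveI : IsProper p := inferInstance
  let φX : A →+* Γ(X, ⊤) := ((Scheme.ΓSpecIso (CommRingCat.of A)).inv ≫ f.appTop).hom
  let φY : A →+* Γ(Y, ⊤) := ((Scheme.ΓSpecIso (CommRingCat.of A)).inv ≫ p.appTop).hom
  let ψ : Γ(X, ⊤) →+* Γ(Y, ⊤) := g.appTop.hom
  have hφ : φY = ψ.comp φX := by
    ext a
    show (p.appTop).hom _ = _
    rw [show p.appTop = f.appTop ≫ g.appTop from Scheme.Hom.comp_appTop g f]
    rfl
  have hfinY : φY.Finite := finite_of_hyp H2 A Y p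
  have hfinψ : ψ.Finite := by
    rw [hφ] at hfinY
    exact RingHom.Finite.of_comp_finite hfinY
  let J : Ideal Γ(X, ⊤) :=
    RingHom.ker (pullback.fst f (Spec.map (CommRingCat.ofHom (Ideal.Quotient.mk I)))).appTop.hom
  letI : Algebra Γ(X, ⊤) Γ(Y, ⊤) := ψ.toAlgebra
  haveI : Module.Finite Γ(X, ⊤) Γ(Y, ⊤) := hfinψ
  haveI : Algebra.IsIntegral Γ(X, ⊤) Γ(Y, ⊤) := Algebra.IsIntegral.of_finite _ _
  haveI : HenselianRing Γ(Y, ⊤) (J.map (algebraMap Γ(X, ⊤) Γ(Y, ⊤))) :=
    Groth.Agent.Lib.HenselIdem.henselianRing_of_isIntegral J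
  have h1 := liftsClopens_zeroLocus_of_henselian Γ(Y, ⊤) (J.map ψ)
  haveI : CompactSpace X := (quasiCompact_iff_compactSpace f).mp inferInstance
  haveI : IsProper X.toSpecΓ := isProper_toSpecΓ X f
  have hsurj : Function.Surjective X.toSpecΓ := surjective_toSpecΓ X X.toSpecΓ.isClosedMap
  have hz : PrimeSpectrum.zeroLocus (J.map ψ : Set Γ(Y, ⊤)) =
      PrimeSpectrum.zeroLocus (I.map φY : Set Γ(Y, ⊤)) := by
    have hJ := zeroLocus_ker_appTop_eq I f hsurj
    ext z
    have e1 : z ∈ PrimeSpectrum.zeroLocus (J.map ψ : Set Γ(Y, ⊤)) ↔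
        PrimeSpectrum.comap ψ z ∈ PrimeSpectrum.zeroLocus (J : Set Γ(X, ⊤)) := by
      rw [PrimeSpectrum.mem_zeroLocus, PrimeSpectrum.mem_zeroLocus, SetLike.coe_subset_coe,
        SetLike.coe_subset_coe, PrimeSpectrum.comap_asIdeal]
      exact Ideal.map_le_iff_le_comap
    have e2 : z ∈ PrimeSpectrum.zeroLocus (I.map φY : Set Γ(Y, ⊤)) ↔
        PrimeSpectrum.comap ψ z ∈ PrimeSpectrum.zeroLocus (I.map φX : Set Γ(X, ⊤)) := by
      rw [PrimeSpectrum.mem_zeroLocus, PrimeSpectrum.mem_zeroLocus, SetLike.coe_subset_coe,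
        SetLike.coe_subset_coe, PrimeSpectrum.comap_asIdeal, hφ, ← Ideal.map_map]
      exact Ideal.map_le_iff_le_comap
    rw [e1, e2, hJ]
  rw [hz] at h1
  exact couple_of_liftsClopens A I f H2 H58 Y g h1

theorem main_S17965 (H2 : Hyp.{u}) (H58 : Hyp58.{u}) [IsNoetherianRing A] [IsProper f]
    (hX : ∀ (Y : Scheme.{u}) (g : Y ⟶ X), IsFinite g →
      ∀ V : Set ↥(pullback g (pullback.fst f (Spec.map (CommRingCat.ofHom (Ideal.Quotient.mk I))))), IsClopen V →
        ∃! U : Set ↥Y, IsClopen U ∧ (pullback.fst g (pullback.fst f (Spec.map (CommRingCat.ofHom (Ideal.Quotient.mk I))))).base ⁻¹' U = V) :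
    ∃ (A' : Type u) (_ : CommRing A') (I' : Ideal A') (_ : HenselianRing A' I') (_ : IsNoetherianRing A')
      (f' : X ⟶ Spec (CommRingCat.of A')) (_ : IsProper f')
      (t : pullback f (Spec.map (CommRingCat.ofHom (Ideal.Quotient.mk I))) ⟶ Spec (CommRingCat.of (A' ⧸ I'))),
      IsPullback (pullback.fst f (Spec.map (CommRingCat.ofHom (Ideal.Quotient.mk I)))) t f' (Spec.map (CommRingCat.ofHom (Ideal.Quotient.mk I'))) := by
  let φ : A →+* Γ(X, ⊤) := ((Scheme.ΓSpecIso (CommRingCat.of A)).inv ≫ f.appTop).hom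
  have hfin : φ.Finite := finite_of_hyp H2 A X f
  haveI : IsNoetherianRing (Γ(X, ⊤) : Type u) := by
    letI : Algebra A Γ(X, ⊤) := φ.toAlgebra
    haveI : Module.Finite A Γ(X, ⊤) := hfin
    haveI : IsNoetherian A Γ(X, ⊤) := isNoetherian_of_isNoetherianRing_of_finite A _
    exact isNoetherian_of_tower A inferInstance
  haveI : CompactSpace X := (quasiCompact_iff_compactSpace f).mp inferInstance
  haveI : QuasiSeparatedSpace X := (quasiSeparated_iff_quasiSeparatedSpace f).mp inferInstance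
  haveI hprop : IsProper X.toSpecΓ := isProper_toSpecΓ X f
  haveI : IsLocallyNoetherian (Spec Γ(X, ⊤)) := inferInstance
  haveI hgc : GeometricallyConnected X.toSpecΓ := by
    refine geometricallyConnected_of_isIso_app X.toSpecΓ H2 H58 (fun U => ?_)
    exact (ConcreteCategory.isIso_iff_bijective _).2
      (Groth.Agent.Lib.ToSpecGamma.bijective_toSpecΓ_app X U)
  have hhens : HenselianRing (Γ(X, ⊤) : Type u) (I.map φ) := by
    refine (Groth.Agent.S17971.result (Γ(X, ⊤) : Type u) (I.map φ)).2 ?_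
    intro T τ hτ
    haveI := hτ
    haveI := isClosedImmersion_SpecMap_mk I
    haveI := isClosedImmersion_SpecMap_mk (I.map φ)
    let ι' := Spec.map (CommRingCat.ofHom (Ideal.Quotient.mk (I.map φ)))
    let Y := pullback X.toSpecΓ τ
    let g : Y ⟶ X := pullback.fst X.toSpecΓ τ
    let π : Y ⟶ T := pullback.snd X.toSpecΓ τ
    haveI : IsFinite g := inferInstance
    haveI : IsProper π := inferInstance
    haveI : GeometricallyConnected π := inferInstance
    let q := pullback.fst g (pullback.fst f (Spec.map (CommRingCat.ofHom (Ideal.Quotient.mk I))))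
    have h1 : LiftsClopens (Set.range q) :=
      (liftsClopens_range_iff (q : _ → Y) q.isClosedEmbedding.isEmbedding).2 (hX Y g inferInstance)
    let e := pullback.fst τ ι'
    have hrange : Set.range q = (π : Y → T) ⁻¹' (Set.range e) := by
      rw [Scheme.Pullback.range_fst, Scheme.Pullback.range_fst, Scheme.Pullback.range_fst,
        preimage_range_SpecMap_mk I f, range_SpecMap_mk]
      have hc : g ≫ X.toSpecΓ = π ≫ τ := pullback.condition
      have hcomp : (X.toSpecΓ : X → _) ∘ (g : Y → X) = (τ : T → _) ∘ (π : Y → T) := by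
        funext y
        exact congrArg (fun k : Y ⟶ _ => k y) hc
      exact preimage_comp_eq _ _ _ _ hcomp _
    rw [hrange] at h1
    haveI : IsAffine T := isAffine_of_isAffineHom τ
    have h2 : LiftsClopens (Set.range e) :=
      liftsClopens_of_preimage (π : Y → T) π.continuous π.isClosedMap π.surjective
        (fun F hF hne => IsClosed.exists_closed_singleton hF hne)
        (fun t _ => (π.isConnected_preimage_singleton t).isPreconnected) _ h1
    exact (liftsClopens_range_iff (e : _ → T) e.isClosedEmbedding.isEmbedding).1 h2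
  obtain ⟨t, ht⟩ := exists_isPullback_toSpecΓ I f
  exact ⟨(Γ(X, ⊤) : Type u), inferInstance, I.map φ, hhens, inferInstance, X.toSpecΓ, hprop, t, ht⟩

end Couple

end Groth.Agent.Lib.H15HenselCouple
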