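import Mathlib.Algebra.Homology.ShortComplex.ModuleCat
import Mathlib.Algebra.Homology.ShortComplex.Limits
import Mathlib.Algebra.Category.ModuleCat.FilteredColimits
import Mathlib.CategoryTheory.Limits.ConcreteCategory.Filtered
import Mathlib.Algebra.Category.ModuleCat.Abelian
import Mathlib.Algebra.Homology.ShortComplex.HomologicalComplex
import Mathlib.Algebra.Homology.HomologicalComplexLimits

open CategoryTheory Limits

universe u
variable {R : Type u} [Ring R]

namespace Groth.Agent.Lib.H15HomologyFiltered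

section elem
variable (S : ShortComplex (ModuleCat.{u} R))

lemma homologyπ_surjective : Function.Surjective S.homologyπ :=
  (ModuleCat.epi_iff_surjective _).1 inferInstance

lemma iCycles_injective : Function.Injective S.iCycles :=
  (ModuleCat.mono_iff_injective _).1 inferInstance

lemma exists_cycle (x : S.X₂) (hx : S.g x = 0) : ∃ z : S.cycles, S.iCycles z = x :=
  ⟨S.moduleCatCyclesIso.inv ⟨x, hx⟩, S.moduleCatCyclesIso_inv_iCycles_apply ⟨x, hx⟩⟩

lemma homologyπ_eq_zero (z : S.cycles) (hz : S.homologyπ z = 0) :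
    ∃ y : S.X₁, S.toCycles y = z := by
  have h := (ShortComplex.mk S.toCycles S.homologyπ S.toCycles_comp_homologyπ).exact_of_g_is_cokernel
    S.homologyIsCokernel
  rw [ShortComplex.moduleCat_exact_iff] at h
  exact h z hz

end elem

section
variable {S T : ShortComplex (ModuleCat.{u} R)} (φ : S ⟶ T)

lemma iCycles_cyclesMap_apply (z : S.cycles) :
    T.iCycles (ShortComplex.cyclesMap φ z) = φ.τ₂ (S.iCycles z) := by
  rw [← ModuleCat.comp_apply, ← ModuleCat.comp_apply, ShortComplex.cyclesMap_i]

lemma homologyMap_homologyπ_apply (z : S.cycles) :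
    ShortComplex.homologyMap φ (S.homologyπ z) = T.homologyπ (ShortComplex.cyclesMap φ z) := by
  rw [← ModuleCat.comp_apply, ← ModuleCat.comp_apply, ShortComplex.homologyπ_naturality]

lemma g_τ₂_apply (x : S.X₂) : T.g (φ.τ₂ x) = φ.τ₃ (S.g x) := by
  rw [← ModuleCat.comp_apply, ← ModuleCat.comp_apply, φ.comm₂₃]

lemma f_τ₁_apply (x : S.X₁) : T.f (φ.τ₁ x) = φ.τ₂ (S.f x) := by
  rw [← ModuleCat.comp_apply, ← ModuleCat.comp_apply, φ.comm₁₂]

lemma iCycles_toCycles_apply (x : S.X₁) : S.iCycles (S.toCycles x) = S.f x := by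
  rw [← ModuleCat.comp_apply, ShortComplex.toCycles_i]

lemma g_iCycles_apply (z : S.cycles) : S.g (S.iCycles z) = 0 := by
  rw [← ModuleCat.comp_apply, ShortComplex.iCycles_g]; rfl

end

section main
variable {J : Type u} [SmallCategory J] [IsFiltered J]

theorem isColimit_homology_mapCocone
    (K : J ⥤ ShortComplex (ModuleCat.{u} R)) (c : Cocone K) (hc : IsColimit c) :
    Nonempty (IsColimit ((ShortComplex.homologyFunctor (ModuleCat.{u} R)).mapCocone c)) := by
  have h₁ : IsColimit (ShortComplex.π₁.mapCocone c) := isColimitOfPreserves _ hc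
  have h₂ : IsColimit (ShortComplex.π₂.mapCocone c) := isColimitOfPreserves _ hc
  have h₃ : IsColimit (ShortComplex.π₃.mapCocone c) := isColimitOfPreserves _ hc
  let ι : ∀ j, K.obj j ⟶ c.pt := fun j => c.ι.app j
  have hι : ∀ {j k : J} (f : j ⟶ k), K.map f ≫ ι k = ι j := fun f => c.w f
  refine ⟨isColimitOfReflects (forget (ModuleCat.{u} R)) ?_⟩
  refine Types.FilteredColimit.isColimitOf' _ _ ?_ ?_
  · intro (h : c.pt.homology)
    obtain ⟨z, rfl⟩ := homologyπ_surjective _ h
    obtain ⟨j, xj, hxj⟩ := Concrete.isColimit_exists_rep _ h₂ (c.pt.iCycles z)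
    replace hxj : (ι j).τ₂ xj = c.pt.iCycles z := hxj
    have h0 : (ι j).τ₃ ((K.obj j).g xj) = (ι j).τ₃ 0 := by
      rw [map_zero, ← g_τ₂_apply, hxj, g_iCycles_apply]
    obtain ⟨k, f, hk⟩ := (IsColimit.eq_iff' h₃ _ _).1 h0
    replace hk : (K.map f).τ₃ ((K.obj j).g xj) = (K.map f).τ₃ 0 := hk
    rw [map_zero, ← g_τ₂_apply] at hk
    obtain ⟨zk, hzk⟩ := exists_cycle _ _ hk
    refine ⟨k, (K.obj k).homologyπ zk, ?_⟩
    change c.pt.homologyπ z = ShortComplex.homologyMap (ι k) ((K.obj k).homologyπ zk)
    rw [homologyMap_homologyπ_apply]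
    congr 1
    apply iCycles_injective
    rw [iCycles_cyclesMap_apply, hzk, ← hxj, ← hι f]
    rfl
  · intro i (a : (K.obj i).homology) (b : (K.obj i).homology) hab
    replace hab : ShortComplex.homologyMap (ι i) a = ShortComplex.homologyMap (ι i) b := hab
    obtain ⟨zi, hzi⟩ := homologyπ_surjective _ (a - b)
    have hd : ShortComplex.homologyMap (ι i) ((K.obj i).homologyπ zi) = 0 := by
      rw [hzi, map_sub, hab, sub_self]
    rw [homologyMap_homologyπ_apply] at hd
    obtain ⟨y, hy⟩ := homologyπ_eq_zero _ _ hd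
    obtain ⟨j, yj, hyj⟩ := Concrete.isColimit_exists_rep _ h₁ y
    replace hyj : (ι j).τ₁ yj = y := hyj
    let m := IsFiltered.max i j
    let u : i ⟶ m := IsFiltered.leftToMax i j
    let v : j ⟶ m := IsFiltered.rightToMax i j
    have hw : (ι m).τ₂ ((K.map u).τ₂ ((K.obj i).iCycles zi)) =
        (ι m).τ₂ ((K.obj m).f ((K.map v).τ₁ yj)) := by
      have e1 : (ι m).τ₂ ((K.map u).τ₂ ((K.obj i).iCycles zi)) = (ι i).τ₂ ((K.obj i).iCycles zi) := by
        rw [← hι u]; rfl
      have e2 : (ι m).τ₁ ((K.map v).τ₁ yj) = (ι j).τ₁ yj := by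
        rw [← hι v]; rfl
      rw [e1, ← f_τ₁_apply, e2, hyj, ← iCycles_cyclesMap_apply, ← hy, iCycles_toCycles_apply]
    obtain ⟨k, f, hk⟩ := (IsColimit.eq_iff' h₂ _ _).1 hw
    replace hk : (K.map f).τ₂ ((K.map u).τ₂ ((K.obj i).iCycles zi)) =
        (K.map f).τ₂ ((K.obj m).f ((K.map v).τ₁ yj)) := hk
    refine ⟨k, u ≫ f, ?_⟩
    change ShortComplex.homologyMap (K.map (u ≫ f)) a = ShortComplex.homologyMap (K.map (u ≫ f)) b
    rw [← sub_eq_zero, ← map_sub, ← hzi, homologyMap_homologyπ_apply]
    have : ShortComplex.cyclesMap (K.map (u ≫ f)) zi =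
        (K.obj k).toCycles ((K.map f).τ₁ ((K.map v).τ₁ yj)) := by
      apply iCycles_injective
      rw [iCycles_cyclesMap_apply, iCycles_toCycles_apply, f_τ₁_apply, ← hk, K.map_comp]
      rfl
    rw [this, ← ModuleCat.comp_apply, ShortComplex.toCycles_comp_homologyπ]
    rfl

instance preservesColimitsOfShape_shortComplex_homologyFunctor :
    PreservesColimitsOfShape J (ShortComplex.homologyFunctor (ModuleCat.{u} R)) :=
  ⟨fun {K} => ⟨fun {c} hc => isColimit_homology_mapCocone K c hc⟩⟩

instance preservesFilteredColimits_shortComplex_homologyFunctor :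
    PreservesFilteredColimits (ShortComplex.homologyFunctor (ModuleCat.{u} R)) :=
  ⟨fun _ _ _ => inferInstance⟩

end main

section complexes

universe v w
variable {C : Type*} [Category* C] [HasZeroMorphisms C] {ι : Type*} (c : ComplexShape ι)
variable {J : Type*} [Category* J] [HasColimitsOfShape J C]

instance preservesColimitsOfShape_shortComplexFunctor' (i j k : ι) :
    PreservesColimitsOfShape J (HomologicalComplex.shortComplexFunctor' C c i j k) :=
  ⟨fun {_} => ⟨fun {_} hs => ⟨ShortComplex.isColimitOfIsColimitπ _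
    (isColimitOfPreserves (HomologicalComplex.eval C c i) hs)
    (isColimitOfPreserves (HomologicalComplex.eval C c j) hs)
    (isColimitOfPreserves (HomologicalComplex.eval C c k) hs)⟩⟩⟩

instance preservesColimitsOfShape_shortComplexFunctor (i : ι) :
    PreservesColimitsOfShape J (HomologicalComplex.shortComplexFunctor C c i) :=
  preservesColimitsOfShape_shortComplexFunctor' c _ _ _

end complexes

section

variable {J : Type u} [SmallCategory J] [IsFiltered J] {ι : Type*} (c : ComplexShape ι)

instance preservesColimitsOfShape_homologyFunctor (i : ι) :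
    PreservesColimitsOfShape J (HomologicalComplex.homologyFunctor (ModuleCat.{u} R) c i) :=
  preservesColimitsOfShape_of_natIso (HomologicalComplex.homologyFunctorIso (ModuleCat.{u} R) c i).symm

instance preservesFilteredColimits_homologyFunctor (i : ι) :
    PreservesFilteredColimits (HomologicalComplex.homologyFunctor (ModuleCat.{u} R) c i) :=
  ⟨fun _ _ _ => inferInstance⟩

end

end Groth.Agent.Lib.H15HomologyFiltered
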