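import Groth.Agent.Lib.H15EtHull
import Groth.Agent.Lib.IndEtale
import Groth.Agent.Lib.EtaleLiftSurj
import Mathlib.RingTheory.TensorProduct.Quotient
import Mathlib.RingTheory.FinitePresentation

set_option autoImplicit false
universe u

namespace Groth.Agent.Lib.H15IndEtaleLift

open CategoryTheory CategoryTheory.Limits TensorProduct Groth.Agent.Lib.H56IndEtale
  Groth.Agent.Lib.H15EtHull

/-- a concrete filtered system of `R`-algebras with colimit `Cb` (elementwise). -/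
structure CSys (R : Type u) [CommRing R] (Cb : Type u) [CommRing Cb] [Algebra R Cb] where
  J : Type u
  [cat : SmallCategory J]
  [fil : IsFiltered J]
  E : J → Type u
  [ring : ∀ j, CommRing (E j)]
  [alg : ∀ j, Algebra R (E j)]
  t : ∀ (i j : J), (i ⟶ j) → (E i →ₐ[R] E j)
  φ : ∀ j, E j →ₐ[R] Cb
  hφ : ∀ (i j : J) (f : i ⟶ j), (φ j).comp (t i j f) = φ i
  surj : ∀ b : Cb, ∃ j x, φ j x = b
  ker : ∀ j (x : E j), φ j x = 0 → ∃ (k : J) (f : j ⟶ k), t j k f x = 0

attribute [instance] CSys.cat CSys.fil CSys.ring CSys.alg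

namespace CSys

variable {R : Type u} [CommRing R] {Cb : Type u} [CommRing Cb] [Algebra R Cb] (𝒮 : CSys R Cb)

lemma φ_t {i j : 𝒮.J} (f : i ⟶ j) (x : 𝒮.E i) : 𝒮.φ j (𝒮.t i j f x) = 𝒮.φ i x :=
  AlgHom.congr_fun (𝒮.hφ i j f) x

lemma exists_lift_finset (T : Finset Cb) : ∃ j : 𝒮.J, ∀ b ∈ T, ∃ x : 𝒮.E j, 𝒮.φ j x = b := by
  classical
  induction T using Finset.induction_on with
  | empty => exact ⟨Classical.choice IsFiltered.nonempty, by simp⟩
  | insert a T _ ih =>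
    obtain ⟨i, hi⟩ := ih
    obtain ⟨i', y, hy⟩ := 𝒮.surj a
    refine ⟨IsFiltered.max i i', fun b hb => ?_⟩
    rcases Finset.mem_insert.1 hb with rfl | hb
    · exact ⟨𝒮.t _ _ (IsFiltered.rightToMax i i') y, by rw [φ_t, hy]⟩
    · obtain ⟨x, hx⟩ := hi b hb
      exact ⟨𝒮.t _ _ (IsFiltered.leftToMax i i') x, by rw [φ_t, hx]⟩

lemma exists_kill_finset (j : 𝒮.J) (T : Finset (𝒮.E j)) (hT : ∀ x ∈ T, 𝒮.φ j x = 0) :
    ∃ (k : 𝒮.J) (h : 𝒮.E j →ₐ[R] 𝒮.E k), (𝒮.φ k).comp h = 𝒮.φ j ∧ ∀ x ∈ T, h x = 0 := by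
  classical
  induction T using Finset.induction_on with
  | empty => exact ⟨j, AlgHom.id R _, AlgHom.comp_id _, by simp⟩
  | insert a T _ ih =>
    obtain ⟨k, h, hh, hk⟩ := ih (fun x hx => hT x (Finset.mem_insert_of_mem hx))
    have ha : 𝒮.φ k (h a) = 0 := by
      rw [← AlgHom.comp_apply, hh]
      exact hT a (Finset.mem_insert_self a T)
    obtain ⟨l, f, hf⟩ := 𝒮.ker k _ ha
    refine ⟨l, (𝒮.t k l f).comp h, ?_, fun x hx => ?_⟩
    · rw [← AlgHom.comp_assoc, 𝒮.hφ, hh]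
    · show 𝒮.t k l f (h x) = 0
      rcases Finset.mem_insert.1 hx with rfl | hx
      · exact hf
      · rw [hk x hx, map_zero]

/-- maps from finitely presented algebras to the colimit factor through a stage. -/
theorem exists_factor (P : Type u) [CommRing P] [Algebra R P] [Algebra.FinitePresentation R P]
    (ψ : P →ₐ[R] Cb) : ∃ (j : 𝒮.J) (u : P →ₐ[R] 𝒮.E j), (𝒮.φ j).comp u = ψ := by
  classical
  obtain ⟨n, f, hf, hfg⟩ := Algebra.FinitePresentation.out (R := R) (A := P)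
  obtain ⟨S, hS⟩ := hfg
  obtain ⟨j, hj⟩ := 𝒮.exists_lift_finset (Finset.univ.image fun i : Fin n => ψ (f (MvPolynomial.X i)))
  choose e he using fun i : Fin n => hj (ψ (f (MvPolynomial.X i)))
    (Finset.mem_image_of_mem _ (Finset.mem_univ i))
  let g : MvPolynomial (Fin n) R →ₐ[R] 𝒮.E j := MvPolynomial.aeval e
  have hg : (𝒮.φ j).comp g = ψ.comp f := by
    apply MvPolynomial.algHom_ext
    intro i
    simp [g, he]
  obtain ⟨k, h, hh, hk⟩ := 𝒮.exists_kill_finset j (S.image g) (by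
    intro x hx
    obtain ⟨s, hs, rfl⟩ := Finset.mem_image.1 hx
    have h1 := AlgHom.congr_fun hg s
    simp only [AlgHom.comp_apply] at h1
    rw [h1]
    have : s ∈ RingHom.ker f.toRingHom := by rw [← hS]; exact Ideal.subset_span hs
    rw [show f s = 0 from this, map_zero])
  let g' : MvPolynomial (Fin n) R →ₐ[R] 𝒮.E k := h.comp g
  have hg'ker : ∀ a ∈ RingHom.ker (f : MvPolynomial (Fin n) R →+* P), g' a = 0 := by
    intro a ha
    have ha' : a ∈ RingHom.ker f.toRingHom := ha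
    rw [← hS] at ha'
    refine Submodule.span_induction (p := fun a _ => g' a = 0) ?_ ?_ ?_ ?_ ha'
    · intro s hs
      exact hk _ (Finset.mem_image_of_mem _ hs)
    · exact map_zero _
    · intro x y _ _ hx hy
      rw [map_add, hx, hy, add_zero]
    · intro a x _ hx
      rw [smul_eq_mul, map_mul, hx, mul_zero]
  let u : P →ₐ[R] 𝒮.E k :=
    (Ideal.Quotient.liftₐ (RingHom.ker (f : MvPolynomial (Fin n) R →+* P)) g' hg'ker).comp
      (Ideal.quotientKerAlgEquivOfSurjective hf).symm.toAlgHom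
  refine ⟨k, u, ?_⟩
  ext p
  obtain ⟨q, rfl⟩ := hf p
  have hu : u (f q) = g' q := by
    show Ideal.Quotient.liftₐ _ g' hg'ker ((Ideal.quotientKerAlgEquivOfSurjective hf).symm (f q)) = _
    have : (Ideal.quotientKerAlgEquivOfSurjective hf).symm (f q) =
        Ideal.Quotient.mk (RingHom.ker (f : MvPolynomial (Fin n) R →+* P)) q := by
      rw [AlgEquiv.symm_apply_eq]
      rfl
    rw [this]
    rfl
  show 𝒮.φ k (u (f q)) = ψ (f q)
  rw [hu]
  show 𝒮.φ k (h (g q)) = _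
  rw [← AlgHom.comp_apply, hh]
  exact AlgHom.congr_fun hg q

end CSys


section steps

variable {A : Type u} [CommRing A] (I : Ideal A) {Cb : Type u} [CommRing Cb] [Algebra A Cb]
  (𝒮 : CSys A Cb) [∀ j, Algebra (A ⧸ I) (𝒮.E j)] [∀ j, IsScalarTower A (A ⧸ I) (𝒮.E j)]
  [∀ j, Algebra.Etale (A ⧸ I) (𝒮.E j)]

include I 𝒮 in
theorem surj_step (b : Cb) : ∃ c : Hull A Cb, θ A Cb c = b := by
  obtain ⟨j, eb, heb⟩ := 𝒮.surj b
  obtain ⟨R', _, _, ψ, hEt, hψ, -⟩ := Groth.Agent.Lib.EtaleLiftSurj.exists_etale_lift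
    (R := A) (B := A ⧸ I) (B' := 𝒮.E j) Ideal.Quotient.mk_surjective
  obtain ⟨X, e, he⟩ := exists_sk ((𝒮.φ j).comp ψ)
  obtain ⟨r', hr'⟩ := hψ eb
  refine ⟨ι X (e r'), ?_⟩
  rw [θ_ι]
  have := AlgHom.congr_fun he r'
  simp only [AlgHom.comp_apply] at this
  rw [← heb, ← hr']
  exact this

include I 𝒮 in
theorem inj_step (c : Hull A Cb) (hc : θ A Cb c = 0) :
    c ∈ I.map (algebraMap A (Hull A Cb)) := by
  obtain ⟨X, x, rfl⟩ := ι_surj c
  rw [θ_ι] at hc
  -- factor `X.ψ` through a stage, killing `x`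
  obtain ⟨j, u, hu⟩ := 𝒮.exists_factor X.alg X.ψ
  have h0 : 𝒮.φ j (u x) = 0 := by rw [← AlgHom.comp_apply, hu, hc]
  obtain ⟨k, f, hf⟩ := 𝒮.ker j _ h0
  let u' : X.alg →ₐ[A] 𝒮.E k := (𝒮.t j k f).comp u
  have hu' : (𝒮.φ k).comp u' = X.ψ := by rw [← AlgHom.comp_assoc, 𝒮.hφ, hu]
  have hu'x : u' x = 0 := hf
  have hkill : ∀ a ∈ I.map (algebraMap A X.alg), u' a = 0 := by
    intro a ha
    refine Submodule.span_induction (p := fun a _ => u' a = 0) ?_ ?_ ?_ ?_ ha
    · rintro _ ⟨i, hi, rfl⟩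
      rw [AlgHom.commutes, IsScalarTower.algebraMap_apply A (A ⧸ I) (𝒮.E k),
        Ideal.Quotient.algebraMap_eq, Ideal.Quotient.eq_zero_iff_mem.2 hi, map_zero]
    · exact map_zero _
    · intro x y _ _ hx hy
      rw [map_add, hx, hy, add_zero]
    · intro a x _ hx
      rw [smul_eq_mul, map_mul, hx, mul_zero]
  let ub : X.alg ⧸ I.map (algebraMap A X.alg) →ₐ[A] 𝒮.E k :=
    Ideal.Quotient.liftₐ (I.map (algebraMap A X.alg)) u' hkill
  letI : Algebra (X.alg ⧸ I.map (algebraMap A X.alg)) (𝒮.E k) := ub.toRingHom.toAlgebra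
  have : IsScalarTower (A ⧸ I) (X.alg ⧸ I.map (algebraMap A X.alg)) (𝒮.E k) :=
    IsScalarTower.of_algebraMap_eq (R := A ⧸ I) (S := X.alg ⧸ I.map (algebraMap A X.alg))
      (A := 𝒮.E k) (by
        intro r
        obtain ⟨a, rfl⟩ := Ideal.Quotient.mk_surjective r
        have h1 : algebraMap (A ⧸ I) (𝒮.E k) (Ideal.Quotient.mk I a) = algebraMap A (𝒮.E k) a :=
          (IsScalarTower.algebraMap_apply A (A ⧸ I) (𝒮.E k) a).symm
        rw [h1]
        exact (ub.commutes a).symm)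
  have : Algebra.Etale (A ⧸ I) (X.alg ⧸ I.map (algebraMap A X.alg)) :=
    Algebra.Etale.of_equiv (Algebra.TensorProduct.quotIdealMapEquivQuotTensor X.alg I).symm
  have : Algebra.Etale (X.alg ⧸ I.map (algebraMap A X.alg)) (𝒮.E k) :=
    Algebra.Etale.of_restrictScalars (A ⧸ I) _ _
  letI : Algebra X.alg (𝒮.E k) := u'.toRingHom.toAlgebra
  have : IsScalarTower X.alg (X.alg ⧸ I.map (algebraMap A X.alg)) (𝒮.E k) :=
    IsScalarTower.of_algebraMap_eq (R := X.alg) (S := X.alg ⧸ I.map (algebraMap A X.alg))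
      (A := 𝒮.E k) (fun _ => rfl)
  obtain ⟨R', _, _, ψ', hEt', hψ', hker⟩ := Groth.Agent.Lib.EtaleLiftSurj.exists_etale_lift
    (R := X.alg) (B := X.alg ⧸ I.map (algebraMap A X.alg)) (B' := 𝒮.E k)
    Ideal.Quotient.mk_surjective
  letI : Algebra A R' := ((algebraMap X.alg R').comp (algebraMap A X.alg)).toAlgebra
  have : IsScalarTower A X.alg R' :=
    IsScalarTower.of_algebraMap_eq (R := A) (S := X.alg) (A := R') fun _ => rfl
  have : Algebra.Etale A R' := Algebra.Etale.comp A X.alg R'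
  have : IsScalarTower A X.alg (𝒮.E k) :=
    IsScalarTower.of_algebraMap_eq (R := A) (S := X.alg) (A := 𝒮.E k)
      fun a => (u'.commutes a).symm
  let φ' : R' →ₐ[A] Cb := (𝒮.φ k).comp (ψ'.restrictScalars A)
  obtain ⟨Z, eZ, heZ⟩ := exists_sk φ'
  let f' : X ⟶ Z := ⟨eZ.toAlgHom.comp (IsScalarTower.toAlgHom A X.alg R'), by
    ext x'
    have h1 := AlgHom.congr_fun heZ (algebraMap X.alg R' x')
    simp only [AlgHom.comp_apply] at h1 ⊢
    refine h1.trans ?_
    show 𝒮.φ k (ψ' (algebraMap X.alg R' x')) = X.ψ x'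
    rw [ψ'.commutes, ← hu']
    rfl⟩
  rw [← ι_map f' x]
  have hx : algebraMap X.alg R' x ∈ RingHom.ker ψ' := by
    rw [RingHom.mem_ker]
    show ψ' (algebraMap X.alg R' x) = 0
    rw [ψ'.commutes]
    exact hu'x
  rw [hker, Ideal.Quotient.algebraMap_eq, Ideal.mk_ker] at hx
  let Φ : R' →+* Hull A Cb := (ι Z).toRingHom.comp eZ.toAlgHom.toRingHom
  have hΦ : (Φ.comp (algebraMap X.alg R')).comp (algebraMap A X.alg) =
      algebraMap A (Hull A Cb) := by
    ext a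
    show ι Z (eZ (algebraMap A R' a)) = _
    rw [AlgEquiv.commutes, AlgHom.commutes]
  have := Ideal.mem_map_of_mem Φ hx
  rw [Ideal.map_map, Ideal.map_map, hΦ] at this
  exact this

end steps


section main

variable {A : Type u} [CommRing A] (I : Ideal A) (Cb : Type u) [CommRing Cb] [Algebra (A ⧸ I) Cb]

/-- `S0755`. -/
theorem main (h : EtPBC.IsIndEtale (A ⧸ I) Cb) :
    ∃ (C : Type u) (_ : CommRing C) (_ : Algebra A C),
      EtPBC.IsIndEtale A C ∧ Nonempty ((C ⧸ I.map (algebraMap A C)) ≃ₐ[A ⧸ I] Cb) := by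
  letI : Algebra A Cb := ((algebraMap (A ⧸ I) Cb).comp (Ideal.Quotient.mk I)).toAlgebra
  have : IsScalarTower A (A ⧸ I) Cb :=
    IsScalarTower.of_algebraMap_eq (R := A) (S := A ⧸ I) (A := Cb) fun _ => rfl
  obtain ⟨J, _, _, E, _, _, hEt, t, φ, hφ, hsurj, hker⟩ :=
    Groth.Agent.Lib.IndEtale.exists_concrete (A ⧸ I) Cb h
  letI : ∀ j, Algebra A (E j) := fun j =>
    ((algebraMap (A ⧸ I) (E j)).comp (Ideal.Quotient.mk I)).toAlgebra
  have : ∀ j, IsScalarTower A (A ⧸ I) (E j) := fun j =>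
    IsScalarTower.of_algebraMap_eq (R := A) (S := A ⧸ I) (A := E j) fun _ => rfl
  let 𝒮 : CSys A Cb :=
    { J := J
      E := E
      t := fun i j f => (t f).restrictScalars A
      φ := fun j => (φ j).restrictScalars A
      hφ := fun i j f => by
        ext x
        exact AlgHom.congr_fun (hφ f) x
      surj := hsurj
      ker := hker }
  have : ∀ j : 𝒮.J, Algebra.Etale (A ⧸ I) (𝒮.E j) := hEt
  refine ⟨Hull A Cb, inferInstance, inferInstance, isIndEtale_hull A Cb, ?_⟩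
  have hle : ∀ c ∈ I.map (algebraMap A (Hull A Cb)), (θ A Cb).toRingHom c = 0 := by
    intro c hc
    refine Submodule.span_induction (p := fun c _ => (θ A Cb).toRingHom c = 0) ?_ ?_ ?_ ?_ hc
    · rintro _ ⟨a, ha, rfl⟩
      show θ A Cb (algebraMap A _ a) = 0
      rw [AlgHom.commutes, IsScalarTower.algebraMap_apply A (A ⧸ I) Cb,
        Ideal.Quotient.algebraMap_eq, Ideal.Quotient.eq_zero_iff_mem.2 ha, map_zero]
    · exact map_zero _
    · intro x y _ _ hx hy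
      rw [map_add, hx, hy, add_zero]
    · intro a x _ hx
      rw [smul_eq_mul, map_mul, hx, mul_zero]
  let θb : (Hull A Cb ⧸ I.map (algebraMap A (Hull A Cb))) →ₐ[A ⧸ I] Cb :=
    { toRingHom := Ideal.Quotient.lift _ (θ A Cb).toRingHom hle
      commutes' := fun r => by
        obtain ⟨a, rfl⟩ := Ideal.Quotient.mk_surjective r
        rw [Ideal.Quotient.algebraMap_quotient_map_quotient]
        show θ A Cb (algebraMap A _ a) = _
        rw [AlgHom.commutes]
        rfl }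
  refine ⟨AlgEquiv.ofBijective θb ⟨?_, ?_⟩⟩
  · rw [injective_iff_map_eq_zero]
    intro cb hcb
    obtain ⟨c, rfl⟩ := Ideal.Quotient.mk_surjective cb
    exact Ideal.Quotient.eq_zero_iff_mem.2 (inj_step I 𝒮 c hcb)
  · intro b
    obtain ⟨c, hc⟩ := surj_step I 𝒮 b
    exact ⟨Ideal.Quotient.mk _ c, hc⟩

end main

end Groth.Agent.Lib.H15IndEtaleLift
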