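import Groth.Agent.Lib.H15LocalRingHom
import Groth.Agent.Lib.H15SpecLC
import Groth.Prelude.Def_PBC

set_option autoImplicit false
universe u

namespace Groth.Agent.Lib.H15LCLocal

open PrimeSpectrum Groth.Agent.Lib.H15SpecLC Groth.Agent.Lib.H15LocalRingHom

variable {A : Type u} [CommRing A] {T : Type u} [TopologicalSpace T] [CompactSpace T] [T2Space T]
  [TotallyDisconnectedSpace T] (M : Submonoid (LocallyConstant T A)) (R' : Type u) [CommRing R']
  [Algebra (LocallyConstant T A) R'] [Algebra A R'] [IsScalarTower A (LocallyConstant T A) R']
  [IsLocalization M R']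

variable {R'}

variable (A T) in
/-- the point of `Spec A × T` below a prime of a localization of `LocallyConstant T A`. -/
noncomputable def pt (q' : PrimeSpectrum R') : PrimeSpectrum A × T :=
  (homeo T A).symm (PrimeSpectrum.comap (algebraMap (LocallyConstant T A) R') q')

omit [IsScalarTower A (LocallyConstant T A) R'] [Algebra A R'] in
lemma algebraMap_mem_iff (q' : PrimeSpectrum R') (f : LocallyConstant T A) :
    algebraMap (LocallyConstant T A) R' f ∈ q'.asIdeal ↔ f (pt A T q').2 ∈ (pt A T q').1.asIdeal :=
  mem_iff_homeo_symm (PrimeSpectrum.comap (algebraMap (LocallyConstant T A) R') q') f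

lemma pt_fst (q' : PrimeSpectrum R') :
    (pt A T q').1 = PrimeSpectrum.comap (algebraMap A R') q' := by
  rw [pt, homeo_symm_fst, IsScalarTower.algebraMap_eq A (LocallyConstant T A) R']
  rfl

include M in
omit [IsScalarTower A (LocallyConstant T A) R'] [Algebra A R'] in
lemma apply_notMem_of_mem (q' : PrimeSpectrum R') {m : LocallyConstant T A} (hm : m ∈ M) :
    m (pt A T q').2 ∉ (pt A T q').1.asIdeal := by
  rw [← algebraMap_mem_iff]
  intro h
  exact q'.2.ne_top (Ideal.eq_top_of_isUnit_mem _ h (IsLocalization.map_units R' (⟨m, hm⟩ : M)))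

include M in
theorem identifiesLocalRings : EtPBC.IdentifiesLocalRings A R' := by
  intro q'
  set p := (pt A T q').1 with hp
  set t := (pt A T q').2 with ht
  have hpq : ∀ s : A, s ∉ p.asIdeal → s ∉ q'.asIdeal.comap (algebraMap A R') := by
    intro s hs
    rw [hp, pt_fst] at hs
    exact hs
  constructor
  · apply injective_localRingHom_of
    rintro a ⟨c, hc, hca⟩
    obtain ⟨f, m, rfl⟩ := IsLocalization.exists_mk'_eq M c
    have h1 : algebraMap (LocallyConstant T A) R' (f * algebraMap A (LocallyConstant T A) a) = 0 := by
      rw [map_mul, ← IsScalarTower.algebraMap_apply, ← IsLocalization.mk'_spec R' f m]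
      rw [mul_right_comm, hca, zero_mul]
    rw [IsLocalization.map_eq_zero_iff M] at h1
    obtain ⟨m', hm'⟩ := h1
    have hft : f t ∉ p.asIdeal := by
      rw [← algebraMap_mem_iff]
      intro h
      rw [← IsLocalization.mk'_spec R' f m] at h
      rcases q'.2.mem_or_mem h with h | h
      · exact hc h
      · exact q'.2.ne_top (Ideal.eq_top_of_isUnit_mem _ h (IsLocalization.map_units R' m))
    refine ⟨(m' : LocallyConstant T A) t * f t, hpq _ (p.2.mul_notMem
      (apply_notMem_of_mem M q' m'.2) hft), ?_⟩
    have := congrArg (fun h : LocallyConstant T A => h t) hm'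
    simpa [mul_assoc] using this
  · apply surjective_localRingHom_of
    intro b
    obtain ⟨f, m, rfl⟩ := IsLocalization.exists_mk'_eq M b
    have hU : IsClopen (f ⁻¹' {f t} ∩ (m : LocallyConstant T A) ⁻¹' {(m : LocallyConstant T A) t}) :=
      (f.isLocallyConstant.isClopen_fiber _).inter
        ((m : LocallyConstant T A).isLocallyConstant.isClopen_fiber _)
    have htU : t ∈ f ⁻¹' {f t} ∩ (m : LocallyConstant T A) ⁻¹' {(m : LocallyConstant T A) t} :=
      ⟨rfl, rfl⟩
    set χ := LocallyConstant.charFn A hU with hχ
    have e1 : χ * f = χ * algebraMap A (LocallyConstant T A) (f t) := by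
      ext t'
      show χ t' * f t' = χ t' * f t
      by_cases h : t' ∈ f ⁻¹' {f t} ∩ (m : LocallyConstant T A) ⁻¹' {(m : LocallyConstant T A) t}
      · rw [show f t' = f t from h.1]
      · rw [hχ, charFn_apply_of_notMem hU h, zero_mul, zero_mul]
    have e2 : χ * (m : LocallyConstant T A) =
        χ * algebraMap A (LocallyConstant T A) ((m : LocallyConstant T A) t) := by
      ext t'
      show χ t' * (m : LocallyConstant T A) t' = χ t' * (m : LocallyConstant T A) t
      by_cases h : t' ∈ f ⁻¹' {f t} ∩ (m : LocallyConstant T A) ⁻¹' {(m : LocallyConstant T A) t}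
      · rw [show (m : LocallyConstant T A) t' = (m : LocallyConstant T A) t from h.2]
      · rw [hχ, charFn_apply_of_notMem hU h, zero_mul, zero_mul]
    refine ⟨f t, (m : LocallyConstant T A) t,
      algebraMap (LocallyConstant T A) R' (χ * (m : LocallyConstant T A)),
      hpq _ (apply_notMem_of_mem M q' m.2), ?_, ?_⟩
    · rw [algebraMap_mem_iff]
      show χ t * (m : LocallyConstant T A) t ∉ p.asIdeal
      rw [hχ, charFn_apply_of_mem hU htU, one_mul]
      exact apply_notMem_of_mem M q' m.2
    · rw [IsScalarTower.algebraMap_apply A (LocallyConstant T A) R',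
        IsScalarTower.algebraMap_apply A (LocallyConstant T A) R']
      have h3 : algebraMap (LocallyConstant T A) R' (m : LocallyConstant T A) *
          IsLocalization.mk' R' f m = algebraMap (LocallyConstant T A) R' f := by
        rw [mul_comm]; exact IsLocalization.mk'_spec R' f m
      calc algebraMap (LocallyConstant T A) R' (χ * (m : LocallyConstant T A)) *
            (algebraMap (LocallyConstant T A) R' (algebraMap A _ ((m : LocallyConstant T A) t)) *
              IsLocalization.mk' R' f m)
          = algebraMap (LocallyConstant T A) R' (χ *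
              algebraMap A _ ((m : LocallyConstant T A) t)) *
              (algebraMap (LocallyConstant T A) R' (m : LocallyConstant T A) *
                IsLocalization.mk' R' f m) := by
            rw [map_mul, map_mul]; ring
        _ = algebraMap (LocallyConstant T A) R' (χ *
              algebraMap A _ ((m : LocallyConstant T A) t) * f) := by
            rw [h3, ← map_mul]
        _ = algebraMap (LocallyConstant T A) R' (χ * (m : LocallyConstant T A) *
              algebraMap A _ (f t)) := by
            congr 1
            rw [mul_right_comm, e1, mul_right_comm, ← e2]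
        _ = _ := by rw [map_mul]

end Groth.Agent.Lib.H15LCLocal
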