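import Groth.Agent.Lib.H15Pi0Fibre
import Groth.Agent.Lib.H15LCLocal
import Mathlib.RingTheory.LocalProperties.Basic
import Groth.Agent.S0699
import Groth.Agent.S0704

set_option autoImplicit false
universe u

namespace Groth.Agent.Lib.H15WLocalIndZar

open PrimeSpectrum Groth.Agent.Lib.H15SpecLC Groth.Agent.Lib.H15LocalRingHom
  Groth.Agent.Lib.H15Pi0Fibre Groth.Agent.Lib.SpectralPi0Fib33

variable {A B : Type u} [CommRing A] [CommRing B] [Algebra A B]

variable (B) in
/-- `π₀(Spec B)`. -/
abbrev Tt : Type u := ConnectedComponents (PrimeSpectrum B)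

instance : T2Space (Tt B) := t2Space_connectedComponents _

variable (A B) in
/-- the map `π₀(Spec B) → π₀(Spec A)`. -/
noncomputable def gg : C(Tt B, ConnectedComponents (PrimeSpectrum A)) :=
  ⟨(PrimeSpectrum.continuous_comap (algebraMap A B)).connectedComponentsMap,
    (PrimeSpectrum.continuous_comap (algebraMap A B)).connectedComponentsMap_continuous⟩

variable (A) in
lemma gg_mk (y : PrimeSpectrum B) :
    gg A B (ConnectedComponents.mk y) =
      ConnectedComponents.mk (PrimeSpectrum.comap (algebraMap A B) y) := rfl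

/-- idempotent of a clopen subset. -/
noncomputable def idem (V : Set (PrimeSpectrum B)) (hV : IsClopen V) : B :=
  Classical.choose (PrimeSpectrum.isClopen_iff.1 hV)

lemma idem_isIdempotentElem (V : Set (PrimeSpectrum B)) (hV : IsClopen V) :
    IsIdempotentElem (idem V hV) :=
  (Classical.choose_spec (PrimeSpectrum.isClopen_iff.1 hV)).1

lemma idem_mem_iff (V : Set (PrimeSpectrum B)) (hV : IsClopen V) (q : PrimeSpectrum B) :
    idem V hV ∈ q.asIdeal ↔ q ∉ V := by
  have := (Classical.choose_spec (PrimeSpectrum.isClopen_iff.1 hV)).2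
  conv_rhs => rw [this]
  simp [idem]

lemma algebraMap_idem (V : Set (PrimeSpectrum B)) (hV : IsClopen V) (q : PrimeSpectrum B)
    [Decidable (q ∈ V)] :
    algebraMap B (Localization.AtPrime q.asIdeal) (idem V hV) = if q ∈ V then 1 else 0 := by
  split_ifs with h
  · exact algebraMap_atPrime_of_idem_notMem (idem_isIdempotentElem V hV) _
      (by rw [idem_mem_iff]; exact not_not.2 h)
  · exact algebraMap_atPrime_of_idem_mem (idem_isIdempotentElem V hV) _
      (by rw [idem_mem_iff]; exact h)

omit [CommRing A] [Algebra A B] in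
lemma isClopen_fiber (f : LocallyConstant (Tt B) A) (a : A) :
    IsClopen (ConnectedComponents.mk ⁻¹' (f ⁻¹' {a}) : Set (PrimeSpectrum B)) :=
  (f.isLocallyConstant.isClopen_fiber _).preimage ConnectedComponents.continuous_coe

variable (A B) in
/-- the underlying function of the map `LocallyConstant π₀(Spec B) A → B`. -/
noncomputable def Ψfun (f : LocallyConstant (Tt B) A) : B :=
  ∑ a ∈ f.range_finite.toFinset, algebraMap A B a * idem _ (isClopen_fiber f a)

lemma algebraMap_Ψfun (f : LocallyConstant (Tt B) A) (q : PrimeSpectrum B) :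
    algebraMap B (Localization.AtPrime q.asIdeal) (Ψfun A B f) =
      algebraMap B (Localization.AtPrime q.asIdeal)
        (algebraMap A B (f (ConnectedComponents.mk q))) := by
  classical
  rw [Ψfun, map_sum, Finset.sum_eq_single (f (ConnectedComponents.mk q))]
  · rw [map_mul, algebraMap_idem, if_pos, mul_one]
    rfl
  · intro a _ hne
    rw [map_mul, algebraMap_idem, if_neg, mul_zero]
    intro h
    exact hne (Eq.symm h)
  · intro h
    exfalso
    exact h (by simp)

/-- equality in `B` can be checked in the local rings. -/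
lemma eq_of_forall_algebraMap_eq {x y : B}
    (h : ∀ q : PrimeSpectrum B, algebraMap B (Localization.AtPrime q.asIdeal) x =
      algebraMap B (Localization.AtPrime q.asIdeal) y) : x = y := by
  rw [← sub_eq_zero]
  apply eq_zero_of_localization
  intro J hJ
  rw [map_sub, sub_eq_zero]
  exact h ⟨J, hJ.isPrime⟩

variable (A B) in
/-- the map `LocallyConstant π₀(Spec B) A → B`. -/
noncomputable def Ψ₀ : LocallyConstant (Tt B) A →ₐ[A] B where
  toFun := Ψfun A B
  map_one' := eq_of_forall_algebraMap_eq fun q => by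
    rw [algebraMap_Ψfun]; simp
  map_mul' f f' := eq_of_forall_algebraMap_eq fun q => by
    rw [map_mul, algebraMap_Ψfun, algebraMap_Ψfun, algebraMap_Ψfun, LocallyConstant.mul_apply,
      map_mul, map_mul]
  map_zero' := eq_of_forall_algebraMap_eq fun q => by
    rw [algebraMap_Ψfun]; simp
  map_add' f f' := eq_of_forall_algebraMap_eq fun q => by
    rw [map_add, algebraMap_Ψfun, algebraMap_Ψfun, algebraMap_Ψfun, LocallyConstant.add_apply,
      map_add, map_add]
  commutes' a := eq_of_forall_algebraMap_eq fun q => by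
    rw [algebraMap_Ψfun]; rfl

lemma algebraMap_Ψ₀ (f : LocallyConstant (Tt B) A) (q : PrimeSpectrum B) :
    algebraMap B (Localization.AtPrime q.asIdeal) (Ψ₀ A B f) =
      algebraMap B (Localization.AtPrime q.asIdeal)
        (algebraMap A B (f (ConnectedComponents.mk q))) :=
  algebraMap_Ψfun f q

/-- the key property (*) of `Ψ₀`. -/
lemma Ψ₀_mem_iff (f : LocallyConstant (Tt B) A) (q : PrimeSpectrum B) :
    Ψ₀ A B f ∈ q.asIdeal ↔
      f (ConnectedComponents.mk q) ∈ q.asIdeal.comap (algebraMap A B) := by
  rw [Ideal.mem_comap, ← IsLocalization.AtPrime.to_map_mem_maximal_iff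
    (Localization.AtPrime q.asIdeal) q.asIdeal, algebraMap_Ψ₀,
    IsLocalization.AtPrime.to_map_mem_maximal_iff (Localization.AtPrime q.asIdeal) q.asIdeal]

lemma comap_Ψ₀ (q : PrimeSpectrum B) :
    PrimeSpectrum.comap (Ψ₀ A B).toRingHom q =
      Φ (Tt B) A (PrimeSpectrum.comap (algebraMap A B) q, ConnectedComponents.mk q) := by
  ext f
  exact Ψ₀_mem_iff f q

variable (A B) in
/-- the ring of the fibre product `Spec A ×_{π₀ Spec A} π₀(Spec B)`. -/
abbrev B' : Type u := Groth.Agent.Lib.H15Pi0Fibre.B A (Tt B) (gg A B)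

lemma isUnit_Ψ₀ (e : E A (Tt B) (gg A B)) : IsUnit (Ψ₀ A B (e : LocallyConstant (Tt B) A)) := by
  by_contra h
  obtain ⟨m, hm, hem⟩ := exists_max_ideal_of_mem_nonunits h
  have := (Ψ₀_mem_iff (e : LocallyConstant (Tt B) A) ⟨m, hm.isPrime⟩).1 hem
  exact e.2 (ConnectedComponents.mk ⟨m, hm.isPrime⟩)
    (PrimeSpectrum.comap (algebraMap A B) ⟨m, hm.isPrime⟩) rfl this

variable (A B) in
/-- the comparison map `B' → B`. -/
noncomputable def Ψ : B' A B →ₐ[A] B :=
  IsLocalization.liftAlgHom (M := E A (Tt B) (gg A B)) (f := Ψ₀ A B) isUnit_Ψ₀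

lemma Ψ_comp : (Ψ A B).toRingHom.comp (algebraMap (LocallyConstant (Tt B) A) (B' A B)) =
    (Ψ₀ A B).toRingHom :=
  IsLocalization.lift_comp _

lemma ψ_comap_Ψ (q : PrimeSpectrum B) :
    ψ A (Tt B) (gg A B) (PrimeSpectrum.comap (Ψ A B).toRingHom q) =
      (PrimeSpectrum.comap (algebraMap A B) q, ConnectedComponents.mk q) := by
  rw [ψ]
  have : PrimeSpectrum.comap (algebraMap (LocallyConstant (Tt B) A) (B' A B))
      (PrimeSpectrum.comap (Ψ A B).toRingHom q) = PrimeSpectrum.comap (Ψ₀ A B).toRingHom q := by
    rw [← Ψ_comp]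
    rfl
  rw [this, comap_Ψ₀, ← homeo_apply, Homeomorph.symm_apply_apply]

section generalities

/-- 2-out-of-3 for local ring homs. -/
lemma bijective_localRingHom_of_comp {R S P : Type*} [CommRing R] [CommRing S] [CommRing P]
    (f : R →+* S) (g : S →+* P) (φ : R →+* P) (hφ : φ = g.comp f) (K : Ideal P) [K.IsPrime]
    (h1 : Function.Bijective (Localization.localRingHom (K.comap φ) K φ rfl))
    (h2 : Function.Bijective
      (Localization.localRingHom ((K.comap g).comap f) (K.comap g) f rfl)) :
    Function.Bijective (Localization.localRingHom (K.comap g) K g rfl) := by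
  subst hφ
  have := Localization.localRingHom_comp (I := (K.comap g).comap f) (K.comap g) K f rfl g rfl
  have h1' : Function.Bijective
      ((Localization.localRingHom (K.comap g) K g rfl).comp
        (Localization.localRingHom ((K.comap g).comap f) (K.comap g) f rfl)) := by
    rw [← this]
    exact h1
  rw [RingHom.coe_comp] at h1'
  exact (Function.Bijective.of_comp_iff _ h2).1 h1'

open ProEtW in
/-- w-locality transports along homeomorphisms (given spectrality of the source). -/
lemma isWLocal_of_homeomorph {X Y : Type u} [TopologicalSpace X] [TopologicalSpace Y]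
    [SpectralSpace X] (h : X ≃ₜ Y) (hY : IsWLocal Y) : IsWLocal X := by
  have hcl : ∀ x : X, IsClosed ({x} : Set X) ↔ IsClosed ({h x} : Set Y) := fun x => by
    rw [← Set.image_singleton, h.isClosed_image]
  refine ⟨inferInstance, ?_, ?_⟩
  · have : {x : X | IsClosed ({x} : Set X)} = h ⁻¹' {y : Y | IsClosed ({y} : Set Y)} := by
      ext x
      exact hcl x
    rw [this]
    exact hY.2.1.preimage h.continuous
  · intro x
    obtain ⟨y, ⟨hy1, hy2⟩, hy3⟩ := hY.2.2 (h x)
    refine ⟨h.symm y, ⟨?_, ?_⟩, ?_⟩
    · rw [hcl, h.apply_symm_apply]; exact hy1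
    · rw [← h.isInducing.specializes_iff, h.apply_symm_apply]; exact hy2
    · rintro z ⟨hz1, hz2⟩
      rw [h.eq_symm_apply]
      exact hy3 (h z) ⟨(hcl z).1 hz1, h.isInducing.specializes_iff.2 hz2⟩

end generalities

open ProEtW in
/-- Stacks 097D: `A → B` identifying local rings, w-local spectra and w-local map ⇒ ind-Zariski. -/
theorem main (h1 : EtPBC.IdentifiesLocalRings A B) (h2 : IsWLocal (PrimeSpectrum A))
    (h3 : IsWLocal (PrimeSpectrum B))
    (h4 : IsWLocalMap (PrimeSpectrum.comap (algebraMap A B))) :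
    EtPBC.IsIndZariski A B := by
  let _ : Algebra (B' A B) B := (Ψ A B).toRingHom.toAlgebra
  have halg : algebraMap (B' A B) B = (Ψ A B).toRingHom := rfl
  have hcompA : (Ψ A B).toRingHom.comp (algebraMap A (B' A B)) = algebraMap A B :=
    (Ψ A B).comp_algebraMap
  have hcomapA : ∀ q : PrimeSpectrum B, PrimeSpectrum.comap (algebraMap A (B' A B))
      (PrimeSpectrum.comap (Ψ A B).toRingHom q) = PrimeSpectrum.comap (algebraMap A B) q := by
    intro q
    rw [← hcompA]
    rfl
  -- the homeomorphism with the fibre product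
  let hom : PrimeSpectrum (B' A B) ≃ₜ Fib (PrimeSpectrum A) (Tt B) (gg A B) :=
    (isHomeomorph_toFib (A := A) (T := Tt B) (g := gg A B)).homeomorph
  have hFib := Groth.Agent.S0704.result (PrimeSpectrum A) (Tt B) h2 (gg A B)
  have hW' : IsWLocal (PrimeSpectrum (B' A B)) := isWLocal_of_homeomorph hom hFib.1
  have hbij : Function.Bijective (algebraMap (B' A B) B) := by
    apply Groth.Agent.S0699.result (B' A B) B ?_ hW' h3 ?_ ?_
    · -- identifies local rings
      intro q
      have hA := Groth.Agent.Lib.H15LCLocal.identifiesLocalRings (E A (Tt B) (gg A B)) (R' := B' A B)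
        (PrimeSpectrum.comap (algebraMap (B' A B) B) q)
      exact bijective_localRingHom_of_comp (algebraMap A (B' A B)) (algebraMap (B' A B) B)
        (algebraMap A B) hcompA.symm q.asIdeal (h1 q) hA
    · -- w-local map
      refine ⟨isSpectralMap_comap _, fun y hy => ?_⟩
      have hy' : IsClosed ({PrimeSpectrum.comap (algebraMap A B) y} : Set (PrimeSpectrum A)) :=
        h4.2 y hy
      have : IsClosed ({hom (PrimeSpectrum.comap (algebraMap (B' A B) B) y)} : Set _) := by
        rw [isClosed_singleton_fib_iff]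
        show IsClosed ({(ψ A (Tt B) (gg A B) (PrimeSpectrum.comap (Ψ A B).toRingHom y)).1} : Set _)
        rw [ψ_comap_Ψ]
        exact hy'
      rw [← Set.image_singleton, hom.isClosed_image] at this
      exact this
    · -- bijective on π₀
      obtain ⟨e, he⟩ := exists_pi0_homeo A (Tt B) (gg A B)
      have key : ∀ c : ConnectedComponents (PrimeSpectrum B),
          e ((PrimeSpectrum.continuous_comap (algebraMap (B' A B) B)).connectedComponentsMap c) =
            c := by
        intro c
        obtain ⟨y, rfl⟩ := ConnectedComponents.surjective_coe c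
        rw [Continuous.connectedComponentsMap_mk, he]
        show (ψ A (Tt B) (gg A B) (PrimeSpectrum.comap (Ψ A B).toRingHom y)).2 = _
        rw [ψ_comap_Ψ]
      constructor
      · intro c c' hcc'
        rw [← key c, ← key c', hcc']
      · intro c'
        refine ⟨e c', e.injective ?_⟩
        rw [key]
  let eqv : B' A B ≃ₐ[A] B := AlgEquiv.ofBijective (Ψ A B) hbij
  exact Groth.Agent.Lib.H15IndZariskiLoc.isIndZariski_of_algEquiv eqv
    (Groth.Agent.Lib.H15Pi0Fibre.isIndZariski A (Tt B) (gg A B))

end Groth.Agent.Lib.H15WLocalIndZar
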