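import Groth.Agent.Lib.H15WLoc3
import Groth.Agent.Lib.H15WLocalIndZar

set_option autoImplicit false
universe u

namespace Groth.Agent.Lib.H15IndZarCover

open PrimeSpectrum Groth.Agent.Lib.H15IndZariskiLoc CategoryTheory Groth.Agent.Lib.SpectralCons
  Topology Groth.Agent.Lib.H15LCLocal Groth.Agent.Lib.H15WLoc Groth.Agent.Lib.H15WLocalIndZar
  Groth.Agent.Lib.H15SpecLC Groth.Agent.Lib.H15LocalRingHom ProEtW

variable (A B : Type u) [CommRing A] [CommRing B] [Algebra A B]

/-- `Spec B (constructible) → Spec A`. -/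
noncomputable def v' : C(Xc B, PrimeSpectrum A) :=
  (⟨PrimeSpectrum.comap (algebraMap A B), PrimeSpectrum.continuous_comap _⟩ :
    C(PrimeSpectrum B, PrimeSpectrum A)).comp (vc B)

lemma v'_apply (t : Xc B) : v' A B t = PrimeSpectrum.comap (algebraMap A B) (vc B t) := rfl

lemma isOpen_v' (a : A) : IsOpen {t : Xc B | a ∈ (v' A B t).asIdeal} :=
  isOpen_vc (algebraMap A B a)

/-- `LC(Xc B, A) → LC(Xc B, B)`. -/
noncomputable def mapLC : LocallyConstant (Xc B) A →ₐ[A] LocallyConstant (Xc B) B :=
  LocallyConstant.mapₐ A (Algebra.ofId A B)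

lemma mapLC_apply (f : LocallyConstant (Xc B) A) (t : Xc B) :
    mapLC A B f t = algebraMap A B (f t) := rfl

/-- `LC(Xc B, A) → B_w`. -/
noncomputable def χ₀ : LocallyConstant (Xc B) A →ₐ[A] Bv (vc B) :=
  (IsScalarTower.toAlgHom A (LocallyConstant (Xc B) B) (Bv (vc B))).comp (mapLC A B)

lemma isUnit_χ₀ (m : M (v' A B)) : IsUnit (χ₀ A B m) := by
  have : mapLC A B (m : LocallyConstant (Xc B) A) ∈ M (vc B) := fun t => m.2 t
  exact IsLocalization.map_units (Bv (vc B)) (⟨_, this⟩ : M (vc B))

/-- the comparison map. -/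
noncomputable def χ : Bv (v' A B) →ₐ[A] Bv (vc B) :=
  IsLocalization.liftAlgHom (M := M (v' A B)) (f := χ₀ A B) (isUnit_χ₀ A B)

lemma χ_algebraMap (f : LocallyConstant (Xc B) A) :
    χ A B (algebraMap (LocallyConstant (Xc B) A) (Bv (v' A B)) f) =
      algebraMap (LocallyConstant (Xc B) B) (Bv (vc B)) (mapLC A B f) := by
  rw [χ, IsLocalization.liftAlgHom_apply, IsLocalization.lift_eq]
  rfl

lemma pt_comap_χ (y : PrimeSpectrum (Bv (vc B))) :
    pt A (Xc B) (PrimeSpectrum.comap (χ A B).toRingHom y) =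
      (PrimeSpectrum.comap (algebraMap A B) (P y), τ y) := by
  have : PrimeSpectrum.comap (algebraMap (LocallyConstant (Xc B) A) (Bv (v' A B)))
      (PrimeSpectrum.comap (χ A B).toRingHom y) =
      homeo (Xc B) A (PrimeSpectrum.comap (algebraMap A B) (P y), τ y) := by
    ext f
    show χ A B (algebraMap (LocallyConstant (Xc B) A) (Bv (v' A B)) f) ∈ y.asIdeal ↔ _
    rw [χ_algebraMap, algebraMap_mem_iff, homeo_apply, mem_Φ]
    rfl
  rw [pt, this, Homeomorph.symm_apply_apply]


/-- composition of bijective local ring homs. -/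
lemma bijective_localRingHom_comp {R S P : Type*} [CommRing R] [CommRing S] [CommRing P]
    (f : R →+* S) (g : S →+* P) (φ : R →+* P) (hφ : φ = g.comp f) (K : Ideal P) [K.IsPrime]
    (h1 : Function.Bijective (Localization.localRingHom (K.comap g) K g rfl))
    (h2 : Function.Bijective
      (Localization.localRingHom ((K.comap g).comap f) (K.comap g) f rfl)) :
    Function.Bijective (Localization.localRingHom (K.comap φ) K φ rfl) := by
  subst hφ
  have := Localization.localRingHom_comp (I := (K.comap g).comap f) (K.comap g) K f rfl g rfl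
  show Function.Bijective (Localization.localRingHom ((K.comap g).comap f) K (g.comp f) rfl)
  rw [this, RingHom.coe_comp]
  exact h1.comp h2

instance : IsScalarTower A B (Bv (vc B)) :=
  IsScalarTower.of_algebraMap_eq (R := A) (S := B) (A := Bv (vc B)) fun a => by
  rw [IsScalarTower.algebraMap_apply A (LocallyConstant (Xc B) B) (Bv (vc B)),
    IsScalarTower.algebraMap_apply B (LocallyConstant (Xc B) B) (Bv (vc B))]
  rfl

variable {A B}

theorem bijective_χ (h : EtPBC.IdentifiesLocalRings A B) : Function.Bijective (χ A B) := by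
  let _ : Algebra (Bv (v' A B)) (Bv (vc B)) := (χ A B).toRingHom.toAlgebra
  have halg : algebraMap (Bv (v' A B)) (Bv (vc B)) = (χ A B).toRingHom := rfl
  have hW1 : IsWLocal (PrimeSpectrum (Bv (v' A B))) := isWLocal (isOpen_v' A B)
  have hW2 : IsWLocal (PrimeSpectrum (Bv (vc B))) := isWLocal isOpen_vc
  apply Groth.Agent.S0699.result (Bv (v' A B)) (Bv (vc B)) ?_ hW1 hW2 ?_ ?_
  · -- identifies local rings
    intro y
    have hA := Groth.Agent.Lib.H15LCLocal.identifiesLocalRings (M (v' A B)) (R' := Bv (v' A B))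
      (PrimeSpectrum.comap (algebraMap (Bv (v' A B)) (Bv (vc B))) y)
    have hB := Groth.Agent.Lib.H15LCLocal.identifiesLocalRings (M (vc B)) (R' := Bv (vc B)) y
    have hAB := h (PrimeSpectrum.comap (algebraMap B (Bv (vc B))) y)
    have hcomp := bijective_localRingHom_comp (algebraMap A B) (algebraMap B (Bv (vc B)))
      (algebraMap A (Bv (vc B))) (IsScalarTower.algebraMap_eq A B (Bv (vc B))) y.asIdeal hB hAB
    exact bijective_localRingHom_of_comp (algebraMap A (Bv (v' A B)))
      (algebraMap (Bv (v' A B)) (Bv (vc B))) (algebraMap A (Bv (vc B)))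
      (χ A B).comp_algebraMap.symm y.asIdeal hcomp hA
  · -- w-local map
    refine ⟨isSpectralMap_comap _, fun y hy => ?_⟩
    rw [H15WLoc.isClosed_singleton_iff] at hy
    rw [H15WLoc.isClosed_singleton_iff, P, τ]
    show (pt A (Xc B) (PrimeSpectrum.comap (χ A B).toRingHom y)).1 =
      v' A B (pt A (Xc B) (PrimeSpectrum.comap (χ A B).toRingHom y)).2
    rw [pt_comap_χ, v'_apply, ← hy]
  · -- bijective on π₀
    have key : ∀ c : ConnectedComponents (PrimeSpectrum (Bv (vc B))),
        τ₀ (v' A B) ((PrimeSpectrum.continuous_comap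
          (algebraMap (Bv (v' A B)) (Bv (vc B)))).connectedComponentsMap c) = τ₀ (vc B) c := by
      intro c
      obtain ⟨y, rfl⟩ := ConnectedComponents.surjective_coe c
      rw [Continuous.connectedComponentsMap_mk]
      show τ₀ (v' A B) (ConnectedComponents.mk _) = τ₀ (vc B) (ConnectedComponents.mk y)
      rw [τ₀_mk, τ₀_mk]
      show (pt A (Xc B) (PrimeSpectrum.comap (χ A B).toRingHom y)).2 = τ y
      rw [pt_comap_χ]
    constructor
    · intro c c' hcc'
      apply (τ₀_bijective (v := vc B)).1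
      rw [← key c, ← key c', hcc']
    · intro c'
      obtain ⟨c, hc⟩ := (τ₀_bijective (v := vc B)).2 (τ₀ (v' A B) c')
      refine ⟨c, (τ₀_bijective (v := v' A B)).1 ?_⟩
      rw [key, hc]

/-- `S0183`. -/
theorem main (h : EtPBC.IdentifiesLocalRings A B) :
    ∃ (B' : Type u) (_ : CommRing B') (_ : Algebra B B') (_ : Algebra A B') (_ : IsScalarTower A B B'),
      Module.FaithfullyFlat B B' ∧ EtPBC.IsIndZariski B B' ∧ EtPBC.IsIndZariski A B' :=
  ⟨Bv (vc B), inferInstance, inferInstance, inferInstance, inferInstance,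
    faithfullyFlat vc_bijective.2, isIndZariski (vc B),
    isIndZariski_of_algEquiv (AlgEquiv.ofBijective (χ A B) (bijective_χ h))
      (isIndZariski (v' A B))⟩

end Groth.Agent.Lib.H15IndZarCover
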