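import Groth.Agent.Lib.H15IndZarCover
import Groth.Agent.Lib.H15IndZarLocal
import Groth.Agent.S0738

set_option autoImplicit false
universe u

namespace Groth.Agent.Lib.H15IndZarRetract

open PrimeSpectrum Groth.Agent.Lib.H15IndZariskiLoc CategoryTheory Groth.Agent.Lib.SpectralCons
  Topology Groth.Agent.Lib.H15LCLocal Groth.Agent.Lib.H15WLoc Groth.Agent.Lib.H15WLocalIndZar
  Groth.Agent.Lib.H15SpecLC Groth.Agent.Lib.H15LocalRingHom ProEtW Groth.Agent.Lib.H15IndZarLocal

section tower

variable {A B : Type u} [CommRing A] [CommRing B] [Algebra A B] {T : Type u} [TopologicalSpace T]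
  (v : C(T, PrimeSpectrum B))

instance isScalarTower_Bv : IsScalarTower A B (Bv v) :=
  IsScalarTower.of_algebraMap_eq (R := A) (S := B) (A := Bv v) fun a => by
    rw [IsScalarTower.algebraMap_apply A (LocallyConstant T B) (Bv v),
      IsScalarTower.algebraMap_apply B (LocallyConstant T B) (Bv v)]
    rfl

end tower

section backward

variable {A B : Type u} [CommRing A] [CommRing B] [Algebra A B]
  (hW : IsWLocal (PrimeSpectrum A))

/-- points of `Spec B` (constructible topology) over closed points of `Spec A`. -/
abbrev Y (A B : Type u) [CommRing A] [CommRing B] [Algebra A B] : Type u :=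
  {t : Xc B // IsClosed ({PrimeSpectrum.comap (algebraMap A B) (vc B t)} : Set (PrimeSpectrum A))}

/-- `Y → π₀(Spec A)`. -/
def πY (y : Y A B) : Tt A := ConnectedComponents.mk (PrimeSpectrum.comap (algebraMap A B) (vc B y.1))

lemma continuous_πY : Continuous (πY : Y A B → Tt A) :=
  ConnectedComponents.continuous_coe.comp ((PrimeSpectrum.continuous_comap _).comp
    ((vc B).continuous.comp continuous_subtype_val))

include hW in
lemma compactSpace_Y : CompactSpace (Y A B) := by
  have : IsClosed {t : Xc B |
      IsClosed ({PrimeSpectrum.comap (algebraMap A B) (vc B t)} : Set (PrimeSpectrum A))} :=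
    hW.2.1.preimage ((PrimeSpectrum.continuous_comap _).comp (vc B).continuous)
  exact isCompact_iff_compactSpace.1 this.isCompact

include hW in
lemma surjective_πY [Module.FaithfullyFlat A B] : Function.Surjective (πY : Y A B → Tt A) := by
  intro c
  obtain ⟨p, rfl⟩ := ConnectedComponents.surjective_coe c
  obtain ⟨p₀, ⟨hp₀, hs⟩, -⟩ := hW.2.2 p
  obtain ⟨q, hq⟩ := PrimeSpectrum.comap_surjective_of_faithfullyFlat (A := A) (B := B) p₀
  refine ⟨⟨WithTopology.toTopology _ q, ?_⟩, ?_⟩
  · show IsClosed ({PrimeSpectrum.comap (algebraMap A B) q} : Set (PrimeSpectrum A))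
    rw [hq]
    exact hp₀
  · show ConnectedComponents.mk (PrimeSpectrum.comap (algebraMap A B) q) = ConnectedComponents.mk p
    rw [hq]
    exact (Groth.Agent.S0699.mk_eq_of_specializes hs).symm

include hW in
/-- the key: a w-local `A` with extremally disconnected `π₀` has retractions of faithfully flat
ind-Zariski algebras. -/
theorem nonempty_retraction (hED : ExtremallyDisconnected (Tt A)) [Module.FaithfullyFlat A B]
    (hB : EtPBC.IsIndZariski A B) : Nonempty (B →ₐ[A] A) := by
  have hcY := compactSpace_Y (B := B) hW
  have hproj : CompactT2.Projective (Tt A) := CompactT2.ExtremallyDisconnected.projective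
  obtain ⟨s, hs, hsπ⟩ := hproj (f := id) (g := (πY : Y A B → Tt A)) continuous_id continuous_πY
    (surjective_πY hW)
  -- the section as a map to `Spec B`
  let v'' : C(Tt A, PrimeSpectrum B) :=
    ⟨fun c => vc B (s c).1, (vc B).continuous.comp (continuous_subtype_val.comp hs)⟩
  have hv''cl : ∀ c, IsClosed ({PrimeSpectrum.comap (algebraMap A B) (v'' c)} :
      Set (PrimeSpectrum A)) := fun c => (s c).2
  have hv''mk : ∀ c, ConnectedComponents.mk (PrimeSpectrum.comap (algebraMap A B) (v'' c)) = c :=
    fun c => congrFun hsπ c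
  have hv''open : ∀ b : B, IsOpen {c : Tt A | b ∈ (v'' c).asIdeal} := fun b =>
    (isOpen_vc b).preimage (continuous_subtype_val.comp hs)
  have hWC : IsWLocal (PrimeSpectrum (Bv v'')) := isWLocal hv''open
  have hcomapAC : ∀ y : PrimeSpectrum (Bv v''), PrimeSpectrum.comap (algebraMap A (Bv v'')) y =
      PrimeSpectrum.comap (algebraMap A B) (P y) := by
    intro y
    rw [P_eq, IsScalarTower.algebraMap_eq A B (Bv v'')]
    rfl
  have hbij : Function.Bijective (algebraMap A (Bv v'')) := by
    apply Groth.Agent.S0699.result A (Bv v'') ?_ hW hWC ?_ ?_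
    · -- identifies local rings
      intro y
      have hBC := Groth.Agent.Lib.H15LCLocal.identifiesLocalRings (M v'') (R' := Bv v'') y
      have hAB := identifiesLocalRings_of_isIndZariski hB
        (PrimeSpectrum.comap (algebraMap B (Bv v'')) y)
      exact Groth.Agent.Lib.H15IndZarCover.bijective_localRingHom_comp (algebraMap A B)
        (algebraMap B (Bv v'')) (algebraMap A (Bv v''))
        (IsScalarTower.algebraMap_eq A B (Bv v'')) y.asIdeal hBC hAB
    · -- w-local map
      refine ⟨isSpectralMap_comap _, fun y hy => ?_⟩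
      rw [H15WLoc.isClosed_singleton_iff] at hy
      rw [hcomapAC, hy]
      exact hv''cl _
    · -- bijective on π₀
      have key : ∀ c : ConnectedComponents (PrimeSpectrum (Bv v'')),
          (PrimeSpectrum.continuous_comap (algebraMap A (Bv v''))).connectedComponentsMap c =
            τ₀ v'' c := by
        intro c
        obtain ⟨y, rfl⟩ := ConnectedComponents.surjective_coe c
        rw [Continuous.connectedComponentsMap_mk]
        show ConnectedComponents.mk _ = τ₀ v'' (ConnectedComponents.mk y)
        rw [τ₀_mk, hcomapAC]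
        have h1 : P y ⤳ v'' (τ y) := (PrimeSpectrum.le_iff_specializes _ _).1 (P_le y)
        have h2 := h1.map (PrimeSpectrum.continuous_comap (algebraMap A B))
        rw [Groth.Agent.S0699.mk_eq_of_specializes h2, hv''mk]
      have : (PrimeSpectrum.continuous_comap (algebraMap A (Bv v''))).connectedComponentsMap =
          τ₀ v'' := funext key
      rw [this]
      exact τ₀_bijective
  let e : A ≃ₐ[A] Bv v'' := AlgEquiv.ofBijective (Algebra.ofId A (Bv v'')) hbij
  exact ⟨(e.symm : Bv v'' →ₐ[A] A).comp (IsScalarTower.toAlgHom A B (Bv v''))⟩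

end backward

section forward

variable {A : Type u} [CommRing A]

/-- retractions of `A → A_w` force `Spec A` to be w-local. -/
theorem isWLocal_of_retraction (r : Bv (vc A) →ₐ[A] A) : IsWLocal (PrimeSpectrum A) := by
  have hsurj : Function.Surjective r.toRingHom := fun a =>
    ⟨algebraMap A (Bv (vc A)) a, r.commutes a⟩
  have hemb := PrimeSpectrum.isClosedEmbedding_comap_of_surjective A r.toRingHom hsurj
  have hWw : IsWLocal (PrimeSpectrum (Bv (vc A))) := isWLocal isOpen_vc
  have hY := Groth.Agent.S0738.result (PrimeSpectrum (Bv (vc A))) hWw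
    (Set.range (PrimeSpectrum.comap r.toRingHom)) hemb.isClosed_range
  exact isWLocal_of_homeomorph hemb.isEmbedding.toHomeomorph hY

/-- a compact Hausdorff retract of a projective space is extremally disconnected. -/
lemma extremallyDisconnected_of_retract {Q T : Type u} [TopologicalSpace Q] [TopologicalSpace T]
    [CompactSpace Q] [T2Space Q] (hT : CompactT2.Projective T) (g : T → Q) (hg : Continuous g)
    (s : Q → T) (hs : Continuous s) (hgs : g ∘ s = id) : ExtremallyDisconnected Q := by
  apply CompactT2.Projective.extremallyDisconnected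
  intro Y Z _ _ _ _ _ _ f h hf hh hsurj
  obtain ⟨k, hk, hkk⟩ := hT (hf.comp hg) hh hsurj
  exact ⟨k ∘ s, hk.comp hs, by
    rw [← Function.comp_assoc, hkk, Function.comp_assoc, hgs, Function.comp_id]⟩

section cover

variable (Q : Type u) [TopologicalSpace Q]

/-- `Q` with the discrete topology. -/
abbrev Pd : Type u := WithTopology Q ⊥

instance : DiscreteTopology (Pd Q) := by
  rw [discreteTopology_iff_forall_isOpen]
  intro s
  rw [WithTopology.isOpen_iff]
  exact @isOpen_discrete Q ⊥ (@DiscreteTopology.mk _ ⊥ rfl) _

/-- the Stone-Čech compactification of the discrete `Q`. -/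
abbrev Tp : Type u := StoneCech (Pd Q)

instance : ExtremallyDisconnected (Tp Q) :=
  CompactT2.Projective.extremallyDisconnected StoneCech.projective

instance : TotallyDisconnectedSpace (Tp Q) := inferInstance

variable [CompactSpace Q] [T2Space Q]

/-- `Tp Q → Q`. -/
noncomputable def gp : C(Tp Q, Q) where
  toFun := stoneCechExtend (g := fun x : Pd Q => (WithTopology.ofTopology x : Q))
    continuous_of_discreteTopology
  continuous_toFun := continuous_stoneCechExtend _

lemma gp_unit (x : Pd Q) : gp Q (stoneCechUnit x) = WithTopology.ofTopology x :=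
  congrFun (stoneCechExtend_extends (continuous_of_discreteTopology
    (f := fun x : Pd Q => (WithTopology.ofTopology x : Q)))) x

lemma gp_surjective : Function.Surjective (gp Q) := fun x =>
  ⟨stoneCechUnit (WithTopology.toTopology _ x), by rw [gp_unit]⟩

end cover

open Groth.Agent.Lib.H15Pi0Fibre in
/-- retractions force `π₀(Spec A)` to be extremally disconnected. -/
theorem extremallyDisconnected_of_hasRetractions (h : HasIndZariskiRetractions A) :
    ExtremallyDisconnected (Tt A) := by
  have hIZ := H15Pi0Fibre.isIndZariski A (Tp (Tt A)) (gp (Tt A))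
  have hflat := flat_of_isIndZariski A _ hIZ
  have hff : Module.FaithfullyFlat A (H15Pi0Fibre.B A (Tp (Tt A)) (gp (Tt A))) := by
    apply Module.FaithfullyFlat.of_comap_surjective
    intro p
    obtain ⟨t, ht⟩ := gp_surjective (Tt A) (ConnectedComponents.mk p)
    have : ((p, t) : PrimeSpectrum A × Tp (Tt A)) ∈ Set.range (ψ A (Tp (Tt A)) (gp (Tt A))) := by
      rw [range_ψ]
      exact ht.symm
    obtain ⟨y, hy⟩ := this
    refine ⟨y, ?_⟩
    rw [← ψ_fst, hy]
  obtain ⟨r⟩ := h _ hff hIZ
  obtain ⟨e, he⟩ := exists_pi0_homeo A (Tp (Tt A)) (gp (Tt A))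
  refine extremallyDisconnected_of_retract (T := Tp (Tt A)) StoneCech.projective (gp (Tt A))
    (gp (Tt A)).continuous
    (e ∘ (PrimeSpectrum.continuous_comap r.toRingHom).connectedComponentsMap)
    (e.continuous.comp (Continuous.connectedComponentsMap_continuous _)) ?_
  funext c
  obtain ⟨p, rfl⟩ := ConnectedComponents.surjective_coe c
  show gp (Tt A) (e ((PrimeSpectrum.continuous_comap r.toRingHom).connectedComponentsMap
    (ConnectedComponents.mk p))) = ConnectedComponents.mk p
  rw [Continuous.connectedComponentsMap_mk, he, ← ψ_mem, ψ_fst]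
  congr 1
  ext a
  show r (algebraMap A _ a) ∈ p.asIdeal ↔ a ∈ p.asIdeal
  rw [r.commutes]
  rfl

end forward

/-- `S0678`. -/
theorem main (A : Type u) [CommRing A] :
    ProEtW.HasIndZariskiRetractions A ↔
      (ProEtW.IsWLocal (PrimeSpectrum A) ∧
        ExtremallyDisconnected (_root_.ConnectedComponents (PrimeSpectrum A))) := by
  constructor
  · intro h
    obtain ⟨r⟩ := h (Bv (vc A)) (faithfullyFlat vc_bijective.2) (isIndZariski (vc A))
    exact ⟨isWLocal_of_retraction r, extremallyDisconnected_of_hasRetractions h⟩
  · rintro ⟨hW, hED⟩ B _ _ hff hIZ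
    exact nonempty_retraction hW hED hIZ

end Groth.Agent.Lib.H15IndZarRetract
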