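import Mathlib.Algebra.Category.ModuleCat.FilteredColimits
import Mathlib.CategoryTheory.Limits.ConcreteCategory.Filtered
import Mathlib.Algebra.Category.ModuleCat.Abelian

open CategoryTheory Limits

universe u
variable {R : Type u} [Ring R]

namespace Groth.Agent.Lib.H15KernelFiltered

variable {D : Type*} [Category D] {J : Type u} [SmallCategory J] [IsFiltered J]

/-- If `0 → F₁ X → F₂ X → F₃ X` is exact for all `X` (functors to modules, natural maps) and
`F₂`, `F₃` preserve a filtered colimit, then so does `F₁`. -/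
theorem preservesColimit_of_kernel (F₁ F₂ F₃ : D ⥤ ModuleCat.{u} R) (α : F₁ ⟶ F₂) (β : F₂ ⟶ F₃)
    (hα : ∀ X, Function.Injective (α.app X))
    (hex : ∀ X (y : F₂.obj X), β.app X y = 0 → ∃ x, α.app X x = y)
    (hzero : ∀ X (x : F₁.obj X), β.app X (α.app X x) = 0)
    (K : J ⥤ D) [PreservesColimit K F₂] [PreservesColimit K F₃] : PreservesColimit K F₁ := by
  refine ⟨fun {c} hc => ?_⟩
  have h₂ : IsColimit (F₂.mapCocone c) := isColimitOfPreserves _ hc
  have h₃ : IsColimit (F₃.mapCocone c) := isColimitOfPreserves _ hc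
  let ι : ∀ j, K.obj j ⟶ c.pt := fun j => c.ι.app j
  have hι : ∀ {j k : J} (f : j ⟶ k), K.map f ≫ ι k = ι j := fun f => c.w f
  have natα : ∀ {X Y : D} (f : X ⟶ Y) (x : F₁.obj X), α.app Y (F₁.map f x) = F₂.map f (α.app X x) := by
    intro X Y f x
    rw [← ModuleCat.comp_apply, ← ModuleCat.comp_apply, α.naturality]
  have natβ : ∀ {X Y : D} (f : X ⟶ Y) (x : F₂.obj X), β.app Y (F₂.map f x) = F₃.map f (β.app X x) := by
    intro X Y f x
    rw [← ModuleCat.comp_apply, ← ModuleCat.comp_apply, β.naturality]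
  refine ⟨isColimitOfReflects (forget (ModuleCat.{u} R)) ?_⟩
  refine Types.FilteredColimit.isColimitOf' _ _ ?_ ?_
  · intro (x : F₁.obj c.pt)
    obtain ⟨j, yj, hyj⟩ := Concrete.isColimit_exists_rep _ h₂ (α.app c.pt x)
    replace hyj : F₂.map (ι j) yj = α.app c.pt x := hyj
    have h0 : F₃.map (ι j) (β.app _ yj) = F₃.map (ι j) 0 := by
      rw [map_zero, ← natβ, hyj, hzero]
    obtain ⟨k, f, hk⟩ := (IsColimit.eq_iff' h₃ _ _).1 h0
    replace hk : F₃.map (K.map f) (β.app _ yj) = F₃.map (K.map f) 0 := hk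
    rw [map_zero, ← natβ] at hk
    obtain ⟨xk, hxk⟩ := hex _ _ hk
    refine ⟨k, xk, ?_⟩
    change x = F₁.map (ι k) xk
    apply hα
    rw [natα, hxk, ← hyj, ← hι f, F₂.map_comp]
    rfl
  · intro i (a : F₁.obj (K.obj i)) (b : F₁.obj (K.obj i)) hab
    replace hab : F₁.map (ι i) a = F₁.map (ι i) b := hab
    have h0 : F₂.map (ι i) (α.app _ a) = F₂.map (ι i) (α.app _ b) := by
      rw [← natα, ← natα, hab]
    obtain ⟨k, f, hk⟩ := (IsColimit.eq_iff' h₂ _ _).1 h0
    replace hk : F₂.map (K.map f) (α.app _ a) = F₂.map (K.map f) (α.app _ b) := hk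
    refine ⟨k, f, ?_⟩
    change F₁.map (K.map f) a = F₁.map (K.map f) b
    apply hα
    rw [natα, natα, hk]

end Groth.Agent.Lib.H15KernelFiltered
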