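import Groth.Agent.Lib.H15LCLocal
import Groth.Prelude.Def_ProEtW

set_option autoImplicit false
universe u

namespace Groth.Agent.Lib.H15LCLocal

open PrimeSpectrum Groth.Agent.Lib.H15SpecLC Groth.Agent.Lib.H15LocalRingHom

section emb

variable {A : Type u} [CommRing A] {T : Type u} [TopologicalSpace T] [CompactSpace T] [T2Space T]
  [TotallyDisconnectedSpace T] (M : Submonoid (LocallyConstant T A)) (R' : Type u) [CommRing R']
  [Algebra (LocallyConstant T A) R'] [IsLocalization M R']

include M in
lemma isEmbedding_pt : Topology.IsEmbedding (pt A T : PrimeSpectrum R' → PrimeSpectrum A × T) :=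
  (homeo T A).symm.isEmbedding.comp (PrimeSpectrum.localization_comap_isEmbedding R' M)

lemma range_pt : Set.range (pt A T : PrimeSpectrum R' → PrimeSpectrum A × T) =
    {x | ∀ m ∈ M, m x.2 ∉ x.1.asIdeal} := by
  have hr := PrimeSpectrum.localization_comap_range R' M
  ext x
  constructor
  · rintro ⟨y, rfl⟩ m hm
    exact apply_notMem_of_mem M y hm
  · intro hx
    have : homeo T A x ∈ Set.range (PrimeSpectrum.comap (algebraMap (LocallyConstant T A) R')) := by
      rw [hr]
      show Disjoint _ _
      rw [Set.disjoint_left]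
      intro m hm hmx
      exact hx m hm hmx
    obtain ⟨y, hy⟩ := this
    refine ⟨y, ?_⟩
    rw [pt, hy, Homeomorph.symm_apply_apply]

include M in
lemma specializes_iff_pt (y y' : PrimeSpectrum R') :
    y ⤳ y' ↔ (pt A T y).1 ⤳ (pt A T y').1 ∧ (pt A T y).2 = (pt A T y').2 := by
  rw [← (isEmbedding_pt M R').isInducing.specializes_iff]
  have : pt A T y ⤳ pt A T y' ↔ ((pt A T y).1, (pt A T y).2) ⤳ ((pt A T y').1, (pt A T y').2) :=
    Iff.rfl
  rw [this, specializes_prod, specializes_iff_eq (X := T)]

end emb

section zerodim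

open ProEtW

/-- A ring all of whose primes are maximal has w-local spectrum. -/
theorem isWLocal_of_forall_isMaximal (R : Type u) [CommRing R]
    (h : ∀ p : PrimeSpectrum R, p.asIdeal.IsMaximal) : IsWLocal (PrimeSpectrum R) := by
  have hcl : ∀ p : PrimeSpectrum R, IsClosed ({p} : Set (PrimeSpectrum R)) := fun p =>
    (PrimeSpectrum.isClosed_singleton_iff_isMaximal p).2 (h p)
  refine ⟨inferInstance, ?_, fun x => ⟨x, ⟨hcl x, specializes_rfl⟩, ?_⟩⟩
  · have : {x : PrimeSpectrum R | IsClosed ({x} : Set (PrimeSpectrum R))} = Set.univ :=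
      Set.eq_univ_of_forall hcl
    rw [this]
    exact isClosed_univ
  · rintro y ⟨-, hxy⟩
    have : y ∈ closure ({x} : Set (PrimeSpectrum R)) := specializes_iff_mem_closure.1 hxy
    rw [(hcl x).closure_eq] at this
    exact this

end zerodim

end Groth.Agent.Lib.H15LCLocal
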