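import Mathlib
import Groth.Prelude.Def_EtMil

set_option autoImplicit false
set_option linter.unusedSectionVars false
universe u

namespace Groth.Agent.Lib.H15MilnorSpec

open PrimeSpectrum

variable {B' B A' A : Type u} [CommRing B'] [CommRing B] [CommRing A'] [CommRing A]
  [Algebra B' B] [Algebra B' A'] [Algebra B A] [Algebra A' A] [Algebra B' A]
  [IsScalarTower B' B A] [IsScalarTower B' A' A]
  (hsq : EtMil.IsFibreSquare B' B A' A)

include hsq

/-- the element of `B'` given by a compatible pair. -/
noncomputable def mk (b : B) (a' : A') (h : algebraMap B A b = algebraMap A' A a') : B' :=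
  (hsq.2 b a' h).exists.choose

lemma mk_fst (b : B) (a' : A') (h : algebraMap B A b = algebraMap A' A a') :
    algebraMap B' B (mk hsq b a' h) = b := (hsq.2 b a' h).exists.choose_spec.1

lemma mk_snd (b : B) (a' : A') (h : algebraMap B A b = algebraMap A' A a') :
    algebraMap B' A' (mk hsq b a' h) = a' := (hsq.2 b a' h).exists.choose_spec.2

lemma comm_apply (x : B') : algebraMap B A (algebraMap B' B x) = algebraMap A' A (algebraMap B' A' x) := by
  rw [← IsScalarTower.algebraMap_apply, ← IsScalarTower.algebraMap_apply]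

lemma ext' {x y : B'} (h1 : algebraMap B' B x = algebraMap B' B y)
    (h2 : algebraMap B' A' x = algebraMap B' A' y) : x = y :=
  (hsq.2 (algebraMap B' B y) (algebraMap B' A' y) (comm_apply hsq y)).unique ⟨h1, h2⟩ ⟨rfl, rfl⟩

lemma surjective_fst : Function.Surjective (algebraMap B' B) := by
  intro b
  obtain ⟨a', ha'⟩ := hsq.1 (algebraMap B A b)
  exact ⟨mk hsq b a' ha'.symm, mk_fst hsq _ _ _⟩

/-- `(0, i c)` for `i` in the kernel. -/
noncomputable def zmul (i : A') (hi : algebraMap A' A i = 0) (c : A') : B' :=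
  mk hsq 0 (i * c) (by rw [map_zero, map_mul, hi, zero_mul])

lemma zmul_fst (i : A') (hi : algebraMap A' A i = 0) (c : A') :
    algebraMap B' B (zmul hsq i hi c) = 0 := mk_fst hsq _ _ _

lemma zmul_snd (i : A') (hi : algebraMap A' A i = 0) (c : A') :
    algebraMap B' A' (zmul hsq i hi c) = i * c := mk_snd hsq _ _ _

lemma mem_ker_snd {f : B'} (hf : algebraMap B' B f = 0) :
    algebraMap A' A (algebraMap B' A' f) = 0 := by
  rw [← comm_apply hsq, hf, map_zero]

/-- `f * x = (0, i * snd x)`. -/
lemma mul_eq_zmul {f : B'} (hf : algebraMap B' B f = 0) (x : B') :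
    f * x = zmul hsq (algebraMap B' A' f) (mem_ker_snd hsq hf) (algebraMap B' A' x) := by
  apply ext' hsq
  · rw [map_mul, hf, zero_mul, zmul_fst]
  · rw [map_mul, zmul_snd]


section spec

/-- abbreviations for the four maps. -/
abbrev tt : PrimeSpectrum A → PrimeSpectrum B := comap (algebraMap B A)
abbrev ll : PrimeSpectrum A → PrimeSpectrum A' := comap (algebraMap A' A)
abbrev rr : PrimeSpectrum B → PrimeSpectrum B' := comap (algebraMap B' B)
abbrev bb : PrimeSpectrum A' → PrimeSpectrum B' := comap (algebraMap B' A')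

omit hsq in
lemma comm_spec (p : PrimeSpectrum A) :
    rr (B' := B') (tt (B := B) p) = bb (B' := B') (ll (A' := A') p) := by
  show comap (algebraMap B' B) (comap (algebraMap B A) p) =
    comap (algebraMap B' A') (comap (algebraMap A' A) p)
  rw [← comap_comp_apply, ← comap_comp_apply, ← IsScalarTower.algebraMap_eq,
    ← IsScalarTower.algebraMap_eq]

lemma rr_injective : Function.Injective (rr (B' := B') (B := B)) :=
  comap_injective_of_surjective _ (surjective_fst hsq)

omit hsq in
lemma ll_injective (hs : Function.Surjective (algebraMap A' A)) :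
    Function.Injective (ll (A' := A') (A := A)) :=
  comap_injective_of_surjective _ hs

lemma mem_range_rr_iff (z : PrimeSpectrum B') :
    z ∈ Set.range (rr (B' := B') (B := B)) ↔ ∀ f : B', algebraMap B' B f = 0 → f ∈ z.asIdeal := by
  rw [range_comap_of_surjective _ _ (surjective_fst hsq), mem_zeroLocus]
  rfl

omit hsq in
lemma mem_range_ll_iff (hs : Function.Surjective (algebraMap A' A)) (z : PrimeSpectrum A') :
    z ∈ Set.range (ll (A' := A') (A := A)) ↔ ∀ i : A', algebraMap A' A i = 0 → i ∈ z.asIdeal := by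
  rw [range_comap_of_surjective _ _ hs, mem_zeroLocus]
  rfl

/-- joint surjectivity. -/
lemma mem_range_bb_of_notMem (z : PrimeSpectrum B') (f : B') (hf : algebraMap B' B f = 0)
    (hfz : f ∉ z.asIdeal) : z ∈ Set.range (bb (B' := B') (A' := A')) := by
  rw [mem_range_comap_iff]
  refine le_antisymm ?_ Ideal.le_comap_map
  set i := algebraMap B' A' f with hi
  have hi0 : algebraMap A' A i = 0 := mem_ker_snd hsq hf
  -- the ideal `Q`
  let Q : Ideal A' :=
    { carrier := {c | zmul hsq i hi0 c ∈ z.asIdeal}
      add_mem' := by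
        intro a c ha hc
        have : zmul hsq i hi0 (a + c) = zmul hsq i hi0 a + zmul hsq i hi0 c := by
          apply ext' hsq
          · rw [map_add, zmul_fst, zmul_fst, zmul_fst, add_zero]
          · rw [map_add, zmul_snd, zmul_snd, zmul_snd, mul_add]
        show zmul hsq i hi0 (a + c) ∈ z.asIdeal
        rw [this]
        exact z.asIdeal.add_mem ha hc
      zero_mem' := by
        have : zmul hsq i hi0 0 = 0 := by
          apply ext' hsq
          · rw [zmul_fst, map_zero]
          · rw [zmul_snd, mul_zero, map_zero]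
        show zmul hsq i hi0 0 ∈ z.asIdeal
        rw [this]
        exact z.asIdeal.zero_mem
      smul_mem' := by
        intro c a ha
        have h1 : f * zmul hsq i hi0 (c • a) = zmul hsq i hi0 c * zmul hsq i hi0 a := by
          apply ext' hsq
          · rw [map_mul, map_mul, hf, zero_mul, zmul_fst, zero_mul]
          · rw [map_mul, map_mul, zmul_snd, zmul_snd, zmul_snd, smul_eq_mul]
            ring
        have h2 : f * zmul hsq i hi0 (c • a) ∈ z.asIdeal := by
          rw [h1]
          exact z.asIdeal.mul_mem_left _ ha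
        exact (z.2.mem_or_mem h2).resolve_left hfz }
  have hQ : z.asIdeal.map (algebraMap B' A') ≤ Q := by
    rw [Ideal.map_le_iff_le_comap]
    intro x hx
    show zmul hsq i hi0 (algebraMap B' A' x) ∈ z.asIdeal
    rw [← mul_eq_zmul hsq hf x]
    exact z.asIdeal.mul_mem_left _ hx
  intro x hx
  have h1 : zmul hsq i hi0 (algebraMap B' A' x) ∈ z.asIdeal := hQ hx
  rw [← mul_eq_zmul hsq hf x] at h1
  exact (z.2.mem_or_mem h1).resolve_left hfz

lemma range_union (z : PrimeSpectrum B') :
    z ∈ Set.range (rr (B' := B') (B := B)) ∨ z ∈ Set.range (bb (B' := B') (A' := A')) := by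
  by_cases h : ∀ f : B', algebraMap B' B f = 0 → f ∈ z.asIdeal
  · exact Or.inl ((mem_range_rr_iff hsq z).2 h)
  · push Not at h
    obtain ⟨f, hf, hfz⟩ := h
    exact Or.inr (mem_range_bb_of_notMem hsq z f hf hfz)

/-- pullback property. -/
lemma exists_of_rr_eq_bb (q : PrimeSpectrum B) (q' : PrimeSpectrum A')
    (h : rr (B' := B') q = bb (B' := B') q') :
    ∃ p : PrimeSpectrum A, tt (B := B) p = q ∧ ll (A' := A') p = q' := by
  have hq' : q' ∈ Set.range (ll (A' := A') (A := A)) := by
    rw [mem_range_ll_iff hsq.1]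
    intro i hi
    have h1 : zmul hsq i hi 1 ∈ (rr (B' := B') q).asIdeal := by
      show algebraMap B' B (zmul hsq i hi 1) ∈ q.asIdeal
      rw [zmul_fst]
      exact q.asIdeal.zero_mem
    rw [h] at h1
    have h2 : algebraMap B' A' (zmul hsq i hi 1) ∈ q'.asIdeal := h1
    rwa [zmul_snd, mul_one] at h2
  obtain ⟨p, rfl⟩ := hq'
  refine ⟨p, rr_injective hsq ?_, rfl⟩
  rw [comm_spec (B' := B') (B := B) (A' := A') p, h]


/-- `bb` is injective off the range of `ll`. -/
lemma bb_inj_off (q₁ q₂ : PrimeSpectrum A') (h1 : q₁ ∉ Set.range (ll (A' := A') (A := A)))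
    (h : bb (B' := B') q₁ = bb (B' := B') q₂) : q₁ = q₂ := by
  rw [mem_range_ll_iff hsq.1] at h1
  push Not at h1
  obtain ⟨i, hi, hiq⟩ := h1
  have key : ∀ c : A', i * c ∈ q₁.asIdeal ↔ i * c ∈ q₂.asIdeal := by
    intro c
    have e1 : i * c ∈ q₁.asIdeal ↔ zmul hsq i hi c ∈ (bb (B' := B') q₁).asIdeal := by
      show _ ↔ algebraMap B' A' (zmul hsq i hi c) ∈ q₁.asIdeal
      rw [zmul_snd]
    have e2 : i * c ∈ q₂.asIdeal ↔ zmul hsq i hi c ∈ (bb (B' := B') q₂).asIdeal := by
      show _ ↔ algebraMap B' A' (zmul hsq i hi c) ∈ q₂.asIdeal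
      rw [zmul_snd]
    rw [e1, e2, h]
  have hiq2 : i ∉ q₂.asIdeal := by
    intro hh
    apply hiq
    have := (key 1).2 (by rwa [mul_one])
    rwa [mul_one] at this
  ext c
  constructor
  · intro hc
    exact (q₂.2.mem_or_mem ((key c).1 (q₁.asIdeal.mul_mem_left i hc))).resolve_left hiq2
  · intro hc
    exact (q₁.2.mem_or_mem ((key c).2 (q₂.asIdeal.mul_mem_left i hc))).resolve_left hiq

/-- the closedness criterion. -/
lemma isClosed_of_preimages (Z : Set (PrimeSpectrum B'))
    (hr : IsClosed (rr (B' := B') (B := B) ⁻¹' Z)) (hb : IsClosed (bb (B' := B') (A' := A') ⁻¹' Z)) :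
    IsClosed Z := by
  set JB : Ideal B := vanishingIdeal (rr (B' := B') (B := B) ⁻¹' Z) with hJB
  set JA : Ideal A' := vanishingIdeal (bb (B' := B') (A' := A') ⁻¹' Z) with hJA
  have hZB : zeroLocus (JB : Set B) = rr (B' := B') (B := B) ⁻¹' Z := by
    rw [hJB, zeroLocus_vanishingIdeal_eq_closure, hr.closure_eq]
  have hZA : zeroLocus (JA : Set A') = bb (B' := B') (A' := A') ⁻¹' Z := by
    rw [hJA, zeroLocus_vanishingIdeal_eq_closure, hb.closure_eq]
  let J' : Ideal B' := JB.comap (algebraMap B' B) ⊓ JA.comap (algebraMap B' A')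
  suffices h : Z = zeroLocus (J' : Set B') by
    rw [h]; exact isClosed_zeroLocus _
  apply Set.Subset.antisymm
  · intro z hz
    rw [mem_zeroLocus]
    intro x hx
    rcases range_union hsq z with ⟨q, rfl⟩ | ⟨q', rfl⟩
    · have hq : q ∈ zeroLocus (JB : Set B) := by rw [hZB]; exact hz
      exact hq hx.1
    · have hq : q' ∈ zeroLocus (JA : Set A') := by rw [hZA]; exact hz
      exact hq hx.2
  · intro z hz
    rw [mem_zeroLocus] at hz
    by_cases hzr : z ∈ Set.range (rr (B' := B') (B := B))
    · obtain ⟨q, rfl⟩ := hzr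
      show q ∈ rr (B' := B') (B := B) ⁻¹' Z
      rw [← hZB, mem_zeroLocus]
      intro β hβ
      -- the image of β in A lies in the radical of the image of JA
      have hrad : algebraMap B A β ∈ (JA.map (algebraMap A' A)).radical := by
        rw [Ideal.radical_eq_sInf, Ideal.mem_sInf]
        rintro P ⟨hP, hPprime⟩
        let p : PrimeSpectrum A := ⟨P, hPprime⟩
        have h1 : ll (A' := A') p ∈ zeroLocus (JA : Set A') := by
          rw [mem_zeroLocus]
          intro c hc
          exact hP (Ideal.mem_map_of_mem _ hc)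
        rw [hZA] at h1
        have h2 : bb (B' := B') (ll (A' := A') p) ∈ Z := h1
        rw [← comm_spec (B' := B') (B := B) (A' := A') p] at h2
        have h3 : tt (B := B) p ∈ zeroLocus (JB : Set B) := by rw [hZB]; exact h2
        exact h3 hβ
      obtain ⟨n, hn⟩ := hrad
      have hn1 : (algebraMap B A β) ^ (n + 1) ∈ JA.map (algebraMap A' A) := by
        rw [pow_succ]
        exact Ideal.mul_mem_right _ _ hn
      obtain ⟨α', hα', hαeq⟩ := (Ideal.mem_map_iff_of_surjective _ hsq.1).1 hn1
      have hcompat : algebraMap B A (β ^ (n + 1)) = algebraMap A' A α' := by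
        rw [map_pow, hαeq]
      have hmem : mk hsq (β ^ (n + 1)) α' hcompat ∈ J' := by
        refine ⟨?_, ?_⟩
        · show algebraMap B' B _ ∈ JB
          rw [mk_fst]
          exact JB.pow_mem_of_mem hβ (n + 1) (Nat.succ_pos n)
        · show algebraMap B' A' _ ∈ JA
          rw [mk_snd]
          exact hα'
      have h4 : algebraMap B' B (mk hsq (β ^ (n + 1)) α' hcompat) ∈ q.asIdeal := hz hmem
      rw [mk_fst] at h4
      exact q.2.mem_of_pow_mem (n + 1) h4
    · -- z is off the range of rr
      rw [mem_range_rr_iff hsq] at hzr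
      push Not at hzr
      obtain ⟨f, hf, hfz⟩ := hzr
      obtain ⟨q', rfl⟩ := mem_range_bb_of_notMem hsq z f hf hfz
      show q' ∈ bb (B' := B') (A' := A') ⁻¹' Z
      rw [← hZA, mem_zeroLocus]
      intro α' hα'
      set i := algebraMap B' A' f with hi
      have hi0 : algebraMap A' A i = 0 := mem_ker_snd hsq hf
      have hiq : i ∉ q'.asIdeal := hfz
      have hmem : zmul hsq i hi0 α' ∈ J' := by
        refine ⟨?_, ?_⟩
        · show algebraMap B' B _ ∈ JB
          rw [zmul_fst]
          exact JB.zero_mem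
        · show algebraMap B' A' _ ∈ JA
          rw [zmul_snd]
          exact JA.mul_mem_left _ hα'
      have h4 : algebraMap B' A' (zmul hsq i hi0 α') ∈ q'.asIdeal := hz hmem
      rw [zmul_snd] at h4
      exact (q'.2.mem_or_mem h4).resolve_left hiq

/-- the descent map on points. -/
noncomputable def descFun {T : Type u} (h : PrimeSpectrum B → T) (k : PrimeSpectrum A' → T)
    (z : PrimeSpectrum B') : T := by
  classical
  exact if hz : z ∈ Set.range (rr (B' := B') (B := B)) then h hz.choose
    else k ((range_union hsq z).resolve_left hz).choose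

lemma descFun_rr {T : Type u} (h : PrimeSpectrum B → T) (k : PrimeSpectrum A' → T)
    (q : PrimeSpectrum B) : descFun hsq h k (rr (B' := B') q) = h q := by
  classical
  have hz : rr (B' := B') q ∈ Set.range (rr (B' := B') (B := B)) := ⟨q, rfl⟩
  unfold descFun
  rw [dif_pos hz]
  congr 1
  exact rr_injective hsq hz.choose_spec

lemma descFun_bb {T : Type u} (h : PrimeSpectrum B → T) (k : PrimeSpectrum A' → T)
    (hk : ∀ p : PrimeSpectrum A, h (tt (B := B) p) = k (ll (A' := A') p))
    (q' : PrimeSpectrum A') : descFun hsq h k (bb (B' := B') q') = k q' := by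
  classical
  by_cases hz : bb (B' := B') q' ∈ Set.range (rr (B' := B') (B := B))
  · obtain ⟨q, hq⟩ := hz
    obtain ⟨p, rfl, rfl⟩ := exists_of_rr_eq_bb hsq q q' hq
    rw [← comm_spec (B' := B') (B := B) (A' := A') p, descFun_rr, hk]
  · unfold descFun
    rw [dif_neg hz]
    congr 1
    have hq' : q' ∉ Set.range (ll (A' := A') (A := A)) := by
      rintro ⟨p, rfl⟩
      apply hz
      rw [← comm_spec (B' := B') (B := B) (A' := A') p]
      exact ⟨_, rfl⟩
    exact (bb_inj_off hsq q' _ hq' ((range_union hsq _).resolve_left hz).choose_spec.symm).symm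

lemma continuous_descFun {T : Type u} [TopologicalSpace T] (h : PrimeSpectrum B → T)
    (k : PrimeSpectrum A' → T) (hh : Continuous h) (hkc : Continuous k)
    (hk : ∀ p : PrimeSpectrum A, h (tt (B := B) p) = k (ll (A' := A') p)) :
    Continuous (descFun hsq h k) := by
  rw [continuous_iff_isClosed]
  intro F hF
  apply isClosed_of_preimages hsq
  · have : rr (B' := B') (B := B) ⁻¹' (descFun hsq h k ⁻¹' F) = h ⁻¹' F := by
      ext q
      simp only [Set.mem_preimage]
      rw [descFun_rr]
    rw [this]
    exact hF.preimage hh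
  · have : bb (B' := B') (A' := A') ⁻¹' (descFun hsq h k ⁻¹' F) = k ⁻¹' F := by
      ext q
      simp only [Set.mem_preimage]
      rw [descFun_bb hsq h k hk]
    rw [this]
    exact hF.preimage hkc

end spec

open CategoryTheory CategoryTheory.Limits

theorem main :
    IsPushout (TopCat.ofHom (ContinuousMap.mk (PrimeSpectrum.comap (algebraMap B A)) (PrimeSpectrum.continuous_comap _))) (TopCat.ofHom (ContinuousMap.mk (PrimeSpectrum.comap (algebraMap A' A)) (PrimeSpectrum.continuous_comap _)))
      (TopCat.ofHom (ContinuousMap.mk (PrimeSpectrum.comap (algebraMap B' B)) (PrimeSpectrum.continuous_comap _)))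
      (TopCat.ofHom (ContinuousMap.mk (PrimeSpectrum.comap (algebraMap B' A')) (PrimeSpectrum.continuous_comap _))) := by
  have hcomm : (TopCat.ofHom (ContinuousMap.mk (PrimeSpectrum.comap (algebraMap B A)) (PrimeSpectrum.continuous_comap _))) ≫
      (TopCat.ofHom (ContinuousMap.mk (PrimeSpectrum.comap (algebraMap B' B)) (PrimeSpectrum.continuous_comap _))) =
      (TopCat.ofHom (ContinuousMap.mk (PrimeSpectrum.comap (algebraMap A' A)) (PrimeSpectrum.continuous_comap _))) ≫
      (TopCat.ofHom (ContinuousMap.mk (PrimeSpectrum.comap (algebraMap B' A')) (PrimeSpectrum.continuous_comap _))) := by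
    refine TopCat.hom_ext (ContinuousMap.ext fun p => ?_)
    exact comm_spec (B' := B') (B := B) (A' := A') p
  have hcoc : ∀ s : PushoutCocone (TopCat.ofHom (ContinuousMap.mk (PrimeSpectrum.comap (algebraMap B A)) (PrimeSpectrum.continuous_comap _))) (TopCat.ofHom (ContinuousMap.mk (PrimeSpectrum.comap (algebraMap A' A)) (PrimeSpectrum.continuous_comap _))),
      ∀ p : PrimeSpectrum A, s.inl (tt (B := B) p) = s.inr (ll (A' := A') p) := by
    intro s p
    have := congrArg (fun f => f p) s.condition
    exact this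
  refine ⟨⟨hcomm⟩, ⟨PushoutCocone.IsColimit.mk hcomm
    (fun s => TopCat.ofHom ⟨descFun hsq s.inl s.inr,
      continuous_descFun hsq _ _ s.inl.hom.continuous s.inr.hom.continuous (hcoc s)⟩) ?_ ?_ ?_⟩⟩
  · intro s
    refine TopCat.hom_ext (ContinuousMap.ext fun q => ?_)
    exact descFun_rr hsq _ _ q
  · intro s
    refine TopCat.hom_ext (ContinuousMap.ext fun q' => ?_)
    exact descFun_bb hsq _ _ (hcoc s) q'
  · intro s m h1 h2
    refine TopCat.hom_ext (ContinuousMap.ext fun z => ?_)
    rcases range_union hsq z with ⟨q, rfl⟩ | ⟨q', rfl⟩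
    · have := congrArg (fun f => f q) h1
      refine Eq.trans this ?_
      exact (descFun_rr hsq _ _ q).symm
    · have := congrArg (fun f => f q') h2
      refine Eq.trans this ?_
      exact (descFun_bb hsq _ _ (hcoc s) q').symm

end Groth.Agent.Lib.H15MilnorSpec
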