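import Groth.Agent.Lib.JacobianEtale
import Groth.Agent.Lib.HenselEtaleLift

/-!
# Multivariable Hensel lemma for henselian pairs (helper15)

For `P : Fin n → MvPolynomial (Fin n) A`:
* `solHom P y hy hJ : Loc P →ₐ[A] C` the algebra map attached to a solution `y` in an `A`-algebra `C`
  at which the Jacobian determinant is a unit.
* `exists_root`: if `(A, I)` is a henselian pair, an approximate root `a₀` (mod `I`) with Jacobian
  determinant a unit mod `I` lifts to a root `a ≡ a₀ mod I`.
* `root_unique`: two roots in `C` congruent modulo `J ≤ Jac(C)` with unit Jacobian determinants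
  coincide.
-/

set_option autoImplicit false
universe u

namespace Groth.Agent.Lib.H15MvHensel

open MvPolynomial Groth.Agent.Lib.JacobianEtale

variable {A : Type u} [CommRing A] {n : ℕ} (P : Fin n → MvPolynomial (Fin n) A)

/-- The Jacobian determinant as a polynomial. -/
noncomputable def jacDet : MvPolynomial (Fin n) A :=
  (Matrix.of (fun i j => MvPolynomial.pderiv i (P j))).det

section solHom

variable {C : Type u} [CommRing C] [Algebra A C] (y : Fin n → C)
  (hy : ∀ i, MvPolynomial.aeval y (P i) = 0) (hJ : IsUnit (MvPolynomial.aeval y (jacDet P)))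

/-- The map `A[T]/(P) → C` attached to a solution. -/
noncomputable def quotHom : Quot P →ₐ[A] C :=
  Ideal.Quotient.liftₐ _ (MvPolynomial.aeval y) (by
    intro p hp
    have hle : Ideal.span (Set.range P) ≤
        RingHom.ker ((MvPolynomial.aeval y : MvPolynomial (Fin n) A →ₐ[A] C) :
          MvPolynomial (Fin n) A →+* C) := by
      rw [Ideal.span_le]
      rintro _ ⟨i, rfl⟩
      exact hy i
    exact hle hp)

lemma quotHom_mk (p : MvPolynomial (Fin n) A) :
    quotHom P y hy (Ideal.Quotient.mk _ p) = MvPolynomial.aeval y p := rfl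

include hJ in
lemma isUnit_quotHom_jac : IsUnit (quotHom P y hy (jac P)) := by
  rw [jac_eq, quotHom_mk]
  exact hJ

/-- The map `Loc P → C` attached to a solution with unit Jacobian determinant. -/
noncomputable def solHom : Loc P →ₐ[A] C :=
  IsLocalization.liftAlgHom (M := Submonoid.powers (jac P)) (f := quotHom P y hy) (by
    rintro ⟨_, k, rfl⟩
    simpa using (isUnit_quotHom_jac P y hy hJ).pow k)

lemma solHom_algebraMap (x : Quot P) :
    solHom P y hy hJ (algebraMap (Quot P) (Loc P) x) = quotHom P y hy x := by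
  change (IsLocalization.lift _) ((algebraMap (Quot P) (Loc P)) x) = quotHom P y hy x
  rw [IsLocalization.lift_eq]
  rfl

lemma solHom_X (j : Fin n) :
    solHom P y hy hJ (algebraMap (Quot P) (Loc P) (Ideal.Quotient.mk _ (X j))) = y j := by
  rw [solHom_algebraMap, quotHom_mk, MvPolynomial.aeval_X]

end solHom

/-- An algebra map out of `Loc P` is determined by the images of the variables. -/
theorem algHom_ext_loc {C : Type u} [CommRing C] [Algebra A C] (u v : Loc P →ₐ[A] C)
    (h : ∀ j, u (algebraMap (Quot P) (Loc P) (Ideal.Quotient.mk _ (X j))) =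
      v (algebraMap (Quot P) (Loc P) (Ideal.Quotient.mk _ (X j)))) : u = v := by
  let ι : MvPolynomial (Fin n) A →ₐ[A] Loc P :=
    (IsScalarTower.toAlgHom A (Quot P) (Loc P)).comp (Ideal.Quotient.mkₐ A _)
  have h1 : u.comp ι = v.comp ι := by
    apply MvPolynomial.algHom_ext
    intro j
    exact h j
  have h2 : (u : Loc P →+* C).comp (algebraMap (Quot P) (Loc P)) =
      (v : Loc P →+* C).comp (algebraMap (Quot P) (Loc P)) := by
    apply Ideal.Quotient.ringHom_ext
    refine RingHom.ext fun p => ?_
    exact congrArg (fun k : MvPolynomial (Fin n) A →ₐ[A] C => k p) h1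
  have h3 : (u : Loc P →+* C) = v :=
    IsLocalization.ringHom_ext (Submonoid.powers (jac P)) h2
  exact AlgHom.coe_ringHom_injective h3

/-- The root attached to an algebra map `Loc P → C`. -/
theorem aeval_eq_zero_of_algHom {C : Type u} [CommRing C] [Algebra A C] (σ : Loc P →ₐ[A] C)
    (i : Fin n) :
    MvPolynomial.aeval
      (fun j => σ (algebraMap (Quot P) (Loc P) (Ideal.Quotient.mk _ (X j)))) (P i) = 0 := by
  let ι : MvPolynomial (Fin n) A →ₐ[A] Loc P :=
    (IsScalarTower.toAlgHom A (Quot P) (Loc P)).comp (Ideal.Quotient.mkₐ A _)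
  have : MvPolynomial.aeval
      (fun j => σ (algebraMap (Quot P) (Loc P) (Ideal.Quotient.mk _ (X j)))) = σ.comp ι := by
    apply MvPolynomial.algHom_ext
    intro j
    simp [ι]
  rw [this, AlgHom.comp_apply]
  have h0 : ι (P i) = 0 := by
    show algebraMap (Quot P) (Loc P) (Ideal.Quotient.mk _ (P i)) = 0
    have : (Ideal.Quotient.mk (Ideal.span (Set.range P))) (P i) = 0 := by
      rw [Ideal.Quotient.eq_zero_iff_mem]
      exact Ideal.subset_span ⟨i, rfl⟩
    rw [this, map_zero]
  rw [h0, map_zero]

/-- **Multivariable Hensel lemma for henselian pairs.** -/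
theorem exists_root (I : Ideal A) [HenselianRing A I] (a₀ : Fin n → A)
    (h₀ : ∀ i, MvPolynomial.eval a₀ (P i) ∈ I)
    (hJ : IsUnit (Ideal.Quotient.mk I (MvPolynomial.eval a₀ (jacDet P)))) :
    ∃ a : Fin n → A, (∀ i, MvPolynomial.eval a (P i) = 0) ∧ ∀ j, a j - a₀ j ∈ I := by
  let y : Fin n → A ⧸ I := fun j => Ideal.Quotient.mk I (a₀ j)
  have haev : ∀ p : MvPolynomial (Fin n) A,
      MvPolynomial.aeval y p = Ideal.Quotient.mk I (MvPolynomial.eval a₀ p) := by
    intro p
    have : ((MvPolynomial.aeval y : MvPolynomial (Fin n) A →ₐ[A] A ⧸ I) :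
        MvPolynomial (Fin n) A →+* A ⧸ I) =
        (Ideal.Quotient.mk I).comp (MvPolynomial.eval a₀) := by
      apply MvPolynomial.ringHom_ext
      · intro r
        simp
      · intro i
        simp [y]
    exact RingHom.congr_fun this p
  have hy : ∀ i, MvPolynomial.aeval y (P i) = 0 := by
    intro i
    rw [haev, Ideal.Quotient.eq_zero_iff_mem]
    exact h₀ i
  have hJ' : IsUnit (MvPolynomial.aeval y (jacDet P)) := by
    rw [haev]; exact hJ
  obtain ⟨σ, hσ⟩ := Groth.Agent.Lib.HenselEtaleLift.exists_lift I (solHom P y hy hJ')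
  refine ⟨fun j => σ (algebraMap (Quot P) (Loc P) (Ideal.Quotient.mk _ (X j))), ?_, ?_⟩
  · intro i
    have := aeval_eq_zero_of_algHom P σ i
    rwa [MvPolynomial.aeval_eq_eval, ] at this
  · intro j
    have := congrArg (fun k : Loc P →ₐ[A] A ⧸ I =>
      k (algebraMap (Quot P) (Loc P) (Ideal.Quotient.mk _ (X j)))) hσ
    simp only [AlgHom.comp_apply, solHom_X] at this
    exact Ideal.Quotient.eq.mp this

/-- Uniqueness of roots congruent modulo an ideal in the Jacobson radical. -/
theorem root_unique {C : Type u} [CommRing C] [Algebra A C] (J : Ideal C)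
    (hJ : J ≤ Ideal.jacobson ⊥) (y y' : Fin n → C)
    (hy : ∀ i, MvPolynomial.aeval y (P i) = 0) (hy' : ∀ i, MvPolynomial.aeval y' (P i) = 0)
    (hu : IsUnit (MvPolynomial.aeval y (jacDet P)))
    (hu' : IsUnit (MvPolynomial.aeval y' (jacDet P)))
    (h : ∀ j, y j - y' j ∈ J) : y = y' := by
  let u := solHom P y hy hu
  let v := solHom P y' hy' hu'
  have huv : (Ideal.Quotient.mkₐ A J).comp u = (Ideal.Quotient.mkₐ A J).comp v := by
    apply algHom_ext_loc
    intro j
    simp only [AlgHom.comp_apply, u, v, solHom_X]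
    exact Ideal.Quotient.eq.mpr (h j)
  have := Groth.Agent.Lib.HenselEtaleLift.lift_unique_of_algebra J hJ u v huv
  funext j
  have h2 := congrArg (fun k : Loc P →ₐ[A] C =>
    k (algebraMap (Quot P) (Loc P) (Ideal.Quotient.mk _ (X j)))) this
  simpa only [u, v, solHom_X] using h2

end Groth.Agent.Lib.H15MvHensel
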