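import Groth.Agent.Lib.H15PerfPic

set_option autoImplicit false
set_option linter.style.haveILetI false
set_option linter.unusedSectionVars false
universe u
open CategoryTheory CategoryTheory.Limits AlgebraicGeometry FrobSch Opposite TopologicalSpace
open Groth.Agent.Lib.H80Perfection Groth.Agent.Lib.H78Atlas Groth.Agent.Lib.H15PerfDescent
open Groth.Agent.Lib.H90Invertible Groth.Agent.Lib.StructureModule Groth.Agent.Lib.H78TensorGen
open Groth.Agent.Lib.H78SecCoord Groth.Agent.Lib.H78PullSec Groth.Agent.Lib.PullInverse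
open Groth.Agent.Lib.H15PerfPic

/-!
# helper15: `p`-power descent along a "`p`-dense homeomorphism" `π : XP ⟶ X`

`PDense π p`: `π` is a homeomorphism and every function on the preimage of an affine open has a `p^n`-th power
coming from downstairs.  Examples: perfections (helper80), base change along a purely inseparable field extension
(`Lib/H15PurInsepPic`).  Generalizes `Lib/H15PerfDescent` and parts of `Lib/H15PerfPic` verbatim:
`exists_descent_co`, `exists_descent_cocycle`, `exists_descent_sec`, `exists_atlas_preimage`,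
`exists_isTrivialCl_of_pullCl` (π^*L trivial ⇒ L^{p^n} trivial), `exists_tensorPow_eq_pullCl` (M^{p^n} ≅ π^*L).
-/

namespace Groth.Agent.Lib.H15PDense

variable {p : ℕ} [Fact p.Prime] {XP X : Scheme.{u}} {π : XP ⟶ X}

/-- `π : XP ⟶ X` is a homeomorphism such that every function on the preimage of an affine open has a
`p`-power coming from downstairs (e.g. a perfection, or a purely inseparable base change) -/
structure PDense (π : XP ⟶ X) (p : ℕ) : Prop where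
  homeo : IsHomeomorph π
  affine : ∀ (U : X.Opens), IsAffineOpen U → ∀ b : Γ(XP, π ⁻¹ᵁ U),
    ∃ (n : ℕ) (a : Γ(X, U)), π.app U a = b ^ p ^ n

variable [IsCharP XP p] [IsCharP X p]

omit [Fact p.Prime] [IsCharP XP p] [IsCharP X p] in
/-- The kernel of `Γ(X, W) → Γ(XP, π⁻¹W)` consists of nilpotents (for `W` quasi-compact). -/
theorem PDense.isNilpotent_of_app_eq_zero (hX : PDense π p) {W : X.Opens}
    (hW : IsCompact (W : Set X)) (a : Γ(X, W)) (ha : π.app W a = 0) : IsNilpotent a := by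
  rw [Scheme.isNilpotent_iff_basicOpen_eq_bot_of_isCompact hW]
  have h1 : π ⁻¹ᵁ (X.basicOpen a) = XP.basicOpen (π.app W a) := Scheme.preimage_basicOpen π a
  rw [ha, Scheme.basicOpen_zero] at h1
  ext x
  simp only [Opens.coe_bot, Set.mem_empty_iff_false, iff_false]
  intro hx
  obtain ⟨x', rfl⟩ := hX.homeo.surjective x
  have : x' ∈ π ⁻¹ᵁ (X.basicOpen a) := hx
  rw [h1] at this
  exact this

/-- Gluing step. -/
theorem PDense.exists_pow_mem_range_app_sup [QuasiSeparatedSpace X] (hX : PDense π p)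
    (S U : X.Opens) (hS : IsCompact (S : Set X)) (hU : IsCompact (U : Set X))
    (PS : ∀ b : Γ(XP, π ⁻¹ᵁ S), ∃ (n : ℕ) (a : Γ(X, S)), π.app S a = b ^ p ^ n)
    (PU : ∀ b : Γ(XP, π ⁻¹ᵁ U), ∃ (n : ℕ) (a : Γ(X, U)), π.app U a = b ^ p ^ n)
    (b : Γ(XP, π ⁻¹ᵁ (S ⊔ U))) :
    ∃ (n : ℕ) (a : Γ(X, S ⊔ U)), π.app (S ⊔ U) a = b ^ p ^ n := by
  -- restrictions of `b`
  let bS : Γ(XP, π ⁻¹ᵁ S) := XP.presheaf.map (homOfLE (π.preimage_mono le_sup_left)).op b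
  let bU : Γ(XP, π ⁻¹ᵁ U) := XP.presheaf.map (homOfLE (π.preimage_mono le_sup_right)).op b
  obtain ⟨n₁, aS, haS⟩ := PS bS
  obtain ⟨n₂, aU, haU⟩ := PU bU
  have hI : IsCompact ((S ⊓ U : X.Opens) : Set X) :=
    QuasiSeparatedSpace.inter_isCompact S.1 U.1 S.2 hS U.2 hU
  let rS : Γ(X, S) ⟶ Γ(X, S ⊓ U) := X.presheaf.map (homOfLE inf_le_left).op
  let rU : Γ(X, U) ⟶ Γ(X, S ⊓ U) := X.presheaf.map (homOfLE inf_le_right).op
  let bI : Γ(XP, π ⁻¹ᵁ (S ⊓ U)) :=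
    XP.presheaf.map (homOfLE (π.preimage_mono (inf_le_left.trans le_sup_left))).op b
  have hbS : XP.presheaf.map (homOfLE (π.preimage_mono (inf_le_left : S ⊓ U ≤ S))).op bS = bI := by
    simp only [bS, bI]
    rw [← CommRingCat.comp_apply, ← Functor.map_comp]
    rfl
  have hbU : XP.presheaf.map (homOfLE (π.preimage_mono (inf_le_right : S ⊓ U ≤ U))).op bU = bI := by
    simp only [bU, bI]
    rw [← CommRingCat.comp_apply, ← Functor.map_comp]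
    rfl
  let d : Γ(X, S ⊓ U) := rS (aS ^ p ^ n₂) - rU (aU ^ p ^ n₁)
  have e1 : π.app (S ⊓ U) (rS (aS ^ p ^ n₂)) = bI ^ p ^ (n₁ + n₂) := by
    simp only [rS]
    rw [app_res, map_pow, haS, ← pow_mul, ← pow_add, map_pow, hbS]
  have e2 : π.app (S ⊓ U) (rU (aU ^ p ^ n₁)) = bI ^ p ^ (n₁ + n₂) := by
    simp only [rU]
    rw [app_res, map_pow, haU, ← pow_mul, ← pow_add, map_pow, hbU, add_comm]
  have hd : π.app (S ⊓ U) d = 0 := by
    simp only [d]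
    rw [map_sub, e1, e2, sub_self]
  obtain ⟨k, hk⟩ := pow_eq_zero_of_isNilpotent_prime (p := p)
    (hX.isNilpotent_of_app_eq_zero hI d hd)
  have hI0 : (p : Γ(X, S ⊓ U)) = 0 := natCast_eq_zero_app X p (S ⊓ U)
  have hk' : rS ((aS ^ p ^ n₂) ^ p ^ k) = rU ((aU ^ p ^ n₁) ^ p ^ k) := by
    have h1 := powHom_pow_apply hI0 k d
    rw [hk] at h1
    simp only [d] at h1
    rw [map_sub, powHom_pow_apply, powHom_pow_apply, sub_eq_zero] at h1
    simp only [map_pow] at h1 ⊢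
    exact h1
  let a₁ : Γ(X, S) := (aS ^ p ^ n₂) ^ p ^ k
  let a₂ : Γ(X, U) := (aU ^ p ^ n₁) ^ p ^ k
  let x : RingHom.eqLocus
      (RingHom.comp (X.sheaf.obj.map (homOfLE inf_le_left : S ⊓ U ⟶ S).op).hom
        (RingHom.fst (X.sheaf.obj.obj <| op S) (X.sheaf.obj.obj <| op U)))
      (RingHom.comp (X.sheaf.obj.map (homOfLE inf_le_right : S ⊓ U ⟶ U).op).hom
        (RingHom.snd (X.sheaf.obj.obj <| op S) (X.sheaf.obj.obj <| op U))) := ⟨(a₁, a₂), hk'⟩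
  let a : Γ(X, S ⊔ U) := (X.sheaf.objSupIsoProdEqLocus S U).inv x
  have haS' : X.presheaf.map (homOfLE (le_sup_left : S ≤ S ⊔ U)).op a = a₁ :=
    X.sheaf.objSupIsoProdEqLocus_inv_fst S U x
  have haU' : X.presheaf.map (homOfLE (le_sup_right : U ≤ S ⊔ U)).op a = a₂ :=
    X.sheaf.objSupIsoProdEqLocus_inv_snd S U x
  refine ⟨n₁ + n₂ + k, a, ?_⟩
  refine XP.sheaf.eq_of_locally_eq₂ (homOfLE (π.preimage_mono (le_sup_left : S ≤ S ⊔ U)))
    (homOfLE (π.preimage_mono (le_sup_right : U ≤ S ⊔ U))) (le_of_eq rfl) _ _ ?_ ?_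
  · change XP.presheaf.map _ (π.app (S ⊔ U) a) = XP.presheaf.map _ (b ^ p ^ (n₁ + n₂ + k))
    rw [← app_res π (le_sup_left : S ≤ S ⊔ U), haS']
    have h5 : XP.presheaf.map (homOfLE (π.preimage_mono (le_sup_left : S ≤ S ⊔ U))).op
        (b ^ p ^ (n₁ + n₂ + k)) = bS ^ p ^ (n₁ + n₂ + k) := map_pow _ _ _
    rw [h5]
    simp only [a₁]
    rw [map_pow, map_pow, haS, ← pow_mul, ← pow_mul, ← pow_add, ← pow_add, add_assoc]
  · change XP.presheaf.map _ (π.app (S ⊔ U) a) = XP.presheaf.map _ (b ^ p ^ (n₁ + n₂ + k))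
    rw [← app_res π (le_sup_right : U ≤ S ⊔ U), haU']
    have h5 : XP.presheaf.map (homOfLE (π.preimage_mono (le_sup_right : U ≤ S ⊔ U))).op
        (b ^ p ^ (n₁ + n₂ + k)) = bU ^ p ^ (n₁ + n₂ + k) := map_pow _ _ _
    rw [h5]
    simp only [a₂]
    rw [map_pow, map_pow, haU, ← pow_mul, ← pow_mul, ← pow_add, ← pow_add, ← add_assoc,
      add_comm n₂ n₁]

/-- On a quasi-separated scheme, every function on `π⁻¹W`, `W` quasi-compact open, has a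
`p^n`-th power coming from `W`. -/
theorem PDense.exists_pow_mem_range_app_of_isCompact [QuasiSeparatedSpace X] (hX : PDense π p)
    (W : X.Opens) (hW : IsCompact (W : Set X)) :
    ∀ b : Γ(XP, π ⁻¹ᵁ W), ∃ (n : ℕ) (a : Γ(X, W)), π.app W a = b ^ p ^ n := by
  refine compact_open_induction_on (P := fun W : X.Opens =>
    ∀ b : Γ(XP, π ⁻¹ᵁ W), ∃ (n : ℕ) (a : Γ(X, W)), π.app W a = b ^ p ^ n) W hW ?_ ?_
  · intro b
    have : Subsingleton Γ(XP, π ⁻¹ᵁ (⊥ : X.Opens)) := by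
      change Subsingleton Γ(XP, ⊥)
      infer_instance
    exact ⟨0, 0, Subsingleton.elim _ _⟩
  · intro S hS U PS
    exact hX.exists_pow_mem_range_app_sup S U.1 hS U.2.isCompact PS
      (hX.affine U.1 U.2)



/-- two functions on a quasi-compact open with the same pullback to the perfection have equal `p^k`-th powers -/
theorem exists_pow_eq_of_app_eq (hX : PDense π p) {W : X.Opens} (hW : IsCompact (W : Set X))
    (a b : Γ(X, W)) (h : π.app W a = π.app W b) : ∃ k : ℕ, a ^ p ^ k = b ^ p ^ k := by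
  have hd : π.app W (a - b) = 0 := by rw [map_sub, h, sub_self]
  obtain ⟨k, hk⟩ := pow_eq_zero_of_isNilpotent_prime (p := p) (hX.isNilpotent_of_app_eq_zero hW _ hd)
  refine ⟨k, ?_⟩
  rw [sub_pow_p_pow (natCast_eq_zero_app X p W), sub_eq_zero] at hk
  exact hk

theorem exists_pow_eq_of_appLE_eq (hX : PDense π p) {W : X.Opens} (hW : IsCompact (W : Set X))
    {W' : XP.Opens} (e : W' = π ⁻¹ᵁ W) (a b : Γ(X, W))
    (h : π.appLE W W' (le_of_eq e) a = π.appLE W W' (le_of_eq e) b) :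
    ∃ k : ℕ, a ^ p ^ k = b ^ p ^ k := by
  subst e
  rw [Scheme.Hom.appLE_eq_app] at h
  exact exists_pow_eq_of_app_eq hX hW a b h

/-- uniform version over a finite family -/
theorem exists_pow_eq_of_appLE_eq_finite (hX : PDense π p) {κ : Type*} [Finite κ]
    (W : κ → X.Opens) (hW : ∀ q, IsCompact (W q : Set X)) (W' : κ → XP.Opens)
    (e : ∀ q, W' q = π ⁻¹ᵁ W q) (a b : ∀ q, Γ(X, W q))
    (h : ∀ q, π.appLE (W q) (W' q) (le_of_eq (e q)) (a q) = π.appLE (W q) (W' q) (le_of_eq (e q)) (b q)) :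
    ∃ k : ℕ, ∀ q, a q ^ p ^ k = b q ^ p ^ k := by
  choose f hf using fun q => exists_pow_eq_of_appLE_eq hX (hW q) (e q) (a q) (b q) (h q)
  obtain ⟨M, hM⟩ := Finite.exists_le f
  exact ⟨M, fun q => pow_p_pow_mono (hf q) (hM q)⟩

theorem exists_appLE_eq_pow [QuasiSeparatedSpace X] (hX : PDense π p) {W : X.Opens}
    (hW : IsCompact (W : Set X)) {W' : XP.Opens} (e : W' = π ⁻¹ᵁ W) (c : Γ(XP, W')) :
    ∃ (n : ℕ) (a : Γ(X, W)), π.appLE W W' (le_of_eq e) a = c ^ p ^ n := by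
  subst e
  obtain ⟨n, a, ha⟩ := hX.exists_pow_mem_range_app_of_isCompact W hW c
  exact ⟨n, a, by rw [Scheme.Hom.appLE_eq_app]; exact ha⟩

/-- uniform `p`-power descent of functions over a finite family of quasi-compact opens -/
theorem exists_appLE_eq_pow_finite [QuasiSeparatedSpace X] (hX : PDense π p) {κ : Type*} [Finite κ]
    (W : κ → X.Opens) (hW : ∀ q, IsCompact (W q : Set X)) (W' : κ → XP.Opens)
    (e : ∀ q, W' q = π ⁻¹ᵁ W q) (c : ∀ q, Γ(XP, W' q)) :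
    ∃ (m : ℕ) (a : ∀ q, Γ(X, W q)), ∀ q, π.appLE (W q) (W' q) (le_of_eq (e q)) (a q) = c q ^ p ^ m := by
  choose f a hf using fun q => exists_appLE_eq_pow hX (hW q) (e q) (c q)
  obtain ⟨M, hM⟩ := Finite.exists_le f
  refine ⟨M, fun q => a q ^ p ^ (M - f q), fun q => ?_⟩
  rw [map_pow, hf q, ← pow_mul, ← pow_add, Nat.add_sub_cancel' (hM q)]


/-- **descent of coordinates**: a family of functions on the `π⁻¹ V i` compatible with the pullbacks of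
`t i j` has a `p^m`-th power coming from a family on the `V i` compatible with the `t i j ^ p^m`. -/
theorem exists_descent_co [QuasiSeparatedSpace X] (hX : PDense π p) {ι : Type*} [Finite ι]
    (V : ι → X.Opens) (hV : ∀ i, IsCompact (V i : Set X))
    (t : ∀ i j, Γ(X, V i ⊓ V j)) (c : ∀ i, Γ(XP, π ⁻¹ᵁ V i))
    (hc : ∀ i j, rf (inf_le_left : π ⁻¹ᵁ V i ⊓ π ⁻¹ᵁ V j ≤ π ⁻¹ᵁ V i) (c i) =
        rf (inf_le_right : π ⁻¹ᵁ V i ⊓ π ⁻¹ᵁ V j ≤ π ⁻¹ᵁ V j) (c j) *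
          π.appLE (V i ⊓ V j) (π ⁻¹ᵁ V i ⊓ π ⁻¹ᵁ V j) (le_of_eq rfl) (t i j)) :
    ∃ (m : ℕ) (a : ∀ i, Γ(X, V i)), (∀ i, π.app (V i) (a i) = c i ^ p ^ m) ∧
      ∀ i j, rf (inf_le_left : V i ⊓ V j ≤ V i) (a i) =
        rf (inf_le_right : V i ⊓ V j ≤ V j) (a j) * t i j ^ p ^ m := by
  obtain ⟨m₁, a₁, ha₁⟩ := exists_appLE_eq_pow_finite hX V hV (fun i => π ⁻¹ᵁ V i) (fun _ => rfl) c
  have hI : ∀ q : ι × ι, IsCompact ((V q.1 ⊓ V q.2 : X.Opens) : Set X) := fun q =>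
    QuasiSeparatedSpace.inter_isCompact (V q.1).1 (V q.2).1 (V q.1).2 (hV q.1) (V q.2).2 (hV q.2)
  obtain ⟨k, hk⟩ := exists_pow_eq_of_appLE_eq_finite hX (fun q : ι × ι => V q.1 ⊓ V q.2) hI
    (fun q => π ⁻¹ᵁ V q.1 ⊓ π ⁻¹ᵁ V q.2) (fun _ => rfl)
    (fun q => rf inf_le_left (a₁ q.1)) (fun q => rf inf_le_right (a₁ q.2) * t q.1 q.2 ^ p ^ m₁) (by
      rintro ⟨i, j⟩
      dsimp only
      rw [map_mul, map_pow,
        appLE_rf π (inf_le_left : V i ⊓ V j ≤ V i)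
          (inf_le_left : π ⁻¹ᵁ V i ⊓ π ⁻¹ᵁ V j ≤ π ⁻¹ᵁ V i) (le_of_eq rfl) (le_of_eq rfl),
        appLE_rf π (inf_le_right : V i ⊓ V j ≤ V j)
          (inf_le_right : π ⁻¹ᵁ V i ⊓ π ⁻¹ᵁ V j ≤ π ⁻¹ᵁ V j) (le_of_eq rfl) (le_of_eq rfl),
        ha₁, ha₁, rf_pow', rf_pow', ← mul_pow, hc i j])
  refine ⟨m₁ + k, fun i => a₁ i ^ p ^ k, fun i => ?_, fun i j => ?_⟩
  · have h := ha₁ i
    rw [Scheme.Hom.appLE_eq_app] at h
    rw [map_pow, h, ← pow_mul, ← pow_add]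
  · have := hk (i, j)
    dsimp only at this
    rw [rf_pow', rf_pow', pow_add, pow_mul, ← mul_pow]
    exact this

/-- **descent of cocycles**: a cocycle on the cover `π⁻¹ V i` of the perfection has a `p^m`-th power coming
from a cocycle on the cover `V i`. -/
theorem exists_descent_cocycle [QuasiSeparatedSpace X] (hX : PDense π p) {ι : Type*} [Finite ι]
    (V : ι → X.Opens) (hV : ∀ i, IsCompact (V i : Set X))
    (u : ∀ i j, Γ(XP, π ⁻¹ᵁ V i ⊓ π ⁻¹ᵁ V j))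
    (hu1 : ∀ i, u i i = 1)
    (huc : ∀ i j k,
      rf (inf_le_inf_right (π ⁻¹ᵁ V k) inf_le_left :
          π ⁻¹ᵁ V i ⊓ π ⁻¹ᵁ V j ⊓ π ⁻¹ᵁ V k ≤ π ⁻¹ᵁ V i ⊓ π ⁻¹ᵁ V k) (u i k) =
        rf (inf_le_left : π ⁻¹ᵁ V i ⊓ π ⁻¹ᵁ V j ⊓ π ⁻¹ᵁ V k ≤ π ⁻¹ᵁ V i ⊓ π ⁻¹ᵁ V j) (u i j) *
          rf (inf_le_inf_right (π ⁻¹ᵁ V k) inf_le_right :
            π ⁻¹ᵁ V i ⊓ π ⁻¹ᵁ V j ⊓ π ⁻¹ᵁ V k ≤ π ⁻¹ᵁ V j ⊓ π ⁻¹ᵁ V k) (u j k)) :
    ∃ (m : ℕ) (t : ∀ i j, Γ(X, V i ⊓ V j)),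
      (∀ i j, π.appLE (V i ⊓ V j) (π ⁻¹ᵁ V i ⊓ π ⁻¹ᵁ V j) (le_of_eq rfl) (t i j) = u i j ^ p ^ m) ∧
      (∀ i, t i i = 1) ∧
      ∀ i j k, rf (inf_le_inf_right (V k) inf_le_left : V i ⊓ V j ⊓ V k ≤ V i ⊓ V k) (t i k) =
        rf (inf_le_left : V i ⊓ V j ⊓ V k ≤ V i ⊓ V j) (t i j) *
          rf (inf_le_inf_right (V k) inf_le_right : V i ⊓ V j ⊓ V k ≤ V j ⊓ V k) (t j k) := by
  have hI : ∀ q : ι × ι, IsCompact ((V q.1 ⊓ V q.2 : X.Opens) : Set X) := fun q =>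
    QuasiSeparatedSpace.inter_isCompact (V q.1).1 (V q.2).1 (V q.1).2 (hV q.1) (V q.2).2 (hV q.2)
  have hI3 : ∀ q : ι × ι × ι, IsCompact ((V q.1 ⊓ V q.2.1 ⊓ V q.2.2 : X.Opens) : Set X) := fun q =>
    QuasiSeparatedSpace.inter_isCompact (V q.1 ⊓ V q.2.1).1 (V q.2.2).1 (V q.1 ⊓ V q.2.1).2
      (hI (q.1, q.2.1)) (V q.2.2).2 (hV q.2.2)
  obtain ⟨m₁, t₁, ht₁⟩ := exists_appLE_eq_pow_finite hX (fun q : ι × ι => V q.1 ⊓ V q.2) hI
    (fun q => π ⁻¹ᵁ V q.1 ⊓ π ⁻¹ᵁ V q.2) (fun _ => rfl) (fun q => u q.1 q.2)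
  -- diagonal
  obtain ⟨k₁, hk₁⟩ := exists_pow_eq_of_appLE_eq_finite hX (fun i : ι => V i ⊓ V i) (fun i => hI (i, i))
    (fun i => π ⁻¹ᵁ V i ⊓ π ⁻¹ᵁ V i) (fun _ => rfl)
    (fun i => t₁ (i, i)) (fun i => 1) (by
      intro i
      have := ht₁ (i, i)
      dsimp only at this ⊢
      rw [this, hu1, one_pow, map_one])
  -- triple overlaps
  obtain ⟨k₂, hk₂⟩ := exists_pow_eq_of_appLE_eq_finite hX
    (fun q : ι × ι × ι => V q.1 ⊓ V q.2.1 ⊓ V q.2.2) hI3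
    (fun q => π ⁻¹ᵁ V q.1 ⊓ π ⁻¹ᵁ V q.2.1 ⊓ π ⁻¹ᵁ V q.2.2) (fun _ => rfl)
    (fun q => rf (inf_le_inf_right (V q.2.2) inf_le_left) (t₁ (q.1, q.2.2)))
    (fun q => rf inf_le_left (t₁ (q.1, q.2.1)) *
      rf (inf_le_inf_right (V q.2.2) inf_le_right) (t₁ (q.2.1, q.2.2))) (by
      rintro ⟨i, j, k⟩
      have e1 := ht₁ (i, k)
      have e2 := ht₁ (i, j)
      have e3 := ht₁ (j, k)
      dsimp only at e1 e2 e3 ⊢
      rw [map_mul,
        appLE_rf π (inf_le_inf_right (V k) inf_le_left : V i ⊓ V j ⊓ V k ≤ V i ⊓ V k)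
          (inf_le_inf_right (π ⁻¹ᵁ V k) inf_le_left :
            π ⁻¹ᵁ V i ⊓ π ⁻¹ᵁ V j ⊓ π ⁻¹ᵁ V k ≤ π ⁻¹ᵁ V i ⊓ π ⁻¹ᵁ V k) (le_of_eq rfl) (le_of_eq rfl),
        appLE_rf π (inf_le_left : V i ⊓ V j ⊓ V k ≤ V i ⊓ V j)
          (inf_le_left : π ⁻¹ᵁ V i ⊓ π ⁻¹ᵁ V j ⊓ π ⁻¹ᵁ V k ≤ π ⁻¹ᵁ V i ⊓ π ⁻¹ᵁ V j)
          (le_of_eq rfl) (le_of_eq rfl),
        appLE_rf π (inf_le_inf_right (V k) inf_le_right : V i ⊓ V j ⊓ V k ≤ V j ⊓ V k)
          (inf_le_inf_right (π ⁻¹ᵁ V k) inf_le_right :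
            π ⁻¹ᵁ V i ⊓ π ⁻¹ᵁ V j ⊓ π ⁻¹ᵁ V k ≤ π ⁻¹ᵁ V j ⊓ π ⁻¹ᵁ V k) (le_of_eq rfl) (le_of_eq rfl),
        e1, e2, e3, rf_pow', rf_pow', rf_pow', ← mul_pow, huc i j k])
  refine ⟨m₁ + (k₁ + k₂), fun i j => t₁ (i, j) ^ p ^ (k₁ + k₂), fun i j => ?_, fun i => ?_,
    fun i j k => ?_⟩
  · have e1 := ht₁ (i, j)
    dsimp only at e1 ⊢
    rw [map_pow, e1, ← pow_mul, ← pow_add]
  · have := pow_p_pow_mono (p := p) (hk₁ i) (Nat.le_add_right k₁ k₂)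
    dsimp only at this ⊢
    rw [this, one_pow]
  · have := pow_p_pow_mono (p := p) (hk₂ (i, j, k)) (Nat.le_add_left k₂ k₁)
    dsimp only at this ⊢
    rw [rf_pow', rf_pow', rf_pow', ← mul_pow]
    exact this


/-- **descent of sections**: a global section upstairs has a `p^m`-th power coming from downstairs. -/
theorem exists_descent_sec [QuasiSeparatedSpace X] (hX : PDense π p) {ι : Type*} [Finite ι]
    {V : ι → X.Opens} (hV : ⨆ i, V i = ⊤) (hVc : ∀ i, IsCompact (V i : Set X))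
    {P : X.Modules} (A : Atlas P V) {P' : XP.Modules} (A' : Atlas P' (fun i => π ⁻¹ᵁ V i))
    (hT : ∀ i j, A'.trans i j =
      π.appLE (V i ⊓ V j) (π ⁻¹ᵁ V i ⊓ π ⁻¹ᵁ V j) (le_of_eq rfl) (A.trans i j))
    (σ' : Γ(P', ⊤)) :
    ∃ m : ℕ, ∀ {Q : X.Modules} (B : Atlas Q V), (∀ i j, B.trans i j = A.trans i j ^ p ^ m) →
      ∃ τ : Γ(Q, ⊤), (∀ i, π.app (V i) (B.co τ i) = A'.co σ' i ^ p ^ m) ∧
        π ⁻¹ᵁ CohB1.genLocus Q (ofSection τ) = CohB1.genLocus P' (ofSection σ') := by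
  obtain ⟨m, a, ha, hcompat⟩ := exists_descent_co hX V hVc A.trans (A'.co σ') (by
    intro i j; rw [← hT i j]; exact A'.co_compat σ' i j)
  refine ⟨m, fun {Q} B hB => ?_⟩
  obtain ⟨τ, hτ⟩ := B.exists_sec hV a (by intro i j; rw [hB]; exact hcompat i j)
  refine ⟨τ, fun i => by rw [hτ i, ha i], ?_⟩
  apply opens_eq_of_cover (iSup_preimage_eq_top π hV)
  intro i
  rw [A'.genLocus_inf σ' i]
  have h1 : π ⁻¹ᵁ CohB1.genLocus Q (ofSection τ) ⊓ π ⁻¹ᵁ V i =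
      π ⁻¹ᵁ (CohB1.genLocus Q (ofSection τ) ⊓ V i) := rfl
  rw [h1, B.genLocus_inf τ i, hτ i, Scheme.preimage_basicOpen, ha i, XP.basicOpen_pow _ (p_pow_pos m)]


/-- an invertible module on the perfection has an atlas over preimages of affine opens of `X` -/
theorem exists_atlas_preimage (hX : PDense π p) {M : XP.Modules} (hM : PicF.IsInvertible M) :
    ∃ V : X → X.Opens, (∀ x, x ∈ V x) ∧ (∀ x, IsAffineOpen (V x)) ∧
      Nonempty (Atlas M (fun x => π ⁻¹ᵁ V x)) := by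
  have hh := hX.homeo
  have key : ∀ x : X, ∃ W : X.Opens, IsAffineOpen W ∧ x ∈ W ∧
      ∃ e : Γ(M, π ⁻¹ᵁ W), IsGen M (π ⁻¹ᵁ W) e := by
    intro x
    obtain ⟨x', rfl⟩ := hh.surjective x
    obtain ⟨U', hx'U', e, he⟩ := (isInvertible_iff_exists_isGen M).1 hM x'
    let U : X.Opens := ⟨(π : XP → X) '' (U' : Set XP), hh.isOpenMap _ U'.2⟩
    have hxU : π x' ∈ U := ⟨x', hx'U', rfl⟩
    obtain ⟨W, hW, hxW, hWU⟩ := Opens.isBasis_iff_nbhd.1 X.isBasis_affineOpens hxU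
    have hle : π ⁻¹ᵁ W ≤ U' := by
      intro y hy
      obtain ⟨z, hz, hzy⟩ := hWU hy
      rwa [← hh.injective hzy]
    exact ⟨W, hW, hxW, rs M hle e, he.mono hle⟩
  choose W hWaff hxW e he using key
  exact ⟨W, hxW, hWaff, ⟨⟨e, he⟩⟩⟩

/-- if the pullback of an invertible `L` is trivial then some `p^n`-th power of `L` is trivial -/
theorem exists_isTrivialCl_of_pullCl [CompactSpace X] [QuasiSeparatedSpace X] (hX : PDense π p)
    (L : X.Modules) (hL : PicF.IsInvertible L)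
    (h : PicF.IsTrivialCl (PicF.pullCl π (PicF.cl L))) :
      ∃ n : ℕ, PicF.IsTrivialCl (PicF.cl (CohB1.tensorPow L (p ^ n))) := by
  obtain ⟨θ⟩ : Nonempty ((Scheme.Modules.pullback π).obj L ≅ Coh.structureModule XP) :=
    (PicGrp.cl_eq_cl_iff _ _).1 h
  obtain ⟨V₀, hxV₀, hV₀aff, ⟨A₀⟩⟩ := exists_atlas hL
  obtain ⟨S, hS⟩ := exists_finite_subcover hxV₀
  let V : S → X.Opens := fun s => V₀ s.1
  let A : Atlas L V := A₀.refine (fun s : S => s.1) V (fun _ => le_rfl)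
  obtain ⟨m, hm⟩ := exists_descent_sec hX hS (fun s => (hV₀aff s.1).isCompact) A (pullAtlas π A)
    (pullAtlas_trans π A) (sec θ.inv)
  obtain ⟨τ, -, hτ⟩ := hm (A.pow (p ^ m)) (A.pow_trans (p ^ m))
  rw [ofSection_sec, genLocus_eq_top_of_isIso θ.inv] at hτ
  have hG : CohB1.genLocus _ (ofSection τ) = ⊤ := by
    refine top_le_iff.1 (fun x _ => ?_)
    obtain ⟨x', rfl⟩ := hX.homeo.surjective x
    have : x' ∈ π ⁻¹ᵁ CohB1.genLocus _ (ofSection τ) := by rw [hτ]; trivial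
    exact this
  haveI := isIso_of_genLocus_eq_top _ hG
  exact ⟨m, (PicGrp.cl_eq_cl_iff _ _).2 ⟨(asIso (ofSection τ)).symm⟩⟩

/-- some `p^n`-th power of an invertible module upstairs is a pullback -/
theorem exists_tensorPow_eq_pullCl [CompactSpace X] [QuasiSeparatedSpace X] (hX : PDense π p)
    (M : XP.Modules) (hM : PicF.IsInvertible M) :
    ∃ (n : ℕ) (L : X.Modules), PicF.IsInvertible L ∧
      PicF.cl (CohB1.tensorPow M (p ^ n)) = PicF.pullCl π (PicF.cl L) := by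
  obtain ⟨V₀, hxV₀, hV₀aff, ⟨A₀⟩⟩ := exists_atlas_preimage hX hM
  obtain ⟨S, hS⟩ := exists_finite_subcover hxV₀
  let V : S → X.Opens := fun s => V₀ s.1
  let A' : Atlas M (fun s => π ⁻¹ᵁ V s) :=
    A₀.refine (fun s : S => s.1) (fun s => π ⁻¹ᵁ V s) (fun _ => le_rfl)
  obtain ⟨m, t, ht, ht1, htc⟩ := exists_descent_cocycle hX V (fun s => (hV₀aff s.1).isCompact)
    A'.trans A'.trans_self (fun i j k => A'.trans_cocycle i k j _ _ _)
  obtain ⟨L, hL, A, hA⟩ := Groth.Agent.Lib.NormGlueModH3.exists_glued_atlas V hS t ht1 htc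
  refine ⟨m, L, hL, ?_⟩
  obtain ⟨e⟩ := Groth.Agent.Lib.H78AtlasIso.nonempty_iso_of_atlas (A'.pow (p ^ m)) (pullAtlas π A)
    (iSup_preimage_eq_top π hS) (fun i j => by rw [Atlas.pow_trans, pullAtlas_trans, hA, ht])
  exact (PicGrp.cl_eq_cl_iff _ _).2 ⟨e⟩



end Groth.Agent.Lib.H15PDense
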