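import Groth.Agent.Lib.H80PerfectionAffine
import Groth.Agent.Lib.H78Atlas

set_option autoImplicit false
set_option linter.style.haveILetI false
set_option linter.unusedSectionVars false
universe u
open CategoryTheory CategoryTheory.Limits AlgebraicGeometry FrobSch Opposite TopologicalSpace
open Groth.Agent.Lib.H80Perfection Groth.Agent.Lib.H78Atlas

/-!
# helper15: `p`-power descent along a perfection `π : XP ⟶ X` (on top of helper80's `H80Perfection*`)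

* `exists_pow_eq_of_appLE_eq(_finite)`, `exists_appLE_eq_pow(_finite)`: uniform versions of helper80's lemmas.
* `exists_descent_co`: coordinates of a section upstairs have a `p^m`-th power descending to compatible coordinates.
* `exists_descent_cocycle`: a cocycle upstairs has a `p^m`-th power descending to a cocycle.
-/

namespace Groth.Agent.Lib.H15PerfDescent

variable {p : ℕ} [Fact p.Prime] {XP X : Scheme.{u}} {π : XP ⟶ X} [IsCharP XP p] [IsCharP X p]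

/-- In characteristic `p`, `x ↦ x ^ p ^ k` is additive (in any ring where `p = 0`). -/
theorem sub_pow_p_pow {B : Type u} [CommRing B] (h : (p : B) = 0) (k : ℕ) (x y : B) :
    (x - y) ^ p ^ k = x ^ p ^ k - y ^ p ^ k := by
  rw [← powHom_pow_apply h, map_sub, powHom_pow_apply, powHom_pow_apply]

theorem pow_p_pow_mono {B : Type*} [Monoid B] {x y : B} {k : ℕ} (h : x ^ p ^ k = y ^ p ^ k) {k' : ℕ}
    (hk : k ≤ k') : x ^ p ^ k' = y ^ p ^ k' := by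
  obtain ⟨d, rfl⟩ := Nat.exists_eq_add_of_le hk
  rw [pow_add, pow_mul, pow_mul, h]

theorem rf_pow' {Y : Scheme.{u}} {V W : Y.Opens} (h : W ≤ V) (a : Γ(Y, V)) (n : ℕ) :
    rf h (a ^ n) = rf h a ^ n := map_pow _ _ _

theorem rf_mul' {Y : Scheme.{u}} {V W : Y.Opens} (h : W ≤ V) (a b : Γ(Y, V)) :
    rf h (a * b) = rf h a * rf h b := map_mul _ _ _

/-- `appLE` commutes with restriction -/
theorem appLE_rf (f : XP ⟶ X) {W₁ W₂ : X.Opens} {W₁' W₂' : XP.Opens} (h : W₂ ≤ W₁) (h' : W₂' ≤ W₁')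
    (e₁ : W₁' ≤ f ⁻¹ᵁ W₁) (e₂ : W₂' ≤ f ⁻¹ᵁ W₂) (a : Γ(X, W₁)) :
    f.appLE W₂ W₂' e₂ (rf h a) = rf h' (f.appLE W₁ W₁' e₁ a) := by
  have h1 := congrArg (fun φ => (ConcreteCategory.hom φ) a) (f.map_appLE e₂ (homOfLE h).op)
  have h2 := congrArg (fun φ => (ConcreteCategory.hom φ) a) (f.appLE_map e₁ (homOfLE h').op)
  exact h1.trans h2.symm

/-- two functions on a quasi-compact open with the same pullback to the perfection have equal `p^k`-th powers -/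
theorem exists_pow_eq_of_app_eq (hX : IsPerfection π p) {W : X.Opens} (hW : IsCompact (W : Set X))
    (a b : Γ(X, W)) (h : π.app W a = π.app W b) : ∃ k : ℕ, a ^ p ^ k = b ^ p ^ k := by
  have hd : π.app W (a - b) = 0 := by rw [map_sub, h, sub_self]
  obtain ⟨k, hk⟩ := pow_eq_zero_of_isNilpotent_prime (p := p) (isNilpotent_of_app_eq_zero hX hW _ hd)
  refine ⟨k, ?_⟩
  rw [sub_pow_p_pow (natCast_eq_zero_app X p W), sub_eq_zero] at hk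
  exact hk

theorem exists_pow_eq_of_appLE_eq (hX : IsPerfection π p) {W : X.Opens} (hW : IsCompact (W : Set X))
    {W' : XP.Opens} (e : W' = π ⁻¹ᵁ W) (a b : Γ(X, W))
    (h : π.appLE W W' (le_of_eq e) a = π.appLE W W' (le_of_eq e) b) :
    ∃ k : ℕ, a ^ p ^ k = b ^ p ^ k := by
  subst e
  rw [Scheme.Hom.appLE_eq_app] at h
  exact exists_pow_eq_of_app_eq hX hW a b h

/-- uniform version over a finite family -/
theorem exists_pow_eq_of_appLE_eq_finite (hX : IsPerfection π p) {κ : Type*} [Finite κ]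
    (W : κ → X.Opens) (hW : ∀ q, IsCompact (W q : Set X)) (W' : κ → XP.Opens)
    (e : ∀ q, W' q = π ⁻¹ᵁ W q) (a b : ∀ q, Γ(X, W q))
    (h : ∀ q, π.appLE (W q) (W' q) (le_of_eq (e q)) (a q) = π.appLE (W q) (W' q) (le_of_eq (e q)) (b q)) :
    ∃ k : ℕ, ∀ q, a q ^ p ^ k = b q ^ p ^ k := by
  choose f hf using fun q => exists_pow_eq_of_appLE_eq hX (hW q) (e q) (a q) (b q) (h q)
  obtain ⟨M, hM⟩ := Finite.exists_le f
  exact ⟨M, fun q => pow_p_pow_mono (hf q) (hM q)⟩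

theorem exists_appLE_eq_pow [QuasiSeparatedSpace X] (hX : IsPerfection π p) {W : X.Opens}
    (hW : IsCompact (W : Set X)) {W' : XP.Opens} (e : W' = π ⁻¹ᵁ W) (c : Γ(XP, W')) :
    ∃ (n : ℕ) (a : Γ(X, W)), π.appLE W W' (le_of_eq e) a = c ^ p ^ n := by
  subst e
  obtain ⟨n, a, ha⟩ := exists_pow_mem_range_app_of_isCompact hX W hW c
  exact ⟨n, a, by rw [Scheme.Hom.appLE_eq_app]; exact ha⟩

/-- uniform `p`-power descent of functions over a finite family of quasi-compact opens -/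
theorem exists_appLE_eq_pow_finite [QuasiSeparatedSpace X] (hX : IsPerfection π p) {κ : Type*} [Finite κ]
    (W : κ → X.Opens) (hW : ∀ q, IsCompact (W q : Set X)) (W' : κ → XP.Opens)
    (e : ∀ q, W' q = π ⁻¹ᵁ W q) (c : ∀ q, Γ(XP, W' q)) :
    ∃ (m : ℕ) (a : ∀ q, Γ(X, W q)), ∀ q, π.appLE (W q) (W' q) (le_of_eq (e q)) (a q) = c q ^ p ^ m := by
  choose f a hf using fun q => exists_appLE_eq_pow hX (hW q) (e q) (c q)
  obtain ⟨M, hM⟩ := Finite.exists_le f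
  refine ⟨M, fun q => a q ^ p ^ (M - f q), fun q => ?_⟩
  rw [map_pow, hf q, ← pow_mul, ← pow_add, Nat.add_sub_cancel' (hM q)]


/-- **descent of coordinates**: a family of functions on the `π⁻¹ V i` compatible with the pullbacks of
`t i j` has a `p^m`-th power coming from a family on the `V i` compatible with the `t i j ^ p^m`. -/
theorem exists_descent_co [QuasiSeparatedSpace X] (hX : IsPerfection π p) {ι : Type*} [Finite ι]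
    (V : ι → X.Opens) (hV : ∀ i, IsCompact (V i : Set X))
    (t : ∀ i j, Γ(X, V i ⊓ V j)) (c : ∀ i, Γ(XP, π ⁻¹ᵁ V i))
    (hc : ∀ i j, rf (inf_le_left : π ⁻¹ᵁ V i ⊓ π ⁻¹ᵁ V j ≤ π ⁻¹ᵁ V i) (c i) =
        rf (inf_le_right : π ⁻¹ᵁ V i ⊓ π ⁻¹ᵁ V j ≤ π ⁻¹ᵁ V j) (c j) *
          π.appLE (V i ⊓ V j) (π ⁻¹ᵁ V i ⊓ π ⁻¹ᵁ V j) (le_of_eq rfl) (t i j)) :
    ∃ (m : ℕ) (a : ∀ i, Γ(X, V i)), (∀ i, π.app (V i) (a i) = c i ^ p ^ m) ∧
      ∀ i j, rf (inf_le_left : V i ⊓ V j ≤ V i) (a i) =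
        rf (inf_le_right : V i ⊓ V j ≤ V j) (a j) * t i j ^ p ^ m := by
  obtain ⟨m₁, a₁, ha₁⟩ := exists_appLE_eq_pow_finite hX V hV (fun i => π ⁻¹ᵁ V i) (fun _ => rfl) c
  have hI : ∀ q : ι × ι, IsCompact ((V q.1 ⊓ V q.2 : X.Opens) : Set X) := fun q =>
    QuasiSeparatedSpace.inter_isCompact (V q.1).1 (V q.2).1 (V q.1).2 (hV q.1) (V q.2).2 (hV q.2)
  obtain ⟨k, hk⟩ := exists_pow_eq_of_appLE_eq_finite hX (fun q : ι × ι => V q.1 ⊓ V q.2) hI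
    (fun q => π ⁻¹ᵁ V q.1 ⊓ π ⁻¹ᵁ V q.2) (fun _ => rfl)
    (fun q => rf inf_le_left (a₁ q.1)) (fun q => rf inf_le_right (a₁ q.2) * t q.1 q.2 ^ p ^ m₁) (by
      rintro ⟨i, j⟩
      dsimp only
      rw [map_mul, map_pow,
        appLE_rf π (inf_le_left : V i ⊓ V j ≤ V i)
          (inf_le_left : π ⁻¹ᵁ V i ⊓ π ⁻¹ᵁ V j ≤ π ⁻¹ᵁ V i) (le_of_eq rfl) (le_of_eq rfl),
        appLE_rf π (inf_le_right : V i ⊓ V j ≤ V j)
          (inf_le_right : π ⁻¹ᵁ V i ⊓ π ⁻¹ᵁ V j ≤ π ⁻¹ᵁ V j) (le_of_eq rfl) (le_of_eq rfl),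
        ha₁, ha₁, rf_pow', rf_pow', ← mul_pow, hc i j])
  refine ⟨m₁ + k, fun i => a₁ i ^ p ^ k, fun i => ?_, fun i j => ?_⟩
  · have h := ha₁ i
    rw [Scheme.Hom.appLE_eq_app] at h
    rw [map_pow, h, ← pow_mul, ← pow_add]
  · have := hk (i, j)
    dsimp only at this
    rw [rf_pow', rf_pow', pow_add, pow_mul, ← mul_pow]
    exact this

/-- **descent of cocycles**: a cocycle on the cover `π⁻¹ V i` of the perfection has a `p^m`-th power coming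
from a cocycle on the cover `V i`. -/
theorem exists_descent_cocycle [QuasiSeparatedSpace X] (hX : IsPerfection π p) {ι : Type*} [Finite ι]
    (V : ι → X.Opens) (hV : ∀ i, IsCompact (V i : Set X))
    (u : ∀ i j, Γ(XP, π ⁻¹ᵁ V i ⊓ π ⁻¹ᵁ V j))
    (hu1 : ∀ i, u i i = 1)
    (huc : ∀ i j k,
      rf (inf_le_inf_right (π ⁻¹ᵁ V k) inf_le_left :
          π ⁻¹ᵁ V i ⊓ π ⁻¹ᵁ V j ⊓ π ⁻¹ᵁ V k ≤ π ⁻¹ᵁ V i ⊓ π ⁻¹ᵁ V k) (u i k) =
        rf (inf_le_left : π ⁻¹ᵁ V i ⊓ π ⁻¹ᵁ V j ⊓ π ⁻¹ᵁ V k ≤ π ⁻¹ᵁ V i ⊓ π ⁻¹ᵁ V j) (u i j) *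
          rf (inf_le_inf_right (π ⁻¹ᵁ V k) inf_le_right :
            π ⁻¹ᵁ V i ⊓ π ⁻¹ᵁ V j ⊓ π ⁻¹ᵁ V k ≤ π ⁻¹ᵁ V j ⊓ π ⁻¹ᵁ V k) (u j k)) :
    ∃ (m : ℕ) (t : ∀ i j, Γ(X, V i ⊓ V j)),
      (∀ i j, π.appLE (V i ⊓ V j) (π ⁻¹ᵁ V i ⊓ π ⁻¹ᵁ V j) (le_of_eq rfl) (t i j) = u i j ^ p ^ m) ∧
      (∀ i, t i i = 1) ∧
      ∀ i j k, rf (inf_le_inf_right (V k) inf_le_left : V i ⊓ V j ⊓ V k ≤ V i ⊓ V k) (t i k) =
        rf (inf_le_left : V i ⊓ V j ⊓ V k ≤ V i ⊓ V j) (t i j) *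
          rf (inf_le_inf_right (V k) inf_le_right : V i ⊓ V j ⊓ V k ≤ V j ⊓ V k) (t j k) := by
  have hI : ∀ q : ι × ι, IsCompact ((V q.1 ⊓ V q.2 : X.Opens) : Set X) := fun q =>
    QuasiSeparatedSpace.inter_isCompact (V q.1).1 (V q.2).1 (V q.1).2 (hV q.1) (V q.2).2 (hV q.2)
  have hI3 : ∀ q : ι × ι × ι, IsCompact ((V q.1 ⊓ V q.2.1 ⊓ V q.2.2 : X.Opens) : Set X) := fun q =>
    QuasiSeparatedSpace.inter_isCompact (V q.1 ⊓ V q.2.1).1 (V q.2.2).1 (V q.1 ⊓ V q.2.1).2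
      (hI (q.1, q.2.1)) (V q.2.2).2 (hV q.2.2)
  obtain ⟨m₁, t₁, ht₁⟩ := exists_appLE_eq_pow_finite hX (fun q : ι × ι => V q.1 ⊓ V q.2) hI
    (fun q => π ⁻¹ᵁ V q.1 ⊓ π ⁻¹ᵁ V q.2) (fun _ => rfl) (fun q => u q.1 q.2)
  -- diagonal
  obtain ⟨k₁, hk₁⟩ := exists_pow_eq_of_appLE_eq_finite hX (fun i : ι => V i ⊓ V i) (fun i => hI (i, i))
    (fun i => π ⁻¹ᵁ V i ⊓ π ⁻¹ᵁ V i) (fun _ => rfl)
    (fun i => t₁ (i, i)) (fun i => 1) (by
      intro i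
      have := ht₁ (i, i)
      dsimp only at this ⊢
      rw [this, hu1, one_pow, map_one])
  -- triple overlaps
  obtain ⟨k₂, hk₂⟩ := exists_pow_eq_of_appLE_eq_finite hX
    (fun q : ι × ι × ι => V q.1 ⊓ V q.2.1 ⊓ V q.2.2) hI3
    (fun q => π ⁻¹ᵁ V q.1 ⊓ π ⁻¹ᵁ V q.2.1 ⊓ π ⁻¹ᵁ V q.2.2) (fun _ => rfl)
    (fun q => rf (inf_le_inf_right (V q.2.2) inf_le_left) (t₁ (q.1, q.2.2)))
    (fun q => rf inf_le_left (t₁ (q.1, q.2.1)) *
      rf (inf_le_inf_right (V q.2.2) inf_le_right) (t₁ (q.2.1, q.2.2))) (by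
      rintro ⟨i, j, k⟩
      have e1 := ht₁ (i, k)
      have e2 := ht₁ (i, j)
      have e3 := ht₁ (j, k)
      dsimp only at e1 e2 e3 ⊢
      rw [map_mul,
        appLE_rf π (inf_le_inf_right (V k) inf_le_left : V i ⊓ V j ⊓ V k ≤ V i ⊓ V k)
          (inf_le_inf_right (π ⁻¹ᵁ V k) inf_le_left :
            π ⁻¹ᵁ V i ⊓ π ⁻¹ᵁ V j ⊓ π ⁻¹ᵁ V k ≤ π ⁻¹ᵁ V i ⊓ π ⁻¹ᵁ V k) (le_of_eq rfl) (le_of_eq rfl),
        appLE_rf π (inf_le_left : V i ⊓ V j ⊓ V k ≤ V i ⊓ V j)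
          (inf_le_left : π ⁻¹ᵁ V i ⊓ π ⁻¹ᵁ V j ⊓ π ⁻¹ᵁ V k ≤ π ⁻¹ᵁ V i ⊓ π ⁻¹ᵁ V j)
          (le_of_eq rfl) (le_of_eq rfl),
        appLE_rf π (inf_le_inf_right (V k) inf_le_right : V i ⊓ V j ⊓ V k ≤ V j ⊓ V k)
          (inf_le_inf_right (π ⁻¹ᵁ V k) inf_le_right :
            π ⁻¹ᵁ V i ⊓ π ⁻¹ᵁ V j ⊓ π ⁻¹ᵁ V k ≤ π ⁻¹ᵁ V j ⊓ π ⁻¹ᵁ V k) (le_of_eq rfl) (le_of_eq rfl),
        e1, e2, e3, rf_pow', rf_pow', rf_pow', ← mul_pow, huc i j k])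
  refine ⟨m₁ + (k₁ + k₂), fun i j => t₁ (i, j) ^ p ^ (k₁ + k₂), fun i j => ?_, fun i => ?_,
    fun i j k => ?_⟩
  · have e1 := ht₁ (i, j)
    dsimp only at e1 ⊢
    rw [map_pow, e1, ← pow_mul, ← pow_add]
  · have := pow_p_pow_mono (p := p) (hk₁ i) (Nat.le_add_right k₁ k₂)
    dsimp only at this ⊢
    rw [this, one_pow]
  · have := pow_p_pow_mono (p := p) (hk₂ (i, j, k)) (Nat.le_add_left k₂ k₁)
    dsimp only at this ⊢
    rw [rf_pow', rf_pow', rf_pow', ← mul_pow]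
    exact this

end Groth.Agent.Lib.H15PerfDescent
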