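import Groth.Agent.Lib.InvGlue42
import Groth.Agent.Lib.H78KeyLemma2

/-!
# helper3: an invertible module with prescribed transition functions
(namespace `Groth.Agent.Lib.NormGlueModH3`)

`exists_glued_atlas`: a cocycle `ν i j ∈ Γ(Y, V i ⊓ V j)` on an open cover is the family of transition
functions (`Atlas.trans`) of an atlas of an invertible module (helper42's `InvGlue42.glue`, with the indices
swapped to match the convention `E j = trans i j • E i` of helper78's atlases).
-/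

set_option autoImplicit false
universe u
open CategoryTheory AlgebraicGeometry TopologicalSpace Opposite
open Groth.Agent.Lib.H90Invertible Groth.Agent.Lib.H78TensorGen Groth.Agent.Lib.H78Atlas
open Groth.Agent.Lib.InvGlue42

namespace Groth.Agent.Lib.NormGlueModH3

variable {Y : Scheme.{u}}

theorem exists_glued_atlas {ι : Type u} (V : ι → Y.Opens) (hV : ⨆ i, V i = ⊤)
    (ν : ∀ i j, Γ(Y, V i ⊓ V j)) (hν1 : ∀ i, ν i i = 1)
    (hνc : ∀ i j k,
      rf (inf_le_inf_right (V k) inf_le_left : V i ⊓ V j ⊓ V k ≤ V i ⊓ V k) (ν i k) =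
        rf (inf_le_left : V i ⊓ V j ⊓ V k ≤ V i ⊓ V j) (ν i j) *
          rf (inf_le_inf_right (V k) inf_le_right : V i ⊓ V j ⊓ V k ≤ V j ⊓ V k) (ν j k)) :
    ∃ (M : Y.Modules) (_ : PicF.IsInvertible M) (A : Atlas M V), ∀ i j, A.trans i j = ν i j := by
  let η : ∀ i j, Γ(Y, V i ⊓ V j) := fun i j =>
    rf (le_of_eq (inf_comm _ _) : V i ⊓ V j ≤ V j ⊓ V i) (ν j i)
  have hη1 : ∀ i, η i i = 1 := by
    intro i
    change rf _ (ν i i) = 1
    rw [hν1, rf_one]
  have hηc : ∀ i j k,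
      rf (inf_le_inf_right (V k) inf_le_left : V i ⊓ V j ⊓ V k ≤ V i ⊓ V k) (η i k) =
        rf (inf_le_left : V i ⊓ V j ⊓ V k ≤ V i ⊓ V j) (η i j) *
          rf (inf_le_inf_right (V k) inf_le_right : V i ⊓ V j ⊓ V k ≤ V j ⊓ V k) (η j k) := by
    intro i j k
    change rf _ (rf _ (ν k i)) = rf _ (rf _ (ν j i)) * rf _ (rf _ (ν k j))
    rw [rf_rf, rf_rf, rf_rf, mul_comm]
    exact cocycle' hνc k j i _ _ _
  refine ⟨glue V η, isInvertible_glue hηc hV hη1, ⟨gen hηc, isGen_gen hηc hη1⟩, fun i j => ?_⟩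
  symm
  refine Atlas.trans_unique _ i j ?_
  change ν i j • rs (glue V η) _ (gen hηc i) = rs (glue V η) _ (gen hηc j)
  have h := congrArg (rs (glue V η) (le_of_eq (inf_comm _ _) : V i ⊓ V j ≤ V j ⊓ V i))
    (gen_transition hηc j i)
  rw [rs_smul, rs_rs, rs_rs] at h
  change _ = rf _ (rf _ (ν i j)) • _ at h
  rw [rf_rf, rf_self] at h
  exact h.symm

end Groth.Agent.Lib.NormGlueModH3
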