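import Groth.Agent.Lib.H78PullSec
import Groth.Agent.Lib.H78PullSec2

/-!
# Pullback of a tensor inverse of an invertible module (helper48)

For any morphism of schemes `f : X ⟶ Y` and invertible `O_Y`-modules `L`, `L'` with `L ⊗ L' ≅ O_Y`, the pullbacks satisfy
`f^*L ⊗ f^*L' ≅ O_X` (`nonempty_pullback_inverse`).  The proof transports the generating global section of
`L ⊗ L'` through atlases (helper78's `exists_sec_of_trans`), so no compatibility of pullback with tensor products is needed.

Also: `genLocus_eq_top_of_isIso`, `isIso_of_genLocus_eq_top`.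
-/

set_option autoImplicit false
universe u
open CategoryTheory CategoryTheory.Limits AlgebraicGeometry Opposite TopologicalSpace
open Groth.Agent.Lib.H90Invertible Groth.Agent.Lib.StructureModule Groth.Agent.Lib.H78TensorGen
open Groth.Agent.Lib.H78SecCoord Groth.Agent.Lib.H78Atlas Groth.Agent.Lib.H78PullSec

namespace Groth.Agent.Lib.PullInverse

variable {X Y : Scheme.{u}}

/-- The generating locus of an isomorphism `O_X ≅ L` is everything. -/
theorem genLocus_eq_top_of_isIso {L : X.Modules} (s : Coh.structureModule X ⟶ L) [IsIso s] :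
    CohB1.genLocus L s = ⊤ := by
  refine top_le_iff.mp (le_sSup ?_)
  change IsIso ((Scheme.Modules.restrictFunctor (⊤ : X.Opens).ι).map s)
  infer_instance

/-- A section `s : O_X ⟶ L` whose generating locus is everything is an isomorphism. -/
theorem isIso_of_genLocus_eq_top {L : X.Modules} (s : Coh.structureModule X ⟶ L)
    (h : CohB1.genLocus L s = ⊤) : IsIso s := by
  have h1 := isGen_genLocus s
  have h2 : IsGen L ⊤ (sec s) := by
    have h3 : IsGen L ⊤ (rs L (le_of_eq h.symm) (rs L le_top (sec s))) := h1.mono (le_of_eq h.symm)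
    rw [rs_rs] at h3
    rwa [rs_self] at h3
  have := isIso_ofSection_of_isGen h2
  rwa [ofSection_sec] at this

/-- **Pullback of a tensor inverse.** -/
theorem nonempty_pullback_inverse (f : X ⟶ Y) {L L' : Y.Modules} (hL : PicF.IsInvertible L)
    (hL' : PicF.IsInvertible L') (e : CohB1.tensorMod L L' ≅ Coh.structureModule Y) :
    Nonempty (CohB1.tensorMod ((Scheme.Modules.pullback f).obj L) ((Scheme.Modules.pullback f).obj L') ≅
      Coh.structureModule X) := by
  obtain ⟨V, hxV, -, ⟨A⟩, ⟨B⟩⟩ := exists_atlas₂ hL hL'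
  have hV := iSup_eq_top_of_mem hxV
  obtain ⟨σ', -, hσ'⟩ := exists_sec_of_trans f (A.tmul B) ((pullAtlas f A).tmul (pullAtlas f B)) hV (by
    intro i j
    rw [Atlas.tmul_trans, Atlas.tmul_trans, pullAtlas_trans, pullAtlas_trans, map_mul]) (sec e.inv)
  rw [ofSection_sec, genLocus_eq_top_of_isIso e.inv] at hσ'
  haveI := isIso_of_genLocus_eq_top _ hσ'
  exact ⟨(asIso (ofSection σ')).symm⟩

end Groth.Agent.Lib.PullInverse
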