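import Groth.Agent.Lib.H15PerfDescent
import Groth.Agent.Lib.H78AtlasIso
import Groth.Agent.Lib.H78AtlasOps
import Groth.Agent.Lib.H78PullAmple
import Groth.Agent.Lib.PullInverse
import Groth.Agent.Lib.NormGlueModH3
import Groth.Agent.Lib.H78KeyLemma2
import Groth.Prelude.Def_PicGrp

set_option autoImplicit false
set_option linter.style.haveILetI false
set_option linter.unusedSectionVars false
universe u
open CategoryTheory CategoryTheory.Limits AlgebraicGeometry FrobSch Opposite TopologicalSpace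
open Groth.Agent.Lib.H80Perfection Groth.Agent.Lib.H78Atlas Groth.Agent.Lib.H15PerfDescent
open Groth.Agent.Lib.H90Invertible Groth.Agent.Lib.StructureModule Groth.Agent.Lib.H78TensorGen
open Groth.Agent.Lib.H78SecCoord Groth.Agent.Lib.H78PullSec Groth.Agent.Lib.PullInverse

/-!
# helper15: Picard group and ampleness along a perfection `π : XP ⟶ X` (`X` qcqs of characteristic `p`)

* `exists_descent_sec`: a global section upstairs (in atlas coordinates) has a `p^m`-th power from downstairs.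
* `nonempty_iso_of_tensorPow_p_pow_iso`: Pic of a perfect scheme has no `p`-torsion.
* `exists_atlas_preimage`, `exists_finite_subcover`, `isAffineOpen_of_preimage`.
* `isTrivialCl_pullCl_iff` (S14925), `exists_tensorPow_eq_pullCl` (S14926), `isAmple_iff_isAmple_pullback` (S14927).
-/

namespace Groth.Agent.Lib.H15PerfPic

variable {p : ℕ} [Fact p.Prime] {XP X : Scheme.{u}} {π : XP ⟶ X} [IsCharP XP p] [IsCharP X p]

theorem exists_finite_subcover [CompactSpace X] {V : X → X.Opens} (hV : ∀ x, x ∈ V x) :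
    ∃ S : Finset X, ⨆ s : S, V s.1 = ⊤ := by
  obtain ⟨S, hS⟩ := isCompact_univ.elim_finite_subcover (fun x => (V x : Set X)) (fun x => (V x).2)
    (fun x _ => Set.mem_iUnion.2 ⟨x, hV x⟩)
  refine ⟨S, top_le_iff.1 (fun x _ => ?_)⟩
  have hx := hS (Set.mem_univ x)
  simp only [Set.mem_iUnion] at hx
  obtain ⟨s, hs, hxs⟩ := hx
  exact Opens.mem_iSup.2 ⟨⟨s, hs⟩, hxs⟩

theorem iSup_preimage_eq_top (f : XP ⟶ X) {ι : Type*} {V : ι → X.Opens} (hV : ⨆ i, V i = ⊤) :
    ⨆ i, f ⁻¹ᵁ V i = ⊤ := by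
  refine top_le_iff.1 (fun x _ => ?_)
  have hx : f x ∈ ⨆ i, V i := by rw [hV]; trivial
  obtain ⟨i, hi⟩ := Opens.mem_iSup.1 hx
  exact Opens.mem_iSup.2 ⟨i, hi⟩

omit [IsCharP XP p] [IsCharP X p] in
theorem p_pow_pos (m : ℕ) : 0 < p ^ m := Nat.pow_pos (Fact.out : p.Prime).pos

/-- **descent of sections**: a global section upstairs has a `p^m`-th power coming from downstairs. -/
theorem exists_descent_sec [QuasiSeparatedSpace X] (hX : IsPerfection π p) {ι : Type*} [Finite ι]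
    {V : ι → X.Opens} (hV : ⨆ i, V i = ⊤) (hVc : ∀ i, IsCompact (V i : Set X))
    {P : X.Modules} (A : Atlas P V) {P' : XP.Modules} (A' : Atlas P' (fun i => π ⁻¹ᵁ V i))
    (hT : ∀ i j, A'.trans i j =
      π.appLE (V i ⊓ V j) (π ⁻¹ᵁ V i ⊓ π ⁻¹ᵁ V j) (le_of_eq rfl) (A.trans i j))
    (σ' : Γ(P', ⊤)) :
    ∃ m : ℕ, ∀ {Q : X.Modules} (B : Atlas Q V), (∀ i j, B.trans i j = A.trans i j ^ p ^ m) →
      ∃ τ : Γ(Q, ⊤), (∀ i, π.app (V i) (B.co τ i) = A'.co σ' i ^ p ^ m) ∧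
        π ⁻¹ᵁ CohB1.genLocus Q (ofSection τ) = CohB1.genLocus P' (ofSection σ') := by
  obtain ⟨m, a, ha, hcompat⟩ := exists_descent_co hX V hVc A.trans (A'.co σ') (by
    intro i j; rw [← hT i j]; exact A'.co_compat σ' i j)
  refine ⟨m, fun {Q} B hB => ?_⟩
  obtain ⟨τ, hτ⟩ := B.exists_sec hV a (by intro i j; rw [hB]; exact hcompat i j)
  refine ⟨τ, fun i => by rw [hτ i, ha i], ?_⟩
  apply opens_eq_of_cover (iSup_preimage_eq_top π hV)
  intro i
  rw [A'.genLocus_inf σ' i]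
  have h1 : π ⁻¹ᵁ CohB1.genLocus Q (ofSection τ) ⊓ π ⁻¹ᵁ V i =
      π ⁻¹ᵁ (CohB1.genLocus Q (ofSection τ) ⊓ V i) := rfl
  rw [h1, B.genLocus_inf τ i, hτ i, Scheme.preimage_basicOpen, ha i, XP.basicOpen_pow _ (p_pow_pos m)]

/-- On a perfect scheme, an invertible module with a trivial `p^n`-th tensor power is trivial. -/
theorem nonempty_iso_of_tensorPow_p_pow_iso {Y : Scheme.{u}} [IsCharP Y p] (hY : IsPerfect Y p)
    {M : Y.Modules} (hM : PicF.IsInvertible M) (n : ℕ)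
    (φ : CohB1.tensorPow M (p ^ n) ≅ Coh.structureModule Y) :
    Nonempty (M ≅ Coh.structureModule Y) := by
  obtain ⟨W, hxW, -, ⟨A⟩⟩ := exists_atlas hM
  have hW := iSup_eq_top_of_mem hxW
  let τ := sec φ.inv
  have hτ : CohB1.genLocus _ (ofSection τ) = ⊤ := by
    rw [ofSection_sec]; exact genLocus_eq_top_of_isIso φ.inv
  let B := A.pow (p ^ n)
  have hbij : ∀ U : Y.Opens, Function.Bijective (fun x : Γ(Y, U) => x ^ p ^ n) := fun U =>
    bijective_pow_pow (bijective_pow_of_isPerfect p Y hY U) n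
  choose h hh using fun i => (hbij (W i)).2 (B.co τ i)
  dsimp only at hh
  obtain ⟨σ, hσ⟩ := A.exists_sec hW h (by
    intro i j
    apply (hbij _).1
    dsimp only
    rw [mul_pow, ← rf_pow', ← rf_pow', hh, hh, ← A.pow_trans]
    exact B.co_compat τ i j)
  have hgen : CohB1.genLocus M (ofSection σ) = ⊤ := by
    rw [← hτ]
    apply opens_eq_of_cover hW
    intro i
    rw [A.genLocus_inf, B.genLocus_inf, hσ i, ← hh i, Y.basicOpen_pow _ (p_pow_pos n)]
  haveI := isIso_of_genLocus_eq_top (ofSection σ) hgen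
  exact ⟨(asIso (ofSection σ)).symm⟩


/-- an invertible module on the perfection has an atlas over preimages of affine opens of `X` -/
theorem exists_atlas_preimage (hX : IsPerfection π p) {M : XP.Modules} (hM : PicF.IsInvertible M) :
    ∃ V : X → X.Opens, (∀ x, x ∈ V x) ∧ (∀ x, IsAffineOpen (V x)) ∧
      Nonempty (Atlas M (fun x => π ⁻¹ᵁ V x)) := by
  have hh := isHomeomorph_of_isPerfection hX
  have key : ∀ x : X, ∃ W : X.Opens, IsAffineOpen W ∧ x ∈ W ∧
      ∃ e : Γ(M, π ⁻¹ᵁ W), IsGen M (π ⁻¹ᵁ W) e := by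
    intro x
    obtain ⟨x', rfl⟩ := hh.surjective x
    obtain ⟨U', hx'U', e, he⟩ := (isInvertible_iff_exists_isGen M).1 hM x'
    let U : X.Opens := ⟨(π : XP → X) '' (U' : Set XP), hh.isOpenMap _ U'.2⟩
    have hxU : π x' ∈ U := ⟨x', hx'U', rfl⟩
    obtain ⟨W, hW, hxW, hWU⟩ := Opens.isBasis_iff_nbhd.1 X.isBasis_affineOpens hxU
    have hle : π ⁻¹ᵁ W ≤ U' := by
      intro y hy
      obtain ⟨z, hz, hzy⟩ := hWU hy
      rwa [← hh.injective hzy]
    exact ⟨W, hW, hxW, rs M hle e, he.mono hle⟩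
  choose W hWaff hxW e he using key
  exact ⟨W, hxW, hWaff, ⟨⟨e, he⟩⟩⟩

/-- **S14925** -/
theorem isTrivialCl_pullCl_iff [CompactSpace X] [QuasiSeparatedSpace X] (hX : IsPerfection π p)
    (L : X.Modules) (hL : PicF.IsInvertible L) :
    PicF.IsTrivialCl (PicF.pullCl π (PicF.cl L)) ↔
      ∃ n : ℕ, PicF.IsTrivialCl (PicF.cl (CohB1.tensorPow L (p ^ n))) := by
  constructor
  · intro h
    obtain ⟨θ⟩ : Nonempty ((Scheme.Modules.pullback π).obj L ≅ Coh.structureModule XP) :=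
      (PicGrp.cl_eq_cl_iff _ _).1 h
    obtain ⟨V₀, hxV₀, hV₀aff, ⟨A₀⟩⟩ := exists_atlas hL
    obtain ⟨S, hS⟩ := exists_finite_subcover hxV₀
    let V : S → X.Opens := fun s => V₀ s.1
    let A : Atlas L V := A₀.refine (fun s : S => s.1) V (fun _ => le_rfl)
    obtain ⟨m, hm⟩ := exists_descent_sec hX hS (fun s => (hV₀aff s.1).isCompact) A (pullAtlas π A)
      (pullAtlas_trans π A) (sec θ.inv)
    obtain ⟨τ, -, hτ⟩ := hm (A.pow (p ^ m)) (A.pow_trans (p ^ m))
    rw [ofSection_sec, genLocus_eq_top_of_isIso θ.inv] at hτ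
    have hG : CohB1.genLocus _ (ofSection τ) = ⊤ := by
      refine top_le_iff.1 (fun x _ => ?_)
      obtain ⟨x', rfl⟩ := (surjective_of_isPerfection hX).surj x
      have : x' ∈ π ⁻¹ᵁ CohB1.genLocus _ (ofSection τ) := by rw [hτ]; trivial
      exact this
    haveI := isIso_of_genLocus_eq_top _ hG
    exact ⟨m, (PicGrp.cl_eq_cl_iff _ _).2 ⟨(asIso (ofSection τ)).symm⟩⟩
  · rintro ⟨n, hn⟩
    obtain ⟨φ⟩ := (PicGrp.cl_eq_cl_iff _ _).1 hn
    obtain ⟨e⟩ := Groth.Agent.Lib.H78AtlasIso.nonempty_pullback_tensorPow_iso π hL (p ^ n)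
    have ψ : CohB1.tensorPow ((Scheme.Modules.pullback π).obj L) (p ^ n) ≅ Coh.structureModule XP :=
      e.symm ≪≫ (Scheme.Modules.pullback π).mapIso φ ≪≫ unitIso π
    obtain ⟨t⟩ := nonempty_iso_of_tensorPow_p_pow_iso hX.1 (isInvertible_pullback π hL) n ψ
    exact (PicGrp.cl_eq_cl_iff _ _).2 ⟨t⟩

/-- **S14926** -/
theorem exists_tensorPow_eq_pullCl [CompactSpace X] [QuasiSeparatedSpace X] (hX : IsPerfection π p)
    (M : XP.Modules) (hM : PicF.IsInvertible M) :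
    ∃ (n : ℕ) (L : X.Modules), PicF.IsInvertible L ∧
      PicF.cl (CohB1.tensorPow M (p ^ n)) = PicF.pullCl π (PicF.cl L) := by
  obtain ⟨V₀, hxV₀, hV₀aff, ⟨A₀⟩⟩ := exists_atlas_preimage hX hM
  obtain ⟨S, hS⟩ := exists_finite_subcover hxV₀
  let V : S → X.Opens := fun s => V₀ s.1
  let A' : Atlas M (fun s => π ⁻¹ᵁ V s) :=
    A₀.refine (fun s : S => s.1) (fun s => π ⁻¹ᵁ V s) (fun _ => le_rfl)
  obtain ⟨m, t, ht, ht1, htc⟩ := exists_descent_cocycle hX V (fun s => (hV₀aff s.1).isCompact)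
    A'.trans A'.trans_self (fun i j k => A'.trans_cocycle i k j _ _ _)
  obtain ⟨L, hL, A, hA⟩ := Groth.Agent.Lib.NormGlueModH3.exists_glued_atlas V hS t ht1 htc
  refine ⟨m, L, hL, ?_⟩
  obtain ⟨e⟩ := Groth.Agent.Lib.H78AtlasIso.nonempty_iso_of_atlas (A'.pow (p ^ m)) (pullAtlas π A)
    (iSup_preimage_eq_top π hS) (fun i j => by rw [Atlas.pow_trans, pullAtlas_trans, hA, ht])
  exact (PicGrp.cl_eq_cl_iff _ _).2 ⟨e⟩


/-- an open of `X` whose preimage in the perfection is affine is affine -/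
theorem isAffineOpen_of_preimage (hX : IsPerfection π p) (G : X.Opens)
    (h : IsAffineOpen (π ⁻¹ᵁ G)) : IsAffineOpen G := by
  have : IsCharP (π ⁻¹ᵁ G).toScheme p := IsCharP.of_hom (π ⁻¹ᵁ G).ι p
  have : IsCharP G.toScheme p := IsCharP.of_hom G.ι p
  have hres : IsPerfection (π ∣_ G) p :=
    isPerfection_of_isPullback_of_isOpenImmersion hX (isPullback_morphismRestrict π G).flip
  haveI : IsAffine (π ⁻¹ᵁ G).toScheme := h
  exact isAffine_of_isAffine_perfection hres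

/-- **S14927** -/
theorem isAmple_iff_isAmple_pullback [CompactSpace X] [QuasiSeparatedSpace X] (hX : IsPerfection π p)
    (L : X.Modules) (hL : PicF.IsInvertible L) :
    CohB1.IsAmple L ↔ CohB1.IsAmple ((Scheme.Modules.pullback π).obj L) := by
  constructor
  · intro h
    haveI := isAffineHom_of_isPerfection hX
    exact Groth.Agent.Lib.H78PullAmple.isAmple_pullback_of_isAffineHom π h
  · intro h
    refine ⟨hL, inferInstance, fun x => ?_⟩
    obtain ⟨x', rfl⟩ := (surjective_of_isPerfection hX).surj x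
    obtain ⟨n, s', hx's', haff⟩ := h.2.2 x'
    obtain ⟨V₀, hxV₀, hV₀aff, ⟨A₀⟩⟩ := exists_atlas hL
    obtain ⟨S, hS⟩ := exists_finite_subcover hxV₀
    let V : S → X.Opens := fun s => V₀ s.1
    let A : Atlas L V := A₀.refine (fun s : S => s.1) V (fun _ => le_rfl)
    obtain ⟨m, hm⟩ := exists_descent_sec hX hS (fun s => (hV₀aff s.1).isCompact) (A.pow (n + 1))
      ((pullAtlas π A).pow (n + 1)) (by
        intro i j
        rw [Atlas.pow_trans, Atlas.pow_trans, pullAtlas_trans, map_pow]) (sec s')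
    obtain ⟨τ, -, hτ⟩ := hm (A.pow ((n + 1) * p ^ m)) (by
      intro i j
      rw [Atlas.pow_trans, Atlas.pow_trans, pow_mul])
    rw [ofSection_sec] at hτ
    have key : ∀ N : ℕ, 0 < N → ∀ τ : Γ(CohB1.tensorPow L N, ⊤),
        π x' ∈ CohB1.genLocus _ (ofSection τ) → IsAffineOpen (CohB1.genLocus _ (ofSection τ)) →
        ∃ (n : ℕ) (s : Coh.structureModule X ⟶ CohB1.tensorPow L (n + 1)),
          π x' ∈ CohB1.genLocus _ s ∧ IsAffineOpen (CohB1.genLocus _ s) := by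
      intro N hN
      obtain ⟨n', rfl⟩ := Nat.exists_eq_succ_of_ne_zero hN.ne'
      intro τ h1 h2
      exact ⟨n', ofSection τ, h1, h2⟩
    refine key _ (Nat.mul_pos n.succ_pos (p_pow_pos m)) τ ?_ ?_
    · have : x' ∈ π ⁻¹ᵁ CohB1.genLocus _ (ofSection τ) := by rw [hτ]; exact hx's'
      exact this
    · apply isAffineOpen_of_preimage hX
      rw [hτ]
      exact haff

end Groth.Agent.Lib.H15PerfPic
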