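import Mathlib.GroupTheory.FiniteAbelian.Duality
import Mathlib.Topology.Algebra.Group.ClosedSubgroup
import Mathlib.Topology.Algebra.Group.Quotient
import Groth.Prelude.Def_W4c1etcurveeff2TopGrp
import Mathlib.GroupTheory.Commutator.Basic
import Mathlib.GroupTheory.Abelianization.Defs

set_option autoImplicit false
set_option linter.unusedSectionVars false
set_option linter.style.haveILetI false
universe u

namespace Groth.Agent.Lib.H15PowComm

open W4c1etcurveeff2
open scoped commutatorElement

section alg

variable (n : ℕ) [NeZero n]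

abbrev Zn := Multiplicative (ZMod n)

lemma zn_pow (z : Zn n) : z ^ n = 1 := by
  apply Multiplicative.toAdd.injective
  rw [toAdd_pow, toAdd_one]
  simp

lemma isPrimitiveRoot_ofAdd_one : IsPrimitiveRoot (Multiplicative.ofAdd (1 : ZMod n)) n := by
  rw [IsPrimitiveRoot.iff_def]
  refine ⟨zn_pow n _, fun l hl => ?_⟩
  have h := congrArg Multiplicative.toAdd hl
  rw [toAdd_pow, toAdd_one, toAdd_ofAdd, nsmul_eq_mul, mul_one] at h
  exact (ZMod.natCast_eq_zero_iff l n).1 h

instance hasEnough : HasEnoughRootsOfUnity (Zn n) n where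
  prim := ⟨_, isPrimitiveRoot_ofAdd_one n⟩
  cyc := by
    have : IsCyclic (Zn n)ˣ := isCyclic_of_surjective (toUnits : Zn n ≃* (Zn n)ˣ) toUnits.surjective
    infer_instance

variable (A : Type u) [CommGroup A] [Finite A] (hA : ∀ a : A, a ^ n = 1)

include hA in
lemma hasEnough_exponent : HasEnoughRootsOfUnity (Zn n) (Monoid.exponent A) :=
  HasEnoughRootsOfUnity.of_dvd (Zn n) (Monoid.exponent_dvd_of_forall_pow_eq_one hA)

include hA in
lemma exists_char_ne_one {a : A} (ha : a ≠ 1) : ∃ φ : A →* Zn n, φ a ≠ 1 := by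
  haveI := hasEnough_exponent n A hA
  obtain ⟨φ, hφ⟩ := CommGroup.exists_apply_ne_one_of_hasEnoughRootsOfUnity A (Zn n) ha
  refine ⟨(toUnits : Zn n ≃* (Zn n)ˣ).symm.toMonoidHom.comp φ, fun h => hφ ?_⟩
  have : (toUnits : Zn n ≃* (Zn n)ˣ).symm (φ a) = 1 := h
  rwa [MulEquiv.map_eq_one_iff] at this

include hA in
lemma card_char : Nat.card (A →* Zn n) = Nat.card A := by
  haveI := hasEnough_exponent n A hA
  rw [← CommGroup.card_monoidHom_of_hasEnoughRootsOfUnity A (Zn n)]
  exact Nat.card_congr ((toUnits : Zn n ≃* (Zn n)ˣ).monoidHomCongrRight (M := A)).toEquiv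

end alg

section top

variable {G : Type u} [Group G] [TopologicalSpace G] [IsTopologicalGroup G]
  (n : ℕ) [NeZero n]

/-- the subgroup generated by powers and commutators. -/
def NN : Subgroup G := Subgroup.closure (Set.range fun g : G => g ^ n) ⊔ commutator G

lemma powCommClosure_eq : powCommClosure G n = (NN (G := G) n).topologicalClosure := rfl

lemma NN_le : NN (G := G) n ≤ powCommClosure G n := Subgroup.le_topologicalClosure _

lemma pow_mem (g : G) : g ^ n ∈ powCommClosure G n :=
  NN_le n (Subgroup.mem_sup_left (Subgroup.subset_closure ⟨g, rfl⟩))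

lemma comm_mem (g h : G) : ⁅g, h⁆ ∈ powCommClosure G n :=
  NN_le n (Subgroup.mem_sup_right
    (Subgroup.commutator_mem_commutator (Subgroup.mem_top g) (Subgroup.mem_top h)))

lemma isClosed_S : IsClosed ((powCommClosure G n : Subgroup G) : Set G) :=
  Subgroup.isClosed_topologicalClosure _

/-- a subgroup containing all commutators is normal. -/
lemma normal_of_comm (H : Subgroup G) (h : ∀ a b : G, ⁅a, b⁆ ∈ H) : H.Normal := by
  refine ⟨fun x hx g => ?_⟩
  have : g * x * g⁻¹ = ⁅g, x⁆ * x := by
    rw [commutatorElement_def]; group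
  rw [this]
  exact H.mul_mem (h g x) hx

instance normal_S : (powCommClosure G n).Normal := normal_of_comm _ (comm_mem n)

/-- a closed subgroup containing powers and commutators contains `S`. -/
lemma S_le (H : Subgroup G) (hc : IsClosed (H : Set G)) (hp : ∀ g : G, g ^ n ∈ H)
    (hcomm : ∀ a b : G, ⁅a, b⁆ ∈ H) : powCommClosure G n ≤ H := by
  refine Subgroup.topologicalClosure_minimal _ ?_ hc
  refine sup_le ?_ ?_
  · rw [Subgroup.closure_le]
    rintro _ ⟨g, rfl⟩
    exact hp g
  · rw [commutator_def, Subgroup.commutator_le]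
    intro a _ b _
    exact hcomm a b

/-- characters with open kernel kill `S`. -/
lemma S_le_ker (χ : G →* Zn n) (hχ : IsOpen ((χ.ker : Subgroup G) : Set G)) :
    powCommClosure G n ≤ χ.ker := by
  refine S_le n _ (Subgroup.isClosed_of_isOpen _ hχ) (fun g => ?_) (fun a b => ?_)
  · rw [MonoidHom.mem_ker, map_pow]
    exact zn_pow n _
  · rw [MonoidHom.mem_ker, map_commutatorElement]
    exact commutatorElement_eq_one_iff_commute.2 (Commute.all _ _)


/-- the quotient `G ⧸ S`. -/
abbrev AA : Type u := G ⧸ powCommClosure G n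

instance commGroupAA : CommGroup (AA (G := G) n) :=
  { QuotientGroup.Quotient.group (powCommClosure G n) with
    mul_comm := by
      intro a b
      induction a using QuotientGroup.induction_on with | _ a => ?_
      induction b using QuotientGroup.induction_on with | _ b => ?_
      rw [← QuotientGroup.mk_mul, ← QuotientGroup.mk_mul, QuotientGroup.eq]
      have : (a * b)⁻¹ * (b * a) = ⁅b⁻¹, a⁻¹⁆ := by
        rw [commutatorElement_def]; group
      rw [this]
      exact comm_mem n _ _ }

lemma AA_pow (a : AA (G := G) n) : a ^ n = 1 := by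
  induction a using QuotientGroup.induction_on with | _ a => ?_
  rw [← QuotientGroup.mk_pow, QuotientGroup.eq_one_iff]
  exact pow_mem n a

variable (s : Finset G) (hs : Dense ((Subgroup.closure (s : Set G) : Subgroup G) : Set G))

include hs in
lemma finite_AA : Finite (AA (G := G) n) := by
  let Γ' : Subgroup (AA (G := G) n) :=
    (Subgroup.closure (s : Set G)).map (QuotientGroup.mk' (powCommClosure G n))
  have hfg : Group.FG Γ' := by
    rw [Group.fg_iff_subgroup_fg]
    exact (Subgroup.fg_iff _).2 ⟨_, (MonoidHom.map_closure _ _).symm, s.finite_toSet.image _⟩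
  have htors : IsMulTorsion Γ' := by
    intro a
    rw [isOfFinOrder_iff_pow_eq_one]
    exact ⟨n, Nat.pos_of_ne_zero (NeZero.ne n), Subtype.ext (AA_pow n a.1)⟩
  have hfin : Finite Γ' := CommGroup.finite_of_fg_isMulTorsion _ htors
  have hfin' : (Γ' : Set (AA (G := G) n)).Finite := Set.toFinite _
  haveI : IsClosed ((powCommClosure G n : Subgroup G) : Set G) := isClosed_S n
  have hcl : IsClosed (Γ' : Set (AA (G := G) n)) := hfin'.isClosed
  have hd : Dense (Γ' : Set (AA (G := G) n)) := by
    have h1 : DenseRange (QuotientGroup.mk : G → AA (G := G) n) :=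
      QuotientGroup.mk_surjective.denseRange
    have := h1.dense_image QuotientGroup.continuous_mk hs
    exact this
  have htop : (Γ' : Set (AA (G := G) n)) = Set.univ := by
    rw [← hcl.closure_eq]
    exact hd.closure_eq
  exact Set.finite_univ_iff.1 (htop ▸ hfin')


include hs in
lemma isOpen_S : IsOpen ((powCommClosure G n : Subgroup G) : Set G) := by
  haveI := finite_AA n s hs
  haveI : (powCommClosure G n).FiniteIndex := Subgroup.finiteIndex_of_finite_quotient
  exact Subgroup.isOpen_of_isClosed_of_finiteIndex _ (isClosed_S n)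

include hs in
/-- part (2). -/
lemma mem_S_iff (g : G) : g ∈ powCommClosure G n ↔
    ∀ χ : G →* Zn n, IsOpen ((χ.ker : Subgroup G) : Set G) → χ g = 1 := by
  constructor
  · intro hg χ hχ
    exact S_le_ker n χ hχ hg
  · intro h
    by_contra hg
    haveI := finite_AA n s hs
    have hne : (QuotientGroup.mk g : AA (G := G) n) ≠ 1 := by
      rwa [Ne, QuotientGroup.eq_one_iff]
    obtain ⟨φ, hφ⟩ := exists_char_ne_one n (AA (G := G) n) (AA_pow n) hne
    refine hφ (h (φ.comp (QuotientGroup.mk' _)) ?_)
    refine Subgroup.isOpen_mono (H₁ := powCommClosure G n) ?_ (isOpen_S n s hs)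
    intro x hx
    rw [MonoidHom.mem_ker, MonoidHom.comp_apply, QuotientGroup.mk'_apply,
      (QuotientGroup.eq_one_iff x).2 hx, map_one]

include hs in
/-- part (1). -/
lemma map_S_le (φ : G ≃* G) (hφ : Continuous φ) :
    (powCommClosure G n).map φ.toMonoidHom ≤ powCommClosure G n := by
  rintro _ ⟨g, hg, rfl⟩
  rw [mem_S_iff n s hs]
  intro χ hχ
  have h1 := (mem_S_iff n s hs g).1 hg (χ.comp φ.toMonoidHom) ?_
  · exact h1
  · have : (((χ.comp φ.toMonoidHom).ker : Subgroup G) : Set G) = φ ⁻¹' ((χ.ker : Subgroup G) : Set G) := by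
      ext x
      rfl
    rw [this]
    exact hχ.preimage hφ

include hs in
lemma map_S_eq (φ : G ≃* G) (hφ : Continuous φ) (hφ' : Continuous φ.symm) :
    (powCommClosure G n).map φ.toMonoidHom = powCommClosure G n := by
  refine le_antisymm (map_S_le n s hs φ hφ) ?_
  intro g hg
  refine ⟨φ.symm g, map_S_le n s hs φ.symm hφ' ⟨g, hg, rfl⟩, ?_⟩
  exact φ.apply_symm_apply g


/-- continuous characters = characters of the quotient. -/
noncomputable def charEquiv (hS : IsOpen ((powCommClosure G n : Subgroup G) : Set G)) :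
    ContChar G n ≃ (AA (G := G) n →* Zn n) where
  toFun χ := QuotientGroup.lift (powCommClosure G n) χ.1 (S_le_ker n χ.1 χ.2)
  invFun ψ := ⟨ψ.comp (QuotientGroup.mk' _), by
    show IsOpen _
    refine Subgroup.isOpen_mono (H₁ := powCommClosure G n) ?_ hS
    intro x hx
    rw [MonoidHom.mem_ker, MonoidHom.comp_apply, QuotientGroup.mk'_apply,
      (QuotientGroup.eq_one_iff x).2 hx, map_one]⟩
  left_inv χ := by
    apply Subtype.ext
    ext g
    rfl
  right_inv ψ := by
    ext a
    rfl

lemma contChar_pow (χ : ContChar G n) : χ ^ n = 1 := by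
  apply Subtype.ext
  ext g
  show ((χ.1 ^ n : G →* Zn n) g) = 1
  rw [MonoidHom.pow_apply]
  exact zn_pow n _

/-- evaluation. -/
def evG : G →* (ContChar G n →* Zn n) where
  toFun g := { toFun := fun χ => χ.1 g, map_one' := rfl, map_mul' := fun _ _ => rfl }
  map_one' := by
    ext χ
    exact map_one χ.1
  map_mul' a b := by
    ext χ
    exact map_mul χ.1 a b

include hs in
lemma ker_evG : (evG (G := G) n).ker = powCommClosure G n := by
  ext g
  rw [mem_S_iff n s hs, MonoidHom.mem_ker]
  constructor
  · intro h χ hχ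
    exact DFunLike.congr_fun h (⟨χ, hχ⟩ : ContChar G n)
  · intro h
    ext χ
    exact h χ.1 χ.2

include hs in
lemma card_dual : Nat.card (ContChar G n →* Zn n) = Nat.card (AA (G := G) n) := by
  haveI := finite_AA n s hs
  have e := charEquiv n (isOpen_S n s hs)
  haveI : Finite (AA (G := G) n →* Zn n) :=
    Finite.of_injective (fun f => (f : AA (G := G) n → Zn n)) DFunLike.coe_injective
  haveI : Finite (ContChar G n) := Finite.of_equiv _ e.symm
  rw [card_char n (ContChar G n) (contChar_pow n), Nat.card_congr e,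
    card_char n (AA (G := G) n) (AA_pow n)]

include hs in
/-- part (3). -/
lemma evG_surjective : Function.Surjective (evG (G := G) n) := by
  haveI := finite_AA n s hs
  have e := charEquiv n (isOpen_S n s hs)
  haveI : Finite (AA (G := G) n →* Zn n) :=
    Finite.of_injective (fun f => (f : AA (G := G) n → Zn n)) DFunLike.coe_injective
  haveI : Finite (ContChar G n) := Finite.of_equiv _ e.symm
  haveI : Finite (ContChar G n →* Zn n) :=
    Finite.of_injective (fun f => (f : ContChar G n → Zn n)) DFunLike.coe_injective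
  rw [← MonoidHom.range_eq_top]
  apply Subgroup.eq_top_of_card_eq
  rw [card_dual n s hs]
  have h1 := Nat.card_congr (QuotientGroup.quotientKerEquivRange (evG (G := G) n)).toEquiv
  rw [← h1]
  have h2 := ker_evG n s hs
  rw [h2]

include hs in
/-- part (4). -/
lemma unique_S (H : Subgroup G) [H.Normal] (hH : IsClosed (H : Set G))
    (e : G ⧸ H ≃* (ContChar G n →* Zn n)) : H = powCommClosure G n := by
  haveI := finite_AA n s hs
  have hle : powCommClosure G n ≤ H := by
    refine S_le n H hH (fun g => ?_) (fun a b => ?_)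
    · rw [← QuotientGroup.eq_one_iff, QuotientGroup.mk_pow, ← e.map_eq_one_iff, map_pow]
      ext χ
      rw [MonoidHom.pow_apply]
      exact zn_pow n _
    · rw [← QuotientGroup.eq_one_iff, ← e.map_eq_one_iff]
      have : ((⁅a, b⁆ : G) : G ⧸ H) = ⁅(a : G ⧸ H), (b : G ⧸ H)⁆ := by
        simp [commutatorElement_def]
      rw [this, map_commutatorElement]
      exact commutatorElement_eq_one_iff_commute.2 (Commute.all _ _)
  have hi1 : (powCommClosure G n).index = Nat.card (AA (G := G) n) := Subgroup.index_eq_card _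
  have hi2 : H.index = Nat.card (AA (G := G) n) := by
    rw [Subgroup.index_eq_card, Nat.card_congr e.toEquiv, card_dual n s hs]
  have hpos : Nat.card (AA (G := G) n) ≠ 0 := Nat.card_pos.ne'
  have h3 := Subgroup.relIndex_mul_index hle
  rw [hi1, hi2] at h3
  have h4 : (powCommClosure G n).relIndex H = 1 := by
    have := Nat.eq_of_mul_eq_mul_right (Nat.pos_of_ne_zero hpos) (h3.trans (one_mul _).symm)
    exact this
  exact le_antisymm (Subgroup.relIndex_eq_one.1 h4) hle

/-- `S14176`. -/
theorem main (s : Finset G) (hs : Dense ((Subgroup.closure (s : Set G) : Subgroup G) : Set G))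
    (n : ℕ) [NeZero n] (S : Subgroup G) (hS : S = powCommClosure G n) :
    (∀ φ : G ≃* G, Continuous φ → Continuous φ.symm → S.map φ.toMonoidHom = S) ∧
    (∀ g : G, g ∈ S ↔
        ∀ χ : G →* Multiplicative (ZMod n), IsOpen ((χ.ker : Subgroup G) : Set G) → χ g = 1) ∧
    (∀ F : ContChar G n →* Multiplicative (ZMod n), ∃ g : G,
        ∀ χ : ContChar G n, F χ = (χ.1 : G →* Multiplicative (ZMod n)) g) ∧
    (∀ (H : Subgroup G) [H.Normal], IsClosed (H : Set G) →
        Nonempty (G ⧸ H ≃* (ContChar G n →* Multiplicative (ZMod n))) → H = S) := by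
  subst hS
  refine ⟨fun φ h1 h2 => map_S_eq n s hs φ h1 h2, mem_S_iff n s hs, fun F => ?_, ?_⟩
  · obtain ⟨g, rfl⟩ := evG_surjective n s hs F
    exact ⟨g, fun χ => rfl⟩
  · intro H _ hH ⟨e⟩
    exact unique_S n s hs H hH e

end top

end Groth.Agent.Lib.H15PowComm
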