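import Groth.Agent.Lib.H15WLoc3
import Groth.Agent.Lib.H15WLocalIndZar

set_option autoImplicit false
universe u

namespace Groth.Agent.Lib.H15WLocUniv

open PrimeSpectrum Groth.Agent.Lib.H15IndZariskiLoc CategoryTheory Groth.Agent.Lib.SpectralCons
  Topology Groth.Agent.Lib.H15LCLocal Groth.Agent.Lib.H15WLoc Groth.Agent.Lib.H15WLocalIndZar
  Groth.Agent.Lib.H15SpecLC Groth.Agent.Lib.H15LocalRingHom ProEtW

section top

variable {B : Type u} [CommRing B]

variable (B) in
/-- the closed points of `Spec B`. -/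
abbrev Zc : Type u := {q : PrimeSpectrum B // IsClosed ({q} : Set (PrimeSpectrum B))}

/-- closed points to components. -/
def mkZ (z : Zc B) : Tt B := ConnectedComponents.mk z.1

lemma continuous_mkZ : Continuous (mkZ : Zc B → Tt B) :=
  ConnectedComponents.continuous_coe.comp continuous_subtype_val

variable (hB : IsWLocal (PrimeSpectrum B))
include hB

lemma mkZ_bijective : Function.Bijective (mkZ : Zc B → Tt B) := by
  constructor
  · intro z z' h
    exact Subtype.ext (Groth.Agent.S0699.closedPt_mk_injective hB z.1 z'.1 z.2 z'.2 h)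
  · intro c
    obtain ⟨q, rfl⟩ := ConnectedComponents.surjective_coe c
    obtain ⟨q₀, ⟨hq₀, hs⟩, -⟩ := hB.2.2 q
    exact ⟨⟨q₀, hq₀⟩, (Groth.Agent.S0699.mk_eq_of_specializes hs).symm⟩

lemma compactSpace_Zc : CompactSpace (Zc B) :=
  isCompact_iff_compactSpace.1 hB.2.1.isCompact

/-- closed points are homeomorphic to `π₀`. -/
noncomputable def homeoZ : Zc B ≃ₜ Tt B :=
  haveI := compactSpace_Zc hB
  Continuous.homeoOfEquivCompactToT2 (f := Equiv.ofBijective mkZ (mkZ_bijective hB))
    continuous_mkZ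

lemma homeoZ_apply (z : Zc B) : homeoZ hB z = ConnectedComponents.mk z.1 := rfl

lemma t2Space_Zc : T2Space (Zc B) :=
  T2Space.of_injective_continuous (mkZ_bijective hB).1 continuous_mkZ

/-- the closed point of a component. -/
noncomputable def cl (c : Tt B) : PrimeSpectrum B := ((homeoZ hB).symm c).1

lemma isClosed_cl (c : Tt B) : IsClosed ({cl hB c} : Set (PrimeSpectrum B)) :=
  ((homeoZ hB).symm c).2

lemma mk_cl (c : Tt B) : ConnectedComponents.mk (cl hB c) = c := by
  have := (homeoZ hB).apply_symm_apply c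
  rwa [homeoZ_apply] at this

lemma cl_mk_of_isClosed (q : PrimeSpectrum B) (hq : IsClosed ({q} : Set (PrimeSpectrum B))) :
    cl hB (ConnectedComponents.mk q) = q := by
  have : (homeoZ hB).symm (ConnectedComponents.mk q) = ⟨q, hq⟩ := by
    rw [Homeomorph.symm_apply_eq, homeoZ_apply]
  rw [cl, this]

lemma specializes_cl (q : PrimeSpectrum B) : q ⤳ cl hB (ConnectedComponents.mk q) := by
  obtain ⟨q₀, ⟨hq₀, hs⟩, -⟩ := hB.2.2 q
  rw [Groth.Agent.S0699.mk_eq_of_specializes hs, cl_mk_of_isClosed hB q₀ hq₀]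
  exact hs

lemma continuous_cl : Continuous (cl hB) :=
  continuous_subtype_val.comp (homeoZ hB).symm.continuous

end top


section sigma

variable (A : Type u) [CommRing A] {B : Type u} [CommRing B] [Algebra A B]
  (hB : IsWLocal (PrimeSpectrum B))

/-- closed points of `Spec B` to `Spec A`. -/
def gZ (z : Zc B) : PrimeSpectrum A := PrimeSpectrum.comap (algebraMap A B) z.1

include hB in
lemma continuous_gZ_cons :
    @Continuous (Zc B) (PrimeSpectrum A) _ (constructibleTopology (PrimeSpectrum A)) (gZ A) := by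
  have hcont : Continuous (gZ A : Zc B → PrimeSpectrum A) :=
    (PrimeSpectrum.continuous_comap (algebraMap A B)).comp continuous_subtype_val
  refine (@continuous_generateFrom_iff (Zc B) (PrimeSpectrum A) (gZ A) _
    (constructibleTopologySubbasis (PrimeSpectrum A))).mpr ?_
  rintro s (⟨hs1, hs2⟩ | ⟨hs1, hs2⟩)
  · exact hs1.preimage hcont
  · have h1 : IsCompact (PrimeSpectrum.comap (algebraMap A B) ⁻¹' sᶜ) :=
      (isSpectralMap_comap (algebraMap A B)).isCompact_preimage_of_isOpen hs1.isOpen_compl hs2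
    have hemb : IsClosedEmbedding (Subtype.val : Zc B → PrimeSpectrum B) :=
      hB.2.1.isClosedEmbedding_subtypeVal
    have h2 : IsCompact ((Subtype.val : Zc B → PrimeSpectrum B) ⁻¹'
        (PrimeSpectrum.comap (algebraMap A B) ⁻¹' sᶜ)) := hemb.isCompact_preimage h1
    have := t2Space_Zc hB
    have h3 := h2.isClosed
    rw [← isOpen_compl_iff] at h3
    convert h3 using 1
    ext z
    simp [gZ]

/-- the map `π₀(Spec B) → Spec A` (constructible topology), `c ↦` image of the closed point. -/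
noncomputable def σ₀ : C(Tt B, Xc A) where
  toFun c := WithTopology.toTopology _ (PrimeSpectrum.comap (algebraMap A B) (cl hB c))
  continuous_toFun := by
    have h1 : Continuous (fun z : Zc B => (WithTopology.toTopology _ (gZ A z) : Xc A)) :=
      @Continuous.comp _ _ _ _ (constructibleTopology (PrimeSpectrum A)) _ _ _
        (WithTopology.continuous_toTopology (constructibleTopology (PrimeSpectrum A)))
        (continuous_gZ_cons A hB)
    exact h1.comp (homeoZ hB).symm.continuous

lemma σ₀_apply (c : Tt B) :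
    σ₀ A hB c = WithTopology.toTopology _ (PrimeSpectrum.comap (algebraMap A B) (cl hB c)) := rfl

lemma vc_σ₀ (c : Tt B) : vc A (σ₀ A hB c) = PrimeSpectrum.comap (algebraMap A B) (cl hB c) := rfl

/-- `LocallyConstant (Xc A) A → B`. -/
noncomputable def Ψ₁ : LocallyConstant (Xc A) A →ₐ[A] B :=
  (Ψ₀ A B).comp (LocallyConstant.comapₐ A (σ₀ A hB))

lemma Ψ₁_mem_iff (f : LocallyConstant (Xc A) A) (q : PrimeSpectrum B) :
    Ψ₁ A hB f ∈ q.asIdeal ↔
      f (σ₀ A hB (ConnectedComponents.mk q)) ∈ q.asIdeal.comap (algebraMap A B) := by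
  rw [Ψ₁, AlgHom.comp_apply, Ψ₀_mem_iff]
  rfl

lemma isUnit_Ψ₁ (m : M (vc A)) : IsUnit (Ψ₁ A hB m) := by
  rw [← not_not (a := IsUnit _)]
  intro hnu
  obtain ⟨I, hI, hmem⟩ := exists_max_ideal_of_mem_nonunits hnu
  have := (Ψ₁_mem_iff A hB (m : LocallyConstant (Xc A) A) ⟨I, hI.isPrime⟩).1 hmem
  refine m.2 (σ₀ A hB (ConnectedComponents.mk ⟨I, hI.isPrime⟩)) ?_
  rw [vc_σ₀]
  have hs := specializes_cl hB ⟨I, hI.isPrime⟩
  have hs' := hs.map (PrimeSpectrum.continuous_comap (algebraMap A B))
  exact (PrimeSpectrum.le_iff_specializes _ _).2 hs' this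

/-- the universal map `A_w → B`. -/
noncomputable def φu : Bv (vc A) →ₐ[A] B :=
  IsLocalization.liftAlgHom (M := M (vc A)) (f := Ψ₁ A hB) (isUnit_Ψ₁ A hB)

lemma φu_algebraMap (f : LocallyConstant (Xc A) A) :
    φu A hB (algebraMap (LocallyConstant (Xc A) A) (Bv (vc A)) f) = Ψ₁ A hB f := by
  rw [φu, IsLocalization.liftAlgHom_apply, IsLocalization.lift_eq]
  rfl

end sigma


section loc

variable {A : Type u} [CommRing A] {T : Type u} [TopologicalSpace T] [CompactSpace T] [T2Space T]
  [TotallyDisconnectedSpace T] {B : Type u} [CommRing B] [Algebra A B]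

omit [CompactSpace T] [T2Space T] [TotallyDisconnectedSpace T] in
lemma isIdempotentElem_charFn {U : Set T} (hU : IsClopen U) :
    IsIdempotentElem (LocallyConstant.charFn A hU) := by
  ext z
  by_cases hz : z ∈ U
  · rw [LocallyConstant.mul_apply, charFn_apply_of_mem hU hz, mul_one]
  · rw [LocallyConstant.mul_apply, charFn_apply_of_notMem hU hz, mul_zero]

/-- An `A`-algebra map `LocallyConstant T A → B` is, in the local ring at `q`, evaluation at the
`T`-coordinate of the image of `q`. -/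
lemma algebraMap_algHom_apply (Ψ' : LocallyConstant T A →ₐ[A] B) (q : PrimeSpectrum B)
    (f : LocallyConstant T A) :
    algebraMap B (Localization.AtPrime q.asIdeal) (Ψ' f) =
      algebraMap B (Localization.AtPrime q.asIdeal)
        (algebraMap A B (f ((homeo T A).symm (PrimeSpectrum.comap Ψ'.toRingHom q)).2)) := by
  have hU : IsClopen (f ⁻¹' {f ((homeo T A).symm (PrimeSpectrum.comap Ψ'.toRingHom q)).2}) :=
    f.isLocallyConstant.isClopen_fiber _
  have h1 : f * LocallyConstant.charFn A hU =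
      algebraMap A (LocallyConstant T A) (f ((homeo T A).symm (PrimeSpectrum.comap Ψ'.toRingHom q)).2) *
        LocallyConstant.charFn A hU := by
    ext z
    by_cases hz : z ∈ f ⁻¹' {f ((homeo T A).symm (PrimeSpectrum.comap Ψ'.toRingHom q)).2}
    · rw [LocallyConstant.mul_apply, LocallyConstant.mul_apply, charFn_apply_of_mem hU hz, mul_one,
        mul_one]
      exact hz
    · rw [LocallyConstant.mul_apply, LocallyConstant.mul_apply, charFn_apply_of_notMem hU hz,
        mul_zero, mul_zero]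
  have h2 : Ψ' (LocallyConstant.charFn A hU) ∉ q.asIdeal := by
    intro hmem
    have hmem' : LocallyConstant.charFn A hU ∈ (PrimeSpectrum.comap Ψ'.toRingHom q).asIdeal := hmem
    rw [mem_iff_homeo_symm, charFn_apply_of_mem hU (by exact rfl)] at hmem'
    exact ((homeo T A).symm (PrimeSpectrum.comap Ψ'.toRingHom q)).1.2.one_notMem hmem'
  have h3 : algebraMap B (Localization.AtPrime q.asIdeal) (Ψ' (LocallyConstant.charFn A hU)) = 1 :=
    algebraMap_atPrime_of_idem_notMem ((isIdempotentElem_charFn hU).map Ψ') q.asIdeal h2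
  have h4 := congrArg (fun y => algebraMap B (Localization.AtPrime q.asIdeal) (Ψ' y)) h1
  simp only [map_mul, h3, mul_one, AlgHom.commutes] at h4
  exact h4

variable {v : C(T, PrimeSpectrum A)}

/-- local description of an `A`-algebra map out of `Bv v`. -/
lemma algebraMap_algHom_Bv_apply (φ' : Bv v →ₐ[A] B) (q : PrimeSpectrum B)
    (f : LocallyConstant T A) :
    algebraMap B (Localization.AtPrime q.asIdeal)
        (φ' (algebraMap (LocallyConstant T A) (Bv v) f)) =
      algebraMap B (Localization.AtPrime q.asIdeal)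
        (algebraMap A B (f (τ (PrimeSpectrum.comap φ'.toRingHom q)))) :=
  algebraMap_algHom_apply (φ'.comp (IsScalarTower.toAlgHom A (LocallyConstant T A) (Bv v))) q f

/-- two `A`-algebra maps out of `Bv v` with the same `τ`-coordinates agree. -/
lemma algHom_ext_of_τ (φ₁ φ₂ : Bv v →ₐ[A] B)
    (h : ∀ q : PrimeSpectrum B, τ (PrimeSpectrum.comap φ₁.toRingHom q) =
      τ (PrimeSpectrum.comap φ₂.toRingHom q)) : φ₁ = φ₂ := by
  apply AlgHom.coe_ringHom_injective
  apply IsLocalization.ringHom_ext (M v)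
  ext f
  apply eq_of_forall_algebraMap_eq
  intro q
  have h1 := algebraMap_algHom_Bv_apply φ₁ q f
  have h2 := algebraMap_algHom_Bv_apply φ₂ q f
  rw [h q] at h1
  exact h1.trans h2.symm

end loc


section univ

variable (A : Type u) [CommRing A] {B : Type u} [CommRing B] [Algebra A B]
  (hB : IsWLocal (PrimeSpectrum B))

lemma comap_algebraMap_comap_algHom (φ' : Bv (vc A) →ₐ[A] B) (q : PrimeSpectrum B) :
    PrimeSpectrum.comap (algebraMap A (Bv (vc A))) (PrimeSpectrum.comap φ'.toRingHom q) =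
      PrimeSpectrum.comap (algebraMap A B) q := by
  ext a
  show φ' (algebraMap A (Bv (vc A)) a) ∈ q.asIdeal ↔ algebraMap A B a ∈ q.asIdeal
  rw [AlgHom.commutes]

/-- the `τ`-coordinate of a w-local `A`-algebra map out of `A_w` is forced. -/
lemma τ_comap_of_isWLocalMap (φ' : Bv (vc A) →ₐ[A] B)
    (hφ' : IsWLocalMap (PrimeSpectrum.comap φ'.toRingHom)) (q : PrimeSpectrum B) :
    τ (PrimeSpectrum.comap φ'.toRingHom q) = σ₀ A hB (ConnectedComponents.mk q) := by
  have hs : PrimeSpectrum.comap φ'.toRingHom q ⤳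
      PrimeSpectrum.comap φ'.toRingHom (cl hB (ConnectedComponents.mk q)) :=
    (specializes_cl hB q).map hφ'.1.continuous
  obtain ⟨-, h2⟩ := (specializes_iff_pt (M (vc A)) _ _ _).1 hs
  have hcl : IsClosed ({PrimeSpectrum.comap φ'.toRingHom (cl hB (ConnectedComponents.mk q))} :
      Set (PrimeSpectrum (Bv (vc A)))) := hφ'.2 _ (isClosed_cl hB _)
  rw [H15WLoc.isClosed_singleton_iff, P_eq, comap_algebraMap_comap_algHom] at hcl
  show (pt A (Xc A) (PrimeSpectrum.comap φ'.toRingHom q)).2 = _
  rw [h2, σ₀_apply, hcl]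
  rfl

lemma comap_algebraMap_comap_φu (q : PrimeSpectrum B) :
    PrimeSpectrum.comap (algebraMap (LocallyConstant (Xc A) A) (Bv (vc A)))
      (PrimeSpectrum.comap (φu A hB).toRingHom q) =
    homeo (Xc A) A (PrimeSpectrum.comap (algebraMap A B) q, σ₀ A hB (ConnectedComponents.mk q)) := by
  ext f
  show φu A hB (algebraMap (LocallyConstant (Xc A) A) (Bv (vc A)) f) ∈ q.asIdeal ↔ _
  rw [φu_algebraMap, Ψ₁_mem_iff, homeo_apply, mem_Φ]
  rfl

lemma pt_comap_φu (q : PrimeSpectrum B) :
    pt A (Xc A) (PrimeSpectrum.comap (φu A hB).toRingHom q) =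
      (PrimeSpectrum.comap (algebraMap A B) q, σ₀ A hB (ConnectedComponents.mk q)) := by
  rw [pt, comap_algebraMap_comap_φu, Homeomorph.symm_apply_apply]

lemma isWLocalMap_φu : IsWLocalMap (PrimeSpectrum.comap (φu A hB).toRingHom) := by
  refine ⟨isSpectralMap_comap _, fun q hq => ?_⟩
  rw [H15WLoc.isClosed_singleton_iff, P, τ, pt_comap_φu, vc_σ₀, cl_mk_of_isClosed hB q hq]

include hB in
theorem existsUnique_algHom :
    ∃! φ : Bv (vc A) →ₐ[A] B, IsWLocalMap (PrimeSpectrum.comap φ.toRingHom) := by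
  refine ⟨φu A hB, isWLocalMap_φu A hB, fun φ' hφ' => ?_⟩
  apply algHom_ext_of_τ
  intro q
  rw [τ_comap_of_isWLocalMap A hB φ' hφ', τ_comap_of_isWLocalMap A hB _ (isWLocalMap_φu A hB)]

end univ

/-- `S0695`. -/
theorem exists_wLocalization_universal (A : Type u) [CommRing A] :
    ∃ (Aw : Type u) (_ : CommRing Aw) (_ : Algebra A Aw),
      Module.FaithfullyFlat A Aw ∧ EtPBC.IsIndZariski A Aw ∧ ProEtW.IsWLocal (PrimeSpectrum Aw) ∧
      ∀ (B : Type u) [CommRing B] [Algebra A B], ProEtW.IsWLocal (PrimeSpectrum B) →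
        ∃! φ : Aw →ₐ[A] B, ProEtW.IsWLocalMap (PrimeSpectrum.comap φ.toRingHom) :=
  ⟨Bv (vc A), inferInstance, inferInstance, faithfullyFlat vc_bijective.2, isIndZariski (vc A),
    isWLocal isOpen_vc, fun _ _ _ hB => existsUnique_algHom A hB⟩

end Groth.Agent.Lib.H15WLocUniv
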