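import Groth.Agent.Lib.HenselizationEpi61
import Groth.Agent.Lib.StrictHenselizationEpi61
import Groth.Agent.Lib.HenselQFLocalization61

/-!
# `Sh` as (strict) henselization of `(Rh ⊗[R] S)_Q`, and finiteness for quasi-finite maps (helper61)

Setting: `R → S` a ring map, `q` a prime of `S` over `p`, `Rh`, `Sh` (strict) henselizations of
`R_p`, `S_q`, with a compatible `Rh`-algebra structure on `Sh`.  `phi : Rh ⊗[R] S → Sh`,
`Q = phi⁻¹(m_Sh)`, `Phi : (Rh ⊗[R] S)_Q → Sh`.

* `exists_epi_data`: the data needed by `HenselizationEpi61.isHenselization_of_epi`.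
* `isHenselization_Phi`, `isStrictHenselization_Phi`: `Sh` is a (strict) henselization of
  `(Rh ⊗[R] S)_Q` (Stacks 08HU / 08HV).
* `finite_of_quasiFiniteAt`, `finite_of_quasiFiniteAt_strict`: if `R → S` is of finite type and
  quasi-finite at `q`, then `Sh` is finite over `Rh` (Stacks 05WP / 05WR), and `Phi` is bijective.
-/

set_option autoImplicit false
universe u

namespace Groth.Agent.Lib.HenselizationTensorPrime61

section Data

open TensorProduct IsLocalRing

variable (R : Type u) [CommRing R] (S : Type u) [CommRing S] [Algebra R S]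
    (Rh : Type u) [CommRing Rh] [Algebra R Rh]
    (Sh : Type u) [CommRing Sh] [Algebra S Sh] [Algebra R Sh] [IsScalarTower R S Sh]
    [Algebra Rh Sh] [IsScalarTower R Rh Sh]

/-- The canonical map `Rh ⊗[R] S → Sh`. -/
noncomputable abbrev phi : Rh ⊗[R] S →ₐ[R] Sh :=
  Algebra.TensorProduct.lift (IsScalarTower.toAlgHom R Rh Sh) (IsScalarTower.toAlgHom R S Sh)
    (fun _ _ => Commute.all _ _)

theorem phi_tmul (x : Rh) (s : S) :
    phi R S Rh Sh (x ⊗ₜ[R] s) = algebraMap Rh Sh x * algebraMap S Sh s := by
  simp [phi]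

variable [IsLocalRing Sh]

/-- The prime `Q`. -/
noncomputable abbrev Q : Ideal (Rh ⊗[R] S) := Ideal.comap (phi R S Rh Sh) (maximalIdeal Sh)

theorem isUnit_phi (y : (Q R S Rh Sh).primeCompl) : IsUnit (phi R S Rh Sh (y : Rh ⊗[R] S)) := by
  have := y.2
  by_contra h
  exact this h

/-- The induced map `(Rh ⊗[R] S)_Q → Sh`. -/
noncomputable def Phi : Localization.AtPrime (Q R S Rh Sh) →+* Sh :=
  IsLocalization.lift (M := (Q R S Rh Sh).primeCompl) (g := (phi R S Rh Sh).toRingHom)
    (isUnit_phi R S Rh Sh)

theorem Phi_algebraMap (d : Rh ⊗[R] S) :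
    Phi R S Rh Sh (algebraMap _ _ d) = phi R S Rh Sh d :=
  IsLocalization.lift_eq _ d

theorem isLocalHom_Phi : IsLocalHom (Phi R S Rh Sh) := by
  refine ⟨fun x hx => ?_⟩
  obtain ⟨d, s, rfl⟩ := IsLocalization.exists_mk'_eq (Q R S Rh Sh).primeCompl x
  have h1 : Phi R S Rh Sh (IsLocalization.mk' _ d s) * phi R S Rh Sh (s : Rh ⊗[R] S)
      = phi R S Rh Sh d := by
    rw [← Phi_algebraMap, ← Phi_algebraMap, ← map_mul, IsLocalization.mk'_spec]
  have h2 : IsUnit (phi R S Rh Sh d) := by
    rw [← h1]; exact hx.mul (isUnit_phi R S Rh Sh s)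
  have h3 : d ∈ (Q R S Rh Sh).primeCompl := fun hd => hd h2
  have h4 : IsUnit (algebraMap _ (Localization.AtPrime (Q R S Rh Sh)) d) :=
    IsLocalization.map_units _ (⟨d, h3⟩ : (Q R S Rh Sh).primeCompl)
  have h5 : (IsLocalization.mk' (Localization.AtPrime (Q R S Rh Sh)) d s)
      * algebraMap _ _ (s : Rh ⊗[R] S) = algebraMap _ _ d := IsLocalization.mk'_spec _ d s
  exact isUnit_of_mul_isUnit_left (h5 ▸ h4)

variable (q : Ideal S) [q.IsPrime] [Algebra (Localization.AtPrime q) Sh]
    [IsLocalHom (algebraMap (Localization.AtPrime q) Sh)]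
    [IsScalarTower S (Localization.AtPrime q) Sh]

theorem comap_includeRight :
    q = (Q R S Rh Sh).comap
      (Algebra.TensorProduct.includeRight (R := R) (A := Rh) (B := S)).toRingHom := by
  ext x
  simp only [Ideal.mem_comap, AlgHom.toRingHom_eq_coe, RingHom.coe_coe,
    Algebra.TensorProduct.includeRight_apply]
  rw [phi_tmul, map_one, one_mul, IsScalarTower.algebraMap_apply S (Localization.AtPrime q) Sh,
    ← Ideal.mem_comap, IsLocalRing.maximalIdeal_comap,
    IsLocalization.AtPrime.to_map_mem_maximal_iff _ q]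


variable (p : Ideal R) [p.IsPrime] [q.LiesOver p]
    [Algebra (Localization.AtPrime p) Rh] [IsScalarTower R (Localization.AtPrime p) Rh]

/-- The data needed by `isHenselization_of_epi` / `isStrictHenselization_of_epi`. -/
theorem exists_epi_data :
    letI : Algebra (Localization.AtPrime (Q R S Rh Sh)) Sh := (Phi R S Rh Sh).toAlgebra
    ∃ (ρ : Localization.AtPrime p →+* Localization.AtPrime q) (_ : IsLocalHom ρ)
      (j : Localization.AtPrime q →+* Localization.AtPrime (Q R S Rh Sh))
      (k : Rh →+* Localization.AtPrime (Q R S Rh Sh)),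
      k = (algebraMap (Rh ⊗[R] S) (Localization.AtPrime (Q R S Rh Sh))).comp
        (Algebra.TensorProduct.includeLeft (R := R) (S := R) (A := Rh) (B := S)).toRingHom ∧
      (algebraMap (Localization.AtPrime (Q R S Rh Sh)) Sh).comp j
        = algebraMap (Localization.AtPrime q) Sh ∧
      j.comp ρ = k.comp (algebraMap (Localization.AtPrime p) Rh) ∧
      ∀ (T : Type u) [CommRing T] (u v : Localization.AtPrime (Q R S Rh Sh) →+* T),
        u.comp j = v.comp j → u.comp k = v.comp k → u = v := by
  let _ : Algebra (Localization.AtPrime (Q R S Rh Sh)) Sh := (Phi R S Rh Sh).toAlgebra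
  have hPhi : IsLocalHom (algebraMap (Localization.AtPrime (Q R S Rh Sh)) Sh) :=
    isLocalHom_Phi R S Rh Sh
  have halg : ∀ x, algebraMap (Localization.AtPrime (Q R S Rh Sh)) Sh x = Phi R S Rh Sh x :=
    fun _ => rfl
  have hq := comap_includeRight R S Rh Sh q
  have hp : p = q.comap (algebraMap R S) := Ideal.LiesOver.over
  let ρ : Localization.AtPrime p →+* Localization.AtPrime q :=
    Localization.localRingHom p q (algebraMap R S) hp
  have hρ : IsLocalHom ρ := Localization.isLocalHom_localRingHom p q (algebraMap R S) hp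
  let j : Localization.AtPrime q →+* Localization.AtPrime (Q R S Rh Sh) :=
    Localization.localRingHom q (Q R S Rh Sh)
      (Algebra.TensorProduct.includeRight (R := R) (A := Rh) (B := S)).toRingHom hq
  let k : Rh →+* Localization.AtPrime (Q R S Rh Sh) :=
    (algebraMap (Rh ⊗[R] S) (Localization.AtPrime (Q R S Rh Sh))).comp
      (Algebra.TensorProduct.includeLeft (R := R) (S := R) (A := Rh) (B := S)).toRingHom
  have hjs : ∀ s : S, j (algebraMap S (Localization.AtPrime q) s)
      = algebraMap (Rh ⊗[R] S) (Localization.AtPrime (Q R S Rh Sh)) ((1 : Rh) ⊗ₜ[R] s) :=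
    fun s => Localization.localRingHom_to_map q (Q R S Rh Sh) _ hq s
  have hkx : ∀ x : Rh, k x
      = algebraMap (Rh ⊗[R] S) (Localization.AtPrime (Q R S Rh Sh)) (x ⊗ₜ[R] (1 : S)) :=
    fun x => rfl
  have hj : (algebraMap (Localization.AtPrime (Q R S Rh Sh)) Sh).comp j
      = algebraMap (Localization.AtPrime q) Sh := by
    refine IsLocalization.ringHom_ext q.primeCompl ?_
    ext s
    simp only [RingHom.coe_comp, Function.comp_apply]
    rw [hjs, halg, Phi_algebraMap, phi_tmul, map_one, one_mul,
      ← IsScalarTower.algebraMap_apply S (Localization.AtPrime q) Sh]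
  have hjk : j.comp ρ = k.comp (algebraMap (Localization.AtPrime p) Rh) := by
    refine IsLocalization.ringHom_ext p.primeCompl ?_
    ext r
    simp only [RingHom.coe_comp, Function.comp_apply]
    rw [show ρ (algebraMap R (Localization.AtPrime p) r)
        = algebraMap S (Localization.AtPrime q) (algebraMap R S r) from
      Localization.localRingHom_to_map p q _ hp r, hjs,
      ← IsScalarTower.algebraMap_apply R (Localization.AtPrime p) Rh, hkx,
      Algebra.algebraMap_eq_smul_one (A := S), Algebra.algebraMap_eq_smul_one (A := Rh),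
      TensorProduct.smul_tmul]
  have hepi : ∀ (T : Type u) [CommRing T] (u v : Localization.AtPrime (Q R S Rh Sh) →+* T),
      u.comp j = v.comp j → u.comp k = v.comp k → u = v := by
    intro T _ u v huv1 huv2
    refine IsLocalization.ringHom_ext (Q R S Rh Sh).primeCompl ?_
    refine RingHom.ext fun d => ?_
    simp only [RingHom.coe_comp, Function.comp_apply]
    induction d using TensorProduct.induction_on with
    | zero => simp
    | tmul x s =>
      have e : (x ⊗ₜ[R] s : Rh ⊗[R] S) = (x ⊗ₜ[R] (1 : S)) * ((1 : Rh) ⊗ₜ[R] s) := by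
        rw [Algebra.TensorProduct.tmul_mul_tmul, one_mul, mul_one]
      rw [e, map_mul, map_mul, map_mul, ← hkx, ← hjs]
      have e1 : u (k x) = v (k x) := congrArg (fun φ : Rh →+* T => φ x) huv2
      have e2 : u (j (algebraMap S (Localization.AtPrime q) s))
          = v (j (algebraMap S (Localization.AtPrime q) s)) :=
        congrArg (fun φ : Localization.AtPrime q →+* T => φ (algebraMap S _ s)) huv1
      rw [e1, e2]
    | add x y hx hy => rw [map_add, map_add, map_add, hx, hy]
  exact ⟨ρ, hρ, j, k, rfl, hj, hjk, hepi⟩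

end Data

section Common

open TensorProduct IsLocalRing

variable (R : Type u) [CommRing R] (S : Type u)
    [CommRing S] [Algebra R S] (p : Ideal R) [p.IsPrime] (q : Ideal S) [q.IsPrime] [q.LiesOver p]
    (Rh : Type u) [CommRing Rh] [IsLocalRing Rh] [Algebra (Localization.AtPrime p) Rh]
    [IsLocalHom (algebraMap (Localization.AtPrime p) Rh)]
    [Algebra R Rh] [IsScalarTower R (Localization.AtPrime p) Rh]
    (Sh : Type u) [CommRing Sh] [IsLocalRing Sh] [Algebra (Localization.AtPrime q) Sh]
    [IsLocalHom (algebraMap (Localization.AtPrime q) Sh)]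
    [Algebra S Sh]
    [IsScalarTower S (Localization.AtPrime q) Sh] [Algebra R Sh] [IsScalarTower R S Sh]
    [Algebra Rh Sh] [IsScalarTower R Rh Sh]

include R S q in
/-- If `m_{R_p} Rh = m_Rh` then `Rh → Sh` is a local homomorphism. -/
theorem isLocalHom_algebraMap_of_map_eq
    (hmax : Ideal.map (algebraMap (Localization.AtPrime p) Rh)
      (maximalIdeal (Localization.AtPrime p)) = maximalIdeal Rh) :
    IsLocalHom (algebraMap Rh Sh) := by
  refine ⟨fun x hx => ?_⟩
  by_contra hx'
  have h1 : x ∈ maximalIdeal Rh := hx'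
  rw [← hmax] at h1
  have h2 : Ideal.map (algebraMap (Localization.AtPrime p) Rh)
      (maximalIdeal (Localization.AtPrime p)) ≤ (maximalIdeal Sh).comap (algebraMap Rh Sh) := by
    rw [Ideal.map_le_iff_le_comap]
    intro r hr
    rw [Ideal.mem_comap, Ideal.mem_comap]
    obtain ⟨a, s, rfl⟩ := IsLocalization.exists_mk'_eq p.primeCompl r
    have ha : a ∈ p := by
      have := (IsLocalization.AtPrime.mk'_mem_maximal_iff (Localization.AtPrime p) p a s).mp hr
      exact this
    set y := algebraMap Rh Sh (algebraMap (Localization.AtPrime p) Rh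
      (IsLocalization.mk' (Localization.AtPrime p) a s)) with hy
    -- `(image of s) * y = image of a`
    have e1 : algebraMap R Sh (s : R) * y = algebraMap R Sh a := by
      rw [hy, IsScalarTower.algebraMap_apply R Rh Sh, IsScalarTower.algebraMap_apply R Rh Sh,
        IsScalarTower.algebraMap_apply R (Localization.AtPrime p) Rh,
        IsScalarTower.algebraMap_apply R (Localization.AtPrime p) Rh, ← map_mul, ← map_mul,
        mul_comm, IsLocalization.mk'_spec]
    have hmemS : ∀ b : S, algebraMap S Sh b ∈ maximalIdeal Sh ↔ b ∈ q := by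
      intro b
      rw [IsScalarTower.algebraMap_apply S (Localization.AtPrime q) Sh,
        ← Ideal.mem_comap, IsLocalRing.maximalIdeal_comap,
        IsLocalization.AtPrime.to_map_mem_maximal_iff _ q]
    have hp : p = q.comap (algebraMap R S) := Ideal.LiesOver.over
    have e2 : algebraMap R Sh a ∈ maximalIdeal Sh := by
      rw [IsScalarTower.algebraMap_apply R S Sh, hmemS, ← Ideal.mem_comap, ← hp]
      exact ha
    have e3 : algebraMap R Sh (s : R) ∉ maximalIdeal Sh := by
      rw [IsScalarTower.algebraMap_apply R S Sh, hmemS, ← Ideal.mem_comap, ← hp]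
      exact s.2
    rw [← e1] at e2
    exact ((maximalIdeal.isMaximal Sh).isPrime.mem_or_mem e2).resolve_left e3
  have h3 : algebraMap Rh Sh x ∈ maximalIdeal Sh := h2 h1
  exact h3 hx

/-- `Q` lies over the maximal ideal of `Rh` when `Rh → Sh` is local. -/
theorem Q_liesOver [IsLocalHom (algebraMap Rh Sh)] :
    (Q R S Rh Sh).LiesOver (maximalIdeal Rh) := by
  constructor
  ext x
  rw [Ideal.under_def, Ideal.mem_comap, Ideal.mem_comap,
    Algebra.TensorProduct.algebraMap_apply, phi_tmul, map_one, mul_one]
  change _ ↔ algebraMap Rh Sh x ∈ maximalIdeal Sh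
  rw [← Ideal.mem_comap, IsLocalRing.maximalIdeal_comap]

/-- `Phi` composed with `Rh → (Rh ⊗[R] S)_Q` is the structure map of `Sh`. -/
theorem Phi_algebraMap_left (x : Rh) :
    Phi R S Rh Sh (algebraMap Rh (Localization.AtPrime (Q R S Rh Sh)) x) = algebraMap Rh Sh x := by
  rw [IsScalarTower.algebraMap_apply Rh (Rh ⊗[R] S) (Localization.AtPrime (Q R S Rh Sh)),
    Phi_algebraMap, Algebra.TensorProduct.algebraMap_apply, phi_tmul, map_one, mul_one]
  rfl

/-- `Phi` as an `Rh`-linear map. -/
noncomputable def PhiLin : Localization.AtPrime (Q R S Rh Sh) →ₗ[Rh] Sh where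
  toFun := Phi R S Rh Sh
  map_add' := map_add _
  map_smul' x y := by
    rw [Algebra.smul_def, map_mul, Phi_algebraMap_left, RingHom.id_apply, Algebra.smul_def]

end Common

section Hens

open TensorProduct IsLocalRing

variable (R : Type u) [CommRing R] (S : Type u)
    [CommRing S] [Algebra R S] (p : Ideal R) [p.IsPrime] (q : Ideal S) [q.IsPrime] [q.LiesOver p]
    (Rh : Type u) [CommRing Rh] [IsLocalRing Rh] [Algebra (Localization.AtPrime p) Rh]
    [IsLocalHom (algebraMap (Localization.AtPrime p) Rh)]
    [Hensel.IsHenselization (Localization.AtPrime p) Rh]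
    [Algebra R Rh] [IsScalarTower R (Localization.AtPrime p) Rh]
    (Sh : Type u) [CommRing Sh] [IsLocalRing Sh] [Algebra (Localization.AtPrime q) Sh]
    [IsLocalHom (algebraMap (Localization.AtPrime q) Sh)]
    [Hensel.IsHenselization (Localization.AtPrime q) Sh]
    [Algebra S Sh]
    [IsScalarTower S (Localization.AtPrime q) Sh] [Algebra R Sh] [IsScalarTower R S Sh]
    [Algebra Rh Sh] [IsScalarTower R Rh Sh]

include p q in
/-- `Sh` is a henselization of `(Rh ⊗[R] S)_Q` (via `Phi`). -/
theorem isHenselization_Phi :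
    @Hensel.IsHenselization (Localization.AtPrime (Q R S Rh Sh)) Sh _ _ _ _
      (Phi R S Rh Sh).toAlgebra (isLocalHom_Phi R S Rh Sh) := by
  let _ : Algebra (Localization.AtPrime (Q R S Rh Sh)) Sh := (Phi R S Rh Sh).toAlgebra
  have hPhi : IsLocalHom (algebraMap (Localization.AtPrime (Q R S Rh Sh)) Sh) :=
    isLocalHom_Phi R S Rh Sh
  obtain ⟨ρ, hρ, j, k, -, hj, hjk, hepi⟩ := exists_epi_data R S Rh Sh q p
  exact Groth.Agent.Lib.HenselizationEpi61.isHenselization_of_epi
    (Localization.AtPrime p) Rh (Localization.AtPrime q) Sh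
    (Localization.AtPrime (Q R S Rh Sh)) ρ j k hj hjk hepi

include p q in
/-- `Rh → Sh` is automatically a local homomorphism. -/
theorem isLocalHom_algebraMap : IsLocalHom (algebraMap Rh Sh) :=
  isLocalHom_algebraMap_of_map_eq R S p q Rh Sh
    (Groth.Agent.Lib.HenselizationUP.map_maximalIdeal_eq (Localization.AtPrime p) Rh)

include p q in
/-- If `R → S` is of finite type and quasi-finite at `q`, then `Phi` is bijective and `Sh` is
finite over `Rh`. -/
theorem finite_of_quasiFiniteAt [Algebra.FiniteType R S] [Algebra.QuasiFiniteAt R q] :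
    Function.Bijective (Phi R S Rh Sh) ∧ Module.Finite Rh Sh := by
  let _ : Algebra (Localization.AtPrime (Q R S Rh Sh)) Sh := (Phi R S Rh Sh).toAlgebra
  have hPhi : IsLocalHom (algebraMap (Localization.AtPrime (Q R S Rh Sh)) Sh) :=
    isLocalHom_Phi R S Rh Sh
  have hH : Hensel.IsHenselization (Localization.AtPrime (Q R S Rh Sh)) Sh :=
    isHenselization_Phi R S p q Rh Sh
  have hloc : IsLocalHom (algebraMap Rh Sh) := isLocalHom_algebraMap R S p q Rh Sh
  have hRh : HenselianLocalRing Rh :=
    Hensel.IsHenselization.henselian (R := Localization.AtPrime p)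
  have hlies : (Q R S Rh Sh).LiesOver (maximalIdeal Rh) := Q_liesOver R S Rh Sh
  have hqf : Algebra.QuasiFiniteAt Rh (Q R S Rh Sh) :=
    Algebra.QuasiFiniteAt.baseChange q (Q R S Rh Sh) (comap_includeRight R S Rh Sh q)
  have hfinL : Module.Finite Rh (Localization.AtPrime (Q R S Rh Sh)) :=
    Groth.Agent.Lib.HenselQFLocalization61.finite_localization_atPrime_of_quasiFiniteAt Rh
      (Rh ⊗[R] S) (Q R S Rh Sh)
  have hHL : HenselianLocalRing (Localization.AtPrime (Q R S Rh Sh)) :=
    Groth.Agent.Lib.HenselIntegralLocal.henselianLocalRing_of_isIntegral Rh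
      (Localization.AtPrime (Q R S Rh Sh))
  have hself : Hensel.IsHenselization (Localization.AtPrime (Q R S Rh Sh))
      (Localization.AtPrime (Q R S Rh Sh)) :=
    Groth.Agent.Lib.HenselQFLocalization61.isHenselization_self _
  obtain ⟨e⟩ := Groth.Agent.Lib.HenselizationEpi61.exists_algEquiv_of_isHenselization
    (Localization.AtPrime (Q R S Rh Sh)) (Localization.AtPrime (Q R S Rh Sh)) Sh
  have he : ∀ x, e x = Phi R S Rh Sh x := fun x => e.commutes x
  have hbij : Function.Bijective (Phi R S Rh Sh) := by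
    have : (Phi R S Rh Sh : Localization.AtPrime (Q R S Rh Sh) → Sh) = e := by
      funext x; exact (he x).symm
    rw [this]
    exact e.bijective
  refine ⟨hbij, ?_⟩
  exact Module.Finite.of_surjective (PhiLin R S Rh Sh) hbij.2

end Hens

section Strict

open TensorProduct IsLocalRing

variable (R : Type u) [CommRing R] (S : Type u)
    [CommRing S] [Algebra R S] (p : Ideal R) [p.IsPrime] (q : Ideal S) [q.IsPrime] [q.LiesOver p]
    (Rh : Type u) [CommRing Rh] [IsLocalRing Rh] [Algebra (Localization.AtPrime p) Rh]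
    [IsLocalHom (algebraMap (Localization.AtPrime p) Rh)]
    [Hensel.IsStrictHenselization (Localization.AtPrime p) Rh]
    [Algebra R Rh] [IsScalarTower R (Localization.AtPrime p) Rh]
    (Sh : Type u) [CommRing Sh] [IsLocalRing Sh] [Algebra (Localization.AtPrime q) Sh]
    [IsLocalHom (algebraMap (Localization.AtPrime q) Sh)]
    [Hensel.IsStrictHenselization (Localization.AtPrime q) Sh]
    [Algebra S Sh]
    [IsScalarTower S (Localization.AtPrime q) Sh] [Algebra R Sh] [IsScalarTower R S Sh]
    [Algebra Rh Sh] [IsScalarTower R Rh Sh]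

include p q in
/-- `Sh` is a strict henselization of `(Rh ⊗[R] S)_Q` (via `Phi`). -/
theorem isStrictHenselization_Phi :
    @Hensel.IsStrictHenselization (Localization.AtPrime (Q R S Rh Sh)) Sh _ _ _ _
      (Phi R S Rh Sh).toAlgebra (isLocalHom_Phi R S Rh Sh) := by
  let _ : Algebra (Localization.AtPrime (Q R S Rh Sh)) Sh := (Phi R S Rh Sh).toAlgebra
  have hPhi : IsLocalHom (algebraMap (Localization.AtPrime (Q R S Rh Sh)) Sh) :=
    isLocalHom_Phi R S Rh Sh
  obtain ⟨ρ, hρ, j, k, -, hj, hjk, hepi⟩ := exists_epi_data R S Rh Sh q p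
  exact Groth.Agent.Lib.StrictHenselizationEpi61.isStrictHenselization_of_epi
    (Localization.AtPrime p) Rh (Localization.AtPrime q) Sh
    (Localization.AtPrime (Q R S Rh Sh)) ρ j k hj hjk hepi

include p q in
/-- `Rh → Sh` is automatically a local homomorphism. -/
theorem isLocalHom_algebraMap_strict : IsLocalHom (algebraMap Rh Sh) :=
  isLocalHom_algebraMap_of_map_eq R S p q Rh Sh
    (Groth.Agent.Lib.StrictHenselizationMax.map_maximalIdeal_eq (Localization.AtPrime p) Rh)

include p q in
/-- If `R → S` is of finite type and quasi-finite at `q`, then `Phi` is bijective and `Sh` is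
finite over `Rh`. -/
theorem finite_of_quasiFiniteAt_strict [Algebra.FiniteType R S] [Algebra.QuasiFiniteAt R q] :
    Function.Bijective (Phi R S Rh Sh) ∧ Module.Finite Rh Sh := by
  let _ : Algebra (Localization.AtPrime (Q R S Rh Sh)) Sh := (Phi R S Rh Sh).toAlgebra
  have hPhi : IsLocalHom (algebraMap (Localization.AtPrime (Q R S Rh Sh)) Sh) :=
    isLocalHom_Phi R S Rh Sh
  have hH : Hensel.IsStrictHenselization (Localization.AtPrime (Q R S Rh Sh)) Sh :=
    isStrictHenselization_Phi R S p q Rh Sh
  have hloc : IsLocalHom (algebraMap Rh Sh) := isLocalHom_algebraMap_strict R S p q Rh Sh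
  have hRh : HenselianLocalRing Rh :=
    Hensel.IsStrictHenselization.henselian (R := Localization.AtPrime p)
  have hlies : (Q R S Rh Sh).LiesOver (maximalIdeal Rh) := Q_liesOver R S Rh Sh
  have hqf : Algebra.QuasiFiniteAt Rh (Q R S Rh Sh) :=
    Algebra.QuasiFiniteAt.baseChange q (Q R S Rh Sh) (comap_includeRight R S Rh Sh q)
  have hfinL : Module.Finite Rh (Localization.AtPrime (Q R S Rh Sh)) :=
    Groth.Agent.Lib.HenselQFLocalization61.finite_localization_atPrime_of_quasiFiniteAt Rh
      (Rh ⊗[R] S) (Q R S Rh Sh)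
  have hHL : HenselianLocalRing (Localization.AtPrime (Q R S Rh Sh)) :=
    Groth.Agent.Lib.HenselIntegralLocal.henselianLocalRing_of_isIntegral Rh
      (Localization.AtPrime (Q R S Rh Sh))
  -- the residue field of `(Rh ⊗ S)_Q` is separably closed
  have hklocal : IsLocalHom (algebraMap Rh (Localization.AtPrime (Q R S Rh Sh))) := by
    refine ⟨fun x hx => ?_⟩
    have h1 : IsUnit (Phi R S Rh Sh (algebraMap Rh (Localization.AtPrime (Q R S Rh Sh)) x)) :=
      hx.map _
    rw [Phi_algebraMap_left] at h1
    exact isUnit_of_map_unit (algebraMap Rh Sh) x h1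
  have hsc : IsSepClosed (ResidueField Rh) :=
    (Hensel.IsStrictHenselization.isSepClosure (R := Localization.AtPrime p) (S := Rh)).sep_closed
  have hsc' : IsSepClosed (ResidueField (Localization.AtPrime (Q R S Rh Sh))) :=
    Algebra.IsAlgebraic.isSepClosed (F := ResidueField Rh)
  have hself : Hensel.IsStrictHenselization (Localization.AtPrime (Q R S Rh Sh))
      (Localization.AtPrime (Q R S Rh Sh)) :=
    Groth.Agent.Lib.HenselQFLocalization61.isStrictHenselization_self _
  obtain ⟨e⟩ := Groth.Agent.Lib.StrictHenselizationEpi61.exists_algEquiv_of_isStrictHenselization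
    (Localization.AtPrime (Q R S Rh Sh)) (Localization.AtPrime (Q R S Rh Sh)) Sh
  have he : ∀ x, e x = Phi R S Rh Sh x := fun x => e.commutes x
  have hbij : Function.Bijective (Phi R S Rh Sh) := by
    have : (Phi R S Rh Sh : Localization.AtPrime (Q R S Rh Sh) → Sh) = e := by
      funext x; exact (he x).symm
    rw [this]
    exact e.bijective
  refine ⟨hbij, ?_⟩
  exact Module.Finite.of_surjective (PhiLin R S Rh Sh) hbij.2

end Strict

end Groth.Agent.Lib.HenselizationTensorPrime61
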