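import Groth.Agent.Lib.HenselQFLocalization61
import Groth.Agent.Lib.HenselizationTensorPrime61
import Groth.Agent.Lib.TensorPurelyInsepHensel61

/-!
# Localizations of integral algebras over henselian local rings (helper61)

* `isIntegral_localization_atPrime`: `A` henselian local, `D` an integral `A`-algebra, `Q` a
  prime of `D` over `m_A`.  Then `D_Q` is integral over `A`.
* `isIntegral_of_isIntegral_strict`: for `R → S` integral, `q` over `p`, `Rh`/`Sh` strict
  henselizations of `R_p`/`S_q`: `Phi : (Rh ⊗[R] S)_Q → Sh` is bijective, `Sh` is integral over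
  `Rh`.
-/

set_option autoImplicit false
universe u

namespace Groth.Agent.Lib.HenselIntegralLocalization61

open IsLocalRing TensorProduct

/-- `D_Q` is integral over the henselian local ring `A` when `D` is. -/
theorem isIntegral_localization_atPrime
    (A : Type u) [CommRing A] [HenselianLocalRing A]
    (D : Type u) [CommRing D] [Algebra A D] [Algebra.IsIntegral A D]
    (Q : Ideal D) [Q.IsPrime] [hQ : Q.LiesOver (maximalIdeal A)] :
    Algebra.IsIntegral A (Localization.AtPrime Q) := by
  refine ⟨fun x => ?_⟩
  obtain ⟨d, s, rfl⟩ := IsLocalization.exists_mk'_eq Q.primeCompl x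
  -- the finite subalgebra generated by `d` and `s`
  let D' : Subalgebra A D := Algebra.adjoin A {d, (s : D)}
  have hfin : Module.Finite A D' :=
    Algebra.finite_adjoin_of_finite_of_isIntegral (by simp)
      (fun y _ => Algebra.IsIntegral.isIntegral y)
  have hd : d ∈ D' := Algebra.subset_adjoin (by simp)
  have hs : (s : D) ∈ D' := Algebra.subset_adjoin (by simp)
  let Q' : Ideal D' := Q.comap D'.val
  have hQ'prime : Q'.IsPrime := Ideal.comap_isPrime _ Q
  have hQ'lies : Q'.LiesOver (maximalIdeal A) := by
    constructor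
    have h1 : maximalIdeal A = Q.under A := hQ.over
    rw [h1]
    ext a
    simp only [Ideal.under_def, Ideal.mem_comap, Q']
    rfl
  have hft : Algebra.FiniteType A D' := inferInstance
  have hqf : Algebra.QuasiFiniteAt A Q' := inferInstance
  have hfinL : Module.Finite A (Localization.AtPrime Q') :=
    Groth.Agent.Lib.HenselQFLocalization61.finite_localization_atPrime_of_quasiFiniteAt A D' Q'
  let ψ : Localization.AtPrime Q' →ₐ[A] Localization.AtPrime Q :=
    Localization.localAlgHom Q' Q D'.val rfl
  have hs' : (⟨s, hs⟩ : D') ∈ Q'.primeCompl := fun h => s.2 h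
  have hx : IsLocalization.mk' (Localization.AtPrime Q) d s
      = ψ (IsLocalization.mk' (Localization.AtPrime Q') (⟨d, hd⟩ : D') ⟨⟨s, hs⟩, hs'⟩) := by
    rw [Localization.localAlgHom_apply, Localization.localRingHom_mk']
    rfl
  rw [hx]
  exact (Algebra.IsIntegral.isIntegral _).map ψ

section Strict

variable (R : Type u) [CommRing R] (S : Type u)
    [CommRing S] [Algebra R S] (p : Ideal R) [p.IsPrime] (q : Ideal S) [q.IsPrime] [q.LiesOver p]
    (Rh : Type u) [CommRing Rh] [IsLocalRing Rh] [Algebra (Localization.AtPrime p) Rh]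
    [IsLocalHom (algebraMap (Localization.AtPrime p) Rh)]
    [Hensel.IsStrictHenselization (Localization.AtPrime p) Rh]
    [Algebra R Rh] [IsScalarTower R (Localization.AtPrime p) Rh]
    (Sh : Type u) [CommRing Sh] [IsLocalRing Sh] [Algebra (Localization.AtPrime q) Sh]
    [IsLocalHom (algebraMap (Localization.AtPrime q) Sh)]
    [Hensel.IsStrictHenselization (Localization.AtPrime q) Sh]
    [Algebra S Sh]
    [IsScalarTower S (Localization.AtPrime q) Sh] [Algebra R Sh] [IsScalarTower R S Sh]
    [Algebra Rh Sh] [IsScalarTower R Rh Sh]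

open Groth.Agent.Lib.HenselizationTensorPrime61

include p q in
/-- If `R → S` is integral then `Phi` is bijective and `Sh` is integral over `Rh`. -/
theorem isIntegral_of_isIntegral_strict [Algebra.IsIntegral R S] :
    Function.Bijective (Phi R S Rh Sh) ∧ Algebra.IsIntegral Rh Sh := by
  let _ : Algebra (Localization.AtPrime (Q R S Rh Sh)) Sh := (Phi R S Rh Sh).toAlgebra
  have hPhi : IsLocalHom (algebraMap (Localization.AtPrime (Q R S Rh Sh)) Sh) :=
    isLocalHom_Phi R S Rh Sh
  have hH : Hensel.IsStrictHenselization (Localization.AtPrime (Q R S Rh Sh)) Sh :=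
    isStrictHenselization_Phi R S p q Rh Sh
  have hloc : IsLocalHom (algebraMap Rh Sh) := isLocalHom_algebraMap_strict R S p q Rh Sh
  have hRh : HenselianLocalRing Rh :=
    Hensel.IsStrictHenselization.henselian (R := Localization.AtPrime p)
  have hlies : (Q R S Rh Sh).LiesOver (maximalIdeal Rh) := Q_liesOver R S Rh Sh
  have hintL : Algebra.IsIntegral Rh (Localization.AtPrime (Q R S Rh Sh)) :=
    isIntegral_localization_atPrime Rh (Rh ⊗[R] S) (Q R S Rh Sh)
  have hHL : HenselianLocalRing (Localization.AtPrime (Q R S Rh Sh)) :=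
    Groth.Agent.Lib.HenselIntegralLocal.henselianLocalRing_of_isIntegral Rh
      (Localization.AtPrime (Q R S Rh Sh))
  have hklocal : IsLocalHom (algebraMap Rh (Localization.AtPrime (Q R S Rh Sh))) := by
    refine ⟨fun x hx => ?_⟩
    have h1 : IsUnit (Phi R S Rh Sh (algebraMap Rh (Localization.AtPrime (Q R S Rh Sh)) x)) :=
      hx.map _
    rw [Phi_algebraMap_left] at h1
    exact isUnit_of_map_unit (algebraMap Rh Sh) x h1
  have hsc : IsSepClosed (ResidueField Rh) :=
    (Hensel.IsStrictHenselization.isSepClosure (R := Localization.AtPrime p) (S := Rh)).sep_closed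
  have hint' : Algebra.IsIntegral (ResidueField Rh)
      (ResidueField (Localization.AtPrime (Q R S Rh Sh))) :=
    Groth.Agent.Lib.TensorPurelyInsepHensel61.isIntegral_residueField Rh _
  have halg : Algebra.IsAlgebraic (ResidueField Rh)
      (ResidueField (Localization.AtPrime (Q R S Rh Sh))) := Algebra.IsIntegral.isAlgebraic
  have hsc' : IsSepClosed (ResidueField (Localization.AtPrime (Q R S Rh Sh))) :=
    Algebra.IsAlgebraic.isSepClosed (F := ResidueField Rh)
  have hself : Hensel.IsStrictHenselization (Localization.AtPrime (Q R S Rh Sh))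
      (Localization.AtPrime (Q R S Rh Sh)) :=
    Groth.Agent.Lib.HenselQFLocalization61.isStrictHenselization_self _
  obtain ⟨e⟩ := Groth.Agent.Lib.StrictHenselizationEpi61.exists_algEquiv_of_isStrictHenselization
    (Localization.AtPrime (Q R S Rh Sh)) (Localization.AtPrime (Q R S Rh Sh)) Sh
  have he : ∀ x, e x = Phi R S Rh Sh x := fun x => e.commutes x
  have hbij : Function.Bijective (Phi R S Rh Sh) := by
    have : (Phi R S Rh Sh : Localization.AtPrime (Q R S Rh Sh) → Sh) = e := by
      funext x; exact (he x).symm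
    rw [this]
    exact e.bijective
  refine ⟨hbij, ⟨fun y => ?_⟩⟩
  obtain ⟨x, rfl⟩ := hbij.2 y
  let PhiAlg : Localization.AtPrime (Q R S Rh Sh) →ₐ[Rh] Sh :=
    { Phi R S Rh Sh with commutes' := Phi_algebraMap_left R S Rh Sh }
  exact (Algebra.IsIntegral.isIntegral x).map PhiAlg

end Strict

end Groth.Agent.Lib.HenselIntegralLocalization61
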