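import Groth.Agent.Lib.H15IndZarRetract
import Groth.Agent.Lib.H15WLocSquare
import Groth.Agent.Lib.IndEtaleComp96
import Groth.Agent.Lib.Olivier22
import Groth.Agent.Lib.WEtaleNormalLocal22
import Groth.Agent.Lib.AffNbhd13a
import Groth.Agent.S0675
import Groth.Agent.S0678
import Groth.Agent.S0736

/-!
# w-contractible rings (Stacks 0982, Bhatt–Scholze 2.4.2) (helper22)

* `nonempty_retraction_of_bijective`: helper15's `H15IndZarRetract.nonempty_retraction` with the
  ind-Zariski hypothesis replaced by "identifies local rings below points over closed points".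
* `bijective_localRingHom_of_weaklyEtale`: Olivier's theorem for the local rings of a weakly étale
  algebra over a closed point with strictly henselian local ring.
* `isWContractible_of`: w-local + extremally disconnected `π₀` + strictly henselian local rings at
  closed points ⇒ w-contractible.
* `isIndEtale_of_etale`.
-/

set_option autoImplicit false
universe u

namespace Groth.Agent.Lib.WContr22

open PrimeSpectrum Groth.Agent.Lib.H15IndZariskiLoc CategoryTheory Groth.Agent.Lib.SpectralCons
  Topology Groth.Agent.Lib.H15LCLocal Groth.Agent.Lib.H15WLoc Groth.Agent.Lib.H15WLocalIndZar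
  Groth.Agent.Lib.H15SpecLC Groth.Agent.Lib.H15LocalRingHom ProEtW Groth.Agent.Lib.H15IndZarLocal
  Groth.Agent.Lib.H15IndZarRetract

section backward

variable {A B : Type u} [CommRing A] [CommRing B] [Algebra A B]
  (hW : IsWLocal (PrimeSpectrum A))

include hW in
/-- A w-local `A` with extremally disconnected `π₀` has retractions of faithfully flat
algebras which identify local rings at all generizations of points over closed points. -/
theorem nonempty_retraction_of_bijective (hED : ExtremallyDisconnected (Tt A))
    [Module.FaithfullyFlat A B]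
    (hB : ∀ q q' : PrimeSpectrum B,
      IsClosed ({PrimeSpectrum.comap (algebraMap A B) q} : Set (PrimeSpectrum A)) →
      q'.asIdeal ≤ q.asIdeal →
      Function.Bijective (Localization.localRingHom (q'.asIdeal.comap (algebraMap A B))
        q'.asIdeal (algebraMap A B) rfl)) : Nonempty (B →ₐ[A] A) := by
  have hcY := compactSpace_Y (B := B) hW
  have hproj : CompactT2.Projective (Tt A) := CompactT2.ExtremallyDisconnected.projective
  obtain ⟨s, hs, hsπ⟩ := hproj (f := id) (g := (πY : Y A B → Tt A)) continuous_id continuous_πY
    (surjective_πY hW)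
  -- the section as a map to `Spec B`
  let v'' : C(Tt A, PrimeSpectrum B) :=
    ⟨fun c => vc B (s c).1, (vc B).continuous.comp (continuous_subtype_val.comp hs)⟩
  have hv''cl : ∀ c, IsClosed ({PrimeSpectrum.comap (algebraMap A B) (v'' c)} :
      Set (PrimeSpectrum A)) := fun c => (s c).2
  have hv''mk : ∀ c, ConnectedComponents.mk (PrimeSpectrum.comap (algebraMap A B) (v'' c)) = c :=
    fun c => congrFun hsπ c
  have hv''open : ∀ b : B, IsOpen {c : Tt A | b ∈ (v'' c).asIdeal} := fun b =>
    (isOpen_vc b).preimage (continuous_subtype_val.comp hs)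
  have hWC : IsWLocal (PrimeSpectrum (Bv v'')) := isWLocal hv''open
  have hcomapAC : ∀ y : PrimeSpectrum (Bv v''), PrimeSpectrum.comap (algebraMap A (Bv v'')) y =
      PrimeSpectrum.comap (algebraMap A B) (P y) := by
    intro y
    rw [P_eq, IsScalarTower.algebraMap_eq A B (Bv v'')]
    rfl
  have hbij : Function.Bijective (algebraMap A (Bv v'')) := by
    apply Groth.Agent.S0699.result A (Bv v'') ?_ hW hWC ?_ ?_
    · -- identifies local rings
      intro y
      have hBC := Groth.Agent.Lib.H15LCLocal.identifiesLocalRings (M v'') (R' := Bv v'') y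
      have hAB := hB (v'' (τ y)) (PrimeSpectrum.comap (algebraMap B (Bv v'')) y) (hv''cl _)
        (by rw [← P_eq]; exact P_le y)
      exact Groth.Agent.Lib.H15IndZarCover.bijective_localRingHom_comp (algebraMap A B)
        (algebraMap B (Bv v'')) (algebraMap A (Bv v''))
        (IsScalarTower.algebraMap_eq A B (Bv v'')) y.asIdeal hBC hAB
    · -- w-local map
      refine ⟨isSpectralMap_comap _, fun y hy => ?_⟩
      rw [H15WLoc.isClosed_singleton_iff] at hy
      rw [hcomapAC, hy]
      exact hv''cl _
    · -- bijective on π₀
      have key : ∀ c : _root_.ConnectedComponents (PrimeSpectrum (Bv v'')),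
          (PrimeSpectrum.continuous_comap (algebraMap A (Bv v''))).connectedComponentsMap c =
            τ₀ v'' c := by
        intro c
        obtain ⟨y, rfl⟩ := ConnectedComponents.surjective_coe c
        rw [Continuous.connectedComponentsMap_mk]
        show ConnectedComponents.mk _ = τ₀ v'' (ConnectedComponents.mk y)
        rw [τ₀_mk, hcomapAC]
        have h1 : P y ⤳ v'' (τ y) := (PrimeSpectrum.le_iff_specializes _ _).1 (P_le y)
        have h2 := h1.map (PrimeSpectrum.continuous_comap (algebraMap A B))
        rw [Groth.Agent.S0699.mk_eq_of_specializes h2, hv''mk]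
      have : (PrimeSpectrum.continuous_comap (algebraMap A (Bv v''))).connectedComponentsMap =
          τ₀ v'' := funext key
      rw [this]
      exact τ₀_bijective
  let e : A ≃ₐ[A] Bv v'' := AlgEquiv.ofBijective (Algebra.ofId A (Bv v'')) hbij
  exact ⟨(e.symm : Bv v'' →ₐ[A] A).comp (IsScalarTower.toAlgHom A B (Bv v''))⟩

end backward

/-- **Olivier** for local rings of a weakly étale algebra: if `A_m` is strictly henselian and `q`
lies over `m` then `A_m → B_q` is bijective. -/
theorem bijective_localRingHom_of_weaklyEtale (A B : Type u) [CommRing A] [CommRing B]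
    [Algebra A B] [Algebra.WeaklyEtale A B] (q : Ideal B) [q.IsPrime] (m : Ideal A) [m.IsPrime]
    (hm : m = q.comap (algebraMap A B))
    (hSH : EtCoh.IsStrictlyHenselianLocalRing (Localization.AtPrime m)) :
    Function.Bijective (Localization.localRingHom m q (algebraMap A B) hm) := by
  obtain ⟨hH, hS⟩ := hSH
  letI : Algebra (Localization.AtPrime m) (Localization.AtPrime q) :=
    (Localization.localRingHom m q (algebraMap A B) hm).toAlgebra
  haveI : IsScalarTower A (Localization.AtPrime m) (Localization.AtPrime q) :=
    IsScalarTower.of_algebraMap_eq fun a => by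
      rw [RingHom.algebraMap_toAlgebra, Localization.localRingHom_to_map,
        IsScalarTower.algebraMap_apply A B (Localization.AtPrime q)]
  haveI : Algebra.WeaklyEtale (Localization.AtPrime m) (Localization.AtPrime q) :=
    Groth.Agent.Lib.WEtaleNormalLocal22.weaklyEtale_localization_of_weaklyEtale A B _ _
      m.primeCompl q.primeCompl
  haveI : IsLocalHom (algebraMap (Localization.AtPrime m) (Localization.AtPrime q)) := by
    rw [RingHom.algebraMap_toAlgebra]
    exact Localization.isLocalHom_localRingHom m q (algebraMap A B) hm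
  exact Groth.Agent.Lib.Olivier22.bijective_algebraMap (Localization.AtPrime m)
    (Localization.AtPrime q)

/-- **Stacks 0982** (3) ⇒ (1): a ring with w-local spectrum, extremally disconnected `π₀` and
strictly henselian local rings at closed points is w-contractible. -/
theorem isWContractible_of (A : Type u) [CommRing A] (hW : ProEtW.IsWLocal (PrimeSpectrum A))
    (hED : ExtremallyDisconnected (_root_.ConnectedComponents (PrimeSpectrum A)))
    (hSH : ∀ (m : Ideal A) [m.IsMaximal],
      EtCoh.IsStrictlyHenselianLocalRing (Localization.AtPrime m)) :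
    EtPBC.IsWContractible A := by
  intro B _ _ hff hWE
  refine nonempty_retraction_of_bijective hW hED ?_
  intro q q' hq hle
  have hmax : (q.asIdeal.comap (algebraMap A B)).IsMaximal :=
    (PrimeSpectrum.isClosed_singleton_iff_isMaximal
      (PrimeSpectrum.comap (algebraMap A B) q)).1 hq
  have h1 := bijective_localRingHom_of_weaklyEtale A B q.asIdeal
    (q.asIdeal.comap (algebraMap A B)) rfl (hSH _)
  exact Groth.Agent.Lib.AffNbhd13a.localRingHom_bijective_of_le (algebraMap A B) q.asIdeal
    q'.asIdeal hle _ _ rfl rfl h1

/-- étale algebras are ind-étale. -/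
theorem isIndEtale_of_etale (A B : Type u) [CommRing A] [CommRing B] [Algebra A B]
    [Algebra.Etale A B] : EtPBC.IsIndEtale A B := by
  rw [Groth.Agent.Lib.IndEtaleComp96.isIndEtale_iff_ind]
  apply MorphismProperty.le_ind
  rw [Groth.Agent.Lib.IndEtaleComp96.etaleMP_iff]
  exact RingHom.etale_algebraMap.2 inferInstance

/-- ind-étale retractions give ind-Zariski retractions. -/
theorem hasIndZariskiRetractions_of_hasIndEtaleRetractions (A : Type u) [CommRing A]
    (h : ProEtW.HasIndEtaleRetractions A) : ProEtW.HasIndZariskiRetractions A :=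
  fun B _ _ hff hIZ =>
    h B hff (Groth.Agent.Lib.H15WLocSquare.isIndEtale_of_isIndZariski A B hIZ)

/-- ind-étale retractions give étale retractions. -/
theorem hasEtaleRetractions_of_hasIndEtaleRetractions (A : Type u) [CommRing A]
    (h : ProEtW.HasIndEtaleRetractions A) : ProEtW.HasEtaleRetractions A :=
  fun B _ _ hff _ => h B hff (isIndEtale_of_etale A B)

/-- w-contractible rings have ind-étale retractions. -/
theorem hasIndEtaleRetractions_of_isWContractible (A : Type u) [CommRing A]
    (h : EtPBC.IsWContractible A) : ProEtW.HasIndEtaleRetractions A :=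
  fun B _ _ hff hIE => h B hff (Groth.Agent.S0736.result A B hIE)

/-- **Stacks 0982** (2) ⇒ (3). -/
theorem wLocal_extrDisc_strictlyHenselian_of_hasIndEtaleRetractions (A : Type u) [CommRing A]
    (h : ProEtW.HasIndEtaleRetractions A) :
    ProEtW.IsWLocal (PrimeSpectrum A) ∧
      ExtremallyDisconnected (_root_.ConnectedComponents (PrimeSpectrum A)) ∧
      ∀ (m : Ideal A) [m.IsMaximal],
        EtCoh.IsStrictlyHenselianLocalRing (Localization.AtPrime m) := by
  obtain ⟨h1, h2⟩ := (Groth.Agent.S0678.result A).1
    (hasIndZariskiRetractions_of_hasIndEtaleRetractions A h)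
  exact ⟨h1, h2, fun m _ => Groth.Agent.S0675.result A
    (hasEtaleRetractions_of_hasIndEtaleRetractions A h) m⟩

/-- **Stacks 0982**, (1) ⇔ (3). -/
theorem isWContractible_iff (A : Type u) [CommRing A] :
    EtPBC.IsWContractible A ↔
      (ProEtW.IsWLocal (PrimeSpectrum A) ∧
        ExtremallyDisconnected (_root_.ConnectedComponents (PrimeSpectrum A)) ∧
        ∀ (m : Ideal A) [m.IsMaximal],
          EtCoh.IsStrictlyHenselianLocalRing (Localization.AtPrime m)) :=
  ⟨fun h => wLocal_extrDisc_strictlyHenselian_of_hasIndEtaleRetractions A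
      (hasIndEtaleRetractions_of_isWContractible A h),
    fun ⟨h1, h2, h3⟩ => isWContractible_of A h1 h2 h3⟩

/-- **Stacks 0982**, (1) ⇔ (2). -/
theorem isWContractible_iff_hasIndEtaleRetractions (A : Type u) [CommRing A] :
    EtPBC.IsWContractible A ↔ ProEtW.HasIndEtaleRetractions A :=
  ⟨hasIndEtaleRetractions_of_isWContractible A, fun h => by
    obtain ⟨h1, h2, h3⟩ := wLocal_extrDisc_strictlyHenselian_of_hasIndEtaleRetractions A h
    exact isWContractible_of A h1 h2 h3⟩

end Groth.Agent.Lib.WContr22
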