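
import Groth.Agent.Lib.WContr22
import Groth.Agent.Lib.H15EDQuasiFinite
import Groth.Agent.Lib.HenselIntegralLocal
import Groth.Agent.Lib.HenselIntegralLocalization61
import Groth.Agent.Lib.HenselTransfer22
import Groth.Agent.Lib.H15WLocUniv

set_option autoImplicit false
set_option linter.style.haveILetI false
universe u

namespace Groth.Agent.Lib.H15WContrFinite

open PrimeSpectrum ProEtW IsLocalRing

variable {A B : Type u} [CommRing A] [CommRing B] [Algebra A B]

section integral

variable [Algebra.IsIntegral A B]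

lemma isClosed_singleton_comap_iff (q : PrimeSpectrum B) :
    IsClosed ({comap (algebraMap A B) q} : Set (PrimeSpectrum A)) ↔
      IsClosed ({q} : Set (PrimeSpectrum B)) := by
  rw [isClosed_singleton_iff_isMaximal, isClosed_singleton_iff_isMaximal]
  constructor
  · intro h
    exact Ideal.isMaximal_of_isIntegral_of_isMaximal_comap q.asIdeal h
  · intro h
    exact Ideal.isMaximal_comap_of_isIntegral_of_isMaximal q.asIdeal

lemma closedPoints_eq_preimage :
    {q : PrimeSpectrum B | IsClosed ({q} : Set (PrimeSpectrum B))} =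
      comap (algebraMap A B) ⁻¹' {p | IsClosed ({p} : Set (PrimeSpectrum A))} := by
  ext q
  exact (isClosed_singleton_comap_iff q).symm


/-- all closed specializations of `q'` lie over the closed specialization of `comap q'`. -/
lemma comap_eq_of_le (hW : IsWLocal (PrimeSpectrum A)) (q' : PrimeSpectrum B)
    (m : PrimeSpectrum A) (hm : IsClosed ({m} : Set (PrimeSpectrum A)))
    (hpm : comap (algebraMap A B) q' ⤳ m) (n : Ideal B) [hn : n.IsMaximal] (hle : q'.asIdeal ≤ n) :
    n.comap (algebraMap A B) = m.asIdeal := by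
  obtain ⟨m₀, -, huniq⟩ := hW.2.2 (comap (algebraMap A B) q')
  let n' : PrimeSpectrum B := ⟨n, hn.isPrime⟩
  have h1 : IsClosed ({comap (algebraMap A B) n'} : Set (PrimeSpectrum A)) :=
    (isClosed_singleton_comap_iff n').2 ((isClosed_singleton_iff_isMaximal n').2 hn)
  have h2 : comap (algebraMap A B) q' ⤳ comap (algebraMap A B) n' := by
    rw [← le_iff_specializes]
    exact Ideal.comap_mono hle
  have e1 := huniq _ ⟨h1, h2⟩
  have e2 := huniq m ⟨hm, hpm⟩
  have : comap (algebraMap A B) n' = m := e1.trans e2.symm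
  exact congrArg PrimeSpectrum.asIdeal this

/-- `B ⧸ q'` is a local ring. -/
lemma isLocalRing_quotient (hW : IsWLocal (PrimeSpectrum A))
    (hH : ∀ (m : Ideal A) [m.IsMaximal], HenselianLocalRing (Localization.AtPrime m))
    (q' : PrimeSpectrum B) : IsLocalRing (B ⧸ q'.asIdeal) := by
  obtain ⟨m, ⟨hm, hpm⟩, -⟩ := hW.2.2 (comap (algebraMap A B) q')
  have hmmax : m.asIdeal.IsMaximal := (isClosed_singleton_iff_isMaximal m).1 hm
  haveI := hH m.asIdeal
  have hunit : ∀ y : m.asIdeal.primeCompl, IsUnit (algebraMap A (B ⧸ q'.asIdeal) y) := by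
    intro y
    by_contra hy
    obtain ⟨N, hN, hyN⟩ := exists_max_ideal_of_mem_nonunits (mem_nonunits_iff.2 hy)
    have hsurj : Function.Surjective (Ideal.Quotient.mk q'.asIdeal) := Ideal.Quotient.mk_surjective
    haveI hnmax : (N.comap (Ideal.Quotient.mk q'.asIdeal)).IsMaximal :=
      Ideal.comap_isMaximal_of_surjective _ hsurj
    have hle : q'.asIdeal ≤ N.comap (Ideal.Quotient.mk q'.asIdeal) := by
      intro x hx
      rw [Ideal.mem_comap, Ideal.Quotient.eq_zero_iff_mem.2 hx]
      exact N.zero_mem
    have h1 := comap_eq_of_le hW q' m hm hpm (N.comap (Ideal.Quotient.mk q'.asIdeal)) hle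
    have h2 : (y : A) ∈ (N.comap (Ideal.Quotient.mk q'.asIdeal)).comap (algebraMap A B) := hyN
    rw [h1] at h2
    exact y.2 h2
  letI alg : Algebra (Localization.AtPrime m.asIdeal) (B ⧸ q'.asIdeal) :=
    (IsLocalization.lift (M := m.asIdeal.primeCompl) (S := Localization.AtPrime m.asIdeal)
      (g := algebraMap A (B ⧸ q'.asIdeal)) hunit).toAlgebra
  haveI : IsScalarTower A (Localization.AtPrime m.asIdeal) (B ⧸ q'.asIdeal) :=
    IsScalarTower.of_algebraMap_eq fun x => by
      rw [RingHom.algebraMap_toAlgebra, IsLocalization.lift_eq]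
  haveI : Algebra.IsIntegral (Localization.AtPrime m.asIdeal) (B ⧸ q'.asIdeal) :=
    Algebra.IsIntegral.tower_top (R := A)
  exact Groth.Agent.Lib.HenselIntegralLocal.isLocalRing_of_isDomain_of_isIntegral
    (Localization.AtPrime m.asIdeal) (B ⧸ q'.asIdeal)

lemma eq_of_le_of_le (hW : IsWLocal (PrimeSpectrum A))
    (hH : ∀ (m : Ideal A) [m.IsMaximal], HenselianLocalRing (Localization.AtPrime m))
    (q' : PrimeSpectrum B) (n₁ n₂ : Ideal B) [h₁ : n₁.IsMaximal] [h₂ : n₂.IsMaximal]
    (hle₁ : q'.asIdeal ≤ n₁) (hle₂ : q'.asIdeal ≤ n₂) : n₁ = n₂ := by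
  haveI := isLocalRing_quotient hW hH q'
  have hsurj : Function.Surjective (Ideal.Quotient.mk q'.asIdeal) := Ideal.Quotient.mk_surjective
  have key : ∀ (n : Ideal B) [n.IsMaximal], q'.asIdeal ≤ n →
      n = (maximalIdeal (B ⧸ q'.asIdeal)).comap (Ideal.Quotient.mk q'.asIdeal) := by
    intro n hn hle
    have hcm : (n.map (Ideal.Quotient.mk q'.asIdeal)).comap (Ideal.Quotient.mk q'.asIdeal) = n := by
      rw [Ideal.comap_map_of_surjective _ hsurj, ← RingHom.ker_eq_comap_bot, Ideal.mk_ker]
      exact sup_eq_left.2 hle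
    rcases Ideal.map_eq_top_or_isMaximal_of_surjective _ hsurj hn with h | h
    · exfalso
      rw [h, Ideal.comap_top] at hcm
      exact hn.ne_top hcm.symm
    · rw [← IsLocalRing.eq_maximalIdeal h, hcm]
  rw [key n₁ hle₁, key n₂ hle₂]


theorem isWLocal_of_integral (hW : IsWLocal (PrimeSpectrum A))
    (hH : ∀ (m : Ideal A) [m.IsMaximal], HenselianLocalRing (Localization.AtPrime m)) :
    IsWLocal (PrimeSpectrum B) := by
  refine ⟨inferInstance, ?_, ?_⟩
  · rw [closedPoints_eq_preimage (A := A)]
    exact hW.2.1.preimage (continuous_comap (algebraMap A B))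
  · intro q'
    obtain ⟨n, hn, hle⟩ := Ideal.exists_le_maximal q'.asIdeal q'.2.ne_top
    refine ⟨⟨n, hn.isPrime⟩, ⟨(isClosed_singleton_iff_isMaximal _).2 hn,
      (le_iff_specializes _ _).1 hle⟩, ?_⟩
    rintro n' ⟨hn'c, hn's⟩
    haveI hn'max := (isClosed_singleton_iff_isMaximal n').1 hn'c
    have := eq_of_le_of_le hW hH q' n'.asIdeal n ((le_iff_specializes _ _).2 hn's) hle
    exact PrimeSpectrum.ext this

end integral

section strict

/-- a local ring integral over a strictly henselian local ring is strictly henselian. -/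
lemma isStrictlyHenselian_of_isIntegral (R S : Type u) [CommRing R] [CommRing S] [Algebra R S]
    [HenselianLocalRing R] [IsSepClosed (ResidueField R)] [IsLocalRing S]
    [Algebra.IsIntegral R S] : EtCoh.IsStrictlyHenselianLocalRing S := by
  haveI : HenselianLocalRing S :=
    Groth.Agent.Lib.HenselIntegralLocal.henselianLocalRing_of_isIntegral R S
  haveI : IsLocalHom (algebraMap R S) := Groth.Agent.Lib.HenselTransfer22.isLocalHom_of_isIntegral
  haveI : Algebra.IsIntegral (ResidueField R) (ResidueField S) :=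
    Groth.Agent.Lib.TensorPurelyInsepHensel61.isIntegral_residueField R S
  haveI : Algebra.IsAlgebraic (ResidueField R) (ResidueField S) := Algebra.IsIntegral.isAlgebraic
  exact ⟨inferInstance, Algebra.IsAlgebraic.isSepClosed (F := ResidueField R)⟩

lemma isStrictlyHenselian_of_ringEquiv {S S' : Type u} [CommRing S] [CommRing S'] (e : S ≃+* S')
    (h : EtCoh.IsStrictlyHenselianLocalRing S') : EtCoh.IsStrictlyHenselianLocalRing S := by
  obtain ⟨h1, h2⟩ := h
  haveI : HenselianLocalRing S := Groth.Agent.Lib.HenselTransfer22.henselianLocalRing_of_ringEquiv e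
  refine ⟨inferInstance, ?_⟩
  exact Groth.Agent.Lib.H15EDQuasiFinite.isSepClosed_of_ringEquiv
    (IsLocalRing.ResidueField.mapEquiv e).symm

lemma isLocalization_atPrime_of_eq {R : Type*} [CommRing R] (n' n : Ideal R) [n'.IsPrime]
    [n.IsPrime] (h : n' = n) (T : Type*) [CommRing T] [Algebra R T]
    [IsLocalization.AtPrime T n'] : IsLocalization.AtPrime T n := by
  subst h
  infer_instance

variable [Algebra.IsIntegral A B]

theorem isStrictlyHenselian_atPrime
    (hSH : ∀ (m : Ideal A) [m.IsMaximal],
      EtCoh.IsStrictlyHenselianLocalRing (Localization.AtPrime m))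
    (n : Ideal B) [hn : n.IsMaximal] :
    EtCoh.IsStrictlyHenselianLocalRing (Localization.AtPrime n) := by
  set m : Ideal A := n.comap (algebraMap A B) with hm
  haveI hmmax : m.IsMaximal := Ideal.isMaximal_comap_of_isIntegral_of_isMaximal n
  obtain ⟨hH, hS⟩ := hSH m
  let D := Localization (Algebra.algebraMapSubmonoid B m.primeCompl)
  haveI : Algebra.IsIntegral (Localization.AtPrime m) D := ⟨isIntegral_localization⟩
  have hdisj : Disjoint (Algebra.algebraMapSubmonoid B m.primeCompl : Set B) n := by
    rw [Set.disjoint_left]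
    rintro _ ⟨a, ha, rfl⟩ hb
    exact ha hb
  let Q : Ideal D := n.map (algebraMap B D)
  haveI hQ : Q.IsPrime := IsLocalization.isPrime_of_isPrime_disjoint
    (Algebra.algebraMapSubmonoid B m.primeCompl) D n hn.isPrime hdisj
  have hQn : Q.comap (algebraMap B D) = n := IsLocalization.under_map_of_isPrime_disjoint
    (Algebra.algebraMapSubmonoid B m.primeCompl) D hn.isPrime hdisj
  haveI hlies : Q.LiesOver (maximalIdeal (Localization.AtPrime m)) := by
    constructor
    have h1 : (Q.under (Localization.AtPrime m)).under A = m := by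
      rw [Ideal.under_def, Ideal.under_def, Ideal.comap_comap, ← IsScalarTower.algebraMap_eq,
        IsScalarTower.algebraMap_eq A B D, ← Ideal.comap_comap, hQn]
    rw [← IsLocalization.map_under m.primeCompl (Localization.AtPrime m)
      (Q.under (Localization.AtPrime m)), h1, Localization.AtPrime.map_eq_maximalIdeal]
  haveI : Algebra.IsIntegral (Localization.AtPrime m) (Localization.AtPrime Q) :=
    Groth.Agent.Lib.HenselIntegralLocalization61.isIntegral_localization_atPrime
      (Localization.AtPrime m) D Q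
  have h1 : EtCoh.IsStrictlyHenselianLocalRing (Localization.AtPrime Q) :=
    isStrictlyHenselian_of_isIntegral (Localization.AtPrime m) (Localization.AtPrime Q)
  haveI : IsLocalization.AtPrime (Localization.AtPrime Q) (Q.comap (algebraMap B D)) :=
    IsLocalization.isLocalization_isLocalization_atPrime_isLocalization
      (Algebra.algebraMapSubmonoid B m.primeCompl) (Localization.AtPrime Q) Q
  haveI : IsLocalization.AtPrime (Localization.AtPrime Q) n :=
    isLocalization_atPrime_of_eq _ _ hQn _
  let e : Localization.AtPrime n ≃ₐ[B] Localization.AtPrime Q :=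
    IsLocalization.algEquiv n.primeCompl _ _
  exact isStrictlyHenselian_of_ringEquiv e.toRingEquiv h1

end strict


section homeo

/-- `Spec (R ⧸ J)` is homeomorphic to the subspace `Z` when `V(J) = Z`. -/
noncomputable def homeoZeroLocus {R : Type u} [CommRing R] (J : Ideal R)
    (Z : Set (PrimeSpectrum R)) (h : zeroLocus (J : Set R) = Z) : PrimeSpectrum (R ⧸ J) ≃ₜ Z :=
  (isClosedEmbedding_comap_of_surjective (R ⧸ J) (Ideal.Quotient.mk J)
    Ideal.Quotient.mk_surjective).isEmbedding.toHomeomorph.trans
    (Homeomorph.setCongr (by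
      rw [range_comap_of_surjective _ _ Ideal.Quotient.mk_surjective, Ideal.mk_ker, h]))

lemma homeoZeroLocus_apply {R : Type u} [CommRing R] (J : Ideal R)
    (Z : Set (PrimeSpectrum R)) (h : zeroLocus (J : Set R) = Z) (p : PrimeSpectrum (R ⧸ J)) :
    (homeoZeroLocus J Z h p : PrimeSpectrum R) = comap (Ideal.Quotient.mk J) p := rfl

end homeo


section ED

open Groth.Agent.Lib.H15WLocUniv Groth.Agent.Lib.H15WLocalIndZar

variable [Module.Finite A B] [Algebra.FinitePresentation A B]

theorem extremallyDisconnected_pi0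
    (hW : IsWLocal (PrimeSpectrum A))
    (hED : ExtremallyDisconnected (ConnectedComponents (PrimeSpectrum A)))
    (hS : ∀ (m : Ideal A) [m.IsMaximal], IsSepClosed m.ResidueField)
    (hWB : IsWLocal (PrimeSpectrum B)) :
    ExtremallyDisconnected (ConnectedComponents (PrimeSpectrum B)) := by
  let ZA : Set (PrimeSpectrum A) := {p | IsClosed ({p} : Set (PrimeSpectrum A))}
  let ZB : Set (PrimeSpectrum B) := {q | IsClosed ({q} : Set (PrimeSpectrum B))}
  let I : Ideal A := vanishingIdeal ZA
  have hI : zeroLocus (I : Set A) = ZA := by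
    rw [zeroLocus_vanishingIdeal_eq_closure]
    exact hW.2.1.closure_eq
  have hIB : zeroLocus ((I.map (algebraMap A B) : Ideal B) : Set B) = ZB := by
    change _ = {q : PrimeSpectrum B | IsClosed ({q} : Set (PrimeSpectrum B))}
    rw [closedPoints_eq_preimage (A := A)]
    change _ = comap (algebraMap A B) ⁻¹' ZA
    rw [← hI, preimage_comap_zeroLocus, Ideal.map, zeroLocus_span]
  let eA : PrimeSpectrum (A ⧸ I) ≃ₜ ZA := homeoZeroLocus I ZA hI
  let eB : PrimeSpectrum (B ⧸ I.map (algebraMap A B)) ≃ₜ ZB := homeoZeroLocus _ ZB hIB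
  haveI : ExtremallyDisconnected (Zc A) := extremallyDisconnected_of_homeo (homeoZ hW).symm
  haveI : ExtremallyDisconnected ZA := ‹ExtremallyDisconnected (Zc A)›
  haveI : ExtremallyDisconnected (PrimeSpectrum (A ⧸ I)) :=
    extremallyDisconnected_of_homeo eA.symm
  haveI : T2Space ZA := t2Space_Zc hW
  haveI : T2Space (PrimeSpectrum (A ⧸ I)) := eA.symm.t2Space
  have hres : ∀ p : PrimeSpectrum (A ⧸ I), IsSepClosed p.asIdeal.ResidueField := by
    intro p
    let m : Ideal A := p.asIdeal.comap (Ideal.Quotient.mk I)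
    have hmZ : (comap (Ideal.Quotient.mk I) p) ∈ ZA := (eA p).2
    haveI hmmax : m.IsMaximal := (isClosed_singleton_iff_isMaximal _).1 hmZ
    haveI := hS m
    have hbij := (RingHom.surjectiveOnStalks_of_surjective
      (Ideal.Quotient.mk_surjective (I := I))).residueFieldMap_bijective m p.asIdeal rfl
    exact Groth.Agent.Lib.H15EDQuasiFinite.isSepClosed_of_ringEquiv (RingEquiv.ofBijective _ hbij)
  let φ := Algebra.TensorProduct.quotIdealMapEquivQuotTensor B I
  haveI : Module.Finite (A ⧸ I) (B ⧸ I.map (algebraMap A B)) :=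
    Module.Finite.equiv φ.symm.toLinearEquiv
  haveI : Algebra.FinitePresentation (A ⧸ I) (B ⧸ I.map (algebraMap A B)) :=
    Algebra.FinitePresentation.equiv φ.symm
  haveI : ExtremallyDisconnected (PrimeSpectrum (B ⧸ I.map (algebraMap A B))) :=
    Groth.Agent.Lib.H15EDQuasiFinite.main (A ⧸ I) _ hres
  haveI : ExtremallyDisconnected ZB := extremallyDisconnected_of_homeo eB
  haveI : ExtremallyDisconnected (Zc B) := ‹ExtremallyDisconnected ZB›
  exact extremallyDisconnected_of_homeo (homeoZ hWB)

end ED


/-- `S0679`: a finite, finitely presented algebra over a w-contractible ring is w-contractible. -/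
theorem main (A B : Type u) [CommRing A] [CommRing B] [Algebra A B] [Module.Finite A B]
    [Algebra.FinitePresentation A B] (h : EtPBC.IsWContractible A) : EtPBC.IsWContractible B := by
  obtain ⟨hW, hED, hSH⟩ := (Groth.Agent.Lib.WContr22.isWContractible_iff A).1 h
  have hH : ∀ (m : Ideal A) [m.IsMaximal], HenselianLocalRing (Localization.AtPrime m) := by
    intro m _
    obtain ⟨h1, -⟩ := hSH m
    exact h1
  have hS : ∀ (m : Ideal A) [m.IsMaximal], IsSepClosed m.ResidueField := by
    intro m _
    obtain ⟨h1, h2⟩ := hSH m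
    exact h2
  have hWB : IsWLocal (PrimeSpectrum B) := isWLocal_of_integral (A := A) hW hH
  exact (Groth.Agent.Lib.WContr22.isWContractible_iff B).2
    ⟨hWB, extremallyDisconnected_pi0 hW hED hS hWB,
      fun n _ => isStrictlyHenselian_atPrime (A := A) hSH n⟩

end Groth.Agent.Lib.H15WContrFinite
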