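import Groth.Agent.Lib.ProEtWC22c
import Mathlib.CategoryTheory.Sites.Subcanonical

/-!
# Weakly contractible objects of the small pro-étale site, part 4 (helper22)

* `nonempty_retraction_of_section`: sections of `Spec B → Y` give retractions of `Γ(Y) → B`;
* `isWContractible_of_isWC`: affine weakly contractible objects have w-contractible rings.
-/

set_option autoImplicit false
universe u

open CategoryTheory AlgebraicGeometry Limits MorphismProperty Opposite TopologicalSpace

namespace Groth.Agent.Lib.ProEtWC22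

variable {X : Scheme.{u}}

/-- A section of `Spec B ⟶ Spec Γ(Y) ≅ Y` gives a retraction of `Γ(Y) → B`. -/
theorem nonempty_retraction_of_section {Y : Scheme.{u}} [IsAffine Y] (B : Type u) [CommRing B]
    [Algebra Γ(Y, ⊤) B] (s : Y ⟶ Spec (CommRingCat.of B))
    (hs : s ≫ Spec.map (CommRingCat.ofHom (algebraMap Γ(Y, ⊤) B)) ≫ Y.isoSpec.inv = 𝟙 Y) :
    Nonempty (B →ₐ[Γ(Y, ⊤)] Γ(Y, ⊤)) := by
  let φ : Γ(Y, ⊤) ⟶ CommRingCat.of B := CommRingCat.ofHom (algebraMap Γ(Y, ⊤) B)
  have h1 : s ≫ Spec.map φ = Y.isoSpec.hom := by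
    rw [← Category.assoc] at hs
    exact (Iso.comp_inv_eq _).1 hs |>.trans (Category.id_comp _)
  have h2 : (Spec.map φ).appTop ≫ s.appTop = (Scheme.ΓSpecIso Γ(Y, ⊤)).hom := by
    rw [← Scheme.Hom.comp_appTop, h1, Scheme.isoSpec_hom, Scheme.toSpecΓ_appTop]
  let ρ : CommRingCat.of B ⟶ Γ(Y, ⊤) := (Scheme.ΓSpecIso (CommRingCat.of B)).inv ≫ s.appTop
  have hρ : φ ≫ ρ = 𝟙 _ := by
    show φ ≫ (Scheme.ΓSpecIso (CommRingCat.of B)).inv ≫ s.appTop = 𝟙 _
    rw [← Category.assoc, Scheme.ΓSpecIso_inv_naturality, Category.assoc, h2, Iso.inv_hom_id]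
  refine ⟨{ toRingHom := ρ.hom, commutes' := fun a => ?_ }⟩
  exact congrArg (fun f : Γ(Y, ⊤) ⟶ Γ(Y, ⊤) => f.hom a) hρ

/-- Affine weakly contractible objects have w-contractible rings of functions. -/
theorem isWContractible_of_isWC (U : X.ProEt) [IsAffine U.left] (h : ProEtS.IsWC U) :
    EtPBC.IsWContractible Γ(U.left, ⊤) := by
  intro B _ _ hff hWE
  obtain ⟨h1, h2⟩ := Groth.Agent.Lib.WContrSite22.weaklyEtale_and_surjective_SpecMap Γ(U.left, ⊤) B
  let q : Spec (CommRingCat.of B) ⟶ U.left :=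
    Spec.map (CommRingCat.ofHom (algebraMap Γ(U.left, ⊤) B)) ≫ U.left.isoSpec.inv
  haveI : WeaklyEtale q := inferInstance
  haveI : Surjective q := inferInstance
  let V : X.ProEt := Scheme.ProEt.mk (q ≫ U.hom)
  let gV : V ⟶ U := MorphismProperty.Over.homMk q
  have hcov : Sieve.generate (Presieve.singleton gV) ∈ Scheme.ProEt.topology X U := by
    rw [← Presieve.ofArrows_pUnit.{0}]
    apply Groth.Agent.Lib.ProEtCover22.generate_ofArrows_mem_topology
    · intro x
      obtain ⟨y, hy⟩ := (inferInstance : Surjective q).surj x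
      exact ⟨PUnit.unit, y, hy⟩
    · exact (QuasiCompactCover.singleton q :
        QuasiCompactCover (PreZeroHypercover.singleton.{0} q))
  let J := Scheme.ProEt.topology X
  let φ := (GrothendieckTopology.uliftYoneda.{u + 1} J).map gV
  have hepi : Epi φ := by
    rw [← Sheaf.isLocallySurjective_iff_epi]
    refine ⟨fun {Y} s => ?_⟩
    refine J.superset_covering ?_ (J.pullback_stable s.down hcov)
    rintro Y' f ⟨Y'', k, g', hg', hfac⟩
    cases hg'
    exact ⟨⟨k⟩, congrArg ULift.up hfac⟩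
  obtain ⟨⟨t⟩, ht⟩ := h _ _ φ hepi ⟨𝟙 U⟩
  have h3 : t ≫ gV = 𝟙 U := congrArg ULift.down ht
  have h4 : t.left ≫ q = 𝟙 U.left := congrArg (fun f => f.left) h3
  exact nonempty_retraction_of_section B t.left h4

end Groth.Agent.Lib.ProEtWC22
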