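
import Groth.Agent.S0715
import Groth.Agent.Lib.WContrSite22
import Groth.Agent.Lib.H15WContrFinite
import Groth.Agent.Lib.H15ClosedPush

set_option autoImplicit false
set_option linter.style.haveILetI false
universe u

open CategoryTheory CategoryTheory.Limits AlgebraicGeometry Opposite ProEtS

namespace Groth.Agent.Lib.H15ProEtFinitePush

variable {Z X : Scheme.{u}} (f : Z ⟶ X)

set_option backward.isDefEq.respectTransparency false in
/-- geometric input: base change of an affine w-contractible object along a finite f.p. morphism. -/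
theorem isWC_bcP [IsFinite f] [LocallyOfFinitePresentation f] (V : X.ProEt) [IsAffine V.left]
    (hV : EtPBC.IsWContractible ↥(Γ(V.left, ⊤))) : ProEtS.IsWC ((bcP f).obj V) := by
  let W : Z.ProEt := (bcP f).obj V
  let p : W.left ⟶ V.left := pullback.fst V.hom f
  haveI : IsFinite p := by
    dsimp only [p]
    infer_instance
  haveI : LocallyOfFinitePresentation p := by
    dsimp only [p]
    infer_instance
  haveI : IsAffine W.left := isAffine_of_isAffineHom p
  have h1 : (p.appTop).hom.Finite := Scheme.Hom.finite_appTop p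
  have h2 : (p.appTop).hom.FinitePresentation :=
    (HasRingHomProperty.iff_of_isAffine (P := @LocallyOfFinitePresentation) (f := p)).1 inferInstance
  letI : Algebra ↥(Γ(V.left, ⊤)) ↥(Γ(W.left, ⊤)) := (p.appTop).hom.toAlgebra
  haveI : Module.Finite ↥(Γ(V.left, ⊤)) ↥(Γ(W.left, ⊤)) := h1
  haveI : Algebra.FinitePresentation ↥(Γ(V.left, ⊤)) ↥(Γ(W.left, ⊤)) := h2
  have h3 : EtPBC.IsWContractible ↥(Γ(W.left, ⊤)) :=
    Groth.Agent.Lib.H15WContrFinite.main ↥(Γ(V.left, ⊤)) ↥(Γ(W.left, ⊤)) hV
  exact (Groth.Agent.S0715.result W).1 h3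


theorem epi_pushP [IsFinite f] [LocallyOfFinitePresentation f] [ProEtS.PCont f]
    {F G : ProEtS.AbP Z} (φ : F ⟶ G) [Epi φ] : Epi ((ProEtS.pushP f).map φ) := by
  rw [← Sheaf.isLocallySurjective_iff_epi']
  have hφ : Sheaf.IsLocallySurjective φ :=
    (Sheaf.isLocallySurjective_iff_epi' (φ := φ)).2 inferInstance
  let F' := (sheafCompose (Scheme.ProEt.topology Z) (forget AddCommGrpCat.{u+1})).obj F
  let G' := (sheafCompose (Scheme.ProEt.topology Z) (forget AddCommGrpCat.{u+1})).obj G
  let φ' : F' ⟶ G' := (sheafCompose (Scheme.ProEt.topology Z) (forget AddCommGrpCat.{u+1})).map φ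
  have hφ' : Epi φ' := by
    rw [← Sheaf.isLocallySurjective_iff_epi]
    exact (Presheaf.isLocallySurjective_iff_whisker_forget (Scheme.ProEt.topology Z) φ.hom).1 hφ
  constructor
  intro U s
  obtain ⟨ι, V, g, hcov, hV⟩ := Groth.Agent.Lib.WContrSite22.exists_wContractible_family U
  refine (Scheme.ProEt.topology X).superset_covering ?_ hcov
  rw [Sieve.generate_le_iff]
  rintro W _ ⟨i⟩
  haveI := (hV i).1
  have hwc := isWC_bcP f (V i) (hV i).2
  obtain ⟨t, ht⟩ := hwc F' G' φ' hφ' (G.obj.map ((bcP f).map (g i)).op s)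
  exact ⟨t, ht⟩


theorem main [IsFinite f] [LocallyOfFinitePresentation f] [ProEtS.PCont f] :
    PreservesFiniteLimits (ProEtS.pushP f) ∧ PreservesFiniteColimits (ProEtS.pushP f) := by
  have hlim : PreservesFiniteLimits (ProEtS.pushP f) := by
    have h0 : PreservesLimitsOfSize.{0, 0} (ProEtS.pushP f) :=
      (ProEtS.pullPushAdjP f).rightAdjoint_preservesLimits
    exact PreservesLimitsOfSize.preservesFiniteLimits _
  refine ⟨hlim, ?_⟩
  exact Groth.Agent.Lib.H15ClosedPush.preservesFiniteColimits_of_epi (ProEtS.pushP f)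
    (fun φ hφ => epi_pushP f φ)

end Groth.Agent.Lib.H15ProEtFinitePush
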