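
import Groth.Agent.Lib.H15WContrFinite
import Groth.Agent.Lib.H15ProEtFinitePush

set_option autoImplicit false
set_option linter.style.haveILetI false
universe u

open CategoryTheory CategoryTheory.Limits AlgebraicGeometry Opposite ProEtS

namespace Groth.Agent.Lib.H15ProEtClosedPush

section top

lemma extremallyDisconnected_of_isOpenEmbedding {X Y : Type*} [TopologicalSpace X]
    [TopologicalSpace Y] [ExtremallyDisconnected Y] (f : X → Y) (hf : Topology.IsOpenEmbedding f) :
    ExtremallyDisconnected X := by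
  refine ⟨fun U hU => ?_⟩
  rw [hf.isInducing.closure_eq_preimage_closure_image]
  exact (ExtremallyDisconnected.open_closure _ (hf.isOpenMap U hU)).preimage hf.continuous

end top

section ring

open PrimeSpectrum ProEtW Groth.Agent.Lib.H15WLocUniv Groth.Agent.Lib.H15WLocalIndZar
  Groth.Agent.Lib.H15WContrFinite

variable {A B : Type u} [CommRing A] [CommRing B] [Algebra A B]

theorem extremallyDisconnected_pi0_of_surjective
    (hsurj : Function.Surjective (algebraMap A B))
    (hc : IsCompact (Set.range (comap (algebraMap A B)))ᶜ)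
    (hW : IsWLocal (PrimeSpectrum A))
    (hED : ExtremallyDisconnected (_root_.ConnectedComponents (PrimeSpectrum A)))
    (hWB : IsWLocal (PrimeSpectrum B)) :
    ExtremallyDisconnected (_root_.ConnectedComponents (PrimeSpectrum B)) := by
  haveI : Algebra.IsIntegral A B := ⟨fun b => by obtain ⟨a, rfl⟩ := hsurj b; exact isIntegral_algebraMap⟩
  haveI : ExtremallyDisconnected (Zc A) := extremallyDisconnected_of_homeo (homeoZ hW).symm
  haveI : T2Space (Zc A) := t2Space_Zc hW
  let c : Zc B → Zc A := fun q => ⟨comap (algebraMap A B) q.1,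
    (isClosed_singleton_comap_iff q.1).2 q.2⟩
  have hcc : Continuous c := ((continuous_comap (algebraMap A B)).comp continuous_subtype_val).subtype_mk _
  have hemb : Topology.IsEmbedding c := by
    refine Topology.IsEmbedding.of_comp hcc continuous_subtype_val ?_
    exact (isClosedEmbedding_comap_of_surjective B (algebraMap A B) hsurj).isEmbedding.comp
      Topology.IsEmbedding.subtypeVal
  have hrange : Set.range c = (Subtype.val ⁻¹' (Set.range (comap (algebraMap A B)))ᶜ)ᶜ := by
    ext p
    simp only [Set.mem_range, Set.mem_compl_iff, Set.mem_preimage, not_not]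
    constructor
    · rintro ⟨q, rfl⟩
      exact ⟨q.1, rfl⟩
    · rintro ⟨q, hq⟩
      refine ⟨⟨q, (isClosed_singleton_comap_iff q).1 (by rw [hq]; exact p.2)⟩, Subtype.ext hq⟩
  have hopen : IsOpen (Set.range c) := by
    rw [hrange, isOpen_compl_iff]
    apply IsCompact.isClosed
    exact (hW.2.1.isClosedEmbedding_subtypeVal).isCompact_preimage hc
  haveI : ExtremallyDisconnected (Zc B) :=
    extremallyDisconnected_of_isOpenEmbedding c ⟨hemb, hopen⟩
  exact extremallyDisconnected_of_homeo (homeoZ hWB)

theorem isWContractible_of_surjective (A B : Type u) [CommRing A] [CommRing B] [Algebra A B]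
    (hsurj : Function.Surjective (algebraMap A B))
    (hc : IsCompact (Set.range (comap (algebraMap A B)))ᶜ)
    (h : EtPBC.IsWContractible A) : EtPBC.IsWContractible B := by
  haveI : Algebra.IsIntegral A B := ⟨fun b => by obtain ⟨a, rfl⟩ := hsurj b; exact isIntegral_algebraMap⟩
  obtain ⟨hW, hED, hSH⟩ := (Groth.Agent.Lib.WContr22.isWContractible_iff A).1 h
  have hH : ∀ (m : Ideal A) [m.IsMaximal], HenselianLocalRing (Localization.AtPrime m) := by
    intro m _
    obtain ⟨h1, -⟩ := hSH m
    exact h1
  have hWB : IsWLocal (PrimeSpectrum B) := isWLocal_of_integral (A := A) hW hH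
  exact (Groth.Agent.Lib.WContr22.isWContractible_iff B).2
    ⟨hWB, extremallyDisconnected_pi0_of_surjective hsurj hc hW hED hWB,
      fun n _ => isStrictlyHenselian_atPrime (A := A) hSH n⟩

end ring

section geom

lemma isRetrocompact_preimage {X Y : Scheme.{u}} (f : X ⟶ Y) {t : Set Y} (ht : IsOpen t)
    (ht' : IsRetrocompact t) : IsRetrocompact (f ⁻¹' t) :=
  IsRetrocompact_iff_isSpectralMap_subtypeVal.mpr
    (quasiCompact_iff_isSpectralMap.mp
    (MorphismProperty.of_isPullback (P := @QuasiCompact)
    (isPullback_morphismRestrict f ⟨t, ht⟩)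
    (quasiCompact_iff_isSpectralMap.mpr (IsRetrocompact_iff_isSpectralMap_subtypeVal.mp ht'))))

/-- compactness of the complement of the image of `Spec` of global sections. -/
lemma isCompact_compl_range_SpecMap {W V : Scheme.{u}} [IsAffine W] [IsAffine V] (p : W ⟶ V)
    (hc : IsCompact (Set.range p)ᶜ) :
    IsCompact (Set.range (Spec.map p.appTop))ᶜ := by
  have hnat := Scheme.isoSpec_hom_naturality p
  have hr : (Set.range (Spec.map p.appTop))ᶜ = V.isoSpec.hom '' (Set.range p)ᶜ := by
    ext x
    constructor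
    · intro h
      refine ⟨V.isoSpec.inv x, ?_, Scheme.inv_hom_apply _ x⟩
      rintro ⟨w, hw⟩
      apply h
      refine ⟨W.isoSpec.hom w, ?_⟩
      have : (W.isoSpec.hom ≫ Spec.map p.appTop) w = x := by
        rw [hnat, Scheme.Hom.comp_apply, hw, Scheme.inv_hom_apply]
      exact this
    · rintro ⟨v, hv, rfl⟩ ⟨y, hy⟩
      apply hv
      refine ⟨W.isoSpec.inv y, ?_⟩
      have h1 : (W.isoSpec.hom ≫ Spec.map p.appTop) (W.isoSpec.inv y) = V.isoSpec.hom v := by
        rw [Scheme.Hom.comp_apply, Scheme.inv_hom_apply]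
        exact hy
      rw [hnat, Scheme.Hom.comp_apply] at h1
      have h2 := congrArg V.isoSpec.inv h1
      rwa [Scheme.hom_inv_apply, Scheme.hom_inv_apply] at h2
  rw [hr]
  exact hc.image V.isoSpec.hom.continuous

lemma isCompact_compl_range_comap {W V : Scheme.{u}} [IsAffine W] [IsAffine V] (p : W ⟶ V)
    (hc : IsCompact (Set.range p)ᶜ) :
    IsCompact (Set.range (PrimeSpectrum.comap p.appTop.hom))ᶜ :=
  isCompact_compl_range_SpecMap p hc

end geom

section main

variable {Z X : Scheme.{u}} (i : Z ⟶ X)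

set_option backward.isDefEq.respectTransparency false in
theorem isWC_bcP_closed [IsClosedImmersion i] (hr : IsRetrocompact (Set.range i.base)ᶜ)
    (V : X.ProEt) [IsAffine V.left]
    (hV : EtPBC.IsWContractible ↥(Γ(V.left, ⊤))) : ProEtS.IsWC ((bcP i).obj V) := by
  let W : Z.ProEt := (bcP i).obj V
  let p : W.left ⟶ V.left := pullback.fst V.hom i
  haveI : IsClosedImmersion p := by
    dsimp only [p]
    infer_instance
  obtain ⟨haff, hsurj⟩ := IsClosedImmersion.isAffine_surjective_of_isAffine p
  haveI : IsAffine W.left := haff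
  have hopen : IsOpen (Set.range i.base)ᶜ := i.isClosedEmbedding.isClosed_range.isOpen_compl
  have hrc : IsRetrocompact (V.hom ⁻¹' (Set.range i.base)ᶜ) :=
    isRetrocompact_preimage V.hom hopen hr
  have hrange : (Set.range p)ᶜ = V.hom ⁻¹' (Set.range i.base)ᶜ := by
    rw [Set.preimage_compl]
    congr 1
    exact Scheme.Pullback.range_fst V.hom i
  have hc : IsCompact (Set.range p)ᶜ := by
    rw [hrange]
    haveI : CompactSpace ↥V.left := inferInstance
    have := hrc (U := Set.univ) (CompactSpace.isCompact_univ (X := ↥V.left)) isOpen_univ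
    rwa [Set.inter_univ] at this
  have hc' := isCompact_compl_range_comap p hc
  letI : Algebra ↥(Γ(V.left, ⊤)) ↥(Γ(W.left, ⊤)) := (p.appTop).hom.toAlgebra
  have h3 : EtPBC.IsWContractible ↥(Γ(W.left, ⊤)) :=
    isWContractible_of_surjective ↥(Γ(V.left, ⊤)) ↥(Γ(W.left, ⊤)) hsurj hc' hV
  exact (Groth.Agent.S0715.result W).1 h3

theorem epi_pushP_of_isWC (f : Z ⟶ X) [ProEtS.PCont f]
    (hwc : ∀ (V : X.ProEt) [IsAffine V.left], EtPBC.IsWContractible ↥(Γ(V.left, ⊤)) →
      ProEtS.IsWC ((bcP f).obj V))
    {F G : ProEtS.AbP Z} (φ : F ⟶ G) [Epi φ] : Epi ((ProEtS.pushP f).map φ) := by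
  rw [← Sheaf.isLocallySurjective_iff_epi']
  have hφ : Sheaf.IsLocallySurjective φ :=
    (Sheaf.isLocallySurjective_iff_epi' (φ := φ)).2 inferInstance
  let F' := (sheafCompose (Scheme.ProEt.topology Z) (forget AddCommGrpCat.{u+1})).obj F
  let G' := (sheafCompose (Scheme.ProEt.topology Z) (forget AddCommGrpCat.{u+1})).obj G
  let φ' : F' ⟶ G' := (sheafCompose (Scheme.ProEt.topology Z) (forget AddCommGrpCat.{u+1})).map φ
  have hφ' : Epi φ' := by
    rw [← Sheaf.isLocallySurjective_iff_epi]
    exact (Presheaf.isLocallySurjective_iff_whisker_forget (Scheme.ProEt.topology Z) φ.hom).1 hφ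
  constructor
  intro U s
  obtain ⟨ι, V, g, hcov, hV⟩ := Groth.Agent.Lib.WContrSite22.exists_wContractible_family U
  refine (Scheme.ProEt.topology X).superset_covering ?_ hcov
  rw [Sieve.generate_le_iff]
  rintro W _ ⟨i⟩
  haveI := (hV i).1
  have hwc' := hwc (V i) (hV i).2
  obtain ⟨t, ht⟩ := hwc' F' G' φ' hφ' (G.obj.map ((bcP f).map (g i)).op s)
  exact ⟨t, ht⟩

theorem main [IsClosedImmersion i] (hr : IsRetrocompact (Set.range i.base)ᶜ) [ProEtS.PCont i] :
    PreservesFiniteLimits (ProEtS.pushP i) ∧ PreservesFiniteColimits (ProEtS.pushP i) := by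
  have hlim : PreservesFiniteLimits (ProEtS.pushP i) := by
    have h0 : PreservesLimitsOfSize.{0, 0} (ProEtS.pushP i) :=
      (ProEtS.pullPushAdjP i).rightAdjoint_preservesLimits
    exact PreservesLimitsOfSize.preservesFiniteLimits _
  refine ⟨hlim, ?_⟩
  exact Groth.Agent.Lib.H15ClosedPush.preservesFiniteColimits_of_epi (ProEtS.pushP i)
    (fun φ hφ => epi_pushP_of_isWC i (fun V _ hV => isWC_bcP_closed i hr V hV) φ)

end main

end Groth.Agent.Lib.H15ProEtClosedPush
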