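import Groth.Prelude.Def_EtModW
import Groth.Prelude.Def_ARSys
import Mathlib.CategoryTheory.Linear.FunctorCategory
import Mathlib.RingTheory.Ideal.Operations
import Groth.Agent.Lib.H60ExactDerived
import Mathlib.CategoryTheory.Sites.EpiMono
import Mathlib.Algebra.Homology.ShortComplex.ModuleCat

/-!
# Sections over weakly contractible objects commute with `F/IF` (helper22)
-/

set_option autoImplicit false
set_option linter.style.haveILetI false
universe u

open CategoryTheory CategoryTheory.Limits AlgebraicGeometry Opposite EtModW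

namespace Groth.Agent.Lib.ProEtQuot22

variable (Λ : Type (u + 1)) [CommRing Λ] {X : Scheme.{u}}

/-- Sections over `U` of sheaves of `Λ`-modules. -/
noncomputable abbrev secU (U : X.ProEt) : EtModW.ModP Λ X ⥤ ModuleCat.{u + 1} Λ :=
  sheafToPresheaf (Scheme.ProEt.topology X) (ModuleCat.{u + 1} Λ) ⋙ (evaluation _ _).obj (op U)

variable {Λ}

theorem surjective_of_epi (U : X.ProEt) (hU : ProEtS.IsWC U) {F G : EtModW.ModP Λ X} (φ : F ⟶ G)
    (hφ : Epi φ) : Function.Surjective (φ.hom.app (op U)).hom := by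
  rw [← Sheaf.isLocallySurjective_iff_epi' (ModuleCat.{u + 1} Λ)] at hφ
  let J := Scheme.ProEt.topology X
  let φ' := (sheafCompose J (forget (ModuleCat.{u + 1} Λ))).map φ
  have hφ' : Epi φ' := by
    rw [← Sheaf.isLocallySurjective_iff_epi]
    exact (Presheaf.isLocallySurjective_iff_whisker_forget J φ.hom).1 hφ
  intro s
  obtain ⟨t, ht⟩ := hU _ _ φ' hφ' s
  exact ⟨t, ht⟩

theorem preservesFiniteColimits_secU (U : X.ProEt) (hU : ProEtS.IsWC U) :
    PreservesFiniteColimits (secU Λ U) :=
  Groth.Agent.Lib.H60ExactDerived.preservesFiniteColimits_of_preservesEpi (secU Λ U)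
    (fun φ hφ => (ModuleCat.epi_iff_surjective _).2 (surjective_of_epi U hU φ hφ))

theorem main (I : Ideal Λ) (hI : I.FG) (F Q : EtModW.ModP Λ X) (p : F ⟶ Q)
    (hp : ARSys.IsQuot I p) (U : X.ProEt) (hU : ProEtS.IsWC U) :
    Function.Surjective (p.hom.app (op U)).hom ∧
      LinearMap.ker (p.hom.app (op U)).hom = I • (⊤ : Submodule Λ (F.obj.obj (op U))) := by
  obtain ⟨hQ, huniv⟩ := hp
  obtain ⟨k, a, ha⟩ := Submodule.fg_iff_exists_fin_generating_family.1 hI
  have haI : ∀ i, a i ∈ I := fun i => ha ▸ Submodule.subset_span ⟨i, rfl⟩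
  -- `p` is an epimorphism
  have hepi : Epi p := by
    refine ⟨fun {Z} ψ₁ ψ₂ h => ?_⟩
    have hk : ARSys.HomKilledBy I (p ≫ ψ₁) := fun b hb => by
      have h1 : b • (p ≫ ψ₁) = p ≫ (b • 𝟙 Q) ≫ ψ₁ := by
        rw [Linear.smul_comp, Category.id_comp, Linear.comp_smul]
      rw [h1, hQ b hb, zero_comp, comp_zero]
    obtain ⟨ψ, -, hψ⟩ := huniv Z (p ≫ ψ₁) hk
    rw [hψ ψ₁ rfl, hψ ψ₂ h.symm]
  refine ⟨surjective_of_epi U hU p hepi, ?_⟩
  -- the map `g : F^k ⟶ F`
  haveI : HasFiniteBiproducts (EtModW.ModP Λ X) := HasFiniteBiproducts.of_hasFiniteProducts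
  let g : (⨁ fun _ : Fin k => F) ⟶ F := biproduct.desc (fun i => a i • 𝟙 F)
  have hιg : ∀ i, biproduct.ι (fun _ : Fin k => F) i ≫ g = a i • 𝟙 F := fun i =>
    biproduct.ι_desc _ _
  have hgp : g ≫ p = 0 := by
    refine biproduct.hom_ext' _ _ (fun i => ?_)
    rw [← Category.assoc, hιg i, comp_zero, Linear.smul_comp, Category.id_comp]
    have h1 : a i • p = p ≫ (a i • 𝟙 Q) := by rw [Linear.comp_smul, Category.comp_id]
    rw [h1, hQ (a i) (haI i), comp_zero]
  -- the cokernel of `g` is killed by `I`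
  have hc : ARSys.HomKilledBy I (cokernel.π g) := by
    intro b hb
    rw [← ha] at hb
    obtain ⟨r, rfl⟩ := (Submodule.mem_span_range_iff_exists_fun Λ).1 hb
    rw [Finset.sum_smul]
    refine Finset.sum_eq_zero (fun i _ => ?_)
    have h1 : (r i • a i) • cokernel.π g = r i • ((a i • 𝟙 F) ≫ cokernel.π g) := by
      rw [Linear.smul_comp, Category.id_comp, smul_smul, smul_eq_mul]
    rw [h1, ← hιg i, Category.assoc, cokernel.condition, comp_zero, smul_zero]
  obtain ⟨ψ, hψ, -⟩ := huniv _ (cokernel.π g) hc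
  -- exactness
  have hex : (ShortComplex.mk g p hgp).Exact := by
    rw [ShortComplex.exact_iff_kernel_ι_comp_cokernel_π_zero]
    change kernel.ι p ≫ cokernel.π g = 0
    rw [← hψ, ← Category.assoc, kernel.condition, zero_comp]
  haveI := preservesFiniteColimits_secU (Λ := Λ) U hU
  have hex' : ((ShortComplex.mk g p hgp).map (secU Λ U)).Exact := hex.map (secU Λ U)
  apply le_antisymm
  · intro s hs
    obtain ⟨y, hy⟩ := (ShortComplex.moduleCat_exact_iff _).1 hex' s hs
    have htot := congrArg (fun f => (f.hom.app (op U)).hom y)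
      (biproduct.total (f := fun _ : Fin k => F))
    have hsum : ((∑ j : Fin k, biproduct.π (fun _ : Fin k => F) j ≫
        biproduct.ι (fun _ : Fin k => F) j).hom.app (op U)).hom y =
        ∑ j : Fin k, ((biproduct.ι (fun _ : Fin k => F) j).hom.app (op U)).hom
          (((biproduct.π (fun _ : Fin k => F) j).hom.app (op U)).hom y) := by
      have h1 : ∀ (t : Finset (Fin k)),
          ((∑ j ∈ t, biproduct.π (fun _ : Fin k => F) j ≫
            biproduct.ι (fun _ : Fin k => F) j).hom.app (op U)).hom y =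
          ∑ j ∈ t, ((biproduct.ι (fun _ : Fin k => F) j).hom.app (op U)).hom
            (((biproduct.π (fun _ : Fin k => F) j).hom.app (op U)).hom y) := by
        intro t
        induction t using Finset.induction_on with
        | empty => rfl
        | insert j t hj ih =>
          rw [Finset.sum_insert hj, Finset.sum_insert hj, ← ih]
          rfl
      exact h1 Finset.univ
    have hy' : s = (g.hom.app (op U)).hom y := hy.symm
    have hy2 : y = ∑ j : Fin k, ((biproduct.ι (fun _ : Fin k => F) j).hom.app (op U)).hom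
          (((biproduct.π (fun _ : Fin k => F) j).hom.app (op U)).hom y) :=
      (hsum.symm.trans htot).symm
    rw [hy', hy2, map_sum]
    refine Submodule.sum_mem _ (fun j _ => ?_)
    have h2 : (g.hom.app (op U)).hom (((biproduct.ι (fun _ : Fin k => F) j).hom.app (op U)).hom
        (((biproduct.π (fun _ : Fin k => F) j).hom.app (op U)).hom y)) =
        a j • (((biproduct.π (fun _ : Fin k => F) j).hom.app (op U)).hom y) :=
      congrArg (fun f => (f.hom.app (op U)).hom
        (((biproduct.π (fun _ : Fin k => F) j).hom.app (op U)).hom y)) (hιg j)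
    rw [h2]
    exact Submodule.smul_mem_smul (haI j) Submodule.mem_top
  · rw [Submodule.smul_le]
    intro b hb s _
    rw [LinearMap.mem_ker, map_smul]
    exact congrArg (fun f => (f.hom.app (op U)).hom ((p.hom.app (op U)).hom s)) (hQ b hb)

end Groth.Agent.Lib.ProEtQuot22
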