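import Groth.Agent.Lib.ProEtWC22d

/-!
# Weakly contractible covers in the small pro-étale site (helper22)

* `isWC_of_forall_opens`: an object with a pairwise disjoint open cover by weakly contractible
  objects is weakly contractible;
* `sigmaObj`, `sigmaHom`: the coproduct of the family `famObj`;
* `exists_isWC_cover`, `exists_affine_isWC_cover`: Bhatt–Scholze 4.2.8.
-/

set_option autoImplicit false
universe u

open CategoryTheory AlgebraicGeometry Limits MorphismProperty Opposite TopologicalSpace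

namespace Groth.Agent.Lib.ProEtWC22

variable {X : Scheme.{u}}

/-- An object with a pairwise disjoint open cover by weakly contractible objects is weakly
contractible. -/
theorem isWC_of_forall_opens (V : X.ProEt) {ι : Type*} (W : ι → V.left.Opens)
    (hW : IsOpenCover W) (hd : Pairwise (fun i j => Disjoint (W i) (W j)))
    (h : ∀ i, ProEtS.IsWC (opensObj V (W i))) : ProEtS.IsWC V := by
  intro F G φ hφ s
  exact exists_preimage_of_forall_opens V W φ hW hd s (fun i => h i F G φ hφ _)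

open Groth.Agent.Lib.ProEtCover22

section sigma

variable {U : X.ProEt} (𝒜 : Scheme.AffineOpenCover.{u} U.left) (D : 𝒜.I₀ → CommRingCat.{u})
  (φ : ∀ i, 𝒜.X i ⟶ D i) [∀ i, WeaklyEtale (Spec.map (φ i))]

instance weaklyEtale_sigmaDesc :
    WeaklyEtale (Sigma.desc (fun i => (famObj 𝒜 D φ i).hom) :
      (∐ fun i => Spec (D i)) ⟶ X) :=
  IsZariskiLocalAtSource.sigmaDesc (P := @WeaklyEtale) (fun i => (famObj 𝒜 D φ i).prop)

/-- The coproduct of the objects `famObj`. -/
noncomputable def sigmaObj : X.ProEt :=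
  Scheme.ProEt.mk (Sigma.desc (fun i => (famObj 𝒜 D φ i).hom) :
    (∐ fun i => Spec (D i)) ⟶ X)

/-- The morphism from the coproduct to `U`. -/
noncomputable def sigmaHom : sigmaObj 𝒜 D φ ⟶ U :=
  MorphismProperty.Over.homMk (Sigma.desc (fun i => (famHom 𝒜 D φ i).left)) (by
    refine Sigma.hom_ext _ _ (fun i => ?_)
    have h1 : Sigma.ι (fun i => Spec (D i)) i ≫
        Sigma.desc (fun i => (famHom 𝒜 D φ i).left) ≫ U.hom =
        (famHom 𝒜 D φ i).left ≫ U.hom := Sigma.ι_desc_assoc _ _ _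
    have h2 : Sigma.ι (fun i => Spec (D i)) i ≫
        Sigma.desc (fun i => (famObj 𝒜 D φ i).hom) = (famObj 𝒜 D φ i).hom := Sigma.ι_desc _ _
    exact h1.trans ((MorphismProperty.Over.w (famHom 𝒜 D φ i)).trans h2.symm))

@[simp] lemma sigmaObj_left : (sigmaObj 𝒜 D φ).left = ∐ fun i => Spec (D i) := rfl

theorem generate_singleton_sigmaHom_mem [∀ i, Surjective (Spec.map (φ i))] :
    Sieve.generate (Presieve.singleton (sigmaHom 𝒜 D φ)) ∈ Scheme.ProEt.topology X U := by
  refine (Scheme.ProEt.topology X).superset_covering ?_ (generate_fam_mem_topology 𝒜 D φ)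
  rw [Sieve.generate_le_iff]
  rintro _ _ ⟨i⟩
  have hw : Sigma.ι (fun i => Spec (D i)) i ≫ (sigmaObj 𝒜 D φ).hom = (famObj 𝒜 D φ i).hom :=
    Sigma.ι_desc _ _
  refine ⟨sigmaObj 𝒜 D φ, MorphismProperty.Over.homMk (Sigma.ι (fun i => Spec (D i)) i) hw,
    sigmaHom 𝒜 D φ, Presieve.singleton.mk, hom_ext' ?_⟩
  show Sigma.ι (fun i => Spec (D i)) i ≫ Sigma.desc (fun i => (famHom 𝒜 D φ i).left) = _
  rw [Sigma.ι_desc]

theorem isWC_sigmaObj (hD : ∀ i, EtPBC.IsWContractible (D i)) :
    ProEtS.IsWC (sigmaObj 𝒜 D φ) := by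
  let Y : 𝒜.I₀ → Scheme.{u} := fun i => Spec (D i)
  let W : 𝒜.I₀ → (sigmaObj 𝒜 D φ).left.Opens := fun i => (Sigma.ι Y i).opensRange
  refine isWC_of_forall_opens _ W ?_ ?_ (fun i => ?_)
  · rw [IsOpenCover, eq_top_iff]
    intro x _
    obtain ⟨k, y, hy⟩ := (sigmaOpenCover Y).exists_eq x
    rw [Opens.mem_iSup]
    exact ⟨k, y, hy⟩
  · intro k l hkl
    exact disjoint_opensRange_sigmaι Y k l hkl
  · haveI : IsAffine (opensObj (sigmaObj 𝒜 D φ) (W i)).left :=
      isAffineOpen_opensRange (Sigma.ι Y i)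
    apply isWC_of_hasClopenRefinements
    apply hasClopenRefinements_of_isWContractible
    let e : Y i ≅ (W i).toScheme := (Sigma.ι Y i).isoOpensRange
    let e' : Γ((W i).toScheme, ⊤) ≅ D i := Scheme.Γ.mapIso e.op ≪≫ Scheme.ΓSpecIso (D i)
    exact Groth.Agent.Lib.WContrSite22.isWContractible_of_ringEquiv
      e'.symm.commRingCatIsoToRingEquiv (hD i)

end sigma

/-- **Bhatt–Scholze 4.2.8**: for every affine open cover of `U.left` there is a single weakly
contractible object covering `U`, affine if the cover is finite. -/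
theorem exists_isWC_cover_of_affineOpenCover (U : X.ProEt)
    (𝒜 : Scheme.AffineOpenCover.{u} U.left) :
    ∃ (V : X.ProEt) (g : V ⟶ U),
      Sieve.generate (Presieve.singleton g) ∈ Scheme.ProEt.topology X U ∧ ProEtS.IsWC V ∧
        (Finite 𝒜.I₀ → IsAffine V.left) := by
  have hex : ∀ i : 𝒜.I₀, ∃ (D : Type u) (_ : CommRing D) (_ : Algebra (𝒜.X i) D),
      Module.FaithfullyFlat (𝒜.X i) D ∧ EtPBC.IsIndEtale (𝒜.X i) D ∧ EtPBC.IsWContractible D :=
    fun i => Groth.Agent.Lib.WContrCover22.exists_wContractible_cover (𝒜.X i)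
  choose D hD1 hD2 hff hIE hWC using hex
  let D' : 𝒜.I₀ → CommRingCat.{u} := fun i => CommRingCat.of (D i)
  let φ : ∀ i, 𝒜.X i ⟶ D' i := fun i => CommRingCat.ofHom (algebraMap (𝒜.X i) (D i))
  have hφ : ∀ i, WeaklyEtale (Spec.map (φ i)) ∧ Surjective (Spec.map (φ i)) := fun i => by
    haveI := Groth.Agent.S0736.result (𝒜.X i) (D i) (hIE i)
    haveI := hff i
    exact Groth.Agent.Lib.WContrSite22.weaklyEtale_and_surjective_SpecMap (𝒜.X i) (D i)
  haveI : ∀ i, WeaklyEtale (Spec.map (φ i)) := fun i => (hφ i).1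
  haveI : ∀ i, Surjective (Spec.map (φ i)) := fun i => (hφ i).2
  refine ⟨sigmaObj 𝒜 D' φ, sigmaHom 𝒜 D' φ, generate_singleton_sigmaHom_mem 𝒜 D' φ,
    isWC_sigmaObj 𝒜 D' φ hWC, fun hfin => ?_⟩
  show IsAffine (∐ fun i => Spec (D' i))
  infer_instance

/-- Every object of the small pro-étale site is covered by a single weakly contractible
object. -/
theorem exists_isWC_cover (U : X.ProEt) :
    ∃ (V : X.ProEt) (g : V ⟶ U),
      Sieve.generate (Presieve.singleton g) ∈ Scheme.ProEt.topology X U ∧ ProEtS.IsWC V := by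
  obtain ⟨V, g, h1, h2, -⟩ := exists_isWC_cover_of_affineOpenCover U U.left.affineOpenCover
  exact ⟨V, g, h1, h2⟩

/-- A quasi-compact scheme has a finite affine open cover. -/
theorem exists_finite_affineOpenCover (Y : Scheme.{u}) [CompactSpace Y] :
    ∃ 𝒜 : Scheme.AffineOpenCover.{u} Y, Finite 𝒜.I₀ := by
  let 𝒜₀ := Y.affineOpenCover
  obtain ⟨t, ht⟩ := CompactSpace.elim_nhds_subcover
    (fun x : Y => Set.range (𝒜₀.f (𝒜₀.idx x)))
    (fun x => (IsOpenImmersion.isOpen_range (𝒜₀.f (𝒜₀.idx x))).mem_nhds (𝒜₀.covers x))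
  have h : ∀ x : Y, ∃ y : t, x ∈ Set.range (𝒜₀.f (𝒜₀.idx y.1)) := by
    intro x
    have h' : x ∈ (⊤ : Set Y) := trivial
    rw [← ht, Set.mem_iUnion] at h'
    rcases h' with ⟨y, _, ⟨hy, rfl⟩, hy'⟩
    exact ⟨⟨y, hy⟩, hy'⟩
  choose idx hidx using h
  exact ⟨{ I₀ := t
           X := fun j => 𝒜₀.X (𝒜₀.idx j.1)
           f := fun j => 𝒜₀.f (𝒜₀.idx j.1)
           idx := idx
           covers := hidx
           map_prop := fun j => 𝒜₀.map_prop _ }, inferInstance⟩

/-- Every quasi-compact object of the small pro-étale site is covered by a single affine weakly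
contractible object. -/
theorem exists_affine_isWC_cover (U : X.ProEt) [CompactSpace U.left] :
    ∃ (V : X.ProEt) (g : V ⟶ U),
      Sieve.generate (Presieve.singleton g) ∈ Scheme.ProEt.topology X U ∧ IsAffine V.left ∧
        ProEtS.IsWC V := by
  obtain ⟨𝒜, hfin⟩ := exists_finite_affineOpenCover U.left
  obtain ⟨V, g, h1, h2, h3⟩ := exists_isWC_cover_of_affineOpenCover U 𝒜
  exact ⟨V, g, h1, h3 hfin, h2⟩

end Groth.Agent.Lib.ProEtWC22
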