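import Groth.Prelude.Def_ProEtDC
import Groth.Agent.Lib.OverShriek
import Groth.Agent.Lib.ProEtQuot22
import Groth.Agent.Lib.ProEtWC22e
import Groth.Agent.Lib.H15ExtVanish
import Groth.Agent.Lib.H15DCModule
import Mathlib.Algebra.Category.ModuleCat.AB
import Mathlib.Algebra.Category.ModuleCat.Projective
import Mathlib.Algebra.Homology.ShortComplex.ModuleCat
import Mathlib.Algebra.Homology.ShortComplex.ExactFunctor
import Mathlib.CategoryTheory.Sites.ConstantSheaf

/-!
# Derived complete sheaves on the pro-etale site, part A (helper15)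

* `LU Λ U : ModuleCat Λ ⥤ ModP Λ X`, `M ↦ j_{U!} M_const`, with `adjLU : LU Λ U ⊣ secU Λ U`;
  `LU` is exact (instances), `LU_map_smul`.
* `projective_LU`: `LU V P` is projective for `V` weakly contractible and `P` projective.
* `ext_locExt_subsingleton`: `V` weakly contractible, `F(V)` derived `f`-complete ⇒
  `Ext^n(j_{V!} Λ_f, F) = 0` for all `n`; `dcSeq_of_ext_subsingleton`: the converse.
-/

set_option autoImplicit false
set_option linter.style.haveILetI false
universe u

open CategoryTheory CategoryTheory.Limits AlgebraicGeometry Opposite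
open Groth.Agent.Lib.ProEtQuot22 Groth.Agent.Lib.H15DCModule Groth.Agent.Lib.H15ExtVanish

namespace Groth.Agent.Lib.H15ProEtDC

variable (Λ : Type (u + 1)) [CommRing Λ] {X : Scheme.{u}} (U : X.ProEt)

instance constPres {C : Type*} [Category C] {D : Type*} [Category D] :
    PreservesFiniteLimits (Functor.const C : D ⥤ C ⥤ D) := by
  constructor
  intro J _ _
  apply preservesLimitsOfShape_of_evaluation
  intro k
  exact inferInstanceAs (PreservesLimitsOfShape J (𝟭 D))

instance constSheafPres : PreservesFiniteLimits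
    (constantSheaf ((Scheme.ProEt.topology X).over U) (ModuleCat.{u + 1} Λ)) := by
  unfold constantSheaf
  exact comp_preservesFiniteLimits _ _

open Groth.Agent.Lib.OverShriek in
instance hasExactMod (V : X.ProEtᵒᵖ) :
    HasExactColimitsOfShape (CostructuredArrow (Over.forget U).op V) (ModuleCat.{u + 1} Λ) := by
  haveI : HasExactColimitsOfShape (Discrete (V.unop ⟶ U)) (ModuleCat.{u + 1} Λ) := by
    have := AB4OfSize_shrink.{u, u+1} (ModuleCat.{u + 1} Λ)
    infer_instance
  exact hasExactColimitsOfShape_of_final _ (ιV U V.unop)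

instance lanPresMod : PreservesFiniteLimits ((Over.forget U).op.lan :
    ((Over U)ᵒᵖ ⥤ ModuleCat.{u + 1} Λ) ⥤ (X.ProEtᵒᵖ ⥤ ModuleCat.{u + 1} Λ)) :=
  Groth.Agent.Lib.LanExact.preservesFiniteLimits_lan _

instance extZeroPres : PreservesFiniteLimits (ProEtDC.extZeroModP Λ U) := by
  have h1 : PreservesFiniteLimits ((Over.forget U).op.lan ⋙
      presheafToSheaf (Scheme.ProEt.topology X) (ModuleCat.{u + 1} Λ)) :=
    comp_preservesFiniteLimits _ _
  have h2 : PreservesFiniteLimits (Functor.sheafPullbackConstruction.sheafPullback (Over.forget U)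
      (ModuleCat.{u + 1} Λ) ((Scheme.ProEt.topology X).over U) (Scheme.ProEt.topology X)) := by
    unfold Functor.sheafPullbackConstruction.sheafPullback
    apply comp_preservesFiniteLimits
  exact preservesFiniteLimits_of_natIso
    (Functor.sheafPullbackConstruction.sheafPullbackIso (Over.forget U)
      (ModuleCat.{u + 1} Λ) ((Scheme.ProEt.topology X).over U) (Scheme.ProEt.topology X)).symm


/-- `M ↦ j_{U!} M_const`. -/
noncomputable def LU : ModuleCat.{u + 1} Λ ⥤ EtModW.ModP Λ X :=
  constantSheaf ((Scheme.ProEt.topology X).over U) (ModuleCat.{u + 1} Λ) ⋙ ProEtDC.extZeroModP Λ U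

noncomputable def adjLU : LU Λ U ⊣ secU Λ U :=
  ((constantSheafAdj ((Scheme.ProEt.topology X).over U) (ModuleCat.{u + 1} Λ)
      (Over.mkIdTerminal (X := U))).comp
    (Functor.sheafAdjunctionContinuous (Over.forget U) (ModuleCat.{u + 1} Λ)
      ((Scheme.ProEt.topology X).over U) (Scheme.ProEt.topology X))).ofNatIsoRight
    (NatIso.ofComponents (fun F => Iso.refl _))

variable {Λ}

lemma smulHom_naturality {T T' : EtModW.ModP Λ X} (g : T ⟶ T') (a : Λ) :
    ProEtDC.smulHom Λ T a ≫ g = g ≫ ProEtDC.smulHom Λ T' a := by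
  apply Sheaf.hom_ext
  ext W x
  simp [ProEtDC.smulHom]

lemma secU_map_smulHom (T : EtModW.ModP Λ X) (a : Λ) :
    (secU Λ U).map (ProEtDC.smulHom Λ T a) = ModuleCat.ofHom (a • LinearMap.id) := rfl

lemma LU_map_smul (M : ModuleCat.{u + 1} Λ) (a : Λ) :
    (LU Λ U).map (ModuleCat.ofHom (a • LinearMap.id : M →ₗ[Λ] M)) =
      ProEtDC.smulHom Λ ((LU Λ U).obj M) a := by
  apply ((adjLU Λ U).homEquiv _ _).injective
  have h1 := (adjLU Λ U).homEquiv_naturality_left
    (ModuleCat.ofHom (a • LinearMap.id : M →ₗ[Λ] M)) (𝟙 ((LU Λ U).obj M))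
  have h2 := (adjLU Λ U).homEquiv_naturality_right (𝟙 ((LU Λ U).obj M))
    (ProEtDC.smulHom Λ ((LU Λ U).obj M) a)
  rw [Category.comp_id] at h1
  rw [Category.id_comp] at h2
  rw [h1, h2, secU_map_smulHom]
  ext x
  simp


variable (Λ)

instance : PreservesFiniteLimits (LU Λ U) := by
  unfold LU
  exact comp_preservesFiniteLimits _ _
instance : PreservesColimitsOfSize.{u + 1, u + 1} (LU Λ U) := (adjLU Λ U).leftAdjoint_preservesColimits
instance : PreservesFiniteColimits (LU Λ U) := PreservesColimitsOfSize.preservesFiniteColimits _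
instance : (LU Λ U).Additive := Functor.additive_of_preserves_binary_products _

/-- the free resolution of `Λ_f` as a short complex -/
noncomputable def resMod (f : Λ) : ShortComplex (ModuleCat.{u + 1} Λ) :=
  ShortComplex.mk (ModuleCat.ofHom (Dmap Λ f)) (ModuleCat.ofHom (epsMap Λ f))
    (by rw [← ModuleCat.ofHom_comp, epsMap_comp_Dmap]; rfl)

lemma resMod_shortExact (f : Λ) : (resMod Λ f).ShortExact where
  exact := by
    rw [ShortComplex.moduleCat_exact_iff]
    intro x hx
    exact ker_epsMap_le Λ f hx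
  mono_f := (ModuleCat.mono_iff_injective _).2 (Dmap_injective Λ f)
  epi_g := (ModuleCat.epi_iff_surjective _).2 (epsMap_surjective Λ f)

instance : Projective (ModuleCat.of Λ (ℕ →₀ Λ)) :=
  ModuleCat.projective_of_free (Finsupp.basisSingleOne (R := Λ) (ι := ℕ))

variable {Λ}

lemma bij_conj {A B A' B' : Type*} (e₁ : A ≃ A') (e₂ : B ≃ B') (T : A → B) (T' : A' → B')
    (h : e₂ ∘ T = T' ∘ e₁) : Function.Bijective T ↔ Function.Bijective T' := by
  rw [← Function.Bijective.of_comp_iff' e₂.bijective T, h,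
    Function.Bijective.of_comp_iff T' e₁.bijective]

theorem projective_LU (V : X.ProEt) (hV : ProEtS.IsWC V) (P : ModuleCat.{u + 1} Λ) [Projective P] :
    Projective ((LU Λ V).obj P) := by
  haveI := preservesFiniteColimits_secU (Λ := Λ) V hV
  haveI : (secU Λ V).PreservesEpimorphisms := inferInstance
  exact (adjLU Λ V).map_projective P inferInstance

theorem ext_locExt_subsingleton (V : X.ProEt) (hV : ProEtS.IsWC V) (f : Λ) (F : EtModW.ModP Λ X)
    (h : DCseq f (F.obj.obj (op V))) (n : ℕ) :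
    Subsingleton (Abelian.Ext.{u + 1} (ProEtDC.locExt Λ V f) F n) := by
  let S := (resMod Λ f).map (LU Λ V)
  have hS : S.ShortExact := (resMod_shortExact Λ f).map_of_exact (LU Λ V)
  haveI : Projective S.X₁ := projective_LU V hV (ModuleCat.of Λ (ℕ →₀ Λ))
  haveI : Projective S.X₂ := projective_LU V hV (ModuleCat.of Λ (ℕ →₀ Λ))
  have h' : DCHom f (F.obj.obj (op V)) := (dcHom_iff_dcSeq f _).2 h
  refine ext_subsingleton_of_resolution hS F ?_ n
  let e := (adjLU Λ V).homEquiv (ModuleCat.of Λ (ℕ →₀ Λ)) F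
  refine (bij_conj e e (fun g : S.X₂ ⟶ F => S.f ≫ g)
    (fun h : ModuleCat.of Λ (ℕ →₀ Λ) ⟶ (secU Λ V).obj F => ModuleCat.ofHom (Dmap Λ f) ≫ h) ?_).2 h'
  funext g
  exact (adjLU Λ V).homEquiv_naturality_left _ _

theorem dcSeq_of_ext_subsingleton (V : X.ProEt) (f : Λ) (F : EtModW.ModP Λ X)
    (h0 : Subsingleton (Abelian.Ext.{u + 1} (ProEtDC.locExt Λ V f) F 0))
    (h1 : Subsingleton (Abelian.Ext.{u + 1} (ProEtDC.locExt Λ V f) F 1)) :
    DCseq f (F.obj.obj (op V)) := by
  let S := (resMod Λ f).map (LU Λ V)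
  have hS : S.ShortExact := (resMod_shortExact Λ f).map_of_exact (LU Λ V)
  rw [← dcHom_iff_dcSeq]
  have hb := bijective_of_ext_subsingleton hS F h0 h1
  let e := (adjLU Λ V).homEquiv (ModuleCat.of Λ (ℕ →₀ Λ)) F
  refine (bij_conj e e (fun g : S.X₂ ⟶ F => S.f ≫ g)
    (fun h : ModuleCat.of Λ (ℕ →₀ Λ) ⟶ (secU Λ V).obj F => ModuleCat.ofHom (Dmap Λ f) ≫ h) ?_).1 hb
  funext g
  exact (adjLU Λ V).homEquiv_naturality_left _ _


end Groth.Agent.Lib.H15ProEtDC
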