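import Groth.Agent.Lib.H15ProEtDC
import Mathlib.Algebra.Module.LocalizedModule.Basic
import Mathlib.RingTheory.Localization.Module

/-!
# Derived complete sheaves on the pro-etale site, part B: the criterion (helper15)

* `FInv f T` (`f` acts invertibly), closure under coproducts/kernels; `fInv_locExt`.
* `epi_of_surjective_on_isWC`: a map of sheaves surjective on sections over weakly contractible
  objects is an epimorphism.
* `isDCSheaf_iff`: `IsDCSheaf I F ↔ ∀ f ∈ I, ∀ V weakly contractible, DCseq f F(V)`.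
-/

set_option autoImplicit false
set_option linter.style.haveILetI false
universe u

open CategoryTheory CategoryTheory.Limits AlgebraicGeometry Opposite
open Groth.Agent.Lib.ProEtQuot22 Groth.Agent.Lib.H15DCModule Groth.Agent.Lib.H15ExtVanish
open Groth.Agent.Lib.H15ProEtDC

namespace Groth.Agent.Lib.H15ProEtDC2

variable {Λ : Type (u + 1)} [CommRing Λ] {X : Scheme.{u}}

/-- `f` acts invertibly on `T`. -/
def FInv (f : Λ) (T : EtModW.ModP Λ X) : Prop := IsIso (ProEtDC.smulHom Λ T f)

lemma isIso_smul_away (f : Λ) :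
    IsIso (ModuleCat.ofHom (f • LinearMap.id :
      Localization.Away f →ₗ[Λ] Localization.Away f)) := by
  refine ⟨⟨ModuleCat.ofHom (LinearMap.mulLeft Λ (IsLocalization.Away.invSelf f)), ?_, ?_⟩⟩
  · ext x
    simp only [ModuleCat.hom_comp, ModuleCat.hom_ofHom, LinearMap.comp_apply, LinearMap.smul_apply,
      LinearMap.id_apply, LinearMap.mulLeft_apply, ModuleCat.hom_id]
    rw [Algebra.smul_def, ← mul_assoc, mul_comm (IsLocalization.Away.invSelf f),
      IsLocalization.Away.mul_invSelf, one_mul]
  · ext x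
    simp only [ModuleCat.hom_comp, ModuleCat.hom_ofHom, LinearMap.comp_apply, LinearMap.smul_apply,
      LinearMap.id_apply, LinearMap.mulLeft_apply, ModuleCat.hom_id]
    rw [Algebra.smul_def, ← mul_assoc, IsLocalization.Away.mul_invSelf, one_mul]

lemma fInv_locExt (U : X.ProEt) (f : Λ) : FInv f (ProEtDC.locExt Λ U f) := by
  unfold FInv
  have h := LU_map_smul U (ModuleCat.of Λ (Localization.Away f)) f
  have : ProEtDC.smulHom Λ (ProEtDC.locExt Λ U f) f =
      (LU Λ U).map (ModuleCat.ofHom (f • LinearMap.id :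
        Localization.Away f →ₗ[Λ] Localization.Away f)) := h.symm
  rw [this]
  haveI := isIso_smul_away f
  exact Functor.map_isIso _ _

lemma fInv_sigma {ι : Type (u + 1)} (f : Λ) (P : ι → EtModW.ModP Λ X) (h : ∀ i, FInv f (P i)) :
    FInv f (∐ P) := by
  unfold FInv at h ⊢
  refine ⟨⟨Limits.Sigma.map (fun i => inv (ProEtDC.smulHom Λ (P i) f)), ?_, ?_⟩⟩
  · apply Sigma.hom_ext
    intro i
    rw [← Category.assoc, ← smulHom_naturality, Category.assoc, Sigma.ι_map,
      ← Category.assoc, IsIso.hom_inv_id, Category.id_comp, Category.comp_id]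
  · apply Sigma.hom_ext
    intro i
    rw [← Category.assoc, Sigma.ι_map, Category.assoc, ← smulHom_naturality,
      ← Category.assoc, IsIso.inv_hom_id, Category.id_comp, Category.comp_id]

lemma fInv_kernel (f : Λ) {P T : EtModW.ModP Λ X} (π : P ⟶ T) (hP : FInv f P) (hT : FInv f T) :
    FInv f (kernel π) := by
  unfold FInv at hP hT ⊢
  have hc : π ≫ inv (ProEtDC.smulHom Λ T f) = inv (ProEtDC.smulHom Λ P f) ≫ π := by
    rw [IsIso.eq_inv_comp, ← Category.assoc, smulHom_naturality, Category.assoc, IsIso.hom_inv_id,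
      Category.comp_id]
  refine ⟨⟨kernel.map π π (inv (ProEtDC.smulHom Λ P f)) (inv (ProEtDC.smulHom Λ T f)) hc, ?_, ?_⟩⟩
  · apply equalizer.hom_ext
    rw [Category.assoc, kernel.lift_ι, ← Category.assoc, smulHom_naturality, Category.assoc,
      IsIso.hom_inv_id, Category.comp_id, Category.id_comp]
  · apply equalizer.hom_ext
    rw [Category.assoc, smulHom_naturality, ← Category.assoc, kernel.lift_ι, Category.assoc,
      IsIso.inv_hom_id, Category.comp_id, Category.id_comp]

/-- If `f` acts invertibly on `T`, it acts bijectively on sections. -/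
lemma fInv_sections (f : Λ) {T : EtModW.ModP Λ X} (hT : FInv f T) (V : X.ProEt) :
    Function.Bijective (fun s : T.obj.obj (op V) => f • s) := by
  unfold FInv at hT
  have h1 : IsIso ((secU Λ V).map (ProEtDC.smulHom Λ T f)) := inferInstance
  rw [secU_map_smulHom] at h1
  have := (ConcreteCategory.isIso_iff_bijective _).1 h1
  exact this

theorem epi_of_surjective_on_isWC {P T : EtModW.ModP Λ X} (φ : P ⟶ T)
    (h : ∀ V, ProEtS.IsWC V → Function.Surjective (φ.hom.app (op V)).hom) : Epi φ := by
  rw [← Sheaf.isLocallySurjective_iff_epi' (ModuleCat.{u + 1} Λ)]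
  refine ⟨fun {U} s => ?_⟩
  obtain ⟨V, g, hcov, hV⟩ := Groth.Agent.Lib.ProEtWC22.exists_isWC_cover U
  refine (Scheme.ProEt.topology X).superset_covering ?_ hcov
  rw [Sieve.generate_le_iff]
  rintro W k ⟨⟩
  obtain ⟨t, ht⟩ := h V hV (T.obj.map g.op s)
  exact ⟨t, ht⟩

/-- the linear map `Λ_f → M`, `1 ↦ s`, when `f` acts bijectively on `M`. -/
noncomputable def awayLift (f : Λ) {M : Type*} [AddCommGroup M] [Module Λ M]
    (hf : Function.Bijective (fun m : M => f • m)) (s : M) : Localization.Away f →ₗ[Λ] M :=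
  IsLocalizedModule.lift (Submonoid.powers f) (Algebra.linearMap Λ (Localization.Away f))
    (LinearMap.toSpanSingleton Λ M s) (by
      rintro ⟨_, n, rfl⟩
      rw [Module.End.isUnit_iff]
      have : ⇑((algebraMap Λ (Module.End Λ M)) (f ^ n)) = (fun m : M => f • m)^[n] := by
        funext m
        simp only [Module.algebraMap_end_apply]
        induction n with
        | zero => simp
        | succ n ih => rw [pow_succ', mul_smul, ih, Function.iterate_succ_apply']
      rw [this]
      exact hf.iterate n)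

lemma awayLift_one (f : Λ) {M : Type*} [AddCommGroup M] [Module Λ M]
    (hf : Function.Bijective (fun m : M => f • m)) (s : M) : awayLift f hf s 1 = s := by
  have := IsLocalizedModule.lift_apply (Submonoid.powers f)
    (Algebra.linearMap Λ (Localization.Away f)) (LinearMap.toSpanSingleton Λ M s) (by
      rintro ⟨_, n, rfl⟩
      rw [Module.End.isUnit_iff]
      have : ⇑((algebraMap Λ (Module.End Λ M)) (f ^ n)) = (fun m : M => f • m)^[n] := by
        funext m
        simp only [Module.algebraMap_end_apply]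
        induction n with
        | zero => simp
        | succ n ih => rw [pow_succ', mul_smul, ih, Function.iterate_succ_apply']
      rw [this]
      exact hf.iterate n) 1
  simp only [Algebra.linearMap_apply, map_one, LinearMap.toSpanSingleton_apply, one_smul] at this
  exact this


theorem exists_resolving (f : Λ) (F : EtModW.ModP Λ X)
    (hF : ∀ V : X.ProEt, ProEtS.IsWC V → DCseq f (F.obj.obj (op V)))
    (T : EtModW.ModP Λ X) (hT : FInv f T) :
    ∃ (P : EtModW.ModP Λ X) (π : P ⟶ T), Epi π ∧ FInv f (kernel π) ∧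
      ∀ n, Subsingleton (Abelian.Ext.{u + 1} P F n) := by
  let I := Σ V : {V : X.ProEt // ProEtS.IsWC V}, T.obj.obj (op V.1)
  let P : I → EtModW.ModP Λ X := fun i => ProEtDC.locExt Λ i.1.1 f
  let ℓ : ∀ i : I, Localization.Away f →ₗ[Λ] T.obj.obj (op i.1.1) := fun i =>
    awayLift f (fInv_sections f hT i.1.1) i.2
  let g : ∀ i, P i ⟶ T := fun i =>
    ((adjLU Λ i.1.1).homEquiv (ModuleCat.of Λ (Localization.Away f)) T).symm (ModuleCat.ofHom (ℓ i))
  refine ⟨∐ P, Sigma.desc g, ?_, ?_, ?_⟩
  · apply epi_of_surjective_on_isWC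
    intro V hV s
    let i : I := ⟨⟨V, hV⟩, s⟩
    let u0 : (P i).obj.obj (op V) :=
      ((adjLU Λ V).unit.app (ModuleCat.of Λ (Localization.Away f))).hom (1 : Localization.Away f)
    refine ⟨((Sigma.ι P i).hom.app (op V)).hom u0, ?_⟩
    have h1 : Sigma.ι P i ≫ Sigma.desc g = g i := Sigma.ι_desc _ _
    have h2 : (adjLU Λ V).homEquiv _ _ (g i) = ModuleCat.ofHom (ℓ i) := Equiv.apply_symm_apply _ _
    rw [Adjunction.homEquiv_unit] at h2
    have h3 := congrArg (fun k => k.hom (1 : Localization.Away f)) h2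
    simp only [ModuleCat.hom_comp, LinearMap.comp_apply, ModuleCat.hom_ofHom] at h3
    have h4 : ℓ i 1 = s := awayLift_one f _ s
    rw [h4] at h3
    have h5 : ((g i).hom.app (op V)).hom u0 = s := h3
    have h6 : ((Sigma.ι P i ≫ Sigma.desc g).hom.app (op V)).hom u0 = s := by rw [h1]; exact h5
    exact h6
  · exact fInv_kernel f _ (fInv_sigma f P (fun i => fInv_locExt i.1.1 f)) hT
  · exact ext_coprod_subsingleton P F
      (fun i n => ext_locExt_subsingleton i.1.1 i.1.2 f F (hF _ i.1.2) n)

theorem ext_subsingleton_of_sections (f : Λ) (F : EtModW.ModP Λ X)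
    (hF : ∀ V : X.ProEt, ProEtS.IsWC V → DCseq f (F.obj.obj (op V))) (U : X.ProEt) (n : ℕ) :
    Subsingleton (Abelian.Ext.{u + 1} (ProEtDC.locExt Λ U f) F n) :=
  ext_subsingleton_of_resolving (FInv f) F (exists_resolving f F hF) n _ (fInv_locExt U f)

/-- **Criterion**: a sheaf of `Λ`-modules on `X_proet` is derived `I`-complete iff its sections over
every weakly contractible object are derived `f`-complete modules for all `f ∈ I`. -/
theorem isDCSheaf_iff (I : Ideal Λ) (F : EtModW.ModP Λ X) :
    ProEtDC.IsDCSheaf Λ I F ↔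
      ∀ f ∈ I, ∀ V : X.ProEt, ProEtS.IsWC V → DCseq f (F.obj.obj (op V)) := by
  constructor
  · intro h f hf V _
    exact dcSeq_of_ext_subsingleton V f F (h V f hf 0) (h V f hf 1)
  · intro h U f hf n
    exact ext_subsingleton_of_sections f F (h f hf) U n

end Groth.Agent.Lib.H15ProEtDC2
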