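import Groth.Agent.Lib.H15ProEtDC2
import Mathlib.CategoryTheory.Sites.Abelian

/-!
# Derived complete sheaves on the pro-etale site, part C: consequences (helper15)

* `main_S0763`: derived complete sheaves form a weak Serre subcategory.
* `isDCSheaf_limit` (S0764): limits of towers.
* `main_S0766`: derived Nakayama for sheaves.
* `main_S0776`: `Λ^ = lim Λ/I^n` is derived complete.
-/

set_option autoImplicit false
set_option linter.style.haveILetI false
universe u

open CategoryTheory CategoryTheory.Limits AlgebraicGeometry Opposite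
open Groth.Agent.Lib.ProEtQuot22 Groth.Agent.Lib.H15DCModule Groth.Agent.Lib.H15ExtVanish
open Groth.Agent.Lib.H15ProEtDC Groth.Agent.Lib.H15ProEtDC2

namespace Groth.Agent.Lib.H15ProEtDC3

variable {Λ : Type (u + 1)} [CommRing Λ] {X : Scheme.{u}}

instance (V : X.ProEt) : PreservesLimitsOfSize.{u + 1, u + 1} (secU Λ V) :=
  (adjLU Λ V).rightAdjoint_preservesLimits

instance (V : X.ProEt) : PreservesFiniteLimits (secU Λ V) :=
  PreservesLimitsOfSize.preservesFiniteLimits _

instance (V : X.ProEt) : (secU Λ V).Additive := Functor.additive_of_preserves_binary_products _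

theorem dcSeq_kernel (f : Λ) {F G : EtModW.ModP Λ X} (φ : F ⟶ G) (V : X.ProEt)
    (hF : DCseq f (F.obj.obj (op V))) (hG : DCseq f (G.obj.obj (op V))) :
    DCseq f ((kernel φ).obj.obj (op V)) := by
  let S : ShortComplex (EtModW.ModP Λ X) := ShortComplex.mk (kernel.ι φ) φ (kernel.condition φ)
  have hS : S.Exact := ShortComplex.exact_of_f_is_kernel _ (kernelIsKernel φ)
  have hm : Mono S.f := inferInstanceAs (Mono (kernel.ι φ))
  have hS' : (S.map (secU Λ V)).Exact := hS.map_of_mono_of_preservesKernel (secU Λ V) hm inferInstance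
  have hm' : Mono ((secU Λ V).map (kernel.ι φ)) := inferInstance
  rw [ShortComplex.moduleCat_exact_iff] at hS'
  refine DCseq.of_ker hF hG ((kernel.ι φ).hom.app (op V)).hom (φ.hom.app (op V)).hom
    ((ModuleCat.mono_iff_injective _).1 hm') (fun m hm => hS' m hm) (fun k => ?_)
  have := congrArg (fun t => (t.hom.app (op V)).hom k) (kernel.condition φ)
  exact this

theorem dcSeq_cokernel (f : Λ) {F G : EtModW.ModP Λ X} (φ : F ⟶ G) (V : X.ProEt)
    (hV : ProEtS.IsWC V)
    (hF : DCseq f (F.obj.obj (op V))) (hG : DCseq f (G.obj.obj (op V))) :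
    DCseq f ((cokernel φ).obj.obj (op V)) := by
  let S : ShortComplex (EtModW.ModP Λ X) := ShortComplex.mk φ (cokernel.π φ) (cokernel.condition φ)
  have hS : S.Exact := ShortComplex.exact_of_g_is_cokernel _ (cokernelIsCokernel φ)
  have he : Epi S.g := inferInstanceAs (Epi (cokernel.π φ))
  haveI := preservesFiniteColimits_secU (Λ := Λ) V hV
  have hS' : (S.map (secU Λ V)).Exact := hS.map_of_epi_of_preservesCokernel (secU Λ V) he inferInstance
  rw [ShortComplex.moduleCat_exact_iff] at hS'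
  refine DCseq.of_coker hF hG (φ.hom.app (op V)).hom ((cokernel.π φ).hom.app (op V)).hom
    (surjective_of_epi V hV _ he) (fun n hn => hS' n hn) (fun m => ?_)
  have := congrArg (fun t => (t.hom.app (op V)).hom m) (cokernel.condition φ)
  exact this

theorem dcSeq_ext (f : Λ) (S : ShortComplex (EtModW.ModP Λ X)) (hS : S.ShortExact) (V : X.ProEt)
    (hV : ProEtS.IsWC V)
    (h1 : DCseq f (S.X₁.obj.obj (op V))) (h3 : DCseq f (S.X₃.obj.obj (op V))) :
    DCseq f (S.X₂.obj.obj (op V)) := by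
  haveI := preservesFiniteColimits_secU (Λ := Λ) V hV
  have hS' : (S.map (secU Λ V)).ShortExact := hS.map_of_exact (secU Λ V)
  have hex := hS'.exact
  rw [ShortComplex.moduleCat_exact_iff] at hex
  exact DCseq.of_ext h1 h3 (S.f.hom.app (op V)).hom (S.g.hom.app (op V)).hom
    ((ModuleCat.mono_iff_injective _).1 hS'.mono_f) ((ModuleCat.epi_iff_surjective _).1 hS'.epi_g)
    (fun m hm => hex m hm)

theorem main_S0763 (X : Scheme.{u}) (Λ : Type (u + 1)) [CommRing Λ]
    [IsNoetherianRing Λ] (I : Ideal Λ) :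
    (∀ (F G : EtModW.ModP Λ X) (φ : F ⟶ G), ProEtDC.IsDCSheaf Λ I F → ProEtDC.IsDCSheaf Λ I G →
      ProEtDC.IsDCSheaf Λ I (kernel φ) ∧ ProEtDC.IsDCSheaf Λ I (cokernel φ)) ∧
    ∀ (S : ShortComplex (EtModW.ModP Λ X)), S.ShortExact →
      ProEtDC.IsDCSheaf Λ I S.X₁ → ProEtDC.IsDCSheaf Λ I S.X₃ → ProEtDC.IsDCSheaf Λ I S.X₂ := by
  constructor
  · intro F G φ hF hG
    rw [isDCSheaf_iff] at hF hG
    constructor
    · rw [isDCSheaf_iff]
      intro f hf V hV
      exact dcSeq_kernel f φ V (hF f hf V hV) (hG f hf V hV)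
    · rw [isDCSheaf_iff]
      intro f hf V hV
      exact dcSeq_cokernel f φ V hV (hF f hf V hV) (hG f hf V hV)
  · intro S hS h1 h3
    rw [isDCSheaf_iff] at h1 h3 ⊢
    intro f hf V hV
    exact dcSeq_ext f S hS V hV (h1 f hf V hV) (h3 f hf V hV)


theorem isDCSheaf_limit (I : Ideal Λ) (D : ℕᵒᵖ ⥤ EtModW.ModP Λ X)
    (hD : ∀ n : ℕ, ProEtDC.IsDCSheaf Λ I (D.obj (op n))) :
    ProEtDC.IsDCSheaf Λ I (limit D) := by
  rw [isDCSheaf_iff]
  intro f hf V hV
  haveI : PreservesLimitsOfSize.{0, 0} (secU Λ V) :=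
    preservesLimitsOfSize_shrink.{0, u + 1, 0, u + 1} _
  haveI : PreservesLimitsOfSize.{0, 0} (forget (ModuleCat.{u + 1} Λ)) :=
    preservesLimitsOfSize_shrink.{0, u + 1, 0, u + 1} _
  exact DCseq.of_isLimit (D ⋙ secU Λ V) ((secU Λ V).mapCone (limit.cone D))
    (isLimitOfPreserves (secU Λ V) (limit.isLimit D))
    (fun j => (isDCSheaf_iff I _).1 (hD j.unop) f hf V hV)


theorem isZero_of_sections (F : EtModW.ModP Λ X)
    (h : ∀ V : X.ProEt, ProEtS.IsWC V → Subsingleton (F.obj.obj (op V))) : IsZero F := by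
  rw [IsZero.iff_id_eq_zero]
  apply Sheaf.hom_ext
  ext U s
  obtain ⟨V, g, hcov, hV⟩ := Groth.Agent.Lib.ProEtWC22.exists_isWC_cover U.unop
  have := h V hV
  apply Sheaf.isSeparated F U.unop _ hcov
  rintro Y k ⟨Y', a, b, ⟨⟩, rfl⟩
  rw [op_comp, F.obj.map_comp]
  show (F.obj.map a.op) ((F.obj.map g.op) _) = (F.obj.map a.op) ((F.obj.map g.op) _)
  congr 1
  exact Subsingleton.elim _ _

theorem exists_gen_of_epi {r : ℕ} (a : Fin r → Λ) (F : EtModW.ModP Λ X)
    (h0 : ProEtDC.ModGensIsZero Λ a F) (V : X.ProEt) (hV : ProEtS.IsWC V)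
    (m : F.obj.obj (op V)) : ∃ c : Fin r → F.obj.obj (op V), m = ∑ k, a k • c k := by
  unfold ProEtDC.ModGensIsZero at h0
  let g : (⨁ fun _ : Fin r => F) ⟶ F := biproduct.desc (fun k => ProEtDC.smulHom Λ F (a k))
  obtain ⟨y, hy⟩ := surjective_of_epi V hV g h0 m
  have hιg : ∀ i, biproduct.ι (fun _ : Fin r => F) i ≫ g = ProEtDC.smulHom Λ F (a i) := fun i =>
    biproduct.ι_desc _ _
  have htot := congrArg (fun f => (f.hom.app (op V)).hom y)
    (biproduct.total (f := fun _ : Fin r => F))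
  have hsum : ((∑ j : Fin r, biproduct.π (fun _ : Fin r => F) j ≫
      biproduct.ι (fun _ : Fin r => F) j).hom.app (op V)).hom y =
      ∑ j : Fin r, ((biproduct.ι (fun _ : Fin r => F) j).hom.app (op V)).hom
        (((biproduct.π (fun _ : Fin r => F) j).hom.app (op V)).hom y) := by
    have h1 : ∀ (t : Finset (Fin r)),
        ((∑ j ∈ t, biproduct.π (fun _ : Fin r => F) j ≫
          biproduct.ι (fun _ : Fin r => F) j).hom.app (op V)).hom y =
        ∑ j ∈ t, ((biproduct.ι (fun _ : Fin r => F) j).hom.app (op V)).hom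
          (((biproduct.π (fun _ : Fin r => F) j).hom.app (op V)).hom y) := by
      intro t
      induction t using Finset.induction_on with
      | empty => rfl
      | insert j t hj ih =>
        rw [Finset.sum_insert hj, Finset.sum_insert hj, ← ih]
        rfl
    exact h1 Finset.univ
  have hy2 : y = ∑ j : Fin r, ((biproduct.ι (fun _ : Fin r => F) j).hom.app (op V)).hom
        (((biproduct.π (fun _ : Fin r => F) j).hom.app (op V)).hom y) :=
    (hsum.symm.trans htot).symm
  refine ⟨fun k => ((biproduct.π (fun _ : Fin r => F) k).hom.app (op V)).hom y, ?_⟩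
  rw [← hy, hy2, map_sum]
  apply Finset.sum_congr rfl
  intro j _
  have h2 : (g.hom.app (op V)).hom (((biproduct.ι (fun _ : Fin r => F) j).hom.app (op V)).hom
      (((biproduct.π (fun _ : Fin r => F) j).hom.app (op V)).hom y)) =
      a j • (((biproduct.π (fun _ : Fin r => F) j).hom.app (op V)).hom y) :=
    congrArg (fun f => (f.hom.app (op V)).hom
      (((biproduct.π (fun _ : Fin r => F) j).hom.app (op V)).hom y)) (hιg j)
  rw [h2, ← hy2]

theorem main_S0766 (X : Scheme.{u}) (Λ : Type (u + 1)) [CommRing Λ]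
    {r : ℕ} (a : Fin r → Λ) (F : EtModW.ModP Λ X)
    (hF : ProEtDC.IsDCSheaf Λ (Ideal.span (Set.range a)) F) (h0 : ProEtDC.ModGensIsZero Λ a F) :
    IsZero F := by
  apply isZero_of_sections
  intro V hV
  rw [isDCSheaf_iff] at hF
  exact subsingleton_of_DCseq_of_gen r a (F.obj.obj (op V))
    (fun k => hF (a k) (Ideal.subset_span ⟨k, rfl⟩) V hV) (exists_gen_of_epi a F h0 V hV)


lemma constantSheaf_map_smul (M : ModuleCat.{u + 1} Λ) (a : Λ) :
    (constantSheaf (Scheme.ProEt.topology X) (ModuleCat.{u + 1} Λ)).map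
        (ModuleCat.ofHom (a • LinearMap.id : M →ₗ[Λ] M)) =
      ProEtDC.smulHom Λ ((constantSheaf (Scheme.ProEt.topology X) (ModuleCat.{u + 1} Λ)).obj M) a := by
  let adj := sheafificationAdjunction (Scheme.ProEt.topology X) (ModuleCat.{u + 1} Λ)
  let P : X.ProEtᵒᵖ ⥤ ModuleCat.{u + 1} Λ := (Functor.const _).obj M
  let α : P ⟶ P := (Functor.const _).map (ModuleCat.ofHom (a • LinearMap.id : M →ₗ[Λ] M))
  show (presheafToSheaf _ _).map α = _
  apply (adj.homEquiv _ _).injective
  have h1 := adj.homEquiv_naturality_left α (𝟙 ((presheafToSheaf _ _).obj P))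
  have h2 := adj.homEquiv_naturality_right (𝟙 ((presheafToSheaf _ _).obj P))
    (ProEtDC.smulHom Λ ((presheafToSheaf _ _).obj P) a)
  rw [Category.comp_id] at h1
  rw [Category.id_comp] at h2
  refine h1.trans (Eq.trans ?_ h2.symm)
  ext W x
  simp [α, P, ProEtDC.smulHom]

lemma smul_sections_eq_zero (M : ModuleCat.{u + 1} Λ) (a : Λ) (ha : ∀ m : M, a • m = 0)
    (V : X.ProEt)
    (s : ((constantSheaf (Scheme.ProEt.topology X) (ModuleCat.{u + 1} Λ)).obj M).obj.obj (op V)) :
    a • s = 0 := by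
  have h0 : ModuleCat.ofHom (a • LinearMap.id : M →ₗ[Λ] M) = 0 := by
    apply ModuleCat.hom_ext
    apply LinearMap.ext
    intro m
    exact ha m
  have h1 := constantSheaf_map_smul (X := X) M a
  rw [h0, Functor.map_zero] at h1
  have h2 := congrArg (fun t => (t.hom.app (op V)).hom s) h1
  exact h2.symm

theorem main_S0776 (X : Scheme.{u}) (Λ : Type (u + 1)) [CommRing Λ]
    [IsNoetherianRing Λ] (I : Ideal Λ) : ProEtDC.IsDCSheaf Λ I (ProEtDC.lambdaHat Λ X I) := by
  apply isDCSheaf_limit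
  intro n
  rw [isDCSheaf_iff]
  intro f hf V _
  apply DCseq.of_pow_smul_eq_zero n
  intro s
  have key : ∀ m : Λ ⧸ (I ^ n • ⊤ : Submodule Λ Λ), f ^ n • m = 0 := by
    intro m
    obtain ⟨y, rfl⟩ := Submodule.Quotient.mk_surjective _ m
    rw [← Submodule.Quotient.mk_smul, Submodule.Quotient.mk_eq_zero]
    exact Submodule.smul_mem_smul (Ideal.pow_mem_pow hf n) Submodule.mem_top
  exact smul_sections_eq_zero (X := X) ((ProEtDC.quotTower Λ I).obj (op n)) (f ^ n) key V s


end Groth.Agent.Lib.H15ProEtDC3
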