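
import Mathlib.CategoryTheory.Galois.IsFundamentalgroup
import Mathlib.CategoryTheory.Galois.Examples
import Mathlib.Topology.Algebra.Category.ProfiniteGrp.Completion

set_option autoImplicit false
universe u

namespace Groth.Agent.Lib.H15ProfCompl

open CategoryTheory PreGaloisCategory ProfiniteGrp ProfiniteGrp.ProfiniteCompletion

variable (G : Type u) [Group G]

/-- the profinite completion, as a type. -/
abbrev Gh : Type u := (completion (GrpCat.of G))

/-- projection to a finite quotient. -/
def proj (N : FiniteIndexNormalSubgroup G) : Gh G →* G ⧸ N.toSubgroup where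
  toFun x := x.val N
  map_one' := rfl
  map_mul' _ _ := rfl

lemma proj_etaFn (N : FiniteIndexNormalSubgroup G) (g : G) :
    proj G N (etaFn (GrpCat.of G) g) = QuotientGroup.mk g := rfl

lemma proj_compat (x : Gh G) {N M : FiniteIndexNormalSubgroup G} (h : N ≤ M) :
    QuotientGroup.map _ _ (MonoidHom.id G) h (proj G N x) = proj G M x :=
  x.property h.hom

lemma isOpen_proj_preimage (N : FiniteIndexNormalSubgroup G) (s : Set (G ⧸ N.toSubgroup)) :
    IsOpen (proj G N ⁻¹' s) := by
  have h1 : Continuous (fun x : Gh G => (x.val N : (diagram (GrpCat.of G)).obj N)) :=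
    (continuous_apply N).comp continuous_subtype_val
  have h3 : DiscreteTopology ((diagram (GrpCat.of G)).obj N) := ⟨rfl⟩
  have h2 : @IsOpen ((diagram (GrpCat.of G)).obj N) inferInstance s := isOpen_discrete _
  exact h2.preimage h1

lemma ext_proj (x y : Gh G) (h : ∀ N, proj G N x = proj G N y) : x = y :=
  Subtype.ext (funext h)


variable {G}

/-- the kernel of the action on a finite `G`-set. -/
def NX (X : Action FintypeCat.{u} G) : FiniteIndexNormalSubgroup G where
  toSubgroup := (MulAction.toPermHom G X.V).ker
  isNormal' := inferInstance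
  isFiniteIndex' := inferInstance

/-- the action of the profinite completion on a finite `G`-set, as a permutation representation. -/
noncomputable def act (X : Action FintypeCat.{u} G) : Gh G →* Equiv.Perm X.V :=
  (QuotientGroup.kerLift (MulAction.toPermHom G X.V)).comp (proj G (NX X))

noncomputable instance instMulActionGh (X : Action FintypeCat.{u} G) :
    MulAction (Gh G) X.V :=
  MulAction.compHom X.V (act X)

noncomputable instance instMulActionGh' (X : Action FintypeCat.{u} G) :
    MulAction (Gh G) ((Action.forget FintypeCat.{u} G).obj X) :=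
  instMulActionGh X

lemma smul_def (X : Action FintypeCat.{u} G) (x : Gh G) (a : X.V) :
    x • a = act X x a := rfl

/-- computing the action via a representative. -/
lemma smul_of_rep (X : Action FintypeCat.{u} G) (x : Gh G) (N : FiniteIndexNormalSubgroup G)
    (hN : N ≤ NX X) (g : G) (hg : proj G N x = QuotientGroup.mk g) (a : X.V) :
    x • a = g • a := by
  have h1 : proj G (NX X) x = QuotientGroup.mk g := by
    rw [← proj_compat G x hN, hg]
    rfl
  exact congrArg (fun q : G ⧸ (MulAction.toPermHom G X.V).ker =>
    QuotientGroup.kerLift (MulAction.toPermHom G X.V) q a) h1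

lemma exists_rep (x : Gh G) (N : FiniteIndexNormalSubgroup G) :
    ∃ g : G, proj G N x = QuotientGroup.mk g := by
  obtain ⟨g, hg⟩ := QuotientGroup.mk_surjective (proj G N x)
  exact ⟨g, hg.symm⟩

lemma etaFn_smul (X : Action FintypeCat.{u} G) (g : G) (a : X.V) :
    (etaFn (GrpCat.of G) g : Gh G) • a = g • a :=
  smul_of_rep X (etaFn (GrpCat.of G) g) (NX X) le_rfl g rfl a


/-- intersection of two finite index normal subgroups. -/
def infN (N M : FiniteIndexNormalSubgroup G) : FiniteIndexNormalSubgroup G where
  toSubgroup := N.toSubgroup ⊓ M.toSubgroup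
  isNormal' := by
    have := N.isNormal'
    have := M.isNormal'
    infer_instance
  isFiniteIndex' := by
    have := N.isFiniteIndex'
    have := M.isFiniteIndex'
    infer_instance

lemma infN_le_left (N M : FiniteIndexNormalSubgroup G) : infN N M ≤ N := fun _ h => h.1
lemma infN_le_right (N M : FiniteIndexNormalSubgroup G) : infN N M ≤ M := fun _ h => h.2

instance instNatural : IsNaturalSMul (Action.forget FintypeCat.{u} G) (Gh G) where
  naturality x {X Y} f a := by
    obtain ⟨g, hg⟩ := exists_rep x (infN (NX X) (NX Y))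
    let a' : X.V := a
    have h1 : x • a' = g • a' := smul_of_rep X x _ (infN_le_left _ _) g hg a'
    have h2 : x • (f.hom a' : Y.V) = g • (f.hom a' : Y.V) :=
      smul_of_rep Y x _ (infN_le_right _ _) g hg (f.hom a')
    have h3 : f.hom (g • a') = g • (f.hom a' : Y.V) :=
      congrArg (fun φ => (ConcreteCategory.hom φ) a') (f.comm g)
    exact (congrArg (fun b : X.V => f.hom b) h1).trans (h3.trans h2.symm)


/-- the finite `G`-set `G ⧸ N`. -/
noncomputable def XN (N : FiniteIndexNormalSubgroup G) : Action FintypeCat.{u} G :=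
  haveI := N.isFiniteIndex'
  haveI : Fintype (G ⧸ N.toSubgroup) := Fintype.ofFinite _
  Action.FintypeCat.ofMulAction G (FintypeCat.of (G ⧸ N.toSubgroup))

lemma NX_XN_le (N : FiniteIndexNormalSubgroup G) : NX (XN N) ≤ N := by
  intro h hh
  have h1 : MulAction.toPermHom G (XN N).V h = 1 := hh
  have h2 := congrArg (fun σ : Equiv.Perm (XN N).V => σ ((1 : G) : G ⧸ N.toSubgroup)) h1
  have h3 : ((h * 1 : G) : G ⧸ N.toSubgroup) = ((1 : G) : G ⧸ N.toSubgroup) := h2
  rw [mul_one] at h3
  have h4 : ((h : G) : G ⧸ N.toSubgroup) = 1 := h3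
  exact (QuotientGroup.eq_one_iff h).1 h4

open scoped Topology in
noncomputable instance instFund : IsFundamentalGroup (Action.forget FintypeCat.{u} G) (Gh G) where
  transitive_of_isGalois X _ := by
    have := FintypeCat.Action.pretransitive_of_isConnected G X
    refine ⟨fun a b => ?_⟩
    let a' : X.V := a
    let b' : X.V := b
    obtain ⟨g, hg⟩ := MulAction.exists_smul_eq G a' b'
    exact ⟨etaFn (GrpCat.of G) g, (etaFn_smul X g a').trans hg⟩
  continuous_smul X := by
    refine ⟨?_⟩
    rw [continuous_prod_of_discrete_right]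
    intro a
    rw [continuous_discrete_rng]
    intro b
    have : (fun x : Gh G => x • (a : (Action.forget FintypeCat.{u} G).obj X)) ⁻¹' {b} =
        proj G (NX X) ⁻¹' {q | QuotientGroup.kerLift (MulAction.toPermHom G X.V) q a = b} := rfl
    rw [this]
    exact isOpen_proj_preimage G _ _
  non_trivial' x hx := by
    refine ext_proj G x 1 (fun N => ?_)
    rw [map_one]
    obtain ⟨g, hg⟩ := exists_rep x (NX (XN N))
    let a : (XN N).V := ((1 : G) : G ⧸ N.toSubgroup)
    have h1 : x • a = a := hx (XN N) a
    have h2 : x • a = g • a := smul_of_rep (XN N) x _ le_rfl g hg a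
    have h3 : ((g * 1 : G) : G ⧸ N.toSubgroup) = ((1 : G) : G ⧸ N.toSubgroup) := h2.symm.trans h1
    rw [mul_one] at h3
    rw [← proj_compat G x (NX_XN_le N), hg]
    exact h3

/-- `S18425`. -/
theorem main (G : Type u) [Group G] :
    ∃ φ : (ProfiniteGrp.ProfiniteCompletion.completion (GrpCat.of G)) ≃ₜ*
        Aut (Action.forget FintypeCat.{u} G),
      ∀ (g : G) (X : Action FintypeCat.{u} G) (x : X.V),
        (φ (ProfiniteGrp.ProfiniteCompletion.etaFn (GrpCat.of G) g)).hom.app X x =
          (X.ρ g).hom x := by
  let e := toAutMulEquiv (Action.forget FintypeCat.{u} G) (Gh G)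
  have he : ∀ s, IsOpen (e ⁻¹' s) ↔ IsOpen s := fun s =>
    (toAut_isHomeomorph (Action.forget FintypeCat.{u} G) (Gh G)).homeomorph.isOpen_preimage
  refine ⟨e.toContinuousMulEquiv he, fun g X x => ?_⟩
  exact etaFn_smul X g x

end Groth.Agent.Lib.H15ProfCompl
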