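import Groth.Agent.Lib.H15PDense
import Groth.Agent.Lib.H71SepClosedGeom
import Groth.Agent.Lib.IsoCls13
import Mathlib.AlgebraicGeometry.Morphisms.Flat

set_option autoImplicit false
set_option linter.style.haveILetI false
set_option linter.unusedSectionVars false
universe u
open CategoryTheory CategoryTheory.Limits AlgebraicGeometry FrobSch Opposite TopologicalSpace
open Groth.Agent.Lib.H80Perfection Groth.Agent.Lib.H15PerfDescent Groth.Agent.Lib.H15PDense
open Groth.Agent.Lib.IsoCls13 Groth.Agent.Lib.H78TensorGen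

/-!
# helper15: Picard group along a purely inseparable base change `X_{k'} ⟶ X` (char `p`)

* `exists_pow_mem_range_of_isPushout`: in a pushout `B = A ⊗_R R'` of rings with `p = 0` in `B` and `R'` `p`-radicial
  over `R`, every element of `B` has a `p^n`-th power coming from `A` (no tensor products: subring + universal property).
* `pDense_pullback_fst`: `pullback.fst f (Spec k' ⟶ Spec k)` is `PDense` for `k'/k` purely inseparable.
* `exists_torsion_descent`: along any `PDense π p`, an invertible class upstairs killed by `n` (prime to `p`) is the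
  pullback of an invertible class downstairs killed by `n` (S1154).
* `exists_mul_eq_one_add_mul`: Bezout in naturals; `cls_pullback_tensorPow`.
-/

namespace Groth.Agent.Lib.H15PurInsepPic

/-- the subring of elements having a `p`-power in the range of a ring hom (in a ring where `p = 0`) -/
def pRadSubring {p : ℕ} [Fact p.Prime] {A B : Type u} [CommRing A] [CommRing B] (φ : A →+* B)
    (hp : (p : B) = 0) : Subring B where
  carrier := {b | ∃ (n : ℕ) (a : A), φ a = b ^ p ^ n}
  mul_mem' := by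
    rintro x y ⟨n, a, ha⟩ ⟨m, c, hc⟩
    refine ⟨n + m, a ^ p ^ m * c ^ p ^ n, ?_⟩
    rw [map_mul, map_pow, map_pow, ha, hc, mul_pow, ← pow_mul, ← pow_mul, ← pow_add, ← pow_add,
      add_comm m n]
  one_mem' := ⟨0, 1, by simp⟩
  add_mem' := by
    rintro x y ⟨n, a, ha⟩ ⟨m, c, hc⟩
    refine ⟨n + m, a ^ p ^ m + c ^ p ^ n, ?_⟩
    have h1 : (x + y) ^ p ^ (n + m) = x ^ p ^ (n + m) + y ^ p ^ (n + m) := by
      rw [← powHom_pow_apply hp, map_add, powHom_pow_apply, powHom_pow_apply]
    rw [h1, map_add, map_pow, map_pow, ha, hc, ← pow_mul, ← pow_mul, ← pow_add, ← pow_add,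
      add_comm m n]
  zero_mem' := ⟨0, 0, by simp⟩
  neg_mem' := by
    rintro x ⟨n, a, ha⟩
    refine ⟨n, (-1) ^ p ^ n * a, ?_⟩
    rw [map_mul, map_pow, map_neg, map_one, ha, ← mul_pow, neg_one_mul]

theorem exists_pow_mem_range_of_isPushout {p : ℕ} [Fact p.Prime] {R A R' B : CommRingCat.{u}}
    {f : R ⟶ A} {g : R ⟶ R'} {inl : A ⟶ B} {inr : R' ⟶ B} (h : IsPushout f g inl inr)
    (hp : (p : B) = 0)
    (hg : ∀ r' : R', ∃ (n : ℕ) (r : R), g r = r' ^ p ^ n) (b : B) :
    ∃ (n : ℕ) (a : A), inl a = b ^ p ^ n := by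
  let S : Subring B := pRadSubring inl.hom hp
  have hl : ∀ a : A, inl a ∈ S := fun a => ⟨0, a, by simp⟩
  have hr : ∀ r' : R', inr r' ∈ S := by
    intro r'
    obtain ⟨n, r, hr⟩ := hg r'
    refine ⟨n, f r, ?_⟩
    have h1 := congrArg (fun φ => (ConcreteCategory.hom φ) r) h.w
    simp only [CommRingCat.comp_apply] at h1
    change inl (f r) = inr r' ^ p ^ n
    rw [h1, hr, map_pow]
  let inl' : A ⟶ CommRingCat.of S := CommRingCat.ofHom (inl.hom.codRestrict S hl)
  let inr' : R' ⟶ CommRingCat.of S := CommRingCat.ofHom (inr.hom.codRestrict S hr)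
  let ι : CommRingCat.of S ⟶ B := CommRingCat.ofHom S.subtype
  have hw : f ≫ inl' = g ≫ inr' := by
    ext r
    have h1 := congrArg (fun φ => (ConcreteCategory.hom φ) r) h.w
    simp only [CommRingCat.comp_apply] at h1
    exact h1
  let d : B ⟶ CommRingCat.of S := h.desc inl' inr' hw
  have hd : d ≫ ι = 𝟙 B := by
    apply h.hom_ext
    · rw [← Category.assoc, h.inl_desc, Category.comp_id]
      rfl
    · rw [← Category.assoc, h.inr_desc, Category.comp_id]
      rfl
  have hb : b = ι (d b) := by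
    have := congrArg (fun φ => (ConcreteCategory.hom φ) b) hd
    simp only [CommRingCat.comp_apply, CommRingCat.id_apply] at this
    exact this.symm
  have : b ∈ S := by rw [hb]; exact (d b).2
  exact this


section Field

variable (k : Type u) [Field k] (p : ℕ) [Fact p.Prime] [CharP k p] {X : Scheme.{u}}
  (f : X ⟶ Spec (CommRingCat.of k)) (k' : Type u) [Field k'] [Algebra k k']

include k f in
theorem isCharP_of_hom_field : IsCharP X p := by
  haveI : CharP (CommRingCat.of k) p := ‹CharP k p›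
  haveI : IsCharP (Spec (CommRingCat.of k)) p := inferInstance
  exact IsCharP.of_hom f p

theorem exists_appTop_eq_pow [IsPurelyInseparable k k']
    (r' : Γ(Spec (CommRingCat.of k'), ⊤)) :
    ∃ (n : ℕ) (r : Γ(Spec (CommRingCat.of k), ⊤)),
      (Spec.map (CommRingCat.ofHom (algebraMap k k'))).appTop r = r' ^ p ^ n := by
  haveI : ExpChar k p := ExpChar.prime (Fact.out : p.Prime)
  obtain ⟨n, y, hy⟩ := IsPurelyInseparable.pow_mem k p ((Scheme.ΓSpecIso (CommRingCat.of k')).hom r')
  refine ⟨n, (Scheme.ΓSpecIso (CommRingCat.of k)).inv y, ?_⟩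
  apply (Scheme.ΓSpecIso (CommRingCat.of k')).commRingCatIsoToRingEquiv.injective
  have h1 := congrArg (fun φ => (ConcreteCategory.hom φ) ((Scheme.ΓSpecIso (CommRingCat.of k)).inv y))
    (Scheme.ΓSpecIso_naturality (CommRingCat.ofHom (algebraMap k k')))
  dsimp only at h1
  rw [CategoryTheory.comp_apply, CategoryTheory.comp_apply, Iso.inv_hom_id_apply] at h1
  change (Scheme.ΓSpecIso (CommRingCat.of k')).hom _ = (Scheme.ΓSpecIso (CommRingCat.of k')).hom _
  rw [h1, map_pow]
  exact hy

theorem pDense_pullback_fst [IsPurelyInseparable k k']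
    [IsCharP (pullback f (Spec.map (CommRingCat.ofHom (algebraMap k k')))) p] :
    PDense (pullback.fst f (Spec.map (CommRingCat.ofHom (algebraMap k k')))) p where
  homeo := Groth.Agent.Lib.H71SepClosedGeom.isHomeomorph_pullback_fst k' f
  affine := by
    intro U hU b
    have H := IsPullback.of_hasPullback f (Spec.map (CommRingCat.ofHom (algebraMap k k')))
    have hiso := isIso_pushoutSection_of_isAffineOpen H (US := ⊤) (UT := ⊤) (UX := U) le_top le_top
      (UY := pullback.fst f (Spec.map (CommRingCat.ofHom (algebraMap k k'))) ⁻¹ᵁ U) (by simp)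
      (isAffineOpen_top _) (isAffineOpen_top _) hU
    have hpo := (isIso_pushoutSection_iff H _ _ _).1 hiso
    obtain ⟨n, a, ha⟩ := exists_pow_mem_range_of_isPushout (p := p) hpo
      (natCast_eq_zero_app _ p _) (by
        intro r'
        obtain ⟨n, r, hr⟩ := exists_appTop_eq_pow k p k' r'
        exact ⟨n, r, hr⟩) b
    refine ⟨n, a, ?_⟩
    rw [Scheme.Hom.appLE_eq_app] at ha
    exact ha

end Field



theorem exists_mul_eq_one_add_mul {q n : ℕ} (h : Nat.Coprime q n) (hq : 0 < q) (hn : 0 < n) :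
    ∃ a b : ℕ, a * q = 1 + b * n := by
  rcases Nat.lt_or_ge 1 n with h1 | h1
  · obtain ⟨m, -, hm⟩ := Nat.exists_mul_mod_eq_one_of_coprime h h1
    refine ⟨m, q * m / n, ?_⟩
    have := Nat.div_add_mod (q * m) n
    rw [hm] at this
    rw [mul_comm m q]
    conv_lhs => rw [← this]
    ring
  · have : n = 1 := le_antisymm h1 hn
    subst this
    exact ⟨1, q - 1, by omega⟩

variable {p : ℕ} [Fact p.Prime] {XP X : Scheme.{u}} {π : XP ⟶ X}

theorem cls_pullback_tensorPow (π : XP ⟶ X) {L : X.Modules} (hL : PicF.IsInvertible L) (a : ℕ) :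
    cls ((Scheme.Modules.pullback π).obj (CohB1.tensorPow L a)) =
      cls ((Scheme.Modules.pullback π).obj L) ^ a := by
  obtain ⟨e⟩ := Groth.Agent.Lib.H78AtlasIso.nonempty_pullback_tensorPow_iso π hL a
  rw [cls_eq_of_iso e, cls_tensorPow]

theorem cls_eq_of_cl_eq {Y : Scheme.{u}} {M N : Y.Modules} (h : PicF.cl M = PicF.cl N) : cls M = cls N :=
  cls_eq_iff.2 ((PicGrp.cl_eq_cl_iff _ _).1 h)

theorem cl_eq_of_cls_eq {Y : Scheme.{u}} {M N : Y.Modules} (h : cls M = cls N) : PicF.cl M = PicF.cl N :=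
  (PicGrp.cl_eq_cl_iff _ _).2 (cls_eq_iff.1 h)

variable [IsCharP XP p] [IsCharP X p]

theorem exists_torsion_descent (hX : PDense π p) [CompactSpace X] [QuasiSeparatedSpace X] (n : ℕ)
    (hn : ¬ p ∣ n) (M₀ : XP.Modules) (hM₀ : PicF.IsInvertible M₀) (h : cls M₀ ^ n = 1) :
    ∃ N : X.Modules, PicF.IsInvertible N ∧ cls N ^ n = 1 ∧
      cls ((Scheme.Modules.pullback π).obj N) = cls M₀ := by
  have hp : p.Prime := Fact.out
  have hn0 : 0 < n := Nat.pos_of_ne_zero (fun h0 => hn (h0 ▸ dvd_zero p))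
  have hcop : ∀ m : ℕ, Nat.Coprime (p ^ m) n := fun m =>
    Nat.Coprime.pow_left m ((Nat.Prime.coprime_iff_not_dvd hp).2 hn)
  -- Step A
  obtain ⟨m, L, hL, hML⟩ := exists_tensorPow_eq_pullCl hX M₀ hM₀
  have hML' : cls M₀ ^ p ^ m = cls ((Scheme.Modules.pullback π).obj L) := by
    rw [← cls_tensorPow]
    exact cls_eq_of_cl_eq hML
  obtain ⟨a, b, hab⟩ := exists_mul_eq_one_add_mul (hcop m) (Nat.pow_pos hp.pos) hn0
  let N₁ := CohB1.tensorPow L a
  have hN₁ : PicF.IsInvertible N₁ := isInvertible_tensorPow hL a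
  have hπN₁ : cls ((Scheme.Modules.pullback π).obj N₁) = cls M₀ := by
    rw [cls_pullback_tensorPow π hL a, ← hML', ← pow_mul, mul_comm, hab, pow_add, pow_one, mul_comm b n,
      pow_mul, h, one_pow, mul_one]
  -- Step D
  have hD : PicF.IsTrivialCl (PicF.pullCl π (PicF.cl (CohB1.tensorPow N₁ n))) := by
    apply cl_eq_of_cls_eq
    rw [cls_pullback_tensorPow π hN₁ n, hπN₁, h]
    rfl
  obtain ⟨j, hj⟩ := exists_isTrivialCl_of_pullCl hX (CohB1.tensorPow N₁ n) (isInvertible_tensorPow hN₁ n) hD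
  have hj' : (cls N₁ ^ n) ^ p ^ j = 1 := by
    rw [← cls_tensorPow, ← cls_tensorPow]
    exact cls_eq_of_cl_eq hj
  obtain ⟨e, t, het⟩ := exists_mul_eq_one_add_mul (hcop j) (Nat.pow_pos hp.pos) hn0
  refine ⟨CohB1.tensorPow N₁ (e * p ^ j), isInvertible_tensorPow hN₁ _, ?_, ?_⟩
  · rw [cls_tensorPow, ← pow_mul, mul_comm e, mul_comm (p ^ j * e), ← mul_assoc, pow_mul, pow_mul, hj', one_pow]
  · rw [cls_pullback_tensorPow π hN₁, hπN₁, het, pow_add, pow_one, mul_comm t n, pow_mul, h, one_pow,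
      mul_one]


end Groth.Agent.Lib.H15PurInsepPic
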