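import Groth.Prelude.Def_SGA1
import Mathlib.RingTheory.Invariant.Basic
import Mathlib.AlgebraicGeometry.Morphisms.Integral

/-!
# Quotients of schemes by finite groups: the ring of sections as a ring of invariants (helper45)

For `hp : SGA1.IsQuot ρ p` and an open `V ⊆ Y` we equip `Γ(X, p⁻¹V)` with the action of `G`
(`g • s = (ρ g⁻¹)^* s`), show that `Γ(Y, V) → Γ(X, p⁻¹V)` is the ring of invariants
(`Algebra.IsInvariant`) and deduce (for finite `G`): `p` is integral, surjective, its fibres are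
the `G`-orbits and it is a quotient map.
-/

set_option autoImplicit false
universe u

namespace Groth.Agent.Lib.IsQuot45

open AlgebraicGeometry CategoryTheory

variable {X Y : Scheme.{u}} {G : Type u} [Group G]

section Act

variable (ρ : G →* Aut X) (U : X.Opens) (hU : ∀ g : G, U ≤ (ρ g).hom ⁻¹ᵁ U)

lemma appLE_congr_hom {X Y : Scheme.{u}} {f f' : X ⟶ Y} (h : f = f') (U : Y.Opens) (V : X.Opens)
    (e : V ≤ f ⁻¹ᵁ U) : f.appLE U V e = f'.appLE U V (h ▸ e) := by
  subst h; rfl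

/-- pullback of sections over a `G`-stable open along `ρ g` -/
noncomputable def pull (g : G) : Γ(X, U) →+* Γ(X, U) := ((ρ g).hom.appLE U U (hU g)).hom

lemma pull_one : pull ρ U hU 1 = RingHom.id _ := by
  have h1 : (ρ 1).hom = 𝟙 X := by rw [map_one]; rfl
  unfold pull
  rw [appLE_congr_hom h1]
  have h2 : (𝟙 X : X ⟶ X).appLE U U (h1 ▸ hU 1) = 𝟙 _ := by
    unfold Scheme.Hom.appLE
    rw [Scheme.Hom.id_app]
    erw [Category.id_comp]
    exact X.presheaf.map_id _
  rw [h2]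
  rfl

lemma pull_mul (g h : G) : pull ρ U hU (g * h) = (pull ρ U hU h).comp (pull ρ U hU g) := by
  have h1 : (ρ (g * h)).hom = (ρ h).hom ≫ (ρ g).hom := by rw [map_mul]; rfl
  unfold pull
  rw [appLE_congr_hom h1, ← Scheme.Hom.appLE_comp_appLE _ _ U U U (hU g) (hU h)]
  rfl

lemma pull_comp_pull_inv (g : G) : (pull ρ U hU g).comp (pull ρ U hU g⁻¹) = RingHom.id _ := by
  rw [← pull_mul, inv_mul_cancel, pull_one]

lemma pull_inv_comp_pull (g : G) : (pull ρ U hU g⁻¹).comp (pull ρ U hU g) = RingHom.id _ := by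
  rw [← pull_mul, mul_inv_cancel, pull_one]

/-- the action of `g` on sections over a `G`-stable open: `s ↦ (ρ g⁻¹)^* s` -/
noncomputable def ringAut (g : G) : Γ(X, U) ≃+* Γ(X, U) :=
  RingEquiv.ofRingHom (pull ρ U hU g⁻¹) (pull ρ U hU g)
    (pull_inv_comp_pull ρ U hU g) (pull_comp_pull_inv ρ U hU g)

/-- the action of `G` on sections over a `G`-stable open, as a group homomorphism -/
noncomputable def actHom : G →* RingAut Γ(X, U) where
  toFun g := ringAut ρ U hU g
  map_one' := by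
    ext x
    change pull ρ U hU (1 : G)⁻¹ x = x
    rw [inv_one, pull_one]; rfl
  map_mul' g h := by
    ext x
    change pull ρ U hU (g * h)⁻¹ x = pull ρ U hU g⁻¹ (pull ρ U hU h⁻¹ x)
    rw [mul_inv_rev, pull_mul]; rfl

/-- the action of `G` on sections over a `G`-stable open (not an instance) -/
@[reducible] noncomputable def action : MulSemiringAction G Γ(X, U) :=
  MulSemiringAction.compHom _ (actHom ρ U hU)

lemma smul_def (g : G) (s : Γ(X, U)) :
    letI := action ρ U hU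
    g • s = pull ρ U hU g⁻¹ s := rfl

end Act

section Quot

variable {ρ : G →* Aut X} {p : X ⟶ Y} (hp : SGA1.IsQuot ρ p) (V : Y.Opens)

include hp in
lemma stable (g : G) : p ⁻¹ᵁ V ≤ (ρ g).hom ⁻¹ᵁ (p ⁻¹ᵁ V) :=
  SGA1.preimage_le_of_inv ρ p hp.inv g V

/-- the `G`-action on `Γ(X, p⁻¹V)` -/
@[reducible] noncomputable def actionV : MulSemiringAction G Γ(X, p ⁻¹ᵁ V) :=
  action ρ (p ⁻¹ᵁ V) (fun g => stable hp V g)

/-- `Γ(X, p⁻¹V)` as an algebra over `Γ(Y, V)` -/
@[reducible] noncomputable def algebraV (p : X ⟶ Y) (V : Y.Opens) :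
    Algebra Γ(Y, V) Γ(X, p ⁻¹ᵁ V) := (p.app V).hom.toAlgebra

lemma pull_app (g : G) (b : Γ(Y, V)) :
    pull ρ (p ⁻¹ᵁ V) (fun g => stable hp V g) g ((p.app V).hom b) = (p.app V).hom b := by
  have h1 : p.app V ≫ (ρ g).hom.appLE (p ⁻¹ᵁ V) (p ⁻¹ᵁ V) (stable hp V g) = p.app V := by
    rw [← Scheme.Hom.comp_appLE, appLE_congr_hom (hp.inv g), Scheme.Hom.appLE_eq_app]
  exact congrArg (fun φ => φ.hom b) h1

lemma smulCommClass :
    letI := actionV hp V
    letI := algebraV p V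
    SMulCommClass G Γ(Y, V) Γ(X, p ⁻¹ᵁ V) := by
  let _ := actionV hp V
  let _ := algebraV p V
  refine ⟨fun g b a => ?_⟩
  rw [Algebra.smul_def, Algebra.smul_def, smul_mul']
  congr 1
  exact pull_app hp V g⁻¹ b

lemma isInvariant :
    letI := actionV hp V
    letI := algebraV p V
    Algebra.IsInvariant Γ(Y, V) Γ(X, p ⁻¹ᵁ V) G := by
  let _ := actionV hp V
  let _ := algebraV p V
  refine ⟨fun a ha => ?_⟩
  have := (hp.range_iff V a).mpr (fun g => by
    have := ha g⁻¹
    rw [smul_def, inv_inv] at this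
    exact this)
  exact this

/-- `Γ(Y, V) → Γ(X, p⁻¹V)` is integral. -/
theorem isIntegral_app {ρ : G →* Aut X} {p : X ⟶ Y} [Finite G] (hp : SGA1.IsQuot ρ p)
    (V : Y.Opens) : (p.app V).hom.IsIntegral := by
  let _ := actionV hp V
  let _ := algebraV p V
  have := smulCommClass hp V
  have := isInvariant hp V
  have h := Algebra.IsInvariant.isIntegral Γ(Y, V) Γ(X, p ⁻¹ᵁ V) G
  exact fun x => h.isIntegral x

/-- A quotient by a finite group is an integral morphism. -/
theorem isIntegralHom {ρ : G →* Aut X} {p : X ⟶ Y} [Finite G] (hp : SGA1.IsQuot ρ p) :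
    IsIntegralHom p :=
  { hp.affine with isIntegral_app := fun V _ => isIntegral_app hp V }

/-- A quotient by a finite group is surjective. -/
theorem surjective {ρ : G →* Aut X} {p : X ⟶ Y} [Finite G] (hp : SGA1.IsQuot ρ p) :
    Function.Surjective p := by
  have := hp.affine
  intro y
  obtain ⟨_, ⟨V, hV, rfl⟩, hyV, -⟩ :=
    Y.isBasis_affineOpens.exists_subset_of_mem_open (Set.mem_univ y) isOpen_univ
  have hU : IsAffineOpen (p ⁻¹ᵁ V) := hV.preimage p
  obtain ⟨P, hP⟩ := (isIntegral_app hp V).comap_surjective (hp.injective V) (hV.primeIdealOf ⟨y, hyV⟩)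
  refine ⟨hU.fromSpec P, ?_⟩
  have h1 := IsAffineOpen.SpecMap_appLE_fromSpec p hV hU le_rfl
  have h2 := congrArg (fun φ => φ P) h1
  simp only [Scheme.Hom.comp_apply] at h2
  rw [← h2, Scheme.Hom.appLE_eq_app]
  have h3 : (Spec.map (p.app V)) P = hV.primeIdealOf ⟨y, hyV⟩ := hP
  rw [h3]
  exact hV.fromSpec_primeIdealOf ⟨y, hyV⟩

/-- The fibres of a quotient by a finite group are the orbits. -/
theorem eq_iff_exists_smul {ρ : G →* Aut X} {p : X ⟶ Y} [Finite G] (hp : SGA1.IsQuot ρ p)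
    (x x' : X) : p x = p x' ↔ ∃ g : G, (ρ g).hom x = x' := by
  have := hp.affine
  constructor
  · intro hxx'
    obtain ⟨_, ⟨V, hV, rfl⟩, hyV, -⟩ :=
      Y.isBasis_affineOpens.exists_subset_of_mem_open (Set.mem_univ (p x)) isOpen_univ
    have hU : IsAffineOpen (p ⁻¹ᵁ V) := hV.preimage p
    have hx : x ∈ p ⁻¹ᵁ V := hyV
    have hx' : x' ∈ p ⁻¹ᵁ V := by
      change p x' ∈ V
      rw [← hxx']; exact hyV
    let _ := actionV hp V
    let _ := algebraV p V
    have := smulCommClass hp V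
    have := isInvariant hp V
    let P := hU.primeIdealOf ⟨x, hx⟩
    let P' := hU.primeIdealOf ⟨x', hx'⟩
    have h1 := IsAffineOpen.comap_primeIdealOf_appLE V hV (p ⁻¹ᵁ V) hU le_rfl hx
    have h1' := IsAffineOpen.comap_primeIdealOf_appLE V hV (p ⁻¹ᵁ V) hU le_rfl hx'
    have h2 : P.asIdeal.under Γ(Y, V) = P'.asIdeal.under Γ(Y, V) := by
      have e : (⟨p x, hyV⟩ : V) = ⟨p x', le_rfl (a := p ⁻¹ᵁ V) hx'⟩ := Subtype.ext hxx'
      have := h1.trans ((congrArg hV.primeIdealOf e).trans h1'.symm)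
      have h3 := congrArg PrimeSpectrum.asIdeal this
      rw [Scheme.Hom.appLE_eq_app] at h3
      exact h3
    obtain ⟨g, hg⟩ := Algebra.IsInvariant.exists_smul_of_under_eq Γ(Y, V) Γ(X, p ⁻¹ᵁ V) G
      P.asIdeal P'.asIdeal h2
    refine ⟨g, ?_⟩
    have h4 := IsAffineOpen.comap_primeIdealOf_appLE (f := (ρ g).hom) (p ⁻¹ᵁ V) hU (p ⁻¹ᵁ V) hU
      (stable hp V g) hx
    have h5 : P' = hU.primeIdealOf ⟨(ρ g).hom x, stable hp V g hx⟩ := by
      rw [← h4]
      apply PrimeSpectrum.ext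
      rw [hg]
      ext b
      rw [Ideal.mem_pointwise_smul_iff_inv_smul_mem]
      change pull ρ (p ⁻¹ᵁ V) _ g⁻¹⁻¹ b ∈ P.asIdeal ↔ pull ρ (p ⁻¹ᵁ V) _ g b ∈ P.asIdeal
      rw [inv_inv]
    have h6 := congrArg hU.fromSpec h5
    rw [hU.fromSpec_primeIdealOf, hU.fromSpec_primeIdealOf] at h6
    exact h6.symm
  · rintro ⟨g, rfl⟩
    rw [← Scheme.Hom.comp_apply, hp.inv g]

/-- A quotient by a finite group is a topological quotient map. -/
theorem isQuotientMap {ρ : G →* Aut X} {p : X ⟶ Y} [Finite G] (hp : SGA1.IsQuot ρ p) :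
    Topology.IsQuotientMap p := by
  have := isIntegralHom hp
  exact (p.isClosedMap).isQuotientMap p.continuous (surjective hp)

end Quot

end Groth.Agent.Lib.IsQuot45
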