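import Mathlib
import Groth.Agent.Lib.IsQuot45

set_option autoImplicit false
universe u

namespace Groth.Agent.Lib.H15QuotResidue

open scoped Pointwise

section alg

variable {A B K L : Type u} [CommRing A] [CommRing B] [Algebra A B] [Field K] [Field L]
  (G : Type u) [Group G] [Finite G] [MulSemiringAction G B] [SMulCommClass G A B]
  [Algebra.IsInvariant A B G] (evA : A →+* K) (evB : B →+* L) (φ : K →+* L)

lemma isFractionRing_kerLift {R F : Type u} [CommRing R] [Field F] (ev : R →+* F)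
    (h : ∀ z : F, ∃ a s : R, ev s ≠ 0 ∧ z * ev s = ev a) :
    let : Algebra (R ⧸ RingHom.ker ev) F := (RingHom.kerLift ev).toAlgebra
    IsFractionRing (R ⧸ RingHom.ker ev) F := by
  let : Algebra (R ⧸ RingHom.ker ev) F := (RingHom.kerLift ev).toAlgebra
  have : FaithfulSMul (R ⧸ RingHom.ker ev) F :=
    (faithfulSMul_iff_algebraMap_injective _ _).2 (RingHom.kerLift_injective ev)
  refine IsFractionRing.of_field (surj := fun z => ?_)
  obtain ⟨a, s, hs, e⟩ := h z
  refine ⟨Ideal.Quotient.mk _ a, Ideal.Quotient.mk _ s, ?_⟩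
  change z = ev a / ev s
  rw [← e, mul_div_cancel_right₀ _ hs]

theorem abstract_main
    (hcomp : φ.comp evA = evB.comp (algebraMap A B))
    (hA : ∀ z : K, ∃ a s : A, evA s ≠ 0 ∧ z * evA s = evA a)
    (hB : ∀ z : L, ∃ b s : B, evB s ≠ 0 ∧ z * evB s = evB b) :
    (letI := φ.toAlgebra; Normal K L) ∧
    ∀ τ : L ≃+* L, (τ : L →+* L).comp φ = φ →
      ∃ σ : G, σ • RingHom.ker evB = RingHom.ker evB ∧ ∀ b, τ (evB b) = evB (σ • b) := by
  let := φ.toAlgebra
  have : (RingHom.ker evB).IsPrime := RingHom.ker_isPrime evB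
  have : (RingHom.ker evA).IsPrime := RingHom.ker_isPrime evA
  have : (RingHom.ker evB).LiesOver (RingHom.ker evA) := ⟨by
    ext a
    rw [Ideal.mem_comap, RingHom.mem_ker, RingHom.mem_ker]
    have := congrArg (fun ψ => ψ a) hcomp
    simp only [RingHom.comp_apply] at this
    rw [← this]
    exact (map_eq_zero_iff φ φ.injective).symm⟩
  let : Algebra (A ⧸ RingHom.ker evA) K := (RingHom.kerLift evA).toAlgebra
  let : Algebra (B ⧸ RingHom.ker evB) L := (RingHom.kerLift evB).toAlgebra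
  let : Algebra (A ⧸ RingHom.ker evA) L := (φ.comp (RingHom.kerLift evA)).toAlgebra
  have : IsScalarTower (A ⧸ RingHom.ker evA) K L := IsScalarTower.of_algebraMap_eq (fun _ => rfl)
  have : IsScalarTower (A ⧸ RingHom.ker evA) (B ⧸ RingHom.ker evB) L :=
    IsScalarTower.of_algebraMap_eq (by
      intro a
      obtain ⟨a, rfl⟩ := Ideal.Quotient.mk_surjective a
      have := congrArg (fun ψ => ψ a) hcomp
      simp only [RingHom.comp_apply] at this
      exact this)
  have : IsFractionRing (A ⧸ RingHom.ker evA) K := isFractionRing_kerLift evA hA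
  have : IsFractionRing (B ⧸ RingHom.ker evB) L := isFractionRing_kerLift evB hB
  refine ⟨Ideal.IsFractionRing.normal G (RingHom.ker evA) (RingHom.ker evB) K L, ?_⟩
  intro τ hτ
  let τ' : L ≃ₐ[K] L := AlgEquiv.ofRingEquiv (f := τ) (fun k => congrArg (fun ψ => ψ k) hτ)
  obtain ⟨σ, hσ⟩ := IsFractionRing.stabilizerHom_surjective G (RingHom.ker evA) (RingHom.ker evB)
    K L τ'
  refine ⟨σ.1, σ.2, fun b => ?_⟩
  have := IsFractionRing.stabilizerHom_apply_apply_mk G (RingHom.ker evA) (RingHom.ker evB) K L σ b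
  rw [hσ] at this
  exact this

end alg

section sch

open AlgebraicGeometry CategoryTheory

variable {X Y : Scheme.{u}} {U : X.Opens}

lemma evaluation_frac (hU : IsAffineOpen U) (x : X) (hx : x ∈ U) (z : X.residueField x) :
    ∃ b s : Γ(X, U), (X.evaluation U x hx).hom s ≠ 0 ∧
      z * (X.evaluation U x hx).hom s = (X.evaluation U x hx).hom b := by
  obtain ⟨w, rfl⟩ := X.residue_surjective x z
  let _ := TopCat.Presheaf.algebra_section_stalk X.presheaf (⟨x, hx⟩ : U)
  have hloc := hU.isLocalization_stalk ⟨x, hx⟩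
  obtain ⟨⟨b, s⟩, h⟩ := IsLocalization.surj (hU.primeIdealOf ⟨x, hx⟩).asIdeal.primeCompl w
  refine ⟨b, s.1, ?_, ?_⟩
  · have hu : IsUnit (algebraMap Γ(X, U) (X.presheaf.stalk x) s.1) :=
      IsLocalization.map_units _ s
    have : IsUnit ((X.evaluation U x hx).hom s.1) := hu.map (X.residue x).hom
    exact this.ne_zero
  · have := congrArg (X.residue x).hom h
    rw [map_mul] at this
    exact this

lemma eq_of_forall_evaluation_eq_zero_iff (hU : IsAffineOpen U) {x x' : X} (hx : x ∈ U)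
    (hx' : x' ∈ U)
    (h : ∀ b : Γ(X, U), (X.evaluation U x hx).hom b = 0 ↔ (X.evaluation U x' hx').hom b = 0) :
    x = x' := by
  by_contra hne
  obtain ⟨W, hW, hxor⟩ := exists_isOpen_xor_mem hne
  rcases hxor with ⟨h1, h2⟩ | ⟨h1, h2⟩
  · obtain ⟨f, hfW, hxf⟩ := hU.exists_basicOpen_le (V := ⟨W, hW⟩) ⟨x, h1⟩ hx
    have h3 := (X.evaluation_eq_zero_iff_notMem_basicOpen x hx f).not.2 (not_not.2 hxf)
    have h4 := (X.evaluation_eq_zero_iff_notMem_basicOpen x' hx' f).2 (fun hc => h2 (hfW hc))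
    exact h3 ((h f).2 h4)
  · obtain ⟨f, hfW, hxf⟩ := hU.exists_basicOpen_le (V := ⟨W, hW⟩) ⟨x', h1⟩ hx'
    have h3 := (X.evaluation_eq_zero_iff_notMem_basicOpen x' hx' f).not.2 (not_not.2 hxf)
    have h4 := (X.evaluation_eq_zero_iff_notMem_basicOpen x hx f).2 (fun hc => h2 (hfW hc))
    exact h3 ((h f).1 h4)

lemma residueFieldCongr_evaluation {x x' : X} (e : x' = x) (hx' : x' ∈ U) (b : Γ(X, U)) :
    (X.residueFieldCongr e).hom.hom ((X.evaluation U x' hx').hom b) =
      (X.evaluation U x (e ▸ hx')).hom b := by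
  subst e
  simp

lemma residueFieldMap_evaluation_appLE (f : X ⟶ Y) {V : Y.Opens} (e : U ≤ f ⁻¹ᵁ V) (x : X)
    (hx : x ∈ U) (b : Γ(Y, V)) :
    (f.residueFieldMap x).hom ((Y.evaluation V (f x) (e hx)).hom b) =
      (X.evaluation U x hx).hom ((f.appLE V U e).hom b) := by
  have h1 := Scheme.evaluation_naturality_apply f x (e hx) b
  refine h1.trans ?_
  unfold Scheme.Hom.appLE
  unfold Scheme.evaluation
  simp only [CommRingCat.hom_comp, RingHom.comp_apply]
  congr 1
  exact (TopCat.Presheaf.germ_res_apply X.presheaf (homOfLE e) x hx _).symm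

end sch

section main

open AlgebraicGeometry CategoryTheory Groth.Agent.Lib.IsQuot45

variable {X Y : Scheme.{u}} {G : Type u} [Group G] [Finite G]

theorem main (ρ : G →* Aut X) (p : X ⟶ Y) (hp : SGA1.IsQuot ρ p) (x : X) :
    (letI := (p.residueFieldMap x).hom.toAlgebra
     Normal (Y.residueField (p.base x)) (X.residueField x)) ∧
    ∀ τ : X.residueField x ≅ X.residueField x,
      p.residueFieldMap x ≫ τ.hom = p.residueFieldMap x →
      ∃ (g : G) (e : (ρ g).hom.base x = x),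
        τ.hom = (X.residueFieldCongr e).inv ≫ (ρ g).hom.residueFieldMap x := by
  have := hp.affine
  obtain ⟨_, ⟨V, hV, rfl⟩, hyV, -⟩ :=
    Y.isBasis_affineOpens.exists_subset_of_mem_open (Set.mem_univ (p x)) isOpen_univ
  have hU : IsAffineOpen (p ⁻¹ᵁ V) := hV.preimage p
  have hx : x ∈ p ⁻¹ᵁ V := hyV
  let _ := actionV hp V
  let _ := algebraV p V
  have := smulCommClass hp V
  have := isInvariant hp V
  let evA := (Y.evaluation V (p x) hyV).hom
  let evB := (X.evaluation (p ⁻¹ᵁ V) x hx).hom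
  let φ := (p.residueFieldMap x).hom
  have hcomp : φ.comp evA = evB.comp (algebraMap Γ(Y, V) Γ(X, p ⁻¹ᵁ V)) := by
    ext a
    exact Scheme.evaluation_naturality_apply p x hyV a
  obtain ⟨hnorm, hstab⟩ := abstract_main G evA evB φ hcomp (evaluation_frac hV (p x) hyV)
    (evaluation_frac hU x hx)
  refine ⟨hnorm, ?_⟩
  intro τ hτ
  obtain ⟨σ, hσQ, hσ⟩ := hstab τ.commRingCatIsoToRingEquiv (by
    ext k
    exact congrArg (fun ψ => ψ.hom k) hτ)
  have hpull : ∀ b : Γ(X, p ⁻¹ᵁ V),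
      (((ρ σ⁻¹).hom.residueFieldMap x).hom
        ((X.evaluation (p ⁻¹ᵁ V) ((ρ σ⁻¹).hom x) (stable hp V σ⁻¹ hx)).hom b)) = evB (σ • b) := by
    intro b
    rw [residueFieldMap_evaluation_appLE (ρ σ⁻¹).hom (stable hp V σ⁻¹) x hx b]
    rfl
  have hfix : (ρ σ⁻¹).hom.base x = x := by
    symm
    apply eq_of_forall_evaluation_eq_zero_iff hU hx (stable hp V σ⁻¹ hx)
    intro b
    have h1 : σ • b ∈ RingHom.ker evB ↔ b ∈ RingHom.ker evB := by
      conv_lhs => rw [← hσQ]
      exact Ideal.smul_mem_pointwise_smul_iff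
    have h2 := hpull b
    have h3 : (((ρ σ⁻¹).hom.residueFieldMap x).hom
        ((X.evaluation (p ⁻¹ᵁ V) ((ρ σ⁻¹).hom x) (stable hp V σ⁻¹ hx)).hom b)) = 0 ↔
        (X.evaluation (p ⁻¹ᵁ V) ((ρ σ⁻¹).hom x) (stable hp V σ⁻¹ hx)).hom b = 0 :=
      map_eq_zero_iff _ ((ρ σ⁻¹).hom.residueFieldMap x).hom.injective
    rw [← h3, h2]
    exact h1.symm
  refine ⟨σ⁻¹, hfix, ?_⟩
  apply CommRingCat.hom_ext
  apply RingHom.ext
  have hagree : ∀ b : Γ(X, p ⁻¹ᵁ V), τ.hom.hom (evB b) =
      ((X.residueFieldCongr hfix).inv ≫ (ρ σ⁻¹).hom.residueFieldMap x).hom (evB b) := by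
    intro b
    have h1 : τ.hom.hom (evB b) = evB (σ • b) := hσ b
    rw [h1, ← hpull b]
    rw [Scheme.residueFieldCongr_inv, CommRingCat.hom_comp, RingHom.comp_apply]
    congr 1
    exact (residueFieldCongr_evaluation hfix.symm hx b).symm
  intro z
  obtain ⟨b, s, hs, e⟩ := evaluation_frac hU x hx z
  have hs' : τ.hom.hom (evB s) ≠ 0 := (map_ne_zero_iff _ τ.hom.hom.injective).2 hs
  have e1 := congrArg τ.hom.hom e
  have e2 := congrArg ((X.residueFieldCongr hfix).inv ≫ (ρ σ⁻¹).hom.residueFieldMap x).hom e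
  rw [map_mul] at e1 e2
  rw [← hagree b, ← e1, ← hagree s] at e2
  exact (mul_right_cancel₀ hs' e2).symm

end main

end Groth.Agent.Lib.H15QuotResidue
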