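import Mathlib
import Groth.Agent.Lib.H15ClosedSupp
import Groth.Prelude.Def_LocCohZ

set_option autoImplicit false
set_option linter.unusedSectionVars false
universe u

namespace Groth.Agent.Lib.H15ShriekAdj

open CategoryTheory TopologicalSpace Opposite Topology CategoryTheory.Limits
open Groth.Agent.Lib.H15SheafLocal Groth.Agent.Lib.H15ClosedSupp

section abstractAdj

variable {C D : Type*} [Category C] [Category D]
  {L : C ⥤ D} {R : D ⥤ C} (adj : L ⊣ R) (Γ : C ⥤ C) (ι : Γ ⟶ 𝟭 C)

/-- abstract construction of `R ⊣ Γ ⋙ L` (think `i_* ⊣ i⁻¹ Γ_Z`). -/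
theorem nonempty_adjunction_R_ΓL
    (ha : ∀ G : D, IsIso (adj.counit.app G))
    (hb : ∀ F : C, IsIso (adj.unit.app (Γ.obj F)))
    (hmono : ∀ F : C, Mono (ι.app F))
    (hlift : ∀ (G : D) (F : C) (h : R.obj G ⟶ F), ∃ h' : R.obj G ⟶ Γ.obj F, h' ≫ ι.app F = h) :
    Nonempty (R ⊣ Γ ⋙ L) := by
  choose lift hliftι using hlift
  have lift_unique : ∀ (G : D) (F : C) (h : R.obj G ⟶ F) (h' : R.obj G ⟶ Γ.obj F),
      h' ≫ ι.app F = h → h' = lift G F h := by
    intro G F h h' e
    apply (cancel_mono (ι.app F)).1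
    rw [e, hliftι]
  have hηR : ∀ G : D, adj.unit.app (R.obj G) = R.map (inv (adj.counit.app G)) := by
    intro G
    have h1 := adj.right_triangle_components G
    rw [Functor.map_inv]
    exact (IsIso.eq_inv_of_inv_hom_id h1)
  refine ⟨Adjunction.mkOfHomEquiv
    { homEquiv := fun G F =>
        { toFun := fun h => inv (adj.counit.app G) ≫ L.map (lift G F h)
          invFun := fun g => R.map g ≫ inv (adj.unit.app (Γ.obj F)) ≫ ι.app F
          left_inv := ?_
          right_inv := ?_ }
      homEquiv_naturality_left_symm := ?_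
      homEquiv_naturality_right := ?_ }⟩
  · intro h
    have e1 : R.map (inv (adj.counit.app G) ≫ L.map (lift G F h)) ≫ inv (adj.unit.app (Γ.obj F)) =
        lift G F h := by
      rw [Functor.map_comp, ← hηR, IsIso.comp_inv_eq]
      exact adj.unit_naturality (lift G F h)
    show R.map (inv (adj.counit.app G) ≫ L.map (lift G F h)) ≫ inv (adj.unit.app (Γ.obj F)) ≫
      ι.app F = h
    rw [← Category.assoc, e1, hliftι]
  · intro g
    have e1 : lift G F (R.map g ≫ inv (adj.unit.app (Γ.obj F)) ≫ ι.app F) =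
        R.map g ≫ inv (adj.unit.app (Γ.obj F)) :=
      (lift_unique G F _ _ (by rw [Category.assoc])).symm
    show inv (adj.counit.app G) ≫
      L.map (lift G F (R.map g ≫ inv (adj.unit.app (Γ.obj F)) ≫ ι.app F)) = g
    rw [e1, Functor.map_comp, ← Category.assoc]
    have n2 : inv (adj.counit.app G) ≫ L.map (R.map g) =
        g ≫ inv (adj.counit.app (L.obj (Γ.obj F))) := by
      rw [IsIso.inv_comp_eq, ← Category.assoc, IsIso.eq_comp_inv]
      exact adj.counit_naturality g
    have n3 : inv (adj.counit.app (L.obj (Γ.obj F))) ≫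
        L.map (inv (adj.unit.app (Γ.obj F))) = 𝟙 (L.obj (Γ.obj F)) := by
      rw [Functor.map_inv, ← IsIso.inv_comp]
      apply IsIso.inv_eq_of_hom_inv_id
      exact (Category.comp_id _).trans (adj.left_triangle_components (Γ.obj F))
    rw [n2, Category.assoc, n3]
    exact Category.comp_id g
  · intro G' G F f g
    show R.map (f ≫ g) ≫ inv (adj.unit.app (Γ.obj F)) ≫ ι.app F =
      R.map f ≫ R.map g ≫ inv (adj.unit.app (Γ.obj F)) ≫ ι.app F
    rw [Functor.map_comp, Category.assoc]
  · intro G F F' h φ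
    have e1 : lift G F' (h ≫ φ) = lift G F h ≫ Γ.map φ := by
      symm
      apply lift_unique
      rw [Category.assoc]
      have := ι.naturality φ
      rw [this, ← Category.assoc, hliftι]
      rfl
    show inv (adj.counit.app G) ≫ L.map (lift G F' (h ≫ φ)) =
      (inv (adj.counit.app G) ≫ L.map (lift G F h)) ≫ L.map (Γ.map φ)
    rw [e1, Functor.map_comp, Category.assoc]

end abstractAdj

section concrete

variable {X : TopCat.{u}}

/-- `kernel.ι` as a natural transformation `Γ_Z ⟶ 𝟭`. -/
noncomputable def sectSuppι (U : Opens X) : LocCohZ.sectSuppF U ⟶ 𝟭 (CohTop.Ab X) where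
  app F := kernel.ι
    ((TopCat.Sheaf.pullbackPushforwardAdjunction AddCommGrpCat.{u} (CohCx.incl U)).unit.app F)
  naturality F G φ := by
    simp only [LocCohZ.sectSuppF, kernel.map, Functor.id_obj, Functor.id_map]
    exact kernel.lift_ι _ _ _

/-- `i_* ⊣ i⁻¹ Γ_Z` for the closed complement `Z` of an open `U`. -/
theorem main (U : Opens X) :
    Nonempty (CohTop.push (CohCx.inclCompl U) ⊣
      LocCohZ.sectSuppF U ⋙ CohTop.pull (CohCx.inclCompl U)) := by
  let i := CohCx.inclCompl U
  have hi : Topology.IsInducing i := Topology.IsInducing.subtypeVal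
  have hrange : Set.range i = (U : Set X)ᶜ := Subtype.range_coe
  have hcl : IsClosed (Set.range i) := by rw [hrange]; exact U.2.isClosed_compl
  exact nonempty_adjunction_R_ΓL (C := CohTop.Ab X)
    (D := CohTop.Ab (TopCat.of ((U : Set X)ᶜ : Set X)))
    (L := CohTop.pull i) (R := CohTop.push i)
    (TopCat.Sheaf.pullbackPushforwardAdjunction AddCommGrpCat.{u} i) (LocCohZ.sectSuppF U)
    (sectSuppι U)
    (fun G => isIso_counit_of_isInducing AddCommGrpCat.{u} i G hi)
    (fun F => isIso_unit_of_supported AddCommGrpCat.{u} i (CohCx.sectSupp U F) hi hcl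
      (fun V hV => subsingleton_sectSupp U F V (by
        intro x hx
        by_contra hxU
        exact Set.disjoint_left.1 hV hx (by rw [hrange]; exact hxU)))
      (fun V => ⟨0⟩))
    (fun F => inferInstanceAs (Mono (kernel.ι
      ((TopCat.Sheaf.pullbackPushforwardAdjunction AddCommGrpCat.{u} (CohCx.incl U)).unit.app F))))
    (fun G F h => ⟨kernel.lift _ h (comp_unit_eq_zero U F G h), kernel.lift_ι _ _ _⟩)

end concrete

end Groth.Agent.Lib.H15ShriekAdj
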