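import Mathlib

set_option autoImplicit false
set_option linter.unusedSectionVars false
universe u

namespace Groth.Agent.Lib.H15SpecClosedSections

open CategoryTheory TopologicalSpace Opposite Topology

section agree

variable {X : TopCat.{u}} (F : TopCat.Presheaf (Type u) X)

lemma res_res {U V W : Opens X} (h1 : V ≤ U) (h2 : W ≤ V) (a : F.obj (op U)) :
    F.map (homOfLE h2).op (F.map (homOfLE h1).op a) = F.map (homOfLE (h2.trans h1)).op a := by
  rw [← FunctorToTypes.map_comp_apply]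
  rfl

/-- two sections agree near `x`. -/
def AgreeAt {U V : Opens X} (a : F.obj (op U)) (b : F.obj (op V)) (x : X) : Prop :=
  ∃ (W : Opens X) (_ : x ∈ W) (hU : W ≤ U) (hV : W ≤ V),
    F.map (homOfLE hU).op a = F.map (homOfLE hV).op b

variable {F}

lemma AgreeAt.refl {U : Opens X} (a : F.obj (op U)) {x : X} (hx : x ∈ U) : AgreeAt F a a x :=
  ⟨U, hx, le_rfl, le_rfl, rfl⟩

lemma AgreeAt.symm {U V : Opens X} {a : F.obj (op U)} {b : F.obj (op V)} {x : X}
    (h : AgreeAt F a b x) : AgreeAt F b a x := by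
  obtain ⟨W, hx, hU, hV, e⟩ := h
  exact ⟨W, hx, hV, hU, e.symm⟩

lemma AgreeAt.trans {U V V' : Opens X} {a : F.obj (op U)} {b : F.obj (op V)} {c : F.obj (op V')}
    {x : X} (h : AgreeAt F a b x) (h' : AgreeAt F b c x) : AgreeAt F a c x := by
  obtain ⟨W, hx, hU, hV, e⟩ := h
  obtain ⟨W', hx', hU', hV', e'⟩ := h'
  refine ⟨W ⊓ W', ⟨hx, hx'⟩, inf_le_left.trans hU, inf_le_right.trans hV', ?_⟩
  have e1 := congrArg (F.map (homOfLE (inf_le_left : W ⊓ W' ≤ W)).op) e
  have e2 := congrArg (F.map (homOfLE (inf_le_right : W ⊓ W' ≤ W')).op) e'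
  rw [res_res, res_res] at e1 e2
  exact e1.trans e2

lemma AgreeAt.mem_left {U V : Opens X} {a : F.obj (op U)} {b : F.obj (op V)} {x : X}
    (h : AgreeAt F a b x) : x ∈ U := by
  obtain ⟨W, hx, hU, hV, e⟩ := h
  exact hU hx

lemma AgreeAt.mem_right {U V : Opens X} {a : F.obj (op U)} {b : F.obj (op V)} {x : X}
    (h : AgreeAt F a b x) : x ∈ V := by
  obtain ⟨W, hx, hU, hV, e⟩ := h
  exact hV hx

lemma isOpen_setOf_agreeAt {U V : Opens X} (a : F.obj (op U)) (b : F.obj (op V)) :
    IsOpen {x | AgreeAt F a b x} := by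
  rw [isOpen_iff_forall_mem_open]
  rintro x ⟨W, hx, hU, hV, e⟩
  exact ⟨W, fun y hy => ⟨W, hy, hU, hV, e⟩, W.2, hx⟩

/-- agreement is stable under generization. -/
lemma AgreeAt.of_mem_closure {U V : Opens X} {a : F.obj (op U)} {b : F.obj (op V)} {x z : X}
    (h : AgreeAt F a b z) (hz : z ∈ closure ({x} : Set X)) : AgreeAt F a b x := by
  obtain ⟨W, hzW, hU, hV, e⟩ := h
  obtain ⟨y, hyW, hy⟩ := mem_closure_iff.1 hz W W.2 hzW
  rw [Set.mem_singleton_iff] at hy
  subst hy
  exact ⟨W, hyW, hU, hV, e⟩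

lemma AgreeAt.res_left {U U' V : Opens X} (a : F.obj (op U)) (b : F.obj (op V)) (hU' : U' ≤ U)
    {x : X} (hx : x ∈ U') (h : AgreeAt F a b x) : AgreeAt F (F.map (homOfLE hU').op a) b x := by
  obtain ⟨W, hxW, hU, hV, e⟩ := h
  refine ⟨W ⊓ U', ⟨hxW, hx⟩, inf_le_right, inf_le_left.trans hV, ?_⟩
  have e1 := congrArg (F.map (homOfLE (inf_le_left : W ⊓ U' ≤ W)).op) e
  rw [res_res, res_res] at e1
  rw [res_res]
  exact e1

end agree

section sheaf

variable {X : TopCat.{u}} (F : TopCat.Sheaf (Type u) X)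

/-- sections that agree near every point of `W` have equal restrictions to `W`. -/
lemma res_eq_of_agreeAt {U V W : Opens X} (a : F.obj.obj (op U)) (b : F.obj.obj (op V))
    (hU : W ≤ U) (hV : W ≤ V) (h : ∀ x ∈ W, AgreeAt F.obj a b x) :
    F.obj.map (homOfLE hU).op a = F.obj.map (homOfLE hV).op b := by
  choose! N hxN hNU hNV hN using h
  refine TopCat.Sheaf.eq_of_locally_eq' F (fun x : W => N x.1 ⊓ W) W
    (fun x => homOfLE inf_le_right) ?_ _ _ ?_
  · intro x hx
    exact Opens.mem_iSup.2 ⟨⟨x, hx⟩, hxN x hx, hx⟩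
  · intro x
    have e1 := congrArg (F.obj.map (homOfLE (inf_le_left : N x.1 ⊓ W ≤ N x.1)).op) (hN x.1 x.2)
    rw [res_res, res_res] at e1
    rw [res_res, res_res]
    exact e1

end sheaf

section spectral

variable {X : TopCat.{u}} [SpectralSpace X]

omit [SpectralSpace X] in
/-- A compact open subset is closed for the constructible topology. -/
theorem isClosed_constructible_of_isCompact_isOpen
    {U : Set X} (hUo : IsOpen U) (hUc : IsCompact U) :
    IsClosed[constructibleTopology X] U := by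
  rw [← @isOpen_compl_iff X U (constructibleTopology X)]
  exact IsCompact.isOpen_constructibleTopology_of_isClosed (by simpa using hUc)
    hUo.isClosed_compl

/-- A spectral space is compact for its constructible topology. -/
theorem compactSpace_constructible : @CompactSpace X (constructibleTopology X) :=
  @Function.Surjective.compactSpace (WithConstructibleTopology X) X _ (constructibleTopology X)
    WithTopology.ofTopology (WithTopology.continuous_ofTopology _) inferInstance
    (WithTopology.ofTopology_surjective _)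

/-- an open set is open in the constructible topology. -/
theorem isOpen_constructible_of_isOpen {E : Set X} (hE : IsOpen E) :
    IsOpen[constructibleTopology X] E := by
  rw [@isOpen_iff_forall_mem_open X (constructibleTopology X) E]
  intro x hx
  obtain ⟨V, hV, hxV, hVE⟩ :=
    PrespectralSpace.isTopologicalBasis.exists_subset_of_mem_open hx hE
  exact ⟨V, hVE, hV.2.isOpen_constructibleTopology_of_isOpen hV.1, hxV⟩

end spectral

section glue

variable {X : TopCat.{u}} [SpectralSpace X] (Z : Set X) (hZ : IsClosed Z)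
  (hconn : ∀ x : X, IsConnected (Z ∩ closure {x}))
  (F : TopCat.Sheaf (Type u) X) {K : Type u} (U : K → Opens X)
  (hcov : Z ⊆ ⋃ k, (U k : Set X)) (s : ∀ k, F.obj.obj (op (U k)))
  (hs : ∀ k l, ∀ z ∈ Z, z ∈ U k → z ∈ U l → AgreeAt F.obj (s k) (s l) z)

include hconn hcov hs in
omit [SpectralSpace X] in
/-- Claim 1: agreement at points generizing into both `Z ∩ U k` and `Z ∩ U l`. -/
lemma agreeAt_of_generizes (x : X) (k l : K)
    (hk : ∃ z ∈ Z ∩ closure {x}, z ∈ U k) (hl : ∃ z ∈ Z ∩ closure {x}, z ∈ U l) :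
    AgreeAt F.obj (s k) (s l) x := by
  by_contra hcon
  have hmem : ∀ (m : K) (z : X), z ∈ closure ({x} : Set X) → z ∈ U m → x ∈ U m := by
    intro m z hz hzm
    obtain ⟨y, hyW, hy⟩ := mem_closure_iff.1 hz (U m) (U m).2 hzm
    rw [Set.mem_singleton_iff] at hy
    subst hy
    exact hyW
  let u : Set X := ⋃ m : {m : K // AgreeAt F.obj (s k) (s m) x}, (U m.1 : Set X)
  let v : Set X := ⋃ m : {m : K // x ∈ U m ∧ ¬ AgreeAt F.obj (s k) (s m) x}, (U m.1 : Set X)
  have hu : IsOpen u := isOpen_iUnion fun m => (U m.1).2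
  have hv : IsOpen v := isOpen_iUnion fun m => (U m.1).2
  obtain ⟨zk, hzk, hzkU⟩ := hk
  obtain ⟨zl, hzl, hzlU⟩ := hl
  have hsub : Z ∩ closure {x} ⊆ u ∪ v := by
    intro z hz
    obtain ⟨m, hm⟩ := Set.mem_iUnion.1 (hcov hz.1)
    by_cases h : AgreeAt F.obj (s k) (s m) x
    · exact Or.inl (Set.mem_iUnion.2 ⟨⟨m, h⟩, hm⟩)
    · exact Or.inr (Set.mem_iUnion.2 ⟨⟨m, hmem m z hz.2 hm, h⟩, hm⟩)
  have h1 : ((Z ∩ closure {x}) ∩ u).Nonempty :=
    ⟨zk, hzk, Set.mem_iUnion.2 ⟨⟨k, AgreeAt.refl _ (hmem k zk hzk.2 hzkU)⟩, hzkU⟩⟩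
  have h2 : ((Z ∩ closure {x}) ∩ v).Nonempty :=
    ⟨zl, hzl, Set.mem_iUnion.2 ⟨⟨l, hmem l zl hzl.2 hzlU, hcon⟩, hzlU⟩⟩
  obtain ⟨z, hz, hzu, hzv⟩ := (hconn x).isPreconnected u v hu hv hsub h1 h2
  obtain ⟨⟨m, hm⟩, hzm⟩ := Set.mem_iUnion.1 hzu
  obtain ⟨⟨m', hxm', hm'⟩, hzm'⟩ := Set.mem_iUnion.1 hzv
  exact hm' (hm.trans ((hs m m' z hz.1 hzm hzm').of_mem_closure hz.2))

include hZ hconn hcov hs in
/-- Claim 2 for a pair of indices. -/
lemma exists_opens_pair (hUc : ∀ k, IsCompact (U k : Set X)) (k l : K) :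
    ∃ V V' : Set X, IsOpen V ∧ IsOpen V' ∧ Z ∩ (U k : Set X) ⊆ V ∧ V ⊆ (U k : Set X) ∧
      Z ∩ (U l : Set X) ⊆ V' ∧ V' ⊆ (U l : Set X) ∧
      ∀ x ∈ V ∩ V', AgreeAt F.obj (s k) (s l) x := by
  let ι := {p : Set X × Set X //
    (IsOpen p.1 ∧ IsCompact p.1 ∧ Z ∩ (U k : Set X) ⊆ p.1 ∧ p.1 ⊆ (U k : Set X)) ∧
    (IsOpen p.2 ∧ IsCompact p.2 ∧ Z ∩ (U l : Set X) ⊆ p.2 ∧ p.2 ⊆ (U l : Set X))}
  let E : Set X := {x | AgreeAt F.obj (s k) (s l) x}
  have hE : IsOpen E := isOpen_setOf_agreeAt _ _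
  let t : ι → Set X := fun p => p.1.1 ∩ p.1.2 ∩ Eᶜ
  have hne : Nonempty ι :=
    ⟨⟨((U k : Set X), (U l : Set X)), ⟨(U k).2, hUc k, Set.inter_subset_right, subset_rfl⟩,
      ⟨(U l).2, hUc l, Set.inter_subset_right, subset_rfl⟩⟩⟩
  have hcl : ∀ i, IsClosed[constructibleTopology X] (t i) := fun i =>
    @IsClosed.inter X _ _ (constructibleTopology X)
      (@IsClosed.inter X _ _ (constructibleTopology X)
        (isClosed_constructible_of_isCompact_isOpen i.2.1.1 i.2.1.2.1)
        (isClosed_constructible_of_isCompact_isOpen i.2.2.1 i.2.2.2.1))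
      ((@isClosed_compl_iff X (constructibleTopology X) E).2 (isOpen_constructible_of_isOpen hE))
  have hkey : ∀ (m : K) (x : X), (∀ V : Set X, IsOpen V → IsCompact V → Z ∩ (U m : Set X) ⊆ V →
      V ⊆ (U m : Set X) → x ∈ V) → ∃ z ∈ Z ∩ closure {x}, z ∈ U m := by
    intro m x hx
    by_contra hcon
    push Not at hcon
    have hcpt : IsCompact (Z ∩ (U m : Set X)) := (hUc m).inter_left hZ
    have hopen : IsOpen ((U m : Set X) ∩ (closure ({x} : Set X))ᶜ) :=
      (U m).2.inter isClosed_closure.isOpen_compl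
    obtain ⟨W, hWc, hWo, hZW, hWU⟩ :=
      PrespectralSpace.exists_isCompact_and_isOpen_between hcpt hopen
        (fun z hz => ⟨hz.2, fun hzx => hcon z ⟨hz.1, hzx⟩ hz.2⟩)
    have := hx W hWo hWc hZW (hWU.trans Set.inter_subset_left)
    exact (hWU this).2 (subset_closure rfl)
  have hempty : Set.univ ∩ ⋂ i, t i = ∅ := by
    rw [Set.univ_inter, Set.eq_empty_iff_forall_notMem]
    intro x hx
    rw [Set.mem_iInter] at hx
    have hk : ∃ z ∈ Z ∩ closure {x}, z ∈ U k := by
      apply hkey k x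
      intro V hVo hVc hZV hVU
      exact (hx ⟨(V, (U l : Set X)), ⟨hVo, hVc, hZV, hVU⟩,
        ⟨(U l).2, hUc l, Set.inter_subset_right, subset_rfl⟩⟩).1.1
    have hl : ∃ z ∈ Z ∩ closure {x}, z ∈ U l := by
      apply hkey l x
      intro V hVo hVc hZV hVU
      exact (hx ⟨((U k : Set X), V), ⟨(U k).2, hUc k, Set.inter_subset_right, subset_rfl⟩,
        ⟨hVo, hVc, hZV, hVU⟩⟩).1.2
    exact (hx hne.some).2 (agreeAt_of_generizes Z hconn F U hcov s hs x k l hk hl)
  have hdir : Directed (· ⊇ ·) t := by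
    intro p q
    refine ⟨⟨(p.1.1 ∩ q.1.1, p.1.2 ∩ q.1.2),
      ⟨p.2.1.1.inter q.2.1.1,
        QuasiSeparatedSpace.inter_isCompact _ _ p.2.1.1 p.2.1.2.1 q.2.1.1 q.2.1.2.1,
        Set.subset_inter p.2.1.2.2.1 q.2.1.2.2.1, Set.inter_subset_left.trans p.2.1.2.2.2⟩,
      ⟨p.2.2.1.inter q.2.2.1,
        QuasiSeparatedSpace.inter_isCompact _ _ p.2.2.1 p.2.2.2.1 q.2.2.1 q.2.2.2.1,
        Set.subset_inter p.2.2.2.2.1 q.2.2.2.2.1, Set.inter_subset_left.trans p.2.2.2.2.2⟩⟩, ?_, ?_⟩
    · intro x hx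
      exact ⟨⟨hx.1.1.1, hx.1.2.1⟩, hx.2⟩
    · intro x hx
      exact ⟨⟨hx.1.1.2, hx.1.2.2⟩, hx.2⟩
  obtain ⟨i, hi⟩ := @IsCompact.elim_directed_family_closed X (constructibleTopology X) Set.univ ι hne
    (@isCompact_univ X (constructibleTopology X) compactSpace_constructible) t hcl hempty hdir
  refine ⟨i.1.1, i.1.2, i.2.1.1, i.2.2.1, i.2.1.2.2.1, i.2.1.2.2.2, i.2.2.2.2.1, i.2.2.2.2.2, ?_⟩
  intro x hx
  by_contra hcon
  have : x ∈ Set.univ ∩ t i := ⟨trivial, hx, hcon⟩
  rw [hi] at this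
  exact this

include hZ hconn hcov hs in
/-- Stage A: gluing local extensions of a section over `Z` to a global section. -/
theorem exists_glue [Finite K] (hUc : ∀ k, IsCompact (U k : Set X)) :
    ∃ t : F.obj.obj (op ⊤), ∀ k, ∀ z ∈ Z, z ∈ U k → AgreeAt F.obj t (s k) z := by
  choose V V' hVo hV'o hZV hVU hZV' hV'U hVV' using
    exists_opens_pair Z hZ hconn F U hcov s hs hUc
  -- the shrunken opens
  let W : K → Opens X := fun k =>
    ⟨⋂ l, (V k l ∩ V' l k), isOpen_iInter_of_finite fun l => (hVo k l).inter (hV'o l k)⟩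
  have hZW : ∀ k, Z ∩ (U k : Set X) ⊆ (W k : Set X) := by
    intro k z hz
    exact Set.mem_iInter.2 fun l => ⟨hZV k l hz, hZV' l k hz⟩
  have hWU : ∀ k, W k ≤ U k := by
    intro k z hz
    exact hVU k k (Set.mem_iInter.1 hz k).1
  have hWW : ∀ k l, ∀ x ∈ W k ⊓ W l, AgreeAt F.obj (s k) (s l) x := by
    intro k l x hx
    exact hVV' k l x ⟨(Set.mem_iInter.1 hx.1 l).1, (Set.mem_iInter.1 hx.2 k).2⟩
  -- the restricted sections
  let sf : ∀ k, F.obj.obj (op (W k)) := fun k => F.obj.map (homOfLE (hWU k)).op (s k)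
  have hcompat : TopCat.Presheaf.IsCompatible F.obj W sf := by
    intro k l
    show F.obj.map (homOfLE inf_le_left).op (F.obj.map (homOfLE (hWU k)).op (s k)) =
      F.obj.map (homOfLE inf_le_right).op (F.obj.map (homOfLE (hWU l)).op (s l))
    rw [res_res, res_res]
    exact res_eq_of_agreeAt F (s k) (s l) _ _ (hWW k l)
  have hcover : (⊤ : Opens X) ≤ iSup W := by
    intro x _
    obtain ⟨z, hz⟩ := (hconn x).nonempty
    obtain ⟨k, hk⟩ := Set.mem_iUnion.1 (hcov hz.1)
    have hzW : z ∈ W k := hZW k ⟨hz.1, hk⟩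
    obtain ⟨y, hyW, hy⟩ := mem_closure_iff.1 hz.2 (W k) (W k).2 hzW
    rw [Set.mem_singleton_iff] at hy
    subst hy
    exact Opens.mem_iSup.2 ⟨k, hyW⟩
  obtain ⟨t, ht, -⟩ := TopCat.Sheaf.existsUnique_gluing' F W ⊤ (fun k => homOfLE le_top) hcover
    sf hcompat
  refine ⟨t, fun k z hzZ hzU => ⟨W k, hZW k ⟨hzZ, hzU⟩, le_top, hWU k, ?_⟩⟩
  exact ht k

end glue

section pb

variable {Y X : TopCat.{u}} (f : Y ⟶ X) (F : TopCat.Sheaf (Type u) X)

/-- the constructed adjunction. -/
noncomputable abbrev adj2 :=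
  Functor.sheafPullbackConstruction.sheafAdjunctionContinuous (Opens.map f) (Type u)
    (Opens.grothendieckTopology X) (Opens.grothendieckTopology Y)

/-- the presheaf pullback. -/
noncomputable abbrev Ppb : TopCat.Presheaf (Type u) Y := (TopCat.Presheaf.pullback (Type u) f).obj F.obj

lemma unit2_hom :
    ((adj2 f).unit.app F).hom =
      (TopCat.Presheaf.pullbackPushforwardAdjunction (Type u) f).unit.app F.obj ≫
        (TopCat.Presheaf.pushforward (Type u) f).map
          (toSheafify (Opens.grothendieckTopology Y) (Ppb f F)) := by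
  have := Adjunction.map_restrictFullyFaithful_unit_app
    (((Opens.map f).op.lanAdjunction (Type u)).comp
      (sheafificationAdjunction (Opens.grothendieckTopology Y) (Type u)))
    (fullyFaithfulSheafToPresheaf (Opens.grothendieckTopology X) (Type u))
    (Functor.FullyFaithful.id _)
    (L := Functor.sheafPullbackConstruction.sheafPullback (Opens.map f) (Type u)
      (Opens.grothendieckTopology X) (Opens.grothendieckTopology Y))
    (R := (Opens.map f).sheafPushforwardContinuous (Type u)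
      (Opens.grothendieckTopology X) (Opens.grothendieckTopology Y))
    (Iso.refl _) (Iso.refl _) F
  refine this.trans ?_
  simp only [Adjunction.comp_unit_app, Iso.refl_hom, NatTrans.id_app, Functor.map_id,
    Category.comp_id, sheafificationAdjunction_unit_app]
  rfl

/-- the presheaf-level unit. -/
noncomputable abbrev unitP : F.obj ⟶ (TopCat.Presheaf.pushforward (Type u) f).obj (Ppb f F) :=
  (TopCat.Presheaf.pullbackPushforwardAdjunction (Type u) f).unit.app F.obj

lemma unit2_app (U : Opens X) (a : F.obj.obj (op U)) :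
    ((adj2 f).unit.app F).hom.app (op U) a =
      (toSheafify (Opens.grothendieckTopology Y) (Ppb f F)).app (op ((Opens.map f).obj U))
        ((unitP f F).app (op U) a) := by
  rw [unit2_hom]
  rfl

/-- (L1') every section of the presheaf pullback is locally a unit image. -/
lemma Ppb_locally_unit (V : Opens Y) (p : (Ppb f F).obj (op V)) (y : Y) (hy : y ∈ V) :
    ∃ (U : Opens X) (a : F.obj.obj (op U)) (V' : Opens Y) (_ : y ∈ V') (h1 : V' ≤ V)
      (h2 : V' ≤ (Opens.map f).obj U),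
      (Ppb f F).map (homOfLE h1).op p = (Ppb f F).map (homOfLE h2).op ((unitP f F).app (op U) a) := by
  obtain ⟨U, hU, a, ha⟩ := TopCat.Presheaf.exists_germ_eq F.obj
    ((TopCat.Presheaf.stalkPullbackInv (Type u) f F.obj y) (TopCat.Presheaf.germ (Ppb f F) V y hy p))
  have h1 : (TopCat.Presheaf.stalkPullbackHom (Type u) f F.obj y) (TopCat.Presheaf.germ F.obj U (f y) hU a) =
      TopCat.Presheaf.germ (Ppb f F) V y hy p := by
    rw [ha]
    have := ConcreteCategory.congr_hom (TopCat.Presheaf.stalkPullbackIso (Type u) f F.obj y).inv_hom_id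
      (TopCat.Presheaf.germ (Ppb f F) V y hy p)
    rw [ConcreteCategory.comp_apply, ConcreteCategory.id_apply] at this
    exact this
  have h2 : (TopCat.Presheaf.stalkPullbackHom (Type u) f F.obj y) (TopCat.Presheaf.germ F.obj U (f y) hU a) =
      TopCat.Presheaf.germ (Ppb f F) ((Opens.map f).obj U) y hU ((unitP f F).app (op U) a) :=
by
    have := ConcreteCategory.congr_hom (TopCat.Presheaf.germ_stalkPullbackHom (Type u) f F.obj y U hU) a
    rw [ConcreteCategory.comp_apply, ConcreteCategory.comp_apply] at this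
    exact this
  obtain ⟨W, hyW, iU, iV, e⟩ := TopCat.Presheaf.germ_eq (Ppb f F) y hy hU _ _ (h1.symm.trans h2)
  exact ⟨U, a, W, hyW, iU.le, iV.le, e⟩

/-- (L2') unit images with the same germ come from sections agreeing near `f y`. -/
lemma agreeAt_of_unitP_eq (U U' : Opens X) (a : F.obj.obj (op U)) (b : F.obj.obj (op U'))
    (y : Y) (V' : Opens Y) (hy : y ∈ V') (h1 : V' ≤ (Opens.map f).obj U)
    (h2 : V' ≤ (Opens.map f).obj U')
    (e : (Ppb f F).map (homOfLE h1).op ((unitP f F).app (op U) a) =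
      (Ppb f F).map (homOfLE h2).op ((unitP f F).app (op U') b)) :
    AgreeAt F.obj a b (f y) := by
  have hU : f y ∈ U := h1 hy
  have hU' : f y ∈ U' := h2 hy
  have g1 : (TopCat.Presheaf.stalkPullbackHom (Type u) f F.obj y)
      (TopCat.Presheaf.germ F.obj U (f y) hU a) =
      TopCat.Presheaf.germ (Ppb f F) ((Opens.map f).obj U) y hU ((unitP f F).app (op U) a) := by
    have := ConcreteCategory.congr_hom
      (TopCat.Presheaf.germ_stalkPullbackHom (Type u) f F.obj y U hU) a
    rw [ConcreteCategory.comp_apply, ConcreteCategory.comp_apply] at this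
    exact this
  have g2 : (TopCat.Presheaf.stalkPullbackHom (Type u) f F.obj y)
      (TopCat.Presheaf.germ F.obj U' (f y) hU' b) =
      TopCat.Presheaf.germ (Ppb f F) ((Opens.map f).obj U') y hU' ((unitP f F).app (op U') b) := by
    have := ConcreteCategory.congr_hom
      (TopCat.Presheaf.germ_stalkPullbackHom (Type u) f F.obj y U' hU') b
    rw [ConcreteCategory.comp_apply, ConcreteCategory.comp_apply] at this
    exact this
  have g3 : TopCat.Presheaf.germ (Ppb f F) ((Opens.map f).obj U) y hU ((unitP f F).app (op U) a) =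
      TopCat.Presheaf.germ (Ppb f F) ((Opens.map f).obj U') y hU' ((unitP f F).app (op U') b) := by
    rw [← TopCat.Presheaf.germ_res_apply (Ppb f F) (homOfLE h1) y hy,
      ← TopCat.Presheaf.germ_res_apply (Ppb f F) (homOfLE h2) y hy, e]
  have g4 : TopCat.Presheaf.germ F.obj U (f y) hU a = TopCat.Presheaf.germ F.obj U' (f y) hU' b := by
    have hinj : Function.Injective (TopCat.Presheaf.stalkPullbackHom (Type u) f F.obj y) := by
      intro α β hαβ
      have h1 := ConcreteCategory.congr_hom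
        (TopCat.Presheaf.stalkPullbackIso (Type u) f F.obj y).hom_inv_id α
      have h2 := ConcreteCategory.congr_hom
        (TopCat.Presheaf.stalkPullbackIso (Type u) f F.obj y).hom_inv_id β
      rw [ConcreteCategory.comp_apply, ConcreteCategory.id_apply] at h1 h2
      rw [← h1, ← h2]
      exact congrArg _ hαβ
    exact hinj (g1.trans (g3.trans g2.symm))
  obtain ⟨W, hW, iU, iV, e'⟩ := TopCat.Presheaf.germ_eq F.obj (f y) hU hU' _ _ g4
  exact ⟨W, hW, iU.le, iV.le, e'⟩

/-- the constructed pullback sheaf. -/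
noncomputable abbrev G2 : TopCat.Sheaf (Type u) Y :=
  (Functor.sheafPullbackConstruction.sheafPullback (Opens.map f) (Type u)
    (Opens.grothendieckTopology X) (Opens.grothendieckTopology Y)).obj F

/-- the sheafified presheaf. -/
noncomputable abbrev S2 : TopCat.Presheaf (Type u) Y :=
  sheafify (Opens.grothendieckTopology Y) (Ppb f F)

/-- sheafification map. -/
noncomputable abbrev ts : Ppb f F ⟶ S2 f F :=
  toSheafify (Opens.grothendieckTopology Y) (Ppb f F)

lemma ts_res {V V' : Opens Y} (h : V' ≤ V) (p : (Ppb f F).obj (op V)) :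
    (ts f F).app (op V') ((Ppb f F).map (homOfLE h).op p) =
      (S2 f F).map (homOfLE h).op ((ts f F).app (op V) p) :=
  NatTrans.naturality_apply (ts f F) (homOfLE h).op p

/-- (a2) local surjectivity of the unit of the constructed adjunction. -/
lemma unit2_locally_surj (V : Opens Y) (t : (G2 f F).obj.obj (op V)) (y : Y) (hy : y ∈ V) :
    ∃ (U : Opens X) (a : F.obj.obj (op U)) (V' : Opens Y) (_ : y ∈ V') (h1 : V' ≤ V)
      (h2 : V' ≤ (Opens.map f).obj U),
      (G2 f F).obj.map (homOfLE h1).op t =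
        (G2 f F).obj.map (homOfLE h2).op (((adj2 f).unit.app F).hom.app (op U) a) := by
  have t' : (S2 f F).obj (op V) := t
  have hs := Presheaf.imageSieve_mem (Opens.grothendieckTopology Y) (ts f F) (U := op V) t
  obtain ⟨W, i, ⟨p, hp⟩, hyW⟩ := hs y hy
  obtain ⟨U, a, V', hyV', h1, h2, e⟩ := Ppb_locally_unit f F W p y hyW
  refine ⟨U, a, V', hyV', h1.trans i.le, h2, ?_⟩
  have hp' : (ts f F).app (op W) p = (S2 f F).map (homOfLE i.le).op t := hp
  have key : (S2 f F).map (homOfLE (h1.trans i.le)).op t =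
      (S2 f F).map (homOfLE h2).op ((ts f F).app _ ((unitP f F).app (op U) a)) := by
    rw [← ts_res, ← e, ts_res, hp', res_res]
  rw [unit2_app]
  exact key

/-- (b2) local injectivity of the unit of the constructed adjunction. -/
lemma unit2_locally_inj (U U' : Opens X) (a : F.obj.obj (op U)) (b : F.obj.obj (op U'))
    (y : Y) (V' : Opens Y) (hy : y ∈ V') (h1 : V' ≤ (Opens.map f).obj U)
    (h2 : V' ≤ (Opens.map f).obj U')
    (e : (G2 f F).obj.map (homOfLE h1).op (((adj2 f).unit.app F).hom.app (op U) a) =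
      (G2 f F).obj.map (homOfLE h2).op (((adj2 f).unit.app F).hom.app (op U') b)) :
    AgreeAt F.obj a b (f y) := by
  rw [unit2_app, unit2_app] at e
  have e' : (S2 f F).map (homOfLE h1).op ((ts f F).app _ ((unitP f F).app (op U) a)) =
      (S2 f F).map (homOfLE h2).op ((ts f F).app _ ((unitP f F).app (op U') b)) := e
  rw [← ts_res, ← ts_res] at e'
  have hs := Presheaf.equalizerSieve_mem (Opens.grothendieckTopology Y) (ts f F) _ _ e'
  obtain ⟨W, i, hW, hyW⟩ := hs y hy
  have hW' : (Ppb f F).map (homOfLE i.le).op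
        ((Ppb f F).map (homOfLE h1).op ((unitP f F).app (op U) a)) =
      (Ppb f F).map (homOfLE i.le).op
        ((Ppb f F).map (homOfLE h2).op ((unitP f F).app (op U') b)) := hW
  rw [res_res, res_res] at hW'
  exact agreeAt_of_unitP_eq f F U U' a b y W hyW _ _ hW'

end pb


section main

variable {X : TopCat.{u}} [SpectralSpace X] (Z : Set X) (hZ : IsClosed Z)
  (hconn : ∀ x : X, IsConnected (Z ∩ closure {x}))
  (F : TopCat.Sheaf (Type u) X)

/-- the inclusion of `Z`. -/
abbrev incl : TopCat.of Z ⟶ X := TopCat.ofHom ⟨(Subtype.val : Z → X), continuous_subtype_val⟩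

variable (G : TopCat.Sheaf (Type u) (TopCat.of Z))
  (η : F ⟶ (TopCat.Sheaf.pushforward (Type u) (incl Z)).obj G)

omit [SpectralSpace X] in
lemma eta_res {U U' : Opens X} (h : U' ≤ U) (a : F.obj.obj (op U)) :
    η.hom.app (op U') (F.obj.map (homOfLE h).op a) =
      G.obj.map (homOfLE ((Opens.map (incl Z)).monotone h)).op (η.hom.app (op U) a) :=
  NatTrans.naturality_apply η.hom (homOfLE h).op a

variable
  (ha : ∀ (V : Opens (TopCat.of Z)) (t : G.obj.obj (op V)) (z : Z) (_ : z ∈ V),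
    ∃ (U : Opens X) (a : F.obj.obj (op U)) (V' : Opens (TopCat.of Z)) (_ : z ∈ V') (h1 : V' ≤ V)
      (h2 : V' ≤ (Opens.map (incl Z)).obj U),
      G.obj.map (homOfLE h1).op t = G.obj.map (homOfLE h2).op (η.hom.app (op U) a))
  (hb : ∀ (U U' : Opens X) (a : F.obj.obj (op U)) (b : F.obj.obj (op U')) (z : Z)
    (V' : Opens (TopCat.of Z)) (_ : z ∈ V') (h1 : V' ≤ (Opens.map (incl Z)).obj U)
    (h2 : V' ≤ (Opens.map (incl Z)).obj U'),
    G.obj.map (homOfLE h1).op (η.hom.app (op U) a) =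
      G.obj.map (homOfLE h2).op (η.hom.app (op U') b) → AgreeAt F.obj a b z.1)

include hconn hb in
omit [SpectralSpace X] in
lemma injective_top : Function.Injective (η.hom.app (op ⊤)) := by
  intro t t' htt'
  have h1 : ∀ x ∈ (⊤ : Opens X), AgreeAt F.obj t t' x := by
    intro x _
    obtain ⟨z, hz⟩ := (hconn x).nonempty
    have := hb ⊤ ⊤ t t' ⟨z, hz.1⟩ ((Opens.map (incl Z)).obj ⊤) trivial le_rfl le_rfl
      (by rw [htt'])
    exact this.of_mem_closure hz.2
  have h2 := res_eq_of_agreeAt F t t' le_rfl le_rfl h1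
  have hid : (homOfLE (le_refl (⊤ : Opens X))).op = 𝟙 (op (⊤ : Opens X)) := rfl
  rw [hid, F.obj.map_id] at h2
  exact h2

include hZ hconn ha hb in
lemma surjective_top : Function.Surjective (η.hom.app (op ⊤)) := by
  intro s
  -- local extensions on quasi-compact opens
  have hloc : ∀ z : Z, ∃ (U : Opens X) (_ : IsCompact (U : Set X)) (_ : z.1 ∈ U)
      (a : F.obj.obj (op U)),
      G.obj.map (homOfLE (le_top : (Opens.map (incl Z)).obj U ≤ (Opens.map (incl Z)).obj ⊤)).op s =
        η.hom.app (op U) a := by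
    intro z
    obtain ⟨U, a, V', hzV', h1, h2, e⟩ := ha ((Opens.map (incl Z)).obj ⊤) s z trivial
    obtain ⟨O, hO, hOV'⟩ := isOpen_induced_iff.1 V'.2
    have hzO : z.1 ∈ (U : Set X) ∩ O := ⟨h2 hzV', by
      have : z ∈ (Subtype.val : Z → X) ⁻¹' O := by rw [hOV']; exact hzV'
      exact this⟩
    obtain ⟨U', hU', hzU', hU'sub⟩ :=
      PrespectralSpace.isTopologicalBasis.exists_subset_of_mem_open hzO (U.2.inter hO)
    let U'' : Opens X := ⟨U', hU'.1⟩
    have hU''U : U'' ≤ U := fun x hx => (hU'sub hx).1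
    have hU''V' : (Opens.map (incl Z)).obj U'' ≤ V' := by
      intro w hw
      have : w ∈ (Subtype.val : Z → X) ⁻¹' O := (hU'sub hw).2
      rw [hOV'] at this
      exact this
    refine ⟨U'', hU'.2, hzU', F.obj.map (homOfLE hU''U).op a, ?_⟩
    rw [eta_res]
    have e1 := congrArg (G.obj.map (homOfLE hU''V').op) e
    rw [res_res, res_res] at e1
    exact e1
  choose U hUc hzU a haU using hloc
  -- finite subcover
  have hZc : IsCompact Z := hZ.isCompact
  obtain ⟨T, hT⟩ := hZc.elim_finite_subcover (fun z : Z => (U z : Set X)) (fun z => (U z).2)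
    (fun x hx => Set.mem_iUnion.2 ⟨⟨x, hx⟩, hzU ⟨x, hx⟩⟩)
  let K : Type u := {z : Z // z ∈ T}
  have hcov : Z ⊆ ⋃ k : K, (U k.1 : Set X) := by
    intro x hx
    obtain ⟨z, hz⟩ := Set.mem_iUnion.1 (hT hx)
    obtain ⟨hzT, hxz⟩ := Set.mem_iUnion.1 hz
    exact Set.mem_iUnion.2 ⟨⟨z, hzT⟩, hxz⟩
  have hs : ∀ k l : K, ∀ z ∈ Z, z ∈ U k.1 → z ∈ U l.1 →
      AgreeAt F.obj (a k.1) (a l.1) z := by
    intro k l z hzZ hzk hzl
    have := hb (U k.1) (U l.1) (a k.1) (a l.1) ⟨z, hzZ⟩
      ((Opens.map (incl Z)).obj (U k.1 ⊓ U l.1)) ⟨hzk, hzl⟩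
      ((Opens.map (incl Z)).monotone inf_le_left) ((Opens.map (incl Z)).monotone inf_le_right)
      (by rw [← haU k.1, ← haU l.1, res_res, res_res])
    exact this
  obtain ⟨t, ht⟩ := exists_glue Z hZ hconn F (fun k : K => U k.1) hcov (fun k => a k.1) hs
    (fun k => hUc k.1)
  refine ⟨t, ?_⟩
  -- check equality locally on `Z`
  have hloc2 : ∀ z : Z, ∃ (W : Opens X) (_ : z.1 ∈ W),
      G.obj.map (homOfLE (le_top : (Opens.map (incl Z)).obj W ≤ (Opens.map (incl Z)).obj ⊤)).op
        (η.hom.app (op ⊤) t) =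
      G.obj.map (homOfLE (le_top : (Opens.map (incl Z)).obj W ≤ (Opens.map (incl Z)).obj ⊤)).op
        s := by
    intro z
    obtain ⟨k, hk⟩ := Set.mem_iUnion.1 (hcov z.2)
    obtain ⟨W, hzW, hWtop, hWU, e⟩ := ht k z.1 z.2 hk
    refine ⟨W, hzW, ?_⟩
    have s1 : G.obj.map (homOfLE (le_top : (Opens.map (incl Z)).obj W ≤
          (Opens.map (incl Z)).obj ⊤)).op (η.hom.app (op ⊤) t) =
        η.hom.app (op W) (F.obj.map (homOfLE hWU).op (a k.1)) := by
      rw [← e]
      exact (eta_res Z F G η hWtop t).symm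
    have s2 := eta_res Z F G η hWU (a k.1)
    have s3 : G.obj.map (homOfLE ((Opens.map (incl Z)).monotone hWU)).op
          (η.hom.app (op (U k.1)) (a k.1)) =
        G.obj.map (homOfLE (le_top : (Opens.map (incl Z)).obj W ≤
          (Opens.map (incl Z)).obj ⊤)).op s := by
      rw [← haU k.1]
      exact res_res _ _ _ _
    exact s1.trans (s2.trans s3)
  choose W hzW hW using hloc2
  refine TopCat.Sheaf.eq_of_locally_eq' G (fun z : Z => (Opens.map (incl Z)).obj (W z))
    ((Opens.map (incl Z)).obj ⊤) (fun z => homOfLE le_top) ?_ _ _ ?_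
  · intro z _
    exact Opens.mem_iSup.2 ⟨z, hzW z⟩
  · intro z
    exact hW z

include hZ hconn ha hb in
theorem bijective_top : Function.Bijective (η.hom.app (op ⊤)) :=
  ⟨injective_top Z hconn F G η hb, surjective_top Z hZ hconn F G η ha hb⟩

include hZ hconn in
theorem main :
    Function.Bijective
      (((TopCat.Sheaf.pullbackPushforwardAdjunction (Type u)
        (TopCat.ofHom ⟨(Subtype.val : Z → X), continuous_subtype_val⟩)).unit.app F).hom.app (op ⊤)) := by
  have h2 : Function.Bijective (((adj2 (incl Z)).unit.app F).hom.app (op ⊤)) :=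
    bijective_top Z hZ hconn F (G2 (incl Z) F) ((adj2 (incl Z)).unit.app F)
      (fun V t z hz => unit2_locally_surj (incl Z) F V t z hz)
      (fun U U' a b z V' hz h1 h2 e => unit2_locally_inj (incl Z) F U U' a b z V' hz h1 h2 e)
  let adj1 := TopCat.Sheaf.pullbackPushforwardAdjunction (Type u) (incl Z)
  let e := Adjunction.leftAdjointUniq adj1 (adj2 (incl Z))
  have hcomp : adj1.unit.app F ≫ (TopCat.Sheaf.pushforward (Type u) (incl Z)).map (e.hom.app F) =
      (adj2 (incl Z)).unit.app F :=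
    Adjunction.unit_leftAdjointUniq_hom_app adj1 (adj2 (incl Z)) F
  -- the iso on sections
  let j : ((TopCat.Sheaf.pushforward (Type u) (incl Z)).obj
        ((TopCat.Sheaf.pullback (Type u) (incl Z)).obj F)).obj.obj (op ⊤) ≅
      ((TopCat.Sheaf.pushforward (Type u) (incl Z)).obj (G2 (incl Z) F)).obj.obj (op ⊤) :=
    ((sheafToPresheaf _ _).mapIso ((TopCat.Sheaf.pushforward (Type u) (incl Z)).mapIso
      (e.app F))).app (op ⊤)
  have hj : Function.Bijective j.hom := by
    rw [← isIso_iff_bijective]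
    infer_instance
  have hfun : ((adj2 (incl Z)).unit.app F).hom.app (op ⊤) =
      (adj1.unit.app F).hom.app (op ⊤) ≫ j.hom := by
    rw [← hcomp]
    rfl
  rw [hfun] at h2
  have h2' : Function.Bijective (⇑(ConcreteCategory.hom j.hom) ∘
      ⇑(ConcreteCategory.hom ((adj1.unit.app F).hom.app (op ⊤)))) := h2
  exact (Function.Bijective.of_comp_iff' hj _).1 h2'

end main

end Groth.Agent.Lib.H15SpecClosedSections
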