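import Groth.Agent.Lib.SpectralCons
import Groth.Agent.Lib.SpectralPi0Fib33

set_option autoImplicit false
universe u

namespace Groth.Agent.Lib.H15SpectralW

open Topology Groth.Agent.Lib.SpectralCons

variable {X : Type u} [TopologicalSpace X]

/-- the set of generalizations of points of `E`. -/
def Gen (E : Set X) : Set X := {x | ∃ z ∈ E, x ⤳ z}

variable [SpectralSpace X]

/-- generalizations of a constructibly closed set form a constructibly closed set. -/
theorem isClosed_cons_gen {E : Set X} (hE : IsClosed[constructibleTopology X] E) :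
    IsClosed[constructibleTopology X] (Gen E) := by
  have hEc : IsCompact E := isCompact_of_isClosed_cons hE
  have heq : Gen E = ⋂ U : {U : Set X // IsOpen U ∧ IsCompact U ∧ E ⊆ U}, (U : Set X) := by
    ext x
    simp only [Set.mem_iInter]
    constructor
    · rintro ⟨z, hz, hxz⟩ U
      exact hxz.mem_open U.2.1 (U.2.2.2 hz)
    · intro hx
      by_contra hne
      have hsub : E ⊆ (closure ({x} : Set X))ᶜ := by
        intro z hz hzx
        exact hne ⟨z, hz, specializes_iff_mem_closure.2 hzx⟩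
      obtain ⟨W, hWc, hWo, hEW, hWU⟩ :=
        PrespectralSpace.exists_isCompact_and_isOpen_between hEc isClosed_closure.isOpen_compl hsub
      exact hWU (hx ⟨W, hWo, hWc, hEW⟩) (subset_closure rfl)
  rw [heq]
  exact @isClosed_iInter X _ (constructibleTopology X) _
    fun U => isClosed_cons_of_isCompact_isOpen U.2.2.1 U.2.1


section wlocal

variable (huniq : ∀ x : X, ∃! z : X, IsClosed ({z} : Set X) ∧ x ⤳ z)
include huniq

omit [SpectralSpace X] in
lemma stableUnderSpecialization_gen {E : Set X} (hE : ∀ z ∈ E, IsClosed ({z} : Set X)) :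
    StableUnderSpecialization (Gen E) := by
  rintro x x' hxx' ⟨z, hz, hxz⟩
  obtain ⟨z', ⟨hz'cl, hx'z'⟩, -⟩ := huniq x'
  obtain ⟨z₀, -, hz₀⟩ := huniq x
  have h1 : z = z₀ := hz₀ z ⟨hE z hz, hxz⟩
  have h2 : z' = z₀ := hz₀ z' ⟨hz'cl, hxx'.trans hx'z'⟩
  exact ⟨z, hz, by rw [h1, ← h2]; exact hx'z'⟩

/-- for a compact open `W`, the set of points whose closed specialization lies in `W` is
clopen. -/
theorem isClopen_gen_inter (h0 : IsClosed {x : X | IsClosed ({x} : Set X)}) {W : Set X}
    (hWo : IsOpen W) (hWc : IsCompact W) :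
    IsClopen (Gen (W ∩ {x : X | IsClosed ({x} : Set X)})) := by
  have hcl : ∀ E : Set X, IsClosed[constructibleTopology X] E →
      (∀ z ∈ E, IsClosed ({z} : Set X)) → IsClosed (Gen E) := fun E hE hE' =>
    isClosed_of_isClosed_cons_of_stableUnderSpecialization (isClosed_cons_gen hE)
      (stableUnderSpecialization_gen huniq hE')
  have h0c : IsClosed[constructibleTopology X] {x : X | IsClosed ({x} : Set X)} :=
    isClosed_cons_of_isClosed h0
  have hWcc : IsClosed[constructibleTopology X] W := isClosed_cons_of_isCompact_isOpen hWc hWo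
  have hWco : IsClosed[constructibleTopology X] Wᶜ := isClosed_cons_of_isClosed hWo.isClosed_compl
  have h1 : IsClosed (Gen (W ∩ {x : X | IsClosed ({x} : Set X)})) :=
    hcl _ (@IsClosed.inter X _ _ (constructibleTopology X) hWcc h0c) fun z hz => hz.2
  have h2 : IsClosed (Gen (Wᶜ ∩ {x : X | IsClosed ({x} : Set X)})) :=
    hcl _ (@IsClosed.inter X _ _ (constructibleTopology X) hWco h0c) fun z hz => hz.2
  have hcompl : (Gen (W ∩ {x : X | IsClosed ({x} : Set X)}))ᶜ =
      Gen (Wᶜ ∩ {x : X | IsClosed ({x} : Set X)}) := by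
    ext x
    obtain ⟨z₀, ⟨hz₀cl, hxz₀⟩, hz₀⟩ := huniq x
    constructor
    · intro hx
      refine ⟨z₀, ⟨fun hW => hx ⟨z₀, ⟨hW, hz₀cl⟩, hxz₀⟩, hz₀cl⟩, hxz₀⟩
    · rintro ⟨z, ⟨hzW, hzcl⟩, hxz⟩ ⟨z', ⟨hz'W, hz'cl⟩, hxz'⟩
      have e1 : z = z₀ := hz₀ z ⟨hzcl, hxz⟩
      have e2 : z' = z₀ := hz₀ z' ⟨hz'cl, hxz'⟩
      exact hzW (by rw [e1, ← e2]; exact hz'W)
  exact ⟨h1, by rw [← isClosed_compl_iff, hcompl]; exact h2⟩

theorem bijective_mk (h0 : IsClosed {x : X | IsClosed ({x} : Set X)}) :
    Function.Bijective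
      (fun x : {x : X // IsClosed ({x} : Set X)} => ConnectedComponents.mk x.1) := by
  constructor
  · rintro ⟨x, hx⟩ ⟨y, hy⟩ hxy
    by_contra hne
    have hne' : x ≠ y := fun h => hne (Subtype.ext h)
    have hxo : x ∈ ({y} : Set X)ᶜ := hne'
    obtain ⟨W, ⟨hWo, hWc⟩, hxW, hWy⟩ :=
      PrespectralSpace.isTopologicalBasis.exists_subset_of_mem_open hxo hy.isOpen_compl
    have hclopen := isClopen_gen_inter huniq h0 hWo hWc
    have hxU : x ∈ Gen (W ∩ {x : X | IsClosed ({x} : Set X)}) := ⟨x, ⟨hxW, hx⟩, specializes_rfl⟩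
    have hyU : y ∉ Gen (W ∩ {x : X | IsClosed ({x} : Set X)}) := by
      rintro ⟨z, ⟨hzW, hzcl⟩, hyz⟩
      have : z = y := by
        have := specializes_iff_mem_closure.1 hyz
        rwa [hy.closure_eq] at this
      exact hWy (this ▸ hzW) rfl
    have hxy' : ConnectedComponents.mk x = ConnectedComponents.mk y := hxy
    rw [ConnectedComponents.coe_eq_coe'] at hxy'
    exact hyU (hclopen.connectedComponent_subset hxU (by
      have : y ∈ connectedComponent x := by
        rw [← connectedComponent_eq hxy']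
        exact mem_connectedComponent
      exact this))
  · intro c
    obtain ⟨x, rfl⟩ := ConnectedComponents.surjective_coe c
    obtain ⟨z, ⟨hz, hxz⟩, -⟩ := huniq x
    refine ⟨⟨z, hz⟩, ?_⟩
    show ConnectedComponents.mk z = ConnectedComponents.mk x
    rw [ConnectedComponents.coe_eq_coe']
    have : closure ({x} : Set X) ⊆ connectedComponent x :=
      (isPreconnected_singleton.closure).subset_connectedComponent (subset_closure rfl)
    exact this (specializes_iff_mem_closure.1 hxz)

end wlocal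

end Groth.Agent.Lib.H15SpectralW
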