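import Groth.Agent.Lib.H15SpectralW
import Mathlib.Order.Disjointed

set_option autoImplicit false
universe u

namespace Groth.Agent.Lib.H15SpectralW

open Topology Groth.Agent.Lib.SpectralCons Groth.Agent.Lib.SpectralPi0Fib33

variable {X : Type u} [TopologicalSpace X] [SpectralSpace X]

/-- every point specializes to a closed point. -/
lemma exists_closed_specialization (x : X) : ∃ z : X, IsClosed ({z} : Set X) ∧ x ⤳ z := by
  obtain ⟨z, hz, hzcl⟩ := (isClosed_closure (s := ({x} : Set X))).exists_closed_singleton
    ⟨x, subset_closure rfl⟩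
  exact ⟨z, hzcl, specializes_iff_mem_closure.2 hz⟩

omit [SpectralSpace X] in
lemma mk_eq_of_specializes' {x y : X} (h : x ⤳ y) :
    (ConnectedComponents.mk x : ConnectedComponents X) = ConnectedComponents.mk y := by
  rw [eq_comm, ConnectedComponents.coe_eq_coe']
  have : closure ({x} : Set X) ⊆ connectedComponent x :=
    (isPreconnected_singleton.closure).subset_connectedComponent (subset_closure rfl)
  exact this (specializes_iff_mem_closure.1 h)

/-- a finite clopen cover of a space has a disjoint clopen refinement with the same index set. -/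
lemma exists_disjoint_refinement {Y : Type u} [TopologicalSpace Y] (n : ℕ) (N : Fin n → Set Y)
    (hN : ∀ k, IsClopen (N k)) (hcov : (⋃ k, N k) = Set.univ) :
    ∃ M : Fin n → Set Y, (∀ k, IsClopen (M k)) ∧ Pairwise (fun k l => Disjoint (M k) (M l)) ∧
      (⋃ k, M k) = Set.univ ∧ ∀ k, M k ⊆ N k := by
  refine ⟨disjointed N, fun k => ?_, disjoint_disjointed N, ?_, fun k => disjointed_subset N k⟩
  · rw [disjointed]
    refine (hN k).diff ?_
    rw [Finset.sup_set_eq_biUnion]
    exact isClopen_biUnion_finset fun i _ => hN i
  · rw [iUnion_disjointed, hcov]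

theorem refinement_iff_bijective :
    (∀ (ι : Type u) (U : ι → Set X), (∀ i, IsOpen (U i)) → (⋃ i, U i) = Set.univ →
      ∃ (n : ℕ) (V : Fin n → Set X), (∀ k, IsClopen (V k)) ∧
        Pairwise (fun k l => Disjoint (V k) (V l)) ∧ (⋃ k, V k) = Set.univ ∧ ∀ k, ∃ i, V k ⊆ U i) ↔
    Function.Bijective
      (fun x : {x : X // IsClosed ({x} : Set X)} => ConnectedComponents.mk x.1) := by
  constructor
  · intro h
    constructor
    · rintro ⟨x, hx⟩ ⟨y, hy⟩ hxy
      by_contra hne
      have hne' : x ≠ y := fun h => hne (Subtype.ext h)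
      obtain ⟨n, V, hV, -, hcov, href⟩ := h (ULift Bool)
        (fun i => if i.down then ({x} : Set X)ᶜ else ({y} : Set X)ᶜ)
        (fun i => by
          by_cases hi : i.down
          · simp only [hi, if_true]; exact hx.isOpen_compl
          · simp only [hi]; exact hy.isOpen_compl)
        (by
          ext p
          simp only [Set.mem_iUnion, Set.mem_univ, iff_true]
          by_cases hp : p = x
          · exact ⟨⟨false⟩, by simp [hp, hne']⟩
          · exact ⟨⟨true⟩, by simp [hp]⟩)
      have hxV : x ∈ ⋃ k, V k := by rw [hcov]; trivial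
      obtain ⟨k, hk⟩ := Set.mem_iUnion.1 hxV
      obtain ⟨i, hi⟩ := href k
      have hyk : y ∉ V k := by
        intro hyk
        by_cases hi' : i.down
        · have := hi hk
          simp [hi'] at this
        · have := hi hyk
          simp [hi'] at this
      have hxy' : ConnectedComponents.mk x = ConnectedComponents.mk y := hxy
      rw [ConnectedComponents.coe_eq_coe'] at hxy'
      exact hyk ((hV k).connectedComponent_subset hk (by
        have : y ∈ connectedComponent x := by
          rw [← connectedComponent_eq hxy']
          exact mem_connectedComponent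
        exact this))
    · intro c
      obtain ⟨x, rfl⟩ := ConnectedComponents.surjective_coe c
      obtain ⟨z, hz, hxz⟩ := exists_closed_specialization x
      exact ⟨⟨z, hz⟩, (mk_eq_of_specializes' hxz).symm⟩
  · intro hbij ι U hU hcov
    have := t2Space_connectedComponents X
    -- each component lies in some member of the cover, together with a clopen neighbourhood
    have key : ∀ c : ConnectedComponents X, ∃ (i : ι) (N : Set (ConnectedComponents X)),
        IsClopen N ∧ c ∈ N ∧ ConnectedComponents.mk ⁻¹' N ⊆ U i := by
      intro c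
      obtain ⟨⟨z, hz⟩, rfl⟩ := hbij.2 c
      have hzU : z ∈ ⋃ i, U i := by rw [hcov]; trivial
      obtain ⟨i, hi⟩ := Set.mem_iUnion.1 hzU
      have hF : IsClosed ((ConnectedComponents.mk : X → ConnectedComponents X) '' (U i)ᶜ) :=
        ((hU i).isClosed_compl.isCompact.image ConnectedComponents.continuous_coe).isClosed
      have hcF : (ConnectedComponents.mk z : ConnectedComponents X) ∈
          ((ConnectedComponents.mk : X → ConnectedComponents X) '' (U i)ᶜ)ᶜ := by
        rintro ⟨p, hp, hpz⟩
        obtain ⟨z', hz', hpz'⟩ := exists_closed_specialization p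
        have : (⟨z', hz'⟩ : {x : X // IsClosed ({x} : Set X)}) = ⟨z, hz⟩ := by
          apply hbij.1
          show ConnectedComponents.mk z' = ConnectedComponents.mk z
          rw [← mk_eq_of_specializes' hpz', hpz]
        have hz'z : z' = z := congrArg Subtype.val this
        exact hp (hpz'.mem_open (hU i) (hz'z ▸ hi))
      obtain ⟨N, hN, hcN, hNF⟩ := compact_exists_isClopen_in_isOpen hF.isOpen_compl hcF
      refine ⟨i, N, hN, hcN, fun p hp => ?_⟩
      by_contra hpU
      exact hNF hp ⟨p, hpU, rfl⟩
    choose i N hN hcN hNU using key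
    obtain ⟨t, ht⟩ := CompactSpace.elim_nhds_subcover N
      (fun c => (hN c).isOpen.mem_nhds (hcN c))
    let e := t.equivFin.symm
    have hcov' : (⋃ k : Fin t.card, N (e k)) = Set.univ := by
      rw [Set.eq_univ_iff_forall]
      intro c
      have hc : c ∈ ⋃ x ∈ t, N x := by rw [ht]; trivial
      simp only [Set.mem_iUnion] at hc ⊢
      obtain ⟨x, hx, hcx⟩ := hc
      exact ⟨t.equivFin ⟨x, hx⟩, by simpa [e] using hcx⟩
    obtain ⟨M, hM, hdisj, hMcov, hMN⟩ := exists_disjoint_refinement t.card (fun k => N (e k))
      (fun k => hN _) hcov'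
    refine ⟨t.card, fun k => ConnectedComponents.mk ⁻¹' M k,
      fun k => (hM k).preimage ConnectedComponents.continuous_coe, ?_, ?_, ?_⟩
    · intro k l hkl
      exact (hdisj hkl).preimage _
    · rw [← Set.preimage_iUnion, hMcov, Set.preimage_univ]
    · intro k
      exact ⟨i (e k), fun p hp => hNU (e k) (hMN k hp)⟩

end Groth.Agent.Lib.H15SpectralW
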