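import Groth.Agent.Lib.TorLES
import Mathlib.Algebra.Homology.HomologySequenceLemmas
import Groth.Agent.Lib.H15KernelFiltered

set_option autoImplicit false
universe u
open CategoryTheory MonoidalCategory Limits

namespace Groth.Agent.Lib.H15TorFiltered2

open Groth.Agent.Lib.TorLES

variable {R : Type u} [CommRing R]

section
variable {N N' : ModuleCat.{u} R} (P : ProjectiveResolution N) (P' : ProjectiveResolution N')
  (g : N ⟶ N') (φ : P.complex ⟶ P'.complex) (w : φ ≫ P'.π = P.π ≫ (ChainComplex.single₀ _).map g)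

/-- `M ⊗ φ : M ⊗ P ⟶ M ⊗ P'`. -/
noncomputable abbrev tmap (M : ModuleCat.{u} R) :
    (tensorCx P.complex).obj M ⟶ (tensorCx P'.complex).obj M :=
  (((tensoringLeft (ModuleCat.{u} R)).obj M).mapHomologicalComplex _).map φ

include w in
lemma tor_obj_map_eq (M : ModuleCat.{u} R) (n : ℕ) :
    ((Tor (ModuleCat.{u} R) n).obj M).map g =
      (torIso P M n).hom ≫ HomologicalComplex.homologyMap (tmap P P' φ M) n ≫
        (torIso P' M n).inv :=
  Functor.leftDerived_map_eq ((tensoringLeft (ModuleCat.{u} R)).obj M) n g φ w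

variable (S : ShortComplex (ModuleCat.{u} R))

/-- the morphism of short complexes of complexes `S ⊗ P ⟶ S ⊗ P'`. -/
noncomputable def Ψ : S.map (tensorCx P.complex) ⟶ S.map (tensorCx P'.complex) where
  τ₁ := tmap P P' φ S.X₁
  τ₂ := tmap P P' φ S.X₂
  τ₃ := tmap P P' φ S.X₃
  comm₁₂ := (NatTrans.mapHomologicalComplex_naturality
    ((tensoringLeft (ModuleCat.{u} R)).map S.f) φ)
  comm₂₃ := (NatTrans.mapHomologicalComplex_naturality
    ((tensoringLeft (ModuleCat.{u} R)).map S.g) φ)

variable {S} (hS : S.ShortExact)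

lemma δH_naturality (n : ℕ) :
    δH P hS n ≫ HomologicalComplex.homologyMap (tmap P P' φ S.X₁) n =
      HomologicalComplex.homologyMap (tmap P P' φ S.X₃) (n + 1) ≫ δH P' hS n :=
  HomologicalComplex.HomologySequence.δ_naturality (Ψ P P' φ S)
    (shortExact_map_tensorCx P hS) (shortExact_map_tensorCx P' hS) (n + 1) n (rel_succ n)

include w in
lemma δ_naturality (n : ℕ) :
    ((Tor (ModuleCat.{u} R) (n + 1)).obj S.X₃).map g ≫ δ P' hS n =
      δ P hS n ≫ ((Tor (ModuleCat.{u} R) n).obj S.X₁).map g := by
  rw [tor_obj_map_eq P P' g φ w, tor_obj_map_eq P P' g φ w, δ, δ]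
  simp only [Category.assoc, Iso.inv_hom_id_assoc]
  rw [reassoc_of% (δH_naturality P P' φ hS n)]

end

section main

open Groth.Agent.Lib.H15KernelFiltered

variable (J : Type u) [SmallCategory J] [IsFiltered J]

/-- the connecting map `Tor_{n+1}(X₃, -) ⟶ Tor_n(X₁, -)` as a natural transformation. -/
noncomputable def δNat {S : ShortComplex (ModuleCat.{u} R)} (hS : S.ShortExact) (n : ℕ) :
    (Tor (ModuleCat.{u} R) (n + 1)).obj S.X₃ ⟶ (Tor (ModuleCat.{u} R) n).obj S.X₁ where
  app N := δ (ProjectiveResolution.of N) hS n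
  naturality _ _ g := δ_naturality _ _ g (ProjectiveResolution.lift g _ _)
    (ProjectiveResolution.lift_commutes g _ _) hS n

theorem tor_obj_preservesColimitsOfShape (n : ℕ) : ∀ M : ModuleCat.{u} R,
    PreservesColimitsOfShape J ((Tor (ModuleCat.{u} R) n).obj M) := by
  induction n with
  | zero =>
    intro M
    have e : (Tor (ModuleCat.{u} R) 0).obj M ≅ (tensoringLeft (ModuleCat.{u} R)).obj M :=
      Functor.leftDerivedZeroIsoSelf _
    have : PreservesColimitsOfShape J ((tensoringLeft (ModuleCat.{u} R)).obj M) :=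
      (inferInstance : PreservesColimitsOfShape J (tensorLeft M))
    exact preservesColimitsOfShape_of_natIso e.symm
  | succ n ih =>
    intro M
    have hS := projPres_shortExact M
    have hF : Module.Flat R (projPres M).X₂ := flat_of_projective _
    have := ih (projPres M).X₁
    have := ih (projPres M).X₂
    refine ⟨fun {K} => preservesColimit_of_kernel
      ((Tor (ModuleCat.{u} R) (n + 1)).obj M) ((Tor (ModuleCat.{u} R) n).obj (projPres M).X₁)
      ((Tor (ModuleCat.{u} R) n).obj (projPres M).X₂) (δNat hS n)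
      ((Tor (ModuleCat.{u} R) n).map (projPres M).f) ?_ ?_ ?_ K⟩
    · intro N
      have hz : IsZero (((Tor (ModuleCat.{u} R) (n + 1)).obj (projPres M).X₂).obj N) :=
        isZero_tor_succ_of_flat_left _ _ n
      have hmono : Mono (δ (ProjectiveResolution.of N) hS n) :=
        (exact₃ (ProjectiveResolution.of N) hS n).mono_g (hz.eq_of_src _ _)
      exact (ModuleCat.mono_iff_injective _).1 hmono
    · intro N y hy
      have h := exact₁ (ProjectiveResolution.of N) hS n
      rw [ShortComplex.moduleCat_exact_iff] at h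
      exact h y hy
    · intro N x
      have h := δ_comp (ProjectiveResolution.of N) hS n
      exact congr($h x)

theorem tor_obj_preservesFilteredColimits (n : ℕ) (M : ModuleCat.{u} R) :
    PreservesFilteredColimits ((Tor (ModuleCat.{u} R) n).obj M) :=
  ⟨fun J _ _ => tor_obj_preservesColimitsOfShape J n M⟩

end main

end Groth.Agent.Lib.H15TorFiltered2
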