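
import Groth.Agent.Lib.WContr22
import Groth.Agent.Lib.H15EDQuasiFinite
import Groth.Agent.Lib.H56FibreFields
import Groth.Agent.Lib.DiagFlat
import Groth.Agent.S0692
import Groth.Agent.S0700
import Groth.Agent.S0734
import Groth.Agent.S0736

set_option autoImplicit false
set_option linter.style.haveILetI false
universe u

namespace Groth.Agent.Lib.H15WEtaleIndEtale

open PrimeSpectrum ProEtW IsLocalRing TensorProduct

/-- auxiliary: `B ⧸ q` embeds in an algebraic extension of `κ(p)`. -/
lemma isAlgebraic_quotient_of_embedding {A B : Type u} [CommRing A] [CommRing B]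
    [Algebra A B] (q : Ideal B) [hq : q.IsPrime] (L : Type u) [Field L]
    [Algebra (q.comap (algebraMap A B)).ResidueField L]
    [Algebra.IsAlgebraic (q.comap (algebraMap A B)).ResidueField L]
    (ψ : B →+* L) (hker : ∀ b : B, ψ b = 0 ↔ b ∈ q)
    (hcomm : ∀ a : A, ψ (algebraMap A B a) =
      algebraMap (q.comap (algebraMap A B)).ResidueField L
        (algebraMap A (q.comap (algebraMap A B)).ResidueField a)) :
    Algebra.IsAlgebraic (A ⧸ q.comap (algebraMap A B)) (B ⧸ q) := by
  set p : Ideal A := q.comap (algebraMap A B) with hp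
  let K := p.ResidueField
  letI algL : Algebra (A ⧸ p) L := ((algebraMap K L).comp (algebraMap (A ⧸ p) K)).toAlgebra
  haveI : IsScalarTower (A ⧸ p) K L := IsScalarTower.of_algebraMap_eq (fun _ => rfl)
  let ψ' : B ⧸ q →+* L := Ideal.Quotient.lift q ψ (fun b hb => (hker b).2 hb)
  have hinj : Function.Injective ψ' :=
    RingHom.lift_injective_of_ker_le_ideal q (fun b hb => (hker b).2 hb)
      (fun b hb => (hker b).1 hb)
  let ψa : B ⧸ q →ₐ[A ⧸ p] L :=
    { ψ' with
      commutes' := by
        intro r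
        obtain ⟨a, rfl⟩ := Ideal.Quotient.mk_surjective r
        change ψ (algebraMap A B a) = algebraMap K L (algebraMap (A ⧸ p) K (Ideal.Quotient.mk p a))
        rw [hcomm a]
        rfl }
  refine ⟨fun b => ?_⟩
  have h4 : IsAlgebraic K (ψa b) := Algebra.IsAlgebraic.isAlgebraic _
  have h5 : IsAlgebraic (A ⧸ p) (ψa b) := (IsFractionRing.isAlgebraic_iff (A ⧸ p) K L).2 h4
  exact (isAlgebraic_algHom_iff ψa hinj).1 h5

/-- weakly étale maps induce algebraic residue field extensions. -/
theorem algebraicResidueExtensions_of_weaklyEtale (A B : Type u) [CommRing A] [CommRing B]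
    [Algebra A B] [Algebra.WeaklyEtale A B] : ProEtW.AlgebraicResidueExtensions A B := by
  intro q hq
  set p : Ideal A := q.comap (algebraMap A B) with hp
  let K := p.ResidueField
  let F := K ⊗[A] B
  -- a prime of the fibre over `q`
  have hcomap : comap (algebraMap A K) ⟨⊥, Ideal.isPrime_bot⟩ = comap (algebraMap A B) ⟨q, hq⟩ := by
    ext1
    change (⊥ : Ideal K).comap (algebraMap A K) = p
    exact ((Ideal.over_def (⊥ : Ideal K) p)).symm
  obtain ⟨z, -, hz⟩ := Groth.Agent.Lib.H15EDQuasiFinite.exists_prime_tensorProduct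
    (R := A) (S := K) (T := B) ⟨⊥, Ideal.isPrime_bot⟩ ⟨q, hq⟩ hcomap
  have hK : ∀ a : K, ∃ b, a * b * a = a := by
    intro a
    by_cases ha : a = 0
    · exact ⟨0, by simp [ha]⟩
    · exact ⟨a⁻¹, by rw [mul_inv_cancel₀ ha, one_mul]⟩
  have hflat : ∀ I : Ideal F, Module.Flat F (F ⧸ I) :=
    fun I => Groth.Agent.Lib.AbsFlat.flat_of_weaklyEtale_of_vnr hK (F ⧸ I)
  haveI hzmax : z.asIdeal.IsMaximal :=
    Groth.Agent.Lib.H56FibreFields.isMaximal_of_isPrime_of_forall_flat hflat z.asIdeal
  let L := F ⧸ z.asIdeal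
  letI : Field L := Ideal.Quotient.field z.asIdeal
  haveI : Module.Flat F L := hflat z.asIdeal
  haveI h1 : Algebra.WeaklyEtale F L :=
    Groth.Agent.Lib.H56FibreFields.weaklyEtale_of_surjective_of_flat F L
      Ideal.Quotient.mk_surjective
  haveI h2 : Algebra.WeaklyEtale K L := Algebra.WeaklyEtale.trans K F L
  haveI : Algebra.IsSeparable K L := Groth.Agent.Lib.WeaklyEtale.isSeparable_of_weaklyEtale K L
  haveI : Algebra.IsAlgebraic K L := Algebra.IsSeparable.isAlgebraic K L
  let ψ : B →+* L := (Ideal.Quotient.mk z.asIdeal).comp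
    (Algebra.TensorProduct.includeRight (R := A) (A := K) (B := B)).toRingHom
  have hker : ∀ b : B, ψ b = 0 ↔ b ∈ q := by
    intro b
    have h3 : b ∈ (comap (Algebra.TensorProduct.includeRight (R := A) (A := K) (B := B)).toRingHom
        z).asIdeal ↔ b ∈ q := by rw [hz]
    rw [← h3]
    exact Ideal.Quotient.eq_zero_iff_mem
  refine isAlgebraic_quotient_of_embedding q L ψ hker ?_
  intro a
  change Ideal.Quotient.mk z.asIdeal ((1 : K) ⊗ₜ[A] algebraMap A B a) =
    Ideal.Quotient.mk z.asIdeal (algebraMap A K a ⊗ₜ[A] (1 : B))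
  congr 1
  rw [Algebra.algebraMap_eq_smul_one, Algebra.algebraMap_eq_smul_one, TensorProduct.smul_tmul]


/-- **BS 2.3.4 / Stacks 097X** (`S0176`). -/
theorem main (A B : Type u) [CommRing A] [CommRing B] [Algebra A B]
    [Algebra.WeaklyEtale A B] :
    ∃ (B' : Type u) (_ : CommRing B') (_ : Algebra B B') (_ : Algebra A B')
      (_ : IsScalarTower A B B'),
      Module.FaithfullyFlat B B' ∧ EtPBC.IsIndEtale B B' ∧ EtPBC.IsIndEtale A B' := by
  obtain ⟨C, D, _, _, _, _, _, _, _, _, hffAC, hieAC, hffBD, hieBD, hWC, hWD, hWmap, hclosed, -, -,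
    hSH⟩ := Groth.Agent.S0692.result A B (algebraicResidueExtensions_of_weaklyEtale A B)
  refine ⟨D, inferInstance, inferInstance, inferInstance, inferInstance, hffBD, hieBD, ?_⟩
  haveI : Algebra.WeaklyEtale A C := Groth.Agent.S0736.result A C hieAC
  haveI : Algebra.WeaklyEtale B D := Groth.Agent.S0736.result B D hieBD
  haveI : Algebra.WeaklyEtale A D := Algebra.WeaklyEtale.trans A B D
  haveI : Algebra.WeaklyEtale C D := Groth.Agent.Lib.DiagFlat.weaklyEtale_of_tower A C D
  have hid : EtPBC.IdentifiesLocalRings C D := by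
    intro q
    obtain ⟨n, ⟨hn, hqn⟩, -⟩ := hWD.2.2 q
    have hn' : n ∈ ProEtW.closedPoints (PrimeSpectrum D) := hn
    rw [hclosed] at hn'
    have hm : IsClosed ({comap (algebraMap C D) n} : Set (PrimeSpectrum C)) := hn'
    haveI hmmax : (n.asIdeal.comap (algebraMap C D)).IsMaximal :=
      (isClosed_singleton_iff_isMaximal (comap (algebraMap C D) n)).1 hm
    have h1 := Groth.Agent.Lib.WContr22.bijective_localRingHom_of_weaklyEtale C D n.asIdeal
      (n.asIdeal.comap (algebraMap C D)) rfl (hSH _)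
    have hle : q.asIdeal ≤ n.asIdeal := (le_iff_specializes q n).2 hqn
    exact Groth.Agent.Lib.AffNbhd13a.localRingHom_bijective_of_le (algebraMap C D) n.asIdeal
      q.asIdeal hle _ _ rfl rfl h1
  have hIZ : EtPBC.IsIndZariski C D := Groth.Agent.S0700.result C D hid hWC hWD hWmap
  have hCD : EtPBC.IsIndEtale C D := Groth.Agent.Lib.H15WLocSquare.isIndEtale_of_isIndZariski C D hIZ
  exact Groth.Agent.S0734.result A C D hieAC hCD

end Groth.Agent.Lib.H15WEtaleIndEtale
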