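import Groth.Agent.Lib.H15LCLocal2
import Groth.Agent.Lib.H15IndZariskiLoc
import Groth.Agent.Lib.SpectralPi0Fib33

set_option autoImplicit false
universe u

namespace Groth.Agent.Lib.H15WLoc

open PrimeSpectrum Groth.Agent.Lib.H15SpecLC Groth.Agent.Lib.H15LocalRingHom
  Groth.Agent.Lib.H15LCLocal Groth.Agent.Lib.H15IndZariskiLoc ProEtW

variable {A : Type u} [CommRing A] {T : Type u} [TopologicalSpace T] (v : C(T, PrimeSpectrum A))

/-- locally constant functions on `T` which are invertible along `v`. -/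
def M : Submonoid (LocallyConstant T A) where
  carrier := {f | ∀ z : T, f z ∉ (v z).asIdeal}
  one_mem' := fun z => (v z).2.one_notMem
  mul_mem' := fun hf hg z => (v z).2.mul_notMem (hf z) (hg z)

/-- the "w-localization of `A` along `v : T → Spec A`". -/
abbrev Bv : Type u := Localization (M v)

variable [CompactSpace T]

theorem isIndZariski : EtPBC.IsIndZariski A (Bv v) :=
  isIndZariski_of_isLocalization (isIndZariski_locallyConstant T A) (M v)

variable [T2Space T] [TotallyDisconnectedSpace T]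

variable {v}

lemma forall_M_iff (x : PrimeSpectrum A × T) :
    (∀ m ∈ M v, m x.2 ∉ x.1.asIdeal) ↔ x.1.asIdeal ≤ (v x.2).asIdeal := by
  constructor
  · intro h
    by_contra hle
    obtain ⟨a, hax, haz⟩ := SetLike.not_le_iff_exists.1 hle
    have hopen : IsOpen {z : T | a ∉ (v z).asIdeal} :=
      (PrimeSpectrum.basicOpen a).isOpen.preimage v.continuous
    obtain ⟨U, hU, hxU, hUa⟩ := compact_exists_isClopen_in_isOpen hopen (x := x.2) haz
    refine h (algebraMap A (LocallyConstant T A) a * LocallyConstant.charFn A hU +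
      (1 - LocallyConstant.charFn A hU)) ?_ ?_
    · intro z
      show a * LocallyConstant.charFn A hU z + (1 - LocallyConstant.charFn A hU z) ∉ (v z).asIdeal
      by_cases hz : z ∈ U
      · rw [charFn_apply_of_mem hU hz, mul_one, sub_self, add_zero]
        exact hUa hz
      · rw [charFn_apply_of_notMem hU hz, mul_zero, sub_zero, zero_add]
        exact (v z).2.one_notMem
    · show a * LocallyConstant.charFn A hU x.2 + (1 - LocallyConstant.charFn A hU x.2) ∈
        x.1.asIdeal
      rw [charFn_apply_of_mem hU hxU, mul_one, sub_self, add_zero]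
      exact hax
  · intro hle m hm hmem
    exact hm x.2 (hle hmem)

/-- first coordinate. -/
noncomputable abbrev P (y : PrimeSpectrum (Bv v)) : PrimeSpectrum A := (pt A T y).1
/-- second coordinate. -/
noncomputable abbrev τ (y : PrimeSpectrum (Bv v)) : T := (pt A T y).2

lemma P_eq (y : PrimeSpectrum (Bv v)) : P y = PrimeSpectrum.comap (algebraMap A (Bv v)) y :=
  pt_fst y

lemma P_le (y : PrimeSpectrum (Bv v)) : (P y).asIdeal ≤ (v (τ y)).asIdeal := by
  have : pt A T y ∈ Set.range (pt A T : PrimeSpectrum (Bv v) → _) := ⟨y, rfl⟩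
  rw [range_pt (M v), Set.mem_ofPred_eq, forall_M_iff] at this
  exact this

lemma exists_diag (t : T) : ∃ y : PrimeSpectrum (Bv v), pt A T y = (v t, t) := by
  have : ((v t, t) : PrimeSpectrum A × T) ∈ Set.range (pt A T : PrimeSpectrum (Bv v) → _) := by
    rw [range_pt (M v), Set.mem_ofPred_eq, forall_M_iff]
  exact this

lemma pt_injective : Function.Injective (pt A T : PrimeSpectrum (Bv v) → _) :=
  (isEmbedding_pt (M v) (Bv v)).injective

lemma continuous_τ : Continuous (τ : PrimeSpectrum (Bv v) → T) :=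
  continuous_snd.comp (isEmbedding_pt (M v) (Bv v)).continuous

lemma isClosed_singleton_iff (y : PrimeSpectrum (Bv v)) :
    IsClosed ({y} : Set (PrimeSpectrum (Bv v))) ↔ P y = v (τ y) := by
  constructor
  · intro hy
    obtain ⟨y₀, hy₀⟩ := exists_diag (v := v) (τ y)
    have hspec : y ⤳ y₀ := by
      rw [specializes_iff_pt (M v), hy₀]
      exact ⟨(PrimeSpectrum.le_iff_specializes _ _).1 (P_le y), rfl⟩
    have := specializes_iff_mem_closure.1 hspec
    rw [hy.closure_eq, Set.mem_singleton_iff] at this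
    rw [← this, P, hy₀]
    show v (τ y) = v (pt A T y₀).2
    rw [hy₀]
  · intro hy
    rw [SpectralPi0Fib33.isClosed_singleton_iff_forall_specializes]
    intro y' hyy'
    obtain ⟨h1, h2⟩ := (specializes_iff_pt (M v) _ y y').1 hyy'
    apply pt_injective
    refine Prod.ext ?_ h2.symm
    apply PrimeSpectrum.ext
    apply le_antisymm
    · have := P_le y'
      rw [show τ y' = τ y from h2.symm, ← hy] at this
      exact this
    · exact (PrimeSpectrum.le_iff_specializes _ _).2 h1

/-- closed points are closed when the sets `{t | a ∈ v t}` are open. -/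
theorem isWLocal (hv : ∀ a : A, IsOpen {t : T | a ∈ (v t).asIdeal}) :
    IsWLocal (PrimeSpectrum (Bv v)) := by
  refine ⟨inferInstance, ?_, fun y => ?_⟩
  · -- closed points = `{y | v (τ y) ≤ P y}`
    have hset : {y : PrimeSpectrum (Bv v) | IsClosed ({y} : Set _)} =
        (pt A T) ⁻¹' {x : PrimeSpectrum A × T | (v x.2).asIdeal ≤ x.1.asIdeal} := by
      ext y
      rw [Set.mem_ofPred_eq, isClosed_singleton_iff]
      constructor
      · intro h
        show (v (τ y)).asIdeal ≤ (P y).asIdeal
        rw [h]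
      · intro h
        exact PrimeSpectrum.ext (le_antisymm (P_le y) h)
    rw [hset]
    refine IsClosed.preimage (isEmbedding_pt (M v) (Bv v)).continuous ?_
    rw [← isOpen_compl_iff, isOpen_iff_forall_mem_open]
    rintro ⟨p, t⟩ hpt
    replace hpt : ¬ (v t).asIdeal ≤ p.asIdeal := hpt
    obtain ⟨a, hat, hap⟩ := SetLike.not_le_iff_exists.1 hpt
    refine ⟨(PrimeSpectrum.basicOpen a : Set _) ×ˢ {t' : T | a ∈ (v t').asIdeal}, ?_,
      (PrimeSpectrum.basicOpen a).isOpen.prod (hv a), ⟨hap, hat⟩⟩
    rintro ⟨p', t'⟩ ⟨hp', ht'⟩ hle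
    exact hp' (hle ht')
  · obtain ⟨y₀, hy₀⟩ := exists_diag (v := v) (τ y)
    have hP₀ : P y₀ = v (τ y) := by rw [P, hy₀]
    have hτ₀ : τ y₀ = τ y := by rw [τ, hy₀]
    refine ⟨y₀, ⟨?_, ?_⟩, ?_⟩
    · rw [isClosed_singleton_iff, hP₀, hτ₀]
    · rw [specializes_iff_pt (M v), hy₀]
      exact ⟨(PrimeSpectrum.le_iff_specializes _ _).1 (P_le y), rfl⟩
    · rintro y' ⟨hy'1, hy'2⟩
      rw [isClosed_singleton_iff] at hy'1
      obtain ⟨-, h2⟩ := (specializes_iff_pt (M v) _ y y').1 hy'2
      apply pt_injective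
      rw [hy₀]
      refine Prod.ext ?_ h2.symm
      show P y' = v (τ y)
      rw [hy'1]
      exact congrArg v h2.symm

/-- closed points biject with `T` when `v` is bijective. -/
theorem bijOn_closedPoints (hv : Function.Bijective v) :
    Set.BijOn (PrimeSpectrum.comap (algebraMap A (Bv v))) (ProEtW.closedPoints (PrimeSpectrum (Bv v)))
      Set.univ := by
  refine ⟨fun _ _ => Set.mem_univ _, ?_, ?_⟩
  · intro y hy y' hy' h
    rw [← P_eq, ← P_eq] at h
    have h1 : IsClosed ({y} : Set _) := hy
    have h2 : IsClosed ({y'} : Set _) := hy'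
    rw [isClosed_singleton_iff] at h1 h2
    apply pt_injective
    refine Prod.ext h (hv.1 ?_)
    show v (τ y) = v (τ y')
    rw [← h1, ← h2, h]
  · intro p _
    obtain ⟨t, rfl⟩ := hv.2 p
    obtain ⟨y₀, hy₀⟩ := exists_diag (v := v) t
    refine ⟨y₀, ?_, ?_⟩
    · show IsClosed ({y₀} : Set _)
      rw [isClosed_singleton_iff, P, τ, hy₀]
    · rw [← P_eq, P, hy₀]

/-- `Spec (Bv v) → Spec A` is surjective when `v` is. -/
theorem comap_surjective (hv : Function.Surjective v) :
    Function.Surjective (PrimeSpectrum.comap (algebraMap A (Bv v))) := by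
  intro p
  obtain ⟨t, rfl⟩ := hv p
  obtain ⟨y₀, hy₀⟩ := exists_diag (v := v) t
  exact ⟨y₀, by rw [← P_eq, P, hy₀]⟩

end Groth.Agent.Lib.H15WLoc
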