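import Groth.Agent.Lib.H15WLoc2
import Groth.Agent.S0699
import Mathlib.Topology.ExtremallyDisconnected
import Mathlib.Topology.Compactification.StoneCech

set_option autoImplicit false
universe u

namespace Groth.Agent.Lib.H15WLoc

open PrimeSpectrum Groth.Agent.Lib.H15IndZariskiLoc CategoryTheory Groth.Agent.Lib.SpectralCons
  Topology Groth.Agent.Lib.H15LCLocal

section pi0

variable {A : Type u} [CommRing A] {T : Type u} [TopologicalSpace T] {v : C(T, PrimeSpectrum A)}
  [CompactSpace T] [T2Space T] [TotallyDisconnectedSpace T]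

/-- the map `π₀ (Spec (Bv v)) → T`. -/
noncomputable def τ₀ (v : C(T, PrimeSpectrum A)) :
    ConnectedComponents (PrimeSpectrum (Bv v)) → T :=
  (continuous_τ (v := v)).connectedComponentsLift

lemma τ₀_mk (y : PrimeSpectrum (Bv v)) : τ₀ v (ConnectedComponents.mk y) = τ y :=
  (continuous_τ (v := v)).connectedComponentsLift_apply_coe y

lemma continuous_τ₀ : Continuous (τ₀ v) :=
  (continuous_τ (v := v)).connectedComponentsLift_continuous

lemma τ₀_bijective : Function.Bijective (τ₀ v) := by
  constructor
  · intro c c' h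
    obtain ⟨y, rfl⟩ := ConnectedComponents.surjective_coe c
    obtain ⟨y', rfl⟩ := ConnectedComponents.surjective_coe c'
    change τ₀ v (ConnectedComponents.mk y) = τ₀ v (ConnectedComponents.mk y') at h
    rw [τ₀_mk, τ₀_mk] at h
    obtain ⟨y₀, hy₀⟩ := exists_diag (v := v) (τ y)
    have h1 : y ⤳ y₀ := by
      rw [specializes_iff_pt (M v), hy₀]
      exact ⟨(PrimeSpectrum.le_iff_specializes _ _).1 (P_le y), rfl⟩
    have h2 : y' ⤳ y₀ := by
      rw [specializes_iff_pt (M v), hy₀]
      refine ⟨(PrimeSpectrum.le_iff_specializes _ _).1 ?_, h.symm⟩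
      rw [h]
      exact P_le y'
    show ConnectedComponents.mk y = ConnectedComponents.mk y'
    rw [Groth.Agent.S0699.mk_eq_of_specializes h1, Groth.Agent.S0699.mk_eq_of_specializes h2]
  · intro t
    obtain ⟨y₀, hy₀⟩ := exists_diag (v := v) t
    refine ⟨ConnectedComponents.mk y₀, ?_⟩
    rw [τ₀_mk, τ, hy₀]

/-- `π₀ (Spec (Bv v)) ≃ₜ T`. -/
noncomputable def pi0Homeo (v : C(T, PrimeSpectrum A)) :
    ConnectedComponents (PrimeSpectrum (Bv v)) ≃ₜ T :=
  Continuous.homeoOfEquivCompactToT2 (f := Equiv.ofBijective (τ₀ v) τ₀_bijective) continuous_τ₀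

lemma pi0Homeo_mk (y : PrimeSpectrum (Bv v)) : pi0Homeo v (ConnectedComponents.mk y) = τ y :=
  τ₀_mk y

end pi0

section ed

variable (A : Type u) [CommRing A]

/-- `Spec A` with the discrete topology. -/
abbrev Xd : Type u := WithTopology (PrimeSpectrum A) ⊥

instance : DiscreteTopology (Xd A) := by
  rw [discreteTopology_iff_forall_isOpen]
  intro s
  rw [WithTopology.isOpen_iff]
  exact @isOpen_discrete (PrimeSpectrum A) ⊥ (@DiscreteTopology.mk _ ⊥ rfl) _

/-- the Stone-Čech compactification of the discrete `Spec A`. -/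
abbrev Te : Type u := StoneCech (Xd A)

instance : ExtremallyDisconnected (Te A) :=
  CompactT2.Projective.extremallyDisconnected StoneCech.projective

instance : TotallyDisconnectedSpace (Te A) := inferInstance

/-- `Te A → Xc A`. -/
noncomputable def eMap : Te A → Xc A :=
  stoneCechExtend (g := fun x : Xd A => (WithTopology.toTopology _ (WithTopology.ofTopology x) : Xc A))
    continuous_of_discreteTopology

lemma continuous_eMap : Continuous (eMap A) := continuous_stoneCechExtend _

lemma eMap_unit (x : Xd A) :
    eMap A (stoneCechUnit x) = WithTopology.toTopology _ (WithTopology.ofTopology x) :=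
  congrFun (stoneCechExtend_extends (continuous_of_discreteTopology
    (f := fun x : Xd A => (WithTopology.toTopology _ (WithTopology.ofTopology x) : Xc A)))) x

lemma eMap_surjective : Function.Surjective (eMap A) := by
  intro x
  exact ⟨stoneCechUnit (WithTopology.toTopology _ (WithTopology.ofTopology x)), by rw [eMap_unit]⟩

/-- `Te A → Spec A`. -/
noncomputable def ve : C(Te A, PrimeSpectrum A) := (vc A).comp ⟨eMap A, continuous_eMap A⟩

lemma ve_surjective : Function.Surjective (ve A) :=
  vc_bijective.2.comp (eMap_surjective A)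

lemma isOpen_ve (a : A) : IsOpen {t : Te A | a ∈ (ve A t).asIdeal} :=
  (isOpen_vc a).preimage (continuous_eMap A)

/-- `S0696`. -/
theorem exists_indZariski_wLocal_extrDisc :
    ∃ (B : Type u) (_ : CommRing B) (_ : Algebra A B),
      Module.FaithfullyFlat A B ∧ EtPBC.IsIndZariski A B ∧ ProEtW.IsWLocal (PrimeSpectrum B) ∧
        ExtremallyDisconnected (_root_.ConnectedComponents (PrimeSpectrum B)) :=
  ⟨Bv (ve A), inferInstance, inferInstance, faithfullyFlat (ve_surjective A), isIndZariski (ve A),
    isWLocal (isOpen_ve A), extremallyDisconnected_of_homeo (pi0Homeo (ve A)).symm⟩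

end ed

end Groth.Agent.Lib.H15WLoc
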