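/-
helper80: schemes of finite type over ℤ: closed points have finite residue fields and conversely;
finitely many points with residue field embedding in a given finite field (EGA IV 10.4.11-ish).
Main results: `int_isJacobsonRing`, `finite_of_moduleFinite_int`, `isClosed_singleton_iff_finite_residueField`,
`finite_ringHom_of_finiteType`, `finite_hom_of_isAffine`, `finite_hom_of_compact`,
`finite_setOf_residueField_hom`.
-/
import Mathlib

set_option autoImplicit false
universe u

namespace Groth.Agent.Lib.H80FiniteTypeZ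

theorem int_isJacobsonRing : IsJacobsonRing ℤ := by
  rw [isJacobsonRing_iff_prime_eq]
  intro P hP
  by_cases hP0 : P = ⊥
  · subst hP0
    rw [eq_bot_iff]
    intro n hn
    rw [Ideal.mem_bot]
    by_contra hn0
    obtain ⟨p, hp1, hp⟩ := Nat.exists_infinite_primes (n.natAbs + 1)
    have hmax : (Ideal.span {(p : ℤ)}).IsMaximal :=
      PrincipalIdealRing.isMaximal_of_irreducible (Nat.prime_iff_prime_int.mp hp).irreducible
    have hmem : n ∈ Ideal.span {(p : ℤ)} := by
      rw [Ideal.jacobson, Ideal.mem_sInf] at hn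
      exact hn ⟨bot_le, hmax⟩
    rw [Ideal.mem_span_singleton] at hmem
    have h1 : p ∣ n.natAbs := Int.natCast_dvd.mp hmem
    have h2 : p ≤ n.natAbs := Nat.le_of_dvd (Int.natAbs_pos.mpr hn0) h1
    omega
  · have : P.IsMaximal := IsPrime.to_maximal_ideal hP0
    exact Ideal.jacobson_eq_self_of_isMaximal

theorem finite_of_moduleFinite_int (K : Type*) [Field K] [Module.Finite ℤ K] : Finite K := by
  obtain ⟨p, hp⟩ := CharP.exists K
  rcases CharP.char_is_prime_or_zero K p with hprime | h0
  · have : Fact p.Prime := ⟨hprime⟩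
    let _ := ZMod.algebra K p
    have : Module.Finite (ZMod p) K := Module.Finite.of_restrictScalars_finite ℤ (ZMod p) K
    exact Module.finite_of_finite (ZMod p)
  · subst h0
    have : CharZero K := CharP.charP_to_charZero K
    have hinj : Function.Injective (algebraMap ℤ K) := (algebraMap ℤ K).injective_int
    have : Algebra.IsIntegral ℤ K := inferInstance
    exact absurd (isField_of_isIntegral_of_isField hinj (Field.toIsField K)) Int.not_isField

open AlgebraicGeometry CategoryTheory Limits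

instance : IsJacobsonRing (ULift.{u} ℤ) :=
  (isJacobsonRing_iso (ULift.ringEquiv (R := ℤ))).mpr int_isJacobsonRing

theorem finite_of_ringHom_finite_ulift {K : Type u} [Field K] (φ : ULift.{u} ℤ →+* K)
    (hφ : φ.Finite) : Finite K := by
  let a : Algebra (ULift.{u} ℤ) K := φ.toAlgebra
  have h1 : @Module.Finite (ULift.{u} ℤ) K _ _ a.toModule := hφ
  have h2 : Module.Finite ℤ (ULift.{u} ℤ) :=
    Module.Finite.equiv (ULift.moduleEquiv (R := ℤ) (M := ℤ)).symm
  have : Module.Finite ℤ K :=
    @Module.Finite.trans ℤ (ULift.{u} ℤ) K _ _ _ _ _ a.toModule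
      (@AddCommGroup.intIsScalarTower (ULift.{u} ℤ) K _ _ a.toModule) h2 h1
  exact finite_of_moduleFinite_int K

section
variable (Y : Scheme.{u}) [LocallyOfFiniteType (Limits.IsTerminal.from specULiftZIsTerminal Y)]

theorem isClosed_singleton_iff_finite_residueField (y : Y) :
    IsClosed ({y} : Set Y) ↔ Finite ↑(Y.residueField y) := by
  have hJ : JacobsonSpace Y :=
    LocallyOfFiniteType.jacobsonSpace (Limits.IsTerminal.from specULiftZIsTerminal Y)
  set t := Limits.IsTerminal.from specULiftZIsTerminal Y with ht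
  obtain ⟨φ, hφ⟩ := Spec.map_surjective (Y.fromSpecResidueField y ≫ t)
  constructor
  · intro hy
    have := isClosed_singleton_iff_isClosedImmersion.mp hy
    have hfin : IsFinite (Y.fromSpecResidueField y ≫ t) :=
      (isFinite_iff_locallyOfFiniteType_of_jacobsonSpace
        (f := Y.fromSpecResidueField y ≫ t)).mpr inferInstance
    rw [← hφ, IsFinite.SpecMap_iff] at hfin
    exact finite_of_ringHom_finite_ulift φ.hom hfin
  · intro hfin
    rw [isClosed_singleton_iff_locallyOfFiniteType]
    have h1 : LocallyOfFiniteType (Y.fromSpecResidueField y ≫ t) := by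
      rw [← hφ, HasRingHomProperty.Spec_iff (P := @LocallyOfFiniteType)]
      apply RingHom.FiniteType.of_finite
      exact @Module.Finite.of_finite (ULift.{u} ℤ) (Y.residueField y) _ _ φ.hom.toAlgebra.toModule _
    exact locallyOfFiniteType_of_comp (Y.fromSpecResidueField y) t
end

theorem ringHom_ulift_int_ext {F : Type*} [NonAssocSemiring F] (a b : ULift.{u} ℤ →+* F) : a = b := by
  have h : a.comp (ULift.ringEquiv (R := ℤ)).symm.toRingHom =
      b.comp (ULift.ringEquiv (R := ℤ)).symm.toRingHom := RingHom.ext_int _ _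
  ext x
  have h2 := congr($h (ULift.ringEquiv x))
  have h3 : (ULift.ringEquiv (R := ℤ)).symm.toRingHom (ULift.ringEquiv x) = x :=
    (ULift.ringEquiv (R := ℤ)).symm_apply_apply x
  simp only [RingHom.comp_apply] at h2
  rw [h3] at h2
  exact h2

theorem finite_ringHom_of_finiteType {R F : Type*} [CommRing R] [CommRing F] [Finite F]
    (θ : ULift.{u} ℤ →+* R) (hθ : θ.FiniteType) : Finite (R →+* F) := by
  let aR : Algebra (ULift.{u} ℤ) R := θ.toAlgebra
  have hft : Algebra.FiniteType (ULift.{u} ℤ) R := hθ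
  obtain ⟨s, hs⟩ := hft.out
  refine Finite.of_injective (fun ψ : R →+* F => fun x : (s : Set R) => ψ x) ?_
  intro ψ₁ ψ₂ h
  let aF : Algebra (ULift.{u} ℤ) F := (ψ₁.comp θ).toAlgebra
  let a₁ : R →ₐ[ULift.{u} ℤ] F := { ψ₁ with commutes' := fun r => rfl }
  let a₂ : R →ₐ[ULift.{u} ℤ] F :=
    { ψ₂ with
      commutes' := fun r => by
        show ψ₂ (θ r) = ψ₁ (θ r)
        exact congr($(ringHom_ulift_int_ext (ψ₂.comp θ) (ψ₁.comp θ)) r) }
  have : a₁ = a₂ := AlgHom.ext_of_adjoin_eq_top hs (fun x hx => congr_fun h ⟨x, hx⟩)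
  ext x
  exact congr($this x)

/-- Morphisms from the spectrum of a finite field to an affine scheme of finite type over `ℤ`. -/
theorem finite_hom_of_isAffine (Z : Scheme.{u}) [IsAffine Z]
    (tZ : Z ⟶ Spec (.of (ULift.{u} ℤ))) [LocallyOfFiniteType tZ]
    (F : Type u) [Field F] [Finite F] : Finite (Spec (.of F) ⟶ Z) := by
  have hQ : (tZ.appTop).hom.FiniteType :=
    (HasRingHomProperty.iff_of_isAffine (P := @LocallyOfFiniteType)).mp inferInstance
  let θ : ULift.{u} ℤ →+* Γ(Z, ⊤) :=
    tZ.appTop.hom.comp (Scheme.ΓSpecIso (.of (ULift.{u} ℤ))).inv.hom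
  have hθ : θ.FiniteType :=
    RingHom.FiniteType.comp hQ (RingHom.FiniteType.of_surjective _
      (ConcreteCategory.bijective_of_isIso (Scheme.ΓSpecIso (.of (ULift.{u} ℤ))).inv).2)
  have hfin : Finite (Γ(Z, ⊤) →+* F) := finite_ringHom_of_finiteType θ hθ
  refine Finite.of_injective
    (fun g : Spec (.of F) ⟶ Z => (g.appTop ≫ (Scheme.ΓSpecIso (.of F)).hom).hom) ?_
  intro g₁ g₂ h
  apply ext_of_isAffine
  have h' : g₁.appTop ≫ (Scheme.ΓSpecIso (.of F)).hom = g₂.appTop ≫ (Scheme.ΓSpecIso (.of F)).hom :=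
    CommRingCat.hom_ext h
  exact (cancel_mono _).mp h'

theorem finite_hom_of_compact (Y : Scheme.{u}) [CompactSpace Y]
    [LocallyOfFiniteType (Limits.IsTerminal.from specULiftZIsTerminal Y)]
    (F : Type u) [Field F] [Finite F] : Finite (Spec (.of F) ⟶ Y) := by
  let 𝒰 := Y.affineCover.finiteSubcover
  have hfin : ∀ i : 𝒰.I₀, Finite (Spec (.of F) ⟶ 𝒰.X i) := by
    intro i
    have : LocallyOfFiniteType (𝒰.f i ≫ Limits.IsTerminal.from specULiftZIsTerminal Y) :=
      inferInstance
    exact finite_hom_of_isAffine (𝒰.X i) (𝒰.f i ≫ Limits.IsTerminal.from specULiftZIsTerminal Y) F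
  refine Finite.of_surjective
    (fun p : Σ i : 𝒰.I₀, (Spec (.of F) ⟶ 𝒰.X i) => p.2 ≫ 𝒰.f p.1) ?_
  intro g
  let pt : Spec (.of F) := ⟨⊥, Ideal.isPrime_bot⟩
  obtain ⟨i, z, hz⟩ := 𝒰.exists_eq (g pt)
  have hsub : Subsingleton (Spec (.of F)) := inferInstanceAs (Subsingleton (PrimeSpectrum F))
  have hr : Set.range g ⊆ Set.range (𝒰.f i) := by
    rintro _ ⟨w, rfl⟩
    rw [Subsingleton.elim w pt]
    exact ⟨z, hz⟩
  exact ⟨⟨i, IsOpenImmersion.lift (𝒰.f i) g hr⟩, IsOpenImmersion.lift_fac _ _ _⟩

theorem finite_setOf_residueField_hom (Y : Scheme.{u}) [CompactSpace Y]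
    [LocallyOfFiniteType (Limits.IsTerminal.from specULiftZIsTerminal Y)]
    (p d : ℕ) [Fact p.Prime] :
    {y : Y | Nonempty (↑(Y.residueField y) →+* GaloisField p d)}.Finite := by
  let F := ULift.{u} (GaloisField p d)
  have hF : Finite F := inferInstance
  have hT : Finite (Spec (.of F) ⟶ Y) := finite_hom_of_compact Y F
  let pt : Spec (.of F) := ⟨⊥, Ideal.isPrime_bot⟩
  refine (Set.finite_range (fun g : Spec (.of F) ⟶ Y => g pt)).subset ?_
  rintro y ⟨σ⟩
  let σ' : Y.residueField y ⟶ .of F :=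
    CommRingCat.ofHom ((ULift.ringEquiv (R := GaloisField p d)).symm.toRingHom.comp σ)
  refine ⟨Spec.map σ' ≫ Y.fromSpecResidueField y, ?_⟩
  show (Spec.map σ' ≫ Y.fromSpecResidueField y) pt = y
  rw [Scheme.Hom.comp_apply]
  have : Y.fromSpecResidueField y (Spec.map σ' pt) ∈ Set.range (Y.fromSpecResidueField y) := ⟨_, rfl⟩
  rw [Scheme.range_fromSpecResidueField] at this
  exact this

end Groth.Agent.Lib.H80FiniteTypeZ
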