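import Mathlib
import Groth.Agent.Lib.FTDim

/-!
# Noether normalization for dense affine opens (helper8)

Ring-level: for a finite type algebra `A` over a field `k` and `n : ℕ`, algebra maps
`k[x_1..x_n] → A` (variables indexed by `ULift (Fin n)`) which are finite / surjective on spectra,
according to the comparison of `dim A` with `n`.
-/

set_option autoImplicit false
universe u

namespace Groth.Agent.Lib.H8NoetherSch

open MvPolynomial

section Ring

variable (k : Type u) [Field k] (A : Type u) [CommRing A] [Algebra k A] [Algebra.FiniteType k A]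

/-- Noether normalization with the number of variables identified as the dimension -/
theorem exists_noether [Nontrivial A] : ∃ (s : ℕ) (g : MvPolynomial (Fin s) k →ₐ[k] A),
    Function.Injective g ∧ g.Finite ∧ ringKrullDim A = s := by
  obtain ⟨s, g, hinj, hfin⟩ := exists_finite_inj_algHom_of_fg k A
  refine ⟨s, g, hinj, hfin, ?_⟩
  letI := g.toRingHom.toAlgebra
  haveI : Module.Finite (MvPolynomial (Fin s) k) A := hfin
  haveI : Algebra.IsIntegral (MvPolynomial (Fin s) k) A := Algebra.IsIntegral.of_finite _ _
  rw [← Groth.Agent.Lib.FTDim.ringKrullDim_eq_of_isIntegral_of_injective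
    (R := MvPolynomial (Fin s) k) (S := A) hinj,
    Groth.Agent.Lib.FTDim.ringKrullDim_mvPolynomial]

/-- an injective integral ring map is surjective on spectra -/
theorem comap_surjective_of_finite_of_injective {R S : Type*} [CommRing R] [CommRing S]
    (g : R →+* S) (hinj : Function.Injective g) (hfin : g.Finite) :
    Function.Surjective (PrimeSpectrum.comap g) := by
  letI := g.toAlgebra
  haveI : Module.Finite R S := hfin
  haveI : Algebra.IsIntegral R S := Algebra.IsIntegral.of_finite _ _
  intro p
  obtain ⟨Q, -, hQ, hQc⟩ := Ideal.exists_ideal_over_prime_of_isIntegral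
    (S := S) p.asIdeal ⊥ (by
      rw [← RingHom.ker_eq_comap_bot]
      have : RingHom.ker (algebraMap R S) = ⊥ := (RingHom.injective_iff_ker_eq_bot _).mp hinj
      rw [this]
      exact bot_le)
  exact ⟨⟨Q, hQ⟩, PrimeSpectrum.ext hQc⟩

/-- `dim A ≥ n`: a map from the polynomial ring in `n` variables surjective on spectra, which is
moreover finite when `dim A = n` -/
theorem exists_algHom_of_le (n : ℕ) (h : (n : WithBot ℕ∞) ≤ ringKrullDim A) :
    ∃ φ : MvPolynomial (ULift.{u} (Fin n)) k →ₐ[k] A,
      Function.Surjective (PrimeSpectrum.comap φ.toRingHom) ∧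
      (ringKrullDim A = n → φ.toRingHom.Finite) := by
  haveI : Nontrivial A := by
    by_contra hcon
    rw [not_nontrivial_iff_subsingleton] at hcon
    rw [ringKrullDim_eq_bot_of_subsingleton] at h
    simp at h
  obtain ⟨s, g, hinj, hfin, hdim⟩ := exists_noether k A
  rw [hdim] at h
  have hns : n ≤ s := by exact_mod_cast h
  let ι : ULift.{u} (Fin n) → Fin s := fun i => Fin.castLE hns i.down
  have hι : Function.Injective ι := fun a b hab => by
    have := Fin.castLE_injective hns hab
    exact ULift.ext _ _ this
  refine ⟨g.comp (rename ι), ?_, ?_⟩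
  · intro p
    obtain ⟨q, hq⟩ : ∃ q, PrimeSpectrum.comap (rename ι : MvPolynomial _ k →ₐ[k] _).toRingHom q = p := by
      refine ⟨PrimeSpectrum.comap (killCompl hι).toRingHom p, ?_⟩
      rw [← PrimeSpectrum.comap_comp_apply]
      have : ((killCompl hι).toRingHom.comp (rename ι : MvPolynomial _ k →ₐ[k] _).toRingHom) =
          RingHom.id _ := by
        apply RingHom.ext
        intro x
        exact killCompl_rename_app hι x
      rw [this]
      rfl
    obtain ⟨r, hr⟩ := comap_surjective_of_finite_of_injective g.toRingHom hinj hfin q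
    refine ⟨r, ?_⟩
    rw [← hq, ← hr, ← PrimeSpectrum.comap_comp_apply]
    rfl
  · intro hA
    rw [hdim] at hA
    have hsn : s = n := by exact_mod_cast hA
    subst hsn
    have hsurj : Function.Surjective ι := fun j => ⟨⟨j⟩, by simp [ι]⟩
    have h1 : (rename ι : MvPolynomial _ k →ₐ[k] _).toRingHom.Finite :=
      RingHom.Finite.of_surjective _ (rename_surjective ι hsurj)
    exact RingHom.Finite.comp hfin h1

/-- `dim A ≤ n`: a finite map from the polynomial ring in `n` variables -/
theorem exists_algHom_of_ge (n : ℕ) (h : ringKrullDim A ≤ (n : WithBot ℕ∞)) :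
    ∃ φ : MvPolynomial (ULift.{u} (Fin n)) k →ₐ[k] A, φ.toRingHom.Finite := by
  by_cases hsub : Subsingleton A
  · refine ⟨aeval (fun _ => 0), ?_⟩
    letI := (aeval (R := k) (fun _ : ULift.{u} (Fin n) => (0 : A))).toRingHom.toAlgebra
    show Module.Finite _ A
    infer_instance
  · haveI : Nontrivial A := not_subsingleton_iff_nontrivial.mp hsub
    obtain ⟨s, g, hinj, hfin, hdim⟩ := exists_noether k A
    rw [hdim] at h
    have hsn : s ≤ n := by exact_mod_cast h
    let ι : Fin s → ULift.{u} (Fin n) := fun i => ⟨Fin.castLE hsn i⟩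
    have hι : Function.Injective ι := fun a b hab => by
      have h1 : Fin.castLE hsn a = Fin.castLE hsn b := congrArg ULift.down hab
      exact Fin.castLE_injective hsn h1
    refine ⟨g.comp (killCompl hι), ?_⟩
    have hsurj : Function.Surjective (killCompl (R := k) hι) := fun p =>
      ⟨rename ι p, killCompl_rename_app hι p⟩
    have h1 : (killCompl (R := k) hι).toRingHom.Finite := RingHom.Finite.of_surjective _ hsurj
    exact RingHom.Finite.comp hfin h1

end Ring

section Sch

open AlgebraicGeometry CategoryTheory

variable (k : Type u) [Field k] {W : Scheme.{u}} (h : W ⟶ Spec (CommRingCat.of k))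

/-- the structure ring map `k → Γ(W, ⊤)` of a scheme over `Spec k` -/
noncomputable def structMap : k →+* Γ(W, ⊤) :=
  ((Scheme.ΓSpecIso (CommRingCat.of k)).inv ≫ h.appTop).hom

theorem finiteType_structMap [IsAffine W] [LocallyOfFiniteType h] :
    (structMap k h).FiniteType := by
  have h1 : h.appTop.hom.FiniteType :=
    (HasRingHomProperty.iff_of_isAffine (P := @LocallyOfFiniteType)).mp inferInstance
  have h2 : ((Scheme.ΓSpecIso (CommRingCat.of k)).inv).hom.FiniteType :=
    RingHom.FiniteType.of_surjective _
      ((ConcreteCategory.bijective_of_isIso (Scheme.ΓSpecIso (CommRingCat.of k)).inv).2)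
  exact h1.comp h2

variable [IsAffine W] (σ : Type u) (φ : MvPolynomial σ k →+* Γ(W, ⊤))

/-- the morphism to affine space attached to a ring map from the polynomial ring -/
noncomputable def toAffineSpace : W ⟶ 𝔸(σ; Spec (CommRingCat.of k)) :=
  W.isoSpec.hom ≫ Spec.map (CommRingCat.ofHom φ) ≫ (AffineSpace.SpecIso σ (CommRingCat.of k)).inv

theorem toAffineSpace_over (hφ : φ.comp MvPolynomial.C = structMap k h) :
    toAffineSpace k σ φ ≫ (𝔸(σ; Spec (CommRingCat.of k)) ↘ Spec (CommRingCat.of k)) = h := by
  unfold toAffineSpace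
  rw [Category.assoc, Category.assoc, AffineSpace.SpecIso_inv_over, ← Spec.map_comp,
    ← CommRingCat.ofHom_comp, hφ]
  unfold structMap
  rw [CommRingCat.ofHom_hom, Spec.map_comp, Scheme.isoSpec_hom_naturality_assoc,
    Scheme.isoSpec_Spec_hom, ← Spec.map_comp, Iso.inv_hom_id, Spec.map_id, Category.comp_id]

theorem isFinite_toAffineSpace (hfin : φ.Finite) : IsFinite (toAffineSpace k σ φ) := by
  unfold toAffineSpace
  haveI : IsFinite (Spec.map (CommRingCat.ofHom φ)) := (IsFinite.SpecMap_iff _).mpr hfin
  infer_instance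

theorem surjective_toAffineSpace (hs : Function.Surjective (PrimeSpectrum.comap φ)) :
    Function.Surjective (toAffineSpace k σ φ).base := by
  unfold toAffineSpace
  intro y
  obtain ⟨q, hq⟩ := hs ((AffineSpace.SpecIso σ (CommRingCat.of k)).hom y)
  refine ⟨W.isoSpec.inv q, ?_⟩
  have h1 : (Spec.map (CommRingCat.ofHom φ)) q = (AffineSpace.SpecIso σ (CommRingCat.of k)).hom y := hq
  simp only [Scheme.Hom.comp_base, TopCat.comp_app]
  have h2 : W.isoSpec.hom (W.isoSpec.inv q) = q := by
    rw [← Scheme.Hom.comp_apply, Iso.inv_hom_id]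
    rfl
  rw [h2, h1, ← Scheme.Hom.comp_apply, Iso.hom_inv_id]
  rfl

end Sch

end Groth.Agent.Lib.H8NoetherSch
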