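import Mathlib
import Groth.Agent.Lib.H8NoetherSch

/-!
# Counting algebra homomorphisms to a finite field (helper8)

`card_algHom_le`: for a finite type algebra `B` of dimension `≤ r` over a field `k` there is a
constant `c` such that `#Hom_k(B, k') ≤ c * #k' ^ r` for every finite field extension `k'`.
Proof: Noether normalization `k[x_1..x_s] → B`, finite with `δ` module generators; the fibres of
`Hom_k(B, k') → k'^s` have at most `δ` elements by linear independence of characters.
-/

set_option autoImplicit false
universe u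

namespace Groth.Agent.Lib.H8PointCount

open MvPolynomial

section

variable {P B L : Type*} [CommRing P] [CommRing B] [Algebra P B] [Field L]

/-- ring homomorphisms `B → L` with prescribed restriction to `P`, when `B` is spanned by `δ`
elements over `P`: at most `δ` of them -/
theorem card_fibre_le (χ : P →+* L) (δ : ℕ) (b : Fin δ → B)
    (hb : Submodule.span P (Set.range b) = ⊤)
    (S : Finset (B →+* L)) (hS : ∀ ψ ∈ S, ψ.comp (algebraMap P B) = χ) : S.card ≤ δ := by
  classical
  -- the vectors `(ψ (b j))_j`
  let v : S → (Fin δ → L) := fun ψ j => ψ.1 (b j)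
  have hli : LinearIndependent L v := by
    rw [linearIndependent_iff']
    intro t c hc
    -- pass to functions on `B`
    have hfun : ∀ x : B, ∑ ψ ∈ t, c ψ * ψ.1 x = 0 := by
      intro x
      have hx : x ∈ Submodule.span P (Set.range b) := by rw [hb]; trivial
      induction hx using Submodule.span_induction with
      | mem y hy =>
        obtain ⟨j, rfl⟩ := hy
        have := congrFun hc j
        simpa [v, Finset.sum_apply, Pi.smul_apply, smul_eq_mul] using this
      | zero => simp
      | add y z _ _ hy hz =>
        simp only [map_add, mul_add, Finset.sum_add_distrib, hy, hz, add_zero]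
      | smul p y _ hy =>
        have h1 : ∀ ψ ∈ t, c ψ * ψ.1 (p • y) = χ p * (c ψ * ψ.1 y) := by
          intro ψ _
          have h2 : ψ.1 (algebraMap P B p) = χ p := by
            have := hS ψ.1 ψ.2
            exact congrArg (fun φ : P →+* L => φ p) this
          rw [Algebra.smul_def, map_mul, h2]
          ring
        rw [Finset.sum_congr rfl h1, ← Finset.mul_sum, hy, mul_zero]
    have hmon := linearIndependent_monoidHom B L
    rw [linearIndependent_iff'] at hmon
    let ι : S → (B →* L) := fun ψ => ψ.1.toMonoidHom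
    have hι : Function.Injective ι := by
      intro ψ₁ ψ₂ h
      apply Subtype.ext
      apply RingHom.ext
      intro x
      exact congrArg (fun φ : B →* L => φ x) h
    have h3 := hmon (t.map ⟨ι, hι⟩) (fun φ => if h : ∃ ψ : S, ι ψ = φ then c h.choose else 0) (by
      rw [Finset.sum_map]
      funext x
      simp only [Function.Embedding.coeFn_mk, Finset.sum_apply, Pi.smul_apply, smul_eq_mul,
        Pi.zero_apply]
      rw [← hfun x]
      refine Finset.sum_congr rfl fun ψ _ => ?_
      have hex : ∃ ψ' : S, ι ψ' = ι ψ := ⟨ψ, rfl⟩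
      rw [dif_pos hex]
      have : hex.choose = ψ := hι hex.choose_spec
      rw [this]
      rfl)
    intro ψ hψ
    have h4 := h3 (ι ψ) (Finset.mem_map.mpr ⟨ψ, hψ, rfl⟩)
    have hex : ∃ ψ' : S, ι ψ' = ι ψ := ⟨ψ, rfl⟩
    rw [dif_pos hex] at h4
    have : hex.choose = ψ := hι hex.choose_spec
    rwa [this] at h4
  have := hli.fintype_card_le_finrank
  simpa using this

end

section Count

open Groth.Agent.Lib.H8NoetherSch

theorem finite_algHom (k : Type u) [Field k] (B : Type u) [CommRing B] [Algebra k B]
    [Algebra.FiniteType k B] (k' : Type u) [Field k'] [Algebra k k'] [Finite k'] :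
    Finite (B →ₐ[k] k') := by
  obtain ⟨n, π, hπ⟩ := Algebra.FiniteType.iff_quotient_mvPolynomial''.mp
    (inferInstance : Algebra.FiniteType k B)
  apply Finite.of_injective (fun ψ : B →ₐ[k] k' => fun i : Fin n => ψ (π (X i)))
  intro ψ₁ ψ₂ h
  have h1 : ψ₁.comp π = ψ₂.comp π := by
    apply MvPolynomial.algHom_ext
    intro i
    exact congrFun h i
  apply AlgHom.ext
  intro x
  obtain ⟨y, rfl⟩ := hπ x
  exact congrArg (fun φ : MvPolynomial (Fin n) k →ₐ[k] k' => φ y) h1

theorem card_algHom_le (k : Type u) [Field k] (B : Type u) [CommRing B] [Algebra k B]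
    [Algebra.FiniteType k B] (r : ℕ) (h : ringKrullDim B ≤ (r : WithBot ℕ∞)) :
    ∃ c : ℕ, ∀ (k' : Type u) [Field k'] [Algebra k k'] [Finite k'],
      Nat.card (B →ₐ[k] k') ≤ c * Nat.card k' ^ r := by
  by_cases hsub : Subsingleton B
  · refine ⟨0, fun k' _ _ _ => ?_⟩
    haveI : IsEmpty (B →ₐ[k] k') := ⟨fun ψ => by
      have : (1 : k') = 0 := by rw [← map_one ψ, Subsingleton.elim (1 : B) 0, map_zero]
      exact one_ne_zero this⟩
    simp
  · haveI : Nontrivial B := not_subsingleton_iff_nontrivial.mp hsub
    obtain ⟨s, g, -, hfin, hdim⟩ := exists_noether k B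
    have hsr : s ≤ r := by rw [hdim] at h; exact_mod_cast h
    letI := g.toRingHom.toAlgebra
    haveI : Module.Finite (MvPolynomial (Fin s) k) B := hfin
    obtain ⟨δ, b, hb⟩ := Module.Finite.exists_fin (R := MvPolynomial (Fin s) k) (M := B)
    refine ⟨δ, fun k' _ _ _ => ?_⟩
    classical
    haveI : Finite (B →ₐ[k] k') := finite_algHom k B k'
    letI := Fintype.ofFinite (B →ₐ[k] k')
    letI := Fintype.ofFinite k'
    rw [Nat.card_eq_fintype_card, Nat.card_eq_fintype_card]
    let Φ : (B →ₐ[k] k') → (Fin s → k') := fun ψ i => ψ (g (X i))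
    have h1 := Finset.card_le_mul_card_image (f := Φ) Finset.univ δ (fun a _ => by
      let χ : MvPolynomial (Fin s) k →+* k' :=
        (MvPolynomial.aeval a : MvPolynomial (Fin s) k →ₐ[k] k').toRingHom
      have hinj : Function.Injective (fun ψ : B →ₐ[k] k' => ψ.toRingHom) := by
        intro ψ₁ ψ₂ h
        apply AlgHom.ext
        intro x
        exact congrArg (fun φ : B →+* k' => φ x) h
      have := card_fibre_le χ δ b hb
        ((Finset.univ.filter (fun ψ => Φ ψ = a)).map ⟨fun ψ => ψ.toRingHom, hinj⟩) (by
        intro ψ' hψ'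
        obtain ⟨ψ, hψ, rfl⟩ := Finset.mem_map.mp hψ'
        simp only [Finset.mem_filter, Finset.mem_univ, true_and] at hψ
        apply MvPolynomial.ringHom_ext
        · intro c
          show ψ (g (C c)) = MvPolynomial.aeval a (C c)
          rw [← MvPolynomial.algebraMap_eq, AlgHom.commutes, AlgHom.commutes, AlgHom.commutes]
        · intro i
          show ψ (g (X i)) = MvPolynomial.aeval a (X i)
          rw [MvPolynomial.aeval_X]
          exact congrFun hψ i)
      rwa [Finset.card_map] at this)
    have hpos : 1 ≤ Fintype.card k' := Fintype.card_pos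
    calc Fintype.card (B →ₐ[k] k') = (Finset.univ : Finset (B →ₐ[k] k')).card := rfl
      _ ≤ δ * (Finset.univ.image Φ).card := h1
      _ ≤ δ * Fintype.card (Fin s → k') := Nat.mul_le_mul_left _ (Finset.card_le_univ _)
      _ = δ * Fintype.card k' ^ s := by simp
      _ ≤ δ * Fintype.card k' ^ r := Nat.mul_le_mul_left _ (Nat.pow_le_pow_right hpos hsr)

end Count

end Groth.Agent.Lib.H8PointCount
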