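import Mathlib
import Groth.Agent.Lib.H8PointCount
import Groth.Agent.Lib.H77FibDimAlg
import Groth.Agent.Lib.H80FiniteTypeZ

set_option autoImplicit false
set_option linter.style.haveILetI false
set_option linter.unusedSectionVars false
universe u v w

/-!
# Counting points of finite type `ℤ`-algebras in finite fields (helper15)

Main result `exists_card_ringHom_le`: for a finite type `ℤ`-algebra `A` with `dim A ≤ r` there are
`C` and `N ≠ 0` with `#Hom(A,F) ≤ C * #F ^ r` for every finite field `F`, and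
`#Hom(A,F) * #F ≤ C * #F ^ r` as soon as `N ≠ 0` in `F` (i.e. `#Hom(A,F) ≤ C * #F ^ (r-1)` in
almost all characteristics).

Ingredients:
* `card_ringHom_le`: `B` module-finite over `R[x_1..x_n]`, `Hom(R,F)` subsingleton
  ⇒ `#Hom(B,F) ≤ δ * #F ^ n` (uses helper8's `card_fibre_le`).
* `exists_card_le_of_char`: the bound `#Hom(A,F) ≤ c_p * #F ^ r` for `char F = p`
  (Noether normalization of `A / p` over `ZMod p`).
* `exists_psiK_injective_isIntegral`, `exists_isIntegralElem_smul`: Noether normalization of the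
  generic fibre of a finite type algebra over a domain with variables in `A`, and integrality of
  nonzero multiples of elements of `A` over `R[y]` (after helper77 `H77FibDimAlg`, universe
  polymorphic).
* `succ_le_ringKrullDim`: `dim A ≥ dim (Frac R ⊗ A) + 1` for `R` a Jacobson domain, not a field.
-/

namespace Groth.Agent.Lib.H15ZPointCount

open MvPolynomial TensorProduct Groth.Agent.Lib.H8PointCount Groth.Agent.Lib.H77FibDimAlg
open Groth.Agent.Lib.H77FibreExact

/-- ring homs from a finite type `ℤ`-algebra to a finite ring are finite in number -/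
theorem finite_ringHom (A : Type u) [CommRing A] [Algebra.FiniteType ℤ A]
    (F : Type v) [CommRing F] [Finite F] : Finite (A →+* F) := by
  obtain ⟨n, π, hπ⟩ := Algebra.FiniteType.iff_quotient_mvPolynomial''.mp
    (inferInstance : Algebra.FiniteType ℤ A)
  apply Finite.of_injective (fun ψ : A →+* F => fun i : Fin n => ψ (π (X i)))
  intro ψ₁ ψ₂ h
  have h1 : ψ₁.comp π.toRingHom = ψ₂.comp π.toRingHom := by
    apply MvPolynomial.ringHom_ext
    · intro c
      simp
    · intro i
      exact congrFun h i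
  apply RingHom.ext
  intro x
  obtain ⟨y, rfl⟩ := hπ x
  exact congrArg (fun φ : MvPolynomial (Fin n) ℤ →+* F => φ y) h1

/-- Counting lemma: `B` module-finite over `R[x_1..x_n]`, `F` a finite field admitting at most one
ring hom from `R`: `#Hom(B,F) ≤ δ * #F ^ n` with `δ` independent of `F`. -/
theorem card_ringHom_le (R : Type u) [CommRing R] (n : ℕ) (B : Type v) [CommRing B]
    [Algebra (MvPolynomial (Fin n) R) B] [Module.Finite (MvPolynomial (Fin n) R) B] :
    ∃ δ : ℕ, ∀ (F : Type w) [Field F] [Finite F], Subsingleton (R →+* F) →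
      Finite (B →+* F) ∧ Nat.card (B →+* F) ≤ δ * Nat.card F ^ n := by
  obtain ⟨δ, b, hb⟩ := Module.Finite.exists_fin (R := MvPolynomial (Fin n) R) (M := B)
  refine ⟨δ, fun F _ _ hsub => ?_⟩
  classical
  let Φ : (B →+* F) → (Fin n → F) := fun ψ i => ψ (algebraMap (MvPolynomial (Fin n) R) B (X i))
  -- every finite set of homs in one fibre has at most `δ` elements
  have hfib : ∀ (a : Fin n → F) (T : Finset (B →+* F)), (∀ ψ ∈ T, Φ ψ = a) → T.card ≤ δ := by
    intro a T hT
    by_cases hne : T.Nonempty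
    swap
    · rw [Finset.not_nonempty_iff_eq_empty] at hne
      rw [hne]
      simp
    obtain ⟨ψ₀, hψ₀⟩ := hne
    refine card_fibre_le (ψ₀.comp (algebraMap (MvPolynomial (Fin n) R) B)) δ b hb _ ?_
    intro ψ hψ
    apply MvPolynomial.ringHom_ext
    · intro c
      have := Subsingleton.elim
        ((ψ.comp (algebraMap (MvPolynomial (Fin n) R) B)).comp (C : R →+* MvPolynomial (Fin n) R))
        ((ψ₀.comp (algebraMap (MvPolynomial (Fin n) R) B)).comp C)
      exact congrArg (fun φ : R →+* F => φ c) this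
    · intro i
      exact (congrFun (hT ψ hψ) i).trans (congrFun (hT ψ₀ hψ₀) i).symm
  have hfin : Finite (B →+* F) := by
    rw [← Set.finite_univ_iff]
    apply Set.Finite.of_finite_fibers Φ (Set.toFinite _)
    intro a _
    by_contra hinf
    obtain ⟨T, hTsub, hTcard⟩ := Set.Infinite.exists_subset_card_eq hinf (δ + 1)
    have := hfib a T (fun ψ hψ => (hTsub hψ).2)
    omega
  refine ⟨hfin, ?_⟩
  letI := Fintype.ofFinite (B →+* F)
  letI := Fintype.ofFinite F
  rw [Nat.card_eq_fintype_card, Nat.card_eq_fintype_card]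
  have h1 := Finset.card_le_mul_card_image (f := Φ) Finset.univ δ (fun a _ =>
    hfib a _ (fun ψ hψ => (Finset.mem_filter.mp hψ).2))
  calc Fintype.card (B →+* F) = (Finset.univ : Finset (B →+* F)).card := rfl
    _ ≤ δ * (Finset.univ.image Φ).card := h1
    _ ≤ δ * Fintype.card (Fin n → F) := Nat.mul_le_mul_left _ (Finset.card_le_univ _)
    _ = δ * Fintype.card F ^ n := by simp

theorem finiteType_int_of_surjective {A : Type u} {B : Type v} [CommRing A] [CommRing B]
    [Algebra.FiniteType ℤ A] (π : A →+* B) (hπ : Function.Surjective π) :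
    Algebra.FiniteType ℤ B :=
  Algebra.FiniteType.of_surjective π.toIntAlgHom hπ

/-- Points of a finite type `ℤ`-algebra killed by `p`. -/
theorem exists_card_le_of_charP (B : Type u) [CommRing B] [Algebra.FiniteType ℤ B] (r : ℕ)
    (h : ringKrullDim B ≤ (r : WithBot ℕ∞)) (p : ℕ) [hp : Fact p.Prime] (hpB : (p : B) = 0) :
    ∃ c : ℕ, ∀ (F : Type w) [Field F] [Finite F],
      Nat.card (B →+* F) ≤ c * Nat.card F ^ r := by
  by_cases hsub : Subsingleton B
  · refine ⟨0, fun F _ _ => ?_⟩
    haveI : IsEmpty (B →+* F) := ⟨fun ψ => by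
      have : (1 : F) = 0 := by rw [← map_one ψ, Subsingleton.elim (1 : B) 0, map_zero]
      exact one_ne_zero this⟩
    simp
  · haveI : Nontrivial B := not_subsingleton_iff_nontrivial.mp hsub
    have hdvd : ringChar B ∣ p := ringChar.dvd hpB
    letI : Algebra (ZMod p) B := (ZMod.castHom hdvd B).toAlgebra
    haveI : Algebra.FiniteType (ZMod p) B :=
      Algebra.FiniteType.of_restrictScalars_finiteType ℤ (ZMod p) B
    obtain ⟨s, g, hginj, hgfin⟩ := exists_finite_inj_algHom_of_fg (ZMod p) B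
    letI : Algebra (MvPolynomial (Fin s) (ZMod p)) B := g.toRingHom.toAlgebra
    haveI : Module.Finite (MvPolynomial (Fin s) (ZMod p)) B := hgfin
    have hdimB : ringKrullDim B = s := by
      rw [← ringKrullDim_eq_of_isIntegral_of_injective (R := MvPolynomial (Fin s) (ZMod p))
        (S := B) hginj, ringKrullDim_mvPolynomial_field]
    have hsr : s ≤ r := by
      rw [hdimB] at h
      exact_mod_cast h
    obtain ⟨δ, hδ⟩ := card_ringHom_le.{0, u, w} (ZMod p) s B
    refine ⟨δ, fun F _ _ => ?_⟩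
    refine (hδ F inferInstance).2.trans ?_
    have hpos : 1 ≤ Nat.card F := Nat.one_le_iff_ne_zero.mpr Nat.card_pos.ne'
    exact Nat.mul_le_mul_left _ (Nat.pow_le_pow_right hpos hsr)

/-- Points in characteristic `p`. -/
theorem exists_card_le_of_char (A : Type u) [CommRing A] [Algebra.FiniteType ℤ A] (r : ℕ)
    (h : ringKrullDim A ≤ (r : WithBot ℕ∞)) (p : ℕ) [hp : Fact p.Prime] :
    ∃ c : ℕ, ∀ (F : Type w) [Field F] [Finite F], (p : F) = 0 →
      Nat.card (A →+* F) ≤ c * Nat.card F ^ r := by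
  let I : Ideal A := Ideal.span {(p : A)}
  have hpB : (p : A ⧸ I) = 0 := by
    have : (p : A ⧸ I) = Ideal.Quotient.mk I (p : A) := by simp
    rw [this, Ideal.Quotient.eq_zero_iff_mem]
    exact Ideal.subset_span rfl
  have hft : @Algebra.FiniteType ℤ (A ⧸ I) _ _ (Ring.toIntAlgebra _) :=
    finiteType_int_of_surjective (Ideal.Quotient.mk I) Ideal.Quotient.mk_surjective
  obtain ⟨c, hc⟩ := @exists_card_le_of_charP.{u, w} (A ⧸ I) _ hft r
    ((ringKrullDim_quotient_le I).trans h) p _ hpB
  refine ⟨c, fun F _ _ hpF => le_trans ?_ (hc F)⟩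
  haveI := @finite_ringHom (A ⧸ I) _ hft F _ _
  have hker : ∀ φ : A →+* F, ∀ a ∈ I, φ a = 0 := by
    intro φ a ha
    have : I ≤ RingHom.ker φ := by
      rw [Ideal.span_le, Set.singleton_subset_iff]
      show φ (p : A) = 0
      rw [map_natCast, hpF]
    exact this ha
  apply Nat.card_le_card_of_injective (fun φ : A →+* F => Ideal.Quotient.lift I φ (hker φ))
  intro φ₁ φ₂ h12
  apply RingHom.ext
  intro a
  have := congrArg (fun ψ : A ⧸ I →+* F => ψ (Ideal.Quotient.mk I a)) h12
  exact this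

section NN

variable {R : Type u} {A : Type v} [CommRing R] [IsDomain R] [CommRing A] [Algebra R A]

/-- the generic polynomial map attached to elements `y i` of `A` -/
noncomputable def psiK {n : ℕ} (y : Fin n → A) :
    MvPolynomial (Fin n) (FractionRing R) →ₐ[FractionRing R] (FractionRing R) ⊗[R] A :=
  MvPolynomial.aeval (fun i => (1 : FractionRing R) ⊗ₜ[R] y i)

lemma psiK_map {n : ℕ} (y : Fin n → A) (p : MvPolynomial (Fin n) R) :
    psiK (R := R) y (MvPolynomial.map (algebraMap R (FractionRing R)) p) =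
      (1 : FractionRing R) ⊗ₜ[R] (MvPolynomial.aeval y p) := by
  induction p using MvPolynomial.induction_on with
  | C r =>
    simp only [psiK, MvPolynomial.map_C, MvPolynomial.aeval_C, Algebra.TensorProduct.algebraMap_apply,
      Algebra.algebraMap_self, RingHom.id_apply]
    rw [algebraMap_tmul, Algebra.algebraMap_eq_smul_one]
  | add p q hp hq => rw [map_add, map_add, map_add, hp, hq, TensorProduct.tmul_add]
  | mul_X p i hp =>
    rw [map_mul, map_mul, map_mul, hp, MvPolynomial.map_X, MvPolynomial.aeval_X]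
    simp [psiK]

/-- Noether normalization of the generic fibre with variables coming from `A`. -/
theorem exists_psiK_injective_isIntegral [Algebra.FiniteType R A]
    [Nontrivial ((FractionRing R) ⊗[R] A)] :
    ∃ (n : ℕ) (y : Fin n → A), Function.Injective (psiK (R := R) y) ∧
      (psiK (R := R) y).toRingHom.IsIntegral := by
  classical
  let K := FractionRing R
  obtain ⟨n, g₀, hg₀inj, hg₀int⟩ := exists_integral_inj_algHom_of_fg K (K ⊗[R] A)
  have hex : ∀ i : Fin n, ∃ s : R, s ≠ 0 ∧ ∃ x : A,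
      s • g₀ (MvPolynomial.X i) = (1 : K) ⊗ₜ[R] x :=
    fun i => exists_smul_eq_one_tmul_fractionRing (g₀ (MvPolynomial.X i))
  choose s hs y hy using hex
  have hsK : ∀ i, algebraMap R K (s i) ≠ 0 := fun i h =>
    hs i ((IsFractionRing.injective R K) (h.trans (map_zero _).symm))
  let σ : MvPolynomial (Fin n) K →ₐ[K] MvPolynomial (Fin n) K :=
    MvPolynomial.aeval (fun i => MvPolynomial.C (algebraMap R K (s i)) * MvPolynomial.X i)
  let τ : MvPolynomial (Fin n) K →ₐ[K] MvPolynomial (Fin n) K :=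
    MvPolynomial.aeval (fun i => MvPolynomial.C (algebraMap R K (s i))⁻¹ * MvPolynomial.X i)
  have hτσ : τ.comp σ = AlgHom.id K _ := by
    apply MvPolynomial.algHom_ext
    intro i
    simp only [σ, τ, AlgHom.comp_apply, MvPolynomial.aeval_X, map_mul, MvPolynomial.aeval_C,
      MvPolynomial.algebraMap_eq, AlgHom.id_apply]
    rw [← mul_assoc, ← map_mul, mul_inv_cancel₀ (hsK i), map_one, one_mul]
  have hστ : σ.comp τ = AlgHom.id K _ := by
    apply MvPolynomial.algHom_ext
    intro i
    simp only [σ, τ, AlgHom.comp_apply, MvPolynomial.aeval_X, map_mul, MvPolynomial.aeval_C,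
      MvPolynomial.algebraMap_eq, AlgHom.id_apply]
    rw [← mul_assoc, ← map_mul, inv_mul_cancel₀ (hsK i), map_one, one_mul]
  have hσinj : Function.Injective σ := fun a b hab => by
    have := congrArg τ hab
    rwa [← AlgHom.comp_apply, ← AlgHom.comp_apply, hτσ] at this
  have hσsurj : Function.Surjective σ := fun b => ⟨τ b, by
    rw [← AlgHom.comp_apply, hστ]; rfl⟩
  have hpsi : psiK (R := R) y = g₀.comp σ := by
    apply MvPolynomial.algHom_ext
    intro i
    simp only [psiK, σ, MvPolynomial.aeval_X, AlgHom.comp_apply, map_mul]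
    rw [← hy i, ← MvPolynomial.algebraMap_eq, AlgHom.commutes, ← Algebra.smul_def,
      algebraMap_smul]
  refine ⟨n, y, ?_, ?_⟩
  · rw [hpsi]
    exact hg₀inj.comp hσinj
  · rw [hpsi]
    exact RingHom.IsIntegral.trans σ.toRingHom g₀.toRingHom
      (RingHom.isIntegral_of_surjective _ hσsurj) hg₀int

attribute [local instance] MvPolynomial.algebraMvPolynomial in
/-- a nonzero multiple of any element is integral over the polynomial subring -/
lemma exists_isIntegralElem_smul {n : ℕ} (y : Fin n → A)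
    (hint : (psiK (R := R) y).toRingHom.IsIntegral) (a : A) :
    ∃ m : R, m ≠ 0 ∧
      (MvPolynomial.aeval y : MvPolynomial (Fin n) R →ₐ[R] A).toRingHom.IsIntegralElem (m • a) := by
  let P := MvPolynomial (Fin n) R
  let K := FractionRing R
  let PK := MvPolynomial (Fin n) K
  let φ : P →ₐ[R] A := MvPolynomial.aeval y
  let ψK := psiK (R := R) y
  let S := K ⊗[R] A
  let incl : A →ₐ[R] S := Algebra.TensorProduct.includeRight
  letI : Algebra PK S := ψK.toRingHom.toAlgebra
  letI : Algebra P S := (incl.toRingHom.comp φ.toRingHom).toAlgebra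
  haveI : IsScalarTower P PK S := IsScalarTower.of_algebraMap_eq (fun p => by
    change incl (φ p) = ψK (MvPolynomial.map (algebraMap R K) p)
    rw [psiK_map]
    rfl)
  have hx : IsIntegral PK ((1 : K) ⊗ₜ[R] a : S) := hint _
  obtain ⟨⟨m, hm⟩, hmint⟩ := IsIntegral.exists_multiple_integral_of_isLocalization
    ((nonZeroDivisors R).map (MvPolynomial.C (σ := Fin n))) (Rₘ := PK) ((1 : K) ⊗ₜ[R] a : S) hx
  obtain ⟨s, hs, rfl⟩ := hm
  have hs0 : s ≠ 0 := nonZeroDivisors.ne_zero hs
  obtain ⟨Q, hQmonic, hQ⟩ := hmint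
  have hsmul : (⟨MvPolynomial.C s, ⟨s, hs, rfl⟩⟩ :
      (nonZeroDivisors R).map (MvPolynomial.C (σ := Fin n))) •
      ((1 : K) ⊗ₜ[R] a : S) = incl (s • a) := by
    rw [Submonoid.smul_def, Algebra.smul_def]
    change incl (φ (MvPolynomial.C s)) * _ = _
    rw [MvPolynomial.aeval_C]
    change ((1 : K) ⊗ₜ[R] (algebraMap R A s)) * ((1 : K) ⊗ₜ[R] a) = (1 : K) ⊗ₜ[R] (s • a)
    rw [Algebra.TensorProduct.tmul_mul_tmul, mul_one, Algebra.smul_def]
  rw [hsmul] at hQ
  change Polynomial.eval₂ (incl.toRingHom.comp φ.toRingHom) (incl.toRingHom (s • a)) Q = 0 at hQ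
  rw [← Polynomial.hom_eval₂] at hQ
  obtain ⟨t, ht, hte⟩ := exists_smul_eq_zero_of_one_tmul_eq_zero
    (Polynomial.eval₂ φ.toRingHom (s • a) Q) hQ
  refine ⟨t * s, mul_ne_zero ht hs0, ?_⟩
  haveI : Nontrivial P := inferInstance
  refine ⟨Polynomial.scaleRoots (Q * Polynomial.X) (MvPolynomial.C t),
    (Polynomial.monic_scaleRoots_iff _).mpr (hQmonic.mul Polynomial.monic_X), ?_⟩
  have h1 : (t * s) • a = φ.toRingHom (MvPolynomial.C t) * (s • a) := by
    change _ = φ (MvPolynomial.C t) * _
    rw [MvPolynomial.aeval_C, ← Algebra.smul_def, mul_smul]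
  rw [h1, Polynomial.scaleRoots_eval₂_mul]
  have h2 : (Q * Polynomial.X).natDegree = Q.natDegree + 1 := by
    rw [hQmonic.natDegree_mul Polynomial.monic_X, Polynomial.natDegree_X]
  rw [h2, pow_succ, mul_assoc, Polynomial.eval₂_mul, Polynomial.eval₂_X, ← mul_assoc
    (φ.toRingHom (MvPolynomial.C t))]
  have h3 : φ.toRingHom (MvPolynomial.C t) * Polynomial.eval₂ φ.toRingHom (s • a) Q = 0 := by
    change φ (MvPolynomial.C t) * _ = 0
    rw [MvPolynomial.aeval_C, ← Algebra.smul_def]
    exact hte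
  rw [h3, zero_mul, mul_zero]

local notation "K" => FractionRing R
local notation "T" => FractionRing R ⊗[R] A

/-- the dimension of a finite type algebra over a Jacobson domain which is not a field exceeds
that of its generic fibre -/
theorem succ_le_ringKrullDim [IsJacobsonRing R] (hR : ¬ IsField R) [Algebra.FiniteType R A] {n : ℕ}
    (y : Fin n → A) (hinj : Function.Injective (psiK (R := R) y))
    (hint : (psiK (R := R) y).toRingHom.IsIntegral) :
    ((n + 1 : ℕ) : WithBot ℕ∞) ≤ ringKrullDim A := by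
  let incl : A →+* T := (Algebra.TensorProduct.includeRight : A →ₐ[R] T).toRingHom
  -- dimension of the generic fibre
  have hdimT : ringKrullDim T = n := by
    letI : Algebra (MvPolynomial (Fin n) K) T := (psiK (R := R) y).toRingHom.toAlgebra
    haveI : Algebra.IsIntegral (MvPolynomial (Fin n) K) T := ⟨hint⟩
    rw [← ringKrullDim_eq_of_isIntegral_of_injective (R := MvPolynomial (Fin n) K) (S := T) hinj,
      ringKrullDim_mvPolynomial_field]
  obtain ⟨l, hl⟩ := Order.le_krullDim_iff.mp (le_of_eq hdimT.symm)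
  -- nonzero scalars are units of `T`
  have hunit : ∀ s : R, s ≠ 0 → IsUnit (algebraMap R T s) := by
    intro s hs
    rw [IsScalarTower.algebraMap_apply R K T]
    apply IsUnit.map
    exact (isUnit_iff_ne_zero.mpr (fun h => hs ((IsFractionRing.injective R K)
      (h.trans (map_zero _).symm))))
  -- contraction is strictly monotone
  let f : PrimeSpectrum T → PrimeSpectrum A := fun Q => ⟨Q.asIdeal.comap incl, inferInstance⟩
  have hmem : ∀ (Q : PrimeSpectrum T) (z : T) (s : R) (x : A), s ≠ 0 →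
      s • z = (1 : K) ⊗ₜ[R] x → (z ∈ Q.asIdeal ↔ x ∈ (f Q).asIdeal) := by
    intro Q z s x hs hzx
    have h1 : algebraMap R T s * z = incl x := by
      rw [← Algebra.smul_def, hzx]
      rfl
    show z ∈ Q.asIdeal ↔ incl x ∈ Q.asIdeal
    rw [← h1]
    constructor
    · intro hz
      exact Ideal.mul_mem_left _ _ hz
    · intro hz
      rcases Q.isPrime.mem_or_mem hz with h | h
      · exact absurd (Ideal.eq_top_of_isUnit_mem _ h (hunit s hs)) Q.isPrime.ne_top
      · exact h
  have hf : StrictMono f := by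
    intro Q₁ Q₂ h12
    have hle : Q₁.asIdeal ≤ Q₂.asIdeal := le_of_lt h12
    refine lt_of_le_of_ne (Ideal.comap_mono hle) ?_
    intro heq
    apply ne_of_lt h12
    apply PrimeSpectrum.ext
    apply le_antisymm hle
    intro z hz
    obtain ⟨s, hs, x, hx⟩ := exists_smul_eq_one_tmul_fractionRing z
    rw [hmem Q₁ z s x hs hx, heq, ← hmem Q₂ z s x hs hx]
    exact hz
  let l' : LTSeries (PrimeSpectrum A) := l.map f hf
  let q : Ideal A := (f l.last).asIdeal
  -- `R → A ⧸ q` is injective
  have hqinj : ∀ k : R, algebraMap R A k ∈ q → k = 0 := by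
    intro k hk
    by_contra hk0
    have h1 : algebraMap R T k ∈ l.last.asIdeal := by
      have : incl (algebraMap R A k) ∈ l.last.asIdeal := hk
      rwa [show incl (algebraMap R A k) = algebraMap R T k from by simp [incl]] at this
    exact absurd (Ideal.eq_top_of_isUnit_mem _ h1 (hunit k hk0)) l.last.isPrime.ne_top
  have hqmax : ¬ q.IsMaximal := by
    intro hmax
    letI := Ideal.Quotient.field q
    haveI : Module.Finite R (A ⧸ q) := finite_of_finite_type_of_isJacobsonRing R (A ⧸ q)
    haveI : Algebra.IsIntegral R (A ⧸ q) := inferInstance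
    refine hR (isField_of_isIntegral_of_isField (S := A ⧸ q) ?_ (Field.toIsField _))
    intro k₁ k₂ h12
    have h3 : algebraMap R A (k₁ - k₂) ∈ q := by
      rw [← Ideal.Quotient.eq_zero_iff_mem, map_sub, map_sub, sub_eq_zero]
      exact h12
    exact sub_eq_zero.mp (hqinj _ h3)
  obtain ⟨M, hM, hqM⟩ := Ideal.exists_le_maximal q (f l.last).isPrime.ne_top
  have hlt : l'.last < ⟨M, hM.isPrime⟩ := by
    refine lt_of_le_of_ne hqM ?_
    intro heq
    apply hqmax
    have : q = M := congrArg PrimeSpectrum.asIdeal heq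
    rw [this]
    exact hM
  have h4 := Order.LTSeries.length_le_krullDim (l'.snoc ⟨M, hM.isPrime⟩ hlt)
  have h5 : (l'.snoc ⟨M, hM.isPrime⟩ hlt).length = n + 1 := by
    simp [l', hl]
  rw [h5] at h4
  exact h4

/-- the generic fibre `Frac(R) ⊗[R] A` -/
abbrev GenFibre (R : Type u) (A : Type v) [CommRing R] [CommRing A] [Algebra R A] :=
  FractionRing R ⊗[R] A

lemma exists_algebraMap_eq_zero_of_subsingleton [Subsingleton (GenFibre R A)] :
    ∃ N : R, N ≠ 0 ∧ algebraMap R A N = 0 := by
  have h0 : (1 : FractionRing R) ⊗ₜ[R] (1 : A) = 0 := Subsingleton.elim _ _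
  obtain ⟨N, hN, hN1⟩ := exists_smul_eq_zero_of_one_tmul_eq_zero (1 : A) h0
  exact ⟨N, hN, by rw [Algebra.algebraMap_eq_smul_one, hN1]⟩

end NN

/-- generic count: if multiples `m a • a` of generators are integral over `ℤ[y]` -/
theorem exists_card_le_generic (A : Type u) [CommRing A] {n : ℕ} (y : Fin n → A) (S : Finset A)
    (hS : Algebra.adjoin ℤ (S : Set A) = ⊤) (m : A → ℤ)
    (hm : ∀ a ∈ S, (MvPolynomial.aeval y : MvPolynomial (Fin n) ℤ →ₐ[ℤ] A).toRingHom.IsIntegralElem
      (m a • a)) :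
    ∃ δ : ℕ, ∀ (F : Type w) [Field F] [Finite F], (∀ a ∈ S, (m a : F) ≠ 0) →
      Nat.card (A →+* F) ≤ δ * Nat.card F ^ n := by
  classical
  let P := MvPolynomial (Fin n) ℤ
  let φ : P →ₐ[ℤ] A := MvPolynomial.aeval y
  letI : Algebra P A := φ.toRingHom.toAlgebra
  let B : Subalgebra P A := Algebra.adjoin P ((fun a => m a • a) '' (S : Set A))
  have hfg : (Subalgebra.toSubmodule B).FG :=
    fg_adjoin_of_finite (S.finite_toSet.image _) (fun x hx => by
      obtain ⟨a, ha, rfl⟩ := hx
      exact hm a ha)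
  haveI : Module.Finite P B := Module.Finite.iff_fg.mpr hfg
  obtain ⟨δ, hδ⟩ := card_ringHom_le.{0, u, w} ℤ n B
  refine ⟨δ, fun F _ _ hmF => ?_⟩
  obtain ⟨hfin, hcard⟩ := hδ F inferInstance
  refine le_trans ?_ hcard
  apply Nat.card_le_card_of_injective (fun ψ : A →+* F => ψ.comp (B.val : B →ₐ[P] A).toRingHom)
  intro ψ₁ ψ₂ h12
  have hgen : ∀ a ∈ (S : Set A), ψ₁.toIntAlgHom a = ψ₂.toIntAlgHom a := by
    intro a ha
    have hb : m a • a ∈ B := Algebra.subset_adjoin ⟨a, ha, rfl⟩
    have h1 := congrArg (fun ψ : B →+* F => ψ ⟨m a • a, hb⟩) h12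
    have h2 : ψ₁ (m a • a) = ψ₂ (m a • a) := h1
    rw [zsmul_eq_mul, map_mul, map_mul, map_intCast, map_intCast] at h2
    exact mul_left_cancel₀ (hmF a ha) h2
  have := AlgHom.ext_of_adjoin_eq_top hS hgen
  apply RingHom.ext
  intro a
  exact congrArg (fun ψ : A →ₐ[ℤ] F => ψ a) this


lemma natAbs_cast_eq_zero_iff {F : Type w} [Ring F] (N : ℤ) :
    ((N.natAbs : ℕ) : F) = 0 ↔ (N : F) = 0 := by
  obtain ⟨k, rfl | rfl⟩ := Int.eq_nat_or_neg N
  · simp
  · simp

/-- **Generic part**: away from finitely many characteristics, a finite type `ℤ`-algebra of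
dimension `≤ r` has at most `C * #F ^ (r - 1)` points in a finite field `F`. -/
theorem exists_card_mul_le_generic (A : Type u) [CommRing A] [Algebra.FiniteType ℤ A] (r : ℕ)
    (h : ringKrullDim A ≤ (r : WithBot ℕ∞)) :
    ∃ (C N : ℕ), N ≠ 0 ∧ ∀ (F : Type w) [Field F] [Finite F], (N : F) ≠ 0 →
      Nat.card (A →+* F) * Nat.card F ≤ C * Nat.card F ^ r := by
  classical
  rcases subsingleton_or_nontrivial (GenFibre ℤ A) with hsub | hnt
  · obtain ⟨N, hN, hN1⟩ := exists_algebraMap_eq_zero_of_subsingleton (R := ℤ) (A := A)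
    refine ⟨0, N.natAbs, Int.natAbs_ne_zero.mpr hN, fun F _ _ hNF => ?_⟩
    haveI : IsEmpty (A →+* F) := ⟨fun φ => by
      apply hNF
      rw [natAbs_cast_eq_zero_iff]
      have := congrArg φ hN1
      rwa [algebraMap_int_eq, eq_intCast, map_intCast, map_zero] at this⟩
    simp
  · obtain ⟨n, y, hinj, hint⟩ := exists_psiK_injective_isIntegral (R := ℤ) (A := A)
    haveI := Groth.Agent.Lib.H80FiniteTypeZ.int_isJacobsonRing
    have hdim := succ_le_ringKrullDim (R := ℤ) Int.not_isField y hinj hint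
    have hnr : n + 1 ≤ r := by exact_mod_cast hdim.trans h
    obtain ⟨S, hS⟩ := (inferInstance : Algebra.FiniteType ℤ A).out
    have hex := fun a : A => exists_isIntegralElem_smul (R := ℤ) y hint a
    choose m hm0 hm using hex
    obtain ⟨δ, hδ⟩ := exists_card_le_generic.{u, w} A y S hS m (fun a _ => hm a)
    refine ⟨δ, ∏ a ∈ S, (m a).natAbs, Finset.prod_ne_zero_iff.mpr
      (fun a _ => Int.natAbs_ne_zero.mpr (hm0 a)), fun F _ _ hNF => ?_⟩
    have hmF : ∀ a ∈ S, ((m a : ℤ) : F) ≠ 0 := by
      intro a ha h0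
      apply hNF
      rw [Nat.cast_prod]
      exact Finset.prod_eq_zero ha ((natAbs_cast_eq_zero_iff (m a)).mpr h0)
    have h1 := hδ F hmF
    have hpos : 1 ≤ Nat.card F := Nat.one_le_iff_ne_zero.mpr Nat.card_pos.ne'
    calc Nat.card (A →+* F) * Nat.card F ≤ (δ * Nat.card F ^ n) * Nat.card F :=
          Nat.mul_le_mul_right _ h1
      _ = δ * Nat.card F ^ (n + 1) := by rw [pow_succ, mul_assoc]
      _ ≤ δ * Nat.card F ^ r := Nat.mul_le_mul_left _ (Nat.pow_le_pow_right hpos hnr)

/-- **Point count for finite type `ℤ`-algebras**: if `dim A ≤ r` there are `C` and `N ≠ 0` with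
`#Hom(A,F) ≤ C * #F ^ r` for all finite fields `F`, and `#Hom(A,F) * #F ≤ C * #F ^ r` as soon as
`N` is invertible in `F`. -/
theorem exists_card_ringHom_le (A : Type u) [CommRing A] [Algebra.FiniteType ℤ A] (r : ℕ)
    (h : ringKrullDim A ≤ (r : WithBot ℕ∞)) :
    ∃ (C N : ℕ), N ≠ 0 ∧ ∀ (F : Type w) [Field F] [Finite F],
      Nat.card (A →+* F) ≤ C * Nat.card F ^ r ∧
      ((N : F) ≠ 0 → Nat.card (A →+* F) * Nat.card F ≤ C * Nat.card F ^ r) := by
  classical
  obtain ⟨C₁, N, hN, hgen⟩ := exists_card_mul_le_generic.{u, w} A r h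
  have hex : ∀ p : ℕ, ∃ c : ℕ, p.Prime → ∀ (F : Type w) [Field F] [Finite F], (p : F) = 0 →
      Nat.card (A →+* F) ≤ c * Nat.card F ^ r := by
    intro p
    by_cases hp : p.Prime
    · haveI : Fact p.Prime := ⟨hp⟩
      obtain ⟨c, hc⟩ := exists_card_le_of_char.{u, w} A r h p
      exact ⟨c, fun _ => hc⟩
    · exact ⟨0, fun hp' => absurd hp' hp⟩
  choose c hc using hex
  refine ⟨C₁ + ∑ p ∈ Finset.range (N + 1), c p, N, hN, fun F _ _ => ?_⟩
  have hpos : 1 ≤ Nat.card F := Nat.one_le_iff_ne_zero.mpr Nat.card_pos.ne'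
  have hb : (N : F) ≠ 0 → Nat.card (A →+* F) * Nat.card F ≤
      (C₁ + ∑ p ∈ Finset.range (N + 1), c p) * Nat.card F ^ r := fun hNF =>
    (hgen F hNF).trans (Nat.mul_le_mul_right _ (Nat.le_add_right _ _))
  refine ⟨?_, hb⟩
  by_cases hNF : (N : F) = 0
  · obtain ⟨p, hpchar⟩ := CharP.exists F
    have hpprime : p.Prime := by
      rcases CharP.char_is_prime_or_zero F p with hp | hp
      · exact hp
      · exfalso
        subst hp
        haveI : CharZero F := CharP.charP_to_charZero F
        exact hN (Nat.cast_injective (R := F) (by simpa using hNF))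
    have hdvd : p ∣ N := (CharP.cast_eq_zero_iff F p N).mp hNF
    have hple : p ≤ N := Nat.le_of_dvd (Nat.pos_of_ne_zero hN) hdvd
    have h1 := hc p hpprime F (CharP.cast_eq_zero F p)
    refine h1.trans (Nat.mul_le_mul_right _ ?_)
    refine le_trans ?_ (Nat.le_add_left _ _)
    exact Finset.single_le_sum (f := c) (fun _ _ => Nat.zero_le _)
      (Finset.mem_range.mpr (Nat.lt_succ_of_le hple))
  · refine le_trans ?_ (hb hNF)
    exact Nat.le_mul_of_pos_right _ hpos

end Groth.Agent.Lib.H15ZPointCount
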