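import Groth.Agent.Lib.QuasiDesc
import Groth.Agent.S2103

/-!
# `H_1`-regular families satisfy the formal properties for faithfully flat descent (helper32)

Namespace `Groth.Agent.Lib.H1Desc`.

* `triv f` : the submodule of trivial relations; `smul_mem_triv`, `ideal_smul_mem_triv`,
  `alt_mem_triv`.
* `isH1Regular_of_eq_top`, `isH1Regular_of_span_eq` (same length, same ideal),
  `isH1Regular_of_faithfullyFlat`, `isH1Regular_of_locally`.
* `h1Prop : SeqDesc.SeqProp`.
-/

set_option autoImplicit false
universe u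

namespace Groth.Agent.Lib.H1Desc

open Groth.Agent.Lib.SeqDesc

section basic

variable {S : Type u} [CommRing S] {n : ℕ}

/-- the submodule of trivial relations -/
def triv (f : Fin n → S) : Submodule S (Fin n → S) :=
  Submodule.span S {v | ∃ i j : Fin n, v = Pi.single i (f j) - Pi.single j (f i)}

theorem isH1Regular_iff (f : Fin n → S) :
    CAlgX.IsH1Regular f ↔ ∀ a : Fin n → S, ∑ i, a i * f i = 0 → a ∈ triv f := Iff.rfl

theorem gen_mem_triv (f : Fin n → S) (i j : Fin n) :
    (Pi.single i (f j) - Pi.single j (f i) : Fin n → S) ∈ triv f :=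
  Submodule.subset_span ⟨i, j, rfl⟩

/-- multiples of a relation by the generators are trivial relations -/
theorem smul_mem_triv (f : Fin n → S) (a : Fin n → S) (ha : ∑ i, a i * f i = 0) (i : Fin n) :
    f i • a ∈ triv f := by
  classical
  have h : f i • a = ∑ k, a k • (Pi.single k (f i) - Pi.single i (f k) : Fin n → S) := by
    funext j
    simp only [Pi.smul_apply, smul_eq_mul, Finset.sum_apply, Pi.sub_apply, Pi.single_apply,
      mul_sub, mul_ite, mul_zero, Finset.sum_sub_distrib, Finset.sum_ite_eq, Finset.mem_univ,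
      if_true]
    by_cases hji : j = i
    · subst hji
      simp only [if_true, ha, sub_zero]
      exact mul_comm _ _
    · simp only [if_neg hji, Finset.sum_const_zero, sub_zero]
      exact mul_comm _ _
  rw [h]
  exact Submodule.sum_mem _ (fun k _ => Submodule.smul_mem _ _ (gen_mem_triv f k i))

/-- multiples of a relation by elements of the ideal are trivial relations -/
theorem ideal_smul_mem_triv (f : Fin n → S) (a : Fin n → S) (ha : ∑ i, a i * f i = 0) (x : S)
    (hx : x ∈ Ideal.span (Set.range f)) : x • a ∈ triv f := by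
  obtain ⟨c, rfl⟩ := (Ideal.mem_span_range_iff_exists_fun).mp hx
  rw [Finset.sum_smul]
  refine Submodule.sum_mem _ (fun i _ => ?_)
  rw [mul_smul]
  exact Submodule.smul_mem _ _ (smul_mem_triv f a ha i)

/-- alternating combinations are trivial relations -/
theorem alt_mem_triv (f : Fin n → S) (B : Fin n → Fin n → S) :
    (fun i => ∑ j, (B i j - B j i) * f j) ∈ triv f := by
  classical
  have h : (fun i => ∑ j, (B i j - B j i) * f j) =
      ∑ i, ∑ j, B i j • (Pi.single i (f j) - Pi.single j (f i) : Fin n → S) := by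
    funext k
    simp only [Finset.sum_apply, Pi.smul_apply, smul_eq_mul, Pi.sub_apply, Pi.single_apply,
      mul_sub, mul_ite, mul_zero, Finset.sum_sub_distrib, sub_mul]
    congr 1
    · symm
      rw [Finset.sum_eq_single k]
      · simp
      · intro i _ hik
        simp [Ne.symm hik]
      · intro h
        exact absurd (Finset.mem_univ k) h
    · refine Finset.sum_congr rfl fun i _ => ?_
      symm
      rw [Finset.sum_eq_single k]
      · simp
      · intro j _ hjk
        simp [Ne.symm hjk]
      · intro h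
        exact absurd (Finset.mem_univ k) h
  rw [h]
  exact Submodule.sum_mem _ (fun i _ => Submodule.sum_mem _
    (fun j _ => Submodule.smul_mem _ _ (gen_mem_triv f i j)))

theorem isH1Regular_of_eq_top (f : Fin n → S) (h : Ideal.span (Set.range f) = ⊤) :
    CAlgX.IsH1Regular f := by
  intro a ha
  have := ideal_smul_mem_triv f a ha 1 (h ▸ Submodule.mem_top)
  rwa [one_smul] at this

open Matrix in
/-- the entries of a matrix fixing an `H_1`-regular family are congruent to the identity modulo
the ideal -/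
theorem det_sub_one_mem (f : Fin n → S) (hf : CAlgX.IsH1Regular f)
    (E : Matrix (Fin n) (Fin n) S) (hE : E *ᵥ f = f) :
    E.det - 1 ∈ Ideal.span (Set.range f) := by
  classical
  set J := Ideal.span (Set.range f) with hJ
  have hq : CAlgX.IsQuasiRegular f := Groth.Agent.S2103.result f hf
  have hent : ∀ i k, E i k - (1 : Matrix (Fin n) (Fin n) S) i k ∈ J := by
    intro i k
    refine Groth.Agent.Lib.QuasiDesc.coeff_mem_of_sum_mem f hq
      (fun k => E i k - (1 : Matrix (Fin n) (Fin n) S) i k) ?_ k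
    have hz : ∑ k, (E i k - (1 : Matrix (Fin n) (Fin n) S) i k) * f k = 0 := by
      have h1 : ∑ k, E i k * f k = f i := congrFun hE i
      have h2 : ∑ k, (1 : Matrix (Fin n) (Fin n) S) i k * f k = f i := by
        have := congrFun (Matrix.one_mulVec f) i
        exact this
      simp only [sub_mul, Finset.sum_sub_distrib, h1, h2, sub_self]
    rw [hz]
    exact Ideal.zero_mem _
  have hmap : (Ideal.Quotient.mk J).mapMatrix E = 1 := by
    ext i k
    rw [RingHom.mapMatrix_apply, Matrix.map_apply]
    have h1 := Ideal.Quotient.eq.mpr (hent i k)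
    rw [h1]
    by_cases hik : i = k
    · subst hik
      simp
    · simp [Matrix.one_apply_ne hik]
  rw [← Ideal.Quotient.eq, RingHom.map_det, hmap, Matrix.det_one, map_one]

open Matrix in
/-- same length generators of the ideal of an `H_1`-regular family are `H_1`-regular -/
theorem isH1Regular_of_span_eq (f f' : Fin n → S) (hf : CAlgX.IsH1Regular f)
    (h : Ideal.span (Set.range f') = Ideal.span (Set.range f)) : CAlgX.IsH1Regular f' := by
  classical
  have hM : ∀ i, ∃ c : Fin n → S, ∑ j, c j * f j = f' i := fun i =>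
    Ideal.mem_span_range_iff_exists_fun.mp
      (show f' i ∈ Ideal.span (Set.range f) from h ▸ Ideal.subset_span ⟨i, rfl⟩)
  have hN : ∀ i, ∃ c : Fin n → S, ∑ j, c j * f' j = f i := fun i =>
    Ideal.mem_span_range_iff_exists_fun.mp
      (show f i ∈ Ideal.span (Set.range f') from h.symm ▸ Ideal.subset_span ⟨i, rfl⟩)
  choose M hM using hM
  choose N hN using hN
  let Mm : Matrix (Fin n) (Fin n) S := Matrix.of M
  let Nm : Matrix (Fin n) (Fin n) S := Matrix.of N
  have hf' : Mm *ᵥ f = f' := funext fun i => hM i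
  have hfN : Nm *ᵥ f' = f := funext fun i => hN i
  intro b hb
  -- step 1: transported relation
  let c : Fin n → S := b ᵥ* Mm
  have hc : ∑ j, c j * f j = 0 := by
    have h1 : c ⬝ᵥ f = b ⬝ᵥ f' := by
      rw [← hf', Matrix.dotProduct_mulVec]
    have h2 : b ⬝ᵥ f' = 0 := hb
    rw [← h2, ← h1]
    rfl
  obtain ⟨B, hB⟩ := Groth.Agent.S2103.exists_alt f hf c hc
  let Bm : Matrix (Fin n) (Fin n) S := Matrix.of B
  have hcA : c = (Bm - Bmᵀ) *ᵥ f := by
    funext j
    rw [hB j]
    rfl
  -- step 2: adjugate trick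
  set δ := Mm.det with hδ
  let M' := Mm.adjugate
  have e1 : δ • b = c ᵥ* M' := by
    show δ • b = (b ᵥ* Mm) ᵥ* M'
    rw [Matrix.vecMul_vecMul, Matrix.mul_adjugate, Matrix.vecMul_smul, Matrix.vecMul_one]
  have e2 : δ • f = M' *ᵥ f' := by
    rw [← hf', Matrix.mulVec_mulVec, Matrix.adjugate_mul, Matrix.smul_mulVec, Matrix.one_mulVec]
  let B' : Matrix (Fin n) (Fin n) S := M'ᵀ * Bm * M'
  have e3 : (δ * δ) • b = (B' - B'ᵀ) *ᵥ f' := by
    have hB' : B' - B'ᵀ = M'ᵀ * (Bm - Bmᵀ) * M' := by
      show M'ᵀ * Bm * M' - (M'ᵀ * Bm * M')ᵀ = _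
      rw [Matrix.transpose_mul, Matrix.transpose_mul, Matrix.transpose_transpose, Matrix.mul_sub,
        Matrix.sub_mul, Matrix.mul_assoc M'ᵀ Bmᵀ M']
    have h1 : δ • c = (Bm - Bmᵀ) *ᵥ (M' *ᵥ f') := by
      rw [hcA, ← Matrix.mulVec_smul, e2]
    calc (δ * δ) • b = δ • (δ • b) := mul_smul _ _ _
      _ = δ • (M'ᵀ *ᵥ c) := by rw [e1, Matrix.mulVec_transpose]
      _ = M'ᵀ *ᵥ (δ • c) := (Matrix.mulVec_smul _ _ _).symm
      _ = M'ᵀ *ᵥ ((Bm - Bmᵀ) *ᵥ (M' *ᵥ f')) := by rw [h1]
      _ = (B' - B'ᵀ) *ᵥ f' := by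
        rw [hB', Matrix.mulVec_mulVec, Matrix.mulVec_mulVec, Matrix.mul_assoc]
  have h3 : (δ * δ) • b ∈ triv f' := by
    rw [e3]
    have : (B' - B'ᵀ) *ᵥ f' = fun i => ∑ j, (B' i j - B' j i) * f' j := by
      funext i
      rfl
    rw [this]
    exact alt_mem_triv f' B'
  set ε := (Nm * Mm).det with hε
  have hε1 : ε - 1 ∈ Ideal.span (Set.range f') := by
    rw [h]
    apply det_sub_one_mem f hf
    rw [← Matrix.mulVec_mulVec, hf', hfN]
  have hεδ : ε = Nm.det * δ := Matrix.det_mul _ _
  have h4 : (ε * ε) • b ∈ triv f' := by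
    have : (ε * ε) • b = (Nm.det * Nm.det) • ((δ * δ) • b) := by
      rw [smul_smul, hεδ]
      congr 1
      ring
    rw [this]
    exact Submodule.smul_mem _ _ h3
  have h5 : (ε * ε - 1) • b ∈ triv f' := by
    apply ideal_smul_mem_triv f' b hb
    have : ε * ε - 1 = (ε - 1) * (ε + 1) := by ring
    rw [this]
    exact Ideal.mul_mem_right _ _ hε1
  have h6 : b = (ε * ε) • b - (ε * ε - 1) • b := by
    rw [sub_smul, one_smul]
    abel
  rw [h6]
  exact Submodule.sub_mem _ h4 h5

end basic

section tensor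

open TensorProduct

variable {S T : Type u} [CommRing S] [CommRing T] [Algebra S T] {n : ℕ}

theorem sum_map_eq_zero (f a : Fin n → S) (ha : ∑ i, a i * f i = 0) :
    ∑ i, (algebraMap S T ∘ a) i * (algebraMap S T ∘ f) i = 0 := by
  simp only [Function.comp_apply, ← map_mul, ← map_sum, ha, map_zero]

/-- if the image of `f` in `T` is `H_1`-regular then every relation on `f` becomes zero in
`T ⊗ (S^n / triv f)` -/
theorem one_tmul_mkQ_eq_zero (f : Fin n → S) (hT : CAlgX.IsH1Regular (algebraMap S T ∘ f))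
    (a : Fin n → S) (ha : ∑ i, a i * f i = 0) :
    (1 : T) ⊗ₜ[S] ((triv f).mkQ a) = 0 := by
  classical
  let e : T ⊗[S] (Fin n → S) ≃ₗ[T] (Fin n → T) := TensorProduct.piScalarRight S T T (Fin n)
  have he : ∀ v : Fin n → S, e ((1 : T) ⊗ₜ[S] v) = algebraMap S T ∘ v := by
    intro v
    funext j
    show (TensorProduct.piScalarRight S T T (Fin n)) ((1 : T) ⊗ₜ[S] v) j = _
    rw [TensorProduct.piScalarRight_apply, TensorProduct.piScalarRightHom_tmul]
    simp [Algebra.algebraMap_eq_smul_one]
  let R : Submodule T (T ⊗[S] (Fin n → S)) :=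
    LinearMap.range (LinearMap.baseChange T (triv f).subtype)
  have hle : triv (algebraMap S T ∘ f) ≤ R.map e.toLinearMap := by
    rw [triv, Submodule.span_le]
    rintro _ ⟨i, j, rfl⟩
    refine ⟨(1 : T) ⊗ₜ[S] (Pi.single i (f j) - Pi.single j (f i) : Fin n → S),
      ⟨(1 : T) ⊗ₜ[S] ⟨_, gen_mem_triv f i j⟩, ?_⟩, ?_⟩
    · rw [LinearMap.baseChange_tmul]
      rfl
    · show e _ = _
      rw [he]
      funext k
      simp only [Function.comp_apply, Pi.sub_apply, Pi.single_apply, map_sub]
      congr 1 <;> split_ifs <;> simp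
  have hmem : algebraMap S T ∘ a ∈ triv (algebraMap S T ∘ f) :=
    hT _ (sum_map_eq_zero f a ha)
  obtain ⟨y, hyR, hy⟩ := hle hmem
  have hy' : y = (1 : T) ⊗ₜ[S] a := by
    apply e.injective
    rw [he]
    exact hy
  obtain ⟨z, hz⟩ := hyR
  have hcomp : ∀ z : T ⊗[S] (triv f),
      LinearMap.baseChange T (triv f).mkQ (LinearMap.baseChange T (triv f).subtype z) = 0 := by
    intro z
    induction z using TensorProduct.induction_on with
    | zero => simp
    | tmul t x =>
      rw [LinearMap.baseChange_tmul, LinearMap.baseChange_tmul]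
      have : (triv f).mkQ ((triv f).subtype x) = 0 := by
        rw [Submodule.mkQ_apply, Submodule.Quotient.mk_eq_zero]
        exact x.2
      rw [this, tmul_zero]
    | add x y hx hy => rw [map_add, map_add, hx, hy, add_zero]
  have := hcomp z
  rw [hz, hy', LinearMap.baseChange_tmul] at this
  exact this

/-- faithfully flat descent of `H_1`-regularity of a family -/
theorem isH1Regular_of_faithfullyFlat [Module.FaithfullyFlat S T] (f : Fin n → S)
    (hT : CAlgX.IsH1Regular (algebraMap S T ∘ f)) : CAlgX.IsH1Regular f := by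
  intro a ha
  have h1 := one_tmul_mkQ_eq_zero f hT a ha
  rw [Module.FaithfullyFlat.one_tmul_eq_zero_iff] at h1
  rwa [Submodule.mkQ_apply, Submodule.Quotient.mk_eq_zero] at h1

end tensor

section zariski

variable {S : Type u} [CommRing S] {n : ℕ}

/-- Zariski local-to-global for `H_1`-regularity of a family -/
theorem isH1Regular_of_locally (f : Fin n → S)
    (H : ∀ 𝔮 : PrimeSpectrum S, ∃ g : S, g ∉ 𝔮.asIdeal ∧
      CAlgX.IsH1Regular (algebraMap S (Localization.Away g) ∘ f)) :
    CAlgX.IsH1Regular f := by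
  intro a ha
  by_contra hc
  let K : Ideal S := Submodule.colon (triv f) {a}
  have hK : K ≠ ⊤ := by
    intro h
    apply hc
    have h1 : (1 : S) ∈ K := h ▸ Submodule.mem_top
    rw [Submodule.mem_colon_singleton, one_smul] at h1
    exact h1
  obtain ⟨𝔪, hmax, hle⟩ := Ideal.exists_le_maximal K hK
  obtain ⟨g, hg, hq⟩ := H ⟨𝔪, hmax.isPrime⟩
  have h1 := one_tmul_mkQ_eq_zero f hq a ha
  have hloc : IsLocalizedModule (Submonoid.powers g)
      (TensorProduct.mk S (Localization.Away g) ((Fin n → S) ⧸ triv f) 1) :=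
    (isLocalizedModule_iff_isBaseChange (Submonoid.powers g) (Localization.Away g) _).mpr
      (TensorProduct.isBaseChange S _ (Localization.Away g))
  have h2 : TensorProduct.mk S (Localization.Away g) ((Fin n → S) ⧸ triv f) 1
      ((triv f).mkQ a) = 0 := h1
  rw [IsLocalizedModule.eq_zero_iff (Submonoid.powers g)] at h2
  obtain ⟨⟨_, k, rfl⟩, hk⟩ := h2
  apply hg
  refine hmax.isPrime.mem_of_pow_mem k (hle ?_)
  rw [Submodule.mem_colon_singleton]
  have h3 : (triv f).mkQ (g ^ k • a) = 0 := by
    rw [map_smul]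
    exact hk
  rwa [Submodule.mkQ_apply, Submodule.Quotient.mk_eq_zero] at h3

end zariski

/-- `H_1`-regular families form a `SeqProp` -/
def h1Prop : SeqProp.{u} where
  P := fun _ _ _ f => CAlgX.IsH1Regular f
  map_flat := fun f hf => Groth.Agent.Lib.RegImmFlatBC.isH1Regular_map_of_flat f hf
  length_le := fun f f' hf hne h =>
    Groth.Agent.Lib.QuasiDesc.length_le f f' (Groth.Agent.S2103.result f hf) hne h
  of_span_eq := fun f f' hf h => isH1Regular_of_span_eq f f' hf h
  of_faithfullyFlat := fun f hf => isH1Regular_of_faithfullyFlat f hf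
  of_locally := fun f H => isH1Regular_of_locally f H
  of_eq_top := fun f h => isH1Regular_of_eq_top f h

end Groth.Agent.Lib.H1Desc
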