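import Groth.Agent.Lib.H1Fin53a
import Groth.Agent.Lib.FinDimRel53a

/-!
# Finiteness of `H^1_I`: coprimary modules (helper53)
-/

set_option maxHeartbeats 400000
set_option linter.unusedSectionVars false
universe u

namespace Groth.Agent.Lib.H1Fin53
open Groth.Agent.Lib.LocCohLES Groth.Agent.Lib.FinDimRel53

section coprimary
variable {A : Type u} [CommRing A] [IsNoetherianRing A]
  {T : Type u} [AddCommGroup T] [Module A T] [Module.Finite A T] {p : Ideal A}

theorem le_radical_annihilator_of_ass (h : associatedPrimes A T ⊆ {p}) :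
    p ≤ (Module.annihilator A T).radical := by
  rw [← Ideal.sInf_minimalPrimes]
  refine le_sInf fun q hq => ?_
  have := h (Module.associatedPrimes.minimalPrimes_annihilator_subset_associatedPrimes A T hq)
  rw [Set.mem_singleton_iff] at this
  rw [this]

theorem isSMulRegular_of_ass (h : associatedPrimes A T ⊆ {p}) {s : A} (hs : s ∉ p) :
    IsSMulRegular T s := by
  rw [isSMulRegular_iff_right_eq_zero_of_smul]
  intro x hx
  by_contra hx0
  have hmem : s ∈ ⋃ q ∈ associatedPrimes A T, (q : Set A) := by
    rw [biUnion_associatedPrimes_eq_zero_divisors]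
    exact ⟨x, hx0, hx⟩
  obtain ⟨q, hq, hsq⟩ := Set.mem_iUnion₂.1 hmem
  have := h hq
  rw [Set.mem_singleton_iff] at this
  rw [this] at hsq
  exact hs hsq

theorem isPowerTorsion_of_ass (I : Ideal A) (h : associatedPrimes A T ⊆ {p}) (hI : I ≤ p) :
    LocCoh.IsPowerTorsion I T := by
  obtain ⟨k, hk⟩ := Ideal.exists_pow_le_of_le_radical_of_fg
    (hI.trans (le_radical_annihilator_of_ass h)) (IsNoetherian.noetherian I)
  intro m
  exact ⟨k, fun a ha => Module.mem_annihilator.1 (hk ha) m⟩

end coprimary

end Groth.Agent.Lib.H1Fin53
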