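import Groth.Agent.Lib.H1Fin53b

/-!
# Finiteness of `H^1_I`: coprimary modules, the saturation argument (helper53)
-/

set_option maxHeartbeats 400000
set_option linter.unusedSectionVars false
universe u

namespace Groth.Agent.Lib.H1Fin53
open Groth.Agent.Lib.LocCohLES Groth.Agent.Lib.FinDimRel53

section sat
variable {A : Type u} [CommRing A] [IsNoetherianRing A] (I : Ideal A)
  {Q : Type u} [AddCommGroup Q] [Module A Q] [Module.Finite A Q] (p : Ideal A) [p.IsPrime]

/-- the `p`-saturation of `A x` in `Q`. -/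
noncomputable def sat (x : Q) : Submodule A Q :=
  (K p (Q ⧸ Submodule.span A {x})).comap (Submodule.span A {x}).mkQ

theorem mem_sat_iff (x t : Q) :
    t ∈ sat p x ↔ ∃ s : A, s ∉ p ∧ s • t ∈ Submodule.span A {x} := by
  unfold sat
  rw [Submodule.mem_comap, mem_K_iff]
  constructor
  · rintro ⟨s, hs⟩
    refine ⟨s.1, s.2, ?_⟩
    rw [← Submodule.Quotient.mk_eq_zero, Submodule.Quotient.mk_smul]
    exact hs
  · rintro ⟨s, hs, h⟩
    refine ⟨⟨s, hs⟩, ?_⟩
    rw [← Submodule.Quotient.mk_eq_zero, Submodule.Quotient.mk_smul] at h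
    exact h

theorem self_mem_sat (x : Q) : x ∈ sat p x :=
  (mem_sat_iff p x x).2 ⟨1, fun h => (inferInstance : p.IsPrime).ne_top
    ((Ideal.eq_top_iff_one p).2 h), by rw [one_smul]; exact Submodule.mem_span_singleton_self x⟩

/-- `A/p ≃ A x` when `p = ann x`. -/
noncomputable def spanEquiv (x : Q) (hx : p = (⊥ : Submodule A Q).colon {x}) :
    (A ⧸ p) ≃ₗ[A] Submodule.span A {x} := by
  let ψ : A →ₗ[A] Submodule.span A {x} :=
    LinearMap.codRestrict _ (LinearMap.toSpanSingleton A Q x) (fun a => by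
      rw [LinearMap.toSpanSingleton_apply]
      exact Submodule.smul_mem _ _ (Submodule.mem_span_singleton_self x))
  have hψ : Function.Surjective ψ := by
    rintro ⟨y, hy⟩
    obtain ⟨a, rfl⟩ := Submodule.mem_span_singleton.1 hy
    exact ⟨a, Subtype.ext (by simp [ψ])⟩
  have hker : p = LinearMap.ker ψ := by
    ext a
    rw [hx, Submodule.mem_colon_singleton, Submodule.mem_bot, LinearMap.mem_ker]
    constructor
    · intro h
      exact Subtype.ext (by simpa [ψ] using h)
    · intro h
      have := congrArg Subtype.val h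
      simpa [ψ] using this
  exact (Submodule.quotEquivOfEq p (LinearMap.ker ψ) hker).trans (ψ.quotKerEquivOfSurjective hψ)

theorem F_sat (h : associatedPrimes A Q ⊆ {p}) (x : Q)
    (hx : p = (⊥ : Submodule A Q).colon {x}) (hF : F I (A ⧸ p)) : F I (sat p x) := by
  haveI : IsNoetherian A Q := isNoetherian_of_isNoetherianRing_of_finite A Q
  obtain ⟨u, hu, hmul⟩ := Groth.Agent.Lib.H29LocCohAnn.exists_mem_forall_smul_mem p.primeCompl
    (sat p x) (Submodule.span A {x}) (IsNoetherian.noetherian _) (fun n hn => by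
      obtain ⟨s, hs, h⟩ := (mem_sat_iff p x n).1 hn
      exact ⟨s, hs, h⟩)
  let φ : sat p x →ₗ[A] Submodule.span A {x} :=
    LinearMap.codRestrict _ ((LinearMap.lsmul A Q u).comp (sat p x).subtype)
      (fun t => hmul t.1 t.2)
  have hφ : Function.Injective φ := by
    intro t₁ t₂ h12
    have h1 : u • (t₁ : Q) = u • (t₂ : Q) := congrArg Subtype.val h12
    exact Subtype.ext (isSMulRegular_of_ass h hu h1)
  exact F_of_injective I φ hφ (F_of_equiv I (spanEquiv p x hx) hF)

end sat

end Groth.Agent.Lib.H1Fin53
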