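import Groth.Agent.Lib.H1Fin53c

/-!
# Finiteness of `H^1_I`: reduction to `A/p` for associated primes (helper53)
-/

set_option maxHeartbeats 400000
set_option linter.unusedSectionVars false
universe u

namespace Groth.Agent.Lib.H1Fin53
open Groth.Agent.Lib.LocCohLES Groth.Agent.Lib.FinDimRel53

section coprimary
variable {A : Type u} [CommRing A] [IsNoetherianRing A] (I : Ideal A)
  (p : Ideal A) [p.IsPrime]

theorem F_of_subsingleton (N : Type u) [AddCommGroup N] [Module A N] [Subsingleton N] : F I N :=
  F_of_torsion I (fun m => ⟨0, fun a _ => Subsingleton.elim _ _⟩)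

/-- a `p`-coprimary finite module has `H^1_I` finite as soon as `A/p` does. -/
theorem F_of_coprimary (T : Type u) [AddCommGroup T] [Module A T] [Module.Finite A T]
    (h : associatedPrimes A T ⊆ {p}) (hF : F I (A ⧸ p)) : F I T := by
  haveI : IsNoetherian A T := isNoetherian_of_isNoetherianRing_of_finite A T
  let 𝒮 : Set (Submodule A T) := {L | F I L ∧ associatedPrimes A (T ⧸ L) ⊆ {p}}
  have hne : 𝒮.Nonempty := by
    refine ⟨⊥, F_of_subsingleton I _, ?_⟩
    rw [LinearEquiv.AssociatedPrimes.eq (Submodule.quotEquivOfEqBot (⊥ : Submodule A T) rfl)]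
    exact h
  obtain ⟨L, ⟨hL1, hL2⟩, hmax⟩ := WellFounded.has_min
    (wellFounded_gt : WellFounded ((· > ·) : Submodule A T → Submodule A T → Prop)) 𝒮 hne
  by_cases hLtop : L = ⊤
  · subst hLtop
    exact F_of_equiv I Submodule.topEquiv hL1
  exfalso
  haveI : Nontrivial (T ⧸ L) :=
    Submodule.Quotient.nontrivial_iff.2 hLtop
  obtain ⟨q, hq⟩ := associatedPrimes.nonempty A (T ⧸ L)
  have hqp : q = p := hL2 hq
  rw [hqp] at hq
  obtain ⟨-, x, hx⟩ := isAssociatedPrime_iff.1 hq
  have hLL' : L ≤ (sat p x).comap L.mkQ := by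
    intro y hy
    rw [Submodule.mem_comap, Submodule.mkQ_apply, (Submodule.Quotient.mk_eq_zero L).2 hy]
    exact Submodule.zero_mem _
  have hx0 : x ≠ 0 := by
    rintro rfl
    apply (inferInstance : p.IsPrime).ne_top
    rw [hx, Ideal.eq_top_iff_one, Submodule.mem_colon_singleton, smul_zero]
    exact Submodule.zero_mem _
  have hlt : L < (sat p x).comap L.mkQ := by
    refine lt_of_le_of_ne hLL' fun heq => hx0 ?_
    obtain ⟨y, rfl⟩ := Submodule.Quotient.mk_surjective _ x
    have hy : y ∈ (sat p (Submodule.Quotient.mk y : T ⧸ L)).comap L.mkQ := by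
      rw [Submodule.mem_comap]
      exact self_mem_sat p _
    rw [← heq] at hy
    exact (Submodule.Quotient.mk_eq_zero L).2 hy
  refine hmax _ ⟨?_, ?_⟩ hlt
  · -- `F(L')`
    have hFQ' : F I (sat p x) := F_sat I p hL2 x hx hF
    let f : L →ₗ[A] (sat p x).comap L.mkQ := Submodule.inclusion hLL'
    let g : (sat p x).comap L.mkQ →ₗ[A] sat p x := L.mkQ.restrict (fun y hy => hy)
    have hf : Function.Injective f := Submodule.inclusion_injective hLL'
    have hg : Function.Surjective g := by
      rintro ⟨t, ht⟩
      obtain ⟨y, rfl⟩ := Submodule.Quotient.mk_surjective _ t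
      exact ⟨⟨y, ht⟩, rfl⟩
    have hfg : Function.Exact f g := by
      intro y
      constructor
      · intro hy
        have h0 : L.mkQ y.1 = 0 := congrArg Subtype.val hy
        rw [Submodule.mkQ_apply, Submodule.Quotient.mk_eq_zero] at h0
        exact ⟨⟨y.1, h0⟩, Subtype.ext rfl⟩
      · rintro ⟨z, rfl⟩
        refine Subtype.ext ?_
        change L.mkQ z.1 = 0
        rw [Submodule.mkQ_apply, Submodule.Quotient.mk_eq_zero]
        exact z.2
    exact F_of_exact I f g hf hfg hg hL1 hFQ'
  · -- `Ass(T/L') ⊆ {p}`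
    intro q' hq'
    rw [Set.mem_singleton_iff]
    obtain ⟨hq'prime, y', hy'⟩ := isAssociatedPrime_iff.1 hq'
    obtain ⟨y, rfl⟩ := Submodule.Quotient.mk_surjective _ y'
    refine le_antisymm ?_ ?_
    · intro a ha
      by_contra hap
      rw [hy', Submodule.mem_colon_singleton, Submodule.mem_bot, ← Submodule.Quotient.mk_smul,
        Submodule.Quotient.mk_eq_zero, Submodule.mem_comap, mem_sat_iff] at ha
      obtain ⟨s, hs, hsa⟩ := ha
      have hy : y ∈ (sat p x).comap L.mkQ := by
        rw [Submodule.mem_comap, mem_sat_iff]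
        refine ⟨s * a, fun hmem => ?_, ?_⟩
        · rcases (inferInstance : p.IsPrime).mem_or_mem hmem with h1 | h1
          · exact hs h1
          · exact hap h1
        · rw [mul_smul]
          rw [map_smul] at hsa
          exact hsa
      apply hq'prime.ne_top
      rw [hy', Ideal.eq_top_iff_one, Submodule.mem_colon_singleton, one_smul, Submodule.mem_bot,
        Submodule.Quotient.mk_eq_zero]
      exact hy
    · have h1 : p ≤ (Module.annihilator A (T ⧸ L)).radical := le_radical_annihilator_of_ass hL2
      have h2 : Module.annihilator A (T ⧸ L) ≤ Module.annihilator A (T ⧸ (sat p x).comap L.mkQ) := by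
        intro a ha
        rw [Module.mem_annihilator] at ha ⊢
        intro z
        obtain ⟨w, rfl⟩ := Submodule.Quotient.mk_surjective _ z
        rw [← Submodule.Quotient.mk_smul, Submodule.Quotient.mk_eq_zero]
        apply hLL'
        rw [← Submodule.Quotient.mk_eq_zero, Submodule.Quotient.mk_smul]
        exact ha _
      have h3 : Module.annihilator A (T ⧸ (sat p x).comap L.mkQ) ≤ q' := by
        rw [← Submodule.annihilator_top]
        exact IsAssociatedPrime.annihilator_le hq'
      exact h1.trans (hq'prime.radical_le_iff.2 (h2.trans h3))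

end coprimary

end Groth.Agent.Lib.H1Fin53
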