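import Mathlib
import Groth.Agent.Lib.FlatNbhdCartier50
import Groth.Agent.Lib.RelRegImmBC
import Groth.Agent.S2103
import Groth.Agent.S8893

/-!
# Flatness near a relative `H_1`-regular closed subscheme (helper50)

`flat_atPrime_of_h1_of_flat_quot`: `A → B` finitely presented, `f : Fin c → B` an `H_1`-regular
family with `B/(f)` flat over `A`; then `B_q` is flat over `A` for every prime `q ⊇ (f)`.
(Stacks 063U-type, by Noetherian descent of `H_1`-regularity.)
-/

set_option autoImplicit false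
set_option maxHeartbeats 400000
set_option linter.style.haveILetI false
universe u
open TensorProduct

namespace Groth.Agent.Lib.H1FlatNbhd50

open Groth.Agent.Lib.RelRegImmBC Groth.Agent.Lib.FlatCrit

section Triv

theorem triv_map {R R' : Type u} [CommRing R] [CommRing R'] (φ : R →+* R') {c : ℕ}
    (g : Fin c → R) (v : Fin c → R) (hv : v ∈ triv g) : (fun i => φ (v i)) ∈ triv (fun i => φ (g i)) := by
  unfold triv at hv ⊢
  induction hv using Submodule.span_induction with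
  | mem v hv =>
    obtain ⟨i, j, rfl⟩ := hv
    refine Submodule.subset_span ⟨i, j, ?_⟩
    funext l
    simp only [Pi.sub_apply, map_sub, Pi.single_apply]
    split_ifs <;> simp
  | zero =>
    have : (fun i => φ ((0 : Fin c → R) i)) = 0 := by funext i; simp
    rw [this]; exact Submodule.zero_mem _
  | add x y _ _ hx hy =>
    have : (fun i => φ ((x + y) i)) = (fun i => φ (x i)) + (fun i => φ (y i)) := by
      funext i; simp
    rw [this]; exact Submodule.add_mem _ hx hy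
  | smul b x _ hx =>
    have : (fun i => φ ((b • x) i)) = φ b • (fun i => φ (x i)) := by
      funext i; simp
    rw [this]; exact Submodule.smul_mem _ _ hx

theorem isH1Regular_iff_triv {R : Type u} [CommRing R] {c : ℕ} (f : Fin c → R) :
    CAlgX.IsH1Regular f ↔ ∀ a : Fin c → R, ∑ i, a i * f i = 0 → a ∈ triv f := Iff.rfl

theorem isH1Regular_ringEquiv {R R' : Type u} [CommRing R] [CommRing R'] (e : R ≃+* R') {c : ℕ}
    (f : Fin c → R) (h : CAlgX.IsH1Regular f) : CAlgX.IsH1Regular (fun i => e (f i)) := by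
  rw [isH1Regular_iff_triv] at h ⊢
  intro a ha
  have h1 : ∑ i, e.symm (a i) * f i = 0 := by
    apply e.injective
    rw [map_sum, map_zero, ← ha]
    refine Finset.sum_congr rfl fun i _ => ?_
    rw [map_mul, e.apply_symm_apply]
  have h2 := triv_map (e : R →+* R') f _ (h _ h1)
  have h3 : (fun i => (e : R →+* R') (e.symm (a i))) = a := by
    funext i; simp
  rw [h3] at h2
  exact h2

end Triv

section LemmaG

variable {A B A' : Type u} [CommRing A] [CommRing B] [CommRing A'] [Algebra A B] [Algebra A A']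

/-- relations in `A' ⊗ B` come from relations in `B` when `B/(f)` is flat: generalisation of
`isH1Regular_tensor`. -/
theorem isH1Regular_tensor_of_rel {c : ℕ} (f : Fin c → B)
    (hflat : Module.Flat A (B ⧸ Ideal.span (Set.range f)))
    (hrel : ∀ t : Fin c → B, ∑ i, t i * f i = 0 →
      (fun i => ((1 : A') ⊗ₜ[A] t i : A' ⊗[A] B)) ∈
        triv (fun i => ((1 : A') ⊗ₜ[A] f i : A' ⊗[A] B))) :
    CAlgX.IsH1Regular (fun i => ((1 : A') ⊗ₜ[A] f i : A' ⊗[A] B)) := by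
  classical
  set J : Ideal B := Ideal.span (Set.range f) with hJ
  let ψ : (Fin c → B) →ₗ[A] B := (Fintype.linearCombination B f).restrictScalars A
  have hψ : ∀ v, ψ v = ∑ i, v i * f i := fun v => by
    simp [ψ, Fintype.linearCombination_apply]
  have hψmem : ∀ v, ψ v ∈ J.restrictScalars A := fun v => by
    rw [hψ]
    exact Ideal.sum_mem _ fun i _ => Ideal.mul_mem_left _ _ (Ideal.subset_span ⟨i, rfl⟩)
  let ψJ : (Fin c → B) →ₗ[A] (J.restrictScalars A) := ψ.codRestrict (J.restrictScalars A) hψmem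
  let ι : (J.restrictScalars A) →ₗ[A] B := (J.restrictScalars A).subtype
  let Z : Submodule A (Fin c → B) := LinearMap.ker ψ
  let Tsub : Z →ₗ[A] (Fin c → B) := Z.subtype
  have hex : Function.Exact Tsub ψJ := by
    intro v
    constructor
    · intro hv
      have h0 : ψ v = 0 := congrArg Subtype.val hv
      exact ⟨⟨v, h0⟩, rfl⟩
    · rintro ⟨⟨t, ht⟩, rfl⟩
      apply Subtype.ext
      exact ht
  have hsurj : Function.Surjective ψJ := by
    rintro ⟨x, hx⟩
    obtain ⟨v, hv⟩ := (Ideal.mem_span_range_iff_exists_fun).mp hx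
    exact ⟨v, Subtype.ext ((hψ v).trans hv)⟩
  have hexT := lTensor_exact A' hex hsurj
  have hinj : Function.Injective (ι.lTensor A') := by
    rw [LinearMap.lTensor_inj_iff_rTensor_inj]
    have hex2 : Function.Exact ι (Ideal.Quotient.mkₐ A J).toLinearMap := by
      intro b
      constructor
      · intro hb
        exact ⟨⟨b, Ideal.Quotient.eq_zero_iff_mem.mp hb⟩, rfl⟩
      · rintro ⟨⟨x, hx⟩, rfl⟩
        exact Ideal.Quotient.eq_zero_iff_mem.mpr hx
    exact rTensor_injective_of_tor1Zero (Submodule.injective_subtype _) hex2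
      (Ideal.Quotient.mkₐ_surjective A J) tor1Zero_of_flat_left
  have hkey : ∀ x : A' ⊗[A] (Fin c → B), (ι ∘ₗ ψJ).lTensor A' x =
      ∑ i, TensorProduct.piRight A A A' (fun _ : Fin c => B) x i * ((1 : A') ⊗ₜ[A] f i) := by
    intro x
    induction x using TensorProduct.induction_on with
    | zero => simp
    | tmul a v =>
      rw [LinearMap.lTensor_tmul]
      have : (ι ∘ₗ ψJ) v = ∑ i, v i * f i := hψ v
      rw [this, tmul_sum]
      refine Finset.sum_congr rfl fun i _ => ?_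
      simp [Algebra.TensorProduct.tmul_mul_tmul]
    | add x y hx hy =>
      simp only [map_add, hx, hy, Pi.add_apply, add_mul, Finset.sum_add_distrib]
  intro a' ha'
  set x : A' ⊗[A] (Fin c → B) := (TensorProduct.piRight A A A' (fun _ : Fin c => B)).symm a' with hx
  have hxa : TensorProduct.piRight A A A' (fun _ : Fin c => B) x = a' := by
    rw [hx, LinearEquiv.apply_symm_apply]
  have h1 : (ι ∘ₗ ψJ).lTensor A' x = 0 := by
    rw [hkey, hxa]
    exact ha'
  have h2 : ψJ.lTensor A' x = 0 := by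
    apply hinj
    rw [map_zero, ← LinearMap.comp_apply, ← LinearMap.lTensor_comp]
    exact h1
  obtain ⟨y, hy⟩ := (hexT x).mp h2
  rw [← hxa, ← hy]
  show _ ∈ triv _
  clear hy
  induction y using TensorProduct.induction_on with
  | zero => simp
  | tmul a t =>
    rw [LinearMap.lTensor_tmul]
    have ht : ∑ i, (t : Fin c → B) i * f i = 0 := by
      rw [← hψ]; exact t.2
    have h3 := hrel _ ht
    have h4 : TensorProduct.piRight A A A' (fun _ : Fin c => B) (a ⊗ₜ[A] Tsub t) =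
        ((a ⊗ₜ[A] (1 : B) : A' ⊗[A] B)) • (fun i => ((1 : A') ⊗ₜ[A] (t : Fin c → B) i : A' ⊗[A] B)) := by
      funext l
      simp [Tsub, Algebra.TensorProduct.tmul_mul_tmul]
    rw [h4]
    exact Submodule.smul_mem _ _ h3
  | add y z hy hz =>
    rw [map_add, map_add]
    exact Submodule.add_mem _ hy hz

end LemmaG

section Core

theorem nonempty_localizedModule_quot_equiv {A B B' : Type u} [CommRing A] [CommRing B]
    [CommRing B'] [Algebra A B] [Algebra B B'] [Algebra A B'] [IsScalarTower A B B']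
    (W : Submonoid B) [IsLocalization W B'] (I : Ideal B) :
    Nonempty (LocalizedModule W (B ⧸ I) ≃ₗ[A] (B' ⧸ I.map (algebraMap B B'))) := by
  let f : B →ₗ[B] B' := Algebra.linearMap B B'
  haveI : IsLocalizedModule W f := (isLocalizedModule_iff_isLocalization).mpr inferInstance
  let g := Submodule.toLocalizedQuotient' B' W f I
  have heq : (I : Submodule B B).localized' B' W f = I.map (algebraMap B B') :=
    Ideal.localized'_eq_map B' W I
  let e1 : LocalizedModule W (B ⧸ I) ≃ₗ[B] _ := IsLocalizedModule.iso W g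
  let e2 := Submodule.quotEquivOfEq _ _ heq
  exact ⟨(e1.restrictScalars A).trans (e2.restrictScalars A)⟩

/-- **Noetherian core**: `B` Noetherian, `f` an `H_1`-regular family with `B/(f)` flat over `A`;
then `B_q` is flat over `A` for every prime `q ⊇ (f)`. -/
theorem flat_atPrime_of_noetherian_h1 {A B : Type u} [CommRing A] [CommRing B] [Algebra A B]
    [IsNoetherianRing B] {c : ℕ} (f : Fin c → B) (hH1 : CAlgX.IsH1Regular f)
    [Module.Flat A (B ⧸ Ideal.span (Set.range f))] (q : Ideal B) [q.IsPrime]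
    (hq : Ideal.span (Set.range f) ≤ q) :
    Module.Flat A (Localization.AtPrime q) := by
  let S := Localization.AtPrime q
  haveI : IsNoetherianRing S := IsLocalization.isNoetherianRing q.primeCompl S inferInstance
  have hquasi : CAlgX.IsQuasiRegular (fun i => algebraMap B S (f i)) :=
    Groth.Agent.S8893.isQuasiRegular_of_isLocalization q.primeCompl f
      (Groth.Agent.S2103.result f hH1)
  have hspan : Ideal.span (Set.range fun i => algebraMap B S (f i)) =
      (Ideal.span (Set.range f)).map (algebraMap B S) := by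
    rw [Ideal.map_span, ← Set.range_comp]; rfl
  have hJ : Ideal.span (Set.range fun i => algebraMap B S (f i)) ≤ Ideal.jacobson ⊥ := by
    rw [IsLocalRing.jacobson_eq_maximalIdeal ⊥ bot_ne_top, hspan,
      ← Localization.AtPrime.map_eq_maximalIdeal]
    exact Ideal.map_mono hq
  haveI : Module.Flat A (S ⧸ Ideal.span (Set.range fun i => algebraMap B S (f i))) := by
    rw [hspan]
    obtain ⟨e⟩ := nonempty_localizedModule_quot_equiv (A := A) (B' := S) q.primeCompl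
      (Ideal.span (Set.range f))
    haveI : Module.Flat A (LocalizedModule q.primeCompl (B ⧸ Ideal.span (Set.range f))) :=
      Groth.Agent.Lib.H77GenFlatAlg.flat_of_isLocalizedModule A q.primeCompl
        (LocalizedModule.mkLinearMap q.primeCompl (B ⧸ Ideal.span (Set.range f)))
    exact Module.Flat.of_linearEquiv e.symm
  exact Groth.Agent.S8893.flat_of_isQuasiRegular _ hquasi hJ

end Core

section Stage

open Groth.Agent.Lib.FlatLimStage88 Groth.Agent.Lib.FlatNbhdCartier50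

theorem flat_quot_tmul' {k A S₀ : Type u} [CommRing k] [CommRing A] [CommRing S₀] [Algebra k A]
    [Algebra k S₀] {c : ℕ} (f₀ : Fin c → S₀) :
    Module.Flat A (A ⊗[k] (S₀ ⧸ Ideal.span (Set.range f₀))) ↔
      Module.Flat A ((A ⊗[k] S₀) ⧸
        Ideal.span (Set.range fun i => ((1 : A) ⊗ₜ[k] f₀ i : A ⊗[k] S₀))) := by
  have hI : (Ideal.span (Set.range f₀)).map
      (Algebra.TensorProduct.includeRight : S₀ →ₐ[k] A ⊗[k] S₀) =
      Ideal.span (Set.range fun i => ((1 : A) ⊗ₜ[k] f₀ i : A ⊗[k] S₀)) := by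
    rw [Ideal.map_span, ← Set.range_comp]
    rfl
  let e1 := (Algebra.TensorProduct.tensorQuotientEquiv (R := k) A S₀ A (Ideal.span (Set.range f₀)))
  let e2 := Ideal.quotientEquivAlgOfEq A hI
  exact Module.Flat.equiv_iff (e1.trans e2).toLinearEquiv

/-- stage step: if every relation over `A₁` becomes trivial over `A₂`, then `1 ⊗ f₀` is
`H_1`-regular over `A₂`. -/
theorem h1_and_flat_stage {k A₁ A₂ S₀ : Type u} [CommRing k] [CommRing A₁] [CommRing A₂]
    [CommRing S₀] [Algebra k A₁] [Algebra k A₂] [Algebra A₁ A₂] [IsScalarTower k A₁ A₂]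
    [Algebra k S₀] {c : ℕ} (f₀ : Fin c → S₀)
    [Module.Flat A₁ (A₁ ⊗[k] (S₀ ⧸ Ideal.span (Set.range f₀)))]
    (hrel : ∀ t : Fin c → A₁ ⊗[k] S₀, ∑ i, t i * ((1 : A₁) ⊗ₜ[k] f₀ i) = 0 →
      (fun i => sMap (IsScalarTower.toAlgHom k A₁ A₂) S₀ (t i)) ∈
        triv (fun i => ((1 : A₂) ⊗ₜ[k] f₀ i : A₂ ⊗[k] S₀))) :
    CAlgX.IsH1Regular (fun i => ((1 : A₂) ⊗ₜ[k] f₀ i : A₂ ⊗[k] S₀)) ∧
      Module.Flat A₂ (A₂ ⊗[k] (S₀ ⧸ Ideal.span (Set.range f₀))) := by
  refine ⟨?_, Module.Flat.of_linearEquiv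
    (AlgebraTensorModule.cancelBaseChange k A₁ A₂ A₂ (S₀ ⧸ Ideal.span (Set.range f₀))).symm⟩
  have hfl : Module.Flat A₁ ((A₁ ⊗[k] S₀) ⧸
      Ideal.span (Set.range fun i => ((1 : A₁) ⊗ₜ[k] f₀ i : A₁ ⊗[k] S₀))) :=
    (flat_quot_tmul' f₀).mp inferInstance
  let E : A₂ ⊗[A₁] (A₁ ⊗[k] S₀) ≃ₐ[A₂] A₂ ⊗[k] S₀ :=
    Algebra.TensorProduct.cancelBaseChange k A₁ A₂ A₂ S₀
  have hE1 : ∀ z : A₁ ⊗[k] S₀,
      E ((1 : A₂) ⊗ₜ[A₁] z) = sMap (IsScalarTower.toAlgHom k A₁ A₂) S₀ z :=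
    fun z => cancelBaseChange_one_tmul z
  have hE : ∀ i, E ((1 : A₂) ⊗ₜ[A₁] ((1 : A₁) ⊗ₜ[k] f₀ i)) = (1 : A₂) ⊗ₜ[k] f₀ i := by
    intro i
    rw [hE1, sMap_tmul, map_one]
  have h1 := isH1Regular_tensor_of_rel (A := A₁) (B := A₁ ⊗[k] S₀) (A' := A₂)
    (fun i => ((1 : A₁) ⊗ₜ[k] f₀ i : A₁ ⊗[k] S₀)) hfl ?_
  · have h2 := isH1Regular_ringEquiv E.toRingEquiv _ h1
    have h3 : (fun i => E.toRingEquiv ((1 : A₂) ⊗ₜ[A₁] ((1 : A₁) ⊗ₜ[k] f₀ i))) =
        fun i => ((1 : A₂) ⊗ₜ[k] f₀ i : A₂ ⊗[k] S₀) := by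
      funext i; exact hE i
    rw [h3] at h2
    exact h2
  · intro t ht
    have h2 := triv_map (E.symm : A₂ ⊗[k] S₀ →+* A₂ ⊗[A₁] (A₁ ⊗[k] S₀)) _ _ (hrel t ht)
    have h3 : (fun i => (E.symm : A₂ ⊗[k] S₀ →+* A₂ ⊗[A₁] (A₁ ⊗[k] S₀))
        (sMap (IsScalarTower.toAlgHom k A₁ A₂) S₀ (t i))) =
        fun i => (1 : A₂) ⊗ₜ[A₁] t i := by
      funext i
      rw [← hE1]; exact E.symm_apply_apply _
    have h4 : (fun i => (E.symm : A₂ ⊗[k] S₀ →+* A₂ ⊗[A₁] (A₁ ⊗[k] S₀))
        ((1 : A₂) ⊗ₜ[k] f₀ i)) = fun i => (1 : A₂) ⊗ₜ[A₁] ((1 : A₁) ⊗ₜ[k] f₀ i) := by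
      funext i
      rw [← hE i]; exact E.symm_apply_apply _
    rw [h3, h4] at h2
    exact h2

end Stage

section Descent

open Groth.Agent.Lib.FlatLimStage88 Groth.Agent.Lib.FlatNbhdCartier50
  Groth.Agent.Lib.FlatLimCore88 Groth.Agent.Lib.FlatLimGlobal88

/-- the generating family of trivial relations -/
def wRel {R : Type u} [CommRing R] {c : ℕ} (g : Fin c → R) (p : Fin c × Fin c) : Fin c → R :=
  Pi.single p.1 (g p.2) - Pi.single p.2 (g p.1)

theorem triv_eq_span_range {R : Type u} [CommRing R] {c : ℕ} (g : Fin c → R) :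
    triv g = Submodule.span R (Set.range (wRel g)) := by
  unfold triv
  congr 1
  ext v
  constructor
  · rintro ⟨i, j, rfl⟩
    exact ⟨(i, j), rfl⟩
  · rintro ⟨p, rfl⟩
    exact ⟨p.1, p.2, rfl⟩

theorem map_wRel {R R' : Type u} [CommRing R] [CommRing R'] (φ : R →+* R') {c : ℕ}
    (g : Fin c → R) (p : Fin c × Fin c) (l : Fin c) :
    φ (wRel g p l) = wRel (fun i => φ (g i)) p l := by
  simp only [wRel, Pi.sub_apply, map_sub, Pi.single_apply]
  split_ifs <;> simp

theorem mem_triv_of_eq_sum {R : Type u} [CommRing R] {c : ℕ} (g : Fin c → R)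
    (d : Fin c × Fin c → R) (v : Fin c → R) (hv : ∀ l, v l = ∑ p, d p * wRel g p l) :
    v ∈ triv g := by
  rw [triv_eq_span_range]
  have : v = ∑ p, d p • wRel g p := by
    funext l
    rw [hv l, Finset.sum_apply]
    rfl
  rw [this]
  exact Submodule.sum_mem _ fun p _ => Submodule.smul_mem _ _ (Submodule.subset_span ⟨p, rfl⟩)

theorem exists_of_mem_triv {R : Type u} [CommRing R] {c : ℕ} (g : Fin c → R)
    (v : Fin c → R) (hv : v ∈ triv g) :
    ∃ d : Fin c × Fin c → R, ∀ l, v l = ∑ p, d p * wRel g p l := by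
  rw [triv_eq_span_range, Submodule.mem_span_range_iff_exists_fun] at hv
  obtain ⟨d, hd⟩ := hv
  refine ⟨d, fun l => ?_⟩
  rw [← hd, Finset.sum_apply]
  rfl

/-- from a flat stage `A₁` to a stage `A₂` where `1 ⊗ f₀` becomes `H_1`-regular -/
theorem exists_stage_h1 {k A S₀ : Type u} [CommRing k] [IsNoetherianRing k] [CommRing A]
    [CommRing S₀] [Algebra k A] [Algebra k S₀] [Algebra.FiniteType k S₀] {c : ℕ} (f₀ : Fin c → S₀)
    (hH1 : CAlgX.IsH1Regular (fun i => ((1 : A) ⊗ₜ[k] f₀ i : A ⊗[k] S₀)))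
    (A₁ : Subalgebra k A) (hA₁ : A₁.FG)
    [Module.Flat A₁ (A₁ ⊗[k] (S₀ ⧸ Ideal.span (Set.range f₀)))] :
    ∃ A₂ : Subalgebra k A, A₂.FG ∧
      CAlgX.IsH1Regular (fun i => ((1 : A₂) ⊗ₜ[k] f₀ i : A₂ ⊗[k] S₀)) ∧
      Module.Flat A₂ (A₂ ⊗[k] (S₀ ⧸ Ideal.span (Set.range f₀))) := by
  classical
  have hft : Algebra.FiniteType k A₁ := (Subalgebra.fg_iff_finiteType A₁).mp hA₁
  haveI : Algebra.FiniteType k (A₁ ⊗[k] S₀) :=
    Algebra.FiniteType.trans (S := A₁) inferInstance inferInstance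
  haveI : IsNoetherianRing (A₁ ⊗[k] S₀) := Algebra.FiniteType.isNoetherianRing k _
  -- the relation module at stage `A₁`
  let g₁ : Fin c → A₁ ⊗[k] S₀ := fun i => (1 : A₁) ⊗ₜ[k] f₀ i
  let Z : Submodule (A₁ ⊗[k] S₀) (Fin c → A₁ ⊗[k] S₀) :=
    LinearMap.ker (Fintype.linearCombination (A₁ ⊗[k] S₀) g₁)
  have hZmem : ∀ t : Fin c → A₁ ⊗[k] S₀, t ∈ Z ↔ ∑ i, t i * g₁ i = 0 := by
    intro t
    simp [Z, Fintype.linearCombination_apply]
  have hZfg : Z.FG := IsNoetherian.noetherian Z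
  obtain ⟨s, hs⟩ := hZfg
  -- generators of the maps `sMap`
  have hg : ∀ {B B' : Type u} [CommRing B] [CommRing B'] [Algebra k B] [Algebra k B']
      (φ : B →ₐ[k] B') (i : Fin c),
      sMap φ S₀ ((1 : B) ⊗ₜ[k] f₀ i) = (1 : B') ⊗ₜ[k] f₀ i := by
    intro B B' _ _ _ _ φ i
    rw [sMap_tmul, map_one]
  -- the relations die at the top
  have htop : ∀ z : s, ∃ d : Fin c × Fin c → A ⊗[k] S₀, ∀ l,
      sMap A₁.val S₀ ((z : Fin c → A₁ ⊗[k] S₀) l) =
        ∑ p, d p * wRel (fun i => ((1 : A) ⊗ₜ[k] f₀ i : A ⊗[k] S₀)) p l := by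
    intro z
    have hz : (z : Fin c → A₁ ⊗[k] S₀) ∈ Z := by
      rw [← hs]; exact Submodule.subset_span z.2
    rw [hZmem] at hz
    have h1 : ∑ i, sMap A₁.val S₀ ((z : Fin c → A₁ ⊗[k] S₀) i) * ((1 : A) ⊗ₜ[k] f₀ i) = 0 := by
      have := congrArg (sMap A₁.val S₀) hz
      rw [map_sum, map_zero] at this
      rw [← this]
      refine Finset.sum_congr rfl fun i _ => ?_
      rw [map_mul, hg]
    exact exists_of_mem_triv _ _ (hH1 _ h1)
  choose d hd using htop
  -- lift the coefficients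
  obtain ⟨A₁', hA₁', hx⟩ := exists_fg_lift (R := A) S₀
    (fun zp : s × (Fin c × Fin c) => d zp.1 zp.2)
  choose x hx using hx
  let A₃ : Subalgebra k A := A₁ ⊔ A₁'
  have hA₃ : A₃.FG := hA₁.sup hA₁'
  have h₁ : A₁ ≤ A₃ := le_sup_left
  have h₁' : A₁' ≤ A₃ := le_sup_right
  let E : s × Fin c → A₃ ⊗[k] S₀ := fun zl =>
    sMap (Subalgebra.inclusion h₁) S₀ ((zl.1 : Fin c → A₁ ⊗[k] S₀) zl.2) -
      ∑ p, sMap (Subalgebra.inclusion h₁') S₀ (x (zl.1, p)) *
        wRel (fun i => ((1 : A₃) ⊗ₜ[k] f₀ i : A₃ ⊗[k] S₀)) p zl.2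
  have hE : ∀ zl, mMap A₃.val S₀ (E zl) = 0 := by
    intro zl
    rw [← sMap_eq_mMap]
    simp only [E, map_sub, map_sum, map_mul, sMap_val_inclusion]
    rw [sub_eq_zero, hd zl.1 zl.2]
    refine Finset.sum_congr rfl fun p _ => ?_
    rw [sMap_eq_mMap A₁'.val, hx (zl.1, p)]
    congr 1
    have := map_wRel (sMap A₃.val S₀ : A₃ ⊗[k] S₀ →+* A ⊗[k] S₀)
      (fun i => ((1 : A₃) ⊗ₜ[k] f₀ i : A₃ ⊗[k] S₀)) p zl.2
    rw [RingHom.coe_coe] at this
    rw [this]
    congr 2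
  obtain ⟨A₂, hAB, hA₂, hz⟩ := exists_fg_eq_zero (N := S₀) hA₃ E hE
  refine ⟨A₂, hA₂, ?_⟩
  letI : Algebra A₁ A₂ := (Subalgebra.inclusion (h₁.trans hAB)).toRingHom.toAlgebra
  haveI : IsScalarTower k A₁ A₂ := IsScalarTower.of_algebraMap_eq fun c =>
    ((Subalgebra.inclusion (h₁.trans hAB)).commutes c).symm
  have hincl : IsScalarTower.toAlgHom k A₁ A₂ = Subalgebra.inclusion (h₁.trans hAB) := by
    ext a; rfl
  apply h1_and_flat_stage (A₁ := A₁) (A₂ := A₂) f₀
  intro t ht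
  have htZ : t ∈ Submodule.span (A₁ ⊗[k] S₀) (s : Set (Fin c → A₁ ⊗[k] S₀)) := by
    rw [hs, hZmem]; exact ht
  rw [hincl]
  clear ht
  induction htZ using Submodule.span_induction with
  | mem z hzs =>
    refine mem_triv_of_eq_sum _
      (fun p => sMap (Subalgebra.inclusion (h₁'.trans hAB)) S₀ (x (⟨z, hzs⟩, p))) _ fun l => ?_
    have h0 := hz (⟨z, hzs⟩, l)
    rw [← sMap_eq_mMap] at h0
    simp only [E, map_sub, map_sum, map_mul, sMap_inclusion_inclusion] at h0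
    rw [sub_eq_zero] at h0
    rw [h0]
    refine Finset.sum_congr rfl fun p _ => ?_
    congr 1
    have := map_wRel (sMap (Subalgebra.inclusion hAB) S₀ : A₃ ⊗[k] S₀ →+* A₂ ⊗[k] S₀)
      (fun i => ((1 : A₃) ⊗ₜ[k] f₀ i : A₃ ⊗[k] S₀)) p l
    rw [RingHom.coe_coe] at this
    rw [this]
    congr 2
  | zero =>
    have : (fun i => sMap (Subalgebra.inclusion (h₁.trans hAB)) S₀
        ((0 : Fin c → A₁ ⊗[k] S₀) i)) = 0 := by funext i; simp
    rw [this]; exact Submodule.zero_mem _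
  | add a b _ _ ha hb =>
    have : (fun i => sMap (Subalgebra.inclusion (h₁.trans hAB)) S₀ ((a + b) i)) =
        (fun i => sMap (Subalgebra.inclusion (h₁.trans hAB)) S₀ (a i)) +
          (fun i => sMap (Subalgebra.inclusion (h₁.trans hAB)) S₀ (b i)) := by
      funext i; simp
    rw [this]; exact Submodule.add_mem _ ha hb
  | smul r a _ ha =>
    have : (fun i => sMap (Subalgebra.inclusion (h₁.trans hAB)) S₀ ((r • a) i)) =
        sMap (Subalgebra.inclusion (h₁.trans hAB)) S₀ r •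
          (fun i => sMap (Subalgebra.inclusion (h₁.trans hAB)) S₀ (a i)) := by
      funext i; simp
    rw [this]; exact Submodule.smul_mem _ _ ha

end Descent

section Main

open Groth.Agent.Lib.FlatLimStage88 Groth.Agent.Lib.FlatNbhdCartier50
  Groth.Agent.Lib.FlatLimCore88 Groth.Agent.Lib.FlatLimGlobal88

attribute [local instance] Algebra.TensorProduct.rightAlgebra in
/-- going back up from a Noetherian stage. -/
theorem flat_atPrime_of_stage_h1 {k A₂ A S₀ B : Type u} [CommRing k] [CommRing A₂] [CommRing A]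
    [CommRing S₀] [CommRing B] [Algebra k A₂] [Algebra k A] [Algebra A₂ A] [IsScalarTower k A₂ A]
    [Algebra k S₀] [Algebra A B] (e : A ⊗[k] S₀ ≃ₐ[A] B) [IsNoetherianRing (A₂ ⊗[k] S₀)]
    {c : ℕ} (f₀ : Fin c → S₀)
    (hH1 : CAlgX.IsH1Regular (fun i => ((1 : A₂) ⊗ₜ[k] f₀ i : A₂ ⊗[k] S₀)))
    [Module.Flat A₂ (A₂ ⊗[k] (S₀ ⧸ Ideal.span (Set.range f₀)))]
    (q : Ideal B) [q.IsPrime] (hq : ∀ i, e ((1 : A) ⊗ₜ[k] f₀ i) ∈ q) :
    Module.Flat A (Localization.AtPrime q) := by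
  haveI : Module.Flat A₂ ((A₂ ⊗[k] S₀) ⧸
      Ideal.span (Set.range fun i => ((1 : A₂) ⊗ₜ[k] f₀ i : A₂ ⊗[k] S₀))) :=
    (flat_quot_tmul' f₀).mp inferInstance
  let ψ : A₂ ⊗[k] S₀ →+* B :=
    (e : A ⊗[k] S₀ →+* B).comp (sMap (IsScalarTower.toAlgHom k A₂ A) S₀ : A₂ ⊗[k] S₀ →+* A ⊗[k] S₀)
  have hψ : ∀ z, ψ z = e (sMap (IsScalarTower.toAlgHom k A₂ A) S₀ z) := fun z => rfl
  letI algB₂B : Algebra (A₂ ⊗[k] S₀) B := ψ.toAlgebra
  letI algA₂B : Algebra A₂ B := ((algebraMap A B).comp (algebraMap A₂ A)).toAlgebra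
  haveI t1 : IsScalarTower A₂ A B := IsScalarTower.of_algebraMap_eq' rfl
  haveI t2 : IsScalarTower A₂ (A₂ ⊗[k] S₀) B := IsScalarTower.of_algebraMap_eq fun a => by
    change algebraMap A B (algebraMap A₂ A a) = ψ (a ⊗ₜ[k] (1 : S₀))
    rw [hψ, sMap_tmul]
    change _ = e (algebraMap A₂ A a ⊗ₜ[k] (1 : S₀))
    exact (e.commutes (algebraMap A₂ A a)).symm
  -- pushout
  let E : A ⊗[A₂] (A₂ ⊗[k] S₀) ≃ₐ[A] B :=
    (Algebra.TensorProduct.cancelBaseChange k A₂ A A S₀).trans e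
  have hE : E.toRingHom.comp (algebraMap (A₂ ⊗[k] S₀) (A ⊗[A₂] (A₂ ⊗[k] S₀))) =
      algebraMap (A₂ ⊗[k] S₀) B := by
    refine RingHom.ext fun z => ?_
    change e (Algebra.TensorProduct.cancelBaseChange k A₂ A A S₀ ((1 : A) ⊗ₜ[A₂] z)) = ψ z
    rw [cancelBaseChange_one_tmul, hψ]
  have hpo : Algebra.IsPushout A₂ A (A₂ ⊗[k] S₀) B := Algebra.IsPushout.of_equiv E hE
  haveI : Algebra.IsPushout A₂ (A₂ ⊗[k] S₀) A B := hpo.symm
  -- the prime below
  let q₂ : Ideal (A₂ ⊗[k] S₀) := q.comap ψ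
  haveI : q₂.IsPrime := Ideal.comap_isPrime ψ q
  haveI : q.LiesOver q₂ := ⟨rfl⟩
  have hq₂ : Ideal.span (Set.range fun i => ((1 : A₂) ⊗ₜ[k] f₀ i : A₂ ⊗[k] S₀)) ≤ q₂ := by
    rw [Ideal.span_le]
    rintro _ ⟨i, rfl⟩
    change ψ _ ∈ q
    rw [hψ, sMap_tmul, map_one]
    exact hq i
  haveI : Module.Flat A₂ (Localization.AtPrime q₂) :=
    flat_atPrime_of_noetherian_h1 _ hH1 q₂ hq₂
  exact Groth.Agent.Lib.EtaleLocusBC.flat_localization_of_isPushout A₂ (A₂ ⊗[k] S₀) A B q₂ q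

open Groth.Agent.Lib.FlatLimModel88 in
/-- **Flatness near an `H_1`-regular closed subscheme with flat quotient** (finitely presented
case): `f` an `H_1`-regular family of `B` with `B/(f)` flat over `A`; then `B` is flat over `A` at
every prime containing `f`. -/
theorem flat_atPrime_of_h1_of_flat_quot {A B : Type u} [CommRing A] [CommRing B] [Algebra A B]
    [Algebra.FinitePresentation A B] {c : ℕ} (f : Fin c → B) (hH1 : CAlgX.IsH1Regular f)
    [Module.Flat A (B ⧸ Ideal.span (Set.range f))] (q : Ideal B) [q.IsPrime]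
    (hq : Ideal.span (Set.range f) ≤ q) :
    Module.Flat A (Localization.AtPrime q) := by
  classical
  obtain ⟨k, _, _, S₀, _, _, e, ub, hk, hS₀, hub⟩ :=
    Groth.Agent.Lib.FlatLimDirected88.exists_model_data (R := A) (S := B)
      (fun (_ : Fin 1) (i : Fin c) => f i)
  set f₀ : Fin c → S₀ := ub 0 with hf₀
  have hh : ∀ i, e ((1 : A) ⊗ₜ[k] f₀ i) = f i := fun i => hub 0 i
  haveI : IsNoetherianRing k := Algebra.FiniteType.isNoetherianRing ℤ k
  have hH1₀ : CAlgX.IsH1Regular (fun i => ((1 : A) ⊗ₜ[k] f₀ i : A ⊗[k] S₀)) := by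
    have h1 := isH1Regular_ringEquiv e.symm.toRingEquiv f hH1
    have h2 : (fun i => e.symm.toRingEquiv (f i)) = fun i => ((1 : A) ⊗ₜ[k] f₀ i : A ⊗[k] S₀) := by
      funext i
      rw [← hh i]
      exact e.symm_apply_apply _
    rw [h2] at h1
    exact h1
  have hI : Ideal.map (e : A ⊗[k] S₀ →+* B)
      (Ideal.span (Set.range fun i => ((1 : A) ⊗ₜ[k] f₀ i : A ⊗[k] S₀))) =
      Ideal.span (Set.range f) := by
    rw [Ideal.map_span, ← Set.range_comp]
    congr 2
    funext i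
    exact hh i
  haveI hflatA : Module.Flat A (A ⊗[k] (S₀ ⧸ Ideal.span (Set.range f₀))) := by
    rw [flat_quot_tmul']
    exact (Module.Flat.equiv_iff
      (Ideal.quotientEquivAlg _ _ e hI.symm).toLinearEquiv).mpr inferInstance
  obtain ⟨A₁, -, hA₁, hflat₁⟩ :=
    Groth.Agent.Lib.FlatLimGlobal88.exists_fg_flat_global (k := k) S₀
      (M₀ := S₀ ⧸ Ideal.span (Set.range f₀)) (R := A) ⊥ Subalgebra.fg_bot
  haveI := hflat₁
  obtain ⟨A₂, hA₂, hH1₂, hflat₂⟩ := exists_stage_h1 f₀ hH1₀ A₁ hA₁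
  have hft : Algebra.FiniteType k A₂ := (Subalgebra.fg_iff_finiteType A₂).mp hA₂
  haveI : Algebra.FiniteType k (A₂ ⊗[k] S₀) :=
    Algebra.FiniteType.trans (S := A₂) inferInstance inferInstance
  haveI : IsNoetherianRing (A₂ ⊗[k] S₀) := Algebra.FiniteType.isNoetherianRing k _
  haveI := hflat₂
  exact flat_atPrime_of_stage_h1 (A₂ := A₂) e f₀ hH1₂ q
    (fun i => by rw [hh]; exact hq (Ideal.subset_span ⟨i, rfl⟩))

end Main

end Groth.Agent.Lib.H1FlatNbhd50
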