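import Groth.Prelude.Def_Coh
import Groth.Agent.Lib.ModStalk
import Groth.Agent.Lib.H90OXModSections
import Groth.Agent.Lib.H90OXModQcqs
import Mathlib.Algebra.Homology.DerivedCategory.Ext.ExactSequences

/-!
# Lifting global sections when `H¹` of the kernel vanishes

* `surjective_app_top_of_subsingleton_H` : for a short exact sequence of abelian sheaves on a
  scheme with `H¹(X, S.X₁) = 0`, the map `S.g` is surjective on global sections.
* `exists_app_eq_of_locally` : for `ψ : M ⟶ N` in `X.Modules` with `H¹(X, ker ψ) = 0`, a global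
  section of `N` which is locally in the image of `ψ` is in the image of `ψ` on global sections.
-/

set_option autoImplicit false
universe u
open CategoryTheory CategoryTheory.Limits AlgebraicGeometry TopologicalSpace Opposite Abelian

namespace Groth.Agent.Lib.H1Lift13

variable {X : Scheme.{u}}

/-- For a short exact sequence of abelian sheaves with `H¹` of the first term zero, the second map
is surjective on global sections. -/
theorem surjective_app_top_of_subsingleton_H
    (S : ShortComplex (Sheaf (Opens.grothendieckTopology X) AddCommGrpCat.{u})) (hS : S.ShortExact)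
    (h : Subsingleton (Sheaf.H S.X₁ 1)) :
    Function.Surjective (S.g.hom.app (op (⊤ : Opens X))) := by
  intro x₃
  have hT : IsTerminal (⊤ : Opens X) := isTerminalTop
  obtain ⟨x₂, hx₂⟩ := Ext.covariant_sequence_exact₃ _ hS ((Sheaf.H.equiv₀ S.X₃ hT).symm x₃)
    (rfl : 0 + 1 = 1) (Subsingleton.elim _ _)
  refine ⟨Sheaf.H.equiv₀ S.X₂ hT x₂, ?_⟩
  rw [Sheaf.H.equiv₀_naturality, Sheaf.H.map_apply, hx₂, AddEquiv.apply_symm_apply]

open AlgebraicGeometry.Scheme AlgebraicGeometry.Scheme.Modules
open Groth.Agent.Lib.QCohStalk Groth.Agent.Lib.H90OXModQcqs Groth.Agent.Lib.H90OXModSections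

/-- Naturality of a morphism of modules with respect to restriction of sections. -/
theorem app_res {M N : X.Modules} (ψ : M ⟶ N) {V U : X.Opens} (h : V ≤ U) (s : Γ(M, U)) :
    ψ.app V (res M h s) = res N h (ψ.app U s) := by
  have := congrArg (fun f => f.hom s) (ψ.mapPresheaf.naturality (homOfLE h).op)
  exact this

/-- For a short exact sequence of `O_X`-modules with `H¹` of the first term zero, the second map
is surjective on global sections. -/
theorem surjective_app_top_of_shortExact {S : ShortComplex X.Modules} (hS : S.ShortExact)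
    (h : Subsingleton (Coh.HH X S.X₁ 1)) : Function.Surjective (S.g.app ⊤) := by
  have hS' := hS.map_of_exact (Groth.Agent.Lib.ModStalk.toSheafAb X)
  exact surjective_app_top_of_subsingleton_H _ hS' h

/-- If `H¹(X, ker ψ) = 0`, a global section of `N` which is locally in the image of `ψ : M ⟶ N`
is the image of a global section of `M`. -/
theorem exists_app_eq_of_locally {M N : X.Modules} (ψ : M ⟶ N)
    (h : Subsingleton (Coh.HH X (kernel ψ) 1)) (t : Γ(N, ⊤))
    (ht : ∀ x : X, ∃ (V : X.Opens), x ∈ V ∧ ∃ m : Γ(M, V), ψ.app V m = res N le_top t) :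
    ∃ s : Γ(M, ⊤), ψ.app ⊤ s = t := by
  -- the coimage factorisation
  let π : M ⟶ Abelian.coimage ψ := Abelian.coimage.π ψ
  let j : Abelian.coimage ψ ⟶ N := Abelian.factorThruCoimage ψ
  have hfac : π ≫ j = ψ := Abelian.coimage.fac ψ
  have hj : Mono j := inferInstance
  let S : ShortComplex X.Modules := ShortComplex.mk (kernel.ι ψ) π (by simp [π])
  have hS : S.ShortExact := by
    have : Mono S.f := inferInstanceAs (Mono (kernel.ι ψ))
    have : Epi S.g := inferInstanceAs (Epi (cokernel.π (kernel.ι ψ)))
    exact ShortComplex.ShortExact.mk' (S.exact_of_g_is_cokernel (cokernelIsCokernel _)) ‹_› ‹_›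
  have hsurj : Function.Surjective (π.app ⊤) := surjective_app_top_of_shortExact hS h
  -- local lifts
  choose V hxV m hm using ht
  have hjinj : ∀ U : X.Opens, Function.Injective (j.app U) := fun U => injective_app_of_mono j U
  have happ : ∀ (U : X.Opens) (a : Γ(M, U)), j.app U (π.app U a) = ψ.app U a := by
    intro U a
    have : (π ≫ j).app U a = ψ.app U a := by rw [hfac]
    exact this
  obtain ⟨t', ht'⟩ := exists_glue (Abelian.coimage ψ) ⊤ V (fun _ => le_top)
    (fun x _ => Opens.mem_iSup.mpr ⟨x, hxV x⟩) (fun x => π.app (V x) (m x)) (by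
      intro x y
      apply hjinj
      rw [← app_res, ← app_res, happ, happ, app_res, app_res, hm, hm, res_res, res_res])
  have htt : j.app ⊤ t' = t := by
    apply res_ext N ⊤ V (fun _ => le_top) (fun x _ => Opens.mem_iSup.mpr ⟨x, hxV x⟩)
    intro x
    rw [← app_res, ht', happ, hm]
  obtain ⟨s, hs⟩ := hsurj t'
  exact ⟨s, by rw [← happ, hs, htt]⟩

end Groth.Agent.Lib.H1Lift13
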