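import Mathlib
import Groth.Agent.Lib.AnPts

/-!
# Density of Zariski-dense opens in the complex topology (helper26)

Ring-level key lemma: for a finitely generated `ℂ`-domain `A`, `g ≠ 0` in `A` and a `ℂ`-point `x₀`,
there is a sequence of `ℂ`-points `x n` with `x n g ≠ 0` converging pointwise to `x₀`.
-/

set_option autoImplicit false

open Polynomial

namespace Groth.Agent.Lib.H26AnDense

section Points

variable {A : Type} [CommRing A] [Algebra ℂ A]

/-- two `ℂ`-points with comparable kernels are equal. -/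
theorem algHom_eq_of_ker_le {x y : A →ₐ[ℂ] ℂ}
    (h : RingHom.ker (x : A →+* ℂ) ≤ RingHom.ker (y : A →+* ℂ)) : x = y := by
  apply AlgHom.ext
  intro a
  have h1 : a - algebraMap ℂ A (x a) ∈ RingHom.ker (x : A →+* ℂ) := by
    rw [RingHom.mem_ker]
    simp
  have h2 := h h1
  rw [RingHom.mem_ker] at h2
  have h3 : y a - y (algebraMap ℂ A (x a)) = 0 := by
    rw [← map_sub]
    exact h2
  rw [AlgHom.commutes] at h3
  have h4 : y a = x a := by
    have : y a - (x a : ℂ) = 0 := h3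
    exact sub_eq_zero.mp this
  exact h4.symm

/-- Nullstellensatz: a proper ideal of a finitely generated `ℂ`-algebra is killed by a `ℂ`-point. -/
theorem exists_algHom_le_ker [Algebra.FiniteType ℂ A] (J : Ideal A) (hJ : J ≠ ⊤) :
    ∃ x : A →ₐ[ℂ] ℂ, J ≤ RingHom.ker (x : A →+* ℂ) := by
  have : Nontrivial (A ⧸ J) := Ideal.Quotient.nontrivial_iff.2 hJ
  have hft : (algebraMap ℂ (A ⧸ J)).FiniteType :=
    RingHom.finiteType_algebraMap.2 inferInstance
  obtain ⟨ψ, hψ⟩ := Groth.Agent.Lib.AnPts.exists_retraction_of_finiteType _ hft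
  refine ⟨{ toRingHom := ψ.comp (Ideal.Quotient.mk J), commutes' := fun c => hψ c }, ?_⟩
  intro a ha
  rw [RingHom.mem_ker]
  change ψ (Ideal.Quotient.mk J a) = 0
  rw [Ideal.Quotient.eq_zero_iff_mem.2 ha, map_zero]

end Points

section Lift

variable {P A : Type} [CommRing P] [IsDomain P] [IsIntegrallyClosed P] [CommRing A] [IsDomain A]
  [Algebra ℂ P] [Algebra ℂ A] [Algebra P A] [IsScalarTower ℂ P A] [Algebra.FiniteType ℂ A]
  [Algebra.IsIntegral P A] [Module.IsTorsionFree P A]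

/-- lifting a root of the specialised minimal polynomial to a `ℂ`-point. -/
theorem exists_lift_root (t : P →ₐ[ℂ] ℂ) (h : A) (l : ℂ)
    (hroot : Polynomial.eval₂ (t : P →+* ℂ) l (minpoly P h) = 0) :
    ∃ x : A →ₐ[ℂ] ℂ, (∀ p : P, x (algebraMap P A p) = t p) ∧ x h = l := by
  have hint : IsIntegral P h := Algebra.IsIntegral.isIntegral h
  let φ : P[X] →ₐ[P] A := Polynomial.aeval h
  let ψ : P[X] →+* ℂ := Polynomial.eval₂RingHom (t : P →+* ℂ) l
  have hψsurj : Function.Surjective ψ := by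
    intro c
    refine ⟨Polynomial.C (algebraMap ℂ P c), ?_⟩
    change Polynomial.eval₂ (t : P →+* ℂ) l (Polynomial.C (algebraMap ℂ P c)) = c
    rw [Polynomial.eval₂_C]
    exact t.commutes c
  have hmax : (RingHom.ker ψ).IsMaximal := RingHom.ker_isMaximal_of_surjective ψ hψsurj
  have hker : RingHom.ker (φ : P[X] →+* A) ≤ RingHom.ker ψ := by
    have := minpoly.ker_eval hint
    intro q hq
    have hq' : q ∈ RingHom.ker ((Polynomial.aeval h).toRingHom : P[X] →+* A) := hq
    rw [this, Ideal.mem_span_singleton] at hq'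
    obtain ⟨c, rfl⟩ := hq'
    rw [RingHom.mem_ker, map_mul]
    have : ψ (minpoly P h) = 0 := hroot
    rw [this, zero_mul]
  letI : Algebra P[X] A := (φ : P[X] →+* A).toAlgebra
  haveI : IsScalarTower P P[X] A := IsScalarTower.of_algebraMap_eq (fun p => by
    change algebraMap P A p = φ (Polynomial.C p)
    exact (Polynomial.aeval_C h p).symm)
  haveI : Algebra.IsIntegral P[X] A := ⟨fun a => (Algebra.IsIntegral.isIntegral (R := P) a).tower_top⟩
  obtain ⟨M, hM, hMc⟩ := Ideal.exists_ideal_over_maximal_of_isIntegral (S := A) (RingHom.ker ψ) hker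
  obtain ⟨x, hx⟩ := exists_algHom_le_ker M hM.ne_top
  have hmem : ∀ q : P[X], ψ q = 0 → x (φ q) = 0 := by
    intro q hq
    have : q ∈ M.comap (algebraMap P[X] A) := by
      rw [hMc]
      exact hq
    exact hx this
  refine ⟨x, fun p => ?_, ?_⟩
  · have h1 : ψ (Polynomial.C p - Polynomial.C (algebraMap ℂ P (t p))) = 0 := by
      change Polynomial.eval₂ (t : P →+* ℂ) l _ = 0
      rw [Polynomial.eval₂_sub, Polynomial.eval₂_C, Polynomial.eval₂_C]
      change t p - t (algebraMap ℂ P (t p)) = 0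
      rw [t.commutes]
      exact sub_self _
    have h2 := hmem _ h1
    rw [map_sub, map_sub] at h2
    have h3 : φ (Polynomial.C p) = algebraMap P A p := Polynomial.aeval_C h p
    have h4 : φ (Polynomial.C (algebraMap ℂ P (t p))) = algebraMap ℂ A (t p) := by
      rw [show φ (Polynomial.C (algebraMap ℂ P (t p))) = algebraMap P A (algebraMap ℂ P (t p)) from
        Polynomial.aeval_C h _, ← IsScalarTower.algebraMap_apply]
    rw [h3, h4, x.commutes] at h2
    exact sub_eq_zero.mp h2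
  · have h1 : ψ (Polynomial.X - Polynomial.C (algebraMap ℂ P l)) = 0 := by
      change Polynomial.eval₂ (t : P →+* ℂ) l _ = 0
      rw [Polynomial.eval₂_sub, Polynomial.eval₂_X, Polynomial.eval₂_C]
      change l - t (algebraMap ℂ P l) = 0
      rw [t.commutes]
      exact sub_self _
    have h2 := hmem _ h1
    rw [map_sub, map_sub] at h2
    have h3 : φ Polynomial.X = h := Polynomial.aeval_X h
    have h4 : φ (Polynomial.C (algebraMap ℂ P l)) = algebraMap ℂ A l := by
      rw [show φ (Polynomial.C (algebraMap ℂ P l)) = algebraMap P A (algebraMap ℂ P l) from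
        Polynomial.aeval_C h _, ← IsScalarTower.algebraMap_apply]
    rw [h3, h4, x.commutes] at h2
    exact sub_eq_zero.mp h2

end Lift

section Spec

variable {P A : Type} [CommRing P] [IsDomain P] [IsIntegrallyClosed P] [CommRing A] [IsDomain A]
  [Algebra ℂ P] [Algebra ℂ A] [Algebra P A] [IsScalarTower ℂ P A]
  [Algebra.IsIntegral P A] [Module.IsTorsionFree P A]

omit [IsDomain P] [IsIntegrallyClosed P] [IsDomain A] [Algebra.IsIntegral P A]
  [Module.IsTorsionFree P A] [IsScalarTower ℂ P A] in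
/-- specialising a polynomial relation at a `ℂ`-point. -/
theorem eval₂_apply_of_aeval_eq_zero (x : A →ₐ[ℂ] ℂ) (t : P →ₐ[ℂ] ℂ)
    (hxt : ∀ p, x (algebraMap P A p) = t p) (a : A) (F : P[X]) (hF : Polynomial.aeval a F = 0) :
    Polynomial.eval₂ (t : P →+* ℂ) (x a) F = 0 := by
  have h1 : (x : A →+* ℂ) (Polynomial.eval₂ (algebraMap P A) a F) = 0 := by
    rw [← Polynomial.aeval_def, hF, map_zero]
  rw [Polynomial.hom_eval₂] at h1
  have h2 : (x : A →+* ℂ).comp (algebraMap P A) = (t : P →+* ℂ) := RingHom.ext hxt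
  rw [h2] at h1
  exact h1

omit [IsIntegrallyClosed P] [IsScalarTower ℂ P A] [Module.IsTorsionFree P A] [Algebra ℂ P]
  [Algebra ℂ A] in
theorem coeff_zero_minpoly_ne_zero (g : A) (hg : g ≠ 0) : (minpoly P g).coeff 0 ≠ 0 := by
  have hint : IsIntegral P g := Algebra.IsIntegral.isIntegral g
  intro h0
  have hX : Polynomial.X ∣ minpoly P g := Polynomial.X_dvd_iff.mpr h0
  obtain ⟨Q, hQ⟩ := hX
  have hmonic := minpoly.monic hint
  have hQmonic : Q.Monic := by
    have := hmonic
    rw [hQ] at this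
    exact Polynomial.Monic.of_mul_monic_left Polynomial.monic_X this
  have hroot : Polynomial.aeval g Q = 0 := by
    have := minpoly.aeval P g
    rw [hQ, map_mul, Polynomial.aeval_X] at this
    exact (mul_eq_zero.mp this).resolve_left hg
  have hdeg := minpoly.min P g hQmonic hroot
  have hdeg2 : (minpoly P g).degree = Q.degree + 1 := by
    rw [hQ, Polynomial.degree_mul, Polynomial.degree_X, add_comm]
  rw [hdeg2] at hdeg
  rw [Polynomial.degree_eq_natDegree hQmonic.ne_zero] at hdeg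
  have h2 : Q.natDegree + 1 ≤ Q.natDegree := by exact_mod_cast hdeg
  omega

omit [IsDomain P] [IsIntegrallyClosed P] [IsDomain A] [Module.IsTorsionFree P A]
  [IsScalarTower ℂ P A] in
/-- if the norm-like constant coefficient of the minimal polynomial of `g` does not vanish at `t`,
then `g` does not vanish at any point over `t`. -/
theorem apply_ne_zero_of_coeff_ne_zero (x : A →ₐ[ℂ] ℂ) (t : P →ₐ[ℂ] ℂ)
    (hxt : ∀ p, x (algebraMap P A p) = t p) (g : A) (hN : t ((minpoly P g).coeff 0) ≠ 0) :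
    x g ≠ 0 := by
  intro hx
  have := eval₂_apply_of_aeval_eq_zero x t hxt g (minpoly P g) (minpoly.aeval P g)
  rw [hx, Polynomial.eval₂_at_zero] at this
  exact hN this

end Spec

section SmallRoot

/-- a monic complex polynomial of positive degree has a root `z` with `‖z‖ ^ deg ≤ ‖constant term‖`. -/
theorem exists_root_norm_pow_le (p : ℂ[X]) (hp : p.Monic) (hdeg : 0 < p.natDegree) :
    ∃ z : ℂ, p.IsRoot z ∧ ‖z‖ ^ p.natDegree ≤ ‖p.coeff 0‖ := by
  classical
  have hs : p.Splits := IsAlgClosed.splits p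
  have hcard : p.natDegree = Multiset.card p.roots := hs.natDegree_eq_card_roots
  have hne : p.roots.toFinset.Nonempty := by
    rw [Multiset.toFinset_nonempty]
    intro h0
    rw [h0, Multiset.card_zero] at hcard
    omega
  obtain ⟨z, hz, hmin⟩ := p.roots.toFinset.exists_min_image (fun w => ‖w‖₊) hne
  rw [Multiset.mem_toFinset] at hz
  refine ⟨z, (Polynomial.mem_roots hp.ne_zero).mp hz, ?_⟩
  have hprod : ‖p.coeff 0‖₊ = (p.roots.map (fun w => ‖w‖₊)).prod := by
    rw [hs.coeff_zero_eq_prod_roots_of_monic hp, nnnorm_mul, nnnorm_pow, nnnorm_neg, nnnorm_one,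
      one_pow, one_mul]
    exact map_multiset_prod (nnnormHom : ℂ →*₀ NNReal) p.roots
  have hle : ‖z‖₊ ^ Multiset.card (p.roots.map (fun w => ‖w‖₊)) ≤
      (p.roots.map (fun w => ‖w‖₊)).prod := by
    apply Multiset.pow_card_le_prod
    intro y hy
    obtain ⟨w, hw, rfl⟩ := Multiset.mem_map.mp hy
    exact hmin w (Multiset.mem_toFinset.mpr hw)
  rw [Multiset.card_map, ← hcard, ← hprod] at hle
  exact_mod_cast hle

end SmallRoot

section Generic

open Filter Topology

/-- the non-vanishing locus of a nonzero polynomial is dense in `ℂ^d` (sequence form). -/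
theorem exists_seq_eval_ne_zero {d : ℕ} (N : MvPolynomial (Fin d) ℂ) (hN : N ≠ 0)
    (v₀ : Fin d → ℂ) :
    ∃ v : ℕ → (Fin d → ℂ), (∀ n, MvPolynomial.eval (v n) N ≠ 0) ∧ Tendsto v atTop (𝓝 v₀) := by
  classical
  obtain ⟨w, hw⟩ : ∃ w : Fin d → ℂ, MvPolynomial.eval w N ≠ 0 := by
    by_contra hcon
    push_neg at hcon
    apply hN
    apply MvPolynomial.funext
    intro x
    rw [hcon x, map_zero]
  let q : ℂ[X] := MvPolynomial.aeval
    (fun i => Polynomial.C (v₀ i) + Polynomial.X * Polynomial.C (w i - v₀ i)) N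
  have hq : ∀ s : ℂ, q.eval s = MvPolynomial.eval (fun i => v₀ i + s * (w i - v₀ i)) N := by
    intro s
    have h1 : ((Polynomial.evalRingHom s).comp
        (MvPolynomial.aeval (fun i => Polynomial.C (v₀ i) + Polynomial.X * Polynomial.C (w i - v₀ i)) :
          MvPolynomial (Fin d) ℂ →ₐ[ℂ] ℂ[X]).toRingHom) =
        (MvPolynomial.eval (fun i => v₀ i + s * (w i - v₀ i))) := by
      apply MvPolynomial.ringHom_ext
      · intro c
        simp
      · intro i
        simp
    exact RingHom.congr_fun h1 N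
  have hq1 : q.eval 1 ≠ 0 := by
    rw [hq]
    have : (fun i => v₀ i + 1 * (w i - v₀ i)) = w := by
      funext i
      ring
    rw [this]
    exact hw
  have hq0 : q ≠ 0 := by
    intro h0
    apply hq1
    rw [h0, Polynomial.eval_zero]
  let σ : ℕ → ℂ := fun n => ((1 / ((n : ℝ) + 1) : ℝ) : ℂ)
  have hσinj : Function.Injective σ := by
    intro a b hab
    have h1 : (1 / ((a : ℝ) + 1) : ℝ) = 1 / ((b : ℝ) + 1) := Complex.ofReal_injective hab
    have ha : ((a : ℝ) + 1) ≠ 0 := by positivity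
    have hb : ((b : ℝ) + 1) ≠ 0 := by positivity
    field_simp at h1
    have : (b : ℝ) = a := by linarith
    exact_mod_cast this.symm
  have hfin : {n : ℕ | q.IsRoot (σ n)}.Finite := by
    have h1 : {z : ℂ | q.IsRoot z}.Finite := Polynomial.finite_setOf_isRoot hq0
    exact Set.Finite.preimage (hσinj.injOn) h1
  obtain ⟨n₀, hn₀⟩ := hfin.bddAbove
  have hσ0 : Tendsto σ atTop (𝓝 0) := by
    have h1 : Tendsto (fun n : ℕ => (1 / ((n : ℝ) + 1) : ℝ)) atTop (𝓝 0) :=
      tendsto_one_div_add_atTop_nhds_zero_nat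
    have h2 := (Complex.continuous_ofReal.tendsto 0).comp h1
    rw [Complex.ofReal_zero] at h2
    exact h2
  refine ⟨fun n => fun i => v₀ i + σ (n + n₀ + 1) * (w i - v₀ i), fun n => ?_, ?_⟩
  · rw [← hq]
    intro hroot
    have : n + n₀ + 1 ≤ n₀ := hn₀ hroot
    omega
  · rw [tendsto_pi_nhds]
    intro i
    have h1 : Tendsto (fun n => σ (n + n₀ + 1)) atTop (𝓝 0) := by
      have : Tendsto (fun n : ℕ => n + n₀ + 1) atTop atTop := by
        apply tendsto_atTop_mono (fun n => ?_) tendsto_id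
        simp only [id]
        omega
      exact hσ0.comp this
    have h2 := (h1.mul_const (w i - v₀ i)).const_add (v₀ i)
    simpa using h2

end Generic

section Separate

variable {P A : Type} [CommRing P] [CommRing A] [Algebra ℂ P] [Algebra ℂ A] [Algebra P A]
  [IsScalarTower ℂ P A] [Module.Finite P A]

/-- the fibre ring over a `ℂ`-point of `P` is a finite-dimensional `ℂ`-algebra. -/
theorem finite_fibre (t₀ : P →ₐ[ℂ] ℂ) :
    Module.Finite ℂ (A ⧸ (RingHom.ker (t₀ : P →+* ℂ)).map (algebraMap P A)) := by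
  classical
  obtain ⟨S, hS⟩ := (Module.Finite.fg_top : (⊤ : Submodule P A).FG)
  refine ⟨⟨S.image (Ideal.Quotient.mk _), ?_⟩⟩
  rw [eq_top_iff]
  rintro y -
  obtain ⟨a, rfl⟩ := Ideal.Quotient.mk_surjective y
  have ha : a ∈ Submodule.span P (S : Set A) := by rw [hS]; trivial
  induction ha using Submodule.span_induction with
  | mem a ha =>
    apply Submodule.subset_span
    rw [Finset.coe_image]
    exact ⟨a, ha, rfl⟩
  | zero => rw [map_zero]; exact Submodule.zero_mem _
  | add a b _ _ iha ihb => rw [map_add]; exact Submodule.add_mem _ iha ihb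
  | smul p a _ iha =>
    have h1 : (Ideal.Quotient.mk ((RingHom.ker (t₀ : P →+* ℂ)).map (algebraMap P A))) (p • a) =
        (t₀ p) • (Ideal.Quotient.mk ((RingHom.ker (t₀ : P →+* ℂ)).map (algebraMap P A))) a := by
      rw [Algebra.smul_def, Algebra.smul_def, map_mul]
      congr 1
      have h2 : algebraMap P A p - algebraMap ℂ A (t₀ p) ∈
          (RingHom.ker (t₀ : P →+* ℂ)).map (algebraMap P A) := by
        have h3 : algebraMap P A p - algebraMap ℂ A (t₀ p) =
            algebraMap P A (p - algebraMap ℂ P (t₀ p)) := by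
          rw [map_sub, ← IsScalarTower.algebraMap_apply]
        rw [h3]
        apply Ideal.mem_map_of_mem
        rw [RingHom.mem_ker]
        change t₀ (p - algebraMap ℂ P (t₀ p)) = 0
        rw [map_sub, t₀.commutes]
        exact sub_self _
      have h4 := Ideal.Quotient.eq.mpr h2
      rw [h4]
      rfl
    rw [h1]
    exact Submodule.smul_mem _ _ iha

omit [IsScalarTower ℂ P A] [Module.Finite P A] [Algebra ℂ P] in
theorem ker_algHom_isMaximal (x : A →ₐ[ℂ] ℂ) : (RingHom.ker (x : A →+* ℂ)).IsMaximal := by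
  apply RingHom.ker_isMaximal_of_surjective
  intro c
  exact ⟨algebraMap ℂ A c, x.commutes c⟩

/-- an element of `A` separating `x₀` from the other points of its fibre over `P`. -/
theorem exists_separating (t₀ : P →ₐ[ℂ] ℂ) (x₀ : A →ₐ[ℂ] ℂ)
    (hx₀ : ∀ p, x₀ (algebraMap P A p) = t₀ p) :
    ∃ h : A, x₀ h = 0 ∧ ∀ x : A →ₐ[ℂ] ℂ, (∀ p, x (algebraMap P A p) = t₀ p) → x h = 0 → x = x₀ := by
  classical
  set J₀ : Ideal A := (RingHom.ker (t₀ : P →+* ℂ)).map (algebraMap P A) with hJ₀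
  haveI : Module.Finite ℂ (A ⧸ J₀) := finite_fibre t₀
  haveI : IsArtinianRing (A ⧸ J₀) := IsArtinianRing.of_finite ℂ (A ⧸ J₀)
  have hfin0 : {I : Ideal (A ⧸ J₀) | I.IsMaximal}.Finite :=
    IsArtinianRing.setOfPred_isMaximal_finite (A ⧸ J₀)
  let Mset : Set (Ideal A) :=
    {M | M.IsMaximal ∧ J₀ ≤ M ∧ M ≠ RingHom.ker (x₀ : A →+* ℂ)}
  have hfin : Mset.Finite := by
    refine (hfin0.image (Ideal.comap (Ideal.Quotient.mk J₀))).subset ?_
    rintro M ⟨hM, hJM, -⟩
    refine ⟨M.map (Ideal.Quotient.mk J₀), ?_, ?_⟩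
    · rcases Ideal.map_eq_top_or_isMaximal_of_surjective (Ideal.Quotient.mk J₀)
        Ideal.Quotient.mk_surjective hM with h | h
      · exfalso
        have h1 : (M.map (Ideal.Quotient.mk J₀)).comap (Ideal.Quotient.mk J₀) = M := by
          rw [Ideal.comap_map_of_surjective _ Ideal.Quotient.mk_surjective,
            ← RingHom.ker_eq_comap_bot, Ideal.mk_ker, sup_eq_left.mpr hJM]
        rw [h, Ideal.comap_top] at h1
        exact hM.ne_top h1.symm
      · exact h
    · rw [Ideal.comap_map_of_surjective _ Ideal.Quotient.mk_surjective,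
        ← RingHom.ker_eq_comap_bot, Ideal.mk_ker, sup_eq_left.mpr hJM]
  have hx₀max := ker_algHom_isMaximal x₀
  -- prime avoidance
  have havoid : ¬ ((RingHom.ker (x₀ : A →+* ℂ) : Set A) ⊆ ⋃ M ∈ (↑hfin.toFinset : Set (Ideal A)), (id M : Ideal A)) := by
    intro hsub
    rw [Ideal.subset_union_prime (⊥ : Ideal A) (⊥ : Ideal A)] at hsub
    · obtain ⟨M, hM, hle⟩ := hsub
      rw [Set.Finite.mem_toFinset] at hM
      obtain ⟨hMmax, -, hne⟩ := hM
      exact hne (hx₀max.eq_of_le hMmax.ne_top hle).symm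
    · intro M hM _ _
      rw [Set.Finite.mem_toFinset] at hM
      exact hM.1.isPrime
  rw [Set.not_subset] at havoid
  obtain ⟨h, hh0, hhM⟩ := havoid
  refine ⟨h, hh0, fun x hx hxh => ?_⟩
  apply (algHom_eq_of_ker_le _).symm
  by_contra hne
  have hxmax := ker_algHom_isMaximal x
  have hmem : RingHom.ker (x : A →+* ℂ) ∈ Mset := by
    refine ⟨hxmax, ?_, ?_⟩
    · rw [hJ₀, Ideal.map_le_iff_le_comap]
      intro p hp
      rw [Ideal.mem_comap, RingHom.mem_ker]
      change x (algebraMap P A p) = 0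
      rw [hx p]
      exact hp
    · intro heq
      apply hne
      rw [heq]
  apply hhM
  rw [Set.mem_iUnion₂]
  exact ⟨_, (Set.Finite.mem_toFinset hfin).mpr hmem, hxh⟩

end Separate

section Compact

open Filter Topology

variable {A : Type} [CommRing A] [Algebra ℂ A] [Algebra.FiniteType ℂ A]

/-- Bolzano–Weierstrass for `ℂ`-points of a finitely generated algebra. -/
theorem exists_subseq_tendsto (x : ℕ → (A →ₐ[ℂ] ℂ)) (hbdd : ∀ a : A, ∃ C : ℝ, ∀ n, ‖x n a‖ ≤ C) :
    ∃ (y : A →ₐ[ℂ] ℂ) (φ : ℕ → ℕ), StrictMono φ ∧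
      ∀ a, Tendsto (fun n => x (φ n) a) atTop (𝓝 (y a)) := by
  classical
  obtain ⟨k, f, hf⟩ := Algebra.FiniteType.iff_quotient_mvPolynomial''.mp
    (inferInstance : Algebra.FiniteType ℂ A)
  let w : ℕ → (Fin k → ℂ) := fun n j => x n (f (MvPolynomial.X j))
  have hxw : ∀ n (Q : MvPolynomial (Fin k) ℂ), x n (f Q) = MvPolynomial.eval (w n) Q := by
    intro n Q
    have h1 : (x n).comp f = MvPolynomial.aeval (w n) := by
      apply MvPolynomial.algHom_ext
      intro j
      simp [w]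
    have h2 := AlgHom.congr_fun h1 Q
    rw [AlgHom.comp_apply] at h2
    rw [h2]
    rfl
  choose C hC using fun j : Fin k => hbdd (f (MvPolynomial.X j))
  have hbd : ∀ n, w n ∈ Metric.closedBall (0 : Fin k → ℂ) (∑ j, |C j|) := by
    intro n
    rw [mem_closedBall_zero_iff, pi_norm_le_iff_of_nonneg (Finset.sum_nonneg fun j _ => abs_nonneg _)]
    intro j
    calc ‖w n j‖ ≤ C j := hC j n
      _ ≤ |C j| := le_abs_self _
      _ ≤ ∑ j, |C j| := Finset.single_le_sum (f := fun j => |C j|) (fun j _ => abs_nonneg _)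
          (Finset.mem_univ j)
  obtain ⟨w', -, φ, hφ, hlim⟩ := tendsto_subseq_of_bounded Metric.isBounded_closedBall hbd
  have hlimQ : ∀ Q : MvPolynomial (Fin k) ℂ,
      Tendsto (fun n => x (φ n) (f Q)) atTop (𝓝 (MvPolynomial.eval w' Q)) := by
    intro Q
    have h1 := ((MvPolynomial.continuous_eval Q).tendsto w').comp hlim
    refine h1.congr (fun n => ?_)
    exact (hxw (φ n) Q).symm
  have hker : ∀ Q : MvPolynomial (Fin k) ℂ, Q ∈ RingHom.ker (f : MvPolynomial (Fin k) ℂ →+* A) →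
      MvPolynomial.aeval w' Q = 0 := by
    intro Q hQ
    have h1 := hlimQ Q
    have h2 : (fun n => x (φ n) (f Q)) = fun _ => (0 : ℂ) := by
      funext n
      have : f Q = 0 := hQ
      rw [this, map_zero]
    rw [h2] at h1
    have h3 := tendsto_nhds_unique h1 tendsto_const_nhds
    exact h3
  let y : A →ₐ[ℂ] ℂ := (Ideal.Quotient.liftₐ (RingHom.ker (f : MvPolynomial (Fin k) ℂ →+* A))
    (MvPolynomial.aeval w') hker).comp (Ideal.quotientKerAlgEquivOfSurjective hf).symm.toAlgHom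
  have hy : ∀ Q, y (f Q) = MvPolynomial.eval w' Q := by
    intro Q
    have h1 : (Ideal.quotientKerAlgEquivOfSurjective hf).symm (f Q) =
        Ideal.Quotient.mk _ Q := by
      rw [AlgEquiv.symm_apply_eq]
      rfl
    change Ideal.Quotient.liftₐ _ (MvPolynomial.aeval w') hker
      ((Ideal.quotientKerAlgEquivOfSurjective hf).symm (f Q)) = _
    rw [h1]
    rfl
  refine ⟨y, φ, hφ, fun a => ?_⟩
  obtain ⟨Q, rfl⟩ := hf a
  rw [hy]
  exact hlimQ Q

end Compact

section Bounded

open Filter Topology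

/-- crude root bound for monic complex polynomials. -/
theorem norm_le_of_isRoot_monic (p : ℂ[X]) (hp : p.Monic) (z : ℂ) (hz : p.IsRoot z) :
    ‖z‖ ≤ 1 + ∑ i ∈ Finset.range p.natDegree, ‖p.coeff i‖ := by
  have h1 := Polynomial.IsRoot.norm_lt_cauchyBound hp.ne_zero hz
  have h2 : (Polynomial.cauchyBound p : ℝ) ≤ 1 + ∑ i ∈ Finset.range p.natDegree, ‖p.coeff i‖ := by
    unfold Polynomial.cauchyBound
    rw [hp.leadingCoeff, nnnorm_one, div_one]
    push_cast
    rw [add_comm]
    gcongr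
    have h3 : (Finset.range p.natDegree).sup (fun i => ‖p.coeff i‖₊) ≤
        ∑ i ∈ Finset.range p.natDegree, ‖p.coeff i‖₊ := by
      apply Finset.sup_le
      intro i hi
      exact Finset.single_le_sum (f := fun i => ‖p.coeff i‖₊) (fun _ _ => zero_le) hi
    have h5 : (((Finset.range p.natDegree).sup (fun i => ‖p.coeff i‖₊) : NNReal) : ℝ) ≤
        ((∑ i ∈ Finset.range p.natDegree, ‖p.coeff i‖₊ : NNReal) : ℝ) := NNReal.coe_le_coe.mpr h3
    rw [NNReal.coe_sum] at h5
    simpa using h5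
  have h4 : ‖z‖ < (Polynomial.cauchyBound p : ℝ) := by exact_mod_cast h1
  linarith

variable {d : ℕ} {A : Type} [CommRing A] [Algebra ℂ A] [Algebra (MvPolynomial (Fin d) ℂ) A]
  [Algebra.IsIntegral (MvPolynomial (Fin d) ℂ) A]

/-- points lying over a convergent sequence of `ℂ^d` are pointwise bounded. -/
theorem bounded_of_integral (v : ℕ → Fin d → ℂ) (v₀ : Fin d → ℂ) (hv : Tendsto v atTop (𝓝 v₀))
    (x : ℕ → (A →ₐ[ℂ] ℂ))
    (hx : ∀ n (p : MvPolynomial (Fin d) ℂ),
      x n (algebraMap (MvPolynomial (Fin d) ℂ) A p) = MvPolynomial.eval (v n) p) (a : A) :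
    ∃ C : ℝ, ∀ n, ‖x n a‖ ≤ C := by
  obtain ⟨M, hMmonic, hMroot⟩ := Algebra.IsIntegral.isIntegral (R := MvPolynomial (Fin d) ℂ) a
  let b : (Fin d → ℂ) → ℝ := fun u =>
    1 + ∑ i ∈ Finset.range M.natDegree, ‖MvPolynomial.eval u (M.coeff i)‖
  have hb : Continuous b := by
    apply continuous_const.add
    apply continuous_finset_sum
    intro i _
    exact (MvPolynomial.continuous_eval (M.coeff i)).norm
  have hlim : Tendsto (fun n => b (v n)) atTop (𝓝 (b v₀)) := (hb.tendsto v₀).comp hv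
  obtain ⟨C, hC⟩ := hlim.bddAbove_range
  refine ⟨C, fun n => ?_⟩
  have hCn : b (v n) ≤ C := hC ⟨n, rfl⟩
  refine le_trans ?_ hCn
  let t : MvPolynomial (Fin d) ℂ →+* ℂ := MvPolynomial.eval (v n)
  have hroot : (M.map t).IsRoot (x n a) := by
    rw [Polynomial.IsRoot.def, Polynomial.eval_map]
    have h1 : ((x n : A →+* ℂ)) (Polynomial.eval₂ (algebraMap (MvPolynomial (Fin d) ℂ) A) a M) = 0 := by
      rw [hMroot, map_zero]
    rw [Polynomial.hom_eval₂] at h1
    have h2 : (x n : A →+* ℂ).comp (algebraMap (MvPolynomial (Fin d) ℂ) A) = t :=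
      RingHom.ext (hx n)
    rw [h2] at h1
    exact h1
  have h3 := norm_le_of_isRoot_monic (M.map t) (hMmonic.map t) (x n a) hroot
  rw [hMmonic.natDegree_map] at h3
  simpa [b, Polynomial.coeff_map, t] using h3

end Bounded

section Main

open Filter Topology

/-- `a_n ^ m → 0` with `a_n ≥ 0` bounded by it, `m > 0`, gives `a_n → 0`. -/
theorem tendsto_zero_of_pow_le {a b : ℕ → ℝ} {m : ℕ} (hm : 0 < m) (ha : ∀ n, 0 ≤ a n)
    (hab : ∀ n, a n ^ m ≤ b n) (hb : Tendsto b atTop (𝓝 0)) : Tendsto a atTop (𝓝 0) := by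
  have hb0 : ∀ n, 0 ≤ b n := fun n => le_trans (pow_nonneg (ha n) m) (hab n)
  have h1 : Tendsto (fun n => b n ^ ((m : ℝ)⁻¹)) atTop (𝓝 (0 ^ ((m : ℝ)⁻¹))) :=
    ((Real.continuousAt_rpow_const 0 ((m : ℝ)⁻¹) (Or.inr (by positivity))).tendsto).comp hb
  rw [Real.zero_rpow (by positivity)] at h1
  refine squeeze_zero ha (fun n => ?_) h1
  calc a n = (a n ^ m) ^ ((m : ℝ)⁻¹) := (Real.pow_rpow_inv_natCast (ha n) hm.ne').symm
    _ ≤ b n ^ ((m : ℝ)⁻¹) := Real.rpow_le_rpow (pow_nonneg (ha n) m) (hab n) (by positivity)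

/-- **Key density lemma, ring level.** -/
theorem exists_seq_tendsto (A : Type) [CommRing A] [IsDomain A] [Algebra ℂ A]
    [Algebra.FiniteType ℂ A] (g : A) (hg : g ≠ 0) (x₀ : A →ₐ[ℂ] ℂ) :
    ∃ x : ℕ → (A →ₐ[ℂ] ℂ), (∀ n, x n g ≠ 0) ∧
      ∀ a : A, Tendsto (fun n => x n a) atTop (𝓝 (x₀ a)) := by
  obtain ⟨d, ι, hιinj, hιfin⟩ := exists_finite_inj_algHom_of_fg ℂ A
  letI : Algebra (MvPolynomial (Fin d) ℂ) A := ι.toRingHom.toAlgebra
  haveI : IsScalarTower ℂ (MvPolynomial (Fin d) ℂ) A :=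
    IsScalarTower.of_algebraMap_eq (fun c => (ι.commutes c).symm)
  haveI : Module.Finite (MvPolynomial (Fin d) ℂ) A := hιfin
  haveI : Algebra.IsIntegral (MvPolynomial (Fin d) ℂ) A := Algebra.IsIntegral.of_finite _ _
  haveI : Module.IsTorsionFree (MvPolynomial (Fin d) ℂ) A :=
    Module.isTorsionFree_iff_algebraMap_injective.mpr hιinj
  let v₀ : Fin d → ℂ := fun i => x₀ (algebraMap (MvPolynomial (Fin d) ℂ) A (MvPolynomial.X i))
  have hx₀ : ∀ p, x₀ (algebraMap (MvPolynomial (Fin d) ℂ) A p) = MvPolynomial.aeval v₀ p := by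
    have h1 : x₀.comp (IsScalarTower.toAlgHom ℂ (MvPolynomial (Fin d) ℂ) A) =
        MvPolynomial.aeval v₀ := by
      apply MvPolynomial.algHom_ext
      intro i
      simp [v₀]
    intro p
    exact AlgHom.congr_fun h1 p
  obtain ⟨h, hh0, hsep⟩ := exists_separating (MvPolynomial.aeval v₀) x₀ hx₀
  have hN := coeff_zero_minpoly_ne_zero (P := MvPolynomial (Fin d) ℂ) g hg
  obtain ⟨v, hvN, hv⟩ := exists_seq_eval_ne_zero _ hN v₀
  have hint : IsIntegral (MvPolynomial (Fin d) ℂ) h := Algebra.IsIntegral.isIntegral h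
  have hm : 0 < (minpoly (MvPolynomial (Fin d) ℂ) h).natDegree := minpoly.natDegree_pos hint
  have hmonic := minpoly.monic hint
  have hroot : ∀ n, ∃ z : ℂ,
      Polynomial.eval₂ ((MvPolynomial.aeval (v n) : MvPolynomial (Fin d) ℂ →ₐ[ℂ] ℂ) :
        MvPolynomial (Fin d) ℂ →+* ℂ) z (minpoly (MvPolynomial (Fin d) ℂ) h) = 0 ∧
      ‖z‖ ^ (minpoly (MvPolynomial (Fin d) ℂ) h).natDegree ≤
        ‖MvPolynomial.eval (v n) ((minpoly (MvPolynomial (Fin d) ℂ) h).coeff 0)‖ := by
    intro n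
    obtain ⟨z, hz, hzle⟩ := exists_root_norm_pow_le
      ((minpoly (MvPolynomial (Fin d) ℂ) h).map
        ((MvPolynomial.aeval (v n) : MvPolynomial (Fin d) ℂ →ₐ[ℂ] ℂ) : MvPolynomial (Fin d) ℂ →+* ℂ))
      (hmonic.map _) (by rw [hmonic.natDegree_map]; exact hm)
    refine ⟨z, ?_, ?_⟩
    · rwa [Polynomial.IsRoot.def, Polynomial.eval_map] at hz
    · rw [hmonic.natDegree_map, Polynomial.coeff_map] at hzle
      exact hzle
  choose z hz hzle using hroot
  have hlift : ∀ n, ∃ x : A →ₐ[ℂ] ℂ,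
      (∀ p, x (algebraMap (MvPolynomial (Fin d) ℂ) A p) = MvPolynomial.aeval (v n) p) ∧ x h = z n :=
    fun n => exists_lift_root (MvPolynomial.aeval (v n)) h (z n) (hz n)
  choose x hxt hxh using hlift
  have hxg : ∀ n, x n g ≠ 0 := fun n =>
    apply_ne_zero_of_coeff_ne_zero (x n) (MvPolynomial.aeval (v n)) (hxt n) g (hvN n)
  -- the constant term vanishes at `v₀`
  have hc0 : MvPolynomial.eval v₀ ((minpoly (MvPolynomial (Fin d) ℂ) h).coeff 0) = 0 := by
    have := eval₂_apply_of_aeval_eq_zero x₀ (MvPolynomial.aeval v₀) hx₀ h _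
      (minpoly.aeval (MvPolynomial (Fin d) ℂ) h)
    rw [hh0, Polynomial.eval₂_at_zero] at this
    exact this
  have hz0 : Tendsto z atTop (𝓝 0) := by
    rw [tendsto_zero_iff_norm_tendsto_zero]
    refine tendsto_zero_of_pow_le hm (fun n => norm_nonneg _) hzle ?_
    have h1 := (((MvPolynomial.continuous_eval
      ((minpoly (MvPolynomial (Fin d) ℂ) h).coeff 0)).tendsto v₀).comp hv).norm
    rw [hc0, norm_zero] at h1
    exact h1
  have hbdd : ∀ a : A, ∃ C : ℝ, ∀ n, ‖x n a‖ ≤ C :=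
    fun a => bounded_of_integral v v₀ hv x (fun n p => hxt n p) a
  obtain ⟨y, φ, hφ, hlim⟩ := exists_subseq_tendsto x hbdd
  have hy : y = x₀ := by
    apply hsep
    · intro p
      have h1 := hlim (algebraMap (MvPolynomial (Fin d) ℂ) A p)
      have h2 : Tendsto (fun n => x (φ n) (algebraMap (MvPolynomial (Fin d) ℂ) A p)) atTop
          (𝓝 (MvPolynomial.eval v₀ p)) := by
        have h3 := ((MvPolynomial.continuous_eval p).tendsto v₀).comp
          (hv.comp hφ.tendsto_atTop)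
        refine h3.congr (fun n => ?_)
        exact (hxt (φ n) p).symm
      exact tendsto_nhds_unique h1 h2
    · have h1 := hlim h
      have h2 : Tendsto (fun n => x (φ n) h) atTop (𝓝 0) := by
        refine (hz0.comp hφ.tendsto_atTop).congr (fun n => ?_)
        exact (hxh (φ n)).symm
      exact tendsto_nhds_unique h1 h2
  subst hy
  exact ⟨fun n => x (φ n), fun n => hxg (φ n), hlim⟩

end Main

section Prime

open Filter Topology

/-- **Key density lemma, ring level, along a prime.** -/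
theorem exists_seq_tendsto_of_prime (A : Type) [CommRing A] [Algebra ℂ A] [Algebra.FiniteType ℂ A]
    (𝔭 : Ideal A) [𝔭.IsPrime] (g : A) (hg : g ∉ 𝔭) (x₀ : A →ₐ[ℂ] ℂ)
    (hx₀ : 𝔭 ≤ RingHom.ker (x₀ : A →+* ℂ)) :
    ∃ x : ℕ → (A →ₐ[ℂ] ℂ), (∀ n, x n g ≠ 0) ∧ (∀ n, 𝔭 ≤ RingHom.ker (x n : A →+* ℂ)) ∧
      ∀ a : A, Tendsto (fun n => x n a) atTop (𝓝 (x₀ a)) := by
  have hker : ∀ a : A, a ∈ 𝔭 → x₀ a = 0 := fun a ha => hx₀ ha
  let y₀ : (A ⧸ 𝔭) →ₐ[ℂ] ℂ := Ideal.Quotient.liftₐ 𝔭 x₀ hker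
  have hg' : (Ideal.Quotient.mk 𝔭 g) ≠ 0 := by
    intro h
    exact hg (Ideal.Quotient.eq_zero_iff_mem.mp h)
  obtain ⟨y, hyg, hylim⟩ := exists_seq_tendsto (A ⧸ 𝔭) (Ideal.Quotient.mk 𝔭 g) hg' y₀
  refine ⟨fun n => (y n).comp (Ideal.Quotient.mkₐ ℂ 𝔭), fun n => hyg n, fun n a ha => ?_, fun a => ?_⟩
  · rw [RingHom.mem_ker]
    change y n (Ideal.Quotient.mk 𝔭 a) = 0
    rw [Ideal.Quotient.eq_zero_iff_mem.mpr ha, map_zero]
  · exact hylim (Ideal.Quotient.mk 𝔭 a)

end Prime

end Groth.Agent.Lib.H26AnDense
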