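import Mathlib
import Groth.Agent.Lib.AnPts
import Groth.Agent.Lib.ConstrTop
import Groth.Agent.Lib.H26AnDense

/-!
# Density of Zariski-dense opens in the complex topology, scheme level (helper26)

* `exists_mem_specializes`: in a Noetherian quasi-sober space every point of the closure of a
  constructible set is a specialization of a point of the set.
* `mem_closure_preimage_pt_of_isAffine` / `mem_closure_preimage_pt`: for `X` locally of finite type
  over `ℂ` and `T` locally constructible, a `ℂ`-point lying in the Zariski closure of `T` lies in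
  the closure (complex topology) of the `ℂ`-points of `T`.
-/

set_option autoImplicit false

open AlgebraicGeometry CategoryTheory TopologicalSpace Opposite An Topology

namespace Groth.Agent.Lib.H26AnDense2

section Top

variable {W : Type*} [TopologicalSpace W]

/-- In a Noetherian quasi-sober space, every point of the closure of a constructible set `E` is a
specialization of a point of `E`. -/
theorem exists_mem_specializes [NoetherianSpace W] [QuasiSober W]
    {E : Set W} (hE : IsConstructible E) {x : W} (hx : x ∈ closure E) :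
    ∃ η ∈ E, x ∈ closure ({η} : Set W) := by
  have key : ∀ C : Set W, IsClosed C → ∀ E : Set W, IsConstructible E → E ⊆ C →
      ∀ x ∈ closure E, ∃ η ∈ E, x ∈ closure ({η} : Set W) := by
    intro C hC
    refine ConstrTop.closed_induction (P := fun C => ∀ E : Set W, IsConstructible E → E ⊆ C →
      ∀ x ∈ closure E, ∃ η ∈ E, x ∈ closure ({η} : Set W)) ?_ ?_ ?_ C hC
    · intro E _ hEC x hx
      have : E = ∅ := Set.subset_empty_iff.mp hEC
      rw [this, closure_empty] at hx
      exact absurd hx (Set.notMem_empty x)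
    · intro Z₁ Z₂ hZ₁ hZ₂ h₁ h₂ E hE hEC x hx
      have hsplit : E = (E ∩ Z₁) ∪ (E ∩ Z₂) := by
        rw [← Set.inter_union_distrib_left]
        exact (Set.inter_eq_left.mpr hEC).symm
      rw [hsplit, closure_union] at hx
      rcases hx with hx | hx
      · obtain ⟨η, hη, hxη⟩ := h₁ (E ∩ Z₁)
          (hE.inter (ConstrTop.isConstructible_of_isClosed hZ₁)) Set.inter_subset_right x hx
        exact ⟨η, hη.1, hxη⟩
      · obtain ⟨η, hη, hxη⟩ := h₂ (E ∩ Z₂)
          (hE.inter (ConstrTop.isConstructible_of_isClosed hZ₂)) Set.inter_subset_right x hx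
        exact ⟨η, hη.1, hxη⟩
    · intro Z hZc hZ IH E hE hEZ x hx
      rcases ConstrTop.dichotomy hE hZ with ⟨U, hU, ⟨z, hzU, hzZ⟩, hUE⟩ | ⟨U, hU, ⟨z, hzU, hzZ⟩, hUE⟩
      · have hgen : closure ({hZ.genericPoint} : Set W) = Z := hZ.closure_genericPoint hZc
        have hηZ : hZ.genericPoint ∈ Z :=
          hgen.subset (subset_closure (Set.mem_singleton _))
        have hηU : hZ.genericPoint ∈ U := by
          have hz' : z ∈ closure ({hZ.genericPoint} : Set W) := hgen.symm.subset hzZ
          rw [mem_closure_iff] at hz'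
          obtain ⟨y, hyU, hy⟩ := hz' U hU hzU
          rw [Set.mem_singleton_iff] at hy
          rwa [hy] at hyU
        refine ⟨hZ.genericPoint, hUE ⟨hηU, hηZ⟩, ?_⟩
        exact hgen.symm.subset ((closure_minimal hEZ hZc) hx)
      · have hEZ' : E ⊆ Z \ U := by
          intro e he
          refine ⟨hEZ he, fun heU => ?_⟩
          exact hUE ⟨heU, hEZ he⟩ he
        have hlt : Z \ U ⊂ Z := by
          refine ⟨Set.diff_subset, fun h => ?_⟩
          exact (h hzZ).2 hzU
        exact IH (Z \ U) (hZc.sdiff hU) hlt E hE hEZ' x hx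
  exact key Set.univ isClosed_univ E hE (Set.subset_univ _) x hx

end Top

section Affine

open Groth.Agent.Lib.AnPts Filter

variable {X : Scheme.{0}} [X.Over SC]

/-- the `ℂ`-algebra homomorphism attached to a `ℂ`-point of an affine scheme. -/
noncomputable def toAlgHom (x : Pts X) :
    letI : Algebra ℂ Γ(X, ⊤) := (strHom X).toAlgebra
    Γ(X, ⊤) →ₐ[ℂ] ℂ :=
  letI : Algebra ℂ Γ(X, ⊤) := (strHom X).toAlgebra
  { toRingHom := evHom x ⊤ (Opens.mem_top _)
    commutes' := fun c => ev_strHom x c }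

theorem toAlgHom_apply (x : Pts X) (f : Γ(X, ⊤)) :
    letI : Algebra ℂ Γ(X, ⊤) := (strHom X).toAlgebra
    toAlgHom x f = x.evTop f := rfl

/-- **Density lemma, affine case.** -/
theorem mem_closure_preimage_pt_of_isAffine [IsAffine X] [LocallyOfFiniteType (X ↘ SC)]
    {E : Set X} (hE : IsConstructible E) (x₀ : Pts X) (hx₀ : x₀.pt ∈ closure E) :
    x₀ ∈ closure (Pts.pt ⁻¹' E : Set (Pts X)) := by
  have : IsLocallyNoetherian X := LocallyOfFiniteType.isLocallyNoetherian (X ↘ SC)
  have : IsNoetherian X := {}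
  obtain ⟨η, hηE, hxη⟩ := exists_mem_specializes hE hx₀
  -- an open `U ∋ η` with `U ∩ closure {η} ⊆ E`
  have hd : closure ({η} : Set X) ⊆ closure (E ∩ closure ({η} : Set X)) :=
    closure_mono (by
      intro w hw
      rw [Set.mem_singleton_iff] at hw
      subst hw
      exact ⟨hηE, subset_closure (Set.mem_singleton _)⟩)
  obtain ⟨U, hU, ⟨z, hzU, hzη⟩, hUE⟩ :=
    ConstrTop.exists_open_of_subset_closure hE isIrreducible_singleton.closure hd
  have hηU : η ∈ U := by
    rw [mem_closure_iff] at hzη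
    obtain ⟨y, hyU, hy⟩ := hzη U hU hzU
    rw [Set.mem_singleton_iff] at hy
    rwa [hy] at hyU
  -- a basic open
  have hηU' : η ∈ (⟨U, hU⟩ : X.Opens) := hηU
  obtain ⟨_, ⟨g, rfl⟩, hηg, hgU⟩ := Opens.isBasis_iff_nbhd.mp (isBasis_basicOpen X) hηU'
  -- the prime ideal of `η`
  letI : Algebra ℂ Γ(X, ⊤) := (strHom X).toAlgebra
  haveI : Algebra.FiniteType ℂ Γ(X, ⊤) := strHom_finiteType_of_isAffine
  let 𝔭 : Ideal Γ(X, ⊤) := RingHom.ker (X.evaluation ⊤ η (Opens.mem_top _)).hom
  haveI : 𝔭.IsPrime := RingHom.ker_isPrime _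
  have hmem𝔭 : ∀ f : Γ(X, ⊤), f ∈ 𝔭 ↔ η ∉ X.basicOpen f := fun f =>
    X.evaluation_eq_zero_iff_notMem_basicOpen η (Opens.mem_top _) f
  have hg𝔭 : g ∉ 𝔭 := by
    rw [hmem𝔭]
    exact not_not.mpr hηg
  have hspec : ∀ y : Pts X, y.pt ∈ closure ({η} : Set X) ↔
      𝔭 ≤ RingHom.ker (toAlgHom y : Γ(X, ⊤) →+* ℂ) := by
    intro y
    constructor
    · intro hy f hf
      rw [RingHom.mem_ker]
      change y.evTop f = 0
      by_contra hne
      have h1 : y.pt ∈ X.basicOpen f := (pt_mem_basicOpen_iff y ⊤ (Opens.mem_top _) f).2 hne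
      rw [mem_closure_iff] at hy
      obtain ⟨w, hw, hwη⟩ := hy _ (X.basicOpen f).isOpen h1
      rw [Set.mem_singleton_iff] at hwη
      rw [hwη] at hw
      exact (hmem𝔭 f).mp hf hw
    · intro hy
      rw [mem_closure_iff]
      intro W hW hyW
      have hyW' : y.pt ∈ (⟨W, hW⟩ : X.Opens) := hyW
      obtain ⟨_, ⟨f, rfl⟩, hyf, hfW⟩ := Opens.isBasis_iff_nbhd.mp (isBasis_basicOpen X) hyW'
      have h1 : y.evTop f ≠ 0 := (pt_mem_basicOpen_iff y ⊤ (Opens.mem_top _) f).1 hyf
      have h2 : f ∉ 𝔭 := fun hf => h1 (hy hf)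
      rw [hmem𝔭, not_not] at h2
      exact ⟨η, hfW h2, Set.mem_singleton _⟩
  obtain ⟨x, hxg, hx𝔭, hxlim⟩ := H26AnDense.exists_seq_tendsto_of_prime Γ(X, ⊤) 𝔭 g hg𝔭
    (toAlgHom x₀) ((hspec x₀).mp hxη)
  -- back to points
  let y : ℕ → Pts X := fun n => ofRingHom (x n : Γ(X, ⊤) →+* ℂ) (fun c => (x n).commutes c)
  have hyev : ∀ n f, (y n).evTop f = x n f := fun n f => evTop_ofRingHom _ _ f
  have hymem : ∀ n, y n ∈ (Pts.pt ⁻¹' E : Set (Pts X)) := by
    intro n
    apply hUE
    constructor
    · apply hgU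
      rw [pt_mem_basicOpen_iff (y n) ⊤ (Opens.mem_top _) g]
      change (y n).evTop g ≠ 0
      rw [hyev]
      exact hxg n
    · rw [hspec]
      intro f hf
      rw [RingHom.mem_ker]
      change (y n).evTop f = 0
      rw [hyev]
      exact hx𝔭 n hf
  have hylim : Tendsto y atTop (𝓝 x₀) := by
    rw [(isInducing_evAll (X := X)).tendsto_nhds_iff, tendsto_pi_nhds]
    intro f
    change Tendsto (fun n => (y n).evTop f) atTop (𝓝 (x₀.evTop f))
    simp_rw [hyev]
    exact hxlim f
  exact mem_closure_of_tendsto hylim (Eventually.of_forall hymem)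

end Affine

section General

open Groth.Agent.Lib.AnPts Filter

variable {X : Scheme.{0}} [X.Over SC]

/-- **Density lemma (K).** For `X` locally of finite type over `ℂ` and `T ⊆ X` locally
constructible, a `ℂ`-point lying in the Zariski closure of `T` lies in the closure, for the complex
topology, of the `ℂ`-points lying in `T`. -/
theorem mem_closure_preimage_pt [LocallyOfFiniteType (X ↘ SC)] {T : Set X}
    (hT : IsLocallyConstructible T) (x₀ : Pts X) (hx₀ : x₀.pt ∈ closure T) :
    x₀ ∈ closure (Pts.pt ⁻¹' T : Set (Pts X)) := by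
  obtain ⟨W, hW, x₀', rfl⟩ := exists_affine_lift x₀
  have : IsAffine (W : Scheme.{0}) := hW
  have hE : IsConstructible (W.ι ⁻¹' T : Set (W : Scheme.{0})) :=
    (hT.preimage_of_isOpenEmbedding W.ι.isOpenEmbedding).isConstructible
  have hpt : (Pts.map W.ι x₀').pt = W.ι x₀'.pt := Pts.pt_map W.ι x₀'
  have hcl : x₀'.pt ∈ closure (W.ι ⁻¹' T : Set (W : Scheme.{0})) := by
    rw [W.ι.isOpenEmbedding.isInducing.closure_eq_preimage_closure_image, Set.mem_preimage,
      Set.image_preimage_eq_inter_range]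
    rw [hpt] at hx₀
    have hopen : IsOpen (Set.range W.ι) := W.ι.isOpenEmbedding.isOpen_range
    have h1 := hopen.inter_closure (t := T) ⟨Set.mem_range_self x₀'.pt, hx₀⟩
    rwa [Set.inter_comm] at h1
  have h2 := mem_closure_preimage_pt_of_isAffine hE x₀' hcl
  have h3 : Pts.map W.ι x₀' ∈ closure (Pts.map W.ι '' (Pts.pt ⁻¹' (W.ι ⁻¹' T))) :=
    image_closure_subset_closure_image (Pts.continuous_map W.ι) ⟨x₀', h2, rfl⟩
  refine closure_mono ?_ h3
  rintro _ ⟨y, hy, rfl⟩
  rw [Set.mem_preimage, Pts.pt_map]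
  exact hy

/-- `pt⁻¹ (closure T) = closure (pt⁻¹ T)` for `T` locally constructible. -/
theorem preimage_pt_closure [LocallyOfFiniteType (X ↘ SC)] {T : Set X}
    (hT : IsLocallyConstructible T) :
    (Pts.pt ⁻¹' closure T : Set (Pts X)) = closure (Pts.pt ⁻¹' T) := by
  apply Set.Subset.antisymm
  · intro x hx
    exact mem_closure_preimage_pt hT x hx
  · exact Pts.continuous_pt.closure_preimage_subset T

end General

end Groth.Agent.Lib.H26AnDense2
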