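import Mathlib
import Groth.Agent.Lib.AnPts
import Groth.Agent.Lib.ConstrTop
import Groth.Agent.Lib.H26AnDense2

/-!
# Consequences of the density lemma (helper26)

For `X` locally of finite type over `ℂ` and `T ⊆ X` locally constructible:
* `isOpen_iff_isOpen_preimage_pt` : `T` open iff `T(ℂ)` open;
* `dense_iff_dense_preimage_pt` : `T` dense iff `T(ℂ)` dense;
* `denseRange_iff` : a quasi-compact `f` is dominant iff `X(ℂ) → Y(ℂ)` has dense image.
-/

set_option autoImplicit false

open AlgebraicGeometry CategoryTheory TopologicalSpace Opposite An Topology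

namespace Groth.Agent.Lib.H26AnDense3

open Groth.Agent.Lib.AnPts Groth.Agent.Lib.H26AnDense2

variable {X : Scheme.{0}} [X.Over SC]

/-- a nonempty locally constructible subset contains the underlying point of a `ℂ`-point. -/
theorem exists_pt_mem_of_isLocallyConstructible [LocallyOfFiniteType (X ↘ SC)] {S : Set X}
    (hS : IsLocallyConstructible S) (hne : S.Nonempty) : ∃ y : Pts X, y.pt ∈ S := by
  obtain ⟨s, hs⟩ := hne
  obtain ⟨W, hW, hsW, -⟩ := exists_isAffineOpen_mem_and_subset (x := s) (U := ⊤) trivial
  have : IsAffine (W : Scheme.{0}) := hW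
  have hE : IsConstructible (W.ι ⁻¹' S : Set (W : Scheme.{0})) :=
    (hS.preimage_of_isOpenEmbedding W.ι.isOpenEmbedding).isConstructible
  have : JacobsonSpace (W : Scheme.{0}) :=
    LocallyOfFiniteType.jacobsonSpace ((W : Scheme.{0}) ↘ SC)
  obtain ⟨p, hpE, hpc⟩ := exists_closedPoint_of_isConstructible hE ⟨⟨s, hsW⟩, hs⟩
  refine ⟨Pts.map W.ι (ofClosedPoint p hpc), ?_⟩
  rw [Pts.pt_map, pt_ofClosedPoint]
  exact hpE

/-- closed subsets of a scheme locally of finite type over `ℂ` are locally constructible. -/
theorem isLocallyConstructible_of_isClosed [LocallyOfFiniteType (X ↘ SC)] {Z : Set X}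
    (hZ : IsClosed Z) : IsLocallyConstructible Z := by
  intro x
  obtain ⟨W, hW, hxW, -⟩ := exists_isAffineOpen_mem_and_subset (x := x) (U := ⊤) trivial
  have : IsAffine (W : Scheme.{0}) := hW
  have : IsLocallyNoetherian (W : Scheme.{0}) :=
    LocallyOfFiniteType.isLocallyNoetherian ((W : Scheme.{0}) ↘ SC)
  have : IsNoetherian (W : Scheme.{0}) := {}
  refine ⟨(W : Set X), W.isOpen.mem_nhds hxW, W.isOpen, ?_⟩
  have hN : NoetherianSpace (W : Scheme.{0}) := inferInstance
  have hN' : NoetherianSpace (W : Set X) := hN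
  exact ConstrTop.isConstructible_of_isClosed (hZ.preimage continuous_subtype_val)


/-- complements of locally constructible sets are locally constructible. -/
theorem isLocallyConstructible_compl {W : Type*} [TopologicalSpace W] {s : Set W}
    (hs : IsLocallyConstructible s) : IsLocallyConstructible sᶜ := by
  intro x
  obtain ⟨U, hU, hUo, hc⟩ := hs x
  exact ⟨U, hU, hUo, by rw [Set.preimage_compl]; exact hc.compl⟩

/-- `T` locally constructible: `T` is open iff `T(ℂ)` is open. -/
theorem isOpen_iff_isOpen_preimage_pt [LocallyOfFiniteType (X ↘ SC)] {T : Set X}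
    (hT : IsLocallyConstructible T) :
    IsOpen T ↔ IsOpen (Pts.pt ⁻¹' T : Set (Pts X)) := by
  constructor
  · intro h
    exact h.preimage Pts.continuous_pt
  · intro h
    by_contra hno
    have hne : (T ∩ closure Tᶜ).Nonempty := by
      by_contra hemp
      apply hno
      rw [Set.not_nonempty_iff_eq_empty] at hemp
      have hsub : T ⊆ interior T := by
        intro t ht
        have h1 : interior T = (closure Tᶜ)ᶜ := by
          rw [closure_compl, compl_compl]
        rw [h1]
        intro htc
        have : t ∈ (T ∩ closure Tᶜ) := ⟨ht, htc⟩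
        rw [hemp] at this
        exact this
      exact (subset_interior_iff_isOpen.mp hsub)
    have hS : IsLocallyConstructible (T ∩ closure Tᶜ) :=
      hT.inter (isLocallyConstructible_of_isClosed isClosed_closure)
    obtain ⟨y, hyT, hyc⟩ := exists_pt_mem_of_isLocallyConstructible hS hne
    have hy2 : y ∈ closure (Pts.pt ⁻¹' Tᶜ : Set (Pts X)) := by
      rw [← preimage_pt_closure (isLocallyConstructible_compl hT)]
      exact hyc
    rw [mem_closure_iff] at hy2
    obtain ⟨z, hz1, hz2⟩ := hy2 _ h hyT
    exact hz2 hz1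

/-- `T` locally constructible: `T` is dense iff `T(ℂ)` is dense. -/
theorem dense_iff_dense_preimage_pt [LocallyOfFiniteType (X ↘ SC)] {T : Set X}
    (hT : IsLocallyConstructible T) :
    Dense T ↔ Dense (Pts.pt ⁻¹' T : Set (Pts X)) := by
  constructor
  · intro h
    rw [dense_iff_closure_eq, ← preimage_pt_closure hT, h.closure_eq, Set.preimage_univ]
  · intro h
    rw [dense_iff_closure_eq]
    by_contra hne
    have hne' : (closure T)ᶜ.Nonempty := by
      rw [Set.nonempty_compl]
      exact hne
    obtain ⟨y, hy⟩ := exists_pt_mem_of_isLocallyConstructible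
      (isLocallyConstructible_compl
        (isLocallyConstructible_of_isClosed (isClosed_closure (s := T)))) hne'
    apply hy
    have : y ∈ (Pts.pt ⁻¹' closure T : Set (Pts X)) := by
      rw [preimage_pt_closure hT, h.closure_eq]
      trivial
    exact this

variable {Y : Scheme.{0}} [Y.Over SC]

/-- a `ℂ`-point of `Y` whose underlying point lies in the image of `f` lifts to a `ℂ`-point
of `X`. -/
theorem exists_map_eq_of_pt_mem_range (f : X ⟶ Y) [f.IsOver SC]
    [LocallyOfFiniteType (X ↘ SC)] (y : Pts Y) (hy : y.pt ∈ Set.range f) :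
    ∃ x : Pts X, Pts.map f x = y := by
  obtain ⟨x₀, hx₀⟩ := hy
  obtain ⟨z₀, -, -⟩ := Scheme.Pullback.exists_preimage_pullback (f := f) (g := y.1) x₀ cpt hx₀
  have : LocallyOfFiniteType f := locallyOfFiniteType_of_isOver f
  let inst : (Limits.pullback f y.1).Over SC := ⟨Limits.pullback.snd f y.1⟩
  have : LocallyOfFiniteType ((Limits.pullback f y.1) ↘ SC) :=
    inferInstanceAs (LocallyOfFiniteType (Limits.pullback.snd f y.1))
  have : Nonempty ↥(Limits.pullback f y.1 : Scheme.{0}) := ⟨z₀⟩
  obtain ⟨z⟩ := nonempty_pts (X := Limits.pullback f y.1)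
  have hz : z.1 ≫ Limits.pullback.snd f y.1 = 𝟙 SC := z.2
  refine ⟨⟨z.1 ≫ Limits.pullback.fst f y.1, ?_⟩, ?_⟩
  · rw [← comp_over f SC, Category.assoc, Limits.pullback.condition_assoc, reassoc_of% hz]
    exact y.2
  · apply Subtype.ext
    change (z.1 ≫ Limits.pullback.fst f y.1) ≫ f = y.1
    rw [Category.assoc, Limits.pullback.condition, reassoc_of% hz]

/-- the image of `X(ℂ) → Y(ℂ)` is the set of `ℂ`-points lying in the image of `f`. -/
theorem range_map_eq_preimage_pt (f : X ⟶ Y) [f.IsOver SC] [LocallyOfFiniteType (X ↘ SC)] :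
    Set.range (Pts.map f) = (Pts.pt ⁻¹' Set.range f : Set (Pts Y)) := by
  apply Set.Subset.antisymm
  · rintro _ ⟨x, rfl⟩
    rw [Set.mem_preimage, Pts.pt_map]
    exact Set.mem_range_self _
  · intro y hy
    exact exists_map_eq_of_pt_mem_range f y hy

/-- a quasi-compact morphism is dominant iff `X(ℂ) → Y(ℂ)` has dense image. -/
theorem denseRange_iff (f : X ⟶ Y) [f.IsOver SC] [LocallyOfFiniteType (X ↘ SC)]
    [LocallyOfFiniteType (Y ↘ SC)] [QuasiCompact f] :
    DenseRange f.base ↔ DenseRange (Pts.map f) := by
  have : LocallyOfFiniteType f := locallyOfFiniteType_of_isOver f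
  have : IsLocallyNoetherian Y := LocallyOfFiniteType.isLocallyNoetherian (Y ↘ SC)
  have hT : IsLocallyConstructible (Set.range f) := by
    rw [← Set.image_univ]
    exact f.isLocallyConstructible_image IsConstructible.univ.isLocallyConstructible
  unfold DenseRange
  rw [range_map_eq_preimage_pt]
  exact dense_iff_dense_preimage_pt hT

end Groth.Agent.Lib.H26AnDense3
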