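import Mathlib
import Groth.Agent.Lib.AnPts

/-!
# `ℂ`-points of fibre products (helper26)

`(X ×_S Y)(ℂ) → X(ℂ) ×_{S(ℂ)} Y(ℂ)` is a homeomorphism for the complex topologies.

* `isInducing_of_local` : a continuous map which is locally (in a suitable sense) inducing is
  inducing.
* `closure_range_eq_top` : for affine `X, Y, S`, `Γ(X ×_S Y)` is generated by the pullbacks of
  sections of `X` and `Y`.
* `isInducing_prodMap` : `(X ×_S Y)(ℂ) → X(ℂ) × Y(ℂ)` is inducing.
* `isHomeomorph_pullback` : the homeomorphism statement.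
-/

set_option autoImplicit false

open AlgebraicGeometry CategoryTheory TopologicalSpace Opposite An Topology

namespace Groth.Agent.Lib.H26AnProd

open Groth.Agent.Lib.AnPts

section Top

/-- A continuous map `Ψ` such that every point `z` has a "chart" `j : Z' → Z` with `Ψ ∘ j`
inducing, whose image contains the preimage of an open neighbourhood of `Ψ z`, is inducing. -/
theorem isInducing_of_local {Z A : Type} [TopologicalSpace Z] [TopologicalSpace A] (Ψ : Z → A)
    (hΨ : Continuous Ψ)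
    (h : ∀ z : Z, ∃ (Z' : Type) (_ : TopologicalSpace Z') (j : Z' → Z) (M : Set A),
      Continuous j ∧ IsOpen M ∧ Ψ z ∈ M ∧ Ψ ⁻¹' M ⊆ Set.range j ∧ IsInducing (Ψ ∘ j)) :
    IsInducing Ψ := by
  rw [isInducing_iff_nhds]
  intro z
  apply le_antisymm
  · exact hΨ.continuousAt.tendsto.le_comap
  · obtain ⟨Z', _, j, M, hj, hM, hzM, hsub, hind⟩ := h z
    obtain ⟨z', rfl⟩ := hsub hzM
    intro O hO
    have h1 : j ⁻¹' O ∈ 𝓝 z' := hj.continuousAt hO
    rw [hind.nhds_eq_comap] at h1
    obtain ⟨Q, hQ, hQsub⟩ := h1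
    refine ⟨Q ∩ M, Filter.inter_mem hQ (hM.mem_nhds hzM), ?_⟩
    intro w hw
    obtain ⟨w', rfl⟩ := hsub hw.2
    exact hQsub hw.1

end Top

section Affine

variable {X Y S : Scheme.{0}} [X.Over SC] [Y.Over SC] [S.Over SC]
  (f : X ⟶ S) (g : Y ⟶ S) [f.IsOver SC] [g.IsOver SC]

/-- the canonical map `(X ×_S Y)(ℂ) → X(ℂ) × Y(ℂ)`. -/
noncomputable def prodMap (z : Pts (Limits.pullback f g)) : Pts X × Pts Y :=
  (Pts.map (Limits.pullback.fst f g) z, Pts.map (Limits.pullback.snd f g) z)

lemma continuous_prodMap : Continuous (prodMap f g) :=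
  (Pts.continuous_map _).prodMk (Pts.continuous_map _)

/-- sections of `X ×_S Y` (all affine) are generated by pullbacks of sections of `X` and `Y`. -/
theorem closure_range_eq_top [IsAffine X] [IsAffine Y] [IsAffine S] :
    Subring.closure (Set.range (Limits.pullback.fst f g).appTop.hom ∪
      Set.range (Limits.pullback.snd f g).appTop.hom) = ⊤ := by
  have hpo := isPushout_appTop_of_isPullback (IsPullback.of_hasPullback f g)
  set C' := Subring.closure (Set.range (Limits.pullback.fst f g).appTop.hom ∪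
      Set.range (Limits.pullback.snd f g).appTop.hom) with hC'
  let a : Γ(X, ⊤) ⟶ CommRingCat.of C' :=
    CommRingCat.ofHom ((Limits.pullback.fst f g).appTop.hom.codRestrict C'
      (fun x => Subring.subset_closure (Or.inl ⟨x, rfl⟩)))
  let b : Γ(Y, ⊤) ⟶ CommRingCat.of C' :=
    CommRingCat.ofHom ((Limits.pullback.snd f g).appTop.hom.codRestrict C'
      (fun x => Subring.subset_closure (Or.inr ⟨x, rfl⟩)))
  have hab : f.appTop ≫ a = g.appTop ≫ b := by
    ext r
    exact congr($(hpo.w) r)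
  let d := hpo.desc a b hab
  have hd : d ≫ CommRingCat.ofHom C'.subtype = 𝟙 _ := by
    apply hpo.hom_ext
    · rw [← Category.assoc, hpo.inl_desc, Category.comp_id]
      rfl
    · rw [← Category.assoc, hpo.inr_desc, Category.comp_id]
      rfl
  rw [eq_top_iff]
  intro t _
  have h1 := congr($hd t)
  have h2 : ((d t : C') : Γ(Limits.pullback f g, ⊤)) = t := h1
  rw [← h2]
  exact (d t).2

/-- the value of a section of `X ×_S Y` at a `ℂ`-point is a continuous function of the two
projections of the point (`X`, `Y`, `S` affine). -/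
theorem exists_continuous_factor [IsAffine X] [IsAffine Y] [IsAffine S]
    (t : Γ(Limits.pullback f g, ⊤)) :
    ∃ F : Pts X × Pts Y → ℂ, Continuous F ∧
      ∀ z : Pts (Limits.pullback f g), z.evTop t = F (prodMap f g z) := by
  have ht : t ∈ Subring.closure (Set.range (Limits.pullback.fst f g).appTop.hom ∪
      Set.range (Limits.pullback.snd f g).appTop.hom) := by
    rw [closure_range_eq_top]
    trivial
  induction ht using Subring.closure_induction with
  | mem x hx =>
    rcases hx with ⟨a, rfl⟩ | ⟨b, rfl⟩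
    · exact ⟨fun q => q.1.evTop a, (continuous_evTop a).comp continuous_fst,
        fun z => (evTop_map _ z a).symm⟩
    · exact ⟨fun q => q.2.evTop b, (continuous_evTop b).comp continuous_snd,
        fun z => (evTop_map _ z b).symm⟩
  | zero => exact ⟨fun _ => 0, continuous_const, fun z => ev_zero z ⊤ _⟩
  | one => exact ⟨fun _ => 1, continuous_const, fun z => ev_one z ⊤ _⟩
  | add x y _ _ hx hy =>
    obtain ⟨F, hF, hFz⟩ := hx
    obtain ⟨G, hG, hGz⟩ := hy
    refine ⟨fun q => F q + G q, hF.add hG, fun z => ?_⟩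
    change _ = F (prodMap f g z) + G (prodMap f g z)
    rw [← hFz, ← hGz]
    exact ev_add z ⊤ _ x y
  | neg x _ hx =>
    obtain ⟨F, hF, hFz⟩ := hx
    refine ⟨fun q => - F q, hF.neg, fun z => ?_⟩
    change _ = - F (prodMap f g z)
    rw [← hFz]
    exact map_neg (evHom z ⊤ (Opens.mem_top _)) x
  | mul x y _ _ hx hy =>
    obtain ⟨F, hF, hFz⟩ := hx
    obtain ⟨G, hG, hGz⟩ := hy
    refine ⟨fun q => F q * G q, hF.mul hG, fun z => ?_⟩
    change _ = F (prodMap f g z) * G (prodMap f g z)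
    rw [← hFz, ← hGz]
    exact ev_mul z ⊤ _ x y

/-- affine case: `(X ×_S Y)(ℂ) → X(ℂ) × Y(ℂ)` is inducing. -/
theorem isInducing_prodMap_of_isAffine [IsAffine X] [IsAffine Y] [IsAffine S] :
    IsInducing (prodMap f g) := by
  choose F hF hFz using exists_continuous_factor f g
  have h1 : evAll (Limits.pullback f g) = (fun q t => F t q) ∘ prodMap f g := by
    funext z t
    exact hFz t z
  have h2 : Continuous (fun (q : Pts X × Pts Y) (t : Γ(Limits.pullback f g, ⊤)) => F t q) :=
    continuous_pi (fun t => hF t)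
  have h3 : IsInducing ((fun q t => F t q) ∘ prodMap f g) := h1 ▸ isInducing_evAll
  exact IsInducing.of_comp (continuous_prodMap f g) h2 h3

end Affine

section General

variable {X Y S : Scheme.{0}} [X.Over SC] [Y.Over SC] [S.Over SC]
  (f : X ⟶ S) (g : Y ⟶ S) [f.IsOver SC] [g.IsOver SC]

instance resLE_isOver (W : S.Opens) (U : X.Opens) (h : U ≤ f ⁻¹ᵁ W) :
    (f.resLE W U h).IsOver SC :=
  ⟨by
    change f.resLE W U h ≫ W.ι ≫ (S ↘ SC) = U.ι ≫ (X ↘ SC)
    rw [← Category.assoc, Scheme.Hom.resLE_comp_ι, Category.assoc, comp_over]⟩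

/-- the open immersion `U ×_W V → X ×_S Y`. -/
noncomputable def pullbackResLE (W : S.Opens) (U : X.Opens) (V : Y.Opens) (hU : U ≤ f ⁻¹ᵁ W)
    (hV : V ≤ g ⁻¹ᵁ W) :
    Limits.pullback (f.resLE W U hU) (g.resLE W V hV) ⟶ Limits.pullback f g :=
  Limits.pullback.lift (Limits.pullback.fst _ _ ≫ U.ι) (Limits.pullback.snd _ _ ≫ V.ι) (by
    rw [Category.assoc, Category.assoc, ← Scheme.Hom.resLE_comp_ι f hU,
      ← Scheme.Hom.resLE_comp_ι g hV, Limits.pullback.condition_assoc])

instance pullbackResLE_isOver (W : S.Opens) (U : X.Opens) (V : Y.Opens) (hU : U ≤ f ⁻¹ᵁ W)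
    (hV : V ≤ g ⁻¹ᵁ W) : (pullbackResLE f g W U V hU hV).IsOver SC :=
  ⟨by
    change pullbackResLE f g W U V hU hV ≫ Limits.pullback.fst f g ≫ (X ↘ SC) =
      Limits.pullback.fst _ _ ≫ U.ι ≫ (X ↘ SC)
    unfold pullbackResLE
    rw [Limits.pullback.lift_fst_assoc, Category.assoc]⟩

lemma prodMap_map_pullbackResLE (W : S.Opens) (U : X.Opens) (V : Y.Opens) (hU : U ≤ f ⁻¹ᵁ W)
    (hV : V ≤ g ⁻¹ᵁ W) :
    prodMap f g ∘ Pts.map (pullbackResLE f g W U V hU hV) =
      Prod.map (Pts.map U.ι) (Pts.map V.ι) ∘ prodMap (f.resLE W U hU) (g.resLE W V hV) := by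
  funext w
  apply Prod.ext
  · apply Subtype.ext
    change (w.1 ≫ pullbackResLE f g W U V hU hV) ≫ Limits.pullback.fst f g =
      (w.1 ≫ Limits.pullback.fst _ _) ≫ U.ι
    unfold pullbackResLE
    rw [Category.assoc, Limits.pullback.lift_fst, Category.assoc]
  · apply Subtype.ext
    change (w.1 ≫ pullbackResLE f g W U V hU hV) ≫ Limits.pullback.snd f g =
      (w.1 ≫ Limits.pullback.snd _ _) ≫ V.ι
    unfold pullbackResLE
    rw [Category.assoc, Limits.pullback.lift_snd, Category.assoc]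

lemma preimage_subset_range_map_pullbackResLE (W : S.Opens) (U : X.Opens) (V : Y.Opens)
    (hU : U ≤ f ⁻¹ᵁ W) (hV : V ≤ g ⁻¹ᵁ W) :
    prodMap f g ⁻¹' ((Pts.pt ⁻¹' (U : Set X)) ×ˢ (Pts.pt ⁻¹' (V : Set Y))) ⊆
      Set.range (Pts.map (pullbackResLE f g W U V hU hV)) := by
  rintro w ⟨hw1, hw2⟩
  have h1 : Pts.map (Limits.pullback.fst f g) w ∈ Set.range (Pts.map U.ι) := by
    rw [range_map_ι]
    exact hw1
  have h2 : Pts.map (Limits.pullback.snd f g) w ∈ Set.range (Pts.map V.ι) := by
    rw [range_map_ι]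
    exact hw2
  obtain ⟨x', hx'⟩ := h1
  obtain ⟨y', hy'⟩ := h2
  have hx'' : x'.1 ≫ U.ι = w.1 ≫ Limits.pullback.fst f g := congrArg Subtype.val hx'
  have hy'' : y'.1 ≫ V.ι = w.1 ≫ Limits.pullback.snd f g := congrArg Subtype.val hy'
  have hcond : x'.1 ≫ f.resLE W U hU = y'.1 ≫ g.resLE W V hV := by
    rw [← cancel_mono W.ι, Category.assoc, Category.assoc, Scheme.Hom.resLE_comp_ι,
      Scheme.Hom.resLE_comp_ι, ← Category.assoc, ← Category.assoc, hx'', hy'', Category.assoc,
      Category.assoc, Limits.pullback.condition]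
  refine ⟨⟨Limits.pullback.lift x'.1 y'.1 hcond, ?_⟩, ?_⟩
  · change Limits.pullback.lift x'.1 y'.1 hcond ≫ Limits.pullback.fst _ _ ≫
      ((U : Scheme.{0}) ↘ SC) = 𝟙 SC
    rw [Limits.pullback.lift_fst_assoc]
    exact x'.2
  · apply Subtype.ext
    change Limits.pullback.lift x'.1 y'.1 hcond ≫ pullbackResLE f g W U V hU hV = w.1
    unfold pullbackResLE
    apply Limits.pullback.hom_ext
    · rw [Category.assoc, Limits.pullback.lift_fst, Limits.pullback.lift_fst_assoc, hx'']
    · rw [Category.assoc, Limits.pullback.lift_snd, Limits.pullback.lift_snd_assoc, hy'']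

/-- `(X ×_S Y)(ℂ) → X(ℂ) × Y(ℂ)` is inducing. -/
theorem isInducing_prodMap : IsInducing (prodMap f g) := by
  refine isInducing_of_local _ (continuous_prodMap f g) ?_
  intro z
  obtain ⟨W, hW, hsW, -⟩ := exists_isAffineOpen_mem_and_subset
    (x := f (Pts.map (Limits.pullback.fst f g) z).pt) (U := ⊤) trivial
  have hzS : g (Pts.map (Limits.pullback.snd f g) z).pt =
      f (Pts.map (Limits.pullback.fst f g) z).pt := by
    rw [← Pts.pt_map, ← Pts.pt_map, Pts.map_pullback_condition]
  obtain ⟨U, hU, hxU, hUW⟩ := exists_isAffineOpen_mem_and_subset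
    (x := (Pts.map (Limits.pullback.fst f g) z).pt) (U := f ⁻¹ᵁ W) hsW
  obtain ⟨V, hV, hyV, hVW⟩ := exists_isAffineOpen_mem_and_subset
    (x := (Pts.map (Limits.pullback.snd f g) z).pt) (U := g ⁻¹ᵁ W) (by
      change g _ ∈ W
      rw [hzS]
      exact hsW)
  have : IsAffine (W : Scheme.{0}) := hW
  have : IsAffine (U : Scheme.{0}) := hU
  have : IsAffine (V : Scheme.{0}) := hV
  have hU' : U ≤ f ⁻¹ᵁ W := hUW
  have hV' : V ≤ g ⁻¹ᵁ W := hVW
  refine ⟨Pts (Limits.pullback (f.resLE W U hU') (g.resLE W V hV')), inferInstance,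
    Pts.map (pullbackResLE f g W U V hU' hV'),
    (Pts.pt ⁻¹' (U : Set X)) ×ˢ (Pts.pt ⁻¹' (V : Set Y)), Pts.continuous_map _,
    (Pts.isOpen_preimage_pt U).prod (Pts.isOpen_preimage_pt V), ⟨hxU, hyV⟩,
    preimage_subset_range_map_pullbackResLE f g W U V hU' hV', ?_⟩
  rw [prodMap_map_pullbackResLE]
  exact ((isOpenEmbedding_map_of_isOpenImmersion U.ι).isInducing.prodMap
    (isOpenEmbedding_map_of_isOpenImmersion V.ι).isInducing).comp
    (isInducing_prodMap_of_isAffine _ _)

/-- **Compatibility of `ℂ`-points with fibre products**: `(X ×_S Y)(ℂ) → X(ℂ) ×_{S(ℂ)} Y(ℂ)` is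
a homeomorphism. -/
theorem isHomeomorph_pullback :
    IsHomeomorph (fun z : Pts (Limits.pullback f g) =>
      (⟨(Pts.map (Limits.pullback.fst f g) z, Pts.map (Limits.pullback.snd f g) z),
        Pts.map_pullback_condition f g z⟩ :
        {q : Pts X × Pts Y // Pts.map f q.1 = Pts.map g q.2})) := by
  rw [isHomeomorph_iff_isEmbedding_surjective]
  refine ⟨⟨?_, ?_⟩, ?_⟩
  · rw [← IsInducing.subtypeVal.of_comp_iff]
    exact isInducing_prodMap f g
  · intro z z' h
    have h1 : Pts.map (Limits.pullback.fst f g) z = Pts.map (Limits.pullback.fst f g) z' :=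
      congrArg (fun q => q.1.1) h
    have h2 : Pts.map (Limits.pullback.snd f g) z = Pts.map (Limits.pullback.snd f g) z' :=
      congrArg (fun q => q.1.2) h
    apply Subtype.ext
    apply Limits.pullback.hom_ext
    · exact congrArg Subtype.val h1
    · exact congrArg Subtype.val h2
  · rintro ⟨⟨x, y⟩, h⟩
    have h' : x.1 ≫ f = y.1 ≫ g := congrArg Subtype.val h
    refine ⟨⟨Limits.pullback.lift x.1 y.1 h', ?_⟩, ?_⟩
    · change Limits.pullback.lift x.1 y.1 h' ≫ Limits.pullback.fst f g ≫ (X ↘ SC) = 𝟙 SC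
      rw [Limits.pullback.lift_fst_assoc]
      exact x.2
    · apply Subtype.ext
      apply Prod.ext
      · apply Subtype.ext
        change Limits.pullback.lift x.1 y.1 h' ≫ Limits.pullback.fst f g = x.1
        exact Limits.pullback.lift_fst _ _ _
      · apply Subtype.ext
        change Limits.pullback.lift x.1 y.1 h' ≫ Limits.pullback.snd f g = y.1
        exact Limits.pullback.lift_snd _ _ _

end General

end Groth.Agent.Lib.H26AnProd
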