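import Mathlib
import Groth.Prelude.Def_AnEps
import Groth.Agent.Lib.AnPts
import Groth.Agent.Lib.H26AnProd
import Groth.Agent.Lib.H26AnDense3

/-!
# The comparison functor `ε : X_et → X(ℂ)_cl` is a morphism of sites (helper26)

* `isHomeomorph_of_isPullback` : `ℂ`-points of a cartesian square.
* `exists_lift` : weak pullback lifting for `eps X`.
* `representablyFlat_eps` : `eps X` is representably flat.
* `coverPreserving_eps`, `epsCont` : `eps X` is continuous.
-/

set_option autoImplicit false

open AlgebraicGeometry CategoryTheory CategoryTheory.Limits TopologicalSpace Opposite An Topology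

namespace Groth.Agent.Lib.H26AnEps

open Groth.Agent.Lib.AnPts Groth.Agent.Lib.H26AnProd

section IsPullback

variable {P Q X Y S : Scheme.{0}} [P.Over SC] [Q.Over SC] [X.Over SC] [Y.Over SC] [S.Over SC]

/-- an isomorphism over `ℂ` induces a homeomorphism on `ℂ`-points. -/
theorem isHomeomorph_map_of_iso (e : P ≅ Q) [e.hom.IsOver SC] : IsHomeomorph (Pts.map e.hom) := by
  haveI : e.inv.IsOver SC := ⟨by rw [Iso.inv_comp_eq, comp_over]⟩
  rw [isHomeomorph_iff_exists_inverse]
  refine ⟨Pts.continuous_map _, Pts.map e.inv, ?_, ?_, Pts.continuous_map _⟩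
  · intro z
    apply Subtype.ext
    change (z.1 ≫ e.hom) ≫ e.inv = z.1
    rw [Category.assoc, Iso.hom_inv_id, Category.comp_id]
  · intro z
    apply Subtype.ext
    change (z.1 ≫ e.inv) ≫ e.hom = z.1
    rw [Category.assoc, Iso.inv_hom_id, Category.comp_id]

lemma map_condition_of_isPullback (fst : P ⟶ X) (snd : P ⟶ Y) (f : X ⟶ S) (g : Y ⟶ S)
    [fst.IsOver SC] [snd.IsOver SC] [f.IsOver SC] [g.IsOver SC] (h : fst ≫ f = snd ≫ g)
    (z : Pts P) : Pts.map f (Pts.map fst z) = Pts.map g (Pts.map snd z) :=
  Subtype.ext (by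
    change (z.1 ≫ fst) ≫ f = (z.1 ≫ snd) ≫ g
    rw [Category.assoc, Category.assoc, h])

/-- `ℂ`-points of a cartesian square of schemes over `ℂ`. -/
theorem isHomeomorph_of_isPullback (fst : P ⟶ X) (snd : P ⟶ Y) (f : X ⟶ S) (g : Y ⟶ S)
    [fst.IsOver SC] [snd.IsOver SC] [f.IsOver SC] [g.IsOver SC] (h : IsPullback fst snd f g) :
    IsHomeomorph (fun z : Pts P =>
      (⟨(Pts.map fst z, Pts.map snd z), map_condition_of_isPullback fst snd f g h.w z⟩ :
        {q : Pts X × Pts Y // Pts.map f q.1 = Pts.map g q.2})) := by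
  haveI : h.isoPullback.hom.IsOver SC :=
    ⟨by
      change h.isoPullback.hom ≫ Limits.pullback.fst f g ≫ (X ↘ SC) = P ↘ SC
      rw [IsPullback.isoPullback_hom_fst_assoc, comp_over]⟩
  have h1 := isHomeomorph_map_of_iso h.isoPullback
  have h2 := isHomeomorph_pullback f g
  have hcomp : (fun z : Pts P =>
      (⟨(Pts.map fst z, Pts.map snd z), map_condition_of_isPullback fst snd f g h.w z⟩ :
        {q : Pts X × Pts Y // Pts.map f q.1 = Pts.map g q.2})) =
      (fun z : Pts (Limits.pullback f g) =>
      (⟨(Pts.map (Limits.pullback.fst f g) z, Pts.map (Limits.pullback.snd f g) z),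
        Pts.map_pullback_condition f g z⟩ :
        {q : Pts X × Pts Y // Pts.map f q.1 = Pts.map g q.2})) ∘ Pts.map h.isoPullback.hom := by
    funext z
    apply Subtype.ext
    apply Prod.ext
    · apply Subtype.ext
      change z.1 ≫ fst = (z.1 ≫ h.isoPullback.hom) ≫ Limits.pullback.fst f g
      rw [Category.assoc, IsPullback.isoPullback_hom_fst]
    · apply Subtype.ext
      change z.1 ≫ snd = (z.1 ≫ h.isoPullback.hom) ≫ Limits.pullback.snd f g
      rw [Category.assoc, IsPullback.isoPullback_hom_snd]
  rw [hcomp]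
  exact h2.comp h1

end IsPullback

section Eps

variable (X : Scheme.{0}) [X.Over SC] [LocallyOfFiniteType (X ↘ SC)] [Fact EtaleLH]

/-- the underlying square of schemes of a pullback in the small étale site is cartesian. -/
lemma isPullback_left {U V W : X.Etale} (f : U ⟶ W) (g : V ⟶ W) :
    IsPullback (pullback.fst f g).left (pullback.snd f g).left f.left g.left :=
  (IsPullback.of_hasPullback f g).map (Scheme.Etale.forget X ⋙ Over.forget X)

lemma eps_map_toFun {U V : X.Etale} (f : U ⟶ V) (z : Pts U.left) :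
    ((eps X).map f).toFun z = Pts.map (X := U.left) (Y := V.left) f.left z := rfl

/-- morphisms into `ε(U ×_W V)` are determined by their two projections. -/
lemma hom_ext_pullback {U V W : X.Etale} (f : U ⟶ W) (g : V ⟶ W) {A : Cl (Pts X)}
    (c₁ c₂ : A ⟶ (eps X).obj (pullback f g))
    (h1 : c₁ ≫ (eps X).map (pullback.fst f g) = c₂ ≫ (eps X).map (pullback.fst f g))
    (h2 : c₁ ≫ (eps X).map (pullback.snd f g) = c₂ ≫ (eps X).map (pullback.snd f g)) :
    c₁ = c₂ := by
  apply Cl.hom_ext
  funext t
  have e1 := congrArg Subtype.val (congrFun (congrArg Cl.Hom.toFun h1) t)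
  have e2 := congrArg Subtype.val (congrFun (congrArg Cl.Hom.toFun h2) t)
  apply Subtype.ext
  exact (isPullback_left X f g).hom_ext e1 e2

/-- weak pullback lifting property of `ε`. -/
theorem exists_lift {U V W : X.Etale} (f : U ⟶ W) (g : V ⟶ W) {A : Cl (Pts X)}
    (a : A ⟶ (eps X).obj U) (b : A ⟶ (eps X).obj V)
    (h : a ≫ (eps X).map f = b ≫ (eps X).map g) :
    ∃ c : A ⟶ (eps X).obj (pullback f g),
      c ≫ (eps X).map (pullback.fst f g) = a ∧ c ≫ (eps X).map (pullback.snd f g) = b := by
  have hpb := isPullback_left X f g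
  have hΦ := isHomeomorph_of_isPullback _ _ _ _ hpb
  have hab : ∀ t : A.E, Pts.map (X := U.left) (Y := W.left) f.left (a.toFun t) =
      Pts.map (X := V.left) (Y := W.left) g.left (b.toFun t) :=
    fun t => congrFun (congrArg Cl.Hom.toFun h) t
  let q : A.E → {q : Pts U.left × Pts V.left //
      Pts.map (X := U.left) (Y := W.left) f.left q.1 =
        Pts.map (X := V.left) (Y := W.left) g.left q.2} :=
    fun t => ⟨(a.toFun t, b.toFun t), hab t⟩
  have hq : Continuous q := Continuous.subtype_mk (a.continuous.prodMk b.continuous) _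
  let c₀ : A.E → Pts (pullback f g).left := fun t => hΦ.homeomorph.symm (q t)
  have hc₀ : Continuous c₀ := hΦ.homeomorph.symm.continuous.comp hq
  have hc : ∀ t, (⟨(Pts.map (X := (pullback f g).left) (Y := U.left) (pullback.fst f g).left (c₀ t),
      Pts.map (X := (pullback f g).left) (Y := V.left) (pullback.snd f g).left (c₀ t)), _⟩ :
      {q : Pts U.left × Pts V.left //
      Pts.map (X := U.left) (Y := W.left) f.left q.1 =
        Pts.map (X := V.left) (Y := W.left) g.left q.2}) = q t :=
    fun t => hΦ.homeomorph.apply_symm_apply (q t)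
  have hc1 : ∀ t, Pts.map (X := (pullback f g).left) (Y := U.left) (pullback.fst f g).left (c₀ t) =
      a.toFun t := fun t => congrArg (fun q => q.1.1) (hc t)
  have hc2 : ∀ t, Pts.map (X := (pullback f g).left) (Y := V.left) (pullback.snd f g).left (c₀ t) =
      b.toFun t := fun t => congrArg (fun q => q.1.2) (hc t)
  refine ⟨⟨c₀, hc₀, ?_⟩, ?_, ?_⟩
  · intro t
    rw [← a.over t]
    apply Subtype.ext
    have e1 : (c₀ t).1 ≫ (pullback.fst f g).left = (a.toFun t).1 := congrArg Subtype.val (hc1 t)
    change (c₀ t).1 ≫ (pullback f g).hom = (a.toFun t).1 ≫ U.hom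
    rw [← e1, Category.assoc]
    congr 1
    exact (Over.w (pullback.fst f g).hom).symm
  · apply Cl.hom_ext
    funext t
    exact hc1 t
  · apply Cl.hom_ext
    funext t
    exact hc2 t

/-- the morphism from an étale `X`-scheme to `X` itself. -/
noncomputable def toTop (U : X.Etale) : U ⟶ EtCoh.top X :=
  MorphismProperty.Over.homMk U.hom (Category.comp_id _) trivial

lemma hom_top_ext {U : X.Etale} (k₁ k₂ : U ⟶ EtCoh.top X) : k₁ = k₂ := by
  apply MorphismProperty.Over.Hom.ext
  have h1 : k₁.left ≫ 𝟙 X = U.hom := Over.w k₁.hom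
  have h2 : k₂.left ≫ 𝟙 X = U.hom := Over.w k₂.hom
  exact ((Category.comp_id _).symm.trans h1).trans (((Category.comp_id _).symm.trans h2).symm)

/-- morphisms into `ε(X)` are unique. -/
lemma hom_eps_top_ext {A : Cl (Pts X)} (c₁ c₂ : A ⟶ (eps X).obj (EtCoh.top X)) : c₁ = c₂ := by
  apply Cl.hom_ext
  funext t
  have e1 := congrArg Subtype.val ((c₁.over t).trans (c₂.over t).symm)
  apply Subtype.ext
  change (c₁.toFun t).1 ≫ 𝟙 X = (c₂.toFun t).1 ≫ 𝟙 X at e1
  exact ((Category.comp_id _).symm.trans e1).trans (Category.comp_id _)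

/-- the morphism from any object of the classical site to `ε(X)`. -/
noncomputable def toEpsTop (A : Cl (Pts X)) : A ⟶ (eps X).obj (EtCoh.top X) :=
  ⟨fun t => ⟨(A.p t).1, by
      change (A.p t).1 ≫ 𝟙 X ≫ (X ↘ SC) = 𝟙 SC
      rw [Category.id_comp]
      exact (A.p t).2⟩,
    (Pts.cast _ _ (over_top_eq X).symm).continuous.comp A.lh.continuous,
    fun t => Subtype.ext (by
      change (A.p t).1 ≫ 𝟙 X = (A.p t).1
      exact Category.comp_id _)⟩

instance isCofiltered_structuredArrow (A : Cl (Pts X)) :
    IsCofiltered (StructuredArrow A (eps X)) where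
  nonempty := ⟨StructuredArrow.mk (toEpsTop X A)⟩
  cone_objs S T := by
    obtain ⟨c, hc1, hc2⟩ := exists_lift X (toTop X S.right) (toTop X T.right) S.hom T.hom
      (hom_eps_top_ext X _ _)
    exact ⟨StructuredArrow.mk c, StructuredArrow.homMk (pullback.fst _ _) hc1,
      StructuredArrow.homMk (pullback.snd _ _) hc2, trivial⟩
  cone_maps S T φ ψ := by
    -- the diagonal of `T.right` and the pair `(φ, ψ)`
    let V2 := pullback (toTop X T.right) (toTop X T.right)
    let d : T.right ⟶ V2 := pullback.lift (𝟙 _) (𝟙 _) rfl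
    let pq : S.right ⟶ V2 := pullback.lift φ.right ψ.right (hom_top_ext X _ _)
    have hφ : S.hom ≫ (eps X).map φ.right = T.hom := StructuredArrow.w φ
    have hψ : S.hom ≫ (eps X).map ψ.right = T.hom := StructuredArrow.w ψ
    have hcompat : S.hom ≫ (eps X).map pq = T.hom ≫ (eps X).map d := by
      apply hom_ext_pullback
      · rw [Category.assoc, Category.assoc, ← Functor.map_comp, ← Functor.map_comp,
          pullback.lift_fst, pullback.lift_fst, hφ, CategoryTheory.Functor.map_id, Category.comp_id]
      · rw [Category.assoc, Category.assoc, ← Functor.map_comp, ← Functor.map_comp,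
          pullback.lift_snd, pullback.lift_snd, hψ, CategoryTheory.Functor.map_id, Category.comp_id]
    obtain ⟨c, hc1, hc2⟩ := exists_lift X pq d S.hom T.hom hcompat
    refine ⟨StructuredArrow.mk c, StructuredArrow.homMk (pullback.fst pq d) hc1, ?_⟩
    apply StructuredArrow.hom_ext
    change pullback.fst pq d ≫ φ.right = pullback.fst pq d ≫ ψ.right
    have e1 : pullback.fst pq d ≫ φ.right = pullback.snd pq d := by
      have : pq ≫ pullback.fst _ _ = φ.right := pullback.lift_fst _ _ _
      rw [← this, ← Category.assoc, pullback.condition, Category.assoc]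
      have : d ≫ pullback.fst _ _ = 𝟙 _ := pullback.lift_fst _ _ _
      rw [this, Category.comp_id]
    have e2 : pullback.fst pq d ≫ ψ.right = pullback.snd pq d := by
      have : pq ≫ pullback.snd _ _ = ψ.right := pullback.lift_snd _ _ _
      rw [← this, ← Category.assoc, pullback.condition, Category.assoc]
      have : d ≫ pullback.snd _ _ = 𝟙 _ := pullback.lift_snd _ _ _
      rw [this, Category.comp_id]
    rw [e1, e2]

instance representablyFlat_eps : RepresentablyFlat (eps X) := ⟨inferInstance⟩

set_option backward.isDefEq.respectTransparency.types false in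
/-- `ε` sends étale coverings to coverings of the classical site. -/
theorem coverPreserving_eps :
    CoverPreserving X.smallEtaleTopology (Cl.topology (Pts X)) (eps X) := by
  constructor
  intro U S hS
  have eX : X.smallEtaleTopology =
      (X.smallPretopology (P := @Etale) (Q := @Etale)).toGrothendieck :=
    Scheme.smallGrothendieckTopology_eq_toGrothendieck_smallPretopology X le_rfl
  rw [eX] at hS
  replace hS := (Scheme.mem_toGrothendieck_smallPretopology U S).1 hS
  intro a
  have a' : Pts U.left := a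
  obtain ⟨V, g, v, hg, -, hv⟩ := hS (Pts.pt (X := U.left) a)
  have : LocallyOfFiniteType (V.left ↘ SC) :=
    inferInstanceAs (LocallyOfFiniteType ((V.left ↘ X) ≫ X ↘ SC))
  have : LocallyOfFiniteType (U.left ↘ SC) :=
    inferInstanceAs (LocallyOfFiniteType ((U.left ↘ X) ≫ X ↘ SC))
  obtain ⟨b, hb⟩ := H26AnDense3.exists_map_eq_of_pt_mem_range (X := V.left) (Y := U.left)
    g.left a ⟨v, hv⟩
  have hlh : IsLocalHomeomorph (Pts.map (X := V.left) (Y := U.left) g.left) :=
    (Fact.out : EtaleLH) V.left U.left g.left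
  obtain ⟨e, hbe, hfe⟩ := hlh b
  have hemb : IsOpenEmbedding (e.source.restrict (Pts.map (X := V.left) (Y := U.left) g.left)) := by
    rw [hfe]
    exact e.isOpenEmbedding_restrict
  refine ⟨Cl.restrictOpen ((eps X).obj V) e.source e.open_source,
    Cl.restrictOpenι ((eps X).obj V) e.source e.open_source ≫ (eps X).map g, ?_, hemb, ?_⟩
  · exact (S.functorPushforward (eps X)).downward_closed
      (Sieve.image_mem_functorPushforward _ _ hg) _
  · exact ⟨⟨b, hbe⟩, hb⟩

/-- **`ε` is continuous** for the étale and classical topologies. -/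
theorem epsCont : EpsCont X :=
  Functor.isContinuous_of_coverPreserving (compatiblePreservingOfFlat _ _)
    (coverPreserving_eps X)

end Eps

end Groth.Agent.Lib.H26AnEps
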