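import Mathlib
import Groth.Prelude.Def_AnEps
import Groth.Agent.Lib.H26AnEps
import Groth.Agent.S0101

/-!
# Exactness of `ε^*` (helper26)
-/

set_option autoImplicit false

open AlgebraicGeometry CategoryTheory CategoryTheory.Limits TopologicalSpace Opposite An Topology

namespace Groth.Agent.Lib.H26AnEps2

open Groth.Agent.Lib.H26AnEps

variable (X : Scheme.{0}) [X.Over SC] [LocallyOfFiniteType (X ↘ SC)] [Fact EtaleLH] [EpsCont X]

/-- `ε^*` is exact. -/
theorem preservesFiniteLimits_epsPull : PreservesFiniteLimits (epsPull X) := by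
  have hAB : AB5OfSize.{0, 1} AddCommGrpCat.{1} :=
    AB5OfSize_of_univLE.{0, 1, 1, 1} AddCommGrpCat.{1}
  have hfilt : ∀ K : (Cl (Pts X))ᵒᵖ, IsFiltered (CostructuredArrow (eps X).op K) := fun K =>
    IsFiltered.of_equivalence (structuredArrowOpEquivalence (eps X) (unop K))
  have : PreservesFiniteLimits ((eps X).op.lan :
      ((X.Etale)ᵒᵖ ⥤ AddCommGrpCat.{1}) ⥤ (Cl (Pts X))ᵒᵖ ⥤ AddCommGrpCat.{1}) :=
    Groth.Agent.S0101.lan_preservesFiniteLimits_of_flat' _ (eps X)
  exact Functor.sheafPullbackConstruction.preservesFiniteLimits (eps X) AddCommGrpCat.{1}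
    X.smallEtaleTopology (Cl.topology (Pts X))

end Groth.Agent.Lib.H26AnEps2
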