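import Mathlib

/-!
# Continuity of simple roots of monic polynomials (helper26)

Implicit function theorem for the universal monic polynomial
`F(c, t) = t^d + ∑ c_i t^i` on `ℂ^d × ℂ`, and the consequence: for a continuous family of monic
polynomials over a space `B`, the projection from the space of simple roots to `B` is a local
homeomorphism.
-/

set_option autoImplicit false

open Topology Filter Polynomial

namespace Groth.Agent.Lib.H26Roots

variable (d : ℕ)

/-- the universal monic polynomial function. -/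
def F (p : (Fin d → ℂ) × ℂ) : ℂ := p.2 ^ d + ∑ i : Fin d, p.1 i * p.2 ^ (i : ℕ)

/-- the monic polynomial with given lower coefficients. -/
noncomputable def poly (c : Fin d → ℂ) : ℂ[X] := X ^ d + ∑ i : Fin d, C (c i) * X ^ (i : ℕ)

lemma eval_poly (c : Fin d → ℂ) (t : ℂ) : (poly d c).eval t = F d (c, t) := by
  simp [poly, F, eval_finset_sum]

lemma contDiff_F : ContDiff ℂ ⊤ (F d) := by
  unfold F
  fun_prop

variable {d}

/-- the partial derivative in `t` of the universal polynomial is the derivative of the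
polynomial. -/
lemma fderiv_F_apply (c₀ : Fin d → ℂ) (t₀ : ℂ) :
    fderiv ℂ (F d) (c₀, t₀) (0, 1) = (poly d c₀).derivative.eval t₀ := by
  have hF : HasFDerivAt (F d) (fderiv ℂ (F d) (c₀, t₀)) (c₀, t₀) :=
    ((contDiff_F d).differentiable (by simp)).differentiableAt.hasFDerivAt
  have hι : HasFDerivAt (fun t : ℂ => ((c₀, t) : (Fin d → ℂ) × ℂ))
      (ContinuousLinearMap.inr ℂ (Fin d → ℂ) ℂ) t₀ :=
    (hasFDerivAt_const c₀ t₀).prodMk (hasFDerivAt_id t₀)
  have h1 : HasFDerivAt (fun t : ℂ => F d (c₀, t))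
      ((fderiv ℂ (F d) (c₀, t₀)).comp (ContinuousLinearMap.inr ℂ (Fin d → ℂ) ℂ)) t₀ :=
    hF.comp t₀ hι
  have h2 : HasDerivAt (fun t : ℂ => F d (c₀, t)) ((poly d c₀).derivative.eval t₀) t₀ := by
    have := (poly d c₀).hasDerivAt t₀
    simpa only [eval_poly] using this
  have h3 := h1.hasDerivAt.unique h2
  simpa using h3

/-- **Implicit function theorem for simple roots**, universal form. -/
theorem exists_local_root (c₀ : Fin d → ℂ) (t₀ : ℂ) (h0 : F d (c₀, t₀) = 0)
    (h1 : (poly d c₀).derivative.eval t₀ ≠ 0) :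
    ∃ (S : Set ((Fin d → ℂ) × ℂ)) (N : Set (Fin d → ℂ)) (ρ : (Fin d → ℂ) → ℂ),
      IsOpen S ∧ (c₀, t₀) ∈ S ∧ IsOpen N ∧ c₀ ∈ N ∧ ContinuousOn ρ N ∧
      (∀ c ∈ N, (c, ρ c) ∈ S ∧ F d (c, ρ c) = 0) ∧
      (∀ c t, (c, t) ∈ S → F d (c, t) = 0 → c ∈ N ∧ t = ρ c) := by
  set p₀ : (Fin d → ℂ) × ℂ := (c₀, t₀) with hp₀
  set DF := fderiv ℂ (F d) p₀ with hDF
  have hF : HasStrictFDerivAt (F d) DF p₀ :=
    (contDiff_F d).contDiffAt.hasStrictFDerivAt (by simp)
  have hb : DF (0, 1) = (poly d c₀).derivative.eval t₀ := fderiv_F_apply c₀ t₀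
  -- the map `Ψ(c, t) = (c, F(c, t))` and its derivative
  let Ψ : (Fin d → ℂ) × ℂ → (Fin d → ℂ) × ℂ := fun p => (p.1, F d p)
  let Ψ' : (Fin d → ℂ) × ℂ →L[ℂ] (Fin d → ℂ) × ℂ :=
    (ContinuousLinearMap.fst ℂ (Fin d → ℂ) ℂ).prod DF
  have hΨ : HasStrictFDerivAt Ψ Ψ' p₀ := hasStrictFDerivAt_fst.prodMk hF
  have hinj : Function.Injective (Ψ' : (Fin d → ℂ) × ℂ →ₗ[ℂ] (Fin d → ℂ) × ℂ) := by
    rw [← LinearMap.ker_eq_bot, LinearMap.ker_eq_bot']
    rintro ⟨v, w⟩ hvw
    have hv : v = 0 := congrArg Prod.fst hvw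
    have hw : DF (v, w) = 0 := congrArg Prod.snd hvw
    subst hv
    have : ((0 : Fin d → ℂ), w) = w • ((0 : Fin d → ℂ), (1 : ℂ)) := by
      ext <;> simp
    rw [this, map_smul, hb, smul_eq_mul, mul_eq_zero] at hw
    rcases hw with hw | hw
    · rw [hw]
      rfl
    · exact absurd hw h1
  let e₀ : ((Fin d → ℂ) × ℂ) ≃L[ℂ] ((Fin d → ℂ) × ℂ) :=
    (LinearEquiv.ofInjectiveEndo (Ψ' : (Fin d → ℂ) × ℂ →ₗ[ℂ] (Fin d → ℂ) × ℂ)
      hinj).toContinuousLinearEquiv
  have he₀ : (e₀ : (Fin d → ℂ) × ℂ →L[ℂ] (Fin d → ℂ) × ℂ) = Ψ' := by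
    ext x <;> rfl
  have hΨ' : HasStrictFDerivAt Ψ (e₀ : (Fin d → ℂ) × ℂ →L[ℂ] (Fin d → ℂ) × ℂ) p₀ := by
    rw [he₀]
    exact hΨ
  let e := hΨ'.toOpenPartialHomeomorph Ψ
  have hecoe : ∀ p, e p = Ψ p := fun p => rfl
  have hp₀S : p₀ ∈ e.source := hΨ'.mem_toOpenPartialHomeomorph_source
  refine ⟨e.source, {c | (c, (0 : ℂ)) ∈ e.target}, fun c => (e.symm (c, 0)).2, e.open_source, hp₀S,
    e.open_target.preimage (continuous_id.prodMk continuous_const), ?_, ?_, ?_, ?_⟩
  · have : e p₀ ∈ e.target := e.map_source hp₀S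
    rw [hecoe] at this
    change (c₀, F d (c₀, t₀)) ∈ e.target at this
    rw [h0] at this
    exact this
  · refine continuous_snd.comp_continuousOn (e.continuousOn_symm.comp ?_ ?_)
    · exact (continuous_id.prodMk continuous_const).continuousOn
    · intro c hc
      exact hc
  · intro c hc
    have hq : e.symm (c, 0) ∈ e.source := e.map_target hc
    have hq2 : e (e.symm (c, 0)) = (c, 0) := e.right_inv hc
    rw [hecoe] at hq2
    have h1 : (e.symm (c, 0)).1 = c := congrArg Prod.fst hq2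
    have h2 : F d (e.symm (c, 0)) = 0 := congrArg Prod.snd hq2
    have h3 : (c, (e.symm (c, 0)).2) = e.symm (c, 0) := Prod.ext h1.symm rfl
    rw [h3]
    exact ⟨hq, h2⟩
  · intro c t hS hF0
    have h1 : e (c, t) = (c, 0) := by
      rw [hecoe]
      exact Prod.ext rfl hF0
    have h2 : (c, (0 : ℂ)) ∈ e.target := h1 ▸ e.map_source hS
    refine ⟨h2, ?_⟩
    have h3 : e.symm (c, 0) = (c, t) := by
      rw [← h1]
      exact e.left_inv hS
    change t = (e.symm (c, 0)).2
    rw [h3]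

/-- a continuous map with a continuous inverse defined on an open subset containing its image
is an open embedding. -/
theorem isOpenEmbedding_of_section {U B : Type*} [TopologicalSpace U] [TopologicalSpace B]
    (f : U → B) (hf : Continuous f) (B' : Set B) (hB' : IsOpen B') (σ : B' → U)
    (hσ : Continuous σ) (h1 : ∀ u, ∃ hb : f u ∈ B', σ ⟨f u, hb⟩ = u)
    (h2 : ∀ b : B', f (σ b) = b) : IsOpenEmbedding f := by
  refine IsOpenEmbedding.of_continuous_injective_isOpenMap hf ?_ ?_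
  · intro u u' h
    obtain ⟨hb, hu⟩ := h1 u
    obtain ⟨hb', hu'⟩ := h1 u'
    rw [← hu, ← hu']
    congr 1
    exact Subtype.ext h
  · intro O hO
    have : f '' O = Subtype.val '' (σ ⁻¹' O) := by
      ext b
      constructor
      · rintro ⟨u, hu, rfl⟩
        obtain ⟨hb, hσu⟩ := h1 u
        exact ⟨⟨f u, hb⟩, by rw [Set.mem_preimage, hσu]; exact hu, rfl⟩
      · rintro ⟨b', hb', rfl⟩
        exact ⟨σ b', hb', h2 b'⟩
    rw [this]
    exact hB'.isOpenMap_subtype_val _ (hO.preimage hσ)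

/-- **Continuity of simple roots.** For a continuous family `c : B → ℂ^d` of monic polynomials
and an open subset `W` of `B × ℂ` on which all roots are simple, the projection from the space of
roots lying in `W` to `B` is a local homeomorphism. -/
theorem isLocalHomeomorph_fst {B : Type*} [TopologicalSpace B] (c : B → Fin d → ℂ)
    (hc : Continuous c) (W : Set (B × ℂ)) (hW : IsOpen W)
    (hsimple : ∀ q ∈ W, F d (c q.1, q.2) = 0 → (poly d (c q.1)).derivative.eval q.2 ≠ 0) :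
    IsLocalHomeomorph
      (fun q : {q : B × ℂ // q ∈ W ∧ F d (c q.1, q.2) = 0} => q.1.1) := by
  rw [isLocalHomeomorph_iff_isOpenEmbedding_restrict]
  rintro ⟨⟨b₀, t₀⟩, hq₀W, hq₀F⟩
  obtain ⟨S, N, ρ, hS, hp₀S, hN, hc₀N, hρ, hρ1, hρ2⟩ :=
    exists_local_root (c b₀) t₀ hq₀F (hsimple (b₀, t₀) hq₀W hq₀F)
  -- the neighbourhood in the space of roots
  let E := {q : B × ℂ // q ∈ W ∧ F d (c q.1, q.2) = 0}
  let U : Set E := {q | (c q.1.1, q.1.2) ∈ S}
  have hcE : Continuous (fun q : E => ((c q.1.1, q.1.2) : (Fin d → ℂ) × ℂ)) :=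
    (hc.comp (continuous_fst.comp continuous_subtype_val)).prodMk
      (continuous_snd.comp continuous_subtype_val)
  have hU : IsOpen U := hS.preimage hcE
  refine ⟨U, hU.mem_nhds hp₀S, ?_⟩
  -- the open subset of the base and the section
  let B' : Set B := {b | c b ∈ N ∧ (b, ρ (c b)) ∈ W}
  have hρc : ContinuousOn (fun b => ρ (c b)) (c ⁻¹' N) :=
    hρ.comp hc.continuousOn (fun b hb => hb)
  have hB' : IsOpen B' := by
    have h1 : IsOpen (c ⁻¹' N) := hN.preimage hc
    have h2 : ContinuousOn (fun b => ((b, ρ (c b)) : B × ℂ)) (c ⁻¹' N) :=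
      continuousOn_id.prodMk hρc
    exact h2.isOpen_inter_preimage h1 hW
  let σ : B' → U := fun b =>
    ⟨⟨(b.1, ρ (c b.1)), b.2.2, (hρ1 (c b.1) b.2.1).2⟩, (hρ1 (c b.1) b.2.1).1⟩
  have hσ : Continuous σ := by
    refine Continuous.subtype_mk (Continuous.subtype_mk ?_ _) _
    refine continuous_subtype_val.prodMk ?_
    have : ContinuousOn (fun b => ρ (c b)) B' := hρc.mono (fun b hb => hb.1)
    exact continuousOn_iff_continuous_restrict.mp this
  refine isOpenEmbedding_of_section _ ?_ B' hB' σ hσ ?_ ?_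
  · exact (continuous_fst.comp continuous_subtype_val).comp continuous_subtype_val
  · rintro ⟨⟨⟨b, t⟩, hqW, hqF⟩, hqS⟩
    obtain ⟨hbN, ht⟩ := hρ2 (c b) t hqS hqF
    have hb : b ∈ B' := ⟨hbN, by rw [← ht]; exact hqW⟩
    refine ⟨hb, ?_⟩
    apply Subtype.ext
    apply Subtype.ext
    exact Prod.ext rfl ht.symm
  · intro b
    rfl

end Groth.Agent.Lib.H26Roots
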