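import Mathlib
import Groth.Agent.Lib.AnPts
import Groth.Agent.Lib.H26Roots

/-!
# Étale morphisms induce local homeomorphisms on `ℂ`-points (helper26)

* `isLocalHomeomorph_map_of_presentation` : for affine `U'`, `V'` over `ℂ` and `g' : U' ⟶ V'` with
  `Γ(U')` standard étale over `Γ(V')`, the map `U'(ℂ) → V'(ℂ)` is a local homeomorphism.
-/

set_option autoImplicit false

open AlgebraicGeometry CategoryTheory TopologicalSpace Opposite An Topology Polynomial

namespace Groth.Agent.Lib.H26AnEtale

open Groth.Agent.Lib.AnPts Groth.Agent.Lib.H26Roots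

section StdEtale

variable {U' V' : Scheme.{0}} [U'.Over SC] [V'.Over SC]

/-- evaluation at a `ℂ`-point, as a ring homomorphism on global sections. -/
noncomputable abbrev evR {Z : Scheme.{0}} [Z.Over SC] (y : Pts Z) : Γ(Z, ⊤) →+* ℂ :=
  evHom y ⊤ (Opens.mem_top _)

/-- the value at `t` of the polynomial `p` specialised at the point `y`. -/
noncomputable def evalP (p : Γ(V', ⊤)[X]) (q : Pts V' × ℂ) : ℂ := (p.map (evR q.1)).eval q.2

lemma evalP_eq_sum (p : Γ(V', ⊤)[X]) (q : Pts V' × ℂ) :
    evalP p q = ∑ i ∈ Finset.range (p.natDegree + 1), q.1.evTop (p.coeff i) * q.2 ^ i := by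
  unfold evalP
  rw [Polynomial.eval_map, eval₂_eq_sum_range]
  rfl

lemma continuous_evalP (p : Γ(V', ⊤)[X]) : Continuous (evalP p) := by
  have : evalP p = fun q : Pts V' × ℂ =>
      ∑ i ∈ Finset.range (p.natDegree + 1), q.1.evTop (p.coeff i) * q.2 ^ i :=
    funext (evalP_eq_sum p)
  rw [this]
  refine continuous_finset_sum _ fun i _ => ?_
  exact ((continuous_evTop _).comp continuous_fst).mul (continuous_snd.pow i)

lemma evalP_add (p p' : Γ(V', ⊤)[X]) (q : Pts V' × ℂ) :
    evalP (p + p') q = evalP p q + evalP p' q := by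
  unfold evalP
  rw [Polynomial.map_add, eval_add]

lemma evalP_mul (p p' : Γ(V', ⊤)[X]) (q : Pts V' × ℂ) :
    evalP (p * p') q = evalP p q * evalP p' q := by
  unfold evalP
  rw [Polynomial.map_mul, eval_mul]

lemma evalP_pow (p : Γ(V', ⊤)[X]) (n : ℕ) (q : Pts V' × ℂ) :
    evalP (p ^ n) q = evalP p q ^ n := by
  unfold evalP
  rw [Polynomial.map_pow, eval_pow]

variable (g' : U' ⟶ V') [g'.IsOver SC] [Algebra Γ(V', ⊤) Γ(U', ⊤)]
  (halg : algebraMap Γ(V', ⊤) Γ(U', ⊤) = g'.appTop.hom)
  (P : StandardEtalePresentation Γ(V', ⊤) Γ(U', ⊤))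

include halg in
lemma evR_algebraMap (z : Pts U') (r : Γ(V', ⊤)) :
    evR z (algebraMap Γ(V', ⊤) Γ(U', ⊤) r) = evR (Pts.map g' z) r := by
  rw [halg]
  exact (evTop_map g' z r).symm

include halg in
lemma evR_aeval (z : Pts U') (a : Γ(U', ⊤)) (p : Γ(V', ⊤)[X]) :
    evR z (aeval a p) = evalP p (Pts.map g' z, z.evTop a) := by
  unfold evalP
  rw [Polynomial.eval_map, aeval_def, hom_eval₂]
  congr 1
  ext r
  exact evR_algebraMap g' halg z r

/-- the lower coefficients of the specialised monic polynomial. -/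
noncomputable def cf (y : Pts V') : Fin P.f.natDegree → ℂ := fun i => y.evTop (P.f.coeff i)

lemma continuous_cf : Continuous (cf P) :=
  continuous_pi fun i => continuous_evTop _

lemma map_f_eq_poly (y : Pts V') : P.f.map (evR y) = poly P.f.natDegree (cf P y) := by
  have hm : (P.f.map (evR y)).Monic := P.monic_f.map _
  have hd : (P.f.map (evR y)).natDegree = P.f.natDegree := P.monic_f.natDegree_map _
  conv_lhs => rw [hm.as_sum, hd]
  unfold poly
  congr 1
  rw [Finset.sum_range]
  refine Finset.sum_congr rfl fun i _ => ?_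
  rw [coeff_map]
  rfl

lemma evalP_f (q : Pts V' × ℂ) : evalP P.f q = F P.f.natDegree (cf P q.1, q.2) := by
  rw [← eval_poly, ← map_f_eq_poly]
  rfl

lemma evalP_derivative_f (q : Pts V' × ℂ) :
    evalP (derivative P.f) q = (poly P.f.natDegree (cf P q.1)).derivative.eval q.2 := by
  rw [← map_f_eq_poly, derivative_map]
  rfl

/-- roots lying in the locus `g ≠ 0` are simple. -/
lemma simple_root (q : Pts V' × ℂ) (hg : evalP P.g q ≠ 0) (hf : evalP P.f q = 0) :
    evalP (derivative P.f) q ≠ 0 := by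
  obtain ⟨p₁, p₂, n, e⟩ := P.cond
  have h1 := congrArg (fun p => evalP p q) e
  simp only [evalP_add, evalP_mul, evalP_pow, hf, zero_mul, add_zero] at h1
  intro h0
  rw [h0, zero_mul] at h1
  exact pow_ne_zero n hg h1.symm

/-- the space of simple roots over `V'(ℂ)`. -/
abbrev Roots : Type :=
  {q : Pts V' × ℂ // q ∈ {q : Pts V' × ℂ | evalP P.g q ≠ 0} ∧
    F P.f.natDegree (cf P q.1, q.2) = 0}

include halg in
lemma theta_mem (z : Pts U') :
    (Pts.map g' z, z.evTop P.x) ∈ {q : Pts V' × ℂ | evalP P.g q ≠ 0} ∧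
      F P.f.natDegree (cf P (Pts.map g' z), z.evTop P.x) = 0 := by
  constructor
  · change evalP P.g (Pts.map g' z, z.evTop P.x) ≠ 0
    rw [← evR_aeval g' halg z P.x P.g]
    exact (P.hasMap.2.map (evR z)).ne_zero
  · have := evalP_f P (Pts.map g' z, z.evTop P.x)
    rw [← this, ← evR_aeval g' halg z P.x P.f, P.hasMap.1, map_zero]

/-- the map `U'(ℂ) → {(y, t) | f_y(t) = 0, g_y(t) ≠ 0}`. -/
noncomputable def theta (z : Pts U') : Roots P :=
  ⟨(Pts.map g' z, z.evTop P.x), theta_mem g' halg P z⟩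

lemma continuous_theta : Continuous (theta g' halg P) :=
  Continuous.subtype_mk ((Pts.continuous_map g').prodMk (continuous_evTop P.x)) _

include halg in
/-- every function on `U'` is a continuous function of `theta`. -/
lemma exists_factor (τ : Γ(U', ⊤)) :
    ∃ G : Roots P → ℂ, Continuous G ∧ ∀ z : Pts U', z.evTop τ = G (theta g' halg P z) := by
  obtain ⟨p, n, hpn⟩ := P.exists_mul_aeval_x_g_pow_eq_aeval_x τ
  refine ⟨fun e => evalP p e.1 / evalP P.g e.1 ^ n, ?_, ?_⟩
  · refine ((continuous_evalP p).comp continuous_subtype_val).div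
      (((continuous_evalP P.g).comp continuous_subtype_val).pow n) ?_
    intro e
    exact pow_ne_zero n e.2.1
  · intro z
    have h1 := congrArg (evR z) hpn
    rw [map_mul, map_pow, evR_aeval g' halg z P.x P.g, evR_aeval g' halg z P.x p] at h1
    have h2 : evalP P.g (Pts.map g' z, z.evTop P.x) ≠ 0 := (theta_mem g' halg P z).1
    change z.evTop τ = evalP p (Pts.map g' z, z.evTop P.x) /
      evalP P.g (Pts.map g' z, z.evTop P.x) ^ n
    rw [eq_div_iff (pow_ne_zero n h2)]
    exact h1

variable [IsAffine U'] [IsAffine V']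

include halg in
lemma isInducing_theta : IsInducing (theta g' halg P) := by
  choose G hG hGz using exists_factor g' halg P
  have h1 : evAll U' = (fun e τ => G τ e) ∘ theta g' halg P := by
    funext z τ
    exact hGz τ z
  have h2 : Continuous (fun (e : Roots P) (τ : Γ(U', ⊤)) => G τ e) :=
    continuous_pi fun τ => hG τ
  have h3 : IsInducing ((fun e τ => G τ e) ∘ theta g' halg P) := h1 ▸ isInducing_evAll
  exact IsInducing.of_comp (continuous_theta g' halg P) h2 h3

include halg in
lemma injective_theta : Function.Injective (theta g' halg P) := by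
  intro z z' h
  choose G hG hGz using exists_factor g' halg P
  apply AnPts.ext_of_isAffine
  intro τ
  rw [hGz τ z, hGz τ z', h]

include halg in
lemma surjective_theta : Function.Surjective (theta g' halg P) := by
  rintro ⟨⟨y, t⟩, hg, hf⟩
  letI : Algebra Γ(V', ⊤) ℂ := (evR y).toAlgebra
  have haev : ∀ p : Γ(V', ⊤)[X], aeval t p = evalP p (y, t) := by
    intro p
    unfold evalP
    rw [Polynomial.eval_map, aeval_def]
    rfl
  have hmap : P.P.HasMap t := by
    refine ⟨?_, ?_⟩
    · rw [haev, evalP_f]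
      exact hf
    · rw [haev]
      exact isUnit_iff_ne_zero.mpr hg
  let ψ : Γ(U', ⊤) →ₐ[Γ(V', ⊤)] ℂ := (P.P.lift t hmap).comp P.equivRing.toAlgHom
  have hψx : ψ P.x = t := by
    change P.P.lift t hmap (P.equivRing P.x) = t
    rw [P.equivRing_x]
    exact P.P.lift_X t hmap
  have hψalg : ∀ r : Γ(V', ⊤), ψ (algebraMap Γ(V', ⊤) Γ(U', ⊤) r) = evR y r := fun r =>
    ψ.commutes r
  have hψstr : ∀ c : ℂ, (ψ : Γ(U', ⊤) →+* ℂ) (strHom U' c) = c := by
    intro c
    have h1 : strHom U' c = algebraMap Γ(V', ⊤) Γ(U', ⊤) (strHom V' c) := by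
      rw [halg, strHom_comp g']
      rfl
    rw [h1]
    change ψ (algebraMap Γ(V', ⊤) Γ(U', ⊤) (strHom V' c)) = c
    rw [hψalg]
    exact ev_strHom y c
  let z : Pts U' := ofRingHom (ψ : Γ(U', ⊤) →+* ℂ) hψstr
  have hz : ∀ τ, z.evTop τ = ψ τ := fun τ => evTop_ofRingHom _ _ τ
  have hzy : Pts.map g' z = y := by
    apply AnPts.ext_of_isAffine
    intro r
    rw [evTop_map, hz]
    have : g'.appTop r = algebraMap Γ(V', ⊤) Γ(U', ⊤) r := by rw [halg]
    rw [this, hψalg]
    rfl
  refine ⟨z, ?_⟩
  apply Subtype.ext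
  exact Prod.ext hzy ((hz P.x).trans hψx)

include halg P in
/-- **Standard étale charts**: `U'(ℂ) → V'(ℂ)` is a local homeomorphism. -/
theorem isLocalHomeomorph_map_of_presentation : IsLocalHomeomorph (Pts.map g') := by
  have hΘ : IsHomeomorph (theta g' halg P) := by
    rw [isHomeomorph_iff_isEmbedding_surjective]
    exact ⟨⟨isInducing_theta g' halg P, injective_theta g' halg P⟩, surjective_theta g' halg P⟩
  have hπ : IsLocalHomeomorph (fun q : Roots P => q.1.1) := by
    refine isLocalHomeomorph_fst (cf P) (continuous_cf P) {q : Pts V' × ℂ | evalP P.g q ≠ 0}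
      ?_ ?_
    · exact isOpen_ne_fun (continuous_evalP P.g) continuous_const
    · intro q hqW hqF
      rw [← evalP_derivative_f]
      refine simple_root P q hqW ?_
      rw [evalP_f]
      exact hqF
  exact hπ.comp hΘ.homeomorph.isLocalHomeomorph

end StdEtale

end Groth.Agent.Lib.H26AnEtale
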