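import Mathlib
import Groth.Agent.Lib.AnPts
import Groth.Agent.Lib.H26AnEtale
import Groth.Agent.Lib.H26AnProd
import Groth.Prelude.Def_AnEps

/-!
# Étale morphisms induce local homeomorphisms on `ℂ`-points: globalisation (helper26)

* `exists_chart` : an étale morphism of affine `ℂ`-schemes is, Zariski-locally on the source,
  standard étale; hence a local homeomorphism on `ℂ`-points near every point.
* `etaleLH` : `An.EtaleLH`.
-/

set_option autoImplicit false

open AlgebraicGeometry CategoryTheory TopologicalSpace Opposite An Topology Polynomial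

namespace Groth.Agent.Lib.H26AnEtale

open Groth.Agent.Lib.AnPts Groth.Agent.Lib.H26Roots

section Affine

variable {U V : Scheme.{0}} [U.Over SC] [V.Over SC] [IsAffine U] [IsAffine V]
  (g₀ : U ⟶ V) [g₀.IsOver SC] [Etale g₀]

theorem exists_chart (x₀ : Pts U) :
    ∃ W : U.Opens, x₀.pt ∈ W ∧ IsLocalHomeomorph (Pts.map (W.ι ≫ g₀)) := by
  have hφ : RingHom.Etale g₀.appTop.hom :=
    (HasRingHomProperty.iff_of_isAffine (P := @Etale)).mp ‹_›
  algebraize [g₀.appTop.hom]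
  let Q : Ideal Γ(U, ⊤) := RingHom.ker (evR x₀)
  haveI : Q.IsPrime := RingHom.ker_isPrime _
  obtain ⟨f, hfQ, hf⟩ := Algebra.IsEtaleAt.exists_isStandardEtale (R := Γ(V, ⊤)) Q
  let W : U.Opens := U.basicOpen f
  have hW : IsAffineOpen W := (isAffineOpen_top U).basicOpen f
  refine ⟨W, ?_, ?_⟩
  · rw [pt_mem_basicOpen_iff x₀ ⊤ (Opens.mem_top _) f]
    exact hfQ
  · haveI : IsAffine W := hW
    letI : Algebra Γ(V, ⊤) Γ(W, ⊤) := (W.ι ≫ g₀).appTop.hom.toAlgebra
    haveI := (isAffineOpen_top U).isLocalization_basicOpen f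
    let e₁ : Localization.Away f ≃ₐ[Γ(U, ⊤)] Γ(U, W) :=
      IsLocalization.algEquiv (Submonoid.powers f) (Localization.Away f) Γ(U, U.basicOpen f)
    let e₂ : Γ(U, W) ≃+* Γ(W, ⊤) := W.topIso.symm.commRingCatIsoToRingEquiv
    let e : Localization.Away f ≃+* Γ(W, ⊤) := e₁.toRingEquiv.trans e₂
    have he : ∀ r : Γ(V, ⊤), e (algebraMap Γ(V, ⊤) (Localization.Away f) r) =
        algebraMap Γ(V, ⊤) Γ(W, ⊤) r := by
      intro r
      rw [IsScalarTower.algebraMap_apply Γ(V, ⊤) Γ(U, ⊤) (Localization.Away f)]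
      change e₂ (e₁ (algebraMap Γ(U, ⊤) _ (algebraMap Γ(V, ⊤) Γ(U, ⊤) r))) = _
      rw [AlgEquiv.commutes]
      change (W.topIso.inv).hom ((U.presheaf.map (homOfLE (U.basicOpen_le f)).op).hom
        (g₀.appTop.hom r)) = (W.ι ≫ g₀).appTop.hom r
      rw [Scheme.Hom.comp_appTop]
      change ((U.presheaf.map (homOfLE (U.basicOpen_le f)).op) ≫ W.topIso.inv).hom
        (g₀.appTop.hom r) = (W.ι.appTop).hom (g₀.appTop.hom r)
      congr 2
      rw [Scheme.Opens.ι_appTop]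
      change U.presheaf.map _ ≫ U.presheaf.map _ = _
      rw [← Functor.map_comp]
      rfl
    let e' : Localization.Away f ≃ₐ[Γ(V, ⊤)] Γ(W, ⊤) := AlgEquiv.ofRingEquiv (f := e) he
    haveI : Algebra.IsStandardEtale Γ(V, ⊤) Γ(W, ⊤) := Algebra.IsStandardEtale.of_equiv e'
    obtain ⟨P⟩ := Algebra.IsStandardEtale.nonempty_standardEtalePresentation
      (R := Γ(V, ⊤)) (S := Γ(W, ⊤))
    exact isLocalHomeomorph_map_of_presentation (W.ι ≫ g₀) rfl P

end Affine

section Global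

variable {X Y : Scheme.{0}} [X.Over SC] [Y.Over SC] (g : X ⟶ Y) [g.IsOver SC] [Etale g]

/-- **Étale morphisms are local homeomorphisms on `ℂ`-points.** -/
theorem isLocalHomeomorph_map : IsLocalHomeomorph (Pts.map g) := by
  intro x
  obtain ⟨V, hV, hxV, -⟩ :=
    exists_isAffineOpen_mem_and_subset (x := g.base x.pt) (U := ⊤) trivial
  obtain ⟨U₀, hU₀, hxU₀, hUV⟩ :=
    exists_isAffineOpen_mem_and_subset (x := x.pt) (U := g ⁻¹ᵁ V) hxV
  haveI : IsAffine U₀ := hU₀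
  haveI : IsAffine V := hV
  obtain ⟨x₀, hx₀⟩ : x ∈ Set.range (Pts.map U₀.ι) := by
    rw [range_map_ι]
    exact hxU₀
  obtain ⟨W, hxW, hloc⟩ := exists_chart (g.resLE V U₀ hUV) x₀
  obtain ⟨z, hz⟩ : x₀ ∈ Set.range (Pts.map W.ι) := by
    rw [range_map_ι]
    exact hxW
  have hj : IsOpenEmbedding (Pts.map U₀.ι ∘ Pts.map W.ι) :=
    (isOpenEmbedding_map_of_isOpenImmersion U₀.ι).comp
      (isOpenEmbedding_map_of_isOpenImmersion W.ι)
  have hk : IsOpenEmbedding (Pts.map V.ι) := isOpenEmbedding_map_of_isOpenImmersion V.ι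
  have hcomm : Pts.map g ∘ (Pts.map U₀.ι ∘ Pts.map W.ι) =
      Pts.map V.ι ∘ Pts.map (W.ι ≫ g.resLE V U₀ hUV) := by
    funext w
    simp only [Function.comp_apply]
    apply Subtype.ext
    change ((w.1 ≫ W.ι) ≫ U₀.ι) ≫ g = (w.1 ≫ W.ι ≫ g.resLE V U₀ hUV) ≫ V.ι
    simp only [Category.assoc, Scheme.Hom.resLE_comp_ι]
  have h1 : IsLocalHomeomorphOn (Pts.map g ∘ (Pts.map U₀.ι ∘ Pts.map W.ι)) Set.univ := by
    rw [hcomm]
    exact (hk.isLocalHomeomorph.comp hloc).isLocalHomeomorphOn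
  have h2 := IsLocalHomeomorphOn.of_comp_right h1 hj.isLocalHomeomorph.isLocalHomeomorphOn
  refine h2 x ⟨z, trivial, ?_⟩
  rw [Function.comp_apply, hz, hx₀]

theorem etaleLH : An.EtaleLH := by
  intro X Y _ _ _ g _ _
  exact isLocalHomeomorph_map g

end Global

end Groth.Agent.Lib.H26AnEtale
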