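import Mathlib

/-!
# Ultrapowers of `ℂ`: finite elements and the standard part (helper26)

For an ultrafilter `𝒰` on `I`, `K 𝒰 = ℂ^I/𝒰` is a field, the germs bounded along `𝒰` form a
valuation subring `O 𝒰`, and the limit along `𝒰` is a ring homomorphism `st : O 𝒰 →+* ℂ`.
-/

set_option autoImplicit false

open Filter Topology

namespace Groth.Agent.Lib.H26Ultra

variable {I : Type} (𝒰 : Ultrafilter I)

/-- the ultrapower of `ℂ`. -/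
abbrev K : Type := (𝒰 : Filter I).Germ ℂ

/-- a germ is bounded along `𝒰`. -/
def IsBdd (k : K 𝒰) : Prop :=
  ∃ (g : I → ℂ) (M : ℝ), (↑g : K 𝒰) = k ∧ ∀ᶠ i in (𝒰 : Filter I), ‖g i‖ ≤ M

/-- a germ has standard part `c`. -/
def HasSt (k : K 𝒰) (c : ℂ) : Prop :=
  ∃ g : I → ℂ, (↑g : K 𝒰) = k ∧ Tendsto g 𝒰 (𝓝 c)

variable {𝒰}

lemma HasSt.tendsto {k : K 𝒰} {c : ℂ} (h : HasSt 𝒰 k c) {g : I → ℂ} (hg : (↑g : K 𝒰) = k) :
    Tendsto g 𝒰 (𝓝 c) := by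
  obtain ⟨g', hg', ht⟩ := h
  have : g' =ᶠ[(𝒰 : Filter I)] g := Germ.coe_eq.mp (hg'.trans hg.symm)
  exact ht.congr' this

lemma HasSt.unique {k : K 𝒰} {c c' : ℂ} (h : HasSt 𝒰 k c) (h' : HasSt 𝒰 k c') : c = c' := by
  obtain ⟨g, hg, ht⟩ := h
  exact tendsto_nhds_unique ht (h'.tendsto hg)

lemma hasSt_coe {g : I → ℂ} {c : ℂ} (h : Tendsto g 𝒰 (𝓝 c)) : HasSt 𝒰 (↑g : K 𝒰) c :=
  ⟨g, rfl, h⟩

lemma HasSt.add {k k' : K 𝒰} {c c' : ℂ} (h : HasSt 𝒰 k c) (h' : HasSt 𝒰 k' c') :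
    HasSt 𝒰 (k + k') (c + c') := by
  obtain ⟨g, rfl, ht⟩ := h
  obtain ⟨g', rfl, ht'⟩ := h'
  exact ⟨g + g', rfl, ht.add ht'⟩

lemma HasSt.mul {k k' : K 𝒰} {c c' : ℂ} (h : HasSt 𝒰 k c) (h' : HasSt 𝒰 k' c') :
    HasSt 𝒰 (k * k') (c * c') := by
  obtain ⟨g, rfl, ht⟩ := h
  obtain ⟨g', rfl, ht'⟩ := h'
  exact ⟨g * g', rfl, ht.mul ht'⟩

lemma hasSt_const (c : ℂ) : HasSt 𝒰 ((↑(fun _ : I => c)) : K 𝒰) c :=
  ⟨fun _ => c, rfl, tendsto_const_nhds⟩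

lemma IsBdd.exists_hasSt {k : K 𝒰} (h : IsBdd 𝒰 k) : ∃ c, HasSt 𝒰 k c := by
  obtain ⟨g, M, rfl, hM⟩ := h
  have hle : ((𝒰.map g : Ultrafilter ℂ) : Filter ℂ) ≤ 𝓟 (Metric.closedBall (0 : ℂ) M) := by
    rw [le_principal_iff]
    change g ⁻¹' _ ∈ (𝒰 : Filter I)
    filter_upwards [hM] with i hi
    simpa using hi
  obtain ⟨c, -, hc⟩ := (isCompact_closedBall (0 : ℂ) M).ultrafilter_le_nhds (𝒰.map g) hle
  exact ⟨c, g, rfl, hc⟩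

lemma HasSt.isBdd {k : K 𝒰} {c : ℂ} (h : HasSt 𝒰 k c) : IsBdd 𝒰 k := by
  obtain ⟨g, rfl, ht⟩ := h
  refine ⟨g, ‖c‖ + 1, rfl, ?_⟩
  have : ∀ᶠ i in (𝒰 : Filter I), g i ∈ Metric.ball c 1 := ht (Metric.ball_mem_nhds c one_pos)
  filter_upwards [this] with i hi
  have h1 : ‖g i - c‖ < 1 := by simpa [dist_eq_norm] using hi
  calc ‖g i‖ = ‖(g i - c) + c‖ := by ring_nf
    _ ≤ ‖g i - c‖ + ‖c‖ := norm_add_le _ _
    _ ≤ ‖c‖ + 1 := by linarith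

variable (𝒰)

/-- the valuation subring of finite elements. -/
def O : ValuationSubring (K 𝒰) where
  carrier := {k | IsBdd 𝒰 k}
  mul_mem' := by
    rintro _ _ ⟨g, M, rfl, hM⟩ ⟨g', M', rfl, hM'⟩
    refine ⟨g * g', M * M', rfl, ?_⟩
    filter_upwards [hM, hM'] with i hi hi'
    rw [Pi.mul_apply, norm_mul]
    exact mul_le_mul hi hi' (norm_nonneg _) ((norm_nonneg _).trans hi)
  one_mem' := ⟨fun _ => 1, 1, rfl, by simp⟩
  add_mem' := by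
    rintro _ _ ⟨g, M, rfl, hM⟩ ⟨g', M', rfl, hM'⟩
    refine ⟨g + g', M + M', rfl, ?_⟩
    filter_upwards [hM, hM'] with i hi hi'
    exact (norm_add_le _ _).trans (add_le_add hi hi')
  zero_mem' := ⟨fun _ => 0, 0, rfl, by simp⟩
  neg_mem' := by
    rintro _ ⟨g, M, rfl, hM⟩
    refine ⟨-g, M, rfl, ?_⟩
    filter_upwards [hM] with i hi
    simpa using hi
  mem_or_inv_mem' := by
    intro k
    induction k using Germ.inductionOn with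
    | h g =>
      by_cases h : ∀ᶠ i in (𝒰 : Filter I), ‖g i‖ ≤ 1
      · exact Or.inl ⟨g, 1, rfl, h⟩
      · right
        rw [← Ultrafilter.eventually_not] at h
        refine ⟨g⁻¹, 1, rfl, ?_⟩
        filter_upwards [h] with i hi
        rw [Pi.inv_apply, norm_inv]
        push_neg at hi
        exact inv_le_one_of_one_le₀ hi.le

lemma mem_O_iff {k : K 𝒰} : k ∈ O 𝒰 ↔ IsBdd 𝒰 k := Iff.rfl

/-- the standard part of a finite element. -/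
noncomputable def stFun (k : O 𝒰) : ℂ := (IsBdd.exists_hasSt k.2).choose

lemma hasSt_stFun (k : O 𝒰) : HasSt 𝒰 (k : K 𝒰) (stFun 𝒰 k) :=
  (IsBdd.exists_hasSt k.2).choose_spec

lemma stFun_eq {k : O 𝒰} {c : ℂ} (h : HasSt 𝒰 (k : K 𝒰) c) : stFun 𝒰 k = c :=
  (hasSt_stFun 𝒰 k).unique h

/-- the standard part, as a ring homomorphism. -/
noncomputable def st : O 𝒰 →+* ℂ where
  toFun := stFun 𝒰
  map_one' := stFun_eq 𝒰 (hasSt_const 1)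
  map_mul' a b := stFun_eq 𝒰 ((hasSt_stFun 𝒰 a).mul (hasSt_stFun 𝒰 b))
  map_zero' := stFun_eq 𝒰 (hasSt_const 0)
  map_add' a b := stFun_eq 𝒰 ((hasSt_stFun 𝒰 a).add (hasSt_stFun 𝒰 b))

lemma hasSt_st (k : O 𝒰) : HasSt 𝒰 (k : K 𝒰) (st 𝒰 k) := hasSt_stFun 𝒰 k

lemma st_eq {k : O 𝒰} {c : ℂ} (h : HasSt 𝒰 (k : K 𝒰) c) : st 𝒰 k = c := stFun_eq 𝒰 h

/-- any representative of a finite element tends to its standard part. -/
lemma tendsto_st (k : O 𝒰) {g : I → ℂ} (hg : (↑g : K 𝒰) = (k : K 𝒰)) :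
    Tendsto g 𝒰 (𝓝 (st 𝒰 k)) :=
  (hasSt_st 𝒰 k).tendsto hg

/-- the kernel of `st` is the maximal ideal. -/
lemma ker_st : RingHom.ker (st 𝒰) = IsLocalRing.maximalIdeal (O 𝒰) := by
  have hsurj : Function.Surjective (st 𝒰) := by
    intro c
    refine ⟨⟨(↑(fun _ : I => c) : K 𝒰), (hasSt_const c).isBdd⟩, st_eq 𝒰 (hasSt_const c)⟩
  have : (RingHom.ker (st 𝒰)).IsMaximal := RingHom.ker_isMaximal_of_surjective _ hsurj
  exact IsLocalRing.eq_maximalIdeal this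

end Groth.Agent.Lib.H26Ultra
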