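import Mathlib
import Groth.Agent.Lib.AnPts
import Groth.Agent.Lib.H26Ultra

/-!
# Proper morphisms induce proper maps on `ℂ`-points (helper26)

Ultrafilter argument: an ultrafilter on `X(ℂ)` gives a point of `X` with values in the ultrapower
`K` of `ℂ`; if its image in `Y(ℂ)` converges the valuative criterion produces a point with values
in the ring `O` of finite elements of `K`, whose standard part is the required limit.
-/

set_option autoImplicit false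

open AlgebraicGeometry CategoryTheory TopologicalSpace Opposite An Topology Filter

namespace Groth.Agent.Lib.H26AnProper

open Groth.Agent.Lib.AnPts Groth.Agent.Lib.H26Ultra

section evL

variable {X : Scheme.{0}} {Λ : CommRingCat.{0}}

/-- evaluation of sections over `W` at a `Λ`-valued point factoring through `W`. -/
noncomputable def evL (η : Spec Λ ⟶ X) (W : X.Opens) (hW : η ⁻¹ᵁ W = ⊤) : Γ(X, W) →+* Λ :=
  ((η.appLE W ⊤ hW.ge) ≫ (Scheme.ΓSpecIso Λ).hom).hom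

lemma evL_res (η : Spec Λ ⟶ X) {W W' : X.Opens} (hW : η ⁻¹ᵁ W = ⊤) (hW' : η ⁻¹ᵁ W' = ⊤)
    (h : W' ≤ W) (s : Γ(X, W)) :
    evL η W' hW' (X.presheaf.map (homOfLE h).op s) = evL η W hW s := by
  unfold evL
  have := η.map_appLE hW'.ge (homOfLE h).op
  simp only [CommRingCat.hom_comp, RingHom.coe_comp, Function.comp_apply]
  congr 1
  exact congr($this s)

lemma evL_comp {Λ' : CommRingCat.{0}} (ρ : Λ ⟶ Λ') (η : Spec Λ ⟶ X) (W : X.Opens)
    (hW : η ⁻¹ᵁ W = ⊤) (hW' : (Spec.map ρ ≫ η) ⁻¹ᵁ W = ⊤) (s : Γ(X, W)) :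
    evL (Spec.map ρ ≫ η) W hW' s = ρ (evL η W hW s) := by
  unfold evL
  have h1 : (Spec.map ρ ≫ η).appLE W ⊤ hW'.ge =
      η.appLE W ⊤ hW.ge ≫ (Spec.map ρ).appLE ⊤ ⊤ le_top := by
    rw [Scheme.Hom.appLE_comp_appLE]
  have h2 : (Spec.map ρ).appLE ⊤ ⊤ le_top = (Spec.map ρ).appTop :=
    (Scheme.Hom.app_eq_appLE (Spec.map ρ) (U := ⊤)).symm
  rw [h1, h2, Category.assoc, Scheme.ΓSpecIso_naturality]
  rfl

lemma evL_congr {η η' : Spec Λ ⟶ X} (h : η = η') (W : X.Opens) (hW : η ⁻¹ᵁ W = ⊤)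
    (hW' : η' ⁻¹ᵁ W = ⊤) (s : Γ(X, W)) : evL η W hW s = evL η' W hW' s := by
  subst h
  rfl

lemma ev_eq_evL [X.Over SC] (x : Pts X) (W : X.Opens) (h : x.pt ∈ W) (s : Γ(X, W)) :
    x.ev W h s = evL x.1 W (Pts.preimage_eq_top x h) s := rfl

/-- a `Λ`-point whose image lies in the affine open `V` factors through `V`. -/
lemma eq_SpecMap_evL_fromSpec (η : Spec Λ ⟶ X) {V : X.Opens} (hV : IsAffineOpen V)
    (h : η ⁻¹ᵁ V = ⊤) :
    η = Spec.map (CommRingCat.ofHom (evL η V h)) ≫ hV.fromSpec := by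
  have h1 := IsAffineOpen.SpecMap_appLE_fromSpec η hV (isAffineOpen_top (Spec Λ)) h.ge
  rw [IsAffineOpen.fromSpec_top, Scheme.isoSpec_Spec_inv] at h1
  have h2 : η = Spec.map (Scheme.ΓSpecIso Λ).hom ≫ Spec.map (Scheme.ΓSpecIso Λ).inv ≫ η := by
    rw [← Category.assoc, ← Spec.map_comp, Iso.inv_hom_id, Spec.map_id, Category.id_comp]
  have h3 : Spec.map (CommRingCat.ofHom (evL η V h)) =
      Spec.map (Scheme.ΓSpecIso Λ).hom ≫ Spec.map (η.appLE V ⊤ h.ge) := by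
    rw [← Spec.map_comp]
    rfl
  rw [h3, Category.assoc, h1]
  exact h2

/-- the evaluation at the `Λ`-point `Spec Λ → Spec Γ(X, U) → X` attached to `φ` is `φ`. -/
lemma evL_SpecMap_fromSpec {U : X.Opens} (hU : IsAffineOpen U) (φ : Γ(X, U) ⟶ Λ)
    (h : (Spec.map φ ≫ hU.fromSpec) ⁻¹ᵁ U = ⊤) (a : Γ(X, U)) :
    evL (Spec.map φ ≫ hU.fromSpec) U h a = φ a := by
  rw [evL_comp φ hU.fromSpec U hU.fromSpec_preimage_self h]
  congr 1
  unfold evL
  have h1 : hU.fromSpec.appLE U ⊤ hU.fromSpec_preimage_self.ge = (Scheme.ΓSpecIso Γ(X, U)).inv := by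
    rw [Scheme.Hom.appLE, hU.fromSpec_app_self, Category.assoc, ← Functor.map_comp]
    have : ((eqToHom hU.fromSpec_preimage_self).op ≫
        (homOfLE hU.fromSpec_preimage_self.ge).op) = 𝟙 _ := Subsingleton.elim _ _
    rw [this, CategoryTheory.Functor.map_id, Category.comp_id]
  rw [h1, Iso.inv_hom_id]
  rfl

lemma preimage_SpecMap_fromSpec {U : X.Opens} (hU : IsAffineOpen U) (φ : Γ(X, U) ⟶ Λ) :
    (Spec.map φ ≫ hU.fromSpec) ⁻¹ᵁ U = ⊤ := by
  rw [Scheme.Hom.comp_preimage, hU.fromSpec_preimage_self]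
  rfl

/-- for a field `Λ`: the point lies in a basic open iff the function does not vanish there. -/
lemma mem_basicOpen_iff_evL_ne_zero [hΛ : Fact (IsField Λ)] (η : Spec Λ ⟶ X) (W : X.Opens)
    (hW : η ⁻¹ᵁ W = ⊤) (g : Γ(X, W)) (p : Spec Λ) :
    η p ∈ X.basicOpen g ↔ evL η W hW g ≠ 0 := by
  have h1 := Scheme.basicOpen_appLE η ⊤ W hW.ge g
  have h2 : η p ∈ X.basicOpen g ↔ p ∈ (Spec Λ).basicOpen (η.appLE W ⊤ hW.ge g) := by
    rw [h1]
    exact ⟨fun hp => ⟨trivial, hp⟩, fun hp => hp.2⟩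
  rw [h2, basicOpen_eq_of_affine']
  change _ ∉ p.asIdeal ↔ _
  letI := hΛ.out.toField
  have : p.asIdeal = ⊥ := (Ideal.eq_bot_or_top p.asIdeal).resolve_right p.isPrime.ne_top
  rw [this, Ideal.mem_bot]
  rfl

end evL

section Core

variable {X : Scheme.{0}} [X.Over SC]

/-- the value of a section at a `ℂ`-point, extended by zero. -/
noncomputable def val (W : X.Opens) (s : Γ(X, W)) (z : Pts X) : ℂ :=
  open Classical in if h : z.pt ∈ W then z.ev W h s else 0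

lemma val_eq {W : X.Opens} (s : Γ(X, W)) {z : Pts X} (h : z.pt ∈ W) :
    val W s z = z.ev W h s := dif_pos h

lemma tendsto_val (W : X.Opens) (s : Γ(X, W)) (x : Pts X) (h : x.pt ∈ W) :
    Tendsto (val W s) (𝓝 x) (𝓝 (x.ev W h s)) := by
  rw [tendsto_nhds]
  intro N hN hxN
  have h1 : {w : Pts X | ∃ h : w.pt ∈ W, w.ev W h s ∈ N} ∈ 𝓝 x :=
    (continuousOn_ev W s N hN).mem_nhds ⟨h, hxN⟩
  filter_upwards [h1] with w hw
  obtain ⟨hw1, hw2⟩ := hw
  change val W s w ∈ N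
  rw [val_eq s hw1]
  exact hw2

/-- convergence criterion in `X(ℂ)` in terms of an affine open neighbourhood. -/
lemma le_nhds_of_tendsto_val (𝒢 : Filter (Pts X)) (x : Pts X) {U' : X.Opens}
    (hU' : IsAffineOpen U') (hx : x.pt ∈ U') (h1 : ∀ᶠ z in 𝒢, z.pt ∈ U')
    (h2 : ∀ s : Γ(X, U'), Tendsto (val U' s) 𝒢 (𝓝 (x.ev U' hx s))) : 𝒢 ≤ 𝓝 x := by
  have : IsAffine (U' : Scheme.{0}) := hU'
  have hxr : x ∈ Set.range (Pts.map U'.ι) := by rw [range_map_ι]; exact hx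
  obtain ⟨x', rfl⟩ := hxr
  have hmap : map (Pts.map U'.ι) (comap (Pts.map U'.ι) 𝒢) = 𝒢 :=
    Filter.map_comap_of_mem (by rw [range_map_ι]; exact h1)
  have h3 : comap (Pts.map U'.ι) 𝒢 ≤ 𝓝 x' := by
    rw [(isInducing_evAll (X := (U' : Scheme.{0}))).nhds_eq_comap, ← tendsto_iff_comap,
      tendsto_pi_nhds]
    intro t
    set s : Γ(X, U') := inv (U'.ι.appLE U' ⊤ U'.ι_preimage_self.ge) t with hs
    have hst : U'.ι.appLE U' ⊤ U'.ι_preimage_self.ge s = t := by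
      rw [hs]
      exact IsIso.inv_hom_id_apply _ t
    have key : ∀ z' : Pts (U' : Scheme.{0}), val U' s (Pts.map U'.ι z') = z'.evTop t := by
      intro z'
      have hz' : (Pts.map U'.ι z').pt ∈ U' := by
        rw [Pts.pt_map]
        exact (z'.pt).2
      rw [val_eq s hz', ← hst]
      exact ev_map_appLE U'.ι z' U' ⊤ U'.ι_preimage_self.ge (Opens.mem_top _) s
    have h4 : Tendsto (val U' s ∘ Pts.map U'.ι) (comap (Pts.map U'.ι) 𝒢)
        (𝓝 ((Pts.map U'.ι x').ev U' hx s)) := (h2 s).comp tendsto_comap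
    have h5 : (Pts.map U'.ι x').ev U' hx s = x'.evTop t := by
      rw [← key x', val_eq s hx]
    rw [h5] at h4
    refine h4.congr ?_
    intro z'
    exact key z'
  calc 𝒢 = map (Pts.map U'.ι) (comap (Pts.map U'.ι) 𝒢) := hmap.symm
    _ ≤ map (Pts.map U'.ι) (𝓝 x') := Filter.map_mono h3
    _ ≤ 𝓝 (Pts.map U'.ι x') := (Pts.continuous_map U'.ι).continuousAt

variable (𝒰 : Ultrafilter (Pts X)) {U : X.Opens}
  (h𝒰 : ∀ᶠ z in (𝒰 : Filter (Pts X)), z.pt ∈ U)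

/-- the `K`-valued point of `U` defined by an ultrafilter on `X(ℂ)` concentrated on `U(ℂ)`. -/
noncomputable def phiK : Γ(X, U) →+* K 𝒰 where
  toFun a := (↑(val U a) : K 𝒰)
  map_one' := Germ.coe_eq.mpr (by
    filter_upwards [h𝒰] with z hz
    rw [val_eq _ hz, ev_one])
  map_mul' a b := Germ.coe_eq.mpr (by
    filter_upwards [h𝒰] with z hz
    rw [val_eq _ hz, val_eq _ hz, val_eq _ hz, ev_mul])
  map_zero' := Germ.coe_eq.mpr (by
    filter_upwards [h𝒰] with z hz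
    rw [val_eq _ hz, ev_zero])
  map_add' a b := Germ.coe_eq.mpr (by
    filter_upwards [h𝒰] with z hz
    rw [val_eq _ hz, val_eq _ hz, val_eq _ hz, ev_add])

lemma phiK_apply (a : Γ(X, U)) : phiK 𝒰 h𝒰 a = (↑(val U a) : K 𝒰) := rfl

variable {Y : Scheme.{0}} [Y.Over SC] (f : X ⟶ Y) [f.IsOver SC] {V : Y.Opens}
  (hUV : U ≤ f ⁻¹ᵁ V) {y : Pts Y} (hyV : y.pt ∈ V)
  (hy : Tendsto (Pts.map f) 𝒰 (𝓝 y))

include hy in
lemma hasSt_phiK_appLE (b : Γ(Y, V)) :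
    HasSt 𝒰 (phiK 𝒰 h𝒰 (f.appLE V U hUV b)) (y.ev V hyV b) := by
  refine ⟨val U (f.appLE V U hUV b), rfl, ?_⟩
  have h1 : Tendsto (val V b ∘ Pts.map f) 𝒰 (𝓝 (y.ev V hyV b)) :=
    (tendsto_val V b y hyV).comp hy
  refine h1.congr' ?_
  filter_upwards [h𝒰] with z hz
  have hz' : (Pts.map f z).pt ∈ V := by rw [Pts.pt_map]; exact hUV hz
  rw [Function.comp_apply, val_eq _ hz, val_eq _ hz']
  exact ev_map_appLE f z V U hUV hz b

/-- the `O`-valued point of `V` given by the convergent image ultrafilter. -/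
noncomputable def psiO : Γ(Y, V) →+* O 𝒰 :=
  RingHom.codRestrict ((phiK 𝒰 h𝒰).comp (f.appLE V U hUV).hom) (O 𝒰)
    (fun b => (hasSt_phiK_appLE 𝒰 h𝒰 f hUV hyV hy b).isBdd)

lemma st_psiO (b : Γ(Y, V)) : st 𝒰 (psiO 𝒰 h𝒰 f hUV hyV hy b) = y.ev V hyV b :=
  st_eq 𝒰 (hasSt_phiK_appLE 𝒰 h𝒰 f hUV hyV hy b)

variable (hU : IsAffineOpen U) (hV : IsAffineOpen V)

/-- the `K`-valued point of `X`. -/
noncomputable def etaK : Spec (CommRingCat.of (K 𝒰)) ⟶ X :=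
  Spec.map (CommRingCat.ofHom (phiK 𝒰 h𝒰)) ≫ hU.fromSpec

/-- the `O`-valued point of `Y`. -/
noncomputable def iotaO : Spec (CommRingCat.of (O 𝒰)) ⟶ Y :=
  Spec.map (CommRingCat.ofHom (psiO 𝒰 h𝒰 f hUV hyV hy)) ≫ hV.fromSpec

lemma etaK_comp : etaK 𝒰 h𝒰 hU ≫ f =
    Spec.map (CommRingCat.ofHom (algebraMap (O 𝒰) (K 𝒰))) ≫ iotaO 𝒰 h𝒰 f hUV hyV hy hV := by
  unfold etaK iotaO
  rw [Category.assoc, ← IsAffineOpen.SpecMap_appLE_fromSpec f hV hU hUV, ← Category.assoc,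
    ← Category.assoc, ← Spec.map_comp, ← Spec.map_comp]
  rfl

/-- the valuative square. -/
noncomputable def valSq : ValuativeCommSq f where
  R := O 𝒰
  K := K 𝒰
  i₁ := etaK 𝒰 h𝒰 hU
  i₂ := iotaO 𝒰 h𝒰 f hUV hyV hy hV
  commSq := ⟨etaK_comp 𝒰 h𝒰 f hUV hyV hy hU hV⟩

lemma cpt_asIdeal : (cpt : PrimeSpectrum ℂ).asIdeal = ⊥ :=
  (Ideal.eq_bot_or_top _).resolve_right (cpt : PrimeSpectrum ℂ).isPrime.ne_top

lemma germ_ne_zero_iff (g : Pts X → ℂ) :
    (↑g : K 𝒰) ≠ 0 ↔ ∀ᶠ z in (𝒰 : Filter (Pts X)), g z ≠ 0 := by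
  rw [Ultrafilter.eventually_not]
  exact not_congr Germ.coe_eq

include h𝒰 hUV hyV hy hU hV in
/-- **Key theorem**: an ultrafilter on `X(ℂ)` (concentrated on an affine open `U` mapping into
the affine open `V`) whose image converges in `Y(ℂ)` converges in `X(ℂ)`, if `f` satisfies the
existence part of the valuative criterion. -/
theorem exists_limit (hex : ValuativeCriterion.Existence f) :
    ∃ x : Pts X, Pts.map f x = y ∧ (𝒰 : Filter (Pts X)) ≤ 𝓝 x := by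
  obtain ⟨ℓ⟩ := (hex (valSq 𝒰 h𝒰 f hUV hyV hy hU hV)).exists_lift
  have hl1 : Spec.map (CommRingCat.ofHom (algebraMap (O 𝒰) (K 𝒰))) ≫ ℓ.l = etaK 𝒰 h𝒰 hU :=
    ℓ.fac_left
  have hl2 : ℓ.l ≫ f = iotaO 𝒰 h𝒰 f hUV hyV hy hV := ℓ.fac_right
  set l : Spec (CommRingCat.of (O 𝒰)) ⟶ X := ℓ.l with hl
  let x₀ : SC ⟶ X := Spec.map (CommRingCat.ofHom (st 𝒰)) ≫ l
  have hx₀f : x₀ ≫ f = y.1 := by
    have hy1 := eq_SpecMap_evL_fromSpec y.1 hV (Pts.preimage_eq_top y hyV)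
    have h1 : x₀ ≫ f =
        Spec.map (CommRingCat.ofHom (st 𝒰)) ≫ iotaO 𝒰 h𝒰 f hUV hyV hy hV := by
      exact (Category.assoc _ _ _).trans (congrArg _ hl2)
    have h2 : Spec.map (CommRingCat.ofHom (st 𝒰)) ≫ iotaO 𝒰 h𝒰 f hUV hyV hy hV =
        Spec.map (CommRingCat.ofHom (evL y.1 V (Pts.preimage_eq_top y hyV))) ≫ hV.fromSpec := by
      unfold iotaO
      rw [← Category.assoc, ← Spec.map_comp]
      congr 2
      ext b
      exact st_psiO 𝒰 h𝒰 f hUV hyV hy b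
    exact h1.trans (h2.trans hy1.symm)
  have hx₀ : x₀ ≫ (X ↘ SC) = 𝟙 SC := by
    rw [← comp_over f SC, ← Category.assoc, hx₀f]
    exact y.2
  let x : Pts X := ⟨x₀, hx₀⟩
  refine ⟨x, Subtype.ext hx₀f, ?_⟩
  -- an affine neighbourhood of the limit point
  obtain ⟨U', hU', hxU', -⟩ := exists_isAffineOpen_mem_and_subset (x := x.pt) (U := ⊤) trivial
  have hcl : (Spec.map (CommRingCat.ofHom (st 𝒰))) cpt = IsLocalRing.closedPoint (O 𝒰) := by
    apply PrimeSpectrum.ext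
    change Ideal.comap (st 𝒰) (cpt : PrimeSpectrum ℂ).asIdeal = IsLocalRing.maximalIdeal (O 𝒰)
    rw [cpt_asIdeal, ← ker_st]
    rfl
  have hlU' : l ⁻¹ᵁ U' = ⊤ := by
    have h1 : IsLocalRing.closedPoint (O 𝒰) ∈ l ⁻¹ᵁ U' := by
      rw [← hcl]
      change l ((Spec.map (CommRingCat.ofHom (st 𝒰))) cpt) ∈ U'
      rw [← Scheme.Hom.comp_apply]
      exact hxU'
    exact IsLocalRing.closed_point_mem_iff.mp h1
  set η := etaK 𝒰 h𝒰 hU with hη
  have hηU' : η ⁻¹ᵁ U' = ⊤ := by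
    rw [← hl1, Scheme.Hom.comp_preimage, hlU']
    rfl
  have hηU : η ⁻¹ᵁ U = ⊤ := preimage_SpecMap_fromSpec hU _
  let p₀ : Spec (CommRingCat.of (K 𝒰)) := (default : PrimeSpectrum (K 𝒰))
  have hp₀U : η p₀ ∈ U := by
    have : p₀ ∈ η ⁻¹ᵁ U := by rw [hηU]; trivial
    exact this
  have hp₀U' : η p₀ ∈ U' := by
    have : p₀ ∈ η ⁻¹ᵁ U' := by rw [hηU']; trivial
    exact this
  obtain ⟨a, haUU', hηa⟩ := hU.exists_basicOpen_le (V := U ⊓ U') ⟨η p₀, hp₀U, hp₀U'⟩ hp₀U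
  haveI : Fact (IsField (CommRingCat.of (K 𝒰))) := ⟨Field.toIsField (K 𝒰)⟩
  have hηa' : ∀ t : Γ(X, U), evL η U hηU t = phiK 𝒰 h𝒰 t := fun t =>
    evL_SpecMap_fromSpec hU (CommRingCat.ofHom (phiK 𝒰 h𝒰)) hηU t
  have hφa : phiK 𝒰 h𝒰 a ≠ 0 := by
    have h1 := (mem_basicOpen_iff_evL_ne_zero η U hηU a p₀).mp hηa
    rwa [hηa'] at h1
  have hae : ∀ᶠ z in (𝒰 : Filter (Pts X)), val U a z ≠ 0 := (germ_ne_zero_iff 𝒰 _).mp hφa
  have hD : ∀ᶠ z in (𝒰 : Filter (Pts X)), z.pt ∈ X.basicOpen a := by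
    filter_upwards [hae, h𝒰] with z hz hzU
    rw [val_eq _ hzU] at hz
    exact (pt_mem_basicOpen_iff z U hzU a).2 hz
  have hDU : X.basicOpen a ≤ U := haUU'.trans inf_le_left
  have hDU' : X.basicOpen a ≤ U' := haUU'.trans inf_le_right
  have hηD : η ⁻¹ᵁ X.basicOpen a = ⊤ := by
    ext p
    have : p = p₀ := Subsingleton.elim (α := PrimeSpectrum (K 𝒰)) _ _
    simp only [Opens.coe_top, Set.mem_univ, iff_true]
    rw [this]
    exact hηa
  refine le_nhds_of_tendsto_val _ x hU' hxU' ?_ ?_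
  · filter_upwards [hD] with z hz
    exact hDU' hz
  · intro s
    -- the value of `s` at the `O`-point
    set σ : O 𝒰 := evL l U' hlU' s with hσ
    have hxs : x.ev U' hxU' s = st 𝒰 σ := by
      rw [ev_eq_evL]
      exact evL_comp (CommRingCat.ofHom (st 𝒰)) l U' hlU' _ s
    have hcompU' : (Spec.map (CommRingCat.ofHom (algebraMap (O 𝒰) (K 𝒰))) ≫ l) ⁻¹ᵁ U' = ⊤ := by
      rw [Scheme.Hom.comp_preimage, hlU']
      rfl
    have hηs : evL η U' hηU' s = (σ : K 𝒰) := by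
      have h1 := evL_comp (CommRingCat.ofHom (algebraMap (O 𝒰) (K 𝒰))) l U' hlU' hcompU' s
      rw [← evL_congr hl1 U' hcompU' hηU' s, h1]
      rfl
    haveI := hU.isLocalization_basicOpen a
    obtain ⟨n, a', ha'⟩ := IsLocalization.Away.surj (S := Γ(X, X.basicOpen a)) a
      (X.presheaf.map (homOfLE hDU').op s)
    have ha'' : X.presheaf.map (homOfLE hDU').op s * (X.presheaf.map (homOfLE hDU).op a) ^ n =
        X.presheaf.map (homOfLE hDU).op a' := ha'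
    -- evaluate at the `K`-point
    have e1 : (σ : K 𝒰) * (phiK 𝒰 h𝒰 a) ^ n = phiK 𝒰 h𝒰 a' := by
      have := congrArg (evL η (X.basicOpen a) hηD) ha''
      rw [map_mul, map_pow, evL_res η hηU' hηD hDU' s, evL_res η hηU hηD hDU a,
        evL_res η hηU hηD hDU a', hηs, hηa', hηa'] at this
      exact this
    -- evaluate at the points `z`
    have e2 : (↑(val U' s) : K 𝒰) * (phiK 𝒰 h𝒰 a) ^ n = phiK 𝒰 h𝒰 a' := by
      rw [phiK_apply, phiK_apply, ← Germ.coe_pow, ← Germ.coe_mul]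
      apply Germ.coe_eq.mpr
      filter_upwards [hD] with z hz
      rw [Pi.mul_apply, Pi.pow_apply, val_eq s (hDU' hz), val_eq a (hDU hz), val_eq a' (hDU hz),
        ev_res z hDU' hz s, ev_res z hDU hz a, ev_res z hDU hz a', ← ev_pow, ← ev_mul]
      exact congrArg _ ha''
    have e3 : (↑(val U' s) : K 𝒰) = (σ : K 𝒰) :=
      mul_right_cancel₀ (pow_ne_zero n hφa) (e2.trans e1.symm)
    rw [hxs]
    exact tendsto_st 𝒰 σ e3

end Core

section Main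

variable {X Y : Scheme.{0}} [X.Over SC] [Y.Over SC] (f : X ⟶ Y) [f.IsOver SC]

/-- a quasi-compact morphism satisfying the existence part of the valuative criterion induces a
proper map on `ℂ`-points. -/
theorem isProperMap_map_of_existence [QuasiCompact f] (hex : ValuativeCriterion.Existence f) :
    IsProperMap (Pts.map f) := by
  rw [isProperMap_iff_ultrafilter]
  refine ⟨Pts.continuous_map f, ?_⟩
  intro 𝒰 y hy
  obtain ⟨V, hV, hyV, -⟩ := exists_isAffineOpen_mem_and_subset (x := y.pt) (U := ⊤) trivial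
  -- `f⁻¹ V` is covered by finitely many affine opens
  have hc : IsCompact ((f ⁻¹ᵁ V : X.Opens) : Set X) := f.isCompact_preimage hV.isCompact
  let ι := {W : X.Opens // IsAffineOpen W ∧ W ≤ f ⁻¹ᵁ V}
  have hcov : ((f ⁻¹ᵁ V : X.Opens) : Set X) ⊆ ⋃ W : ι, ((W.1 : X.Opens) : Set X) := by
    intro p hp
    obtain ⟨W, hW, hpW, hWV⟩ := exists_isAffineOpen_mem_and_subset (x := p) (U := f ⁻¹ᵁ V) hp
    exact Set.mem_iUnion.2 ⟨⟨W, hW, hWV⟩, hpW⟩
  obtain ⟨t, ht⟩ := hc.elim_finite_subcover (fun W : ι => ((W.1 : X.Opens) : Set X))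
    (fun W => W.1.isOpen) hcov
  -- the ultrafilter is concentrated on `f⁻¹ V`
  have h1 : ∀ᶠ z in (𝒰 : Filter (Pts X)), (Pts.map f z).pt ∈ V :=
    hy ((Pts.isOpen_preimage_pt V).mem_nhds hyV)
  have h2 : (⋃ W ∈ (t : Set ι), (Pts.pt ⁻¹' ((W.1 : X.Opens) : Set X) : Set (Pts X))) ∈ 𝒰 := by
    filter_upwards [h1] with z hz
    rw [Pts.pt_map] at hz
    obtain ⟨W, hWt, hzW⟩ := Set.mem_iUnion₂.1 (ht hz)
    exact Set.mem_iUnion₂.2 ⟨W, hWt, hzW⟩
  obtain ⟨W, -, hW𝒰⟩ := (Ultrafilter.finite_biUnion_mem_iff t.finite_toSet).mp h2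
  exact exists_limit 𝒰 hW𝒰 f W.2.2 hyV hy W.2.1 hV hex

/-- **a universally closed morphism induces a proper map on `ℂ`-points.** -/
theorem isProperMap_map [UniversallyClosed f] : IsProperMap (Pts.map f) := by
  have h : (ValuativeCriterion.Existence ⊓ @QuasiCompact) f := by
    rw [← UniversallyClosed.eq_valuativeCriterion]
    infer_instance
  exact isProperMap_map_of_existence f h.1

end Main

end Groth.Agent.Lib.H26AnProper
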