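import Mathlib
import Groth.Agent.Lib.AnPts
import Groth.Agent.Lib.H26AnDense3
import Groth.Agent.Lib.H26AnProd

/-!
# Separatedness and the complex topology (helper26)

* `isClosed_iff_isClosed_preimage_pt` : `T` locally constructible is closed iff `T(ℂ)` is closed.
* `isLocallyConstructible_of_isLocallyClosed`.
* `isSeparated_iff_isSeparatedMap` : `f` separated iff `X(ℂ) → Y(ℂ)` is a separated map.
* `isSeparated_iff_t2Space` : `X` separated over `ℂ` iff `X(ℂ)` is Hausdorff.
-/

set_option autoImplicit false

open AlgebraicGeometry CategoryTheory TopologicalSpace Opposite An Topology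

namespace Groth.Agent.Lib.H26AnSep

open Groth.Agent.Lib.AnPts Groth.Agent.Lib.H26AnDense3 Groth.Agent.Lib.H26AnProd

section

variable {X : Scheme.{0}} [X.Over SC]

/-- `T` locally constructible: `T` is closed iff `T(ℂ)` is closed. -/
theorem isClosed_iff_isClosed_preimage_pt [LocallyOfFiniteType (X ↘ SC)] {T : Set X}
    (hT : IsLocallyConstructible T) :
    IsClosed T ↔ IsClosed (Pts.pt ⁻¹' T : Set (Pts X)) := by
  rw [← isOpen_compl_iff, ← isOpen_compl_iff,
    isOpen_iff_isOpen_preimage_pt (isLocallyConstructible_compl hT)]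
  rfl

theorem isLocallyConstructible_of_isOpen [LocallyOfFiniteType (X ↘ SC)] {U : Set X}
    (hU : IsOpen U) : IsLocallyConstructible U := by
  have := isLocallyConstructible_compl (isLocallyConstructible_of_isClosed hU.isClosed_compl)
  rwa [compl_compl] at this

theorem isLocallyConstructible_of_isLocallyClosed [LocallyOfFiniteType (X ↘ SC)] {T : Set X}
    (hT : IsLocallyClosed T) : IsLocallyConstructible T := by
  obtain ⟨U, Z, hU, hZ, rfl⟩ := hT
  exact (isLocallyConstructible_of_isOpen hU).inter (isLocallyConstructible_of_isClosed hZ)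

end

section

variable {X Y S : Scheme.{0}} [X.Over SC] [Y.Over SC] [S.Over SC]

instance locallyOfFiniteType_pullback (f : X ⟶ S) (g : Y ⟶ S) [f.IsOver SC] [g.IsOver SC]
    [LocallyOfFiniteType (X ↘ SC)] [LocallyOfFiniteType (Y ↘ SC)] :
    LocallyOfFiniteType ((Limits.pullback f g) ↘ SC) := by
  have : LocallyOfFiniteType g := locallyOfFiniteType_of_isOver g
  exact inferInstanceAs (LocallyOfFiniteType (Limits.pullback.fst f g ≫ X ↘ SC))

instance diagonal_isOver (f : X ⟶ Y) [f.IsOver SC] : (Limits.pullback.diagonal f).IsOver SC :=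
  ⟨by
    change Limits.pullback.diagonal f ≫ Limits.pullback.fst f f ≫ (X ↘ SC) = X ↘ SC
    rw [Limits.pullback.diagonal_fst_assoc]⟩

/-- `f` is separated iff `X(ℂ) → Y(ℂ)` is a separated map. -/
theorem isSeparated_iff_isSeparatedMap (f : X ⟶ Y) [f.IsOver SC]
    [LocallyOfFiniteType (X ↘ SC)] [LocallyOfFiniteType (Y ↘ SC)] :
    IsSeparated f ↔ IsSeparatedMap (Pts.map f) := by
  have hΦ := isHomeomorph_pullback f f
  have hcomp : (fun z : Pts (Limits.pullback f f) =>
      (⟨(Pts.map (Limits.pullback.fst f f) z, Pts.map (Limits.pullback.snd f f) z),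
        Pts.map_pullback_condition f f z⟩ :
        {q : Pts X × Pts X // Pts.map f q.1 = Pts.map f q.2})) ∘
      Pts.map (Limits.pullback.diagonal f) = toPullbackDiag (Pts.map f) := by
    funext x
    apply Subtype.ext
    apply Prod.ext
    · apply Subtype.ext
      change (x.1 ≫ Limits.pullback.diagonal f) ≫ Limits.pullback.fst f f = x.1
      rw [Category.assoc, Limits.pullback.diagonal_fst, Category.comp_id]
    · apply Subtype.ext
      change (x.1 ≫ Limits.pullback.diagonal f) ≫ Limits.pullback.snd f f = x.1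
      rw [Category.assoc, Limits.pullback.diagonal_snd, Category.comp_id]
  rw [isSeparatedMap_iff_isClosedEmbedding, ← hcomp]
  have hΦc := hΦ.isClosedEmbedding
  constructor
  · intro hsep
    have : IsClosedImmersion (Limits.pullback.diagonal f) := hsep.1
    exact hΦc.comp (isClosedEmbedding_map_of_isClosedImmersion _)
  · intro h
    have h1 : IsClosedEmbedding (Pts.map (Limits.pullback.diagonal f)) :=
      (IsClosedEmbedding.of_comp_iff hΦc).mp h
    have h2 : IsClosed (Set.range (Pts.map (Limits.pullback.diagonal f))) := h1.isClosed_range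
    rw [range_map_eq_preimage_pt] at h2
    have hlc : IsLocallyConstructible (Set.range (Limits.pullback.diagonal f)) :=
      isLocallyConstructible_of_isLocallyClosed
        (IsImmersion.isLocallyClosed_range (f := Limits.pullback.diagonal f))
    have h3 : IsClosed (Set.range (Limits.pullback.diagonal f)) :=
      (isClosed_iff_isClosed_preimage_pt hlc).mpr h2
    exact ⟨IsClosedImmersion.of_isPreimmersion _ h3⟩

end

section

variable {X : Scheme.{0}} [X.Over SC]

/-- `X` is separated over `ℂ` iff `X(ℂ)` is Hausdorff. -/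
theorem isSeparated_iff_t2Space [LocallyOfFiniteType (X ↘ SC)] :
    IsSeparated (X ↘ SC) ↔ T2Space (Pts X) := by
  letI instSC : SC.Over SC := ⟨𝟙 SC⟩
  haveI : (X ↘ SC).IsOver SC := ⟨Category.comp_id _⟩
  haveI : LocallyOfFiniteType (SC ↘ SC) := inferInstanceAs (LocallyOfFiniteType (𝟙 SC))
  rw [isSeparated_iff_isSeparatedMap (X ↘ SC)]
  let y₀ : Pts SC := ⟨𝟙 SC, Category.comp_id _⟩
  have hconst : Pts.map (X ↘ SC) = fun _ => y₀ := by
    funext x
    apply Subtype.ext
    exact x.2
  rw [hconst]
  exact (t2space_iff_isSeparatedMap y₀).symm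

end

end Groth.Agent.Lib.H26AnSep
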