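import Mathlib
import Groth.Agent.Lib.AnPts
import Groth.Agent.Lib.H26AnDense3
import Groth.Agent.Lib.H26AnProd
import Groth.Agent.Lib.H26AnSep
import Groth.Agent.Lib.H26AnProper
import Groth.Agent.Lib.UnivClosedAffineSpace

/-!
# Properness and the complex topology (helper26)

* `exists_pt_mem_map_eq`, `preimage_pt_image` : `ℂ`-points of the image of a locally constructible
  set.
* `isClosedMap_snd` : if `X(ℂ) → Y(ℂ)` is proper then every finite type base change of `f` is closed.
* `universallyClosed_of_isProperMap`, `isProper_iff` : `f` proper iff `X(ℂ) → Y(ℂ)` proper and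
  separated.
-/

set_option autoImplicit false

open AlgebraicGeometry CategoryTheory TopologicalSpace Opposite An Topology

namespace Groth.Agent.Lib.H26AnProper2

open Groth.Agent.Lib.AnPts Groth.Agent.Lib.H26AnDense3 Groth.Agent.Lib.H26AnProd
  Groth.Agent.Lib.H26AnSep

section Top

/-- the base change of a proper map of topological spaces is closed. -/
theorem isClosedMap_snd_of_isProperMap {A B C : Type*} [TopologicalSpace A] [TopologicalSpace B]
    [TopologicalSpace C] {φ : A → B} {γ : C → B} (hφ : IsProperMap φ) (hγ : Continuous γ) :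
    IsClosedMap (fun q : {q : A × C // φ q.1 = γ q.2} => q.1.2) := by
  intro F hF
  obtain ⟨F', hF', rfl⟩ := isClosed_induced_iff.mp hF
  have h1 : IsClosed (Prod.map φ id '' F' : Set (B × C)) := hφ.universally_closed C F' hF'
  have h2 : (fun q : {q : A × C // φ q.1 = γ q.2} => q.1.2) '' (Subtype.val ⁻¹' F') =
      (fun c : C => (γ c, c)) ⁻¹' (Prod.map φ id '' F') := by
    ext c
    constructor
    · rintro ⟨⟨⟨a, c'⟩, hq⟩, hqF, rfl⟩
      exact ⟨(a, c'), hqF, Prod.ext hq rfl⟩
    · rintro ⟨⟨a, c'⟩, haF, he⟩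
      have e1 : φ a = γ c := congrArg Prod.fst he
      have e2 : c' = c := congrArg Prod.snd he
      subst e2
      exact ⟨⟨(a, c'), e1⟩, haF, rfl⟩
  rw [h2]
  exact h1.preimage (hγ.prodMk continuous_id)

end Top

section

variable {X Y : Scheme.{0}} [X.Over SC] [Y.Over SC]

/-- a `ℂ`-point of `Y` lying in the image of a closed set `S` lifts to a `ℂ`-point lying
in `S`. -/
theorem exists_pt_mem_map_eq (f : X ⟶ Y) [f.IsOver SC] [LocallyOfFiniteType (X ↘ SC)]
    {S : Set X} (hS : IsClosed S) (y : Pts Y) (hy : y.pt ∈ f '' S) :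
    ∃ x : Pts X, x.pt ∈ S ∧ Pts.map f x = y := by
  obtain ⟨x₀, hx₀S, hx₀⟩ := hy
  obtain ⟨z₀, hz₀, -⟩ := Scheme.Pullback.exists_preimage_pullback (f := f) (g := y.1) x₀ cpt hx₀
  have : LocallyOfFiniteType f := locallyOfFiniteType_of_isOver f
  let inst : (Limits.pullback f y.1).Over SC := ⟨Limits.pullback.snd f y.1⟩
  have : LocallyOfFiniteType ((Limits.pullback f y.1) ↘ SC) :=
    inferInstanceAs (LocallyOfFiniteType (Limits.pullback.snd f y.1))
  have hS' : IsClosed ((Limits.pullback.fst f y.1) ⁻¹' S) :=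
    hS.preimage (Limits.pullback.fst f y.1).continuous
  obtain ⟨z, hzS⟩ := exists_pt_mem_of_isLocallyConstructible
    (X := Limits.pullback f y.1) (isLocallyConstructible_of_isClosed hS') ⟨z₀, by
      change Limits.pullback.fst f y.1 z₀ ∈ S
      rw [hz₀]
      exact hx₀S⟩
  have hz : z.1 ≫ Limits.pullback.snd f y.1 = 𝟙 SC := z.2
  refine ⟨⟨z.1 ≫ Limits.pullback.fst f y.1, ?_⟩, ?_, ?_⟩
  · rw [← comp_over f SC, Category.assoc, Limits.pullback.condition_assoc, reassoc_of% hz]
    exact y.2
  · change (z.1 ≫ Limits.pullback.fst f y.1) cpt ∈ S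
    rw [Scheme.Hom.comp_apply]
    exact hzS
  · apply Subtype.ext
    change (z.1 ≫ Limits.pullback.fst f y.1) ≫ f = y.1
    rw [Category.assoc, Limits.pullback.condition, reassoc_of% hz]

/-- `ℂ`-points of the image of a closed set. -/
theorem preimage_pt_image (f : X ⟶ Y) [f.IsOver SC] [LocallyOfFiniteType (X ↘ SC)]
    {S : Set X} (hS : IsClosed S) :
    (Pts.pt ⁻¹' (f '' S) : Set (Pts Y)) = Pts.map f '' (Pts.pt ⁻¹' S) := by
  apply Set.Subset.antisymm
  · intro y hy
    obtain ⟨x, hxS, hx⟩ := exists_pt_mem_map_eq f hS y hy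
    exact ⟨x, hxS, hx⟩
  · rintro _ ⟨x, hxS, rfl⟩
    rw [Set.mem_preimage, Pts.pt_map]
    exact ⟨x.pt, hxS, rfl⟩

variable {T : Scheme.{0}} [T.Over SC]

/-- if `X(ℂ) → Y(ℂ)` is proper, the base change `(X ×_Y T)(ℂ) → T(ℂ)` is a closed map. -/
theorem isClosedMap_map_snd (f : X ⟶ Y) (g : T ⟶ Y) [f.IsOver SC] [g.IsOver SC]
    (h : IsProperMap (Pts.map f)) : IsClosedMap (Pts.map (Limits.pullback.snd f g)) := by
  have hΦ := isHomeomorph_pullback f g
  have h1 := isClosedMap_snd_of_isProperMap h (Pts.continuous_map g)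
  exact h1.comp hΦ.homeomorph.isClosedMap

/-- if `X(ℂ) → Y(ℂ)` is proper (and `f` is quasi-compact), every base change of `f` to a scheme
locally of finite type over `ℂ` is a closed map. -/
theorem isClosedMap_snd (f : X ⟶ Y) (g : T ⟶ Y) [f.IsOver SC] [g.IsOver SC]
    [LocallyOfFiniteType (X ↘ SC)] [LocallyOfFiniteType (T ↘ SC)] [QuasiCompact f]
    (h : IsProperMap (Pts.map f)) : IsClosedMap (Limits.pullback.snd f g) := by
  intro Z hZ
  have : LocallyOfFiniteType (Limits.pullback.snd f g) :=
    locallyOfFiniteType_of_isOver (Limits.pullback.snd f g)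
  have : IsLocallyNoetherian T := LocallyOfFiniteType.isLocallyNoetherian (T ↘ SC)
  have hlc : IsLocallyConstructible (Limits.pullback.snd f g '' Z) :=
    (Limits.pullback.snd f g).isLocallyConstructible_image (isLocallyConstructible_of_isClosed hZ)
  rw [isClosed_iff_isClosed_preimage_pt hlc, preimage_pt_image _ hZ]
  exact isClosedMap_map_snd f g h _ (hZ.preimage Pts.continuous_pt)

/-- a quasi-compact morphism inducing a proper map on `ℂ`-points is universally closed. -/
theorem universallyClosed_of_isProperMap (f : X ⟶ Y) [f.IsOver SC]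
    [LocallyOfFiniteType (X ↘ SC)] [LocallyOfFiniteType (Y ↘ SC)] [QuasiCompact f]
    (h : IsProperMap (Pts.map f)) : UniversallyClosed f := by
  apply Groth.Agent.Lib.UnivClosedAffineSpace.universallyClosed_of_forall_isClosedMap_snd
  intro n
  have : LocallyOfFiniteType (𝔸(ULift.{0} (Fin n); Y) ↘ SC) :=
    inferInstanceAs (LocallyOfFiniteType ((𝔸(ULift.{0} (Fin n); Y) ↘ Y) ≫ Y ↘ SC))
  exact isClosedMap_snd f (𝔸(ULift.{0} (Fin n); Y) ↘ Y) h

/-- **`f` is proper iff `X(ℂ) → Y(ℂ)` is proper and separated** (`f` quasi-compact). -/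
theorem isProper_iff (f : X ⟶ Y) [f.IsOver SC]
    [LocallyOfFiniteType (X ↘ SC)] [LocallyOfFiniteType (Y ↘ SC)] [QuasiCompact f] :
    IsProper f ↔ IsProperMap (Pts.map f) ∧ IsSeparatedMap (Pts.map f) := by
  constructor
  · intro hf
    exact ⟨H26AnProper.isProperMap_map f, (isSeparated_iff_isSeparatedMap f).mp inferInstance⟩
  · rintro ⟨h1, h2⟩
    have : IsSeparated f := (isSeparated_iff_isSeparatedMap f).mpr h2
    have : UniversallyClosed f := universallyClosed_of_isProperMap f h1
    have : LocallyOfFiniteType f := locallyOfFiniteType_of_isOver f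
    exact {}

lemma isClosed_of_subsingleton {B : Type*} [TopologicalSpace B] [Subsingleton B] (S : Set B) :
    IsClosed S := by
  rcases Set.eq_empty_or_nonempty S with rfl | ⟨b, hb⟩
  · exact isClosed_empty
  · have : S = Set.univ := by
      ext b'
      rw [Subsingleton.elim b' b]
      simp [hb]
    rw [this]
    exact isClosed_univ

/-- a constant map to a subsingleton space is proper iff the source is compact. -/
theorem isProperMap_const_iff {A B : Type*} [TopologicalSpace A] [TopologicalSpace B]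
    [Subsingleton B] (y₀ : B) : IsProperMap (fun _ : A => y₀) ↔ CompactSpace A := by
  constructor
  · intro h
    have := h.isCompact_preimage (isCompact_singleton (x := y₀))
    rw [Set.preimage_const_of_mem (Set.mem_singleton y₀)] at this
    exact ⟨this⟩
  · intro h
    rw [isProperMap_iff_isClosedMap_and_compact_fibers]
    refine ⟨continuous_const, fun F _ => isClosed_of_subsingleton _, fun y => ?_⟩
    exact ((isClosed_of_subsingleton {y}).preimage continuous_const).isCompact

/-- **`X` is proper over `ℂ` iff `X(ℂ)` is compact Hausdorff** (`X` of finite type). -/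
theorem isProper_iff_compactSpace_t2Space [LocallyOfFiniteType (X ↘ SC)]
    [QuasiCompact (X ↘ SC)] :
    IsProper (X ↘ SC) ↔ CompactSpace (Pts X) ∧ T2Space (Pts X) := by
  rw [← isSeparated_iff_t2Space]
  letI instSC : SC.Over SC := ⟨𝟙 SC⟩
  haveI : (X ↘ SC).IsOver SC := ⟨Category.comp_id _⟩
  haveI : LocallyOfFiniteType (SC ↘ SC) := inferInstanceAs (LocallyOfFiniteType (𝟙 SC))
  rw [isProper_iff (X ↘ SC), ← isSeparated_iff_isSeparatedMap (X ↘ SC)]
  let y₀ : Pts SC := ⟨𝟙 SC, Category.comp_id _⟩
  have hconst : Pts.map (X ↘ SC) = fun _ => y₀ := by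
    funext x
    apply Subtype.ext
    exact x.2
  have hsub : Subsingleton (Pts SC) := by
    constructor
    intro a b
    apply Subtype.ext
    have ha : a.1 ≫ 𝟙 SC = 𝟙 SC := a.2
    have hb : b.1 ≫ 𝟙 SC = 𝟙 SC := b.2
    rw [Category.comp_id] at ha hb
    rw [ha, hb]
  rw [hconst, isProperMap_const_iff y₀]

end

end Groth.Agent.Lib.H26AnProper2
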