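import Mathlib
import Groth.Agent.Lib.AnPts
import Groth.Agent.Lib.H26AnSep
import Groth.Agent.Lib.H26AnProper2

/-!
# Finite morphisms and the complex topology (helper26)

`f` is finite iff `X(ℂ) → Y(ℂ)` is proper, separated and has finite fibres (`f` quasi-compact).
-/

set_option autoImplicit false

open AlgebraicGeometry CategoryTheory TopologicalSpace Opposite An Topology

namespace Groth.Agent.Lib.H26AnFinite

open Groth.Agent.Lib.AnPts Groth.Agent.Lib.H26AnSep Groth.Agent.Lib.H26AnProper2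

variable {X Y : Scheme.{0}} [X.Over SC] [Y.Over SC]

/-- if the fibre of `X(ℂ) → Y(ℂ)` over `y` is finite, the scheme-theoretic fibre over `y.pt`
is the (finite) set of underlying points. -/
theorem preimage_singleton_pt_eq (f : X ⟶ Y) [f.IsOver SC]
    [LocallyOfFiniteType (X ↘ SC)] [LocallyOfFiniteType (Y ↘ SC)] (y : Pts Y)
    (hfin : (Pts.map f ⁻¹' {y}).Finite) :
    (f ⁻¹' {y.pt} : Set X) = Pts.pt '' (Pts.map f ⁻¹' {y}) := by
  have hF₀cl : IsClosed (Pts.pt '' (Pts.map f ⁻¹' {y}) : Set X) := by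
    have : (Pts.pt '' (Pts.map f ⁻¹' {y}) : Set X) =
        ⋃ x ∈ (Pts.map f ⁻¹' {y}), ({Pts.pt x} : Set X) := by
      ext p
      simp only [Set.mem_image, Set.mem_iUnion, Set.mem_singleton_iff, exists_prop]
      constructor
      · rintro ⟨x, hx, rfl⟩
        exact ⟨x, hx, rfl⟩
      · rintro ⟨x, hx, rfl⟩
        exact ⟨x, hx, rfl⟩
    rw [this]
    exact hfin.isClosed_biUnion fun x _ => isClosed_singleton_pt x
  have hFcl : IsClosed (f ⁻¹' {y.pt} : Set X) := (isClosed_singleton_pt y).preimage f.continuous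
  apply Set.Subset.antisymm
  · by_contra hne
    rw [Set.not_subset] at hne
    obtain ⟨p, hpF, hpF₀⟩ := hne
    have hlc : IsLocallyClosed ((f ⁻¹' {y.pt}) ∩ (Pts.pt '' (Pts.map f ⁻¹' {y}))ᶜ : Set X) :=
      hFcl.isLocallyClosed.inter hF₀cl.isOpen_compl.isLocallyClosed
    obtain ⟨x, hxF, hxF₀⟩ := exists_pt_mem_of_isLocallyClosed hlc ⟨p, hpF, hpF₀⟩
    apply hxF₀
    refine ⟨x, ?_, rfl⟩
    apply pt_injective
    rw [Pts.pt_map]
    exact hxF
  · rintro _ ⟨x, hx, rfl⟩
    have : Pts.map f x = y := hx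
    change f x.pt = y.pt
    rw [← Pts.pt_map, this]

/-- finiteness of the fibres of `X(ℂ) → Y(ℂ)` implies that `f` is locally quasi-finite. -/
theorem locallyQuasiFinite_of_finite_fibres (f : X ⟶ Y) [f.IsOver SC]
    [LocallyOfFiniteType (X ↘ SC)] [LocallyOfFiniteType (Y ↘ SC)]
    (hfin : ∀ y : Pts Y, (Pts.map f ⁻¹' {y}).Finite) : LocallyQuasiFinite f := by
  have : LocallyOfFiniteType f := locallyOfFiniteType_of_isOver f
  rw [← Scheme.Hom.quasiFiniteLocus_eq_top_iff]
  by_contra hne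
  have hne' : ((f.quasiFiniteLocus : Set X)ᶜ).Nonempty := by
    rw [Set.nonempty_compl]
    intro h
    apply hne
    ext p
    simp [h]
  obtain ⟨x, hx⟩ := exists_pt_mem_of_isLocallyClosed
    (f.quasiFiniteLocus.isOpen.isClosed_compl.isLocallyClosed) hne'
  apply hx
  change f.QuasiFiniteAt x.pt
  rw [Scheme.Hom.quasiFiniteAt_iff_isOpen_singleton_asFiber,
    ← (f.fiberHomeo (f x.pt)).isOpen_image]
  -- the fibre is a finite `T₁` space
  have hpt : f x.pt = (Pts.map f x).pt := (Pts.pt_map f x).symm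
  have hF := preimage_singleton_pt_eq f (Pts.map f x) (hfin _)
  rw [← hpt] at hF
  have hFfin : (f ⁻¹' {f x.pt} : Set X).Finite := by
    rw [hF]
    exact (hfin _).image _
  have : Finite (f ⁻¹' {f x.pt} : Set X) := hFfin.to_subtype
  have : T1Space (f ⁻¹' {f x.pt} : Set X) := by
    refine ⟨fun p => ?_⟩
    have hp : (p : X) ∈ Pts.pt '' (Pts.map f ⁻¹' {Pts.map f x}) := hF ▸ p.2
    obtain ⟨x', -, hx'⟩ := hp
    have hcl : IsClosed ({(p : X)} : Set X) := hx' ▸ isClosed_singleton_pt x'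
    have : ({p} : Set (f ⁻¹' {f x.pt} : Set X)) = Subtype.val ⁻¹' ({(p : X)} : Set X) := by
      ext q
      simp [Subtype.ext_iff]
    rw [this]
    exact hcl.preimage continuous_subtype_val
  exact isOpen_discrete _

/-- **`f` is finite iff `X(ℂ) → Y(ℂ)` is proper, separated and has finite fibres.** -/
theorem isFinite_iff (f : X ⟶ Y) [f.IsOver SC]
    [LocallyOfFiniteType (X ↘ SC)] [LocallyOfFiniteType (Y ↘ SC)] [QuasiCompact f] :
    IsFinite f ↔ IsProperMap (Pts.map f) ∧ IsSeparatedMap (Pts.map f) ∧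
      ∀ y : Pts Y, (Pts.map f ⁻¹' {y}).Finite := by
  constructor
  · intro hf
    have h := (H26AnProper2.isProper_iff f).mp inferInstance
    refine ⟨h.1, h.2, fun y => ?_⟩
    have h1 : (f ⁻¹' {y.pt} : Set X).Finite := f.finite_preimage_singleton y.pt
    refine Set.Finite.of_finite_image (f := Pts.pt) (h1.subset ?_) pt_injective.injOn
    rintro _ ⟨x, hx, rfl⟩
    have : Pts.map f x = y := hx
    change f x.pt = y.pt
    rw [← Pts.pt_map, this]
  · rintro ⟨h1, h2, h3⟩
    have : IsProper f := (H26AnProper2.isProper_iff f).mpr ⟨h1, h2⟩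
    have : LocallyQuasiFinite f := locallyQuasiFinite_of_finite_fibres f h3
    exact IsFinite.of_isProper_of_locallyQuasiFinite f

end Groth.Agent.Lib.H26AnFinite
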