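import Mathlib
import Groth.Agent.Lib.AnPts
import Groth.Prelude.Def_AnHol

/-!
# Holomorphic functions on `𝔸ⁿ(ℂ)` (helper26)

Sanity check of `An.holPred` on affine space: a function on an open of `𝔸ⁿ(ℂ)` is holomorphic
iff it is a complex-differentiable function of the coordinates.
-/

set_option autoImplicit false

open AlgebraicGeometry CategoryTheory TopologicalSpace Opposite An Topology

namespace Groth.Agent.Lib.H26AnHol

open Groth.Agent.Lib.AnPts

variable (n : ℕ)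

/-- the coordinate homeomorphism `𝔸ⁿ(ℂ) ≃ₜ ℂⁿ`. -/
noncomputable def e : Pts (𝔸(Fin n; SC)) ≃ₜ (Fin n → ℂ) :=
  (isHomeomorph_affineSpace n).homeomorph

lemma e_apply (x : Pts (𝔸(Fin n; SC))) (i : Fin n) :
    e n x i = x.evTop (AffineSpace.coord SC i) := rfl

/-- a polynomial representing a global function. -/
noncomputable def poly (a : Γ(𝔸(Fin n; SC), ⊤)) : MvPolynomial (Fin n) ℂ :=
  (surjective_eval₂Hom_coord n a).choose

lemma poly_spec (a : Γ(𝔸(Fin n; SC), ⊤)) :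
    MvPolynomial.eval₂Hom (strHom (𝔸(Fin n; SC))) (AffineSpace.coord SC) (poly n a) = a :=
  (surjective_eval₂Hom_coord n a).choose_spec

lemma evTop_eq_eval (x : Pts (𝔸(Fin n; SC))) (a : Γ(𝔸(Fin n; SC), ⊤)) :
    x.evTop a = MvPolynomial.eval (e n x) (poly n a) := by
  conv_lhs => rw [← poly_spec n a]
  exact evTop_eval₂Hom (AffineSpace.coord SC) x (poly n a)

lemma differentiable_eval (P : MvPolynomial (Fin n) ℂ) :
    Differentiable ℂ (fun v : Fin n → ℂ => MvPolynomial.eval v P) := fun v =>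
  ((AnalyticOnNhd.eval_mvPolynomial P) v (Set.mem_univ v)).differentiableAt

/-- transport of a function on a subset of `𝔸ⁿ(ℂ)` to `ℂⁿ` (zero outside). -/
noncomputable def hat {U : Set (Pts (𝔸(Fin n; SC)))} (g : U → ℂ) : (Fin n → ℂ) → ℂ :=
  fun v => by
    classical
    exact if h : (e n).symm v ∈ U then g ⟨(e n).symm v, h⟩ else 0

lemma hat_apply {U : Set (Pts (𝔸(Fin n; SC)))} (g : U → ℂ) (x : U) :
    hat n g (e n x) = g x := by
  classical
  unfold hat
  have h : (e n).symm (e n x) ∈ U := by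
    rw [Homeomorph.symm_apply_apply]
    exact x.2
  rw [dif_pos h]
  congr 1
  exact Subtype.ext ((e n).symm_apply_apply x)

/-- the value function of a section over a Zariski open, transported to `ℂⁿ`. -/
noncomputable def secFun (W : (𝔸(Fin n; SC)).Opens) (s : Γ(𝔸(Fin n; SC), W)) :
    (Fin n → ℂ) → ℂ := fun v => by
  classical
  exact if h : ((e n).symm v).pt ∈ W then ((e n).symm v).ev W h s else 0

lemma secFun_apply (W : (𝔸(Fin n; SC)).Opens) (s : Γ(𝔸(Fin n; SC), W))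
    (x : Pts (𝔸(Fin n; SC))) (hx : x.pt ∈ W) : secFun n W s (e n x) = x.ev W hx s := by
  classical
  unfold secFun
  have h : ((e n).symm (e n x)).pt ∈ W := by
    rw [Homeomorph.symm_apply_apply]
    exact hx
  rw [dif_pos h]
  congr 1
  exact (e n).symm_apply_apply x

/-- key local computation: on a basic open `D(q) ≤ W`, a section is a quotient `a / q^k`. -/
lemma exists_quotient (W : (𝔸(Fin n; SC)).Opens) (s : Γ(𝔸(Fin n; SC), W))
    (x₀ : Pts (𝔸(Fin n; SC))) (hx₀ : x₀.pt ∈ W) :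
    ∃ (q a : Γ(𝔸(Fin n; SC), ⊤)) (k : ℕ), x₀.pt ∈ (𝔸(Fin n; SC)).basicOpen q ∧
      (𝔸(Fin n; SC)).basicOpen q ≤ W ∧
      ∀ (x : Pts (𝔸(Fin n; SC))) (hx : x.pt ∈ W), x.pt ∈ (𝔸(Fin n; SC)).basicOpen q →
        x.ev W hx s * x.evTop q ^ k = x.evTop a := by
  obtain ⟨q, hqW, hxq⟩ := (isAffineOpen_top (𝔸(Fin n; SC))).exists_basicOpen_le
    (V := W) ⟨x₀.pt, hx₀⟩ (Opens.mem_top _)
  haveI := (isAffineOpen_top (𝔸(Fin n; SC))).isLocalization_basicOpen q
  obtain ⟨⟨a, m⟩, ham⟩ := IsLocalization.surj (Submonoid.powers q)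
    ((𝔸(Fin n; SC)).presheaf.map (homOfLE hqW).op s)
  obtain ⟨k, hk⟩ := m.2
  refine ⟨q, a, k, hxq, hqW, fun x hx hxq' => ?_⟩
  have h1 := congrArg (evHom x _ hxq') ham
  rw [map_mul, ← hk] at h1
  simp only [evHom_apply] at h1
  rw [← AnPts.ev_res x hqW hxq' s] at h1
  have h2 : ∀ b : Γ(𝔸(Fin n; SC), ⊤), x.ev _ hxq'
      (algebraMap Γ(𝔸(Fin n; SC), ⊤) Γ(𝔸(Fin n; SC), (𝔸(Fin n; SC)).basicOpen q) b) =
      x.evTop b := fun b => (AnPts.evTop_res x le_top hxq' b).symm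
  rw [h2, h2] at h1
  rw [← h1]
  congr 1
  exact (ev_pow x ⊤ (Opens.mem_top _) q k).symm

lemma isOpen_image_preimage_pt (W : (𝔸(Fin n; SC)).Opens) :
    IsOpen (e n '' (Pts.pt ⁻¹' (W : Set (𝔸(Fin n; SC))))) :=
  (e n).isOpenMap _ (W.isOpen.preimage Pts.continuous_pt)

/-- regular functions on a Zariski open are holomorphic in the coordinates. -/
theorem differentiableOn_secFun (W : (𝔸(Fin n; SC)).Opens) (s : Γ(𝔸(Fin n; SC), W)) :
    DifferentiableOn ℂ (secFun n W s) (e n '' (Pts.pt ⁻¹' (W : Set (𝔸(Fin n; SC))))) := by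
  rintro _ ⟨x₀, hx₀, rfl⟩
  obtain ⟨q, a, k, hxq, hqW, hqa⟩ := exists_quotient n W s x₀ hx₀
  refine DifferentiableAt.differentiableWithinAt ?_
  have hq0 : MvPolynomial.eval (e n x₀) (poly n q) ≠ 0 := by
    rw [← evTop_eq_eval]
    exact (pt_mem_basicOpen_iff x₀ ⊤ (Opens.mem_top _) q).mp hxq
  have hdiff : DifferentiableAt ℂ (fun v : Fin n → ℂ =>
      MvPolynomial.eval v (poly n a) / MvPolynomial.eval v (poly n q) ^ k) (e n x₀) := by
    have h1 : DifferentiableAt ℂ (fun v : Fin n → ℂ => MvPolynomial.eval v (poly n a))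
      (e n x₀) := (differentiable_eval n (poly n a)) _
    have h2 : DifferentiableAt ℂ (fun v : Fin n → ℂ => MvPolynomial.eval v (poly n q) ^ k)
      (e n x₀) := ((differentiable_eval n (poly n q)) _).pow k
    have h3 : DifferentiableAt ℂ (fun v : Fin n → ℂ =>
        MvPolynomial.eval v (poly n a) * (MvPolynomial.eval v (poly n q) ^ k)⁻¹) (e n x₀) :=
      h1.mul (h2.inv (pow_ne_zero k hq0))
    simpa only [div_eq_mul_inv] using h3
  refine hdiff.congr_of_eventuallyEq ?_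
  have hN : e n '' (Pts.pt ⁻¹' (((𝔸(Fin n; SC)).basicOpen q : (𝔸(Fin n; SC)).Opens) :
      Set (𝔸(Fin n; SC)))) ∈ 𝓝 (e n x₀) :=
    (isOpen_image_preimage_pt n _).mem_nhds ⟨x₀, hxq, rfl⟩
  filter_upwards [hN] with v hv
  obtain ⟨x, hx, rfl⟩ := hv
  have hxW : x.pt ∈ W := hqW hx
  rw [secFun_apply n W s x hxW, ← evTop_eq_eval, ← evTop_eq_eval, ← hqa x hxW hx]
  have : x.evTop q ≠ 0 := (pt_mem_basicOpen_iff x ⊤ (Opens.mem_top _) q).mp hx
  field_simp

lemma isOpen_image (U : Opens (Pts (𝔸(Fin n; SC)))) :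
    IsOpen (e n '' (U : Set (Pts (𝔸(Fin n; SC))))) :=
  (e n).isOpenMap _ U.isOpen

/-- chart functions are differentiable in the coordinates. -/
lemma differentiableOn_hat_of_isChartFun (U : Opens (Pts (𝔸(Fin n; SC)))) (f : U → ℂ)
    (hf : IsChartFun (X := 𝔸(Fin n; SC)) U f) :
    DifferentiableOn ℂ (hat n (U := (U : Set (Pts (𝔸(Fin n; SC))))) f)
      (e n '' (U : Set (Pts (𝔸(Fin n; SC))))) := by
  obtain ⟨W, hW, m, s, V, G, hV, hG, h⟩ := hf
  have hmaps : Set.MapsTo (fun v : Fin n → ℂ => fun i : Fin m => secFun n W (s i) v)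
      (e n '' (U : Set (Pts (𝔸(Fin n; SC))))) V := by
    rintro _ ⟨x, hx, rfl⟩
    have := (h ⟨x, hx⟩).1
    convert this using 1
    funext i
    exact secFun_apply n W (s i) x (hW ⟨x, hx⟩)
  have hd : DifferentiableOn ℂ (fun v : Fin n → ℂ => fun i : Fin m => secFun n W (s i) v)
      (e n '' (U : Set (Pts (𝔸(Fin n; SC))))) := by
    rw [differentiableOn_pi]
    intro i
    refine (differentiableOn_secFun n W (s i)).mono ?_
    rintro _ ⟨x, hx, rfl⟩
    exact ⟨x, hW ⟨x, hx⟩, rfl⟩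
  refine (hG.comp hd hmaps).congr ?_
  rintro _ ⟨x, hx, rfl⟩
  rw [hat_apply n f ⟨x, hx⟩]
  refine ((h ⟨x, hx⟩).2).trans ?_
  simp only [Function.comp_apply]
  congr 1
  funext i
  exact (secFun_apply n W (s i) x (hW ⟨x, hx⟩)).symm

/-- functions in the chart algebra are differentiable in the coordinates. -/
lemma differentiableOn_hat_of_mem_chartAlg (U : Opens (Pts (𝔸(Fin n; SC)))) (f : U → ℂ)
    (hf : f ∈ chartAlg (X := 𝔸(Fin n; SC)) U) :
    DifferentiableOn ℂ (hat n (U := (U : Set (Pts (𝔸(Fin n; SC))))) f)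
      (e n '' (U : Set (Pts (𝔸(Fin n; SC))))) := by
  induction hf using Algebra.adjoin_induction with
  | mem f hf => exact differentiableOn_hat_of_isChartFun n U f hf
  | algebraMap c =>
    refine (differentiableOn_const (c := c)).congr ?_
    rintro _ ⟨x, hx, rfl⟩
    rw [hat_apply n _ ⟨x, hx⟩]
    rfl
  | add f g _ _ hf hg =>
    refine (hf.add hg).congr ?_
    rintro _ ⟨x, hx, rfl⟩
    simp only [Pi.add_apply]
    rw [hat_apply n _ ⟨x, hx⟩, hat_apply n _ ⟨x, hx⟩, hat_apply n _ ⟨x, hx⟩]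
    rfl
  | mul f g _ _ hf hg =>
    refine (hf.mul hg).congr ?_
    rintro _ ⟨x, hx, rfl⟩
    simp only [Pi.mul_apply]
    rw [hat_apply n _ ⟨x, hx⟩, hat_apply n _ ⟨x, hx⟩, hat_apply n _ ⟨x, hx⟩]
    rfl

/-- **Sanity check of `An.holPred` on affine space.** -/
theorem holPred_iff (U : Opens (Pts (𝔸(Fin n; SC)))) (g : U → ℂ) :
    (holPred (𝔸(Fin n; SC))).pred g ↔
      ∃ G : (Fin n → ℂ) → ℂ,
        DifferentiableOn ℂ G ((fun (x : Pts (𝔸(Fin n; SC))) (i : Fin n) =>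
          x.evTop (AffineSpace.coord SC i)) '' (U : Set (Pts (𝔸(Fin n; SC))))) ∧
        ∀ x : U, g x = G (fun i => (x : Pts (𝔸(Fin n; SC))).evTop (AffineSpace.coord SC i)) := by
  constructor
  · intro hg
    refine ⟨hat n (U := (U : Set (Pts (𝔸(Fin n; SC))))) g, ?_, fun x => (hat_apply n g x).symm⟩
    change DifferentiableOn ℂ _ (e n '' (U : Set (Pts (𝔸(Fin n; SC)))))
    rintro _ ⟨x, hx, rfl⟩
    obtain ⟨(V : Opens (Pts (𝔸(Fin n; SC)))), hxV, i, hV⟩ := hg ⟨x, hx⟩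
    have h1 := differentiableOn_hat_of_mem_chartAlg n V _ hV
    have h2 : DifferentiableAt ℂ (hat n (U := (V : Set (Pts (𝔸(Fin n; SC)))))
        (fun y : V => g (i y))) (e n x) :=
      (h1 _ ⟨x, hxV, rfl⟩).differentiableAt ((isOpen_image n V).mem_nhds ⟨x, hxV, rfl⟩)
    refine DifferentiableAt.differentiableWithinAt (h2.congr_of_eventuallyEq ?_)
    filter_upwards [(isOpen_image n V).mem_nhds ⟨x, hxV, rfl⟩] with v hv
    obtain ⟨y, hy, rfl⟩ := hv
    rw [hat_apply n (fun y : V => g (i y)) ⟨y, hy⟩,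
      hat_apply n g ⟨y, (leOfHom i) hy⟩]
    rfl
  · rintro ⟨G, hG, hgG⟩
    refine holPred_of_chartAlg (Algebra.subset_adjoin ?_)
    refine ⟨⊤, fun _ => Opens.mem_top _, n, fun i => AffineSpace.coord SC i,
      e n '' (U : Set (Pts (𝔸(Fin n; SC)))), G, isOpen_image n U, hG, fun x => ⟨?_, hgG x⟩⟩
    exact ⟨x.1, x.2, rfl⟩

end Groth.Agent.Lib.H26AnHol
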