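/-
Helper library (helper26): Gorenstein rings and complete intersections.
* `isGorensteinLocalRing_quotient_ofList`: Gorenstein local modulo a regular sequence.
* `isGorensteinRing_of_ringEquiv`.
* `isGorensteinRing_quotient_span_range`: in a regular ring, the quotient by an ideal of height `c`
  generated by `c` elements is a Gorenstein ring.
-/
import Mathlib.Tactic
import Mathlib.RingTheory.Regular.RegularSequence
import Groth.Agent.S0343
import Groth.Agent.S0342
import Groth.Agent.S16185
import Groth.Agent.Lib.H26CMDim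
import Groth.Agent.Lib.H8CM5
import Groth.Agent.Lib.H8GradedCM
import Groth.Agent.Lib.H8CMOpen
import Groth.Agent.Lib.H26GorFin

set_option autoImplicit false
universe u
open RingTheory.Sequence IsLocalRing Pointwise

namespace Groth.Agent.Lib.H26CIGor

/-- A Gorenstein local ring modulo a regular sequence in the maximal ideal is Gorenstein. -/
theorem isGorensteinLocalRing_quotient_ofList (n : ℕ) : ∀ (A : Type u) [CommRing A]
    [LocCoh.IsGorensteinLocalRing A] (rs : List A), rs.length = n → IsWeaklyRegular A rs →
    (∀ r ∈ rs, r ∈ maximalIdeal A) → LocCoh.IsGorensteinLocalRing (A ⧸ Ideal.ofList rs) := by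
  induction n with
  | zero =>
    intro A _ _ rs hlen _ _
    have : rs = [] := List.length_eq_zero_iff.mp hlen
    subst this
    rw [Ideal.ofList_nil]
    exact Groth.Agent.S16185.isGorensteinLocalRing_of_ringEquiv (RingEquiv.quotientBot A)
  | succ n ih =>
    intro A _ hG rs hlen hreg hmem
    haveI : IsNoetherianRing A := inferInstance
    haveI : IsLocalRing A := inferInstance
    obtain ⟨x, xs, rfl⟩ : ∃ x xs, rs = x :: xs := by
      cases rs with
      | nil => simp at hlen
      | cons x xs => exact ⟨x, xs, rfl⟩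
    have hlen' : xs.length = n := by simpa using hlen
    rw [isWeaklyRegular_cons_iff] at hreg
    obtain ⟨hx, hxs⟩ := hreg
    have hxm : x ∈ maximalIdeal A := hmem x List.mem_cons_self
    haveI hG1 : LocCoh.IsGorensteinLocalRing (A ⧸ Ideal.span {x}) :=
      (Groth.Agent.S0343.result A x hxm hx).mp hG
    haveI : IsLocalRing (A ⧸ Ideal.span {x}) := inferInstance
    have heq : (x • (⊤ : Submodule A A)) = (Ideal.span {x} : Submodule A A) := by
      ext y
      rw [Submodule.mem_smul_pointwise_iff_exists]
      constructor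
      · rintro ⟨z, -, rfl⟩
        rw [smul_eq_mul, mul_comm]
        exact Ideal.mul_mem_left _ _ (Ideal.mem_span_singleton_self x)
      · intro hy
        obtain ⟨z, rfl⟩ := Ideal.mem_span_singleton'.mp hy
        exact ⟨z, Submodule.mem_top, by rw [smul_eq_mul, mul_comm]⟩
    have h1 : IsWeaklyRegular (A ⧸ Ideal.span {x}) xs :=
      ((Submodule.quotEquivOfEq _ _ heq).isWeaklyRegular_congr xs).mp hxs
    have h2 : IsWeaklyRegular (A ⧸ Ideal.span {x})
        (xs.map (algebraMap A (A ⧸ Ideal.span {x}))) :=
      (isWeaklyRegular_map_algebraMap_iff (A ⧸ Ideal.span {x}) (A ⧸ Ideal.span {x}) xs).mpr h1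
    have hlh : IsLocalHom (algebraMap A (A ⧸ Ideal.span {x})) :=
      IsLocalHom.of_surjective _ Ideal.Quotient.mk_surjective
    have h3 : ∀ r ∈ xs.map (algebraMap A (A ⧸ Ideal.span {x})),
        r ∈ maximalIdeal (A ⧸ Ideal.span {x}) := by
      intro r hr
      obtain ⟨r0, hr0, rfl⟩ := List.mem_map.mp hr
      have := hmem r0 (List.mem_cons_of_mem _ hr0)
      rw [mem_maximalIdeal, mem_nonunits_iff] at this ⊢
      exact fun h => this ((isUnit_map_iff (algebraMap A (A ⧸ Ideal.span {x})) r0).mp h)
    have h4 := ih (A ⧸ Ideal.span {x}) (xs.map (algebraMap A (A ⧸ Ideal.span {x})))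
      (by rw [List.length_map, hlen']) h2 h3
    have h5 : Ideal.ofList (xs.map (algebraMap A (A ⧸ Ideal.span {x}))) =
        (Ideal.ofList xs).map (Ideal.Quotient.mk (Ideal.span {x})) := by
      rw [Ideal.map_ofList]
      rfl
    rw [h5] at h4
    have h6 : Ideal.ofList (x :: xs) = Ideal.span {x} ⊔ Ideal.ofList xs := Ideal.ofList_cons x xs
    rw [h6]
    exact Groth.Agent.S16185.isGorensteinLocalRing_of_ringEquiv
      (DoubleQuot.quotQuotEquivQuotSup (Ideal.span {x}) (Ideal.ofList xs)).symm

/-- Gorenstein rings are invariant under ring isomorphisms. -/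
theorem isGorensteinRing_of_ringEquiv {R R' : Type u} [CommRing R] [CommRing R'] (e : R ≃+* R')
    [h : LocCoh.IsGorensteinRing R] : LocCoh.IsGorensteinRing R' := by
  haveI : IsNoetherianRing R := inferInstance
  have hN : IsNoetherianRing R' := isNoetherianRing_of_ringEquiv R e
  refine { hN with isGorensteinLocalRing_localization := ?_ }
  intro p hp
  have hq : (p.comap e).IsPrime := Ideal.comap_isPrime _ _
  let e' : Localization.AtPrime (p.comap e) ≃+* Localization.AtPrime p :=
    IsLocalization.ringEquivOfRingEquiv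
      (Localization.AtPrime (p.comap e)) (Localization.AtPrime p) e
      (e.map_primeCompl_comap_eq p)
  haveI := h.isGorensteinLocalRing_localization (p.comap e)
  exact Groth.Agent.S16185.isGorensteinLocalRing_of_ringEquiv e'.symm

/-- In a regular ring, the quotient by an ideal of height `c` generated by `c` elements is a
Gorenstein ring (complete intersections are Gorenstein). -/
theorem isGorensteinRing_quotient_span_range (P : Type u) [CommRing P] [IsRegularRing P] (c : ℕ)
    (g : Fin c → P) (hht : (Ideal.span (Set.range g)).height = c) :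
    LocCoh.IsGorensteinRing (P ⧸ Ideal.span (Set.range g)) := by
  haveI : IsNoetherianRing P := inferInstance
  set 𝔠 := Ideal.span (Set.range g) with h𝔠
  refine { isGorensteinLocalRing_localization := ?_ }
  intro q hq
  set Q : Ideal P := q.comap (Ideal.Quotient.mk 𝔠) with hQ
  haveI : Q.IsPrime := Ideal.comap_isPrime _ _
  have h𝔠Q : 𝔠 ≤ Q := by
    intro x hx
    rw [hQ, Ideal.mem_comap, Ideal.Quotient.eq_zero_iff_mem.mpr hx]
    exact Ideal.zero_mem _
  set A := Localization.AtPrime Q with hA
  haveI : IsRegularLocalRing A := IsRegularRing.isRegularLocalRing_localization Q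
  haveI : LocCoh.IsGorensteinLocalRing A := Groth.Agent.S0342.result A
  haveI : LocCoh.IsCohenMacaulayLocalRing A :=
    Groth.Agent.Lib.H26CMDim.isCohenMacaulayLocalRing_of_gorenstein A
  let e := Groth.Agent.Lib.H8GradedCM.localizationQuotientEquiv Q 𝔠 q rfl
  suffices h : LocCoh.IsGorensteinLocalRing (A ⧸ 𝔠.map (algebraMap P A)) from
    Groth.Agent.S16185.isGorensteinLocalRing_of_ringEquiv e
  have hne : 𝔠.map (algebraMap P A) ≠ ⊤ := Groth.Agent.Lib.H8CMOpen.map_ne_top 𝔠 Q h𝔠Q
  set L : List A := List.ofFn (fun i => algebraMap P A (g i)) with hL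
  have hLlen : L.length = c := by rw [hL, List.length_ofFn]
  have hofList : Ideal.ofList L = 𝔠.map (algebraMap P A) := by
    rw [h𝔠, Ideal.map_span, ← Set.range_comp]
    unfold Ideal.ofList
    congr 1
    ext x
    simp only [hL, List.mem_ofFn, Set.mem_setOf_eq, Set.mem_range, Function.comp]
  have hLmem : ∀ r ∈ L, r ∈ maximalIdeal A := by
    intro r hr
    have h1 : r ∈ Ideal.ofList L := Ideal.subset_span hr
    rw [hofList] at h1
    exact le_maximalIdeal hne h1
  -- the dimension count
  have hge : (c : ℕ∞) ≤ (𝔠.map (algebraMap P A)).height := by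
    rw [Ideal.height_eq_inf_minimalPrimes]
    refine le_iInf₂ fun p' hp' => ?_
    haveI : p'.IsPrime := hp'.1.1
    rw [← IsLocalization.height_under Q.primeCompl p', ← hht]
    apply Ideal.height_mono
    exact Ideal.le_comap_of_map_le hp'.1.2
  obtain ⟨d, hd, -, -⟩ := Groth.Agent.Lib.H29Gorenstein.gorenstein_invariants A
  obtain ⟨g', hg'⟩ := ENat.ne_top_iff_exists.mp (Ideal.height_ne_top hne)
  obtain ⟨d', hd'⟩ := Groth.Agent.Lib.H26GorFin.exists_nat_ringKrullDim_quotient
    (𝔠.map (algebraMap P A)) hne
  have hsum := Groth.Agent.Lib.H26CMDim.height_add_quotient_dim d hd (𝔠.map (algebraMap P A))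
    g' d' hg'.symm hd'
  have hcg : c ≤ g' := by
    rw [← hg'] at hge
    exact_mod_cast hge
  have hkrull := Groth.Agent.Lib.H8CM.supportDim_le_supportDim_quotient_ofList_add (R := A) L
    (M := A) hLmem
  rw [Module.supportDim_self_eq_ringKrullDim, Groth.Agent.Lib.H8CM.supportDim_quotient_smul_top_self,
    hofList, hd, hd', hLlen] at hkrull
  have hkr : d ≤ d' + c := by exact_mod_cast hkrull
  have hreg : IsWeaklyRegular A L := by
    rw [Groth.Agent.Lib.H8CM.isWeaklyRegular_self_iff L hLmem, hofList, hd, hd', hLlen]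
    have : d' + c = d := by omega
    exact_mod_cast this
  have := isGorensteinLocalRing_quotient_ofList c A L hLlen hreg hLmem
  rwa [hofList] at this

end Groth.Agent.Lib.H26CIGor
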