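/-
Helper library (helper26): the canonical module of a Cohen–Macaulay local domain which is a quotient
of a Gorenstein local ring is isomorphic to a nonzero ideal `I`; if `I` is proper then all
associated primes of `A ⧸ I` have height one.
-/
import Mathlib.Tactic
import Groth.Agent.Lib.H26CanonLoc
import Groth.Agent.Lib.H26CMDim
import Groth.Agent.Lib.DepthRees
import Groth.Agent.Lib.DepthFlat33
import Groth.Agent.S7692
import Groth.Agent.S7700
import Groth.Agent.S7701
import Groth.Agent.S0299
import Groth.Agent.S0342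
import Groth.Agent.S0321
import Groth.Agent.S14420
import Groth.Agent.Lib.H26GorFin

set_option autoImplicit false
universe u
open CategoryTheory Abelian

namespace Groth.Agent.Lib.H26CanonIdeal

section torsionfree
variable (A : Type u) [CommRing A] [IsDomain A] [IsNoetherianRing A] [IsLocalRing A] (n : ℕ)
  (hn : ringKrullDim A = n)
  {E : Type u} [AddCommGroup E] [Module A E] (f : IsLocalRing.ResidueField A →ₗ[A] E)
  (hf : InjHull.IsInjectiveHull f)
  (K : Type u) [AddCommGroup K] [Module A K] [Module.Finite A K]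
  (eK : (K →ₗ[A] E) ≃ₗ[A] LocCoh.H (IsLocalRing.maximalIdeal A) n A)

include hn hf eK in
/-- the canonical module of a local domain is torsion-free. -/
theorem eq_zero_of_smul_eq_zero (s : A) (hs : s ≠ 0) (k : K) (hk : s • k = 0) : k = 0 := by
  by_contra hk0
  rcases Nat.eq_zero_or_pos n with h0 | hpos
  · have hdim : ringKrullDim A = 0 := by rw [hn, h0]; rfl
    haveI : Ring.KrullDimLE 0 A := (ringKrullDimZero_iff_ringKrullDim_eq_zero).mpr hdim
    have hfield : IsField A := Ring.KrullDimLE.isField_of_isDomain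
    obtain ⟨t, ht⟩ := hfield.mul_inv_cancel hs
    apply hk0
    rw [← one_smul A k, ← ht, mul_comm, mul_smul, hk, smul_zero]
  · obtain ⟨q, hq, hle⟩ := exists_le_isAssociatedPrime_of_isNoetherianRing (R := A) k hk0
    have hq' : q ∈ associatedPrimes A K := hq
    rw [Groth.Agent.S7692.result A n hn E f hf K eK hpos] at hq'
    obtain ⟨hqp, hqd⟩ := hq'
    have hsq : s ∈ q := hle (by rw [Submodule.mem_colon_singleton]; exact hk)
    have hsnzd : s ∈ nonZeroDivisors A := mem_nonZeroDivisors_of_ne_zero hs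
    have h1 := ringKrullDim_succ_le_of_surjective (Ideal.Quotient.mk q)
      Ideal.Quotient.mk_surjective hsnzd (Ideal.Quotient.eq_zero_iff_mem.mpr hsq)
    rw [hqd, hn] at h1
    have h2 : n + 1 ≤ n := by exact_mod_cast h1
    omega

end torsionfree

section rank
variable (S : Type u) [CommRing S] [LocCoh.IsGorensteinLocalRing S]
  (A : Type u) [CommRing A] [IsDomain A] [LocCoh.IsCohenMacaulayLocalRing A] [Algebra S A]
  (hg : Function.Surjective (algebraMap S A)) (n : ℕ) (hn : ringKrullDim A = n)
  {E : Type u} [AddCommGroup E] [Module A E] (f : IsLocalRing.ResidueField A →ₗ[A] E)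
  (hf : InjHull.IsInjectiveHull f)
  (K : Type u) [AddCommGroup K] [Module A K] [Module.Finite A K]
  (eK : (K →ₗ[A] E) ≃ₗ[A] LocCoh.H (IsLocalRing.maximalIdeal A) n A)

include hn hf eK in
theorem nontrivial_canon : Nontrivial K := by
  by_contra hK
  rw [not_nontrivial_iff_subsingleton] at hK
  have h1 := (Groth.Agent.S7700.result A n hn E f hf K eK).2.2.2
  rw [Module.supportDim_eq_bot_of_subsingleton] at h1
  exact WithBot.bot_ne_coe h1

include hn hf eK in
theorem nontrivial_localizedModule_bot :
    Nontrivial (LocalizedModule (⊥ : Ideal A).primeCompl K) := by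
  haveI := nontrivial_canon A n hn f hf K eK
  obtain ⟨k, hk⟩ := exists_ne (0 : K)
  refine ⟨⟨LocalizedModule.mk k 1, 0, ?_⟩⟩
  intro h0
  rw [← LocalizedModule.zero_mk (1 : (⊥ : Ideal A).primeCompl), LocalizedModule.mk_eq] at h0
  obtain ⟨s, hs⟩ := h0
  rw [smul_zero, smul_zero, one_smul, Submonoid.smul_def] at hs
  have hs0 : (s : A) ≠ 0 := fun h => s.2 (by rw [h]; exact Ideal.zero_mem _)
  exact hk (eq_zero_of_smul_eq_zero A n hn f hf K eK (s : A) hs0 k hs)

theorem maximalIdeal_atPrime_bot :
    IsLocalRing.maximalIdeal (Localization.AtPrime (⊥ : Ideal A)) = ⊥ := by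
  rw [← Localization.AtPrime.map_eq_maximalIdeal, Ideal.map_bot]

theorem isRegularLocalRing_atPrime_bot : IsRegularLocalRing (Localization.AtPrime (⊥ : Ideal A)) := by
  haveI : IsDomain (Localization.AtPrime (⊥ : Ideal A)) :=
    IsLocalization.isDomain_localization
      (fun x (hx : x ∉ (⊥ : Ideal A)) =>
        mem_nonZeroDivisors_of_ne_zero (fun h => hx (by rw [h]; exact Ideal.zero_mem _)))
  haveI : IsPrincipalIdealRing (Localization.AtPrime (⊥ : Ideal A)) := ⟨fun I => by
    by_cases h : I = ⊤
    · rw [h]; exact inferInstance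
    · have h1 := IsLocalRing.le_maximalIdeal h
      rw [maximalIdeal_atPrime_bot, le_bot_iff] at h1
      rw [h1]; exact inferInstance⟩
  infer_instance

include hg hn hf eK in
/-- the canonical module of a CM local domain (quotient of a Gorenstein local ring) has rank one. -/
theorem exists_equiv_atPrime_bot :
    Nonempty (LocalizedModule (⊥ : Ideal A).primeCompl K ≃ₗ[Localization.AtPrime (⊥ : Ideal A)]
      Localization.AtPrime (⊥ : Ideal A)) := by
  have hp := nontrivial_localizedModule_bot A n hn f hf K eK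
  have hh : ringKrullDim (Localization.AtPrime (⊥ : Ideal A)) = ((0 : ℕ) : WithBot ℕ∞) := by
    rw [IsLocalization.AtPrime.ringKrullDim_eq_height (⊥ : Ideal A), Ideal.height_bot]
    rfl
  obtain ⟨E', _, _, f', hf'⟩ := Groth.Agent.S0299.result (Localization.AtPrime (⊥ : Ideal A))
    (IsLocalRing.ResidueField (Localization.AtPrime (⊥ : Ideal A)))
  obtain ⟨e⟩ := Groth.Agent.Lib.H26CanonLoc.canon_localization S A hg n hn f hf K eK ⊥ hp 0 hh f' hf'
  haveI := isRegularLocalRing_atPrime_bot A
  haveI hG : LocCoh.IsGorensteinLocalRing (Localization.AtPrime (⊥ : Ideal A)) :=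
    Groth.Agent.S0342.result _
  haveI : LocCoh.IsCohenMacaulayLocalRing (Localization.AtPrime (⊥ : Ideal A)) :=
    Groth.Agent.Lib.H26CMDim.isCohenMacaulayLocalRing_of_gorenstein _
  haveI : Module.Finite (Localization.AtPrime (⊥ : Ideal A))
      (LocalizedModule (⊥ : Ideal A).primeCompl K) :=
    Module.Finite.of_isLocalizedModule (⊥ : Ideal A).primeCompl
      (LocalizedModule.mkLinearMap (⊥ : Ideal A).primeCompl K)
  exact (Groth.Agent.S7701.result (Localization.AtPrime (⊥ : Ideal A)) 0 hh E' f' hf'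
    (LocalizedModule (⊥ : Ideal A).primeCompl K) e).mp hG

end rank

section ideal
variable (S : Type u) [CommRing S] [LocCoh.IsGorensteinLocalRing S]
  (A : Type u) [CommRing A] [IsDomain A] [LocCoh.IsCohenMacaulayLocalRing A] [Algebra S A]
  (hg : Function.Surjective (algebraMap S A)) (n : ℕ) (hn : ringKrullDim A = n)
  {E : Type u} [AddCommGroup E] [Module A E] (f : IsLocalRing.ResidueField A →ₗ[A] E)
  (hf : InjHull.IsInjectiveHull f)
  (K : Type u) [AddCommGroup K] [Module A K] [Module.Finite A K]
  (eK : (K →ₗ[A] E) ≃ₗ[A] LocCoh.H (IsLocalRing.maximalIdeal A) n A)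

include hn hf eK in
theorem mkLinearMap_injective :
    Function.Injective (LocalizedModule.mkLinearMap (⊥ : Ideal A).primeCompl K) := by
  rw [← LinearMap.ker_eq_bot, LinearMap.ker_eq_bot']
  intro k h0
  rw [LocalizedModule.mkLinearMap_apply,
    ← LocalizedModule.zero_mk (1 : (⊥ : Ideal A).primeCompl), LocalizedModule.mk_eq] at h0
  obtain ⟨s, hs⟩ := h0
  rw [smul_zero, smul_zero, one_smul, Submonoid.smul_def] at hs
  have hs0 : (s : A) ≠ 0 := fun h => s.2 (by rw [h]; exact Ideal.zero_mem _)
  exact eq_zero_of_smul_eq_zero A n hn f hf K eK (s : A) hs0 k hs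

include hg hn hf eK in
/-- the canonical module of a CM local domain which is a quotient of a Gorenstein local ring is
isomorphic to a nonzero ideal. -/
theorem exists_equiv_ideal : ∃ I : Ideal A, I ≠ ⊥ ∧ Nonempty (K ≃ₗ[A] I) := by
  obtain ⟨θ⟩ := exists_equiv_atPrime_bot S A hg n hn f hf K eK
  have hW : (⊥ : Ideal A).primeCompl ≤ nonZeroDivisors A := fun x (hx : x ∉ (⊥ : Ideal A)) =>
    mem_nonZeroDivisors_of_ne_zero (fun h => hx (by rw [h]; exact Ideal.zero_mem _))
  haveI : IsDomain (Localization.AtPrime (⊥ : Ideal A)) := IsLocalization.isDomain_localization hW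
  have hι : Function.Injective (Algebra.linearMap A (Localization.AtPrime (⊥ : Ideal A))) :=
    IsLocalization.injective (Localization.AtPrime (⊥ : Ideal A)) hW
  let j : K →ₗ[A] Localization.AtPrime (⊥ : Ideal A) :=
    (θ.restrictScalars A).toLinearMap ∘ₗ LocalizedModule.mkLinearMap (⊥ : Ideal A).primeCompl K
  have hj : Function.Injective j :=
    (θ.restrictScalars A).injective.comp (mkLinearMap_injective A n hn f hf K eK)
  have hfg : (LinearMap.range j).FG := by
    rw [LinearMap.range_eq_map]
    exact (Module.Finite.fg_top).map j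
  obtain ⟨a, ha, hint⟩ := FractionalIdeal.isFractional_of_fg
    (S := (⊥ : Ideal A).primeCompl) (P := Localization.AtPrime (⊥ : Ideal A)) hfg
  have ha0 : algebraMap A (Localization.AtPrime (⊥ : Ideal A)) a ≠ 0 := by
    intro h
    have h2 : a = 0 := hι (by
      rw [Algebra.linearMap_apply, Algebra.linearMap_apply, h, map_zero])
    exact ha (by rw [h2]; exact Ideal.zero_mem _)
  let g₀ : K →ₗ[A] Localization.AtPrime (⊥ : Ideal A) := a • j
  have hg₀ : Function.Injective g₀ := by
    rw [← LinearMap.ker_eq_bot, LinearMap.ker_eq_bot']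
    intro k hk
    have h1 : algebraMap A (Localization.AtPrime (⊥ : Ideal A)) a * j k = 0 := by
      rw [← Algebra.smul_def]
      exact hk
    rcases mul_eq_zero.mp h1 with h2 | h2
    · exact absurd h2 ha0
    · exact hj (h2.trans (map_zero j).symm)
  have hrange : ∀ k, g₀ k ∈ LinearMap.range (Algebra.linearMap A (Localization.AtPrime (⊥ : Ideal A))) := by
    intro k
    obtain ⟨r, hr⟩ := hint (j k) ⟨k, rfl⟩
    exact ⟨r, hr⟩
  let g : K →ₗ[A] A :=
    (LinearEquiv.ofInjective (Algebra.linearMap A (Localization.AtPrime (⊥ : Ideal A))) hι).symm.toLinearMap ∘ₗ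
      g₀.codRestrict _ hrange
  have hginj : Function.Injective g :=
    (LinearEquiv.ofInjective _ hι).symm.injective.comp
      (fun x y hxy => hg₀ (by
        have := congrArg Subtype.val hxy
        exact this))
  refine ⟨LinearMap.range g, ?_, ⟨LinearEquiv.ofInjective g hginj⟩⟩
  intro hbot
  rw [LinearMap.range_eq_bot] at hbot
  haveI := nontrivial_canon A n hn f hf K eK
  obtain ⟨k, hk⟩ := exists_ne (0 : K)
  apply hk
  apply hginj
  rw [hbot, LinearMap.zero_apply, LinearMap.zero_apply]

end ideal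

section depth
variable (A : Type u) [CommRing A] [IsDomain A] [LocCoh.IsCohenMacaulayLocalRing A]
  (n : ℕ) (hn : ringKrullDim A = n)
  {E : Type u} [AddCommGroup E] [Module A E] (f : IsLocalRing.ResidueField A →ₗ[A] E)
  (hf : InjHull.IsInjectiveHull f)
  (K : Type u) [AddCommGroup K] [Module A K] [Module.Finite A K]
  (eK : (K →ₗ[A] E) ≃ₗ[A] LocCoh.H (IsLocalRing.maximalIdeal A) n A)
  (I : Ideal A) (hI : I ≠ ⊤) (κ : K ≃ₗ[A] I)

include hn hf eK in
theorem depth_canon : LocCoh.depth A K = n := by
  obtain ⟨-, -, hCM, hdim⟩ := Groth.Agent.S7700.result A n hn E f hf K eK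
  unfold LocCoh.IsCohenMacaulayModule at hCM
  rw [hdim] at hCM
  have h1 : ((n : ℕ∞) : WithBot ℕ∞) = ((LocCoh.depth A K : ℕ∞) : WithBot ℕ∞) := hCM
  exact (WithBot.coe_injective h1).symm

include hn in
theorem depth_self : LocCoh.depth A A = n := by
  have h := LocCoh.IsCohenMacaulayLocalRing.supportDim_eq_depth (R := A)
  rw [Module.supportDim_self_eq_ringKrullDim, hn] at h
  have h1 : ((n : ℕ∞) : WithBot ℕ∞) = ((LocCoh.depth A A : ℕ∞) : WithBot ℕ∞) := h
  exact (WithBot.coe_injective h1).symm

include hn hf eK hI κ in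
/-- if the canonical module is isomorphic to the proper ideal `I`, then `depth A/I ≥ n - 1`. -/
theorem le_depth_quotient : ((n - 1 : ℕ) : ℕ∞) ≤ LocCoh.depth A (A ⧸ I) := by
  have hK := depth_canon A n hn f hf K eK
  rw [Groth.Agent.Lib.DepthFlat33.depth_congr κ] at hK
  have hA := depth_self A n hn
  have h := (Groth.Agent.S0321.result A (IsLocalRing.maximalIdeal A) I A (A ⧸ I) I.subtype
    (Submodule.mkQ I) (Submodule.injective_subtype I) (Submodule.mkQ_surjective I)
    (LinearMap.exact_subtype_mkQ I)).2.1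
  change min (LocCoh.depth A A) (LocCoh.depth A I - 1) ≤ LocCoh.depth A (A ⧸ I) at h
  rw [hA, hK] at h
  refine le_trans ?_ h
  rw [le_min_iff]
  constructor
  · exact_mod_cast Nat.sub_le n 1
  · have : ((n - 1 : ℕ) : ℕ∞) = (n : ℕ∞) - 1 := by
      rw [ENat.coe_sub]; rfl
    rw [this]

include hn hf eK hI κ in
/-- if the canonical module is isomorphic to the proper ideal `I`, all associated primes of `A ⧸ I`
have height at most one. -/
theorem height_le_one (q : Ideal A) (hq : q ∈ associatedPrimes A (A ⧸ I)) : q.height ≤ 1 := by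
  have hle := le_depth_quotient A n hn f hf K eK I hI κ
  haveI : Nontrivial (A ⧸ I) := Ideal.Quotient.nontrivial_iff.mpr hI
  obtain ⟨d, hd⟩ := ENat.ne_top_iff_exists.mp
    (Groth.Agent.Lib.DepthRees.depth_ne_top (R := A) (A ⧸ I))
  rw [← hd] at hle
  have hnd : n - 1 ≤ d := by exact_mod_cast hle
  obtain ⟨hqp, φ, hφ⟩ := (isAssociatedPrime_iff_exists_injective_linearMap q (A ⧸ I)).mp hq
  obtain ⟨e, he⟩ := Groth.Agent.Lib.H26GorFin.exists_nat_ringKrullDim_quotient q hqp.ne_top
  haveI : Nontrivial (A ⧸ q) := Ideal.Quotient.nontrivial_iff.mpr hqp.ne_top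
  have hde : d ≤ e := by
    by_contra hcon
    push_neg at hcon
    have hsub := Groth.Agent.S14420.result A (A ⧸ I) (A ⧸ q) d e 0 hd.symm
      (by rw [Module.supportDim_quotient_eq_ringKrullDim, he]) (by omega)
    have h0 : Ext.mk₀ (ModuleCat.ofHom φ) = 0 := Subsingleton.elim _ _
    have h1 : ModuleCat.ofHom φ = 0 := (Ext.mk₀_eq_zero_iff _).mp h0
    have h2 : φ = 0 := by
      have := congrArg ModuleCat.Hom.hom h1
      exact this
    have h3 : (1 : A ⧸ q) = 0 := hφ (by rw [h2, LinearMap.zero_apply, LinearMap.zero_apply])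
    exact one_ne_zero h3
  obtain ⟨g, hg⟩ := ENat.ne_top_iff_exists.mp (Ideal.height_ne_top hqp.ne_top)
  have hsum := Groth.Agent.Lib.H26CMDim.height_add_quotient_dim n hn q g e hg.symm he
  rw [← hg]
  have : g ≤ 1 := by omega
  exact_mod_cast this

end depth

end Groth.Agent.Lib.H26CanonIdeal
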