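-- Helper library (helper26): coflasque lattices.  `H¹(Γ', Λ) = 0` for all subgroups `Γ'` iff
-- every extension of a permutation lattice by `Λ` splits.
import Mathlib.RepresentationTheory.Homological.GroupCohomology.LowDegree
import Mathlib.RepresentationTheory.Rep.Res
import Mathlib.Algebra.Homology.ShortComplex.ShortExact
import Mathlib.Algebra.Homology.ShortComplex.ModuleCat
import Mathlib.GroupTheory.GroupAction.Quotient

set_option autoImplicit false
open CategoryTheory groupCohomology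

namespace Groth.Agent.Lib.H26Coflasque

/-- If `H¹(G, A) = 0`, every 1-cocycle is a coboundary. -/
lemma exists_of_isZero_H1 {k : Type} [CommRing k] {G : Type} [Group G] (A : Rep k G)
    (h : Limits.IsZero (groupCohomology A 1))
    (c : G → A.V) (hc : ∀ g h : G, c (g * h) = A.ρ g (c h) + c g) :
    ∃ x : A.V, ∀ g, A.ρ g x - x = c g := by
  have hmem : c ∈ cocycles₁ A := (mem_cocycles₁_iff c).2 hc
  have h0 : H1π A ⟨c, hmem⟩ = 0 := by
    have h1 : H1π A = 0 := h.eq_of_tgt _ _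
    rw [h1]; rfl
  obtain ⟨x, hx⟩ := (H1π_eq_zero_iff _).1 h0
  exact ⟨x, fun g => congrFun hx g⟩

variable {k : Type} [CommRing k] {Γ : Type} [Group Γ]

section Forward

variable {Λ M : Rep k Γ} {X : Type} [MulAction Γ X]
  (i : Λ ⟶ M) (q : M ⟶ Rep.ofMulAction k Γ X)

/-- Lifting the basis vector `[x]` to a vector fixed by the stabilizer of `x`. -/
lemma exists_fixed_lift
    (hH : ∀ Γ' : Subgroup Γ, Limits.IsZero (groupCohomology (Rep.res Γ'.subtype Λ) 1))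
    (hi : Function.Injective i.hom) (hq : Function.Surjective q.hom)
    (hiq : ∀ l, q.hom (i.hom l) = 0) (hker : ∀ m, q.hom m = 0 → ∃ l, i.hom l = m) (x : X) :
    ∃ m : M.V, q.hom m = MonoidAlgebra.single x 1 ∧
      ∀ γ ∈ MulAction.stabilizer Γ x, M.ρ γ m = m := by
  obtain ⟨m₀, hm₀⟩ := hq (MonoidAlgebra.single x 1)
  have hk : ∀ γ : MulAction.stabilizer Γ x, ∃ l, i.hom l = M.ρ γ m₀ - m₀ := by
    intro γ
    apply hker
    rw [map_sub, Rep.hom_comm_apply, hm₀]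
    have : (γ : Γ) • x = x := γ.2
    simp [this]
  choose c hc using hk
  have hcoc : ∀ g h : MulAction.stabilizer Γ x,
      c (g * h) = (Rep.res (MulAction.stabilizer Γ x).subtype Λ).ρ g (c h) + c g := by
    intro g h
    apply hi
    rw [map_add, hc, hc]
    change _ = i.hom (Λ.ρ (g : Γ) (c h)) + _
    rw [Rep.hom_comm_apply, hc]
    simp only [Subgroup.coe_mul, map_mul, Module.End.mul_apply, map_sub]
    abel
  obtain ⟨l, hl⟩ := exists_of_isZero_H1 _ (hH _) c hcoc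
  refine ⟨m₀ - i.hom l, ?_, ?_⟩
  · rw [map_sub, hiq, sub_zero, hm₀]
  · intro γ hγ
    have h1 := hl ⟨γ, hγ⟩
    have h2 := hc ⟨γ, hγ⟩
    change Λ.ρ γ l - l = _ at h1
    rw [map_sub, ← Rep.hom_comm_apply]
    have h3 : Λ.ρ γ l = l + c ⟨γ, hγ⟩ := by rw [← h1]; abel
    have h4 : M.ρ γ m₀ = m₀ + i.hom (c ⟨γ, hγ⟩) := by rw [h2]; abel
    rw [h3, h4, map_add]
    abel

/-- An equivariant family of lifts of the basis vectors. -/
lemma exists_equivariant_lift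
    (hH : ∀ Γ' : Subgroup Γ, Limits.IsZero (groupCohomology (Rep.res Γ'.subtype Λ) 1))
    (hi : Function.Injective i.hom) (hq : Function.Surjective q.hom)
    (hiq : ∀ l, q.hom (i.hom l) = 0) (hker : ∀ m, q.hom m = 0 → ∃ l, i.hom l = m) :
    ∃ t : X → M.V, (∀ x, q.hom (t x) = MonoidAlgebra.single x 1) ∧
      ∀ (δ : Γ) (x : X), t (δ • x) = M.ρ δ (t x) := by
  choose m hm1 hm2 using exists_fixed_lift i q hH hi hq hiq hker
  -- orbit representatives
  let r : X → X := fun x => (Quotient.mk (MulAction.orbitRel Γ X) x).out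
  have hr : ∀ x, ∃ g : Γ, g • r x = x := by
    intro x
    have h1 : r x ∈ MulAction.orbit Γ x := Quotient.mk_out (s := MulAction.orbitRel Γ X) x
    obtain ⟨g, hg⟩ := h1
    exact ⟨g⁻¹, by rw [← hg, inv_smul_smul]⟩
  choose g hg using hr
  have hrδ : ∀ (δ : Γ) (x : X), r (δ • x) = r x := by
    intro δ x
    have : Quotient.mk (MulAction.orbitRel Γ X) (δ • x) = Quotient.mk (MulAction.orbitRel Γ X) x :=
      Quotient.sound ⟨δ, rfl⟩
    simp only [r, this]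
  refine ⟨fun x => M.ρ (g x) (m (r x)), ?_, ?_⟩
  · intro x
    rw [Rep.hom_comm_apply, hm1]
    simp [hg x]
  · intro δ x
    have hstab : (g (δ • x))⁻¹ * (δ * g x) ∈ MulAction.stabilizer Γ (r x) := by
      rw [MulAction.mem_stabilizer_iff, mul_smul, mul_smul, hg x, inv_smul_eq_iff]
      have := hg (δ • x)
      rw [hrδ] at this
      exact this.symm
    have h1 := hm2 (r x) _ hstab
    have h2 : M.ρ (g (δ • x)) (M.ρ ((g (δ • x))⁻¹ * (δ * g x)) (m (r x))) =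
        M.ρ δ (M.ρ (g x) (m (r x))) := by
      rw [← LinearMap.comp_apply, ← Rep.ρ_mul, mul_inv_cancel_left, Rep.ρ_mul, LinearMap.comp_apply]
    rw [h1] at h2
    change M.ρ (g (δ • x)) (m (r (δ • x))) = _
    rw [hrδ]
    exact h2

/-- The section of `q`. -/
theorem exists_section
    (hH : ∀ Γ' : Subgroup Γ, Limits.IsZero (groupCohomology (Rep.res Γ'.subtype Λ) 1))
    (hi : Function.Injective i.hom) (hq : Function.Surjective q.hom)
    (hiq : ∀ l, q.hom (i.hom l) = 0) (hker : ∀ m, q.hom m = 0 → ∃ l, i.hom l = m) :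
    ∃ s : Rep.ofMulAction k Γ X ⟶ M, s ≫ q = 𝟙 _ := by
  obtain ⟨t, ht1, ht2⟩ := exists_equivariant_lift i q hH hi hq hiq hker
  let s₀ : MonoidAlgebra k X →ₗ[k] M.V := (MonoidAlgebra.basis X k).constr k t
  have hs₀ : ∀ x, s₀ (MonoidAlgebra.single x 1) = t x := by
    intro x
    have := (MonoidAlgebra.basis X k).constr_basis k t x
    simpa using this
  have hint : ∀ δ : Γ, s₀ ∘ₗ (Rep.ofMulAction k Γ X).ρ δ = M.ρ δ ∘ₗ s₀ := by
    intro δ
    apply MonoidAlgebra.lhom_ext'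
    intro x
    apply LinearMap.ext_ring
    simp only [LinearMap.coe_comp, Function.comp_apply, MonoidAlgebra.lsingle_apply]
    rw [hs₀]
    change s₀ (Representation.ofMulAction k Γ X δ (MonoidAlgebra.single x 1)) = _
    rw [Representation.ofMulAction_single, hs₀, ht2]
  refine ⟨Rep.ofHom ⟨s₀, hint⟩, ?_⟩
  ext : 2
  apply MonoidAlgebra.lhom_ext'
  intro x
  apply LinearMap.ext_ring
  simp only [LinearMap.coe_comp, Function.comp_apply, MonoidAlgebra.lsingle_apply]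
  change q.hom (s₀ (MonoidAlgebra.single x 1)) = MonoidAlgebra.single x 1
  rw [hs₀, ht1]

/-- Concrete exactness in `Rep`. -/
lemma exact_apply {E : ShortComplex (Rep k Γ)} (hE : E.Exact) (m : E.X₂.V) (hm : E.g.hom m = 0) :
    ∃ l : E.X₁.V, E.f.hom l = m := by
  have h := (ShortComplex.exact_map_iff_of_faithful E (forget₂ (Rep k Γ) (ModuleCat k))).2 hE
  rw [ShortComplex.moduleCat_exact_iff] at h
  exact h m hm

/-- (i) ⇒ (ii). -/
theorem splitting_of_isZero_H1 (Λ : Rep k Γ)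
    (hH : ∀ Γ' : Subgroup Γ, Limits.IsZero (groupCohomology (Rep.res Γ'.subtype Λ) 1))
    (X : Type) [MulAction Γ X] (E : ShortComplex (Rep k Γ)) (hE : E.ShortExact)
    (e1 : E.X₁ ≅ Λ) (e3 : E.X₃ ≅ Rep.ofMulAction k Γ X) : Nonempty E.Splitting := by
  haveI := hE.mono_f
  haveI := hE.epi_g
  have hi : Function.Injective (e1.inv ≫ E.f).hom := (Rep.mono_iff_injective _).1 inferInstance
  have hq : Function.Surjective (E.g ≫ e3.hom).hom := (Rep.epi_iff_surjective _).1 inferInstance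
  have hiq : ∀ l, (E.g ≫ e3.hom).hom ((e1.inv ≫ E.f).hom l) = 0 := by
    intro l
    have h0 : ∀ y, E.g.hom (E.f.hom y) = 0 := by
      intro y
      have h1 : (E.f ≫ E.g).hom y = 0 := by rw [E.zero]; rfl
      rwa [Rep.comp_apply] at h1
    simp [h0]
  have hker : ∀ m, (E.g ≫ e3.hom).hom m = 0 → ∃ l, (e1.inv ≫ E.f).hom l = m := by
    intro m hm
    have h1 : E.g.hom m = 0 := by
      have h2 : Function.Injective e3.hom.hom := (Rep.mono_iff_injective _).1 inferInstance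
      apply h2
      rw [map_zero]
      simpa using hm
    obtain ⟨l, hl⟩ := exact_apply hE.exact m h1
    refine ⟨e1.hom.hom l, ?_⟩
    rw [← hl]
    simp
  obtain ⟨s, hs⟩ := exists_section (e1.inv ≫ E.f) (E.g ≫ e3.hom) hH hi hq hiq hker
  refine ⟨ShortComplex.Splitting.ofExactOfSection E hE.exact (e3.hom ≫ s) ?_ hE.mono_f⟩
  have : s ≫ E.g = e3.inv := by
    rw [← cancel_mono e3.hom, Category.assoc, hs, e3.inv_hom_id]
  rw [Category.assoc, this, e3.hom_inv_id]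

end Forward

/-- If every 1-cocycle is a coboundary then `H¹ = 0`. -/
lemma isZero_H1_of_forall {G : Type} [Group G] (A : Rep k G)
    (h : ∀ c : G → A.V, (∀ g h : G, c (g * h) = A.ρ g (c h) + c g) →
      ∃ x : A.V, ∀ g, A.ρ g x - x = c g) :
    Limits.IsZero (groupCohomology A 1) := by
  have h0 : ∀ a : H1 A, a = 0 := by
    intro a
    induction a using H1_induction_on with
    | h x =>
      rw [H1π_eq_zero_iff]
      obtain ⟨y, hy⟩ := h x ((mem_cocycles₁_iff _).1 x.2)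
      exact ⟨y, funext hy⟩
  haveI : Subsingleton (groupCohomology A 1) := ⟨fun a b => by rw [h0 a, h0 b]⟩
  exact ModuleCat.isZero_of_subsingleton _

section Backward

variable (Λ : Rep k Γ) (Γ' : Subgroup Γ)

open Classical in
/-- Coset representatives with `sec (1 Γ') = 1`. -/
noncomputable def sec : Γ ⧸ Γ' → Γ :=
  Function.update Quotient.out ((1 : Γ) : Γ ⧸ Γ') 1

lemma sec_one : sec Γ' ((1 : Γ) : Γ ⧸ Γ') = 1 := by
  classical
  simp [sec]

lemma mk_sec (y : Γ ⧸ Γ') : ((sec Γ' y : Γ) : Γ ⧸ Γ') = y := by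
  classical
  unfold sec
  by_cases h : y = ((1 : Γ) : Γ ⧸ Γ')
  · subst h; simp
  · rw [Function.update_of_ne h]
    exact QuotientGroup.out_eq' y

lemma hh_mem (γ : Γ) (y : Γ ⧸ Γ') : (sec Γ' (γ • y))⁻¹ * γ * sec Γ' y ∈ Γ' := by
  rw [mul_assoc, ← QuotientGroup.eq, mk_sec]
  have : ((γ * sec Γ' y : Γ) : Γ ⧸ Γ') = γ • ((sec Γ' y : Γ) : Γ ⧸ Γ') := rfl
  rw [this, mk_sec]

/-- The `Γ'`-valued cocycle of the coset action. -/
noncomputable def hh (γ : Γ) (y : Γ ⧸ Γ') : Γ' := ⟨_, hh_mem Γ' γ y⟩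

lemma hh_mul (γ δ : Γ) (y : Γ ⧸ Γ') : hh Γ' (γ * δ) y = hh Γ' γ (δ • y) * hh Γ' δ y := by
  apply Subtype.ext
  simp only [hh, Subgroup.coe_mul, mul_smul]
  group

lemma sec_mul_hh (γ : Γ) (y : Γ ⧸ Γ') : sec Γ' (γ • y) * (hh Γ' γ y : Γ) = γ * sec Γ' y := by
  simp only [hh]
  group

end Backward

section Twist

variable (Λ : Rep k Γ) (Γ' : Subgroup Γ) (c : Γ' → Λ.V)

/-- The twisting term. -/
noncomputable def FF (γ : Γ) (y : Γ ⧸ Γ') : Λ.V := Λ.ρ (sec Γ' (γ • y)) (c (hh Γ' γ y))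

variable {Λ Γ' c}

lemma c_one (hc : ∀ a b : Γ', c (a * b) = Λ.ρ a (c b) + c a) : c 1 = 0 := by
  have := hc 1 1
  simpa using this

lemma FF_one (hc : ∀ a b : Γ', c (a * b) = Λ.ρ a (c b) + c a) (y : Γ ⧸ Γ') :
    FF Λ Γ' c 1 y = 0 := by
  have h1 : hh Γ' 1 y = 1 := by
    apply Subtype.ext
    simp [hh]
  rw [FF, h1, c_one hc, map_zero]

lemma FF_mul (hc : ∀ a b : Γ', c (a * b) = Λ.ρ a (c b) + c a) (γ δ : Γ) (y : Γ ⧸ Γ') :
    FF Λ Γ' c (γ * δ) y = Λ.ρ γ (FF Λ Γ' c δ y) + FF Λ Γ' c γ (δ • y) := by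
  simp only [FF]
  rw [hh_mul, hc, map_add, mul_smul]
  congr 1
  rw [← LinearMap.comp_apply, ← Rep.ρ_mul, sec_mul_hh, Rep.ρ_mul, LinearMap.comp_apply]

variable (Λ Γ' c)

/-- The linear map `k[Γ/Γ'] → Λ` with `[y] ↦ F(γ, y)`. -/
noncomputable def Φ (γ : Γ) : MonoidAlgebra k (Γ ⧸ Γ') →ₗ[k] Λ.V :=
  (MonoidAlgebra.basis (Γ ⧸ Γ') k).constr k (FF Λ Γ' c γ)

lemma Φ_single (γ : Γ) (y : Γ ⧸ Γ') :
    Φ Λ Γ' c γ (MonoidAlgebra.single y 1) = FF Λ Γ' c γ y := by
  have := (MonoidAlgebra.basis (Γ ⧸ Γ') k).constr_basis k (FF Λ Γ' c γ) y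
  simpa [Φ] using this

/-- The twisted action on `Λ × k[Γ/Γ']`. -/
noncomputable def T (γ : Γ) :
    (Λ.V × MonoidAlgebra k (Γ ⧸ Γ')) →ₗ[k] (Λ.V × MonoidAlgebra k (Γ ⧸ Γ')) :=
  LinearMap.prod (LinearMap.coprod (Λ.ρ γ) (Φ Λ Γ' c γ))
    ((Representation.ofMulAction k Γ (Γ ⧸ Γ') γ) ∘ₗ LinearMap.snd k Λ.V _)

lemma T_inl (γ : Γ) (l : Λ.V) : T Λ Γ' c γ (l, 0) = (Λ.ρ γ l, 0) := by
  simp [T]

lemma T_single (γ : Γ) (y : Γ ⧸ Γ') :
    T Λ Γ' c γ (0, MonoidAlgebra.single y 1) =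
      (FF Λ Γ' c γ y, MonoidAlgebra.single (γ • y) 1) := by
  simp [T, Φ_single]

lemma T_snd (γ : Γ) (v : Λ.V × MonoidAlgebra k (Γ ⧸ Γ')) :
    (T Λ Γ' c γ v).2 = Representation.ofMulAction k Γ (Γ ⧸ Γ') γ v.2 := by
  simp [T]

variable {Λ Γ' c}

lemma ext_T {N : Type} [AddCommGroup N] [Module k N]
    {f g : (Λ.V × MonoidAlgebra k (Γ ⧸ Γ')) →ₗ[k] N}
    (h1 : ∀ l, f (l, 0) = g (l, 0))
    (h2 : ∀ y, f (0, MonoidAlgebra.single y 1) = g (0, MonoidAlgebra.single y 1)) : f = g := by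
  apply LinearMap.prod_ext
  · ext l
    simpa using h1 l
  · apply MonoidAlgebra.lhom_ext'
    intro y
    apply LinearMap.ext_ring
    simpa using h2 y

variable (Λ Γ' c)

/-- The twisted representation. -/
noncomputable def twist (hc : ∀ a b : Γ', c (a * b) = Λ.ρ a (c b) + c a) :
    Representation k Γ (Λ.V × MonoidAlgebra k (Γ ⧸ Γ')) where
  toFun := T Λ Γ' c
  map_one' := by
    apply ext_T
    · intro l; rw [T_inl]; simp
    · intro y; rw [T_single, FF_one hc]; simp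
  map_mul' γ δ := by
    apply ext_T
    · intro l
      rw [Module.End.mul_apply, T_inl, T_inl, T_inl, Rep.ρ_mul, LinearMap.comp_apply]
    · intro y
      rw [Module.End.mul_apply, T_single, T_single, FF_mul hc]
      have : ((FF Λ Γ' c δ y, MonoidAlgebra.single (δ • y) 1) :
          Λ.V × MonoidAlgebra k (Γ ⧸ Γ')) = (FF Λ Γ' c δ y, 0) +
            (0, MonoidAlgebra.single (δ • y) 1) := by simp
      rw [this, map_add, T_inl, T_single, mul_smul]
      simp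

end Twist

section Final

variable (Λ : Rep k Γ) (Γ' : Subgroup Γ) (c : Γ' → Λ.V)
  (hc : ∀ a b : Γ', c (a * b) = Λ.ρ a (c b) + c a)

/-- The twisted extension, as an object. -/
noncomputable def twistRep : Rep k Γ := Rep.of (twist Λ Γ' c hc)

/-- `Λ → Λ × k[Γ/Γ']`. -/
noncomputable def twistI : Λ ⟶ twistRep Λ Γ' c hc :=
  Rep.ofHom (ρ := Λ.ρ) (σ := twist Λ Γ' c hc) ⟨LinearMap.inl k Λ.V _, fun γ => by
    apply LinearMap.ext
    intro l
    exact (T_inl Λ Γ' c γ l).symm⟩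

/-- `Λ × k[Γ/Γ'] → k[Γ/Γ']`. -/
noncomputable def twistQ : twistRep Λ Γ' c hc ⟶ Rep.ofMulAction k Γ (Γ ⧸ Γ') :=
  Rep.ofHom (ρ := twist Λ Γ' c hc) (σ := Representation.ofMulAction k Γ (Γ ⧸ Γ'))
    ⟨LinearMap.snd k Λ.V _, fun γ => by
      apply LinearMap.ext
      intro v
      exact T_snd Λ Γ' c γ v⟩

lemma twistI_apply (l : Λ.V) : (twistI Λ Γ' c hc).hom l = (l, 0) := rfl

lemma twistQ_apply (v : Λ.V × MonoidAlgebra k (Γ ⧸ Γ')) : (twistQ Λ Γ' c hc).hom v = v.2 := rfl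

/-- The twisted extension. -/
noncomputable def twistSC : ShortComplex (Rep k Γ) :=
  ShortComplex.mk (twistI Λ Γ' c hc) (twistQ Λ Γ' c hc) (by
    apply Rep.hom_ext
    apply Representation.IntertwiningMap.ext
    apply LinearMap.ext
    intro l
    rfl)

lemma twistSC_shortExact : (twistSC Λ Γ' c hc).ShortExact := by
  refine ShortComplex.ShortExact.mk' ?_ ?_ ?_
  · rw [← ShortComplex.exact_map_iff_of_faithful _ (forget₂ (Rep k Γ) (ModuleCat k)),
      ShortComplex.moduleCat_exact_iff]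
    intro v hv
    refine ⟨v.1, ?_⟩
    have h2 : v.2 = 0 := hv
    change ((v.1, 0) : Λ.V × MonoidAlgebra k (Γ ⧸ Γ')) = v
    rw [← h2]
    rfl
  · refine (Rep.mono_iff_injective _).mpr ?_
    intro a b hab
    exact congrArg Prod.fst hab
  · refine (Rep.epi_iff_surjective _).mpr ?_
    intro ξ
    exact ⟨(0, ξ), rfl⟩

end Final

/-- (ii) ⇒ (i). -/
theorem isZero_H1_of_splitting [Finite Γ] (Λ : Rep k Γ)
    (h : ∀ (X : Type) [MulAction Γ X] [Finite X] (E : ShortComplex (Rep k Γ)),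
      E.ShortExact → Nonempty (E.X₁ ≅ Λ) → Nonempty (E.X₃ ≅ Rep.ofMulAction k Γ X) →
        Nonempty E.Splitting) (Γ' : Subgroup Γ) :
    Limits.IsZero (groupCohomology (Rep.res Γ'.subtype Λ) 1) := by
  apply isZero_H1_of_forall
  intro c hc0
  have hc : ∀ a b : Γ', c (a * b) = Λ.ρ a (c b) + c a := hc0
  obtain ⟨spl⟩ := h (Γ ⧸ Γ') (twistSC Λ Γ' c hc) (twistSC_shortExact Λ Γ' c hc)
    ⟨Iso.refl _⟩ ⟨Iso.refl _⟩
  let y₀ : Γ ⧸ Γ' := ((1 : Γ) : Γ ⧸ Γ')
  let s : Rep.ofMulAction k Γ (Γ ⧸ Γ') ⟶ twistRep Λ Γ' c hc := spl.s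
  have hsg : s ≫ twistQ Λ Γ' c hc = 𝟙 _ := spl.s_g
  let v : Λ.V × MonoidAlgebra k (Γ ⧸ Γ') := s.hom (MonoidAlgebra.single y₀ 1)
  have hv2 : v.2 = MonoidAlgebra.single y₀ 1 := by
    have h1 : (s ≫ twistQ Λ Γ' c hc).hom (MonoidAlgebra.single y₀ 1) =
        MonoidAlgebra.single y₀ 1 := by rw [hsg]; rfl
    exact h1
  have hfix : ∀ a : Γ', (a : Γ) • y₀ = y₀ := by
    intro a
    change (((a : Γ) * 1 : Γ) : Γ ⧸ Γ') = ((1 : Γ) : Γ ⧸ Γ')
    rw [mul_one, QuotientGroup.eq]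
    simpa using a.2
  refine ⟨-v.1, ?_⟩
  intro a
  have h1 : s.hom ((Rep.ofMulAction k Γ (Γ ⧸ Γ')).ρ a (MonoidAlgebra.single y₀ 1)) =
      T Λ Γ' c a v := Rep.hom_comm_apply s (a : Γ) _
  have h2 : (Rep.ofMulAction k Γ (Γ ⧸ Γ')).ρ a (MonoidAlgebra.single y₀ 1) =
      MonoidAlgebra.single y₀ 1 := by
    change Representation.ofMulAction k Γ (Γ ⧸ Γ') a (MonoidAlgebra.single y₀ 1) = _
    rw [Representation.ofMulAction_single, hfix]
  rw [h2] at h1
  have h3 : v = (v.1, 0) + (0, MonoidAlgebra.single y₀ 1) := by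
    rw [← hv2]; simp
  have h4 : T Λ Γ' c a v = (Λ.ρ a v.1 + FF Λ Γ' c a y₀, MonoidAlgebra.single ((a : Γ) • y₀) 1) := by
    conv_lhs => rw [h3]
    rw [map_add, T_inl, T_single]
    simp
  have h5 : FF Λ Γ' c a y₀ = c a := by
    have h6 : hh Γ' a y₀ = a := by
      apply Subtype.ext
      simp only [hh]
      rw [hfix, sec_one]
      simp
    rw [FF, h6, hfix, sec_one]
    simp
  have h7 : v.1 = Λ.ρ a v.1 + c a := by
    have := congrArg Prod.fst h1
    rw [h4, h5] at this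
    exact this
  change Λ.ρ a (-v.1) - -v.1 = c a
  rw [map_neg]
  have : c a = v.1 - Λ.ρ a v.1 := by
    rw [eq_sub_iff_add_eq, add_comm]; exact h7.symm
  rw [this]; abel

end Groth.Agent.Lib.H26Coflasque
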