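import Mathlib

/-!
# Generic structure of a finite extension of an integrally closed domain (helper26)

`B` is an integrally closed domain of characteristic zero and `A` a domain which is a finite
torsion-free `B`-algebra.  Then there are `g : A` and `Δ ≠ 0` in `B` such that
* `Δ • a ∈ B[g]` for every `a : A`;
* `U * P + V * P' = C Δ` for suitable `U V : B[X]`, where `P = minpoly B g`.
-/

set_option autoImplicit false

open Polynomial

namespace Groth.Agent.Lib.H26ConnAlg

attribute [local instance] FractionRing.liftAlgebra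

variable {B A : Type} [CommRing B] [IsDomain B] [IsIntegrallyClosed B] [CommRing A] [IsDomain A]
  [Algebra B A] [Module.Finite B A] [Module.IsTorsionFree B A] [CharZero B]

/-- a primitive element of `Frac A / Frac B` lying in `A`. -/
theorem exists_primitive_element :
    ∃ g : A, Algebra.adjoin (FractionRing B) {algebraMap A (FractionRing A) g} = ⊤ := by
  obtain ⟨α, hα⟩ := Field.exists_primitive_element (FractionRing B) (FractionRing A)
  obtain ⟨x, y, hy, rfl⟩ := IsFractionRing.div_surjective (A := A) α
  have hy0 : y ≠ 0 := nonZeroDivisors.ne_zero hy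
  haveI : Algebra.IsIntegral B A := Algebra.IsIntegral.of_finite B A
  haveI : Algebra.IsAlgebraic B A := Algebra.IsIntegral.isAlgebraic
  obtain ⟨c, dd, hd0, hcd⟩ := Algebra.IsAlgebraic.exists_smul_eq_mul B x hy0
  refine ⟨c, ?_⟩
  set K := FractionRing B
  set L := FractionRing A
  have hyL : algebraMap A L y ≠ 0 := by
    rw [Ne, FaithfulSMul.algebraMap_eq_zero_iff]
    exact hy0
  have hκ : algebraMap B K dd ≠ 0 := by
    rw [Ne, FaithfulSMul.algebraMap_eq_zero_iff]
    exact hd0
  -- `c_L = κ * (x / y)`
  have hrel : algebraMap A L c = algebraMap K L (algebraMap B K dd) *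
      (algebraMap A L x / algebraMap A L y) := by
    have h1 := congrArg (algebraMap A L) hcd
    rw [Algebra.smul_def, map_mul, map_mul, ← IsScalarTower.algebraMap_apply,
      IsScalarTower.algebraMap_apply B K L] at h1
    rw [mul_div_assoc', h1, mul_comm (algebraMap A L y), mul_div_assoc, div_self hyL, mul_one]
  have hint : IsAlgebraic K (algebraMap A L c) := IsAlgebraic.of_finite K _
  rw [← IntermediateField.adjoin_simple_toSubalgebra_of_isAlgebraic hint,
    ← IntermediateField.top_toSubalgebra]
  congr 1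
  rw [eq_top_iff, ← hα, IntermediateField.adjoin_simple_le_iff]
  have h2 : algebraMap A L x / algebraMap A L y =
      (algebraMap K L (algebraMap B K dd))⁻¹ * algebraMap A L c := by
    rw [hrel, ← mul_assoc, inv_mul_cancel₀, one_mul]
    rw [Ne, FaithfulSMul.algebraMap_eq_zero_iff]
    exact hκ
  rw [h2]
  exact mul_mem (inv_mem (IntermediateField.algebraMap_mem _ _))
    (IntermediateField.mem_adjoin_simple_self K _)

/-- a nonzero element of `B` multiplying `A` into `B[g]`. -/
theorem exists_smul_mem_adjoin (g : A)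
    (hg : Algebra.adjoin (FractionRing B) {algebraMap A (FractionRing A) g} = ⊤) :
    ∃ Δ₁ : B, Δ₁ ≠ 0 ∧ ∀ a : A, ∃ r : B[X], Δ₁ • a = Polynomial.aeval g r := by
  haveI : Algebra.IsIntegral B A := Algebra.IsIntegral.of_finite B A
  set K := FractionRing B
  set L := FractionRing A
  set gL := algebraMap A L g with hgL
  have hgKint : IsIntegral K gL := Algebra.IsIntegral.isIntegral _
  let pb : PowerBasis K L := PowerBasis.ofAdjoinEqTop hgKint hg
  have hgen : pb.gen = gL := rfl
  have hgBint : IsIntegral B pb.gen := by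
    rw [hgen]
    exact (Algebra.IsIntegral.isIntegral (R := B) g).map (IsScalarTower.toAlgHom B A L)
  have hdisc_int : IsIntegral B (Algebra.discr K pb.basis) :=
    Algebra.discr_isIntegral K (fun i => by
      rw [pb.basis_eq_pow]
      exact hgBint.pow _)
  obtain ⟨Δ₁, hΔ₁⟩ := IsIntegrallyClosed.isIntegral_iff.mp hdisc_int
  have hdisc_ne : Algebra.discr K pb.basis ≠ 0 := Algebra.discr_not_zero_of_basis K pb.basis
  refine ⟨Δ₁, ?_, fun a => ?_⟩
  · rintro rfl
    rw [map_zero] at hΔ₁
    exact hdisc_ne hΔ₁.symm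
  · have hz : IsIntegral B (algebraMap A L a) :=
      (Algebra.IsIntegral.isIntegral (R := B) a).map (IsScalarTower.toAlgHom B A L)
    have hmem := Algebra.discr_mul_isIntegral_mem_adjoin (K := K) hgBint hz
    rw [Algebra.adjoin_singleton_eq_range_aeval] at hmem
    obtain ⟨r, hr⟩ := hmem
    refine ⟨r, ?_⟩
    apply FaithfulSMul.algebraMap_injective A L
    have h1 : algebraMap A L (Polynomial.aeval g r) = Polynomial.aeval gL r := by
      rw [hgL, ← Polynomial.aeval_algebraMap_apply]
    rw [h1]
    have h2 : (Polynomial.aeval pb.gen) r = Algebra.discr K pb.basis • algebraMap A L a := hr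
    rw [hgen] at h2
    rw [h2, ← hΔ₁, Algebra.smul_def, Algebra.smul_def, map_mul, ← IsScalarTower.algebraMap_apply,
      ← IsScalarTower.algebraMap_apply]

/-- Bezout identity over `B` for the minimal polynomial and its derivative. -/
theorem exists_bezout (g : A) :
    ∃ (Δ₂ : B) (U V : B[X]), Δ₂ ≠ 0 ∧
      U * minpoly B g + V * derivative (minpoly B g) = C Δ₂ := by
  haveI : Algebra.IsIntegral B A := Algebra.IsIntegral.of_finite B A
  set K := FractionRing B
  set L := FractionRing A
  have hgB : IsIntegral B g := Algebra.IsIntegral.isIntegral g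
  have hmin : minpoly K (algebraMap A L g) = (minpoly B g).map (algebraMap B K) :=
    minpoly.isIntegrallyClosed_eq_field_fractions K L hgB
  have hsep : (minpoly K (algebraMap A L g)).Separable := Algebra.IsSeparable.isSeparable K _
  rw [hmin] at hsep
  obtain ⟨u, v, huv⟩ := hsep
  obtain ⟨b₁, hU⟩ := IsLocalization.integerNormalization_map_to_map (nonZeroDivisors B) u
  obtain ⟨b₂, hV⟩ := IsLocalization.integerNormalization_map_to_map (nonZeroDivisors B) v
  refine ⟨(b₁ : B) * (b₂ : B),
    C (b₂ : B) * IsLocalization.integerNormalization (nonZeroDivisors B) u,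
    C (b₁ : B) * IsLocalization.integerNormalization (nonZeroDivisors B) v, ?_, ?_⟩
  · exact mul_ne_zero (nonZeroDivisors.coe_ne_zero b₁) (nonZeroDivisors.coe_ne_zero b₂)
  · apply Polynomial.map_injective _ (IsFractionRing.injective B K)
    rw [Polynomial.map_add, Polynomial.map_mul, Polynomial.map_mul, Polynomial.map_mul,
      Polynomial.map_mul, hU, hV, Polynomial.map_C, Polynomial.map_C, Polynomial.map_C,
      ← Polynomial.derivative_map]
    have h1 : C (algebraMap B K ((b₁ : B) * (b₂ : B))) =
        C (algebraMap B K (b₁ : B)) * C (algebraMap B K (b₂ : B)) *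
          (u * Polynomial.map (algebraMap B K) (minpoly B g) +
            v * derivative (Polynomial.map (algebraMap B K) (minpoly B g))) := by
      rw [huv, mul_one, map_mul, C_mul]
    have h2 : ∀ (b : B) (w : K[X]), b • w = C (algebraMap B K b) * w := by
      intro b w
      rw [← algebraMap_smul K b w, ← Polynomial.C_mul']
    rw [h1, h2, h2]
    ring

/-- **Generic structure**: a primitive element `g ∈ A`, with a common "denominator" `Δ`. -/
theorem exists_generic_structure :
    ∃ (g : A) (Δ : B), Δ ≠ 0 ∧ (∀ a : A, ∃ r : B[X], Δ • a = Polynomial.aeval g r) ∧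
      ∃ U V : B[X], U * minpoly B g + V * derivative (minpoly B g) = C Δ := by
  obtain ⟨g, hg⟩ := exists_primitive_element (B := B) (A := A)
  obtain ⟨Δ₁, hΔ₁, h1⟩ := exists_smul_mem_adjoin g hg
  obtain ⟨Δ₂, U, V, hΔ₂, h2⟩ := exists_bezout (B := B) g
  refine ⟨g, Δ₁ * Δ₂, mul_ne_zero hΔ₁ hΔ₂, fun a => ?_, C Δ₁ * U, C Δ₁ * V, ?_⟩
  · obtain ⟨r, hr⟩ := h1 a
    refine ⟨C Δ₂ * r, ?_⟩
    rw [map_mul, Polynomial.aeval_C, ← hr, mul_comm Δ₁ Δ₂, mul_smul, Algebra.smul_def Δ₂]
  · rw [map_mul, ← h2]
    ring

omit [IsDomain B] [IsIntegrallyClosed B] [CharZero B] in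
/-- a Bezout identity specialises to separability wherever `Δ` does not vanish. -/
theorem separable_map_of_bezout {F : Type*} [Field F] {P U V : B[X]} {Δ : B}
    (h : U * P + V * derivative P = C Δ) (φ : B →+* F) (hφ : φ Δ ≠ 0) :
    (P.map φ).Separable := by
  refine ⟨C (φ Δ)⁻¹ * U.map φ, C (φ Δ)⁻¹ * V.map φ, ?_⟩
  have h1 := congrArg (Polynomial.map φ) h
  rw [Polynomial.map_add, Polynomial.map_mul, Polynomial.map_mul, Polynomial.map_C,
    ← Polynomial.derivative_map] at h1
  calc C (φ Δ)⁻¹ * U.map φ * P.map φ + C (φ Δ)⁻¹ * V.map φ * derivative (P.map φ)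
      = C (φ Δ)⁻¹ * (U.map φ * P.map φ + V.map φ * derivative (P.map φ)) := by ring
    _ = C (φ Δ)⁻¹ * C (φ Δ) := by rw [h1]
    _ = 1 := by rw [← C_mul, inv_mul_cancel₀ hφ, C_1]

end Groth.Agent.Lib.H26ConnAlg
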