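import Mathlib

/-!
# Functions that are polynomial on lines are polynomial (helper26)

`exists_mvPolynomial_of_lines`: let `Δ ≠ 0` be a polynomial in `d` variables and `F` a function on
`ℂ^d` such that on every line `s ↦ a + s • b` the function `F` agrees, off the zero locus of `Δ`,
with a polynomial in `s` of degree `≤ N`.  Then `F` agrees with a polynomial off the zero locus of
`Δ`.
-/

set_option autoImplicit false

open Polynomial

namespace Groth.Agent.Lib.H26ConnLines

variable {d : ℕ}

/-- restriction of a polynomial to the line `s ↦ a + s • b`. -/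
noncomputable def lineRestrict (a b : Fin d → ℂ) : MvPolynomial (Fin d) ℂ →ₐ[ℂ] ℂ[X] :=
  MvPolynomial.aeval (fun i => Polynomial.C (a i) + Polynomial.X * Polynomial.C (b i))

theorem eval_lineRestrict (a b : Fin d → ℂ) (p : MvPolynomial (Fin d) ℂ) (s : ℂ) :
    (lineRestrict a b p).eval s = MvPolynomial.eval (a + s • b) p := by
  have h1 : ((Polynomial.evalRingHom s).comp (lineRestrict a b).toRingHom) =
      (MvPolynomial.eval (a + s • b)) := by
    apply MvPolynomial.ringHom_ext
    · intro c
      simp [lineRestrict]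
    · intro i
      simp only [lineRestrict, AlgHom.toRingHom_eq_coe, RingHom.coe_comp, RingHom.coe_coe,
        Function.comp_apply, MvPolynomial.aeval_X, Polynomial.coe_evalRingHom, Polynomial.eval_add,
        Polynomial.eval_C, Polynomial.eval_mul, Polynomial.eval_X, MvPolynomial.eval_X,
        Pi.add_apply, Pi.smul_apply, smul_eq_mul]
  exact RingHom.congr_fun h1 p

theorem exists_eval_ne_zero (p : MvPolynomial (Fin d) ℂ) (hp : p ≠ 0) :
    ∃ w : Fin d → ℂ, MvPolynomial.eval w p ≠ 0 := by
  by_contra hcon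
  push_neg at hcon
  apply hp
  apply MvPolynomial.funext
  intro x
  rw [hcon x, map_zero]

/-- partial evaluation of the first variable. -/
noncomputable def partialEval (t : ℂ) : MvPolynomial (Fin (d + 1)) ℂ →ₐ[ℂ] MvPolynomial (Fin d) ℂ :=
  MvPolynomial.aeval (Fin.cons (MvPolynomial.C t) MvPolynomial.X :
    Fin (d + 1) → MvPolynomial (Fin d) ℂ)

theorem eval_partialEval (t : ℂ) (p : MvPolynomial (Fin (d + 1)) ℂ) (v' : Fin d → ℂ) :
    MvPolynomial.eval v' (partialEval t p) = MvPolynomial.eval (Fin.cons t v' : Fin (d + 1) → ℂ) p := by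
  have h1 : ((MvPolynomial.eval v').comp (partialEval t).toRingHom) =
      (MvPolynomial.eval (Fin.cons t v' : Fin (d + 1) → ℂ)) := by
    apply MvPolynomial.ringHom_ext
    · intro c
      simp [partialEval]
    · intro i
      refine Fin.cases ?_ (fun j => ?_) i
      · simp [partialEval]
      · simp [partialEval]
  exact RingHom.congr_fun h1 p

theorem cons_add_smul (t : ℂ) (a' b' : Fin d → ℂ) (s : ℂ) :
    (Fin.cons t (a' + s • b') : Fin (d + 1) → ℂ) =
      (Fin.cons t a' : Fin (d + 1) → ℂ) + s • (Fin.cons 0 b' : Fin (d + 1) → ℂ) := by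
  funext i
  refine Fin.cases ?_ (fun j => ?_) i
  · simp
  · simp

theorem cons_eq_add_smul (y : ℂ) (v' : Fin d → ℂ) :
    (Fin.cons y v' : Fin (d + 1) → ℂ) =
      (Fin.cons 0 v' : Fin (d + 1) → ℂ) + y • (Fin.cons 1 0 : Fin (d + 1) → ℂ) := by
  funext i
  refine Fin.cases ?_ (fun j => ?_) i
  · simp
  · simp

/-- the set of `t` for which the partial evaluation vanishes is finite. -/
theorem finite_partialEval_eq_zero (Δ : MvPolynomial (Fin (d + 1)) ℂ) (hΔ : Δ ≠ 0) :
    {t : ℂ | partialEval t Δ = 0}.Finite := by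
  obtain ⟨w, hw⟩ := exists_eval_ne_zero Δ hΔ
  set r : ℂ[X] := lineRestrict (Fin.cons 0 (Fin.tail w) : Fin (d + 1) → ℂ) (Fin.cons 1 0) Δ with hr
  have hrev : ∀ t, r.eval t = MvPolynomial.eval (Fin.cons t (Fin.tail w) : Fin (d + 1) → ℂ) Δ := by
    intro t
    rw [hr, eval_lineRestrict, ← cons_eq_add_smul]
  have hr0 : r ≠ 0 := by
    intro h0
    apply hw
    have := hrev (w 0)
    rw [h0, Polynomial.eval_zero, Fin.cons_self_tail] at this
    exact this.symm
  refine (Polynomial.finite_setOf_isRoot hr0).subset ?_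
  intro t ht
  change r.eval t = 0
  rw [hrev, ← eval_partialEval, Set.mem_setOf_eq.mp ht, map_zero]

/-- evaluation of a univariate polynomial in the first variable. -/
theorem eval_aeval_X_zero (L : ℂ[X]) (v : Fin (d + 1) → ℂ) :
    MvPolynomial.eval v (Polynomial.aeval (MvPolynomial.X 0 : MvPolynomial (Fin (d + 1)) ℂ) L) =
      L.eval (v 0) := by
  have h1 : ((MvPolynomial.eval v).comp
      (Polynomial.aeval (MvPolynomial.X 0 : MvPolynomial (Fin (d + 1)) ℂ)).toRingHom) =
      Polynomial.evalRingHom (v 0) := by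
    apply Polynomial.ringHom_ext
    · intro c
      simp
    · simp
  exact RingHom.congr_fun h1 L

theorem exists_mvPolynomial_of_lines (N : ℕ) : ∀ (d : ℕ) (Δ : MvPolynomial (Fin d) ℂ) (_ : Δ ≠ 0)
    (F : (Fin d → ℂ) → ℂ)
    (_ : ∀ a b : Fin d → ℂ, ∃ q : ℂ[X], q.natDegree ≤ N ∧
      ∀ s : ℂ, MvPolynomial.eval (a + s • b) Δ ≠ 0 → F (a + s • b) = q.eval s),
    ∃ Q : MvPolynomial (Fin d) ℂ, ∀ v, MvPolynomial.eval v Δ ≠ 0 → F v = MvPolynomial.eval v Q := by
  classical
  intro d
  induction d with
  | zero =>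
    intro Δ _ F _
    refine ⟨MvPolynomial.C (F 0), fun v _ => ?_⟩
    rw [MvPolynomial.eval_C, Subsingleton.elim v 0]
  | succ d ih =>
    intro Δ hΔ F hF
    -- nodes
    have hfin := finite_partialEval_eq_zero Δ hΔ
    have hinf : ({t : ℂ | partialEval t Δ = 0}ᶜ).Infinite := hfin.infinite_compl
    obtain ⟨T, hTsub, hTcard⟩ := hinf.exists_subset_card_eq (N + 1)
    have hTne : ∀ t ∈ T, partialEval t Δ ≠ 0 := fun t ht => hTsub ht
    -- induction hypothesis at each node
    have hQt : ∀ t : ℂ, ∃ Qt : MvPolynomial (Fin d) ℂ, t ∈ T → ∀ v' : Fin d → ℂ,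
        MvPolynomial.eval v' (partialEval t Δ) ≠ 0 →
          F (Fin.cons t v') = MvPolynomial.eval v' Qt := by
      intro t
      by_cases ht : t ∈ T
      · obtain ⟨Qt, hQt⟩ := ih (partialEval t Δ) (hTne t ht) (fun v' => F (Fin.cons t v')) (by
          intro a' b'
          obtain ⟨q, hq, hqe⟩ := hF (Fin.cons t a') (Fin.cons 0 b')
          refine ⟨q, hq, fun s hs => ?_⟩
          rw [eval_partialEval, cons_add_smul] at hs
          have := hqe s hs
          rw [← cons_add_smul] at this
          exact this)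
        exact ⟨Qt, fun _ => hQt⟩
      · exact ⟨0, fun h => absurd h ht⟩
    choose Qt hQt using hQt
    -- the interpolating polynomial
    set Q : MvPolynomial (Fin (d + 1)) ℂ :=
      ∑ t ∈ T, Polynomial.aeval (MvPolynomial.X 0 : MvPolynomial (Fin (d + 1)) ℂ)
        (Lagrange.basis T id t) * MvPolynomial.rename Fin.succ (Qt t) with hQdef
    have hQev : ∀ (y : ℂ) (v' : Fin d → ℂ),
        MvPolynomial.eval (Fin.cons y v' : Fin (d + 1) → ℂ) Q =
          (Lagrange.interpolate T id (fun t => MvPolynomial.eval v' (Qt t))).eval y := by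
      intro y v'
      rw [hQdef, map_sum, Lagrange.interpolate_apply, Polynomial.eval_finset_sum]
      apply Finset.sum_congr rfl
      intro t _
      rw [map_mul, eval_aeval_X_zero, MvPolynomial.eval_rename, Polynomial.eval_mul,
        Polynomial.eval_C, Fin.cons_zero, mul_comm]
      congr 1
    -- generic equality
    set D : MvPolynomial (Fin d) ℂ := ∏ t ∈ T, partialEval t Δ with hD
    have hD0 : D ≠ 0 := Finset.prod_ne_zero_iff.mpr hTne
    have hgen : ∀ (y : ℂ) (v' : Fin d → ℂ), MvPolynomial.eval v' D ≠ 0 →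
        MvPolynomial.eval (Fin.cons y v' : Fin (d + 1) → ℂ) Δ ≠ 0 →
        F (Fin.cons y v') = MvPolynomial.eval (Fin.cons y v' : Fin (d + 1) → ℂ) Q := by
      intro y v' hDv hΔv
      obtain ⟨q, hq, hqe⟩ := hF (Fin.cons 0 v') (Fin.cons 1 0)
      have hDt : ∀ t ∈ T, MvPolynomial.eval v' (partialEval t Δ) ≠ 0 := by
        intro t ht h0
        apply hDv
        rw [hD, map_prod]
        exact Finset.prod_eq_zero ht h0
      have hnode : ∀ t ∈ T, q.eval (id t) = MvPolynomial.eval v' (Qt t) := by
        intro t ht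
        have h1 := hDt t ht
        have h2 := h1
        rw [eval_partialEval, cons_eq_add_smul] at h2
        rw [← hQt t ht v' h1, id, ← hqe t h2, ← cons_eq_add_smul]
      have hdeg : q.degree < (T.card : WithBot ℕ) := by
        rw [hTcard]
        exact lt_of_le_of_lt Polynomial.degree_le_natDegree
          (by exact_mod_cast Nat.lt_succ_of_le hq)
      have hqint := Lagrange.eq_interpolate_of_eval_eq (s := T) (v := id)
        (r := fun t => MvPolynomial.eval v' (Qt t)) (Set.injOn_id _) hdeg hnode
      rw [hQev, ← hqint]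
      have h3 := hΔv
      rw [cons_eq_add_smul] at h3
      rw [← hqe y h3, ← cons_eq_add_smul]
    -- extension along a generic line
    set Dt : MvPolynomial (Fin (d + 1)) ℂ := Δ * MvPolynomial.rename Fin.succ D with hDt
    have hDt0 : Dt ≠ 0 := by
      apply mul_ne_zero hΔ
      intro h0
      apply hD0
      have hinj := MvPolynomial.rename_injective (R := ℂ) (Fin.succ : Fin d → Fin (d + 1))
        (Fin.succ_injective d)
      apply hinj
      rw [h0, map_zero]
    obtain ⟨w, hw⟩ := exists_eval_ne_zero Dt hDt0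
    refine ⟨Q, fun v hv => ?_⟩
    obtain ⟨q, hq, hqe⟩ := hF v (w - v)
    set r : ℂ[X] := lineRestrict v (w - v) Dt with hr
    have hr0 : r ≠ 0 := by
      intro h0
      apply hw
      have h1 := eval_lineRestrict v (w - v) Dt 1
      rw [← hr, h0, Polynomial.eval_zero] at h1
      rw [h1]
      have h2 : v + (1 : ℂ) • (w - v) = w := by
        funext i
        simp
      rw [h2]
    have hprod : (q - lineRestrict v (w - v) Q) * r = 0 := by
      apply Polynomial.funext
      intro s
      rw [Polynomial.eval_mul, Polynomial.eval_zero]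
      by_cases hrs : r.eval s = 0
      · rw [hrs, mul_zero]
      · have h1 : MvPolynomial.eval (v + s • (w - v)) Dt ≠ 0 := by
          rw [← eval_lineRestrict]
          exact hrs
        rw [hDt, map_mul, MvPolynomial.eval_rename] at h1
        have h2 : MvPolynomial.eval (v + s • (w - v)) Δ ≠ 0 := left_ne_zero_of_mul h1
        have h3 : MvPolynomial.eval ((v + s • (w - v)) ∘ Fin.succ) D ≠ 0 := right_ne_zero_of_mul h1
        have h4 : (Fin.cons ((v + s • (w - v)) 0) ((v + s • (w - v)) ∘ Fin.succ) :
            Fin (d + 1) → ℂ) = v + s • (w - v) := by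
          funext i
          refine Fin.cases ?_ (fun j => ?_) i
          · simp
          · simp
        have h5 := hgen ((v + s • (w - v)) 0) ((v + s • (w - v)) ∘ Fin.succ) h3 (by rw [h4]; exact h2)
        rw [h4] at h5
        rw [Polynomial.eval_sub, eval_lineRestrict, ← h5, ← hqe s h2, sub_self, zero_mul]
    have hqQ : q = lineRestrict v (w - v) Q := by
      rcases mul_eq_zero.mp hprod with h | h
      · exact sub_eq_zero.mp h
      · exact absurd h hr0
    have h0 : v + (0 : ℂ) • (w - v) = v := by simp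
    have h1 := hqe 0 (by rw [h0]; exact hv)
    rw [h0] at h1
    rw [h1, hqQ, eval_lineRestrict, h0]

end Groth.Agent.Lib.H26ConnLines
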