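import Mathlib

/-!
# Polynomial growth off a finite set implies polynomial (helper26)

* `exists_entire_extension`: removable singularities at finitely many points.
* `exists_polynomial_of_growth`: a function on `ℂ` which is holomorphic off a finite set `S` and
  satisfies `‖f s‖ ≤ C (1 + ‖s‖) ^ N` off `S` agrees off `S` with a polynomial of degree `≤ N`.
-/

set_option autoImplicit false

open Polynomial Filter Topology Metric Set

namespace Groth.Agent.Lib.H26ConnLiouville

/-- removable singularities for a finite set. -/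
theorem exists_entire_extension (f : ℂ → ℂ) (S : Set ℂ) (hS : S.Finite)
    (hf : ∀ s ∉ S, DifferentiableAt ℂ f s)
    (hb : ∀ c ∈ S, ∃ r > 0, ∃ C : ℝ, ∀ s ∈ ball c r, s ∉ S → ‖f s‖ ≤ C) :
    ∃ g : ℂ → ℂ, Differentiable ℂ g ∧ ∀ s ∉ S, g s = f s := by
  classical
  refine ⟨fun s => if s ∈ S then limUnder (𝓝[≠] s) f else f s, ?_, fun s hs => if_neg hs⟩
  intro c
  by_cases hc : c ∈ S
  · obtain ⟨r, hr, C, hC⟩ := hb c hc
    have hcl : IsClosed (S \ {c}) := (hS.subset diff_subset).isClosed
    have hnb : (S \ {c})ᶜ ∈ 𝓝 c := hcl.isOpen_compl.mem_nhds (fun h => h.2 rfl)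
    obtain ⟨r', hr', hsub⟩ := Metric.mem_nhds_iff.mp hnb
    set r₀ := min r r' with hr₀
    have hr₀pos : 0 < r₀ := lt_min hr hr'
    have hnotS : ∀ s ∈ ball c r₀, s ≠ c → s ∉ S := by
      intro s hs hsc hsS
      have h1 : s ∈ ball c r' := ball_subset_ball (min_le_right _ _) hs
      exact hsub h1 ⟨hsS, hsc⟩
    have hd : DifferentiableOn ℂ f (ball c r₀ \ {c}) := by
      intro s hs
      exact (hf s (hnotS s hs.1 hs.2)).differentiableWithinAt
    have hbd : BddAbove (norm ∘ f '' (ball c r₀ \ {c})) := by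
      refine ⟨C, ?_⟩
      rintro _ ⟨s, hs, rfl⟩
      exact hC s (ball_subset_ball (min_le_left _ _) hs.1) (hnotS s hs.1 hs.2)
    have h1 := Complex.differentiableOn_update_limUnder_of_bddAbove
      (ball_mem_nhds c hr₀pos) hd hbd
    have h2 : DifferentiableAt ℂ (Function.update f c (limUnder (𝓝[≠] c) f)) c :=
      h1.differentiableAt (ball_mem_nhds c hr₀pos)
    refine h2.congr_of_eventuallyEq ?_
    filter_upwards [ball_mem_nhds c hr₀pos] with s hs
    by_cases hsc : s = c
    · subst hsc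
      simp [hc]
    · rw [Function.update_of_ne hsc, if_neg (hnotS s hs hsc)]
  · have hopen : Sᶜ ∈ 𝓝 c := hS.isClosed.isOpen_compl.mem_nhds hc
    refine (hf c hc).congr_of_eventuallyEq ?_
    filter_upwards [hopen] with s hs
    exact if_neg hs

/-- **Liouville with polynomial growth and finitely many removable singularities.** -/
theorem exists_polynomial_of_growth (f : ℂ → ℂ) (S : Set ℂ) (hS : S.Finite) (N : ℕ) (C : ℝ)
    (hf : ∀ s ∉ S, DifferentiableAt ℂ f s) (hb : ∀ s ∉ S, ‖f s‖ ≤ C * (1 + ‖s‖) ^ N) :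
    ∃ q : ℂ[X], q.natDegree ≤ N ∧ ∀ s ∉ S, f s = q.eval s := by
  have hb' : ∀ s ∉ S, ‖f s‖ ≤ |C| * (1 + ‖s‖) ^ N := fun s hs =>
    (hb s hs).trans (mul_le_mul_of_nonneg_right (le_abs_self C) (by positivity))
  obtain ⟨g, hg, hgf⟩ := exists_entire_extension f S hS hf (by
    intro c _
    refine ⟨1, one_pos, |C| * (2 + ‖c‖) ^ N, fun s hs hsS => ?_⟩
    refine (hb' s hsS).trans ?_
    have h1 : ‖s‖ ≤ 1 + ‖c‖ := by
      have h2 : ‖s - c‖ < 1 := by simpa [dist_eq_norm] using hs
      have h3 : ‖s‖ ≤ ‖s - c‖ + ‖c‖ := by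
        simpa using norm_add_le (s - c) c
      linarith
    have h4 : 1 + ‖s‖ ≤ 2 + ‖c‖ := by linarith
    exact mul_le_mul_of_nonneg_left (pow_le_pow_left₀ (by positivity) h4 N) (abs_nonneg C))
  obtain ⟨R₀, hR₀⟩ := isBounded_iff_forall_norm_le.mp hS.isBounded
  -- vanishing of higher derivatives at `0`
  have hvan : ∀ n, N < n → iteratedDeriv n g 0 = 0 := by
    intro n hn
    by_contra hne
    have hpos : 0 < ‖iteratedDeriv n g 0‖ := norm_pos_iff.mpr hne
    set K : ℝ := n.factorial * (|C| * 2 ^ N) with hK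
    have hK0 : 0 ≤ K := by positivity
    -- choose `R` large
    set R : ℝ := max (max (R₀ + 1) 1) (K / ‖iteratedDeriv n g 0‖ + 1) with hR
    have hR1 : 1 ≤ R := (le_max_right _ _).trans (le_max_left _ _)
    have hRR₀ : R₀ < R := by
      have : R₀ + 1 ≤ R := (le_max_left _ _).trans (le_max_left _ _)
      linarith
    have hRK : K / ‖iteratedDeriv n g 0‖ < R := by
      have : K / ‖iteratedDeriv n g 0‖ + 1 ≤ R := le_max_right _ _
      linarith
    have hRpos : 0 < R := lt_of_lt_of_le one_pos hR1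
    have hsph : ∀ z ∈ sphere (0 : ℂ) R, ‖g z‖ ≤ |C| * (1 + R) ^ N := by
      intro z hz
      have hzR : ‖z‖ = R := by simpa using hz
      have hzS : z ∉ S := fun h => by
        have := hR₀ z h
        linarith
      rw [hgf z hzS]
      have := hb' z hzS
      rwa [hzR] at this
    have h1 := Complex.norm_iteratedDeriv_le_of_forall_mem_sphere_norm_le n hRpos
      hg.diffContOnCl hsph
    have h2 : (n.factorial : ℝ) * (|C| * (1 + R) ^ N) / R ^ n ≤ K / R := by
      have h3 : (1 + R) ^ N ≤ (2 * R) ^ N := by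
        gcongr
        linarith
      have h4 : R ^ (N + 1) ≤ R ^ n := pow_le_pow_right₀ hR1 hn
      have h5 : (n.factorial : ℝ) * (|C| * (1 + R) ^ N) ≤ K * R ^ N := by
        rw [hK, mul_pow] at *
        calc (n.factorial : ℝ) * (|C| * (1 + R) ^ N)
            ≤ (n.factorial : ℝ) * (|C| * (2 ^ N * R ^ N)) := by gcongr
          _ = n.factorial * (|C| * 2 ^ N) * R ^ N := by ring
      calc (n.factorial : ℝ) * (|C| * (1 + R) ^ N) / R ^ n
          ≤ K * R ^ N / R ^ n := by gcongr
        _ ≤ K * R ^ N / R ^ (N + 1) := by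
            apply div_le_div_of_nonneg_left (by positivity) (by positivity) h4
        _ = K / R := by
            rw [pow_succ]
            field_simp
    have h6 : ‖iteratedDeriv n g 0‖ ≤ K / R := by
      refine le_trans ?_ h2
      convert h1 using 2
    have h7 : K < R * ‖iteratedDeriv n g 0‖ := by
      rwa [div_lt_iff₀ hpos] at hRK
    have h8 : K / R < ‖iteratedDeriv n g 0‖ := by
      rw [div_lt_iff₀ hRpos]
      linarith
    linarith
  -- the Taylor polynomial
  refine ⟨∑ n ∈ Finset.range (N + 1),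
    Polynomial.C ((n.factorial : ℂ)⁻¹ * iteratedDeriv n g 0) * Polynomial.X ^ n, ?_, ?_⟩
  · apply Polynomial.natDegree_sum_le_of_forall_le
    intro n hn
    refine (Polynomial.natDegree_C_mul_X_pow_le _ _).trans ?_
    exact Nat.lt_succ_iff.mp (Finset.mem_range.mp hn)
  · intro s hs
    rw [← hgf s hs]
    have h1 := Complex.taylorSeries_eq_of_entire' (c := 0) (z := s) hg
    rw [tsum_eq_sum (s := Finset.range (N + 1))] at h1
    · rw [← h1, Polynomial.eval_finset_sum]
      apply Finset.sum_congr rfl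
      intro n _
      simp
    · intro n hn
      rw [hvan n (by simpa using hn)]
      simp

end Groth.Agent.Lib.H26ConnLiouville
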