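import Mathlib
import Groth.Agent.Lib.H26Roots

/-!
# Holomorphy of partial root products (helper26)

* `exists_local_root_diff`: implicit function theorem for simple roots of the universal monic
  polynomial, with differentiability of the root function at the base point.
* `differentiableAt_coeff_partialProd`: for a holomorphic curve `c` of monic polynomials with
  simple roots at `s₀` and a "clopen" selection `R₁` of roots, the coefficients of
  `∏_{t ∈ R₁ s} (X - t)` are differentiable at `s₀`.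
-/

set_option autoImplicit false

open Topology Filter Polynomial

namespace Groth.Agent.Lib.H26ConnRoots

open Groth.Agent.Lib.H26Roots

variable {d : ℕ}

/-- **Implicit function theorem for simple roots**, with differentiability at the base point. -/
theorem exists_local_root_diff (c₀ : Fin d → ℂ) (t₀ : ℂ) (h0 : F d (c₀, t₀) = 0)
    (h1 : (poly d c₀).derivative.eval t₀ ≠ 0) :
    ∃ (S : Set ((Fin d → ℂ) × ℂ)) (N : Set (Fin d → ℂ)) (ρ : (Fin d → ℂ) → ℂ),
      IsOpen S ∧ (c₀, t₀) ∈ S ∧ IsOpen N ∧ c₀ ∈ N ∧ ContinuousOn ρ N ∧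
      DifferentiableAt ℂ ρ c₀ ∧
      (∀ c ∈ N, (c, ρ c) ∈ S ∧ F d (c, ρ c) = 0) ∧
      (∀ c t, (c, t) ∈ S → F d (c, t) = 0 → c ∈ N ∧ t = ρ c) := by
  set p₀ : (Fin d → ℂ) × ℂ := (c₀, t₀) with hp₀
  set DF := fderiv ℂ (F d) p₀ with hDF
  have hF : HasStrictFDerivAt (F d) DF p₀ :=
    (contDiff_F d).contDiffAt.hasStrictFDerivAt (by simp)
  have hb : DF (0, 1) = (poly d c₀).derivative.eval t₀ := fderiv_F_apply c₀ t₀
  let Ψ : (Fin d → ℂ) × ℂ → (Fin d → ℂ) × ℂ := fun p => (p.1, F d p)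
  let Ψ' : (Fin d → ℂ) × ℂ →L[ℂ] (Fin d → ℂ) × ℂ :=
    (ContinuousLinearMap.fst ℂ (Fin d → ℂ) ℂ).prod DF
  have hΨ : HasStrictFDerivAt Ψ Ψ' p₀ := hasStrictFDerivAt_fst.prodMk hF
  have hinj : Function.Injective (Ψ' : (Fin d → ℂ) × ℂ →ₗ[ℂ] (Fin d → ℂ) × ℂ) := by
    rw [← LinearMap.ker_eq_bot, LinearMap.ker_eq_bot']
    rintro ⟨v, w⟩ hvw
    have hv : v = 0 := congrArg Prod.fst hvw
    have hw : DF (v, w) = 0 := congrArg Prod.snd hvw
    subst hv
    have : ((0 : Fin d → ℂ), w) = w • ((0 : Fin d → ℂ), (1 : ℂ)) := by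
      ext <;> simp
    rw [this, map_smul, hb, smul_eq_mul, mul_eq_zero] at hw
    rcases hw with hw | hw
    · rw [hw]
      rfl
    · exact absurd hw h1
  let e₀ : ((Fin d → ℂ) × ℂ) ≃L[ℂ] ((Fin d → ℂ) × ℂ) :=
    (LinearEquiv.ofInjectiveEndo (Ψ' : (Fin d → ℂ) × ℂ →ₗ[ℂ] (Fin d → ℂ) × ℂ)
      hinj).toContinuousLinearEquiv
  have he₀ : (e₀ : (Fin d → ℂ) × ℂ →L[ℂ] (Fin d → ℂ) × ℂ) = Ψ' := by
    ext x <;> rfl
  have hΨ' : HasStrictFDerivAt Ψ (e₀ : (Fin d → ℂ) × ℂ →L[ℂ] (Fin d → ℂ) × ℂ) p₀ := by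
    rw [he₀]
    exact hΨ
  let e := hΨ'.toOpenPartialHomeomorph Ψ
  have hecoe : ∀ p, e p = Ψ p := fun p => rfl
  have hp₀S : p₀ ∈ e.source := hΨ'.mem_toOpenPartialHomeomorph_source
  have hΨp₀ : Ψ p₀ = (c₀, 0) := Prod.ext rfl h0
  have hinv : HasStrictFDerivAt e.symm (e₀.symm : (Fin d → ℂ) × ℂ →L[ℂ] (Fin d → ℂ) × ℂ) (c₀, 0) := by
    have := hΨ'.to_localInverse
    rw [hΨp₀] at this
    exact this
  refine ⟨e.source, {c | (c, (0 : ℂ)) ∈ e.target}, fun c => (e.symm (c, 0)).2, e.open_source, hp₀S,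
    e.open_target.preimage (continuous_id.prodMk continuous_const), ?_, ?_, ?_, ?_, ?_⟩
  · have : e p₀ ∈ e.target := e.map_source hp₀S
    rw [hecoe] at this
    change (c₀, F d (c₀, t₀)) ∈ e.target at this
    rw [h0] at this
    exact this
  · refine continuous_snd.comp_continuousOn (e.continuousOn_symm.comp ?_ ?_)
    · exact (continuous_id.prodMk continuous_const).continuousOn
    · intro c hc
      exact hc
  · have h2 : DifferentiableAt ℂ (fun c : Fin d → ℂ => ((c, (0 : ℂ)) : (Fin d → ℂ) × ℂ)) c₀ :=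
      differentiableAt_id.prodMk (differentiableAt_const 0)
    have h3 : DifferentiableAt ℂ (fun c : Fin d → ℂ => e.symm (c, 0)) c₀ :=
      DifferentiableAt.comp (g := e.symm) c₀ hinv.hasFDerivAt.differentiableAt h2
    exact h3.snd
  · intro c hc
    have hq : e.symm (c, 0) ∈ e.source := e.map_target hc
    have hq2 : e (e.symm (c, 0)) = (c, 0) := e.right_inv hc
    rw [hecoe] at hq2
    have h1 : (e.symm (c, 0)).1 = c := congrArg Prod.fst hq2
    have h2 : F d (e.symm (c, 0)) = 0 := congrArg Prod.snd hq2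
    have h3 : (c, (e.symm (c, 0)).2) = e.symm (c, 0) := Prod.ext h1.symm rfl
    rw [h3]
    exact ⟨hq, h2⟩
  · intro c t hS hF0
    have h1 : e (c, t) = (c, 0) := by
      rw [hecoe]
      exact Prod.ext rfl hF0
    have h2 : (c, (0 : ℂ)) ∈ e.target := h1 ▸ e.map_source hS
    refine ⟨h2, ?_⟩
    have h3 : e.symm (c, 0) = (c, t) := by
      rw [← h1]
      exact e.left_inv hS
    change t = (e.symm (c, 0)).2
    rw [h3]

/-- coefficients of `∏ (X - C (h t s))` are differentiable. -/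
theorem differentiableAt_coeff_prod {ι : Type*} (A : Finset ι) (h : ι → ℂ → ℂ) (s₀ : ℂ)
    (hh : ∀ t ∈ A, DifferentiableAt ℂ (h t) s₀) :
    ∀ k : ℕ, DifferentiableAt ℂ (fun s => (∏ t ∈ A, (X - C (h t s))).coeff k) s₀ := by
  classical
  induction A using Finset.induction_on with
  | empty =>
    intro k
    simp
  | insert a A ha ih =>
    intro k
    have ihA := ih (fun t ht => hh t (Finset.mem_insert_of_mem ht))
    have ha' := hh a (Finset.mem_insert_self a A)
    simp_rw [Finset.prod_insert ha, sub_mul, Polynomial.coeff_sub, Polynomial.coeff_C_mul]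
    cases k with
    | zero =>
      simp_rw [Polynomial.coeff_X_mul_zero]
      exact (differentiableAt_const _).sub (ha'.mul (ihA 0))
    | succ k =>
      simp_rw [Polynomial.coeff_X_mul]
      exact (ihA k).sub (ha'.mul (ihA (k + 1)))

theorem monic_poly (c : Fin d → ℂ) : (poly d c).Monic :=
  Polynomial.monic_X_pow_add (Polynomial.degree_sum_fin_lt c)

theorem natDegree_poly (c : Fin d → ℂ) : (poly d c).natDegree = d := by
  have h1 : (∑ i : Fin d, C (c i) * X ^ (i : ℕ) : ℂ[X]).degree < (X ^ d : ℂ[X]).degree := by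
    rw [Polynomial.degree_X_pow]
    exact Polynomial.degree_sum_fin_lt c
  unfold poly
  rw [Polynomial.natDegree_add_eq_left_of_degree_lt h1, Polynomial.natDegree_X_pow]

theorem isRoot_poly_iff (c : Fin d → ℂ) (t : ℂ) : (poly d c).IsRoot t ↔ F d (c, t) = 0 := by
  rw [Polynomial.IsRoot.def, eval_poly]

theorem mem_roots_poly_iff (c : Fin d → ℂ) (t : ℂ) : t ∈ (poly d c).roots ↔ F d (c, t) = 0 := by
  rw [Polynomial.mem_roots (monic_poly c).ne_zero, isRoot_poly_iff]

/-- a polynomial with only simple roots has `d` distinct roots. -/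
theorem card_roots_toFinset_of_simple (c : Fin d → ℂ)
    (hsimple : ∀ t, F d (c, t) = 0 → (poly d c).derivative.eval t ≠ 0) :
    (poly d c).roots.toFinset.card = d := by
  classical
  have hnd : (poly d c).roots.Nodup := by
    rw [Multiset.nodup_iff_count_le_one]
    intro t
    rw [Polynomial.count_roots]
    by_contra hlt
    push_neg at hlt
    have := (Polynomial.one_lt_rootMultiplicity_iff_isRoot (monic_poly c).ne_zero).mp hlt
    exact hsimple t ((isRoot_poly_iff c t).mp this.1) this.2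
  rw [Multiset.toFinset_card_of_nodup hnd,
    ← (IsAlgClosed.splits (poly d c)).natDegree_eq_card_roots, natDegree_poly]

/-- the selected roots of `poly d c`: those lying in `R₁`. -/
def selRoots (c : Fin d → ℂ) (R₁ : Set ℂ) : Set ℂ := {t | F d (c, t) = 0 ∧ t ∈ R₁}

theorem mem_selRoots (c : Fin d → ℂ) (R₁ : Set ℂ) (t : ℂ) :
    t ∈ selRoots c R₁ ↔ F d (c, t) = 0 ∧ t ∈ R₁ := Iff.rfl

theorem finite_selRoots (c : Fin d → ℂ) (R₁ : Set ℂ) : (selRoots c R₁).Finite := by
  refine ((poly d c).roots.toFinset.finite_toSet).subset ?_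
  intro t ht
  rw [Finset.mem_coe, Multiset.mem_toFinset, mem_roots_poly_iff]
  exact ht.1

/-- the product of `X - t` over the selected roots. -/
noncomputable def partialProd (c : Fin d → ℂ) (R₁ : Set ℂ) : ℂ[X] :=
  ∏ᶠ t ∈ selRoots c R₁, (X - C t : ℂ[X])

/-- **Holomorphy of partial root products.** `c` is a curve of monic polynomials, differentiable
at `s₀`, with simple roots at `s₀`; `R₁ s` is a selection of roots which is "clopen" in the sense
that membership of a root is detected by two open sets `O₁`, `O₂`.  Then the coefficients of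
`∏_{t ∈ R₁ s} (X - t)` are differentiable at `s₀`. -/
theorem differentiableAt_coeff_partialProd (c : ℂ → Fin d → ℂ) (s₀ : ℂ)
    (hc : DifferentiableAt ℂ c s₀)
    (hsimple : ∀ t, F d (c s₀, t) = 0 → (poly d (c s₀)).derivative.eval t ≠ 0)
    (R₁ : ℂ → Set ℂ) (O₁ O₂ : Set (ℂ × ℂ)) (hO₁ : IsOpen O₁) (hO₂ : IsOpen O₂)
    (h₁ : ∀ s t, F d (c s, t) = 0 → (s, t) ∈ O₁ → t ∈ R₁ s)
    (h₂ : ∀ s t, F d (c s, t) = 0 → (s, t) ∈ O₂ → t ∉ R₁ s)
    (h₀ : ∀ t, F d (c s₀, t) = 0 → (s₀, t) ∈ O₁ ∨ (s₀, t) ∈ O₂) (k : ℕ) :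
    DifferentiableAt ℂ (fun s => (partialProd (c s) (R₁ s)).coeff k) s₀ := by
  classical
  -- local root functions
  have key : ∀ t : ℂ, ∃ (S : Set ((Fin d → ℂ) × ℂ)) (N : Set (Fin d → ℂ)) (ρ : (Fin d → ℂ) → ℂ),
      F d (c s₀, t) = 0 → (IsOpen S ∧ (c s₀, t) ∈ S ∧ IsOpen N ∧ c s₀ ∈ N ∧ ContinuousOn ρ N ∧
      DifferentiableAt ℂ ρ (c s₀) ∧
      (∀ c' ∈ N, (c', ρ c') ∈ S ∧ F d (c', ρ c') = 0) ∧
      (∀ c' t', (c', t') ∈ S → F d (c', t') = 0 → c' ∈ N ∧ t' = ρ c')) := by
    intro t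
    by_cases ht : F d (c s₀, t) = 0
    · obtain ⟨S, N, ρ, h⟩ := exists_local_root_diff (c s₀) t ht (hsimple t ht)
      exact ⟨S, N, ρ, fun _ => h⟩
    · exact ⟨∅, ∅, fun _ => 0, fun h => absurd h ht⟩
  choose S N ρ hρ using key
  set R : Finset ℂ := (poly d (c s₀)).roots.toFinset with hR
  have hRmem : ∀ t, t ∈ R ↔ F d (c s₀, t) = 0 := by
    intro t
    rw [hR, Multiset.mem_toFinset, mem_roots_poly_iff]
  have hRcard : R.card = d := card_roots_toFinset_of_simple (c s₀) hsimple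
  have hρ₀ : ∀ t ∈ R, ρ t (c s₀) = t := by
    intro t ht
    have h := hρ t ((hRmem t).mp ht)
    exact ((h.2.2.2.2.2.2.2 (c s₀) t h.2.1 ((hRmem t).mp ht)).2).symm
  obtain ⟨U, hU, hUdisj⟩ := (R.finite_toSet).t2_separation
  let Ot : ℂ → Set (ℂ × ℂ) := fun t => if (s₀, t) ∈ O₁ then O₁ else O₂
  have hOt_open : ∀ t, IsOpen (Ot t) := by
    intro t
    simp only [Ot]
    split_ifs
    exacts [hO₁, hO₂]
  have hOt_mem : ∀ t ∈ R, (s₀, t) ∈ Ot t := by
    intro t ht
    simp only [Ot]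
    split_ifs with h
    · exact h
    · exact (h₀ t ((hRmem t).mp ht)).resolve_left h
  have hcont : ∀ t ∈ R, ContinuousAt (fun s => ρ t (c s)) s₀ := by
    intro t ht
    have h := hρ t ((hRmem t).mp ht)
    have h1 : ContinuousAt (ρ t) (c s₀) :=
      h.2.2.2.2.1.continuousAt (h.2.2.1.mem_nhds h.2.2.2.1)
    exact ContinuousAt.comp (g := ρ t) h1 hc.continuousAt
  have hev : ∀ᶠ s in 𝓝 s₀, ∀ t ∈ R,
      c s ∈ N t ∧ ρ t (c s) ∈ U t ∧ (s, ρ t (c s)) ∈ Ot t := by
    rw [Filter.eventually_all_finset]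
    intro t ht
    have h := hρ t ((hRmem t).mp ht)
    have e1 : ∀ᶠ s in 𝓝 s₀, c s ∈ N t := hc.continuousAt (h.2.2.1.mem_nhds h.2.2.2.1)
    have e2 : ∀ᶠ s in 𝓝 s₀, ρ t (c s) ∈ U t :=
      (hcont t ht) ((hU t).2.mem_nhds (by
        show ρ t (c s₀) ∈ U t
        rw [hρ₀ t ht]
        exact (hU t).1))
    have e3 : ∀ᶠ s in 𝓝 s₀, (s, ρ t (c s)) ∈ Ot t := by
      have h4 : ContinuousAt (fun s => ((s, ρ t (c s)) : ℂ × ℂ)) s₀ :=
        continuousAt_id.prodMk (hcont t ht)
      exact h4 ((hOt_open t).mem_nhds (by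
        show (s₀, ρ t (c s₀)) ∈ Ot t
        rw [hρ₀ t ht]
        exact hOt_mem t ht))
    filter_upwards [e1, e2, e3] with s a b c using ⟨a, b, c⟩
  set A : Finset ℂ := R.filter (fun t => (s₀, t) ∈ O₁) with hA
  have hprod : ∀ᶠ s in 𝓝 s₀,
      partialProd (c s) (R₁ s) = ∏ t ∈ A, (X - C (ρ t (c s))) := by
    filter_upwards [hev] with s hs
    have hinj : Set.InjOn (fun t => ρ t (c s)) (R : Set ℂ) := by
      intro t ht t' ht' heq
      by_contra hne
      have hd := hUdisj ht ht' hne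
      have h5 : ρ t (c s) ∈ U t' := by
        have h6 : ρ t (c s) = ρ t' (c s) := heq
        rw [h6]
        exact (hs t' ht').2.1
      exact Set.disjoint_left.mp hd (hs t ht).2.1 h5
    have hroot : ∀ t ∈ R, F d (c s, ρ t (c s)) = 0 := fun t ht =>
      ((hρ t ((hRmem t).mp ht)).2.2.2.2.2.2.1 (c s) (hs t ht).1).2
    have himage : R.image (fun t => ρ t (c s)) = (poly d (c s)).roots.toFinset := by
      apply Finset.eq_of_subset_of_card_le
      · intro t' ht'
        obtain ⟨t, ht, rfl⟩ := Finset.mem_image.mp ht'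
        rw [Multiset.mem_toFinset, mem_roots_poly_iff]
        exact hroot t ht
      · rw [Finset.card_image_of_injOn hinj, hRcard]
        calc (poly d (c s)).roots.toFinset.card ≤ Multiset.card (poly d (c s)).roots :=
              Multiset.toFinset_card_le _
          _ ≤ (poly d (c s)).natDegree := Polynomial.card_roots' _
          _ = d := natDegree_poly _
    have hset : selRoots (c s) (R₁ s) = ↑(A.image (fun t => ρ t (c s))) := by
      ext t'
      simp only [mem_selRoots, Finset.coe_image, Set.mem_image, Finset.mem_coe]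
      constructor
      · rintro ⟨hF, hR₁⟩
        have h7 : t' ∈ R.image (fun t => ρ t (c s)) := by
          rw [himage, Multiset.mem_toFinset, mem_roots_poly_iff]
          exact hF
        obtain ⟨t, ht, rfl⟩ := Finset.mem_image.mp h7
        refine ⟨t, ?_, rfl⟩
        rw [hA, Finset.mem_filter]
        refine ⟨ht, ?_⟩
        by_contra hno
        have h3 := (hs t ht).2.2
        simp only [Ot, if_neg hno] at h3
        exact h₂ s _ hF h3 hR₁
      · rintro ⟨t, ht, rfl⟩
        rw [hA, Finset.mem_filter] at ht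
        have h3 := (hs t ht.1).2.2
        simp only [Ot, if_pos ht.2] at h3
        exact ⟨hroot t ht.1, h₁ s _ (hroot t ht.1) h3⟩
    unfold partialProd
    rw [hset, finprod_mem_coe_finset, Finset.prod_image]
    intro t ht t' ht' heq
    exact hinj (Finset.mem_coe.mpr (Finset.mem_of_mem_filter _ ht))
      (Finset.mem_coe.mpr (Finset.mem_of_mem_filter _ ht')) heq
  have hdiff : DifferentiableAt ℂ (fun s => (∏ t ∈ A, (X - C (ρ t (c s)))).coeff k) s₀ := by
    apply differentiableAt_coeff_prod A (fun t s => ρ t (c s)) s₀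
    intro t ht
    have htR : t ∈ R := Finset.mem_of_mem_filter _ ht
    have h := hρ t ((hRmem t).mp htR)
    exact DifferentiableAt.comp (g := ρ t) s₀ h.2.2.2.2.2.1 hc
  refine hdiff.congr_of_eventuallyEq ?_
  filter_upwards [hprod] with s hs
  rw [hs]

end Groth.Agent.Lib.H26ConnRoots
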