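import Mathlib
import Groth.Agent.Lib.H26AnDense
import Groth.Agent.Lib.H26ConnLiouville
import Groth.Agent.Lib.H26ConnLines
import Groth.Agent.Lib.H26ConnRoots

/-!
# Connectedness of the generic part of an irreducible hypersurface cover (helper26)

`isPreconnected_rootSet`: let `P ∈ ℂ[v₁..v_d][T]` be monic and irreducible, `Δ ≠ 0` a polynomial
such that `P(v, T)` is separable whenever `Δ(v) ≠ 0`.  Then
`{(v, t) | Δ(v) ≠ 0 ∧ P(v, t) = 0}` is preconnected.
-/

set_option autoImplicit false

open Polynomial Topology Filter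

namespace Groth.Agent.Lib.H26ConnCore

open Groth.Agent.Lib.H26Roots Groth.Agent.Lib.H26ConnRoots Groth.Agent.Lib.H26ConnLines

section PartialProd

variable {d : ℕ}

theorem partialProd_eq_prod (c : Fin d → ℂ) (R₁ : Set ℂ) :
    partialProd c R₁ = ∏ t ∈ (finite_selRoots c R₁).toFinset, (X - C t : ℂ[X]) := by
  unfold partialProd
  rw [finprod_mem_eq_finite_toFinset_prod _ (finite_selRoots c R₁)]

theorem monic_partialProd (c : Fin d → ℂ) (R₁ : Set ℂ) : (partialProd c R₁).Monic := by
  rw [partialProd_eq_prod]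
  exact Polynomial.monic_prod_of_monic _ _ (fun t _ => Polynomial.monic_X_sub_C t)

theorem natDegree_partialProd_le (c : Fin d → ℂ) (R₁ : Set ℂ) :
    (partialProd c R₁).natDegree ≤ d := by
  classical
  rw [partialProd_eq_prod, Polynomial.natDegree_finset_prod_X_sub_C_eq_card]
  calc (finite_selRoots c R₁).toFinset.card ≤ (poly d c).roots.toFinset.card := by
        apply Finset.card_le_card
        intro t ht
        rw [Set.Finite.mem_toFinset] at ht
        rw [Multiset.mem_toFinset, mem_roots_poly_iff]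
        exact ht.1
    _ ≤ Multiset.card (poly d c).roots := Multiset.toFinset_card_le _
    _ ≤ (poly d c).natDegree := Polynomial.card_roots' _
    _ = d := natDegree_poly c

theorem eval_partialProd_eq_zero (c : Fin d → ℂ) (R₁ : Set ℂ) (t : ℂ) (ht : t ∈ selRoots c R₁) :
    (partialProd c R₁).eval t = 0 := by
  rw [partialProd_eq_prod, Polynomial.eval_prod]
  apply Finset.prod_eq_zero ((Set.Finite.mem_toFinset _).mpr ht)
  simp

/-- crude coefficient bound for the partial product in terms of the coefficients of `poly d c`. -/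
theorem norm_coeff_partialProd_le (c : Fin d → ℂ) (R₁ : Set ℂ) (k : ℕ) :
    ‖(partialProd c R₁).coeff k‖ ≤
      (2 * (1 + ∑ i ∈ Finset.range d, ‖(poly d c).coeff i‖)) ^ d := by
  classical
  set B : ℝ := 1 + ∑ i ∈ Finset.range d, ‖(poly d c).coeff i‖ with hB
  have hB1 : 1 ≤ B := by
    rw [hB]
    have : 0 ≤ ∑ i ∈ Finset.range d, ‖(poly d c).coeff i‖ :=
      Finset.sum_nonneg (fun _ _ => norm_nonneg _)
    linarith
  set p := partialProd c R₁ with hp
  have hmonic : p.Monic := monic_partialProd c R₁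
  have hdeg : p.natDegree ≤ d := natDegree_partialProd_le c R₁
  have hroots : ∀ z ∈ (p.map (RingHom.id ℂ)).roots, ‖z‖ ≤ B := by
    intro z hz
    rw [Polynomial.map_id, hp, partialProd_eq_prod, Polynomial.roots_prod_X_sub_C] at hz
    have hz' : z ∈ selRoots c R₁ := (Set.Finite.mem_toFinset _).mp hz
    have h1 := Groth.Agent.Lib.H26AnDense.norm_le_of_isRoot_monic (poly d c) (monic_poly c) z
      ((isRoot_poly_iff c z).mpr hz'.1)
    rw [natDegree_poly] at h1
    exact h1
  have h2 := Polynomial.coeff_le_of_roots_le (f := RingHom.id ℂ) k hmonic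
    (IsAlgClosed.splits _) hroots
  rw [Polynomial.map_id] at h2
  refine h2.trans ?_
  rw [mul_pow]
  have h3 : B ^ (p.natDegree - k) ≤ B ^ d :=
    pow_le_pow_right₀ hB1 ((Nat.sub_le _ _).trans hdeg)
  have h4 : (p.natDegree.choose k : ℝ) ≤ 2 ^ d := by
    have h5 : p.natDegree.choose k ≤ 2 ^ p.natDegree := Nat.choose_le_two_pow _ _
    have h6 : (2 : ℕ) ^ p.natDegree ≤ 2 ^ d := Nat.pow_le_pow_right (by norm_num) hdeg
    exact_mod_cast h5.trans h6
  calc B ^ (p.natDegree - k) * (p.natDegree.choose k : ℝ) ≤ B ^ d * 2 ^ d := by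
        apply mul_le_mul h3 h4 (by positivity) (by positivity)
    _ = 2 ^ d * B ^ d := mul_comm _ _

theorem nodup_roots_of_simple (c : Fin d → ℂ)
    (hsimple : ∀ t, F d (c, t) = 0 → (poly d c).derivative.eval t ≠ 0) :
    (poly d c).roots.Nodup := by
  classical
  rw [Multiset.nodup_iff_count_le_one]
  intro t
  rw [Polynomial.count_roots]
  by_contra hlt
  push_neg at hlt
  have := (Polynomial.one_lt_rootMultiplicity_iff_isRoot (monic_poly c).ne_zero).mp hlt
  exact hsimple t ((isRoot_poly_iff c t).mp this.1) this.2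

theorem partialProd_mul_partialProd (c : Fin d → ℂ) (R₁ R₂ : Set ℂ)
    (hsimple : ∀ t, F d (c, t) = 0 → (poly d c).derivative.eval t ≠ 0)
    (hcov : ∀ t, F d (c, t) = 0 → t ∈ R₁ ∨ t ∈ R₂)
    (hdisj : ∀ t, F d (c, t) = 0 → t ∈ R₁ → t ∈ R₂ → False) :
    partialProd c R₁ * partialProd c R₂ = poly d c := by
  classical
  have hnd := nodup_roots_of_simple c hsimple
  have hcard : Multiset.card (poly d c).roots = (poly d c).natDegree :=
    ((IsAlgClosed.splits (poly d c)).natDegree_eq_card_roots).symm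
  have h1 := Polynomial.prod_multiset_X_sub_C_of_monic_of_roots_card_eq (monic_poly c) hcard
  have h2 : (poly d c).roots.toFinset.val = (poly d c).roots := by
    rw [Multiset.toFinset_val, Multiset.dedup_eq_self.mpr hnd]
  have h3 : ∏ t ∈ (poly d c).roots.toFinset, (X - C t : ℂ[X]) = poly d c := by
    rw [Finset.prod_eq_multiset_prod, h2]
    exact h1
  rw [partialProd_eq_prod, partialProd_eq_prod, ← Finset.prod_union, ← h3]
  · congr 1
    ext t
    rw [Finset.mem_union, Set.Finite.mem_toFinset, Set.Finite.mem_toFinset, Multiset.mem_toFinset,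
      mem_roots_poly_iff, mem_selRoots, mem_selRoots]
    constructor
    · rintro (h | h)
      · exact h.1
      · exact h.1
    · intro h
      rcases hcov t h with h' | h'
      · exact Or.inl ⟨h, h'⟩
      · exact Or.inr ⟨h, h'⟩
  · rw [Finset.disjoint_left]
    intro t ht ht'
    rw [Set.Finite.mem_toFinset] at ht ht'
    exact hdisj t ht.1 ht.2 ht'.2

end PartialProd

section Spec

variable {d : ℕ} (P : (MvPolynomial (Fin d) ℂ)[X])

/-- coefficient vector of the specialisation `P(v, T)`. -/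
noncomputable def cf (v : Fin d → ℂ) : Fin P.natDegree → ℂ :=
  fun i => MvPolynomial.eval v (P.coeff i)

theorem poly_cf (hP : P.Monic) (v : Fin d → ℂ) :
    poly P.natDegree (cf P v) = P.map (MvPolynomial.eval v) := by
  have hm : (P.map (MvPolynomial.eval v)).Monic := hP.map _
  have hn : (P.map (MvPolynomial.eval v)).natDegree = P.natDegree := hP.natDegree_map _
  conv_rhs => rw [hm.as_sum, hn]
  unfold poly cf
  congr 1
  rw [← Fin.sum_univ_eq_sum_range (fun i => C ((P.map (MvPolynomial.eval v)).coeff i) * X ^ i)]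
  apply Finset.sum_congr rfl
  intro i _
  rw [Polynomial.coeff_map]

theorem F_cf_eq_zero_iff (hP : P.Monic) (v : Fin d → ℂ) (t : ℂ) :
    F P.natDegree (cf P v, t) = 0 ↔ (P.map (MvPolynomial.eval v)).eval t = 0 := by
  rw [← eval_poly, poly_cf P hP]

theorem differentiable_cf_line (a b : Fin d → ℂ) :
    Differentiable ℂ (fun s : ℂ => cf P (a + s • b)) := by
  rw [differentiable_pi]
  intro i
  have h1 : (fun s : ℂ => cf P (a + s • b) i) =
      fun s => (lineRestrict a b (P.coeff i)).eval s := by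
    funext s
    rw [eval_lineRestrict]
    rfl
  rw [h1]
  exact Polynomial.differentiable _

theorem norm_eval_le (r : ℂ[X]) (D : ℕ) (hD : r.natDegree ≤ D) (s : ℂ) :
    ‖r.eval s‖ ≤ (∑ i ∈ Finset.range (D + 1), ‖r.coeff i‖) * (1 + ‖s‖) ^ D := by
  rw [Polynomial.eval_eq_sum_range' (Nat.lt_succ_of_le hD), Finset.sum_mul]
  refine (norm_sum_le _ _).trans (Finset.sum_le_sum fun i hi => ?_)
  rw [norm_mul, norm_pow]
  have hi' : i ≤ D := Nat.lt_succ_iff.mp (Finset.mem_range.mp hi)
  have h0 : (0 : ℝ) ≤ ‖s‖ := norm_nonneg s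
  have h1 : ‖s‖ ^ i ≤ (1 + ‖s‖) ^ D :=
    (pow_le_pow_left₀ h0 (by linarith) i).trans (pow_le_pow_right₀ (by linarith) hi')
  exact mul_le_mul_of_nonneg_left h1 (norm_nonneg _)

/-- the maximal total degree of the coefficients. -/
noncomputable def Dtot : ℕ := (Finset.range P.natDegree).sup (fun i => (P.coeff i).totalDegree)

theorem exists_bound_line (hP : P.Monic) (a b : Fin d → ℂ) :
    ∃ K : ℝ, ∀ (s : ℂ) (R₁ : Set ℂ) (k : ℕ),
      ‖(partialProd (cf P (a + s • b)) R₁).coeff k‖ ≤
        K * (1 + ‖s‖) ^ (Dtot P * P.natDegree) := by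
  set n := P.natDegree with hn
  set D := Dtot P with hD
  let r : ℕ → ℂ[X] := fun i => lineRestrict a b (P.coeff i)
  have hrdeg : ∀ i ∈ Finset.range n, (r i).natDegree ≤ D := by
    intro i hi
    have h1 : (P.coeff i).totalDegree ≤ D := by
      rw [hD]
      unfold Dtot
      exact Finset.le_sup (f := fun i => (P.coeff i).totalDegree) hi
    have h2 := MvPolynomial.aeval_natDegree_le (m := D) (n := 1) (P.coeff i) h1
      (fun i => Polynomial.C (a i) + Polynomial.X * Polynomial.C (b i)) (by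
        intro j
        refine (Polynomial.natDegree_add_le _ _).trans ?_
        rw [Polynomial.natDegree_C]
        refine max_le (Nat.zero_le _) ?_
        refine (Polynomial.natDegree_mul_C_le _ _).trans ?_
        exact Polynomial.natDegree_X_le)
    rw [mul_one] at h2
    exact h2
  set Ksum : ℝ := ∑ i ∈ Finset.range n, ∑ j ∈ Finset.range (D + 1), ‖(r i).coeff j‖ with hKsum
  have hKsum0 : 0 ≤ Ksum :=
    Finset.sum_nonneg (fun _ _ => Finset.sum_nonneg (fun _ _ => norm_nonneg _))
  refine ⟨(2 * (1 + Ksum)) ^ n, fun s R₁ k => ?_⟩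
  refine (norm_coeff_partialProd_le _ R₁ k).trans ?_
  have h1s : 1 ≤ (1 + ‖s‖) ^ D := one_le_pow₀ (by linarith [norm_nonneg s])
  have hB : (1 + ∑ i ∈ Finset.range n, ‖(poly n (cf P (a + s • b))).coeff i‖) ≤
      (1 + Ksum) * (1 + ‖s‖) ^ D := by
    have h3 : ∑ i ∈ Finset.range n, ‖(poly n (cf P (a + s • b))).coeff i‖ ≤
        Ksum * (1 + ‖s‖) ^ D := by
      rw [hKsum, Finset.sum_mul]
      apply Finset.sum_le_sum
      intro i hi
      rw [poly_cf P hP, Polynomial.coeff_map, ← eval_lineRestrict]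
      exact norm_eval_le (r i) D (hrdeg i hi) s
    calc (1 + ∑ i ∈ Finset.range n, ‖(poly n (cf P (a + s • b))).coeff i‖)
        ≤ 1 + Ksum * (1 + ‖s‖) ^ D := by linarith
      _ ≤ (1 + ‖s‖) ^ D + Ksum * (1 + ‖s‖) ^ D := by linarith
      _ = (1 + Ksum) * (1 + ‖s‖) ^ D := by ring
  calc (2 * (1 + ∑ i ∈ Finset.range n, ‖(poly n (cf P (a + s • b))).coeff i‖)) ^ n
      ≤ (2 * ((1 + Ksum) * (1 + ‖s‖) ^ D)) ^ n := by
        apply pow_le_pow_left₀
        · have : 0 ≤ ∑ i ∈ Finset.range n, ‖(poly n (cf P (a + s • b))).coeff i‖ :=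
            Finset.sum_nonneg (fun _ _ => norm_nonneg _)
          linarith
        · linarith
    _ = (2 * (1 + Ksum)) ^ n * (1 + ‖s‖) ^ (D * n) := by
        rw [← mul_assoc, mul_pow, ← pow_mul]

/-- the partial product of roots selected by an open set `u` is given by a polynomial over
`ℂ[v]`, if `u` cuts out a clopen part of the root space. -/
theorem exists_polynomial_partialProd (hP : P.Monic) (Δ : MvPolynomial (Fin d) ℂ) (hΔ : Δ ≠ 0)
    (hsep : ∀ v, MvPolynomial.eval v Δ ≠ 0 → (P.map (MvPolynomial.eval v)).Separable)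
    (u u' : Set ((Fin d → ℂ) × ℂ)) (hu : IsOpen u) (hu' : IsOpen u')
    (hcov : ∀ v t, MvPolynomial.eval v Δ ≠ 0 → (P.map (MvPolynomial.eval v)).eval t = 0 →
      (v, t) ∈ u ∨ (v, t) ∈ u')
    (hdisj : ∀ v t, MvPolynomial.eval v Δ ≠ 0 → (P.map (MvPolynomial.eval v)).eval t = 0 →
      (v, t) ∈ u → (v, t) ∈ u' → False) :
    ∃ Q : (MvPolynomial (Fin d) ℂ)[X], ∀ v, MvPolynomial.eval v Δ ≠ 0 →
      Q.map (MvPolynomial.eval v) = partialProd (cf P v) {t | (v, t) ∈ u} := by
  set n := P.natDegree with hn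
  -- the coefficient functions
  have hk : ∀ k : ℕ, ∃ Qk : MvPolynomial (Fin d) ℂ, ∀ v, MvPolynomial.eval v Δ ≠ 0 →
      (partialProd (cf P v) {t | (v, t) ∈ u}).coeff k = MvPolynomial.eval v Qk := by
    intro k
    apply exists_mvPolynomial_of_lines (Dtot P * n) d Δ hΔ
      (fun v => (partialProd (cf P v) {t | (v, t) ∈ u}).coeff k)
    intro a b
    by_cases hr : lineRestrict a b Δ = 0
    · refine ⟨0, by simp, fun s hs => ?_⟩
      exfalso
      apply hs
      rw [← eval_lineRestrict, hr, Polynomial.eval_zero]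
    · obtain ⟨K, hK⟩ := exists_bound_line P hP a b
      have hSfin : {s : ℂ | (lineRestrict a b Δ).IsRoot s}.Finite :=
        Polynomial.finite_setOf_isRoot hr
      have hnotS : ∀ s, s ∉ {s : ℂ | (lineRestrict a b Δ).IsRoot s} ↔
          MvPolynomial.eval (a + s • b) Δ ≠ 0 := by
        intro s
        rw [Set.mem_setOf_eq, Polynomial.IsRoot.def, eval_lineRestrict]
      obtain ⟨q, hq, hqe⟩ := Groth.Agent.Lib.H26ConnLiouville.exists_polynomial_of_growth
        (fun s => (partialProd (cf P (a + s • b)) {t | (a + s • b, t) ∈ u}).coeff k)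
        _ hSfin (Dtot P * n) K (by
          intro s₀ hs₀
          rw [hnotS] at hs₀
          have hcont : Continuous (fun p : ℂ × ℂ => ((a + p.1 • b, p.2) : (Fin d → ℂ) × ℂ)) := by
            fun_prop
          have hcontΔ : Continuous (fun p : ℂ × ℂ => MvPolynomial.eval (a + p.1 • b) Δ) := by
            have h1 : Continuous (fun p : ℂ × ℂ => (a + p.1 • b : Fin d → ℂ)) := by fun_prop
            exact (MvPolynomial.continuous_eval Δ).comp h1
          have hopenΔ : IsOpen {p : ℂ × ℂ | MvPolynomial.eval (a + p.1 • b) Δ ≠ 0} :=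
            isOpen_ne_fun hcontΔ continuous_const
          apply differentiableAt_coeff_partialProd (fun s => cf P (a + s • b)) s₀
            ((differentiable_cf_line P a b) s₀) ?_
            (fun s => {t | (a + s • b, t) ∈ u})
            ({p : ℂ × ℂ | (a + p.1 • b, p.2) ∈ u} ∩
              {p : ℂ × ℂ | MvPolynomial.eval (a + p.1 • b) Δ ≠ 0})
            ({p : ℂ × ℂ | (a + p.1 • b, p.2) ∈ u'} ∩
              {p : ℂ × ℂ | MvPolynomial.eval (a + p.1 • b) Δ ≠ 0})
            ((hu.preimage hcont).inter hopenΔ) ((hu'.preimage hcont).inter hopenΔ)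
          · intro s t _ hO
            exact hO.1
          · intro s t hF hO hR
            rw [F_cf_eq_zero_iff P hP] at hF
            exact hdisj _ t hO.2 hF hR hO.1
          · intro t hF
            rw [F_cf_eq_zero_iff P hP] at hF
            rcases hcov _ t hs₀ hF with h | h
            · exact Or.inl ⟨h, hs₀⟩
            · exact Or.inr ⟨h, hs₀⟩
          · intro t hF
            rw [F_cf_eq_zero_iff P hP] at hF
            rw [poly_cf P hP]
            have h1 := (hsep _ hs₀).aeval_derivative_ne_zero (x := t) (by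
              rw [Polynomial.coe_aeval_eq_eval]
              exact hF)
            rwa [Polynomial.coe_aeval_eq_eval] at h1)
        (fun s _ => hK s _ k)
      refine ⟨q, hq, fun s hs => ?_⟩
      exact hqe s ((hnotS s).mpr hs)
  choose Qk hQk using hk
  refine ⟨∑ k ∈ Finset.range (n + 1), Polynomial.C (Qk k) * Polynomial.X ^ k, fun v hv => ?_⟩
  rw [Polynomial.map_sum]
  have hdeg : (partialProd (cf P v) {t | (v, t) ∈ u}).natDegree < n + 1 :=
    Nat.lt_succ_of_le (natDegree_partialProd_le _ _)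
  conv_rhs => rw [Polynomial.as_sum_range_C_mul_X_pow' _ hdeg]
  apply Finset.sum_congr rfl
  intro k _
  rw [Polynomial.map_mul, Polynomial.map_C, Polynomial.map_pow, Polynomial.map_X, hQk k v hv]

theorem eq_of_map_eval_eq (Δ : MvPolynomial (Fin d) ℂ) (hΔ : Δ ≠ 0)
    (Q Q' : (MvPolynomial (Fin d) ℂ)[X])
    (h : ∀ v, MvPolynomial.eval v Δ ≠ 0 →
      Q.map (MvPolynomial.eval v) = Q'.map (MvPolynomial.eval v)) : Q = Q' := by
  ext1 k
  have h1 : (Q.coeff k - Q'.coeff k) * Δ = 0 := by
    apply MvPolynomial.funext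
    intro v
    rw [map_mul, map_sub, map_zero]
    by_cases hv : MvPolynomial.eval v Δ = 0
    · rw [hv, mul_zero]
    · have h2 := congrArg (fun p => Polynomial.coeff p k) (h v hv)
      simp only [Polynomial.coeff_map] at h2
      rw [h2, sub_self, zero_mul]
  rcases mul_eq_zero.mp h1 with h2 | h2
  · exact sub_eq_zero.mp h2
  · exact absurd h2 hΔ

/-- **Connectedness of the generic root space.** -/
theorem isPreconnected_rootSet (hP : P.Monic) (hirr : Irreducible P)
    (Δ : MvPolynomial (Fin d) ℂ) (hΔ : Δ ≠ 0)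
    (hsep : ∀ v, MvPolynomial.eval v Δ ≠ 0 → (P.map (MvPolynomial.eval v)).Separable) :
    IsPreconnected {q : (Fin d → ℂ) × ℂ | MvPolynomial.eval q.1 Δ ≠ 0 ∧
      (P.map (MvPolynomial.eval q.1)).eval q.2 = 0} := by
  rw [isPreconnected_iff_subset_of_disjoint]
  intro u u' hu hu' hsub hdisj
  have hcov : ∀ v t, MvPolynomial.eval v Δ ≠ 0 → (P.map (MvPolynomial.eval v)).eval t = 0 →
      (v, t) ∈ u ∨ (v, t) ∈ u' := fun v t hv ht => hsub (show (v, t) ∈ _ from ⟨hv, ht⟩)
  have hdj : ∀ v t, MvPolynomial.eval v Δ ≠ 0 → (P.map (MvPolynomial.eval v)).eval t = 0 →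
      (v, t) ∈ u → (v, t) ∈ u' → False := by
    intro v t hv ht h1 h2
    have : (v, t) ∈ ({q : (Fin d → ℂ) × ℂ | MvPolynomial.eval q.1 Δ ≠ 0 ∧
      (P.map (MvPolynomial.eval q.1)).eval q.2 = 0} ∩ (u ∩ u')) := ⟨⟨hv, ht⟩, h1, h2⟩
    rw [hdisj] at this
    exact this
  obtain ⟨Q₁, hQ₁⟩ := exists_polynomial_partialProd P hP Δ hΔ hsep u u' hu hu' hcov hdj
  obtain ⟨Q₂, hQ₂⟩ := exists_polynomial_partialProd P hP Δ hΔ hsep u' u hu' hu
    (fun v t hv ht => (hcov v t hv ht).symm) (fun v t hv ht h1 h2 => hdj v t hv ht h2 h1)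
  have hsimple : ∀ v, MvPolynomial.eval v Δ ≠ 0 → ∀ t, F P.natDegree (cf P v, t) = 0 →
      (poly P.natDegree (cf P v)).derivative.eval t ≠ 0 := by
    intro v hv t hF
    rw [F_cf_eq_zero_iff P hP] at hF
    rw [poly_cf P hP]
    have h1 := (hsep _ hv).aeval_derivative_ne_zero (x := t) (by
      rw [Polynomial.coe_aeval_eq_eval]
      exact hF)
    rwa [Polynomial.coe_aeval_eq_eval] at h1
  have hprod : P = Q₁ * Q₂ := by
    apply eq_of_map_eval_eq Δ hΔ
    intro v hv
    rw [Polynomial.map_mul, hQ₁ v hv, hQ₂ v hv, ← poly_cf P hP]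
    symm
    apply partialProd_mul_partialProd _ _ _ (hsimple v hv)
    · intro t hF
      rw [F_cf_eq_zero_iff P hP] at hF
      exact hcov v t hv hF
    · intro t hF h1 h2
      rw [F_cf_eq_zero_iff P hP] at hF
      exact hdj v t hv hF h1 h2
  have hunit : ∀ (Q : (MvPolynomial (Fin d) ℂ)[X]) (w : Set ((Fin d → ℂ) × ℂ)), IsUnit Q →
      (∀ v, MvPolynomial.eval v Δ ≠ 0 →
        Q.map (MvPolynomial.eval v) = partialProd (cf P v) {t | (v, t) ∈ w}) →
      ∀ v t, MvPolynomial.eval v Δ ≠ 0 → (P.map (MvPolynomial.eval v)).eval t = 0 →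
        (v, t) ∉ w := by
    intro Q w hQu hQ v t hv ht hw
    have h1 : IsUnit (Q.map (MvPolynomial.eval v)) :=
      hQu.map (Polynomial.mapRingHom (MvPolynomial.eval v))
    rw [hQ v hv] at h1
    have h2 := (monic_partialProd _ _).eq_one_of_isUnit h1
    have h3 := eval_partialProd_eq_zero (cf P v) {t | (v, t) ∈ w} t
      ⟨(F_cf_eq_zero_iff P hP v t).mpr ht, hw⟩
    rw [h2, Polynomial.eval_one] at h3
    exact one_ne_zero h3
  rcases hirr.isUnit_or_isUnit hprod with h | h
  · right
    rintro ⟨v, t⟩ ⟨hv, ht⟩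
    rcases hcov v t hv ht with h1 | h1
    · exact absurd h1 (hunit Q₁ u h hQ₁ v t hv ht)
    · exact h1
  · left
    rintro ⟨v, t⟩ ⟨hv, ht⟩
    rcases hcov v t hv ht with h1 | h1
    · exact h1
    · exact absurd h1 (hunit Q₂ u' h hQ₂ v t hv ht)

end Spec

end Groth.Agent.Lib.H26ConnCore
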