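import Mathlib
import Groth.Agent.Lib.H26AnDense
import Groth.Agent.Lib.H26ConnCore
import Groth.Agent.Lib.H26ConnAlg

/-!
# Connectedness of the space of `ℂ`-points of a finitely generated `ℂ`-domain (helper26)

`isPreconnected_range_algHom`: for a finitely generated `ℂ`-algebra `A` which is a domain, the set
of `ℂ`-algebra homomorphisms `A → ℂ`, as a subset of `A → ℂ` with the product topology, is
preconnected.
-/

set_option autoImplicit false

open Polynomial Topology Filter

namespace Groth.Agent.Lib.H26ConnRing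

open Groth.Agent.Lib.H26AnDense Groth.Agent.Lib.H26ConnCore Groth.Agent.Lib.H26ConnAlg

section Formula

variable {d : ℕ} {A : Type} [CommRing A] [Algebra ℂ A] [Algebra (MvPolynomial (Fin d) ℂ) A]

/-- evaluating a relation `Δ • a = r(g)` at a `ℂ`-point lying over `v` with `x g = t`. -/
theorem apply_smul_eq (x : A →ₐ[ℂ] ℂ) (v : Fin d → ℂ) (t : ℂ) (g : A)
    (hxv : ∀ p, x (algebraMap (MvPolynomial (Fin d) ℂ) A p) = MvPolynomial.eval v p)
    (hxg : x g = t) (Δ : MvPolynomial (Fin d) ℂ) (a : A) (r : (MvPolynomial (Fin d) ℂ)[X])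
    (hr : Δ • a = Polynomial.aeval g r) :
    MvPolynomial.eval v Δ * x a = (r.map (MvPolynomial.eval v)).eval t := by
  have h1 := congrArg x hr
  rw [Algebra.smul_def, map_mul, hxv] at h1
  rw [h1, Polynomial.eval_map, ← hxg, Polynomial.aeval_def]
  have h2 : (x : A →+* ℂ) (Polynomial.eval₂ (algebraMap (MvPolynomial (Fin d) ℂ) A) g r) =
      Polynomial.eval₂ ((x : A →+* ℂ).comp (algebraMap (MvPolynomial (Fin d) ℂ) A))
        ((x : A →+* ℂ) g) r := Polynomial.hom_eval₂ _ _ _ _
  have h3 : (x : A →+* ℂ).comp (algebraMap (MvPolynomial (Fin d) ℂ) A) =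
      (MvPolynomial.eval v : MvPolynomial (Fin d) ℂ →+* ℂ) := RingHom.ext hxv
  rw [h3] at h2
  exact h2

theorem continuous_eval_map (r : (MvPolynomial (Fin d) ℂ)[X]) :
    Continuous (fun q : (Fin d → ℂ) × ℂ => (r.map (MvPolynomial.eval q.1)).eval q.2) := by
  have h1 : ∀ q : (Fin d → ℂ) × ℂ, (r.map (MvPolynomial.eval q.1)).eval q.2 =
      ∑ i ∈ Finset.range (r.natDegree + 1), MvPolynomial.eval q.1 (r.coeff i) * q.2 ^ i := by
    intro q
    rw [Polynomial.eval_map, Polynomial.eval₂_eq_sum_range]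
  simp_rw [h1]
  apply continuous_finset_sum
  intro i _
  exact ((MvPolynomial.continuous_eval (r.coeff i)).comp continuous_fst).mul
    (continuous_snd.pow i)

end Formula

/-- **Connectedness of the `ℂ`-points of an irreducible affine variety**, ring level. -/
theorem isPreconnected_range_algHom (A : Type) [CommRing A] [IsDomain A] [Algebra ℂ A]
    [Algebra.FiniteType ℂ A] :
    IsPreconnected (Set.range (fun x : A →ₐ[ℂ] ℂ => (x : A → ℂ))) := by
  classical
  obtain ⟨d, ι, hιinj, hιfin⟩ := exists_finite_inj_algHom_of_fg ℂ A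
  letI : Algebra (MvPolynomial (Fin d) ℂ) A := ι.toRingHom.toAlgebra
  haveI : IsScalarTower ℂ (MvPolynomial (Fin d) ℂ) A :=
    IsScalarTower.of_algebraMap_eq (fun c => (ι.commutes c).symm)
  haveI : Module.Finite (MvPolynomial (Fin d) ℂ) A := hιfin
  haveI : Algebra.IsIntegral (MvPolynomial (Fin d) ℂ) A := Algebra.IsIntegral.of_finite _ _
  haveI : Module.IsTorsionFree (MvPolynomial (Fin d) ℂ) A :=
    Module.isTorsionFree_iff_algebraMap_injective.mpr hιinj
  obtain ⟨g, Δ, hΔ, hgen, U, V, hbez⟩ :=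
    exists_generic_structure (B := MvPolynomial (Fin d) ℂ) (A := A)
  set P := minpoly (MvPolynomial (Fin d) ℂ) g with hP
  have hgint : IsIntegral (MvPolynomial (Fin d) ℂ) g := Algebra.IsIntegral.isIntegral g
  have hmonic : P.Monic := minpoly.monic hgint
  have hirr : Irreducible P := (minpoly.prime_of_isIntegrallyClosed hgint).irreducible
  have hsep : ∀ v, MvPolynomial.eval v Δ ≠ 0 → (P.map (MvPolynomial.eval v)).Separable :=
    fun v hv => separable_map_of_bezout hbez (MvPolynomial.eval v) hv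
  have hW := isPreconnected_rootSet P hmonic hirr Δ hΔ hsep
  set W : Set ((Fin d → ℂ) × ℂ) := {q | MvPolynomial.eval q.1 Δ ≠ 0 ∧
    (P.map (MvPolynomial.eval q.1)).eval q.2 = 0} with hWdef
  have haev : ∀ (v : Fin d → ℂ) (p : MvPolynomial (Fin d) ℂ),
      MvPolynomial.aeval v p = MvPolynomial.eval v p := fun v p => by
    rw [← MvPolynomial.coe_aeval_eq_eval]
    rfl
  -- points over a given `v` are evaluation at `v` on `B`
  have hover : ∀ x : A →ₐ[ℂ] ℂ, ∀ p : MvPolynomial (Fin d) ℂ,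
      x (algebraMap (MvPolynomial (Fin d) ℂ) A p) =
        MvPolynomial.eval (fun i => x (algebraMap (MvPolynomial (Fin d) ℂ) A (MvPolynomial.X i))) p := by
    intro x p
    have h1 : x.comp (IsScalarTower.toAlgHom ℂ (MvPolynomial (Fin d) ℂ) A) =
        MvPolynomial.aeval
          (fun i => x (algebraMap (MvPolynomial (Fin d) ℂ) A (MvPolynomial.X i))) := by
      apply MvPolynomial.algHom_ext
      intro i
      simp
    have h2 := AlgHom.congr_fun h1 p
    rw [haev] at h2
    exact h2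
  have hne : Nonempty (A →ₐ[ℂ] ℂ) := by
    obtain ⟨x, -⟩ := exists_algHom_le_ker (A := A) ⊥ (by
      intro h
      exact bot_ne_top h)
    exact ⟨x⟩
  -- a choice of point over each element of `W`
  have key : ∀ q : (Fin d → ℂ) × ℂ, ∃ x : A →ₐ[ℂ] ℂ, q ∈ W →
      ((∀ p, x (algebraMap (MvPolynomial (Fin d) ℂ) A p) = MvPolynomial.eval q.1 p) ∧
        x g = q.2) := by
    intro q
    by_cases hq : q ∈ W
    · obtain ⟨x, hx1, hx2⟩ := exists_lift_root (P := MvPolynomial (Fin d) ℂ)
        (MvPolynomial.aeval q.1) g q.2 (by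
          have := hq.2
          rw [Polynomial.eval_map] at this
          rw [MvPolynomial.coe_aeval_eq_eval]
          exact this)
      refine ⟨x, fun _ => ⟨fun p => ?_, hx2⟩⟩
      rw [hx1 p, haev]
    · exact ⟨Classical.arbitrary _, fun h => absurd h hq⟩
  choose X hX using key
  -- the set of points where `Δ` does not vanish
  set XΔ : Set (A → ℂ) := {φ | ∃ x : A →ₐ[ℂ] ℂ, (x : A → ℂ) = φ ∧
    x (algebraMap (MvPolynomial (Fin d) ℂ) A Δ) ≠ 0} with hXΔ
  have himage : (fun q => (X q : A → ℂ)) '' W = XΔ := by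
    apply Set.Subset.antisymm
    · rintro _ ⟨q, hq, rfl⟩
      refine ⟨X q, rfl, ?_⟩
      rw [(hX q hq).1]
      exact hq.1
    · rintro _ ⟨x, rfl, hxΔ⟩
      set q : (Fin d → ℂ) × ℂ :=
        (fun i => x (algebraMap (MvPolynomial (Fin d) ℂ) A (MvPolynomial.X i)), x g) with hq
      have hqW : q ∈ W := by
        refine ⟨?_, ?_⟩
        · rw [← hover x Δ]
          exact hxΔ
        · rw [Polynomial.eval_map]
          have := eval₂_apply_of_aeval_eq_zero x (MvPolynomial.aeval q.1)
            (fun p => by rw [hover x p, haev]) g P (minpoly.aeval _ g)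
          rw [MvPolynomial.coe_aeval_eq_eval] at this
          exact this
      refine ⟨q, hqW, ?_⟩
      funext a
      obtain ⟨r, hr⟩ := hgen a
      have h1 := apply_smul_eq (X q) q.1 q.2 g (hX q hqW).1 (hX q hqW).2 Δ a r hr
      have h2 := apply_smul_eq x q.1 q.2 g (hover x) rfl Δ a r hr
      have h3 : MvPolynomial.eval q.1 Δ * X q a = MvPolynomial.eval q.1 Δ * x a := by
        rw [h1, h2]
      exact mul_left_cancel₀ hqW.1 h3
  have hcont : ContinuousOn (fun q => (X q : A → ℂ)) W := by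
    rw [continuousOn_pi]
    intro a
    obtain ⟨r, hr⟩ := hgen a
    have h1 : ContinuousOn (fun q : (Fin d → ℂ) × ℂ =>
        (r.map (MvPolynomial.eval q.1)).eval q.2 / MvPolynomial.eval q.1 Δ) W := by
      apply ContinuousOn.div (continuous_eval_map r).continuousOn
        ((MvPolynomial.continuous_eval Δ).comp continuous_fst).continuousOn
      intro q hq
      exact hq.1
    refine h1.congr ?_
    intro q hq
    have h2 := apply_smul_eq (X q) q.1 q.2 g (hX q hq).1 (hX q hq).2 Δ a r hr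
    change X q a = (r.map (MvPolynomial.eval q.1)).eval q.2 / MvPolynomial.eval q.1 Δ
    rw [← h2, mul_comm, mul_div_assoc, div_self hq.1, mul_one]
  have hXΔpre : IsPreconnected XΔ := by
    rw [← himage]
    exact hW.image _ hcont
  refine hXΔpre.subset_closure ?_ ?_
  · rintro _ ⟨x, rfl, -⟩
    exact ⟨x, rfl⟩
  · rintro _ ⟨x₀, rfl⟩
    have hΔA : algebraMap (MvPolynomial (Fin d) ℂ) A Δ ≠ 0 := by
      rw [Ne, FaithfulSMul.algebraMap_eq_zero_iff]
      exact hΔ
    obtain ⟨x, hxΔ, hxlim⟩ := exists_seq_tendsto A _ hΔA x₀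
    apply mem_closure_of_tendsto (f := fun n => ((x n : A →ₐ[ℂ] ℂ) : A → ℂ)) (b := atTop)
    · rw [tendsto_pi_nhds]
      exact hxlim
    · exact Eventually.of_forall (fun n => ⟨x n, rfl, hxΔ n⟩)

/-- variant along a prime ideal. -/
theorem isPreconnected_setOf_le_ker (A : Type) [CommRing A] [Algebra ℂ A]
    [Algebra.FiniteType ℂ A] (𝔭 : Ideal A) [𝔭.IsPrime] :
    IsPreconnected {φ : A → ℂ | ∃ x : A →ₐ[ℂ] ℂ, (x : A → ℂ) = φ ∧
      𝔭 ≤ RingHom.ker (x : A →+* ℂ)} := by
  have h1 := isPreconnected_range_algHom (A ⧸ 𝔭)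
  have hc : Continuous (fun ψ : (A ⧸ 𝔭) → ℂ => fun a : A => ψ (Ideal.Quotient.mk 𝔭 a)) := by
    rw [continuous_pi_iff]
    intro a
    exact continuous_apply _
  have h2 := h1.image _ hc.continuousOn
  convert h2 using 1
  ext φ
  constructor
  · rintro ⟨x, rfl, hx⟩
    refine ⟨_, ⟨Ideal.Quotient.liftₐ 𝔭 x (fun a ha => hx ha), rfl⟩, ?_⟩
    funext a
    rfl
  · rintro ⟨_, ⟨y, rfl⟩, rfl⟩
    refine ⟨y.comp (Ideal.Quotient.mkₐ ℂ 𝔭), rfl, ?_⟩
    intro a ha
    rw [RingHom.mem_ker]
    change y (Ideal.Quotient.mk 𝔭 a) = 0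
    rw [Ideal.Quotient.eq_zero_iff_mem.mpr ha, map_zero]

end Groth.Agent.Lib.H26ConnRing
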