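import Mathlib
import Groth.Agent.Lib.AnPts
import Groth.Agent.Lib.H26AnDense2
import Groth.Agent.Lib.H26AnDense3
import Groth.Agent.Lib.H26ConnRing

/-!
# Connectedness of `X(ℂ)` for irreducible closed subsets (helper26)

* `isPreconnected_preimage_pt_closure`: for `X` locally of finite type over `ℂ` and `η : X`, the set
  of `ℂ`-points lying in `closure {η}` is preconnected for the complex topology.
* `connectedSpace_pts`: `X` connected implies `X(ℂ)` connected.
-/

set_option autoImplicit false

open AlgebraicGeometry CategoryTheory TopologicalSpace Opposite An Topology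

namespace Groth.Agent.Lib.H26ConnScheme

open Groth.Agent.Lib.AnPts Groth.Agent.Lib.H26AnDense2 Groth.Agent.Lib.H26AnDense3

variable {X : Scheme.{0}} [X.Over SC]

/-- a `ℂ`-point lies in the closure of `η` iff its kernel contains the prime of `η`. -/
theorem pt_mem_closure_singleton_iff [IsAffine X] (η : X) (y : Pts X) :
    letI : Algebra ℂ Γ(X, ⊤) := (strHom X).toAlgebra
    y.pt ∈ closure ({η} : Set X) ↔
      RingHom.ker (X.evaluation ⊤ η (Opens.mem_top _)).hom ≤
        RingHom.ker (toAlgHom y : Γ(X, ⊤) →+* ℂ) := by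
  letI : Algebra ℂ Γ(X, ⊤) := (strHom X).toAlgebra
  have hmem𝔭 : ∀ f : Γ(X, ⊤), f ∈ RingHom.ker (X.evaluation ⊤ η (Opens.mem_top _)).hom ↔
      η ∉ X.basicOpen f := fun f =>
    X.evaluation_eq_zero_iff_notMem_basicOpen η (Opens.mem_top _) f
  constructor
  · intro hy f hf
    rw [RingHom.mem_ker]
    change y.evTop f = 0
    by_contra hne
    have h1 : y.pt ∈ X.basicOpen f := (pt_mem_basicOpen_iff y ⊤ (Opens.mem_top _) f).2 hne
    rw [mem_closure_iff] at hy
    obtain ⟨w, hw, hwη⟩ := hy _ (X.basicOpen f).isOpen h1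
    rw [Set.mem_singleton_iff] at hwη
    rw [hwη] at hw
    exact (hmem𝔭 f).mp hf hw
  · intro hy
    rw [mem_closure_iff]
    intro W hW hyW
    have hyW' : y.pt ∈ (⟨W, hW⟩ : X.Opens) := hyW
    obtain ⟨_, ⟨f, rfl⟩, hyf, hfW⟩ := Opens.isBasis_iff_nbhd.mp (isBasis_basicOpen X) hyW'
    have h1 : y.evTop f ≠ 0 := (pt_mem_basicOpen_iff y ⊤ (Opens.mem_top _) f).1 hyf
    have h2 : f ∉ RingHom.ker (X.evaluation ⊤ η (Opens.mem_top _)).hom := fun hf => h1 (hy hf)
    rw [hmem𝔭, not_not] at h2
    exact ⟨η, hfW h2, Set.mem_singleton _⟩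

/-- affine case of `isPreconnected_preimage_pt_closure`. -/
theorem isPreconnected_preimage_pt_closure_of_isAffine [IsAffine X]
    [LocallyOfFiniteType (X ↘ SC)] (η : X) :
    IsPreconnected (Pts.pt ⁻¹' closure ({η} : Set X) : Set (Pts X)) := by
  letI : Algebra ℂ Γ(X, ⊤) := (strHom X).toAlgebra
  haveI : Algebra.FiniteType ℂ Γ(X, ⊤) := strHom_finiteType_of_isAffine
  let 𝔭 : Ideal Γ(X, ⊤) := RingHom.ker (X.evaluation ⊤ η (Opens.mem_top _)).hom
  haveI : 𝔭.IsPrime := RingHom.ker_isPrime _
  have hspec := pt_mem_closure_singleton_iff η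
  rw [← (isInducing_evAll (X := X)).isPreconnected_image]
  convert Groth.Agent.Lib.H26ConnRing.isPreconnected_setOf_le_ker Γ(X, ⊤) 𝔭 using 1
  ext φ
  constructor
  · rintro ⟨y, hy, rfl⟩
    exact ⟨toAlgHom y, rfl, (hspec y).mp hy⟩
  · rintro ⟨x', rfl, hx'⟩
    let y : Pts X := ofRingHom (x' : Γ(X, ⊤) →+* ℂ) (fun c => x'.commutes c)
    have hyev : ∀ f, y.evTop f = x' f := fun f => evTop_ofRingHom _ _ f
    refine ⟨y, (hspec y).mpr ?_, funext hyev⟩
    intro f hf
    rw [RingHom.mem_ker]
    change y.evTop f = 0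
    rw [hyev]
    exact hx' hf

/-- **Irreducible closed subsets have connected sets of `ℂ`-points.** -/
theorem isPreconnected_preimage_pt_closure [LocallyOfFiniteType (X ↘ SC)] (η : X) :
    IsPreconnected (Pts.pt ⁻¹' closure ({η} : Set X) : Set (Pts X)) := by
  obtain ⟨U, hU, hηU, -⟩ := exists_isAffineOpen_mem_and_subset (x := η) (U := ⊤) trivial
  have : IsAffine (U : Scheme.{0}) := hU
  let ηU : (U : Scheme.{0}) := ⟨η, hηU⟩
  have hηU' : U.ι ηU = η := rfl
  have haff := isPreconnected_preimage_pt_closure_of_isAffine (X := (U : Scheme.{0})) ηU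
  have himg := haff.image (Pts.map U.ι) (Pts.continuous_map U.ι).continuousOn
  set E : Set X := closure {η} ∩ (U : Set X) with hE
  have hUloc : IsLocallyConstructible (U : Set X) := by
    have h1 := isLocallyConstructible_compl
      (isLocallyConstructible_of_isClosed (X := X) U.isOpen.isClosed_compl)
    rwa [compl_compl] at h1
  have hEloc : IsLocallyConstructible E :=
    (isLocallyConstructible_of_isClosed isClosed_closure).inter hUloc
  have hcl : closure E = closure {η} := by
    apply Set.Subset.antisymm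
    · exact closure_minimal Set.inter_subset_left isClosed_closure
    · apply closure_mono
      rw [Set.singleton_subset_iff]
      exact ⟨subset_closure (Set.mem_singleton η), hηU⟩
  have hpre : (Pts.pt ⁻¹' closure ({η} : Set X) : Set (Pts X)) = closure (Pts.pt ⁻¹' E) := by
    rw [← hcl, preimage_pt_closure hEloc]
  rw [hpre]
  apply IsPreconnected.closure
  convert himg using 1
  have hclU : closure ({ηU} : Set (U : Scheme.{0})) = U.ι ⁻¹' closure ({η} : Set X) := by
    rw [U.ι.isOpenEmbedding.isInducing.closure_eq_preimage_closure_image, Set.image_singleton,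
      hηU']
  ext y
  constructor
  · rintro ⟨hy1, hy2⟩
    have hy3 : y ∈ Set.range (Pts.map U.ι) := by
      rw [range_map_ι]
      exact hy2
    obtain ⟨y', rfl⟩ := hy3
    refine ⟨y', ?_, rfl⟩
    rw [Set.mem_preimage, hclU, Set.mem_preimage, ← Pts.pt_map]
    exact hy1
  · rintro ⟨y', hy', rfl⟩
    rw [Set.mem_preimage, hclU, Set.mem_preimage, ← Pts.pt_map] at hy'
    refine ⟨hy', ?_⟩
    have : Pts.map U.ι y' ∈ Set.range (Pts.map U.ι) := Set.mem_range_self y'
    rw [range_map_ι] at this
    exact this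

/-- the set of `ℂ`-points in `closure {η}` is nonempty. -/
theorem nonempty_preimage_pt_closure [LocallyOfFiniteType (X ↘ SC)] (η : X) :
    (Pts.pt ⁻¹' closure ({η} : Set X) : Set (Pts X)).Nonempty := by
  obtain ⟨y, hy⟩ := exists_pt_mem_of_isLocallyConstructible
    (isLocallyConstructible_of_isClosed (X := X) (isClosed_closure (s := {η})))
    ⟨η, subset_closure (Set.mem_singleton η)⟩
  exact ⟨y, hy⟩

section Saturation

/-- the set of points all of whose `ℂ`-specialisations lie in `A`. -/
def T (A : Set (Pts X)) : Set X := {x | Pts.pt ⁻¹' closure ({x} : Set X) ⊆ A}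

variable [LocallyOfFiniteType (X ↘ SC)]

theorem T_dichotomy {A : Set (Pts X)} (hA : IsClopen A) (x : X) : x ∈ T A ∨ x ∈ T Aᶜ := by
  by_cases h : ((Pts.pt ⁻¹' closure ({x} : Set X) : Set (Pts X)) ∩ A).Nonempty
  · exact Or.inl ((isPreconnected_preimage_pt_closure x).subset_isClopen hA h)
  · right
    intro y hy hyA
    exact h ⟨y, hy, hyA⟩

theorem T_disjoint {A : Set (Pts X)} (x : X) (h1 : x ∈ T A) (h2 : x ∈ T Aᶜ) : False := by
  obtain ⟨y, hy⟩ := nonempty_preimage_pt_closure x
  exact h2 hy (h1 hy)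

omit [LocallyOfFiniteType (X ↘ SC)] in
theorem T_of_specializes {A : Set (Pts X)} {x y : X} (h : x ⤳ y) (hx : x ∈ T A) : y ∈ T A := by
  intro z hz
  apply hx
  exact (specializes_iff_closure_subset.mp h) hz

theorem T_of_generizes {A : Set (Pts X)} (hA : IsClopen A) {x y : X} (h : x ⤳ y) (hy : y ∈ T A) :
    x ∈ T A := by
  rcases T_dichotomy hA x with h1 | h1
  · exact h1
  · exact (T_disjoint y hy (T_of_specializes h h1)).elim

theorem isOpen_T {A : Set (Pts X)} (hA : IsClopen A) : IsOpen (T A) := by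
  rw [isOpen_iff_forall_mem_open]
  intro x hx
  obtain ⟨U, hU, hxU, -⟩ := exists_isAffineOpen_mem_and_subset (x := x) (U := ⊤) trivial
  have : IsAffine (U : Scheme.{0}) := hU
  have : IsLocallyNoetherian (U : Scheme.{0}) :=
    LocallyOfFiniteType.isLocallyNoetherian ((U : Scheme.{0}) ↘ SC)
  have : IsNoetherian (U : Scheme.{0}) := {}
  have hN : NoetherianSpace (U : Scheme.{0}) := inferInstance
  let xU : (U : Scheme.{0}) := ⟨x, hxU⟩
  have hfin : (irreducibleComponents (U : Scheme.{0})).Finite :=
    NoetherianSpace.finite_irreducibleComponents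
  set O : Set (U : Scheme.{0}) :=
    (⋃₀ {Z ∈ irreducibleComponents (U : Scheme.{0}) | xU ∉ Z})ᶜ with hO
  have hOopen : IsOpen O := by
    rw [hO, isOpen_compl_iff, Set.sUnion_eq_biUnion]
    exact (hfin.subset (fun Z hZ => hZ.1)).isClosed_biUnion
      (fun Z hZ => isClosed_of_mem_irreducibleComponents Z hZ.1)
  have hxO : xU ∈ O := by
    rw [hO, Set.mem_compl_iff, Set.mem_sUnion]
    rintro ⟨Z, ⟨-, hZ2⟩, hZ3⟩
    exact hZ2 hZ3
  refine ⟨U.ι '' O, ?_, U.ι.isOpenEmbedding.isOpenMap O hOopen, ⟨xU, hxO, rfl⟩⟩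
  rintro _ ⟨y, hy, rfl⟩
  -- the component of `y` contains `xU`
  have hxy : xU ∈ irreducibleComponent y := by
    by_contra hno
    apply hy
    rw [Set.mem_sUnion]
    exact ⟨irreducibleComponent y, ⟨irreducibleComponent_mem_irreducibleComponents y, hno⟩,
      mem_irreducibleComponent⟩
  obtain ⟨ξ, hξ⟩ := QuasiSober.sober (isIrreducible_irreducibleComponent (x := y))
    (isClosed_of_mem_irreducibleComponents _ (irreducibleComponent_mem_irreducibleComponents y))
  have hξx : ξ ⤳ xU := by
    rw [specializes_iff_mem_closure, hξ.def]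
    exact hxy
  have hξy : ξ ⤳ y := by
    rw [specializes_iff_mem_closure, hξ.def]
    exact mem_irreducibleComponent
  have h1 : U.ι ξ ⤳ x := hξx.map U.ι.continuous
  have h2 : U.ι ξ ⤳ U.ι y := hξy.map U.ι.continuous
  exact T_of_specializes h2 (T_of_generizes hA h1 hx)

theorem compl_T {A : Set (Pts X)} (hA : IsClopen A) : (T A)ᶜ = T Aᶜ := by
  ext x
  constructor
  · intro hx
    rcases T_dichotomy hA x with h | h
    · exact absurd h hx
    · exact h
  · intro hx h
    exact T_disjoint x h hx

theorem isClopen_T {A : Set (Pts X)} (hA : IsClopen A) : IsClopen (T A) := by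
  refine ⟨?_, isOpen_T hA⟩
  rw [← isOpen_compl_iff, compl_T hA]
  exact isOpen_T hA.compl

theorem preimage_pt_T (A : Set (Pts X)) : Pts.pt ⁻¹' (T A) = A := by
  ext y
  have hcl : closure ({y.pt} : Set X) = {y.pt} := (isClosed_singleton_pt y).closure_eq
  constructor
  · intro hy
    apply hy
    rw [hcl]
    rfl
  · intro hy z hz
    rw [hcl, Set.mem_preimage, Set.mem_singleton_iff] at hz
    rw [pt_injective hz]
    exact hy

end Saturation

/-- **`X` connected implies `X(ℂ)` connected.** -/
theorem connectedSpace_pts [LocallyOfFiniteType (X ↘ SC)] [ConnectedSpace X] :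
    ConnectedSpace (Pts X) := by
  haveI : Nonempty (Pts X) := nonempty_pts
  haveI : PreconnectedSpace (Pts X) := by
    rw [preconnectedSpace_iff_clopen]
    intro A hA
    rcases isClopen_iff.mp (isClopen_T hA) with h | h
    · left
      rw [← preimage_pt_T A, h, Set.preimage_empty]
    · right
      rw [← preimage_pt_T A, h, Set.preimage_univ]
  exact ConnectedSpace.mk inferInstance

/-- **`X(ℂ)` connected implies `X` connected.** -/
theorem connectedSpace_of_connectedSpace_pts [LocallyOfFiniteType (X ↘ SC)]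
    [ConnectedSpace (Pts X)] : ConnectedSpace X := by
  haveI : Nonempty X := ⟨(Classical.arbitrary (Pts X)).pt⟩
  haveI : PreconnectedSpace X := by
    rw [preconnectedSpace_iff_clopen]
    intro S hS
    have hpre : IsClopen (Pts.pt ⁻¹' S : Set (Pts X)) := hS.preimage Pts.continuous_pt
    rcases isClopen_iff.mp hpre with h | h
    · left
      by_contra hne
      obtain ⟨y, hy⟩ := exists_pt_mem_of_isLocallyClosed hS.isOpen.isLocallyClosed
        (Set.nonempty_iff_ne_empty.mpr hne)
      have : y ∈ (Pts.pt ⁻¹' S : Set (Pts X)) := hy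
      rw [h] at this
      exact this
    · right
      by_contra hne
      have hne' : Sᶜ.Nonempty := by
        rw [Set.nonempty_compl]
        exact hne
      obtain ⟨y, hy⟩ := exists_pt_mem_of_isLocallyClosed hS.compl.isOpen.isLocallyClosed hne'
      have : y ∈ (Pts.pt ⁻¹' S : Set (Pts X)) := by
        rw [h]
        trivial
      exact hy this
  exact ConnectedSpace.mk inferInstance

theorem connectedSpace_iff [LocallyOfFiniteType (X ↘ SC)] :
    ConnectedSpace X ↔ ConnectedSpace (Pts X) :=
  ⟨fun _ => connectedSpace_pts, fun _ => connectedSpace_of_connectedSpace_pts⟩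

end Groth.Agent.Lib.H26ConnScheme
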