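import Mathlib
import Groth.Agent.Lib.AnPts
import Groth.Agent.Lib.GrpIdCompPts45
import Groth.Agent.Lib.H26ConnScheme

/-!
# `π₀(X(ℂ)) → π₀(X)` is bijective (helper26)
-/

set_option autoImplicit false

open AlgebraicGeometry CategoryTheory TopologicalSpace Opposite An Topology

namespace Groth.Agent.Lib.H26ConnPi0

open Groth.Agent.Lib.AnPts Groth.Agent.Lib.H26ConnScheme

variable {X : Scheme.{0}} [X.Over SC] [LocallyOfFiniteType (X ↘ SC)]

/-- the `ℂ`-points of a connected open subset form a connected set. -/
theorem isConnected_preimage_pt_opens (U : X.Opens) (hU : _root_.IsConnected (U : Set X)) :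
    _root_.IsConnected (Pts.pt ⁻¹' (U : Set X) : Set (Pts X)) := by
  haveI : ConnectedSpace (U : Scheme.{0}) := isConnected_iff_connectedSpace.mp hU
  haveI : ConnectedSpace (Pts (U : Scheme.{0})) := connectedSpace_pts
  rw [← range_map_ι]
  exact isConnected_range (Pts.continuous_map U.ι)

theorem connectedComponentsMap_pt_bijective :
    Function.Bijective (Pts.continuous_pt (X := X)).connectedComponentsMap := by
  have : IsLocallyNoetherian X := LocallyOfFiniteType.isLocallyNoetherian (X ↘ SC)
  constructor
  · intro c₁ c₂ h
    obtain ⟨y₁, rfl⟩ := ConnectedComponents.surjective_coe c₁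
    obtain ⟨y₂, rfl⟩ := ConnectedComponents.surjective_coe c₂
    rw [Continuous.connectedComponentsMap_mk, Continuous.connectedComponentsMap_mk,
      ConnectedComponents.coe_eq_coe'] at h
    rw [ConnectedComponents.coe_eq_coe']
    let U : X.Opens := ⟨connectedComponent y₂.pt,
      Groth.Agent.Lib.GrpIdCompPts45.isOpen_connectedComponent_of_isLocallyNoetherian X y₂.pt⟩
    have hU : _root_.IsConnected (U : Set X) := isConnected_connectedComponent
    have hconn := isConnected_preimage_pt_opens U hU
    have h2 : y₂ ∈ (Pts.pt ⁻¹' (U : Set X) : Set (Pts X)) := mem_connectedComponent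
    exact hconn.isPreconnected.subset_connectedComponent h2 h
  · intro c
    obtain ⟨x, rfl⟩ := ConnectedComponents.surjective_coe c
    obtain ⟨y, hy⟩ := exists_pt_mem_of_isLocallyClosed
      (isClosed_connectedComponent (x := x)).isLocallyClosed ⟨x, mem_connectedComponent⟩
    refine ⟨(y : ConnectedComponents (Pts X)), ?_⟩
    rw [Continuous.connectedComponentsMap_mk, ConnectedComponents.coe_eq_coe']
    exact hy

end Groth.Agent.Lib.H26ConnPi0
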