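import Mathlib

/-!
# Closed separated local homeomorphisms with finite fibres are covering maps (helper26)

Mathlib's `IsClosedMap.isEvenlyCovered_of_openPartialHomeomorph` assumes the total space is
Hausdorff; here we only assume that the map is separated.
-/

set_option autoImplicit false

open Topology Set

namespace Groth.Agent.Lib.H26Cover

variable {E X : Type*} [TopologicalSpace E] [TopologicalSpace X]

/-- finitely many points that are pairwise separated by open sets have pairwise disjoint open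
neighbourhoods. -/
lemma finite_separation {F : Set E} (hF : F.Finite)
    (h : ∀ a ∈ F, ∀ b ∈ F, a ≠ b →
      ∃ U V : Set E, IsOpen U ∧ IsOpen V ∧ a ∈ U ∧ b ∈ V ∧ Disjoint U V) :
    ∃ V : E → Set E, (∀ e, e ∈ V e ∧ IsOpen (V e)) ∧ F.PairwiseDisjoint V := by
  classical
  have h' : ∀ a b : E, ∃ U V : Set E, IsOpen U ∧ IsOpen V ∧ a ∈ U ∧ b ∈ V ∧
      (a ∈ F → b ∈ F → a ≠ b → Disjoint U V) := by
    intro a b
    by_cases hab : a ∈ F ∧ b ∈ F ∧ a ≠ b
    · obtain ⟨U, V, hU, hV, haU, hbV, hd⟩ := h a hab.1 b hab.2.1 hab.2.2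
      exact ⟨U, V, hU, hV, haU, hbV, fun _ _ _ => hd⟩
    · exact ⟨univ, univ, isOpen_univ, isOpen_univ, mem_univ _, mem_univ _,
        fun ha hb hne => (hab ⟨ha, hb, hne⟩).elim⟩
  choose U V hU hV haU hbV hd using h'
  refine ⟨fun a => ⋂ b ∈ F, (U a b ∩ V b a), fun a => ⟨?_, ?_⟩, ?_⟩
  · simp only [mem_iInter]
    intro b _
    exact ⟨haU a b, hbV b a⟩
  · exact hF.isOpen_biInter fun b _ => (hU a b).inter (hV b a)
  · intro a ha b hb hab
    refine (hd a b ha hb hab).mono ?_ ?_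
    · exact (biInter_subset_of_mem hb).trans inter_subset_left
    · exact (biInter_subset_of_mem ha).trans inter_subset_right

variable {f : E → X}

/-- variant of `IsClosedMap.isEvenlyCovered_of_openPartialHomeomorph` for separated maps. -/
theorem isEvenlyCovered_of_isSeparatedMap {x : X}
    (hf : IsClosedMap f) (sep : IsSeparatedMap f) (fin : (f ⁻¹' {x}).Finite)
    (h : ∀ e ∈ f ⁻¹' {x}, ∃ φ : OpenPartialHomeomorph E X, e ∈ φ.source ∧ φ = f) :
    IsEvenlyCovered f x (f ⁻¹' {x}) := by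
  have : DiscreteTopology (f ⁻¹' {x}) :=
    (IsDiscrete.of_openPartialHomeomorph f subset_rfl h).1
  choose φ hφ using fun e : f ⁻¹' {x} ↦ h e e.2
  have ⟨V, hV, disj⟩ := finite_separation fin (fun a ha b hb hab => by
    obtain ⟨U, V, hU, hV, haU, hbV, hd⟩ := sep a b (ha.trans hb.symm) hab
    exact ⟨U, V, hU, hV, haU, hbV, hd⟩)
  let V' (e : f ⁻¹' {x}) := V e ∩ (φ e).source
  have hV' e : IsOpen (V' e) := (hV e).2.inter (φ e).open_source
  have : ⋃ e, V' e ∈ nhdsSet (f ⁻¹' {x}) :=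
    (isOpen_iUnion hV').mem_nhdsSet.2 fun e he ↦ mem_iUnion_of_mem ⟨e, he⟩ ⟨(hV e).1, (hφ _).1⟩
  have ⟨W, hWx, hWV⟩ := isClosedMap_iff_comap_nhds_le.mp hf this
  cases isEmpty_or_nonempty (f ⁻¹' {x})
  · exact .of_preimage_eq_empty _ hWx (by simpa using hWV)
  have ⟨U, hUW, hU, hxU⟩ := mem_nhds_iff.mp hWx
  let U' := U ∩ ⋂ e : f ⁻¹' {x}, f '' (V' e)
  have : Finite (f ⁻¹' {x}) := fin
  have hU' : IsOpen U' := hU.inter <| isOpen_iInter_of_finite fun e ↦ by
    convert! ← (φ e).isOpen_image_of_subset_source (hV' _) inter_subset_right; exact (hφ e).2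
  have hUV e : U' ⊆ f '' V' e := inter_subset_right.trans (iInter_subset ..)
  have : Nonempty E := ⟨Classical.arbitrary (f ⁻¹' {x})⟩
  refine .of_trivialization (t := hU'.trivializationDiscrete _ _
    (fun e s hs ↦ ⟨fun h ↦ ?_, fun h ↦ ?_⟩) (fun e ↦ ?_)
    (fun e ↦ .mono subset_rfl (hUV e) (surjOn_image f _))
    (pairwise_disjoint_mono disj.subtype fun e ↦ inter_subset_left)
    ((preimage_mono (inter_subset_left.trans hUW)).trans hWV))
    ⟨hxU, Set.mem_iInter.mpr fun e ↦ ⟨e, ⟨(hV e).1, (hφ e).1⟩, e.2⟩⟩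
  · convert! ((φ e).isOpen_inter_preimage h).inter (hV e).2 using 1
    simp_rw [(hφ e).2, V']; ac_rfl
  · have : s ⊆ (φ e).target := hs.trans <| (hUV e).trans <| by
      rw [← (φ e).image_source_eq_target, (hφ e).2]; exact image_mono inter_subset_right
    rw [← (φ e).isOpen_symm_image_iff_of_subset_target this,
      (φ e).symm_image_eq_source_inter_preimage this, (hφ e).2, inter_comm]
    convert! h using 1
    refine inter_eq_inter_iff_left.mpr ⟨fun e' h ↦ h.2.2, fun e' h ↦ ⟨?_ , h.2⟩⟩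
    have ⟨e'', ⟨_, mem⟩, eq⟩ := mem_iInter.mp (hs h.1).2 e
    rwa [← (φ e).injOn mem h.2 (by rwa [(hφ e).2])]
  · convert! ← (φ e).injOn.mono inter_subset_right; exact (hφ e).2

/-- **A closed, separated local homeomorphism with finite fibres is a covering map.** -/
theorem isCoveringMap_of_isLocalHomeomorph (hf : IsClosedMap f) (sep : IsSeparatedMap f)
    (fin : ∀ x, (f ⁻¹' {x}).Finite) (hloc : IsLocalHomeomorph f) : IsCoveringMap f := by
  intro x
  refine isEvenlyCovered_of_isSeparatedMap hf sep (fin x) fun e _ => ?_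
  obtain ⟨φ, hφ, rfl⟩ := hloc e
  exact ⟨φ, hφ, rfl⟩

end Groth.Agent.Lib.H26Cover
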