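/-
Helper library (helper26): a Cohen–Macaulay quotient `B` of a Gorenstein local ring `A` with
`Ext^{dim A - dim B}_A(B, A) ≅ B` is Gorenstein.
-/
import Mathlib.Tactic
import Groth.Agent.Lib.H29LocalDualityCM
import Groth.Agent.Lib.H26CMDim
import Groth.Agent.Lib.H26GorDual
import Groth.Agent.Lib.H26SurjHull
import Groth.Agent.Lib.LocCohIndepBase
import Groth.Agent.S0299
import Groth.Agent.S7701
import Groth.Agent.Lib.H26LinkCM
import Groth.Agent.S16185

set_option autoImplicit false
universe u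
open LocCoh

namespace Groth.Agent.Lib.H26GorQuot

/-- `A` Gorenstein local, `A → B` surjective with `B` Cohen–Macaulay local, and
`Ext^{dim A - dim B}_A(B, A) ≅ B` as `A`-modules: then `B` is Gorenstein. -/
theorem isGorensteinLocalRing_of_ext_equiv {A B : Type u} [CommRing A]
    [LocCoh.IsGorensteinLocalRing A] [CommRing B] [LocCoh.IsCohenMacaulayLocalRing B]
    [Algebra A B] (hg : Function.Surjective (algebraMap A B)) (n n' : ℕ)
    (hn : ringKrullDim B = n) (hn' : ringKrullDim A = n')
    (e : CategoryTheory.Abelian.Ext.{u} (ModuleCat.of A B) (ModuleCat.of A A) (n' - n) ≃ₗ[A] B) :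
    LocCoh.IsGorensteinLocalRing B := by
  haveI : IsNoetherianRing A := inferInstance
  haveI : IsLocalRing A := inferInstance
  haveI : IsNoetherianRing B := inferInstance
  haveI : IsLocalRing B := inferInstance
  obtain ⟨E, _, _, f, hf⟩ := Groth.Agent.S0299.result B (IsLocalRing.ResidueField B)
  letI : Module A E := Module.compHom E (algebraMap A B)
  haveI : IsScalarTower A B E := IsScalarTower.of_algebraMap_smul (fun _ _ => rfl)
  haveI : LocCoh.IsCohenMacaulayLocalRing A :=
    Groth.Agent.Lib.H26CMDim.isCohenMacaulayLocalRing_of_gorenstein A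
  have hle : n ≤ n' := by
    have h := ringKrullDim_le_of_surjective (algebraMap A B) hg
    rw [hn, hn'] at h
    exact_mod_cast h
  obtain ⟨f', hf'⟩ := Groth.Agent.Lib.H26GorDual.gorenstein_exists_isInjectiveHull_H A n' hn'
  let eK : (A →ₗ[A] LocCoh.H (IsLocalRing.maximalIdeal A) n' A) ≃ₗ[A]
      LocCoh.H (IsLocalRing.maximalIdeal A) n' A :=
    LinearMap.ringLmapEquivSelf A A _
  haveI : Module.Finite A B := Module.Finite.of_surjective (Algebra.linearMap A B) hg
  obtain ⟨φ⟩ := Groth.Agent.Lib.H29LocalDualityCM.cm_localDuality n' hn' f' hf' eK (n' - n) n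
    (by omega) B
  obtain ⟨Θ, hΘ⟩ := Groth.Agent.Lib.H26SurjHull.exists_homEquiv hg f hf f' hf' B
  obtain ⟨ψ, hψ⟩ := Groth.Agent.Lib.LocCohIndepBase.indep_base (R := A) (R' := B)
    (IsLocalRing.maximalIdeal A) n B
  have hmap : (IsLocalRing.maximalIdeal A).map (algebraMap A B) = IsLocalRing.maximalIdeal B :=
    IsLocalRing.map_maximalIdeal_of_surjective _ hg
  have hψsymm : ∀ (a : A) (w : LocCoh.H (IsLocalRing.maximalIdeal A) n B),
      ψ.symm (a • w) = algebraMap A B a • ψ.symm w := by
    intro a w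
    apply ψ.injective
    rw [hψ, AddEquiv.apply_symm_apply, AddEquiv.apply_symm_apply]
  let ρ : (B →ₗ[A] LocCoh.H (IsLocalRing.maximalIdeal A) n' A) ≃ₗ[A]
      (CategoryTheory.Abelian.Ext.{u} (ModuleCat.of A B) (ModuleCat.of A A) (n' - n) →ₗ[A]
        LocCoh.H (IsLocalRing.maximalIdeal A) n' A) :=
    LinearEquiv.arrowCongr e.symm (LinearEquiv.refl A _)
  let Φ : (B →ₗ[B] E) ≃+ LocCoh.H ((IsLocalRing.maximalIdeal A).map (algebraMap A B)) n B :=
    Θ.trans (ρ.toAddEquiv.trans (φ.symm.toAddEquiv.trans ψ.symm))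
  have hΦ : ∀ (a : A) (x : B →ₗ[B] E), Φ (algebraMap A B a • x) = algebraMap A B a • Φ x := by
    intro a x
    change ψ.symm (φ.symm (ρ (Θ (algebraMap A B a • x)))) =
      algebraMap A B a • ψ.symm (φ.symm (ρ (Θ x)))
    rw [hΘ, map_smul, map_smul, hψsymm]
  let ΦL : (B →ₗ[B] E) ≃ₗ[B] LocCoh.H ((IsLocalRing.maximalIdeal A).map (algebraMap A B)) n B :=
    { Φ with
      map_smul' := fun r x => by
        obtain ⟨a, rfl⟩ := hg r
        exact hΦ a x }
  rw [hmap] at ΦL
  exact (Groth.Agent.S7701.result B n hn E f hf B ΦL).mpr ⟨LinearEquiv.refl B B⟩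

/-- `A` Gorenstein local, `A/(f)` Cohen–Macaulay of the same dimension, `J = (0 : f)` proper with
`(0 : J) = (f)`: then `A/J` is Gorenstein. -/
theorem isGorensteinLocalRing_quotient_annihilator_span (A : Type u) [CommRing A]
    [LocCoh.IsGorensteinLocalRing A] (f : A)
    [LocCoh.IsCohenMacaulayLocalRing (A ⧸ Ideal.span {f})]
    (hdim : ringKrullDim (A ⧸ Ideal.span {f}) = ringKrullDim A)
    (hJ : Submodule.annihilator (Ideal.span {f}) ≠ ⊤)
    (hann : Submodule.annihilator (Submodule.annihilator (Ideal.span {f})) = Ideal.span {f}) :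
    LocCoh.IsGorensteinLocalRing (A ⧸ Submodule.annihilator (Ideal.span {f})) := by
  haveI : IsNoetherianRing A := inferInstance
  haveI : IsLocalRing A := inferInstance
  obtain ⟨hCM, hdimJ⟩ := Groth.Agent.Lib.H26LinkCM.isCohenMacaulayLocalRing_quotient_annihilator'
    A (Ideal.span {f}) hdim hJ
  set J := Submodule.annihilator (Ideal.span {f}) with hJdef
  have hJf : ∀ a : A, a ∈ J ↔ a * f = 0 := by
    intro a
    rw [hJdef]
    exact Submodule.mem_annihilator_span_singleton f a
  have hle : J ≤ LinearMap.ker (LinearMap.toSpanSingleton A A f) := by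
    intro a ha
    rw [LinearMap.mem_ker, LinearMap.toSpanSingleton_apply, smul_eq_mul]
    exact (hJf a).mp ha
  let μ : (A ⧸ J) →ₗ[A] A := Submodule.liftQ J (LinearMap.toSpanSingleton A A f) hle
  have hμ : ∀ b : A, μ (Submodule.Quotient.mk b) = b * f := fun b => rfl
  let T : A →ₗ[A] ((A ⧸ J) →ₗ[A] A) := LinearMap.toSpanSingleton A _ μ
  have hker : LinearMap.ker T = J := by
    ext a
    rw [LinearMap.mem_ker, hJf]
    constructor
    · intro h
      have := LinearMap.congr_fun h (Submodule.Quotient.mk 1)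
      rw [LinearMap.toSpanSingleton_apply, LinearMap.smul_apply, hμ, one_mul, smul_eq_mul] at this
      exact this
    · intro h
      refine LinearMap.ext fun b => ?_
      obtain ⟨b, rfl⟩ := Submodule.Quotient.mk_surjective _ b
      rw [LinearMap.toSpanSingleton_apply, LinearMap.smul_apply, hμ, smul_eq_mul,
        LinearMap.zero_apply]
      calc a * (b * f) = b * (a * f) := by ring
        _ = 0 := by rw [h, mul_zero]
  have hT : Function.Surjective T := by
    intro φ
    have hmem : φ (Submodule.Quotient.mk 1) ∈ Submodule.annihilator J := by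
      rw [Submodule.mem_annihilator]
      intro j hj
      rw [smul_eq_mul, mul_comm, ← smul_eq_mul, ← map_smul, ← Submodule.Quotient.mk_smul,
        smul_eq_mul, mul_one,
        (Submodule.Quotient.mk_eq_zero J).mpr hj, map_zero]
    rw [hann] at hmem
    obtain ⟨a, ha⟩ := Ideal.mem_span_singleton'.mp hmem
    refine ⟨a, ?_⟩
    refine LinearMap.ext fun b => ?_
    obtain ⟨b, rfl⟩ := Submodule.Quotient.mk_surjective _ b
    rw [LinearMap.toSpanSingleton_apply, LinearMap.smul_apply, hμ, smul_eq_mul]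
    have hb : (Submodule.Quotient.mk b : A ⧸ J) = b • Submodule.Quotient.mk 1 := by
      rw [← Submodule.Quotient.mk_smul, smul_eq_mul, mul_one]
    rw [hb, map_smul, ← ha, smul_eq_mul]
    ring
  let e1 : (A ⧸ J) ≃ₗ[A] ((A ⧸ J) →ₗ[A] A) :=
    (Submodule.quotEquivOfEq _ _ hker.symm).trans (T.quotKerEquivOfSurjective hT)
  let e0 : CategoryTheory.Abelian.Ext.{u} (ModuleCat.of A (A ⧸ J)) (ModuleCat.of A A) 0 ≃ₗ[A]
      ((A ⧸ J) →ₗ[A] A) :=
    (CategoryTheory.Abelian.Ext.linearEquiv₀ (R := A)).trans ModuleCat.homLinearEquiv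
  obtain ⟨d, hd, -, -⟩ := Groth.Agent.Lib.H29Gorenstein.gorenstein_invariants A
  have hg : Function.Surjective (algebraMap A (A ⧸ J)) := Ideal.Quotient.mk_surjective
  refine isGorensteinLocalRing_of_ext_equiv hg d d (hdimJ.trans hd) hd ?_
  rw [Nat.sub_self]
  exact e0.trans e1.symm

/-- global form: `S` Gorenstein ring, `S/(f)` Cohen–Macaulay with all minimal primes of `(f)`
minimal in `S`, and `(0 : (0 : f)) = (f)`; then `S/(0 : f)` is a Gorenstein ring. -/
theorem isGorensteinRing_quotient_annihilator_span (S : Type u) [CommRing S]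
    [LocCoh.IsGorensteinRing S] (f : S) [LocCoh.IsCohenMacaulayRing (S ⧸ Ideal.span {f})]
    (hmin : ∀ p ∈ (Ideal.span {f}).minimalPrimes, p.height = 0)
    (hann : Submodule.annihilator (Submodule.annihilator (Ideal.span {f})) = Ideal.span {f}) :
    LocCoh.IsGorensteinRing (S ⧸ Submodule.annihilator (Ideal.span {f})) := by
  haveI : IsNoetherianRing S := inferInstance
  set 𝔞 : Ideal S := Ideal.span {f} with h𝔞
  refine { isGorensteinLocalRing_localization := ?_ }
  intro q hq
  set Q : Ideal S := q.comap (Ideal.Quotient.mk (Submodule.annihilator 𝔞)) with hQ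
  haveI : Q.IsPrime := Ideal.comap_isPrime _ _
  have hAnnQ : Submodule.annihilator 𝔞 ≤ Q := by
    intro x hx
    rw [hQ, Ideal.mem_comap, Ideal.Quotient.eq_zero_iff_mem.mpr hx]
    exact Ideal.zero_mem _
  set A := Localization.AtPrime Q with hA
  haveI : LocCoh.IsGorensteinLocalRing A :=
    LocCoh.IsGorensteinRing.isGorensteinLocalRing_localization Q
  let e := Groth.Agent.Lib.H8GradedCM.localizationQuotientEquiv Q (Submodule.annihilator 𝔞) q rfl
  suffices h : LocCoh.IsGorensteinLocalRing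
      (A ⧸ (Submodule.annihilator 𝔞).map (algebraMap S A)) from
    Groth.Agent.S16185.isGorensteinLocalRing_of_ringEquiv e
  have hne : (Submodule.annihilator 𝔞).map (algebraMap S A) ≠ ⊤ :=
    Groth.Agent.Lib.H8CMOpen.map_ne_top _ Q hAnnQ
  have hB := Groth.Agent.Lib.H26LinkCM.map_annihilator Q.primeCompl A 𝔞
  have hB2 := Groth.Agent.Lib.H26LinkCM.map_annihilator Q.primeCompl A (Submodule.annihilator 𝔞)
  rw [hann, hB] at hB2
  rw [hB] at hne ⊢
  by_cases h𝔞Q : 𝔞 ≤ Q
  · obtain ⟨hcm, hdim⟩ := Groth.Agent.Lib.H26LinkCM.isCM_and_dim_localization S 𝔞 hmin Q h𝔞Q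
    have hspan : 𝔞.map (algebraMap S A) = Ideal.span {algebraMap S A f} := by
      rw [h𝔞, Ideal.map_span, Set.image_singleton]
    rw [hspan] at hcm hdim hne hB2 ⊢
    exact isGorensteinLocalRing_quotient_annihilator_span A (algebraMap S A f) hdim hne hB2.symm
  · rw [Groth.Agent.Lib.H26LinkCM.annihilator_map_eq_bot_of_not_le S 𝔞 Q h𝔞Q]
    exact Groth.Agent.S16185.isGorensteinLocalRing_of_ringEquiv (RingEquiv.quotientBot A)

end Groth.Agent.Lib.H26GorQuot
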