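/-
Helper library (helper26): geometric linkage — the sum of two geometrically linked
Cohen–Macaulay ideals in a Gorenstein local ring defines a Gorenstein quotient of dimension one less.
-/
import Mathlib.Tactic
import Groth.Agent.Lib.LocCohLES
import Groth.Agent.Lib.H26Liaison
import Groth.Agent.Lib.H26GorQuot
import Groth.Agent.Lib.H26GorLoc
import Groth.Agent.S0318
import Groth.Agent.Lib.H8CM5
import Groth.Agent.Lib.CMFlat33
import Groth.Agent.Lib.CMComp33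
import Groth.Agent.Lib.DepthRees
import Groth.Agent.Lib.H29Depth
import Groth.Agent.Lib.H26GorFin
import Groth.Agent.Lib.H8CM
import Groth.Agent.Lib.H8GradedCM
import Groth.Agent.Lib.H8CMOpen
import Groth.Agent.S16185

set_option autoImplicit false
universe u
open CategoryTheory Abelian

namespace Groth.Agent.Lib.H26GeomLink

open Groth.Agent.Lib.LocCohLES

section abstract
variable {R : Type u} [CommRing R] {M₂ N : Type u} [AddCommGroup M₂] [Module R M₂]
  [AddCommGroup N] [Module R N] (ι : R →ₗ[R] M₂) (π : M₂ →ₗ[R] N)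
  (hι : Function.Injective ι) (hιπ : Function.Exact ι π) (hπ : Function.Surjective π)

include hι hιπ hπ in
/-- `Ext^i(N, R) = 0` for `i ≥ 2` when `Ext^i(M₂, R) = 0`. -/
theorem subsingleton_ext_of_two_le (i : ℕ) (hi : 2 ≤ i)
    (h2 : Subsingleton (Ext.{u} (ModuleCat.of R M₂) (ModuleCat.of R R) i)) :
    Subsingleton (Ext.{u} (ModuleCat.of R N) (ModuleCat.of R R) i) := by
  have hS := ses_shortExact ι π hι hιπ hπ
  refine subsingleton_of_forall_eq 0 fun x₃ => ?_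
  obtain ⟨j, rfl⟩ : ∃ j, i = 1 + (j + 1) := ⟨i - 2, by omega⟩
  have hx₃ : (Ext.mk₀ (ses ι π hιπ).g).comp x₃ (zero_add _) = 0 := Subsingleton.elim _ _
  obtain ⟨x₁, rfl⟩ := Ext.contravariant_sequence_exact₃ hS (ModuleCat.of R R) x₃ hx₃ rfl
  haveI : Projective (ModuleCat.of R R) :=
    (IsProjective.iff_projective (R := R) (P := R)).mp inferInstance
  have : x₁ = 0 := Ext.eq_zero_of_projective x₁
  rw [this, Ext.comp_zero]

include hι hιπ hπ in
/-- `Ext^1(N, R) ≅ R/𝔟` where `𝔟 = {χ (ι 1)}`. -/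
theorem nonempty_ext_one_equiv (𝔟 : Ideal R)
    (h𝔟 : ∀ a : R, a ∈ 𝔟 ↔ ∃ χ : M₂ →ₗ[R] R, χ (ι 1) = a)
    (h2 : Subsingleton (Ext.{u} (ModuleCat.of R M₂) (ModuleCat.of R R) 1)) :
    Nonempty (Ext.{u} (ModuleCat.of R N) (ModuleCat.of R R) 1 ≃ₗ[R] R ⧸ 𝔟) := by
  have hS := ses_shortExact ι π hι hιπ hπ
  set c := hS.extClass with hc
  let T : R →ₗ[R] Ext.{u} (ModuleCat.of R N) (ModuleCat.of R R) 1 :=
    LinearMap.toSpanSingleton R _ c
  have hTa : ∀ a : R, T a = c.comp (Ext.mk₀ (a • 𝟙 (ModuleCat.of R R))) (add_zero 1) := by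
    intro a
    rw [← Ext.smul_eq_comp_mk₀]
    rfl
  have hhom : ∀ ψ : ModuleCat.of R R ⟶ ModuleCat.of R R,
      ψ = (ψ.hom (1 : R)) • 𝟙 (ModuleCat.of R R) := by
    intro ψ
    ext
    simp
  have hT : Function.Surjective T := by
    intro x₃
    have hx₃ : (Ext.mk₀ (ses ι π hιπ).g).comp x₃ (zero_add _) = 0 := Subsingleton.elim _ _
    obtain ⟨x₁, rfl⟩ := Ext.contravariant_sequence_exact₃ hS (ModuleCat.of R R) x₃ hx₃
      (show 1 + 0 = 1 from rfl)
    obtain ⟨ψ, rfl⟩ := (Ext.mk₀_bijective _ _).2 x₁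
    refine ⟨ψ.hom (1 : R), ?_⟩
    rw [hTa, ← hhom ψ]
  have hker : LinearMap.ker T = 𝔟 := by
    ext a
    rw [LinearMap.mem_ker, hTa, h𝔟]
    constructor
    · intro h0
      obtain ⟨x₂, hx₂⟩ := Ext.contravariant_sequence_exact₁ hS (ModuleCat.of R R)
        (Ext.mk₀ (a • 𝟙 (ModuleCat.of R R))) (show 1 + 0 = 1 from rfl) h0
      obtain ⟨χ, rfl⟩ := (Ext.mk₀_bijective _ _).2 x₂
      rw [Ext.mk₀_comp_mk₀] at hx₂
      have h1 := (Ext.mk₀_bijective _ _).1 hx₂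
      refine ⟨χ.hom, ?_⟩
      have h2 := congrArg (fun φ : ModuleCat.of R R ⟶ ModuleCat.of R R => φ.hom (1 : R)) h1
      simpa using h2
    · rintro ⟨χ, hχ⟩
      have h1 : (ses ι π hιπ).f ≫ ModuleCat.ofHom χ = a • 𝟙 (ModuleCat.of R R) := by
        rw [hhom ((ses ι π hιπ).f ≫ ModuleCat.ofHom χ)]
        congr 1
      rw [← h1, ← Ext.mk₀_comp_mk₀]
      exact hS.extClass_comp_assoc _
  exact ⟨((Submodule.quotEquivOfEq _ _ hker.symm).trans (T.quotKerEquivOfSurjective hT)).symm⟩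

end abstract

section ses
variable {A : Type u} [CommRing A] (a₁ a₂ : Ideal A)

/-- the diagonal map `A → A/a₁ × A/a₂`. -/
noncomputable def diag : A →ₗ[A] (A ⧸ a₁) × (A ⧸ a₂) :=
  LinearMap.prod (Submodule.mkQ a₁) (Submodule.mkQ a₂)

/-- the projection `A/a₁ → A/(a₁+a₂)`. -/
noncomputable def pr₁ : (A ⧸ a₁) →ₗ[A] (A ⧸ (a₁ ⊔ a₂)) :=
  Submodule.mapQ a₁ (a₁ ⊔ a₂) LinearMap.id (by
    intro x hx
    rw [Submodule.mem_comap]
    exact Ideal.mem_sup_left hx)

/-- the projection `A/a₂ → A/(a₁+a₂)`. -/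
noncomputable def pr₂ : (A ⧸ a₂) →ₗ[A] (A ⧸ (a₁ ⊔ a₂)) :=
  Submodule.mapQ a₂ (a₁ ⊔ a₂) LinearMap.id (by
    intro x hx
    rw [Submodule.mem_comap]
    exact Ideal.mem_sup_right hx)

/-- the difference map `A/a₁ × A/a₂ → A/(a₁+a₂)`. -/
noncomputable def diff : (A ⧸ a₁) × (A ⧸ a₂) →ₗ[A] (A ⧸ (a₁ ⊔ a₂)) :=
  (pr₁ a₁ a₂).coprod (-(pr₂ a₁ a₂))

theorem diag_apply (x : A) : diag a₁ a₂ x = (Submodule.Quotient.mk x, Submodule.Quotient.mk x) :=
  rfl

theorem diff_apply (x y : A) :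
    diff a₁ a₂ (Submodule.Quotient.mk x, Submodule.Quotient.mk y) =
      Submodule.Quotient.mk (x - y) := by
  unfold diff pr₁ pr₂
  rw [LinearMap.coprod_apply, LinearMap.neg_apply, Submodule.mapQ_apply, Submodule.mapQ_apply,
    LinearMap.id_apply, LinearMap.id_apply, Submodule.Quotient.mk_sub, sub_eq_add_neg]

theorem diag_injective (hinf : a₁ ⊓ a₂ = ⊥) : Function.Injective (diag a₁ a₂) := by
  rw [injective_iff_map_eq_zero]
  intro x hx
  rw [diag_apply, Prod.mk_eq_zero, Submodule.Quotient.mk_eq_zero, Submodule.Quotient.mk_eq_zero]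
    at hx
  have : x ∈ a₁ ⊓ a₂ := ⟨hx.1, hx.2⟩
  rw [hinf] at this
  exact this

theorem diff_surjective : Function.Surjective (diff a₁ a₂) := by
  intro y
  obtain ⟨y, rfl⟩ := Submodule.Quotient.mk_surjective _ y
  refine ⟨(Submodule.Quotient.mk y, Submodule.Quotient.mk 0), ?_⟩
  rw [diff_apply, sub_zero]

theorem exact_diag_diff : Function.Exact (diag a₁ a₂) (diff a₁ a₂) := by
  rintro ⟨x, y⟩
  obtain ⟨x, rfl⟩ := Submodule.Quotient.mk_surjective _ x
  obtain ⟨y, rfl⟩ := Submodule.Quotient.mk_surjective _ y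
  rw [diff_apply, Submodule.Quotient.mk_eq_zero]
  constructor
  · intro h
    obtain ⟨u, hu, v, hv, huv⟩ := Submodule.mem_sup.mp h
    refine ⟨x - u, ?_⟩
    rw [diag_apply, Prod.mk.injEq]
    constructor
    · rw [Submodule.Quotient.eq]
      have : x - u - x = -u := by ring
      rw [this]
      exact a₁.neg_mem hu
    · rw [Submodule.Quotient.eq]
      have : x - u - y = v := by linear_combination -huv
      rw [this]
      exact hv
  · rintro ⟨z, hz⟩
    rw [diag_apply, Prod.mk.injEq, Submodule.Quotient.eq, Submodule.Quotient.eq] at hz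
    have : x - y = -(z - x) + (z - y) := by ring
    rw [this]
    exact Submodule.add_mem_sup (a₁.neg_mem hz.1) hz.2

end ses

section loc
variable (A : Type u) [CommRing A] [LocCoh.IsGorensteinLocalRing A] (a₁ a₂ : Ideal A)
  [LocCoh.IsCohenMacaulayLocalRing (A ⧸ a₁)] [LocCoh.IsCohenMacaulayLocalRing (A ⧸ a₂)]
  (h₁ : ringKrullDim (A ⧸ a₁) = ringKrullDim A) (h₂ : ringKrullDim (A ⧸ a₂) = ringKrullDim A)

include h₁ h₂ in
/-- `Ext^i(A/a₁ × A/a₂, A) = 0` for `i ≥ 1`. -/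
theorem subsingleton_ext_prod (i : ℕ) (hi : 1 ≤ i) :
    Subsingleton (Ext.{u} (ModuleCat.of A ((A ⧸ a₁) × (A ⧸ a₂))) (ModuleCat.of A A) i) := by
  have e1 := Groth.Agent.Lib.H26Liaison.subsingleton_ext_quotient A a₁ h₁ i hi
  have e2 := Groth.Agent.Lib.H26Liaison.subsingleton_ext_quotient A a₂ h₂ i hi
  have hS := ses_shortExact (LinearMap.inl A (A ⧸ a₁) (A ⧸ a₂)) (LinearMap.snd A (A ⧸ a₁) (A ⧸ a₂))
    LinearMap.inl_injective Function.Exact.inl_snd LinearMap.snd_surjective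
  refine subsingleton_of_forall_eq 0 fun x₂ => ?_
  have h0 : (Ext.mk₀ (ses (LinearMap.inl A (A ⧸ a₁) (A ⧸ a₂))
      (LinearMap.snd A (A ⧸ a₁) (A ⧸ a₂)) Function.Exact.inl_snd).f).comp x₂ (zero_add i) = 0 :=
    @Subsingleton.elim _ e1 _ _
  obtain ⟨x₃, rfl⟩ := Ext.contravariant_sequence_exact₂ hS (ModuleCat.of A A) x₂ h0
  have hx₃ : x₃ = 0 := @Subsingleton.elim _ e2 x₃ 0
  rw [hx₃, Ext.comp_zero]

variable (hinf : a₁ ⊓ a₂ = ⊥) (hann₁ : Submodule.annihilator a₁ = a₂)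
  (hann₂ : Submodule.annihilator a₂ = a₁)

include hann₁ hann₂ in
/-- the ideal of values `χ (1, 1)` is `a₁ + a₂`. -/
theorem mem_sup_iff_exists (a : A) :
    a ∈ a₁ ⊔ a₂ ↔ ∃ χ : ((A ⧸ a₁) × (A ⧸ a₂)) →ₗ[A] A, χ (diag a₁ a₂ 1) = a := by
  constructor
  · intro ha
    obtain ⟨u, hu, v, hv, rfl⟩ := Submodule.mem_sup.mp ha
    have hv' : a₁ ≤ LinearMap.ker (LinearMap.toSpanSingleton A A v) := by
      intro x hx
      rw [LinearMap.mem_ker, LinearMap.toSpanSingleton_apply, smul_eq_mul, mul_comm]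
      have : v ∈ Submodule.annihilator a₁ := by rw [hann₁]; exact hv
      exact (Submodule.mem_annihilator.mp this) x hx
    have hu' : a₂ ≤ LinearMap.ker (LinearMap.toSpanSingleton A A u) := by
      intro x hx
      rw [LinearMap.mem_ker, LinearMap.toSpanSingleton_apply, smul_eq_mul, mul_comm]
      have : u ∈ Submodule.annihilator a₂ := by rw [hann₂]; exact hu
      exact (Submodule.mem_annihilator.mp this) x hx
    refine ⟨(Submodule.liftQ a₁ _ hv').coprod (Submodule.liftQ a₂ _ hu'), ?_⟩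
    rw [diag_apply, LinearMap.coprod_apply, Submodule.liftQ_apply, Submodule.liftQ_apply,
      LinearMap.toSpanSingleton_apply, LinearMap.toSpanSingleton_apply, one_smul, one_smul, add_comm]
  · rintro ⟨χ, rfl⟩
    have hsplit : diag a₁ a₂ 1 = ((Submodule.Quotient.mk 1 : A ⧸ a₁), (0 : A ⧸ a₂)) +
        ((0 : A ⧸ a₁), (Submodule.Quotient.mk 1 : A ⧸ a₂)) := by
      rw [diag_apply, Prod.mk_add_mk, add_zero, zero_add]
    rw [hsplit, map_add, sup_comm]
    refine Submodule.add_mem_sup ?_ ?_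
    · have h : χ ((Submodule.Quotient.mk 1 : A ⧸ a₁), (0 : A ⧸ a₂)) ∈
          Submodule.annihilator a₁ := by
        rw [Submodule.mem_annihilator]
        intro x hx
        rw [smul_eq_mul, mul_comm, ← smul_eq_mul, ← map_smul, Prod.smul_mk, smul_zero,
          ← Submodule.Quotient.mk_smul, smul_eq_mul, mul_one,
          (Submodule.Quotient.mk_eq_zero a₁).mpr hx]
        exact map_zero χ
      rwa [hann₁] at h
    · have h : χ ((0 : A ⧸ a₁), (Submodule.Quotient.mk 1 : A ⧸ a₂)) ∈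
          Submodule.annihilator a₂ := by
        rw [Submodule.mem_annihilator]
        intro x hx
        rw [smul_eq_mul, mul_comm, ← smul_eq_mul, ← map_smul, Prod.smul_mk, smul_zero,
          ← Submodule.Quotient.mk_smul, smul_eq_mul, mul_one,
          (Submodule.Quotient.mk_eq_zero a₂).mpr hx]
        exact map_zero χ
      rwa [hann₂] at h

include hinf hann₁ hann₂ in
/-- `Hom(A/(a₁+a₂), A) = 0`. -/
theorem subsingleton_ext_zero :
    Subsingleton (Ext.{u} (ModuleCat.of A (A ⧸ (a₁ ⊔ a₂))) (ModuleCat.of A A) 0) := by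
  refine subsingleton_of_forall_eq 0 fun x => ?_
  obtain ⟨φ, rfl⟩ := (Ext.mk₀_bijective _ _).2 x
  have hφ : φ = 0 := by
    refine ModuleCat.hom_ext (LinearMap.ext fun y => ?_)
    obtain ⟨y, rfl⟩ := Submodule.Quotient.mk_surjective _ y
    have hr : φ.hom (Submodule.Quotient.mk 1) ∈ a₁ ⊓ a₂ := by
      constructor
      · have h : φ.hom (Submodule.Quotient.mk 1) ∈ Submodule.annihilator a₂ := by
          rw [Submodule.mem_annihilator]
          intro x hx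
          rw [smul_eq_mul, mul_comm, ← smul_eq_mul, ← map_smul, ← Submodule.Quotient.mk_smul,
            smul_eq_mul, mul_one,
            (Submodule.Quotient.mk_eq_zero (a₁ ⊔ a₂)).mpr (Ideal.mem_sup_right hx), map_zero]
        rwa [hann₂] at h
      · have h : φ.hom (Submodule.Quotient.mk 1) ∈ Submodule.annihilator a₁ := by
          rw [Submodule.mem_annihilator]
          intro x hx
          rw [smul_eq_mul, mul_comm, ← smul_eq_mul, ← map_smul, ← Submodule.Quotient.mk_smul,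
            smul_eq_mul, mul_one,
            (Submodule.Quotient.mk_eq_zero (a₁ ⊔ a₂)).mpr (Ideal.mem_sup_left hx), map_zero]
        rwa [hann₁] at h
    rw [hinf] at hr
    have hy : (Submodule.Quotient.mk y : A ⧸ (a₁ ⊔ a₂)) = y • Submodule.Quotient.mk 1 := by
      rw [← Submodule.Quotient.mk_smul, smul_eq_mul, mul_one]
    change φ.hom (Submodule.Quotient.mk y) = 0
    rw [hy, map_smul, (Submodule.mem_bot A).mp hr, smul_zero]
  rw [hφ, Ext.mk₀_zero]

end loc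

section main
variable (A : Type u) [CommRing A] [LocCoh.IsGorensteinLocalRing A] (a₁ a₂ : Ideal A)
  [LocCoh.IsCohenMacaulayLocalRing (A ⧸ a₁)] [LocCoh.IsCohenMacaulayLocalRing (A ⧸ a₂)]
  (h₁ : ringKrullDim (A ⧸ a₁) = ringKrullDim A) (h₂ : ringKrullDim (A ⧸ a₂) = ringKrullDim A)
  (hinf : a₁ ⊓ a₂ = ⊥) (hann₁ : Submodule.annihilator a₁ = a₂)
  (hann₂ : Submodule.annihilator a₂ = a₁) (hne : a₁ ⊔ a₂ ≠ ⊤)

include h₁ h₂ hinf hann₁ hann₂ hne in
/-- the sum of two geometrically linked Cohen–Macaulay ideals of a Gorenstein local ring is a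
Gorenstein ideal of height one. -/
theorem isGorensteinLocalRing_quotient_sup :
    LocCoh.IsGorensteinLocalRing (A ⧸ (a₁ ⊔ a₂)) ∧
      ringKrullDim (A ⧸ (a₁ ⊔ a₂)) + 1 = ringKrullDim A := by
  haveI : IsNoetherianRing A := inferInstance
  haveI : IsLocalRing A := inferInstance
  haveI : LocCoh.IsCohenMacaulayLocalRing A :=
    Groth.Agent.Lib.H26CMDim.isCohenMacaulayLocalRing_of_gorenstein A
  obtain ⟨d, hd, -, -⟩ := Groth.Agent.Lib.H29Gorenstein.gorenstein_invariants A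
  set 𝔟 := a₁ ⊔ a₂ with h𝔟
  haveI : Nontrivial (A ⧸ 𝔟) := Ideal.Quotient.nontrivial_iff.mpr hne
  haveI : IsLocalRing (A ⧸ 𝔟) := Groth.Agent.Lib.CMComp33.isLocalRing_quotient 𝔟 hne
  haveI : Module.Finite A (A ⧸ 𝔟) :=
    Module.Finite.of_surjective (Algebra.linearMap A (A ⧸ 𝔟)) Ideal.Quotient.mk_surjective
  have hι := diag_injective a₁ a₂ hinf
  have hιπ := exact_diag_diff a₁ a₂
  have hπ := diff_surjective a₁ a₂
  -- the Ext modules
  have hE0 := subsingleton_ext_zero A a₁ a₂ hinf hann₁ hann₂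
  have hEge : ∀ i, 2 ≤ i → Subsingleton (Ext.{u} (ModuleCat.of A (A ⧸ 𝔟)) (ModuleCat.of A A) i) :=
    fun i hi => subsingleton_ext_of_two_le (diag a₁ a₂) (diff a₁ a₂) hι hιπ hπ i hi
      (subsingleton_ext_prod A a₁ a₂ h₁ h₂ i (by omega))
  obtain ⟨e1⟩ := nonempty_ext_one_equiv (diag a₁ a₂) (diff a₁ a₂) hι hιπ hπ 𝔟
    (mem_sup_iff_exists A a₁ a₂ hann₁ hann₂) (subsingleton_ext_prod A a₁ a₂ h₁ h₂ 1 le_rfl)
  -- the grade of `𝔟` is one
  have hg1 : ((1 : ℕ) : ℕ∞) ≤ LocCoh.idealDepth 𝔟 A := by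
    rw [Groth.Agent.Lib.H29Depth.le_idealDepth_iff_ext' 𝔟 A 1]
    intro i hi
    obtain rfl : i = 0 := by omega
    exact hE0
  have hg2 : ¬ ((2 : ℕ) : ℕ∞) ≤ LocCoh.idealDepth 𝔟 A := by
    rw [Groth.Agent.Lib.H29Depth.le_idealDepth_iff_ext' 𝔟 A 2]
    intro h
    have := h 1 (by omega)
    have hsub : Subsingleton (A ⧸ 𝔟) := e1.symm.injective.subsingleton
    exact not_subsingleton (A ⧸ 𝔟) hsub
  have hgrade : LocCoh.idealDepth 𝔟 A = 1 := by
    generalize LocCoh.idealDepth 𝔟 A = x at hg1 hg2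
    induction x using ENat.recTopCoe with
    | top => exact absurd le_top hg2
    | coe y =>
      have h1 : 1 ≤ y := by exact_mod_cast hg1
      have h2 : ¬ 2 ≤ y := by exact_mod_cast hg2
      have : y = 1 := by omega
      rw [this]; rfl
  have hdimeq := Groth.Agent.Lib.H8CM.ringKrullDim_eq_add_idealDepth (R := A) hne
  rw [hgrade] at hdimeq
  have hdim : ringKrullDim (A ⧸ 𝔟) + 1 = ringKrullDim A := by
    rw [hdimeq]; rfl
  refine ⟨?_, hdim⟩
  obtain ⟨d', hd'⟩ := Groth.Agent.Lib.H26GorFin.exists_nat_ringKrullDim_quotient 𝔟 hne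
  have hdd : d' + 1 = d := by
    rw [hd', hd] at hdim
    exact_mod_cast hdim
  -- depth
  have hIM := Groth.Agent.Lib.DepthRees.maximalIdeal_smul_top_ne_top (R := A) (A ⧸ 𝔟)
  obtain ⟨t, ht⟩ := Groth.Agent.Lib.H8CM.exists_nat_depth (R := A) (M := A ⧸ 𝔟)
  have hnt := ((Groth.Agent.S0318.result A (IsLocalRing.maximalIdeal A) (A ⧸ 𝔟) hIM t).mp ht).2
  have htd : d' ≤ t := by
    by_contra hlt
    rw [not_le] at hlt
    have hsub : Subsingleton (LocCoh.H (IsLocalRing.maximalIdeal A) t (A ⧸ 𝔟)) :=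
      (Groth.Agent.Lib.H26GorLoc.gor_subsingleton_H_iff A d hd (A ⧸ 𝔟) (d - t) t (by omega)).mpr
        (hEge (d - t) (by omega))
    exact not_subsingleton _ hsub
  have hle := Groth.Agent.Lib.DepthRees.depth_le_supportDim (R := A) (A ⧸ 𝔟)
  rw [Module.supportDim_quotient_eq_ringKrullDim, ht, hd'] at hle
  have htd' : t ≤ d' := by exact_mod_cast hle
  have htd'' : t = d' := le_antisymm htd' htd
  haveI : LocCoh.IsCohenMacaulayLocalRing (A ⧸ 𝔟) := by
    refine { supportDim_eq_depth := ?_ }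
    rw [Module.supportDim_self_eq_ringKrullDim, ← Groth.Agent.Lib.CMFlat33.depth_quotient_eq, ht,
      hd', htd'']
    rfl
  have hg : Function.Surjective (algebraMap A (A ⧸ 𝔟)) := Ideal.Quotient.mk_surjective
  refine Groth.Agent.Lib.H26GorQuot.isGorensteinLocalRing_of_ext_equiv hg d' d hd' hd ?_
  have h1 : d - d' = 1 := by omega
  rw [h1]
  exact e1

end main

section ring
variable (S : Type u) [CommRing S] [LocCoh.IsGorensteinRing S] (𝔞₁ 𝔞₂ : Ideal S)
  [LocCoh.IsCohenMacaulayRing (S ⧸ 𝔞₁)] [LocCoh.IsCohenMacaulayRing (S ⧸ 𝔞₂)]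
  (hmin₁ : ∀ p ∈ 𝔞₁.minimalPrimes, p.height = 0) (hmin₂ : ∀ p ∈ 𝔞₂.minimalPrimes, p.height = 0)
  (hinf : 𝔞₁ ⊓ 𝔞₂ = ⊥) (hann₁ : Submodule.annihilator 𝔞₁ = 𝔞₂)
  (hann₂ : Submodule.annihilator 𝔞₂ = 𝔞₁)

include hmin₁ hmin₂ hinf hann₁ hann₂ in
/-- the local statement at a prime containing `𝔞₁ + 𝔞₂`. -/
theorem local_core (Q : Ideal S) [Q.IsPrime] (hQ : 𝔞₁ ⊔ 𝔞₂ ≤ Q) :
    LocCoh.IsGorensteinLocalRing
        (Localization.AtPrime Q ⧸ (𝔞₁ ⊔ 𝔞₂).map (algebraMap S (Localization.AtPrime Q))) ∧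
      ringKrullDim (Localization.AtPrime Q ⧸
        (𝔞₁ ⊔ 𝔞₂).map (algebraMap S (Localization.AtPrime Q))) + 1 =
        ringKrullDim (Localization.AtPrime Q) := by
  haveI : IsNoetherianRing S := inferInstance
  set A := Localization.AtPrime Q with hA
  haveI : LocCoh.IsGorensteinLocalRing A :=
    LocCoh.IsGorensteinRing.isGorensteinLocalRing_localization Q
  obtain ⟨hcm₁, hdim₁⟩ := Groth.Agent.Lib.H26LinkCM.isCM_and_dim_localization S 𝔞₁ hmin₁ Q
    (le_sup_left.trans hQ)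
  obtain ⟨hcm₂, hdim₂⟩ := Groth.Agent.Lib.H26LinkCM.isCM_and_dim_localization S 𝔞₂ hmin₂ Q
    (le_sup_right.trans hQ)
  have hinf' : 𝔞₁.map (algebraMap S A) ⊓ 𝔞₂.map (algebraMap S A) = ⊥ := by
    rw [← IsLocalization.map_inf Q.primeCompl A, hinf, Ideal.map_bot]
  have hann₁' : Submodule.annihilator (𝔞₁.map (algebraMap S A)) = 𝔞₂.map (algebraMap S A) := by
    rw [← Groth.Agent.Lib.H26LinkCM.map_annihilator Q.primeCompl A 𝔞₁, hann₁]
  have hann₂' : Submodule.annihilator (𝔞₂.map (algebraMap S A)) = 𝔞₁.map (algebraMap S A) := by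
    rw [← Groth.Agent.Lib.H26LinkCM.map_annihilator Q.primeCompl A 𝔞₂, hann₂]
  have hne : 𝔞₁.map (algebraMap S A) ⊔ 𝔞₂.map (algebraMap S A) ≠ ⊤ := by
    rw [← Ideal.map_sup]
    exact Groth.Agent.Lib.H8CMOpen.map_ne_top _ Q hQ
  rw [Ideal.map_sup]
  exact isGorensteinLocalRing_quotient_sup A _ _ hdim₁ hdim₂ hinf' hann₁' hann₂' hne

include hmin₁ hmin₂ hinf hann₁ hann₂ in
/-- the sum of two geometrically linked Cohen–Macaulay ideals of a Gorenstein ring defines a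
Gorenstein ring. -/
theorem isGorensteinRing_quotient_sup : LocCoh.IsGorensteinRing (S ⧸ (𝔞₁ ⊔ 𝔞₂)) := by
  haveI : IsNoetherianRing S := inferInstance
  refine { isGorensteinLocalRing_localization := ?_ }
  intro q hq
  set Q : Ideal S := q.comap (Ideal.Quotient.mk (𝔞₁ ⊔ 𝔞₂)) with hQ
  haveI : Q.IsPrime := Ideal.comap_isPrime _ _
  have hQle : 𝔞₁ ⊔ 𝔞₂ ≤ Q := by
    intro x hx
    rw [hQ, Ideal.mem_comap, Ideal.Quotient.eq_zero_iff_mem.mpr hx]
    exact Ideal.zero_mem _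
  let e := Groth.Agent.Lib.H8GradedCM.localizationQuotientEquiv Q (𝔞₁ ⊔ 𝔞₂) q rfl
  haveI := (local_core S 𝔞₁ 𝔞₂ hmin₁ hmin₂ hinf hann₁ hann₂ Q hQle).1
  exact Groth.Agent.S16185.isGorensteinLocalRing_of_ringEquiv e

include hmin₁ hmin₂ hinf hann₁ hann₂ in
/-- every minimal prime of `𝔞₁ + 𝔞₂` has height one. -/
theorem height_eq_one_of_mem_minimalPrimes (Q : Ideal S) (hQmin : Q ∈ (𝔞₁ ⊔ 𝔞₂).minimalPrimes) :
    Q.height = 1 := by
  haveI : Q.IsPrime := hQmin.1.1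
  have hcore := (local_core S 𝔞₁ 𝔞₂ hmin₁ hmin₂ hinf hann₁ hann₂ Q hQmin.1.2).2
  have hQmin2 := hQmin
  rw [Ideal.minimalPrimes_eq_comap] at hQmin2
  obtain ⟨q', hq', hq'Q⟩ := hQmin2
  haveI : q'.IsPrime := hq'.1.1
  have h0 : ringKrullDim (Localization.AtPrime Q ⧸
      (𝔞₁ ⊔ 𝔞₂).map (algebraMap S (Localization.AtPrime Q))) = 0 := by
    rw [← Groth.Agent.Lib.H8GradedCM.ringKrullDim_localization_quotient Q _ q' hq'Q,
      IsLocalization.AtPrime.ringKrullDim_eq_height q', Ideal.height_eq_zero_iff.mpr hq']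
    rfl
  rw [h0, IsLocalization.AtPrime.ringKrullDim_eq_height Q, zero_add] at hcore
  have : ((1 : ℕ∞) : WithBot ℕ∞) = (Q.height : WithBot ℕ∞) := hcore
  exact (WithBot.coe_injective this).symm

end ring

end Groth.Agent.Lib.H26GeomLink
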