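import Mathlib.Tactic
import Mathlib.LinearAlgebra.Matrix.Adjugate
import Mathlib.LinearAlgebra.Matrix.ToLin
import Groth.Prelude.Def_CAlgX

/-!
# Linear algebra for the Hilbert–Burch complex (helper26)

For `Ψ : Matrix (Fin (t+1)) (Fin t) R`, with `δ Ψ i = det (Ψ with row i deleted)`:
* `bord Ψ v = [v | Ψ]`, `det_bord : det [v | Ψ] = Σ (-1)^i v_i δ_i`;
* `sum_mulVec : Σ (-1)^i (Ψ w)_i δ_i = 0` (complex property);
* `exists_mulVec_eq : Σ (-1)^i v_i δ_i = 0 → ∀ c, ∃ w, Ψ w = δ_c • v` (Cramer);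
* `delta_smul_eq_zero : Ψ w = 0 → δ_c • w = 0`;
* `det_submatrix_mem`, `minorIdeal_eq : CAlgX.minorIdeal Ψ t = span (range (δ Ψ))`.
-/

set_option autoImplicit false
universe u

namespace Groth.Agent.Lib.H26HilbertBurch

variable {R : Type u} [CommRing R] {t : ℕ} (Ψ : Matrix (Fin (t + 1)) (Fin t) R)

/-- the maximal minor obtained by deleting row `i` -/
noncomputable abbrev δ (i : Fin (t + 1)) : R := (Ψ.submatrix i.succAbove id).det

/-- the bordered matrix `[v | Ψ]` -/
def bord (v : Fin (t + 1) → R) : Matrix (Fin (t + 1)) (Fin (t + 1)) R :=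
  Matrix.of fun i => Fin.cons (v i) (Ψ i)

@[simp] lemma bord_zero (v : Fin (t + 1) → R) (i : Fin (t + 1)) : bord Ψ v i 0 = v i := rfl

@[simp] lemma bord_succ (v : Fin (t + 1) → R) (i : Fin (t + 1)) (j : Fin t) :
    bord Ψ v i j.succ = Ψ i j := rfl

lemma bord_submatrix (v : Fin (t + 1) → R) (i : Fin (t + 1)) :
    (bord Ψ v).submatrix i.succAbove Fin.succ = Ψ.submatrix i.succAbove id := by
  ext a b
  simp

lemma det_bord (v : Fin (t + 1) → R) :
    (bord Ψ v).det = ∑ i : Fin (t + 1), (-1) ^ (i : ℕ) * v i * δ Ψ i := by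
  rw [Matrix.det_succ_column_zero]
  refine Finset.sum_congr rfl fun i _ => ?_
  rw [bord_submatrix, bord_zero]

lemma det_bord_col (j : Fin t) : (bord Ψ (fun i => Ψ i j)).det = 0 := by
  apply Matrix.det_zero_of_column_eq (i := 0) (j := j.succ) (Fin.succ_ne_zero j).symm
  intro k
  simp

/-- the complex property -/
lemma sum_mulVec (w : Fin t → R) :
    ∑ i : Fin (t + 1), (-1) ^ (i : ℕ) * (Ψ.mulVec w) i * δ Ψ i = 0 := by
  have h : ∀ i : Fin (t + 1), (-1) ^ (i : ℕ) * (Ψ.mulVec w) i * δ Ψ i =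
      ∑ j, w j * ((-1) ^ (i : ℕ) * Ψ i j * δ Ψ i) := by
    intro i
    simp only [Matrix.mulVec, dotProduct, Finset.mul_sum, Finset.sum_mul]
    refine Finset.sum_congr rfl fun j _ => ?_
    ring
  simp_rw [h]
  rw [Finset.sum_comm]
  refine Finset.sum_eq_zero fun j _ => ?_
  rw [← Finset.mul_sum, ← det_bord Ψ (fun i => Ψ i j), det_bord_col, mul_zero]

/-- Cramer -/
lemma exists_mulVec_eq (v : Fin (t + 1) → R) (hv : ∑ i : Fin (t + 1), (-1) ^ (i : ℕ) * v i * δ Ψ i = 0)
    (c : Fin (t + 1)) : ∃ w : Fin t → R, Ψ.mulVec w = δ Ψ c • v := by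
  have hdet : (bord Ψ v).det = 0 := by rw [det_bord, hv]
  have h1 := Matrix.mul_adjugate (bord Ψ v)
  rw [hdet, zero_smul] at h1
  refine ⟨fun j => - ((-1) ^ (c : ℕ) * (bord Ψ v).adjugate j.succ c), ?_⟩
  ext i
  have h2 := congrFun (congrFun h1 i) c
  rw [Matrix.mul_apply, Fin.sum_univ_succ] at h2
  simp only [bord_zero, bord_succ, Matrix.zero_apply] at h2
  rw [Matrix.adjugate_fin_succ_eq_det_submatrix, Fin.succAbove_zero, bord_submatrix] at h2
  simp only [Matrix.mulVec, dotProduct, Pi.smul_apply, smul_eq_mul]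
  have h3 : ((-1 : R) ^ (c : ℕ)) * ((-1) ^ (c : ℕ)) = 1 := by
    rw [← pow_add, ← two_mul, pow_mul]; simp
  simp only [Fin.val_zero, add_zero] at h2
  have h4 : ∑ x, Ψ i x * -((-1) ^ (c : ℕ) * (bord Ψ v).adjugate x.succ c) =
      - ((-1) ^ (c : ℕ) * ∑ x, Ψ i x * (bord Ψ v).adjugate x.succ c) := by
    rw [Finset.mul_sum, ← Finset.sum_neg_distrib]
    refine Finset.sum_congr rfl fun x _ => ?_
    ring
  rw [h4]
  have h5 : ∑ x, Ψ i x * (bord Ψ v).adjugate x.succ c = - (v i * ((-1) ^ (c : ℕ) * δ Ψ c)) := by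
    rw [eq_neg_iff_add_eq_zero, add_comm]; exact h2
  rw [h5]
  linear_combination (v i * δ Ψ c) * h3

/-- minors kill the kernel -/
lemma delta_smul_eq_zero (w : Fin t → R) (hw : Ψ.mulVec w = 0) (c : Fin (t + 1)) :
    δ Ψ c • w = 0 := by
  have h1 : (Ψ.submatrix c.succAbove id).mulVec w = 0 := by
    ext i
    have := congrFun hw (c.succAbove i)
    simpa [Matrix.mulVec, dotProduct] using this
  have h2 : ((Ψ.submatrix c.succAbove id).adjugate * (Ψ.submatrix c.succAbove id)).mulVec w = 0 := by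
    rw [← Matrix.mulVec_mulVec, h1, Matrix.mulVec_zero]
  rw [Matrix.adjugate_mul, Matrix.smul_mulVec, Matrix.one_mulVec] at h2
  exact h2

end Groth.Agent.Lib.H26HilbertBurch

namespace Groth.Agent.Lib.H26HilbertBurch

variable {R : Type u} [CommRing R] {t : ℕ} (Ψ : Matrix (Fin (t + 1)) (Fin t) R)

lemma det_submatrix_mem (f : Fin t → Fin (t + 1)) (g : Fin t → Fin t) :
    (Ψ.submatrix f g).det ∈ Ideal.span (Set.range (δ Ψ)) := by
  classical
  by_cases hg : Function.Injective g
  · have hgb : Function.Bijective g := Finite.injective_iff_bijective.mp hg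
    let σ : Equiv.Perm (Fin t) := Equiv.ofBijective g hgb
    have h1 : Ψ.submatrix f g = (Ψ.submatrix f id).submatrix id σ := by
      ext a b; rfl
    rw [h1, Matrix.det_permute']
    apply Ideal.mul_mem_left
    by_cases hf : Function.Injective f
    · have hns : ¬ Function.Surjective f := by
        intro hs
        have := Fintype.card_le_of_surjective f hs
        simp at this
      rw [Function.Surjective] at hns
      push_neg at hns
      obtain ⟨i, hi⟩ := hns
      have hex : ∀ a, ∃ b, i.succAbove b = f a := fun a => Fin.exists_succAbove_eq (hi a)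
      choose τ hτ using hex
      have hτi : Function.Injective τ := by
        intro a b hab
        apply hf
        rw [← hτ a, ← hτ b, hab]
      let τ' : Equiv.Perm (Fin t) := Equiv.ofBijective τ (Finite.injective_iff_bijective.mp hτi)
      have h2 : Ψ.submatrix f id = (Ψ.submatrix i.succAbove id).submatrix τ' id := by
        ext a b
        simp [τ', hτ]
      rw [h2, Matrix.det_permute]
      apply Ideal.mul_mem_left
      exact Ideal.subset_span ⟨i, rfl⟩
    · rw [Function.Injective] at hf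
      push_neg at hf
      obtain ⟨a, b, hab, hne⟩ := hf
      rw [Matrix.det_zero_of_row_eq hne]
      · exact Ideal.zero_mem _
      · ext c; simp [hab]
  · rw [Function.Injective] at hg
    push_neg at hg
    obtain ⟨a, b, hab, hne⟩ := hg
    rw [Matrix.det_zero_of_column_eq hne]
    · exact Ideal.zero_mem _
    · intro k; simp [hab]

lemma minorIdeal_eq : CAlgX.minorIdeal Ψ t = Ideal.span (Set.range (δ Ψ)) := by
  apply le_antisymm
  · unfold CAlgX.minorIdeal
    rw [Ideal.span_le]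
    rintro _ ⟨fg, rfl⟩
    exact det_submatrix_mem Ψ fg.1 fg.2
  · rw [Ideal.span_le]
    rintro _ ⟨i, rfl⟩
    exact Ideal.subset_span ⟨(i.succAbove, id), rfl⟩

end Groth.Agent.Lib.H26HilbertBurch
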