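import Mathlib.Tactic
import Mathlib.LinearAlgebra.Matrix.ToLinearEquiv
import Mathlib.RingTheory.UniqueFactorizationDomain.Basic
import Groth.Agent.Lib.H26HilbertBurch

/-!
# Hilbert–Burch, the structure direction: linear algebra over domains / UFDs (helper26)

For `Ψ : Matrix (Fin (t+1)) (Fin t) R`, `δ Ψ i = det (Ψ with row i deleted)`:
* `exists_ne_zero_mulVec_eq_zero` : over a domain, if all `δ Ψ i = 0` then `Ψ` has a nonzero kernel
  vector;
* `mul_eq_mul_of_range_le_ker` : if `g ∘ Ψ = 0` and some minor is nonzero (domain) then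
  `g i * f j = g j * f i` where `f k = (-1)^k δ_k`;
* `not_forall_prime_dvd` : if `0 → R^t → R^{t+1} → R` (maps `Ψ`, `g`) is exact over a domain then no
  prime element divides all maximal minors;
* `exists_eq_mul` : over a UFD, exactness gives `a` with `g i = a * f i` for all `i`.
-/

set_option autoImplicit false
universe u

namespace Groth.Agent.Lib.H26HB2

open Groth.Agent.Lib.H26HilbertBurch

section Domain

variable {D : Type u} [CommRing D] [IsDomain D] {t : ℕ}

lemma bord_mulVec (M : Matrix (Fin (t + 1)) (Fin t) D) (v : Fin (t + 1) → D)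
    (u : Fin (t + 1) → D) :
    (bord M v).mulVec u = u 0 • v + M.mulVec (fun j => u j.succ) := by
  ext k
  simp only [Matrix.mulVec, dotProduct, Pi.add_apply, Pi.smul_apply, smul_eq_mul]
  rw [Fin.sum_univ_succ]
  simp only [bord_zero, bord_succ]
  ring

/-- Over a domain, a `(t+1) × t` matrix all of whose maximal minors vanish has a nonzero kernel
vector. -/
theorem exists_ne_zero_mulVec_eq_zero (M : Matrix (Fin (t + 1)) (Fin t) D)
    (h : ∀ i, δ M i = 0) : ∃ w : Fin t → D, w ≠ 0 ∧ M.mulVec w = 0 := by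
  classical
  have hdet : ∀ v : Fin (t + 1) → D, (bord M v).det = 0 := by
    intro v
    rw [det_bord]
    exact Finset.sum_eq_zero fun i _ => by rw [h i, mul_zero]
  have hker : ∀ i : Fin (t + 1), ∃ u : Fin (t + 1) → D, u ≠ 0 ∧
      u 0 • (Pi.single i (1 : D) : Fin (t + 1) → D) + M.mulVec (fun j => u j.succ) = 0 := by
    intro i
    obtain ⟨u, hu, hu0⟩ := Matrix.exists_mulVec_eq_zero_iff.mpr (hdet (Pi.single i 1))
    exact ⟨u, hu, by rw [← bord_mulVec]; exact hu0⟩
  choose u hu hu0 using hker
  by_cases hex : ∃ i, u i 0 = 0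
  · obtain ⟨i, hi⟩ := hex
    refine ⟨fun j => u i j.succ, ?_, ?_⟩
    · intro hw
      apply hu i
      funext k
      refine Fin.cases ?_ (fun j => ?_) k
      · simpa using hi
      · simpa using congrFun hw j
    · have := hu0 i
      rwa [hi, zero_smul, zero_add] at this
  · exfalso
    push_neg at hex
    let K := FractionRing D
    let MK : Matrix (Fin (t + 1)) (Fin t) K := M.map (algebraMap D K)
    have hsurj : Function.Surjective MK.mulVecLin := by
      rw [← LinearMap.range_eq_top, eq_top_iff]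
      intro x _
      have hx : x = ∑ i, x i • (Pi.single i (1 : K) : Fin (t + 1) → K) := by
        funext j
        simp [Finset.sum_apply, Pi.single_apply]
      rw [hx]
      refine Submodule.sum_mem _ fun i _ => Submodule.smul_mem _ _ ?_
      have hci : algebraMap D K (u i 0) ≠ 0 := by
        rw [Ne, IsFractionRing.to_map_eq_zero_iff]; exact hex i
      refine ⟨(-(algebraMap D K (u i 0))⁻¹) • (fun j => algebraMap D K (u i j.succ)), ?_⟩
      rw [map_smul]
      have h1 : MK.mulVecLin (fun j => algebraMap D K (u i j.succ)) =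
          - (algebraMap D K (u i 0) • (Pi.single i (1 : K) : Fin (t + 1) → K)) := by
        funext k
        have h2 := congrFun (hu0 i) k
        have h3 := congrArg (algebraMap D K) h2
        simp only [Pi.add_apply, Pi.smul_apply, smul_eq_mul, Pi.zero_apply, map_add, map_mul,
          map_zero] at h3
        have h4 : (MK.mulVecLin (fun j => algebraMap D K (u i j.succ))) k =
            algebraMap D K ((M.mulVec (fun j => u i j.succ)) k) := by
          rw [Matrix.mulVecLin_apply]
          exact (RingHom.map_mulVec (algebraMap D K) M (fun j => u i j.succ) k).symm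
        rw [h4]
        simp only [Pi.neg_apply, Pi.smul_apply, smul_eq_mul]
        have h5 : algebraMap D K ((Pi.single i (1 : D) : Fin (t + 1) → D) k) =
            (Pi.single i (1 : K) : Fin (t + 1) → K) k := by
          by_cases hk : k = i
          · subst hk; simp
          · simp [Pi.single_apply, hk]
        rw [← h5]
        linear_combination h3
      rw [h1, smul_neg, neg_smul, neg_neg, smul_smul, inv_mul_cancel₀ hci, one_smul]
    have := le_of_fin_surjective K MK.mulVecLin hsurj
    omega

/-- If `g ∘ Ψ = 0` and some maximal minor is nonzero, then `g` is proportional to the vector of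
signed maximal minors. -/
theorem mul_eq_mul_of_range_le_ker (Ψ : Matrix (Fin (t + 1)) (Fin t) D) (g : Fin (t + 1) → D)
    (hle : LinearMap.range Ψ.mulVecLin ≤ LinearMap.ker (Fintype.linearCombination D g))
    (c : Fin (t + 1)) (hc : δ Ψ c ≠ 0) (i j : Fin (t + 1)) :
    g i * ((-1) ^ (j : ℕ) * δ Ψ j) = g j * ((-1) ^ (i : ℕ) * δ Ψ i) := by
  classical
  set f : Fin (t + 1) → D := fun k => (-1) ^ (k : ℕ) * δ Ψ k with hf
  let v : Fin (t + 1) → D := f j • Pi.single i 1 - f i • Pi.single j 1
  have hsq : ∀ k : ℕ, ((-1 : D) ^ k) * ((-1) ^ k) = 1 := by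
    intro k
    rw [← pow_add, ← two_mul, pow_mul]; simp
  have hv : ∑ k : Fin (t + 1), (-1) ^ (k : ℕ) * v k * δ Ψ k = 0 := by
    have h1 : ∀ k : Fin (t + 1), (-1) ^ (k : ℕ) * v k * δ Ψ k =
        f j * ((Pi.single i (1 : D) : Fin (t + 1) → D) k * f k) -
          f i * ((Pi.single j (1 : D) : Fin (t + 1) → D) k * f k) := by
      intro k
      simp only [v, hf, Pi.sub_apply, Pi.smul_apply, smul_eq_mul]
      ring
    simp_rw [h1]
    rw [Finset.sum_sub_distrib, ← Finset.mul_sum, ← Finset.mul_sum]
    simp only [Pi.single_apply, ite_mul, one_mul, zero_mul, Finset.sum_ite_eq', Finset.mem_univ,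
      if_true]
    ring
  obtain ⟨w, hw⟩ := exists_mulVec_eq Ψ v hv c
  have h2 : Fintype.linearCombination D g (δ Ψ c • v) = 0 := by
    rw [← hw]
    exact hle ⟨w, rfl⟩
  rw [map_smul, smul_eq_mul, mul_eq_zero] at h2
  have h3 := h2.resolve_left hc
  rw [Fintype.linearCombination_apply] at h3
  have h4 : ∑ k, v k • g k = f j * g i - f i * g j := by
    simp only [v, Pi.sub_apply, Pi.smul_apply, smul_eq_mul, sub_mul, Finset.sum_sub_distrib]
    simp only [Pi.single_apply, mul_ite, mul_one, mul_zero, ite_mul, zero_mul,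
      Finset.sum_ite_eq', Finset.mem_univ, if_true]
  rw [h4] at h3
  simp only [hf] at h3
  linear_combination h3

/-- In an exact complex `0 → R^t → R^{t+1} → R` (maps `Ψ`, `g`) over a domain no prime element
divides all maximal minors of `Ψ`. -/
theorem not_forall_prime_dvd (Ψ : Matrix (Fin (t + 1)) (Fin t) D) (g : Fin (t + 1) → D)
    (hinj : Function.Injective Ψ.mulVecLin)
    (hex : LinearMap.range Ψ.mulVecLin = LinearMap.ker (Fintype.linearCombination D g))
    (p : D) (hp : Prime p) : ¬ ∀ i, p ∣ δ Ψ i := by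
  intro hdvd
  have hprime : (Ideal.span {p} : Ideal D).IsPrime :=
    (Ideal.span_singleton_prime hp.ne_zero).mpr hp
  let Q := D ⧸ (Ideal.span {p} : Ideal D)
  let mk : D →+* Q := Ideal.Quotient.mk _
  let M : Matrix (Fin (t + 1)) (Fin t) Q := Ψ.map mk
  have hM : ∀ i, δ M i = 0 := by
    intro i
    have h1 : M.submatrix i.succAbove id = (Ψ.submatrix i.succAbove id).map mk := by
      ext a b; rfl
    show (M.submatrix i.succAbove id).det = 0
    rw [h1]
    have h2 := RingHom.map_det mk (Ψ.submatrix i.succAbove id)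
    rw [RingHom.mapMatrix_apply] at h2
    rw [← h2]
    exact Ideal.Quotient.eq_zero_iff_mem.mpr (Ideal.mem_span_singleton.mpr (hdvd i))
  obtain ⟨wbar, hwbar, hMw⟩ := exists_ne_zero_mulVec_eq_zero M hM
  choose w hw using fun j => Ideal.Quotient.mk_surjective (wbar j)
  have hwcomp : (mk ∘ w) = wbar := funext hw
  have h1 : ∀ k, (Ψ.mulVec w) k ∈ (Ideal.span {p} : Ideal D) := by
    intro k
    rw [← Ideal.Quotient.eq_zero_iff_mem]
    have := RingHom.map_mulVec mk Ψ w k
    rw [hwcomp] at this
    show mk ((Ψ.mulVec w) k) = 0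
    rw [this]
    exact congrFun hMw k
  choose v hv using fun k => Ideal.mem_span_singleton'.mp (h1 k)
  have h2 : Ψ.mulVec w = p • v := by
    funext k
    rw [Pi.smul_apply, smul_eq_mul, mul_comm]; exact (hv k).symm
  have h3 : Fintype.linearCombination D g (p • v) = 0 := by
    rw [← h2]
    have : Ψ.mulVec w ∈ LinearMap.range Ψ.mulVecLin := ⟨w, rfl⟩
    rw [hex] at this
    exact this
  rw [map_smul, smul_eq_mul, mul_eq_zero] at h3
  have h4 : v ∈ LinearMap.ker (Fintype.linearCombination D g) := h3.resolve_left hp.ne_zero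
  rw [← hex] at h4
  obtain ⟨w', hw'⟩ := h4
  have h5 : Ψ.mulVecLin w = Ψ.mulVecLin (p • w') := by
    rw [map_smul, hw']; exact h2
  have h6 := hinj h5
  apply hwbar
  funext j
  rw [← hw j, h6]
  show mk ((p • w') j) = 0
  rw [Pi.smul_apply, smul_eq_mul]
  exact Ideal.Quotient.eq_zero_iff_mem.mpr
    (Ideal.mul_mem_right _ _ (Ideal.mem_span_singleton_self p))

end Domain

section UFD

variable {D : Type u} [CommRing D] [IsDomain D] [UniqueFactorizationMonoid D]

/-- In a UFD: if no prime divides all `f i` and `a ∣ b * f i` for all `i`, then `a ∣ b`. -/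
theorem dvd_of_forall_dvd_mul {ι : Type*} (f : ι → D) (hf : ∀ p : D, Prime p → ∃ i, ¬ p ∣ f i)
    (hne : ∃ i, f i ≠ 0) (a : D) : ∀ b : D, (∀ i, a ∣ b * f i) → a ∣ b := by
  refine UniqueFactorizationMonoid.induction_on_prime a ?_ ?_ ?_
  · intro b hb
    obtain ⟨i, hi⟩ := hne
    have := zero_dvd_iff.mp (hb i)
    rw [mul_eq_zero] at this
    rw [this.resolve_right hi]
  · intro x hx b _
    exact hx.dvd
  · intro a p ha hp ih b hb
    obtain ⟨b', rfl⟩ := ih b (fun i => (Dvd.intro_left p rfl).trans (hb i))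
    obtain ⟨i, hi⟩ := hf p hp
    have h1 : p ∣ b' * f i := by
      have := hb i
      rw [mul_comm p a, mul_assoc] at this
      exact (mul_dvd_mul_iff_left ha).mp this
    have h2 : p ∣ b' := (hp.dvd_or_dvd h1).resolve_right hi
    rw [mul_comm p a]
    exact mul_dvd_mul_left a h2

variable {t : ℕ}

/-- **Hilbert–Burch** (UFD form): in an exact complex `0 → R^t → R^{t+1} → R` with maps `Ψ`, `g`
over a UFD, `g` is a multiple of the vector of signed maximal minors of `Ψ`. -/
theorem exists_eq_mul (Ψ : Matrix (Fin (t + 1)) (Fin t) D) (g : Fin (t + 1) → D)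
    (hinj : Function.Injective Ψ.mulVecLin)
    (hex : LinearMap.range Ψ.mulVecLin = LinearMap.ker (Fintype.linearCombination D g)) :
    ∃ a : D, ∀ i, g i = a * ((-1) ^ (i : ℕ) * δ Ψ i) := by
  have hunit : ∀ k : ℕ, IsUnit ((-1 : D) ^ k) := fun k => (isUnit_one.neg).pow k
  -- some minor is nonzero
  have hc : ∃ c, δ Ψ c ≠ 0 := by
    by_contra hcon
    push_neg at hcon
    obtain ⟨w, hw, hw0⟩ := exists_ne_zero_mulVec_eq_zero Ψ hcon
    apply hw
    apply hinj
    rw [map_zero]
    exact hw0
  obtain ⟨c, hc⟩ := hc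
  set f : Fin (t + 1) → D := fun k => (-1) ^ (k : ℕ) * δ Ψ k with hf
  have hprop := mul_eq_mul_of_range_le_ker Ψ g hex.le c hc
  have hfc : f c ≠ 0 := mul_ne_zero (hunit _).ne_zero hc
  have hnp : ∀ p : D, Prime p → ∃ i, ¬ p ∣ f i := by
    intro p hp
    by_contra hcon
    push_neg at hcon
    exact not_forall_prime_dvd Ψ g hinj hex p hp
      (fun i => ((hunit _).dvd_mul_left).mp (hcon i))
  have hdvd : f c ∣ g c := by
    apply dvd_of_forall_dvd_mul f hnp ⟨c, hfc⟩ (f c) (g c)
    intro i
    exact ⟨g i, by rw [mul_comm (f c)]; exact (hprop c i)⟩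
  obtain ⟨a, ha⟩ := hdvd
  refine ⟨a, fun i => ?_⟩
  have h1 := hprop i c
  have h2 : g i * f c = (a * f i) * f c := by
    calc g i * f c = g c * f i := h1
      _ = (a * f i) * f c := by rw [ha]; ring
  exact mul_right_cancel₀ hfc h2

end UFD

end Groth.Agent.Lib.H26HB2
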