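import Mathlib
import Groth.Agent.Lib.H87GlDim2
import Groth.Agent.Lib.H87Serre2
import Groth.Agent.Lib.RegularLocal

/-!
# Regular local rings are unique factorization domains (Auslander–Buchsbaum) — helper6

* `FFR A n M` : `M` has a finite free resolution of length `≤ n`.
* `FFR.baseChange`, `FFR.of_linearEquiv`, `FFR.of_hasProjectiveDimensionLT`.
* `exists_prod_equiv_of_projective` : projective + FFR ⇒ stably free.
* `isPrincipal_of_prod_equiv` : determinant trick: `P × A^a ≅ A × A^a` ⇒ the ideal `P` is principal.
* `ufd_of_isRegularLocalRing` : a regular local ring is a UFD.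
-/

set_option autoImplicit false
universe u

namespace Groth.Agent.Lib.RegUFD6

open Module

section DetTrick

variable {A : Type u} [CommRing A]

theorem det_smul_id_self (t : A) : LinearMap.det (t • (LinearMap.id : A →ₗ[A] A)) = t := by
  rcases subsingleton_or_nontrivial A with h | h
  · exact Subsingleton.elim _ _
  · rw [LinearMap.det_smul, LinearMap.det_id, Module.finrank_self]
    simp

/-- **Determinant trick**: if `P × A^a ≅ A × A^a` then the ideal `P` is principal. -/
theorem isPrincipal_of_prod_equiv (P : Ideal A) (a : ℕ)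
    (e : (P × (Fin a → A)) ≃ₗ[A] (A × (Fin a → A))) : P.IsPrincipal := by
  classical
  let j : (P × (Fin a → A)) →ₗ[A] (A × (Fin a → A)) := LinearMap.prodMap P.subtype LinearMap.id
  let T : (A × (Fin a → A)) →ₗ[A] (A × (Fin a → A)) := j ∘ₗ e.symm.toLinearMap
  let D : A := LinearMap.det T
  -- every `t ∈ P` is a multiple of `D`
  have h1 : ∀ t ∈ P, D ∣ t := by
    intro t ht
    let c : A →ₗ[A] P := LinearMap.toSpanSingleton A P ⟨t, ht⟩
    let G : (A × (Fin a → A)) →ₗ[A] (A × (Fin a → A)) :=
      e.toLinearMap ∘ₗ LinearMap.prodMap c LinearMap.id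
    have hTG : T ∘ₗ G = LinearMap.prodMap (t • (LinearMap.id : A →ₗ[A] A)) LinearMap.id := by
      apply LinearMap.ext
      rintro ⟨r, w⟩
      simp only [T, G, j, LinearMap.comp_apply, LinearEquiv.coe_coe, LinearEquiv.symm_apply_apply]
      refine Prod.ext ?_ ?_
      · simp [c, mul_comm]
      · simp
    have hdet : LinearMap.det (T ∘ₗ G) = t := by
      rw [hTG, LinearMap.det_prodMap, det_smul_id_self, LinearMap.det_id, mul_one]
    rw [LinearMap.det_comp] at hdet
    exact ⟨LinearMap.det G, hdet.symm⟩
  -- `D ∈ P`
  have h2 : D ∈ P := by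
    let b : Basis (Unit ⊕ Fin a) A (A × (Fin a → A)) :=
      (Basis.singleton Unit A).prod (Pi.basisFun A (Fin a))
    let M := LinearMap.toMatrix b b T
    have hM : M.det = D := LinearMap.det_toMatrix b T
    let G' : (A × (Fin a → A)) →ₗ[A] (A × (Fin a → A)) := Matrix.toLin b b M.adjugate
    have hTG' : T ∘ₗ G' = D • LinearMap.id := by
      have : T = Matrix.toLin b b M := (Matrix.toLin_toMatrix b b T).symm
      rw [this, ← Matrix.toLin_mul, Matrix.mul_adjugate, hM]
      simp
    have h3 := LinearMap.congr_fun hTG' ((1 : A), (0 : Fin a → A))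
    have h4 : (T (G' (1, 0))).1 ∈ P := by
      simp only [T, j, LinearMap.comp_apply]
      exact Submodule.coe_mem _
    rw [LinearMap.comp_apply] at h3
    rw [h3] at h4
    simpa using h4
  refine ⟨D, le_antisymm ?_ ?_⟩
  · intro t ht
    exact Ideal.mem_span_singleton.mpr (h1 t ht)
  · exact (Ideal.span_singleton_le_iff_mem _).mpr h2

end DetTrick

end Groth.Agent.Lib.RegUFD6

namespace Groth.Agent.Lib.RegUFD6

open Module TensorProduct

section FFR

/-- `FFR A n M`: the `A`-module `M` has a resolution of length `≤ n` by finite free modules. -/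
def FFR (A : Type u) [CommRing A] : ℕ → ∀ (M : Type u) [AddCommGroup M] [Module A M], Prop
  | 0, M, _, _ => Module.Free A M ∧ Module.Finite A M
  | (n + 1), M, _, _ => ∃ (F : Type u) (_ : AddCommGroup F) (_ : Module A F),
      Module.Free A F ∧ Module.Finite A F ∧ ∃ f : F →ₗ[A] M, Function.Surjective f ∧
        FFR A n (LinearMap.ker f)

variable {A : Type u} [CommRing A]

theorem FFR.of_linearEquiv : ∀ (n : ℕ) {M M' : Type u} [AddCommGroup M] [Module A M]
    [AddCommGroup M'] [Module A M'] (_ : M ≃ₗ[A] M'), FFR A n M → FFR A n M' := by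
  intro n
  induction n with
  | zero =>
    intro M M' _ _ _ _ e h
    obtain ⟨h1, h2⟩ := h
    exact ⟨Module.Free.of_equiv e, Module.Finite.equiv e⟩
  | succ n ih =>
    intro M M' _ _ _ _ e h
    obtain ⟨F, _, _, hfree, hfin, f, hf, hK⟩ := h
    refine ⟨F, inferInstance, inferInstance, hfree, hfin, e.toLinearMap ∘ₗ f,
      e.surjective.comp hf, ?_⟩
    have hker : LinearMap.ker (e.toLinearMap ∘ₗ f) = LinearMap.ker f := by
      rw [LinearMap.ker_comp]
      ext y
      simp
    exact ih (LinearEquiv.ofEq _ _ hker.symm) hK

end FFR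

end Groth.Agent.Lib.RegUFD6

namespace Groth.Agent.Lib.RegUFD6

open Module TensorProduct

section FFR2

variable {A : Type u} [CommRing A]

theorem FFR.baseChange (B : Type u) [CommRing B] [Algebra A B] [Module.Flat A B] :
    ∀ (n : ℕ) (M : Type u) [AddCommGroup M] [Module A M], FFR A n M → FFR B n (B ⊗[A] M) := by
  intro n
  induction n with
  | zero =>
    intro M _ _ h
    obtain ⟨h1, h2⟩ := h
    exact ⟨inferInstance, inferInstance⟩
  | succ n ih =>
    intro M _ _ h
    obtain ⟨F, _, _, hfree, hfin, f, hf, hK⟩ := h
    refine ⟨B ⊗[A] F, inferInstance, inferInstance, inferInstance, inferInstance,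
      AlgebraTensorModule.lTensor B B f, ?_, ?_⟩
    · exact LinearMap.lTensor_surjective B hf
    · exact FFR.of_linearEquiv n (LinearMap.tensorKerEquiv B B f) (ih _ hK)

/-- A finite free module is isomorphic to some `Fin b → A`. -/
theorem exists_equiv_fin_fun (F : Type u) [AddCommGroup F] [Module A F] [Module.Free A F]
    [Module.Finite A F] : ∃ b : ℕ, Nonempty (F ≃ₗ[A] (Fin b → A)) := by
  classical
  let ι := Module.Free.ChooseBasisIndex A F
  let bs := Module.Free.chooseBasis A F
  exact ⟨Fintype.card ι, ⟨bs.equivFun.trans
    (LinearEquiv.funCongrLeft A A (Fintype.equivFin ι).symm)⟩⟩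

/-- Splitting of a surjection with a section. -/
noncomputable def splitEquiv {F M : Type u} [AddCommGroup F] [Module A F] [AddCommGroup M]
    [Module A M] (f : F →ₗ[A] M) (s : M →ₗ[A] F) (hs : f ∘ₗ s = LinearMap.id) :
    F ≃ₗ[A] (M × LinearMap.ker f) :=
  LinearEquiv.ofLinearMap
    (LinearMap.prod f (LinearMap.codRestrict (LinearMap.ker f) (LinearMap.id - s ∘ₗ f)
      (fun x => by
        have := LinearMap.congr_fun hs (f x)
        simp only [LinearMap.comp_apply, LinearMap.id_apply] at this
        simp [this])))
    (LinearMap.coprod s (LinearMap.ker f).subtype)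
    (by
      apply LinearMap.ext
      rintro ⟨m, k⟩
      have h1 := LinearMap.congr_fun hs m
      simp only [LinearMap.comp_apply, LinearMap.id_apply] at h1
      have h2 : f k = 0 := k.2
      refine Prod.ext ?_ (Subtype.ext ?_)
      · simp [h1, h2]
      · simp [h1, h2])
    (by
      apply LinearMap.ext
      intro x
      simp)

/-- A projective module with a finite free resolution is stably free (general form). -/
theorem exists_prod_equiv_of_projective_aux : ∀ (n : ℕ) (M : Type u) [AddCommGroup M]
    [Module A M] [Module.Projective A M], FFR A n M →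
    ∃ (F G : Type u) (_ : AddCommGroup F) (_ : Module A F) (_ : AddCommGroup G) (_ : Module A G),
      Module.Free A F ∧ Module.Finite A F ∧ Module.Free A G ∧ Module.Finite A G ∧
        Nonempty ((M × F) ≃ₗ[A] G) := by
  intro n
  induction n with
  | zero =>
    intro M _ _ _ h
    obtain ⟨h1, h2⟩ := h
    exact ⟨PUnit.{u+1}, M, inferInstance, inferInstance, inferInstance, inferInstance,
      inferInstance, inferInstance, h1, h2, ⟨LinearEquiv.ofLinearMap (LinearMap.fst A M PUnit.{u+1})
        (LinearMap.inl A M PUnit.{u+1}) (by ext; simp) (by ext <;> simp)⟩⟩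
  | succ n ih =>
    intro M _ _ _ h
    obtain ⟨F, _, _, hfree, hfin, f, hf, hK⟩ := h
    obtain ⟨s, hs⟩ := f.exists_rightInverse_of_surjective (LinearMap.range_eq_top.mpr hf)
    let e := splitEquiv f s hs
    have hproj : Module.Projective A (LinearMap.ker f) := by
      refine Module.Projective.of_split (LinearMap.ker f).subtype
        ((LinearMap.snd A M _) ∘ₗ e.toLinearMap) ?_
      apply LinearMap.ext
      intro k
      have h2 : f k = 0 := k.2
      apply Subtype.ext
      simp [e, splitEquiv, h2]
    obtain ⟨F₁, G₁, _, _, _, _, hF₁, hF₁', hG₁, hG₁', ⟨e₁⟩⟩ := ih (LinearMap.ker f) hK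
    refine ⟨G₁, F × F₁, inferInstance, inferInstance, inferInstance, inferInstance,
      hG₁, hG₁', inferInstance, inferInstance, ⟨?_⟩⟩
    -- M × G₁ ≃ M × (K × F₁) ≃ (M × K) × F₁ ≃ F × F₁
    exact ((LinearEquiv.refl A M).prodCongr e₁.symm).trans
      ((LinearEquiv.prodAssoc A M _ F₁).symm.trans (e.symm.prodCongr (LinearEquiv.refl A F₁)))

/-- A projective module with a finite free resolution is stably free. -/
theorem exists_prod_equiv_of_projective (n : ℕ) (M : Type u) [AddCommGroup M] [Module A M]
    [Module.Projective A M] (h : FFR A n M) :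
    ∃ a b : ℕ, Nonempty ((M × (Fin a → A)) ≃ₗ[A] (Fin b → A)) := by
  obtain ⟨F, G, _, _, _, _, hF, hF', hG, hG', ⟨e⟩⟩ := exists_prod_equiv_of_projective_aux n M h
  obtain ⟨a, ⟨ea⟩⟩ := exists_equiv_fin_fun (A := A) F
  obtain ⟨b, ⟨eb⟩⟩ := exists_equiv_fin_fun (A := A) G
  exact ⟨a, b, ⟨(((LinearEquiv.refl A M).prodCongr ea.symm).trans e).trans eb⟩⟩

end FFR2

end Groth.Agent.Lib.RegUFD6

namespace Groth.Agent.Lib.RegUFD6

open Module TensorProduct CategoryTheory IsLocalRing

section Local

variable {R : Type u} [CommRing R] [IsLocalRing R] [IsNoetherianRing R]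

/-- Over a Noetherian local ring, a finite module of projective dimension `≤ n` has a finite free
resolution of length `≤ n`. -/
theorem FFR.of_hasProjectiveDimensionLT : ∀ (n : ℕ) (M : Type u) [AddCommGroup M] [Module R M]
    [Module.Finite R M], HasProjectiveDimensionLT (ModuleCat.of R M) (n + 1) → FFR R n M := by
  intro n
  induction n with
  | zero =>
    intro M _ _ _ h
    rw [zero_add, ← projective_iff_hasProjectiveDimensionLT_one,
      ← IsProjective.iff_projective] at h
    exact ⟨Module.free_of_flat_of_isLocalRing, inferInstance⟩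
  | succ n ih =>
    intro M _ _ _ h
    rcases Module.exists_finite_presentation R M with ⟨P, _, _, _, _, f, surjf⟩
    refine ⟨P, inferInstance, inferInstance, inferInstance, inferInstance, f, surjf, ?_⟩
    apply ih
    let T := f.shortComplexKer
    have T_exact := LinearMap.shortExact_shortComplexKer surjf
    have proj : Projective T.X₂ := ModuleCat.projective_of_categoryTheory_projective T.X₂
    exact (T_exact.hasProjectiveDimensionLT_X₃_iff n proj).mp h

end Local

end Groth.Agent.Lib.RegUFD6

namespace Groth.Agent.Lib.RegUFD6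

open Module

variable {A : Type u} [CommRing A]

theorem rank_ideal_eq_one [IsDomain A] (P : Ideal A) (hP : P ≠ ⊥) : Module.rank A P = 1 := by
  apply le_antisymm
  · have := Submodule.rank_le P
    rwa [rank_self] at this
  · rw [Cardinal.one_le_iff_pos, rank_pos_iff_exists_ne_zero]
    obtain ⟨x, hx, hx0⟩ := Submodule.exists_mem_ne_zero_of_ne_bot hP
    exact ⟨⟨x, hx⟩, fun h => hx0 (congrArg Subtype.val h)⟩

theorem eq_add_one_of_prod_equiv [IsDomain A] (P : Ideal A) (hP : P ≠ ⊥) (a b : ℕ)
    (e : (P × (Fin a → A)) ≃ₗ[A] (Fin b → A)) : b = a + 1 := by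
  have h1 := LinearMap.rank_range_add_rank_ker (LinearMap.snd A P (Fin a → A))
  rw [Submodule.range_snd, LinearMap.ker_snd, rank_top, rank_fin_fun] at h1
  have h2 : Module.rank A (LinearMap.range (LinearMap.inl A P (Fin a → A))) = 1 := by
    rw [← rank_ideal_eq_one P hP]
    exact (LinearEquiv.ofInjective (LinearMap.inl A P (Fin a → A)) LinearMap.inl_injective).symm.rank_eq
  rw [h2, e.rank_eq, rank_fin_fun] at h1
  exact_mod_cast h1.symm

end Groth.Agent.Lib.RegUFD6

namespace Groth.Agent.Lib.RegUFD6

open Module TensorProduct CategoryTheory IsLocalRing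

section Main

/-- A nonzero principal ideal of a domain is a projective module. -/
theorem projective_of_isPrincipal {B : Type u} [CommRing B] [IsDomain B] (I : Ideal B)
    (hI : I.IsPrincipal) : Module.Projective B I := by
  obtain ⟨g, rfl⟩ := hI
  by_cases hg : g = 0
  · subst hg
    have : Subsingleton (Submodule.span B ({0} : Set B)) := by
      rw [Submodule.span_zero_singleton]
      infer_instance
    infer_instance
  · exact Module.Projective.of_basis (Ideal.basisSpanSingleton (Basis.singleton Unit B) hg)

/-- The inductive step: given the UFD property in smaller dimensions, a height one prime of the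
regular local ring `R` not containing the parameter `x` becomes principal in `R[1/x]`. -/
theorem isPrincipal_map_away (d : ℕ)
    (ih : ∀ m < d, ∀ (S : Type u) [CommRing S] [IsRegularLocalRing S],
      ringKrullDim S = m → UniqueFactorizationMonoid S)
    (R : Type u) [CommRing R] [IsRegularLocalRing R] (hd : ringKrullDim R = d) (x : R)
    (hxm : x ∈ maximalIdeal R) (hx0 : x ≠ 0) (p : Ideal R) [p.IsPrime] (h1 : p.height = 1)
    (hxp : x ∉ p) : (p.map (algebraMap R (Localization.Away x))).IsPrincipal := by
  have hdom : IsDomain R := Groth.Agent.Lib.RegularLocal.isDomain R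
  have hAdom : IsDomain (Localization.Away x) :=
    IsLocalization.isDomain_of_le_nonZeroDivisors _
      (powers_le_nonZeroDivisors_of_noZeroDivisors hx0)
  have hdisj : Disjoint (Submonoid.powers x : Set R) (p : Set R) :=
    (Ideal.disjoint_powers_iff_notMem_of_isPrime x).mpr hxp
  have hPprime : (p.map (algebraMap R (Localization.Away x))).IsPrime :=
    IsLocalization.isPrime_of_isPrime_disjoint (Submonoid.powers x) _ p ‹_› hdisj
  have hPh : (p.map (algebraMap R (Localization.Away x))).height = 1 := by
    rw [IsLocalization.height_map_of_disjoint (Submonoid.powers x) p hdisj, h1]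
  have hPbot : p.map (algebraMap R (Localization.Away x)) ≠ ⊥ :=
    Ideal.ne_bot_of_height_eq_one hPh
  -- (a) finite free resolution
  have hffr : FFR (Localization.Away x) d (p.map (algebraMap R (Localization.Away x))) := by
    have h0 : FFR R d p := FFR.of_hasProjectiveDimensionLT d p
      (Groth.Agent.Lib.H87GlDim2.hasProjectiveDimensionLT_of_isRegularLocalRing d hd
        (ModuleCat.of R p))
    have hb := FFR.baseChange (Localization.Away x) d p h0
    have hbc : IsBaseChange (Localization.Away x)
        (Algebra.idealMap (Localization.Away x) p) :=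
      IsLocalizedModule.isBaseChange (Submonoid.powers x) (Localization.Away x) _
    exact FFR.of_linearEquiv d hbc.equiv hb
  -- (b) projectivity
  have hproj : Module.Projective (Localization.Away x)
      (p.map (algebraMap R (Localization.Away x))) := by
    have hfp : Module.FinitePresentation (Localization.Away x)
        (p.map (algebraMap R (Localization.Away x))) :=
      Module.finitePresentation_of_finite _ _
    refine Module.projective_of_localization_maximal'
      (fun Q _ => Localization.AtPrime Q)
      (fun Q _ => ((p.map (algebraMap R (Localization.Away x))).map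
        (algebraMap (Localization.Away x) (Localization.AtPrime Q)) : Ideal _))
      (fun Q _ => Algebra.idealMap (Localization.AtPrime Q)
        (p.map (algebraMap R (Localization.Away x)))) ?_
    intro Q hQ
    have hQp : Q.IsPrime := hQ.isPrime
    -- `A_Q ≅ R_q`
    let q : Ideal R := Q.comap (algebraMap R (Localization.Away x))
    have hqp : q.IsPrime := Ideal.comap_isPrime _ _
    let eq : Localization.AtPrime q ≃ₐ[R] Localization.AtPrime Q :=
      IsLocalization.localizationLocalizationAtPrimeIsoLocalization (Submonoid.powers x) Q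
    have hregq : IsRegularLocalRing (Localization.AtPrime q) :=
      Groth.Agent.Lib.H87Serre2.isRegularLocalRing_localization q
    have hregQ : IsRegularLocalRing (Localization.AtPrime Q) :=
      IsRegularLocalRing.of_ringEquiv eq.toRingEquiv
    have hxq : x ∉ q := by
      intro hx
      have hu : IsUnit (algebraMap R (Localization.Away x) x) :=
        IsLocalization.Away.algebraMap_isUnit x
      exact hQp.ne_top (Ideal.eq_top_of_isUnit_mem _ hx hu)
    have hqlt : q < maximalIdeal R :=
      lt_of_le_of_ne (le_maximalIdeal hqp.ne_top) (fun h => hxq (h ▸ hxm))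
    have hdimQ : ∃ m : ℕ, m < d ∧ ringKrullDim (Localization.AtPrime Q) = m := by
      have h2 : ringKrullDim (Localization.AtPrime Q) = q.height := by
        rw [← ringKrullDim_eq_of_ringEquiv eq.toRingEquiv,
          IsLocalization.AtPrime.ringKrullDim_eq_height q]
      have h3 : q.height < (maximalIdeal R).height := Ideal.height_strict_mono_of_isPrime hqlt
      have h4 : ((maximalIdeal R).height : WithBot ℕ∞) = d := by
        rw [IsLocalRing.maximalIdeal_height_eq_ringKrullDim, hd]
      have h5 : (maximalIdeal R).height = d := by exact_mod_cast h4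
      rw [h5] at h3
      obtain ⟨m, hm⟩ := ENat.ne_top_iff_exists.mp (ne_top_of_lt h3)
      refine ⟨m, ?_, ?_⟩
      · rw [← hm] at h3
        exact_mod_cast h3
      · rw [h2, ← hm]
        rfl
    obtain ⟨m, hmd, hm⟩ := hdimQ
    have hufd : UniqueFactorizationMonoid (Localization.AtPrime Q) := ih m hmd _ hm
    have hdomQ : IsDomain (Localization.AtPrime Q) :=
      Groth.Agent.Lib.RegularLocal.isDomain _
    apply projective_of_isPrincipal
    by_cases hPQ : p.map (algebraMap R (Localization.Away x)) ≤ Q
    · have hdisj' : Disjoint (Q.primeCompl : Set (Localization.Away x))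
          (p.map (algebraMap R (Localization.Away x)) : Set (Localization.Away x)) := by
        rw [Set.disjoint_left]
        intro y hy hyP
        exact hy (hPQ hyP)
      have hP'prime : ((p.map (algebraMap R (Localization.Away x))).map
          (algebraMap (Localization.Away x) (Localization.AtPrime Q))).IsPrime :=
        IsLocalization.isPrime_of_isPrime_disjoint Q.primeCompl _ _ hPprime hdisj'
      have hP'h : ((p.map (algebraMap R (Localization.Away x))).map
          (algebraMap (Localization.Away x) (Localization.AtPrime Q))).height = 1 := by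
        rw [IsLocalization.height_map_of_disjoint Q.primeCompl _ hdisj', hPh]
      exact UniqueFactorizationMonoid.isPrincipal_of_height_eq_one hP'h
    · obtain ⟨y, hyP, hyQ⟩ := Set.not_subset.mp hPQ
      have hu : IsUnit (algebraMap (Localization.Away x) (Localization.AtPrime Q) y) :=
        IsLocalization.map_units (Localization.AtPrime Q) (⟨y, hyQ⟩ : Q.primeCompl)
      have htop : (p.map (algebraMap R (Localization.Away x))).map
          (algebraMap (Localization.Away x) (Localization.AtPrime Q)) = ⊤ :=
        Ideal.eq_top_of_isUnit_mem _ (Ideal.mem_map_of_mem _ hyP) hu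
      rw [htop]
      exact ⟨1, Ideal.span_singleton_one.symm⟩
  -- (c) stably free, hence principal
  obtain ⟨a, b, ⟨e⟩⟩ := exists_prod_equiv_of_projective d _ hffr
  have hb : b = a + 1 := eq_add_one_of_prod_equiv _ hPbot a b e
  subst hb
  exact isPrincipal_of_prod_equiv _ a
    (e.trans (Fin.consLinearEquiv (Localization.Away x)
      (fun _ : Fin (a + 1) => Localization.Away x)).symm)

theorem ufd_aux : ∀ (d : ℕ) (R : Type u) [CommRing R] [IsRegularLocalRing R],
    ringKrullDim R = d → UniqueFactorizationMonoid R := by
  intro d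
  induction d using Nat.strong_induction_on with
  | _ d ih =>
    intro R _ _ hd
    have hdom : IsDomain R := Groth.Agent.Lib.RegularLocal.isDomain R
    apply UniqueFactorizationMonoid.of_forall_isPrincipal_of_height_eq_one
    intro p hp h1
    have hpbot : p ≠ ⊥ := p.ne_bot_of_height_eq_one h1
    have hm : maximalIdeal R ≠ ⊥ := by
      intro h
      apply hpbot
      rw [eq_bot_iff, ← h]
      exact le_maximalIdeal hp.ne_top
    have hjac : maximalIdeal R ≤ Ideal.jacobson ⊥ :=
      (IsLocalRing.jacobson_eq_maximalIdeal _ bot_ne_top).ge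
    have hne : ¬ (maximalIdeal R ≤ maximalIdeal R ^ 2) := by
      intro hle
      apply hm
      refine Submodule.eq_bot_of_le_smul_of_le_jacobson_bot (maximalIdeal R) (maximalIdeal R)
        (Ideal.fg_of_isNoetherianRing _) ?_ hjac
      rwa [smul_eq_mul, ← pow_two]
    obtain ⟨x, hxm, hx2⟩ := Set.not_subset.mp hne
    have hx0 : x ≠ 0 := fun h => hx2 (h ▸ Ideal.zero_mem _)
    obtain ⟨hreg, -⟩ := Groth.Agent.Lib.RegularLocal.isRegularLocalRing_quotient_of_spanFinrank hxm
      (Groth.Agent.Lib.RegularLocal.spanFinrank_map_mk_add_one_le hxm hx2)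
    have hdomq : IsDomain (R ⧸ Ideal.span ({x} : Set R)) :=
      Groth.Agent.Lib.RegularLocal.isDomain _
    have hxprime : Prime x :=
      (Ideal.span_singleton_prime hx0).mp ((Ideal.Quotient.isDomain_iff_prime _).mp hdomq)
    by_cases hxp : x ∈ p
    · exact ⟨x, p.eq_span_singleton_of_height_eq_one h1 hxp hxprime⟩
    · exact p.isPrincipal_of_isPrincipal_isLocalizationAway_of_prime hxprime hxp
        (Localization.Away x) (isPrincipal_map_away d ih R hd x hxm hx0 p h1 hxp)

/-- **Auslander–Buchsbaum**: a regular local ring is a unique factorization domain. -/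
theorem ufd_of_isRegularLocalRing (R : Type u) [CommRing R] [IsRegularLocalRing R] :
    UniqueFactorizationMonoid R := by
  have hd : ringKrullDim R = ((maximalIdeal R).spanFinrank : ℕ) :=
    IsRegularLocalRing.spanFinrank_maximalIdeal.symm
  exact ufd_aux _ R hd

end Main

end Groth.Agent.Lib.RegUFD6
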