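import Mathlib.Tactic
import Groth.Agent.Lib.H8CMOpen
import Groth.Agent.Lib.RegUFD6
import Groth.Agent.Lib.RegularLocal
import Groth.Agent.Lib.H26HB2

/-!
# Hilbert–Burch for CM codimension 2 quotients of regular local rings (helper26)

* `exists_free_resolution` : `A` regular local, `A/I` CM with `dim A/I + 2 = dim A`: there are
  minimal generators `g : Fin (r+1) → A` of `I` and `φ` with `0 → A^r → A^{r+1} → A` exact.
* `hilbert_burch` : moreover `φ` can be taken with signed maximal minors generating `I` and the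
  complex `0 → A^r → A^{r+1} → A` (maps `φ`, minors) exact.
-/

set_option autoImplicit false
set_option linter.style.haveILetI false
universe u

namespace Groth.Agent.Lib.H26HB3

open LocCoh IsLocalRing CategoryTheory Groth.Agent.Lib Groth.Agent.Lib.H26HilbertBurch

variable (A : Type u) [CommRing A] [IsRegularLocalRing A] (I : Ideal A)
  [LocCoh.IsCohenMacaulayLocalRing (A ⧸ I)]

include A in
theorem ne_top : I ≠ ⊤ := by
  intro h
  have : Nontrivial (A ⧸ I) := inferInstance
  exact (Ideal.Quotient.nontrivial_iff.mp this) h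

theorem height_eq_two (hcodim : ringKrullDim (A ⧸ I) + 2 = ringKrullDim A) : I.height = 2 := by
  haveI : IsCohenMacaulayLocalRing A := H8CM.isCMLocalRing_of_isRegularLocalRing
  haveI : IsCohenMacaulayRing A := H8CM.isCMRing_of_isCMLocalRing
  have hI := ne_top A I
  have h1 := H8CM.ringKrullDim_eq_add_idealDepth hI
  rw [H8CM.idealDepth_eq_height hI, ← hcodim] at h1
  obtain ⟨r, hr⟩ := CMFlat33.exists_nat_ringKrullDim (A ⧸ I)
  rw [hr] at h1
  have h2 := h1
  rw [show ((r : ℕ) : WithBot ℕ∞) = ((r : ℕ∞) : WithBot ℕ∞) from rfl,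
    show (2 : WithBot ℕ∞) = ((2 : ℕ∞) : WithBot ℕ∞) from rfl, ← WithBot.coe_add, ← WithBot.coe_add,
    WithBot.coe_inj] at h2
  have h3 : (r : ℕ∞) ≠ ⊤ := ENat.coe_ne_top r
  exact ((ENat.add_right_injective_of_ne_top h3) h2).symm

theorem ne_bot (hcodim : ringKrullDim (A ⧸ I) + 2 = ringKrullDim A) : I ≠ ⊥ := by
  intro h
  have h2 := height_eq_two A I hcodim
  rw [h] at h2
  haveI : IsDomain A := RegularLocal.isDomain A
  have h0 : (⊥ : Ideal A).height = 0 := by
    have : (⊥ : Ideal A).IsPrime := Ideal.isPrime_bot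
    exact Ideal.height_bot
  rw [h0] at h2
  exact absurd h2 (by norm_num)

theorem hasProjectiveDimensionLT_three (hcodim : ringKrullDim (A ⧸ I) + 2 = ringKrullDim A) :
    HasProjectiveDimensionLT (ModuleCat.of A (A ⧸ I)) 3 :=
  (H8CMOpen.isCMLocalRing_quotient_iff I (ne_top A I) 2
    (by rw [height_eq_two A I hcodim]; rfl)).mp inferInstance

/-- The kernel of a surjection from a free module onto `I` is projective. -/
theorem projective_ker (hcodim : ringKrullDim (A ⧸ I) + 2 = ringKrullDim A)
    {F : Type u} [AddCommGroup F] [Module A F] [Module.Projective A F]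
    (G : F →ₗ[A] A) (hG : LinearMap.range G = I) :
    Module.Projective A (LinearMap.ker G) := by
  have h3 := hasProjectiveDimensionLT_three A I hcodim
  -- first sequence 0 → I → A → A/I → 0
  have hsurj1 : Function.Surjective (Submodule.mkQ I) := Submodule.mkQ_surjective I
  have T1 := LinearMap.shortExact_shortComplexKer hsurj1
  have proj1 : Projective (Submodule.mkQ I).shortComplexKer.X₂ := by
    show Projective (ModuleCat.of A A)
    rw [← IsProjective.iff_projective]; infer_instance
  have h2 : HasProjectiveDimensionLT (Submodule.mkQ I).shortComplexKer.X₁ 2 :=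
    (T1.hasProjectiveDimensionLT_X₃_iff 1 proj1).mp h3
  -- second sequence 0 → ker G → F → range G → 0
  have hsurj2 : Function.Surjective G.rangeRestrict := LinearMap.surjective_rangeRestrict G
  have T2 := LinearMap.shortExact_shortComplexKer hsurj2
  have proj2 : Projective G.rangeRestrict.shortComplexKer.X₂ := by
    show Projective (ModuleCat.of A F)
    rw [← IsProjective.iff_projective]; infer_instance
  have e : G.rangeRestrict.shortComplexKer.X₃ ≅ (Submodule.mkQ I).shortComplexKer.X₁ :=
    (LinearEquiv.ofEq _ _ (hG.trans (Submodule.ker_mkQ I).symm)).toModuleIso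
  have h2' : HasProjectiveDimensionLT G.rangeRestrict.shortComplexKer.X₃ 2 :=
    hasProjectiveDimensionLT_of_iso e.symm _
  have h1 : HasProjectiveDimensionLT G.rangeRestrict.shortComplexKer.X₁ 1 :=
    (T2.hasProjectiveDimensionLT_X₃_iff 0 proj2).mp h2'
  have h0 : Projective (ModuleCat.of A (LinearMap.ker G.rangeRestrict)) :=
    projective_iff_hasProjectiveDimensionLT_one.mpr h1
  rw [← IsProjective.iff_projective] at h0
  rw [LinearMap.ker_rangeRestrict] at h0
  exact h0

theorem exists_free_resolution (hcodim : ringKrullDim (A ⧸ I) + 2 = ringKrullDim A) :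
    ∃ (r : ℕ) (g : Fin (r + 1) → A) (φ : Matrix (Fin (r + 1)) (Fin r) A),
      Ideal.span (Set.range g) = I ∧ I.spanFinrank = r + 1 ∧
      Function.Injective φ.mulVecLin ∧
      LinearMap.range φ.mulVecLin = LinearMap.ker (Fintype.linearCombination A g) := by
  classical
  haveI : IsDomain A := RegularLocal.isDomain A
  have hbot := ne_bot A I hcodim
  have hfg : I.FG := (isNoetherianRing_iff_ideal_fg A).mp inferInstance I
  obtain ⟨s, hcard, hspan⟩ := Submodule.FG.exists_span_finset_card_eq_spanFinrank hfg
  have hpos : I.spanFinrank ≠ 0 := by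
    intro h0
    exact hbot ((Submodule.spanFinrank_eq_zero_iff_eq_bot hfg).mp h0)
  obtain ⟨r, hr⟩ := Nat.exists_eq_succ_of_ne_zero hpos
  rw [Nat.succ_eq_add_one] at hr
  let e0 : s ≃ Fin (r + 1) := Finset.equivFinOfCardEq (hcard.trans hr)
  let g : Fin (r + 1) → A := fun i => ((e0.symm i : s) : A)
  have hrange : Set.range g = (s : Set A) := by
    ext x
    constructor
    · rintro ⟨i, rfl⟩
      exact (e0.symm i).2
    · intro hx
      exact ⟨e0 ⟨x, hx⟩, by simp [g]⟩
  have hg : Ideal.span (Set.range g) = I := by rw [hrange]; exact hspan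
  let G := Fintype.linearCombination A g
  have hG : LinearMap.range G = I := by
    rw [Fintype.range_linearCombination]; exact hg
  haveI hproj : Module.Projective A (LinearMap.ker G) := projective_ker A I hcodim G hG
  haveI : Module.Free A (LinearMap.ker G) := Module.free_of_flat_of_isLocalRing
  -- the rank
  have hrank := LinearMap.rank_range_add_rank_ker G
  rw [rank_fin_fun] at hrank
  have h1 : Module.rank A (LinearMap.range G) = 1 := by
    rw [hG]; exact RegUFD6.rank_ideal_eq_one I hbot
  rw [h1] at hrank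
  have hrk : Module.rank A (LinearMap.ker G) = (r : Cardinal) := by
    have h2 : (1 : Cardinal) + Module.rank A (LinearMap.ker G) = 1 + (r : Cardinal) := by
      rw [hrank]; push_cast; ring
    exact Cardinal.eq_of_add_eq_add_left h2 (by simpa using Cardinal.one_lt_aleph0)
  have hfr : Module.finrank A (LinearMap.ker G) = r := Module.finrank_eq_of_rank_eq hrk
  let b := Module.finBasisOfFinrankEq A (LinearMap.ker G) hfr
  let ψ : (Fin r → A) →ₗ[A] (Fin (r + 1) → A) :=
    (LinearMap.ker G).subtype ∘ₗ b.equivFun.symm.toLinearMap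
  refine ⟨r, g, LinearMap.toMatrix' ψ, hg, hr, ?_, ?_⟩
  · rw [← Matrix.toLin'_apply', Matrix.toLin'_toMatrix']
    exact (Submodule.injective_subtype _).comp b.equivFun.symm.injective
  · rw [← Matrix.toLin'_apply', Matrix.toLin'_toMatrix']
    show LinearMap.range ((LinearMap.ker G).subtype ∘ₗ b.equivFun.symm.toLinearMap) = _
    rw [LinearMap.range_comp, LinearEquiv.range, Submodule.map_top, Submodule.range_subtype]

/-- **Hilbert–Burch theorem** for Cohen–Macaulay quotients of codimension 2 of a regular local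
ring. -/
theorem hilbert_burch (hcodim : ringKrullDim (A ⧸ I) + 2 = ringKrullDim A) :
    ∃ (r : ℕ) (φ : Matrix (Fin (r + 1)) (Fin r) A),
      Ideal.span (Set.range (fun i : Fin (r + 1) =>
        (-1 : A) ^ (i : ℕ) * (φ.submatrix i.succAbove id).det)) = I ∧
      I.spanFinrank = r + 1 ∧
      Function.Injective φ.mulVecLin ∧
      LinearMap.range φ.mulVecLin =
        LinearMap.ker (Fintype.linearCombination A (fun i : Fin (r + 1) =>
          (-1 : A) ^ (i : ℕ) * (φ.submatrix i.succAbove id).det)) := by
  haveI : IsDomain A := RegularLocal.isDomain A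
  haveI : UniqueFactorizationMonoid A := RegUFD6.ufd_of_isRegularLocalRing A
  obtain ⟨r, g, φ, hg, hr, hinj, hex⟩ := exists_free_resolution A I hcodim
  obtain ⟨a, ha⟩ := H26HB2.exists_eq_mul φ g hinj hex
  set f : Fin (r + 1) → A := fun i => (-1 : A) ^ (i : ℕ) * (φ.submatrix i.succAbove id).det
    with hf
  have hgf : g = a • f := by
    funext i; rw [Pi.smul_apply, smul_eq_mul]; exact ha i
  -- `a` is a unit
  have hle : I ≤ Ideal.span {a} := by
    rw [← hg, Ideal.span_le]
    rintro _ ⟨i, rfl⟩
    rw [ha i]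
    exact Ideal.mul_mem_right _ _ (Ideal.mem_span_singleton_self a)
  have hunit : IsUnit a := by
    by_contra hnu
    have ham : a ∈ maximalIdeal A := (mem_maximalIdeal a).mpr hnu
    have h1 : ringKrullDim A ≤ ringKrullDim (A ⧸ Ideal.span {a}) + 1 := by
      have := ringKrullDim_le_ringKrullDim_quotient_add_card ({a} : Finset A)
        (by
          intro x hx
          rw [← Ideal.jacobson_bot, IsLocalRing.jacobson_eq_maximalIdeal (⊥ : Ideal A) bot_ne_top]
          simp only [Finset.coe_singleton, Set.mem_singleton_iff] at hx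
          rw [hx]; exact ham)
      rw [Finset.coe_singleton, Finset.card_singleton] at this
      exact_mod_cast this
    have h2 : ringKrullDim (A ⧸ Ideal.span {a}) ≤ ringKrullDim (A ⧸ I) :=
      ringKrullDim_le_of_surjective (Ideal.Quotient.factor hle)
        (Ideal.Quotient.factor_surjective hle)
    obtain ⟨n, hn⟩ := CMFlat33.exists_nat_ringKrullDim (A ⧸ I)
    rw [← hcodim, hn] at h1
    rw [hn] at h2
    have h3 : ((n : ℕ) : WithBot ℕ∞) + 2 ≤ (n : WithBot ℕ∞) + 1 :=
      h1.trans (add_le_add_left h2 1)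
    have h4 : ((n + 2 : ℕ) : WithBot ℕ∞) ≤ ((n + 1 : ℕ) : WithBot ℕ∞) := by
      push_cast; exact h3
    have h5 : n + 2 ≤ n + 1 := by exact_mod_cast h4
    omega
  obtain ⟨u, rfl⟩ := hunit
  have hspan : Ideal.span (Set.range f) = I := by
    rw [← hg, hgf]
    apply le_antisymm
    · rw [Ideal.span_le]
      rintro _ ⟨i, rfl⟩
      have h1 : f i = (↑u⁻¹ : A) * (((u : A) • f) i) := by
        rw [Pi.smul_apply, smul_eq_mul, ← mul_assoc, Units.inv_mul, one_mul]
      rw [h1]
      exact Ideal.mul_mem_left _ _ (Ideal.subset_span ⟨i, rfl⟩)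
    · rw [Ideal.span_le]
      rintro _ ⟨i, rfl⟩
      rw [Pi.smul_apply, smul_eq_mul]
      exact Ideal.mul_mem_left _ _ (Ideal.subset_span ⟨i, rfl⟩)
  refine ⟨r, φ, hspan, hr, hinj, ?_⟩
  rw [hex, hgf]
  ext v
  simp only [LinearMap.mem_ker, Fintype.linearCombination_apply, Pi.smul_apply, smul_eq_mul]
  have h1 : ∑ i, v i * ((u : A) * f i) = (u : A) * ∑ i, v i * f i := by
    rw [Finset.mul_sum]
    exact Finset.sum_congr rfl fun i _ => by ring
  rw [h1]
  exact u.isUnit.mul_right_eq_zero

end Groth.Agent.Lib.H26HB3
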