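import Mathlib
import Groth.Agent.Lib.H26HilbertBurch

/-!
# Spreading out a Hilbert–Burch resolution from a localization at a prime (helper26)

`IsHB φ I`: the signed maximal minors of the `(r+1) × r` matrix `φ` generate `I`, `φ` is injective
and `0 → R^r → R^{r+1} → R` is exact in the middle.

`spread`: if `R` is Noetherian, `A = R_p` and `IsHB (φ.map (algebraMap R A)) (I.map (algebraMap R A))`
then there is `s ∉ p` such that `IsHB` holds over every localization `R'` of `R` away from `s`.
-/

set_option autoImplicit false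
universe u v

namespace Groth.Agent.Lib.H26HBSpread

open Groth.Agent.Lib

section defs

variable {R : Type*} [CommRing R]

/-- signed maximal minors -/
noncomputable abbrev sm {r : ℕ} (φ : Matrix (Fin (r + 1)) (Fin r) R) : Fin (r + 1) → R :=
  fun i => (-1 : R) ^ (i : ℕ) * (φ.submatrix i.succAbove id).det

/-- the Hilbert–Burch package -/
def IsHB {r : ℕ} (φ : Matrix (Fin (r + 1)) (Fin r) R) (I : Ideal R) : Prop :=
  Ideal.span (Set.range (sm φ)) = I ∧ Function.Injective φ.mulVecLin ∧
    LinearMap.range φ.mulVecLin = LinearMap.ker (Fintype.linearCombination R (sm φ))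

lemma sm_map {R' : Type*} [CommRing R'] (f : R →+* R') {r : ℕ}
    (φ : Matrix (Fin (r + 1)) (Fin r) R) (i : Fin (r + 1)) :
    sm (φ.map f) i = f (sm φ i) := by
  simp only [sm, map_mul, map_pow, map_neg, map_one]
  congr 1
  rw [RingHom.map_det]
  rfl

/-- the complex property -/
lemma linearCombination_mulVec {r : ℕ} (φ : Matrix (Fin (r + 1)) (Fin r) R) (w : Fin r → R) :
    Fintype.linearCombination R (sm φ) (φ.mulVec w) = 0 := by
  rw [Fintype.linearCombination_apply]
  have := H26HilbertBurch.sum_mulVec φ w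
  rw [← this]
  refine Finset.sum_congr rfl fun i _ => ?_
  simp only [sm, smul_eq_mul]
  ring

end defs

section fg

variable {R : Type*} [CommRing R] (S : Submonoid R) {M : Type*} [AddCommGroup M] [Module R M]

/-- uniform multiplier for a finitely generated submodule -/
lemma exists_smul_mem_of_fg (K N' : Submodule R M) (hK : K.FG)
    (h : ∀ m ∈ K, ∃ t ∈ S, t • m ∈ N') : ∃ t ∈ S, ∀ m ∈ K, t • m ∈ N' := by
  revert h
  refine Submodule.fg_induction
    (motive := fun K _ => (∀ m ∈ K, ∃ t ∈ S, t • m ∈ N') → ∃ t ∈ S, ∀ m ∈ K, t • m ∈ N') ?_ ?_ K hK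
  · intro x h
    obtain ⟨t, ht, htx⟩ := h x (Submodule.mem_span_singleton_self x)
    refine ⟨t, ht, fun m hm => ?_⟩
    obtain ⟨a, rfl⟩ := Submodule.mem_span_singleton.mp hm
    rw [smul_comm]
    exact N'.smul_mem a htx
  · intro M₁ M₂ _ _ h₁ h₂ h
    obtain ⟨t₁, ht₁, h1⟩ := h₁ fun m hm => h m (Submodule.mem_sup_left hm)
    obtain ⟨t₂, ht₂, h2⟩ := h₂ fun m hm => h m (Submodule.mem_sup_right hm)
    refine ⟨t₁ * t₂, S.mul_mem ht₁ ht₂, fun m hm => ?_⟩
    obtain ⟨m₁, hm₁, m₂, hm₂, rfl⟩ := Submodule.mem_sup.mp hm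
    rw [smul_add]
    refine N'.add_mem ?_ ?_
    · rw [mul_comm, mul_smul]
      exact N'.smul_mem t₂ (h1 m₁ hm₁)
    · rw [mul_smul]
      exact N'.smul_mem t₁ (h2 m₂ hm₂)

end fg

section loc

variable {R : Type u} [CommRing R] (S : Submonoid R)
variable (R' : Type v) [CommRing R'] [Algebra R R']

/-- coordinatewise localization map `R^n → R'^n` -/
noncomputable def toPi (n : ℕ) : (Fin n → R) →ₗ[R] (Fin n → R') :=
  LinearMap.pi fun i => Algebra.linearMap R R' ∘ₗ LinearMap.proj i

@[simp] lemma toPi_apply (n : ℕ) (v : Fin n → R) (i : Fin n) :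
    toPi R' n v i = algebraMap R R' (v i) := rfl

instance [IsLocalization S R'] (n : ℕ) : IsLocalizedModule S (toPi R' n) :=
  IsLocalizedModule.pi S _

variable {r : ℕ} (φ : Matrix (Fin (r + 1)) (Fin r) R)

lemma mulVecLin_comp_toPi :
    ((φ.map (algebraMap R R')).mulVecLin.restrictScalars R) ∘ₗ toPi R' r =
      toPi R' (r + 1) ∘ₗ φ.mulVecLin := by
  refine LinearMap.ext fun v => funext fun i => ?_
  simp [Matrix.mulVec, dotProduct, map_sum, map_mul]

lemma linearCombination_comp_toPi :
    ((Fintype.linearCombination R' (sm (φ.map (algebraMap R R')))).restrictScalars R) ∘ₗ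
        toPi R' (r + 1) =
      Algebra.linearMap R R' ∘ₗ Fintype.linearCombination R (sm φ) := by
  refine LinearMap.ext fun v => ?_
  simp only [LinearMap.coe_comp, Function.comp_apply, LinearMap.coe_restrictScalars,
    Fintype.linearCombination_apply, toPi_apply, Algebra.linearMap_apply, map_sum, smul_eq_mul,
    map_mul, sm_map]

variable [IsLocalization S R']

lemma map_mulVecLin :
    IsLocalizedModule.map S (toPi R' r) (toPi R' (r + 1)) φ.mulVecLin =
      (φ.map (algebraMap R R')).mulVecLin.restrictScalars R := by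
  apply IsLocalizedModule.linearMap_ext S (toPi R' r) (toPi R' (r + 1))
  rw [IsLocalizedModule.map_comp, mulVecLin_comp_toPi]

lemma map_linearCombination :
    IsLocalizedModule.map S (toPi R' (r + 1)) (Algebra.linearMap R R')
        (Fintype.linearCombination R (sm φ)) =
      (Fintype.linearCombination R' (sm (φ.map (algebraMap R R')))).restrictScalars R := by
  apply IsLocalizedModule.linearMap_ext S (toPi R' (r + 1)) (Algebra.linearMap R R')
  rw [IsLocalizedModule.map_comp, linearCombination_comp_toPi]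

lemma mem_ker_mulVecLin_iff (x : Fin r → R') :
    (φ.map (algebraMap R R')).mulVecLin x = 0 ↔
      x ∈ (LinearMap.ker φ.mulVecLin).localized₀ S (toPi R' r) := by
  rw [← LinearMap.ker_localizedMap_eq_localized₀_ker S (toPi R' r) (toPi R' (r + 1)) φ.mulVecLin,
    map_mulVecLin, LinearMap.mem_ker]
  rfl

lemma mem_range_mulVecLin_iff (x : Fin (r + 1) → R') :
    x ∈ LinearMap.range (φ.map (algebraMap R R')).mulVecLin ↔
      x ∈ (LinearMap.range φ.mulVecLin).localized₀ S (toPi R' (r + 1)) := by
  rw [← LinearMap.range_localizedMap_eq_localized₀_range S (toPi R' r) (toPi R' (r + 1))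
    φ.mulVecLin, map_mulVecLin]
  rfl

lemma mem_ker_linearCombination_iff (x : Fin (r + 1) → R') :
    Fintype.linearCombination R' (sm (φ.map (algebraMap R R'))) x = 0 ↔
      x ∈ (LinearMap.ker (Fintype.linearCombination R (sm φ))).localized₀ S
        (toPi R' (r + 1)) := by
  rw [← LinearMap.ker_localizedMap_eq_localized₀_ker S (toPi R' (r + 1)) (Algebra.linearMap R R')
    (Fintype.linearCombination R (sm φ)), map_linearCombination, LinearMap.mem_ker]
  rfl

end loc

section spread

variable {R : Type u} [CommRing R]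

lemma span_sm_map (R' : Type v) [CommRing R'] [Algebra R R'] {r : ℕ}
    (φ : Matrix (Fin (r + 1)) (Fin r) R) :
    Ideal.span (Set.range (sm (φ.map (algebraMap R R')))) =
      (Ideal.span (Set.range (sm φ))).map (algebraMap R R') := by
  rw [Ideal.map_span, ← Set.range_comp]
  congr 2
  funext i
  exact sm_map _ φ i

/-- **Spreading out** a Hilbert–Burch resolution from the localization at a prime. -/
theorem spread [IsNoetherianRing R] (p : Ideal R) [p.IsPrime]
    (A : Type v) [CommRing A] [Algebra R A] [IsLocalization.AtPrime A p]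
    {r : ℕ} (φ : Matrix (Fin (r + 1)) (Fin r) R) (I : Ideal R)
    (h : IsHB (φ.map (algebraMap R A)) (I.map (algebraMap R A))) :
    ∃ s : R, s ∉ p ∧ ∀ (R' : Type v) [CommRing R'] [Algebra R R'] [IsLocalization.Away s R'],
      IsHB (φ.map (algebraMap R R')) (I.map (algebraMap R R')) := by
  obtain ⟨h1, h2, h3⟩ := h
  set J : Ideal R := Ideal.span (Set.range (sm φ)) with hJ
  rw [span_sm_map] at h1
  -- part 1
  obtain ⟨s₁, hs₁, H1⟩ := exists_smul_mem_of_fg p.primeCompl I J (IsNoetherian.noetherian I)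
    (fun x hx => by
      have : algebraMap R A x ∈ J.map (algebraMap R A) := by
        rw [h1]; exact Ideal.mem_map_of_mem _ hx
      obtain ⟨m, hm, hmx⟩ :=
        (IsLocalization.algebraMap_mem_map_algebraMap_iff p.primeCompl A J x).mp this
      exact ⟨m, hm, hmx⟩)
  obtain ⟨s₁', hs₁', H1'⟩ := exists_smul_mem_of_fg p.primeCompl J I (IsNoetherian.noetherian J)
    (fun x hx => by
      have : algebraMap R A x ∈ I.map (algebraMap R A) := by
        rw [← h1]; exact Ideal.mem_map_of_mem _ hx
      obtain ⟨m, hm, hmx⟩ :=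
        (IsLocalization.algebraMap_mem_map_algebraMap_iff p.primeCompl A I x).mp this
      exact ⟨m, hm, hmx⟩)
  -- part 2
  obtain ⟨s₂, hs₂, H2⟩ := exists_smul_mem_of_fg p.primeCompl (LinearMap.ker φ.mulVecLin) ⊥
    (IsNoetherian.noetherian _)
    (fun m hm => by
      have e1 := LinearMap.congr_fun (mulVecLin_comp_toPi A φ) m
      simp only [LinearMap.coe_comp, Function.comp_apply, LinearMap.coe_restrictScalars,
        LinearMap.mem_ker.mp hm, map_zero] at e1
      have e2 : toPi A r m = 0 := (injective_iff_map_eq_zero _).mp h2 _ e1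
      obtain ⟨s', hs'⟩ := (IsLocalizedModule.eq_zero_iff p.primeCompl (toPi A r)).mp e2
      exact ⟨s', s'.2, by rw [Submodule.mem_bot]; exact hs'⟩)
  -- part 3
  obtain ⟨s₃, hs₃, H3⟩ := exists_smul_mem_of_fg p.primeCompl
    (LinearMap.ker (Fintype.linearCombination R (sm φ))) (LinearMap.range φ.mulVecLin)
    (IsNoetherian.noetherian _)
    (fun m hm => by
      have e1 := LinearMap.congr_fun (linearCombination_comp_toPi A φ) m
      simp only [LinearMap.coe_comp, Function.comp_apply, LinearMap.coe_restrictScalars,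
        LinearMap.mem_ker.mp hm, map_zero] at e1
      have e2 : toPi A (r + 1) m ∈ LinearMap.range (φ.map (algebraMap R A)).mulVecLin := by
        rw [h3, LinearMap.mem_ker]; exact e1
      rw [mem_range_mulVecLin_iff p.primeCompl A φ] at e2
      obtain ⟨n, hn, t, hnt⟩ := e2
      rw [IsLocalizedModule.mk'_eq_iff, Submonoid.smul_def, ← map_smul] at hnt
      obtain ⟨c, hc⟩ := IsLocalizedModule.exists_of_eq (S := p.primeCompl) hnt
      refine ⟨(c * t : p.primeCompl), (c * t).2, ?_⟩
      have : ((c * t : p.primeCompl) : R) • m = (c : R) • n := by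
        rw [Submonoid.coe_mul, mul_smul]
        rw [Submonoid.smul_def, Submonoid.smul_def] at hc
        exact hc.symm
      rw [this]
      exact Submodule.smul_mem _ _ hn)
  refine ⟨s₁ * s₁' * s₂ * s₃, ?_, ?_⟩
  · exact (p.primeCompl.mul_mem (p.primeCompl.mul_mem (p.primeCompl.mul_mem hs₁ hs₁') hs₂) hs₃)
  intro R' _ _ _
  set s := s₁ * s₁' * s₂ * s₃ with hs
  let sS : Submonoid.powers s := ⟨s, Submonoid.mem_powers s⟩
  have K1 : ∀ x ∈ I, s * x ∈ J := fun x hx => by
    have : s * x = (s₁' * s₂ * s₃) * (s₁ • x) := by rw [hs, smul_eq_mul]; ring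
    rw [this]; exact J.mul_mem_left _ (H1 x hx)
  have K1' : ∀ x ∈ J, s * x ∈ I := fun x hx => by
    have : s * x = (s₁ * s₂ * s₃) * (s₁' • x) := by rw [hs, smul_eq_mul]; ring
    rw [this]; exact I.mul_mem_left _ (H1' x hx)
  have K2 : ∀ m ∈ LinearMap.ker φ.mulVecLin, s • m = 0 := fun m hm => by
    have : s • m = (s₁ * s₁' * s₃) • (s₂ • m) := by rw [hs, ← mul_smul]; congr 1; ring
    rw [this, (Submodule.mem_bot R).mp (H2 m hm), smul_zero]
  have K3 : ∀ m ∈ LinearMap.ker (Fintype.linearCombination R (sm φ)),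
      s • m ∈ LinearMap.range φ.mulVecLin := fun m hm => by
    have : s • m = (s₁ * s₁' * s₂) • (s₃ • m) := by rw [hs, ← mul_smul]
    rw [this]; exact Submodule.smul_mem _ _ (H3 m hm)
  refine ⟨?_, ?_, ?_⟩
  · rw [span_sm_map, ← hJ]
    apply le_antisymm
    · rw [Ideal.map_le_iff_le_comap]
      intro x hx
      exact (IsLocalization.algebraMap_mem_map_algebraMap_iff (Submonoid.powers s) R' I x).mpr
        ⟨s, Submonoid.mem_powers s, K1' x hx⟩
    · rw [Ideal.map_le_iff_le_comap]
      intro x hx
      exact (IsLocalization.algebraMap_mem_map_algebraMap_iff (Submonoid.powers s) R' J x).mpr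
        ⟨s, Submonoid.mem_powers s, K1 x hx⟩
  · rw [injective_iff_map_eq_zero]
    intro x hx
    rw [mem_ker_mulVecLin_iff (Submonoid.powers s) R' φ] at hx
    obtain ⟨m, hm, t, rfl⟩ := hx
    exact (IsLocalizedModule.mk'_eq_zero' (toPi R' r) t).mpr ⟨sS, K2 m hm⟩
  · apply le_antisymm
    · rintro _ ⟨w, rfl⟩
      rw [LinearMap.mem_ker, Matrix.mulVecLin_apply]
      exact linearCombination_mulVec _ w
    · intro x hx
      rw [LinearMap.mem_ker, mem_ker_linearCombination_iff (Submonoid.powers s) R' φ] at hx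
      rw [mem_range_mulVecLin_iff (Submonoid.powers s) R' φ]
      obtain ⟨m, hm, t, rfl⟩ := hx
      refine ⟨s • m, K3 m hm, sS * t, ?_⟩
      have : s • m = sS • m := rfl
      rw [this, IsLocalizedModule.mk'_cancel_left]

end spread

end Groth.Agent.Lib.H26HBSpread
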