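import Mathlib
import Groth.Agent.Lib.H26HBSpread
import Groth.Agent.Lib.ArtinSocle88

/-!
# Deformation-theoretic lemmas for Hilbert–Burch matrices (helper26)

`C` local, `A` a flat `C`-algebra, `J' ≤ J` ideals of `C` with `𝔪 J ≤ J'`.
* `exists_basis_mod` : elements `ε_l ∈ J` forming a basis of `J/J'` over the residue field;
* `exists_decomp` : every element of `JA` is `Σ ε_l y_l` modulo `J'A`;
* `mem_map_maximalIdeal_of_sum_mem` : if `Σ ε_l y_l ∈ J'A` then all `y_l ∈ 𝔪A` (flatness);
* `lkstep` : the left-kernel step: `h ∈ (JA)^{r+1}` with `h φ ∈ J'A` is `c • sm φ` modulo `J'A` with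
  `c ∈ JA`, provided the left kernel of `φ` modulo `𝔪A` is generated by the minors;
* `hk_of_quotient` : the left kernel hypothesis from the quotient ring;
* `exists_lift_relations` : lifting relations along a quotient with `I ∩ K ≤ K I`;
* `span_range_unit_mul`, `height_comap_le_of_ker_le_nilradical`.
-/

set_option autoImplicit false
universe u

namespace Groth.Agent.Lib.H26HBDeform

open Groth.Agent.Lib Groth.Agent.Lib.H26HBSpread IsLocalRing

section basis

variable (C : Type u) [CommRing C] [IsLocalRing C] [IsNoetherianRing C]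

/-- A "basis" of `J/J'` over the residue field when `𝔪 J ≤ J'`. -/
theorem exists_basis_mod (J J' : Ideal C) (hm : maximalIdeal C * J ≤ J') :
    ∃ (d : ℕ) (ε : Fin d → C), (∀ l, ε l ∈ J) ∧
      (∀ y ∈ J, ∃ c : Fin d → C, y - ∑ l, c l * ε l ∈ J') ∧
      (∀ c : Fin d → C, ∑ l, c l * ε l ∈ J' → ∀ l, c l ∈ maximalIdeal C) := by
  let N : Submodule C J := Submodule.comap J.subtype J'
  let Q := J ⧸ N
  have htors : Module.IsTorsionBySet C Q (maximalIdeal C) := by
    intro x a
    obtain ⟨y, rfl⟩ := Submodule.Quotient.mk_surjective N x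
    rw [← Submodule.Quotient.mk_smul, Submodule.Quotient.mk_eq_zero]
    show ((a : C) • y : J).1 ∈ J'
    exact hm (Ideal.mul_mem_mul a.2 y.2)
  letI : Module (C ⧸ maximalIdeal C) Q := htors.module
  haveI : IsScalarTower C (C ⧸ maximalIdeal C) Q := htors.isScalarTower
  letI : Field (C ⧸ maximalIdeal C) := Ideal.Quotient.field _
  haveI : Module.Finite (C ⧸ maximalIdeal C) Q :=
    Module.Finite.of_restrictScalars_finite C (C ⧸ maximalIdeal C) Q
  let b := Module.finBasis (C ⧸ maximalIdeal C) Q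
  have hsmul : ∀ (a : C) (x : Q), (Ideal.Quotient.mk (maximalIdeal C) a) • x = a • x :=
    fun a x => rfl
  choose e he using fun l => Submodule.Quotient.mk_surjective N (b l)
  refine ⟨Module.finrank (C ⧸ maximalIdeal C) Q, fun l => (e l : C), fun l => (e l).2, ?_, ?_⟩
  · intro y hy
    have h1 := b.sum_repr (Submodule.Quotient.mk ⟨y, hy⟩ : Q)
    choose c hc using fun l => Ideal.Quotient.mk_surjective (b.repr (Submodule.Quotient.mk ⟨y, hy⟩) l)
    refine ⟨c, ?_⟩
    have h2 : (Submodule.Quotient.mk (⟨y, hy⟩ - ∑ l, c l • e l) : Q) = 0 := by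
      rw [Submodule.Quotient.mk_sub, ← h1, sub_eq_zero]
      rw [show (Submodule.Quotient.mk (∑ l, c l • e l) : Q) =
        ∑ l, (Submodule.Quotient.mk (c l • e l) : Q) from map_sum N.mkQ _ _]
      refine Finset.sum_congr rfl fun l _ => ?_
      rw [← hc l, hsmul, Submodule.Quotient.mk_smul, he]
    rw [Submodule.Quotient.mk_eq_zero] at h2
    have h3 : ((⟨y, hy⟩ - ∑ l, c l • e l : J) : C) ∈ J' := h2
    simpa using h3
  · intro c hc l
    have h1 : ∑ l, (Ideal.Quotient.mk (maximalIdeal C) (c l)) • b l = 0 := by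
      simp only [hsmul, ← he]
      have e1 : ∑ x, c x • (Submodule.Quotient.mk (e x) : Q) = N.mkQ (∑ x, c x • e x) := by
        rw [map_sum]
        exact Finset.sum_congr rfl fun x _ => (map_smul N.mkQ (c x) (e x)).symm
      rw [e1, Submodule.mkQ_apply, Submodule.Quotient.mk_eq_zero]
      show ((∑ l, c l • e l : J) : C) ∈ J'
      simpa using hc
    have h2 := Fintype.linearIndependent_iff.mp b.linearIndependent _ h1 l
    exact Ideal.Quotient.eq_zero_iff_mem.mp h2

end basis

section decomposition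

variable {C A : Type u} [CommRing C] [CommRing A] [Algebra C A]

lemma mem_map_iff_mem_smul_top (K : Ideal C) (a : A) :
    a ∈ K.map (algebraMap C A) ↔ a ∈ (K • ⊤ : Submodule C A) := by
  rw [← ArtinSocle88.mem_map_smul_top_iff (S := A) (M := A) K a, smul_eq_mul, Ideal.mul_top]

/-- Every element of `JA` is a combination of the `ε_l` modulo `J'A`. -/
lemma exists_decomp (J J' : Ideal C) {d : ℕ} (ε : Fin d → C)
    (hgen : ∀ y ∈ J, ∃ c : Fin d → C, y - ∑ l, c l * ε l ∈ J')
    (x : A) (hx : x ∈ J.map (algebraMap C A)) :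
    ∃ y : Fin d → A, x - ∑ l, algebraMap C A (ε l) * y l ∈ J'.map (algebraMap C A) := by
  refine Submodule.span_induction ?_ ?_ ?_ ?_ hx
  · rintro _ ⟨j, hj, rfl⟩
    obtain ⟨c, hc⟩ := hgen j hj
    refine ⟨fun l => algebraMap C A (c l), ?_⟩
    have := Ideal.mem_map_of_mem (algebraMap C A) hc
    simpa [map_sub, map_sum, map_mul, mul_comm] using this
  · exact ⟨0, by simp⟩
  · rintro x y _ _ ⟨y₁, h₁⟩ ⟨y₂, h₂⟩
    refine ⟨y₁ + y₂, ?_⟩
    have : x + y - ∑ l, algebraMap C A (ε l) * (y₁ + y₂) l =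
        (x - ∑ l, algebraMap C A (ε l) * y₁ l) + (y - ∑ l, algebraMap C A (ε l) * y₂ l) := by
      simp only [Pi.add_apply, mul_add, Finset.sum_add_distrib]
      ring
    rw [this]
    exact Ideal.add_mem _ h₁ h₂
  · rintro a x _ ⟨y₁, h₁⟩
    refine ⟨a • y₁, ?_⟩
    have : a • x - ∑ l, algebraMap C A (ε l) * (a • y₁) l =
        a * (x - ∑ l, algebraMap C A (ε l) * y₁ l) := by
      simp only [Pi.smul_apply, smul_eq_mul, mul_sub, Finset.mul_sum]
      congr 1
      exact Finset.sum_congr rfl fun l _ => by ring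
    rw [this]
    exact Ideal.mul_mem_left _ _ h₁

variable [IsLocalRing C] [Module.Flat C A]

/-- Flatness: residually independent elements modulo `J'` only admit relations modulo `J'A` with
coefficients in `𝔪A`. -/
lemma mem_map_maximalIdeal_of_sum_mem (J' : Ideal C) {d : ℕ} (ε : Fin d → C)
    (hind : ∀ c : Fin d → C, ∑ l, c l * ε l ∈ J' → ∀ l, c l ∈ maximalIdeal C)
    (y : Fin d → A) (hy : ∑ l, algebraMap C A (ε l) * y l ∈ J'.map (algebraMap C A)) (l₀ : Fin d) :
    y l₀ ∈ (maximalIdeal C).map (algebraMap C A) := by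
  classical
  let ε' : Fin d → C := fun l => if l = l₀ then 0 else ε l
  let I : Ideal C := J' ⊔ Ideal.span (Set.range ε')
  have h1 : ε l₀ • y l₀ ∈ (I • ⊤ : Submodule C A) := by
    have e : ε l₀ • y l₀ = (∑ l, algebraMap C A (ε l) * y l) - ∑ l, ε' l • y l := by
      rw [← Finset.sum_sub_distrib]
      have : ∀ l, algebraMap C A (ε l) * y l - ε' l • y l = if l = l₀ then ε l₀ • y l₀ else 0 := by
        intro l
        by_cases hl : l = l₀
        · subst hl; simp [ε', Algebra.smul_def]
        · simp [ε', hl, Algebra.smul_def]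
      simp only [this, Finset.sum_ite_eq', Finset.mem_univ, if_true]
    rw [e]
    refine Submodule.sub_mem _ ?_ (Submodule.sum_mem _ fun l _ => ?_)
    · have := (mem_map_iff_mem_smul_top J' _).mp hy
      exact Submodule.smul_mono_left le_sup_left this
    · exact Submodule.smul_mem_smul (le_sup_right (a := J') (Ideal.subset_span ⟨l, rfl⟩))
        Submodule.mem_top
  have h2 := ArtinSocle88.mem_colon_smul_top_of_smul_mem I (ε l₀) (y l₀) h1
  have hK : LinearMap.ker (I.mkQ ∘ₗ LinearMap.toSpanSingleton C C (ε l₀)) ≤ maximalIdeal C := by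
    intro c hc
    rw [LinearMap.mem_ker, LinearMap.comp_apply, LinearMap.toSpanSingleton_apply,
      Submodule.mkQ_apply, Submodule.Quotient.mk_eq_zero] at hc
    obtain ⟨j', hj', z, hz, e⟩ := Submodule.mem_sup.mp hc
    obtain ⟨c', hc'⟩ := Ideal.mem_span_range_iff_exists_fun.mp hz
    let c'' : Fin d → C := fun l => if l = l₀ then c else - c' l
    have hsum : ∑ l, c'' l * ε l = j' := by
      have : ∀ l, c'' l * ε l = (if l = l₀ then c * ε l₀ else 0) - c' l * ε' l := by
        intro l
        by_cases hl : l = l₀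
        · subst hl; simp [c'', ε']
        · simp [c'', ε', hl]
      simp only [this, Finset.sum_sub_distrib, Finset.sum_ite_eq', Finset.mem_univ, if_true, hc']
      rw [smul_eq_mul] at e
      rw [← e]
      ring
    have := hind c'' (by rw [hsum]; exact hj') l₀
    simpa [c''] using this
  have h3 : y l₀ ∈ (maximalIdeal C • ⊤ : Submodule C A) := Submodule.smul_mono_left hK h2
  exact (mem_map_iff_mem_smul_top _ _).mpr h3

end decomposition

section step

variable {C A : Type u} [CommRing C] [IsLocalRing C] [IsNoetherianRing C] [CommRing A]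
  [Algebra C A] [Module.Flat C A]

/-- **The left-kernel step.** -/
theorem lkstep (J J' : Ideal C) (hm : maximalIdeal C * J ≤ J') {r : ℕ}
    (φ : Matrix (Fin (r + 1)) (Fin r) A)
    (HK : ∀ x : Fin (r + 1) → A,
      (∀ j, ∑ i, x i * φ i j ∈ (maximalIdeal C).map (algebraMap C A)) →
      ∃ c : A, ∀ i, x i - c * sm φ i ∈ (maximalIdeal C).map (algebraMap C A))
    (h : Fin (r + 1) → A) (hJ : ∀ i, h i ∈ J.map (algebraMap C A))
    (hh : ∀ j, ∑ i, h i * φ i j ∈ J'.map (algebraMap C A)) :
    ∃ c ∈ J.map (algebraMap C A), ∀ i, h i - c * sm φ i ∈ J'.map (algebraMap C A) := by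
  obtain ⟨d, ε, hε, hgen, hind⟩ := exists_basis_mod C J J' hm
  choose x hx using fun i => exists_decomp (A := A) J J' ε hgen (h i) (hJ i)
  have hrel : ∀ j, ∑ l, algebraMap C A (ε l) * (∑ i, x i l * φ i j) ∈
      J'.map (algebraMap C A) := by
    intro j
    have e : ∑ l, algebraMap C A (ε l) * (∑ i, x i l * φ i j) =
        (∑ i, h i * φ i j) - ∑ i, (h i - ∑ l, algebraMap C A (ε l) * x i l) * φ i j := by
      rw [← Finset.sum_sub_distrib]
      simp only [Finset.mul_sum]
      rw [Finset.sum_comm]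
      refine Finset.sum_congr rfl fun i _ => ?_
      rw [sub_mul, sub_sub_cancel, Finset.sum_mul]
      exact Finset.sum_congr rfl fun l _ => by ring
    rw [e]
    exact Ideal.sub_mem _ (hh j) (Ideal.sum_mem _ fun i _ => Ideal.mul_mem_right _ _ (hx i))
  have hmem : ∀ l j, ∑ i, x i l * φ i j ∈ (maximalIdeal C).map (algebraMap C A) := fun l j =>
    mem_map_maximalIdeal_of_sum_mem J' ε hind (fun l => ∑ i, x i l * φ i j) (hrel j) l
  choose c hc using fun l => HK (fun i => x i l) (hmem l)
  refine ⟨∑ l, algebraMap C A (ε l) * c l, ?_, fun i => ?_⟩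
  · exact Ideal.sum_mem _ fun l _ => Ideal.mul_mem_right _ _ (Ideal.mem_map_of_mem _ (hε l))
  · have e : h i - (∑ l, algebraMap C A (ε l) * c l) * sm φ i =
        (h i - ∑ l, algebraMap C A (ε l) * x i l) +
          ∑ l, algebraMap C A (ε l) * (x i l - c l * sm φ i) := by
      simp only [mul_sub, Finset.sum_sub_distrib, Finset.sum_mul]
      have : ∑ l, algebraMap C A (ε l) * (c l * sm φ i) =
          ∑ l, algebraMap C A (ε l) * c l * sm φ i :=
        Finset.sum_congr rfl fun l _ => by ring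
      rw [this]
      ring
    rw [e]
    refine Ideal.add_mem _ (hx i) (Ideal.sum_mem _ fun l _ => ?_)
    have h1 : algebraMap C A (ε l) * (x i l - c l * sm φ i) ∈
        (J * maximalIdeal C).map (algebraMap C A) := by
      rw [Ideal.map_mul]
      exact Ideal.mul_mem_mul (Ideal.mem_map_of_mem _ (hε l)) (hc l i)
    exact Ideal.map_mono (by rwa [mul_comm]) h1

end step

section misc

variable {A : Type u} [CommRing A]

/-- The left-kernel hypothesis modulo `K` from the left-kernel property in `A ⧸ K`. -/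
lemma hk_of_quotient (K : Ideal A) {r : ℕ} (φ : Matrix (Fin (r + 1)) (Fin r) A)
    (H : ∀ h₀ : Fin (r + 1) → A ⧸ K,
      (∀ j, ∑ i, h₀ i * (φ.map (Ideal.Quotient.mk K)) i j = 0) →
      ∃ c, ∀ i, h₀ i = c * sm (φ.map (Ideal.Quotient.mk K)) i)
    (x : Fin (r + 1) → A) (hx : ∀ j, ∑ i, x i * φ i j ∈ K) :
    ∃ c : A, ∀ i, x i - c * sm φ i ∈ K := by
  obtain ⟨c₀, hc₀⟩ := H (fun i => Ideal.Quotient.mk K (x i)) (fun j => by
    have := Ideal.Quotient.eq_zero_iff_mem.mpr (hx j)
    simpa [map_sum, map_mul] using this)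
  obtain ⟨c, rfl⟩ := Ideal.Quotient.mk_surjective c₀
  refine ⟨c, fun i => ?_⟩
  rw [← Ideal.Quotient.eq_zero_iff_mem, map_sub, map_mul, ← sm_map, sub_eq_zero]
  exact hc₀ i

/-- Lifting relations along `A → A ⧸ K` when `I ∩ K ≤ K I`. -/
theorem exists_lift_relations (K I : Ideal A) (hflat : I ⊓ K ≤ K * I) {r : ℕ}
    (f : Fin (r + 1) → A) (hI : I = Ideal.span (Set.range f))
    (φ : Matrix (Fin (r + 1)) (Fin r) (A ⧸ K))
    (hrel : ∀ j, ∑ i, Ideal.Quotient.mk K (f i) * φ i j = 0) :
    ∃ φ' : Matrix (Fin (r + 1)) (Fin r) A, φ'.map (Ideal.Quotient.mk K) = φ ∧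
      ∀ j, ∑ i, f i * φ' i j = 0 := by
  choose ψ hψ using fun i j => Ideal.Quotient.mk_surjective (φ i j)
  have hy : ∀ j, ∑ i, f i * ψ i j ∈ K * I := by
    intro j
    apply hflat
    refine ⟨?_, ?_⟩
    · rw [hI]
      exact Ideal.sum_mem _ fun i _ => Ideal.mul_mem_right _ _ (Ideal.subset_span ⟨i, rfl⟩)
    · show _ ∈ K
      rw [← Ideal.Quotient.eq_zero_iff_mem, map_sum]
      simpa [map_mul, hψ] using hrel j
  have hy' : ∀ j, ∃ a : Fin (r + 1) → A, (∀ i, a i ∈ K) ∧ ∑ i, a i * f i = ∑ i, f i * ψ i j := by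
    intro j
    have h1 := hy j
    rw [hI, ← smul_eq_mul, Submodule.mem_ideal_smul_span_iff_exists_sum] at h1
    obtain ⟨a, ha, hsum⟩ := h1
    refine ⟨a, ha, ?_⟩
    rw [← hsum, Finsupp.sum_fintype _ _ (fun i => by simp)]
    rfl
  choose a haK ha using hy'
  refine ⟨Matrix.of fun i j => ψ i j - a j i, ?_, fun j => ?_⟩
  · ext i j
    simp only [Matrix.map_apply, Matrix.of_apply, map_sub, hψ]
    rw [Ideal.Quotient.eq_zero_iff_mem.mpr (haK j i), sub_zero]
  · simp only [Matrix.of_apply, mul_sub, Finset.sum_sub_distrib]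
    rw [← ha j, sub_eq_zero]
    exact Finset.sum_congr rfl fun i _ => by ring

lemma span_range_unit_mul {ι : Type*} (u : A) (hu : IsUnit u) (g : ι → A) :
    Ideal.span (Set.range fun i => u * g i) = Ideal.span (Set.range g) := by
  apply le_antisymm
  · rw [Ideal.span_le]
    rintro _ ⟨i, rfl⟩
    exact Ideal.mul_mem_left _ _ (Ideal.subset_span ⟨i, rfl⟩)
  · rw [Ideal.span_le]
    rintro _ ⟨i, rfl⟩
    obtain ⟨v, hv⟩ := hu.exists_left_inv
    have : g i = v * (u * g i) := by rw [← mul_assoc, hv, one_mul]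
    rw [this]
    exact Ideal.mul_mem_left _ _ (Ideal.subset_span ⟨i, rfl⟩)

/-- Heights do not drop along a surjection with nil kernel. -/
theorem height_comap_le_of_ker_le_nilradical {R S : Type*} [CommRing R] [CommRing S] (f : R →+* S)
    (hf : Function.Surjective f) (hker : RingHom.ker f ≤ nilradical R) (q : Ideal S) [q.IsPrime] :
    (q.comap f).height ≤ q.height := by
  have hkp : ∀ p : PrimeSpectrum R, RingHom.ker f ≤ p.asIdeal := fun p =>
    hker.trans (nilradical_le_prime _)
  let g : PrimeSpectrum R → PrimeSpectrum S := fun p =>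
    ⟨p.asIdeal.map f, Ideal.map_isPrime_of_surjective hf (hkp p)⟩
  have hcm : ∀ p : PrimeSpectrum R, (p.asIdeal.map f).comap f = p.asIdeal := by
    intro p
    rw [Ideal.comap_map_of_surjective f hf, sup_eq_left]
    exact hkp p
  have hsm : StrictMono g := by
    intro a b hab
    refine lt_of_le_of_ne (Ideal.map_mono hab.le) ?_
    intro h
    apply hab.ne
    have h1 : (g a).asIdeal = (g b).asIdeal := congrArg PrimeSpectrum.asIdeal h
    have h2 : a.asIdeal = b.asIdeal := by
      rw [← hcm a, ← hcm b]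
      exact congrArg (Ideal.comap f) h1
    exact PrimeSpectrum.ext h2
  have h1 := Order.height_le_height_apply_of_strictMono g hsm
    (⟨q.comap f, inferInstance⟩ : PrimeSpectrum R)
  have h2 : g ⟨q.comap f, inferInstance⟩ = ⟨q, inferInstance⟩ := by
    apply PrimeSpectrum.ext
    exact Ideal.map_comap_of_surjective f hf q
  rw [h2, ← PrimeSpectrum.height_eq_orderHeight, ← PrimeSpectrum.height_eq_orderHeight] at h1
  exact h1

end misc

end Groth.Agent.Lib.H26HBDeform
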