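import Mathlib
import Groth.Agent.S11457
import Groth.Agent.Lib.H26HBDeform

/-!
# Lifting Hilbert–Burch exactness along a nilpotent thickening; the full left kernel (helper26)

* `lift_exact` : helper7's proof of S11457, restated for an arbitrary proper ideal `J` of a local ring
  with nilpotent maximal ideal (no smoothness / finite type / `𝔪 J = 0` needed): exactness of
  `0 → A^r → A^{r+1} → A` modulo `J` lifts to `A'` (flat over `C'`), with flat cokernel.
* `lk_full` : the left kernel of `φ` is generated by the signed minors, given the property modulo `𝔪A`.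
* `le_of_le_sup_mul_of_pow_eq_bot` : nilpotent Nakayama for ideals.
-/

set_option autoImplicit false
universe u

namespace Groth.Agent.Lib.H26HBLift

open Groth.Agent.Lib Groth.Agent.Lib.H26HBSpread Groth.Agent.S11457 IsLocalRing

/-- helper7's S11457 for an arbitrary proper ideal. -/
theorem lift_exact (C' : Type u) [CommRing C'] [IsLocalRing C']
    (hnil : IsNilpotent (IsLocalRing.maximalIdeal C')) (J : Ideal C') (hJne : J ≠ ⊤)
    (A' : Type u) [CommRing A'] [Algebra C' A'] [Module.Flat C' A']
    (r : ℕ) (φ' : Matrix (Fin (r + 1)) (Fin r) A')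
    (hφ : (Function.Injective (φ'.map (Ideal.Quotient.mk (J.map (algebraMap C' A')))).mulVecLin ∧
        LinearMap.range (φ'.map (Ideal.Quotient.mk (J.map (algebraMap C' A')))).mulVecLin = LinearMap.ker (Fintype.linearCombination (A' ⧸ J.map (algebraMap C' A')) (fun i : Fin (r + 1) => (-1 : (A' ⧸ J.map (algebraMap C' A'))) ^ (i : ℕ) * ((φ'.map (Ideal.Quotient.mk (J.map (algebraMap C' A')))).submatrix i.succAbove id).det)))) :
    Function.Injective φ'.mulVecLin ∧
      LinearMap.range φ'.mulVecLin = LinearMap.ker (Fintype.linearCombination A' (fun i : Fin (r + 1) => (-1 : A') ^ (i : ℕ) * ((φ').submatrix i.succAbove id).det)) ∧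
      Module.Flat C' (A' ⧸ Ideal.span (Set.range (fun i : Fin (r + 1) => (-1 : A') ^ (i : ℕ) * ((φ').submatrix i.succAbove id).det))) := by
  classical
  obtain ⟨hinj, hex⟩ := hφ
  -- abbreviations
  let mk := Ideal.Quotient.mk (J.map (algebraMap C' A'))
  let minor : Fin (r + 1) → A' := fun i => (-1 : A') ^ (i : ℕ) * ((φ').submatrix i.succAbove id).det
  have hminor : ∀ i, mk (minor i) = (-1 : (A' ⧸ J.map (algebraMap C' A'))) ^ (i : ℕ) *
      ((φ'.map mk).submatrix i.succAbove id).det := by
    intro i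
    simp only [minor, map_mul, map_pow, map_neg, map_one]
    congr 1
    rw [RingHom.map_det]
    rfl
  have : Module.Flat C' (Fin r → A') := flat_pi_fin C' A' r
  have : Module.Flat C' (Fin (r + 1) → A') := flat_pi_fin C' A' (r + 1)
  -- step 1
  let u₁ : (Fin r → A') →ₗ[C'] (Fin (r + 1) → A') := (φ'.mulVecLin).restrictScalars C'
  have hu₁ : ∀ x, u₁ x = φ'.mulVec x := fun x => rfl
  have hmulVec : ∀ x : Fin r → A', (mk ∘ (φ'.mulVec x)) = (φ'.map mk).mulVec (mk ∘ x) := by
    intro x
    funext i
    exact RingHom.map_mulVec mk φ' x i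
  have hzero : ∀ (n : ℕ) (x : Fin n → A'), x ∈ (J • ⊤ : Submodule C' (Fin n → A')) ↔ mk ∘ x = 0 := by
    intro n x
    rw [mem_smul_top_pi_iff]
    constructor
    · intro h
      funext i
      exact Ideal.Quotient.eq_zero_iff_mem.mpr (h i)
    · intro h i
      exact Ideal.Quotient.eq_zero_iff_mem.mp (congrFun h i)
  have h1 := Groth.Agent.Lib.ArtinSocle88.injective_and_flat_of_injMod hnil J hJne u₁ (by
    intro x hx
    rw [hzero] at hx ⊢
    rw [hu₁, hmulVec] at hx
    have : (φ'.map mk).mulVecLin (mk ∘ x) = 0 := hx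
    exact (map_eq_zero_iff _ hinj).mp this)
  obtain ⟨hu₁inj, hflat₁, -⟩ := h1
  -- step 2
  let g : (Fin (r + 1) → A') →ₗ[C'] A' := (Fintype.linearCombination A' minor).restrictScalars C'
  have hg : ∀ y, g y = ∑ i, y i * minor i := by
    intro y
    show Fintype.linearCombination A' minor y = _
    rw [Fintype.linearCombination_apply]
    rfl
  have hgu : ∀ x, g (u₁ x) = 0 := by
    intro x
    rw [hg, hu₁]
    simp only [Matrix.mulVec, dotProduct, Finset.sum_mul]
    rw [Finset.sum_comm]
    have : ∀ j, ∑ i, φ' i j * x j * minor i = x j * ∑ i, minor i * φ' i j := by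
      intro j
      rw [Finset.mul_sum]
      apply Finset.sum_congr rfl
      intro i _
      ring
    have hm : ∀ j, ∑ i, minor i * φ' i j = 0 := fun j => sum_minor_mul r φ' j
    simp only [this, hm, mul_zero, Finset.sum_const_zero]
  have hle : LinearMap.range u₁ ≤ LinearMap.ker g := by
    rintro _ ⟨x, rfl⟩
    exact hgu x
  let g' : ((Fin (r + 1) → A') ⧸ LinearMap.range u₁) →ₗ[C'] A' := (LinearMap.range u₁).liftQ g hle
  have hmkg : ∀ y, mk (g y) = Fintype.linearCombination (A' ⧸ J.map (algebraMap C' A'))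
      (fun i : Fin (r + 1) => (-1 : (A' ⧸ J.map (algebraMap C' A'))) ^ (i : ℕ) *
        ((φ'.map mk).submatrix i.succAbove id).det) (mk ∘ y) := by
    intro y
    rw [hg, Fintype.linearCombination_apply, map_sum]
    apply Finset.sum_congr rfl
    intro i _
    rw [map_mul, hminor, smul_eq_mul]
    rfl
  have h2 := Groth.Agent.Lib.ArtinSocle88.injective_and_flat_of_injMod hnil J hJne g' (by
    intro q hq
    obtain ⟨y, rfl⟩ := Submodule.mkQ_surjective _ q
    have hq' : g y ∈ (J • ⊤ : Submodule C' A') := hq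
    have hq2 : g y ∈ J.map (algebraMap C' A') := by
      rw [← Groth.Agent.Lib.ArtinSocle88.mem_map_smul_top_iff (S := A') (M := A') J (g y)] at hq'
      rwa [smul_eq_mul, Ideal.mul_top] at hq'
    have hq3 : mk (g y) = 0 := Ideal.Quotient.eq_zero_iff_mem.mpr hq2
    rw [hmkg] at hq3
    have hq4 : (mk ∘ y) ∈ LinearMap.range (φ'.map mk).mulVecLin := by
      rw [hex]
      exact hq3
    obtain ⟨pbar, hp⟩ := hq4
    have hsurj : ∀ i, ∃ a, mk a = pbar i := fun i => Ideal.Quotient.mk_surjective _
    choose p hpp using hsurj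
    have hp' : mk ∘ p = pbar := funext hpp
    have h3 : y - u₁ p ∈ (J • ⊤ : Submodule C' (Fin (r + 1) → A')) := by
      rw [hzero]
      funext i
      have := congrFun hp i
      simp only [Function.comp, Pi.sub_apply, map_sub, Pi.zero_apply]
      rw [sub_eq_zero]
      have h4 := congrFun (hmulVec p) i
      simp only [Function.comp] at h4
      rw [hu₁, h4, hp']
      exact this.symm
    have h5 : (LinearMap.range u₁).mkQ y = (LinearMap.range u₁).mkQ (y - u₁ p) := by
      rw [map_sub]
      have : (LinearMap.range u₁).mkQ (u₁ p) = 0 := by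
        rw [Submodule.mkQ_apply, Submodule.Quotient.mk_eq_zero]
        exact ⟨p, rfl⟩
      rw [this, sub_zero]
    rw [h5]
    have h6 : (J • ⊤ : Submodule C' (Fin (r + 1) → A')).map (LinearMap.range u₁).mkQ ≤
        (J • ⊤ : Submodule C' ((Fin (r + 1) → A') ⧸ LinearMap.range u₁)) := by
      rw [Submodule.map_smul'']
      exact Submodule.smul_mono le_rfl le_top
    exact h6 ⟨_, h3, rfl⟩)
  obtain ⟨hg'inj, hflat₂, -⟩ := h2
  refine ⟨hu₁inj, ?_, ?_⟩
  · ext y
    constructor
    · rintro ⟨x, rfl⟩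
      exact hgu x
    · intro hy
      have h3 : g' ((LinearMap.range u₁).mkQ y) = 0 := hy
      have h4 : (LinearMap.range u₁).mkQ y = 0 := (map_eq_zero_iff _ hg'inj).mp h3
      rw [Submodule.mkQ_apply, Submodule.Quotient.mk_eq_zero] at h4
      obtain ⟨x, hx⟩ := h4
      exact ⟨x, hx⟩
  · have hrange : LinearMap.range g' = (Ideal.span (Set.range minor)).restrictScalars C' := by
      rw [Submodule.range_liftQ]
      ext z
      rw [Submodule.restrictScalars_mem]
      have h7 : Ideal.span (Set.range minor) = LinearMap.range (Fintype.linearCombination A' minor) :=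
        (Fintype.range_linearCombination A' minor).symm
      rw [h7]
      rfl
    exact Module.Flat.of_linearEquiv ((Submodule.quotEquivOfEq _ _ hrange) ≪≫ₗ
      Submodule.Quotient.restrictScalarsEquiv C' (Ideal.span (Set.range minor))).symm


/-- the Laplace identity for signed maximal minors. -/
lemma sum_sm_mul {R : Type*} [CommRing R] {r : ℕ} (ψ : Matrix (Fin (r + 1)) (Fin r) R) (j : Fin r) :
    ∑ i, sm ψ i * ψ i j = 0 :=
  sum_minor_mul r ψ j

/-- **The full left kernel.** -/
theorem lk_full {C A : Type u} [CommRing C] [IsLocalRing C] [IsNoetherianRing C]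
    (hnil : IsNilpotent (maximalIdeal C)) [CommRing A] [Algebra C A] [Module.Flat C A] {r : ℕ}
    (φ : Matrix (Fin (r + 1)) (Fin r) A)
    (HK : ∀ x : Fin (r + 1) → A,
      (∀ j, ∑ i, x i * φ i j ∈ (maximalIdeal C).map (algebraMap C A)) →
      ∃ c : A, ∀ i, x i - c * sm φ i ∈ (maximalIdeal C).map (algebraMap C A))
    (k : ℕ) (h : Fin (r + 1) → A) (hk : ∀ i, h i ∈ ((maximalIdeal C) ^ k).map (algebraMap C A))
    (hh : ∀ j, ∑ i, h i * φ i j = 0) :
    ∃ c ∈ ((maximalIdeal C) ^ k).map (algebraMap C A), ∀ i, h i = c * sm φ i := by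
  obtain ⟨N, hN⟩ := hnil
  suffices H : ∀ n k : ℕ, N ≤ k + n → ∀ h : Fin (r + 1) → A,
      (∀ i, h i ∈ ((maximalIdeal C) ^ k).map (algebraMap C A)) → (∀ j, ∑ i, h i * φ i j = 0) →
      ∃ c ∈ ((maximalIdeal C) ^ k).map (algebraMap C A), ∀ i, h i = c * sm φ i from
    H N k (Nat.le_add_left N k) h hk hh
  intro n
  induction n with
  | zero =>
    intro k hNk h hk _
    have hbot : (maximalIdeal C) ^ k = ⊥ := by
      rw [eq_bot_iff, ← Ideal.zero_eq_bot, ← hN]
      exact Ideal.pow_le_pow_right (by omega)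
    refine ⟨0, Ideal.zero_mem _, fun i => ?_⟩
    have := hk i
    rw [hbot, Ideal.map_bot, Ideal.mem_bot] at this
    rw [this, zero_mul]
  | succ n ih =>
    intro k hNk h hk hh
    have hm : maximalIdeal C * (maximalIdeal C) ^ k ≤ (maximalIdeal C) ^ (k + 1) := by
      rw [pow_succ']
    obtain ⟨c₁, hc₁, hc₁'⟩ := H26HBDeform.lkstep ((maximalIdeal C) ^ k) ((maximalIdeal C) ^ (k + 1))
      hm φ HK h hk (fun j => by rw [hh j]; exact Ideal.zero_mem _)
    obtain ⟨c₂, hc₂, hc₂'⟩ := ih (k + 1) (by omega) (fun i => h i - c₁ * sm φ i) hc₁' (fun j => by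
      simp only [sub_mul, Finset.sum_sub_distrib, hh j, zero_sub, neg_eq_zero]
      have : ∑ i, c₁ * sm φ i * φ i j = c₁ * ∑ i, sm φ i * φ i j := by
        rw [Finset.mul_sum]
        exact Finset.sum_congr rfl fun i _ => by ring
      rw [this, sum_sm_mul, mul_zero])
    refine ⟨c₁ + c₂, Ideal.add_mem _ hc₁ ?_, fun i => ?_⟩
    · exact Ideal.map_mono (Ideal.pow_le_pow_right (Nat.le_succ k)) hc₂
    · have := hc₂' i
      linear_combination this

/-- nilpotent Nakayama for ideals. -/
theorem le_of_le_sup_mul_of_pow_eq_bot {A : Type*} [CommRing A] (M I S : Ideal A) (N : ℕ)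
    (hM : M ^ N = ⊥) (h : I ≤ S ⊔ M * I) : I ≤ S := by
  have key : ∀ n : ℕ, I ≤ S ⊔ M ^ n * I := by
    intro n
    induction n with
    | zero => rw [pow_zero, one_mul]; exact le_sup_right
    | succ n ih =>
      calc I ≤ S ⊔ M * I := h
        _ ≤ S ⊔ M * (S ⊔ M ^ n * I) := sup_le_sup_left (Ideal.mul_mono_right ih) _
        _ = S ⊔ (M * S ⊔ M * (M ^ n * I)) := by rw [Ideal.mul_sup]
        _ ≤ S ⊔ M ^ (n + 1) * I := by
          refine sup_le le_sup_left (sup_le (le_sup_of_le_left Ideal.mul_le_right) ?_)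
          rw [← mul_assoc, ← pow_succ']
          exact le_sup_right
  have := key N
  rwa [hM, Ideal.bot_mul, sup_bot_eq] at this

end Groth.Agent.Lib.H26HBLift
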