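import Mathlib
import Groth.Agent.Lib.H26HilbertBurch
import Groth.Agent.Lib.H26HBSpread
import Groth.Agent.Lib.H8CM8
import Groth.Agent.Lib.DepthRees

/-!
# The left kernel of an `(r+1) × r` matrix whose maximal minors have grade ≥ 2 (helper26)

For `φ : Matrix (Fin (r+1)) (Fin r) R` with signed maximal minors `g = sm φ`:
* `delta_mul_cross` : each minor kills `h i * g j - h j * g i` when `h φ = 0` (Cramer);
* `exists_eq_mul_of_isWeaklyRegular` : if `(g)` contains a weakly regular sequence `[a, b]` then every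
  `h` with `h φ = 0` is a multiple `c • g`;
* `exists_eq_mul_of_isCM` : the same in a Cohen–Macaulay ring when every prime containing `(g)` has
  height `≥ 2`.
-/

set_option autoImplicit false
universe u

namespace Groth.Agent.Lib.H26LeftKer

open Groth.Agent.Lib Groth.Agent.Lib.H26HilbertBurch Groth.Agent.Lib.H26HBSpread
open RingTheory.Sequence

section general

variable {R : Type u} [CommRing R] {r : ℕ} (φ : Matrix (Fin (r + 1)) (Fin r) R)

/-- Cramer: each maximal minor kills the cross terms of a left-kernel vector. -/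
lemma delta_mul_cross (h : Fin (r + 1) → R) (hh : ∀ j, ∑ i, h i * φ i j = 0)
    (c i j : Fin (r + 1)) :
    δ φ c * (h i * sm φ j - h j * sm φ i) = 0 := by
  classical
  set f : Fin (r + 1) → R := sm φ with hf
  let v : Fin (r + 1) → R := f j • Pi.single i 1 - f i • Pi.single j 1
  have hv : ∑ k : Fin (r + 1), (-1) ^ (k : ℕ) * v k * δ φ k = 0 := by
    have h1 : ∀ k : Fin (r + 1), (-1) ^ (k : ℕ) * v k * δ φ k =
        f j * ((Pi.single i (1 : R) : Fin (r + 1) → R) k * f k) -
          f i * ((Pi.single j (1 : R) : Fin (r + 1) → R) k * f k) := by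
      intro k
      simp only [v, hf, sm, Pi.sub_apply, Pi.smul_apply, smul_eq_mul]
      ring
    simp_rw [h1]
    rw [Finset.sum_sub_distrib, ← Finset.mul_sum, ← Finset.mul_sum]
    simp only [Pi.single_apply, ite_mul, one_mul, zero_mul, Finset.sum_ite_eq', Finset.mem_univ,
      if_true]
    ring
  obtain ⟨w, hw⟩ := exists_mulVec_eq φ v hv c
  have h2 : ∑ k, h k * (φ.mulVec w) k = 0 := by
    simp only [Matrix.mulVec, dotProduct, Finset.mul_sum]
    rw [Finset.sum_comm]
    refine Finset.sum_eq_zero fun l _ => ?_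
    have : ∑ k, h k * (φ k l * w l) = (∑ k, h k * φ k l) * w l := by
      rw [Finset.sum_mul]
      exact Finset.sum_congr rfl fun k _ => by ring
    rw [this, hh l, zero_mul]
  rw [hw] at h2
  have h4 : ∑ k, h k * (δ φ c • v) k = δ φ c * (f j * h i - f i * h j) := by
    simp only [v, Pi.sub_apply, Pi.smul_apply, smul_eq_mul, mul_sub, Finset.sum_sub_distrib]
    simp only [Pi.single_apply, mul_ite, mul_one, mul_zero, Finset.sum_ite_eq', Finset.mem_univ,
      if_true]
    ring
  rw [h4] at h2
  rw [← h2]
  ring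

/-- A regular element of the ideal of minors forces the cross terms to vanish. -/
lemma cross_eq (a : R) (ha : a ∈ Ideal.span (Set.range (sm φ))) (hreg : IsSMulRegular R a)
    (h : Fin (r + 1) → R) (hh : ∀ j, ∑ i, h i * φ i j = 0) (i j : Fin (r + 1)) :
    h i * sm φ j = h j * sm φ i := by
  have key : ∀ x ∈ Ideal.span (Set.range (sm φ)), x * (h i * sm φ j - h j * sm φ i) = 0 := by
    intro x hx
    refine Submodule.span_induction ?_ ?_ ?_ ?_ hx
    · rintro _ ⟨c, rfl⟩
      have := delta_mul_cross φ h hh c i j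
      simp only [sm]
      rw [mul_assoc, this, mul_zero]
    · exact zero_mul _
    · intro x y _ _ hx hy; rw [add_mul, hx, hy, add_zero]
    · intro t x _ hx; rw [smul_eq_mul, mul_assoc, hx, mul_zero]
  have h1 := key a ha
  have h2 : a • (h i * sm φ j - h j * sm φ i) = a • (0 : R) := by
    rw [smul_eq_mul, h1, smul_zero]
  exact sub_eq_zero.mp (hreg h2)

/-- If the ideal of maximal minors contains a weakly regular sequence of length two, the left kernel
of `φ` is generated by the vector of signed maximal minors. -/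
theorem exists_eq_mul_of_isWeaklyRegular (a b : R) (ha : a ∈ Ideal.span (Set.range (sm φ)))
    (hb : b ∈ Ideal.span (Set.range (sm φ))) (hreg : IsWeaklyRegular R [a, b])
    (h : Fin (r + 1) → R) (hh : ∀ j, ∑ i, h i * φ i j = 0) :
    ∃ c : R, ∀ i, h i = c * sm φ i := by
  rw [isWeaklyRegular_cons_iff] at hreg
  obtain ⟨hareg, hbreg⟩ := hreg
  rw [isWeaklyRegular_cons_iff] at hbreg
  replace hbreg := hbreg.1
  have hcross := cross_eq φ a ha hareg h hh
  obtain ⟨α, hα⟩ := Ideal.mem_span_range_iff_exists_fun.mp ha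
  obtain ⟨β, hβ⟩ := Ideal.mem_span_range_iff_exists_fun.mp hb
  set ha' : R := ∑ i, α i * h i with hha'
  set hb' : R := ∑ i, β i * h i with hhb'
  have e1 : ∀ j, a * h j = ha' * sm φ j := by
    intro j
    rw [← hα, hha', Finset.sum_mul, Finset.sum_mul]
    refine Finset.sum_congr rfl fun i _ => ?_
    linear_combination (-(α i)) * hcross i j
  have e2 : ∀ j, b * h j = hb' * sm φ j := by
    intro j
    rw [← hβ, hhb', Finset.sum_mul, Finset.sum_mul]
    refine Finset.sum_congr rfl fun i _ => ?_
    linear_combination (-(β i)) * hcross i j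
  -- `a * hb' = b * ha'`
  have e3 : ∀ j, (a * hb' - b * ha') * sm φ j = 0 := by
    intro j
    have : (a * hb' - b * ha') * sm φ j = a * (hb' * sm φ j) - b * (ha' * sm φ j) := by ring
    rw [this, ← e1, ← e2]
    ring
  have e4 : (a * hb' - b * ha') * a = 0 := by
    have : (a * hb' - b * ha') * (∑ i, α i * sm φ i) = 0 := by
      rw [Finset.mul_sum]
      refine Finset.sum_eq_zero fun i _ => ?_
      rw [mul_left_comm, e3 i, mul_zero]
    rwa [hα] at this
  have e5 : a * hb' = b * ha' := by
    have h2 : a • (a * hb' - b * ha') = a • (0 : R) := by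
      rw [smul_eq_mul, mul_comm, e4, smul_zero]
    exact sub_eq_zero.mp (hareg h2)
  -- `ha' ∈ (a)`
  have e6 : (Submodule.Quotient.mk ha' : QuotSMulTop a R) = 0 := by
    apply hbreg
    show b • (Submodule.Quotient.mk ha' : QuotSMulTop a R) = b • 0
    rw [smul_zero, ← Submodule.Quotient.mk_smul, Submodule.Quotient.mk_eq_zero, smul_eq_mul, ← e5]
    exact Submodule.smul_mem_pointwise_smul _ _ _ Submodule.mem_top
  rw [Submodule.Quotient.mk_eq_zero] at e6
  obtain ⟨c, -, hc⟩ := (Submodule.mem_smul_pointwise_iff_exists _ _ _).mp e6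
  refine ⟨c, fun j => ?_⟩
  have h3 : a • h j = a • (c * sm φ j) := by
    rw [smul_eq_mul, smul_eq_mul, e1 j, ← hc, smul_eq_mul]
    ring
  exact hareg h3

end general

section CM

variable {R : Type u} [CommRing R] [LocCoh.IsCohenMacaulayRing R] {r : ℕ}
  (φ : Matrix (Fin (r + 1)) (Fin r) R)

/-- In a Cohen–Macaulay ring, if every prime containing the maximal minors has height `≥ 2`, the left
kernel of `φ` is generated by the vector of signed maximal minors. -/
theorem exists_eq_mul_of_isCM
    (hht : ∀ p : Ideal R, p.IsPrime → Ideal.span (Set.range (sm φ)) ≤ p → (2 : ℕ∞) ≤ p.height)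
    (h : Fin (r + 1) → R) (hh : ∀ j, ∑ i, h i * φ i j = 0) :
    ∃ c : R, ∀ i, h i = c * sm φ i := by
  by_cases htop : Ideal.span (Set.range (sm φ)) = ⊤
  · refine exists_eq_mul_of_isWeaklyRegular φ 1 1 (by rw [htop]; trivial) (by rw [htop]; trivial)
      ?_ h hh
    rw [isWeaklyRegular_cons_iff]
    refine ⟨IsSMulRegular.one R, ?_⟩
    have : Subsingleton (QuotSMulTop (1 : R) R) := by
      apply Submodule.Quotient.subsingleton_iff.mpr
      rw [eq_top_iff]
      intro x _
      exact (Submodule.mem_smul_pointwise_iff_exists _ _ _).mpr ⟨x, trivial, one_smul _ _⟩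
    rw [isWeaklyRegular_cons_iff]
    exact ⟨fun x y _ => Subsingleton.elim _ _, IsWeaklyRegular.nil _ _⟩
  · have h2 : (2 : ℕ∞) ≤ (Ideal.span (Set.range (sm φ))).height := by
      rw [Ideal.height_eq_inf_minimalPrimes]
      refine le_iInf₂ fun p hp => ?_
      exact hht p hp.1.1 hp.1.2
    rw [← H8CM.idealDepth_eq_height htop] at h2
    have htop' : Ideal.span (Set.range (sm φ)) • (⊤ : Submodule R R) ≠ ⊤ := by
      have : Ideal.span (Set.range (sm φ)) • (⊤ : Submodule R R) =
          Ideal.span (Set.range (sm φ)) := by simp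
      rwa [this]
    obtain ⟨rs, hlen, hmem, hreg⟩ :=
      (DepthRees.natCast_le_idealDepth_iff _ R htop' 2).mp (by exact_mod_cast h2)
    match rs, hlen, hmem, hreg with
    | [a, b], _, hmem, hreg =>
      exact exists_eq_mul_of_isWeaklyRegular φ a b (hmem a (by simp)) (hmem b (by simp)) hreg h hh

end CM

end Groth.Agent.Lib.H26LeftKer
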