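import Mathlib
import Groth.Agent.Lib.H29LocalDualityCM
import Groth.Agent.Lib.H26GorDual
import Groth.Agent.Lib.H26HB3
import Groth.Agent.Lib.LocCohH0
import Groth.Agent.Lib.CMFieldExt33
import Groth.Agent.Lib.H26CMDim
import Groth.Agent.S0342
import Groth.Agent.S5170

/-!
# The length of `Hom(I, R/J)` in a two-dimensional regular local ring (helper26)
-/

set_option autoImplicit false
universe u

namespace Groth.Agent.Lib.H26LenHom

open CategoryTheory IsLocalRing

section PartA

variable {R : Type*} [CommRing R] {F₁ F₀ M : Type*} [AddCommGroup F₁] [Module R F₁]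
  [AddCommGroup F₀] [Module R F₀] [AddCommGroup M] [Module R M]
  (N : Type*) [AddCommGroup N] [Module R N]
  (f : F₁ →ₗ[R] F₀) (π : F₀ →ₗ[R] M) (hfπ : Function.Exact f π) (hπ : Function.Surjective π)

include hfπ hπ in
/-- additivity of length along `0 → Hom(M,N) → Hom(F₀,N) → Hom(F₁,N) → coker → 0`. -/
theorem length_hom_add :
    Module.length R (M →ₗ[R] N) + Module.length R (F₁ →ₗ[R] N) =
      Module.length R (F₀ →ₗ[R] N) +
        Module.length R ((F₁ →ₗ[R] N) ⧸ LinearMap.range (LinearMap.lcomp R N f)) := by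
  have hex : Function.Exact (LinearMap.lcomp R N π) (LinearMap.lcomp R N f) :=
    LinearMap.exact_lcomp_of_exact_of_surjective N hfπ hπ
  have hinj : Function.Injective (LinearMap.lcomp R N π) :=
    LinearMap.lcomp_injective_of_surjective π hπ
  have hex' : Function.Exact (LinearMap.lcomp R N π) (LinearMap.lcomp R N f).rangeRestrict := by
    intro y
    rw [← hex y]
    constructor
    · intro h
      exact congrArg Subtype.val h
    · intro h
      exact Subtype.ext h
  have h1 := Module.length_eq_add_of_exact (LinearMap.lcomp R N π)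
    (LinearMap.lcomp R N f).rangeRestrict hinj (LinearMap.surjective_rangeRestrict _) hex'
  have h2 := Module.length_eq_add_of_exact (LinearMap.range (LinearMap.lcomp R N f)).subtype
    (LinearMap.range (LinearMap.lcomp R N f)).mkQ (Submodule.injective_subtype _)
    (Submodule.mkQ_surjective _) (LinearMap.exact_subtype_mkQ _)
  rw [h1, h2]
  rw [add_assoc]

theorem length_hom_pi (k : ℕ) :
    Module.length R ((Fin k → R) →ₗ[R] N) = k * Module.length R N := by
  rw [((Pi.basisFun R (Fin k)).constr R (M' := N)).symm.length_eq, Module.length_pi]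
  simp

end PartA

section Tors

variable {R : Type*} [CommRing R]

/-- the submodule of elements killed by the ideal `J`. -/
def tors (J : Ideal R) (X : Type*) [AddCommGroup X] [Module R X] : Submodule R X where
  carrier := {x | ∀ a ∈ J, a • x = 0}
  add_mem' := by
    intro x y hx hy a ha
    rw [smul_add, hx a ha, hy a ha, add_zero]
  zero_mem' := by
    intro a _
    exact smul_zero a
  smul_mem' := by
    intro c x hx a ha
    rw [smul_comm, hx a ha, smul_zero]

theorem mem_tors {J : Ideal R} {X : Type*} [AddCommGroup X] [Module R X] {x : X} :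
    x ∈ tors J X ↔ ∀ a ∈ J, a • x = 0 := Iff.rfl

theorem length_tors_congr (J : Ideal R) {X Y : Type*} [AddCommGroup X] [Module R X]
    [AddCommGroup Y] [Module R Y] (e : X ≃ₗ[R] Y) :
    Module.length R (tors J X) = Module.length R (tors J Y) := by
  have hmap : (tors J X).map e.toLinearMap = tors J Y := by
    ext y
    constructor
    · rintro ⟨x, hx, rfl⟩ a ha
      change a • e x = 0
      rw [← map_smul, hx a ha, map_zero]
    · intro hy
      refine ⟨e.symm y, ?_, by simp⟩
      intro a ha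
      rw [← map_smul, hy a ha, map_zero]
  rw [← hmap]
  exact (e.submoduleMap (tors J X)).length_eq

end Tors

section Reduce

variable {R : Type*} [CommRing R] (J : Ideal R) {r : ℕ} {F₀ : Type*} [AddCommGroup F₀] [Module R F₀]
  [Module.Projective R F₀] (f : (Fin r → R) →ₗ[R] F₀) (E : Type*) [AddCommGroup E] [Module R E]

/-- postcomposition with the quotient map `R → R/J` on `Hom(F, R)`. -/
noncomputable abbrev qstar (F : Type*) [AddCommGroup F] [Module R F] :
    (F →ₗ[R] R) →ₗ[R] (F →ₗ[R] (R ⧸ J)) :=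
  LinearMap.compRight R J.mkQ

theorem qstar_surjective (F : Type*) [AddCommGroup F] [Module R F] [Module.Projective R F] :
    Function.Surjective (qstar J F) := by
  intro u
  obtain ⟨h, hh⟩ := Module.projective_lifting_property J.mkQ u (Submodule.mkQ_surjective J)
  exact ⟨h, hh⟩

/-- the comparison map `D_{R/J} → D_R`. -/
noncomputable def Psi :
    LinearMap.ker (LinearMap.lcomp R E (LinearMap.lcomp R (R ⧸ J) f)) →ₗ[R]
      LinearMap.ker (LinearMap.lcomp R E (LinearMap.lcomp R R f)) :=
  LinearMap.codRestrict _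
    ((LinearMap.lcomp R E (qstar J (Fin r → R))) ∘ₗ
      (LinearMap.ker (LinearMap.lcomp R E (LinearMap.lcomp R (R ⧸ J) f))).subtype) (by
    intro Λ
    rw [LinearMap.mem_ker]
    apply LinearMap.ext
    intro v
    have hΛ := LinearMap.mem_ker.mp Λ.2
    have := LinearMap.congr_fun hΛ (J.mkQ ∘ₗ v)
    exact this)

theorem Psi_apply (Λ : LinearMap.ker (LinearMap.lcomp R E (LinearMap.lcomp R (R ⧸ J) f)))
    (u : (Fin r → R) →ₗ[R] R) :
    ((Psi J f E Λ : LinearMap.ker (LinearMap.lcomp R E (LinearMap.lcomp R R f))) :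
      ((Fin r → R) →ₗ[R] R) →ₗ[R] E) u = (Λ : ((Fin r → R) →ₗ[R] (R ⧸ J)) →ₗ[R] E) (J.mkQ ∘ₗ u) :=
  rfl

theorem Psi_injective : Function.Injective (Psi J f E) := by
  intro Λ Λ' h
  apply Subtype.ext
  apply LinearMap.ext
  intro u
  obtain ⟨u', rfl⟩ := qstar_surjective J (Fin r → R) u
  have := LinearMap.congr_fun (congrArg Subtype.val h) u'
  exact this

theorem range_Psi : LinearMap.range (Psi J f E) =
    tors J (LinearMap.ker (LinearMap.lcomp R E (LinearMap.lcomp R R f))) := by
  apply le_antisymm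
  · rintro _ ⟨Λ, rfl⟩ a ha
    apply Subtype.ext
    apply LinearMap.ext
    intro u
    change a • ((Psi J f E Λ : LinearMap.ker (LinearMap.lcomp R E (LinearMap.lcomp R R f))) :
      ((Fin r → R) →ₗ[R] R) →ₗ[R] E) u = 0
    rw [Psi_apply, ← map_smul]
    have : a • (J.mkQ ∘ₗ u) = 0 := by
      apply LinearMap.ext
      intro x
      change a • (Submodule.Quotient.mk (u x) : R ⧸ J) = 0
      rw [← Submodule.Quotient.mk_smul, Submodule.Quotient.mk_eq_zero]
      exact Ideal.mul_mem_right _ _ ha
    rw [this, map_zero]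
  · intro Λ' hΛ'
    -- Λ' vanishes on the kernel of q_*
    have hker : LinearMap.ker (qstar J (Fin r → R)) ≤
        LinearMap.ker (Λ' : ((Fin r → R) →ₗ[R] R) →ₗ[R] E) := by
      intro u hu
      rw [LinearMap.mem_ker] at hu ⊢
      have hu' : ∀ x, u x ∈ J := by
        intro x
        have := LinearMap.congr_fun hu x
        exact (Submodule.Quotient.mk_eq_zero J).mp this
      have hdecomp : u = ∑ i, u (Pi.single i 1) • (LinearMap.proj i : (Fin r → R) →ₗ[R] R) := by
        apply LinearMap.pi_ext'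
        intro i
        apply LinearMap.ext_ring
        simp [Pi.single_apply, Finset.sum_ite_eq]
      rw [hdecomp, map_sum]
      apply Finset.sum_eq_zero
      intro i _
      rw [map_smul]
      have := hΛ' (u (Pi.single i 1)) (hu' _)
      have h2 := LinearMap.congr_fun (congrArg Subtype.val this)
        (LinearMap.proj i : (Fin r → R) →ₗ[R] R)
      exact h2
    let e := (qstar J (Fin r → R)).quotKerEquivOfSurjective (qstar_surjective J (Fin r → R))
    let Λ : ((Fin r → R) →ₗ[R] (R ⧸ J)) →ₗ[R] E :=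
      (LinearMap.ker (qstar J (Fin r → R))).liftQ
        (Λ' : ((Fin r → R) →ₗ[R] R) →ₗ[R] E) hker ∘ₗ e.symm.toLinearMap
    have hΛq : ∀ u : (Fin r → R) →ₗ[R] R, Λ (J.mkQ ∘ₗ u) =
        (Λ' : ((Fin r → R) →ₗ[R] R) →ₗ[R] E) u := by
      intro u
      have : e.symm (J.mkQ ∘ₗ u) = Submodule.Quotient.mk u := by
        rw [LinearEquiv.symm_apply_eq]
        rfl
      change (LinearMap.ker (qstar J (Fin r → R))).liftQ _ hker (e.symm (J.mkQ ∘ₗ u)) = _
      rw [this, Submodule.liftQ_apply]
    have hΛmem : Λ ∈ LinearMap.ker (LinearMap.lcomp R E (LinearMap.lcomp R (R ⧸ J) f)) := by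
      rw [LinearMap.mem_ker]
      apply LinearMap.ext
      intro w
      obtain ⟨w', rfl⟩ := qstar_surjective J F₀ w
      change Λ ((J.mkQ ∘ₗ w') ∘ₗ f) = 0
      rw [LinearMap.comp_assoc, hΛq]
      have := LinearMap.mem_ker.mp Λ'.2
      exact LinearMap.congr_fun this w'
    refine ⟨⟨Λ, hΛmem⟩, ?_⟩
    apply Subtype.ext
    apply LinearMap.ext
    intro u
    rw [Psi_apply]
    exact hΛq u

theorem length_ker_eq : Module.length R
      (LinearMap.ker (LinearMap.lcomp R E (LinearMap.lcomp R (R ⧸ J) f))) =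
    Module.length R (tors J (LinearMap.ker (LinearMap.lcomp R E (LinearMap.lcomp R R f)))) := by
  rw [← range_Psi]
  exact (LinearEquiv.ofInjective (Psi J f E) (Psi_injective J f E)).length_eq

end Reduce

section Colon

variable {R : Type*} [CommRing R] (I J : Ideal R)

/-- `length (R/I)[J] + length R/(I:J) = length R/I`. -/
theorem length_tors_add_length_colon :
    Module.length R (tors J (R ⧸ I)) + Module.length R (R ⧸ I.colon J) =
      Module.length R (R ⧸ I) := by
  have hle : I ≤ I.colon J := by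
    intro x hx
    rw [Submodule.mem_colon]
    intro p _
    exact Ideal.mul_mem_right _ _ hx
  have hex : Function.Exact (tors J (R ⧸ I)).subtype (Submodule.factor hle) := by
    intro y
    obtain ⟨x, rfl⟩ := Submodule.Quotient.mk_surjective _ y
    have h1 : Submodule.factor hle (Submodule.Quotient.mk x) = Submodule.Quotient.mk x := rfl
    have h2 : (Submodule.Quotient.mk x : R ⧸ I) ∈ Set.range (tors J (R ⧸ I)).subtype ↔
        (Submodule.Quotient.mk x : R ⧸ I) ∈ tors J (R ⧸ I) := by
      constructor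
      · rintro ⟨z, hz⟩
        rw [← hz]
        exact z.2
      · intro h
        exact ⟨⟨_, h⟩, rfl⟩
    rw [h1, h2, Submodule.Quotient.mk_eq_zero, Submodule.mem_colon, mem_tors]
    constructor
    · intro h a ha
      rw [← Submodule.Quotient.mk_smul, Submodule.Quotient.mk_eq_zero]
      have := h a ha
      rwa [smul_eq_mul, mul_comm] at this
    · intro h a ha
      have := h a ha
      rw [← Submodule.Quotient.mk_smul, Submodule.Quotient.mk_eq_zero] at this
      rwa [smul_eq_mul, mul_comm]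
  exact (Module.length_eq_add_of_exact (tors J (R ⧸ I)).subtype (Submodule.factor hle)
    (Submodule.injective_subtype _) (Submodule.factor_surjective hle) hex).symm

end Colon

section Main

variable (R : Type u) [CommRing R] [IsRegularLocalRing R] (hdim : ringKrullDim R = 2)
  (I J : Ideal R)

/-- the case `I = ⊤`. -/
theorem length_hom_top :
    Module.length R (↥(⊤ : Ideal R) →ₗ[R] (R ⧸ J)) + Module.length R (R ⧸ (⊤ : Ideal R).colon J) =
      Module.length R (R ⧸ J) + Module.length R (R ⧸ (⊤ : Ideal R)) := by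
  have hcolon : (⊤ : Ideal R).colon J = ⊤ := by
    rw [eq_top_iff]
    intro x _
    rw [Submodule.mem_colon]
    intro p _
    exact Submodule.mem_top
  rw [hcolon]
  have h0 : Module.length R (R ⧸ (⊤ : Ideal R)) = 0 := by
    rw [Module.length_eq_zero_iff]
    exact Submodule.Quotient.subsingleton_iff.mpr rfl
  rw [h0]
  have e : (↥(⊤ : Ideal R) →ₗ[R] (R ⧸ J)) ≃ₗ[R] (R ⧸ J) :=
    (LinearEquiv.congrLeft (R ⧸ J) R (Submodule.topEquiv (R := R) (M := R))) ≪≫ₗ
      LinearMap.ringLmapEquivSelf R R (R ⧸ J)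
  rw [e.length_eq]

include hdim in
/-- local duality: the dual of `coker(Hom(F₀,R) → Hom(F₁,R))` is `R/I`. -/
theorem dual_equiv [LocCoh.IsGorensteinLocalRing R] [LocCoh.IsCohenMacaulayLocalRing R]
    (hI : LocCoh.IsPowerTorsion (maximalIdeal R) (R ⧸ I))
    {r s : ℕ} (f : (Fin r → R) →ₗ[R] (Fin s → R)) (π : (Fin s → R) →ₗ[R] ↥I)
    (hf : Function.Injective f) (hfπ : Function.Exact f π) (hπ : Function.Surjective π)
    (f0 : ResidueField R →ₗ[R] LocCoh.H (maximalIdeal R) 2 R) (hf0 : InjHull.IsInjectiveHull f0) :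
    Nonempty (LinearMap.ker (LinearMap.lcomp R (LocCoh.H (maximalIdeal R) 2 R)
      (LinearMap.lcomp R R f)) ≃ₗ[R] (R ⧸ I)) := by
  let eK : (R →ₗ[R] LocCoh.H (maximalIdeal R) 2 R) ≃ₗ[R] LocCoh.H (maximalIdeal R) 2 R :=
    LinearMap.ringLmapEquivSelf R R _
  have hdim' : ringKrullDim R = ((2 : ℕ) : WithBot ℕ∞) := by rw [hdim]; rfl
  obtain ⟨φ⟩ := Groth.Agent.Lib.H29LocalDualityCM.cm_localDuality 2 hdim' f0 hf0 eK 2 0 rfl (R ⧸ I)
  have e1 := Groth.Agent.Lib.H29LocalDuality.dualExtOne R (LocCoh.H (maximalIdeal R) 2 R)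
    f π hf hfπ hπ
  have e2 := Groth.Agent.Lib.H29LocalDuality.dualExtStep R (LocCoh.H (maximalIdeal R) 2 R)
    I.subtype I.mkQ (Submodule.injective_subtype I) (LinearMap.exact_subtype_mkQ I)
    (Submodule.mkQ_surjective I) 1 le_rfl
  have e3 := Groth.Agent.Lib.LocCohH0.equivOfTorsion (maximalIdeal R) (R ⧸ I) hI
  exact ⟨e1.symm ≪≫ₗ e2 ≪≫ₗ φ.symm ≪≫ₗ e3⟩

include hdim in
theorem length_hom_formula (hI : Module.length R (R ⧸ I) < ⊤) (hJ : Module.length R (R ⧸ J) < ⊤) :
    Module.length R (↥I →ₗ[R] (R ⧸ J)) + Module.length R (R ⧸ I.colon J) =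
      Module.length R (R ⧸ J) + Module.length R (R ⧸ I) := by
  by_cases hItop : I = ⊤
  · subst hItop
    exact length_hom_top R J
  haveI hgor : LocCoh.IsGorensteinLocalRing R := Groth.Agent.S0342.result R
  haveI hcm : LocCoh.IsCohenMacaulayLocalRing R :=
    Groth.Agent.Lib.H26CMDim.isCohenMacaulayLocalRing_of_gorenstein R
  have hflI : IsFiniteLength R (R ⧸ I) := Module.length_ne_top_iff.mp hI.ne
  have hflJ : IsFiniteLength R (R ⧸ J) := Module.length_ne_top_iff.mp hJ.ne
  obtain ⟨-, hartI⟩ := isFiniteLength_iff_isNoetherian_isArtinian.mp hflI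
  haveI : IsArtinianRing (R ⧸ I) := isArtinian_of_tower R hartI
  haveI : Nontrivial (R ⧸ I) := Ideal.Quotient.nontrivial_iff.mpr hItop
  haveI : IsLocalRing (R ⧸ I) :=
    IsLocalRing.of_surjective' (Ideal.Quotient.mk I) Ideal.Quotient.mk_surjective
  haveI : LocCoh.IsCohenMacaulayLocalRing (R ⧸ I) :=
    Groth.Agent.Lib.CMFieldExt33.isCohenMacaulayLocalRing_of_krullDimLE_zero (R ⧸ I)
  have hdim0 : ringKrullDim (R ⧸ I) = 0 := by
    apply le_antisymm
    · have := Ring.krullDimLE_iff.mp (inferInstance : Ring.KrullDimLE 0 (R ⧸ I))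
      simpa using this
    · exact ringKrullDim_nonneg_of_nontrivial
  have hcodim : ringKrullDim (R ⧸ I) + 2 = ringKrullDim R := by
    rw [hdim0, hdim, zero_add]
  obtain ⟨r, g, φ, hspan, -, hinj, hrange⟩ :=
    Groth.Agent.Lib.H26HB3.exists_free_resolution R I hcodim
  -- power torsion
  have hpt : LocCoh.IsPowerTorsion (maximalIdeal R) (R ⧸ I) := by
    obtain ⟨n, hn⟩ := IsLocalRing.exists_maximalIdeal_pow_le_of_isArtinianRing_quotient I
    intro m
    refine ⟨n, fun a ha => ?_⟩
    obtain ⟨x, rfl⟩ := Submodule.Quotient.mk_surjective _ m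
    rw [← Submodule.Quotient.mk_smul, Submodule.Quotient.mk_eq_zero]
    exact Ideal.mul_mem_right _ _ (hn ha)
  -- the presentation
  have hG : LinearMap.range (Fintype.linearCombination R g) = I := by
    rw [Fintype.range_linearCombination]
    exact hspan
  have hmemI : ∀ v : Fin (r + 1) → R, Fintype.linearCombination R g v ∈ I := by
    intro v
    rw [← hG]
    exact ⟨v, rfl⟩
  let π : (Fin (r + 1) → R) →ₗ[R] ↥I :=
    (Fintype.linearCombination R g).codRestrict I hmemI
  have hπ : Function.Surjective π := by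
    rintro ⟨x, hx⟩
    rw [← hG] at hx
    obtain ⟨v, hv⟩ := hx
    exact ⟨v, Subtype.ext hv⟩
  have hfπ : Function.Exact φ.mulVecLin π := by
    rw [LinearMap.exact_iff, LinearMap.ker_codRestrict, hrange]
  -- Part A
  have hA := length_hom_add (R ⧸ J) φ.mulVecLin π hfπ hπ
  rw [length_hom_pi, length_hom_pi] at hA
  -- the injective hull
  obtain ⟨f0, hf0⟩ := Groth.Agent.Lib.H26GorDual.gorenstein_exists_isInjectiveHull_H R 2
    (by rw [hdim]; rfl)
  obtain ⟨Φ⟩ := dual_equiv R hdim I hpt φ.mulVecLin π hinj hfπ hπ f0 hf0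
  -- the cokernel has finite length
  have hlenF1 : Module.length R ((Fin r → R) →ₗ[R] (R ⧸ J)) < ⊤ := by
    rw [length_hom_pi]
    exact WithTop.mul_lt_top (ENat.coe_lt_top r) hJ
  have hflC : IsFiniteLength R (((Fin r → R) →ₗ[R] (R ⧸ J)) ⧸
      LinearMap.range (LinearMap.lcomp R (R ⧸ J) φ.mulVecLin)) := by
    rw [← Module.length_ne_top_iff]
    exact (lt_of_le_of_lt (Module.length_le_of_surjective _ (Submodule.mkQ_surjective _))
      hlenF1).ne
  have hM := Groth.Agent.S5170.result R _ f0 hf0 _ hflC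
  have hD := (Groth.Agent.Lib.H29LocalDuality.dualCokerEquiv
    (E := LocCoh.H (maximalIdeal R) 2 R)
    (LinearMap.lcomp R (R ⧸ J) φ.mulVecLin)
    (LinearMap.range (LinearMap.lcomp R (R ⧸ J) φ.mulVecLin)).mkQ
    (Submodule.mkQ_surjective _) (LinearMap.exact_map_mkQ_range _)).length_eq
  have hK := length_ker_eq J φ.mulVecLin (LocCoh.H (maximalIdeal R) 2 R)
  have hT := length_tors_congr J Φ
  have hC := length_tors_add_length_colon I J
  have hcoker : Module.length R (((Fin r → R) →ₗ[R] (R ⧸ J)) ⧸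
      LinearMap.range (LinearMap.lcomp R (R ⧸ J) φ.mulVecLin)) =
      Module.length R (tors J (R ⧸ I)) := by
    rw [← hM, hD, hK, hT]
  rw [hcoker] at hA
  have hrn : (r : ℕ∞) * Module.length R (R ⧸ J) ≠ ⊤ :=
    (WithTop.mul_lt_top (ENat.coe_lt_top r) hJ).ne
  have hA' : Module.length R (↥I →ₗ[R] (R ⧸ J)) + (r : ℕ∞) * Module.length R (R ⧸ J) =
      (Module.length R (R ⧸ J) + Module.length R (tors J (R ⧸ I))) +
        (r : ℕ∞) * Module.length R (R ⧸ J) := by
    rw [hA]
    push_cast
    ring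
  have hA'' := (ENat.add_left_injective_of_ne_top hrn) hA'
  rw [hA'', ← hC, add_assoc]

end Main

end Groth.Agent.Lib.H26LenHom
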