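/-
helper8: associated primes of `R/(𝔠 : I)` are associated primes of `R/𝔠`; unmixedness of links.
-/
import Mathlib
import Groth.Agent.Lib.H8Liaison

set_option autoImplicit false
set_option linter.style.haveILetI false
universe u

namespace Groth.Agent.Lib.H8Liaison

open IsLocalRing LocCoh Module Groth.Agent.Lib.H8CM

/-- Associated primes of `R/(𝔠 : I)` are associated primes of `R/𝔠` (Noetherian `R`). -/
theorem associatedPrimes_colon_subset {R : Type u} [CommRing R] [IsNoetherianRing R]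
    (𝔠 I : Ideal R) :
    associatedPrimes R (R ⧸ 𝔠.colon (I : Set R)) ⊆ associatedPrimes R (R ⧸ 𝔠) := by
  classical
  intro p hp
  rw [AssociatedPrimes.mem_iff, isAssociatedPrime_iff] at hp ⊢
  obtain ⟨hpp, x, hx⟩ := hp
  obtain ⟨x, rfl⟩ := Ideal.Quotient.mk_surjective x
  refine ⟨hpp, ?_⟩
  obtain ⟨s, hs⟩ := (isNoetherianRing_iff_ideal_fg R).mp inferInstance I
  have hmem : ∀ r : R, r ∈ p ↔ ∀ a ∈ I, r * x * a ∈ 𝔠 := by
    intro r
    rw [hx, Submodule.mem_colon_singleton, Submodule.mem_bot]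
    change Ideal.Quotient.mk _ (r * x) = 0 ↔ _
    rw [Ideal.Quotient.eq_zero_iff_mem, Submodule.mem_colon]
    rfl
  set f : R → Ideal R := fun a =>
    (⊥ : Submodule R (R ⧸ 𝔠)).colon {Ideal.Quotient.mk 𝔠 (x * a)} with hf
  have hfmem : ∀ a r : R, r ∈ f a ↔ r * x * a ∈ 𝔠 := by
    intro a r
    rw [hf, Submodule.mem_colon_singleton, Submodule.mem_bot]
    change Ideal.Quotient.mk _ (r * (x * a)) = 0 ↔ _
    rw [Ideal.Quotient.eq_zero_iff_mem, mul_assoc]
  have hple : ∀ a ∈ s, p ≤ f a := by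
    intro a ha r hr
    rw [hfmem]
    exact (hmem r).mp hr a (hs ▸ Ideal.subset_span ha)
  have hinf : s.inf f ≤ p := by
    intro r hr
    rw [hmem]
    intro a ha
    rw [← hs] at ha
    refine Submodule.span_induction (p := fun a _ => r * x * a ∈ 𝔠) ?_ ?_ ?_ ?_ ha
    · intro a ha
      have : r ∈ f a := (Finset.inf_le (f := f) ha) hr
      exact (hfmem a r).mp this
    · simp
    · intro a b _ _ ha hb
      rw [mul_add]; exact 𝔠.add_mem ha hb
    · intro t a _ ha
      rw [smul_eq_mul, ← mul_assoc, mul_comm (r * x) t, mul_assoc]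
      exact 𝔠.mul_mem_left _ ha
  obtain ⟨a, ha, hfa⟩ := (Ideal.IsPrime.inf_le' hpp).mp hinf
  exact ⟨Ideal.Quotient.mk 𝔠 (x * a), le_antisymm (hple a ha) hfa⟩


section Poly

variable (K : Type u) [Field K]

/-- All minimal primes over a homogeneous ideal `J` of a polynomial ring with `R/J`
Cohen–Macaulay have the same height as `J`. -/
theorem height_eq_of_mem_minimalPrimes (N h : ℕ) (J : Ideal (MvPolynomial (Fin N) K))
    (hJ : J.IsHomogeneous (GrSyz.stdGr K (Fin N))) (hJh : J.height = h)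
    [IsCohenMacaulayRing (MvPolynomial (Fin N) K ⧸ J)] {Q : Ideal (MvPolynomial (Fin N) K)}
    (hQ : Q ∈ J.minimalPrimes) : Q.height = h := by
  haveI : Q.IsPrime := hQ.1.1
  rw [Groth.Agent.Lib.H8DoubleLink.height_eq_add_height_map K N h J hJ hJh Q hQ.1.2]
  have h2 : (Q.map (Ideal.Quotient.mk J)).height = 0 := by
    haveI : (Q.map (Ideal.Quotient.mk J)).IsPrime :=
      Ideal.isPrime_map_quotientMk_of_isPrime hQ.1.2
    rw [Ideal.height_eq_zero_iff]
    rw [Ideal.minimalPrimes_eq_comap] at hQ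
    obtain ⟨q, hq, rfl⟩ := hQ
    rwa [Ideal.map_comap_of_surjective _ Ideal.Quotient.mk_surjective q]
  rw [h2, add_zero]

/-- The link `𝔠 : I` of a homogeneous ideal `𝔠` with Cohen–Macaulay quotient is unmixed of the
same height (when `I ⊄ 𝔠`). -/
theorem colon_unmixed (N c : ℕ) (𝔠 I : Ideal (MvPolynomial (Fin N) K))
    (h𝔠 : 𝔠.IsHomogeneous (GrSyz.stdGr K (Fin N))) (h𝔠c : 𝔠.height = c)
    [IsCohenMacaulayRing (MvPolynomial (Fin N) K ⧸ 𝔠)] (hI𝔠 : ¬ I ≤ 𝔠) :
    (𝔠.colon (I : Set (MvPolynomial (Fin N) K))).height = c ∧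
      ∀ p ∈ associatedPrimes (MvPolynomial (Fin N) K)
        (MvPolynomial (Fin N) K ⧸ 𝔠.colon (I : Set (MvPolynomial (Fin N) K))), p.height = c := by
  have hass : ∀ p ∈ associatedPrimes (MvPolynomial (Fin N) K)
      (MvPolynomial (Fin N) K ⧸ 𝔠.colon (I : Set (MvPolynomial (Fin N) K))), p.height = c := by
    intro p hp
    have h1 := associatedPrimes_colon_subset 𝔠 I hp
    have h2 := mem_minimalPrimes_of_mem_associatedPrimes_quotient 𝔠 h1
    exact height_eq_of_mem_minimalPrimes K N c 𝔠 h𝔠 h𝔠c h2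
  refine ⟨?_, hass⟩
  have hne : 𝔠.colon (I : Set (MvPolynomial (Fin N) K)) ≠ ⊤ := by
    intro h
    apply hI𝔠
    intro a ha
    have h1 : (1 : MvPolynomial (Fin N) K) ∈ 𝔠.colon (I : Set (MvPolynomial (Fin N) K)) := by
      rw [h]; trivial
    rw [Submodule.mem_colon] at h1
    simpa using h1 a ha
  have hmin : ∀ Q ∈ (𝔠.colon (I : Set (MvPolynomial (Fin N) K))).minimalPrimes,
      Q.height = c := by
    intro Q hQ
    apply hass
    have := Module.associatedPrimes.minimalPrimes_annihilator_subset_associatedPrimes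
      (MvPolynomial (Fin N) K)
      (MvPolynomial (Fin N) K ⧸ 𝔠.colon (I : Set (MvPolynomial (Fin N) K)))
    rw [Ideal.annihilator_quotient] at this
    exact this hQ
  obtain ⟨Q, hQ⟩ := Ideal.nonempty_minimalPrimes hne
  rw [Ideal.height_eq_inf_minimalPrimes]
  apply le_antisymm
  · exact (iInf₂_le Q hQ).trans (hmin Q hQ).le
  · exact le_iInf₂ fun Q' hQ' => (hmin Q' hQ').ge

end Poly

end Groth.Agent.Lib.H8Liaison
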