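/-
Helper library (helper26): liaison in polynomial rings — minimal primes of `I/𝔠` have height zero.
-/
import Mathlib.Tactic
import Groth.Agent.Lib.H8Liaison2
import Groth.Agent.Lib.H8DoubleLink

set_option autoImplicit false
universe u

namespace Groth.Agent.Lib.H26LinkPoly

/-- if every associated prime of `P/I` has the height `c` of the homogeneous CM ideal `𝔠 ⊆ I`,
then the minimal primes of `I/𝔠` in `P/𝔠` have height zero. -/
theorem height_eq_zero_of_mem_minimalPrimes_map (K : Type u) [Field K] (N c : ℕ)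
    (𝔠 I : Ideal (MvPolynomial (Fin N) K))
    (h𝔠 : 𝔠.IsHomogeneous (GrSyz.stdGr K (Fin N))) (h𝔠c : 𝔠.height = c)
    [LocCoh.IsCohenMacaulayRing (MvPolynomial (Fin N) K ⧸ 𝔠)] (h𝔠I : 𝔠 ≤ I)
    (hIu : ∀ p ∈ associatedPrimes (MvPolynomial (Fin N) K) (MvPolynomial (Fin N) K ⧸ I),
      p.height = c) :
    ∀ p ∈ (I.map (Ideal.Quotient.mk 𝔠)).minimalPrimes, p.height = 0 := by
  intro p hp
  have hsurj : Function.Surjective (Ideal.Quotient.mk 𝔠) := Ideal.Quotient.mk_surjective
  rw [Ideal.minimalPrimes_map_of_surjective hsurj, Ideal.mk_ker, sup_eq_left.mpr h𝔠I] at hp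
  obtain ⟨p', hp', rfl⟩ := hp
  haveI : p'.IsPrime := hp'.1.1
  have hass : p' ∈ associatedPrimes (MvPolynomial (Fin N) K) (MvPolynomial (Fin N) K ⧸ I) := by
    apply Module.associatedPrimes.minimalPrimes_annihilator_subset_associatedPrimes
    rw [Ideal.annihilator_quotient]
    exact hp'
  have hc := hIu p' hass
  have h1 := Groth.Agent.Lib.H8DoubleLink.height_eq_add_height_map K N c 𝔠 h𝔠 h𝔠c p'
    (h𝔠I.trans hp'.1.2)
  rw [hc] at h1
  generalize (p'.map (Ideal.Quotient.mk 𝔠)).height = x at h1 ⊢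
  induction x using ENat.recTopCoe with
  | top => simp at h1
  | coe y =>
    have : c = c + y := by exact_mod_cast h1
    have : y = 0 := by omega
    rw [this]; rfl

/-- associated primes of a CM homogeneous quotient all have the height of the ideal. -/
theorem height_eq_of_mem_associatedPrimes (K : Type u) [Field K] (N c : ℕ)
    (I : Ideal (MvPolynomial (Fin N) K))
    (hI : I.IsHomogeneous (GrSyz.stdGr K (Fin N))) (hIc : I.height = c)
    [LocCoh.IsCohenMacaulayRing (MvPolynomial (Fin N) K ⧸ I)] :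
    ∀ p ∈ associatedPrimes (MvPolynomial (Fin N) K) (MvPolynomial (Fin N) K ⧸ I),
      p.height = c := by
  intro p hp
  have hmin := Groth.Agent.Lib.H8Liaison.mem_minimalPrimes_of_mem_associatedPrimes_quotient I hp
  exact Groth.Agent.Lib.H8Liaison.height_eq_of_mem_minimalPrimes K N c I hI hIc hmin

/-- the height of the intersection of two ideals of height `c`. -/
theorem height_inf_eq {R : Type u} [CommRing R] (I₁ I₂ : Ideal R) (c : ℕ∞) (h₁ : I₁.height = c)
    (h₂ : I₂.height = c) : (I₁ ⊓ I₂).height = c := by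
  apply le_antisymm
  · rw [← h₁]
    exact Ideal.height_mono inf_le_left
  · rw [Ideal.height_eq_inf_minimalPrimes]
    refine le_iInf₂ fun p hp => ?_
    haveI : p.IsPrime := hp.1.1
    rcases (Ideal.IsPrime.inf_le inferInstance).mp hp.1.2 with h | h
    · rw [← h₁]; exact Ideal.height_mono h
    · rw [← h₂]; exact Ideal.height_mono h

/-- geometric linkage: `(I₁ ∩ I₂) : I₁ = I₂` for Cohen–Macaulay homogeneous ideals of the same height
without common minimal primes. -/
theorem colon_inf_eq (K : Type u) [Field K] (N c : ℕ)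
    (I₁ I₂ : Ideal (MvPolynomial (Fin N) K))
    (hI₁ : I₁.IsHomogeneous (GrSyz.stdGr K (Fin N))) (hI₂ : I₂.IsHomogeneous (GrSyz.stdGr K (Fin N)))
    [LocCoh.IsCohenMacaulayRing (MvPolynomial (Fin N) K ⧸ I₁)]
    [LocCoh.IsCohenMacaulayRing (MvPolynomial (Fin N) K ⧸ I₂)]
    (h₁ : I₁.height = c) (h₂ : I₂.height = c)
    (hdisj : Disjoint I₁.minimalPrimes I₂.minimalPrimes) :
    (I₁ ⊓ I₂).colon (I₁ : Set (MvPolynomial (Fin N) K)) = I₂ := by
  haveI : IsNoetherianRing (MvPolynomial (Fin N) K) := inferInstance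
  apply le_antisymm
  · intro x hx
    by_contra hxI
    have hx0 : (Ideal.Quotient.mk I₂ x : MvPolynomial (Fin N) K ⧸ I₂) ≠ 0 := by
      rwa [Ne, Ideal.Quotient.eq_zero_iff_mem]
    obtain ⟨p, hpass, hp⟩ := exists_le_isAssociatedPrime_of_isNoetherianRing
      (MvPolynomial (Fin N) K) (Ideal.Quotient.mk I₂ x : MvPolynomial (Fin N) K ⧸ I₂) hx0
    haveI hpprime : p.IsPrime := hpass.isPrime
    have hcol : ∀ r : MvPolynomial (Fin N) K, r * x ∈ I₂ → r ∈ p := by
      intro r hr
      apply hp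
      rw [Submodule.mem_colon_singleton, Submodule.mem_bot]
      change r • (Ideal.Quotient.mk I₂ x) = 0
      rw [← Ideal.Quotient.mk_eq_mk, ← Submodule.Quotient.mk_smul, smul_eq_mul]
      exact (Submodule.Quotient.mk_eq_zero I₂).mpr hr
    have hI₁p : I₁ ≤ p := by
      intro r hr
      apply hcol
      rw [Submodule.mem_colon] at hx
      have := hx r hr
      rw [smul_eq_mul, mul_comm] at this
      exact this.2
    have hpmin : p ∈ I₂.minimalPrimes :=
      Groth.Agent.Lib.H8Liaison.mem_minimalPrimes_of_mem_associatedPrimes_quotient I₂ hpass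
    have hpc : p.height = c :=
      Groth.Agent.Lib.H8Liaison.height_eq_of_mem_minimalPrimes K N c I₂ hI₂ h₂ hpmin
    obtain ⟨p', hp', hp'p⟩ := Ideal.exists_minimalPrimes_le hI₁p
    haveI : p'.IsPrime := hp'.1.1
    have hp'c : p'.height = c :=
      Groth.Agent.Lib.H8Liaison.height_eq_of_mem_minimalPrimes K N c I₁ hI₁ h₁ hp'
    haveI : p'.FiniteHeight := ⟨Or.inr (by rw [hp'c]; exact ENat.coe_ne_top c)⟩
    have heq : p' = p := Ideal.eq_of_le_of_height_le (I := p') (J := p) hp'p (by rw [hpc, hp'c])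
    rw [heq] at hp'
    exact (Set.disjoint_left.mp hdisj) hp' hpmin
  · intro x hx
    rw [Submodule.mem_colon]
    intro y hy
    rw [smul_eq_mul]
    exact ⟨I₁.mul_mem_left x hy, I₂.mul_mem_right y hx⟩

end Groth.Agent.Lib.H26LinkPoly
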