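import Mathlib
import Groth.Agent.Lib.H47Reflexive

/-!
# Reflexive modules with `End = R` over reduced rings of dimension ≤ 1 (helper26)

* `exists_linearMap_ne_smul`: `(R, 𝔪)` Noetherian local of dimension ≤ 1 and `t ∈ 𝔪` a
  nonzerodivisor: there is `g : 𝔪 → R` which is not multiplication by an element of `R`.
-/

set_option autoImplicit false
universe u

namespace Groth.Agent.Lib.H26ReflRankOne

open IsLocalRing

section Local

variable {R : Type u} [CommRing R] [IsLocalRing R] [IsNoetherianRing R]

theorem withBot_enat_le_zero {x : WithBot ℕ∞} (h : x + 1 ≤ 1) : x ≤ 0 := by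
  induction x with
  | bot => exact bot_le
  | coe a =>
    induction a with
    | top =>
      exfalso
      have h1 : ((⊤ : ℕ∞) : WithBot ℕ∞) + 1 = ((⊤ : ℕ∞) : WithBot ℕ∞) := by
        rw [← WithBot.coe_one, ← WithBot.coe_add, top_add]
      rw [h1, ← WithBot.coe_one, WithBot.coe_le_coe] at h
      exact absurd h (by simp)
    | coe n =>
      have h' : ((n + 1 : ℕ) : WithBot ℕ∞) ≤ ((1 : ℕ) : WithBot ℕ∞) := by
        push_cast; exact h
      have : n + 1 ≤ 1 := by exact_mod_cast h'
      have hn : n = 0 := by omega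
      subst hn
      rfl

theorem pow_maximalIdeal_le_span (hdim : ringKrullDim R ≤ 1) (t : R) (htm : t ∈ maximalIdeal R)
    (ht : t ∈ nonZeroDivisors R) : ∃ n : ℕ, (maximalIdeal R) ^ n ≤ Ideal.span {t} := by
  have h1 : ringKrullDim (R ⧸ Ideal.span {t}) + 1 ≤ ringKrullDim R :=
    ringKrullDim_quotient_succ_le_of_nonZeroDivisor ht
  have h2 : ringKrullDim (R ⧸ Ideal.span {t}) ≤ 0 := withBot_enat_le_zero (h1.trans hdim)
  haveI : Ring.KrullDimLE 0 (R ⧸ Ideal.span {t}) := Ring.krullDimLE_iff.mpr (by exact_mod_cast h2)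
  haveI : IsArtinianRing (R ⧸ Ideal.span {t}) := IsNoetherianRing.isArtinianRing_of_krullDimLE_zero
  have hne : Ideal.span {t} ≠ (⊤ : Ideal R) := by
    intro h
    rw [Ideal.span_singleton_eq_top] at h
    exact (mem_maximalIdeal t).mp htm h
  haveI : Nontrivial (R ⧸ Ideal.span {t}) := Ideal.Quotient.nontrivial_iff.mpr hne
  haveI : IsLocalRing (R ⧸ Ideal.span {t}) :=
    IsLocalRing.of_surjective' (Ideal.Quotient.mk (Ideal.span {t})) Ideal.Quotient.mk_surjective
  obtain ⟨n, hn⟩ := IsArtinianRing.isNilpotent_jacobson_bot (R := R ⧸ Ideal.span {t})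
  rw [IsLocalRing.jacobson_eq_maximalIdeal ⊥ bot_ne_top] at hn
  refine ⟨n, fun x hx => ?_⟩
  have h3 : (maximalIdeal R).map (Ideal.Quotient.mk (Ideal.span {t})) ≤
      maximalIdeal (R ⧸ Ideal.span {t}) := by
    apply IsLocalRing.le_maximalIdeal
    intro htop
    have h5 := Ideal.comap_map_of_surjective (Ideal.Quotient.mk (Ideal.span {t}))
      Ideal.Quotient.mk_surjective (maximalIdeal R)
    rw [htop, Ideal.comap_top, ← RingHom.ker_eq_comap_bot, Ideal.mk_ker] at h5
    have h6 : Ideal.span {t} ≤ maximalIdeal R := by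
      rw [Ideal.span_le]; simpa using htm
    rw [sup_eq_left.mpr h6] at h5
    exact (maximalIdeal.isMaximal R).ne_top h5.symm
  have h4 : Ideal.Quotient.mk (Ideal.span {t}) x ∈ (maximalIdeal (R ⧸ Ideal.span {t})) ^ n := by
    have := Ideal.mem_map_of_mem (Ideal.Quotient.mk (Ideal.span {t})) hx
    rw [Ideal.map_pow] at this
    exact Ideal.pow_right_mono h3 n this
  rw [hn] at h4
  exact Ideal.Quotient.eq_zero_iff_mem.mp h4

/-- `(R, 𝔪)` Noetherian local of dimension ≤ 1, `t ∈ 𝔪` a nonzerodivisor: there is a linear map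
`𝔪 → R` which is not multiplication by an element of `R`. -/
theorem exists_linearMap_ne_smul (hdim : ringKrullDim R ≤ 1) (t : R) (htm : t ∈ maximalIdeal R)
    (ht : t ∈ nonZeroDivisors R) :
    ∃ g : maximalIdeal R →ₗ[R] R, ∀ r : R, g ≠ r • (maximalIdeal R).subtype := by
  classical
  have hex := pow_maximalIdeal_le_span hdim t htm ht
  have hne : Ideal.span {t} ≠ (⊤ : Ideal R) := by
    intro h
    rw [Ideal.span_singleton_eq_top] at h
    exact (mem_maximalIdeal t).mp htm h
  have h0 : Nat.find hex ≠ 0 := by
    intro h0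
    have := Nat.find_spec hex
    rw [h0, pow_zero, Ideal.one_eq_top, top_le_iff] at this
    exact hne this
  obtain ⟨k, hk⟩ := Nat.exists_eq_succ_of_ne_zero h0
  have hk1 : ¬ (maximalIdeal R) ^ k ≤ Ideal.span {t} := Nat.find_min hex (by omega)
  have hk2 : (maximalIdeal R) ^ (k + 1) ≤ Ideal.span {t} := by
    have := Nat.find_spec hex
    rwa [hk] at this
  obtain ⟨s, hs, hst⟩ := SetLike.not_le_iff_exists.mp hk1
  have hmul : ∀ y : maximalIdeal R, ∃ c : R, c * t = (y : R) * s := by
    intro y
    have : (y : R) * s ∈ (maximalIdeal R) ^ (k + 1) := by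
      rw [pow_succ']
      exact Ideal.mul_mem_mul y.2 hs
    exact Ideal.mem_span_singleton'.mp (hk2 this)
  choose c hc using hmul
  have hcancel : ∀ a b : R, a * t = b * t → a = b := fun a b h =>
    (mul_cancel_right_mem_nonZeroDivisors ht).mp h
  let g : maximalIdeal R →ₗ[R] R :=
    { toFun := c
      map_add' := fun y z => by
        apply hcancel
        rw [add_mul, hc, hc, hc, Submodule.coe_add]; ring
      map_smul' := fun a y => by
        apply hcancel
        rw [RingHom.id_apply, smul_eq_mul, mul_assoc, hc, hc, Submodule.coe_smul, smul_eq_mul]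
        ring }
  refine ⟨g, fun r hr => ?_⟩
  have h1 : g ⟨t, htm⟩ = r * t := by rw [hr]; rfl
  have h2 : c ⟨t, htm⟩ * t = t * s := hc ⟨t, htm⟩
  have h3 : c ⟨t, htm⟩ = s := hcancel _ _ (by rw [h2, mul_comm])
  apply hst
  rw [Ideal.mem_span_singleton']
  refine ⟨r, ?_⟩
  rw [← h3]
  exact h1.symm

end Local

section Trace

variable {R : Type u} [CommRing R] [IsNoetherianRing R] [IsReduced R]

theorem maximalIdeal_localization_eq_bot (p : Ideal R) [p.IsPrime] (hp : p ∈ minimalPrimes R) :
    maximalIdeal (Localization.AtPrime p) = ⊥ := by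
  have h1 := IsLocalization.AtPrime.radical_map_of_mem_minimalPrimes
    (A := Localization.AtPrime p) p ⊥ hp
  rw [Ideal.map_bot, IsLocalization.AtPrime.map_eq_maximalIdeal] at h1
  rw [← h1]
  exact nilradical_eq_zero _

theorem exists_dual_ne_zero_of_isField {K V : Type*} [CommRing K] [AddCommGroup V] [Module K V]
    (hK : IsField K) {v : V} (hv : v ≠ 0) : ∃ f : Module.Dual K V, f v ≠ 0 := by
  letI : Field K := hK.toField
  exact Module.Projective.exists_dual_ne_zero K hv

/-- A finite faithful module over a reduced Noetherian ring has, for every minimal prime `p`,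
a functional `ψ` and an element `x` with `ψ x ∉ p`. -/
theorem exists_dual_apply_notMem (M : Type u) [AddCommGroup M] [Module R M] [Module.Finite R M]
    (hM : Module.annihilator R M = ⊥) (p : Ideal R) (hp : p ∈ minimalPrimes R) :
    ∃ (ψ : Module.Dual R M) (x : M), ψ x ∉ p := by
  haveI : p.IsPrime := hp.1.1
  have hK : IsField (Localization.AtPrime p) :=
    isField_iff_maximalIdeal_eq.mpr (maximalIdeal_localization_eq_bot p hp)
  have hsupp : (⟨p, inferInstance⟩ : PrimeSpectrum R) ∈ Module.support R M := by
    rw [Module.mem_support_iff_of_finite, hM]; exact bot_le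
  rw [Module.mem_support_iff] at hsupp
  obtain ⟨v, hv⟩ := exists_ne (0 : LocalizedModule p.primeCompl M)
  obtain ⟨lam, hlam⟩ := exists_dual_ne_zero_of_isField hK hv
  haveI : Module.FinitePresentation R M := Module.finitePresentation_of_finite R M
  -- write v = x / s
  obtain ⟨⟨x, s⟩, rfl⟩ := IsLocalizedModule.mk'_surjective p.primeCompl
    (LocalizedModule.mkLinearMap p.primeCompl M) v
  let g : M →ₗ[R] Localization.AtPrime p :=
    (lam.restrictScalars R) ∘ₗ (LocalizedModule.mkLinearMap p.primeCompl M)
  obtain ⟨ψ, s', hψ⟩ := Module.FinitePresentation.exists_lift_of_isLocalizedModule p.primeCompl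
    (Algebra.linearMap R (Localization.AtPrime p)) g
  refine ⟨ψ, x, fun hmem => ?_⟩
  have h1 : algebraMap R (Localization.AtPrime p) (ψ x) = s' • g x :=
    LinearMap.congr_fun hψ x
  have h2 : algebraMap R (Localization.AtPrime p) (ψ x) = 0 := by
    have : algebraMap R (Localization.AtPrime p) (ψ x) ∈ maximalIdeal (Localization.AtPrime p) := by
      rw [← IsLocalization.AtPrime.map_eq_maximalIdeal p (Localization.AtPrime p)]
      exact Ideal.mem_map_of_mem _ hmem
    rw [maximalIdeal_localization_eq_bot p hp] at this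
    exact this
  rw [h2] at h1
  apply hlam
  -- lam (mk' x s) = 0
  have h3 : s • (IsLocalizedModule.mk' (LocalizedModule.mkLinearMap p.primeCompl M) x s) =
      LocalizedModule.mkLinearMap p.primeCompl M x := IsLocalizedModule.mk'_cancel' _ _ _
  have h4 : g x = 0 := by
    have hu : IsUnit (algebraMap R (Localization.AtPrime p) s') :=
      IsLocalization.map_units _ s'
    have : algebraMap R (Localization.AtPrime p) s' * g x = 0 := by
      rw [← Algebra.smul_def]; exact h1.symm
    exact (hu.mul_right_eq_zero).mp this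
  have h5 : lam (s • (IsLocalizedModule.mk' (LocalizedModule.mkLinearMap p.primeCompl M) x s)) = 0 := by
    rw [h3]; exact h4
  have h6 : (s : R) • lam (IsLocalizedModule.mk' (LocalizedModule.mkLinearMap p.primeCompl M) x s) = 0 := by
    rw [← h5, Submonoid.smul_def, ← LinearMap.map_smul_of_tower]
  rw [Algebra.smul_def] at h6
  exact ((IsLocalization.map_units (Localization.AtPrime p) s).mul_right_eq_zero).mp h6

/-- the trace ideal of a module -/
def trace (R : Type u) [CommRing R] (M : Type u) [AddCommGroup M] [Module R M] : Ideal R :=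
  Ideal.span {t | ∃ (ψ : Module.Dual R M) (x : M), ψ x = t}

theorem exists_mem_trace_nonZeroDivisors (M : Type u) [AddCommGroup M] [Module R M]
    [Module.Finite R M] (hM : Module.annihilator R M = ⊥) :
    ∃ t ∈ trace R M, t ∈ nonZeroDivisors R := by
  classical
  by_contra hcon
  push_neg at hcon
  let s : Finset (Ideal R) := (minimalPrimes.finite_of_isNoetherianRing R).toFinset
  have hsub : ((trace R M : Ideal R) : Set R) ⊆ ⋃ i ∈ (↑s : Set (Ideal R)), (i : Set R) := by
    intro t ht
    have h1 := hcon t ht
    rw [mem_nonZeroDivisors_iff_left] at h1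
    push_neg at h1
    obtain ⟨y, hy, hy0⟩ := h1
    have h2 : y ∉ sInf (minimalPrimes R) := by
      rw [minimalPrimes, Ideal.sInf_minimalPrimes]
      intro hy2
      exact hy0 (IsReduced.eq_zero y (by
        obtain ⟨n, hn⟩ := hy2
        exact ⟨n, hn⟩))
    rw [Submodule.mem_sInf] at h2
    push_neg at h2
    obtain ⟨p, hp, hyp⟩ := h2
    have hpp : Ideal.IsPrime p := hp.1.1
    have h3 : t * y ∈ p := by rw [hy]; exact Submodule.zero_mem p
    have h4 : t ∈ p := (hpp.mem_or_mem h3).resolve_right hyp
    simp only [Set.mem_iUnion, Finset.mem_coe, SetLike.mem_coe]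
    exact ⟨p, (Set.Finite.mem_toFinset _).mpr hp, h4⟩
  obtain ⟨p, hp, hle⟩ := (Ideal.subset_union_prime (R := R) (s := s) (f := fun i => i) ⊥ ⊥
    (fun i hi _ _ => ((Set.Finite.mem_toFinset _).mp hi).1.1)).mp hsub
  have hp' : p ∈ minimalPrimes R := (Set.Finite.mem_toFinset _).mp hp
  obtain ⟨ψ, x, hψ⟩ := exists_dual_apply_notMem M hM p hp'
  exact hψ (hle (Ideal.subset_span ⟨ψ, x, rfl⟩))

end Trace

section Main

variable {R : Type u} [CommRing R] [IsLocalRing R] [IsNoetherianRing R] [IsReduced R]
  (M : Type u) [AddCommGroup M] [Module R M] [Module.Finite R M] [Module.IsReflexive R M]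

/-- If some functional takes a unit value and `End M = R` then `M ≃ R`. -/
theorem nonempty_equiv_of_isUnit_apply
    (h : Function.Bijective (algebraMap R (Module.End R M)))
    (ψ : Module.Dual R M) (x : M) (hu : IsUnit (ψ x)) : Nonempty (M ≃ₗ[R] R) := by
  obtain ⟨u, hu⟩ := hu
  -- the idempotent endomorphism `e y = (u⁻¹ ψ y) x`
  let e : Module.End R M := (LinearMap.toSpanSingleton R M x) ∘ₗ ((↑u⁻¹ : R) • ψ)
  have he : ∀ y, e y = ((↑u⁻¹ : R) * ψ y) • x := fun y => rfl
  obtain ⟨r, hr⟩ := h.2 e
  have hrx : ∀ y, r • y = ((↑u⁻¹ : R) * ψ y) • x := by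
    intro y
    rw [← he, ← hr]; rfl
  have hx1 : r • x = x := by
    rw [hrx x, ← hu, Units.inv_mul, one_smul]
  have hx0 : x ≠ 0 := by
    intro h0
    have : ψ x = 0 := by rw [h0, map_zero]
    rw [← hu] at this
    exact u.ne_zero this
  -- `r` is idempotent
  have hrr : r * r = r := by
    apply h.1
    ext y
    show (r * r) • y = r • y
    rw [mul_smul, hrx y, smul_comm, hx1]
  have hr1 : r = 1 := by
    have h1 : r * (r - 1) = 0 := by rw [mul_sub, hrr, mul_one, sub_self]
    rcases IsLocalRing.isUnit_or_isUnit_of_add_one (a := r) (b := 1 - r) (by ring) with hur | hur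
    · have := hur.mul_right_eq_zero.mp h1
      exact sub_eq_zero.mp this
    · exfalso
      have h2 : (1 - r) * r = 0 := by rw [sub_mul, one_mul, hrr, sub_self]
      have h3 := hur.mul_right_eq_zero.mp h2
      rw [h3, zero_smul] at hx1
      exact hx0 hx1.symm
  subst hr1
  refine ⟨LinearEquiv.ofBijective ψ ⟨?_, ?_⟩⟩
  · rw [← LinearMap.ker_eq_bot, LinearMap.ker_eq_bot']
    intro y hy
    have := hrx y
    rw [one_smul, hy, mul_zero, zero_smul] at this
    exact this
  · intro a
    refine ⟨(a * (↑u⁻¹ : R)) • x, ?_⟩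
    rw [map_smul, ← hu, smul_eq_mul, mul_assoc, Units.inv_mul, mul_one]

/-- **Local theorem**: over a reduced Noetherian local ring of dimension `≤ 1`, a finite reflexive
module with `End M = R` is free of rank one. -/
theorem nonempty_equiv_of_bijective_algebraMap_end (hdim : ringKrullDim R ≤ 1)
    (h : Function.Bijective (algebraMap R (Module.End R M))) : Nonempty (M ≃ₗ[R] R) := by
  classical
  by_cases hex : ∃ (ψ : Module.Dual R M) (x : M), IsUnit (ψ x)
  · obtain ⟨ψ, x, hu⟩ := hex
    exact nonempty_equiv_of_isUnit_apply M h ψ x hu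
  exfalso
  push_neg at hex
  have hmem : ∀ (ψ : Module.Dual R M) (x : M), ψ x ∈ maximalIdeal R :=
    fun ψ x => (mem_maximalIdeal _).mpr (hex ψ x)
  -- faithful
  have hM : Module.annihilator R M = ⊥ := by
    rw [eq_bot_iff]
    intro a ha
    rw [Module.mem_annihilator] at ha
    have : algebraMap R (Module.End R M) a = algebraMap R (Module.End R M) 0 := by
      ext y
      simp [Module.algebraMap_end_apply, ha y]
    exact h.1 this
  obtain ⟨t, htτ, ht⟩ := exists_mem_trace_nonZeroDivisors M hM
  have hτm : trace R M ≤ maximalIdeal R := by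
    unfold trace
    rw [Ideal.span_le]
    rintro _ ⟨ψ, x, rfl⟩
    exact hmem ψ x
  obtain ⟨g, hg⟩ := exists_linearMap_ne_smul hdim t (hτm htτ) ht
  -- the endomorphism of the dual induced by `g`
  let G : Module.Dual R M →ₗ[R] Module.Dual R M :=
    { toFun := fun ψ => g ∘ₗ (ψ.codRestrict (maximalIdeal R) (hmem ψ))
      map_add' := fun ψ₁ ψ₂ => by
        ext y
        simp only [LinearMap.coe_comp, Function.comp_apply, LinearMap.add_apply]
        rw [← map_add]
        rfl
      map_smul' := fun a ψ => by
        ext y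
        simp only [LinearMap.coe_comp, Function.comp_apply, LinearMap.smul_apply, RingHom.id_apply]
        rw [← map_smul]
        rfl }
  have hG : ∀ (ψ : Module.Dual R M) (y : M), G ψ y = g ⟨ψ y, hmem ψ y⟩ := fun ψ y => rfl
  -- transport to an endomorphism of `M` by reflexivity
  let ev := Module.evalEquiv R M
  let θ : Module.End R M := ev.symm.toLinearMap ∘ₗ G.dualMap ∘ₗ ev.toLinearMap
  have hθ : ∀ (ψ : Module.Dual R M) (y : M), ψ (θ y) = g ⟨ψ y, hmem ψ y⟩ := by
    intro ψ y
    have h1 : ev (θ y) = G.dualMap (ev y) := by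
      show ev (ev.symm (G.dualMap (ev y))) = _
      rw [LinearEquiv.apply_symm_apply]
    have h2 := LinearMap.congr_fun h1 ψ
    rw [Module.evalEquiv_apply, Module.Dual.eval_apply] at h2
    rw [h2, LinearMap.dualMap_apply, Module.evalEquiv_apply, Module.Dual.eval_apply, hG]
  obtain ⟨r, hr⟩ := h.2 θ
  have hr' : ∀ y, θ y = r • y := fun y => by rw [← hr]; rfl
  -- `g = r` on the trace ideal
  have hgτ : ∀ (a : R) (ha : a ∈ trace R M), g ⟨a, hτm ha⟩ = r * a := by
    intro a ha
    unfold trace at ha
    induction ha using Submodule.span_induction with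
    | mem a ha =>
      obtain ⟨ψ, x, rfl⟩ := ha
      rw [← hθ ψ x, hr', map_smul, smul_eq_mul]
    | zero =>
      have : (⟨0, hτm (Ideal.zero_mem _)⟩ : maximalIdeal R) = 0 := rfl
      rw [this, map_zero, mul_zero]
    | add a b ha hb iha ihb =>
      have hau : a ∈ trace R M := ha
      have hbu : b ∈ trace R M := hb
      have : (⟨a + b, hτm (Ideal.add_mem _ hau hbu)⟩ : maximalIdeal R) =
          ⟨a, hτm hau⟩ + ⟨b, hτm hbu⟩ := rfl
      rw [this, map_add, iha, ihb, mul_add]
    | smul c a ha iha =>
      have hau : a ∈ trace R M := ha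
      have : (⟨c • a, hτm (Ideal.mul_mem_left _ c hau)⟩ : maximalIdeal R) = c • ⟨a, hτm hau⟩ := rfl
      rw [this, map_smul, iha, smul_eq_mul, smul_eq_mul]
      ring
  apply hg r
  ext y
  have h1 : g (t • y) = t • g y := map_smul g t y
  have h2 : g ((y : R) • (⟨t, hτm htτ⟩ : maximalIdeal R)) = (y : R) • g ⟨t, hτm htτ⟩ :=
    map_smul g (y : R) _
  have h3 : t • y = (y : R) • (⟨t, hτm htτ⟩ : maximalIdeal R) := by
    ext
    simp only [Submodule.coe_smul, smul_eq_mul]
    ring
  rw [h3, h2, hgτ t htτ] at h1
  have h4 : g y * t = (r * (y : R)) * t := by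
    rw [smul_eq_mul, smul_eq_mul] at h1
    linear_combination -h1
  have h5 := (mul_cancel_right_mem_nonZeroDivisors ht).mp h4
  rw [h5]
  rfl

end Main

section Global

theorem bijective_algebraMap_end_of_equiv {R N : Type*} [CommRing R] [AddCommGroup N] [Module R N]
    (e : N ≃ₗ[R] R) : Function.Bijective (algebraMap R (Module.End R N)) := by
  constructor
  · intro a b hab
    have h1 := LinearMap.congr_fun hab (e.symm 1)
    rw [Module.algebraMap_end_apply, Module.algebraMap_end_apply] at h1
    have h2 := congrArg e h1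
    simpa using h2
  · intro θ
    refine ⟨e (θ (e.symm 1)), ?_⟩
    ext n
    rw [Module.algebraMap_end_apply]
    apply e.injective
    have h1 : n = e n • e.symm 1 := by
      apply e.injective
      simp
    conv_rhs => rw [h1, map_smul, map_smul]
    rw [map_smul, smul_eq_mul, smul_eq_mul, mul_comm]

variable (S : Type u) [CommRing S] [IsNoetherianRing S]
  (M : Type u) [AddCommGroup M] [Module S M] [Module.Finite S M]

/-- the localization of `S → End_S M` at a prime is `S_P → End_{S_P} M_P`. -/
theorem map_algebraMap_end [Module.FinitePresentation S M] (P : Ideal S) [P.IsPrime] :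
    IsLocalizedModule.map P.primeCompl (Algebra.linearMap S (Localization.AtPrime P))
      (LocalizedModule.map P.primeCompl (M := M) (N := M)) (Algebra.linearMap S (Module.End S M)) =
    (Algebra.linearMap (Localization.AtPrime P)
      (Module.End (Localization.AtPrime P) (LocalizedModule P.primeCompl M))).restrictScalars S := by
  apply IsLocalizedModule.linearMap_ext P.primeCompl (Algebra.linearMap S (Localization.AtPrime P))
    (LocalizedModule.map P.primeCompl (M := M) (N := M))
  rw [IsLocalizedModule.map_comp]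
  apply LinearMap.ext_ring
  simp only [LinearMap.coe_comp, Function.comp_apply, Algebra.linearMap_apply, map_one,
    LinearMap.coe_restrictScalars]
  exact LocalizedModule.map_id P.primeCompl

theorem ringKrullDim_localization_le (P : Ideal S) [P.IsPrime] :
    ringKrullDim (Localization.AtPrime P) ≤ ringKrullDim S := by
  rw [IsLocalization.AtPrime.ringKrullDim_eq_height P (Localization.AtPrime P)]
  exact Ideal.height_le_ringKrullDim_of_ne_top (Ideal.IsPrime.ne_top ‹_›)

/-- **Global theorem**: `S` reduced Noetherian of dimension `≤ 1`, `M` finite reflexive. Then `M` is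
locally free of rank one iff `S → End_S M` is bijective. -/
theorem locallyFree_rank_one_iff [IsReduced S] (hdim : ringKrullDim S ≤ 1)
    [Module.IsReflexive S M] :
    (∀ (P : Ideal S) (_ : P.IsPrime),
        Nonempty (LocalizedModule P.primeCompl M ≃ₗ[Localization.AtPrime P] Localization.AtPrime P)) ↔
      Function.Bijective (algebraMap S (Module.End S M)) := by
  haveI : Module.FinitePresentation S M := Module.finitePresentation_of_finite S M
  constructor
  · intro h
    have key := bijective_of_isLocalized_maximal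
      (fun (P : Ideal S) [P.IsMaximal] => Localization.AtPrime P)
      (fun (P : Ideal S) [P.IsMaximal] => Algebra.linearMap S (Localization.AtPrime P))
      (fun (P : Ideal S) [P.IsMaximal] =>
        Module.End (Localization.AtPrime P) (LocalizedModule P.primeCompl M))
      (fun (P : Ideal S) [P.IsMaximal] => LocalizedModule.map P.primeCompl (M := M) (N := M))
      (Algebra.linearMap S (Module.End S M)) (by
        intro P hP
        rw [map_algebraMap_end S M P]
        obtain ⟨e⟩ := h P inferInstance
        exact bijective_algebraMap_end_of_equiv e)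
    exact key
  · intro h P hP
    haveI := hP
    have h1 : Function.Bijective
        (IsLocalizedModule.map P.primeCompl (Algebra.linearMap S (Localization.AtPrime P))
          (LocalizedModule.map P.primeCompl (M := M) (N := M))
          (Algebra.linearMap S (Module.End S M))) :=
      ⟨IsLocalizedModule.map_injective _ _ _ _ h.1, IsLocalizedModule.map_surjective _ _ _ _ h.2⟩
    rw [map_algebraMap_end S M P] at h1
    haveI := H47Reflexive.isReflexive_localizedModule P M
    exact nonempty_equiv_of_bijective_algebraMap_end (LocalizedModule P.primeCompl M)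
      ((ringKrullDim_localization_le S P).trans hdim) h1

end Global

end Groth.Agent.Lib.H26ReflRankOne
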