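import Mathlib

/-!
# helper44: Hochschild's identity `(f N)^p = f^p N^p + g N` in characteristic `p`

For a commutative ring `B` of characteristic `p` with a derivation `θ₀`, a ring `R` with a ring map
`μ : B → R` and `N : R` such that `N μ(b) = μ(b) N + μ(θ₀ b)`, and `f : B`, there is `g : B`
depending only on `(B, θ₀, f)` with `(μ f N)^p = μ g N + μ (f^p) N^p`.
Also: the generalised Leibniz rule for iterates, and the `p`-th iterate of a derivation in
characteristic `p` is a derivation.
-/

set_option autoImplicit false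
open Finset Polynomial

namespace Groth.Agent.Lib.HochschildH44

section Leibniz

variable {S : Type*} [CommRing S] (ε : S →+ S) (hε : ∀ a b, ε (a * b) = ε a * b + a * ε b)

include hε in
theorem map_one_eq_zero : ε 1 = 0 := by
  have := hε 1 1
  simp only [mul_one, one_mul] at this
  have h2 : ε 1 + 0 = ε 1 + ε 1 := by rw [add_zero]; exact this
  exact (add_left_cancel h2).symm

include hε in
/-- Generalised Leibniz rule for iterates. -/
theorem iterate_mul (n : ℕ) (a b : S) :
    ε^[n] (a * b) = ∑ ij ∈ antidiagonal n, n.choose ij.1 • (ε^[ij.1] a * ε^[ij.2] b) := by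
  induction n with
  | zero => simp
  | succ n ih =>
    rw [Function.iterate_succ_apply', ih, map_sum,
      Finset.sum_antidiagonal_choose_succ_nsmul (fun i j => ε^[i] a * ε^[j] b) n]
    simp only [map_nsmul, hε, nsmul_add, Finset.sum_add_distrib, Function.iterate_succ_apply']
    rw [add_comm]
    congr 1
    apply Finset.sum_congr rfl
    intro ij hij
    rw [Nat.choose_symm_of_eq_add (Finset.HasAntidiagonal.mem_antidiagonal.1 hij).symm]

include hε in
/-- In characteristic `p` the `p`-th iterate satisfies the Leibniz rule. -/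
theorem iterate_prime_mul (p : ℕ) [Fact p.Prime] [CharP S p] (a b : S) :
    ε^[p] (a * b) = ε^[p] a * b + a * ε^[p] b := by
  have hp := (Fact.out : p.Prime)
  rw [iterate_mul ε hε]
  rw [Finset.sum_eq_add_of_mem (p, 0) (0, p)]
  · simp
  · simp
  · simp
  · intro h
    have := congrArg Prod.fst h
    exact hp.pos.ne' this
  · intro ij hij hne
    have h1 := Finset.HasAntidiagonal.mem_antidiagonal.1 hij
    have hdvd : p ∣ p.choose ij.1 := by
      apply hp.dvd_choose_self
      · intro h0
        apply hne.2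
        ext
        · exact h0
        · simp only; omega
      · have : ij.1 ≠ p := by
          intro h0
          apply hne.1
          ext
          · exact h0
          · simp only; omega
        omega
    obtain ⟨c, hc⟩ := hdvd
    rw [hc, mul_smul]
    have : ((p : ℕ) : S) = 0 := CharP.cast_eq_zero S p
    rw [← Nat.cast_smul_eq_nsmul S p, this, zero_smul]

end Leibniz

section Deriv

variable {S : Type*} [CommRing S] (ε d : S →+ S)
  (hε : ∀ a b, ε (a * b) = ε a * b + a * ε b) (hd : ∀ a b, d (a * b) = d a * b + a * d b)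
  (hcomm : ∀ a, d (ε a) = ε (d a)) (U u : S) (hU : d U = u)
  (G : ℕ → S) (hG0 : G 0 = 1) (hGs : ∀ n, G (n + 1) = ε (G n) + U * G n)

/-- The auxiliary terms `h (k+1) m = ε^k(u) G_m`, `h 0 m = 0`. -/
def hterm : ℕ → ℕ → S
  | 0, _ => 0
  | (k + 1), m => ε^[k] u * G m

include hε hd hcomm hU hG0 hGs in
theorem deriv_G (n : ℕ) :
    d (G n) = ∑ ij ∈ antidiagonal n, n.choose ij.1 • hterm ε u G ij.1 ij.2 := by
  induction n with
  | zero => simp [hG0, map_one_eq_zero d hd, hterm]
  | succ n ih =>
    rw [Finset.sum_antidiagonal_choose_succ_nsmul (fun i j => hterm ε u G i j) n]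
    rw [hGs, map_add, hcomm, hd, hU, ih, map_sum, Finset.mul_sum]
    -- pointwise identity
    have key : ∀ i j : ℕ, ε (hterm ε u G i j) + U * hterm ε u G i j =
        hterm ε u G i (j + 1) + (if i = 0 then 0 else hterm ε u G (i + 1) j) := by
      intro i j
      cases i with
      | zero => simp [hterm]
      | succ k =>
        simp only [hterm, hε, hGs, Function.iterate_succ_apply', Nat.succ_ne_zero, if_false]
        ring
    have e1 : ∑ x ∈ antidiagonal n, ε (n.choose x.1 • hterm ε u G x.1 x.2) + (u * G n +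
        ∑ i ∈ antidiagonal n, U * (n.choose i.1 • hterm ε u G i.1 i.2)) =
        u * G n + ∑ x ∈ antidiagonal n, n.choose x.1 •
          (ε (hterm ε u G x.1 x.2) + U * hterm ε u G x.1 x.2) := by
      simp only [map_nsmul, mul_smul_comm, nsmul_add, Finset.sum_add_distrib]
      abel
    rw [e1]
    simp only [key, nsmul_add, Finset.sum_add_distrib]
    have e2 : u * G n + ∑ x ∈ antidiagonal n, n.choose x.1 •
        (if x.1 = 0 then 0 else hterm ε u G (x.1 + 1) x.2) =
        ∑ x ∈ antidiagonal n, n.choose x.2 • hterm ε u G (x.1 + 1) x.2 := by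
      have e3 : ∀ x ∈ antidiagonal n, n.choose x.2 • hterm ε u G (x.1 + 1) x.2 =
          n.choose x.1 • hterm ε u G (x.1 + 1) x.2 := by
        intro x hx
        rw [Nat.choose_symm_of_eq_add (Finset.HasAntidiagonal.mem_antidiagonal.1 hx).symm]
      rw [Finset.sum_congr rfl e3]
      simp only [Finset.Nat.sum_antidiagonal_eq_sum_range_succ_mk]
      rw [Finset.sum_range_succ', Finset.sum_range_succ' (fun i => n.choose i • hterm ε u G (i + 1) (n - i))]
      simp only [Nat.succ_ne_zero, if_false, if_true, smul_zero, add_zero, Nat.choose_zero_right,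
        one_smul, Nat.sub_zero, hterm, Function.iterate_zero, id_eq]
      abel
    rw [← e2]
    abel

end Deriv

section Poly

variable {B : Type*} [CommRing B] (ε : Derivation ℤ B B) (f : B)

/-- Coefficientwise derivation on polynomials. -/
noncomputable def mapCoeffsZ : Derivation ℤ B[X] B[X] :=
  @Differential.mapCoeffs B _ ⟨ε⟩

@[simp]
theorem coeff_mapCoeffsZ (P : B[X]) (i : ℕ) : (mapCoeffsZ ε P).coeff i = ε (P.coeff i) := rfl

theorem mapCoeffsZ_monomial (n : ℕ) (x : B) :
    mapCoeffsZ ε (monomial n x) = monomial n (ε x) := by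
  ext i
  simp only [coeff_mapCoeffsZ, coeff_monomial]
  split_ifs <;> simp

theorem mapCoeffsZ_C (x : B) : mapCoeffsZ ε (C x) = C (ε x) := by
  rw [← monomial_zero_left, mapCoeffsZ_monomial, monomial_zero_left]

theorem derivative_mapCoeffsZ (P : B[X]) :
    derivative (mapCoeffsZ ε P) = mapCoeffsZ ε (derivative P) := by
  ext i
  simp only [coeff_derivative, coeff_mapCoeffsZ, Derivation.leibniz, smul_eq_mul]
  have : ε ((i : B) + 1) = 0 := by
    have h1 : ((i : B) + 1) = ((i + 1 : ℕ) : B) := by push_cast; rfl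
    rw [h1, Derivation.map_natCast]
  rw [this, mul_zero, zero_add, mul_comm]

/-- The polynomials `G_n` with `(f N)^n = Σ_k μ(coeff G_n k) N^k`. -/
noncomputable def Gpoly : ℕ → B[X]
  | 0 => 1
  | (n + 1) => mapCoeffsZ ε (Gpoly n) + (C f * X) * Gpoly n

theorem Gpoly_zero : Gpoly ε f 0 = 1 := rfl

theorem Gpoly_succ (n : ℕ) :
    Gpoly ε f (n + 1) = mapCoeffsZ ε (Gpoly ε f n) + (C f * X) * Gpoly ε f n := rfl

theorem coeff_Gpoly_succ_zero (n : ℕ) : (Gpoly ε f (n + 1)).coeff 0 = 0 := by
  induction n with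
  | zero => simp [Gpoly_succ, Gpoly_zero]
  | succ n ih =>
    rw [Gpoly_succ, coeff_add, coeff_mapCoeffsZ, ih, map_zero, zero_add, mul_assoc, coeff_C_mul,
      coeff_X_mul_zero, mul_zero]

theorem coeff_Gpoly_of_lt (n : ℕ) : ∀ k, n < k → (Gpoly ε f n).coeff k = 0 := by
  induction n with
  | zero =>
    intro k hk
    rw [Gpoly_zero, coeff_one, if_neg (by omega)]
  | succ n ih =>
    intro k hk
    obtain ⟨k, rfl⟩ : ∃ k', k = k' + 1 := ⟨k - 1, by omega⟩
    rw [Gpoly_succ, coeff_add, coeff_mapCoeffsZ, ih _ (by omega), map_zero, zero_add, mul_assoc,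
      coeff_C_mul, coeff_X_mul, ih _ (by omega), mul_zero]

theorem coeff_Gpoly_self (n : ℕ) : (Gpoly ε f n).coeff n = f ^ n := by
  induction n with
  | zero => simp [Gpoly_zero]
  | succ n ih =>
    rw [Gpoly_succ, coeff_add, coeff_mapCoeffsZ, coeff_Gpoly_of_lt ε f n _ (Nat.lt_succ_self n),
      map_zero, zero_add, mul_assoc, coeff_C_mul, coeff_X_mul, ih, pow_succ, mul_comm]

theorem derivative_Gpoly (n : ℕ) :
    derivative (Gpoly ε f n) = ∑ ij ∈ antidiagonal n,
      n.choose ij.1 • hterm (mapCoeffsZ ε : B[X] →+ B[X]) (C f) (Gpoly ε f) ij.1 ij.2 := by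
  refine deriv_G (mapCoeffsZ ε : B[X] →+ B[X]) (derivative : B[X] →ₗ[B] B[X]).toAddMonoidHom
    ?_ ?_ ?_ (C f * X) (C f) ?_ (Gpoly ε f) rfl (fun n => rfl) n
  · intro a b
    change mapCoeffsZ ε (a * b) = _
    rw [Derivation.leibniz]
    simp only [smul_eq_mul]
    change _ = mapCoeffsZ ε a * b + a * mapCoeffsZ ε b
    ring
  · intro a b
    change derivative (a * b) = derivative a * b + a * derivative b
    rw [derivative_mul]
  · intro a
    exact derivative_mapCoeffsZ ε a
  · change derivative (C f * X) = C f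
    simp

theorem iterate_mapCoeffsZ_C (k : ℕ) (x : B) :
    (mapCoeffsZ ε : B[X] →+ B[X])^[k] (C x) = C (ε^[k] x) := by
  induction k with
  | zero => rfl
  | succ k ih =>
    rw [Function.iterate_succ_apply', ih, Function.iterate_succ_apply']
    exact mapCoeffsZ_C ε _

/-- In characteristic `p`, `G_p = g X + f^p X^p`. -/
theorem Gpoly_prime (p : ℕ) [Fact p.Prime] [CharP B p] :
    Gpoly ε f p = C ((Gpoly ε f p).coeff 1) * X + C (f ^ p) * X ^ p := by
  have hp := (Fact.out : p.Prime)
  have hder : derivative (Gpoly ε f p) = C (ε^[p - 1] f) := by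
    rw [derivative_Gpoly, Finset.sum_eq_single (p, 0)]
    · obtain ⟨n, hn⟩ : ∃ n, p = n + 1 := ⟨p - 1, (Nat.succ_pred_eq_of_pos hp.pos).symm⟩
      simp only [Nat.choose_self, one_smul]
      rw [hn]
      simp only [hterm, Gpoly_zero, mul_one, Nat.add_sub_cancel]
      exact iterate_mapCoeffsZ_C ε n f
    · intro ij hij hne
      have h1 := Finset.HasAntidiagonal.mem_antidiagonal.1 hij
      by_cases h0 : ij.1 = 0
      · rw [h0]; simp [hterm]
      · have hdvd : p ∣ p.choose ij.1 := by
          apply hp.dvd_choose_self h0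
          have : ij.1 ≠ p := by
            intro h2
            apply hne
            ext
            · exact h2
            · simp only; omega
          omega
        obtain ⟨c, hc⟩ := hdvd
        rw [hc, mul_smul]
        have : ((p : ℕ) : B[X]) = 0 := CharP.cast_eq_zero B[X] p
        rw [← Nat.cast_smul_eq_nsmul B[X] p, this, zero_smul]
    · intro h
      exact absurd (by simp) h
  ext k
  simp only [coeff_add, coeff_C_mul, coeff_X, coeff_X_pow]
  by_cases hk0 : k = 0
  · subst hk0
    obtain ⟨n, hn⟩ : ∃ n, p = n + 1 := ⟨p - 1, (Nat.succ_pred_eq_of_pos hp.pos).symm⟩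
    have : (Gpoly ε f p).coeff 0 = 0 := by rw [hn]; exact coeff_Gpoly_succ_zero ε f n
    rw [this, if_neg one_ne_zero, if_neg hp.pos.ne, mul_zero, mul_zero, add_zero]
  by_cases hk1 : k = 1
  · subst hk1
    simp [hp.one_lt.ne]
  by_cases hkp : k = p
  · subst hkp
    rw [coeff_Gpoly_self]
    simp [Ne.symm hk1]
  rw [if_neg (Ne.symm hk1), if_neg hkp, mul_zero, mul_zero, add_zero]
  by_cases hlt : p < k
  · exact coeff_Gpoly_of_lt ε f p k hlt
  · -- `2 ≤ k < p`
    obtain ⟨i, rfl⟩ : ∃ i, k = i + 1 := ⟨k - 1, by omega⟩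
    have h1 := congrArg (fun P => coeff P i) hder
    simp only [coeff_derivative, coeff_C] at h1
    rw [if_neg (by omega)] at h1
    have hu : IsUnit (((i + 1 : ℕ) : B)) := by
      rw [CharP.isUnit_natCast_iff (R := B) (p := p) hp]
      intro hdvd
      have := Nat.le_of_dvd (Nat.succ_pos i) hdvd
      omega
    have h2 : (Gpoly ε f p).coeff (i + 1) * ((i + 1 : ℕ) : B) = 0 := by
      push_cast
      exact h1
    exact (hu.mul_left_eq_zero).1 h2

end Poly

section NonComm

variable {B : Type*} [CommRing B] (ε : Derivation ℤ B B) (f : B)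
  {R : Type*} [Ring R] (μ : B →+* R) (N : R) (θ₀ : B → B)
  (hN : ∀ b, N * μ b = μ b * N + μ (θ₀ b)) (hε : ∀ b, ε b = f * θ₀ b)

include hN hε in
theorem mul_eval₂ (P : B[X]) :
    (μ f * N) * eval₂ μ N P = eval₂ μ N (mapCoeffsZ ε P + (C f * X) * P) := by
  induction P using Polynomial.induction_on' with
  | add P Q hP hQ =>
    rw [eval₂_add, mul_add, hP, hQ, map_add, mul_add, ← eval₂_add]
    congr 1
    abel
  | monomial k a =>
    rw [mapCoeffsZ_monomial, C_mul_X_eq_monomial, monomial_mul_monomial, eval₂_add,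
      eval₂_monomial, eval₂_monomial, eval₂_monomial, hε, map_mul, map_mul]
    rw [mul_assoc, ← mul_assoc N, hN, add_mul, mul_add, add_comm, pow_add, pow_one]
    simp only [mul_assoc]

include hN hε in
theorem pow_eq_eval₂ (n : ℕ) : (μ f * N) ^ n = eval₂ μ N (Gpoly ε f n) := by
  induction n with
  | zero => simp [Gpoly_zero]
  | succ n ih => rw [pow_succ', ih, mul_eval₂ ε f μ N θ₀ hN hε, Gpoly_succ]

include hN hε in
/-- Hochschild's identity. -/
theorem hochschild (p : ℕ) [Fact p.Prime] [CharP B p] :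
    (μ f * N) ^ p = μ ((Gpoly ε f p).coeff 1) * N + μ (f ^ p) * N ^ p := by
  rw [pow_eq_eval₂ ε f μ N θ₀ hN hε]
  conv_lhs => rw [Gpoly_prime ε f p]
  rw [eval₂_add, C_mul_X_eq_monomial, C_mul_X_pow_eq_monomial, eval₂_monomial, eval₂_monomial,
    pow_one]

end NonComm

end Groth.Agent.Lib.HochschildH44
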