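import Mathlib

/-
Lib/SemistableNode (helper70): the semistable node `V[x,y]/(xy - ϖ)` over a DVR (S14386).
* general: `span_D_of_adjoin_eq_top`, `span_D_image_of_subsingleton` (Kähler spans),
  `exists_derivation_extension` (derivations extend to formally étale algebras),
  `exists_mul_eq_pow_of_isUnit_away`, `mem_span_of_mul_eq_pow`.
* components: `D_eq_zero_of_θ_mem`, `exists_const_of_θ_mem`, `not_quasiFinite_of_const`.
* `NodeModel`: abstract model of the node; `NodeModel.main`: the theorem for an abstract model.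
* `nodeModel`: the concrete model on `MvPolynomial (Fin 2) V ⧸ (X 0 * X 1 - C ϖ)`.
-/

set_option autoImplicit false

universe u

namespace Groth.Agent.Lib.SemistableNode

open KaehlerDifferential TensorProduct

section Gen

variable (R : Type*) {S T : Type*} [CommRing R] [CommRing S] [CommRing T]
  [Algebra R S] [Algebra R T] [Algebra S T] [IsScalarTower R S T]

/-- Lemma G': differentials of algebra generators span. -/
theorem span_D_of_adjoin_eq_top (s : Set S) (hs : Algebra.adjoin R s = ⊤) :
    Submodule.span S ((D R S) '' s) = ⊤ := by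
  rw [eq_top_iff, ← span_range_derivation R S, Submodule.span_le]
  rintro _ ⟨x, rfl⟩
  have hx : x ∈ Algebra.adjoin R s := by rw [hs]; trivial
  induction hx using Algebra.adjoin_induction with
  | mem x hx => exact Submodule.subset_span ⟨x, hx, rfl⟩
  | algebraMap r => simp
  | add x y _ _ hx hy => rw [map_add]; exact add_mem hx hy
  | mul x y _ _ hx hy =>
    rw [Derivation.leibniz]
    exact add_mem (Submodule.smul_mem _ _ hy) (Submodule.smul_mem _ _ hx)

/-- Lemma G: spans of differentials transfer along maps with `Ω[T⁄S] = 0`. -/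
theorem span_D_image_of_subsingleton [Subsingleton Ω[T⁄S]] (s : Set S)
    (hs : Submodule.span S ((D R S) '' s) = ⊤) :
    Submodule.span T ((D R T) '' ((algebraMap S T) '' s)) = ⊤ := by
  have key : ∀ z : T ⊗[S] Ω[S⁄R], KaehlerDifferential.mapBaseChange R S T z ∈
      Submodule.span T ((D R T) '' ((algebraMap S T) '' s)) := by
    intro z
    induction z using TensorProduct.induction_on with
    | zero => simp
    | tmul t η =>
      rw [KaehlerDifferential.mapBaseChange_tmul]
      refine Submodule.smul_mem _ _ ?_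
      have hη : η ∈ Submodule.span S ((D R S) '' s) := by rw [hs]; trivial
      induction hη using Submodule.span_induction with
      | mem η hη =>
        obtain ⟨a, ha, rfl⟩ := hη
        rw [KaehlerDifferential.map_D]
        exact Submodule.subset_span ⟨_, ⟨a, ha, rfl⟩, rfl⟩
      | zero => simp
      | add a b _ _ ha hb => rw [map_add]; exact add_mem ha hb
      | smul c a _ ha =>
        rw [LinearMap.map_smul_of_tower, algebra_compatible_smul T c]
        exact Submodule.smul_mem _ _ ha
    | add a b ha hb => rw [map_add]; exact add_mem ha hb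
  rw [eq_top_iff]
  intro ω _
  obtain ⟨z, rfl⟩ := (KaehlerDifferential.exact_mapBaseChange_map R S T ω).mp
    (Subsingleton.elim _ _)
  exact key z

/-- Lemma L: a derivation extends to a formally étale algebra (e.g. a localization). -/
theorem exists_derivation_extension [Algebra.FormallyEtale S T] (d : Derivation R S S) :
    ∃ d' : Derivation R T T, ∀ s : S, d' (algebraMap S T s) = algebraMap S T (d s) := by
  let l : Ω[S⁄R] →ₗ[S] T := (Algebra.linearMap S T).comp d.liftKaehlerDifferential
  let L : Ω[T⁄R] →ₗ[T] T :=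
    (LinearMap.liftBaseChange T l).comp
      (tensorKaehlerEquivOfFormallyEtale R S T).symm.toLinearMap
  refine ⟨L.compDer (D R T), ?_⟩
  intro s
  have h1 : (L.compDer (D R T)) (algebraMap S T s) = L (D R T (algebraMap S T s)) := rfl
  rw [h1]
  simp only [L, LinearMap.comp_apply, LinearEquiv.coe_coe,
    tensorKaehlerEquivOfFormallyEtale_symm_D_algebraMap, LinearMap.liftBaseChange_tmul, l,
    one_smul, Derivation.liftKaehlerDifferential_comp_D, Algebra.linearMap_apply]

end Gen

theorem exists_mul_eq_pow_of_isUnit_away {B : Type*} [CommRing B] (t : B) (B' : Type*)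
    [CommRing B'] [Algebra B B'] [IsLocalization.Away t B'] (u : B)
    (hu : IsUnit (algebraMap B B' u)) : ∃ (v : B) (n : ℕ), u * v = t ^ n := by
  obtain ⟨w', hw'⟩ := hu.exists_right_inv
  obtain ⟨v, s, rfl⟩ := IsLocalization.exists_mk'_eq (Submonoid.powers t) w'
  rw [← IsLocalization.mk'_one (M := Submonoid.powers t) B' u, ← IsLocalization.mk'_mul,
    one_mul, IsLocalization.mk'_eq_iff_eq_mul, one_mul,
    IsLocalization.eq_iff_exists (Submonoid.powers t)] at hw'
  obtain ⟨c, hc⟩ := hw'
  obtain ⟨l, hl⟩ := c.2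
  obtain ⟨m, hm⟩ := s.2
  refine ⟨t ^ l * v, l + m, ?_⟩
  rw [← hl, ← hm] at hc
  rw [pow_add, ← hc]
  ring

theorem mem_span_of_mul_eq_pow {B : Type*} [CommRing B] (x y : B)
    (hx : (Ideal.span {x}).IsPrime) (hy : (Ideal.span {y}).IsPrime)
    (hxn : ∀ b, x * b = 0 → b = 0) (hyn : ∀ b, y * b = 0 → b = 0)
    (hxy : Ideal.span {x, y} ≠ ⊤) (u : B) (hu : u ∈ Ideal.span {x, y}) :
    ∀ (n : ℕ) (a b : ℕ), a + b = n → ∀ w, u * w = x ^ a * y ^ b →
      u ∈ Ideal.span {x} ∨ u ∈ Ideal.span {y} := by
  intro n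
  induction n with
  | zero =>
    intro a b hab w hw
    have ha : a = 0 := by omega
    have hb : b = 0 := by omega
    subst ha hb
    simp only [pow_zero, mul_one] at hw
    exfalso
    apply hxy
    exact Ideal.eq_top_of_isUnit_mem _ hu (IsUnit.of_mul_eq_one w hw)
  | succ n ih =>
    intro a b hab w hw
    rcases Nat.eq_zero_or_pos a with ha | ha
    · -- b ≥ 1
      subst ha
      obtain ⟨b', rfl⟩ : ∃ b', b = b' + 1 := ⟨b - 1, by omega⟩
      have h1 : u * w ∈ Ideal.span {y} := by
        rw [hw, pow_succ, ← mul_assoc]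
        exact Ideal.mul_mem_left _ _ (Ideal.mem_span_singleton_self y)
      rcases hy.mem_or_mem h1 with h | h
      · exact Or.inr h
      · obtain ⟨c, rfl⟩ := Ideal.mem_span_singleton'.mp h
        have h2 : y * (u * c - x ^ 0 * y ^ b') = 0 := by
          have : y * (u * c - x ^ 0 * y ^ b') = u * (c * y) - x ^ 0 * y ^ (b' + 1) := by ring
          rw [this, hw, sub_self]
        have h3 := sub_eq_zero.mp (hyn _ h2)
        exact ih 0 b' (by omega) c h3
    · obtain ⟨a', rfl⟩ : ∃ a', a = a' + 1 := ⟨a - 1, by omega⟩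
      have h1 : u * w ∈ Ideal.span {x} := by
        rw [hw, pow_succ, mul_assoc]
        rw [mul_comm x, ← mul_assoc]
        exact Ideal.mul_mem_left _ _ (Ideal.mem_span_singleton_self x)
      rcases hx.mem_or_mem h1 with h | h
      · exact Or.inl h
      · obtain ⟨c, rfl⟩ := Ideal.mem_span_singleton'.mp h
        have h2 : x * (u * c - x ^ a' * y ^ b) = 0 := by
          have : x * (u * c - x ^ a' * y ^ b) = u * (c * x) - x ^ (a' + 1) * y ^ b := by ring
          rw [this, hw, sub_self]
        have h3 := sub_eq_zero.mp (hxn _ h2)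
        exact ih a' b (by omega) c h3


section Component

variable {V B : Type u} [CommRing V] [CommRing B] [Algebra V B] (xi xj : B)
  (θ : Derivation V B B)

theorem θ_mem_span (hθi : θ xi = xi ∨ θ xi = - xi) (b : B)
    (hb : b ∈ Ideal.span {xi}) : θ b ∈ Ideal.span {xi} := by
  obtain ⟨c, rfl⟩ := Ideal.mem_span_singleton'.mp hb
  rw [Derivation.leibniz]
  refine Ideal.add_mem _ ?_ ?_
  · rcases hθi with h1 | h1
    · rw [h1, smul_eq_mul]
      exact Ideal.mul_mem_left _ _ (Ideal.mem_span_singleton_self _)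
    · rw [h1, smul_eq_mul]
      exact Ideal.mul_mem_left _ _ (neg_mem (Ideal.mem_span_singleton_self _))
  · rw [smul_eq_mul]
    exact Ideal.mul_mem_right _ _ (Ideal.mem_span_singleton_self _)

/-- the induced derivation on the component `x_i = 0`. -/
noncomputable def θC (hθi : θ xi = xi ∨ θ xi = - xi) :
    Derivation V (B ⧸ Ideal.span {xi}) (B ⧸ Ideal.span {xi}) :=
  Derivation.liftOfSurjective (f := Ideal.Quotient.mkₐ V (Ideal.span {xi}))
    (Ideal.Quotient.mkₐ_surjective V _) (d := θ) (by
      intro b hb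
      rw [Ideal.Quotient.mkₐ_eq_mk, Ideal.Quotient.eq_zero_iff_mem] at hb ⊢
      exact θ_mem_span xi θ hθi b hb)

theorem θC_mk (hθi : θ xi = xi ∨ θ xi = - xi) (b : B) :
    θC xi θ hθi (Ideal.Quotient.mk _ b) = Ideal.Quotient.mk _ (θ b) := by
  unfold θC
  exact Derivation.liftOfSurjective_apply (f := Ideal.Quotient.mkₐ V (Ideal.span {xi}))
    (Ideal.Quotient.mkₐ_surjective V _) _ b

theorem span_D_C (hspan : Submodule.span B {D V B xi, D V B xj} = ⊤) :
    Submodule.span (B ⧸ Ideal.span {xi})
      {D V (B ⧸ Ideal.span {xi}) (Ideal.Quotient.mk _ xj)} = ⊤ := by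
  haveI : Subsingleton Ω[(B ⧸ Ideal.span {xi})⁄B] :=
    KaehlerDifferential.subsingleton_of_surjective _ _ Ideal.Quotient.mk_surjective
  have h1 := span_D_image_of_subsingleton V (T := B ⧸ Ideal.span {xi}) ({xi, xj} : Set B)
    (by rw [Set.image_pair]; exact hspan)
  rw [Set.image_pair, Set.image_pair] at h1
  rw [eq_top_iff, ← h1, Submodule.span_le]
  have hzero : D V (B ⧸ Ideal.span {xi}) (algebraMap B (B ⧸ Ideal.span {xi}) xi) = 0 := by
    rw [Ideal.Quotient.algebraMap_eq,
      Ideal.Quotient.eq_zero_iff_mem.mpr (Ideal.mem_span_singleton_self _), map_zero]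
  intro ω hω
  rcases hω with rfl | rfl
  · rw [hzero]
    exact Submodule.zero_mem _
  · exact Submodule.subset_span rfl

/-- Part 1, one component. -/
theorem D_eq_zero_of_θ_mem (hprime : (Ideal.span {xi}).IsPrime) (hnot : xj ∉ Ideal.span {xi})
    (hθi : θ xi = xi ∨ θ xi = - xi) (hθj : θ xj = xj ∨ θ xj = - xj)
    (hspan : Submodule.span B {D V B xi, D V B xj} = ⊤) (f : B)
    (hf : θ f ∈ Ideal.span {xi}) :
    D V (B ⧸ Ideal.span {xi}) (Ideal.Quotient.mk _ f) = 0 := by
  have hmem : D V (B ⧸ Ideal.span {xi}) (Ideal.Quotient.mk _ f) ∈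
      Submodule.span (B ⧸ Ideal.span {xi})
      {D V (B ⧸ Ideal.span {xi}) (Ideal.Quotient.mk _ xj)} := by
    rw [span_D_C xi xj hspan]; trivial
  obtain ⟨c, hc⟩ := Submodule.mem_span_singleton.mp hmem
  have h1 := congrArg (θC xi θ hθi).liftKaehlerDifferential hc
  rw [map_smul, Derivation.liftKaehlerDifferential_comp_D,
    Derivation.liftKaehlerDifferential_comp_D, θC_mk, θC_mk,
    Ideal.Quotient.eq_zero_iff_mem.mpr hf, smul_eq_mul] at h1
  have hne : Ideal.Quotient.mk (Ideal.span {xi}) xj ≠ 0 := by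
    rw [Ne, Ideal.Quotient.eq_zero_iff_mem]
    exact hnot
  have hc0 : c = 0 := by
    rcases hθj with h2 | h2
    · rw [h2] at h1
      rcases mul_eq_zero.mp h1 with h3 | h3
      · exact h3
      · exact absurd h3 hne
    · rw [h2, map_neg, mul_neg, neg_eq_zero] at h1
      rcases mul_eq_zero.mp h1 with h3 | h3
      · exact h3
      · exact absurd h3 hne
  rw [← hc, hc0, zero_smul]

end Component

section Component2

open PowerSeries in
/-- a power series over a char-0 field killed by `X d/dX` is constant. -/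
theorem eq_C_of_X_mul_derivative_eq_zero {k : Type*} [Field k] [CharZero k] (g : PowerSeries k)
    (hg : (PowerSeries.X : PowerSeries k) * PowerSeries.derivative k g = 0) :
    g = PowerSeries.C (PowerSeries.constantCoeff g) := by
  have h1 : PowerSeries.derivative k g = 0 := by
    rcases mul_eq_zero.mp hg with h | h
    · exact absurd h PowerSeries.X_ne_zero
    · exact h
  apply PowerSeries.derivative.ext
  · rw [h1, PowerSeries.derivative_C]
  · simp

variable {V B : Type u} [CommRing V] [IsLocalRing V] [CommRing B] [Algebra V B] (xi xj : B)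
  (θ : Derivation V B B)

/-- two derivations agreeing on generators of `Ω` agree. -/
theorem derivation_ext_of_span {M : Type*} [AddCommGroup M] [Module V M] [Module B M]
    [IsScalarTower V B M] (hspan : Submodule.span B {D V B xi, D V B xj} = ⊤)
    (d₁ d₂ : Derivation V B M) (hi : d₁ xi = d₂ xi) (hj : d₁ xj = d₂ xj) : d₁ = d₂ := by
  have h1 : d₁.liftKaehlerDifferential = d₂.liftKaehlerDifferential := by
    apply LinearMap.ext_on hspan
    intro ω hω
    rcases hω with rfl | rfl
    · rw [Derivation.liftKaehlerDifferential_comp_D, Derivation.liftKaehlerDifferential_comp_D, hi]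
    · rw [Derivation.liftKaehlerDifferential_comp_D, Derivation.liftKaehlerDifferential_comp_D, hj]
  ext b
  rw [← Derivation.liftKaehlerDifferential_comp_D d₁, ← Derivation.liftKaehlerDifferential_comp_D d₂,
    h1]

/-- Claim A: in residue characteristic zero, `θ f ∈ (x_i)` forces `f` to be constant mod `x_i`. -/
theorem exists_const_of_θ_mem [CharZero (IsLocalRing.ResidueField V)]
    (hθi : θ xi = xi ∨ θ xi = - xi) (hθj : θ xj = xj ∨ θ xj = - xj)
    (hspan : Submodule.span B {D V B xi, D V B xj} = ⊤)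
    (ρ : B →+* PowerSeries (IsLocalRing.ResidueField V))
    (hρi : ρ xi = 0) (hρj : ρ xj = PowerSeries.X)
    (hρc : ∀ v : V, ρ (algebraMap V B v) = PowerSeries.C (IsLocalRing.residue V v))
    (hρk : RingHom.ker ρ = Ideal.span {xi})
    (f : B) (hf : θ f ∈ Ideal.span {xi}) :
    ∃ v₀ : V, f - algebraMap V B v₀ ∈ Ideal.span {xi} := by
  letI : Algebra B (PowerSeries (IsLocalRing.ResidueField V)) := ρ.toAlgebra
  haveI : IsScalarTower V B (PowerSeries (IsLocalRing.ResidueField V)) := by
    refine IsScalarTower.of_algebraMap_eq (fun v => ?_)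
    change _ = ρ (algebraMap V B v)
    rw [hρc, PowerSeries.algebraMap_apply, IsLocalRing.ResidueField.algebraMap_eq]
  -- the two derivations
  let E : Derivation V (PowerSeries (IsLocalRing.ResidueField V))
      (PowerSeries (IsLocalRing.ResidueField V)) :=
    ((PowerSeries.X : PowerSeries (IsLocalRing.ResidueField V)) •
      PowerSeries.derivative (IsLocalRing.ResidueField V)).restrictScalars V
  let D₁ : Derivation V B (PowerSeries (IsLocalRing.ResidueField V)) := E.compAlgebraMap B
  let D₂ : Derivation V B (PowerSeries (IsLocalRing.ResidueField V)) :=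
    (Algebra.linearMap B (PowerSeries (IsLocalRing.ResidueField V))).compDer θ
  have hD₁ : ∀ b, D₁ b = PowerSeries.X * PowerSeries.derivative _ (ρ b) := fun b => rfl
  have hD₂ : ∀ b, D₂ b = ρ (θ b) := fun b => rfl
  have hθfρ : ρ (θ f) = 0 := by
    rw [← RingHom.mem_ker, hρk]; exact hf
  have hρθi : ρ (θ xi) = 0 := by
    rcases hθi with h | h
    · rw [h, hρi]
    · rw [h, map_neg, hρi, neg_zero]
  have hEf : PowerSeries.X * PowerSeries.derivative _ (ρ f) = 0 := by
    rcases hθj with h | h
    · have : D₁ = D₂ := by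
        apply derivation_ext_of_span xi xj hspan
        · rw [hD₁, hD₂, hρi, map_zero, mul_zero, hρθi]
        · rw [hD₁, hD₂, hρj, h, hρj, PowerSeries.derivative_X, mul_one]
      rw [← hD₁, this, hD₂, hθfρ]
    · have : D₁ = - D₂ := by
        apply derivation_ext_of_span xi xj hspan
        · rw [Derivation.neg_apply, hD₁, hD₂, hρi, map_zero, mul_zero, hρθi, neg_zero]
        · rw [Derivation.neg_apply, hD₁, hD₂, hρj, h, map_neg, hρj, PowerSeries.derivative_X,
            mul_one, neg_neg]
      rw [← hD₁, this, Derivation.neg_apply, hD₂, hθfρ, neg_zero]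
  have hconst := eq_C_of_X_mul_derivative_eq_zero _ hEf
  obtain ⟨v₀, hv₀⟩ := IsLocalRing.residue_surjective (PowerSeries.constantCoeff (ρ f))
  refine ⟨v₀, ?_⟩
  rw [← hρk, RingHom.mem_ker, map_sub, hρc, hv₀, ← hconst, sub_self]

end Component2

section Component3

variable {V B : Type u} [CommRing V] [IsLocalRing V] [CommRing B] [Algebra V B] (xi xj : B)

/-- Part 2 (abstract): if `f` is constant modulo the prime `(x_i)` then `V[T] → B` is not
quasi-finite. -/
theorem not_quasiFinite_of_const (ϖ : V) (hmax : IsLocalRing.maximalIdeal V = Ideal.span {ϖ})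
    (hmul : algebraMap V B ϖ ∈ Ideal.span {xi})
    (hprime : (Ideal.span {xi}).IsPrime) (hnot : xj ∉ Ideal.span {xi})
    (χ : B →+* IsLocalRing.ResidueField V) (hχi : χ xi = 0) (hχj : χ xj = 0)
    (hχc : ∀ v : V, χ (algebraMap V B v) = IsLocalRing.residue V v)
    (f : B) (v₀ : V) (hf : f - algebraMap V B v₀ ∈ Ideal.span {xi}) :
    ¬ (Polynomial.aeval f : Polynomial V →ₐ[V] B).toRingHom.QuasiFinite := by
  intro hqf
  letI : Algebra (Polynomial V) B := (Polynomial.aeval f : Polynomial V →ₐ[V] B).toRingHom.toAlgebra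
  haveI : Algebra.QuasiFinite (Polynomial V) B := hqf
  have halg : ∀ g : Polynomial V, algebraMap (Polynomial V) B g = Polynomial.aeval f g :=
    fun g => rfl
  haveI hM : (RingHom.ker χ).IsPrime := RingHom.ker_isPrime χ
  have hle : Ideal.span {xi} ≤ RingHom.ker χ := by
    rw [Ideal.span_singleton_le_iff_mem, RingHom.mem_ker]; exact hχi
  -- key congruence
  have hcong : ∀ g : Polynomial V,
      Polynomial.aeval f g - algebraMap V B (Polynomial.eval v₀ g) ∈ Ideal.span {xi} := by
    intro g
    rw [← Ideal.Quotient.eq_zero_iff_mem, map_sub, sub_eq_zero]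
    have h1 : Ideal.Quotient.mk (Ideal.span {xi}) f =
        Ideal.Quotient.mk (Ideal.span {xi}) (algebraMap V B v₀) := by
      rw [← sub_eq_zero, ← map_sub, Ideal.Quotient.eq_zero_iff_mem]; exact hf
    have h2 : Ideal.Quotient.mk (Ideal.span {xi}) (Polynomial.aeval f g) =
        Polynomial.aeval (Ideal.Quotient.mk (Ideal.span {xi}) f) g := by
      have := Polynomial.aeval_algHom_apply (Ideal.Quotient.mkₐ V (Ideal.span {xi})) f g
      simpa using this.symm
    rw [h2, h1]
    have h3 := Polynomial.aeval_algHom_apply (Ideal.Quotient.mkₐ V (Ideal.span {xi}))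
      (algebraMap V B v₀) g
    rw [Ideal.Quotient.mkₐ_eq_mk] at h3
    rw [h3, Polynomial.aeval_algebraMap_apply, Polynomial.coe_aeval_eq_eval]
  have hunder : (Ideal.span {xi}).under (Polynomial V) = (RingHom.ker χ).under (Polynomial V) := by
    ext g
    simp only [Ideal.under_def, Ideal.mem_comap, halg]
    constructor
    · intro hg
      exact hle hg
    · intro hg
      have h1 := hcong g
      have h2 : algebraMap V B (Polynomial.eval v₀ g) ∈ RingHom.ker χ := by
        have : algebraMap V B (Polynomial.eval v₀ g) =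
            Polynomial.aeval f g - (Polynomial.aeval f g - algebraMap V B (Polynomial.eval v₀ g)) := by
          ring
        rw [this]
        exact Ideal.sub_mem _ hg (hle h1)
      rw [RingHom.mem_ker, hχc, IsLocalRing.residue_eq_zero_iff, hmax] at h2
      obtain ⟨w, hw⟩ := Ideal.mem_span_singleton'.mp h2
      have h3 : algebraMap V B (Polynomial.eval v₀ g) ∈ Ideal.span {xi} := by
        rw [← hw, map_mul]
        exact Ideal.mul_mem_left _ _ hmul
      have : Polynomial.aeval f g =
          (Polynomial.aeval f g - algebraMap V B (Polynomial.eval v₀ g)) +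
            algebraMap V B (Polynomial.eval v₀ g) := by ring
      rw [this]
      exact Ideal.add_mem _ h1 h3
  have heq := Algebra.QuasiFinite.eq_of_le_of_under_eq (R := Polynomial V) _ _ hle hunder
  apply hnot
  rw [heq, RingHom.mem_ker]
  exact hχj

end Component3

theorem fin2_eq_of_ne {i j l : Fin 2} (hij : j ≠ i) (hl : l ≠ i) : l = j := by
  fin_cases l <;> fin_cases i <;> fin_cases j <;> simp_all

/-- Abstract model of the semistable node `V[x,y]/(xy - ϖ)`. -/
structure NodeModel (V : Type u) [CommRing V] [IsLocalRing V] (ϖ : V) (Q : Type u) [CommRing Q]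
    [Algebra V Q] where
  xs : Fin 2 → Q
  mul : xs 0 * xs 1 = algebraMap V Q ϖ
  nzd : ∀ i a, xs i * a = 0 → a = 0
  ψ : Fin 2 → Q →+* Polynomial (IsLocalRing.ResidueField V)
  ψ_xs : ∀ i l, ψ i (xs l) = if l = i then 0 else Polynomial.X
  ψ_alg : ∀ i v, ψ i (algebraMap V Q v) = Polynomial.C (IsLocalRing.residue V v)
  ψ_surj : ∀ i, Function.Surjective (ψ i)
  ψ_ker : ∀ i, RingHom.ker (ψ i) = Ideal.span {xs i}
  χ : Q →+* IsLocalRing.ResidueField V
  χ_eq : ∀ i a, χ a = (ψ i a).eval 0
  χ_ker : RingHom.ker χ = Ideal.span {xs 0, xs 1}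
  θ : Derivation V Q Q
  θ_xs0 : θ (xs 0) = xs 0
  θ_xs1 : θ (xs 1) = - xs 1
  span_D : Submodule.span Q {D V Q (xs 0), D V Q (xs 1)} = ⊤

section Local

variable {V : Type u} [CommRing V] [IsLocalRing V] {ϖ : V}
  {Q : Type u} [CommRing Q] [Algebra V Q] (N : NodeModel V ϖ Q) (h : Q)

theorem NodeModel.χ_xs (l : Fin 2) : N.χ (N.xs l) = 0 := by
  rw [N.χ_eq l, N.ψ_xs, if_pos rfl]
  simp

theorem NodeModel.χ_alg (v : V) : N.χ (algebraMap V Q v) = IsLocalRing.residue V v := by
  rw [N.χ_eq 0, N.ψ_alg]
  simp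

theorem NodeModel.prime_xs (i : Fin 2) : (Ideal.span {N.xs i}).IsPrime := by
  rw [← N.ψ_ker i]
  exact RingHom.ker_isPrime _

theorem NodeModel.span_xs_le (i : Fin 2) :
    Ideal.span {N.xs i} ≤ Ideal.span {N.xs 0, N.xs 1} := by
  rw [Ideal.span_singleton_le_iff_mem]
  fin_cases i
  · exact Ideal.subset_span (Set.mem_insert _ _)
  · exact Ideal.subset_span (Set.mem_insert_of_mem _ rfl)

variable (hh : h ∉ Ideal.span {N.xs 0, N.xs 1})

include hh in
theorem NodeModel.disjoint (i : Fin 2) :
    Disjoint (Submonoid.powers h : Set Q) (Ideal.span {N.xs i} : Set Q) := by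
  rw [Set.disjoint_left]
  rintro _ ⟨n, rfl⟩ hn
  exact hh (N.span_xs_le i ((N.prime_xs i).mem_of_pow_mem n hn))

/-- The element `x_i` in the localisation. -/
noncomputable def NodeModel.xb (i : Fin 2) : Localization.Away h :=
  algebraMap Q (Localization.Away h) (N.xs i)

theorem NodeModel.span_xb_eq (i : Fin 2) :
    Ideal.span {N.xb h i} =
      Ideal.map (algebraMap Q (Localization.Away h)) (Ideal.span {N.xs i}) := by
  rw [Ideal.map_span, Set.image_singleton]
  rfl

include hh in
theorem NodeModel.prime_xb (i : Fin 2) : (Ideal.span {N.xb h i}).IsPrime := by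
  rw [N.span_xb_eq]
  exact IsLocalization.isPrime_of_isPrime_disjoint (Submonoid.powers h) _ _ (N.prime_xs i)
    (N.disjoint h hh i)

include hh in
theorem NodeModel.xb_notMem (i j : Fin 2) (hij : j ≠ i) : N.xb h j ∉ Ideal.span {N.xb h i} := by
  intro hmem
  rw [N.span_xb_eq] at hmem
  have h1 : N.xs j ∈ Ideal.comap (algebraMap Q (Localization.Away h))
      (Ideal.map (algebraMap Q (Localization.Away h)) (Ideal.span {N.xs i})) := hmem
  have h2 := IsLocalization.comap_map_of_isPrime_disjoint (Submonoid.powers h)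
    (Localization.Away h) (N.prime_xs i) (N.disjoint h hh i)
  rw [Ideal.under_def] at h2
  rw [h2, ← N.ψ_ker i, RingHom.mem_ker, N.ψ_xs, if_neg hij] at h1
  exact Polynomial.X_ne_zero h1

include hh in
theorem NodeModel.isUnit_χ_h : IsUnit (N.χ h) := by
  rw [isUnit_iff_ne_zero]
  intro h0
  apply hh
  rw [← N.χ_ker]
  exact h0

/-- The closed point on the localisation. -/
noncomputable def NodeModel.χB : Localization.Away h →+* IsLocalRing.ResidueField V :=
  IsLocalization.Away.lift h (N.isUnit_χ_h h hh)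

theorem NodeModel.χB_algebraMap (q : Q) :
    N.χB h hh (algebraMap Q (Localization.Away h) q) = N.χ q :=
  IsLocalization.Away.lift_eq h (N.isUnit_χ_h h hh) q

include hh in
theorem NodeModel.span_xb_ne_top : Ideal.span {N.xb h 0, N.xb h 1} ≠ ⊤ := by
  intro htop
  have h1 : (1 : Localization.Away h) ∈ Ideal.span {N.xb h 0, N.xb h 1} := by
    rw [htop]; trivial
  have h2 : Ideal.span {N.xb h 0, N.xb h 1} ≤ RingHom.ker (N.χB h hh) := by
    rw [Ideal.span_le]
    intro a ha
    rcases ha with rfl | rfl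
    · exact (N.χB_algebraMap h hh _).trans (N.χ_xs 0)
    · exact (N.χB_algebraMap h hh _).trans (N.χ_xs 1)
  have h3 := h2 h1
  rw [RingHom.mem_ker, map_one] at h3
  exact one_ne_zero h3

theorem NodeModel.nzd_xb (i : Fin 2) (b : Localization.Away h) (hb : N.xb h i * b = 0) :
    b = 0 := by
  obtain ⟨q, s, rfl⟩ := IsLocalization.exists_mk'_eq (Submonoid.powers h) b
  unfold NodeModel.xb at hb
  rw [IsLocalization.mul_mk'_eq_mk'_of_mul] at hb
  rw [IsLocalization.mk'_eq_zero_iff] at hb ⊢
  obtain ⟨m, hm⟩ := hb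
  refine ⟨m, ?_⟩
  apply N.nzd i
  rw [← hm]
  ring


instance : Algebra.FormallyEtale Q (Localization.Away h) :=
  Algebra.FormallyEtale.of_isLocalization (Rₘ := Localization.Away h) (Submonoid.powers h)

/-- the derivation on the localisation. -/
noncomputable def NodeModel.θB : Derivation V (Localization.Away h) (Localization.Away h) :=
  (exists_derivation_extension V N.θ).choose

theorem NodeModel.θB_alg (q : Q) :
    N.θB h (algebraMap Q (Localization.Away h) q) = algebraMap Q (Localization.Away h) (N.θ q) :=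
  (exists_derivation_extension V N.θ).choose_spec q

theorem NodeModel.θB_xb0 : N.θB h (N.xb h 0) = N.xb h 0 := by
  unfold NodeModel.xb
  rw [N.θB_alg, N.θ_xs0]

theorem NodeModel.θB_xb1 : N.θB h (N.xb h 1) = - N.xb h 1 := by
  unfold NodeModel.xb
  rw [N.θB_alg, N.θ_xs1, map_neg]

theorem NodeModel.span_D_B :
    Submodule.span (Localization.Away h)
      {D V (Localization.Away h) (N.xb h 0), D V (Localization.Away h) (N.xb h 1)} = ⊤ := by
  have h1 := span_D_image_of_subsingleton V (T := Localization.Away h) ({N.xs 0, N.xs 1} : Set Q)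
    (by rw [Set.image_pair]; exact N.span_D)
  rw [Set.image_pair, Set.image_pair] at h1
  exact h1

theorem NodeModel.θB_mem (b : Localization.Away h) :
    N.θB h b ∈ Ideal.span {N.xb h 0, N.xb h 1} := by
  have h1 : ∀ ω : Ω[Localization.Away h⁄V], (N.θB h).liftKaehlerDifferential ω ∈
      Ideal.span {N.xb h 0, N.xb h 1} := by
    intro ω
    have hω : ω ∈ Submodule.span (Localization.Away h)
      {D V (Localization.Away h) (N.xb h 0), D V (Localization.Away h) (N.xb h 1)} := by
      rw [N.span_D_B]; trivial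
    induction hω using Submodule.span_induction with
    | mem ω hω =>
      rcases hω with rfl | rfl
      · rw [Derivation.liftKaehlerDifferential_comp_D, N.θB_xb0]
        exact Ideal.subset_span (Set.mem_insert _ _)
      · rw [Derivation.liftKaehlerDifferential_comp_D, N.θB_xb1]
        exact neg_mem (Ideal.subset_span (Set.mem_insert_of_mem _ rfl))
    | zero => simp
    | add a b _ _ ha hb => rw [map_add]; exact Ideal.add_mem _ ha hb
    | smul c a _ ha => rw [map_smul]; exact Ideal.mul_mem_left _ _ ha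
  have := h1 (D V _ b)
  rwa [Derivation.liftKaehlerDifferential_comp_D] at this


theorem NodeModel.xb_mul : N.xb h 0 * N.xb h 1 = algebraMap V (Localization.Away h) ϖ := by
  unfold NodeModel.xb
  rw [← map_mul, N.mul, ← IsScalarTower.algebraMap_apply]

/-- étaleness on the generic fibre forces `θ f` to be a unit there. -/
theorem NodeModel.isUnit_θB_of_etale (f : Localization.Away h)
    (hf : ((algebraMap (Localization.Away h)
        (Localization.Away (algebraMap V (Localization.Away h) ϖ))).comp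
          (Polynomial.aeval f : Polynomial V →ₐ[V] Localization.Away h).toRingHom).Etale) :
    IsUnit (algebraMap (Localization.Away h)
      (Localization.Away (algebraMap V (Localization.Away h) ϖ)) (N.θB h f)) := by
  set t : Localization.Away h := algebraMap V (Localization.Away h) ϖ with ht
  -- derivation on B'
  haveI : Algebra.FormallyEtale (Localization.Away h) (Localization.Away t) :=
    Algebra.FormallyEtale.of_isLocalization (Rₘ := Localization.Away t) (Submonoid.powers t)
  obtain ⟨θ', hθ'⟩ := exists_derivation_extension V (T := Localization.Away t) (N.θB h)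
  -- the algebra structure over V[T]
  let g : Polynomial V →+* Localization.Away t :=
    (algebraMap (Localization.Away h) (Localization.Away t)).comp
      (Polynomial.aeval f : Polynomial V →ₐ[V] Localization.Away h).toRingHom
  letI : Algebra (Polynomial V) (Localization.Away t) := g.toAlgebra
  haveI : Algebra.Etale (Polynomial V) (Localization.Away t) := hf
  haveI : IsScalarTower V (Polynomial V) (Localization.Away t) := by
    refine IsScalarTower.of_algebraMap_eq (fun v => ?_)
    change _ = g (algebraMap V (Polynomial V) v)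
    simp only [g, RingHom.comp_apply, AlgHom.toRingHom_eq_coe, RingHom.coe_coe,
      AlgHom.commutes]
    rw [← IsScalarTower.algebraMap_apply]
  have hX : algebraMap (Polynomial V) (Localization.Away t) Polynomial.X =
      algebraMap (Localization.Away h) (Localization.Away t) f := by
    change g Polynomial.X = _
    simp [g]
  -- Ω[B'/V] is generated by d f
  have hspanX : Submodule.span (Polynomial V) ((D V (Polynomial V)) '' {Polynomial.X}) = ⊤ := by
    rw [eq_top_iff, ← span_range_derivation V (Polynomial V), Submodule.span_le]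
    rintro _ ⟨p, rfl⟩
    rw [KaehlerDifferential.polynomial_D_apply]
    exact Submodule.smul_mem _ _ (Submodule.subset_span ⟨_, rfl, rfl⟩)
  have hspan := span_D_image_of_subsingleton V (T := Localization.Away t) _ hspanX
  rw [Set.image_singleton, Set.image_singleton, hX] at hspan
  -- d x₀ is a multiple of d f
  have hmem : D V (Localization.Away t)
      (algebraMap (Localization.Away h) (Localization.Away t) (N.xb h 0)) ∈
      Submodule.span (Localization.Away t)
        {D V (Localization.Away t) (algebraMap (Localization.Away h) (Localization.Away t) f)} := by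
    rw [hspan]; trivial
  obtain ⟨b, hb⟩ := Submodule.mem_span_singleton.mp hmem
  have h1 := congrArg θ'.liftKaehlerDifferential hb
  rw [map_smul, Derivation.liftKaehlerDifferential_comp_D, Derivation.liftKaehlerDifferential_comp_D,
    hθ', hθ', N.θB_xb0, smul_eq_mul] at h1
  -- x₀ is a unit in B'
  have hu0 : IsUnit (algebraMap (Localization.Away h) (Localization.Away t) (N.xb h 0)) := by
    have h2 : IsUnit (algebraMap (Localization.Away h) (Localization.Away t)
        (N.xb h 0 * N.xb h 1)) := by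
      rw [N.xb_mul]
      exact IsLocalization.Away.algebraMap_isUnit t
    rw [map_mul] at h2
    exact isUnit_of_mul_isUnit_left h2
  rw [← h1] at hu0
  exact isUnit_of_mul_isUnit_right hu0

include hh in
/-- `θ f` lies in `(x₀)` or `(x₁)`. -/
theorem NodeModel.θB_mem_or (hϖ0 : True) (f : Localization.Away h)
    (hf : ((algebraMap (Localization.Away h)
        (Localization.Away (algebraMap V (Localization.Away h) ϖ))).comp
          (Polynomial.aeval f : Polynomial V →ₐ[V] Localization.Away h).toRingHom).Etale) :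
    N.θB h f ∈ Ideal.span {N.xb h 0} ∨ N.θB h f ∈ Ideal.span {N.xb h 1} := by
  obtain ⟨v, n, hvn⟩ := exists_mul_eq_pow_of_isUnit_away
    (algebraMap V (Localization.Away h) ϖ) _ (N.θB h f) (N.isUnit_θB_of_etale h f hf)
  rw [← N.xb_mul, mul_pow] at hvn
  exact mem_span_of_mul_eq_pow (N.xb h 0) (N.xb h 1) (N.prime_xb h hh 0) (N.prime_xb h hh 1)
    (N.nzd_xb h 0) (N.nzd_xb h 1) (N.span_xb_ne_top h hh) _ (N.θB_mem h f) (n + n) n n rfl v hvn


/-- `Q → k⟦t⟧` killing `x_i`. -/
noncomputable def NodeModel.ρQ (i : Fin 2) : Q →+* PowerSeries (IsLocalRing.ResidueField V) :=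
  (Polynomial.coeToPowerSeries.ringHom).comp (N.ψ i)

theorem NodeModel.ρQ_apply (i : Fin 2) (q : Q) :
    N.ρQ i q = ((N.ψ i q : Polynomial (IsLocalRing.ResidueField V)) :
      PowerSeries (IsLocalRing.ResidueField V)) := rfl

include hh in
theorem NodeModel.isUnit_ρQ_h (i : Fin 2) : IsUnit (N.ρQ i h) := by
  rw [PowerSeries.isUnit_iff_constantCoeff, N.ρQ_apply, Polynomial.constantCoeff_coe,
    Polynomial.coeff_zero_eq_eval_zero, ← N.χ_eq]
  exact N.isUnit_χ_h h hh

/-- `B → k⟦t⟧` killing `x_i`. -/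
noncomputable def NodeModel.ρB (i : Fin 2) :
    Localization.Away h →+* PowerSeries (IsLocalRing.ResidueField V) :=
  IsLocalization.Away.lift h (N.isUnit_ρQ_h h hh i)

theorem NodeModel.ρB_alg (i : Fin 2) (q : Q) :
    N.ρB h hh i (algebraMap Q (Localization.Away h) q) = N.ρQ i q :=
  IsLocalization.Away.lift_eq h (N.isUnit_ρQ_h h hh i) q

theorem NodeModel.ρB_xb (i l : Fin 2) :
    N.ρB h hh i (N.xb h l) = if l = i then 0 else PowerSeries.X := by
  unfold NodeModel.xb
  rw [N.ρB_alg, N.ρQ_apply, N.ψ_xs]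
  split_ifs
  · exact Polynomial.coe_zero
  · exact Polynomial.coe_X

theorem NodeModel.ρB_algebraMap (i : Fin 2) (v : V) :
    N.ρB h hh i (algebraMap V (Localization.Away h) v) =
      PowerSeries.C (IsLocalRing.residue V v) := by
  rw [IsScalarTower.algebraMap_apply V Q (Localization.Away h), N.ρB_alg, N.ρQ_apply, N.ψ_alg,
    Polynomial.coe_C]

theorem NodeModel.ρB_ker (i : Fin 2) :
    RingHom.ker (N.ρB h hh i) = Ideal.span {N.xb h i} := by
  apply le_antisymm
  · intro b hb
    rw [RingHom.mem_ker] at hb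
    obtain ⟨q, s, rfl⟩ := IsLocalization.exists_mk'_eq (Submonoid.powers h) b
    have h1 : N.ρQ i q = 0 := by
      have h2 := IsLocalization.mk'_spec (Localization.Away h) q s
      have h3 := congrArg (N.ρB h hh i) h2
      rw [map_mul, hb, zero_mul, N.ρB_alg] at h3
      exact h3.symm
    rw [N.ρQ_apply, Polynomial.coe_eq_zero_iff] at h1
    have h4 : q ∈ Ideal.span {N.xs i} := by
      rw [← N.ψ_ker i]; exact h1
    rw [N.span_xb_eq, IsLocalization.mk'_mem_map_algebraMap_iff (Submonoid.powers h)]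
    exact ⟨1, Submonoid.one_mem _, by rwa [one_mul]⟩
  · rw [Ideal.span_singleton_le_iff_mem, RingHom.mem_ker, N.ρB_xb, if_pos rfl]

theorem NodeModel.χB_xb (l : Fin 2) : N.χB h hh (N.xb h l) = 0 :=
  (N.χB_algebraMap h hh _).trans (N.χ_xs l)

theorem NodeModel.χB_alg (v : V) :
    N.χB h hh (algebraMap V (Localization.Away h) v) = IsLocalRing.residue V v := by
  rw [IsScalarTower.algebraMap_apply V Q (Localization.Away h), N.χB_algebraMap, N.χ_alg]


include hh in
/-- The abstract main theorem. -/
theorem NodeModel.main (hmax : IsLocalRing.maximalIdeal V = Ideal.span {ϖ})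
    (f : Localization.Away h)
    (hf : ((algebraMap (Localization.Away h)
        (Localization.Away (algebraMap V (Localization.Away h) ϖ))).comp
          (Polynomial.aeval f : Polynomial V →ₐ[V] Localization.Away h).toRingHom).Etale) :
    (D V (Localization.Away h ⧸ Ideal.span {N.xb h 0}) (Ideal.Quotient.mk _ f) = 0 ∨
      D V (Localization.Away h ⧸ Ideal.span {N.xb h 1}) (Ideal.Quotient.mk _ f) = 0) ∧
    (CharZero (IsLocalRing.ResidueField V) →
      ¬ (Polynomial.aeval f : Polynomial V →ₐ[V] Localization.Away h).toRingHom.QuasiFinite) := by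
  have hor := N.θB_mem_or h hh trivial f hf
  have hθ0 : N.θB h (N.xb h 0) = N.xb h 0 ∨ N.θB h (N.xb h 0) = - N.xb h 0 :=
    Or.inl (N.θB_xb0 h)
  have hθ1 : N.θB h (N.xb h 1) = N.xb h 1 ∨ N.θB h (N.xb h 1) = - N.xb h 1 :=
    Or.inr (N.θB_xb1 h)
  have hspan01 := N.span_D_B h
  have hspan10 : Submodule.span (Localization.Away h)
      {D V (Localization.Away h) (N.xb h 1), D V (Localization.Away h) (N.xb h 0)} = ⊤ := by
    rw [Set.pair_comm]; exact hspan01
  have hmul0 : algebraMap V (Localization.Away h) ϖ ∈ Ideal.span {N.xb h 0} := by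
    rw [← N.xb_mul h]
    exact Ideal.mul_mem_right _ _ (Ideal.mem_span_singleton_self _)
  have hmul1 : algebraMap V (Localization.Away h) ϖ ∈ Ideal.span {N.xb h 1} := by
    rw [← N.xb_mul h]
    exact Ideal.mul_mem_left _ _ (Ideal.mem_span_singleton_self _)
  constructor
  · rcases hor with h0 | h1
    · left
      exact D_eq_zero_of_θ_mem (N.xb h 0) (N.xb h 1) (N.θB h) (N.prime_xb h hh 0)
        (N.xb_notMem h hh 0 1 (by decide)) hθ0 hθ1 hspan01 f h0
    · right
      exact D_eq_zero_of_θ_mem (N.xb h 1) (N.xb h 0) (N.θB h) (N.prime_xb h hh 1)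
        (N.xb_notMem h hh 1 0 (by decide)) hθ1 hθ0 hspan10 f h1
  · intro hchar
    rcases hor with h0 | h1
    · obtain ⟨v₀, hv₀⟩ := exists_const_of_θ_mem (N.xb h 0) (N.xb h 1) (N.θB h) hθ0 hθ1 hspan01
        (N.ρB h hh 0) (by rw [N.ρB_xb, if_pos rfl]) (by rw [N.ρB_xb, if_neg (by decide)])
        (N.ρB_algebraMap h hh 0) (N.ρB_ker h hh 0) f h0
      exact not_quasiFinite_of_const (N.xb h 0) (N.xb h 1) ϖ hmax hmul0 (N.prime_xb h hh 0)
        (N.xb_notMem h hh 0 1 (by decide)) (N.χB h hh) (N.χB_xb h hh 0) (N.χB_xb h hh 1)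
        (N.χB_alg h hh) f v₀ hv₀
    · obtain ⟨v₀, hv₀⟩ := exists_const_of_θ_mem (N.xb h 1) (N.xb h 0) (N.θB h) hθ1 hθ0 hspan10
        (N.ρB h hh 1) (by rw [N.ρB_xb, if_pos rfl]) (by rw [N.ρB_xb, if_neg (by decide)])
        (N.ρB_algebraMap h hh 1) (N.ρB_ker h hh 1) f h1
      exact not_quasiFinite_of_const (N.xb h 1) (N.xb h 0) ϖ hmax hmul1 (N.prime_xb h hh 1)
        (N.xb_notMem h hh 1 0 (by decide)) (N.χB h hh) (N.χB_xb h hh 1) (N.χB_xb h hh 0)
        (N.χB_alg h hh) f v₀ hv₀

end Local

open MvPolynomial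

section Axis

variable (R₁ : Type u) [CommRing R₁]

/-- evaluation killing `X i` and sending the other variable to `X`. -/
noncomputable def axisEval (i : Fin 2) : MvPolynomial (Fin 2) R₁ →ₐ[R₁] Polynomial R₁ :=
  MvPolynomial.aeval (fun l : Fin 2 => if l = i then (0 : Polynomial R₁) else Polynomial.X)

theorem ker_axisEval (i j : Fin 2) (hij : j ≠ i) :
    RingHom.ker (axisEval R₁ i).toRingHom = Ideal.span {(X i : MvPolynomial (Fin 2) R₁)} := by
  apply le_antisymm
  · intro a ha
    rw [RingHom.mem_ker] at ha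
    have hcomp : ((Ideal.Quotient.mkₐ R₁ (Ideal.span {(X i : MvPolynomial (Fin 2) R₁)})).comp
        ((Polynomial.aeval (X j : MvPolynomial (Fin 2) R₁)).comp (axisEval R₁ i))) =
        Ideal.Quotient.mkₐ R₁ (Ideal.span {(X i : MvPolynomial (Fin 2) R₁)}) := by
      apply MvPolynomial.algHom_ext
      intro l
      simp only [AlgHom.comp_apply, Ideal.Quotient.mkₐ_eq_mk, axisEval, aeval_X]
      by_cases hl : l = i
      · rw [if_pos hl, map_zero, map_zero, hl]
        symm
        rw [Ideal.Quotient.eq_zero_iff_mem]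
        exact Ideal.mem_span_singleton_self _
      · rw [if_neg hl, Polynomial.aeval_X, fin2_eq_of_ne hij hl]
    have h1 := AlgHom.congr_fun hcomp a
    simp only [AlgHom.comp_apply, Ideal.Quotient.mkₐ_eq_mk] at h1
    have ha' : axisEval R₁ i a = 0 := ha
    rw [ha', map_zero, map_zero] at h1
    exact Ideal.Quotient.eq_zero_iff_mem.mp h1.symm
  · rw [Ideal.span_singleton_le_iff_mem, RingHom.mem_ker]
    change axisEval R₁ i (X i) = 0
    simp [axisEval]

end Axis

/-- abstract construction of the map back `k[t] → Q'/J`. -/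
theorem exists_back (V : Type u) [CommRing V] [IsLocalRing V] (ϖ : V)
    (hmax : IsLocalRing.maximalIdeal V = Ideal.span {ϖ})
    (Q' : Type u) [CommRing Q'] [Algebra V Q'] (J : Ideal Q') (t : Q')
    (hϖJ : algebraMap V Q' ϖ ∈ J) :
    ∃ back : Polynomial (IsLocalRing.ResidueField V) →+* Q' ⧸ J,
      (∀ v : V, back (Polynomial.C (IsLocalRing.residue V v)) =
        Ideal.Quotient.mk J (algebraMap V Q' v)) ∧
      back Polynomial.X = Ideal.Quotient.mk J t := by
  let toJ : V →+* (Q' ⧸ J) := (Ideal.Quotient.mk J).comp (algebraMap V Q')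
  have hκ : ∀ v ∈ IsLocalRing.maximalIdeal V, toJ v = 0 := by
    intro v hv
    rw [hmax] at hv
    obtain ⟨w, rfl⟩ := Ideal.mem_span_singleton'.mp hv
    rw [map_mul]
    have : toJ ϖ = 0 := by
      simp only [toJ, RingHom.comp_apply]
      exact Ideal.Quotient.eq_zero_iff_mem.mpr hϖJ
    rw [this, mul_zero]
  let κ : IsLocalRing.ResidueField V →+* (Q' ⧸ J) :=
    Ideal.Quotient.lift (IsLocalRing.maximalIdeal V) toJ hκ
  have hκr : ∀ v : V, κ (IsLocalRing.residue V v) = toJ v := fun v => rfl
  refine ⟨Polynomial.eval₂RingHom κ (Ideal.Quotient.mk J t), ?_, ?_⟩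
  · intro v
    simp only [Polynomial.coe_eval₂RingHom, Polynomial.eval₂_C, hκr]
    rfl
  · simp only [Polynomial.coe_eval₂RingHom, Polynomial.eval₂_X]

section Node

variable (V : Type u) [CommRing V] (ϖ : V)

noncomputable abbrev nodeI : Ideal (MvPolynomial (Fin 2) V) :=
  Ideal.span {(X 0 * X 1 - C ϖ : MvPolynomial (Fin 2) V)}

abbrev Q : Type u := MvPolynomial (Fin 2) V ⧸ nodeI V ϖ

noncomputable def xq (i : Fin 2) : Q V ϖ := Ideal.Quotient.mk (nodeI V ϖ) (X i)

theorem xq_mul : xq V ϖ 0 * xq V ϖ 1 = algebraMap V (Q V ϖ) ϖ := by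
  unfold xq
  rw [← map_mul, ← sub_eq_zero]
  change _ - Ideal.Quotient.mk (nodeI V ϖ) (C ϖ) = 0
  rw [← map_sub, Ideal.Quotient.eq_zero_iff_mem]
  exact Ideal.mem_span_singleton_self _

theorem axisEval_rel (i : Fin 2) :
    axisEval V i (X 0 * X 1 - C ϖ) = - Polynomial.C ϖ := by
  unfold axisEval
  rw [map_sub, map_mul, aeval_X, aeval_X, aeval_C]
  fin_cases i <;> simp

/-- `x_i` is a nonzerodivisor on the node. -/
theorem xq_mul_eq_zero [IsDomain V] (hϖ : ϖ ≠ 0) (i j : Fin 2) (hij : j ≠ i) (a : Q V ϖ)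
    (ha : xq V ϖ i * a = 0) : a = 0 := by
  obtain ⟨g, rfl⟩ := Ideal.Quotient.mk_surjective a
  unfold xq at ha
  rw [← map_mul, Ideal.Quotient.eq_zero_iff_mem] at ha
  obtain ⟨r, hr⟩ := Ideal.mem_span_singleton'.mp ha
  have h1 := congrArg (axisEval V i) hr
  rw [map_mul, map_mul, axisEval_rel] at h1
  have hXi : axisEval V i (X i) = 0 := by simp [axisEval]
  rw [hXi, zero_mul] at h1
  have h2 : axisEval V i r = 0 := by
    have hC : (Polynomial.C ϖ : Polynomial V) ≠ 0 := by
      rwa [Ne, Polynomial.C_eq_zero]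
    rcases mul_eq_zero.mp h1 with h | h
    · exact h
    · exact absurd (neg_eq_zero.mp h) hC
  have h3 : r ∈ Ideal.span {(X i : MvPolynomial (Fin 2) V)} := by
    rw [← ker_axisEval V i j hij]
    exact h2
  obtain ⟨s, hs⟩ := Ideal.mem_span_singleton'.mp h3
  rw [← hs] at hr
  have hX : (X i : MvPolynomial (Fin 2) V) ≠ 0 := X_ne_zero i
  have h4 : X i * g = X i * (s * (X 0 * X 1 - C ϖ)) := by rw [← hr]; ring
  have h5 := mul_left_cancel₀ hX h4
  rw [Ideal.Quotient.eq_zero_iff_mem, h5]
  exact Ideal.mul_mem_left _ _ (Ideal.mem_span_singleton_self _)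

/-- the ideal `(x_i)` of the node. -/
noncomputable abbrev axisIdeal (i : Fin 2) : Ideal (Q V ϖ) := Ideal.span {xq V ϖ i}

variable [IsLocalRing V]

/-- The map `V[x,y] → k[t]` killing `x_i`. -/
noncomputable def psiP (i : Fin 2) :
    MvPolynomial (Fin 2) V →+* Polynomial (IsLocalRing.ResidueField V) :=
  eval₂Hom (Polynomial.C.comp (IsLocalRing.residue V))
    (fun l : Fin 2 => if l = i then (0 : Polynomial (IsLocalRing.ResidueField V)) else Polynomial.X)

variable (hmax : IsLocalRing.maximalIdeal V = Ideal.span {ϖ})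

include hmax in
theorem residue_ϖ : IsLocalRing.residue V ϖ = 0 := by
  rw [IsLocalRing.residue_eq_zero_iff, hmax]
  exact Ideal.mem_span_singleton_self _

include hmax in
theorem psiP_rel (i : Fin 2) : psiP V i (X 0 * X 1 - C ϖ) = 0 := by
  unfold psiP
  rw [map_sub, map_mul, eval₂Hom_X', eval₂Hom_X', eval₂Hom_C, RingHom.comp_apply,
    residue_ϖ V ϖ hmax, map_zero, sub_zero]
  fin_cases i <;> simp

/-- The map `Q → k[t]` killing `x_i`. -/
noncomputable def psi (i : Fin 2) : Q V ϖ →+* Polynomial (IsLocalRing.ResidueField V) :=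
  Ideal.Quotient.lift (nodeI V ϖ) (psiP V i) (by
    intro a ha
    obtain ⟨r, rfl⟩ := Ideal.mem_span_singleton'.mp ha
    rw [map_mul, psiP_rel V ϖ hmax, mul_zero])

theorem psi_mk (i : Fin 2) (g : MvPolynomial (Fin 2) V) :
    psi V ϖ hmax i (Ideal.Quotient.mk (nodeI V ϖ) g) = psiP V i g := rfl

theorem psi_xq (i l : Fin 2) :
    psi V ϖ hmax i (xq V ϖ l) = if l = i then 0 else Polynomial.X := by
  unfold xq
  rw [psi_mk]
  unfold psiP
  rw [eval₂Hom_X']

theorem psi_algebraMap (i : Fin 2) (v : V) :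
    psi V ϖ hmax i (algebraMap V (Q V ϖ) v) = Polynomial.C (IsLocalRing.residue V v) := by
  change psi V ϖ hmax i (Ideal.Quotient.mk (nodeI V ϖ) (C v)) = _
  rw [psi_mk]
  unfold psiP
  rw [eval₂Hom_C]
  rfl

theorem psi_surjective (i j : Fin 2) (hij : j ≠ i) : Function.Surjective (psi V ϖ hmax i) := by
  intro p
  induction p using Polynomial.induction_on with
  | C a =>
    obtain ⟨v, rfl⟩ := IsLocalRing.residue_surjective a
    exact ⟨algebraMap V (Q V ϖ) v, psi_algebraMap V ϖ hmax i v⟩
  | add p q hp hq =>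
    obtain ⟨a, rfl⟩ := hp
    obtain ⟨b, rfl⟩ := hq
    exact ⟨a + b, map_add _ _ _⟩
  | monomial n a h =>
    obtain ⟨b, hb⟩ := h
    refine ⟨b * xq V ϖ j, ?_⟩
    rw [map_mul, hb, psi_xq, if_neg hij, pow_succ, mul_assoc]

theorem psi_ker (i j : Fin 2) (hij : j ≠ i) :
    RingHom.ker (psi V ϖ hmax i) = Ideal.span {xq V ϖ i} := by
  apply le_antisymm
  · intro a ha
    rw [RingHom.mem_ker] at ha
    -- the map back
    have hϖJ : algebraMap V (Q V ϖ) ϖ ∈ axisIdeal V ϖ i := by
      rw [← xq_mul V ϖ]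
      fin_cases i
      · exact Ideal.mul_mem_right _ _ (Ideal.mem_span_singleton_self _)
      · exact Ideal.mul_mem_left _ _ (Ideal.mem_span_singleton_self _)
    obtain ⟨back, hbC, hbX⟩ := exists_back V ϖ hmax (Q V ϖ) (axisIdeal V ϖ i) (xq V ϖ j) hϖJ
    have hcomp : back.comp (psi V ϖ hmax i) = Ideal.Quotient.mk (axisIdeal V ϖ i) := by
      apply Ideal.Quotient.ringHom_ext
      apply MvPolynomial.ringHom_ext
      · intro v
        simp only [RingHom.comp_apply]
        have h1 : Ideal.Quotient.mk (nodeI V ϖ) (C v) = algebraMap V (Q V ϖ) v := rfl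
        rw [h1, psi_algebraMap, hbC]
      · intro l
        simp only [RingHom.comp_apply]
        have h1 : Ideal.Quotient.mk (nodeI V ϖ) (X l) = xq V ϖ l := rfl
        rw [h1, psi_xq]
        by_cases hl : l = i
        · rw [if_pos hl, map_zero, hl]
          symm
          exact Ideal.Quotient.eq_zero_iff_mem.mpr (Ideal.mem_span_singleton_self _)
        · rw [if_neg hl, fin2_eq_of_ne hij hl, hbX]
    have h1 := RingHom.congr_fun hcomp a
    rw [RingHom.comp_apply, ha, map_zero] at h1
    exact Ideal.Quotient.eq_zero_iff_mem.mp h1.symm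
  · rw [Ideal.span_singleton_le_iff_mem, RingHom.mem_ker, psi_xq, if_pos rfl]

/-- The closed point `x = y = 0` of the closed fibre. -/
noncomputable def chi : Q V ϖ →+* IsLocalRing.ResidueField V :=
  (Polynomial.evalRingHom 0).comp (psi V ϖ hmax 0)

theorem chi_xq (l : Fin 2) : chi V ϖ hmax (xq V ϖ l) = 0 := by
  unfold chi
  rw [RingHom.comp_apply, psi_xq]
  fin_cases l <;> simp

theorem chi_algebraMap (v : V) :
    chi V ϖ hmax (algebraMap V (Q V ϖ) v) = IsLocalRing.residue V v := by
  unfold chi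
  rw [RingHom.comp_apply, psi_algebraMap]
  simp

theorem chi_ker : RingHom.ker (chi V ϖ hmax) = Ideal.span {xq V ϖ 0, xq V ϖ 1} := by
  apply le_antisymm
  · intro a ha
    rw [RingHom.mem_ker] at ha
    unfold chi at ha
    rw [RingHom.comp_apply, Polynomial.coe_evalRingHom, ← Polynomial.coeff_zero_eq_eval_zero,
      ← Polynomial.X_dvd_iff] at ha
    obtain ⟨g, hg⟩ := ha
    obtain ⟨g', rfl⟩ := psi_surjective V ϖ hmax 0 1 (by decide) g
    have h1 : a - xq V ϖ 1 * g' ∈ RingHom.ker (psi V ϖ hmax 0) := by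
      rw [RingHom.mem_ker, map_sub, map_mul, hg, psi_xq, if_neg (by decide), sub_self]
    rw [psi_ker V ϖ hmax 0 1 (by decide)] at h1
    obtain ⟨s, hs⟩ := Ideal.mem_span_singleton'.mp h1
    rw [Ideal.mem_span_pair]
    exact ⟨s, g', by rw [hs]; ring⟩
  · rw [Ideal.span_le]
    intro a ha
    rcases ha with rfl | rfl
    · exact chi_xq V ϖ hmax 0
    · exact chi_xq V ϖ hmax 1

/-- the derivation `x ∂x - y ∂y` on the polynomial ring. -/
noncomputable def thetaP : Derivation V (MvPolynomial (Fin 2) V) (MvPolynomial (Fin 2) V) :=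
  MvPolynomial.mkDerivation V
    (fun l : Fin 2 => if l = 0 then (X 0 : MvPolynomial (Fin 2) V) else - X 1)

theorem thetaP_X0 : thetaP V (X 0) = X 0 := by
  unfold thetaP
  rw [mkDerivation_X, if_pos rfl]

theorem thetaP_X1 : thetaP V (X 1) = - X 1 := by
  unfold thetaP
  rw [mkDerivation_X, if_neg (by decide)]

theorem thetaP_rel : thetaP V (X 0 * X 1 - C ϖ) = 0 := by
  rw [map_sub, Derivation.leibniz, thetaP_X0, thetaP_X1]
  have : thetaP V (C ϖ) = 0 := by
    have h1 : (C ϖ : MvPolynomial (Fin 2) V) = algebraMap V _ ϖ := rfl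
    rw [h1, Derivation.map_algebraMap]
  rw [this, smul_eq_mul, smul_eq_mul]
  ring

/-- the derivation on the node. -/
noncomputable def thetaQ : Derivation V (Q V ϖ) (Q V ϖ) :=
  Derivation.liftOfSurjective (f := Ideal.Quotient.mkₐ V (nodeI V ϖ))
    (Ideal.Quotient.mkₐ_surjective V _) (d := thetaP V) (by
      intro b hb
      rw [Ideal.Quotient.mkₐ_eq_mk, Ideal.Quotient.eq_zero_iff_mem] at hb ⊢
      obtain ⟨c, rfl⟩ := Ideal.mem_span_singleton'.mp hb
      rw [Derivation.leibniz, thetaP_rel, smul_zero, zero_add, smul_eq_mul]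
      exact Ideal.mul_mem_right _ _ (Ideal.mem_span_singleton_self _))

theorem thetaQ_mk (g : MvPolynomial (Fin 2) V) :
    thetaQ V ϖ (Ideal.Quotient.mk _ g) = Ideal.Quotient.mk _ (thetaP V g) := by
  unfold thetaQ
  exact Derivation.liftOfSurjective_apply (f := Ideal.Quotient.mkₐ V (nodeI V ϖ))
    (Ideal.Quotient.mkₐ_surjective V _) _ g

theorem thetaQ_xq0 : thetaQ V ϖ (xq V ϖ 0) = xq V ϖ 0 := by
  unfold xq
  rw [thetaQ_mk, thetaP_X0]

theorem thetaQ_xq1 : thetaQ V ϖ (xq V ϖ 1) = - xq V ϖ 1 := by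
  unfold xq
  rw [thetaQ_mk, thetaP_X1, map_neg]

theorem span_D_Q :
    Submodule.span (Q V ϖ) {D V (Q V ϖ) (xq V ϖ 0), D V (Q V ϖ) (xq V ϖ 1)} = ⊤ := by
  have hadj : Algebra.adjoin V ({xq V ϖ 0, xq V ϖ 1} : Set (Q V ϖ)) = ⊤ := by
    have h1 : ({xq V ϖ 0, xq V ϖ 1} : Set (Q V ϖ)) =
        (Ideal.Quotient.mkₐ V (nodeI V ϖ)) '' (Set.range (X : Fin 2 → MvPolynomial (Fin 2) V)) := by
      ext a
      simp only [Set.mem_insert_iff, Set.mem_singleton_iff, Set.mem_image, Set.mem_range,
        exists_exists_eq_and, Ideal.Quotient.mkₐ_eq_mk]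
      constructor
      · rintro (rfl | rfl)
        · exact ⟨0, rfl⟩
        · exact ⟨1, rfl⟩
      · rintro ⟨l, rfl⟩
        fin_cases l
        · exact Or.inl rfl
        · exact Or.inr rfl
    rw [h1, ← AlgHom.map_adjoin, MvPolynomial.adjoin_range_X, Algebra.map_top,
      AlgHom.range_eq_top]
    exact Ideal.Quotient.mkₐ_surjective V _
  have := span_D_of_adjoin_eq_top V _ hadj
  rwa [Set.image_pair] at this


theorem chi_eq (i : Fin 2) (a : Q V ϖ) :
    chi V ϖ hmax a = (psi V ϖ hmax i a).eval 0 := by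
  have h1 : (Polynomial.evalRingHom 0).comp (psi V ϖ hmax i) = chi V ϖ hmax := by
    unfold chi
    apply Ideal.Quotient.ringHom_ext
    apply MvPolynomial.ringHom_ext
    · intro v
      have h1 : Ideal.Quotient.mk (nodeI V ϖ) (C v) = algebraMap V (Q V ϖ) v := rfl
      simp only [RingHom.comp_apply, h1, psi_algebraMap]
    · intro l
      have h1 : Ideal.Quotient.mk (nodeI V ϖ) (X l) = xq V ϖ l := rfl
      simp only [RingHom.comp_apply, h1, psi_xq]
      split_ifs <;> simp
  rw [← h1]
  rfl

/-- The concrete node model. -/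
noncomputable def nodeModel [IsDomain V] (hϖ : ϖ ≠ 0) : NodeModel V ϖ (Q V ϖ) where
  xs := xq V ϖ
  mul := xq_mul V ϖ
  nzd := fun i a ha => by
    have hj : ∃ j : Fin 2, j ≠ i := by
      fin_cases i
      · exact ⟨1, by decide⟩
      · exact ⟨0, by decide⟩
    obtain ⟨j, hj⟩ := hj
    exact xq_mul_eq_zero V ϖ hϖ i j hj a ha
  ψ := psi V ϖ hmax
  ψ_xs := psi_xq V ϖ hmax
  ψ_alg := psi_algebraMap V ϖ hmax
  ψ_surj := fun i => by
    have hj : ∃ j : Fin 2, j ≠ i := by
      fin_cases i
      · exact ⟨1, by decide⟩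
      · exact ⟨0, by decide⟩
    obtain ⟨j, hj⟩ := hj
    exact psi_surjective V ϖ hmax i j hj
  ψ_ker := fun i => by
    have hj : ∃ j : Fin 2, j ≠ i := by
      fin_cases i
      · exact ⟨1, by decide⟩
      · exact ⟨0, by decide⟩
    obtain ⟨j, hj⟩ := hj
    exact psi_ker V ϖ hmax i j hj
  χ := chi V ϖ hmax
  χ_eq := chi_eq V ϖ hmax
  χ_ker := chi_ker V ϖ hmax
  θ := thetaQ V ϖ
  θ_xs0 := thetaQ_xq0 V ϖ
  θ_xs1 := thetaQ_xq1 V ϖ
  span_D := span_D_Q V ϖ

end Node

end Groth.Agent.Lib.SemistableNode
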