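import Mathlib
import Groth.Agent.Lib.HochschildH44
import Groth.Agent.Lib.SemistableNode

/-!
# Seidenberg's theorem: derivations preserve the integral closure in characteristic zero (helper26)

`k` a field of characteristic zero, `A` a Noetherian `k`-algebra, `K` a localization of `A` at a
submonoid of non-zero-divisors (e.g. the total ring of fractions), `D` a `k`-derivation of `K`
mapping `A` into `A`. Then `D` maps the integral closure of `A` in `K` into itself.

The proof uses the ring homomorphism `exp(tD) : K → K⟦t⟧`.
-/

set_option autoImplicit false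

open Finset PowerSeries

namespace Groth.Agent.Lib.H26Seidenberg

section Exp

variable {k : Type*} [Field k] [CharZero k] {K : Type*} [CommRing K] [Algebra k K]
  (D : Derivation k K K)

variable (k K) in
/-- `1/n!` in `K`. -/
noncomputable def cf (n : ℕ) : K := algebraMap k K ((n.factorial : k)⁻¹)

omit [CharZero k] in
lemma cf_zero : cf k K 0 = 1 := by simp [cf]

omit [CharZero k] in
lemma cf_one : cf k K 1 = 1 := by simp [cf]

lemma cf_mul_choose (i j : ℕ) :
    cf k K (i + j) * ((i + j).choose i : K) = cf k K i * cf k K j := by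
  unfold cf
  rw [← map_natCast (algebraMap k K), ← map_mul, ← map_mul]
  congr 1
  have h : ((i + j).choose i : k) * (i.factorial : k) * (j.factorial : k) = ((i + j).factorial : k) := by
    have h0 := Nat.add_choose_mul_factorial_mul_factorial i j
    rw [← Nat.choose_symm_add] at h0
    exact_mod_cast congrArg (Nat.cast (R := k)) h0
  have hi : (i.factorial : k) ≠ 0 := Nat.cast_ne_zero.mpr (Nat.factorial_ne_zero i)
  have hj : (j.factorial : k) ≠ 0 := Nat.cast_ne_zero.mpr (Nat.factorial_ne_zero j)
  have hij : ((i + j).factorial : k) ≠ 0 := Nat.cast_ne_zero.mpr (Nat.factorial_ne_zero _)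
  field_simp
  rw [← h]

/-- the additive map underlying `D`. -/
noncomputable def dAdd : K →+ K := D.toLinearMap.toAddMonoidHom

lemma dAdd_apply (a : K) : dAdd D a = D a := rfl

lemma dAdd_mul (a b : K) : dAdd D (a * b) = dAdd D a * b + a * dAdd D b := by
  simp only [dAdd_apply, Derivation.leibniz, smul_eq_mul]
  ring

/-- `exp(tD)` as a ring homomorphism `K → K⟦t⟧`. -/
noncomputable def expD : K →+* PowerSeries K where
  toFun a := PowerSeries.mk fun n => cf k K n * (dAdd D)^[n] a
  map_one' := by
    ext n
    rw [coeff_mk, coeff_one]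
    rcases n with _ | n
    · simp [cf_zero]
    · rw [Function.iterate_succ_apply, HochschildH44.map_one_eq_zero (dAdd D) (dAdd_mul D)]
      simp
  map_mul' a b := by
    ext n
    rw [coeff_mk, coeff_mul, HochschildH44.iterate_mul (dAdd D) (dAdd_mul D), mul_sum]
    refine sum_congr rfl fun ij hij => ?_
    have hn : ij.1 + ij.2 = n := mem_antidiagonal.mp hij
    rw [coeff_mk, coeff_mk, nsmul_eq_mul, ← hn, ← mul_assoc, cf_mul_choose]
    ring
  map_zero' := by
    ext n
    simp
  map_add' a b := by
    ext n
    simp [mul_add]

lemma coeff_expD (n : ℕ) (a : K) : coeff n (expD D a) = cf k K n * (dAdd D)^[n] a := by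
  simp [expD]

/-- power series all of whose coefficients lie in a subring. -/
def coeffSubring (R : Subring K) : Subring (PowerSeries K) where
  carrier := {f | ∀ n, coeff n f ∈ R}
  mul_mem' := by
    intro f g hf hg n
    rw [coeff_mul]
    exact R.sum_mem fun ij _ => R.mul_mem (hf _) (hg _)
  one_mem' := by
    intro n
    rw [coeff_one]
    split_ifs
    · exact R.one_mem
    · exact R.zero_mem
  add_mem' := by
    intro f g hf hg n
    rw [map_add]
    exact R.add_mem (hf n) (hg n)
  zero_mem' := by
    intro n
    rw [map_zero]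
    exact R.zero_mem
  neg_mem' := by
    intro f hf n
    rw [map_neg]
    exact R.neg_mem (hf n)

omit [Algebra k K] in
lemma mem_coeffSubring {R : Subring K} {f : PowerSeries K} :
    f ∈ coeffSubring R ↔ ∀ n, coeff n f ∈ R := Iff.rfl

omit [Algebra k K] in
lemma C_mem_coeffSubring {R : Subring K} {a : K} (ha : a ∈ R) : C a ∈ coeffSubring R := by
  intro n
  rw [coeff_C]
  split_ifs
  · exact ha
  · exact R.zero_mem

variable (R : Subring K) (hk : ∀ c : k, algebraMap k K c ∈ R) (hD : ∀ a ∈ R, D a ∈ R)

include hD in
lemma iterate_mem (n : ℕ) {a : K} (ha : a ∈ R) : (dAdd D)^[n] a ∈ R := by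
  induction n with
  | zero => exact ha
  | succ n ih =>
    rw [Function.iterate_succ_apply']
    exact hD _ ih

include hk hD in
lemma expD_mem {a : K} (ha : a ∈ R) : expD D a ∈ coeffSubring R := by
  intro n
  rw [coeff_expD]
  exact R.mul_mem (hk _) (iterate_mem D R hD n ha)

include hk hD in
/-- the key step: if `d xⁿ ∈ R` for all `n`, then `d² (D x)ⁿ ∈ R` for all `n`. -/
theorem sq_mul_pow_mem {d x : K} (hd : d ∈ R) (hx : ∀ n, d * x ^ n ∈ R) (n : ℕ) :
    d ^ 2 * (D x) ^ n ∈ R := by
  set y := expD D x with hy
  set z : PowerSeries K := PowerSeries.mk fun p => coeff (p + 1) y with hz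
  have hyz : y - C x = X * z := by
    have h1 := PowerSeries.eq_X_mul_shift_add_const y
    have h2 : constantCoeff y = x := by
      rw [← coeff_zero_eq_constantCoeff_apply, hy, coeff_expD, cf_zero]
      simp
    rw [h2] at h1
    rw [hz]
    nth_rw 1 [h1]
    ring
  have hT : C d * expD D d * (y - C x) ^ n ∈ coeffSubring R := by
    rw [sub_eq_add_neg, add_pow, mul_sum]
    refine Subring.sum_mem _ fun m _ => ?_
    have e1 : C d * expD D d * (y ^ m * (-C x) ^ (n - m) * ((n.choose m : ℕ) : PowerSeries K)) =
        expD D (d * x ^ m) * C ((-1) ^ (n - m) * (d * x ^ (n - m))) *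
          ((n.choose m : ℕ) : PowerSeries K) := by
      rw [map_mul, map_pow, map_mul, map_mul, map_pow, map_pow, map_neg, map_one, neg_pow (C x)]
      ring
    rw [e1]
    refine Subring.mul_mem _ (Subring.mul_mem _ (expD_mem D R hk hD (hx m)) ?_) (natCast_mem _ _)
    refine C_mem_coeffSubring (R.mul_mem ?_ (hx _))
    exact R.pow_mem (R.neg_mem R.one_mem) _
  have h3 := hT n
  rw [hyz, mul_pow, ← mul_assoc, mul_comm _ (X ^ n), mul_assoc (X ^ n), coeff_X_pow_mul',
    if_pos le_rfl, Nat.sub_self, coeff_zero_eq_constantCoeff_apply, map_mul, map_mul, map_pow,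
    constantCoeff_C] at h3
  have h4 : constantCoeff (expD D d) = d := by
    rw [← coeff_zero_eq_constantCoeff_apply, coeff_expD, cf_zero]
    simp
  have h5 : constantCoeff z = D x := by
    rw [← coeff_zero_eq_constantCoeff_apply, hz, coeff_mk, hy, coeff_expD, cf_one]
    simp [dAdd_apply]
  rw [h4, h5] at h3
  rw [pow_two]
  exact h3

end Exp

section Integral

variable {A : Type*} [CommRing A] {K : Type*} [CommRing K] [Algebra A K]
  (M : Submonoid A) [IsLocalization M K]

include M in
/-- an integral element has a common denominator for all its powers. -/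
lemma exists_denominator {x : K} (hx : IsIntegral A x) :
    ∃ d ∈ M, ∀ n, algebraMap A K d * x ^ n ∈ (algebraMap A K).range := by
  classical
  obtain ⟨s, hs⟩ := hx.fg_adjoin_singleton
  obtain ⟨b, hb⟩ := IsLocalization.exist_integer_multiples_of_finset M s
  refine ⟨b, b.2, fun n => ?_⟩
  have hmem : x ^ n ∈ Submodule.span A (s : Set K) := by
    rw [hs]
    exact (Algebra.adjoin A {x}).pow_mem (Algebra.subset_adjoin (Set.mem_singleton x)) n
  have key : ∀ v ∈ Submodule.span A (s : Set K),
      algebraMap A K b * v ∈ (algebraMap A K).range := by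
    intro v hv
    induction hv using Submodule.span_induction with
    | mem v hv =>
      obtain ⟨a, ha⟩ := hb v hv
      exact ⟨a, by rw [ha, Algebra.smul_def]⟩
    | zero => simp
    | add u v _ _ hu hv =>
      rw [mul_add]
      exact Subring.add_mem _ hu hv
    | smul a v _ hv =>
      rw [Algebra.smul_def, mul_left_comm]
      exact Subring.mul_mem _ ⟨a, rfl⟩ hv
  exact key _ hmem

include M in
/-- an element all of whose powers have a common denominator is integral (Noetherian case). -/
lemma isIntegral_of_denominator [IsNoetherianRing A] {w : K} {d : A} (hd : d ∈ M)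
    (hw : ∀ n, algebraMap A K d * w ^ n ∈ (algebraMap A K).range) : IsIntegral A w := by
  obtain ⟨u, hu⟩ := (IsLocalization.map_units K (⟨d, hd⟩ : M))
  have hu' : (u : K) = algebraMap A K d := hu
  -- the cyclic submodule `(1/d) A`
  let N : Submodule A K := Submodule.span A {((u⁻¹ : Kˣ) : K)}
  have hNfg : N.FG := Submodule.fg_span_singleton _
  haveI : IsNoetherian A N := isNoetherian_of_fg_of_noetherian N hNfg
  have hle : Subalgebra.toSubmodule (Algebra.adjoin A {w}) ≤ N := by
    intro v hv
    rw [Subalgebra.mem_toSubmodule, Algebra.adjoin_singleton_eq_range_aeval] at hv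
    obtain ⟨p, rfl⟩ := hv
    have h1 : algebraMap A K d * (Polynomial.aeval w p) ∈ (algebraMap A K).range := by
      rw [Polynomial.aeval_eq_sum_range, mul_sum]
      refine Subring.sum_mem _ fun i _ => ?_
      rw [Algebra.smul_def, mul_left_comm]
      exact Subring.mul_mem _ ⟨_, rfl⟩ (hw i)
    obtain ⟨a, ha⟩ := h1
    rw [Submodule.mem_span_singleton]
    refine ⟨a, ?_⟩
    rw [Algebra.smul_def, ha, ← hu', mul_comm, ← mul_assoc, Units.inv_mul, one_mul]
    rfl
  have hfg : (Subalgebra.toSubmodule (Algebra.adjoin A {w})).FG :=
    isNoetherian_submodule.mp this _ hle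
  exact IsIntegral.of_mem_of_fg _ hfg w (Algebra.subset_adjoin (Set.mem_singleton w))

end Integral

section Main

variable {k : Type*} [Field k] [CharZero k] {A : Type*} [CommRing A] [Algebra k A]
  [IsNoetherianRing A] {K : Type*} [CommRing K] [Algebra A K] [Algebra k K] [IsScalarTower k A K]
  (M : Submonoid A) [IsLocalization M K]

include M in
/-- **Seidenberg**: a `k`-derivation of a localization `K` of `A` preserving `A` preserves the
integral closure of `A` in `K` (characteristic zero, `A` Noetherian). -/
theorem isIntegral_derivation (D : Derivation k K K)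
    (hD : ∀ a : A, D (algebraMap A K a) ∈ (algebraMap A K).range)
    {x : K} (hx : IsIntegral A x) : IsIntegral A (D x) := by
  obtain ⟨d, hdM, hd⟩ := exists_denominator M hx
  have hk : ∀ c : k, algebraMap k K c ∈ (algebraMap A K).range := by
    intro c
    exact ⟨algebraMap k A c, (IsScalarTower.algebraMap_apply k A K c).symm⟩
  have hD' : ∀ a ∈ (algebraMap A K).range, D a ∈ (algebraMap A K).range := by
    rintro _ ⟨a, rfl⟩
    exact hD a
  refine isIntegral_of_denominator M (M.pow_mem hdM 2) fun n => ?_
  rw [map_pow]
  exact sq_mul_pow_mem D _ hk hD' ⟨d, rfl⟩ hd n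

end Main

section Fraction

universe u

/-- **Seidenberg's theorem** for the total ring of fractions. -/
theorem exists_derivation_integralClosure (k : Type u) [Field k] [CharZero k] (A : Type u)
    [CommRing A] [Algebra k A] [IsNoetherianRing A] (D : Derivation k A A) :
    ∃ D' : Derivation k ↥(integralClosure A (FractionRing A))
        ↥(integralClosure A (FractionRing A)),
      ∀ a : A, (D' (algebraMap A ↥(integralClosure A (FractionRing A)) a) : FractionRing A) =
        algebraMap A (FractionRing A) (D a) := by
  haveI : Algebra.FormallyEtale A (FractionRing A) :=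
    Algebra.FormallyEtale.of_isLocalization (nonZeroDivisors A)
  obtain ⟨DK, hDK⟩ := SemistableNode.exists_derivation_extension k (S := A)
    (T := FractionRing A) D
  have hpres : ∀ x : FractionRing A, IsIntegral A x → IsIntegral A (DK x) := fun x hx =>
    isIntegral_derivation (nonZeroDivisors A) DK (fun a => ⟨D a, (hDK a).symm⟩) hx
  let L : ↥(integralClosure A (FractionRing A)) →ₗ[k] ↥(integralClosure A (FractionRing A)) :=
    { toFun := fun x => ⟨DK x, hpres x x.2⟩
      map_add' := fun x y => Subtype.ext (by simp)
      map_smul' := fun c x => Subtype.ext (by simp) }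
  refine ⟨Derivation.mk' L ?_, ?_⟩
  · intro a b
    apply Subtype.ext
    change DK ((a : FractionRing A) * b) = _
    rw [Derivation.leibniz]
    rfl
  · intro a
    change DK (algebraMap A (FractionRing A) a) = _
    exact hDK a

end Fraction

end Groth.Agent.Lib.H26Seidenberg
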