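import Mathlib.Tactic
import Groth.Agent.Lib.H29LocalDuality
import Groth.Agent.Lib.TorNat

/-!
# Tor–Ext duality (helper26)

`R` Noetherian, `E` an injective module, `K` any module, `M` a finite module.  Then
`Tor_i(Hom(K, E), M) ≃ Hom(Ext^i(M, K), E)` (`torExtDual`).

Built on helper29's Watts machinery (`H29Watts`, `H29TopLC.dualHom`, `H29LocalDuality.dualExtStep`)
and helper35's Tor long exact sequence in the second variable (`TorNat.exists_δ_right`).
-/

set_option autoImplicit false
set_option maxHeartbeats 400000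
universe u

open CategoryTheory MonoidalCategory Abelian Limits

namespace Groth.Agent.Lib.H26TorExtDual

open Groth.Agent.Lib.H29Watts Groth.Agent.Lib.H29TopLC Groth.Agent.Lib.H29LocalDuality
  Groth.Agent.Lib.LocCohLES

variable {R : Type u} [CommRing R]

section TensorLeft

variable (D : ModuleCat.{u} R)

theorem tensorLeft_map_hom {M N : ModuleCat.{u} R} (f : M ⟶ N) :
    ((tensorLeft D).map f).hom = LinearMap.lTensor D f.hom := rfl

theorem isRightExactLinear_tensorLeft : IsRightExactLinear (tensorLeft D) where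
  map_add := by
    intro M N f g
    apply ModuleCat.hom_ext
    rw [tensorLeft_map_hom, ModuleCat.hom_add, ModuleCat.hom_add, tensorLeft_map_hom,
      tensorLeft_map_hom, LinearMap.lTensor_add]
  map_smul := by
    intro M N r f
    apply ModuleCat.hom_ext
    rw [tensorLeft_map_hom, ModuleCat.hom_smul, ModuleCat.hom_smul, tensorLeft_map_hom,
      LinearMap.lTensor_smul]
  exact := by
    intro M₁ M₂ M₃ f g hf hfg hg
    rw [tensorLeft_map_hom, tensorLeft_map_hom]
    exact ⟨lTensor_exact D hfg hg, LinearMap.lTensor_surjective D hg⟩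

end TensorLeft

section TorZero

variable [IsNoetherianRing R] (K E : Type u) [AddCommGroup K] [Module R K]
  [AddCommGroup E] [Module R E] (hE : Module.Injective R E)

/-- `D = Hom(K, E)` as an object of `ModuleCat`. -/
abbrev DK : ModuleCat.{u} R := ModuleCat.of R (K →ₗ[R] E)

/-- comparison on `R`: `D ⊗ R ≃ Hom(Hom(R, K), E)`. -/
noncomputable def ringEquiv' :
    (tensorLeft (DK (R := R) K E)).obj (ModuleCat.of R R) ≃ₗ[R]
      (dualHom K E).obj (ModuleCat.of R R) :=
  (TensorProduct.rid R (K →ₗ[R] E)) ≪≫ₗ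
    (LinearEquiv.congrLeft E R (LinearMap.ringLmapEquivSelf R R K)).symm

/-- `Tor_0(D, N) ≃ D ⊗ N`. -/
noncomputable def t0 (N : ModuleCat.{u} R) :
    ((Tor (ModuleCat.{u} R) 0).obj (DK (R := R) K E)).obj N ≃ₗ[R]
      (tensorLeft (DK (R := R) K E)).obj N :=
  ((Groth.Agent.Lib.TorNat.torZeroNatIso (DK (R := R) K E)).app N).toLinearEquiv

theorem t0_natural {N L : ModuleCat.{u} R} (f : N ⟶ L)
    (x : ((Tor (ModuleCat.{u} R) 0).obj (DK (R := R) K E)).obj N) :
    t0 K E L ((((Tor (ModuleCat.{u} R) 0).obj (DK (R := R) K E)).map f).hom x) =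
      ((tensorLeft (DK (R := R) K E)).map f).hom (t0 K E N x) := by
  have h := (Groth.Agent.Lib.TorNat.torZeroNatIso (DK (R := R) K E)).hom.naturality f
  exact congrArg (fun φ => φ.hom x) h

/-- `Tor_0(Hom(K,E), N) ≃ Hom(Hom(N, K), E)` for finite `N`. -/
noncomputable def τ (N : ModuleCat.{u} R) [Module.Finite R N] :
    ((Tor (ModuleCat.{u} R) 0).obj (DK (R := R) K E)).obj N ≃ₗ[R] (dualHom K E).obj N :=
  t0 K E N ≪≫ₗ compEquiv (tensorLeft (DK (R := R) K E)) (isRightExactLinear_tensorLeft _)
    (dualHom K E) (isRightExactLinear_dualHom hE) (ringEquiv' K E) N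

theorem τ_natural {N L : ModuleCat.{u} R} [Module.Finite R N] [Module.Finite R L] (f : N ⟶ L)
    (x : ((Tor (ModuleCat.{u} R) 0).obj (DK (R := R) K E)).obj N) :
    τ K E hE L ((((Tor (ModuleCat.{u} R) 0).obj (DK (R := R) K E)).map f).hom x) =
      ((dualHom K E).map f).hom (τ K E hE N x) := by
  simp only [τ, LinearEquiv.trans_apply]
  rw [t0_natural]
  exact compEquiv_natural _ _ _ _ _ f _

/-- The kernel of `Tor_0(D, N) → Tor_0(D, L)` is the kernel of the double dual map. -/
noncomputable def kerTorEquiv {N L : Type u} [AddCommGroup N] [Module R N] [Module.Finite R N]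
    [AddCommGroup L] [Module R L] [Module.Finite R L] (f : N →ₗ[R] L) :
    LinearMap.ker (((Tor (ModuleCat.{u} R) 0).obj (DK (R := R) K E)).map
      (ModuleCat.ofHom f)).hom ≃ₗ[R]
      LinearMap.ker (LinearMap.lcomp R E (LinearMap.lcomp R K f)) :=
  kerEquivOfComm (τ K E hE (ModuleCat.of R N)) (τ K E hE (ModuleCat.of R L))
    (((Tor (ModuleCat.{u} R) 0).obj (DK (R := R) K E)).map (ModuleCat.ofHom f)).hom
    (LinearMap.lcomp R E (LinearMap.lcomp R K f))
    (fun y => τ_natural K E hE (ModuleCat.ofHom f) y)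

end TorZero

section Steps

variable [IsNoetherianRing R] (K E : Type u) [AddCommGroup K] [Module R K]
  [AddCommGroup E] [Module R E] (hE : Module.Injective R E)
  {N L M : Type u} [AddCommGroup N] [Module R N] [AddCommGroup L] [Module R L]
  [AddCommGroup M] [Module R M] (f : N →ₗ[R] L) (g : L →ₗ[R] M)
  (hf : Function.Injective f) (hfg : Function.Exact f g) (hg : Function.Surjective g)

theorem isZero_tor_succ_projective [Module.Projective R L] (X : ModuleCat.{u} R) (i : ℕ) :
    IsZero (((Tor (ModuleCat.{u} R) (i + 1)).obj X).obj (ModuleCat.of R L)) := by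
  haveI : Module.Flat R (ModuleCat.of R L) := inferInstanceAs (Module.Flat R L)
  exact Groth.Agent.Lib.TorLES.isZero_tor_succ_of_flat_right (ModuleCat.of R L) i X

include hf hfg hg in
/-- `Tor_{i+2}(X, M) ≃ Tor_{i+1}(X, N)` along a presentation. -/
theorem tor_step_succ [Module.Projective R L] (X : ModuleCat.{u} R) (i : ℕ) :
    Nonempty (((Tor (ModuleCat.{u} R) (i + 1 + 1)).obj X).obj (ModuleCat.of R M) ≃ₗ[R]
      ((Tor (ModuleCat.{u} R) (i + 1)).obj X).obj (ModuleCat.of R N)) := by
  have hT := ses_shortExact f g hf hfg hg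
  obtain ⟨δ, w₁, w₂, hex₃, hex₁⟩ := Groth.Agent.Lib.TorNat.exists_δ_right hT X (i + 1)
  have hz1 : IsZero (((Tor (ModuleCat.{u} R) (i + 1 + 1)).obj X).obj (ModuleCat.of R L)) :=
    isZero_tor_succ_projective X (i + 1)
  have hz2 : IsZero (((Tor (ModuleCat.{u} R) (i + 1)).obj X).obj (ModuleCat.of R L)) :=
    isZero_tor_succ_projective X i
  have hmono : Mono δ := hex₃.mono_g (hz1.eq_of_src _ _)
  have hepi : Epi δ := hex₁.epi_f (hz2.eq_of_tgt _ _)
  haveI : IsIso δ := isIso_of_mono_of_epi δ
  exact ⟨(asIso δ).toLinearEquiv⟩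

include hf hfg hg in
/-- `Tor_1(X, M) ≃ ker(Tor_0(X, N) → Tor_0(X, L))` along a presentation. -/
theorem tor_step_one [Module.Projective R L] (X : ModuleCat.{u} R) :
    Nonempty (((Tor (ModuleCat.{u} R) (0 + 1)).obj X).obj (ModuleCat.of R M) ≃ₗ[R]
      LinearMap.ker (((Tor (ModuleCat.{u} R) 0).obj X).map (ModuleCat.ofHom f)).hom) := by
  have hT := ses_shortExact f g hf hfg hg
  obtain ⟨δ, w₁, w₂, hex₃, hex₁⟩ := Groth.Agent.Lib.TorNat.exists_δ_right hT X 0
  have hz1 : IsZero (((Tor (ModuleCat.{u} R) (0 + 1)).obj X).obj (ModuleCat.of R L)) :=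
    isZero_tor_succ_projective X 0
  have hmono : Mono δ := hex₃.mono_g (hz1.eq_of_src _ _)
  have hinj : Function.Injective δ.hom := (ModuleCat.mono_iff_injective δ).mp hmono
  have hex : Function.Exact δ.hom
      (((Tor (ModuleCat.{u} R) 0).obj X).map (ModuleCat.ofHom f)).hom :=
    (ShortComplex.ShortExact.moduleCat_exact_iff_function_exact _).mp hex₁
  have hrange : LinearMap.range δ.hom =
      LinearMap.ker (((Tor (ModuleCat.{u} R) 0).obj X).map (ModuleCat.ofHom f)).hom :=
    (LinearMap.exact_iff.mp hex).symm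
  exact ⟨LinearEquiv.ofInjective _ hinj ≪≫ₗ LinearEquiv.ofEq _ _ hrange⟩

end Steps

section Main

variable [IsNoetherianRing R] (K E : Type u) [AddCommGroup K] [Module R K]
  [AddCommGroup E] [Module R E] (hE : Module.Injective R E)

include hE in
/-- **Tor–Ext duality**: `Tor_i(Hom(K, E), M) ≃ Hom(Ext^i(M, K), E)` for finite `M` over a
Noetherian ring and injective `E`. -/
theorem torExtDual : ∀ (i : ℕ) (M : Type u) [AddCommGroup M] [Module R M] [Module.Finite R M],
    Nonempty (((Tor (ModuleCat.{u} R) i).obj (DK (R := R) K E)).obj (ModuleCat.of R M) ≃ₗ[R]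
      (Ext.{u} (ModuleCat.of R M) (ModuleCat.of R K) i →ₗ[R] E)) := by
  intro i
  induction i with
  | zero =>
    intro M _ _ _
    exact ⟨τ K E hE (ModuleCat.of R M) ≪≫ₗ LinearEquiv.congrLeft E R (hom0 K M).symm⟩
  | succ i ih =>
    intro M _ _ _
    obtain ⟨ι, hι, π, hπ⟩ := exists_presentation (R := R) M
    haveI : Module.Finite R (LinearMap.ker π) := inferInstance
    have hfinj := Submodule.injective_subtype (LinearMap.ker π)
    have hex := LinearMap.exact_subtype_ker_map π
    cases i with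
    | zero =>
      obtain ⟨e1⟩ := tor_step_one (N := LinearMap.ker π) (L := ι →₀ R) (M := M)
        (LinearMap.ker π).subtype π hfinj hex hπ (DK (R := R) K E)
      have e2 := kerTorEquiv K E hE (N := LinearMap.ker π) (L := ι →₀ R)
        (LinearMap.ker π).subtype
      have e3 := dualExtOne K E (N := LinearMap.ker π) (L := ι →₀ R) (M := M)
        (LinearMap.ker π).subtype π hfinj hex hπ
      have e12 := e1.trans e2
      exact ⟨e12.trans e3.symm⟩
    | succ i =>
      obtain ⟨e1⟩ := tor_step_succ (N := LinearMap.ker π) (L := ι →₀ R) (M := M)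
        (LinearMap.ker π).subtype π hfinj hex hπ (DK (R := R) K E) i
      obtain ⟨e⟩ := ih (LinearMap.ker π)
      exact ⟨e1 ≪≫ₗ e ≪≫ₗ dualExtStep K E (N := LinearMap.ker π) (L := ι →₀ R) (M := M)
        (LinearMap.ker π).subtype π hfinj hex hπ (i + 1) (by omega)⟩

end Main

end Groth.Agent.Lib.H26TorExtDual
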