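/-
Helper library (helper26): in a Noetherian unique factorization domain every nonzero ideal `I` is
isomorphic (as a module) to an ideal `J` not contained in any height-one prime.
-/
import Mathlib.Tactic
import Mathlib.RingTheory.UniqueFactorizationDomain.GCDMonoid
import Mathlib.RingTheory.UniqueFactorizationDomain.Ideal
import Mathlib.RingTheory.Ideal.Height
import Mathlib.Algebra.GCDMonoid.Finset

set_option autoImplicit false
universe u

namespace Groth.Agent.Lib.H26UFD

variable {A : Type u} [CommRing A] [IsDomain A] [UniqueFactorizationMonoid A]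

/-- a nonzero prime of a domain has height at least one. -/
theorem one_le_height_of_ne_bot (Q : Ideal A) [Q.IsPrime] (hQ : Q ≠ ⊥) : 1 ≤ Q.height := by
  rw [ENat.one_le_iff_ne_zero]
  intro h0
  have hmin : Q ∈ minimalPrimes A := (Ideal.height_eq_zero_iff (I := Q)).mp h0
  rw [IsDomain.minimalPrimes_eq_singleton_bot, Set.mem_singleton_iff] at hmin
  exact hQ hmin

/-- a height-one prime of a UFD is principal, generated by a prime element. -/
theorem exists_prime_span_eq_of_height_eq_one (Q : Ideal A) [hQ : Q.IsPrime] (h1 : Q.height = 1) :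
    ∃ π : A, Prime π ∧ Ideal.span {π} = Q := by
  have hQ0 : Q ≠ ⊥ := by
    intro h
    rw [h, Ideal.height_bot] at h1
    exact zero_ne_one h1
  obtain ⟨π, hπQ, hπ⟩ := Ideal.IsPrime.exists_mem_prime_of_ne_bot hQ hQ0
  refine ⟨π, hπ, ?_⟩
  have hle : Ideal.span {π} ≤ Q := (Ideal.span_singleton_le_iff_mem Q).mpr hπQ
  haveI hP : (Ideal.span {π}).IsPrime := (Ideal.span_singleton_prime hπ.ne_zero).mpr hπ
  have hP0 : Ideal.span {π} ≠ ⊥ := by
    rw [Ne, Ideal.span_singleton_eq_bot]
    exact hπ.ne_zero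
  by_contra hne
  have hlt : Ideal.span {π} < Q := lt_of_le_of_ne hle hne
  have h2 := Ideal.height_add_one_le_of_lt_of_isPrime hlt
  have h3 := one_le_height_of_ne_bot (Ideal.span {π}) hP0
  rw [h1] at h2
  have h4 : (1 : ℕ∞) + 1 ≤ 1 := le_trans (add_le_add_left h3 1) h2
  exact absurd h4 (by decide)

/-- in a Noetherian UFD every nonzero ideal is isomorphic to an ideal contained in no height-one
prime. -/
theorem exists_equiv_ideal [IsNoetherianRing A] (I : Ideal A) (hI : I ≠ ⊥) :
    ∃ J : Ideal A, Nonempty (I ≃ₗ[A] J) ∧ ∀ Q : Ideal A, Q.IsPrime → J ≤ Q → Q.height ≠ 1 := by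
  classical
  obtain ⟨_⟩ : Nonempty (NormalizedGCDMonoid A) := inferInstance
  obtain ⟨s, hs⟩ : ∃ s : Finset A, Ideal.span (s : Set A) = I := (IsNoetherian.noetherian I)
  have hnz : ∃ x ∈ s, x ≠ 0 := by
    by_contra hcon
    push_neg at hcon
    apply hI
    rw [← hs, Ideal.span_eq_bot]
    exact fun x hx => hcon x hx
  obtain ⟨x₀, hx₀s, hx₀⟩ := hnz
  have hsne : s.Nonempty := ⟨x₀, hx₀s⟩
  obtain ⟨g, hg, hg1⟩ := Finset.extract_gcd (id : A → A) hsne
  have hd0 : s.gcd id ≠ 0 := by
    intro h
    rw [Finset.gcd_eq_zero_iff] at h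
    exact hx₀ (h x₀ hx₀s)
  let μ : A →ₗ[A] A := LinearMap.mulLeft A (s.gcd id)
  have hμ : Function.Injective μ := by
    intro a b hab
    exact mul_left_cancel₀ hd0 hab
  let J : Ideal A := Ideal.span (g '' (s : Set A))
  have hJI : Submodule.map μ J = I := by
    change Submodule.map μ (Submodule.span A (g '' (s : Set A))) = I
    rw [Submodule.map_span, Set.image_image, ← hs]
    congr 1
    ext y
    constructor
    · rintro ⟨b, hb, rfl⟩
      have := hg b hb
      simp only [id] at this
      change s.gcd id * g b ∈ (s : Set A)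
      rw [← this]
      exact hb
    · intro hy
      refine ⟨y, hy, ?_⟩
      have := hg y hy
      simp only [id] at this
      exact this.symm
  refine ⟨J, ⟨(LinearEquiv.ofEq _ _ hJI.symm).trans (Submodule.equivMapOfInjective μ hμ J).symm⟩, ?_⟩
  intro Q hQ hJQ h1
  obtain ⟨π, hπ, hπQ⟩ := exists_prime_span_eq_of_height_eq_one Q h1
  have hdvd : π ∣ s.gcd g := by
    apply Finset.dvd_gcd
    intro b hb
    have hmem : g b ∈ Q := hJQ (Ideal.subset_span ⟨b, hb, rfl⟩)
    rw [← hπQ, Ideal.mem_span_singleton] at hmem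
    exact hmem
  rw [hg1] at hdvd
  exact hπ.not_unit (isUnit_of_dvd_one hdvd)

end Groth.Agent.Lib.H26UFD
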