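import Mathlib.Tactic
import Mathlib.Algebra.Homology.DerivedCategory.Ext.ExactSequences
import Mathlib.Algebra.Homology.ShortComplex.HomologicalComplex

/-!
Acyclicity lemma (Peskine–Szpiro), `Ext`-form for chain complexes `… → X_{j+1} → X_j → … → X_0`:
if `X_j = 0` for `j > e`, `Ext^q(N, X_j) = 0` for `q < j`, the complex is exact at all `j > i` and
`0 < i`, then `Hom(N, H_i) = 0`.
(Chain-complex mirror of helper26's `S14128a.acyclicity`.)
-/

set_option autoImplicit false
universe w v u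
open CategoryTheory CategoryTheory.Limits

namespace Groth.Agent.Lib.H29Acyclic

variable {C : Type u} [Category.{v} C] [Abelian C] [HasExt.{w} C]

open Abelian

omit [HasExt.{w} C] in
/-- the short exact sequence `0 → Q_{k+1} → X_k → Q_k → 0` (opcycles) when `K` is exact at `k+1`. -/
lemma opcycles_shortExact (K : ChainComplex C ℕ) (k : ℕ) (hk : IsZero (K.homology (k+1))) :
    (ShortComplex.mk (K.fromOpcycles (k+1) k) (K.pOpcycles k) (by
      rw [← cancel_epi (K.pOpcycles (k+1)), HomologicalComplex.p_fromOpcycles_assoc,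
        HomologicalComplex.d_pOpcycles, comp_zero])).ShortExact := by
  have hmono : Mono (K.fromOpcycles (k+1) k) :=
    Preadditive.mono_of_isZero_kernel' _ (K.homologyIsKernel (k+1) k (by simp)) hk
  refine ShortComplex.ShortExact.mk' ?_ hmono inferInstance
  let S₁ : ShortComplex C := ShortComplex.mk (K.d (k+1) k) (K.pOpcycles k) (by simp)
  have h₁ : S₁.Exact := S₁.exact_of_g_is_cokernel (K.opcyclesIsCokernel (k+1) k (by simp))
  let φ : S₁ ⟶ ShortComplex.mk (K.fromOpcycles (k+1) k) (K.pOpcycles k) (by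
      rw [← cancel_epi (K.pOpcycles (k+1)), HomologicalComplex.p_fromOpcycles_assoc,
        HomologicalComplex.d_pOpcycles, comp_zero]) :=
    { τ₁ := K.pOpcycles (k+1)
      τ₂ := 𝟙 _
      τ₃ := 𝟙 _
      comm₁₂ := by simp [S₁]
      comm₂₃ := by simp [S₁] }
  have : Epi φ.τ₁ := by dsimp [φ]; infer_instance
  have : IsIso φ.τ₂ := by dsimp [φ]; infer_instance
  have : Mono φ.τ₃ := by dsimp [φ]; infer_instance
  exact (ShortComplex.exact_iff_of_epi_of_isIso_of_mono φ).1 h₁

/-- `Ext` into a zero object vanishes. -/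
lemma ext_eq_zero_of_isZero {N Y : C} (hY : IsZero Y) (q : ℕ) (x : Ext N Y q) : x = 0 := by
  have h1 : x = x.comp (Ext.mk₀ (𝟙 Y)) (add_zero q) := by simp
  rw [h1, hY.eq_of_src (𝟙 Y) 0, Ext.mk₀_zero, Ext.comp_zero]

/-- vanishing of `Ext^q(N, Q_j)` for `q < j`, `i ≤ j`. -/
lemma ext_opcycles_eq_zero (K : ChainComplex C ℕ) (N : C) (e : ℕ)
    (hzero : ∀ j, e < j → IsZero (K.X j))
    (hExt : ∀ j q, q < j → ∀ x : Ext N (K.X j) q, x = 0) (i : ℕ)
    (hK : ∀ j, i < j → IsZero (K.homology j)) :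
    ∀ d j, i ≤ j → e + 1 ≤ j + d → ∀ q, q < j → ∀ x : Ext N (K.opcycles j) q, x = 0 := by
  intro d
  induction d with
  | zero =>
    intro j _ hj q _ x
    have hX : IsZero (K.X j) := hzero j (by omega)
    have hQ : IsZero (K.opcycles j) := by
      rw [IsZero.iff_id_eq_zero, ← cancel_epi (K.pOpcycles j)]
      rw [comp_zero, Category.comp_id]
      exact hX.eq_of_src _ _
    exact ext_eq_zero_of_isZero hQ q x
  | succ d ih =>
    intro j hij hj q hq x
    have hS := opcycles_shortExact K j (hK (j+1) (by omega))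
    obtain ⟨x₂, hx₂⟩ := Ext.covariant_sequence_exact₃ N hS x rfl
      (ih (j+1) (by omega) (by omega) (q+1) (by omega) _)
    rw [← hx₂, hExt j q hq x₂, Ext.zero_comp]

/-- Acyclicity lemma, `Hom`-form: no nonzero maps `N ⟶ H_i`. -/
theorem hom_homology_eq_zero (K : ChainComplex C ℕ) (N : C) (e : ℕ)
    (hzero : ∀ j, e < j → IsZero (K.X j))
    (hExt : ∀ j q, q < j → ∀ x : Ext N (K.X j) q, x = 0) (i : ℕ) (hi : 0 < i)
    (hK : ∀ j, i < j → IsZero (K.homology j)) (f : N ⟶ K.homology i) : f = 0 := by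
  have h0 := ext_opcycles_eq_zero K N e hzero hExt i hK (e + 1) i le_rfl (by omega) 0 hi
    (Ext.mk₀ (f ≫ K.homologyι i))
  have h1 : f ≫ K.homologyι i = 0 := by
    apply (Ext.mk₀_bijective _ _).1
    rw [h0, Ext.mk₀_zero]
  rw [← cancel_mono (K.homologyι i), h1, zero_comp]

end Groth.Agent.Lib.H29Acyclic
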