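import Groth.Agent.Lib.H29Acyclic
import Groth.Agent.Lib.H29Depth
import Groth.Agent.Lib.H29Gorenstein
import Mathlib.LinearAlgebra.Quotient.Pi
import Mathlib.RingTheory.Localization.Integer
import Mathlib.RingTheory.Localization.AtPrime.Basic
import Mathlib.LinearAlgebra.Matrix.ToLin

/-!
Acyclicity lemma, second variant (the complex need not vanish above `e`, only `d_{e+1} = 0`),
regular sequences on finite powers, `Ext^q(k, R^n) = 0` below the depth, and clearing denominators
for vectors over a localization at a prime.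
-/

set_option autoImplicit false
universe w v u
open CategoryTheory CategoryTheory.Limits

namespace Groth.Agent.Lib.H29Acyclic2

section abstract

variable {C : Type u} [Category.{v} C] [Abelian C] [HasExt.{w} C]

open Abelian

/-- vanishing of `Ext^q(N, Q_j)` for `q < j`, `i ≤ j ≤ e`, when `d_{e+1} = 0`. -/
lemma ext_opcycles_eq_zero (K : ChainComplex C ℕ) (N : C) (e : ℕ)
    (hd : K.d (e+1) e = 0)
    (hExt : ∀ j q, j ≤ e → q < j → ∀ x : Ext N (K.X j) q, x = 0) (i : ℕ)
    (hK : ∀ j, i < j → j ≤ e → IsZero (K.homology j)) :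
    ∀ d j, i ≤ j → j ≤ e → e ≤ j + d → ∀ q, q < j → ∀ x : Ext N (K.opcycles j) q, x = 0 := by
  intro d
  induction d with
  | zero =>
    intro j _ hje hj q hq x
    have hje' : j = e := by omega
    subst hje'
    have hiso : IsIso (K.pOpcycles j) := K.isIso_pOpcycles (j+1) j (by simp) hd
    have h1 : x = (x.comp (Ext.mk₀ (inv (K.pOpcycles j))) (add_zero q)).comp
        (Ext.mk₀ (K.pOpcycles j)) (add_zero q) := by
      rw [Ext.comp_assoc_of_third_deg_zero, Ext.mk₀_comp_mk₀, IsIso.inv_hom_id, Ext.comp_mk₀_id]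
    rw [h1, hExt j q le_rfl hq (x.comp (Ext.mk₀ (inv (K.pOpcycles j))) (add_zero q)),
      Ext.zero_comp]
  | succ d ih =>
    intro j hij hje hj q hq x
    by_cases hje' : j = e
    · subst hje'
      have hiso : IsIso (K.pOpcycles j) := K.isIso_pOpcycles (j+1) j (by simp) hd
      have h1 : x = (x.comp (Ext.mk₀ (inv (K.pOpcycles j))) (add_zero q)).comp
          (Ext.mk₀ (K.pOpcycles j)) (add_zero q) := by
        rw [Ext.comp_assoc_of_third_deg_zero, Ext.mk₀_comp_mk₀, IsIso.inv_hom_id,
          Ext.comp_mk₀_id]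
      rw [h1, hExt j q le_rfl hq (x.comp (Ext.mk₀ (inv (K.pOpcycles j))) (add_zero q)),
        Ext.zero_comp]
    · have hS := Groth.Agent.Lib.H29Acyclic.opcycles_shortExact K j
        (hK (j+1) (by omega) (by omega))
      obtain ⟨x₂, hx₂⟩ := Ext.covariant_sequence_exact₃ N hS x rfl
        (ih (j+1) (by omega) (by omega) (by omega) (q+1) (by omega) _)
      rw [← hx₂, hExt j q hje hq x₂, Ext.zero_comp]

/-- Acyclicity lemma, `Hom`-form, second variant. -/
theorem hom_homology_eq_zero (K : ChainComplex C ℕ) (N : C) (e : ℕ)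
    (hd : K.d (e+1) e = 0)
    (hExt : ∀ j q, j ≤ e → q < j → ∀ x : Ext N (K.X j) q, x = 0) (i : ℕ) (hi : 0 < i)
    (hie : i ≤ e)
    (hK : ∀ j, i < j → j ≤ e → IsZero (K.homology j)) (f : N ⟶ K.homology i) : f = 0 := by
  have h0 := ext_opcycles_eq_zero K N e hd hExt i hK e i le_rfl hie (by omega) 0 hi
    (Ext.mk₀ (f ≫ K.homologyι i))
  have h1 : f ≫ K.homologyι i = 0 := by
    apply (Ext.mk₀_bijective _ _).1
    rw [h0, Ext.mk₀_zero]
  rw [← cancel_mono (K.homologyι i), h1, zero_comp]

end abstract

section regular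

open RingTheory.Sequence
open scoped Pointwise

variable {R : Type u} [CommRing R]

/-- `r • ⊤` in a power is the power of `r • ⊤`. -/
lemma smul_top_pi_eq {ι : Type*} (N : Type*) [AddCommGroup N] [Module R N] (r : R) :
    (Ideal.span {r} • (⊤ : Submodule R (ι → N))) =
      Submodule.pi Set.univ (fun _ : ι => Ideal.span {r} • (⊤ : Submodule R N)) := by
  ext x
  simp only [Submodule.ideal_span_singleton_smul, Submodule.mem_pi, Set.mem_univ, true_implies]
  constructor
  · intro hx i
    obtain ⟨y, -, rfl⟩ := (Submodule.mem_smul_pointwise_iff_exists _ _ _).mp hx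
    exact (Submodule.mem_smul_pointwise_iff_exists _ _ _).mpr ⟨y i, trivial, rfl⟩
  · intro hx
    choose y _ hy using fun i => (Submodule.mem_smul_pointwise_iff_exists _ _ _).mp (hx i)
    exact (Submodule.mem_smul_pointwise_iff_exists _ _ _).mpr ⟨y, trivial, funext hy⟩

/-- A weakly regular sequence on `N` is weakly regular on `ι → N` (`ι` finite). -/
theorem isWeaklyRegular_pi {ι : Type} [Fintype ι] (N : Type v) [AddCommGroup N] [Module R N]
    (rs : List R) (h : IsWeaklyRegular N rs) : IsWeaklyRegular (ι → N) rs := by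
  classical
  induction rs generalizing N with
  | nil => exact IsWeaklyRegular.nil R _
  | cons r rs ih =>
    obtain ⟨hr, hrs⟩ := (isWeaklyRegular_cons_iff N r rs).mp h
    refine (isWeaklyRegular_cons_iff _ r rs).mpr ⟨?_, ?_⟩
    · intro a b hab
      funext i
      exact hr (congr_fun hab i)
    · have e1 : QuotSMulTop r (ι → N) ≃ₗ[R] (ι → QuotSMulTop r N) := by
        refine (Submodule.quotEquivOfEq _ _ ?_) ≪≫ₗ
          (Submodule.quotientPi (fun _ : ι => r • (⊤ : Submodule R N)))
        have := smul_top_pi_eq (ι := ι) N r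
        simpa only [Submodule.ideal_span_singleton_smul] using this
      exact (e1.isWeaklyRegular_congr rs).mpr (ih (QuotSMulTop r N) hrs)

end regular

section ext

open Abelian RingTheory.Sequence

variable {R : Type u} [CommRing R] [IsLocalRing R] [IsNoetherianRing R]

/-- `Ext^q(k, R^n) = 0` for `q` below the length of a regular sequence in the maximal ideal. -/
theorem ext_residue_pi_eq_zero (rs : List R)
    (hmem : ∀ x ∈ rs, x ∈ IsLocalRing.maximalIdeal R) (hreg : IsRegular R rs) (n : ℕ) (q : ℕ)
    (hq : q < rs.length)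
    (x : Ext (ModuleCat.of R (R ⧸ IsLocalRing.maximalIdeal R)) (ModuleCat.of R (Fin n → R)) q) :
    x = 0 := by
  by_cases hnt : Nontrivial (Fin n → R)
  · have hIM := Groth.Agent.Lib.H29Gorenstein.maximalIdeal_smul_top_ne_top R (Fin n → R)
    have hw : IsWeaklyRegular (Fin n → R) rs := isWeaklyRegular_pi R rs hreg.toIsWeaklyRegular
    have hr : IsRegular (Fin n → R) rs :=
      Groth.Agent.Lib.H29Depth.isRegular_of_isWeaklyRegular (IsLocalRing.maximalIdeal R) _ hIM hw
        hmem
    have hdepth : (rs.length : ℕ∞) ≤ LocCoh.idealDepth (IsLocalRing.maximalIdeal R) (Fin n → R) :=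
      (Groth.Agent.Lib.H29Depth.le_idealDepth_iff (IsLocalRing.maximalIdeal R) _ hIM _).mpr
        ⟨rs, rfl, hmem, hr⟩
    have h1 := (Groth.Agent.Lib.H29Depth.le_idealDepth_iff_ext (IsLocalRing.maximalIdeal R)
      (Fin n → R) hIM rs.length).mp hdepth q hq
    exact Subsingleton.elim (h := h1) x 0
  · rw [not_nontrivial_iff_subsingleton] at hnt
    exact Groth.Agent.Lib.H29Acyclic.ext_eq_zero_of_isZero
      (ModuleCat.isZero_of_subsingleton _) q x

end ext

section localization

variable {R : Type u} [CommRing R] (p : Ideal R) [p.IsPrime]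

/-- A vector over `R` dying in `R_p` is killed by some `s ∉ p`. -/
theorem exists_smul_eq_zero_of_map_eq_zero {n : ℕ} (v : Fin n → R)
    (hv : ∀ k, algebraMap R (Localization.AtPrime p) (v k) = 0) : ∃ s : R, s ∉ p ∧ s • v = 0 := by
  classical
  have h1 : ∀ k, ∃ m : p.primeCompl, (m : R) * v k = 0 := fun k =>
    (IsLocalization.map_eq_zero_iff p.primeCompl (Localization.AtPrime p) (v k)).mp (hv k)
  choose m hm using h1
  refine ⟨∏ k, (m k : R), ?_, ?_⟩
  · have : (∏ k, (m k : R)) ∈ p.primeCompl := Submonoid.prod_mem _ fun k _ => (m k).2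
    exact this
  · funext k
    obtain ⟨c, hc⟩ := Finset.dvd_prod_of_mem (fun k => (m k : R)) (Finset.mem_univ k)
    simp only [Pi.smul_apply, smul_eq_mul, Pi.zero_apply]
    rw [hc, mul_comm (m k : R) c, mul_assoc, hm k, mul_zero]

/-- Clearing denominators of a vector over `R_p`. -/
theorem exists_integer_multiple {n : ℕ} (w : Fin n → Localization.AtPrime p) :
    ∃ t : R, t ∉ p ∧ ∃ w' : Fin n → R, ∀ k,
      algebraMap R (Localization.AtPrime p) (w' k) =
        algebraMap R (Localization.AtPrime p) t * w k := by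
  obtain ⟨b, hb⟩ := IsLocalization.exist_integer_multiples p.primeCompl
    (Finset.univ : Finset (Fin n)) w
  choose w' hw' using fun k => hb k (Finset.mem_univ k)
  exact ⟨b, b.2, w', fun k => by rw [hw' k, Algebra.smul_def]⟩

/-- If `z ∈ R^a` maps into the range of `B_p`, then `s • z` is in the range of `B` for some
`s ∉ p`. -/
theorem exists_smul_mem_range {a b : ℕ} (B : Matrix (Fin a) (Fin b) R) (z : Fin a → R)
    (hz : (algebraMap R (Localization.AtPrime p)) ∘ z ∈
      LinearMap.range (B.map (algebraMap R (Localization.AtPrime p))).mulVecLin) :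
    ∃ s : R, s ∉ p ∧ s • z ∈ LinearMap.range B.mulVecLin := by
  obtain ⟨w, hw⟩ := hz
  obtain ⟨t, ht, w', hw'⟩ := exists_integer_multiple p w
  -- `t • z - B w'` dies in the localization
  have h1 : ∀ k, algebraMap R (Localization.AtPrime p) ((t • z - B.mulVecLin w') k) = 0 := by
    intro k
    have e1 : (algebraMap R (Localization.AtPrime p)) ∘ w' =
        algebraMap R (Localization.AtPrime p) t • w := by
      funext k; simp [hw' k]
    have e2 := RingHom.map_mulVec (algebraMap R (Localization.AtPrime p)) B w' k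
    have e3 := congr_fun hw k
    simp only [Matrix.mulVecLin_apply, Function.comp_apply] at e3
    simp only [Pi.sub_apply, Pi.smul_apply, smul_eq_mul, map_sub, map_mul,
      Matrix.mulVecLin_apply]
    rw [e2, e1, Matrix.mulVec_smul, Pi.smul_apply, smul_eq_mul, e3, sub_self]
  obtain ⟨s, hs, hs0⟩ := exists_smul_eq_zero_of_map_eq_zero p _ h1
  refine ⟨s * t, ?_, ?_⟩
  · exact fun h => (Ideal.IsPrime.mem_or_mem inferInstance h).elim hs ht
  · refine ⟨s • w', ?_⟩
    rw [map_smul, mul_smul]
    rw [smul_sub, sub_eq_zero] at hs0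
    exact hs0.symm

end localization

end Groth.Agent.Lib.H29Acyclic2
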