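import Mathlib.Algebra.Homology.DerivedCategory.KInjective
import Mathlib.Algebra.Homology.DerivedCategory.ExactFunctor
import Mathlib.Algebra.Homology.DerivedCategory.Linear

/-!
# Adjunctions and K-injective complexes (helper29)

`F ⊣ G` additive functors between abelian categories, `F` exact.  For a K-injective complex `J`
such that `G J` is K-injective, the object `Q (G J)` represents `Y ↦ Hom(F Y, Q J)`:
`bijective_comp_eps`.
-/

set_option autoImplicit false
universe w₁ w₂ v₁ v₂ u₁ u₂
open CategoryTheory CategoryTheory.Limits Category DerivedCategory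

namespace Groth.Agent.Lib.H29AdjD

section KInj

variable {C : Type u₁} [Category.{v₁} C] [Abelian C] [HasDerivedCategory.{w₁} C]

/-- morphisms in the derived category to a K-injective complex come from chain maps -/
lemma exists_Q_map_eq {X L : CochainComplex C ℤ} [L.IsKInjective] (ψ : Q.obj X ⟶ Q.obj L) :
    ∃ φ : X ⟶ L, Q.map φ = ψ := by
  let q := HomotopyCategory.quotient C (ComplexShape.up ℤ)
  let i := DerivedCategory.quotientCompQhIso C
  obtain ⟨g, hg⟩ := (CochainComplex.IsKInjective.Qh_map_bijective (q.obj X) L).2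
    (i.hom.app X ≫ ψ ≫ i.inv.app L)
  obtain ⟨φ, rfl⟩ := q.map_surjective g
  refine ⟨φ, ?_⟩
  have hnat := i.hom.naturality φ
  have h1 : DerivedCategory.Q.map φ = i.inv.app X ≫ DerivedCategory.Qh.map (q.map φ) ≫
      i.hom.app L := by
    rw [← Iso.app_inv, ← Iso.app_hom, Iso.eq_inv_comp]
    exact hnat.symm
  rw [h1, hg]
  simp

lemma homotopy_of_Q_map_eq {X L : CochainComplex C ℤ} [L.IsKInjective] (g g' : X ⟶ L)
    (h : Q.map g = Q.map g') : Nonempty (Homotopy g g') := by
  refine ⟨HomotopyCategory.homotopyOfEq _ _ ?_⟩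
  apply (CochainComplex.IsKInjective.Qh_map_bijective
    ((HomotopyCategory.quotient _ _).obj X) L).injective
  rw [← cancel_mono ((quotientCompQhIso C).hom.app L)]
  rw [quotientCompQhIso_hom_naturality, quotientCompQhIso_hom_naturality, h]

end KInj

section Adj

variable {C : Type u₁} [Category.{v₁} C] [Abelian C]
  {D : Type u₂} [Category.{v₂} D] [Abelian D]
  {F : C ⥤ D} {G : D ⥤ C} (adj : F ⊣ G) [F.Additive] [G.Additive]

/-- the unit on complexes -/
@[simps]
def unitCx (Y : CochainComplex C ℤ) :
    Y ⟶ (G.mapHomologicalComplex _).obj ((F.mapHomologicalComplex _).obj Y) where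
  f i := adj.unit.app (Y.X i)
  comm' i j _ := (adj.unit.naturality (Y.d i j)).symm

/-- the counit on complexes -/
@[simps]
def counitCx (J : CochainComplex D ℤ) :
    (F.mapHomologicalComplex _).obj ((G.mapHomologicalComplex _).obj J) ⟶ J where
  f i := adj.counit.app (J.X i)
  comm' i j _ := (adj.counit.naturality (J.d i j)).symm

lemma unitCx_naturality {Y Y' : CochainComplex C ℤ} (f : Y ⟶ Y') :
    f ≫ unitCx adj Y' =
      unitCx adj Y ≫ (G.mapHomologicalComplex _).map ((F.mapHomologicalComplex _).map f) := by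
  ext i
  exact adj.unit.naturality (f.f i)

lemma counitCx_naturality {J J' : CochainComplex D ℤ} (g : J ⟶ J') :
    (F.mapHomologicalComplex _).map ((G.mapHomologicalComplex _).map g) ≫ counitCx adj J' =
      counitCx adj J ≫ g := by
  ext i
  exact adj.counit.naturality (g.f i)

lemma left_triangle (Y : CochainComplex C ℤ) :
    (F.mapHomologicalComplex _).map (unitCx adj Y) ≫
      counitCx adj ((F.mapHomologicalComplex _).obj Y) = 𝟙 _ := by
  ext i
  exact adj.left_triangle_components (Y.X i)

lemma right_triangle (J : CochainComplex D ℤ) :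
    unitCx adj ((G.mapHomologicalComplex _).obj J) ≫
      (G.mapHomologicalComplex _).map (counitCx adj J) = 𝟙 _ := by
  ext i
  exact adj.right_triangle_components (J.X i)

lemma adjunct_left {Y : CochainComplex C ℤ} {J : CochainComplex D ℤ}
    (f : Y ⟶ (G.mapHomologicalComplex _).obj J) :
    unitCx adj Y ≫ (G.mapHomologicalComplex _).map
      ((F.mapHomologicalComplex _).map f ≫ counitCx adj J) = f := by
  rw [Functor.map_comp, ← assoc, ← unitCx_naturality, assoc, right_triangle, comp_id]

lemma adjunct_right {Y : CochainComplex C ℤ} {J : CochainComplex D ℤ}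
    (g : (F.mapHomologicalComplex _).obj Y ⟶ J) :
    (F.mapHomologicalComplex _).map (unitCx adj Y ≫ (G.mapHomologicalComplex _).map g) ≫
      counitCx adj J = g := by
  rw [Functor.map_comp, assoc, counitCx_naturality, ← assoc, left_triangle, id_comp]

variable [HasDerivedCategory.{w₁} C] [HasDerivedCategory.{w₂} D]
  [PreservesFiniteLimits F] [PreservesFiniteColimits F]

/-- the canonical morphism `F (Q (G J)) ⟶ Q J` -/
noncomputable def eps (J : CochainComplex D ℤ) :
    F.mapDerivedCategory.obj (Q.obj ((G.mapHomologicalComplex _).obj J)) ⟶ Q.obj J :=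
  F.mapDerivedCategoryFactors.hom.app _ ≫ Q.map (counitCx adj J)

lemma map_Q_map_comp_eps {Y : CochainComplex C ℤ} (J : CochainComplex D ℤ)
    (f : Y ⟶ (G.mapHomologicalComplex _).obj J) :
    F.mapDerivedCategory.map (Q.map f) ≫ eps adj J =
      F.mapDerivedCategoryFactors.hom.app Y ≫
        Q.map ((F.mapHomologicalComplex _).map f ≫ counitCx adj J) := by
  have := F.mapDerivedCategoryFactors.hom.naturality f
  simp only [Functor.comp_map] at this
  rw [eps, ← assoc, this, assoc, Functor.map_comp]

theorem bijective_comp_eps_Q (J : CochainComplex D ℤ) [J.IsKInjective]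
    [CochainComplex.IsKInjective ((G.mapHomologicalComplex _).obj J)] (Y : CochainComplex C ℤ) :
    Function.Bijective (fun ψ : Q.obj Y ⟶ Q.obj ((G.mapHomologicalComplex _).obj J) =>
      F.mapDerivedCategory.map ψ ≫ eps adj J) := by
  constructor
  · intro ψ ψ' h
    obtain ⟨f, rfl⟩ := exists_Q_map_eq ψ
    obtain ⟨f', rfl⟩ := exists_Q_map_eq ψ'
    simp only [map_Q_map_comp_eps] at h
    rw [cancel_epi] at h
    obtain ⟨H⟩ := homotopy_of_Q_map_eq _ _ h
    have H' := ((G.mapHomotopy H).compLeft (unitCx adj Y))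
    rw [adjunct_left, adjunct_left] at H'
    exact DerivedCategory.Q_map_eq_of_homotopy _ H'
  · intro g'
    obtain ⟨g, hg⟩ := exists_Q_map_eq (F.mapDerivedCategoryFactors.inv.app Y ≫ g')
    refine ⟨Q.map (unitCx adj Y ≫ (G.mapHomologicalComplex _).map g), ?_⟩
    simp only [map_Q_map_comp_eps]
    rw [adjunct_right, hg, Iso.hom_inv_id_app_assoc]

theorem bijective_comp_eps (J : CochainComplex D ℤ) [J.IsKInjective]
    [CochainComplex.IsKInjective ((G.mapHomologicalComplex _).obj J)] (Y : DerivedCategory C) :
    Function.Bijective (fun ψ : Y ⟶ Q.obj ((G.mapHomologicalComplex _).obj J) =>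
      F.mapDerivedCategory.map ψ ≫ eps adj J) := by
  let e : Q.obj (Q.objPreimage Y) ≅ Y := Q.objObjPreimageIso Y
  have h := bijective_comp_eps_Q adj J (Q.objPreimage Y)
  have h1 : (fun ψ : Y ⟶ Q.obj ((G.mapHomologicalComplex _).obj J) =>
      F.mapDerivedCategory.map ψ ≫ eps adj J) =
      (fun χ => F.mapDerivedCategory.map e.inv ≫ χ) ∘
      (fun ψ : Q.obj (Q.objPreimage Y) ⟶ Q.obj ((G.mapHomologicalComplex _).obj J) =>
        F.mapDerivedCategory.map ψ ≫ eps adj J) ∘ (fun ψ => e.hom ≫ ψ) := by
    funext ψ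
    simp only [Function.comp_apply, Functor.map_comp, assoc]
    rw [← assoc, ← Functor.map_comp, e.inv_hom_id, CategoryTheory.Functor.map_id, id_comp]
  rw [h1]
  refine Function.Bijective.comp ?_ (Function.Bijective.comp h ?_)
  · constructor
    · intro x y hxy
      exact (cancel_epi _).mp hxy
    · intro x
      exact ⟨F.mapDerivedCategory.map e.hom ≫ x, by
        simp only
        rw [← assoc, ← Functor.map_comp, e.inv_hom_id, CategoryTheory.Functor.map_id, id_comp]⟩
  · constructor
    · intro x y hxy
      exact (cancel_epi _).mp hxy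
    · intro x
      exact ⟨e.inv ≫ x, by simp⟩

end Adj

end Groth.Agent.Lib.H29AdjD
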