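import Mathlib.LinearAlgebra.Matrix.ToLin
import Mathlib.LinearAlgebra.Matrix.NonsingularInverse
import Mathlib.LinearAlgebra.Dimension.Free
import Mathlib.LinearAlgebra.Dimension.Constructions
import Mathlib.RingTheory.FiniteType
import Mathlib.RingTheory.Finiteness.Prod

/-!
Linear algebra of unit minors for Buchsbaum–Eisenbud.

`exists_mulVec_eq`: if `A₀ * A₁ = 0`, `A₀` has a unit `r × r` minor (rows `f`, columns `g`), `A₁`
has a unit `r' × r'` minor and `r + r' = n` (the size in the middle), then every `z` killed by the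
rows `f` of `A₀` lies in the range of `A₁`.
-/

set_option autoImplicit false
universe u

namespace Groth.Agent.Lib.H29BE1

open Matrix

variable {S : Type u} [CommRing S]

/-- extension by zero along `g`. -/
def ext {r n : ℕ} (g : Fin r → Fin n) (w : Fin r → S) : Fin n → S :=
  fun c => ∑ k, if g k = c then w k else 0

theorem mulVec_ext {α : Type*} {r n : ℕ} (A : Matrix α (Fin n) S) (g : Fin r → Fin n)
    (w : Fin r → S) : A.mulVec (ext g w) = (A.submatrix id g).mulVec w := by
  funext i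
  simp only [Matrix.mulVec, dotProduct, ext, Matrix.submatrix_apply, id_eq]
  simp_rw [Finset.mul_sum]
  rw [Finset.sum_comm]
  refine Finset.sum_congr rfl fun k _ => ?_
  simp [mul_ite]

/-- The correction map `ρ y = y - A₁ (ext g' (a'⁻¹ (y ∘ f')))`. -/
noncomputable def rho {n b r' : ℕ} (A₁ : Matrix (Fin n) (Fin b) S) (f' : Fin r' → Fin n)
    (g' : Fin r' → Fin b) (y : Fin n → S) : Fin n → S :=
  y - A₁.mulVec (ext g' ((A₁.submatrix f' g')⁻¹.mulVec (y ∘ f')))

theorem rho_comp {n b r' : ℕ} (A₁ : Matrix (Fin n) (Fin b) S) (f' : Fin r' → Fin n)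
    (g' : Fin r' → Fin b) (hu' : IsUnit (A₁.submatrix f' g').det) (y : Fin n → S) :
    rho A₁ f' g' y ∘ f' = 0 := by
  have h1 : (A₁.mulVec (ext g' ((A₁.submatrix f' g')⁻¹.mulVec (y ∘ f')))) ∘ f' = y ∘ f' := by
    rw [mulVec_ext]
    have h2 : ((A₁.submatrix id g').mulVec ((A₁.submatrix f' g')⁻¹.mulVec (y ∘ f'))) ∘ f' =
        (A₁.submatrix f' g').mulVec ((A₁.submatrix f' g')⁻¹.mulVec (y ∘ f')) := rfl
    rw [h2, Matrix.mulVec_mulVec, Matrix.mul_nonsing_inv _ hu', Matrix.one_mulVec]
  funext i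
  have := congr_fun h1 i
  simp only [Function.comp_apply] at this
  simp [rho, this]

theorem mulVec_rho {a n b r' : ℕ} (A₀ : Matrix (Fin a) (Fin n) S) (A₁ : Matrix (Fin n) (Fin b) S)
    (h01 : A₀ * A₁ = 0) (f' : Fin r' → Fin n) (g' : Fin r' → Fin b) (y : Fin n → S) :
    A₀.mulVec (rho A₁ f' g' y) = A₀.mulVec y := by
  unfold rho
  rw [Matrix.mulVec_sub, Matrix.mulVec_mulVec, h01, Matrix.zero_mulVec, sub_zero]

/-- The main lemma. -/
theorem exists_mulVec_eq {a n b r r' : ℕ} (A₀ : Matrix (Fin a) (Fin n) S)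
    (A₁ : Matrix (Fin n) (Fin b) S) (h01 : A₀ * A₁ = 0)
    (f : Fin r → Fin a) (g : Fin r → Fin n) (hu : IsUnit (A₀.submatrix f g).det)
    (f' : Fin r' → Fin n) (g' : Fin r' → Fin b) (hu' : IsUnit (A₁.submatrix f' g').det)
    (hr : r' + r = n) (z : Fin n → S) (hz : (A₀.submatrix f id).mulVec z = 0) :
    ∃ x : Fin b → S, z = A₁.mulVec x := by
  classical
  subst hr
  rcases subsingleton_or_nontrivial S with hS | hS
  · exact ⟨0, Subsingleton.elim _ _⟩
  -- the map `Θ y = (y ∘ f', rows f of A₀ y)`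
  let Θ : (Fin (r' + r) → S) →ₗ[S] (Fin r' → S) × (Fin r → S) :=
    LinearMap.prod (LinearMap.funLeft S S f') (A₀.submatrix f id).mulVecLin
  have hΘapp : ∀ y, Θ y = (y ∘ f', (A₀.submatrix f id).mulVec y) := fun y => rfl
  have hΘ : Function.Surjective Θ := by
    rintro ⟨u, t⟩
    -- `y₂` with `y₂ ∘ f' = u`, killed by `A₀`
    let y₂ : Fin (r' + r) → S := A₁.mulVec (ext g' ((A₁.submatrix f' g')⁻¹.mulVec u))
    have hy₂1 : y₂ ∘ f' = u := by
      have h2 : ((A₁.submatrix id g').mulVec ((A₁.submatrix f' g')⁻¹.mulVec u)) ∘ f' =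
          (A₁.submatrix f' g').mulVec ((A₁.submatrix f' g')⁻¹.mulVec u) := rfl
      simp only [y₂]
      rw [mulVec_ext, h2, Matrix.mulVec_mulVec, Matrix.mul_nonsing_inv _ hu', Matrix.one_mulVec]
    have hy₂2 : (A₀.submatrix f id).mulVec y₂ = 0 := by
      simp only [y₂]
      rw [Matrix.mulVec_mulVec]
      have : A₀.submatrix f id * A₁ = (A₀ * A₁).submatrix f id := by
        ext i j
        simp [Matrix.mul_apply]
      rw [this, h01]
      simp
    -- `y₁` with `y₁ ∘ f' = 0`, rows `f` of `A₀ y₁` equal to `t`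
    let y₀ : Fin (r' + r) → S := ext g ((A₀.submatrix f g)⁻¹.mulVec t)
    let y₁ : Fin (r' + r) → S := rho A₁ f' g' y₀
    have hy₁1 : y₁ ∘ f' = 0 := rho_comp A₁ f' g' hu' y₀
    have hy₁2 : (A₀.submatrix f id).mulVec y₁ = t := by
      have h3 : (A₀.submatrix f id).mulVec y₁ = (A₀.submatrix f id).mulVec y₀ := by
        have : A₀.submatrix f id * A₁ = 0 := by
          have : A₀.submatrix f id * A₁ = (A₀ * A₁).submatrix f id := by
            ext i j
            simp [Matrix.mul_apply]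
          rw [this, h01]
          simp
        exact mulVec_rho _ A₁ this f' g' y₀
      rw [h3]
      simp only [y₀]
      rw [mulVec_ext]
      have : (A₀.submatrix f id).submatrix id g = A₀.submatrix f g := by
        ext i j; simp
      rw [this, Matrix.mulVec_mulVec, Matrix.mul_nonsing_inv _ hu, Matrix.one_mulVec]
    refine ⟨y₁ + y₂, ?_⟩
    rw [hΘapp, Prod.mk.injEq]
    constructor
    · funext i
      have e1 := congr_fun hy₁1 i
      have e2 := congr_fun hy₂1 i
      simp only [Function.comp_apply, Pi.add_apply, Pi.zero_apply] at e1 e2 ⊢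
      rw [e1, e2, zero_add]
    · rw [Matrix.mulVec_add, hy₁2, hy₂2, add_zero]
  have hfin : Module.finrank S (Fin (r' + r) → S) ≤
      Module.finrank S ((Fin r' → S) × (Fin r → S)) := by
    rw [Module.finrank_prod, Module.finrank_fin_fun, Module.finrank_fin_fun,
      Module.finrank_fin_fun]
  have hbij := OrzechProperty.bijective_of_surjective_of_finrank_le Θ hΘ hfin
  -- apply to `z₁ = ρ z`
  have hz1 : rho A₁ f' g' z ∘ f' = 0 := rho_comp A₁ f' g' hu' z
  have hz2 : (A₀.submatrix f id).mulVec (rho A₁ f' g' z) = 0 := by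
    have : A₀.submatrix f id * A₁ = 0 := by
      have : A₀.submatrix f id * A₁ = (A₀ * A₁).submatrix f id := by
        ext i j
        simp [Matrix.mul_apply]
      rw [this, h01]
      simp
    rw [mulVec_rho _ A₁ this f' g' z, hz]
  have hz3 : rho A₁ f' g' z = 0 := by
    apply hbij.1
    rw [map_zero, hΘapp, hz1, hz2]
    rfl
  refine ⟨ext g' ((A₁.submatrix f' g')⁻¹.mulVec (z ∘ f')), ?_⟩
  have := hz3
  unfold rho at this
  exact sub_eq_zero.mp this

end Groth.Agent.Lib.H29BE1
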