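import Groth.Agent.S18128
import Groth.Agent.Lib.H29Acyclic2

/-!
Buchsbaum–Eisenbud, local step: acyclicity lemma with a hypothesis on the opcycles `Q_d` and the
resulting exactness criterion for a complex of matrices over a Noetherian local ring.
-/

set_option autoImplicit false
universe w v u
open CategoryTheory CategoryTheory.Limits

namespace Groth.Agent.Lib.H29BE2

section abstract

variable {C : Type u} [Category.{v} C] [Abelian C] [HasExt.{w} C]

open Abelian

/-- vanishing of `Ext^q(N, Q_j)` for `q < j`, `i ≤ j ≤ d`, given it for `Q_d`. -/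
lemma ext_opcycles_eq_zero (K : ChainComplex C ℕ) (N : C) (d : ℕ)
    (hQ : ∀ q, q < d → ∀ x : Ext N (K.opcycles d) q, x = 0)
    (hExt : ∀ j q, j ≤ d → q < j → ∀ x : Ext N (K.X j) q, x = 0) (i : ℕ)
    (hK : ∀ j, i < j → j ≤ d → IsZero (K.homology j)) :
    ∀ t j, i ≤ j → j ≤ d → d ≤ j + t → ∀ q, q < j → ∀ x : Ext N (K.opcycles j) q, x = 0 := by
  intro t
  induction t with
  | zero =>
    intro j _ hjd hj q hq x
    have hjd' : j = d := by omega
    subst hjd'
    exact hQ q hq x
  | succ t ih =>
    intro j hij hjd hj q hq x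
    by_cases hjd' : j = d
    · subst hjd'
      exact hQ q hq x
    · have hS := Groth.Agent.Lib.H29Acyclic.opcycles_shortExact K j
        (hK (j+1) (by omega) (by omega))
      obtain ⟨x₂, hx₂⟩ := Ext.covariant_sequence_exact₃ N hS x rfl
        (ih (j+1) (by omega) (by omega) (by omega) (q+1) (by omega) _)
      rw [← hx₂, hExt j q hjd hq x₂, Ext.zero_comp]

/-- Acyclicity lemma, `Hom`-form, third variant. -/
theorem hom_homology_eq_zero (K : ChainComplex C ℕ) (N : C) (d : ℕ)
    (hQ : ∀ q, q < d → ∀ x : Ext N (K.opcycles d) q, x = 0)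
    (hExt : ∀ j q, j ≤ d → q < j → ∀ x : Ext N (K.X j) q, x = 0) (i : ℕ) (hi : 0 < i)
    (hid : i ≤ d)
    (hK : ∀ j, i < j → j ≤ d → IsZero (K.homology j)) (f : N ⟶ K.homology i) : f = 0 := by
  have h0 := ext_opcycles_eq_zero K N d hQ hExt i hK d i le_rfl hid (by omega) 0 hi
    (Ext.mk₀ (f ≫ K.homologyι i))
  have h1 : f ≫ K.homologyι i = 0 := by
    apply (Ext.mk₀_bijective _ _).1
    rw [h0, Ext.mk₀_zero]
  rw [← cancel_mono (K.homologyι i), h1, zero_comp]

/-- `Ext` into a retract vanishes if it does for the ambient object. -/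
lemma ext_eq_zero_of_retract {N X Q : C} (p : X ⟶ Q) (σ : Q ⟶ X) (h : σ ≫ p = 𝟙 Q) (q : ℕ)
    (hX : ∀ x : Ext N X q, x = 0) (x : Ext N Q q) : x = 0 := by
  have h1 : x = (x.comp (Ext.mk₀ σ) (add_zero q)).comp (Ext.mk₀ p) (add_zero q) := by
    rw [Ext.comp_assoc_of_third_deg_zero, Ext.mk₀_comp_mk₀, h, Ext.comp_mk₀_id]
  rw [h1, hX (x.comp (Ext.mk₀ σ) (add_zero q)), Ext.zero_comp]

end abstract

section local_step

open Groth.Agent.S18128

variable {S : Type u} [CommRing S] [IsLocalRing S] [IsNoetherianRing S]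

/-- Local step: exactness at `1 ≤ j ≤ d` from depth `≥ d`, `Ext^{<d}(k, Q_d) = 0` and exactness on
the punctured spectrum (elementwise). -/
theorem local_step (e : ℕ) (n : ℕ → ℕ) (A : (i : ℕ) → Matrix (Fin (n i)) (Fin (n (i + 1))) S)
    (hA : ∀ i, i + 2 ≤ e → A i * A (i + 1) = 0) (d : ℕ) (hde : d ≤ e)
    (rs : List S) (hlen : rs.length = d) (hmem : ∀ x ∈ rs, x ∈ IsLocalRing.maximalIdeal S)
    (hreg : RingTheory.Sequence.IsRegular S rs)
    (hQ : ∀ q, q < d → ∀ x : Abelian.Ext (ModuleCat.of S (S ⧸ IsLocalRing.maximalIdeal S))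
      ((cplx e n A hA).opcycles d) q, x = 0)
    (hlocal : ∀ (Q : Ideal S) [Q.IsPrime], Q ≠ IsLocalRing.maximalIdeal S → ∀ j, j + 1 ≤ d →
      ∀ z : Fin (n (j + 1)) → S, (A j).mulVecLin z = 0 →
        ∃ s : S, s ∉ Q ∧ s • z ∈ LinearMap.range ((cplx e n A hA).d (j + 2) (j + 1)).hom) :
    ∀ j, j + 1 ≤ d → (cplx e n A hA).ExactAt (j + 1) := by
  classical
  set K := cplx e n A hA with hKdef
  let N : ModuleCat.{u} S := ModuleCat.of S (S ⧸ IsLocalRing.maximalIdeal S)
  have hExt : ∀ j q, j ≤ d → q < j → ∀ x : Abelian.Ext N (K.X j) q, x = 0 := by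
    intro j q hj hq x
    exact Groth.Agent.Lib.H29Acyclic2.ext_residue_pi_eq_zero rs hmem hreg (n j) q (by omega) x
  have main : ∀ t j, j + 1 ≤ d → d ≤ j + 1 + t → K.ExactAt (j + 1) := by
    intro t
    induction t using Nat.strong_induction_on with
    | _ t ih =>
      intro j hj hd'
      have hK : ∀ j', j + 1 < j' → j' ≤ d → IsZero (K.homology j') := by
        intro j' h1 h2
        obtain ⟨j'', rfl⟩ : ∃ j'', j' = j'' + 1 := ⟨j' - 1, by omega⟩
        exact (HomologicalComplex.exactAt_iff_isZero_homology K _).mp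
          (ih (d - (j'' + 1)) (by omega) j'' h2 (by omega))
      have hhom : ∀ f : N ⟶ K.homology (j + 1), f = 0 :=
        hom_homology_eq_zero K N d hQ hExt (j + 1) (by omega) hj hK
      rw [HomologicalComplex.exactAt_iff_isZero_homology]
      by_contra hnz
      have hnt : Nontrivial (K.homology (j + 1)) := by
        by_contra hn
        rw [not_nontrivial_iff_subsingleton] at hn
        exact hnz (ModuleCat.isZero_of_subsingleton _)
      obtain ⟨p, hp⟩ := associatedPrimes.nonempty S (K.homology (j + 1))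
      by_cases hpm : p = IsLocalRing.maximalIdeal S
      · subst hpm
        obtain ⟨_, f, hf⟩ := (isAssociatedPrime_iff_exists_injective_linearMap _ _).mp hp
        have hf0 := hhom (ModuleCat.ofHom f)
        have h10 : f (1 : S ⧸ IsLocalRing.maximalIdeal S) = 0 := by
          have := congrArg (fun g : N ⟶ K.homology (j + 1) =>
            g.hom (1 : S ⧸ IsLocalRing.maximalIdeal S)) hf0
          exact this
        have h11 : (1 : S ⧸ IsLocalRing.maximalIdeal S) = 0 := hf (by rw [h10, map_zero])
        exact one_ne_zero h11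
      · obtain ⟨hpprime, h, hph⟩ := isAssociatedPrime_iff.mp hp
        obtain ⟨z, rfl⟩ := (ModuleCat.epi_iff_surjective (K.homologyπ (j + 1))).mp inferInstance h
        have hz0 : (A j).mulVecLin ((K.iCycles (j + 1)).hom z) = 0 := by
          have h1 : (K.iCycles (j + 1) ≫ K.d (j + 1) j).hom z = 0 := by
            rw [HomologicalComplex.iCycles_d]; rfl
          rw [cplx_d_of_le e n A hA j (by omega)] at h1
          exact h1
        obtain ⟨s, hs, w, hw⟩ := hlocal p hpm j hj _ hz0
        have h2 : s • z = (K.toCycles (j + 2) (j + 1)).hom w := by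
          apply (ModuleCat.mono_iff_injective (K.iCycles (j + 1))).mp inferInstance
          have h4 : (K.toCycles (j + 2) (j + 1) ≫ K.iCycles (j + 1)).hom w =
              (K.d (j + 2) (j + 1)).hom w := by
            rw [HomologicalComplex.toCycles_i]
          have h5 : (K.iCycles (j + 1)).hom (s • z) = s • (K.iCycles (j + 1)).hom z :=
            map_smul _ _ _
          exact h5.trans (hw.symm.trans h4.symm)
        have h3 : s • (K.homologyπ (j + 1)).hom z = 0 := by
          rw [← map_smul, h2]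
          have : (K.toCycles (j + 2) (j + 1) ≫ K.homologyπ (j + 1)).hom w = 0 := by
            rw [HomologicalComplex.toCycles_comp_homologyπ]; rfl
          exact this
        apply hs
        rw [hph, Submodule.mem_colon_singleton, Submodule.mem_bot]
        exact h3
  intro j hj
  exact main (d - (j + 1)) j hj (by omega)

end local_step

end Groth.Agent.Lib.H29BE2
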