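import Groth.Prelude.Def_CAlgX
import Groth.Agent.Lib.H29BE1
import Groth.Agent.Lib.H29BE2

/-!
Buchsbaum–Eisenbud, sufficiency: setup over the localization at a prime.
-/

set_option autoImplicit false
universe u
open CategoryTheory CategoryTheory.Limits

namespace Groth.Agent.Lib.H29BE3

open Groth.Agent.S18128 Groth.Agent.Lib.H29BE1

section general

variable {S : Type u} [CommRing S]

/-- `ext g` as a linear map. -/
noncomputable def extL {r n : ℕ} (g : Fin r → Fin n) : (Fin r → S) →ₗ[S] (Fin n → S) :=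
  ((1 : Matrix (Fin n) (Fin n) S).submatrix id g).mulVecLin

theorem extL_apply {r n : ℕ} (g : Fin r → Fin n) (w : Fin r → S) : extL g w = ext g w := by
  unfold extL
  rw [Matrix.mulVecLin_apply, ← mulVec_ext, Matrix.one_mulVec]

/-- `τ y = ext g (a⁻¹ (y ∘ f))`. -/
noncomputable def tauL {a n r : ℕ} (B : Matrix (Fin a) (Fin n) S) (f : Fin r → Fin a)
    (g : Fin r → Fin n) : (Fin a → S) →ₗ[S] (Fin n → S) :=
  (extL g) ∘ₗ ((B.submatrix f g)⁻¹).mulVecLin ∘ₗ (LinearMap.funLeft S S f)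

theorem tauL_apply {a n r : ℕ} (B : Matrix (Fin a) (Fin n) S) (f : Fin r → Fin a)
    (g : Fin r → Fin n) (y : Fin a → S) :
    tauL B f g y = ext g ((B.submatrix f g)⁻¹.mulVec (y ∘ f)) := by
  unfold tauL
  rw [LinearMap.comp_apply, LinearMap.comp_apply, extL_apply]
  rfl

/-- Key consequence of `exists_mulVec_eq`: `B = B τ B` when `B` has a unit minor, the next map `C`
has a unit minor and the sizes add up. -/
theorem mulVec_tauL {a n b r r' : ℕ} (B : Matrix (Fin a) (Fin n) S)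
    (C : Matrix (Fin n) (Fin b) S) (hBC : B * C = 0)
    (f : Fin r → Fin a) (g : Fin r → Fin n) (hu : IsUnit (B.submatrix f g).det)
    (f' : Fin r' → Fin n) (g' : Fin r' → Fin b) (hu' : IsUnit (C.submatrix f' g').det)
    (hr : r' + r = n) (x : Fin n → S) :
    B.mulVec (tauL B f g (B.mulVec x)) = B.mulVec x := by
  have h1 : (B.submatrix f id).mulVec (x - tauL B f g (B.mulVec x)) = 0 := by
    rw [Matrix.mulVec_sub, tauL_apply, mulVec_ext]
    have e1 : (B.submatrix f id).submatrix id g = B.submatrix f g := by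
      ext i j; simp
    have e2 : (B.mulVec x) ∘ f = (B.submatrix f id).mulVec x := rfl
    rw [e1, Matrix.mulVec_mulVec, Matrix.mul_nonsing_inv _ hu, Matrix.one_mulVec, e2, sub_self]
  obtain ⟨y, hy⟩ := exists_mulVec_eq B C hBC f g hu f' g' hu' hr _ h1
  have h2 : B.mulVec (x - tauL B f g (B.mulVec x)) = 0 := by
    rw [hy, Matrix.mulVec_mulVec, hBC, Matrix.zero_mulVec]
  rw [Matrix.mulVec_sub, sub_eq_zero] at h2
  exact h2.symm

/-- Kernel equals range when both maps have unit minors and sizes add up. -/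
theorem ker_eq_range {a n b r r' : ℕ} (B : Matrix (Fin a) (Fin n) S)
    (C : Matrix (Fin n) (Fin b) S) (hBC : B * C = 0)
    (f : Fin r → Fin a) (g : Fin r → Fin n) (hu : IsUnit (B.submatrix f g).det)
    (f' : Fin r' → Fin n) (g' : Fin r' → Fin b) (hu' : IsUnit (C.submatrix f' g').det)
    (hr : r' + r = n) : LinearMap.ker B.mulVecLin = LinearMap.range C.mulVecLin := by
  apply le_antisymm
  · intro z hz
    have hz' : B.mulVec z = 0 := hz
    have h1 : (B.submatrix f id).mulVec z = 0 := by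
      have e2 : (B.mulVec z) ∘ f = (B.submatrix f id).mulVec z := rfl
      rw [← e2, hz']
      rfl
    obtain ⟨y, hy⟩ := exists_mulVec_eq B C hBC f g hu f' g' hu' hr _ h1
    exact ⟨y, hy.symm⟩
  · rintro _ ⟨y, rfl⟩
    show B.mulVec (C.mulVec y) = 0
    rw [Matrix.mulVec_mulVec, hBC, Matrix.zero_mulVec]

/-- Top case: a unit minor using all columns forces injectivity. -/
theorem ker_eq_bot {a n r : ℕ} (B : Matrix (Fin a) (Fin n) S)
    (f : Fin r → Fin a) (g : Fin r → Fin n) (hu : IsUnit (B.submatrix f g).det)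
    (hr : r = n) : LinearMap.ker B.mulVecLin = ⊥ := by
  have h := ker_eq_range B (0 : Matrix (Fin n) (Fin 0) S) (by simp) f g hu
    (Fin.elim0 : Fin 0 → Fin n) (Fin.elim0 : Fin 0 → Fin 0) (by simp) (by omega)
  rw [h]
  apply le_antisymm _ bot_le
  rintro _ ⟨y, rfl⟩
  simp

/-- `B = B τ B` in the top case. -/
theorem mulVec_tauL_top {a n r : ℕ} (B : Matrix (Fin a) (Fin n) S)
    (f : Fin r → Fin a) (g : Fin r → Fin n) (hu : IsUnit (B.submatrix f g).det)
    (hr : r = n) (x : Fin n → S) :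
    B.mulVec (tauL B f g (B.mulVec x)) = B.mulVec x :=
  mulVec_tauL B (0 : Matrix (Fin n) (Fin 0) S) (by simp) f g hu
    (Fin.elim0 : Fin 0 → Fin n) (Fin.elim0 : Fin 0 → Fin 0) (by simp) (by omega) x

end general

section opcycles

open Abelian

variable {S : Type u} [CommRing S]

/-- `Ext^q(N, Q_d) = 0` when `d + 1 ≤ e` and `A d = (A d) τ (A d)`. -/
theorem ext_opcycles_eq_zero_of_tau (e : ℕ) (n : ℕ → ℕ)
    (A : (i : ℕ) → Matrix (Fin (n i)) (Fin (n (i + 1))) S)
    (hA : ∀ i, i + 2 ≤ e → A i * A (i + 1) = 0) (d : ℕ) (hd : d + 1 ≤ e) {r : ℕ}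
    (f : Fin r → Fin (n d)) (g : Fin r → Fin (n (d + 1)))
    (hτ : ∀ x, (A d).mulVec (tauL (A d) f g ((A d).mulVec x)) = (A d).mulVec x)
    (N : ModuleCat.{u} S) (q : ℕ) :
    (∀ x : Ext N ((cplx e n A hA).X d) q, x = 0) →
      ∀ x : Ext N ((cplx e n A hA).opcycles d) q, x = 0 := by
  set K := cplx e n A hA with hK
  intro hX x
  let τ : K.X d ⟶ K.X (d + 1) := ModuleCat.ofHom (tauL (A d) f g)
  let ρ : K.X d ⟶ K.X d := 𝟙 _ - τ ≫ K.d (d + 1) d
  have hdρ : K.d (d + 1) d ≫ ρ = 0 := by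
    simp only [ρ, Preadditive.comp_sub, Category.comp_id]
    rw [sub_eq_zero, cplx_d_of_le e n A hA d hd]
    ext1
    apply LinearMap.ext
    intro y
    exact (hτ y).symm
  let σ : K.opcycles d ⟶ K.X d := K.descOpcycles ρ (d + 1) (by simp) hdρ
  have hσ : σ ≫ K.pOpcycles d = 𝟙 _ := by
    rw [← cancel_epi (K.pOpcycles d)]
    simp only [σ, HomologicalComplex.p_descOpcycles_assoc, Category.comp_id]
    simp only [ρ, Preadditive.sub_comp, Category.id_comp, Category.assoc,
      HomologicalComplex.d_pOpcycles, comp_zero, sub_zero]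
  exact Groth.Agent.Lib.H29BE2.ext_eq_zero_of_retract (K.pOpcycles d) σ hσ q hX x

/-- `Ext^q(N, Q_e) = 0` (top case: `d_{e+1} = 0`). -/
theorem ext_opcycles_eq_zero_top (e : ℕ) (n : ℕ → ℕ)
    (A : (i : ℕ) → Matrix (Fin (n i)) (Fin (n (i + 1))) S)
    (hA : ∀ i, i + 2 ≤ e → A i * A (i + 1) = 0)
    (N : ModuleCat.{u} S) (q : ℕ) :
    (∀ x : Ext N ((cplx e n A hA).X e) q, x = 0) →
      ∀ x : Ext N ((cplx e n A hA).opcycles e) q, x = 0 := by
  set K := cplx e n A hA with hK
  intro hX x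
  have hd : K.d (e + 1) e = 0 := cplx_d_of_not_le e n A hA e (by omega)
  have hiso : IsIso (K.pOpcycles e) := K.isIso_pOpcycles (e + 1) e (by simp) hd
  exact Groth.Agent.Lib.H29BE2.ext_eq_zero_of_retract (K.pOpcycles e) (inv (K.pOpcycles e))
    (IsIso.inv_hom_id _) q hX x

end opcycles

end Groth.Agent.Lib.H29BE3
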