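import Groth.Agent.Lib.H87AB

/-!
# Buchsbaum–Eisenbud, necessity: the local analysis (helper29)

Over a Noetherian local ring `S` of depth `g`, for an exact complex of finite free modules
`0 → S^{n (m+1)} → ⋯ → S^{n 1} → S^{n 0}` given by matrices `B j`, the cokernels of `B j` are
projective for `g ≤ j ≤ m`, the images of `B j` are direct summands, and their ranks are the
expected alternating sums.
-/

set_option autoImplicit false
universe u
open CategoryTheory Abelian IsLocalRing

namespace Groth.Agent.Lib.H29BEN1

section PD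

variable {S : Type u} [CommRing S]

/-- module-level projective-dimension predicate -/
abbrev PD (S : Type u) [CommRing S] (M : Type u) [AddCommGroup M] [Module S M] (n : ℕ) : Prop :=
  HasProjectiveDimensionLT (ModuleCat.of S M) n

theorem pd_of_projective (M : Type u) [AddCommGroup M] [Module S M] [Module.Projective S M] :
    PD S M 1 := by
  have : Projective (ModuleCat.of S M) := (IsProjective.iff_projective M).mp inferInstance
  exact projective_iff_hasProjectiveDimensionLT_one.mp this

theorem projective_of_pd (M : Type u) [AddCommGroup M] [Module S M] (h : PD S M 1) :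
    Module.Projective S M := by
  have : Projective (ModuleCat.of S M) := projective_iff_hasProjectiveDimensionLT_one.mpr h
  exact (IsProjective.iff_projective M).mpr this

theorem pd_mono (M : Type u) [AddCommGroup M] [Module S M] {a b : ℕ} (hab : a ≤ b)
    (h : PD S M a) : PD S M b :=
  hasProjectiveDimensionLT_of_ge (ModuleCat.of S M) a b hab

theorem pd_shift {X₁ X₂ X₃ : Type u} [AddCommGroup X₁] [Module S X₁] [AddCommGroup X₂]
    [Module S X₂] [AddCommGroup X₃] [Module S X₃] [Module.Projective S X₂]
    (f : X₁ →ₗ[S] X₂) (g : X₂ →ₗ[S] X₃) (hf : Function.Injective f)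
    (hg : Function.Surjective g) (hfg : Function.Exact f g) (n : ℕ) :
    PD S X₃ (n + 2) ↔ PD S X₁ (n + 1) := by
  have hS : (ModuleCat.shortComplexOfCompEqZero f g hfg.linearMap_comp_eq_zero).ShortExact :=
    ModuleCat.shortComplex_shortExact _ hfg hf hg
  have hproj : Projective (ModuleCat.of S X₂) :=
    (IsProjective.iff_projective X₂).mp inferInstance
  exact hS.hasProjectiveDimensionLT_X₃_iff n hproj

/-- `0 → Y/im φ' → X → X/im φ → 0` when `ker φ = im φ'`. -/
theorem pd_coker_shift {X Y Z : Type u} [AddCommGroup X] [Module S X] [AddCommGroup Y]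
    [Module S Y] [AddCommGroup Z] [Module S Z] [Module.Projective S X]
    (φ : Y →ₗ[S] X) (φ' : Z →ₗ[S] Y) (h : LinearMap.ker φ = LinearMap.range φ') (n : ℕ) :
    PD S (X ⧸ LinearMap.range φ) (n + 2) ↔ PD S (Y ⧸ LinearMap.range φ') (n + 1) := by
  have hle : LinearMap.range φ' ≤ LinearMap.ker φ := h.ge
  refine pd_shift ((LinearMap.range φ').liftQ φ hle) (LinearMap.range φ).mkQ ?_
    (Submodule.mkQ_surjective _) ?_ n
  · rw [← LinearMap.ker_eq_bot]
    exact Submodule.ker_liftQ_eq_bot _ _ _ h.le
  · intro y
    rw [Submodule.mkQ_apply, Submodule.Quotient.mk_eq_zero, ← LinearMap.coe_range,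
      SetLike.mem_coe, Submodule.range_liftQ]

/-- `0 → Y → X → X/im φ → 0` when `φ` is injective. -/
theorem pd_coker_top {X Y : Type u} [AddCommGroup X] [Module S X] [AddCommGroup Y]
    [Module S Y] [Module.Projective S X]
    (φ : Y →ₗ[S] X) (h : LinearMap.ker φ = ⊥) (n : ℕ) :
    PD S (X ⧸ LinearMap.range φ) (n + 2) ↔ PD S Y (n + 1) := by
  refine pd_shift φ (LinearMap.range φ).mkQ (LinearMap.ker_eq_bot.mp h)
    (Submodule.mkQ_surjective _) ?_ n
  intro y
  rw [Submodule.mkQ_apply, Submodule.Quotient.mk_eq_zero, ← LinearMap.coe_range,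
    SetLike.mem_coe]

end PD

section Compl

variable {S : Type u} [CommRing S]

theorem exists_isCompl_of_projective_quotient {X : Type u} [AddCommGroup X] [Module S X]
    (p : Submodule S X) [Module.Projective S (X ⧸ p)] : ∃ q : Submodule S X, IsCompl p q := by
  obtain ⟨s, hs⟩ := Module.projective_lifting_property p.mkQ LinearMap.id
    (Submodule.mkQ_surjective p)
  have hs' : ∀ y, p.mkQ (s y) = y := fun y => LinearMap.congr_fun hs y
  refine ⟨LinearMap.range s, ?_, ?_⟩
  · rw [Submodule.disjoint_def]
    rintro x hx ⟨y, rfl⟩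
    have h0 : p.mkQ (s y) = 0 := by
      rw [Submodule.mkQ_apply, Submodule.Quotient.mk_eq_zero]; exact hx
    rw [hs'] at h0
    rw [h0, map_zero]
  · rw [codisjoint_iff, eq_top_iff]
    intro x _
    have hx : x - s (p.mkQ x) ∈ p := by
      rw [← Submodule.Quotient.mk_eq_zero, ← Submodule.mkQ_apply, map_sub, hs', sub_self]
    have hx2 : x = (x - s (p.mkQ x)) + s (p.mkQ x) := by abel
    rw [hx2]
    exact Submodule.add_mem_sup hx ⟨_, rfl⟩

variable [IsLocalRing S] [IsNoetherianRing S]

theorem free_of_isCompl {X : Type u} [AddCommGroup X] [Module S X] [Module.Free S X]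
    [Module.Finite S X] (p q : Submodule S X) (h : IsCompl p q) : Module.Free S p := by
  have : Module.Projective S p :=
    Module.Projective.of_split p.subtype (Submodule.linearProjOfIsCompl p q h)
      (LinearMap.ext fun x => by
        rw [LinearMap.comp_apply, Submodule.subtype_apply, LinearMap.id_apply]
        exact Submodule.linearProjOfIsCompl_apply_left h x)
  exact Module.free_of_flat_of_isLocalRing

theorem finrank_add_of_isCompl {X : Type u} [AddCommGroup X] [Module S X] [Module.Free S X]
    [Module.Finite S X] (p q : Submodule S X) (h : IsCompl p q) :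
    Module.finrank S p + Module.finrank S q = Module.finrank S X := by
  haveI := free_of_isCompl p q h
  haveI := free_of_isCompl q p h.symm
  rw [← Module.finrank_prod, LinearEquiv.finrank_eq (Submodule.prodEquivOfIsCompl p q h)]

end Compl

section Local

variable {S : Type u} [CommRing S] [IsLocalRing S] [IsNoetherianRing S]
variable (m : ℕ) (n : ℕ → ℕ) (B : (i : ℕ) → Matrix (Fin (n i)) (Fin (n (i + 1))) S)

/-- cokernel of `B j` -/
abbrev Cok (j : ℕ) : Type u := (Fin (n j) → S) ⧸ LinearMap.range (B j).mulVecLin

variable (htop : LinearMap.ker (B m).mulVecLin = ⊥)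
  (hex : ∀ i, i + 1 ≤ m →
    LinearMap.ker (B i).mulVecLin = LinearMap.range (B (i + 1)).mulVecLin)

omit [IsLocalRing S] [IsNoetherianRing S] in
include htop hex in
theorem pd_cok_down : ∀ k j, j + k = m → PD S (Cok n B j) (k + 2) := by
  intro k
  induction k with
  | zero =>
    intro j hj
    obtain rfl : j = m := by omega
    exact (pd_coker_top (B j).mulVecLin htop 0).mpr (pd_of_projective _)
  | succ k ih =>
    intro j hj
    exact (pd_coker_shift (B j).mulVecLin (B (j + 1)).mulVecLin (hex j (by omega)) (k + 1)).mpr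
      (ih (j + 1) (by omega))

include htop hex in
theorem pd_cok_zero (g : ℕ) (hg : H87AB.IsDepth (R := S) S g) : PD S (Cok n B 0) (g + 1) := by
  have h0 := pd_cok_down m n B htop hex m 0 (by omega)
  by_cases hsub : Subsingleton (Cok n B 0)
  · have hz : Limits.IsZero (ModuleCat.of S (Cok n B 0)) := ModuleCat.isZero_of_subsingleton _
    exact pd_mono _ (Nat.zero_le _) hz.hasProjectiveDimensionLT_zero
  · rw [not_subsingleton_iff_nontrivial] at hsub
    obtain ⟨e₀, -, h1, h2⟩ := H87AB.exists_projectiveDimension_eq (Cok n B 0) (m + 2) h0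
    obtain ⟨hle, -⟩ := H87AB.auslander_buchsbaum_aux g hg e₀ (Cok n B 0) h1 h2
    exact pd_mono _ (by omega) h1

include htop hex in
theorem pd_cok_up (g : ℕ) (hg : H87AB.IsDepth (R := S) S g) :
    ∀ j, j ≤ m → PD S (Cok n B j) ((g - j) + 1) := by
  intro j
  induction j with
  | zero => intro _; exact pd_cok_zero m n B htop hex g hg
  | succ j ih =>
    intro hj
    have h := ih (by omega)
    have hexj := hex j hj
    rcases Nat.eq_zero_or_pos (g - j) with h0 | hpos
    · rw [h0] at h
      have h2 : PD S (Cok n B j) (0 + 2) := pd_mono _ (by omega) h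
      have h3 := (pd_coker_shift (B j).mulVecLin (B (j + 1)).mulVecLin hexj 0).mp h2
      have e : g - (j + 1) = 0 := by omega
      rw [e]; exact h3
    · obtain ⟨t, ht⟩ : ∃ t, g - j = t + 1 := ⟨g - j - 1, by omega⟩
      rw [ht] at h
      have h3 := (pd_coker_shift (B j).mulVecLin (B (j + 1)).mulVecLin hexj t).mp h
      have e : g - (j + 1) = t := by omega
      rw [e]; exact h3

include htop hex in
theorem projective_cok (g : ℕ) (hg : H87AB.IsDepth (R := S) S g) (j : ℕ) (hgj : g ≤ j)
    (hjm : j ≤ m) : Module.Projective S (Cok n B j) := by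
  have h := pd_cok_up m n B htop hex g hg j hjm
  have e : g - j = 0 := by omega
  rw [e] at h
  exact projective_of_pd _ h

include htop hex in
theorem exists_isCompl_range (g : ℕ) (hg : H87AB.IsDepth (R := S) S g) (j : ℕ) (hgj : g ≤ j)
    (hjm : j ≤ m) : ∃ N' : Submodule S (Fin (n j) → S),
      IsCompl (LinearMap.range (B j).mulVecLin) N' := by
  haveI := projective_cok m n B htop hex g hg j hgj hjm
  exact exists_isCompl_of_projective_quotient _

include htop hex in
theorem finrank_range (g : ℕ) (hg : H87AB.IsDepth (R := S) S g) :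
    ∀ k j, j + k = m → g ≤ j →
      (Module.finrank S (LinearMap.range (B j).mulVecLin) : ℤ) =
        ∑ t ∈ Finset.Icc (j + 1) (m + 1), (-1 : ℤ) ^ (t - (j + 1)) * (n t : ℤ) := by
  intro k
  induction k with
  | zero =>
    intro j hj _
    obtain rfl : j = m := by omega
    have e1 := LinearEquiv.ofInjective (B j).mulVecLin (LinearMap.ker_eq_bot.mp htop)
    rw [← LinearEquiv.finrank_eq e1, Module.finrank_fin_fun, Finset.Icc_self,
      Finset.sum_singleton, Nat.sub_self, pow_zero, one_mul]
  | succ k ih =>
    intro j hj hgj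
    have ih' := ih (j + 1) (by omega) (by omega)
    obtain ⟨N', hN'⟩ := exists_isCompl_range m n B htop hex g hg (j + 1) (by omega) (by omega)
    have hexj := hex j (by omega)
    have e1 : LinearMap.range (B j).mulVecLin ≃ₗ[S] N' :=
      (LinearMap.quotKerEquivRange (B j).mulVecLin).symm.trans
        ((Submodule.quotEquivOfEq _ _ hexj).trans (Submodule.quotientEquivOfIsCompl _ _ hN'))
    have h1 := finrank_add_of_isCompl _ _ hN'
    rw [Module.finrank_fin_fun] at h1
    rw [LinearEquiv.finrank_eq e1]
    have h3 : ∑ t ∈ Finset.Icc (j + 1) (m + 1), (-1 : ℤ) ^ (t - (j + 1)) * (n t : ℤ) =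
        (n (j + 1) : ℤ) -
          ∑ t ∈ Finset.Icc (j + 1 + 1) (m + 1), (-1 : ℤ) ^ (t - (j + 1 + 1)) * (n t : ℤ) := by
      rw [Finset.Icc_eq_cons_Ioc (by omega : j + 1 ≤ m + 1), Finset.sum_cons, Nat.sub_self,
        pow_zero, one_mul, ← Finset.Icc_add_one_left_eq_Ioc, sub_eq_add_neg,
        ← Finset.sum_neg_distrib]
      congr 1
      refine Finset.sum_congr rfl fun t ht => ?_
      have ht' : j + 1 + 1 ≤ t := (Finset.mem_Icc.mp ht).1
      have : t - (j + 1) = (t - (j + 1 + 1)) + 1 := by omega
      rw [this, pow_succ]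
      ring
    rw [h3, ← ih']
    have h4 : (Module.finrank S (LinearMap.range (B (j + 1)).mulVecLin) : ℤ) +
        (Module.finrank S N' : ℤ) = (n (j + 1) : ℤ) := by exact_mod_cast h1
    linarith

end Local

end Groth.Agent.Lib.H29BEN1
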