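import Mathlib
import Groth.Prelude.Def_DRing2

/-!
# Morphisms from a bounded above complex of projectives to a shifted module in `D(A)` (helper29)

For a cochain complex `E` of `A`-modules which is K-projective and `K ≅ Q E` in `D(A)`, we build an
`A`-linear surjection `Φ_N : Z^j(Hom(E, N)) → (K ⟶ N[0]⟦i⟧)` (`i + j = 0`), natural in the module `N`,
from the module of degree `j` cocycles (= linear maps `E^j → N` killing the image of `d`).
-/

set_option autoImplicit false
universe u v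
open CategoryTheory
attribute [local instance] HasDerivedCategory.standard

namespace Groth.Agent.Lib.H29PCohExt

variable {A : Type u} [CommRing A]

section Phi

variable (E : CochainComplex (ModuleCat.{u} A) ℤ) (j : ℤ)

/-- degree-`j` cocycles of `Hom(E, N)`: linear maps `E^j → N` vanishing on the image of `d`. -/
def Z (N : Type u) [AddCommGroup N] [Module A N] : Submodule A (E.X j →ₗ[A] N) :=
  LinearMap.ker (LinearMap.lcomp A N (E.d (j - 1) j).hom)

variable {E j}

lemma mem_Z_iff {N : Type u} [AddCommGroup N] [Module A N] (φ : E.X j →ₗ[A] N) :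
    φ ∈ Z E j N ↔ φ ∘ₗ (E.d (j - 1) j).hom = 0 := by
  rw [Z, LinearMap.mem_ker]
  rfl

lemma comp_mem_Z {N N' : Type u} [AddCommGroup N] [Module A N] [AddCommGroup N'] [Module A N']
    (g : N →ₗ[A] N') {φ : E.X j →ₗ[A] N} (hφ : φ ∈ Z E j N) : g ∘ₗ φ ∈ Z E j N' := by
  rw [mem_Z_iff] at hφ ⊢
  rw [LinearMap.comp_assoc, hφ, LinearMap.comp_zero]

/-- the chain map `E → N[-j]` attached to a cocycle -/
noncomputable def toSingle {N : Type u} [AddCommGroup N] [Module A N] (φ : Z E j N) :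
    E ⟶ (HomologicalComplex.single (ModuleCat.{u} A) (ComplexShape.up ℤ) j).obj (ModuleCat.of A N) :=
  HomologicalComplex.mkHomToSingle (ModuleCat.ofHom φ.1) (by
    intro k hk
    have hk' : k = j - 1 := by
      simp only [ComplexShape.up_Rel] at hk
      omega
    subst hk'
    ext x
    exact LinearMap.congr_fun ((mem_Z_iff φ.1).1 φ.2) x)

lemma toSingle_add {N : Type u} [AddCommGroup N] [Module A N] (φ ψ : Z E j N) :
    toSingle (φ + ψ) = toSingle φ + toSingle ψ := by
  apply HomologicalComplex.to_single_hom_ext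
  simp only [toSingle, HomologicalComplex.mkHomToSingle_f, HomologicalComplex.add_f_apply]
  rw [← Preadditive.add_comp]
  rfl

lemma toSingle_comp {N N' : Type u} [AddCommGroup N] [Module A N] [AddCommGroup N'] [Module A N']
    (g : N →ₗ[A] N') (φ : Z E j N) :
    toSingle (⟨g ∘ₗ φ.1, comp_mem_Z g φ.2⟩ : Z E j N') =
      toSingle φ ≫ (HomologicalComplex.single (ModuleCat.{u} A) (ComplexShape.up ℤ) j).map
        (ModuleCat.ofHom g) := by
  apply HomologicalComplex.to_single_hom_ext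
  simp only [toSingle, HomologicalComplex.mkHomToSingle_f, HomologicalComplex.comp_f,
    HomologicalComplex.single_map_f_self, Category.assoc, Iso.inv_hom_id_assoc]
  rfl

lemma exists_toSingle_eq {N : Type u} [AddCommGroup N] [Module A N]
    (ψ : E ⟶ (HomologicalComplex.single (ModuleCat.{u} A) (ComplexShape.up ℤ) j).obj
      (ModuleCat.of A N)) : ∃ φ : Z E j N, toSingle φ = ψ := by
  refine ⟨⟨(ψ.f j ≫ (HomologicalComplex.singleObjXSelf (ComplexShape.up ℤ) j
    (ModuleCat.of A N)).hom).hom, ?_⟩, ?_⟩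
  · rw [mem_Z_iff]
    have h := ψ.comm (j - 1) j
    have h0 : ((HomologicalComplex.single (ModuleCat.{u} A) (ComplexShape.up ℤ) j).obj
      (ModuleCat.of A N)).d (j - 1) j = 0 := by simp
    rw [h0, Limits.comp_zero] at h
    ext x
    have := congrArg (fun f => (f ≫ (HomologicalComplex.singleObjXSelf (ComplexShape.up ℤ) j
      (ModuleCat.of A N)).hom).hom x) h
    simpa using this.symm
  · apply HomologicalComplex.to_single_hom_ext
    simp only [toSingle, HomologicalComplex.mkHomToSingle_f]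
    simp

end Phi

section PhiD

variable (E : CochainComplex (ModuleCat.{u} A) ℤ) {K : Dual.D A}
  (α : DerivedCategory.Q.obj E ≅ K) (i j : ℤ) (hij : i + j = 0)

/-- `N[0]⟦i⟧ ≅ Q (N[-j])` for `i + j = 0`. -/
noncomputable def tgtIso (N : Type u) [AddCommGroup N] [Module A N] :
    (Dual.inD A N)⟦i⟧ ≅ DerivedCategory.Q.obj
      ((HomologicalComplex.single (ModuleCat.{u} A) (ComplexShape.up ℤ) j).obj (ModuleCat.of A N)) :=
  ((DerivedCategory.singleFunctors (ModuleCat.{u} A)).shiftIso i j 0 hij).app (ModuleCat.of A N)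

lemma tgtIso_inv_naturality {N N' : Type u} [AddCommGroup N] [Module A N] [AddCommGroup N']
    [Module A N'] (g : N →ₗ[A] N') :
    DerivedCategory.Q.map ((HomologicalComplex.single (ModuleCat.{u} A) (ComplexShape.up ℤ) j).map
        (ModuleCat.ofHom g)) ≫ (tgtIso i j hij N').inv =
      (tgtIso i j hij N).inv ≫
        ((DerivedCategory.singleFunctor (ModuleCat.{u} A) 0).map (ModuleCat.ofHom g))⟦i⟧' :=
  ((DerivedCategory.singleFunctors (ModuleCat.{u} A)).shiftIso i j 0 hij).inv.naturality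
    (ModuleCat.ofHom g)

/-- the map from cocycles to morphisms in the derived category -/
noncomputable def PhiFun (N : Type u) [AddCommGroup N] [Module A N] (φ : Z E j N) :
    K ⟶ (Dual.inD A N)⟦i⟧ :=
  α.inv ≫ DerivedCategory.Q.map (toSingle φ) ≫ (tgtIso i j hij N).inv

lemma PhiFun_add (N : Type u) [AddCommGroup N] [Module A N] (φ ψ : Z E j N) :
    PhiFun E α i j hij N (φ + ψ) = PhiFun E α i j hij N φ + PhiFun E α i j hij N ψ := by
  simp only [PhiFun, toSingle_add, Functor.map_add, Preadditive.add_comp, Preadditive.comp_add]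

lemma PhiFun_comp {N N' : Type u} [AddCommGroup N] [Module A N] [AddCommGroup N'] [Module A N']
    (g : N →ₗ[A] N') (φ : Z E j N) :
    PhiFun E α i j hij N' ⟨g ∘ₗ φ.1, comp_mem_Z g φ.2⟩ =
      PhiFun E α i j hij N φ ≫
        ((DerivedCategory.singleFunctor (ModuleCat.{u} A) 0).map (ModuleCat.ofHom g))⟦i⟧' := by
  simp only [PhiFun, toSingle_comp, Functor.map_comp, Category.assoc]
  rw [tgtIso_inv_naturality]

lemma PhiFun_smul (N : Type u) [AddCommGroup N] [Module A N] (x : A) (φ : Z E j N) :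
    PhiFun E α i j hij N (x • φ) = x • PhiFun E α i j hij N φ := by
  have h1 : x • φ = ⟨(x • (LinearMap.id : N →ₗ[A] N)) ∘ₗ φ.1, comp_mem_Z _ φ.2⟩ := by
    ext y
    simp
  have h2 : ModuleCat.ofHom (x • (LinearMap.id : N →ₗ[A] N)) = x • 𝟙 (ModuleCat.of A N) := rfl
  rw [h1, PhiFun_comp, h2, Functor.map_smul, Functor.map_smul, CategoryTheory.Functor.map_id,
    CategoryTheory.Functor.map_id, Linear.comp_smul, Category.comp_id]

/-- the `A`-linear map from cocycles to morphisms in the derived category -/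
noncomputable def Phi (N : Type u) [AddCommGroup N] [Module A N] :
    Z E j N →ₗ[A] (K ⟶ (Dual.inD A N)⟦i⟧) where
  toFun := PhiFun E α i j hij N
  map_add' := PhiFun_add E α i j hij N
  map_smul' := PhiFun_smul E α i j hij N

lemma Phi_comp {N N' : Type u} [AddCommGroup N] [Module A N] [AddCommGroup N'] [Module A N']
    (g : N →ₗ[A] N') (φ : Z E j N) :
    Phi E α i j hij N' ⟨g ∘ₗ φ.1, comp_mem_Z g φ.2⟩ =
      Phi E α i j hij N φ ≫
        ((DerivedCategory.singleFunctor (ModuleCat.{u} A) 0).map (ModuleCat.ofHom g))⟦i⟧' :=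
  PhiFun_comp E α i j hij g φ

lemma Phi_surjective [E.IsKProjective] (N : Type u) [AddCommGroup N] [Module A N] :
    Function.Surjective (Phi E α i j hij N) := by
  intro e
  obtain ⟨ψ, hψ⟩ := (CochainComplex.IsKProjective.Qh_map_bijective E
    ((HomotopyCategory.quotient _ _).obj ((HomologicalComplex.single (ModuleCat.{u} A)
      (ComplexShape.up ℤ) j).obj (ModuleCat.of A N)))).surjective
    ((DerivedCategory.quotientCompQhIso _).hom.app E ≫ (α.hom ≫ e ≫ (tgtIso i j hij N).hom) ≫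
      (DerivedCategory.quotientCompQhIso _).inv.app _)
  obtain ⟨χ, rfl⟩ := (HomotopyCategory.quotient _ _).map_surjective ψ
  have h3 : DerivedCategory.Q.map χ = α.hom ≫ e ≫ (tgtIso i j hij N).hom := by
    have := DerivedCategory.quotientCompQhIso_hom_naturality (C := ModuleCat.{u} A) χ
    rw [hψ] at this
    simp only [Category.assoc, Iso.inv_hom_id_app, Category.comp_id] at this
    exact ((cancel_epi _).mp this).symm
  obtain ⟨φ, rfl⟩ := exists_toSingle_eq χ
  refine ⟨φ, ?_⟩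
  show PhiFun E α i j hij N φ = e
  rw [PhiFun, h3]
  simp

end PhiD

section AR

/-- a linear map out of a finite free module with values in `J • ⊤` lies in `J • ⊤`. -/
lemma mem_smul_top_of_forall_mem {F M : Type u} [AddCommGroup F] [Module A F] [Module.Finite A F]
    [Module.Free A F] [AddCommGroup M] [Module A M] (J : Ideal A) (φ : F →ₗ[A] M)
    (h : ∀ f, φ f ∈ J • (⊤ : Submodule A M)) : φ ∈ J • (⊤ : Submodule A (F →ₗ[A] M)) := by
  classical
  let b := Module.Free.chooseBasis A F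
  have h1 : φ = ∑ k, (LinearMap.smulRightₗ (b.coord k) : M →ₗ[A] F →ₗ[A] M) (φ (b k)) := by
    apply b.ext
    intro l
    simp only [LinearMap.coe_sum, Finset.sum_apply, LinearMap.smulRightₗ_apply]
    rw [Finset.sum_eq_single l]
    · simp
    · intro k _ hk
      simp [Ne.symm hk]
    · simp
  rw [h1]
  refine Submodule.sum_mem _ (fun k _ => ?_)
  have h2 : (LinearMap.smulRightₗ (b.coord k) : M →ₗ[A] F →ₗ[A] M) (φ (b k)) ∈
      Submodule.map (LinearMap.smulRightₗ (b.coord k) : M →ₗ[A] F →ₗ[A] M) (J • ⊤) :=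
    Submodule.mem_map_of_mem (h _)
  rw [Submodule.map_smul''] at h2
  exact Submodule.smul_mono le_rfl le_top h2

variable [IsNoetherianRing A] (I : Ideal A)

lemma exists_vanish {F M : Type u} {X : Type v} [AddCommGroup F] [Module A F] [Module.Finite A F]
    [Module.Free A F] [AddCommGroup M] [Module A M] [Module.Finite A M] [AddCommGroup X] [Module A X]
    (Z : Submodule A (F →ₗ[A] M)) (Ψ : Z →ₗ[A] X)
    (htors : ∀ z, ∃ n : ℕ, ∀ x ∈ I ^ n, x • Ψ z = 0) :
    ∃ n₀ : ℕ, ∀ (φ : F →ₗ[A] M) (hφ : φ ∈ Z), (∀ f, φ f ∈ I ^ n₀ • (⊤ : Submodule A M)) →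
      Ψ ⟨φ, hφ⟩ = 0 := by
  classical
  haveI : IsNoetherian A (F →ₗ[A] M) := isNoetherian_of_isNoetherianRing_of_finite A _
  -- uniform torsion exponent
  have hfg : (⊤ : Submodule A Z).FG := Module.Finite.fg_top
  obtain ⟨S, hS⟩ := hfg
  choose n hn using htors
  let t := S.sup n
  have htor : ∀ z : Z, ∀ x ∈ I ^ t, x • Ψ z = 0 := by
    intro z
    have hz : z ∈ Submodule.span A (S : Set Z) := by rw [hS]; trivial
    induction hz using Submodule.span_induction with
    | mem s hs =>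
      intro x hx
      exact hn s x (Ideal.pow_le_pow_right (Finset.le_sup (f := n) hs) hx)
    | zero => intro x _; simp
    | add y z _ _ hy hz =>
      intro x hx
      rw [map_add, smul_add, hy x hx, hz x hx, add_zero]
    | smul r y _ hy =>
      intro x hx
      rw [map_smul, smul_comm, hy x hx, smul_zero]
  obtain ⟨k, hk⟩ := Ideal.exists_pow_inf_eq_pow_smul I Z
  refine ⟨k + t, fun φ hφ hval => ?_⟩
  have h1 : φ ∈ I ^ (k + t) • (⊤ : Submodule A (F →ₗ[A] M)) ⊓ Z :=
    ⟨mem_smul_top_of_forall_mem _ φ hval, hφ⟩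
  rw [hk (k + t) (by omega), Nat.add_sub_cancel_left] at h1
  have key : ∀ ψ ∈ I ^ t • (I ^ k • (⊤ : Submodule A (F →ₗ[A] M)) ⊓ Z),
      ∃ h : ψ ∈ Z, Ψ ⟨ψ, h⟩ = 0 := by
    intro ψ hψ
    induction hψ using Submodule.smul_induction_on' with
    | smul r hr z hz =>
      refine ⟨Z.smul_mem r hz.2, ?_⟩
      have : (⟨r • z, Z.smul_mem r hz.2⟩ : Z) = r • ⟨z, hz.2⟩ := rfl
      rw [this, map_smul]
      exact htor _ r hr
    | add x _ y _ hx hy =>
      obtain ⟨hx1, hx2⟩ := hx
      obtain ⟨hy1, hy2⟩ := hy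
      refine ⟨Z.add_mem hx1 hy1, ?_⟩
      have : (⟨x + y, Z.add_mem hx1 hy1⟩ : Z) = ⟨x, hx1⟩ + ⟨y, hy1⟩ := rfl
      rw [this, map_add, hx2, hy2, add_zero]
  obtain ⟨_, h2⟩ := key φ h1
  exact h2

end AR

section Vanish

variable [IsNoetherianRing A] (I : Ideal A)

/-- Derived Artin–Rees + torsion: if all morphisms `K ⟶ M[0]⟦i⟧` are `I`-power torsion (`M` finite,
`K ≅ Q E` with `E` K-projective and `E^j` finite free, `i + j = 0`), then there is `k` such that
every module map `g : N' → M` with values in `I^k M` kills all morphisms `K ⟶ N'[0]⟦i⟧`. -/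
theorem exists_pow_vanish (E : CochainComplex (ModuleCat.{u} A) ℤ) [E.IsKProjective] {K : Dual.D A}
    (α : DerivedCategory.Q.obj E ≅ K) (i j : ℤ) (hij : i + j = 0)
    [Module.Finite A (E.X j)] [Module.Free A (E.X j)]
    (M : Type u) [AddCommGroup M] [Module A M] [Module.Finite A M]
    (htors : ∀ e : K ⟶ (Dual.inD A M)⟦i⟧, ∃ n : ℕ, ∀ x ∈ I ^ n, x • e = 0) :
    ∃ k : ℕ, ∀ (N' : Type u) [AddCommGroup N'] [Module A N'] (g : N' →ₗ[A] M),
      (∀ y, g y ∈ I ^ k • (⊤ : Submodule A M)) → ∀ e : K ⟶ (Dual.inD A N')⟦i⟧,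
        e ≫ ((DerivedCategory.singleFunctor (ModuleCat.{u} A) 0).map (ModuleCat.ofHom g))⟦i⟧' = 0 := by
  obtain ⟨n₀, hn₀⟩ := exists_vanish I (Z E j M) (Phi E α i j hij M) (fun z => htors _)
  refine ⟨n₀, fun N' _ _ g hg e => ?_⟩
  obtain ⟨φ, rfl⟩ := Phi_surjective E α i j hij N' e
  rw [← Phi_comp]
  exact hn₀ _ _ (fun f => hg _)

end Vanish

section Tri

open Pretriangulated

variable {C : Type*} [Category C] [Preadditive C] [Limits.HasZeroObject C] [HasShift C ℤ]
  [∀ n : ℤ, (shiftFunctor C n).Additive] [Pretriangulated C]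

lemma exact₂_shift (T : Triangle C) (hT : T ∈ distTriang C) (i : ℤ) {X : C}
    (e : X ⟶ T.obj₂⟦i⟧) (h : e ≫ T.mor₂⟦i⟧' = 0) :
    ∃ g : X ⟶ T.obj₁⟦i⟧, e = g ≫ T.mor₁⟦i⟧' := by
  have hT' := Triangle.shift_distinguished T hT i
  obtain ⟨g, hg⟩ := Triangle.coyoneda_exact₂ _ hT' e (by
    show e ≫ (i.negOnePow • T.mor₂⟦i⟧') = 0
    rw [Linear.comp_units_smul, h, smul_zero])
  replace hg : e = (show X ⟶ T.obj₁⟦i⟧ from g) ≫ (i.negOnePow • T.mor₁⟦i⟧') := hg
  refine ⟨i.negOnePow • (show X ⟶ T.obj₁⟦i⟧ from g), ?_⟩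
  rw [hg, Linear.comp_units_smul, Linear.units_smul_comp]

lemma exact₃_shift (T : Triangle C) (hT : T ∈ distTriang C) (i : ℤ) {X : C}
    (e : X ⟶ T.obj₃⟦i⟧) (h : e ≫ T.mor₃⟦i⟧' = 0) :
    ∃ g : X ⟶ T.obj₂⟦i⟧, e = g ≫ T.mor₂⟦i⟧' := by
  have hT' := Triangle.shift_distinguished T hT i
  obtain ⟨g, hg⟩ := Triangle.coyoneda_exact₃ _ hT' e (by
    show e ≫ (i.negOnePow • T.mor₃⟦i⟧' ≫ (shiftFunctorComm C 1 i).hom.app T.obj₁) = 0
    rw [Linear.comp_units_smul, reassoc_of% h, Limits.zero_comp, smul_zero])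
  replace hg : e = (show X ⟶ T.obj₂⟦i⟧ from g) ≫ (i.negOnePow • T.mor₂⟦i⟧') := hg
  refine ⟨i.negOnePow • (show X ⟶ T.obj₂⟦i⟧ from g), ?_⟩
  rw [hg, Linear.comp_units_smul, Linear.units_smul_comp]

omit [Limits.HasZeroObject C] [∀ n : ℤ, (shiftFunctor C n).Additive] [Pretriangulated C] in
lemma comp_shift_shift_eq_zero {X Y K : C} (f : X ⟶ Y) (i : ℤ)
    (H : ∀ e : K ⟶ X⟦i + 1⟧, e ≫ f⟦i + 1⟧' = 0) (e : K ⟶ (X⟦(1 : ℤ)⟧)⟦i⟧) :
    e ≫ (f⟦(1 : ℤ)⟧')⟦i⟧' = 0 := by
  have hnat := (shiftFunctorAdd' C 1 i (i + 1) (by omega)).hom.naturality f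
  have h1 : e ≫ (f⟦(1 : ℤ)⟧')⟦i⟧' =
      ((e ≫ (shiftFunctorAdd' C 1 i (i + 1) (by omega)).inv.app X) ≫ f⟦i + 1⟧') ≫
        (shiftFunctorAdd' C 1 i (i + 1) (by omega)).hom.app Y := by
    rw [Category.assoc, Category.assoc, hnat]
    simp
  rw [h1, H, Limits.zero_comp]

end Tri

section SES

variable {M : Type u} [AddCommGroup M] [Module A M]

/-- the short complex `0 → N → M → M/N → 0` -/
noncomputable def sc (N : Submodule A M) : ShortComplex (ModuleCat.{u} A) :=
  ShortComplex.mk (ModuleCat.ofHom N.subtype) (ModuleCat.ofHom N.mkQ) (by ext x; simp)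

lemma sc_shortExact (N : Submodule A M) : (sc N).ShortExact :=
  ModuleCat.shortComplex_shortExact _
    (by
      show Function.Exact N.subtype N.mkQ
      exact LinearMap.exact_subtype_mkQ N)
    N.injective_subtype N.mkQ_surjective

/-- the morphism of short complexes for `N ≤ N'` -/
noncomputable def scMap {N N' : Submodule A M} (h : N ≤ N') : sc N ⟶ sc N' where
  τ₁ := ModuleCat.ofHom (Submodule.inclusion h)
  τ₂ := 𝟙 _
  τ₃ := ModuleCat.ofHom (Submodule.mapQ N N' LinearMap.id h)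
  comm₁₂ := by ext x; rfl
  comm₂₃ := by ext x; rfl

lemma inclusion_mem_smul_top (I : Ideal A) (n k : ℕ)
    (y : ↥(I ^ (n + k) • (⊤ : Submodule A M))) :
    Submodule.inclusion (Submodule.smul_mono_left (Ideal.pow_le_pow_right (Nat.le_add_right n k))) y ∈
      I ^ k • (⊤ : Submodule A ↥(I ^ n • (⊤ : Submodule A M))) := by
  have h1 : (y : M) ∈ I ^ k • (I ^ n • (⊤ : Submodule A M)) := by
    rw [← mul_smul, ← pow_add, add_comm k n]
    exact y.2
  have h2 : Submodule.map (I ^ n • (⊤ : Submodule A M)).subtype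
      (I ^ k • (⊤ : Submodule A ↥(I ^ n • (⊤ : Submodule A M)))) =
      I ^ k • (I ^ n • (⊤ : Submodule A M)) := by
    rw [Submodule.map_smul'', Submodule.map_subtype_top]
  rw [← h2] at h1
  obtain ⟨w, hw, hw'⟩ := h1
  have : w = Submodule.inclusion (Submodule.smul_mono_left
      (Ideal.pow_le_pow_right (Nat.le_add_right n k))) y := Subtype.ext hw'
  rwa [← this]

end SES

end Groth.Agent.Lib.H29PCohExt
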