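import Groth.Statements.S1746
import Groth.Agent.Lib.DDevissage
import Groth.Agent.Lib.H26FinExt
import Groth.Agent.Lib.H29PCohExt
import Groth.Agent.Lib.DSingleHom
import Mathlib.Algebra.Homology.DerivedCategory.KInjective
import Mathlib.Algebra.Homology.DerivedCategory.Ext.Linear

/-!
# Finiteness of `Hom_D(K, L[i])` (helper29)

`FinHom A K L`: all `Hom_{D(A)}(K, L[i])` are finite `A`-modules.  Closure under isomorphisms,
extensions (both variables), shifts; holds for finite modules in single degrees; bounded dévissage.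
-/

set_option autoImplicit false
universe u
open CategoryTheory CategoryTheory.Limits Category Pretriangulated DerivedCategory
  DerivedCategory.TStructure

namespace Groth.Agent.Lib.H29FinHomD

attribute [local instance] HasDerivedCategory.standard

section Alg

variable (A : Type u) [CommRing A]

lemma finite_of_exact [IsNoetherianRing A] {M₁ M₂ M₃ : Type*} [AddCommGroup M₁] [Module A M₁]
    [AddCommGroup M₂] [Module A M₂] [AddCommGroup M₃] [Module A M₃]
    (f : M₁ →ₗ[A] M₂) (g : M₂ →ₗ[A] M₃) (h : ∀ x, g x = 0 → ∃ y, f y = x)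
    [Module.Finite A M₁] [Module.Finite A M₃] : Module.Finite A M₂ := by
  haveI : IsNoetherian A M₃ := inferInstance
  haveI : Module.Finite A (LinearMap.range g) := inferInstance
  haveI : Module.Finite A (LinearMap.range f) := inferInstance
  have hle : LinearMap.ker g ≤ LinearMap.range f := fun x hx => h x hx
  haveI : IsNoetherian A (LinearMap.range f) := inferInstance
  haveI : Module.Finite A (LinearMap.ker g) :=
    Module.Finite.of_injective (Submodule.inclusion hle) (Submodule.inclusion_injective hle)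
  haveI : Module.Finite A (M₂ ⧸ LinearMap.ker g) :=
    Module.Finite.equiv (g.quotKerEquivRange).symm
  exact Module.Finite.of_submodule_quotient (LinearMap.ker g)

end Alg

section D

variable (A : Type u) [CommRing A]

/-- all `Hom(K, L[i])` are finite modules -/
def FinHom (K L : Dual.D A) : Prop := ∀ i : ℤ, Module.Finite A (K ⟶ L⟦i⟧)

variable {A}

lemma finite_precomp {K K' Z : Dual.D A} (φ : K' ⟶ K)
    (hsurj : ∀ g : K' ⟶ Z, ∃ f : K ⟶ Z, φ ≫ f = g) [Module.Finite A (K ⟶ Z)] :
    Module.Finite A (K' ⟶ Z) :=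
  Module.Finite.of_surjective (Linear.leftComp A Z φ) hsurj

lemma finite_postcomp {K Z Z' : Dual.D A} (ψ : Z ⟶ Z')
    (hsurj : ∀ g : K ⟶ Z', ∃ f : K ⟶ Z, f ≫ ψ = g) [Module.Finite A (K ⟶ Z)] :
    Module.Finite A (K ⟶ Z') :=
  Module.Finite.of_surjective (Linear.rightComp A K ψ) hsurj

lemma FinHom.of_iso_left {K K' L : Dual.D A} (e : K ≅ K') (h : FinHom A K L) : FinHom A K' L := by
  intro i
  haveI := h i
  exact finite_precomp e.inv (fun g => ⟨e.hom ≫ g, by simp⟩)

lemma FinHom.of_iso_right {K L L' : Dual.D A} (e : L ≅ L') (h : FinHom A K L) :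
    FinHom A K L' := by
  intro i
  haveI := h i
  exact finite_postcomp (e.hom⟦i⟧') (fun g => ⟨g ≫ e.inv⟦i⟧', by
    rw [assoc, ← Functor.map_comp, e.inv_hom_id, CategoryTheory.Functor.map_id, comp_id]⟩)

lemma FinHom.of_isZero_left {K L : Dual.D A} (hK : IsZero K) : FinHom A K L := by
  intro i
  haveI : Subsingleton (K ⟶ L⟦i⟧) := ⟨fun f g => hK.eq_of_src f g⟩
  infer_instance

lemma FinHom.of_isZero_right {K L : Dual.D A} (hL : IsZero L) : FinHom A K L := by
  intro i
  haveI : Subsingleton (K ⟶ L⟦i⟧) :=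
    ⟨fun f g => ((shiftFunctor (Dual.D A) i).map_isZero hL).eq_of_tgt f g⟩
  infer_instance

variable [IsNoetherianRing A]

lemma FinHom.ext_left (T : Triangle (Dual.D A)) (hT : T ∈ distTriang (Dual.D A)) (L : Dual.D A)
    (h1 : FinHom A T.obj₁ L) (h3 : FinHom A T.obj₃ L) : FinHom A T.obj₂ L := by
  intro i
  haveI := h1 i
  haveI := h3 i
  refine finite_of_exact A (Linear.leftComp A (L⟦i⟧) T.mor₂) (Linear.leftComp A (L⟦i⟧) T.mor₁) ?_
  intro f hf
  obtain ⟨g, hg⟩ := Triangle.yoneda_exact₂ _ hT f hf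
  exact ⟨g, hg.symm⟩

lemma FinHom.ext_right (K : Dual.D A) (T : Triangle (Dual.D A)) (hT : T ∈ distTriang (Dual.D A))
    (h1 : FinHom A K T.obj₁) (h3 : FinHom A K T.obj₃) : FinHom A K T.obj₂ := by
  intro i
  haveI := h1 i
  haveI := h3 i
  refine finite_of_exact A (Linear.rightComp A K (T.mor₁⟦i⟧')) (Linear.rightComp A K (T.mor₂⟦i⟧')) ?_
  intro f hf
  obtain ⟨g, hg⟩ := H29PCohExt.exact₂_shift T hT i f hf
  exact ⟨g, hg.symm⟩

omit [IsNoetherianRing A] in
lemma FinHom.shift_right {K L : Dual.D A} (n : ℤ) (h : FinHom A K L) : FinHom A K (L⟦n⟧) := by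
  intro i
  haveI := h (n + i)
  let e : L⟦n + i⟧ ≅ (L⟦n⟧)⟦i⟧ := (shiftFunctorAdd' (Dual.D A) n i (n + i) rfl).app L
  exact finite_postcomp e.hom (fun g => ⟨g ≫ e.inv, by simp⟩)

omit [IsNoetherianRing A] in
lemma FinHom.shift_left {K L : Dual.D A} (n : ℤ) (h : FinHom A K L) : FinHom A (K⟦n⟧) L := by
  intro i
  haveI := h (i - n)
  let e : (L⟦i - n⟧)⟦n⟧ ≅ L⟦i⟧ :=
    ((shiftFunctorAdd' (Dual.D A) (i - n) n i (by omega)).app L).symm
  haveI : Module.Finite A (K⟦n⟧ ⟶ (L⟦i - n⟧)⟦n⟧) :=
    Module.Finite.of_surjective ((shiftFunctor (Dual.D A) n).mapLinearMap A)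
      (fun g => (shiftFunctor (Dual.D A) n).map_surjective g)
  exact finite_postcomp e.hom (fun g => ⟨g ≫ e.inv, by simp⟩)

/-- finite modules in degree zero -/
lemma finHom_inD (M N : Type u) [AddCommGroup M] [Module A M] [Module.Finite A M]
    [AddCommGroup N] [Module A N] [Module.Finite A N] :
    FinHom A (Dual.inD A M) (Dual.inD A N) := by
  intro i
  by_cases hi : i < 0
  · haveI : Subsingleton (Dual.inD A M ⟶ (Dual.inD A N)⟦i⟧) := by
      refine ⟨fun f g => ?_⟩
      haveI : (Dual.inD A M).IsLE 0 := by dsimp [Dual.inD]; infer_instance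
      haveI : ((Dual.inD A N)⟦i⟧).IsGE (-i) :=
        t.isGE_shift (Dual.inD A N) 0 i (-i) (by omega)
      rw [t.zero f 0 (-i) (by omega), t.zero g 0 (-i) (by omega)]
    infer_instance
  · obtain ⟨k, rfl⟩ := Int.eq_ofNat_of_zero_le (not_lt.mp hi)
    haveI := H26FinExt.finite_ext (R := A) N k M
    exact Module.Finite.equiv (Abelian.Ext.homLinearEquiv (R := A)
      (X := ModuleCat.of A M) (Y := ModuleCat.of A N) (n := k))

/-- finite modules in arbitrary single degrees -/
lemma finHom_single (M N : Type u) [AddCommGroup M] [Module A M] [Module.Finite A M]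
    [AddCommGroup N] [Module A N] [Module.Finite A N] (j q : ℤ) :
    FinHom A ((singleFunctor (ModuleCat.{u} A) j).obj (ModuleCat.of A M))
      ((singleFunctor (ModuleCat.{u} A) q).obj (ModuleCat.of A N)) := by
  have h0 := finHom_inD (A := A) M N
  have h1 := (h0.shift_left (-j)).shift_right (-q)
  have e1 := (DSplit.shiftSingleIso (C := ModuleCat.{u} A) (-j) j (by omega)).app
    (ModuleCat.of A M)
  have e2 := (DSplit.shiftSingleIso (C := ModuleCat.{u} A) (-q) q (by omega)).app
    (ModuleCat.of A N)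
  exact (h1.of_iso_left e1).of_iso_right e2

/-- the property `FinHom K -` -/
def finHomRight (K : Dual.D A) : ObjectProperty (Dual.D A) := fun L => FinHom A K L

/-- the property `FinHom - L` -/
def finHomLeft (L : Dual.D A) : ObjectProperty (Dual.D A) := fun K => FinHom A K L

omit [IsNoetherianRing A] in
instance (K : Dual.D A) : (finHomRight K).IsClosedUnderIsomorphisms where
  of_iso e h := FinHom.of_iso_right e h

omit [IsNoetherianRing A] in
instance (L : Dual.D A) : (finHomLeft L).IsClosedUnderIsomorphisms where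
  of_iso e h := FinHom.of_iso_left e h

/-- a finite module in a single degree against a bounded object with finite cohomology -/
theorem finHom_single_left (M : Type u) [AddCommGroup M] [Module A M] [Module.Finite A M] (j : ℤ)
    (L : Dual.D A) (a b : ℤ) [L.IsGE a] [L.IsLE b]
    (hL : ∀ q : ℤ, Module.Finite A (Dual.HD A L q)) :
    FinHom A ((singleFunctor (ModuleCat.{u} A) j).obj (ModuleCat.of A M)) L := by
  refine DDevissage.devissage
    (finHomRight ((singleFunctor (ModuleCat.{u} A) j).obj (ModuleCat.of A M)))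
    (fun T hT h1 h3 => FinHom.ext_right _ T hT h1 h3)
    (fun Z hZ => FinHom.of_isZero_right hZ) L a b ?_
  intro q _ _
  haveI := hL q
  exact finHom_single M ((homologyFunctor (ModuleCat.{u} A) q).obj L) j q

/-- bounded objects with finite cohomology -/
theorem finHom_of_bounded (K : Dual.D A) (m n : ℤ) [K.IsGE m] [K.IsLE n]
    (hK : ∀ q : ℤ, m ≤ q → q ≤ n → Module.Finite A (Dual.HD A K q))
    (L : Dual.D A) (a b : ℤ) [L.IsGE a] [L.IsLE b]
    (hL : ∀ q : ℤ, Module.Finite A (Dual.HD A L q)) : FinHom A K L := by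
  refine DDevissage.devissage (finHomLeft L)
    (fun T hT h1 h3 => FinHom.ext_left T hT L h1 h3)
    (fun Z hZ => FinHom.of_isZero_left hZ) K m n ?_
  intro q hq1 hq2
  haveI := hK q hq1 hq2
  exact finHom_single_left ((homologyFunctor (ModuleCat.{u} A) q).obj K) q L a b hL

end D

section Vanish

variable {C : Type*} [Category C] [Abelian C] [HasDerivedCategory C]

/-- no nonzero maps in `D(C)` from a complex in degrees `≥ p` to a K-injective complex in
degrees `< p` -/
lemma hom_eq_zero_of_isKInjective (X₀ I : CochainComplex C ℤ) (p : ℤ) [X₀.IsStrictlyGE p]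
    [I.IsKInjective] (hI : ∀ q : ℤ, p ≤ q → IsZero (I.X q)) (φ : Q.obj X₀ ⟶ Q.obj I) :
    φ = 0 := by
  obtain ⟨ψ, hψ⟩ := (CochainComplex.IsKInjective.Qh_map_bijective
    ((HomotopyCategory.quotient _ _).obj X₀) I).2 φ
  obtain ⟨ψ₀, rfl⟩ := (HomotopyCategory.quotient _ _).map_surjective ψ
  have h0 : ψ₀ = 0 := by
    ext q
    by_cases hq : p ≤ q
    · exact (hI q hq).eq_of_tgt _ _
    · exact (X₀.isZero_of_isStrictlyGE p q (by omega)).eq_of_src _ _
  rw [← hψ, h0, Functor.map_zero, Functor.map_zero]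
  rfl

end Vanish

section Main

variable (A : Type u) [CommRing A] [IsNoetherianRing A]

omit [IsNoetherianRing A] in
/-- vanishing of `Hom(X, L[i])` for `X ∈ D^{≥ p}` and `L` a complex of injectives in degrees
`≤ b`, `p + i > b` -/
lemma hom_eq_zero_of_injective_bounded (I : DRing.Cx A) (a b : ℤ)
    (hI : DRing.VanishesOutside I a b) (hinj : DRing.TermwiseInjective I) (L : Dual.D A)
    (e : DRing.toD I ≅ L) (i p : ℤ) (hp : b < p + i) (X : Dual.D A) [X.IsGE p]
    (f : X ⟶ L⟦i⟧) : f = 0 := by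
  haveI : I.IsStrictlyGE a :=
    (CochainComplex.isStrictlyGE_iff _ _).mpr (fun q hq => hI q (Or.inl hq))
  haveI : ∀ n, Injective (I.X n) := fun n =>
    (Module.injective_iff_injective_object A (I.X n)).mp (hinj n)
  haveI : I.IsKInjective := CochainComplex.isKInjective_of_injective I a
  obtain ⟨X₀, hX₀, ⟨eX⟩⟩ := DerivedCategory.exists_iso_Q_obj_of_isGE X p
  let eL : Q.obj (I⟦i⟧) ≅ L⟦i⟧ :=
    (Q.commShiftIso i).app I ≪≫ (shiftFunctor (Dual.D A) i).mapIso e
  have h1 : eX.inv ≫ f ≫ eL.inv = 0 := by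
    apply hom_eq_zero_of_isKInjective X₀ (I⟦i⟧) p
    intro q hq
    exact hI (q + i) (Or.inr (by omega))
  have h2 : f = eX.hom ≫ (eX.inv ≫ f ≫ eL.inv) ≫ eL.hom := by simp
  rw [h2, h1, zero_comp, comp_zero]

theorem finite_hom (K L : Dual.D A) (hK : ∀ i : ℤ, Module.Finite A (Dual.HD A K i))
    (hL : ∀ i : ℤ, Module.Finite A (Dual.HD A L i)) (hLi : DRing.HasFiniteInjDim A L) (i : ℤ) :
    Module.Finite A (K ⟶ L⟦i⟧) := by
  obtain ⟨a, b, I, hI, hinj, ⟨e⟩⟩ := hLi
  haveI : I.IsStrictlyGE a :=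
    (CochainComplex.isStrictlyGE_iff _ _).mpr (fun q hq => hI q (Or.inl hq))
  haveI : I.IsStrictlyLE b :=
    (CochainComplex.isStrictlyLE_iff _ _).mpr (fun q hq => hI q (Or.inr hq))
  haveI : L.IsGE a := t.isGE_of_iso e a
  haveI : L.IsLE b := t.isLE_of_iso e b
  let m := a - i
  let n := max m (b - i)
  have hmn : m ≤ n := le_max_left _ _
  have hbn : b - i ≤ n := le_max_right _ _
  let K₁ := (t.truncGE m).obj K
  let K₂ := (t.truncLE n).obj K₁
  haveI : K₁.IsGE m := by dsimp [K₁]; infer_instance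
  haveI : K₂.IsGE m := by dsimp [K₂]; infer_instance
  haveI : K₂.IsLE n := by dsimp [K₂]; infer_instance
  have hK₂ : ∀ q : ℤ, m ≤ q → q ≤ n → Module.Finite A (Dual.HD A K₂ q) := by
    intro q hq1 hq2
    haveI := hK q
    haveI := DWayOut.isIso_homologyMap_truncGEπ K m q hq1
    haveI := DWayOut.isIso_homologyMap_truncLEι K₁ n q hq2
    let e1 : (homologyFunctor (ModuleCat.{u} A) q).obj K ≅
        (homologyFunctor (ModuleCat.{u} A) q).obj K₁ :=
      asIso ((homologyFunctor (ModuleCat.{u} A) q).map ((t.truncGEπ m).app K))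
    let e2 : (homologyFunctor (ModuleCat.{u} A) q).obj K₂ ≅
        (homologyFunctor (ModuleCat.{u} A) q).obj K₁ :=
      asIso ((homologyFunctor (ModuleCat.{u} A) q).map ((t.truncLEι n).app K₁))
    haveI : Module.Finite A ((homologyFunctor (ModuleCat.{u} A) q).obj K) := hK q
    exact Module.Finite.equiv (e1 ≪≫ e2.symm).toLinearEquiv
  have h2 : FinHom A K₂ L := finHom_of_bounded K₂ m n hK₂ L a b hL
  haveI := h2 i
  -- from K₂ to K₁
  haveI hfin1 : Module.Finite A (K₁ ⟶ L⟦i⟧) := by
    refine Module.Finite.of_injective (Linear.leftComp A (L⟦i⟧) ((t.truncLEι n).app K₁)) ?_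
    rw [← LinearMap.ker_eq_bot, LinearMap.ker_eq_bot']
    intro f hf
    have hT := t.triangleLEGE_distinguished n (n + 1) rfl K₁
    obtain ⟨g, hg⟩ := Triangle.yoneda_exact₂ _ hT f hf
    have hg0 : g = 0 := by
      haveI : ((t.truncGE (n + 1)).obj K₁).IsGE (n + 1) := inferInstance
      exact hom_eq_zero_of_injective_bounded A I a b hI hinj L e i (n + 1) (by omega)
        ((t.truncGE (n + 1)).obj K₁) g
    rw [hg, hg0]
    exact comp_zero
  -- from K₁ to K
  refine Module.Finite.of_surjective (Linear.leftComp A (L⟦i⟧) ((t.truncGEπ m).app K)) ?_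
  intro f
  have hT := t.triangleLEGE_distinguished (m - 1) m (by omega) K
  have hf : ((t.truncLEι (m - 1)).app K) ≫ f = 0 := by
    haveI : ((t.truncLE (m - 1)).obj K).IsLE (m - 1) := inferInstance
    haveI : (L⟦i⟧).IsGE m := t.isGE_shift L a i m (by omega)
    exact t.zero _ (m - 1) m (by omega)
  obtain ⟨g, hg⟩ := Triangle.yoneda_exact₂ _ hT f hf
  exact ⟨g, hg.symm⟩

end Main

end Groth.Agent.Lib.H29FinHomD
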