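import Groth.Prelude.Def_Wider
import Groth.Agent.Lib.H29FinHomD
import Mathlib.Algebra.Homology.DerivedCategory.ShortExact
import Mathlib.CategoryTheory.Linear.Yoneda

/-!
# Biduality for a bounded complex of injectives (helper29)

`J` a bounded complex of injective `A`-modules, `ω = Q J`.  For a module `N` the complex
`T J N = Hom_A(N, J)`; `G i N = Hom_{D(A)}(Q (T J N), ω[i])`.  Evaluation `η_N : N → G 0 N`.
If `A → End(ω)` is bijective and `Hom(ω, ω[i]) = 0` for `i ≠ 0`, then for every finite module `N`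
over Noetherian `A`: `η_N` bijective and `G i N = 0` for `i ≠ 0`.
-/

set_option autoImplicit false
universe u
open CategoryTheory CategoryTheory.Limits Category Pretriangulated DerivedCategory Opposite

namespace Groth.Agent.Lib.H29Bidual

attribute [local instance] HasDerivedCategory.standard

variable (A : Type u) [CommRing A]

/-- `Hom_A(N, -)` -/
abbrev homF (N : ModuleCat.{u} A) : ModuleCat.{u} A ⥤ ModuleCat.{u} A :=
  (linearCoyoneda A (ModuleCat.{u} A)).obj (op N)

variable (J : CochainComplex (ModuleCat.{u} A) ℤ)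

/-- the complex `Hom_A(N, J)` -/
noncomputable def T (N : ModuleCat.{u} A) : CochainComplex (ModuleCat.{u} A) ℤ :=
  ((homF A N).mapHomologicalComplex (ComplexShape.up ℤ)).obj J

/-- contravariant functoriality of `T` -/
noncomputable def Tmap {N N' : ModuleCat.{u} A} (f : N' ⟶ N) : T A J N ⟶ T A J N' :=
  (NatTrans.mapHomologicalComplex ((linearCoyoneda A (ModuleCat.{u} A)).map f.op)
    (ComplexShape.up ℤ)).app J

@[simp]
lemma Tmap_f_apply {N N' : ModuleCat.{u} A} (f : N' ⟶ N) (j : ℤ) (φ : N ⟶ J.X j) :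
    ((Tmap A J f).f j).hom φ = f ≫ φ := rfl

lemma Tmap_comp {N N' N'' : ModuleCat.{u} A} (f : N' ⟶ N) (g : N'' ⟶ N') :
    Tmap A J (g ≫ f) = Tmap A J f ≫ Tmap A J g := by
  ext j φ
  simp

lemma Tmap_id (N : ModuleCat.{u} A) : Tmap A J (𝟙 N) = 𝟙 _ := by
  ext j φ
  simp

lemma T_d_apply (N : ModuleCat.{u} A) (i j : ℤ) (φ : N ⟶ J.X i) :
    ((T A J N).d i j).hom φ = φ ≫ J.d i j := rfl

lemma Tmap_zero (N N' : ModuleCat.{u} A) : Tmap A J (0 : N' ⟶ N) = 0 := by
  ext j φ
  simp
  rfl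

/-- short complex of complexes attached to a short complex of modules -/
noncomputable def TSC (S : ShortComplex (ModuleCat.{u} A)) :
    ShortComplex (CochainComplex (ModuleCat.{u} A) ℤ) :=
  ShortComplex.mk (Tmap A J S.g) (Tmap A J S.f) (by
    rw [← Tmap_comp, S.zero, Tmap_zero])

lemma TSC_shortExact (S : ShortComplex (ModuleCat.{u} A)) (hS : S.ShortExact)
    (hJ : ∀ j, Injective (J.X j)) : (TSC A J S).ShortExact := by
  apply HomologicalComplex.shortExact_of_degreewise_shortExact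
  intro j
  haveI := hS.mono_f
  haveI := hS.epi_g
  refine ShortComplex.ShortExact.mk' ?_ ?_ ?_
  · rw [ShortComplex.moduleCat_exact_iff]
    intro φ hφ
    exact ⟨hS.exact.desc φ hφ, hS.exact.g_desc φ hφ⟩
  · rw [ModuleCat.mono_iff_injective]
    intro φ ψ h
    replace h : S.g ≫ φ = S.g ≫ ψ := h
    exact (cancel_epi S.g).mp h
  · rw [ModuleCat.epi_iff_surjective]
    intro ψ
    haveI := hJ j
    exact ⟨Injective.factorThru ψ S.f, Injective.comp_factorThru ψ S.f⟩

section Tri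

variable {C : Type*} [Category C] [Preadditive C] [HasZeroObject C] [HasShift C ℤ]
  [∀ n : ℤ, (shiftFunctor C n).Additive] [Pretriangulated C]

lemma yoneda_exact₁ (T : Triangle C) (hT : T ∈ distTriang C) {W : C} (φ : T.obj₁ ⟶ W)
    (h : T.mor₃ ≫ φ⟦(1 : ℤ)⟧' = 0) : ∃ ψ : T.obj₂ ⟶ W, φ = T.mor₁ ≫ ψ := by
  have hT' := rot_of_distTriang _ (rot_of_distTriang _ hT)
  obtain ⟨g, hg⟩ := Triangle.yoneda_exact₂ _ hT' (φ⟦(1 : ℤ)⟧') h
  obtain ⟨ψ, rfl⟩ := (shiftFunctor C (1 : ℤ)).map_surjective (X := T.obj₂) (Y := W) g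
  refine ⟨-ψ, ?_⟩
  apply (shiftFunctor C (1 : ℤ)).map_injective
  rw [hg, Functor.map_comp, Functor.map_neg, Preadditive.comp_neg]
  show (-(shiftFunctor C (1 : ℤ)).map T.mor₁) ≫ _ = _
  rw [Preadditive.neg_comp]

lemma yoneda_exact₃' (T : Triangle C) (hT : T ∈ distTriang C) {W : C} (i k : ℤ) (hk : i + 1 = k)
    (ψ : T.obj₃ ⟶ W⟦k⟧) (h : T.mor₂ ≫ ψ = 0) :
    ∃ φ : T.obj₁ ⟶ W⟦i⟧,
      ψ = (T.mor₃ ≫ φ⟦(1 : ℤ)⟧') ≫ (shiftFunctorAdd' C i 1 k hk).inv.app W := by
  obtain ⟨g, hg⟩ := Triangle.yoneda_exact₃ _ hT ψ h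
  obtain ⟨φ, hφ⟩ := (shiftFunctor C (1 : ℤ)).map_surjective
    (g ≫ (shiftFunctorAdd' C i 1 k hk).hom.app W)
  refine ⟨φ, ?_⟩
  rw [assoc, hφ, assoc, Iso.hom_inv_id_app, comp_id]
  exact hg

end Tri

/-- evaluation at `n : N`, a chain map `Hom_A(N, J) ⟶ J` -/
noncomputable def ev (N : ModuleCat.{u} A) (n : N) : T A J N ⟶ J where
  f j := ModuleCat.ofHom
    { toFun := fun φ => φ.hom n
      map_add' := fun φ ψ => by simp
      map_smul' := fun a φ => by simp }
  comm' i j _ := by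
    ext φ
    rfl

@[simp]
lemma ev_f_apply (N : ModuleCat.{u} A) (n : N) (j : ℤ) (φ : N ⟶ J.X j) :
    ((ev A J N n).f j).hom φ = φ.hom n := rfl

lemma ev_add (N : ModuleCat.{u} A) (n n' : N) : ev A J N (n + n') = ev A J N n + ev A J N n' := by
  ext j φ
  simp

lemma ev_smul (N : ModuleCat.{u} A) (a : A) (n : N) : ev A J N (a • n) = a • ev A J N n := by
  ext j φ
  simp

lemma ev_naturality {N N' : ModuleCat.{u} A} (f : N' ⟶ N) (n' : N') :
    ev A J N (f.hom n') = Tmap A J f ≫ ev A J N' n' := by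
  ext j φ
  simp

/-- `G i N = Hom_{D(A)}(Q (Hom_A(N, J)), (Q J)[i])` -/
abbrev G (i : ℤ) (N : ModuleCat.{u} A) : Type (u + 1) := (Q.obj (T A J N) ⟶ (Q.obj J)⟦i⟧)

/-- covariant functoriality of `G i` -/
noncomputable def Gmap (i : ℤ) {N' N : ModuleCat.{u} A} (f : N' ⟶ N) :
    G A J i N' →ₗ[A] G A J i N :=
  Linear.leftComp A _ (Q.map (Tmap A J f))

lemma Gmap_apply (i : ℤ) {N' N : ModuleCat.{u} A} (f : N' ⟶ N) (φ : G A J i N') :
    Gmap A J i f φ = Q.map (Tmap A J f) ≫ φ := rfl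

/-- the biduality map `N → Hom_D(Q (Hom_A(N, J)), (Q J)[0])` -/
noncomputable def eta (N : ModuleCat.{u} A) : N →ₗ[A] G A J 0 N where
  toFun n := Q.map (ev A J N n) ≫ (shiftFunctorZero (Dual.D A) ℤ).inv.app (Q.obj J)
  map_add' n n' := by
    rw [ev_add, Functor.map_add, Preadditive.add_comp]
  map_smul' a n := by
    rw [ev_smul, Functor.map_smul, Linear.smul_comp]
    rfl

lemma eta_apply (N : ModuleCat.{u} A) (n : N) :
    eta A J N n = Q.map (ev A J N n) ≫ (shiftFunctorZero (Dual.D A) ℤ).inv.app (Q.obj J) := rfl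

lemma eta_naturality {N' N : ModuleCat.{u} A} (f : N' ⟶ N) (n' : N') :
    eta A J N (f.hom n') = Gmap A J 0 f (eta A J N' n') := by
  rw [eta_apply, eta_apply, Gmap_apply, ev_naturality, Functor.map_comp, assoc]

section SES

variable (S : ShortComplex (ModuleCat.{u} A)) (hS : S.ShortExact) (hJ : ∀ j, Injective (J.X j))

include hS hJ

/-- the connecting morphism of the triangle attached to a short exact sequence -/
noncomputable def delta : Q.obj (T A J S.X₁) ⟶ (Q.obj (T A J S.X₃))⟦(1 : ℤ)⟧ :=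
  triangleOfSESδ (TSC_shortExact A J S hS hJ)

/-- the triangle `D(X₃) → D(X₂) → D(X₁) → D(X₃)[1]` -/
noncomputable def tri : Triangle (Dual.D A) :=
  Triangle.mk (Q.map (Tmap A J S.g)) (Q.map (Tmap A J S.f)) (delta A J S hS hJ)

lemma tri_distinguished : tri A J S hS hJ ∈ distTriang (Dual.D A) :=
  triangleOfSES_distinguished (TSC_shortExact A J S hS hJ)

lemma exact_X₂ (i : ℤ) (φ : G A J i S.X₂) (h : Gmap A J i S.g φ = 0) :
    ∃ ψ : G A J i S.X₁, Gmap A J i S.f ψ = φ := by
  obtain ⟨ψ, hψ⟩ := Triangle.yoneda_exact₂ _ (tri_distinguished A J S hS hJ) φ h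
  exact ⟨ψ, hψ.symm⟩

lemma exact_X₃ (i : ℤ) (φ : G A J i S.X₃)
    (h : delta A J S hS hJ ≫ φ⟦(1 : ℤ)⟧' = 0) :
    ∃ ψ : G A J i S.X₂, Gmap A J i S.g ψ = φ := by
  obtain ⟨ψ, hψ⟩ := yoneda_exact₁ _ (tri_distinguished A J S hS hJ) φ h
  exact ⟨ψ, hψ.symm⟩

/-- the connecting map `G i X₃ → G (i+1) X₁` -/
noncomputable def bdry (i k : ℤ) (hk : i + 1 = k) (φ : G A J i S.X₃) : G A J k S.X₁ :=
  (delta A J S hS hJ ≫ φ⟦(1 : ℤ)⟧') ≫
    (shiftFunctorAdd' (Dual.D A) i 1 k hk).inv.app (Q.obj J)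

lemma bdry_eq_zero_iff (i k : ℤ) (hk : i + 1 = k) (φ : G A J i S.X₃) :
    bdry A J S hS hJ i k hk φ = 0 ↔ delta A J S hS hJ ≫ φ⟦(1 : ℤ)⟧' = 0 := by
  unfold bdry
  constructor
  · intro h
    rw [← cancel_mono ((shiftFunctorAdd' (Dual.D A) i 1 k hk).inv.app (Q.obj J)), h, zero_comp]
  · intro h
    rw [h, zero_comp]

lemma Gmap_bdry (i k : ℤ) (hk : i + 1 = k) (φ : G A J i S.X₃) :
    Gmap A J k S.f (bdry A J S hS hJ i k hk φ) = 0 := by
  rw [Gmap_apply]
  unfold bdry
  have : Q.map (Tmap A J S.f) ≫ delta A J S hS hJ = 0 :=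
    comp_distTriang_mor_zero₂₃ _ (tri_distinguished A J S hS hJ)
  rw [← assoc, ← assoc, this, zero_comp, zero_comp]

lemma exact_X₁ (i k : ℤ) (hk : i + 1 = k) (ψ : G A J k S.X₁) (h : Gmap A J k S.f ψ = 0) :
    ∃ φ : G A J i S.X₃, bdry A J S hS hJ i k hk φ = ψ := by
  obtain ⟨φ, hφ⟩ := yoneda_exact₃' _ (tri_distinguished A J S hS hJ) i k hk ψ h
  exact ⟨φ, hφ.symm⟩

lemma subsingleton_X₂ (i : ℤ) (h1 : Subsingleton (G A J i S.X₁))
    (h3 : Subsingleton (G A J i S.X₃)) : Subsingleton (G A J i S.X₂) := by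
  refine ⟨fun φ φ' => ?_⟩
  suffices H : ∀ φ : G A J i S.X₂, φ = 0 by rw [H φ, H φ']
  intro φ
  obtain ⟨ψ, hψ⟩ := exact_X₂ A J S hS hJ i φ (Subsingleton.elim _ _)
  rw [← hψ, Subsingleton.elim ψ 0, map_zero]

lemma surjective_Gmap_g (i k : ℤ) (hk : i + 1 = k) (h1 : Subsingleton (G A J k S.X₁)) :
    Function.Surjective (Gmap A J i S.g) := by
  intro φ
  exact exact_X₃ A J S hS hJ i φ
    ((bdry_eq_zero_iff A J S hS hJ i k hk φ).mp (Subsingleton.elim _ _))

lemma subsingleton_X₃ (i k : ℤ) (hk : i + 1 = k) (h2 : Subsingleton (G A J i S.X₂))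
    (h1 : Subsingleton (G A J k S.X₁)) : Subsingleton (G A J i S.X₃) := by
  refine ⟨fun φ φ' => ?_⟩
  suffices H : ∀ φ : G A J i S.X₃, φ = 0 by rw [H φ, H φ']
  intro φ
  obtain ⟨ψ, hψ⟩ := surjective_Gmap_g A J S hS hJ i k hk h1 φ
  rw [← hψ, Subsingleton.elim ψ 0, map_zero]

lemma subsingleton_X₃' (i k : ℤ) (hk : i + 1 = k) (h2 : Subsingleton (G A J i S.X₂))
    (h1 : Function.Injective (Gmap A J k S.f)) : Subsingleton (G A J i S.X₃) := by
  refine ⟨fun φ φ' => ?_⟩
  suffices H : ∀ φ : G A J i S.X₃, φ = 0 by rw [H φ, H φ']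
  intro φ
  have hb : bdry A J S hS hJ i k hk φ = 0 := by
    apply h1
    rw [Gmap_bdry, map_zero]
  obtain ⟨ψ, hψ⟩ := exact_X₃ A J S hS hJ i φ ((bdry_eq_zero_iff A J S hS hJ i k hk φ).mp hb)
  rw [← hψ, Subsingleton.elim ψ 0, map_zero]

lemma injective_Gmap_f (i k : ℤ) (hk : i + 1 = k) (h3 : Subsingleton (G A J i S.X₃)) :
    Function.Injective (Gmap A J k S.f) := by
  rw [← LinearMap.ker_eq_bot, LinearMap.ker_eq_bot']
  intro ψ hψ
  obtain ⟨φ, hφ⟩ := exact_X₁ A J S hS hJ i k hk ψ hψ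
  rw [← hφ, Subsingleton.elim φ 0]
  unfold bdry
  rw [Functor.map_zero, comp_zero, zero_comp]

end SES

lemma Gmap_comp (i : ℤ) {N'' N' N : ModuleCat.{u} A} (f : N'' ⟶ N') (g : N' ⟶ N)
    (φ : G A J i N'') : Gmap A J i (f ≫ g) φ = Gmap A J i g (Gmap A J i f φ) := by
  rw [Gmap_apply, Gmap_apply, Gmap_apply, Tmap_comp, Functor.map_comp, assoc]

lemma Gmap_id (i : ℤ) (N : ModuleCat.{u} A) (φ : G A J i N) : Gmap A J i (𝟙 N) φ = φ := by
  rw [Gmap_apply, Tmap_id, CategoryTheory.Functor.map_id, id_comp]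

/-- biduality holds for `N` -/
structure Good (N : ModuleCat.{u} A) : Prop where
  vanish : ∀ i : ℤ, i ≠ 0 → Subsingleton (G A J i N)
  bij : Function.Bijective (eta A J N)

lemma subsingleton_G_of_iso {N N' : ModuleCat.{u} A} (e : N ≅ N') (i : ℤ)
    (h : Subsingleton (G A J i N)) : Subsingleton (G A J i N') := by
  refine ⟨fun φ φ' => ?_⟩
  suffices H : ∀ φ : G A J i N', φ = 0 by rw [H φ, H φ']
  intro φ
  have : φ = Gmap A J i e.hom (Gmap A J i e.inv φ) := by
    rw [← Gmap_comp, e.inv_hom_id, Gmap_id]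
  rw [this, Subsingleton.elim (Gmap A J i e.inv φ) 0, map_zero]

lemma Good.of_iso {N N' : ModuleCat.{u} A} (e : N ≅ N') (h : Good A J N) : Good A J N' where
  vanish i hi := subsingleton_G_of_iso A J e i (h.vanish i hi)
  bij := by
    constructor
    · intro x y hxy
      have hx : eta A J N (e.inv.hom x) = eta A J N (e.inv.hom y) := by
        rw [eta_naturality, eta_naturality, hxy]
      have := h.bij.1 hx
      have h2 := congrArg e.hom.hom this
      simpa using h2
    · intro φ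
      obtain ⟨n, hn⟩ := h.bij.2 (Gmap A J 0 e.inv φ)
      refine ⟨e.hom.hom n, ?_⟩
      rw [eta_naturality, hn, ← Gmap_comp, e.inv_hom_id, Gmap_id]

lemma Good.of_ses (S : ShortComplex (ModuleCat.{u} A)) (hS : S.ShortExact)
    (hJ : ∀ j, Injective (J.X j)) (h1 : Good A J S.X₁) (h3 : Good A J S.X₃) :
    Good A J S.X₂ where
  vanish i hi := subsingleton_X₂ A J S hS hJ i (h1.vanish i hi) (h3.vanish i hi)
  bij := by
    have hinjf : Function.Injective (Gmap A J 0 S.f) :=
      injective_Gmap_f A J S hS hJ (-1) 0 (by omega) (h3.vanish (-1) (by omega))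
    have hsurjg : Function.Surjective (Gmap A J 0 S.g) :=
      surjective_Gmap_g A J S hS hJ 0 1 (by omega) (h1.vanish 1 (by omega))
    constructor
    · rw [← LinearMap.ker_eq_bot, LinearMap.ker_eq_bot']
      intro x hx
      have h3x : S.g.hom x = 0 := by
        apply h3.bij.1
        rw [eta_naturality, hx, map_zero, map_zero]
      obtain ⟨x₁, rfl⟩ := (ShortComplex.moduleCat_exact_iff _).mp hS.exact x h3x
      have : x₁ = 0 := by
        apply h1.bij.1
        apply hinjf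
        rw [← eta_naturality]
        erw [hx]
        rw [map_zero, map_zero]
      rw [this, map_zero]
    · intro y
      obtain ⟨x₃, hx₃⟩ := h3.bij.2 (Gmap A J 0 S.g y)
      obtain ⟨x₂, rfl⟩ := hS.moduleCat_surjective_g x₃
      have hy : Gmap A J 0 S.g (y - eta A J S.X₂ x₂) = 0 := by
        rw [map_sub, ← eta_naturality]
        erw [hx₃]
        rw [sub_self]
      obtain ⟨ψ, hψ⟩ := exact_X₂ A J S hS hJ 0 _ hy
      obtain ⟨x₁, rfl⟩ := h1.bij.2 ψ
      refine ⟨x₂ + S.f.hom x₁, ?_⟩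
      rw [map_add, eta_naturality, hψ]
      abel

lemma isZero_T_of_subsingleton (N : ModuleCat.{u} A) [Subsingleton N] : IsZero (T A J N) := by
  rw [IsZero.iff_id_eq_zero]
  ext j φ
  have : φ = 0 := by
    apply ModuleCat.hom_ext
    ext x
    rw [Subsingleton.elim x 0, map_zero, map_zero]
  rw [this, map_zero, map_zero]

lemma good_of_subsingleton (N : ModuleCat.{u} A) [Subsingleton N] : Good A J N := by
  have hz : IsZero (Q.obj (T A J N)) := Q.map_isZero (isZero_T_of_subsingleton A J N)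
  have hs : ∀ i, Subsingleton (G A J i N) := fun i => ⟨fun f g => hz.eq_of_src f g⟩
  refine ⟨fun i _ => hs i, ⟨fun x y _ => Subsingleton.elim x y, fun φ => ⟨0, ?_⟩⟩⟩
  haveI := hs 0
  exact Subsingleton.elim _ _

lemma subsingleton_G_of_gt (a b : ℤ) [J.IsStrictlyGE a] [J.IsStrictlyLE b]
    (hJ : ∀ j, Injective (J.X j)) (i : ℤ) (hi : b - a < i) (N : ModuleCat.{u} A) :
    Subsingleton (G A J i N) := by
  haveI : J.IsKInjective := CochainComplex.isKInjective_of_injective J a
  haveI : (J⟦i⟧).IsKInjective := inferInstance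
  haveI : (T A J N).IsStrictlyGE a := by
    rw [CochainComplex.isStrictlyGE_iff]
    intro q hq
    have hz : IsZero (J.X q) := J.isZero_of_isStrictlyGE a q hq
    rw [IsZero.iff_id_eq_zero]
    ext φ
    have : φ = 0 := hz.eq_of_tgt _ _
    rw [this, map_zero, map_zero]
  refine ⟨fun φ φ' => ?_⟩
  suffices H : ∀ φ : G A J i N, φ = 0 by rw [H φ, H φ']
  intro φ
  have h1 : φ ≫ ((Q.commShiftIso i).app J).inv = 0 := by
    apply H29FinHomD.hom_eq_zero_of_isKInjective (T A J N) (J⟦i⟧) a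
    intro q hq
    exact J.isZero_of_isStrictlyLE b (q + i) (by omega)
  rw [← cancel_mono ((Q.commShiftIso i).app J).inv, h1, zero_comp]

instance isIso_ev_one : IsIso (ev A J (ModuleCat.of A A) (1 : A)) := by
  haveI : ∀ j, IsIso ((ev A J (ModuleCat.of A A) (1 : A)).f j) := by
    intro j
    rw [ConcreteCategory.isIso_iff_bijective]
    constructor
    · intro φ ψ h
      replace h : φ.hom (1 : A) = ψ.hom (1 : A) := h
      apply ModuleCat.hom_ext
      apply LinearMap.ext_ring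
      exact h
    · intro x
      refine ⟨ModuleCat.ofHom (LinearMap.toSpanSingleton A _ x), ?_⟩
      show (LinearMap.toSpanSingleton A _ x) (1 : A) = x
      simp
  exact HomologicalComplex.Hom.isIso_of_components _

lemma good_self (hend : Function.Bijective (fun a : A => a • 𝟙 (Q.obj J)))
    (hext : ∀ i : ℤ, i ≠ 0 → Subsingleton (Q.obj J ⟶ (Q.obj J)⟦i⟧)) :
    Good A J (ModuleCat.of A A) := by
  let e : Q.obj (T A J (ModuleCat.of A A)) ≅ Q.obj J :=
    asIso (Q.map (ev A J (ModuleCat.of A A) (1 : A)))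
  refine ⟨fun i hi => ?_, ?_⟩
  · haveI := hext i hi
    refine ⟨fun φ φ' => ?_⟩
    rw [← cancel_epi e.inv]
    exact Subsingleton.elim _ _
  · have key : ∀ a : A, eta A J (ModuleCat.of A A) a =
        e.hom ≫ (a • 𝟙 (Q.obj J)) ≫ (shiftFunctorZero (Dual.D A) ℤ).inv.app (Q.obj J) := by
      intro a
      rw [eta_apply]
      have : ev A J (ModuleCat.of A A) a = a • ev A J (ModuleCat.of A A) (1 : A) := by
        rw [← ev_smul]
        congr 1
        simp
      rw [this, Functor.map_smul, Linear.smul_comp, Linear.smul_comp, id_comp,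
        Linear.comp_smul]
      rfl
    constructor
    · intro a a' h
      rw [key, key, cancel_epi, cancel_mono] at h
      exact hend.1 h
    · intro φ
      obtain ⟨a, ha⟩ := hend.2 (e.inv ≫ φ ≫ (shiftFunctorZero (Dual.D A) ℤ).hom.app (Q.obj J))
      refine ⟨a, ?_⟩
      rw [key]
      replace ha : a • 𝟙 (Q.obj J) =
        e.inv ≫ φ ≫ (shiftFunctorZero (Dual.D A) ℤ).hom.app (Q.obj J) := ha
      rw [ha]
      simp

lemma good_prod (hJ : ∀ j, Injective (J.X j)) (N M : Type u) [AddCommGroup N] [Module A N]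
    [AddCommGroup M] [Module A M] (hN : Good A J (ModuleCat.of A N))
    (hM : Good A J (ModuleCat.of A M)) : Good A J (ModuleCat.of A (N × M)) := by
  let S : ShortComplex (ModuleCat.{u} A) :=
    ShortComplex.mk (ModuleCat.ofHom (LinearMap.inl A N M)) (ModuleCat.ofHom (LinearMap.snd A N M))
      (by ext x; simp)
  have hS : S.ShortExact := by
    refine ShortComplex.ShortExact.mk' ?_ ?_ ?_
    · rw [ShortComplex.moduleCat_exact_iff]
      rintro ⟨x, y⟩ hxy
      replace hxy : y = 0 := hxy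
      subst hxy
      exact ⟨x, rfl⟩
    · rw [ModuleCat.mono_iff_injective]
      exact LinearMap.inl_injective
    · rw [ModuleCat.epi_iff_surjective]
      exact LinearMap.snd_surjective
  exact Good.of_ses A J S hS hJ hN hM

lemma good_fin (hJ : ∀ j, Injective (J.X j))
    (hend : Function.Bijective (fun a : A => a • 𝟙 (Q.obj J)))
    (hext : ∀ i : ℤ, i ≠ 0 → Subsingleton (Q.obj J ⟶ (Q.obj J)⟦i⟧)) (n : ℕ) :
    Good A J (ModuleCat.of A (Fin n → A)) := by
  induction n with
  | zero => exact good_of_subsingleton A J _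
  | succ n ih =>
    have h1 := good_prod A J hJ A (Fin n → A) (good_self A J hend hext) ih
    exact h1.of_iso A J (Fin.consLinearEquiv A (fun _ : Fin (n + 1) => A)).toModuleIso

/-- the short complex `ker f → F → N` -/
noncomputable def presSC {F N : Type u} [AddCommGroup F] [Module A F] [AddCommGroup N] [Module A N]
    (f : F →ₗ[A] N) : ShortComplex (ModuleCat.{u} A) :=
  ShortComplex.mk (ModuleCat.ofHom (LinearMap.ker f).subtype) (ModuleCat.ofHom f)
    (by ext x; exact x.2)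

lemma presSC_shortExact {F N : Type u} [AddCommGroup F] [Module A F] [AddCommGroup N] [Module A N]
    (f : F →ₗ[A] N) (hf : Function.Surjective f) : (presSC A f).ShortExact := by
  refine ShortComplex.ShortExact.mk' ?_ ?_ ?_
  · rw [ShortComplex.moduleCat_exact_iff]
    intro x hx
    exact ⟨⟨x, hx⟩, rfl⟩
  · rw [ModuleCat.mono_iff_injective]
    exact Subtype.val_injective
  · rw [ModuleCat.epi_iff_surjective]
    exact hf

section Main

variable [IsNoetherianRing A] (a b : ℤ) [J.IsStrictlyGE a] [J.IsStrictlyLE b]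
  (hJ : ∀ j, Injective (J.X j))
  (hend : Function.Bijective (fun a : A => a • 𝟙 (Q.obj J)))
  (hext : ∀ i : ℤ, i ≠ 0 → Subsingleton (Q.obj J ⟶ (Q.obj J)⟦i⟧))

include a b hJ hend hext

lemma vanish_pos_aux : ∀ (k : ℕ) (s : ℤ), 1 ≤ s → b - a < s + k →
    ∀ (N : Type u) [AddCommGroup N] [Module A N] [Module.Finite A N],
      Subsingleton (G A J s (ModuleCat.of A N)) := by
  intro k
  induction k with
  | zero =>
    intro s _ hs N _ _ _
    exact subsingleton_G_of_gt A J a b hJ s (by simpa using hs) _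
  | succ k ih =>
    intro s hs1 hs N _ _ _
    obtain ⟨n, f, hf⟩ := Module.Finite.exists_fin' A N
    exact subsingleton_X₃ A J (presSC A f) (presSC_shortExact A f hf) hJ s (s + 1) rfl
      ((good_fin A J hJ hend hext n).vanish s (by omega))
      (ih (s + 1) (by omega) (by push_cast at hs; omega) (LinearMap.ker f))

lemma vanish_pos (s : ℤ) (hs : 1 ≤ s) (N : Type u) [AddCommGroup N] [Module A N]
    [Module.Finite A N] : Subsingleton (G A J s (ModuleCat.of A N)) :=
  vanish_pos_aux A J a b hJ hend hext (b - a).toNat s hs (by omega) N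

lemma eta_surjective (N : Type u) [AddCommGroup N] [Module A N] [Module.Finite A N] :
    Function.Surjective (eta A J (ModuleCat.of A N)) := by
  obtain ⟨n, f, hf⟩ := Module.Finite.exists_fin' A N
  intro φ
  obtain ⟨ψ, hψ⟩ := surjective_Gmap_g A J (presSC A f) (presSC_shortExact A f hf) hJ 0 1 rfl
    (vanish_pos A J a b hJ hend hext 1 le_rfl (LinearMap.ker f)) φ
  obtain ⟨x, rfl⟩ := (good_fin A J hJ hend hext n).bij.2 ψ
  refine ⟨f x, ?_⟩
  rw [← hψ]
  exact eta_naturality A J (ModuleCat.ofHom f) x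

lemma eta_injective (N : Type u) [AddCommGroup N] [Module A N] [Module.Finite A N] :
    Function.Injective (eta A J (ModuleCat.of A N)) := by
  obtain ⟨n, f, hf⟩ := Module.Finite.exists_fin' A N
  rw [← LinearMap.ker_eq_bot, LinearMap.ker_eq_bot']
  intro y hy
  obtain ⟨x, rfl⟩ := hf y
  have h1 : Gmap A J 0 (presSC A f).g (eta A J (ModuleCat.of A (Fin n → A)) x) = 0 :=
    (eta_naturality A J (ModuleCat.ofHom f) x).symm.trans hy
  obtain ⟨ψ, hψ⟩ := exact_X₂ A J (presSC A f) (presSC_shortExact A f hf) hJ 0 _ h1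
  obtain ⟨z, rfl⟩ := eta_surjective A J a b hJ hend hext (LinearMap.ker f) ψ
  have h2 : eta A J (ModuleCat.of A (Fin n → A)) (z : Fin n → A) =
      eta A J (ModuleCat.of A (Fin n → A)) x := by
    rw [← hψ]
    exact eta_naturality A J (presSC A f).f z
  have h3 := (good_fin A J hJ hend hext n).bij.1 h2
  rw [← h3]
  exact z.2

lemma vanish_neg : ∀ (k : ℕ) (N : Type u) [AddCommGroup N] [Module A N] [Module.Finite A N],
    Subsingleton (G A J (-(k + 1 : ℤ)) (ModuleCat.of A N)) := by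
  intro k
  induction k with
  | zero =>
    intro N _ _ _
    obtain ⟨n, f, hf⟩ := Module.Finite.exists_fin' A N
    refine subsingleton_X₃' A J (presSC A f) (presSC_shortExact A f hf) hJ _ 0 (by simp)
      ((good_fin A J hJ hend hext n).vanish _ (by simp)) ?_
    rw [← LinearMap.ker_eq_bot, LinearMap.ker_eq_bot']
    intro ψ hψ
    obtain ⟨z, rfl⟩ := eta_surjective A J a b hJ hend hext (LinearMap.ker f) ψ
    have h2 : eta A J (ModuleCat.of A (Fin n → A)) (z : Fin n → A) = 0 :=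
      (eta_naturality A J (presSC A f).f z).trans hψ
    have h3 : (z : Fin n → A) = 0 := by
      apply (good_fin A J hJ hend hext n).bij.1
      rw [h2, map_zero]
    have : z = 0 := Subtype.ext h3
    rw [this, map_zero]
    rfl
  | succ k ih =>
    intro N _ _ _
    obtain ⟨n, f, hf⟩ := Module.Finite.exists_fin' A N
    refine subsingleton_X₃ A J (presSC A f) (presSC_shortExact A f hf) hJ _ (-(k + 1 : ℤ))
      (by push_cast; ring)
      ((good_fin A J hJ hend hext n).vanish _ (by push_cast; omega)) ?_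
    exact_mod_cast ih (LinearMap.ker f)

/-- **Biduality** for finite modules. -/
theorem good_of_finite (N : Type u) [AddCommGroup N] [Module A N] [Module.Finite A N] :
    Good A J (ModuleCat.of A N) := by
  refine ⟨fun i hi => ?_, eta_injective A J a b hJ hend hext N,
    eta_surjective A J a b hJ hend hext N⟩
  rcases lt_or_gt_of_ne hi with h | h
  · obtain ⟨k, hk⟩ : ∃ k : ℕ, i = -(k + 1 : ℤ) := ⟨(-i - 1).toNat, by omega⟩
    rw [hk]
    exact vanish_neg A J a b hJ hend hext k N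
  · exact vanish_pos A J a b hJ hend hext i (by omega) N

end Main

end Groth.Agent.Lib.H29Bidual
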