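/-
Helper library (helper29): the sum over all column permutations of the signed product of the
top-left and bottom-right block minors, and the sign of a shuffle permutation.
-/
import Mathlib.GroupTheory.Perm.Fin
import Mathlib.LinearAlgebra.Matrix.Permutation
import Mathlib.LinearAlgebra.Matrix.Determinant.Basic
import Mathlib.Data.Finset.Sort
import Mathlib.Algebra.BigOperators.Fin

set_option autoImplicit false


namespace Groth.Agent.Lib.H29BlockDet

open Finset

/-- Block Laplace sum: summing `sign π · (top-left p×p minor) · (bottom-right r×r minor)` of the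
column-permuted matrix over all permutations gives `p! r! det N`. -/
theorem block_sum {k : Type*} [CommRing k] (p r : ℕ)
    (N : Matrix (Fin (p + r)) (Fin (p + r)) k) :
    ∑ π : Equiv.Perm (Fin (p + r)), (((Equiv.Perm.sign π : ℤˣ) : ℤ) : k) *
      (Matrix.of fun i j : Fin p => N (Fin.castAdd r i) (π.symm (Fin.castAdd r j))).det *
      (Matrix.of fun i j : Fin r => N (Fin.natAdd p i) (π.symm (Fin.natAdd p j))).det =
    ((p.factorial * r.factorial : ℕ) : k) * N.det := by
  classical
  let ρ : Equiv.Perm (Fin p) → Equiv.Perm (Fin r) → Equiv.Perm (Fin (p + r)) :=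
    fun σ τ => finSumFinEquiv.permCongr (Equiv.Perm.sumCongr σ τ)
  have hρl : ∀ σ τ j, ρ σ τ (Fin.castAdd r j) = Fin.castAdd r (σ j) := by
    intro σ τ j
    simp [ρ, Equiv.permCongr_apply]
  have hρr : ∀ σ τ j, ρ σ τ (Fin.natAdd p j) = Fin.natAdd p (τ j) := by
    intro σ τ j
    simp [ρ, Equiv.permCongr_apply]
  have hρsign : ∀ σ τ, Equiv.Perm.sign (ρ σ τ) = Equiv.Perm.sign σ * Equiv.Perm.sign τ := by
    intro σ τ
    simp [ρ]
  have hs : ∀ s : ℤˣ, ((s : ℤ) : k) * ((s : ℤ) : k) = 1 := by
    intro s
    rw [← Int.cast_mul, ← Units.val_mul, Int.units_mul_self]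
    simp
  have hexp : ∀ π : Equiv.Perm (Fin (p + r)),
      (Matrix.of fun i j : Fin p => N (Fin.castAdd r i) (π.symm (Fin.castAdd r j))).det *
      (Matrix.of fun i j : Fin r => N (Fin.natAdd p i) (π.symm (Fin.natAdd p j))).det =
      ∑ σ : Equiv.Perm (Fin p), ∑ τ : Equiv.Perm (Fin r),
        (((Equiv.Perm.sign σ : ℤˣ) : ℤ) : k) * (((Equiv.Perm.sign τ : ℤˣ) : ℤ) : k) *
          ∏ l : Fin (p + r), N (ρ σ τ l) (π.symm l) := by
    intro π
    rw [Matrix.det_apply', Matrix.det_apply', Finset.sum_mul_sum]
    refine Finset.sum_congr rfl fun σ _ => Finset.sum_congr rfl fun τ _ => ?_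
    rw [Fin.prod_univ_add]
    simp only [hρl, hρr, Matrix.of_apply]
    ring
  have h1 : ∀ σ τ, ∑ π : Equiv.Perm (Fin (p + r)), (((Equiv.Perm.sign π : ℤˣ) : ℤ) : k) *
      ∏ l : Fin (p + r), N (ρ σ τ l) (π.symm l) = (N.submatrix (ρ σ τ) id).det := by
    intro σ τ
    rw [Matrix.det_apply']
    refine Finset.sum_congr rfl fun π _ => ?_
    congr 1
    exact (Fintype.prod_equiv π (fun i => (N.submatrix (ρ σ τ) id) (π i) i)
      (fun l => N (ρ σ τ l) (π.symm l)) (fun i => by simp)).symm
  calc ∑ π : Equiv.Perm (Fin (p + r)), (((Equiv.Perm.sign π : ℤˣ) : ℤ) : k) *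
        (Matrix.of fun i j : Fin p => N (Fin.castAdd r i) (π.symm (Fin.castAdd r j))).det *
        (Matrix.of fun i j : Fin r => N (Fin.natAdd p i) (π.symm (Fin.natAdd p j))).det
      = ∑ π : Equiv.Perm (Fin (p + r)), ∑ σ : Equiv.Perm (Fin p), ∑ τ : Equiv.Perm (Fin r),
          (((Equiv.Perm.sign π : ℤˣ) : ℤ) : k) *
          ((((Equiv.Perm.sign σ : ℤˣ) : ℤ) : k) * (((Equiv.Perm.sign τ : ℤˣ) : ℤ) : k) *
            ∏ l : Fin (p + r), N (ρ σ τ l) (π.symm l)) := by
        refine Finset.sum_congr rfl fun π _ => ?_
        rw [mul_assoc, hexp, Finset.mul_sum]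
        refine Finset.sum_congr rfl fun σ _ => ?_
        rw [Finset.mul_sum]
    _ = ∑ σ : Equiv.Perm (Fin p), ∑ τ : Equiv.Perm (Fin r), ∑ π : Equiv.Perm (Fin (p + r)),
          (((Equiv.Perm.sign π : ℤˣ) : ℤ) : k) *
          ((((Equiv.Perm.sign σ : ℤˣ) : ℤ) : k) * (((Equiv.Perm.sign τ : ℤˣ) : ℤ) : k) *
            ∏ l : Fin (p + r), N (ρ σ τ l) (π.symm l)) := by
        rw [Finset.sum_comm]
        exact Finset.sum_congr rfl fun σ _ => Finset.sum_comm
    _ = ∑ _σ : Equiv.Perm (Fin p), ∑ _τ : Equiv.Perm (Fin r), N.det := by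
        refine Finset.sum_congr rfl fun σ _ => Finset.sum_congr rfl fun τ _ => ?_
        calc ∑ π : Equiv.Perm (Fin (p + r)), (((Equiv.Perm.sign π : ℤˣ) : ℤ) : k) *
              ((((Equiv.Perm.sign σ : ℤˣ) : ℤ) : k) * (((Equiv.Perm.sign τ : ℤˣ) : ℤ) : k) *
                ∏ l : Fin (p + r), N (ρ σ τ l) (π.symm l))
            = (((Equiv.Perm.sign σ : ℤˣ) : ℤ) : k) * (((Equiv.Perm.sign τ : ℤˣ) : ℤ) : k) *
                ∑ π : Equiv.Perm (Fin (p + r)), (((Equiv.Perm.sign π : ℤˣ) : ℤ) : k) *
                  ∏ l : Fin (p + r), N (ρ σ τ l) (π.symm l) := by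
              rw [Finset.mul_sum]
              exact Finset.sum_congr rfl fun π _ => by ring
          _ = (((Equiv.Perm.sign σ : ℤˣ) : ℤ) : k) * (((Equiv.Perm.sign τ : ℤˣ) : ℤ) : k) *
                ((((Equiv.Perm.sign σ : ℤˣ) : ℤ) : k) * (((Equiv.Perm.sign τ : ℤˣ) : ℤ) : k) *
                  N.det) := by
              rw [h1, Matrix.det_permute, hρsign, Units.val_mul, Int.cast_mul]
          _ = ((((Equiv.Perm.sign σ : ℤˣ) : ℤ) : k) * (((Equiv.Perm.sign σ : ℤˣ) : ℤ) : k)) *
                ((((Equiv.Perm.sign τ : ℤˣ) : ℤ) : k) * (((Equiv.Perm.sign τ : ℤˣ) : ℤ) : k)) *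
                  N.det := by ring
          _ = N.det := by rw [hs, hs, one_mul, one_mul]
    _ = ((p.factorial * r.factorial : ℕ) : k) * N.det := by
        simp only [Finset.sum_const, Finset.card_univ, Fintype.card_perm, Fintype.card_fin,
          nsmul_eq_mul, Nat.cast_mul]
        ring

/-- The sign of the shuffle permutation listing `A` increasingly and then `Aᶜ` increasingly, and
the main identity. -/
theorem main (k : Type*) [Field k] [CharZero k]
    (p r : ℕ) (_hp : 1 ≤ p) (_hr : 1 ≤ r) (M : Matrix (Fin (p + r)) (Fin (p + r)) k)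
    (A : Finset (Fin (p + r))) (hA : A.card = p) (B : Finset (Fin (p + r))) (hB : B.card = r) :
    ∑ π : Equiv.Perm (Fin (p + r)), (((Equiv.Perm.sign π : ℤˣ) : ℤ) : k) *
      ((M * π.permMatrix k).submatrix (A.orderEmbOfFin hA) (Fin.castAdd r)).det *
      ((M * π.permMatrix k).submatrix (B.orderEmbOfFin hB) (Fin.natAdd p)).det =
    if B = Aᶜ then ((p.factorial * r.factorial : ℕ) : k) *
      (-1 : k) ^ ((A ×ˢ Aᶜ).filter (fun ab => ab.2 < ab.1)).card * M.det else 0 := by
  classical
  set a := A.orderEmbOfFin hA with ha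
  set b := B.orderEmbOfFin hB with hb
  let g : Fin (p + r) → Fin (p + r) := Fin.append a b
  have hgl : ∀ i, g (Fin.castAdd r i) = a i := fun i => Fin.append_left _ _ i
  have hgr : ∀ i, g (Fin.natAdd p i) = b i := fun i => Fin.append_right _ _ i
  have hLHS : ∀ π : Equiv.Perm (Fin (p + r)),
      ((M * π.permMatrix k).submatrix a (Fin.castAdd r)).det =
        (Matrix.of fun i j : Fin p =>
          (M.submatrix g id) (Fin.castAdd r i) (π.symm (Fin.castAdd r j))).det ∧
      ((M * π.permMatrix k).submatrix b (Fin.natAdd p)).det =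
        (Matrix.of fun i j : Fin r =>
          (M.submatrix g id) (Fin.natAdd p i) (π.symm (Fin.natAdd p j))).det := by
    intro π
    have hmul : M * π.permMatrix k = M.submatrix id π.symm := PEquiv.mul_toMatrix_toPEquiv M π
    constructor
    · congr 1
      ext i j
      simp [hmul, hgl]
    · congr 1
      ext i j
      simp [hmul, hgr]
  have hsum := block_sum p r (M.submatrix g id)
  rw [Finset.sum_congr rfl (fun π _ => by rw [(hLHS π).1, (hLHS π).2]), hsum]
  have haA : ∀ i, a i ∈ A := fun i => Finset.orderEmbOfFin_mem A hA i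
  have hbB : ∀ j, b j ∈ B := fun j => Finset.orderEmbOfFin_mem B hB j
  have hAex : ∀ x ∈ A, ∃ i, a i = x := by
    intro x hx
    have h1 := Finset.range_orderEmbOfFin A hA
    have hx' : x ∈ Set.range (A.orderEmbOfFin hA) := by rw [h1]; exact hx
    exact hx'
  have hBex : ∀ x ∈ B, ∃ j, b j = x := by
    intro x hx
    have h1 := Finset.range_orderEmbOfFin B hB
    have hx' : x ∈ Set.range (B.orderEmbOfFin hB) := by rw [h1]; exact hx
    exact hx'
  split_ifs with hBA
  · -- `B = Aᶜ`: `g` is a permutation
    have hbA : ∀ j, b j ∉ A := fun j => by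
      have h1 := hbB j
      rw [hBA, Finset.mem_compl] at h1
      exact h1
    have hinj : Function.Injective g := by
      intro x y hxy
      induction x using Fin.addCases with
      | left i =>
        induction y using Fin.addCases with
        | left j =>
          rw [hgl, hgl] at hxy
          rw [a.injective hxy]
        | right j =>
          rw [hgl, hgr] at hxy
          exact absurd (by rw [← hxy]; exact haA i) (hbA j)
      | right i =>
        induction y using Fin.addCases with
        | left j =>
          rw [hgr, hgl] at hxy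
          exact absurd (by rw [hxy]; exact haA j) (hbA i)
        | right j =>
          rw [hgr, hgr] at hxy
          rw [b.injective hxy]
    let γ : Equiv.Perm (Fin (p + r)) :=
      Equiv.ofBijective g ⟨hinj, Finite.surjective_of_injective hinj⟩
    have hγ : ∀ x, γ x = g x := fun x => rfl
    have hsign : Equiv.Perm.sign γ =
        (-1) ^ ((A ×ˢ Aᶜ).filter (fun ab => ab.2 < ab.1)).card := by
      rw [Equiv.Perm.sign_eq_prod_prod_Iio, Finset.prod_sigma', Finset.prod_ite,
        Finset.prod_const_one, one_mul, Finset.prod_const]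
      congr 1
      apply Finset.card_bij (fun x _ => (γ x.2, γ x.1))
      · rintro ⟨j, i⟩ hx
        simp only [Finset.mem_filter, Finset.mem_sigma, Finset.mem_univ, true_and,
          Finset.mem_Iio] at hx
        obtain ⟨hij, hnot⟩ := hx
        simp only [Finset.mem_filter, Finset.mem_product, Finset.mem_compl]
        induction i using Fin.addCases with
        | left i' =>
          induction j using Fin.addCases with
          | left j' =>
            exfalso
            apply hnot
            rw [hγ, hγ, hgl, hgl]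
            have h1 : (Fin.castAdd r i' : Fin (p + r)).val < (Fin.castAdd r j' : Fin (p + r)).val :=
              hij
            simp only [Fin.val_castAdd] at h1
            exact a.strictMono (Fin.lt_def.mpr h1)
          | right j' =>
            rw [hγ, hγ, hgl, hgr] at hnot ⊢
            refine ⟨⟨haA i', hbA j'⟩, lt_of_le_of_ne (not_lt.mp hnot) ?_⟩
            intro h
            exact hbA j' (by rw [h]; exact haA i')
        | right i' =>
          induction j using Fin.addCases with
          | left j' =>
            exfalso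
            have h1 : (Fin.natAdd p i' : Fin (p + r)).val < (Fin.castAdd r j' : Fin (p + r)).val :=
              hij
            have h2 := j'.isLt
            simp only [Fin.val_natAdd, Fin.val_castAdd] at h1
            omega
          | right j' =>
            exfalso
            apply hnot
            rw [hγ, hγ, hgr, hgr]
            have h1 : (Fin.natAdd p i' : Fin (p + r)).val < (Fin.natAdd p j' : Fin (p + r)).val :=
              hij
            simp only [Fin.val_natAdd] at h1
            exact b.strictMono (Fin.lt_def.mpr (by omega))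
      · rintro ⟨j, i⟩ _ ⟨j', i'⟩ _ h
        simp only [Prod.mk.injEq] at h
        obtain ⟨h1, h2⟩ := h
        have e1 := γ.injective h1
        have e2 := γ.injective h2
        subst e1 e2
        rfl
      · rintro ⟨x, y⟩ hxy
        simp only [Finset.mem_filter, Finset.mem_product, Finset.mem_compl] at hxy
        obtain ⟨⟨hxA, hyA⟩, hlt⟩ := hxy
        obtain ⟨i', rfl⟩ := hAex x hxA
        obtain ⟨j', rfl⟩ := hBex y (by rw [hBA, Finset.mem_compl]; exact hyA)
        refine ⟨⟨Fin.natAdd p j', Fin.castAdd r i'⟩, ?_, ?_⟩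
        · simp only [Finset.mem_filter, Finset.mem_sigma, Finset.mem_univ, true_and,
            Finset.mem_Iio]
          refine ⟨?_, ?_⟩
          · rw [Fin.lt_def]
            have h2 := i'.isLt
            simp only [Fin.val_natAdd, Fin.val_castAdd]
            omega
          · rw [hγ, hγ, hgl, hgr]
            exact not_lt.mpr hlt.le
        · show (γ (Fin.castAdd r i'), γ (Fin.natAdd p j')) = _
          rw [hγ, hγ, hgl, hgr]
    have hdet : (M.submatrix g id).det =
        (-1 : k) ^ ((A ×ˢ Aᶜ).filter (fun ab => ab.2 < ab.1)).card * M.det := by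
      have h1 : M.submatrix g id = M.submatrix γ id := rfl
      rw [h1, Matrix.det_permute, hsign]
      simp
    rw [hdet, mul_assoc]
  · -- `B ≠ Aᶜ`: two equal rows
    have hex : ∃ x, x ∈ A ∧ x ∈ B := by
      by_contra hne
      simp only [not_exists, not_and] at hne
      apply hBA
      apply Finset.eq_of_subset_of_card_le
      · intro x hxB
        rw [Finset.mem_compl]
        exact fun hxA => hne x hxA hxB
      · rw [Finset.card_compl, Fintype.card_fin, hA, hB]
        omega
    obtain ⟨x, hxA, hxB⟩ := hex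
    obtain ⟨i, hi⟩ := hAex x hxA
    obtain ⟨j, hj⟩ := hBex x hxB
    have hne : Fin.castAdd r i ≠ Fin.natAdd p j := by
      intro h
      have h1 := congrArg Fin.val h
      have h2 := i.isLt
      simp only [Fin.val_natAdd, Fin.val_castAdd] at h1
      omega
    rw [Matrix.det_zero_of_row_eq hne, mul_zero]
    ext c
    simp [Matrix.submatrix_apply, hgl, hgr, hi, hj]

end Groth.Agent.Lib.H29BlockDet
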