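import Groth.Agent.Lib.H29RegTorsion
import Groth.Agent.Lib.H29Matlis
import Groth.Agent.Lib.LocCohVanishing
import Groth.Agent.Lib.NonVanish9

/-!
# Dual pairs `(A, K)` with `Hom(K, E) ≃ H^j_m(A)` and regular elements (helper29)

`R` Noetherian local, `E` an injective hull of the residue field.  A *dual pair in degree `j`* is a
pair of modules `(A, K)`, `A` finite, with `H^i_m(A) = 0` for `i < j`, `dim Supp A ≤ j` and
`Hom(K, E) ≃ H^j_m(A)` (`IsDualPair`).  Example: `(R, K)` for a canonical module `K` of a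
Cohen–Macaulay local ring `R` of dimension `j`.

* `dualQuotEquiv`: `Hom(K/xK, E) ≃ (0 :_{Hom(K,E)} x)`;
* `IsDualPair.isSMulRegular`: an `A`-regular `x ∈ m` is `K`-regular;
* `IsDualPair.quot`: `(A/xA, K/xK)` is a dual pair in degree `j` if `(A, K)` is one in degree `j+1`
  and `x ∈ m` is `A`-regular.
-/

set_option autoImplicit false
set_option maxHeartbeats 400000
universe u

open IsLocalRing

namespace Groth.Agent.Lib.H29CanonReg

open Groth.Agent.Lib.LocCohLES Groth.Agent.Lib.H29LocCohReg Groth.Agent.Lib.H29RegTorsion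

variable {R : Type u} [CommRing R]

section dual

variable {K E : Type u} [AddCommGroup K] [Module R K] [AddCommGroup E] [Module R E]

/-- `Hom(K/xK, E) ≃ (0 :_{Hom(K, E)} x)`. -/
noncomputable def dualQuotEquiv (x : R) :
    ((K ⧸ LinearMap.range (mulMap (M := K) x)) →ₗ[R] E) ≃ₗ[R]
      Submodule.torsionBy R (K →ₗ[R] E) x :=
  LinearEquiv.ofBijective
    ((LinearMap.lcomp R E (quotMap (M := K) x)).codRestrict _ (by
      intro ψ
      rw [Submodule.mem_torsionBy_iff]
      ext k
      change x • ψ (quotMap x k) = 0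
      rw [← map_smul, ← map_smul]
      have : quotMap (M := K) x (x • k) = 0 :=
        (mul_exact (M := K) x (x • k)).2 ⟨k, by simp⟩
      rw [this, map_zero]))
    (by
      constructor
      · intro ψ ψ' h
        have h' : ψ ∘ₗ quotMap (M := K) x = ψ' ∘ₗ quotMap x := congrArg Subtype.val h
        ext y
        exact LinearMap.congr_fun h' y
      · rintro ⟨φ, hφ⟩
        rw [Submodule.mem_torsionBy_iff] at hφ
        have hker : LinearMap.range (mulMap (M := K) x) ≤ LinearMap.ker φ := by
          rintro _ ⟨k, rfl⟩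
          rw [LinearMap.mem_ker]
          have := LinearMap.congr_fun hφ k
          simpa using this
        refine ⟨(LinearMap.range (mulMap (M := K) x)).liftQ φ hker, ?_⟩
        apply Subtype.ext
        ext k
        rfl)

end dual

section pair

variable [IsNoetherianRing R] [IsLocalRing R] {E : Type u} [AddCommGroup E] [Module R E]

variable (R) in
/-- A dual pair in degree `j`. -/
structure IsDualPair (E : Type u) [AddCommGroup E] [Module R E] (j : ℕ) (A K : Type u)
    [AddCommGroup A] [Module R A] [AddCommGroup K] [Module R K] : Prop where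
  finite : Module.Finite R A
  vanish : ∀ i, i < j → Subsingleton (LocCoh.H (maximalIdeal R) i A)
  dim_le : Module.supportDim R A ≤ (j : WithBot ℕ∞)
  equiv : Nonempty ((K →ₗ[R] E) ≃ₗ[R] LocCoh.H (maximalIdeal R) j A)

variable (f : ResidueField R →ₗ[R] E) (hf : InjHull.IsInjectiveHull f)
  {A K : Type u} [AddCommGroup A] [Module R A] [AddCommGroup K] [Module R K]

theorem supportDim_quot_lt_of_le [Module.Finite R A] {x : R} (hxm : x ∈ maximalIdeal R)
    (hx : IsSMulRegular A x) (j : ℕ) (h : Module.supportDim R A ≤ ((j + 1 : ℕ) : WithBot ℕ∞)) :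
    Module.supportDim R (A ⧸ LinearMap.range (mulMap (M := A) x)) ≤ (j : WithBot ℕ∞) := by
  have h1 := Groth.Agent.Lib.NonVanish9.supportDim_quot_add_one A hxm hx
  rw [← h1] at h
  generalize Module.supportDim R (A ⧸ LinearMap.range (mulMap (M := A) x)) = D at h ⊢
  induction D with
  | bot => exact bot_le
  | coe d =>
    have h2 : ((d + 1 : ℕ∞) : WithBot ℕ∞) ≤ (((j : ℕ∞) + 1 : ℕ∞) : WithBot ℕ∞) := by
      simpa using h
    have h3 : d + 1 ≤ (j : ℕ∞) + 1 := WithBot.coe_le_coe.mp h2
    have h4 : d ≤ (j : ℕ∞) := (ENat.add_le_add_iff_right ENat.one_ne_top).mp h3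
    exact_mod_cast WithBot.coe_le_coe.mpr h4

include hf in
omit [IsNoetherianRing R] in
/-- If `x` acts surjectively on `Hom(K, E)` then `x` is `K`-regular. -/
theorem isSMulRegular_of_dual_surjective (x : R)
    (h : ∀ φ : K →ₗ[R] E, ∃ φ' : K →ₗ[R] E, x • φ' = φ) : IsSMulRegular K x := by
  intro a b hab
  have hab' : x • a = x • b := hab
  by_contra hne
  have hne' : a - b ≠ 0 := sub_ne_zero.mpr hne
  obtain ⟨φ, hφ⟩ := Groth.Agent.Lib.H29Matlis.exists_dual_ne_zero f hf (a - b) hne'
  obtain ⟨φ', rfl⟩ := h φ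
  apply hφ
  rw [LinearMap.smul_apply, ← map_smul, smul_sub, hab', sub_self, map_zero]

variable {j : ℕ}

include hf in
/-- In a dual pair of degree `j + 1`, an `A`-regular element of `m` is `K`-regular. -/
theorem IsDualPair.isSMulRegular (h : IsDualPair R E (j + 1) A K) {x : R}
    (hxm : x ∈ maximalIdeal R) (hx : IsSMulRegular A x) : IsSMulRegular K x := by
  haveI := h.finite
  obtain ⟨e⟩ := h.equiv
  apply isSMulRegular_of_dual_surjective f hf x
  intro φ
  have hvan : Subsingleton (LocCoh.H (maximalIdeal R) (j + 1)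
      (A ⧸ LinearMap.range (mulMap (M := A) x))) := by
    apply Groth.Agent.Lib.LocCohVanishing.subsingleton_H_of_supportDim_lt
    refine lt_of_le_of_lt (supportDim_quot_lt_of_le hxm hx j h.dim_le) ?_
    exact_mod_cast Nat.lt_succ_self j
  obtain ⟨y', hy'⟩ := smul_surjective_H (maximalIdeal R) hx (j + 1) hvan (e φ)
  refine ⟨e.symm y', ?_⟩
  apply e.injective
  rw [map_smul, LinearEquiv.apply_symm_apply, hy']

/-- Passing to the quotient by a regular element in a dual pair. -/
theorem IsDualPair.quot (h : IsDualPair R E (j + 1) A K) {x : R}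
    (hxm : x ∈ maximalIdeal R) (hx : IsSMulRegular A x) :
    IsDualPair R E j (A ⧸ LinearMap.range (mulMap (M := A) x))
      (K ⧸ LinearMap.range (mulMap (M := K) x)) := by
  haveI := h.finite
  obtain ⟨e⟩ := h.equiv
  refine ⟨inferInstance, fun i hi => ?_, supportDim_quot_lt_of_le hxm hx j h.dim_le, ?_⟩
  · exact subsingleton_H_quot (maximalIdeal R) hx i (h.vanish i (by omega))
      (h.vanish (i + 1) (by omega))
  · -- `D(K/xK) ≃ (0 :_{D K} x) ≃ (0 :_{H^{j+1}(A)} x) ≃ H^j(A/xA)`
    let T := HδTorsionEquiv (maximalIdeal R) hx j (h.vanish j (Nat.lt_succ_self j))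
    let c : Submodule.torsionBy R (K →ₗ[R] E) x ≃ₗ[R]
        Submodule.torsionBy R (LocCoh.H (maximalIdeal R) (j + 1) A) x :=
      LinearEquiv.ofLinear
        ((e.toLinearMap ∘ₗ (Submodule.torsionBy R (K →ₗ[R] E) x).subtype).codRestrict _ (by
          rintro ⟨φ, hφ⟩
          rw [Submodule.mem_torsionBy_iff] at hφ ⊢
          change x • e φ = 0
          rw [← map_smul, hφ, map_zero]))
        ((e.symm.toLinearMap ∘ₗ (Submodule.torsionBy R _ x).subtype).codRestrict _ (by
          rintro ⟨y, hy⟩
          rw [Submodule.mem_torsionBy_iff] at hy ⊢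
          change x • e.symm y = 0
          rw [← map_smul, hy, map_zero]))
        (by
          ext ⟨y, hy⟩
          exact e.apply_symm_apply y)
        (by
          ext ⟨φ, hφ⟩ : 2
          exact e.symm_apply_apply φ)
    exact ⟨dualQuotEquiv x ≪≫ₗ c ≪≫ₗ T.symm⟩

end pair

end Groth.Agent.Lib.H29CanonReg
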