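import Groth.Agent.Lib.H29Canon
import Groth.Agent.Lib.H29CanonReg
import Groth.Agent.Lib.H29Gorenstein
import Groth.Agent.S0318

/-!
# Canonical modules over Cohen–Macaulay local rings, II (helper29)

`R` Cohen–Macaulay local of dimension `n`, `E` an injective hull of the residue field, `K` a finite
module with `eK : Hom(K, E) ≃ H^n_m(R)`.

* `isDualPair_canon`: `(R, K)` is a dual pair in degree `n`;
* `subsingleton_H_canon_of_lt`: `H^i_m(K) = 0` for `i < n`;
* `subsingleton_ext_canon_self`: `Ext^i(K, K) = 0` for `i ≥ 1`;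
* `isSMulRegular_canon`: an `R`-regular element of `m` is `K`-regular;
* `pos_of_regular`: if `m` contains an `R`-regular element then `0 < n`.
-/

set_option autoImplicit false
universe u

open CategoryTheory Abelian IsLocalRing

namespace Groth.Agent.Lib.H29Canon2

open Groth.Agent.Lib.H29LocalDualityCM Groth.Agent.Lib.H29Canon Groth.Agent.Lib.H29CanonReg

variable {R : Type u} [CommRing R] [LocCoh.IsCohenMacaulayLocalRing R] (n : ℕ)
  (hn : ringKrullDim R = n)
  {E : Type u} [AddCommGroup E] [Module R E]
  (f : ResidueField R →ₗ[R] E) (hf : InjHull.IsInjectiveHull f)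
  {K : Type u} [AddCommGroup K] [Module R K]
  (eK : (K →ₗ[R] E) ≃ₗ[R] LocCoh.H (maximalIdeal R) n R)

include hn in
theorem subsingleton_H_self_of_lt (i : ℕ) (hi : i < n) :
    Subsingleton (LocCoh.H (maximalIdeal R) i R) := by
  apply Groth.Agent.Lib.H29LocCohAnn.subsingleton_H_self_of_lt (maximalIdeal R)
    (Ideal.IsPrime.ne_top inferInstance) i
  rw [cm_depth_eq n hn]
  exact_mod_cast hi

include hn eK in
theorem isDualPair_canon : IsDualPair R E n R K where
  finite := inferInstance
  vanish := fun i hi => subsingleton_H_self_of_lt n hn i hi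
  dim_le := by rw [Module.supportDim_self_eq_ringKrullDim, hn]
  equiv := ⟨eK⟩

include hn hf eK in
theorem subsingleton_H_canon_of_lt [Module.Finite R K] (i : ℕ) (hi : i < n) :
    Subsingleton (LocCoh.H (maximalIdeal R) i K) := by
  have := nontrivial_canon n hn f hf eK
  apply Groth.Agent.S0318.subsingleton_H_of_lt (maximalIdeal R) K
    (Groth.Agent.Lib.H29Gorenstein.maximalIdeal_smul_top_ne_top R K) n ?_ i hi
  have := depth_canon n hn f hf eK
  unfold LocCoh.depth at this
  rw [this]

include hn hf eK in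
theorem subsingleton_ext_canon_self [Module.Finite R K] (i : ℕ) (hi : 1 ≤ i) :
    Subsingleton (Ext.{u} (ModuleCat.of R K) (ModuleCat.of R K) i) := by
  by_cases hin : i ≤ n
  · obtain ⟨e⟩ := cm_localDuality n hn f hf eK i (n - i) (by omega) K
    have := subsingleton_H_canon_of_lt n hn f hf eK (n - i) (by omega)
    exact subsingleton_of_dual f hf _ e.symm.toEquiv.subsingleton
  · exact cm_subsingleton_ext_of_gt n hn f hf eK i (by omega) K

include hn in
theorem pos_of_regular {a : R} (ha : a ∈ maximalIdeal R) (hreg : IsSMulRegular R a) : 0 < n := by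
  have hIM : maximalIdeal R • (⊤ : Submodule R R) ≠ ⊤ := by
    rw [smul_eq_mul, Ideal.mul_top]
    exact Ideal.IsPrime.ne_top inferInstance
  have h1 : ((1 : ℕ) : ℕ∞) ≤ LocCoh.idealDepth (maximalIdeal R) R := by
    rw [Groth.Agent.Lib.H29Depth.le_idealDepth_iff (maximalIdeal R) R hIM 1]
    refine ⟨[a], rfl, by simpa using ha, ?_⟩
    apply Groth.Agent.Lib.H29Depth.isRegular_of_isWeaklyRegular (maximalIdeal R) R hIM _
      (by simpa using ha)
    rw [RingTheory.Sequence.isWeaklyRegular_cons_iff]
    exact ⟨hreg, RingTheory.Sequence.IsWeaklyRegular.nil R _⟩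
  rw [cm_depth_eq n hn] at h1
  exact_mod_cast h1

include hn hf eK in
theorem isSMulRegular_canon {a : R} (ha : a ∈ maximalIdeal R) (hreg : IsSMulRegular R a) :
    IsSMulRegular K a := by
  obtain ⟨j, rfl⟩ : ∃ j, n = j + 1 := ⟨n - 1, by have := pos_of_regular n hn ha hreg; omega⟩
  exact (isDualPair_canon (j + 1) hn eK).isSMulRegular f hf ha hreg

end Groth.Agent.Lib.H29Canon2
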