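import Groth.Agent.Lib.H29CanonReg
import Groth.Agent.Lib.H29ExtSupport
import Groth.Agent.S11681
import Groth.Agent.S7038
import Groth.Agent.Lib.H29Gorenstein

/-!
# Endomorphisms of the dual partner of a cyclic module (helper29)

`R` Noetherian local, `E` an injective hull of the residue field.  If `(A, K)` is a dual pair in
degree `j` (`Hom(K, E) ≃ H^j_m(A)`, `A` finite with `H^i_m(A) = 0` for `i < j` and `dim A ≤ j`) with
`A` cyclic and `K` finite, then every endomorphism of `K` is a homothety and the homotheties that
vanish on `K` are those that vanish on `A` (`IsDualPair.end_eq`).  For `A = R` and `K` a canonical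
module of a Cohen–Macaulay local ring this says `R ≃ End(K)`.
-/

set_option autoImplicit false
set_option maxHeartbeats 400000
universe u

open IsLocalRing

namespace Groth.Agent.Lib.H29CanonEnd

open Groth.Agent.Lib.LocCohLES Groth.Agent.Lib.H29LocCohReg Groth.Agent.Lib.H29RegTorsion
  Groth.Agent.Lib.H29CanonReg Groth.Agent.Lib.H47Reflexive

variable {R : Type u} [CommRing R] [IsNoetherianRing R] [IsLocalRing R]
  {E : Type u} [AddCommGroup E] [Module R E]
  (f : ResidueField R →ₗ[R] E) (hf : InjHull.IsInjectiveHull f)

/-- A finite module with support of dimension `≤ 0` is `m`-power torsion. -/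
theorem isPowerTorsion_of_supportDim_le_zero (A : Type u) [AddCommGroup A] [Module R A]
    [Module.Finite R A] (h : Module.supportDim R A ≤ ((0 : ℕ) : WithBot ℕ∞)) :
    LocCoh.IsPowerTorsion (maximalIdeal R) A := by
  by_cases hA : Subsingleton A
  · intro a
    exact ⟨0, fun r _ => Subsingleton.elim _ _⟩
  · rw [not_subsingleton_iff_nontrivial] at hA
    have h0 : Module.supportDim R A = 0 := by
      apply le_antisymm (by simpa using h)
      have hne : Module.supportDim R A ≠ ⊥ := (Module.supportDim_ne_bot_iff_nontrivial R A).mpr hA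
      induction hD : Module.supportDim R A using WithBot.recBotCoe with
      | bot => exact absurd hD hne
      | coe d => exact_mod_cast bot_le
    have hsupp := support_of_supportDim_eq_zero (R := R) (N := A) h0
    apply (Groth.Agent.S7038.result (maximalIdeal R) A).2 (IsNoetherian.noetherian _)
    rw [hsupp]

omit [IsNoetherianRing R] [IsLocalRing R] in
/-- `H^0_I(A) = 0` means no nonzero element of `A` is killed by `I`. -/
theorem tf_of_subsingleton_H_zero (I : Ideal R) (A : Type u) [AddCommGroup A] [Module R A]
    (h : Subsingleton (LocCoh.H I 0 A)) : TF I A := by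
  intro a ha
  have hmem : a ∈ DRing.torsionSub I A := ⟨1, fun r hr => ha r (by simpa using hr)⟩
  have : Subsingleton (DRing.torsionSub I A) :=
    (Groth.Agent.Lib.LocCohH0.gammaEquiv I A).symm.toEquiv.subsingleton
  have h0 : (⟨a, hmem⟩ : DRing.torsionSub I A) = 0 := Subsingleton.elim _ _
  exact congrArg Subtype.val h0

variable {A K : Type u} [AddCommGroup A] [Module R A] [AddCommGroup K] [Module R K]

include hf in
/-- an element killing `A` kills the dual partner `K`. -/
theorem IsDualPair.smul_eq_zero {j : ℕ} (h : IsDualPair R E j A K) (r : R)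
    (hr : ∀ a : A, r • a = 0) (k : K) : r • k = 0 := by
  obtain ⟨e⟩ := h.equiv
  have h1 : ∀ φ : K →ₗ[R] E, r • φ = 0 := by
    intro φ
    apply e.injective
    rw [map_smul, map_zero]
    exact smul_eq_zero_of_forall_smul_eq_zero (maximalIdeal R) r hr j (e φ)
  have hann := ((Groth.Agent.S11681.result R E f hf).1 K).2
  have hmem : r ∈ Module.annihilator R (K →ₗ[R] E) := Module.mem_annihilator.mpr h1
  rw [← hann] at hmem
  exact Module.mem_annihilator.mp hmem k

omit [IsNoetherianRing R] in
/-- an element killing the dual partner `K` kills `H^j_m(A)`. -/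
theorem IsDualPair.smul_H_eq_zero {j : ℕ} (h : IsDualPair R E j A K) (r : R)
    (hr : ∀ k : K, r • k = 0) (y : LocCoh.H (maximalIdeal R) j A) : r • y = 0 := by
  obtain ⟨e⟩ := h.equiv
  obtain ⟨φ, rfl⟩ := e.surjective y
  rw [← map_smul]
  have : r • φ = 0 := by
    ext k
    rw [LinearMap.smul_apply, ← map_smul, hr, map_zero]
    rfl
  rw [this, map_zero]

include hf in
/-- the degree zero case. -/
theorem end_eq_zero (h : IsDualPair R E 0 A K) (hcyc : ∃ a₀ : A, ∀ a, ∃ r : R, a = r • a₀) :
    (∀ θ : K →ₗ[R] K, ∃ r : R, θ = r • LinearMap.id) ∧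
      (∀ r : R, (∀ k : K, r • k = 0) → ∀ a : A, r • a = 0) := by
  haveI := h.finite
  obtain ⟨e⟩ := h.equiv
  have hPT := isPowerTorsion_of_supportDim_le_zero A h.dim_le
  let e' : (K →ₗ[R] E) ≃ₗ[R] A :=
    e ≪≫ₗ Groth.Agent.Lib.LocCohH0.equivOfTorsion (maximalIdeal R) A hPT
  obtain ⟨a₀, ha₀⟩ := hcyc
  constructor
  · intro θ
    -- the transported endomorphism of `A`
    let θ' : A →ₗ[R] A := e'.toLinearMap ∘ₗ LinearMap.lcomp R E θ ∘ₗ e'.symm.toLinearMap
    obtain ⟨r, hr⟩ := ha₀ (θ' a₀)
    have hθ' : ∀ a, θ' a = r • a := by
      intro a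
      obtain ⟨s, rfl⟩ := ha₀ a
      rw [map_smul, hr, smul_comm]
    refine ⟨r, ?_⟩
    ext k
    by_contra hne
    have hne' : θ k - r • k ≠ 0 := sub_ne_zero.mpr hne
    obtain ⟨φ, hφ⟩ := Groth.Agent.Lib.H29Matlis.exists_dual_ne_zero f hf _ hne'
    apply hφ
    have h1 := hθ' (e' φ)
    have h2 : θ' (e' φ) = e' (φ ∘ₗ θ) := by
      simp only [θ', LinearMap.comp_apply, LinearEquiv.coe_coe, LinearEquiv.symm_apply_apply]
      rfl
    rw [h2, ← map_smul] at h1
    have h3 : φ ∘ₗ θ = r • φ := e'.injective h1
    have h4 := LinearMap.congr_fun h3 k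
    rw [map_sub, map_smul]
    rw [LinearMap.comp_apply, LinearMap.smul_apply] at h4
    rw [h4, sub_self]
  · intro r hr a
    obtain ⟨φ, rfl⟩ := e'.surjective a
    rw [← map_smul]
    have : r • φ = 0 := by
      ext k
      rw [LinearMap.smul_apply, ← map_smul, hr, map_zero]
      rfl
    rw [this, map_zero]

include hf in
/-- **Endomorphisms of the dual partner of a cyclic module are homotheties.** -/
theorem IsDualPair.end_eq : ∀ (j : ℕ) (A K : Type u) [AddCommGroup A] [Module R A]
    [AddCommGroup K] [Module R K] [Module.Finite R K], IsDualPair R E j A K →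
    (∃ a₀ : A, ∀ a, ∃ r : R, a = r • a₀) →
    (∀ θ : K →ₗ[R] K, ∃ r : R, θ = r • LinearMap.id) ∧
      (∀ r : R, (∀ k : K, r • k = 0) → ∀ a : A, r • a = 0) := by
  intro j
  induction j with
  | zero =>
    intro A K _ _ _ _ _ h hcyc
    exact end_eq_zero f hf h hcyc
  | succ j ih =>
    intro A K _ _ _ _ _ h hcyc
    haveI := h.finite
    by_cases hA : Subsingleton A
    · have hK : Subsingleton K := by
        refine subsingleton_of_forall_eq 0 fun k => ?_
        have := IsDualPair.smul_eq_zero f hf h 1 (fun a => Subsingleton.elim _ _) k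
        rwa [one_smul] at this
      refine ⟨fun θ => ⟨0, ?_⟩, fun r _ a => Subsingleton.elim _ _⟩
      ext k
      exact Subsingleton.elim _ _
    · rw [not_subsingleton_iff_nontrivial] at hA
      have hIM := Groth.Agent.Lib.H29Gorenstein.maximalIdeal_smul_top_ne_top R A
      have hTF : TF (maximalIdeal R) A :=
        tf_of_subsingleton_H_zero (maximalIdeal R) A (h.vanish 0 (Nat.succ_pos j))
      obtain ⟨x, hxm, hx⟩ := exists_regular_of_tf (maximalIdeal R) A hIM hTF
      have hxK : IsSMulRegular K x := h.isSMulRegular f hf hxm hx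
      have h' := h.quot hxm hx
      obtain ⟨a₀, ha₀⟩ := hcyc
      have hcyc' : ∃ b₀ : A ⧸ LinearMap.range (mulMap (M := A) x), ∀ b, ∃ r : R, b = r • b₀ := by
        refine ⟨quotMap x a₀, fun b => ?_⟩
        obtain ⟨a, rfl⟩ := quotMap_surjective (M := A) x b
        obtain ⟨r, rfl⟩ := ha₀ a
        exact ⟨r, map_smul _ _ _⟩
      obtain ⟨ih1, ih2⟩ := ih (A ⧸ LinearMap.range (mulMap (M := A) x))
        (K ⧸ LinearMap.range (mulMap (M := K) x)) h' hcyc'
      have hμ : Function.Injective (mulMap (M := K) x) := mulMap_injective hxK
      constructor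
      · -- Nakayama on `End K`
        have hle : (⊤ : Submodule R (K →ₗ[R] K)) ≤
            Submodule.span R {LinearMap.id} ⊔ maximalIdeal R • ⊤ := by
          intro θ _
          have hθ : LinearMap.range (mulMap (M := K) x) ≤
              (LinearMap.range (mulMap (M := K) x)).comap θ := by
            rintro _ ⟨k, rfl⟩
            exact ⟨θ k, by simp⟩
          obtain ⟨r, hr⟩ := ih1 ((LinearMap.range (mulMap (M := K) x)).mapQ _ θ hθ)
          have hmem : ∀ k, (θ - r • (LinearMap.id : K →ₗ[R] K)) k ∈
              LinearMap.range (mulMap (M := K) x) := by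
            intro k
            have h1 := LinearMap.congr_fun hr (quotMap x k)
            have h2 : quotMap (M := K) x (θ k) = r • quotMap x k := h1
            rw [← map_smul, ← sub_eq_zero, ← map_sub] at h2
            have h3 := (mul_exact (M := K) x _).1 h2
            simpa using h3
          let e := LinearEquiv.ofInjective (mulMap (M := K) x) hμ
          let θ₁ : K →ₗ[R] K := e.symm.toLinearMap ∘ₗ
            (θ - r • (LinearMap.id : K →ₗ[R] K)).codRestrict
              (LinearMap.range (mulMap (M := K) x)) hmem
          have hθ₁ : θ - r • (LinearMap.id : K →ₗ[R] K) = x • θ₁ := by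
            ext k
            have h1 : mulMap (M := K) x (θ₁ k) = (θ - r • (LinearMap.id : K →ₗ[R] K)) k := by
              have := e.apply_symm_apply
                ((θ - r • (LinearMap.id : K →ₗ[R] K)).codRestrict
                  (LinearMap.range (mulMap (M := K) x)) hmem k)
              exact congrArg Subtype.val this
            rw [LinearMap.smul_apply, ← h1]
            simp
          have : θ = r • LinearMap.id + x • θ₁ := by rw [← hθ₁]; abel
          rw [this]
          apply Submodule.add_mem_sup
          · exact Submodule.smul_mem _ _ (Submodule.subset_span rfl)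
          · exact Submodule.smul_mem_smul hxm Submodule.mem_top
        have hfg : (⊤ : Submodule R (K →ₗ[R] K)).FG := IsNoetherian.noetherian _
        have hnak := Submodule.le_of_le_smul_of_le_jacobson_bot hfg
          (maximalIdeal_le_jacobson ⊥) hle
        intro θ
        have hθ := hnak (Submodule.mem_top : θ ∈ ⊤)
        obtain ⟨r, hr⟩ := Submodule.mem_span_singleton.mp hθ
        exact ⟨r, hr.symm⟩
      · -- Nakayama on `Ann K`
        have hle : Module.annihilator R K ≤
            Module.annihilator R A ⊔ maximalIdeal R • Module.annihilator R K := by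
          intro r hr
          have hrK : ∀ k : K, r • k = 0 := fun k => Module.mem_annihilator.mp hr k
          have hrK' : ∀ k : K ⧸ LinearMap.range (mulMap (M := K) x), r • k = 0 := by
            intro k
            obtain ⟨k, rfl⟩ := quotMap_surjective (M := K) x k
            rw [← map_smul, hrK, map_zero]
          have h1 := ih2 r hrK' (quotMap x a₀)
          rw [← map_smul] at h1
          obtain ⟨a₁, ha₁⟩ := (mul_exact (M := A) x _).1 h1
          obtain ⟨r₁, rfl⟩ := ha₀ a₁
          have h2 : (r - x * r₁) • a₀ = 0 := by
            rw [sub_smul, mul_smul, ← ha₁]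
            simp [smul_comm x r₁ a₀]
          have h3 : ∀ a : A, (r - x * r₁) • a = 0 := by
            intro a
            obtain ⟨s, rfl⟩ := ha₀ a
            rw [smul_comm, h2, smul_zero]
          have h4 : ∀ k : K, (r - x * r₁) • k = 0 := IsDualPair.smul_eq_zero f hf h _ h3
          have h5 : r₁ ∈ Module.annihilator R K := by
            rw [Module.mem_annihilator]
            intro k
            apply hxK
            have := h4 k
            rw [sub_smul, hrK, zero_sub, neg_eq_zero, mul_smul] at this
            simpa using this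
          have : r = (r - x * r₁) + x • r₁ := by rw [smul_eq_mul]; ring
          rw [this]
          apply Submodule.add_mem_sup
          · exact Module.mem_annihilator.mpr h3
          · exact Submodule.smul_mem_smul hxm h5
        have hfg : (Module.annihilator R K : Submodule R R).FG := IsNoetherian.noetherian _
        have hnak := Submodule.le_of_le_smul_of_le_jacobson_bot hfg
          (maximalIdeal_le_jacobson ⊥) hle
        intro r hr a
        exact Module.mem_annihilator.mp (hnak (Module.mem_annihilator.mpr hr)) a

end Groth.Agent.Lib.H29CanonEnd
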