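import Groth.Agent.Lib.H29LocCohReg
import Mathlib.RingTheory.Regular.RegularSequence

/-!
# Local cohomology modulo regular sequences (helper29)

`R` Noetherian (only where needed), `I` an ideal, `M` a module.

* `HδTorsionEquiv`: if `x` is `M`-regular and `H^k_I(M) = 0` then
  `H^k_I(M/xM) ≃ (0 :_{H^{k+1}_I(M)} x)`.
* `smul_surjective_H`: if `H^{k+1}_I(M/xM) = 0` then `x` is surjective on `H^{k+1}_I(M)`.
* `subsingleton_H_quot_of_lt`: vanishing below `j` for `M` gives vanishing below `j - 1` for `M/xM`.
* `exists_torsion_embedding`: for an `M`-weakly regular sequence `rs` of length `d ≤ j`, with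
  `H^i_I(M) = 0` for `i < j`, there is an injective map `H^{j-d}_I(M/(rs)M) → H^j_I(M)` whose range
  is the set of elements killed by `(rs)`.
* `equiv_of_torsionBy_equiv` (core lemma): an `x`-power torsion module `H` killed by `𝔞` on which
  `x` is surjective, with `(0 :_H x) ≃ (0 :_E (𝔞 + x))` for an injective `x`-power torsion `E`, is
  isomorphic to `(0 :_E 𝔞)`.
-/

set_option autoImplicit false
set_option maxHeartbeats 400000
universe u

open CategoryTheory

namespace Groth.Agent.Lib.H29RegTorsion

open Groth.Agent.Lib.LocCohLES Groth.Agent.Lib.H29LocCohReg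

variable {R : Type u} [CommRing R] (I : Ideal R)

section single

variable {M : Type u} [AddCommGroup M] [Module R M] {x : R} (hx : IsSMulRegular M x)

/-- `H^k_I(M/xM) ≃ (0 :_{H^{k+1}_I(M)} x)` when `H^k_I(M) = 0`. -/
noncomputable def HδTorsionEquiv (k : ℕ) (h0 : Subsingleton (LocCoh.H I k M)) :
    LocCoh.H I k (M ⧸ LinearMap.range (mulMap (M := M) x)) ≃ₗ[R]
      Submodule.torsionBy R (LocCoh.H I (k + 1) M) x :=
  LinearEquiv.ofBijective
    ((Hδ I (mulMap (M := M) x) (quotMap x) (mulMap_injective hx) (mul_exact x)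
      (quotMap_surjective x) k).codRestrict _ (by
        intro z
        rw [Submodule.mem_torsionBy_iff]
        have h1 := (exact₁ I (mulMap (M := M) x) (quotMap x) (mulMap_injective hx) (mul_exact x)
          (quotMap_surjective x) k _).2 ⟨z, rfl⟩
        rwa [Hmap_smul, Hmap_id] at h1))
    (by
      constructor
      · rw [injective_iff_map_eq_zero]
        intro z hz
        have hz' : Hδ I (mulMap (M := M) x) (quotMap x) (mulMap_injective hx) (mul_exact x)
            (quotMap_surjective x) k z = 0 := congrArg Subtype.val hz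
        obtain ⟨w, rfl⟩ := (exact₃ I (mulMap (M := M) x) (quotMap x) (mulMap_injective hx)
          (mul_exact x) (quotMap_surjective x) k z).1 hz'
        rw [Subsingleton.elim w 0, map_zero]
      · rintro ⟨y, hy⟩
        obtain ⟨z, hz⟩ := torsionBy_le_range_Hδ I hx k hy
        exact ⟨z, Subtype.ext hz⟩)

theorem HδTorsionEquiv_apply (k : ℕ) (h0 : Subsingleton (LocCoh.H I k M))
    (z : LocCoh.H I k (M ⧸ LinearMap.range (mulMap (M := M) x))) :
    ((HδTorsionEquiv I hx k h0 z : Submodule.torsionBy R (LocCoh.H I (k + 1) M) x) :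
      LocCoh.H I (k + 1) M) =
      Hδ I (mulMap (M := M) x) (quotMap x) (mulMap_injective hx) (mul_exact x)
        (quotMap_surjective x) k z := rfl

include hx in
/-- `x` is surjective on `H^k_I(M)` when `H^k_I(M/xM) = 0`. -/
theorem smul_surjective_H (k : ℕ)
    (h : Subsingleton (LocCoh.H I k (M ⧸ LinearMap.range (mulMap (M := M) x))))
    (y : LocCoh.H I k M) : ∃ y' : LocCoh.H I k M, x • y' = y := by
  have h2 := exact₂ I (mulMap (M := M) x) (quotMap x) (mul_exact x) (mulMap_injective hx)
    (quotMap_surjective x) k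
  obtain ⟨y', hy'⟩ := (h2 y).1 (Subsingleton.elim _ _)
  refine ⟨y', ?_⟩
  rwa [Hmap_smul, Hmap_id] at hy'

include hx in
/-- vanishing of `H^i_I(M)` and `H^{i+1}_I(M)` gives vanishing of `H^i_I(M/xM)`. -/
theorem subsingleton_H_quot (i : ℕ) (h0 : Subsingleton (LocCoh.H I i M))
    (h1 : Subsingleton (LocCoh.H I (i + 1) M)) :
    Subsingleton (LocCoh.H I i (M ⧸ LinearMap.range (mulMap (M := M) x))) := by
  refine subsingleton_of_forall_eq 0 fun z => ?_
  have h3 := exact₃ I (mulMap (M := M) x) (quotMap x) (mulMap_injective hx) (mul_exact x)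
    (quotMap_surjective x) i
  obtain ⟨w, rfl⟩ := (h3 z).1 (Subsingleton.elim _ _)
  rw [Subsingleton.elim w 0, map_zero]

end single

section list

open RingTheory.Sequence
open scoped Pointwise

theorem range_mulMap' (M : Type u) [AddCommGroup M] [Module R M] (x : R) :
    LinearMap.range (mulMap (M := M) x) = x • (⊤ : Submodule R M) := by
  ext m
  rw [Submodule.mem_smul_pointwise_iff_exists]
  constructor
  · rintro ⟨y, rfl⟩
    exact ⟨y, Submodule.mem_top, by simp⟩
  · rintro ⟨y, -, rfl⟩
    exact ⟨y, by simp⟩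

/-- transport of vanishing along a linear equivalence. -/
theorem subsingleton_H_of_equiv {M M' : Type u} [AddCommGroup M] [Module R M] [AddCommGroup M']
    [Module R M'] (e : M ≃ₗ[R] M') (i : ℕ) (h : Subsingleton (LocCoh.H I i M)) :
    Subsingleton (LocCoh.H I i M') :=
  (Hmap_bijective_of_equiv I e.symm i).1.subsingleton

/-- **Local cohomology modulo a regular sequence**: for an `M`-weakly regular sequence `rs` and
`k + |rs| = j`, if `H^i_I(M) = 0` for `i < j` then `H^k_I(M/(rs)M)` embeds in `H^j_I(M)` with range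
the elements killed by `(rs)`. -/
theorem exists_torsion_embedding : ∀ (rs : List R) (M : Type u) [AddCommGroup M] [Module R M]
    (k j : ℕ), k + rs.length = j → IsWeaklyRegular M rs →
    (∀ i, i < j → Subsingleton (LocCoh.H I i M)) →
    ∃ φ : LocCoh.H I k (M ⧸ (Ideal.ofList rs • ⊤ : Submodule R M)) →ₗ[R] LocCoh.H I j M,
      Function.Injective φ ∧
        ∀ y, y ∈ LinearMap.range φ ↔ ∀ a ∈ Ideal.ofList rs, a • y = 0 := by
  intro rs
  induction rs with
  | nil =>
    intro M _ _ k j hkj _ _
    obtain rfl : k = j := by simpa using hkj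
    have hbot : (Ideal.ofList ([] : List R) • ⊤ : Submodule R M) = ⊥ := by
      rw [Ideal.ofList_nil, Submodule.bot_smul]
    let e : (M ⧸ (Ideal.ofList ([] : List R) • ⊤ : Submodule R M)) ≃ₗ[R] M :=
      Submodule.quotEquivOfEqBot _ hbot
    refine ⟨Hmap I e.toLinearMap k, (Hmap_bijective_of_equiv I e k).1, fun y => ?_⟩
    constructor
    · intro _ a ha
      rw [Ideal.ofList_nil] at ha
      rw [(Submodule.mem_bot R).mp ha, zero_smul]
    · intro _
      exact (Hmap_bijective_of_equiv I e k).2 y
  | cons x rs ih =>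
    intro M _ _ k j hkj hreg hvan
    rw [isWeaklyRegular_cons_iff] at hreg
    obtain ⟨hx, hrs⟩ := hreg
    obtain rfl : j = (k + rs.length) + 1 := by rw [← hkj]; rfl
    -- the quotient `M/xM` in the two models
    let e₁ : (M ⧸ LinearMap.range (mulMap (M := M) x)) ≃ₗ[R] QuotSMulTop x M :=
      Submodule.quotEquivOfEq _ _ (range_mulMap' M x)
    have hvan' : ∀ i, i < k + rs.length → Subsingleton (LocCoh.H I i (QuotSMulTop x M)) := by
      intro i hi
      exact subsingleton_H_of_equiv I e₁ i
        (subsingleton_H_quot I hx i (hvan i (by omega)) (hvan (i + 1) (by omega)))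
    obtain ⟨φ', hφ'inj, hφ'range⟩ := ih (QuotSMulTop x M) k (k + rs.length) rfl hrs hvan'
    let e₂ := Submodule.quotOfListConsSMulTopEquivQuotSMulTopInner M x rs
    let T := HδTorsionEquiv I hx (k + rs.length) (hvan (k + rs.length) (by omega))
    let ψ : LocCoh.H I (k + rs.length) (QuotSMulTop x M) →ₗ[R] LocCoh.H I (k + rs.length + 1) M :=
      (Submodule.torsionBy R (LocCoh.H I (k + rs.length + 1) M) x).subtype ∘ₗ T.toLinearMap ∘ₗ
        Hmap I e₁.symm.toLinearMap (k + rs.length)
    have hψinj : Function.Injective ψ :=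
      (Submodule.injective_subtype _).comp
        (T.injective.comp (Hmap_bijective_of_equiv I e₁.symm (k + rs.length)).1)
    have hψrange : ∀ y, y ∈ LinearMap.range ψ ↔ x • y = 0 := by
      intro y
      constructor
      · rintro ⟨z, rfl⟩
        exact (Submodule.mem_torsionBy_iff _ _).mp (T (Hmap I e₁.symm.toLinearMap _ z)).2
      · intro hy
        obtain ⟨w, hw⟩ := T.surjective ⟨y, (Submodule.mem_torsionBy_iff _ _).mpr hy⟩
        obtain ⟨z, rfl⟩ := (Hmap_bijective_of_equiv I e₁.symm (k + rs.length)).2 w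
        exact ⟨z, congrArg Subtype.val hw⟩
    refine ⟨ψ ∘ₗ φ' ∘ₗ Hmap I e₂.toLinearMap k,
      hψinj.comp (hφ'inj.comp (Hmap_bijective_of_equiv I e₂ k).1), fun y => ?_⟩
    constructor
    · rintro ⟨z, rfl⟩ a ha
      rw [Ideal.ofList_cons, Submodule.mem_sup] at ha
      obtain ⟨b, hb, c, hc, rfl⟩ := ha
      obtain ⟨r, rfl⟩ := Ideal.mem_span_singleton'.mp hb
      have h1 : x • ψ (φ' (Hmap I e₂.toLinearMap k z)) = 0 := (hψrange _).mp ⟨_, rfl⟩
      have h2 : c • φ' (Hmap I e₂.toLinearMap k z) = 0 := (hφ'range _).mp ⟨_, rfl⟩ c hc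
      simp only [LinearMap.comp_apply]
      rw [add_smul, mul_smul, h1, smul_zero, zero_add, ← map_smul, h2, map_zero]
    · intro hy
      have hxy : x • y = 0 := hy x (by
        rw [Ideal.ofList_cons]
        exact Ideal.mem_sup_left (Ideal.mem_span_singleton_self x))
      obtain ⟨w, rfl⟩ := (hψrange y).mpr hxy
      have hw : w ∈ LinearMap.range φ' := by
        rw [hφ'range]
        intro a ha
        apply hψinj
        rw [map_smul, map_zero]
        exact hy a (by
          rw [Ideal.ofList_cons]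
          exact Ideal.mem_sup_right ha)
      obtain ⟨v, rfl⟩ := hw
      obtain ⟨z, rfl⟩ := (Hmap_bijective_of_equiv I e₂ k).2 v
      exact ⟨z, rfl⟩

end list

end Groth.Agent.Lib.H29RegTorsion
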