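import Groth.Agent.Lib.H29AdjD
import Groth.Agent.Lib.H29Bidual
import Groth.Agent.Lib.H29DualLocal
import Groth.Agent.Lib.H29DualIso
import Groth.Prelude.Def_DDual2

/-!
# Coextension of scalars and dualizing complexes (helper29)

`A → B` a ring map, `J` a complex of `A`-modules.  `JB = Hom_A(B, J)` (coextension of scalars).
* `kappa`: the restriction of `JB` to `A` is `T A J N₀`, `N₀ = B` as an `A`-module.
* `bijective_comp_eps`: `Q JB` represents `Y ↦ Hom_{D(A)}(Y|_A, Q J)`.
* `isIso_alpha`: `Q JB ≅ R (Q J)` for any right adjoint `R` of restriction of scalars.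
-/

set_option autoImplicit false
universe u
open CategoryTheory CategoryTheory.Limits Category Pretriangulated DerivedCategory Opposite

namespace Groth.Agent.Lib.H29Coext

attribute [local instance] HasDerivedCategory.standard

open Groth.Agent.Lib.H29Bidual Groth.Agent.Lib.H29AdjD

variable (A B : Type u) [CommRing A] [CommRing B] [Algebra A B]

/-- restriction of scalars -/
noncomputable abbrev Fr : ModuleCat.{u} B ⥤ ModuleCat.{u} A := ModuleCat.restrictScalars (algebraMap A B)

/-- coextension of scalars -/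
noncomputable abbrev Gc : ModuleCat.{u} A ⥤ ModuleCat.{u} B := ModuleCat.coextendScalars (algebraMap A B)

/-- the adjunction -/
noncomputable abbrev adjM : Fr A B ⊣ Gc A B :=
  ModuleCat.restrictCoextendScalarsAdj (algebraMap A B)

instance : (Gc A B).Additive := (adjM A B).right_adjoint_additive

/-- `B` as an `A`-module -/
noncomputable abbrev N₀ : ModuleCat.{u} A := (Fr A B).obj (ModuleCat.of B B)

/-- the linear equivalence `Hom_A(B, M)|_A ≃ Hom_A(N₀, M)` -/
noncomputable def nuLin₀ (M : ModuleCat.{u} A) :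
    ((Fr A B).obj ((Gc A B).obj M)) ≃ₗ[A] (N₀ A B →ₗ[A] M) where
  toFun g := ModuleCat.CoextendScalars.equiv (algebraMap A B) M g
  invFun h := (ModuleCat.CoextendScalars.equiv (algebraMap A B) M).symm h
  map_add' g g' := rfl
  map_smul' r g := by
    ext (x : B)
    have h1 : (ModuleCat.CoextendScalars.equiv (algebraMap A B) M (r • g)) x =
        (ModuleCat.CoextendScalars.equiv (algebraMap A B) M g) (x * algebraMap A B r) := rfl
    rw [h1]
    change _ = r • (ModuleCat.CoextendScalars.equiv (algebraMap A B) M g) x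
    rw [← LinearMap.map_smul]
    congr 1
    change x * algebraMap A B r = algebraMap A B r * x
    exact mul_comm _ _
  left_inv g := rfl
  right_inv h := rfl

/-- the linear equivalence `Hom_A(B, M)|_A ≃ (N₀ ⟶ M)` -/
noncomputable def nuLin (M : ModuleCat.{u} A) :
    ((Fr A B).obj ((Gc A B).obj M)) ≃ₗ[A] (N₀ A B ⟶ M) :=
  (nuLin₀ A B M).trans (ModuleCat.homLinearEquiv (S := A)).symm

/-- the isomorphism `Hom_A(B, M)|_A ≅ Hom_A(N₀, M)` in `ModuleCat A` -/
noncomputable def nu (M : ModuleCat.{u} A) :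
    (Fr A B).obj ((Gc A B).obj M) ≅ (homF A (N₀ A B)).obj M :=
  (nuLin A B M).toModuleIso

lemma nu_hom_apply (M : ModuleCat.{u} A) (g : (Fr A B).obj ((Gc A B).obj M)) (x : B) :
    ((nu A B M).hom.hom g : N₀ A B ⟶ M).hom x =
      ModuleCat.CoextendScalars.equiv (algebraMap A B) M g x := rfl

lemma nu_naturality {M M' : ModuleCat.{u} A} (h : M ⟶ M') :
    (Fr A B).map ((Gc A B).map h) ≫ (nu A B M').hom =
      (nu A B M).hom ≫ (homF A (N₀ A B)).map h := by
  ext g
  rfl

variable (J : CochainComplex (ModuleCat.{u} A) ℤ)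

/-- the coextended complex `Hom_A(B, J)` -/
noncomputable abbrev JB : CochainComplex (ModuleCat.{u} B) ℤ :=
  ((Gc A B).mapHomologicalComplex (ComplexShape.up ℤ)).obj J

/-- its restriction to `A` -/
noncomputable abbrev JBA : CochainComplex (ModuleCat.{u} A) ℤ :=
  ((Fr A B).mapHomologicalComplex (ComplexShape.up ℤ)).obj (JB A B J)

/-- `Hom_A(B, J)|_A ≅ T J N₀` -/
noncomputable def kappa : JBA A B J ≅ T A J (N₀ A B) :=
  HomologicalComplex.Hom.isoOfComponents (fun n => nu A B (J.X n))
    (fun i j _ => (nu_naturality A B (J.d i j)).symm)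

lemma map_smul_comp_counitCx (b : B) :
    ((Fr A B).mapHomologicalComplex (ComplexShape.up ℤ)).map (b • 𝟙 (JB A B J)) ≫
      counitCx (adjM A B) J = (kappa A B J).hom ≫ ev A J (N₀ A B) (b : B) := by
  ext n g
  let g' : (Gc A B).obj (J.X n) := g
  change (ModuleCat.CoextendScalars.equiv (algebraMap A B) (J.X n) (b • g')) (1 : B) =
    (ModuleCat.CoextendScalars.equiv (algebraMap A B) (J.X n) g') b
  rw [ModuleCat.CoextendScalars.smul_apply, one_mul]

lemma injective_JB (hJ : ∀ i, Injective (J.X i)) (n : ℤ) : Injective ((JB A B J).X n) := by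
  haveI := hJ n
  exact Injective.injective_of_adjoint (adjM A B) (J.X n)

lemma isStrictlyGE_JB (a : ℤ) [J.IsStrictlyGE a] : (JB A B J).IsStrictlyGE a := by
  rw [CochainComplex.isStrictlyGE_iff]
  intro q hq
  exact (Gc A B).map_isZero (J.isZero_of_isStrictlyGE a q hq)

lemma isStrictlyLE_JB (b : ℤ) [J.IsStrictlyLE b] : (JB A B J).IsStrictlyLE b := by
  rw [CochainComplex.isStrictlyLE_iff]
  intro q hq
  exact (Gc A B).map_isZero (J.isZero_of_isStrictlyLE b q hq)

lemma isKInjective_JB (hJ : ∀ i, Injective (J.X i)) (a : ℤ) [J.IsStrictlyGE a] :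
    (JB A B J).IsKInjective := by
  haveI := isStrictlyGE_JB A B J a
  haveI : ∀ n, Injective ((JB A B J).X n) := injective_JB A B J hJ
  exact CochainComplex.isKInjective_of_injective (JB A B J) a

/-- restriction of scalars on derived categories -/
noncomputable abbrev rho : Dual.D B ⥤ Dual.D A := DRing.restrictD (algebraMap A B)

/-- the object `Q (Hom_A(B, J))` of `D(B)` -/
noncomputable abbrev XB : Dual.D B := Q.obj (JB A B J)

/-- the canonical map `ρ(XB) ⟶ Q J` -/
noncomputable abbrev epsB : (rho A B).obj (XB A B J) ⟶ Q.obj J := eps (adjM A B) J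

theorem bijective_comp_epsB (hJ : ∀ i, Injective (J.X i)) (a : ℤ) [J.IsStrictlyGE a]
    (Y : Dual.D B) :
    Function.Bijective (fun ψ : Y ⟶ XB A B J => (rho A B).map ψ ≫ epsB A B J) := by
  haveI : ∀ i, Injective (J.X i) := hJ
  haveI : J.IsKInjective := CochainComplex.isKInjective_of_injective J a
  haveI := isKInjective_JB A B J hJ a
  exact bijective_comp_eps (adjM A B) J Y

/-- `ρ(XB) ≅ Q (T J N₀)` -/
noncomputable def theta : (rho A B).obj (XB A B J) ≅ Q.obj (T A J (N₀ A B)) :=
  (Fr A B).mapDerivedCategoryFactors.app (JB A B J) ≪≫ Q.mapIso (kappa A B J)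

lemma map_smul_comp_epsB (b : B) :
    (rho A B).map (b • 𝟙 (XB A B J)) ≫ epsB A B J =
      (theta A B J).hom ≫ Q.map (ev A J (N₀ A B) (b : B)) := by
  have h1 : b • 𝟙 (XB A B J) = Q.map (b • 𝟙 (JB A B J)) := by
    rw [Functor.map_smul, CategoryTheory.Functor.map_id]
  rw [h1, map_Q_map_comp_eps, map_smul_comp_counitCx, Functor.map_comp]
  simp [theta]

section Good

variable (hJ : ∀ i, Injective (J.X i)) (a : ℤ) [J.IsStrictlyGE a] (hgood : Good A J (N₀ A B))

include hJ a hgood in
theorem bijective_smul_id_XB : Function.Bijective (fun b : B => b • 𝟙 (XB A B J)) := by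
  have hΨ := bijective_comp_epsB A B J hJ a (XB A B J)
  have hcomp : Function.Bijective ((fun ψ : XB A B J ⟶ XB A B J =>
      (rho A B).map ψ ≫ epsB A B J) ∘ (fun b : B => b • 𝟙 (XB A B J))) := by
    have h1 : ((fun ψ : XB A B J ⟶ XB A B J => (rho A B).map ψ ≫ epsB A B J) ∘
        (fun b : B => b • 𝟙 (XB A B J))) =
        (fun χ : Q.obj (T A J (N₀ A B)) ⟶ (Q.obj J)⟦(0 : ℤ)⟧ =>
          (theta A B J).hom ≫ χ ≫ (shiftFunctorZero (Dual.D A) ℤ).hom.app (Q.obj J)) ∘
        (eta A J (N₀ A B)) := by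
      funext b
      simp only [Function.comp_apply]
      rw [map_smul_comp_epsB, eta_apply, assoc, Iso.inv_hom_id_app]
      exact (congrArg (fun z => (theta A B J).hom ≫ z) (comp_id _)).symm
    rw [h1]
    refine Function.Bijective.comp ?_ hgood.bij
    constructor
    · intro x y hxy
      simp only at hxy
      rw [cancel_epi, cancel_mono] at hxy
      exact hxy
    · intro x
      refine ⟨(theta A B J).inv ≫ x ≫ (shiftFunctorZero (Dual.D A) ℤ).inv.app (Q.obj J), ?_⟩
      simp
  exact (Function.Bijective.of_comp_iff' hΨ _).mp hcomp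

include hgood in
theorem subsingleton_rho_XB_hom (i : ℤ) (hi : i ≠ 0) :
    Subsingleton ((rho A B).obj (XB A B J) ⟶ (Q.obj J)⟦i⟧) := by
  haveI := hgood.vanish i hi
  refine ⟨fun f g => ?_⟩
  rw [← cancel_epi (theta A B J).inv]
  exact Subsingleton.elim _ _

end Good

section RightAdjoint

variable (R : Dual.D A ⥤ Dual.D B) (adj : rho A B ⊣ R)

/-- the comparison `XB ⟶ R (Q J)` -/
noncomputable def alpha : XB A B J ⟶ R.obj (Q.obj J) :=
  adj.homEquiv (XB A B J) (Q.obj J) (epsB A B J)

theorem isIso_alpha (hJ : ∀ i, Injective (J.X i)) (a : ℤ) [J.IsStrictlyGE a] :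
    IsIso (alpha A B J R adj) := by
  apply isIso_of_yoneda_map_bijective
  intro Y
  have hΨ := bijective_comp_epsB A B J hJ a Y
  have h1 : (fun ψ : Y ⟶ XB A B J => ψ ≫ alpha A B J R adj) =
      (adj.homEquiv Y (Q.obj J)) ∘ (fun ψ : Y ⟶ XB A B J => (rho A B).map ψ ≫ epsB A B J) := by
    funext ψ
    simp only [Function.comp_apply, alpha]
    rw [Adjunction.homEquiv_naturality_left]
  rw [h1]
  exact (adj.homEquiv Y (Q.obj J)).bijective.comp hΨ

end RightAdjoint

end Groth.Agent.Lib.H29Coext
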