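import Groth.Agent.Lib.DProjHom
import Groth.Agent.Lib.H29DualLocal

/-!
# `Hom_D(A[0], K[j]) ≃ H^j(K)` (helper29)
-/

set_option autoImplicit false
universe u
open CategoryTheory CategoryTheory.Limits Category DerivedCategory

namespace Groth.Agent.Lib.H29HomFree

attribute [local instance] HasDerivedCategory.standard

variable (A : Type u) [CommRing A]

/-- `Hom_D(A[0], K[j]) ≃ H^j(K)`. -/
theorem nonempty_equiv (K : Dual.D A) (j : ℤ) :
    Nonempty ((Dual.inD A A ⟶ K⟦j⟧) ≃ Dual.HD A K j) := by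
  haveI : Projective (ModuleCat.of A A) :=
    (IsProjective.iff_projective _).mp inferInstance
  let e1 := Equiv.ofBijective _
    (Groth.Agent.Lib.DProjHom.homToH0_bijective (ModuleCat.of A A) (K⟦j⟧))
  let σ : (homologyFunctor (ModuleCat.{u} A) 0).obj (K⟦j⟧) ≅
      (homologyFunctor (ModuleCat.{u} A) j).obj K :=
    ((homologyFunctor (ModuleCat.{u} A) 0).shiftIso j 0 j (add_zero j)).app K
  let e2 : (ModuleCat.of A A ⟶ (homologyFunctor (ModuleCat.{u} A) 0).obj (K⟦j⟧)) ≃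
      (ModuleCat.of A A ⟶ (homologyFunctor (ModuleCat.{u} A) j).obj K) :=
    Iso.homToEquiv σ
  let e3 : (ModuleCat.of A A ⟶ (homologyFunctor (ModuleCat.{u} A) j).obj K) ≃
      (A →ₗ[A] Dual.HD A K j) := ModuleCat.homEquiv
  let e4 : (A →ₗ[A] Dual.HD A K j) ≃ Dual.HD A K j :=
    (LinearMap.ringLmapEquivSelf A A (Dual.HD A K j)).toEquiv
  exact ⟨e1.trans (e2.trans (e3.trans e4))⟩

end Groth.Agent.Lib.H29HomFree
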