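import Groth.Agent.Lib.H29DualMin
import Mathlib.RingTheory.KrullDimension.NonZeroDivisors

/-!
# Catenarity from a dualizing complex (helper29)

* `degAt_le_of_le`, `degAt_strictMono`.
* `exists_ltSeries`: for `p ≤ q` there is a chain of primes from `p` to `q` of length
  `degAt q - degAt p` (a saturated chain).
* `ringKrullDim_quotient_eq`: for `A` local, `dim A/p = degAt m - degAt p`.
* `degAt_closedPoint`: for normalized `ω`, `degAt m = 0`.
* `degAt_eq_neg_dim`: for normalized `ω`, `dim A/p = e ⇒ degAt p = -e`.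
-/

set_option autoImplicit false
universe u
open CategoryTheory CategoryTheory.Limits Category Pretriangulated DerivedCategory

namespace Groth.Agent.Lib.H29DualPrime

attribute [local instance] HasDerivedCategory.standard

open Groth.Agent.Lib.H29LocD Groth.Agent.Lib.H29DualShift Groth.Agent.Lib.H29DualLocal

section Global

variable (A : Type u) [CommRing A] (ω : Dual.D A) (hω : Dual.IsDualizing A ω)

theorem degAt_strictMono : StrictMono (degAt A ω hω) := by
  haveI := hω.isNoetherianRing
  intro p q hpq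
  exact degAt_lt_of_lt A ω hω _ p q rfl hpq

theorem degAt_le_of_le (p q : PrimeSpectrum A) (h : p ≤ q) : degAt A ω hω p ≤ degAt A ω hω q :=
  (degAt_strictMono A ω hω).monotone h

theorem exists_ltSeries : ∀ (n : ℕ) (p q : PrimeSpectrum A), p ≤ q →
    degAt A ω hω q - degAt A ω hω p = n →
    ∃ x : LTSeries (PrimeSpectrum A), x.head = p ∧ x.last = q ∧ x.length = n := by
  haveI := hω.isNoetherianRing
  intro n
  induction n with
  | zero =>
    intro p q hpq h
    rcases eq_or_lt_of_le hpq with h1 | h1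
    · subst h1
      exact ⟨RelSeries.singleton _ p, rfl, rfl, rfl⟩
    · have := degAt_strictMono A ω hω h1
      simp at h
      omega
  | succ n IH =>
    intro p q hpq h
    have hlt : p < q := by
      rcases eq_or_lt_of_le hpq with h1 | h1
      · subst h1
        simp at h
        omega
      · exact h1
    let T : Set (PrimeSpectrum A) := {r | p ≤ r ∧ r < q}
    have hT : T.Nonempty := ⟨p, le_rfl, hlt⟩
    haveI : WellFoundedGT (PrimeSpectrum A) :=
      (show StrictMono (PrimeSpectrum.asIdeal : PrimeSpectrum A → Ideal A) from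
        fun _ _ h => h).wellFoundedGT
    obtain ⟨r, hrT, hrmax⟩ := (wellFounded_gt (α := PrimeSpectrum A)).has_min T hT
    have hcov : r ⋖ q := by
      refine ⟨hrT.2, fun c hrc hcq => ?_⟩
      exact hrmax c ⟨le_trans hrT.1 hrc.le, hcq⟩ hrc
    have h1 := degAt_covBy A ω hω r q hcov
    obtain ⟨x, hx0, hx1, hxl⟩ := IH p r hrT.1 (by push_cast at h ⊢; omega)
    refine ⟨x.snoc q (by rw [hx1]; exact hrT.2), ?_, ?_, ?_⟩
    · rw [RelSeries.head_snoc, hx0]
    · rw [RelSeries.last_snoc]
    · simp [RelSeries.snoc, hxl]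

end Global

section Local

variable (A : Type u) [CommRing A] [IsLocalRing A] (ω : Dual.D A) (hω : Dual.IsDualizing A ω)

theorem ringKrullDim_quotient_eq (p : PrimeSpectrum A) :
    ringKrullDim (A ⧸ p.asIdeal) =
      (((degAt A ω hω (IsLocalRing.closedPoint A) - degAt A ω hω p).toNat : ℕ) : WithBot ℕ∞) := by
  haveI := hω.isNoetherianRing
  have hle : p ≤ IsLocalRing.closedPoint A := IsLocalRing.le_maximalIdeal p.2.ne_top
  have hd := degAt_le_of_le A ω hω p _ hle
  rw [ringKrullDim_quotient]
  haveI : Nonempty (PrimeSpectrum.zeroLocus (R := A) p.asIdeal) := ⟨⟨p, (le_rfl : p.asIdeal ≤ p.asIdeal)⟩⟩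
  apply le_antisymm
  · rw [Order.krullDim_eq_iSup_length]
    have : ∀ x : LTSeries (PrimeSpectrum.zeroLocus (R := A) p.asIdeal),
        x.length ≤ (degAt A ω hω (IsLocalRing.closedPoint A) - degAt A ω hω p).toNat := by
      intro x
      have hsm : StrictMono (fun y : PrimeSpectrum.zeroLocus (R := A) p.asIdeal =>
          degAt A ω hω y.1) := fun a b hab => degAt_strictMono A ω hω hab
      have h1 := LTSeries.head_add_length_le_int (x.map _ hsm)
      simp only [LTSeries.head_map, LTSeries.last_map, LTSeries.map_length] at h1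
      have h2 : degAt A ω hω p ≤ degAt A ω hω x.head.1 :=
        degAt_le_of_le A ω hω p _ x.head.2
      have h3 : degAt A ω hω x.last.1 ≤ degAt A ω hω (IsLocalRing.closedPoint A) :=
        degAt_le_of_le A ω hω _ _ (IsLocalRing.le_maximalIdeal x.last.1.2.ne_top)
      omega
    have h2 : (⨆ x : LTSeries (PrimeSpectrum.zeroLocus (R := A) p.asIdeal), (x.length : ℕ∞)) ≤
        ((degAt A ω hω (IsLocalRing.closedPoint A) - degAt A ω hω p).toNat : ℕ∞) :=
      iSup_le fun x => by exact_mod_cast this x
    exact_mod_cast h2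
  · obtain ⟨x, hx0, hx1, hxl⟩ := exists_ltSeries A ω hω
      (degAt A ω hω (IsLocalRing.closedPoint A) - degAt A ω hω p).toNat p _ hle (by omega)
    have hmem : ∀ i, x i ∈ PrimeSpectrum.zeroLocus (R := A) p.asIdeal := by
      intro i
      have : x.head ≤ x i := x.strictMono.monotone (Fin.zero_le _)
      rw [hx0] at this
      exact this
    let y : LTSeries (PrimeSpectrum.zeroLocus (R := A) p.asIdeal) :=
      LTSeries.mk x.length (fun i => ⟨x i, hmem i⟩) (fun a b hab => x.strictMono hab)
    have := Order.LTSeries.length_le_krullDim y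
    rw [← hxl]
    exact this

variable (hn : Dual.IsNormalized A ω)

include hn in
theorem degAt_closedPoint : degAt A ω hω (IsLocalRing.closedPoint A) = 0 := by
  haveI := hω.isNoetherianRing
  symm
  rw [← hasAnnLE_iff_degAt A ω hω (IsLocalRing.closedPoint A) 0]
  have hnt : Nontrivial (Dual.inD A (IsLocalRing.ResidueField A) ⟶ ω⟦(0 : ℤ)⟧) :=
    nontrivial_T_residue A ω hω hn
  obtain ⟨g, hg⟩ : ∃ g : Dual.inD A (A ⧸ (IsLocalRing.closedPoint A).asIdeal) ⟶ ω⟦(0 : ℤ)⟧,
      g ≠ 0 := exists_ne (0 : Dual.inD A (IsLocalRing.ResidueField A) ⟶ ω⟦(0 : ℤ)⟧)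
  refine ⟨g, fun c hc => ?_⟩
  by_contra hcm
  have hu : IsUnit c := by
    by_contra hnu
    exact hcm ((IsLocalRing.mem_maximalIdeal c).mpr hnu)
  obtain ⟨u, rfl⟩ := hu
  apply hg
  have := congrArg (fun t => (↑u⁻¹ : A) • t) hc
  simpa [← mul_smul] using this

include hn in
theorem degAt_eq_neg_dim (p : PrimeSpectrum A) (e : ℕ)
    (he : ringKrullDim (A ⧸ p.asIdeal) = e) : degAt A ω hω p = -(e : ℤ) := by
  haveI := hω.isNoetherianRing
  have hle : p ≤ IsLocalRing.closedPoint A := IsLocalRing.le_maximalIdeal p.2.ne_top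
  have hd := degAt_le_of_le A ω hω p _ hle
  have h1 := ringKrullDim_quotient_eq A ω hω p
  rw [he, degAt_closedPoint A ω hω hn] at h1
  rw [degAt_closedPoint A ω hω hn] at hd
  have h2 : e = (0 - degAt A ω hω p).toNat := by exact_mod_cast h1
  omega

end Local

end Groth.Agent.Lib.H29DualPrime
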