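import Groth.Agent.Lib.H29DualIso
import Groth.Agent.S0365
import Groth.Agent.S1719

/-!
# Dualizing modules force Cohen–Macaulayness (helper29)

* `exists_nat_eq_of_lt_top`.
* `supportDim_eq_depth_of_dualizing_module`: local `B` with `W[0]` dualizing is CM.
* `isDualizing_inD_localization`: `W[0]` dualizing over `A` ⇒ `W_p[0]` dualizing over `A_p`.
-/

set_option autoImplicit false
universe u
open CategoryTheory CategoryTheory.Limits Category Pretriangulated DerivedCategory

namespace Groth.Agent.Lib.H29DualPrime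

attribute [local instance] HasDerivedCategory.standard

open Groth.Agent.Lib.H29LocD Groth.Agent.Lib.H29DualShift Groth.Agent.Lib.H29DualLocal

lemma exists_nat_eq_of_lt_top {x : WithBot ℕ∞} (h0 : 0 ≤ x) (h1 : x < ⊤) : ∃ d : ℕ, x = d := by
  induction x using WithBot.recBotCoe with
  | bot => simp at h0
  | coe y =>
    induction y using ENat.recTopCoe with
    | top => exact absurd h1 (lt_irrefl _)
    | coe d => exact ⟨d, rfl⟩

theorem supportDim_eq_depth_of_dualizing_module (B : Type u) [CommRing B] [IsLocalRing B]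
    [IsNoetherianRing B] (W : Type u) [AddCommGroup W] [Module B W]
    (h : Dual.IsDualizing B (Dual.inD B W)) :
    Module.supportDim B B = ((LocCoh.depth B B : ℕ∞) : WithBot ℕ∞) := by
  obtain ⟨n, hnorm, -, -⟩ := exists_normalized_shift B (Dual.inD B W) h
  have hω := isDualizing_shift B _ h n
  have key : ∀ i : ℤ, Nontrivial (Dual.HD B ((Dual.inD B W)⟦n⟧) i) → i = -n := by
    intro i hnt
    by_contra hne
    haveI : Subsingleton (Dual.HD B (Dual.inD B W) (n + i)) :=
      subsingleton_HD_inD B W (n + i) (by omega)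
    let σ : (homologyFunctor (ModuleCat.{u} B) i).obj ((Dual.inD B W)⟦n⟧) ≅
        (homologyFunctor (ModuleCat.{u} B) (n + i)).obj (Dual.inD B W) :=
      ((homologyFunctor (ModuleCat.{u} B) 0).shiftIso n i (n + i) rfl).app (Dual.inD B W)
    haveI : Subsingleton (Dual.HD B ((Dual.inD B W)⟦n⟧) i) :=
      σ.toLinearEquiv.toEquiv.subsingleton
    exact not_nontrivial _ hnt
  obtain ⟨m, hm⟩ := ENat.ne_top_iff_exists.mp
    (Groth.Agent.Lib.DepthRees.depth_ne_top (R := B) B)
  have h1 := ((Groth.Agent.S0365.result B _ hω hnorm m).mp hm.symm).2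
  have e1 := key _ h1
  obtain ⟨d, hd⟩ := exists_nat_eq_of_lt_top (ringKrullDim_nonneg_of_nontrivial (R := B))
    (ringKrullDim_lt_top B _ hω)
  obtain ⟨p, hp, hpd⟩ := exists_minimalPrimes_dim_eq B d hd
  have h2 := (Groth.Agent.S1719.result B _ hω hnorm p hp d hpd (-(d : ℤ))).mpr rfl
  have h3 : Nontrivial (Dual.HD B ((Dual.inD B W)⟦n⟧) (-(d : ℤ))) := by
    by_contra hcon
    rw [not_nontrivial_iff_subsingleton] at hcon
    haveI := hp.1.1
    haveI : Subsingleton (LocalizedModule p.primeCompl
        (Dual.HD B ((Dual.inD B W)⟦n⟧) (-(d : ℤ)))) :=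
      LocalizedModule.subsingleton_iff.mpr
        (fun x => ⟨1, p.primeCompl.one_mem, Subsingleton.elim _ _⟩)
    exact not_nontrivial _ h2
  have e2 := key _ h3
  rw [Module.supportDim_self_eq_ringKrullDim, hd, ← hm]
  have : d = m := by omega
  rw [this]
  rfl

variable (A : Type u) [CommRing A]

theorem isDualizing_inD_localization (S : Submonoid A) (W : Type u) [AddCommGroup W] [Module A W]
    (h : Dual.IsDualizing A (Dual.inD A W)) :
    Dual.IsDualizing (Localization S) (Dual.inD (Localization S) (LocalizedModule S W)) :=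
  isDualizing_of_iso (Localization S) (LDmodIso A S W) (isDualizing_LD S _ h)

end Groth.Agent.Lib.H29DualPrime
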