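import Groth.Agent.Lib.H29DualCat

/-!
# Supports of `Ext^i(M, ω)` via localization (helper29)

* `hasAnnLE_maximalIdeal_iff`.
* `LDmodIso : S⁻¹(M[0]) ≅ (S⁻¹M)[0]` with the honest `LocalizedModule`.
* `mem_support_iff`: `q ∈ Supp Hom(K, ω⟦i⟧) ↔ Hom(K_q, ω_q⟦i⟧) ≠ 0`.
* `WAt`: the normalized dualizing complex `ω_q⟦degAt q⟧` of `A_q`; `isDualizing_WAt`,
  `isNormalized_WAt`.
* `mem_support_inD_iff`: `q ∈ Supp Hom(M[0], ω⟦i⟧) ↔ Hom(M_q[0], W_q⟦j⟧) ≠ 0`,
  `degAt q + j = i`.
-/

set_option autoImplicit false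
universe u
open CategoryTheory CategoryTheory.Limits Category Pretriangulated DerivedCategory

namespace Groth.Agent.Lib.H29DualPrime

attribute [local instance] HasDerivedCategory.standard

open Groth.Agent.Lib.H29LocD Groth.Agent.Lib.H29DualShift Groth.Agent.Lib.H29DualLocal

lemma hasAnnLE_maximalIdeal_iff (R : Type*) [CommRing R] [IsLocalRing R] (E : Type*)
    [AddCommGroup E] [Module R E] :
    HasAnnLE (IsLocalRing.maximalIdeal R) E ↔ Nontrivial E := by
  constructor
  · intro h
    by_contra hnt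
    rw [not_nontrivial_iff_subsingleton] at hnt
    exact not_hasAnnLE_of_subsingleton _ (IsLocalRing.maximalIdeal.isMaximal R).ne_top E h
  · intro h
    obtain ⟨g, hg⟩ := exists_ne (0 : E)
    refine ⟨g, fun c hc => ?_⟩
    by_contra hcm
    have hu : IsUnit c := by
      by_contra hnu
      exact hcm ((IsLocalRing.mem_maximalIdeal c).mpr hnu)
    obtain ⟨u, rfl⟩ := hu
    apply hg
    have := congrArg (fun t => (↑u⁻¹ : R) • t) hc
    simpa [← mul_smul] using this

variable (A : Type u) [CommRing A]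

/-- `S⁻¹(M[0]) ≅ (S⁻¹M)[0]` with the honest `LocalizedModule` -/
noncomputable def LDmodIso (S : Submonoid A) (M : Type u) [AddCommGroup M] [Module A M] :
    (LD S).obj (Dual.inD A M) ≅ Dual.inD (Localization S) (LocalizedModule S M) :=
  LDinDIso S (ModuleCat.of A M) ≪≫
    (singleFunctor (ModuleCat.{u} (Localization S)) 0).mapIso
      (Shrink.linearEquiv (Localization S) (LocalizedModule S M)).toModuleIso

variable (ω : Dual.D A) (hω : Dual.IsDualizing A ω)

include hω in
theorem mem_support_iff (q : PrimeSpectrum A) (K : Dual.D A) (a b : ℤ) [K.IsGE a]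
    [K.IsLE b] (hK : ∀ i : ℤ, Module.Finite A (Dual.HD A K i))
    (K' : Dual.D (Localization q.asIdeal.primeCompl))
    (α : (LD q.asIdeal.primeCompl).obj K ≅ K') (i : ℤ) :
    q ∈ Module.support A (K ⟶ ω⟦i⟧) ↔ Nontrivial (K' ⟶ (ωAt A ω q)⟦i⟧) := by
  rw [Module.mem_support_iff, ← hasAnnLE_iff_nontrivial_localizedModule,
    hasAnnLE_iff q.asIdeal ω hω q.asIdeal le_rfl K a b hK K' α i,
    Localization.AtPrime.map_eq_maximalIdeal, hasAnnLE_maximalIdeal_iff]

/-- the normalized dualizing complex of `A_q` -/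
noncomputable abbrev WAt (q : PrimeSpectrum A) : Dual.D (Localization q.asIdeal.primeCompl) :=
  (ωAt A ω q)⟦degAt A ω hω q⟧

theorem isDualizing_WAt (q : PrimeSpectrum A) :
    Dual.IsDualizing (Localization q.asIdeal.primeCompl) (WAt A ω hω q) :=
  isDualizing_shift (Localization q.asIdeal.primeCompl) (ωAt A ω q)
    (isDualizing_LD q.asIdeal.primeCompl ω hω) (degAt A ω hω q)

theorem isNormalized_WAt (q : PrimeSpectrum A) :
    Dual.IsNormalized (Localization q.asIdeal.primeCompl) (WAt A ω hω q) :=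
  (degAt_spec A ω hω q).1

theorem mem_support_inD_iff (q : PrimeSpectrum A) (M : Type u) [AddCommGroup M] [Module A M]
    [Module.Finite A M] (i j : ℤ) (h : degAt A ω hω q + j = i) :
    q ∈ Module.support A (Dual.inD A M ⟶ ω⟦i⟧) ↔
      Nontrivial (Dual.inD (Localization q.asIdeal.primeCompl)
        (LocalizedModule q.asIdeal.primeCompl M) ⟶ (WAt A ω hω q)⟦j⟧) := by
  rw [mem_support_iff A ω hω q (Dual.inD A M) 0 0 (finite_HD_inD A M) _
    (LDmodIso A q.asIdeal.primeCompl M) i]
  let e := homShiftEquiv (Localization q.asIdeal.primeCompl)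
    (Dual.inD (Localization q.asIdeal.primeCompl) (LocalizedModule q.asIdeal.primeCompl M))
    (ωAt A ω q) (degAt A ω hω q) j i h
  exact ⟨fun hnt => e.toEquiv.nontrivial, fun hnt => e.symm.toEquiv.nontrivial⟩

end Groth.Agent.Lib.H29DualPrime
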