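import Groth.Agent.Lib.H29DualCM
import Groth.Agent.S19859
import Groth.Agent.S0366
import Groth.Agent.Lib.SerreSk

/-!
# The Cohen–Macaulay locus via a dualizing complex (helper29)

`A` Noetherian with dualizing complex `ω`, `M` finite, `E^i = Hom_{D(A)}(M[0], ω⟦i⟧)`.

* local: `exists_supportDim_nat`, `range_of_nontrivial_T`.
* global: `nontrivial_of_mem_support`, `mem_support_dim`, `mem_support_depth`,
  `range_of_mem_support`, `cm_iff`, `isOpen_cm_locus`, `support_subset_closure_cm`.
-/

set_option autoImplicit false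
universe u
open CategoryTheory CategoryTheory.Limits Category Pretriangulated DerivedCategory

namespace Groth.Agent.Lib.H29DualPrime

attribute [local instance] HasDerivedCategory.standard

open Groth.Agent.Lib.H29LocD Groth.Agent.Lib.H29DualShift Groth.Agent.Lib.H29DualLocal

lemma exists_nat_eq_of_ne_bot_of_lt_top {x : WithBot ℕ∞} (h0 : x ≠ ⊥) (h1 : x < ⊤) :
    ∃ d : ℕ, x = d := by
  induction x using WithBot.recBotCoe with
  | bot => exact absurd rfl h0
  | coe y =>
    induction y using ENat.recTopCoe with
    | top => exact absurd h1 (lt_irrefl _)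
    | coe d => exact ⟨d, rfl⟩

section Local

variable (B : Type u) [CommRing B] [IsLocalRing B] [IsNoetherianRing B] (ω : Dual.D B)
  (hω : Dual.IsDualizing B ω) (hn : Dual.IsNormalized B ω)
  (N : Type u) [AddCommGroup N] [Module B N] [Module.Finite B N] [Nontrivial N]

include hω in
theorem exists_supportDim_nat : ∃ d : ℕ, Module.supportDim B N = d :=
  exists_nat_eq_of_ne_bot_of_lt_top (Module.supportDim_ne_bot_of_nontrivial B N)
    (lt_of_le_of_lt (Module.supportDim_le_ringKrullDim B N) (ringKrullDim_lt_top B ω hω))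

include hω hn in
theorem range_of_nontrivial_T (d δ : ℕ) (hd : Module.supportDim B N = d)
    (hδ : LocCoh.depth B N = δ) (j : ℤ) (h : Nontrivial (Dual.inD B N ⟶ ω⟦j⟧)) :
    -(d : ℤ) ≤ j ∧ j ≤ -(δ : ℤ) := by
  obtain ⟨h1, h2⟩ := (Groth.Agent.S0366.result B ω hω hn N d hd j).1 h
  refine ⟨h1, ?_⟩
  by_contra hcon
  obtain ⟨k, rfl⟩ : ∃ k : ℕ, j = -(k : ℤ) := ⟨(-j).toNat, by omega⟩
  obtain ⟨g1, _⟩ := depth_imp B ω hω hn δ N hδ
  haveI := g1 k (by omega)
  exact not_nontrivial _ h

end Local

section Global

variable (A : Type u) [CommRing A] [IsNoetherianRing A] (ω : Dual.D A)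
  (hω : Dual.IsDualizing A ω) (M : Type u) [AddCommGroup M] [Module A M] [Module.Finite A M]

include hω in
theorem nontrivial_of_mem_support (p : PrimeSpectrum A) (i : ℤ)
    (h : p ∈ Module.support A (Dual.inD A M ⟶ ω⟦i⟧)) :
    Nontrivial (LocalizedModule p.asIdeal.primeCompl M) := by
  have hnt := (mem_support_inD_iff A ω hω p M i (i - degAt A ω hω p) (by ring)).mp h
  by_contra hcon
  rw [not_nontrivial_iff_subsingleton] at hcon
  have hz : IsZero (Dual.inD (Localization p.asIdeal.primeCompl)
      (LocalizedModule p.asIdeal.primeCompl M)) :=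
    (DerivedCategory.singleFunctor (ModuleCat.{u} (Localization p.asIdeal.primeCompl)) 0).map_isZero
      (ModuleCat.isZero_of_subsingleton _)
  obtain ⟨f, g, hfg⟩ := hnt
  exact hfg (hz.eq_of_src _ _)

theorem mem_support_dim (p : PrimeSpectrum A)
    [Nontrivial (LocalizedModule p.asIdeal.primeCompl M)] (d : ℕ)
    (hd : Module.supportDim (Localization.AtPrime p.asIdeal)
      (LocalizedModule p.asIdeal.primeCompl M) = d) :
    p ∈ Module.support A (Dual.inD A M ⟶ ω⟦degAt A ω hω p - d⟧) := by
  haveI : IsNoetherianRing (Localization p.asIdeal.primeCompl) :=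
    IsLocalization.isNoetherianRing p.asIdeal.primeCompl _ inferInstance
  haveI : Module.Finite (Localization p.asIdeal.primeCompl)
    (LocalizedModule p.asIdeal.primeCompl M) := inferInstance
  rw [mem_support_inD_iff A ω hω p M _ (-(d : ℤ)) (by ring)]
  exact Groth.Agent.S19859.result (Localization p.asIdeal.primeCompl) _
    (isDualizing_WAt A ω hω p) (isNormalized_WAt A ω hω p) _ d hd

theorem mem_support_depth (p : PrimeSpectrum A)
    [Nontrivial (LocalizedModule p.asIdeal.primeCompl M)] (δ : ℕ)
    (hδ : LocCoh.depth (Localization.AtPrime p.asIdeal)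
      (LocalizedModule p.asIdeal.primeCompl M) = δ) :
    p ∈ Module.support A (Dual.inD A M ⟶ ω⟦degAt A ω hω p - δ⟧) := by
  haveI : IsNoetherianRing (Localization p.asIdeal.primeCompl) :=
    IsLocalization.isNoetherianRing p.asIdeal.primeCompl _ inferInstance
  haveI : Module.Finite (Localization p.asIdeal.primeCompl)
    (LocalizedModule p.asIdeal.primeCompl M) := inferInstance
  rw [mem_support_inD_iff A ω hω p M _ (-(δ : ℤ)) (by ring)]
  exact (depth_imp (Localization p.asIdeal.primeCompl) _
    (isDualizing_WAt A ω hω p) (isNormalized_WAt A ω hω p) δ _ hδ).2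

theorem range_of_mem_support (p : PrimeSpectrum A)
    [Nontrivial (LocalizedModule p.asIdeal.primeCompl M)] (d δ : ℕ)
    (hd : Module.supportDim (Localization.AtPrime p.asIdeal)
      (LocalizedModule p.asIdeal.primeCompl M) = d)
    (hδ : LocCoh.depth (Localization.AtPrime p.asIdeal)
      (LocalizedModule p.asIdeal.primeCompl M) = δ) (i : ℤ)
    (h : p ∈ Module.support A (Dual.inD A M ⟶ ω⟦i⟧)) :
    degAt A ω hω p - d ≤ i ∧ i ≤ degAt A ω hω p - δ := by
  haveI : IsNoetherianRing (Localization p.asIdeal.primeCompl) :=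
    IsLocalization.isNoetherianRing p.asIdeal.primeCompl _ inferInstance
  haveI : Module.Finite (Localization p.asIdeal.primeCompl)
    (LocalizedModule p.asIdeal.primeCompl M) := inferInstance
  have hnt := (mem_support_inD_iff A ω hω p M i (i - degAt A ω hω p) (by ring)).mp h
  have := range_of_nontrivial_T (Localization p.asIdeal.primeCompl) _
    (isDualizing_WAt A ω hω p) (isNormalized_WAt A ω hω p) _ d δ hd hδ _ hnt
  omega

include hω in
theorem exists_dim_depth (p : PrimeSpectrum A)
    [Nontrivial (LocalizedModule p.asIdeal.primeCompl M)] :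
    ∃ d δ : ℕ, Module.supportDim (Localization.AtPrime p.asIdeal)
      (LocalizedModule p.asIdeal.primeCompl M) = d ∧
      LocCoh.depth (Localization.AtPrime p.asIdeal)
      (LocalizedModule p.asIdeal.primeCompl M) = δ := by
  haveI : IsNoetherianRing (Localization p.asIdeal.primeCompl) :=
    IsLocalization.isNoetherianRing p.asIdeal.primeCompl _ inferInstance
  haveI : Module.Finite (Localization p.asIdeal.primeCompl)
    (LocalizedModule p.asIdeal.primeCompl M) := inferInstance
  obtain ⟨d, hd⟩ := exists_supportDim_nat (Localization p.asIdeal.primeCompl) _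
    (isDualizing_WAt A ω hω p) (LocalizedModule p.asIdeal.primeCompl M)
  obtain ⟨δ, hδ⟩ := ENat.ne_top_iff_exists.mp (Groth.Agent.Lib.DepthRees.depth_ne_top
    (R := Localization p.asIdeal.primeCompl) (LocalizedModule p.asIdeal.primeCompl M))
  exact ⟨d, δ, hd, hδ.symm⟩

include hω in
/-- `M_p` is zero or Cohen–Macaulay iff at most one `Ext^i(M, ω)` is supported at `p`. -/
theorem cm_iff (p : PrimeSpectrum A) :
    (Subsingleton (LocalizedModule p.asIdeal.primeCompl M) ∨
      LocCoh.IsCohenMacaulayModule (Localization.AtPrime p.asIdeal)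
        (LocalizedModule p.asIdeal.primeCompl M)) ↔
    ∀ i j : ℤ, p ∈ Module.support A (Dual.inD A M ⟶ ω⟦i⟧) →
      p ∈ Module.support A (Dual.inD A M ⟶ ω⟦j⟧) → i = j := by
  constructor
  · intro h i j hi hj
    haveI := nontrivial_of_mem_support A ω hω M p i hi
    rcases h with h | h
    · exact absurd h (not_subsingleton _)
    · obtain ⟨d, δ, hd, hδ⟩ := exists_dim_depth A ω hω M p
      have h1 := range_of_mem_support A ω hω M p d δ hd hδ i hi
      have h2 := range_of_mem_support A ω hω M p d δ hd hδ j hj
      unfold LocCoh.IsCohenMacaulayModule at h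
      rw [hd, hδ] at h
      have : d = δ := by exact_mod_cast h
      omega
  · intro h
    by_cases hs : Subsingleton (LocalizedModule p.asIdeal.primeCompl M)
    · exact Or.inl hs
    · right
      rw [not_subsingleton_iff_nontrivial] at hs
      obtain ⟨d, δ, hd, hδ⟩ := exists_dim_depth A ω hω M p
      have h1 := mem_support_dim A ω hω M p d hd
      have h2 := mem_support_depth A ω hω M p δ hδ
      have h3 := h _ _ h1 h2
      have : d = δ := by omega
      unfold LocCoh.IsCohenMacaulayModule
      rw [hd, hδ, this]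
      rfl

include hω in
theorem isOpen_cm_locus :
    IsOpen {p : PrimeSpectrum A | Subsingleton (LocalizedModule p.asIdeal.primeCompl M) ∨
      LocCoh.IsCohenMacaulayModule (Localization.AtPrime p.asIdeal)
        (LocalizedModule p.asIdeal.primeCompl M)} := by
  obtain ⟨a, b, hab⟩ := hω.finite_injective_dimension
  rw [← isClosed_compl_iff]
  have hset : {p : PrimeSpectrum A | Subsingleton (LocalizedModule p.asIdeal.primeCompl M) ∨
      LocCoh.IsCohenMacaulayModule (Localization.AtPrime p.asIdeal)
        (LocalizedModule p.asIdeal.primeCompl M)}ᶜ =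
      ⋃ x ∈ ((Finset.Icc a b ×ˢ Finset.Icc a b).filter (fun x => x.1 ≠ x.2) : Finset (ℤ × ℤ)),
        (Module.support A (Dual.inD A M ⟶ ω⟦x.1⟧) ∩
          Module.support A (Dual.inD A M ⟶ ω⟦x.2⟧)) := by
    ext p
    simp only [Set.mem_compl_iff, Set.mem_setOf_eq, Set.mem_iUnion, Set.mem_inter_iff,
      exists_prop]
    rw [cm_iff A ω hω M p]
    push Not
    constructor
    · rintro ⟨i, j, hi, hj, hij⟩
      refine ⟨(i, j), ?_, hi, hj⟩
      have hi' : a ≤ i ∧ i ≤ b := by
        by_contra hcon
        haveI := hab M i (by omega)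
        rw [Module.support_eq_empty] at hi
        exact hi
      have hj' : a ≤ j ∧ j ≤ b := by
        by_contra hcon
        haveI := hab M j (by omega)
        rw [Module.support_eq_empty] at hj
        exact hj
      simp only [Finset.mem_filter, Finset.mem_product, Finset.mem_Icc]
      exact ⟨⟨hi', hj'⟩, hij⟩
    · rintro ⟨⟨i, j⟩, hx, hi, hj⟩
      simp only [Finset.mem_filter] at hx
      exact ⟨i, j, hi, hj, hx.2⟩
  rw [hset]
  refine Set.Finite.isClosed_biUnion (Finset.finite_toSet _) (fun x _ => ?_)
  haveI := finite_T A ω hω M x.1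
  haveI := finite_T A ω hω M x.2
  exact IsClosed.inter Module.isClosed_support Module.isClosed_support

omit ω hω in
theorem support_subset_closure_cm :
    Module.support A M ⊆ closure ({p : PrimeSpectrum A |
      LocCoh.IsCohenMacaulayModule (Localization.AtPrime p.asIdeal)
        (LocalizedModule p.asIdeal.primeCompl M)} ∩ Module.support A M) := by
  intro q hq
  have hann : Module.annihilator A M ≤ q.asIdeal := Module.annihilator_le_of_mem_support hq
  obtain ⟨p, hpmin, hpq⟩ := Ideal.exists_minimalPrimes_le hann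
  haveI := hpmin.1.1
  let P : PrimeSpectrum A := ⟨p, hpmin.1.1⟩
  have hP : P ∈ Module.support A M := by
    rw [Module.mem_support_iff_of_finite]
    exact hpmin.1.2
  have hPq : P ≤ q := hpq
  have hspec : P ⤳ q := (PrimeSpectrum.le_iff_specializes P q).mp hPq
  refine closure_mono ?_ (hspec.mem_closure)
  rw [Set.singleton_subset_iff]
  refine ⟨?_, hP⟩
  haveI : IsNoetherianRing (Localization p.primeCompl) :=
    IsLocalization.isNoetherianRing p.primeCompl _ inferInstance
  haveI : Module.Finite (Localization p.primeCompl) (LocalizedModule p.primeCompl M) :=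
    inferInstance
  haveI : Nontrivial (LocalizedModule p.primeCompl M) := Module.mem_support_iff.mp hP
  have h0 := Groth.Agent.Lib.SerreSk.supportDim_localization_le_zero_of_mem_minimalPrimes p M hpmin
  have h1 := Groth.Agent.Lib.DepthRees.depth_le_supportDim (R := Localization p.primeCompl)
    (LocalizedModule p.primeCompl M)
  show Module.supportDim (Localization.AtPrime p) (LocalizedModule p.primeCompl M) =
    ((LocCoh.depth (Localization.AtPrime p) (LocalizedModule p.primeCompl M) : ℕ∞) : WithBot ℕ∞)
  apply le_antisymm _ h1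
  have h2 : ((LocCoh.depth (Localization.AtPrime p) (LocalizedModule p.primeCompl M) : ℕ∞) :
      WithBot ℕ∞) ≤ 0 := le_trans h1 h0
  have h3 : (0 : WithBot ℕ∞) ≤
      ((LocCoh.depth (Localization.AtPrime p) (LocalizedModule p.primeCompl M) : ℕ∞) :
        WithBot ℕ∞) := by
    exact_mod_cast (bot_le : (0 : ℕ∞) ≤ _)
  exact le_trans h0 h3

end Global

end Groth.Agent.Lib.H29DualPrime
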