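import Groth.Agent.Lib.H29DualDelta
import Groth.Agent.Lib.H29HomFree

/-!
# Cohomology of a normalized dualizing complex; finiteness of dimension (helper29)

* `subsingleton_HD_of`: `H^j(W) = 0` for `j > 0` or `j < -dim A`.
* `nontrivial_HD_iff_of_dim_zero`: over an Artinian local ring `H^j(W) ≠ 0 ↔ j = 0`.
* `degAt_lt_of_lt`, `ringKrullDim_lt_top` (= S0371).
-/

set_option autoImplicit false
universe u
open CategoryTheory CategoryTheory.Limits Category Pretriangulated DerivedCategory

namespace Groth.Agent.Lib.H29DualPrime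

attribute [local instance] HasDerivedCategory.standard

open Groth.Agent.Lib.H29LocD Groth.Agent.Lib.H29DualShift Groth.Agent.Lib.H29DualLocal

section Local

variable (A : Type u) [CommRing A] [IsLocalRing A] [IsNoetherianRing A] (W : Dual.D A)
  (hW : Dual.IsDualizing A W) (hn : Dual.IsNormalized A W)

include hW hn

theorem subsingleton_HD_of (d : ℕ) (hd : ringKrullDim A ≤ (d : WithBot ℕ∞)) (j : ℤ)
    (hj : j < -(d : ℤ) ∨ 0 < j) : Subsingleton (Dual.HD A W j) := by
  obtain ⟨e⟩ := Groth.Agent.Lib.H29HomFree.nonempty_equiv A W j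
  haveI : Subsingleton (Dual.inD A A ⟶ W⟦j⟧) := by
    rcases hj with h | h
    · exact Groth.Agent.Lib.H29DualDim.subsingleton_T_of_lt_neg_supportDim A W hW hn d A
        (by rw [Module.supportDim_self_eq_ringKrullDim]; exact hd) j h
    · exact subsingleton_T_pos A W hW hn A j h
  exact e.symm.subsingleton

theorem nontrivial_HD_iff_of_dim_zero (h0 : ringKrullDim A = 0) (j : ℤ) :
    Nontrivial (Dual.HD A W j) ↔ j = 0 := by
  constructor
  · intro h
    by_contra hj
    haveI := subsingleton_HD_of A W hW hn 0 (le_of_eq h0) j (by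
      rcases lt_or_gt_of_ne hj with h | h
      · exact Or.inl (by simpa using h)
      · exact Or.inr h)
    exact not_nontrivial _ h
  · rintro rfl
    have hdep : LocCoh.depth A A = ((0 : ℕ) : ℕ∞) := by
      have h1 := Groth.Agent.Lib.DepthRees.depth_le_supportDim (R := A) A
      rw [Module.supportDim_self_eq_ringKrullDim, h0] at h1
      have h2 : (LocCoh.depth A A : ℕ∞) ≤ 0 := by exact_mod_cast h1
      simpa using h2
    obtain ⟨_, g2⟩ := depth_imp A W hW hn 0 A hdep
    obtain ⟨e⟩ := Groth.Agent.Lib.H29HomFree.nonempty_equiv A W 0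
    haveI : Nontrivial (Dual.inD A A ⟶ W⟦(0 : ℤ)⟧) := by simpa using g2
    exact e.symm.nontrivial

end Local

section Global

variable (A : Type u) [CommRing A] (ω : Dual.D A) (hω : Dual.IsDualizing A ω)

theorem degAt_lt_of_lt [IsNoetherianRing A] : ∀ (n : ℕ) (p q : PrimeSpectrum A),
    q.asIdeal.height.toNat = n → p < q → degAt A ω hω p < degAt A ω hω q := by
  intro n
  induction n using Nat.strong_induction_on with
  | _ n IH =>
  intro p q hqn hpq
  let T : Set (PrimeSpectrum A) := {r | p ≤ r ∧ r < q}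
  have hT : T.Nonempty := ⟨p, le_rfl, hpq⟩
  haveI : WellFoundedGT (PrimeSpectrum A) :=
    (show StrictMono (PrimeSpectrum.asIdeal : PrimeSpectrum A → Ideal A) from
      fun _ _ h => h).wellFoundedGT
  obtain ⟨r, hrT, hrmax⟩ := (wellFounded_gt (α := PrimeSpectrum A)).has_min T hT
  have hcov : r ⋖ q := by
    refine ⟨hrT.2, fun c hrc hcq => ?_⟩
    exact hrmax c ⟨le_trans hrT.1 hrc.le, hcq⟩ hrc
  have h1 := degAt_covBy A ω hω r q hcov
  rcases eq_or_lt_of_le hrT.1 with h | h
  · rw [h]
    omega
  · have hht : r.asIdeal.height < q.asIdeal.height :=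
      Ideal.height_strict_mono_of_isPrime hrT.2
    have hfin : q.asIdeal.height ≠ ⊤ := Ideal.height_ne_top (Ideal.IsPrime.ne_top inferInstance)
    have h2 : r.asIdeal.height.toNat < n := by
      rw [← hqn]
      obtain ⟨b', hb'⟩ := ENat.ne_top_iff_exists.mp hfin
      obtain ⟨a', ha'⟩ := ENat.ne_top_iff_exists.mp (ne_top_of_lt hht)
      rw [← hb', ← ha'] at hht ⊢
      rw [ENat.toNat_natCast, ENat.toNat_natCast]
      exact_mod_cast hht
    have := IH _ h2 p r rfl h
    omega

include hω in
/-- **A Noetherian ring with a dualizing complex has finite Krull dimension.** -/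
theorem ringKrullDim_lt_top : ringKrullDim A < ⊤ := by
  haveI := hω.isNoetherianRing
  obtain ⟨a, b, hab⟩ := hω.finite_injective_dimension
  have hbd : ∀ p : PrimeSpectrum A, a ≤ degAt A ω hω p ∧ degAt A ω hω p ≤ b := by
    intro p
    by_contra hcon
    have h1 : degAt A ω hω p < a ∨ b < degAt A ω hω p := by omega
    haveI := hab (A ⧸ p.asIdeal) (degAt A ω hω p) h1
    exact not_hasAnnLE_of_subsingleton p.asIdeal p.2.ne_top _
      ((hasAnnLE_iff_degAt A ω hω p _).mpr rfl)
  have hlt : ∀ p q : PrimeSpectrum A, p < q → degAt A ω hω p < degAt A ω hω q :=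
    fun p q hpq => degAt_lt_of_lt A ω hω _ p q rfl hpq
  have hlen : ∀ x : LTSeries (PrimeSpectrum A), (x.length : ℤ) ≤ b - a := by
    intro x
    have key : ∀ i : ℕ, (hi : i < x.length + 1) →
        degAt A ω hω (x ⟨0, by omega⟩) + i ≤ degAt A ω hω (x ⟨i, hi⟩) := by
      intro i
      induction i with
      | zero => intro hi; simp
      | succ k ih =>
        intro hi
        have h1 := ih (by omega)
        have h2 := hlt (x ⟨k, by omega⟩) (x ⟨k + 1, hi⟩) (x.strictMono (by
          rw [Fin.lt_def]
          simp))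
        push_cast
        omega
    have h1 := key x.length (by omega)
    have h2 := (hbd (x ⟨0, by omega⟩)).1
    have h3 := (hbd (x ⟨x.length, by omega⟩)).2
    omega
  have hle : ringKrullDim A ≤ (((b - a).toNat : ℕ) : WithBot ℕ∞) := by
    unfold ringKrullDim Order.krullDim
    apply iSup_le
    intro x
    have := hlen x
    have h4 : x.length ≤ (b - a).toNat := by omega
    exact_mod_cast h4
  refine lt_of_le_of_lt hle ?_
  rw [← WithBot.coe_natCast, ← WithBot.coe_top, WithBot.coe_lt_coe]
  exact ENat.natCast_lt_top _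

end Global

end Groth.Agent.Lib.H29DualPrime
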