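import Groth.Agent.Lib.H29DualLocal
import Mathlib.RingTheory.KrullDimension.Regular

/-!
# Vanishing of `Hom_D(M[0], ω[i])` below `-dim M` (helper29)

`A` Noetherian local with normalized dualizing complex `ω`, `M` finite with `dim Supp M ≤ d`:
`Hom_D(M[0], ω[i]) = 0` for `i < -d`.
-/

set_option autoImplicit false
universe u
open CategoryTheory CategoryTheory.Limits Category DerivedCategory

namespace Groth.Agent.Lib.H29DualDim

attribute [local instance] HasDerivedCategory.standard

open Groth.Agent.Lib.H29DualLocal Groth.Agent.Lib.H29DualDimZero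

variable (A : Type u) [CommRing A] [IsLocalRing A] [IsNoetherianRing A] (ω : Dual.D A)
  (hω : Dual.IsDualizing A ω) (hn : Dual.IsNormalized A ω)

include hω hn

theorem subsingleton_T_of_lt_neg_supportDim : ∀ (d : ℕ) (N : Type u) [AddCommGroup N] [Module A N]
    [Module.Finite A N], Module.supportDim A N ≤ (d : WithBot ℕ∞) → ∀ i : ℤ, i < -(d : ℤ) →
      Subsingleton (Dual.inD A N ⟶ ω⟦i⟧) := by
  intro d
  induction d using Nat.strong_induction_on with
  | _ d IH =>
  intro N _ _ hfin hN i hi
  refine IsNoetherianRing.induction_on_isQuotientEquivQuotientPrime A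
    (motive := fun N' _ _ _ => Module.supportDim A N' ≤ (d : WithBot ℕ∞) → ∀ i : ℤ,
      i < -(d : ℤ) → Subsingleton (Dual.inD A N' ⟶ ω⟦i⟧)) hfin ?_ ?_ ?_ hN i hi
  · intro N' _ _ _ _ _ i _
    exact subsingleton_hom_of_subsingleton A N' _
  · intro N' _ _ _ q e hdim i hi
    refine subsingleton_hom_of_equiv A e _ ?_
    have hdimq : Module.supportDim A (A ⧸ q.asIdeal) ≤ (d : WithBot ℕ∞) := by
      rw [← Module.supportDim_eq_of_equiv e]
      exact hdim
    by_cases hqm : q.asIdeal = IsLocalRing.maximalIdeal A
    · have h0 : Subsingleton (Dual.inD A (A ⧸ IsLocalRing.maximalIdeal A) ⟶ ω⟦i⟧) :=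
        hn i (by omega)
      exact subsingleton_hom_of_equiv A (Submodule.quotEquivOfEq _ _ hqm) _ h0
    · have hlt : q.asIdeal < IsLocalRing.maximalIdeal A :=
        lt_of_le_of_ne (IsLocalRing.le_maximalIdeal q.2.ne_top) hqm
      obtain ⟨x, hxm, hxq⟩ := SetLike.exists_of_lt hlt
      have hreg : IsSMulRegular (A ⧸ q.asIdeal) x := by
        intro y y' hyy
        replace hyy : x • y = x • y' := hyy
        rw [Algebra.smul_def, Algebra.smul_def] at hyy
        refine mul_left_cancel₀ ?_ hyy
        intro h0
        exact hxq (Ideal.Quotient.eq_zero_iff_mem.mp h0)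
      have h1 := Module.supportDim_quotSMulTop_succ_eq_supportDim hreg hxm
      have h2 : Subsingleton (Dual.inD A (QuotSMulTop x (A ⧸ q.asIdeal)) ⟶ ω⟦i + 1⟧) := by
        generalize hD : Module.supportDim A (QuotSMulTop x (A ⧸ q.asIdeal)) = D at h1
        induction D with
        | bot =>
          haveI := (Module.supportDim_eq_bot_iff_subsingleton A _).mp hD
          exact subsingleton_hom_of_subsingleton A _ _
        | coe D' =>
          rw [← h1] at hdimq
          have h3 : D' + 1 ≤ (d : ℕ∞) := by exact_mod_cast hdimq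
          have hne : D' ≠ ⊤ := by
            intro h
            rw [h, top_add] at h3
            exact ENat.top_ne_natCast _ (top_le_iff.mp h3).symm
          obtain ⟨k, hk⟩ := ENat.ne_top_iff_exists.mp hne
          rw [← hk] at h3 hD
          have hk' : k + 1 ≤ d := by exact_mod_cast h3
          exact IH k (by omega) _ (le_of_eq hD) (i + 1) (by omega)
      haveI := finite_T A ω hω (A ⧸ q.asIdeal) i
      exact subsingleton_of_forall_exists_smul A _ x hxm
        (exists_smul_T A ω (A ⧸ q.asIdeal) x hreg i (i + 1) rfl h2)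
  · intro N₁ _ _ _ N₂ _ _ _ N₃ _ _ _ f g hf hg hfg h1 h3 hdim i hi
    have hS := ModuleCat.shortComplex_shortExact
      (ModuleCat.shortComplexOfCompEqZero f g hfg.linearMap_comp_eq_zero) hfg hf hg
    exact subsingleton_hom₂ _ hS.singleTriangle_distinguished _
      (h1 ((Module.supportDim_le_of_injective f hf).trans hdim) i hi)
      (h3 ((Module.supportDim_le_of_surjective g hg).trans hdim) i hi)

/-- **Cohen–Macaulay criterion via a normalized dualizing complex.** -/
theorem isCM_iff (M : Type u) [AddCommGroup M] [Module A M] [Module.Finite A M] [Nontrivial M]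
    (d : ℕ) (hd : Module.supportDim A M = d) :
    LocCoh.IsCohenMacaulayModule A M ↔
      ∀ i : ℤ, i ≠ d → Subsingleton (Dual.inD A M ⟶ ω⟦(-i)⟧) := by
  obtain ⟨n₀, hn₀⟩ := ENat.ne_top_iff_exists.mp (Groth.Agent.Lib.DepthRees.depth_ne_top (R := A) M)
  obtain ⟨g1, g2⟩ := depth_imp A ω hω hn n₀ M hn₀.symm
  unfold LocCoh.IsCohenMacaulayModule
  rw [hd, ← hn₀]
  constructor
  · intro h i hi
    have hdn : d = n₀ := by exact_mod_cast h
    subst hdn
    rcases lt_trichotomy i 0 with h0 | h0 | h0
    · exact subsingleton_T_pos A ω hω hn M (-i) (by omega)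
    · subst h0
      have : 0 < d := by
        rcases Nat.eq_zero_or_pos d with h | h
        · subst h; exact absurd rfl hi
        · exact h
      have := g1 0 this
      simpa using this
    · obtain ⟨k, rfl⟩ := Int.eq_ofNat_of_zero_le (le_of_lt h0)
      rcases lt_trichotomy k d with h | h | h
      · exact g1 k h
      · subst h; exact absurd rfl hi
      · exact subsingleton_T_of_lt_neg_supportDim A ω hω hn d M (le_of_eq hd) _ (by omega)
  · intro h
    by_cases hdn : d = n₀
    · rw [hdn]
      rfl
    · exfalso
      haveI := h n₀ (by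
        intro h'
        apply hdn
        exact_mod_cast h'.symm)
      exact absurd g2 (not_nontrivial _)

end Groth.Agent.Lib.H29DualDim
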