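import Groth.Agent.Lib.H29DualPrime
import Groth.Agent.Lib.H29DualDim
import Groth.Agent.Lib.FiniteLengthSupport

/-!
# Dualizing complexes: primes of coheight one (helper29)

`A` Noetherian local with normalized dualizing complex `W`, `p` a prime with `dim A/p = 1`
(only primes above `p`: `p` and `m`). Then `Hom(A/p, W[k])_p ≠ 0` iff `k = -1`.
-/

set_option autoImplicit false
universe u
open CategoryTheory CategoryTheory.Limits Category Pretriangulated DerivedCategory
open scoped Pointwise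

namespace Groth.Agent.Lib.H29DualPrime

attribute [local instance] HasDerivedCategory.standard

open Groth.Agent.Lib.H29DualLocal Groth.Agent.Lib.H29DualDimZero

variable (A : Type u) [CommRing A] [IsLocalRing A] [IsNoetherianRing A]

theorem isFiniteLength_quotSMulTop (p : Ideal A) [p.IsPrime]
    (hcov : ∀ r : Ideal A, r.IsPrime → p ≤ r → r = p ∨ r = IsLocalRing.maximalIdeal A) (x : A)
    (hx : x ∉ p) : IsFiniteLength A (QuotSMulTop x (A ⧸ p)) := by
  rw [Groth.Agent.Lib.FiniteLengthSupport.isFiniteLength_iff_support_subset_closedPoint]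
  intro r hr
  have hann : Module.annihilator A (QuotSMulTop x (A ⧸ p)) ≤ r.asIdeal :=
    Module.mem_support_iff_of_finite.mp hr
  have hkill : ∀ a : A, (a ∈ p ∨ a = x) → a ∈ Module.annihilator A (QuotSMulTop x (A ⧸ p)) := by
    intro a ha
    rw [Module.mem_annihilator]
    intro y
    obtain ⟨y, rfl⟩ := Submodule.Quotient.mk_surjective _ y
    rw [← Submodule.Quotient.mk_smul, Submodule.Quotient.mk_eq_zero]
    rcases ha with ha | rfl
    · obtain ⟨z, rfl⟩ := Ideal.Quotient.mk_surjective y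
      have : a • (Ideal.Quotient.mk p z) = 0 := by
        rw [Algebra.smul_def, Ideal.Quotient.algebraMap_eq, ← map_mul,
          Ideal.Quotient.eq_zero_iff_mem]
        exact Ideal.mul_mem_right _ _ ha
      rw [this]
      exact Submodule.zero_mem _
    · exact Submodule.smul_mem_pointwise_smul y a ⊤ trivial
  have hpr : p ≤ r.asIdeal := fun a ha => hann (hkill a (Or.inl ha))
  have hxr : x ∈ r.asIdeal := hann (hkill x (Or.inr rfl))
  rcases hcov r.asIdeal r.2 hpr with h | h
  · exact absurd (h ▸ hxr) hx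
  · exact PrimeSpectrum.ext h

variable (W : Dual.D A) (hW : Dual.IsDualizing A W) (hn : Dual.IsNormalized A W)

include hW hn

/-- nonvanishing of `Hom(N, W)` for `N ≠ 0` of finite length -/
theorem nontrivial_T_zero_of_isFiniteLength (N : Type u) [AddCommGroup N] [Module A N]
    [Module.Finite A N] [Nontrivial N] (hN : IsFiniteLength A N) :
    Nontrivial (Dual.inD A N ⟶ W⟦(0 : ℤ)⟧) := by
  obtain ⟨n₀, hn₀⟩ := ENat.ne_top_iff_exists.mp
    (Groth.Agent.Lib.DepthRees.depth_ne_top (R := A) N)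
  obtain ⟨_, g2⟩ := depth_imp A W hW hn n₀ N hn₀.symm
  by_cases h0 : n₀ = 0
  · subst h0
    simpa using g2
  · exfalso
    haveI : Subsingleton (Dual.inD A N ⟶ W⟦(-(n₀ : ℤ))⟧) :=
      subsingleton_hom_of_isFiniteLength A _ (hn _ (by omega)) N hN
    exact not_nontrivial _ g2

theorem hasAnnLE_covBy_iff (p : Ideal A) [p.IsPrime] (hpm : p ≠ IsLocalRing.maximalIdeal A)
    (hcov : ∀ r : Ideal A, r.IsPrime → p ≤ r → r = p ∨ r = IsLocalRing.maximalIdeal A) (k : ℤ) :
    HasAnnLE p (Dual.inD A (A ⧸ p) ⟶ W⟦k⟧) ↔ k = -1 := by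
  have hlt : p < IsLocalRing.maximalIdeal A :=
    lt_of_le_of_ne (IsLocalRing.le_maximalIdeal (Ideal.IsPrime.ne_top inferInstance)) hpm
  have hreg : ∀ x : A, x ∉ p → IsSMulRegular (A ⧸ p) x := by
    intro x hxp y y' hyy
    replace hyy : x • y = x • y' := hyy
    rw [Algebra.smul_def, Algebra.smul_def] at hyy
    refine mul_left_cancel₀ ?_ hyy
    intro h0
    exact hxp (Ideal.Quotient.eq_zero_iff_mem.mp h0)
  have hvanQ : ∀ x : A, x ∉ p → ∀ j : ℤ, j ≠ 0 →
      Subsingleton (Dual.inD A (QuotSMulTop x (A ⧸ p)) ⟶ W⟦j⟧) := fun x hx j hj =>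
    subsingleton_hom_of_isFiniteLength A _ (hn j hj) _ (isFiniteLength_quotSMulTop A p hcov x hx)
  obtain ⟨x₀, hx₀m, hx₀p⟩ := SetLike.exists_of_lt hlt
  -- vanishing for `k ≠ -1`
  have hL1 : ∀ k : ℤ, k ≠ -1 → Subsingleton (Dual.inD A (A ⧸ p) ⟶ W⟦k⟧) := by
    intro k hk
    haveI := finite_T A W hW (A ⧸ p) k
    exact subsingleton_of_forall_exists_smul A _ x₀ hx₀m
      (exists_smul_T A W (A ⧸ p) x₀ (hreg x₀ hx₀p) k (k + 1) rfl
        (hvanQ x₀ hx₀p (k + 1) (by omega)))
  constructor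
  · intro h
    by_contra hk
    haveI := hL1 k hk
    exact not_hasAnnLE_of_subsingleton p (Ideal.IsPrime.ne_top inferInstance) _ h
  · rintro rfl
    -- injectivity of `x ∈ m \\ p`
    have hinj : ∀ x : A, x ∉ p → x ∈ IsLocalRing.maximalIdeal A →
        ∀ g : Dual.inD A (A ⧸ p) ⟶ W⟦(-1 : ℤ)⟧, x • g = 0 → g = 0 := by
      intro x hxp _ g hg
      have hT := (mulSC_shortExact A (A ⧸ p) x (hreg x hxp)).singleTriangle_distinguished
      have h1 : (mulSC_shortExact A (A ⧸ p) x (hreg x hxp)).singleTriangle.mor₁ ≫ g = 0 := by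
        show (singleFunctor (ModuleCat.{u} A) 0).map
          (ModuleCat.ofHom (x • (LinearMap.id : (A ⧸ p) →ₗ[A] (A ⧸ p)))) ≫ g = 0
        rw [singleFunctor_map_smul_id, Linear.smul_comp, id_comp]
        exact hg
      obtain ⟨h, hh⟩ := Triangle.yoneda_exact₂ _ hT g h1
      have h0 : h = 0 := @Subsingleton.elim _ (hvanQ x hxp (-1) (by omega)) h 0
      rw [hh, h0, comp_zero]
      rfl
    -- nonvanishing
    have hne : Nontrivial (Dual.inD A (A ⧸ p) ⟶ W⟦(-1 : ℤ)⟧) := by
      by_contra hnt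
      rw [not_nontrivial_iff_subsingleton] at hnt
      haveI : Nontrivial (QuotSMulTop x₀ (A ⧸ p)) := by
        haveI : Nontrivial (A ⧸ p) :=
          Ideal.Quotient.nontrivial_iff.mpr (Ideal.IsPrime.ne_top inferInstance)
        apply Submodule.Quotient.nontrivial_iff.mpr
        intro h
        apply Groth.Agent.Lib.DepthRees.maximalIdeal_smul_top_ne_top (R := A) (A ⧸ p)
        have hle : x₀ • (⊤ : Submodule A (A ⧸ p)) ≤
            IsLocalRing.maximalIdeal A • (⊤ : Submodule A (A ⧸ p)) := by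
          rintro _ ⟨m, _, rfl⟩
          exact Submodule.smul_mem_smul hx₀m trivial
        exact top_le_iff.mp (le_trans (le_of_eq h.symm) hle)
      haveI := nontrivial_T_zero_of_isFiniteLength A W hW hn (QuotSMulTop x₀ (A ⧸ p))
        (isFiniteLength_quotSMulTop A p hcov x₀ hx₀p)
      obtain ⟨ψ, hψ⟩ := exists_ne (0 : Dual.inD A (QuotSMulTop x₀ (A ⧸ p)) ⟶ W⟦(0 : ℤ)⟧)
      apply hψ
      have hT := (mulSC_shortExact A (A ⧸ p) x₀ (hreg x₀ hx₀p)).singleTriangle_distinguished
      refine eq_zero_of_subsingleton₁ _ hT W (-1) 0 (by omega) hnt ψ ?_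
      exact @Subsingleton.elim _ (hL1 0 (by omega)) _ _
    obtain ⟨g, hg⟩ := exists_ne (0 : Dual.inD A (A ⧸ p) ⟶ W⟦(-1 : ℤ)⟧)
    refine ⟨g, fun a ha => ?_⟩
    by_contra hap
    by_cases ham : a ∈ IsLocalRing.maximalIdeal A
    · exact hg (hinj a hap ham g ha)
    · have hu : IsUnit a := by
        by_contra hnu
        exact ham ((IsLocalRing.mem_maximalIdeal a).mpr hnu)
      obtain ⟨u, rfl⟩ := hu
      apply hg
      have := congrArg (fun t => (↑u⁻¹ : A) • t) ha
      simpa [← mul_smul] using this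

end Groth.Agent.Lib.H29DualPrime
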