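import Groth.Agent.Lib.H29DualCov

/-!
# The dimension function of a dualizing complex (helper29)

`degAt A ω hω p`: the unique degree `n` with `Hom_{D(A_p)}(κ(p), ω_p[n]) ≠ 0`.
* `hasAnnLE_iff_degAt`: `Hom_{D(A)}(A/p, ω[i])_p ≠ 0 ↔ i = degAt p`.
* `degAt_covBy`: `p ⋖ q → degAt p = degAt q - 1`.
-/

set_option autoImplicit false
universe u
open CategoryTheory CategoryTheory.Limits Category Pretriangulated DerivedCategory

namespace Groth.Agent.Lib.H29DualPrime

attribute [local instance] HasDerivedCategory.standard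

open Groth.Agent.Lib.H29LocD Groth.Agent.Lib.H29DualShift

section Finite

variable (A : Type u) [CommRing A]

/-- cohomology of a module placed in degree `0` is finite -/
lemma finite_HD_inD (N : Type u) [AddCommGroup N] [Module A N] [Module.Finite A N] (i : ℤ) :
    Module.Finite A (Dual.HD A (Dual.inD A N) i) := by
  by_cases hi : i = 0
  · subst hi
    let σ : (homologyFunctor (ModuleCat.{u} A) 0).obj
        ((singleFunctor (ModuleCat.{u} A) 0).obj (ModuleCat.of A N)) ≅ ModuleCat.of A N :=
      (singleFunctorCompHomologyFunctorIso (ModuleCat.{u} A) 0).app (ModuleCat.of A N)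
    exact Module.Finite.equiv σ.symm.toLinearEquiv
  · have hz : IsZero ((homologyFunctor (ModuleCat.{u} A) i).obj (Dual.inD A N)) := by
      rcases lt_or_gt_of_ne hi with h | h
      · exact isZero_of_isGE (Dual.inD A N) 0 i h
      · exact isZero_of_isLE (Dual.inD A N) 0 i h
    haveI : Subsingleton (Dual.HD A (Dual.inD A N) i) := ModuleCat.subsingleton_of_isZero hz
    infer_instance

end Finite

variable (A : Type u) [CommRing A] (ω : Dual.D A) (hω : Dual.IsDualizing A ω)

/-- the localization of `ω` at a prime -/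
noncomputable abbrev ωAt (p : PrimeSpectrum A) : Dual.D (Localization p.asIdeal.primeCompl) :=
  (LD p.asIdeal.primeCompl).obj ω

/-- the degree `n` with `Hom(κ(p), ω_p[n]) ≠ 0` -/
noncomputable def degAt (p : PrimeSpectrum A) : ℤ :=
  (exists_normalized_shift (Localization p.asIdeal.primeCompl) (ωAt A ω p)
    (isDualizing_LD p.asIdeal.primeCompl ω hω)).choose

lemma degAt_spec (p : PrimeSpectrum A) :
    Dual.IsNormalized (Localization p.asIdeal.primeCompl) ((ωAt A ω p)⟦degAt A ω hω p⟧) ∧
      (∀ i : ℤ, i ≠ degAt A ω hω p → Subsingleton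
        (Dual.inD (Localization p.asIdeal.primeCompl)
          (IsLocalRing.ResidueField (Localization p.asIdeal.primeCompl)) ⟶ (ωAt A ω p)⟦i⟧)) ∧
      Nontrivial (Dual.inD (Localization p.asIdeal.primeCompl)
          (IsLocalRing.ResidueField (Localization p.asIdeal.primeCompl)) ⟶
            (ωAt A ω p)⟦degAt A ω hω p⟧) :=
  (exists_normalized_shift (Localization p.asIdeal.primeCompl) (ωAt A ω p)
    (isDualizing_LD p.asIdeal.primeCompl ω hω)).choose_spec

/-- the comparison `S⁻¹((A/I)[0]) ≅ (S⁻¹A/I S⁻¹A)[0]` -/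
noncomputable def LDquotIso (S : Submonoid A) (I : Ideal A) :
    (LD S).obj (Dual.inD A (A ⧸ I)) ≅
      Dual.inD (Localization S) (Localization S ⧸ I.map (algebraMap A (Localization S))) :=
  LDinDIso S (ModuleCat.of A (A ⧸ I)) ≪≫
    (singleFunctor (ModuleCat.{u} (Localization S)) 0).mapIso (quotLocIso S I)

theorem hasAnnLE_iff_degAt (p : PrimeSpectrum A) (i : ℤ) :
    HasAnnLE p.asIdeal (Dual.inD A (A ⧸ p.asIdeal) ⟶ ω⟦i⟧) ↔ i = degAt A ω hω p := by
  haveI := hω.isNoetherianRing
  have hmap : p.asIdeal.map (algebraMap A (Localization p.asIdeal.primeCompl)) =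
      IsLocalRing.maximalIdeal (Localization p.asIdeal.primeCompl) :=
    Localization.AtPrime.map_eq_maximalIdeal
  let α : (LD p.asIdeal.primeCompl).obj (Dual.inD A (A ⧸ p.asIdeal)) ≅
      Dual.inD (Localization p.asIdeal.primeCompl)
        (IsLocalRing.ResidueField (Localization p.asIdeal.primeCompl)) :=
    LDquotIso A p.asIdeal.primeCompl p.asIdeal ≪≫
      (singleFunctor (ModuleCat.{u} (Localization p.asIdeal.primeCompl)) 0).mapIso
        (Submodule.quotEquivOfEq _ _ hmap).toModuleIso
  rw [hasAnnLE_iff p.asIdeal ω hω p.asIdeal le_rfl (Dual.inD A (A ⧸ p.asIdeal)) 0 0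
    (finite_HD_inD A (A ⧸ p.asIdeal)) _ α i, hmap]
  obtain ⟨_, hvan, hnt⟩ := degAt_spec A ω hω p
  constructor
  · intro h
    by_contra hi
    haveI := hvan i hi
    exact not_hasAnnLE_of_subsingleton _ (IsLocalRing.maximalIdeal.isMaximal _).ne_top _ h
  · rintro rfl
    haveI := hnt
    obtain ⟨g, hg⟩ := exists_ne (0 : Dual.inD (Localization p.asIdeal.primeCompl)
      (IsLocalRing.ResidueField (Localization p.asIdeal.primeCompl)) ⟶
        (ωAt A ω p)⟦degAt A ω hω p⟧)
    refine ⟨g, fun c hc => ?_⟩
    by_contra hcm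
    have hu : IsUnit c := by
      by_contra hnu
      exact hcm ((IsLocalRing.mem_maximalIdeal c).mpr hnu)
    obtain ⟨u, rfl⟩ := hu
    apply hg
    have := congrArg (fun t => (↑u⁻¹ : Localization p.asIdeal.primeCompl) • t) hc
    simpa [← mul_smul] using this

theorem degAt_covBy (p q : PrimeSpectrum A) (hpq : p ⋖ q) :
    degAt A ω hω p = degAt A ω hω q - 1 := by
  haveI := hω.isNoetherianRing
  have hle : p.asIdeal ≤ q.asIdeal := hpq.1.le
  let S := q.asIdeal.primeCompl
  let p' : Ideal (Localization S) := p.asIdeal.map (algebraMap A (Localization S))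
  have hdisj : ∀ r : PrimeSpectrum A, r.asIdeal ≤ q.asIdeal →
      Disjoint (S : Set A) (r.asIdeal : Set A) := by
    intro r hr
    rw [Set.disjoint_left]
    intro x hxS hxr
    exact hxS (hr hxr)
  haveI hp' : p'.IsPrime :=
    IsLocalization.isPrime_of_isPrime_disjoint S (Localization S) p.asIdeal p.2 (hdisj p hle)
  have hcomap : ∀ r : PrimeSpectrum A, r.asIdeal ≤ q.asIdeal →
      (r.asIdeal.map (algebraMap A (Localization S))).comap (algebraMap A (Localization S)) =
        r.asIdeal := fun r hr =>
    IsLocalization.comap_map_of_isPrime_disjoint S (Localization S) r.2 (hdisj r hr)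
  have hmapq : q.asIdeal.map (algebraMap A (Localization S)) =
      IsLocalRing.maximalIdeal (Localization S) := Localization.AtPrime.map_eq_maximalIdeal
  have hp'm : p' ≠ IsLocalRing.maximalIdeal (Localization S) := by
    intro h
    have h1 : p.asIdeal = q.asIdeal := by
      rw [← hcomap p hle, ← hcomap q le_rfl, hmapq]
      exact congrArg _ h
    exact hpq.1.ne (PrimeSpectrum.ext h1)
  have hcov : ∀ r : Ideal (Localization S), r.IsPrime → p' ≤ r →
      r = p' ∨ r = IsLocalRing.maximalIdeal (Localization S) := by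
    intro r hr hpr
    let r₀ : PrimeSpectrum A := ⟨r.comap (algebraMap A (Localization S)), inferInstance⟩
    have hr₀ : r = r₀.asIdeal.map (algebraMap A (Localization S)) :=
      (IsLocalization.map_comap S (Localization S) r).symm
    have h1 : p ≤ r₀ := by
      intro a ha
      exact hpr (Ideal.mem_map_of_mem _ ha)
    have h2 : r₀ ≤ q := by
      intro a ha
      have h3 : algebraMap A (Localization S) a ∈ IsLocalRing.maximalIdeal (Localization S) :=
        IsLocalRing.le_maximalIdeal hr.ne_top ha
      rw [← hmapq] at h3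
      have h4 : a ∈ (q.asIdeal.map (algebraMap A (Localization S))).comap
          (algebraMap A (Localization S)) := h3
      rwa [hcomap q le_rfl] at h4
    rcases hpq.eq_or_eq h1 h2 with h | h
    · left
      rw [hr₀, h]
    · right
      rw [hr₀, h, hmapq]
  obtain ⟨hnorm, _, _⟩ := degAt_spec A ω hω q
  have hW := isDualizing_shift (Localization S) (ωAt A ω q) (isDualizing_LD S ω hω)
    (degAt A ω hω q)
  have key : ∀ i : ℤ, i = degAt A ω hω p ↔ i - degAt A ω hω q = -1 := by
    intro i
    rw [← hasAnnLE_iff_degAt A ω hω p i,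
      hasAnnLE_iff q.asIdeal ω hω p.asIdeal hle (Dual.inD A (A ⧸ p.asIdeal)) 0 0
        (finite_HD_inD A (A ⧸ p.asIdeal)) _ (LDquotIso A S p.asIdeal) i,
      ← hasAnnLE_covBy_iff (Localization S) _ hW hnorm p' hp'm hcov (i - degAt A ω hω q)]
    exact (hasAnnLE_iff_of_equiv p' (homShiftEquiv (Localization S)
      (Dual.inD (Localization S) (Localization S ⧸ p')) (ωAt A ω q) (degAt A ω hω q)
      (i - degAt A ω hω q) i (by ring))).symm
  have := (key (degAt A ω hω p)).mp rfl
  omega

include hω in
/-- **The dimension function of a dualizing complex.** -/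
theorem exists_dimension_function :
    ∃ δ : PrimeSpectrum A → ℤ,
      (∀ (p : PrimeSpectrum A) (i : ℤ),
        Nontrivial (LocalizedModule p.asIdeal.primeCompl
          (Dual.inD A (A ⧸ p.asIdeal) ⟶ ω⟦i⟧)) ↔ i = -δ p) ∧
      ∀ p q : PrimeSpectrum A, p ⋖ q → δ p = δ q + 1 := by
  refine ⟨fun p => -degAt A ω hω p, fun p i => ?_, fun p q hpq => ?_⟩
  · rw [← hasAnnLE_iff_nontrivial_localizedModule, hasAnnLE_iff_degAt A ω hω p i, neg_neg]
  · have := degAt_covBy A ω hω p q hpq
    show -degAt A ω hω p = -degAt A ω hω q + 1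
    omega

end Groth.Agent.Lib.H29DualPrime
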