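import Groth.Agent.Lib.H29DualCMLocus

/-!
# Serre's condition `(S_k)` via a dualizing complex (helper29)

`A` Noetherian with dualizing complex `ω`, `M` finite, `E^i = Hom_{D(A)}(M[0], ω⟦i⟧)`.

* `SkIneq A M k q`: `min(k, dim M_q) ≤ depth M_q`.
* `skIneq_iff`: `SkIneq k q ↔ ∀ j < i, q ∈ Supp E^i ∩ Supp E^j → k + i - j ≤ dim M_q`.
* `hasSk_iff` (= S18716).
-/

set_option autoImplicit false
universe u
open CategoryTheory CategoryTheory.Limits Category Pretriangulated DerivedCategory

namespace Groth.Agent.Lib.H29DualPrime

attribute [local instance] HasDerivedCategory.standard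

variable (A : Type u) [CommRing A] [IsNoetherianRing A] (ω : Dual.D A)
  (hω : Dual.IsDualizing A ω) (M : Type u) [AddCommGroup M] [Module A M] [Module.Finite A M]

/-- the `(S_k)` inequality at a prime -/
def SkIneq (k : ℕ) (q : PrimeSpectrum A) : Prop :=
  min (k : WithBot ℕ∞) (Module.supportDim (Localization.AtPrime q.asIdeal)
      (LocalizedModule q.asIdeal.primeCompl M)) ≤
    ((LocCoh.depth (Localization.AtPrime q.asIdeal)
      (LocalizedModule q.asIdeal.primeCompl M) : ℕ∞) : WithBot ℕ∞)

omit [IsNoetherianRing A] [Module.Finite A M] in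
theorem hasSk_iff_forall_skIneq (k : ℕ) :
    LocCoh.HasSk k A M ↔ ∀ q : PrimeSpectrum A, SkIneq A M k q :=
  ⟨fun h q => h q.asIdeal, fun h p _ => h ⟨p, inferInstance⟩⟩

include hω in
theorem skIneq_iff (k : ℕ) (q : PrimeSpectrum A) :
    SkIneq A M k q ↔ ∀ i j : ℤ, j < i →
      q ∈ Module.support A (Dual.inD A M ⟶ ω⟦i⟧) → q ∈ Module.support A (Dual.inD A M ⟶ ω⟦j⟧) →
        ((((k : ℤ) + i - j).toNat : ℕ) : WithBot ℕ∞) ≤
          Module.supportDim (Localization.AtPrime q.asIdeal)
            (LocalizedModule q.asIdeal.primeCompl M) := by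
  by_cases hs : Subsingleton (LocalizedModule q.asIdeal.primeCompl M)
  · constructor
    · intro _ i j _ hi _
      haveI := nontrivial_of_mem_support A ω hω M q i hi
      exact absurd hs (not_subsingleton _)
    · intro _
      unfold SkIneq
      rw [Module.supportDim_eq_bot_of_subsingleton, min_bot_right]
      exact bot_le
  · rw [not_subsingleton_iff_nontrivial] at hs
    haveI : IsNoetherianRing (Localization q.asIdeal.primeCompl) :=
      IsLocalization.isNoetherianRing q.asIdeal.primeCompl _ inferInstance
    haveI : Module.Finite (Localization q.asIdeal.primeCompl)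
      (LocalizedModule q.asIdeal.primeCompl M) := inferInstance
    obtain ⟨d, δ, hd, hδ⟩ := exists_dim_depth A ω hω M q
    have hδd : δ ≤ d := by
      have h1 := Groth.Agent.Lib.DepthRees.depth_le_supportDim
        (R := Localization q.asIdeal.primeCompl) (LocalizedModule q.asIdeal.primeCompl M)
      rw [hd, hδ] at h1
      exact_mod_cast h1
    unfold SkIneq
    rw [hd, hδ, min_le_iff]
    constructor
    · intro h i j hji hi hj
      have r1 := range_of_mem_support A ω hω M q d δ hd hδ i hi
      have r2 := range_of_mem_support A ω hω M q d δ hd hδ j hj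
      have hk : k ≤ δ := by
        rcases h with h | h
        · exact_mod_cast h
        · have : d ≤ δ := by exact_mod_cast h
          omega
      have : ((k : ℤ) + i - j).toNat ≤ d := by omega
      exact_mod_cast this
    · intro h
      rcases Nat.lt_or_ge δ d with hlt | hge
      · left
        have h1 := mem_support_depth A ω hω M q δ hδ
        have h2 := mem_support_dim A ω hω M q d hd
        have h3 := h _ _ (by omega) h1 h2
        have h4 : ((k : ℤ) + (degAt A ω hω q - δ) - (degAt A ω hω q - d)).toNat ≤ d := by
          exact_mod_cast h3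
        have : k ≤ δ := by omega
        exact_mod_cast this
      · right
        exact_mod_cast hge

include hω in
/-- **`(S_k)` in terms of the supports of `Ext^i(M, ω)`** -/
theorem hasSk_iff (k : ℕ) :
    LocCoh.HasSk k A M ↔
      ∀ (i j : ℤ), j < i → ∀ p : PrimeSpectrum A,
        p ∈ Module.support A (Dual.inD A M ⟶ ω⟦i⟧) → p ∈ Module.support A (Dual.inD A M ⟶ ω⟦j⟧) →
          ((((k : ℤ) + i - j).toNat : ℕ) : WithBot ℕ∞) ≤
            Module.supportDim (Localization.AtPrime p.asIdeal)
              (LocalizedModule p.asIdeal.primeCompl M) := by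
  rw [hasSk_iff_forall_skIneq]
  constructor
  · intro h i j hji p hi hj
    exact (skIneq_iff A ω hω M k p).mp (h p) i j hji hi hj
  · intro h q
    exact (skIneq_iff A ω hω M k q).mpr (fun i j hji hi hj => h i j hji q hi hj)

end Groth.Agent.Lib.H29DualPrime
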