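import Groth.Agent.Lib.H29DualCMLocus
import Groth.Agent.Lib.DWayOut

/-!
# Way-out vanishing for a normalized dualizing complex (helper29)

* `subsingleton_hom_shift_left`, `subsingleton_hom_shift_right`.
* `subsingleton_hom_of_isGE`: `X ∈ D^{[a,b]}` with finite cohomology, `0 < i + a` ⇒
  `Hom(X, ω⟦i⟧) = 0` (ω normalized dualizing over a local ring).
-/

set_option autoImplicit false
universe u
open CategoryTheory CategoryTheory.Limits Category Pretriangulated DerivedCategory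

namespace Groth.Agent.Lib.H29DualPrime

attribute [local instance] HasDerivedCategory.standard

open Groth.Agent.Lib.H29DualShift Groth.Agent.Lib.H29DualLocal

section Shift

variable {C : Type*} [Category C] [Preadditive C] [HasShift C ℤ]

lemma subsingleton_hom_shift_left (X Y : C) (n m : ℤ) (h : n + m = 0)
    (hs : Subsingleton (X ⟶ Y⟦m⟧)) : Subsingleton (X⟦n⟧ ⟶ Y) := by
  refine ⟨fun f g => ?_⟩
  let ι : X ≅ (X⟦n⟧)⟦m⟧ := ((shiftFunctorCompIsoId C n m h).app X).symm
  have h1 : ι.hom ≫ f⟦m⟧' = ι.hom ≫ g⟦m⟧' := Subsingleton.elim _ _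
  rw [cancel_epi] at h1
  exact (shiftFunctor C m).map_injective h1

lemma subsingleton_hom_shift_right (X Y : C) (n m : ℤ) (h : m + n = 0)
    (hs : Subsingleton (X⟦n⟧ ⟶ Y)) : Subsingleton (X ⟶ Y⟦m⟧) := by
  refine ⟨fun f g => ?_⟩
  let ι : (Y⟦m⟧)⟦n⟧ ≅ Y := (shiftFunctorCompIsoId C m n h).app Y
  have h1 : f⟦n⟧' ≫ ι.hom = g⟦n⟧' ≫ ι.hom := Subsingleton.elim _ _
  rw [cancel_mono] at h1
  exact (shiftFunctor C n).map_injective h1

end Shift

section Local

variable (A : Type u) [CommRing A] [IsLocalRing A] [IsNoetherianRing A] (ω : Dual.D A)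
  (hω : Dual.IsDualizing A ω) (hn : Dual.IsNormalized A ω)

include hω hn

/-- `Hom(N placed in degree j, ω⟦i⟧) = 0` for `0 < i + j`, `N` finite -/
theorem subsingleton_hom_single (N : ModuleCat.{u} A) [Module.Finite A N] (j i : ℤ)
    (hij : 0 < i + j) :
    Subsingleton ((singleFunctor (ModuleCat.{u} A) j).obj N ⟶ ω⟦i⟧) := by
  let e : ((singleFunctor (ModuleCat.{u} A) 0).obj N)⟦-j⟧ ≅
      (singleFunctor (ModuleCat.{u} A) j).obj N :=
    ((singleFunctors (ModuleCat.{u} A)).shiftIso (-j) j 0 (by omega)).app N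
  have h1 : Subsingleton ((singleFunctor (ModuleCat.{u} A) 0).obj N ⟶ ω⟦i + j⟧) :=
    subsingleton_T_pos A ω hω hn N (i + j) hij
  have h2 : Subsingleton ((singleFunctor (ModuleCat.{u} A) 0).obj N ⟶ (ω⟦i⟧)⟦j⟧) :=
    (homShiftEquiv A ((singleFunctor (ModuleCat.{u} A) 0).obj N) ω i j (i + j)
      rfl).toEquiv.subsingleton
  have h3 := subsingleton_hom_shift_left ((singleFunctor (ModuleCat.{u} A) 0).obj N) (ω⟦i⟧)
    (-j) j (by omega) h2
  exact (Iso.homCongr e (Iso.refl (ω⟦i⟧))).symm.subsingleton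

/-- the property `Hom(-, ω⟦i⟧) = 0` -/
def homVanish (i : ℤ) : ObjectProperty (Dual.D A) := fun X => Subsingleton (X ⟶ ω⟦i⟧)

omit [IsLocalRing A] [IsNoetherianRing A] hω hn in
instance (i : ℤ) : (homVanish A ω i).IsClosedUnderIsomorphisms where
  of_iso {X Y} e h := by
    have : Subsingleton (X ⟶ ω⟦i⟧) := h
    exact (Iso.homCongr e (Iso.refl (ω⟦i⟧))).symm.subsingleton

/-- **way-out vanishing** -/
theorem subsingleton_hom_of_isGE (X : Dual.D A) (a b : ℤ) [X.IsGE a] [X.IsLE b]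
    (hfin : ∀ i : ℤ, Module.Finite A (Dual.HD A X i)) (i : ℤ) (hi : 0 < i + a) :
    Subsingleton (X ⟶ ω⟦i⟧) := by
  refine Groth.Agent.Lib.DDevissage.devissage (homVanish A ω i)
    (fun T hT h1 h3 => subsingleton_hom₂ T hT _ h1 h3)
    (fun Z hZ => ⟨fun f g => hZ.eq_of_src _ _⟩) X a b ?_
  intro j hj1 hj2
  haveI : Module.Finite A ((homologyFunctor (ModuleCat.{u} A) j).obj X) := hfin j
  exact subsingleton_hom_single A ω hω hn _ j i (by omega)

end Local

end Groth.Agent.Lib.H29DualPrime
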