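import Groth.Agent.Lib.H29HomFree

/-!
# `Hom_D(A[0], K[j]) ≃ₗ[A] H^j(K)` as a linear equivalence (helper29)
-/

set_option autoImplicit false
universe u
open CategoryTheory CategoryTheory.Limits Category DerivedCategory

namespace Groth.Agent.Lib.H29HomFreeLin

attribute [local instance] HasDerivedCategory.standard

open Groth.Agent.Lib.DProjHom

variable (A : Type u) [CommRing A]

lemma homToH0_add (P : ModuleCat.{u} A) (X : Dual.D A)
    (φ₁ φ₂ : (singleFunctor (ModuleCat.{u} A) 0).obj P ⟶ X) :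
    homToH0 P X (φ₁ + φ₂) = homToH0 P X φ₁ + homToH0 P X φ₂ := by
  dsimp only [homToH0]
  rw [Functor.map_add, Preadditive.comp_add]

lemma homToH0_smul (P : ModuleCat.{u} A) (X : Dual.D A) (a : A)
    (φ : (singleFunctor (ModuleCat.{u} A) 0).obj P ⟶ X) :
    homToH0 P X (a • φ) = (a • 𝟙 P) ≫ homToH0 P X φ := by
  have h : a • φ = (singleFunctor (ModuleCat.{u} A) 0).map (a • 𝟙 P) ≫ φ := by
    rw [Functor.map_smul, Linear.smul_comp, CategoryTheory.Functor.map_id, id_comp]
  rw [h, homToH0_naturality]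

/-- the linear map `Hom_D(A[0], K[j]) → H^j(K)` -/
noncomputable def homFreeLin (K : Dual.D A) (j : ℤ) :
    (Dual.inD A A ⟶ K⟦j⟧) →ₗ[A] Dual.HD A K j where
  toFun φ := (((homologyFunctor (ModuleCat.{u} A) 0).shiftIso j 0 j (add_zero j)).app K).hom.hom
    ((homToH0 (ModuleCat.of A A) (K⟦j⟧) φ).hom (1 : A))
  map_add' φ₁ φ₂ := by
    rw [homToH0_add, ModuleCat.hom_add, LinearMap.add_apply]
    exact map_add _ _ _
  map_smul' a φ := by
    rw [homToH0_smul, ModuleCat.hom_comp, LinearMap.comp_apply, ModuleCat.hom_smul,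
      LinearMap.smul_apply, ModuleCat.hom_id, LinearMap.id_apply, map_smul]
    exact map_smul _ _ _

theorem homFreeLin_bijective (K : Dual.D A) (j : ℤ) :
    Function.Bijective (homFreeLin A K j) := by
  haveI : Projective (ModuleCat.of A A) :=
    (IsProjective.iff_projective _).mp inferInstance
  let e1 := Equiv.ofBijective _
    (Groth.Agent.Lib.DProjHom.homToH0_bijective (ModuleCat.of A A) (K⟦j⟧))
  let σ : (homologyFunctor (ModuleCat.{u} A) 0).obj (K⟦j⟧) ≅
      (homologyFunctor (ModuleCat.{u} A) j).obj K :=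
    ((homologyFunctor (ModuleCat.{u} A) 0).shiftIso j 0 j (add_zero j)).app K
  let e2 : (ModuleCat.of A A ⟶ (homologyFunctor (ModuleCat.{u} A) 0).obj (K⟦j⟧)) ≃
      (ModuleCat.of A A ⟶ (homologyFunctor (ModuleCat.{u} A) j).obj K) :=
    Iso.homToEquiv σ
  let e3 : (ModuleCat.of A A ⟶ (homologyFunctor (ModuleCat.{u} A) j).obj K) ≃
      (A →ₗ[A] Dual.HD A K j) := ModuleCat.homEquiv
  let e4 : (A →ₗ[A] Dual.HD A K j) ≃ Dual.HD A K j :=
    (LinearMap.ringLmapEquivSelf A A (Dual.HD A K j)).toEquiv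
  have h : ⇑(homFreeLin A K j) = ⇑(e1.trans (e2.trans (e3.trans e4))) := by
    funext φ
    rfl
  rw [h]
  exact Equiv.bijective _

/-- `Hom_D(A[0], K[j]) ≃ₗ[A] H^j(K)` -/
noncomputable def homFreeEquiv (K : Dual.D A) (j : ℤ) :
    (Dual.inD A A ⟶ K⟦j⟧) ≃ₗ[A] Dual.HD A K j :=
  LinearEquiv.ofBijective (homFreeLin A K j) (homFreeLin_bijective A K j)

end Groth.Agent.Lib.H29HomFreeLin
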