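/-
Helper library (helper29): Hartshorne's connectedness theorem (ring-theoretic form).
If `B` is a Noetherian local ring of depth `≥ 2` then the punctured spectrum of `B` is connected.
-/
import Groth.Agent.Lib.H8CM10
import Groth.Agent.Lib.H47Reflexive
import Groth.Agent.Lib.DepthLoc33
import Groth.Agent.Lib.DepthRees

set_option autoImplicit false
universe u

namespace Groth.Agent.Lib.H29Hartshorne

open Groth.Agent.Lib.H47Reflexive

variable {B : Type u} [CommRing B] [IsNoetherianRing B]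

/-- the ideal depth only depends on the zero locus (monotonicity) -/
theorem idealDepth_le_of_zeroLocus {M : Type u} [AddCommGroup M] [Module B M] [Module.Finite B M]
    (𝔞 𝔟 : Ideal B) (h : ∀ p : PrimeSpectrum B, 𝔞 ≤ p.asIdeal → 𝔟 ≤ p.asIdeal) :
    LocCoh.idealDepth 𝔟 M ≤ LocCoh.idealDepth 𝔞 M := by
  rw [Groth.Agent.Lib.H8CM.idealDepth_eq_iInf_depth_localizedModule 𝔟,
    Groth.Agent.Lib.H8CM.idealDepth_eq_iInf_depth_localizedModule 𝔞]
  exact le_iInf₂ fun p hp => iInf₂_le p (h p hp)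

/-- core of Hartshorne's connectedness theorem -/
theorem eq_bot_or_eq_bot [IsLocalRing B] (J₁ J₂ : Ideal B) (hmul : J₁ * J₂ = ⊥)
    (hne : J₁ ⊔ J₂ ≠ ⊤) (hd : 2 ≤ LocCoh.idealDepth (J₁ ⊔ J₂) B) : J₁ = ⊥ ∨ J₂ = ⊥ := by
  have hI : (J₁ ⊔ J₂) • (⊤ : Submodule B B) ≠ ⊤ := by
    rw [Ideal.smul_top_eq_map]
    simpa using hne
  obtain ⟨x, hx𝔞, hxreg⟩ := Groth.Agent.Lib.DepthLoc33.exists_regular_of_one_le_idealDepth
    (J₁ ⊔ J₂) B hI (le_trans (by norm_num) hd)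
  have h1 := Groth.Agent.Lib.DepthRees.idealDepth_quotSMulTop_add_one (J₁ ⊔ J₂) B hI hx𝔞 hxreg
  have h2 : 1 ≤ LocCoh.idealDepth (J₁ ⊔ J₂) (QuotSMulTop x B) := by
    rw [← h1] at hd
    by_contra hcon
    have h0 : LocCoh.idealDepth (J₁ ⊔ J₂) (QuotSMulTop x B) = 0 := by
      rwa [not_le, Order.lt_one_iff] at hcon
    rw [h0, zero_add] at hd
    norm_num at hd
  have tf : TF (J₁ ⊔ J₂) (QuotSMulTop x B) := (one_le_idealDepth_iff (J₁ ⊔ J₂) _).mp h2
  obtain ⟨a, ha, b, hb, hab⟩ := Submodule.mem_sup.mp hx𝔞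
  have hmul' : ∀ y₁ ∈ J₁, ∀ y₂ ∈ J₂, y₁ * y₂ = 0 := by
    intro y₁ h1 y₂ h2
    have : y₁ * y₂ ∈ J₁ * J₂ := Ideal.mul_mem_mul h1 h2
    rwa [hmul, Ideal.mem_bot] at this
  -- `a ∈ x B`
  have hax : ∃ c, a = x * c := by
    have h0 : (Submodule.Quotient.mk a : QuotSMulTop x B) = 0 := by
      apply tf
      intro y hy
      obtain ⟨y₁, hy₁, y₂, hy₂, rfl⟩ := Submodule.mem_sup.mp hy
      rw [← Submodule.Quotient.mk_smul, Submodule.Quotient.mk_eq_zero, smul_eq_mul]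
      have e1 : (y₁ + y₂) * a = x * y₁ := by
        rw [← hab]
        have := hmul' y₁ hy₁ b hb
        have := hmul' a ha y₂ hy₂
        linear_combination (hmul' a ha y₂ hy₂) - (hmul' y₁ hy₁ b hb)
      rw [e1]
      exact Submodule.smul_mem_pointwise_smul y₁ x ⊤ Submodule.mem_top
    rw [Submodule.Quotient.mk_eq_zero] at h0
    obtain ⟨c, -, hc⟩ := (Submodule.mem_smul_pointwise_iff_exists a x ⊤).mp h0
    exact ⟨c, by rw [← hc, smul_eq_mul]⟩
  obtain ⟨c, hc⟩ := hax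
  have hreg' : ∀ z : B, x * z = 0 → z = 0 := by
    intro z hz
    apply hxreg
    change x • z = x • 0
    rw [smul_eq_mul, hz, smul_zero]
  rcases IsLocalRing.isUnit_or_isUnit_one_sub_self c with hu | hu
  · -- `c` unit: `x ∈ J₁`
    right
    obtain ⟨c', hc'⟩ := hu.exists_right_inv
    have hx1 : x ∈ J₁ := by
      have : x = a * c' := by
        rw [hc, mul_assoc, hc', mul_one]
      rw [this]
      exact Ideal.mul_mem_right _ _ ha
    rw [eq_bot_iff]
    intro z hz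
    rw [Ideal.mem_bot]
    exact hreg' z (hmul' x hx1 z hz)
  · -- `1 - c` unit: `x ∈ J₂`
    left
    obtain ⟨c', hc'⟩ := hu.exists_right_inv
    have hb' : b = x * (1 - c) := by
      rw [mul_sub, mul_one, ← hc, ← hab]
      ring
    have hx2 : x ∈ J₂ := by
      have : x = b * c' := by
        rw [hb', mul_assoc, hc', mul_one]
      rw [this]
      exact Ideal.mul_mem_right _ _ hb
    rw [eq_bot_iff]
    intro z hz
    rw [Ideal.mem_bot]
    apply hreg' z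
    rw [mul_comm]
    exact hmul' z hz x hx2

/-- **Hartshorne's connectedness theorem**: `B` Noetherian local of depth `≥ 2`; if every prime
contains `I₁` or `I₂` and only the maximal ideal contains both, then one of `I₁`, `I₂` is
nilpotent. -/
theorem hartshorne [IsLocalRing B] (I₁ I₂ : Ideal B)
    (hcov : ∀ p : PrimeSpectrum B, I₁ ≤ p.asIdeal ∨ I₂ ≤ p.asIdeal)
    (hm : ∀ p : PrimeSpectrum B, I₁ ≤ p.asIdeal → I₂ ≤ p.asIdeal →
      p.asIdeal = IsLocalRing.maximalIdeal B)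
    (hne₁ : I₁ ≠ ⊤) (hne₂ : I₂ ≠ ⊤) (hd : 2 ≤ LocCoh.depth B B) :
    I₁ ≤ nilradical B ∨ I₂ ≤ nilradical B := by
  have hinf : I₁ ⊓ I₂ ≤ nilradical B := by
    rw [nilradical_eq_sInf]
    refine le_sInf fun p hp => ?_
    rcases hcov ⟨p, hp⟩ with h | h
    · exact le_trans inf_le_left h
    · exact le_trans inf_le_right h
  obtain ⟨k, hk⟩ := IsNoetherianRing.isNilpotent_nilradical B
  have hmul : I₁ ^ (k + 1) * I₂ ^ (k + 1) = ⊥ := by
    rw [eq_bot_iff, ← mul_pow]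
    calc (I₁ * I₂) ^ (k + 1) ≤ (I₁ ⊓ I₂) ^ (k + 1) := Ideal.pow_right_mono Ideal.mul_le_inf _
      _ ≤ (nilradical B) ^ (k + 1) := Ideal.pow_right_mono hinf _
      _ ≤ (nilradical B) ^ k := Ideal.pow_le_pow_right (Nat.le_succ k)
      _ = ⊥ := by rw [hk]; rfl
  have hle₁ : I₁ ≤ IsLocalRing.maximalIdeal B := IsLocalRing.le_maximalIdeal hne₁
  have hle₂ : I₂ ≤ IsLocalRing.maximalIdeal B := IsLocalRing.le_maximalIdeal hne₂
  have hne : I₁ ^ (k + 1) ⊔ I₂ ^ (k + 1) ≠ ⊤ := by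
    intro htop
    have h1 : I₁ ^ (k + 1) ⊔ I₂ ^ (k + 1) ≤ IsLocalRing.maximalIdeal B :=
      sup_le (le_trans (Ideal.pow_le_self (Nat.succ_ne_zero k)) hle₁)
        (le_trans (Ideal.pow_le_self (Nat.succ_ne_zero k)) hle₂)
    rw [htop] at h1
    exact (IsLocalRing.maximalIdeal.isMaximal B).ne_top (top_le_iff.mp h1)
  have hdepth : 2 ≤ LocCoh.idealDepth (I₁ ^ (k + 1) ⊔ I₂ ^ (k + 1)) B := by
    refine le_trans hd (idealDepth_le_of_zeroLocus _ _ ?_)
    intro p hp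
    have h1 : I₁ ≤ p.asIdeal := Ideal.IsPrime.le_of_pow_le (le_trans le_sup_left hp)
    have h2 : I₂ ≤ p.asIdeal := Ideal.IsPrime.le_of_pow_le (le_trans le_sup_right hp)
    rw [hm p h1 h2]
  rcases eq_bot_or_eq_bot _ _ hmul hne hdepth with h | h
  · left
    intro z hz
    rw [mem_nilradical]
    refine ⟨k + 1, ?_⟩
    have : z ^ (k + 1) ∈ I₁ ^ (k + 1) := Ideal.pow_mem_pow hz _
    rwa [h, Ideal.mem_bot] at this
  · right
    intro z hz
    rw [mem_nilradical]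
    refine ⟨k + 1, ?_⟩
    have : z ^ (k + 1) ∈ I₂ ^ (k + 1) := Ideal.pow_mem_pow hz _
    rwa [h, Ideal.mem_bot] at this

end Groth.Agent.Lib.H29Hartshorne
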