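/-
Helper library (helper29): a Noetherian local ring with a dualizing complex which satisfies `(S₂)`
is equidimensional (via Hartshorne's connectedness theorem and the dimension function `degAt`).
-/
import Groth.Agent.Lib.H29Hartshorne
import Groth.Agent.Lib.H29DualModule2
import Groth.Agent.Lib.H29DualIso

set_option autoImplicit false
universe u
open CategoryTheory

namespace Groth.Agent.Lib.H29S2Equidim

attribute [local instance] HasDerivedCategory.standard

open Groth.Agent.Lib.H29DualPrime Groth.Agent.Lib.H29Hartshorne Groth.Agent.Lib.H47Reflexive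

section Loc

variable {A : Type u} [CommRing A] [IsNoetherianRing A]

/-- Hartshorne's connectedness theorem for the localization at `p`, phrased on `A`. -/
theorem hartshorne_at (p : Ideal A) [p.IsPrime] (I₁ I₂ : Ideal A) (h₁ : I₁ ≤ p) (h₂ : I₂ ≤ p)
    (hcov : ∀ p' : PrimeSpectrum A, p'.asIdeal ≤ p → I₁ ≤ p'.asIdeal ∨ I₂ ≤ p'.asIdeal)
    (hm : ∀ p' : PrimeSpectrum A, p'.asIdeal ≤ p → I₁ ≤ p'.asIdeal → I₂ ≤ p'.asIdeal →
      p'.asIdeal = p)
    (hd : 2 ≤ LocCoh.depth (Localization.AtPrime p) (Localization.AtPrime p)) :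
    (∀ p' : PrimeSpectrum A, p'.asIdeal ≤ p → I₁ ≤ p'.asIdeal) ∨
      (∀ p' : PrimeSpectrum A, p'.asIdeal ≤ p → I₂ ≤ p'.asIdeal) := by
  haveI : IsNoetherianRing (Localization.AtPrime p) :=
    IsLocalization.isNoetherianRing p.primeCompl _ inferInstance
  have hcomap : ∀ P : PrimeSpectrum (Localization.AtPrime p),
      P.asIdeal.comap (algebraMap A (Localization.AtPrime p)) ≤ p := fun P =>
    (IsLocalization.AtPrime.orderIsoOfPrime (Localization.AtPrime p) p ⟨P.asIdeal, P.2⟩).2.2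
  have hmax : p.map (algebraMap A (Localization.AtPrime p)) =
      IsLocalRing.maximalIdeal (Localization.AtPrime p) :=
    Localization.AtPrime.map_eq_maximalIdeal
  have key := hartshorne (B := Localization.AtPrime p)
    (I₁.map (algebraMap A (Localization.AtPrime p)))
    (I₂.map (algebraMap A (Localization.AtPrime p))) ?_ ?_ ?_ ?_ hd
  · have hfin : ∀ (I : Ideal A), I.map (algebraMap A (Localization.AtPrime p)) ≤
        nilradical (Localization.AtPrime p) →
        ∀ p' : PrimeSpectrum A, p'.asIdeal ≤ p → I ≤ p'.asIdeal := by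
      intro I hI p' hp'
      haveI := p'.2
      have hprime : (p'.asIdeal.map (algebraMap A (Localization.AtPrime p))).IsPrime :=
        Ideal.isPrime_map_of_isLocalizationAtPrime p hp'
      have h1 : I.map (algebraMap A (Localization.AtPrime p)) ≤
          p'.asIdeal.map (algebraMap A (Localization.AtPrime p)) := by
        refine le_trans hI ?_
        rw [nilradical_eq_sInf]
        exact sInf_le hprime
      have h2 := Ideal.comap_mono (f := algebraMap A (Localization.AtPrime p)) h1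
      have h3 : (p'.asIdeal.map (algebraMap A (Localization.AtPrime p))).comap
          (algebraMap A (Localization.AtPrime p)) = p'.asIdeal :=
        Ideal.under_map_of_isLocalizationAtPrime p hp'
      rw [h3] at h2
      exact le_trans Ideal.le_comap_map h2
    rcases key with h | h
    · exact Or.inl (hfin I₁ h)
    · exact Or.inr (hfin I₂ h)
  · intro P
    rcases hcov ⟨_, Ideal.IsPrime.comap (hK := P.2) (algebraMap A (Localization.AtPrime p))⟩
      (hcomap P) with h | h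
    · exact Or.inl (Ideal.map_le_iff_le_comap.mpr h)
    · exact Or.inr (Ideal.map_le_iff_le_comap.mpr h)
  · intro P hP1 hP2
    have h := hm ⟨_, Ideal.IsPrime.comap (hK := P.2) (algebraMap A (Localization.AtPrime p))⟩
      (hcomap P) (Ideal.map_le_iff_le_comap.mp hP1) (Ideal.map_le_iff_le_comap.mp hP2)
    change P.asIdeal.comap (algebraMap A (Localization.AtPrime p)) = p at h
    have h' := IsLocalization.map_under p.primeCompl (Localization.AtPrime p) P.asIdeal
    change Ideal.map (algebraMap A (Localization.AtPrime p))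
      (P.asIdeal.comap (algebraMap A (Localization.AtPrime p))) = P.asIdeal at h'
    rw [h] at h'
    rw [← h', hmax]
  · intro htop
    have : I₁.map (algebraMap A (Localization.AtPrime p)) ≤
        IsLocalRing.maximalIdeal (Localization.AtPrime p) := by
      rw [← hmax]
      exact Ideal.map_mono h₁
    rw [htop] at this
    exact (IsLocalRing.maximalIdeal.isMaximal _).ne_top (top_le_iff.mp this)
  · intro htop
    have : I₂.map (algebraMap A (Localization.AtPrime p)) ≤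
        IsLocalRing.maximalIdeal (Localization.AtPrime p) := by
      rw [← hmax]
      exact Ideal.map_mono h₂
    rw [htop] at this
    exact (IsLocalRing.maximalIdeal.isMaximal _).ne_top (top_le_iff.mp this)

/-- `(S₂)` gives depth `≥ 2` at primes of height `≥ 2` -/
theorem two_le_depth_of_S2 (hS2 : LocCoh.HasSk 2 A A) (p : Ideal A) [p.IsPrime]
    (hp : 2 ≤ p.height) :
    2 ≤ LocCoh.depth (Localization.AtPrime p) (Localization.AtPrime p) := by
  have h1 := hS2 p
  have h2 : Module.supportDim (Localization.AtPrime p) (LocalizedModule p.primeCompl A) =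
      ((p.height : ℕ∞) : WithBot ℕ∞) := by
    rw [Module.supportDim_eq_of_equiv (localizedSelfEquiv p),
      Module.supportDim_self_eq_ringKrullDim, IsLocalization.AtPrime.ringKrullDim_eq_height p]
  have h4 : ((2 : ℕ) : WithBot ℕ∞) ≤ Module.supportDim (Localization.AtPrime p)
      (LocalizedModule p.primeCompl A) := by
    rw [h2]
    exact WithBot.coe_le_coe.mpr (by exact_mod_cast hp)
  rw [min_eq_left h4, Groth.Agent.Lib.H8CM.depth_eq_of_equiv (localizedSelfEquiv p)] at h1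
  have h5 : (((2 : ℕ) : ℕ∞) : WithBot ℕ∞) ≤ ((LocCoh.depth (Localization.AtPrime p)
      (Localization.AtPrime p) : ℕ∞) : WithBot ℕ∞) := h1
  exact_mod_cast WithBot.coe_le_coe.mp h5

end Loc

section Main

variable (A : Type u) [CommRing A] [IsNoetherianRing A] [IsLocalRing A] (ω : Dual.D A)
  (hω : Dual.IsDualizing A ω) (n : ℕ) (hd : ringKrullDim A = n)
  (hS2 : LocCoh.HasSk 2 A A)

include hω hd hS2 in
/-- **A local `(S₂)` ring with a dualizing complex is equidimensional.** -/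
theorem isEquidim_of_S2 : ∀ q ∈ minimalPrimes A, ringKrullDim (A ⧸ q) = n := by
  classical
  by_contra hne
  push Not at hne
  obtain ⟨q₂₀, hq₂₀min, hq₂₀⟩ := hne
  obtain ⟨q₁₀, hq₁₀min, hq₁₀⟩ := exists_minimalPrimes_dim_eq A n hd
  let F : Finset (Ideal A) := (minimalPrimes.finite_of_isNoetherianRing A).toFinset
  have hF : ∀ q, q ∈ F ↔ q ∈ minimalPrimes A := fun q => Set.Finite.mem_toFinset _
  let S : Finset (Ideal A) := F.filter (fun q => ringKrullDim (A ⧸ q) = n)
  let T : Finset (Ideal A) := F.filter (fun q => ¬ ringKrullDim (A ⧸ q) = n)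
  have hS : ∀ q, q ∈ S ↔ q ∈ minimalPrimes A ∧ ringKrullDim (A ⧸ q) = n := by
    intro q
    simp only [S, Finset.mem_filter, hF]
  have hT : ∀ q, q ∈ T ↔ q ∈ minimalPrimes A ∧ ¬ ringKrullDim (A ⧸ q) = n := by
    intro q
    simp only [T, Finset.mem_filter, hF]
  let I₁ : Ideal A := S.inf id
  let I₂ : Ideal A := T.inf id
  have hI₁ : ∀ (P : Ideal A) [P.IsPrime], I₁ ≤ P ↔ ∃ q ∈ S, q ≤ P := fun P hP =>
    Ideal.IsPrime.inf_le' hP
  have hI₂ : ∀ (P : Ideal A) [P.IsPrime], I₂ ≤ P ↔ ∃ q ∈ T, q ≤ P := fun P hP =>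
    Ideal.IsPrime.inf_le' hP
  have hmle : ∀ q ∈ minimalPrimes A, q ≤ IsLocalRing.maximalIdeal A := fun q hq =>
    IsLocalRing.le_maximalIdeal hq.1.1.ne_top
  have h1m : I₁ ≤ IsLocalRing.maximalIdeal A :=
    (hI₁ _).mpr ⟨q₁₀, (hS _).mpr ⟨hq₁₀min, hq₁₀⟩, hmle _ hq₁₀min⟩
  have h2m : I₂ ≤ IsLocalRing.maximalIdeal A :=
    (hI₂ _).mpr ⟨q₂₀, (hT _).mpr ⟨hq₂₀min, hq₂₀⟩, hmle _ hq₂₀min⟩
  have hsup : I₁ ⊔ I₂ ≠ ⊤ := by
    intro htop
    have : I₁ ⊔ I₂ ≤ IsLocalRing.maximalIdeal A := sup_le h1m h2m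
    rw [htop] at this
    exact (IsLocalRing.maximalIdeal.isMaximal A).ne_top (top_le_iff.mp this)
  obtain ⟨p, hp⟩ := Ideal.nonempty_minimalPrimes hsup
  haveI hpprime : p.IsPrime := hp.1.1
  have hp1 : I₁ ≤ p := le_trans le_sup_left hp.1.2
  have hp2 : I₂ ≤ p := le_trans le_sup_right hp.1.2
  obtain ⟨q₁, hq₁S, hq₁p⟩ := (hI₁ p).mp hp1
  obtain ⟨q₂, hq₂T, hq₂p⟩ := (hI₂ p).mp hp2
  obtain ⟨hq₁min, hq₁d⟩ := (hS _).mp hq₁S
  obtain ⟨hq₂min, hq₂d⟩ := (hT _).mp hq₂T
  haveI := hq₁min.1.1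
  haveI := hq₂min.1.1
  have hq12 : q₁ ≠ q₂ := by
    intro h
    rw [h] at hq₁d
    exact hq₂d hq₁d
  -- the height of `p` is at most one
  have hht : ¬ 2 ≤ p.height := by
    intro hp2'
    have hdep := two_le_depth_of_S2 hS2 p hp2'
    have hcov' : ∀ p' : PrimeSpectrum A, p'.asIdeal ≤ p →
        I₁ ≤ p'.asIdeal ∨ I₂ ≤ p'.asIdeal := by
      intro p' hp'
      haveI := p'.2
      obtain ⟨q, hqmin, hq⟩ := Ideal.exists_minimalPrimes_le (I := (⊥ : Ideal A))
        (J := p'.asIdeal) bot_le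
      by_cases hqd : ringKrullDim (A ⧸ q) = n
      · exact Or.inl ((hI₁ p'.asIdeal).mpr ⟨q, (hS _).mpr ⟨hqmin, hqd⟩, hq⟩)
      · exact Or.inr ((hI₂ p'.asIdeal).mpr ⟨q, (hT _).mpr ⟨hqmin, hqd⟩, hq⟩)
    have hm' : ∀ p' : PrimeSpectrum A, p'.asIdeal ≤ p → I₁ ≤ p'.asIdeal → I₂ ≤ p'.asIdeal →
        p'.asIdeal = p := by
      intro p' hp' h1 h2
      exact le_antisymm hp' (hp.2 ⟨p'.2, sup_le h1 h2⟩ hp')
    rcases hartshorne_at p I₁ I₂ hp1 hp2 hcov' hm' hdep with h | h
    · have h1 := h ⟨q₂, inferInstance⟩ hq₂p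
      obtain ⟨q, hqS, hq⟩ := (hI₁ q₂).mp h1
      obtain ⟨hqmin, hqd⟩ := (hS _).mp hqS
      have : q = q₂ := le_antisymm hq (hq₂min.2 ⟨hqmin.1.1, bot_le⟩ hq)
      rw [this] at hqd
      exact hq₂d hqd
    · have h1 := h ⟨q₁, inferInstance⟩ hq₁p
      obtain ⟨q, hqT, hq⟩ := (hI₂ q₁).mp h1
      obtain ⟨hqmin, hqd⟩ := (hT _).mp hqT
      have : q = q₁ := le_antisymm hq (hq₁min.2 ⟨hqmin.1.1, bot_le⟩ hq)
      rw [this] at hqd
      exact hqd hq₁d
  -- hence `q₁ ⋖ p` and `q₂ ⋖ p`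
  have hcov : ∀ q : Ideal A, ∀ [q.IsPrime], q ≤ p → q ≠ p →
      (⟨q, inferInstance⟩ : PrimeSpectrum A) ⋖ ⟨p, hpprime⟩ := by
    intro q hq hqp hne'
    refine ⟨lt_of_le_of_ne hqp (fun h => hne' (congrArg PrimeSpectrum.asIdeal h)), ?_⟩
    intro r hqr hrp
    apply hht
    haveI := r.2
    have h1 : q.height < r.asIdeal.height := Ideal.height_strict_mono_of_isPrime (show q < r.asIdeal from hqr)
    have h2 : r.asIdeal.height < p.height := Ideal.height_strict_mono_of_isPrime (show r.asIdeal < p from hrp)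
    have h3 : 1 ≤ r.asIdeal.height := Order.one_le_iff_pos.mpr (lt_of_le_of_lt bot_le h1)
    have h4 : r.asIdeal.height + 1 ≤ p.height := Order.add_one_le_of_lt h2
    calc (2 : ℕ∞) = 1 + 1 := by norm_num
      _ ≤ r.asIdeal.height + 1 := add_le_add_left h3 1
      _ ≤ p.height := h4
  have hq₁ne : q₁ ≠ p := by
    intro h
    rw [← h] at hq₂p
    exact hq12 (le_antisymm (hq₁min.2 ⟨hq₂min.1.1, bot_le⟩ hq₂p) hq₂p)
  have hq₂ne : q₂ ≠ p := by
    intro h
    rw [← h] at hq₁p
    exact hq12 (le_antisymm hq₁p (hq₂min.2 ⟨hq₁min.1.1, bot_le⟩ hq₁p))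
  have e1 := degAt_covBy A ω hω _ _ (hcov q₁ hq₁p hq₁ne)
  have e2 := degAt_covBy A ω hω _ _ (hcov q₂ hq₂p hq₂ne)
  have d1 := ringKrullDim_quotient_eq A ω hω ⟨q₁, inferInstance⟩
  have d2 := ringKrullDim_quotient_eq A ω hω ⟨q₂, inferInstance⟩
  rw [e1] at d1
  rw [e2] at d2
  apply hq₂d
  rw [← hq₁d]
  exact d2.trans d1.symm

end Main

end Groth.Agent.Lib.H29S2Equidim
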