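/-
Helper library (helper29): endomorphisms of the dualizing module of an `(S₂)` local ring.
`A` Noetherian local of dimension `n`, `ω` normalized dualizing, `K = H^{-n}(ω)`.
* `(S_k)` for `A` ⇒ `Hom(τ_{>-n} ω, ω⟦i⟧) = 0` for `i < k`;
* `(S₂)` ⇒ `A → End_A(K)` bijective; `(S₃)` ⇒ `Ext¹(K, K) = 0`.
-/
import Groth.Agent.Lib.H29S2Equidim
import Groth.Agent.Lib.H29DualWayOut
import Groth.Agent.Lib.H29DualSk
import Groth.Agent.Lib.H29HomFreeLin
import Groth.Agent.Lib.H29CanonAss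

set_option autoImplicit false
universe u
open CategoryTheory CategoryTheory.Limits Category Pretriangulated DerivedCategory
  DerivedCategory.TStructure

namespace Groth.Agent.Lib.H29DualEnd

attribute [local instance] HasDerivedCategory.standard

open Groth.Agent.Lib.H29DualPrime Groth.Agent.Lib.H29DualShift Groth.Agent.Lib.H29DualLocal
  Groth.Agent.Lib.H47Reflexive

variable (A : Type u) [CommRing A] [IsNoetherianRing A] [IsLocalRing A] (ω : Dual.D A)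
  (hω : Dual.IsDualizing A ω) (hn : Dual.IsNormalized A ω) (n : ℕ) (hd : ringKrullDim A = n)

section Dim

include hn in
/-- `dim A/p = -degAt p` -/
theorem dim_quotient (p : PrimeSpectrum A) :
    ringKrullDim (A ⧸ p.asIdeal) = (((-degAt A ω hω p).toNat : ℕ) : WithBot ℕ∞) := by
  rw [ringKrullDim_quotient_eq A ω hω p, degAt_closedPoint A ω hω hn, zero_sub]

include hn in
/-- `Hom(N[0], ω⟦l⟧) = 0` for `l < -e` when `dim A/p ≤ e` on the support of `N` -/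
theorem subsingleton_T_of_dim (N : Type u) [AddCommGroup N] [Module A N] [Module.Finite A N]
    (e : ℤ) (hN : ∀ p ∈ Module.support A N, -degAt A ω hω p ≤ e) (l : ℤ) (hl : l < -e) :
    Subsingleton (Dual.inD A N ⟶ ω⟦l⟧) := by
  rcases subsingleton_or_nontrivial N with hs | hnt
  · have hz : IsZero (Dual.inD A N) :=
      (singleFunctor (ModuleCat.{u} A) 0).map_isZero (ModuleCat.isZero_of_subsingleton _)
    exact ⟨fun f g => hz.eq_of_src _ _⟩
  · obtain ⟨d, hd'⟩ := exists_supportDim_nat A ω hω N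
    obtain ⟨P, hP, hPd⟩ := Groth.Agent.Lib.H29CanonAss.exists_prime_of_le_supportDim N d
      (le_of_eq hd'.symm)
    rw [dim_quotient A ω hω hn P] at hPd
    have h1 : d ≤ (-degAt A ω hω P).toNat := by exact_mod_cast hPd
    have h2 := hN P hP
    by_contra hcon
    rw [not_subsingleton_iff_nontrivial] at hcon
    have h3 := ((Groth.Agent.S0366.result A ω hω hn N d hd' l).1 hcon).1
    have h4 := degAt_nonpos A ω hω hn P
    omega

include hn in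
/-- `Hom(N placed in degree j, ω⟦i⟧) = 0` for `i + j < -e` -/
theorem subsingleton_hom_single_of_dim (N : ModuleCat.{u} A) [Module.Finite A N] (e : ℤ)
    (hN : ∀ p ∈ Module.support A N, -degAt A ω hω p ≤ e) (j i : ℤ) (hij : i + j < -e) :
    Subsingleton ((singleFunctor (ModuleCat.{u} A) j).obj N ⟶ ω⟦i⟧) := by
  let e' : ((singleFunctor (ModuleCat.{u} A) 0).obj N)⟦-j⟧ ≅
      (singleFunctor (ModuleCat.{u} A) j).obj N :=
    ((singleFunctors (ModuleCat.{u} A)).shiftIso (-j) j 0 (by omega)).app N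
  have h1 : Subsingleton ((singleFunctor (ModuleCat.{u} A) 0).obj N ⟶ ω⟦i + j⟧) :=
    subsingleton_T_of_dim A ω hω hn N e hN (i + j) hij
  have h2 : Subsingleton ((singleFunctor (ModuleCat.{u} A) 0).obj N ⟶ (ω⟦i⟧)⟦j⟧) :=
    (homShiftEquiv A ((singleFunctor (ModuleCat.{u} A) 0).obj N) ω i j (i + j)
      rfl).toEquiv.subsingleton
  have h3 := subsingleton_hom_shift_left ((singleFunctor (ModuleCat.{u} A) 0).obj N) (ω⟦i⟧)
    (-j) j (by omega) h2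
  exact (Iso.homCongr e' (Iso.refl (ω⟦i⟧))).symm.subsingleton

end Dim

section Sk

variable (heq : ∀ q ∈ minimalPrimes A, ringKrullDim (A ⧸ q) = n)

include hω hn hd heq in
theorem mem_support_top (p : PrimeSpectrum A) :
    p ∈ Module.support A (Dual.HD A ω (-(n : ℤ))) := by
  rw [mem_support_HD_top_iff A ω hω hn n hd p]
  obtain ⟨q, hqmin, hqp⟩ := Ideal.exists_minimalPrimes_le (I := (⊥ : Ideal A))
    (J := p.asIdeal) bot_le
  exact ⟨q, hqmin, hqp, heq q hqmin⟩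

include hω hn hd heq in
/-- `(S_k)`: on the support of `H^i(ω)`, `i > -n`, one has `dim A/p ≤ -i - k` -/
theorem neg_degAt_le_of_mem_support (k : ℕ) (hSk : LocCoh.HasSk k A A) (i : ℤ)
    (hi : -(n : ℤ) < i) (p : PrimeSpectrum A) (hp : p ∈ Module.support A (Dual.HD A ω i)) :
    -degAt A ω hω p ≤ -i - k := by
  have h1 := (hasSk_iff A ω hω A k).mp hSk i (-(n : ℤ)) hi p
    (by rw [(Groth.Agent.Lib.H29HomFreeLin.homFreeEquiv A ω i).support_eq]; exact hp)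
    (by rw [(Groth.Agent.Lib.H29HomFreeLin.homFreeEquiv A ω (-(n : ℤ))).support_eq]
        exact mem_support_top A ω hω hn n hd heq p)
  have h2 : Module.supportDim (Localization.AtPrime p.asIdeal)
      (LocalizedModule p.asIdeal.primeCompl A) =
      ((((n : ℤ) + degAt A ω hω p).toNat : ℕ) : WithBot ℕ∞) := by
    rw [Module.supportDim_eq_of_equiv (localizedSelfEquiv p.asIdeal),
      Module.supportDim_self_eq_ringKrullDim]
    exact dim_localization_of_mem_support A ω hω hn n hd p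
      (mem_support_top A ω hω hn n hd heq p)
  rw [h2] at h1
  have h3 : ((k : ℤ) + i - -(n : ℤ)).toNat ≤ ((n : ℤ) + degAt A ω hω p).toNat := by
    exact_mod_cast h1
  have h4 := neg_degAt_le A ω hω hn n hd p
  omega

include hω hn hd heq in
/-- `(S_k)` ⇒ `Hom(τ_{>-n} ω, ω⟦i⟧) = 0` for `i < k` -/
theorem subsingleton_hom_truncGE (k : ℕ) (hSk : LocCoh.HasSk k A A) (i : ℤ) (hi : i < k) :
    Subsingleton ((t.truncGE (-(n : ℤ) + 1)).obj ω ⟶ ω⟦i⟧) := by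
  haveI := isLE_zero A ω hω hn
  haveI i3 : ((t.truncGE (-(n : ℤ) + 1)).obj ω).IsGE (-(n : ℤ) + 1) := inferInstance
  haveI i3' : ((t.truncGE (-(n : ℤ) + 1)).obj ω).IsLE 0 := inferInstance
  refine Groth.Agent.Lib.DDevissage.devissage (homVanish A ω i)
    (fun T hT h1 h3 => subsingleton_hom₂ T hT _ h1 h3)
    (fun Z hZ => ⟨fun f g => hZ.eq_of_src _ _⟩) ((t.truncGE (-(n : ℤ) + 1)).obj ω)
    (-(n : ℤ) + 1) 0 ?_
  intro j hj1 hj2
  have hiso := Groth.Agent.Lib.DWayOut.isIso_homologyMap_truncGEπ ω (-(n : ℤ) + 1) j hj1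
  let σ : (homologyFunctor (ModuleCat.{u} A) j).obj ω ≅
      (homologyFunctor (ModuleCat.{u} A) j).obj ((t.truncGE (-(n : ℤ) + 1)).obj ω) :=
    asIso ((homologyFunctor (ModuleCat.{u} A) j).map ((t.truncGEπ (-(n : ℤ) + 1)).app ω))
  haveI : Module.Finite A ((homologyFunctor (ModuleCat.{u} A) j).obj ω) :=
    hω.finite_cohomology j
  have key : Subsingleton ((singleFunctor (ModuleCat.{u} A) j).obj
      ((homologyFunctor (ModuleCat.{u} A) j).obj ω) ⟶ ω⟦i⟧) := by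
    rcases subsingleton_or_nontrivial ((homologyFunctor (ModuleCat.{u} A) j).obj ω) with hs | hnt
    · have hz : IsZero ((singleFunctor (ModuleCat.{u} A) j).obj
          ((homologyFunctor (ModuleCat.{u} A) j).obj ω)) :=
        (singleFunctor (ModuleCat.{u} A) j).map_isZero (ModuleCat.isZero_of_subsingleton _)
      exact ⟨fun f g => hz.eq_of_src _ _⟩
    · have hsupp : ∀ p ∈ Module.support A ((homologyFunctor (ModuleCat.{u} A) j).obj ω),
          -degAt A ω hω p ≤ -j - k := fun p hp =>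
        neg_degAt_le_of_mem_support A ω hω hn n hd heq k hSk j (by omega) p hp
      exact subsingleton_hom_single_of_dim A ω hω hn _ (-j - k) hsupp j i (by omega)
  exact (Iso.homCongr ((singleFunctor (ModuleCat.{u} A) j).mapIso σ)
    (Iso.refl (ω⟦i⟧))).symm.subsingleton

end Sk


section Tri

variable {C : Type*} [Category C] [Preadditive C] [HasZeroObject C] [HasShift C ℤ]
  [∀ n : ℤ, (shiftFunctor C n).Additive] [Pretriangulated C]

lemma subsingleton_hom_shift_zero (X Y : C) (h : Subsingleton (X ⟶ Y⟦(0 : ℤ)⟧)) :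
    Subsingleton (X ⟶ Y) :=
  (Iso.homCongr (Iso.refl X) ((shiftFunctorZero C ℤ).app Y)).symm.subsingleton

/-- precomposition with `T.mor₁` is bijective when `Hom(T.obj₃, W) = Hom(T.obj₃, W⟦1⟧) = 0` -/
lemma bijective_precomp_mor₁ (T : Triangle C) (hT : T ∈ distTriang C) (W : C)
    (h0 : Subsingleton (T.obj₃ ⟶ W)) (h1 : Subsingleton (T.obj₃ ⟶ W⟦(1 : ℤ)⟧)) :
    Function.Bijective (fun g : T.obj₂ ⟶ W => T.mor₁ ≫ g) := by
  constructor
  · intro g₁ g₂ hg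
    have h : T.mor₁ ≫ (g₁ - g₂) = 0 := by
      rw [Preadditive.comp_sub]
      exact sub_eq_zero.2 hg
    obtain ⟨g', hg'⟩ := Triangle.yoneda_exact₂ _ hT (g₁ - g₂) h
    rw [Subsingleton.elim g' 0, comp_zero] at hg'
    exact sub_eq_zero.1 hg'
  · intro φ
    obtain ⟨ψ, hψ⟩ := Groth.Agent.Lib.H29Bidual.yoneda_exact₁ T hT φ (Subsingleton.elim _ _)
    exact ⟨ψ, hψ.symm⟩

/-- postcomposition with `T.mor₁` is bijective when `Hom(X, T.obj₃) = Hom(X, T.obj₃⟦-1⟧) = 0` -/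
lemma bijective_postcomp_mor₁ (T : Triangle C) (hT : T ∈ distTriang C) (X : C)
    (h0 : Subsingleton (X ⟶ T.obj₃)) (h1 : Subsingleton (X ⟶ T.obj₃⟦(-1 : ℤ)⟧)) :
    Function.Bijective (fun f : X ⟶ T.obj₁ => f ≫ T.mor₁) := by
  constructor
  · intro f₁ f₂ hf
    have h : (f₁ - f₂) ≫ T.invRotate.mor₂ = 0 := by
      change (f₁ - f₂) ≫ T.mor₁ = 0
      rw [Preadditive.sub_comp]
      exact sub_eq_zero.2 hf
    obtain ⟨g, hg⟩ := Triangle.coyoneda_exact₂ _ (inv_rot_of_distTriang _ hT) (f₁ - f₂) h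
    have hg0 : g = 0 := Subsingleton.elim (α := X ⟶ T.obj₃⟦(-1 : ℤ)⟧) _ _
    rw [hg0, zero_comp] at hg
    exact sub_eq_zero.1 hg
  · intro φ
    obtain ⟨f, hf⟩ := Triangle.coyoneda_exact₂ _ hT φ (Subsingleton.elim _ _)
    exact ⟨f, hf.symm⟩

end Tri

section End

variable (heq : ∀ q ∈ minimalPrimes A, ringKrullDim (A ⧸ q) = n)

include hω hn hd heq in
/-- **`(S₂)` ⇒ `A ≃ End_A(K)`** for the dualizing module `K = H^{-n}(ω)`. -/
theorem bijective_smul_id (hS2 : LocCoh.HasSk 2 A A) :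
    Function.Bijective (fun r : A =>
      r • (LinearMap.id : Dual.HD A ω (-(n : ℤ)) →ₗ[A] Dual.HD A ω (-(n : ℤ)))) := by
  haveI := isGE_of_dim A ω hω hn n hd
  haveI := isLE_zero A ω hω hn
  have hT := t.triangleLEGE_distinguished (-(n : ℤ)) (-(n : ℤ) + 1) rfl ω
  haveI i1 : ((t.truncLE (-(n : ℤ))).obj ω).IsLE (-(n : ℤ)) := inferInstance
  haveI i1' : ((t.truncLE (-(n : ℤ))).obj ω).IsGE (-(n : ℤ)) := inferInstance
  haveI i3 : ((t.truncGE (-(n : ℤ) + 1)).obj ω).IsGE (-(n : ℤ) + 1) := inferInstance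
  have hR0 : Subsingleton ((t.truncGE (-(n : ℤ) + 1)).obj ω ⟶ ω) :=
    subsingleton_hom_shift_zero _ _
      (subsingleton_hom_truncGE A ω hω hn n hd heq 2 hS2 0 (by norm_num))
  have hR1 : Subsingleton ((t.truncGE (-(n : ℤ) + 1)).obj ω ⟶ ω⟦(1 : ℤ)⟧) :=
    subsingleton_hom_truncGE A ω hω hn n hd heq 2 hS2 1 (by norm_num)
  -- E1
  have hE1 : Function.Bijective (fun g : ω ⟶ ω => (t.truncLEι (-(n : ℤ))).app ω ≫ g) :=
    bijective_precomp_mor₁ _ hT ω hR0 hR1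
  -- E2
  have hLR : Subsingleton ((t.truncLE (-(n : ℤ))).obj ω ⟶ (t.truncGE (-(n : ℤ) + 1)).obj ω) :=
    ⟨fun f g => by
      rw [t.zero f (-(n : ℤ)) (-(n : ℤ) + 1) (by omega),
        t.zero g (-(n : ℤ)) (-(n : ℤ) + 1) (by omega)]⟩
  have hLR' : Subsingleton ((t.truncLE (-(n : ℤ))).obj ω ⟶
      ((t.truncGE (-(n : ℤ) + 1)).obj ω)⟦(-1 : ℤ)⟧) := by
    haveI : (((t.truncGE (-(n : ℤ) + 1)).obj ω)⟦(-1 : ℤ)⟧).IsGE (-(n : ℤ) + 2) :=
      t.isGE_shift _ (-(n : ℤ) + 1) (-1) (-(n : ℤ) + 2) (by omega)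
    exact ⟨fun f g => by
      rw [t.zero f (-(n : ℤ)) (-(n : ℤ) + 2) (by omega),
        t.zero g (-(n : ℤ)) (-(n : ℤ) + 2) (by omega)]⟩
  have hE2 : Function.Bijective (fun f : (t.truncLE (-(n : ℤ))).obj ω ⟶
      (t.truncLE (-(n : ℤ))).obj ω => f ≫ (t.truncLEι (-(n : ℤ))).app ω) :=
    bijective_postcomp_mor₁ _ hT ((t.truncLE (-(n : ℤ))).obj ω) hLR hLR'
  obtain ⟨e1⟩ := Groth.Agent.Lib.DDevissage.nonempty_iso_single_homology
    ((t.truncLE (-(n : ℤ))).obj ω) (-(n : ℤ))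
  have hiso := Groth.Agent.Lib.DWayOut.isIso_homologyMap_truncLEι ω (-(n : ℤ)) (-(n : ℤ)) le_rfl
  let e2 : (singleFunctor (ModuleCat.{u} A) (-(n : ℤ))).obj
      ((homologyFunctor (ModuleCat.{u} A) (-(n : ℤ))).obj ((t.truncLE (-(n : ℤ))).obj ω)) ≅
      (singleFunctor (ModuleCat.{u} A) (-(n : ℤ))).obj
        ((homologyFunctor (ModuleCat.{u} A) (-(n : ℤ))).obj ω) :=
    (singleFunctor (ModuleCat.{u} A) (-(n : ℤ))).mapIso
      (asIso ((homologyFunctor (ModuleCat.{u} A) (-(n : ℤ))).map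
        ((t.truncLEι (-(n : ℤ))).app ω)))
  let e : (t.truncLE (-(n : ℤ))).obj ω ≅ (singleFunctor (ModuleCat.{u} A) (-(n : ℤ))).obj
      ((homologyFunctor (ModuleCat.{u} A) (-(n : ℤ))).obj ω) := e1 ≪≫ e2
  let ι : (t.truncLE (-(n : ℤ))).obj ω ⟶ ω := (t.truncLEι (-(n : ℤ))).app ω
  let Φ : (Dual.HD A ω (-(n : ℤ)) →ₗ[A] Dual.HD A ω (-(n : ℤ))) →
      ((t.truncLE (-(n : ℤ))).obj ω ⟶ ω) := fun f =>
    (e.hom ≫ (singleFunctor (ModuleCat.{u} A) (-(n : ℤ))).map (ModuleCat.ofHom f) ≫ e.inv) ≫ ι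
  have hΦinj : Function.Injective Φ := by
    intro f₁ f₂ h
    have h1 : e.hom ≫ (singleFunctor (ModuleCat.{u} A) (-(n : ℤ))).map (ModuleCat.ofHom f₁) ≫
        e.inv = e.hom ≫ (singleFunctor (ModuleCat.{u} A) (-(n : ℤ))).map (ModuleCat.ofHom f₂) ≫
        e.inv := hE2.1 h
    rw [cancel_epi, cancel_mono] at h1
    have h3 := (singleFunctor (ModuleCat.{u} A) (-(n : ℤ))).map_injective h1
    have h4 := congrArg ModuleCat.Hom.hom h3
    exact h4
  have hΦsurj : Function.Surjective Φ := by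
    intro φ
    obtain ⟨f', hf'⟩ := hE2.2 φ
    obtain ⟨g, hg⟩ := (singleFunctor (ModuleCat.{u} A) (-(n : ℤ))).map_surjective
      (e.inv ≫ f' ≫ e.hom)
    refine ⟨g.hom, ?_⟩
    change (e.hom ≫ (singleFunctor (ModuleCat.{u} A) (-(n : ℤ))).map (ModuleCat.ofHom g.hom) ≫
      e.inv) ≫ ι = φ
    rw [ModuleCat.ofHom_hom, hg]
    simp only [assoc, Iso.hom_inv_id_assoc]
    exact hf'
  have hΦsmul : ∀ r : A, Φ (r • LinearMap.id) = ι ≫ (r • 𝟙 ω) := by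
    intro r
    have h1 : ModuleCat.ofHom (r • (LinearMap.id :
        Dual.HD A ω (-(n : ℤ)) →ₗ[A] Dual.HD A ω (-(n : ℤ)))) =
        r • 𝟙 ((homologyFunctor (ModuleCat.{u} A) (-(n : ℤ))).obj ω) := rfl
    change (e.hom ≫ (singleFunctor (ModuleCat.{u} A) (-(n : ℤ))).map (ModuleCat.ofHom _) ≫
      e.inv) ≫ ι = _
    rw [h1, Functor.map_smul, CategoryTheory.Functor.map_id, Linear.smul_comp, Linear.comp_smul,
      id_comp, e.hom_inv_id, Linear.smul_comp, id_comp, Linear.comp_smul, comp_id]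
  constructor
  · intro r r' h
    have h' : Φ (r • LinearMap.id) = Φ (r' • LinearMap.id) := congrArg Φ h
    rw [hΦsmul, hΦsmul] at h'
    exact hω.toEnd_bijective.1 (hE1.1 h')
  · intro f
    obtain ⟨g, hg⟩ := hE1.2 (Φ f)
    obtain ⟨r, hr⟩ := hω.toEnd_bijective.2 g
    refine ⟨r, ?_⟩
    apply hΦinj
    rw [hΦsmul]
    change ι ≫ (r • 𝟙 ω) = Φ f
    rw [← hg]
    change ι ≫ (r • 𝟙 ω) = ι ≫ g
    rw [← hr]

include hω hn hd heq in
/-- **`(S₃)` ⇒ `Ext¹_A(K, K) = 0`** for the dualizing module `K = H^{-n}(ω)`. -/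
theorem subsingleton_ext_one (hS3 : LocCoh.HasSk 3 A A) :
    Subsingleton (Dual.inD A (Dual.HD A ω (-(n : ℤ))) ⟶
      (Dual.inD A (Dual.HD A ω (-(n : ℤ))))⟦(1 : ℤ)⟧) := by
  haveI := isGE_of_dim A ω hω hn n hd
  haveI := isLE_zero A ω hω hn
  have hT := t.triangleLEGE_distinguished (-(n : ℤ)) (-(n : ℤ) + 1) rfl ω
  haveI i1 : ((t.truncLE (-(n : ℤ))).obj ω).IsLE (-(n : ℤ)) := inferInstance
  haveI i1' : ((t.truncLE (-(n : ℤ))).obj ω).IsGE (-(n : ℤ)) := inferInstance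
  haveI i3 : ((t.truncGE (-(n : ℤ) + 1)).obj ω).IsGE (-(n : ℤ) + 1) := inferInstance
  have hR2 : Subsingleton ((t.truncGE (-(n : ℤ) + 1)).obj ω ⟶ ω⟦(2 : ℤ)⟧) :=
    subsingleton_hom_truncGE A ω hω hn n hd heq 3 hS3 2 (by norm_num)
  have hR2' : Subsingleton ((t.truncGE (-(n : ℤ) + 1)).obj ω ⟶ (ω⟦(1 : ℤ)⟧)⟦(1 : ℤ)⟧) :=
    (homShiftEquiv A ((t.truncGE (-(n : ℤ) + 1)).obj ω) ω 1 1 2 rfl).toEquiv.subsingleton
  have h1 : Subsingleton (((t.truncGE (-(n : ℤ) + 1)).obj ω)⟦(-1 : ℤ)⟧ ⟶ ω⟦(1 : ℤ)⟧) :=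
    subsingleton_hom_shift_left _ (ω⟦(1 : ℤ)⟧) (-1) 1 (by omega) hR2'
  have h3 : Subsingleton (ω ⟶ ω⟦(1 : ℤ)⟧) := hω.ext_self_subsingleton 1 (by norm_num)
  have hL1 : Subsingleton ((t.truncLE (-(n : ℤ))).obj ω ⟶ ω⟦(1 : ℤ)⟧) :=
    subsingleton_hom₂ (Triangle.mk ((t.truncLEι (-(n : ℤ))).app ω)
      ((t.truncGEπ (-(n : ℤ) + 1)).app ω)
      ((t.truncGEδLE (-(n : ℤ)) (-(n : ℤ) + 1) rfl).app ω)).invRotate
      (inv_rot_of_distTriang _ hT) (ω⟦(1 : ℤ)⟧) h1 h3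
  have hLR : Subsingleton ((t.truncLE (-(n : ℤ))).obj ω ⟶ (t.truncGE (-(n : ℤ) + 1)).obj ω) :=
    ⟨fun f g => by
      rw [t.zero f (-(n : ℤ)) (-(n : ℤ) + 1) (by omega),
        t.zero g (-(n : ℤ)) (-(n : ℤ) + 1) (by omega)]⟩
  -- `Hom(L, L⟦1⟧) = 0`
  have hLL : Subsingleton ((t.truncLE (-(n : ℤ))).obj ω ⟶
      ((t.truncLE (-(n : ℤ))).obj ω)⟦(1 : ℤ)⟧) := by
    refine ⟨fun f g => ?_⟩
    suffices H : ∀ f : (t.truncLE (-(n : ℤ))).obj ω ⟶
        ((t.truncLE (-(n : ℤ))).obj ω)⟦(1 : ℤ)⟧, f = 0 by rw [H f, H g]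
    intro f
    have hT' := rot_of_distTriang _ hT
    have hz : f ≫ (Triangle.mk ((t.truncLEι (-(n : ℤ))).app ω)
      ((t.truncGEπ (-(n : ℤ) + 1)).app ω)
      ((t.truncGEδLE (-(n : ℤ)) (-(n : ℤ) + 1) rfl).app ω)).rotate.mor₃ = 0 := by
      change f ≫ (-((t.truncLEι (-(n : ℤ))).app ω)⟦(1 : ℤ)⟧') = 0
      rw [Preadditive.comp_neg, neg_eq_zero]
      exact @Subsingleton.elim _ hL1 _ _
    obtain ⟨g', hg'⟩ := Triangle.coyoneda_exact₃ _ hT' f hz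
    have hg0 : g' = 0 := @Subsingleton.elim _ hLR g' 0
    rw [hg', hg0]
    exact zero_comp
  -- transfer to `K[0]`
  obtain ⟨e1⟩ := Groth.Agent.Lib.DDevissage.nonempty_iso_single_homology
    ((t.truncLE (-(n : ℤ))).obj ω) (-(n : ℤ))
  have hiso := Groth.Agent.Lib.DWayOut.isIso_homologyMap_truncLEι ω (-(n : ℤ)) (-(n : ℤ)) le_rfl
  let e2 : (singleFunctor (ModuleCat.{u} A) (-(n : ℤ))).obj
      ((homologyFunctor (ModuleCat.{u} A) (-(n : ℤ))).obj ((t.truncLE (-(n : ℤ))).obj ω)) ≅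
      (singleFunctor (ModuleCat.{u} A) (-(n : ℤ))).obj
        ((homologyFunctor (ModuleCat.{u} A) (-(n : ℤ))).obj ω) :=
    (singleFunctor (ModuleCat.{u} A) (-(n : ℤ))).mapIso
      (asIso ((homologyFunctor (ModuleCat.{u} A) (-(n : ℤ))).map
        ((t.truncLEι (-(n : ℤ))).app ω)))
  let e3 : ((singleFunctor (ModuleCat.{u} A) 0).obj
      ((homologyFunctor (ModuleCat.{u} A) (-(n : ℤ))).obj ω))⟦(n : ℤ)⟧ ≅
      (singleFunctor (ModuleCat.{u} A) (-(n : ℤ))).obj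
        ((homologyFunctor (ModuleCat.{u} A) (-(n : ℤ))).obj ω) :=
    ((singleFunctors (ModuleCat.{u} A)).shiftIso (n : ℤ) (-(n : ℤ)) 0 (by omega)).app _
  let ε : ((singleFunctor (ModuleCat.{u} A) 0).obj
      ((homologyFunctor (ModuleCat.{u} A) (-(n : ℤ))).obj ω))⟦(n : ℤ)⟧ ≅
      (t.truncLE (-(n : ℤ))).obj ω := e3 ≪≫ e2.symm ≪≫ e1.symm
  have hXX : Subsingleton (((singleFunctor (ModuleCat.{u} A) 0).obj
      ((homologyFunctor (ModuleCat.{u} A) (-(n : ℤ))).obj ω))⟦(n : ℤ)⟧ ⟶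
      (((singleFunctor (ModuleCat.{u} A) 0).obj
      ((homologyFunctor (ModuleCat.{u} A) (-(n : ℤ))).obj ω))⟦(n : ℤ)⟧)⟦(1 : ℤ)⟧) :=
    (Iso.homCongr ε ((shiftFunctor (Dual.D A) (1 : ℤ)).mapIso ε)).subsingleton
  refine ⟨fun f g => ?_⟩
  suffices H : ∀ f : Dual.inD A (Dual.HD A ω (-(n : ℤ))) ⟶
      (Dual.inD A (Dual.HD A ω (-(n : ℤ))))⟦(1 : ℤ)⟧, f = 0 by rw [H f, H g]
  intro f
  apply (shiftFunctor (Dual.D A) (n : ℤ)).map_injective
  rw [Functor.map_zero]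
  have h5 : (shiftFunctor (Dual.D A) (n : ℤ)).map f ≫
      (shiftFunctorComm (Dual.D A) (1 : ℤ) (n : ℤ)).hom.app _ = 0 :=
    Subsingleton.elim (α := ((singleFunctor (ModuleCat.{u} A) 0).obj
      ((homologyFunctor (ModuleCat.{u} A) (-(n : ℤ))).obj ω))⟦(n : ℤ)⟧ ⟶
      (((singleFunctor (ModuleCat.{u} A) 0).obj
      ((homologyFunctor (ModuleCat.{u} A) (-(n : ℤ))).obj ω))⟦(n : ℤ)⟧)⟦(1 : ℤ)⟧) _ _
  rw [← cancel_mono ((shiftFunctorComm (Dual.D A) (1 : ℤ) (n : ℤ)).hom.app _), h5, zero_comp]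

end End

end Groth.Agent.Lib.H29DualEnd
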