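import Groth.Agent.Lib.H29LBaseLoc

/-!
# Dualizing complexes are detected at maximal ideals (helper29)

* `isDualizing_of_forall_maximal`: `K ∈ D^b_coh(A)` of finite injective dimension with all
  `K_m` dualizing (exact localization `LD`) is dualizing.
* `isDualizing_of_forall_maximal_LBaseChange`: same with `DRing.LBaseChange` (= S7867).
-/

set_option autoImplicit false
universe u
open CategoryTheory CategoryTheory.Limits Category Pretriangulated DerivedCategory

namespace Groth.Agent.Lib.H29DualGlue

attribute [local instance] HasDerivedCategory.standard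

open Groth.Agent.Lib.H29LocD

variable (A : Type u) [CommRing A] [IsNoetherianRing A] (K : Dual.D A)

/-- an ideal not contained in any maximal ideal contains `1` -/
lemma one_mem_of_forall_maximal (I : Ideal A)
    (h : ∀ (m : Ideal A) [m.IsMaximal], ∃ s : m.primeCompl, (s : A) ∈ I) : (1 : A) ∈ I := by
  by_contra hI
  have hne : I ≠ ⊤ := fun h' => hI (h' ▸ Submodule.mem_top)
  obtain ⟨m, hm, hIm⟩ := Ideal.exists_le_maximal I hne
  obtain ⟨s, hs⟩ := h m
  exact s.2 (hIm hs)

theorem isDualizing_of_forall_maximal
    (hbdd : ∃ a b : ℤ, ∀ i : ℤ, (i < a ∨ b < i) → Subsingleton (Dual.HD A K i))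
    (hfin : ∀ i : ℤ, Module.Finite A (Dual.HD A K i))
    (hinj : ∃ a b : ℤ, ∀ (M : Type u) [AddCommGroup M] [Module A M] (i : ℤ),
      (i < a ∨ b < i) → Subsingleton (Dual.inD A M ⟶ K⟦i⟧))
    (hloc : ∀ (m : Ideal A) [m.IsMaximal],
      Dual.IsDualizing (Localization m.primeCompl) ((LD m.primeCompl).obj K)) :
    Dual.IsDualizing A K := by
  obtain ⟨a, b, hab⟩ := hbdd
  obtain ⟨a', b', hab'⟩ := hinj
  haveI : K.IsGE a := by
    rw [isGE_iff]
    intro i hi
    haveI := hab i (Or.inl hi)
    exact ModuleCat.isZero_of_subsingleton _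
  haveI : K.IsLE b := by
    rw [isLE_iff]
    intro i hi
    haveI := hab i (Or.inr hi)
    exact ModuleCat.isZero_of_subsingleton _
  obtain ⟨J, hJa, hJb, hJinj, ⟨e⟩⟩ :=
    Groth.Agent.Lib.DInjGE.exists_injective_amplitude K a' b' (by
      intro Y i hi φ
      haveI := hab' Y i hi
      exact Subsingleton.elim _ _)
  have hIS : ∀ (m : Ideal A) [m.IsMaximal] (i : ℤ), Inj (L m.primeCompl) m.primeCompl K (K⟦i⟧) :=
    fun m _ i => (IS_shift_target m.primeCompl J a' hJinj K e K a b hfin i).1
  refine ⟨inferInstance, ⟨a', b', hab'⟩, hfin, ?_, ?_⟩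
  · -- `A → End K` bijective
    let z : K⟦(0 : ℤ)⟧ ≅ K := (shiftFunctorZero (Dual.D A) ℤ).app K
    have hI0 : ∀ (m : Ideal A) [m.IsMaximal], Inj (L m.primeCompl) m.primeCompl K K :=
      fun m _ => (hIS m 0).of_iso_right z
    constructor
    · intro c c' hcc
      replace hcc : c • 𝟙 K = c' • 𝟙 K := hcc
      have h0 : (c - c') • 𝟙 K = 0 := by rw [sub_smul, hcc, sub_self]
      let I : Ideal A := Ideal.span {c - c'} |>.annihilator
      have h1 : (1 : A) ∈ (Submodule.span A {c - c'} : Ideal A).annihilator := by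
        apply one_mem_of_forall_maximal
        intro m _
        have h2 : (LD m.primeCompl).map ((c - c') • 𝟙 K) = 0 := by rw [h0, Functor.map_zero]
        rw [GD_map_smul (semiLin_L m.primeCompl), CategoryTheory.Functor.map_id] at h2
        have h3 : algebraMap A (Localization m.primeCompl) (c - c') = 0 := by
          apply (hloc m).toEnd_bijective.1
          show algebraMap A (Localization m.primeCompl) (c - c') •
            𝟙 ((LD m.primeCompl).obj K) = (0 : Localization m.primeCompl) • 𝟙 _
          rw [h2, zero_smul]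
        rw [IsLocalization.map_eq_zero_iff m.primeCompl] at h3
        obtain ⟨s, hs⟩ := h3
        refine ⟨s, ?_⟩
        rw [Submodule.mem_annihilator_span_singleton]
        exact hs
      rw [Submodule.mem_annihilator_span_singleton, one_smul] at h1
      exact sub_eq_zero.mp h1
    · intro f
      let I : Ideal A :=
        { carrier := {c | ∃ x : A, c • f = x • 𝟙 K}
          add_mem' := by
            rintro c c' ⟨x, hx⟩ ⟨x', hx'⟩
            exact ⟨x + x', by rw [add_smul, add_smul, hx, hx']⟩
          zero_mem' := ⟨0, by rw [zero_smul, zero_smul]⟩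
          smul_mem' := by
            rintro r c ⟨x, hx⟩
            exact ⟨r * x, by rw [smul_eq_mul, mul_smul, mul_smul, hx]⟩ }
      have h1 : (1 : A) ∈ I := by
        apply one_mem_of_forall_maximal
        intro m _
        obtain ⟨y, hy⟩ := (hloc m).toEnd_bijective.2 ((LD m.primeCompl).map f)
        replace hy : y • 𝟙 ((LD m.primeCompl).obj K) = (LD m.primeCompl).map f := hy
        obtain ⟨x, s, hxs⟩ := IsLocalization.exists_mk'_eq m.primeCompl y
        have h2 : (LD m.primeCompl).map ((s : A) • f - x • 𝟙 K) = 0 := by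
          rw [Functor.map_sub, GD_map_smul (semiLin_L m.primeCompl),
            GD_map_smul (semiLin_L m.primeCompl), CategoryTheory.Functor.map_id, ← hy,
            ← mul_smul, ← hxs, IsLocalization.mk'_spec' (Localization m.primeCompl) x s,
            sub_self]
        obtain ⟨t, ht⟩ := hI0 m _ h2
        refine ⟨t * s, ⟨(t : A) * x, ?_⟩⟩
        rw [smul_sub, sub_eq_zero] at ht
        rw [Submonoid.coe_mul, mul_smul, mul_smul, ht]
      obtain ⟨x, hx⟩ := h1
      rw [one_smul] at hx
      exact ⟨x, hx.symm⟩
  · intro i hi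
    refine ⟨fun φ ψ => ?_⟩
    suffices H : ∀ φ : K ⟶ K⟦i⟧, φ = 0 by rw [H φ, H ψ]
    intro φ
    let I : Ideal A :=
      { carrier := {c | c • φ = 0}
        add_mem' := by
          intro c c' hc hc'
          show (c + c') • φ = 0
          rw [add_smul, hc, hc', add_zero]
        zero_mem' := zero_smul _ _
        smul_mem' := by
          intro r c hc
          show (r • c) • φ = 0
          rw [smul_eq_mul, mul_smul, hc, smul_zero] }
    have h1 : (1 : A) ∈ I := by
      apply one_mem_of_forall_maximal
      intro m _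
      haveI := (hloc m).ext_self_subsingleton i hi
      have h2 : (LD m.primeCompl).map φ = 0 := by
        rw [← cancel_mono (((LD m.primeCompl).commShiftIso i).hom.app K)]
        exact @Subsingleton.elim ((LD m.primeCompl).obj K ⟶ ((LD m.primeCompl).obj K)⟦i⟧)
          inferInstance _ _
      obtain ⟨s, hs⟩ := hIS m i φ h2
      exact ⟨s, hs⟩
    have h2 : (1 : A) • φ = 0 := h1
    rwa [one_smul] at h2

variable [∀ m : Ideal A, [m.IsMaximal] →
  DRing.HasLBaseChange (algebraMap A (Localization.AtPrime m))]

theorem isDualizing_of_forall_maximal_LBaseChange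
    (hbdd : ∃ a b : ℤ, ∀ i : ℤ, (i < a ∨ b < i) → Subsingleton (Dual.HD A K i))
    (hfin : ∀ i : ℤ, Module.Finite A (Dual.HD A K i))
    (hinj : ∃ a b : ℤ, ∀ (M : Type u) [AddCommGroup M] [Module A M] (i : ℤ),
      (i < a ∨ b < i) → Subsingleton (Dual.inD A M ⟶ K⟦i⟧))
    (hloc : ∀ (m : Ideal A) [m.IsMaximal],
      Dual.IsDualizing (Localization.AtPrime m)
        ((DRing.LBaseChange (algebraMap A (Localization.AtPrime m))).obj K)) :
    Dual.IsDualizing A K :=
  isDualizing_of_forall_maximal A K hbdd hfin hinj (fun m _ =>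
    Groth.Agent.Lib.H29DualPrime.isDualizing_of_iso _
      ((Groth.Agent.Lib.H29LBaseLoc.lbaseLocIso m.primeCompl).app K) (hloc m))

end Groth.Agent.Lib.H29DualGlue
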