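import Groth.Agent.Lib.H29DualCoh

/-!
# Dualizing complexes at minimal primes (helper29)

* `nontrivial_localizedModule_HD_iff`: `H^i(ω)_S ≠ 0 ↔ H^i(S⁻¹ω) ≠ 0`.
* `nontrivial_localizedModule_HD_iff_degAt`: for a minimal prime `p`,
  `H^i(ω)_p ≠ 0 ↔ i = degAt p`.
-/

set_option autoImplicit false
universe u
open CategoryTheory CategoryTheory.Limits Category Pretriangulated DerivedCategory

namespace Groth.Agent.Lib.H29DualPrime

attribute [local instance] HasDerivedCategory.standard

open Groth.Agent.Lib.H29LocD Groth.Agent.Lib.H29DualShift Groth.Agent.Lib.H29DualLocal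

variable (A : Type u) [CommRing A]

theorem nontrivial_localizedModule_HD_iff (S : Submonoid A) (ω : Dual.D A) (i : ℤ) :
    Nontrivial (LocalizedModule S (Dual.HD A ω i)) ↔
      Nontrivial (Dual.HD (Localization S) ((LD S).obj ω) i) := by
  let σ : (homologyFunctor (ModuleCat.{u} (Localization S)) i).obj ((LD S).obj ω) ≅
      (L S).obj ((homologyFunctor (ModuleCat.{u} A) i).obj ω) :=
    (Groth.Agent.Lib.FlatBaseChangeD.mapDerivedCategoryHomologyIso (L S) i).app ω
  let e1 : Dual.HD (Localization S) ((LD S).obj ω) i ≃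
      ((homologyFunctor (ModuleCat.{u} A) i).obj ω).localizedModule S :=
    σ.toLinearEquiv.toEquiv
  let e2 : ((homologyFunctor (ModuleCat.{u} A) i).obj ω).localizedModule S ≃
      LocalizedModule S (Dual.HD A ω i) := (equivShrink _).symm
  exact ⟨fun h => (e1.trans e2).nontrivial, fun h => (e1.trans e2).symm.nontrivial⟩

variable (ω : Dual.D A) (hω : Dual.IsDualizing A ω)

theorem nontrivial_localizedModule_HD_iff_degAt (p : PrimeSpectrum A)
    (hp : p.asIdeal ∈ minimalPrimes A) (i : ℤ) :
    Nontrivial (LocalizedModule p.asIdeal.primeCompl (Dual.HD A ω i)) ↔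
      i = degAt A ω hω p := by
  haveI := hω.isNoetherianRing
  let S := p.asIdeal.primeCompl
  haveI : IsNoetherianRing (Localization S) :=
    IsLocalization.isNoetherianRing S (Localization S) inferInstance
  have h0 : ringKrullDim (Localization S) = 0 := by
    rw [IsLocalization.AtPrime.ringKrullDim_eq_height p.asIdeal (Localization S),
      Ideal.height_eq_zero_iff.mpr hp]
    rfl
  obtain ⟨hnorm, _, _⟩ := degAt_spec A ω hω p
  have hW := isDualizing_shift (Localization S) (ωAt A ω p) (isDualizing_LD S ω hω)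
    (degAt A ω hω p)
  rw [nontrivial_localizedModule_HD_iff A S ω i]
  let τ : (homologyFunctor (ModuleCat.{u} (Localization S)) (i - degAt A ω hω p)).obj
        ((ωAt A ω p)⟦degAt A ω hω p⟧) ≅
      (homologyFunctor (ModuleCat.{u} (Localization S)) i).obj (ωAt A ω p) :=
    ((homologyFunctor (ModuleCat.{u} (Localization S)) 0).shiftIso (degAt A ω hω p)
      (i - degAt A ω hω p) i (by ring)).app (ωAt A ω p)
  have key := nontrivial_HD_iff_of_dim_zero (Localization S) _ hW hnorm h0 (i - degAt A ω hω p)
  constructor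
  · intro h
    have : Nontrivial (Dual.HD (Localization S) ((ωAt A ω p)⟦degAt A ω hω p⟧)
        (i - degAt A ω hω p)) := τ.toLinearEquiv.toEquiv.nontrivial
    have := key.mp this
    omega
  · intro h
    have h1 : Nontrivial (Dual.HD (Localization S) ((ωAt A ω p)⟦degAt A ω hω p⟧)
        (i - degAt A ω hω p)) := key.mpr (by omega)
    exact τ.toLinearEquiv.toEquiv.symm.nontrivial

end Groth.Agent.Lib.H29DualPrime
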