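import Groth.Agent.Lib.H29DualLocal

/-!
# Shifts of dualizing complexes (helper29)

* `isDualizing_shift`: a shift of a dualizing complex is dualizing.
* `homShiftEquiv`: `Hom(K, ω⟦n⟧⟦i⟧) ≃ₗ Hom(K, ω⟦j⟧)` for `n + i = j`.
* `exists_normalized_shift`: over a Noetherian local ring, some shift of a dualizing complex is
  normalized.
-/

set_option autoImplicit false
universe u
open CategoryTheory CategoryTheory.Limits Category Pretriangulated DerivedCategory

namespace Groth.Agent.Lib.H29DualShift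

attribute [local instance] HasDerivedCategory.standard

variable (A : Type u) [CommRing A]

/-- `Hom(K, ω⟦n⟧⟦i⟧) ≃ₗ Hom(K, ω⟦j⟧)` for `n + i = j` -/
noncomputable def homShiftEquiv (K ω : Dual.D A) (n i j : ℤ) (h : n + i = j) :
    (K ⟶ (ω⟦n⟧)⟦i⟧) ≃ₗ[A] (K ⟶ ω⟦j⟧) :=
  Linear.homCongr A (Iso.refl K) ((shiftFunctorAdd' (Dual.D A) n i j h).app ω).symm

theorem isDualizing_shift (ω : Dual.D A) (hω : Dual.IsDualizing A ω) (n : ℤ) :
    Dual.IsDualizing A (ω⟦n⟧) := by
  obtain ⟨a, b, hab⟩ := hω.finite_injective_dimension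
  refine ⟨hω.isNoetherianRing, ⟨a - n, b - n, ?_⟩, ?_, ?_, ?_⟩
  · intro M _ _ i hi
    haveI := hab M (n + i) (by omega)
    exact (homShiftEquiv A (Dual.inD A M) ω n i (n + i) rfl).toEquiv.subsingleton
  · intro i
    haveI := hω.finite_cohomology (n + i)
    let σ : (homologyFunctor (ModuleCat.{u} A) i).obj (ω⟦n⟧) ≅
        (homologyFunctor (ModuleCat.{u} A) (n + i)).obj ω :=
      ((homologyFunctor (ModuleCat.{u} A) 0).shiftIso n i (n + i) rfl).app ω
    exact Module.Finite.equiv σ.symm.toLinearEquiv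
  · have h1 : ∀ a : A, a • 𝟙 (ω⟦n⟧) = (shiftFunctor (Dual.D A) n).map (a • 𝟙 ω) := by
      intro a
      rw [Functor.map_smul, CategoryTheory.Functor.map_id]
    constructor
    · intro a a' haa
      replace haa : a • 𝟙 (ω⟦n⟧) = a' • 𝟙 (ω⟦n⟧) := haa
      rw [h1, h1] at haa
      exact hω.toEnd_bijective.1 ((shiftFunctor (Dual.D A) n).map_injective haa)
    · intro g
      obtain ⟨f, rfl⟩ := (shiftFunctor (Dual.D A) n).map_surjective g
      obtain ⟨a, rfl⟩ := hω.toEnd_bijective.2 f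
      exact ⟨a, h1 a⟩
  · intro i hi
    haveI := hω.ext_self_subsingleton i hi
    refine ⟨fun φ ψ => ?_⟩
    suffices H : ∀ φ : ω⟦n⟧ ⟶ (ω⟦n⟧)⟦i⟧, φ = 0 by rw [H φ, H ψ]
    intro φ
    obtain ⟨f, hf⟩ := (shiftFunctor (Dual.D A) n).map_surjective
      (φ ≫ (shiftComm ω n i).hom)
    rw [Subsingleton.elim f 0, Functor.map_zero] at hf
    rw [← cancel_mono (shiftComm ω n i).hom, ← hf, zero_comp]

variable [IsLocalRing A]

theorem exists_normalized_shift (ω : Dual.D A) (hω : Dual.IsDualizing A ω) :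
    ∃ n : ℤ, Dual.IsNormalized A (ω⟦n⟧) ∧
      (∀ i : ℤ, i ≠ n → Subsingleton (Dual.inD A (IsLocalRing.ResidueField A) ⟶ ω⟦i⟧)) ∧
      Nontrivial (Dual.inD A (IsLocalRing.ResidueField A) ⟶ ω⟦n⟧) := by
  haveI := hω.isNoetherianRing
  obtain ⟨n, hn, ⟨e⟩⟩ :=
    Groth.Agent.Lib.H29ResField.exists_unique_degree A ω hω (IsLocalRing.maximalIdeal A)
  refine ⟨n, ?_, hn, ?_⟩
  · intro i hi
    haveI : Subsingleton (Dual.inD A (IsLocalRing.ResidueField A) ⟶ ω⟦n + i⟧) :=
      hn (n + i) (by omega)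
    exact (homShiftEquiv A (Dual.inD A (IsLocalRing.ResidueField A)) ω n i (n + i)
      rfl).toEquiv.subsingleton
  · haveI : Nontrivial (A ⧸ IsLocalRing.maximalIdeal A) :=
      Ideal.Quotient.nontrivial_iff.mpr (IsLocalRing.maximalIdeal.isMaximal A).ne_top
    exact e.toEquiv.nontrivial

end Groth.Agent.Lib.H29DualShift
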