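import Groth.Agent.Lib.H29LocDual
import Groth.Agent.Lib.H29DualShift
import Mathlib.RingTheory.LocalProperties.Basic

/-!
# Dualizing complexes at primes (helper29)

* `quotLocIso`: `S⁻¹(A/I) ≅ S⁻¹A / I·S⁻¹A`.
* `LDinDIso`: `S⁻¹(N[0]) ≅ (S⁻¹N)[0]`.
* `HasAnnLE p E`: some element of `E` has annihilator inside `p`.
* `hasAnnLE_iff`: transfer of `HasAnnLE` for `Hom(K, ω[i])` between `A` and `A_q`.
-/

set_option autoImplicit false
universe u
open CategoryTheory CategoryTheory.Limits Category Pretriangulated DerivedCategory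
  HomologicalComplex

namespace Groth.Agent.Lib.H29DualPrime

attribute [local instance] HasDerivedCategory.standard

open Groth.Agent.Lib.H29LocD

variable {A : Type u} [CommRing A] (S : Submonoid A)

/-- localization of a cyclic module -/
noncomputable def quotLocEquiv (I : Ideal A) :
    ((ModuleCat.of A (A ⧸ I)).localizedModule S) ≃ₗ[Localization S]
      (Localization S ⧸ I.map (algebraMap A (Localization S))) :=
  let g : A ⧸ I →ₗ[A] Localization S ⧸ (Submodule.localized' (Localization S) S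
      (Algebra.linearMap A (Localization S)) I) :=
    Submodule.toLocalizedQuotient' (Localization S) S (Algebra.linearMap A (Localization S)) I
  have := ModuleCat.localizedModule_isLocalizedModule (ModuleCat.of A (A ⧸ I)) S
  let e1 := IsLocalizedModule.linearEquiv S
    ((ModuleCat.of A (A ⧸ I)).localizedModuleMkLinearMap S) g
  let e2 := LinearEquiv.extendScalarsOfIsLocalization S (Localization S) e1
  e2.trans (Submodule.quotEquivOfEq _ _ (Ideal.localized'_eq_map (Localization S) S I))

/-- localization of a cyclic module, in `ModuleCat` -/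
noncomputable def quotLocIso (I : Ideal A) :
    (L S).obj (ModuleCat.of A (A ⧸ I)) ≅
      ModuleCat.of (Localization S) (Localization S ⧸ I.map (algebraMap A (Localization S))) :=
  (quotLocEquiv S I).toModuleIso

/-- `S⁻¹(N[0]) ≅ (S⁻¹N)[0]` -/
noncomputable def LDinDIso (N : ModuleCat.{u} A) :
    (LD S).obj ((singleFunctor (ModuleCat.{u} A) 0).obj N) ≅
      (singleFunctor (ModuleCat.{u} (Localization S)) 0).obj ((L S).obj N) :=
  (LD S).mapIso ((singleFunctorIsoCompQ (ModuleCat.{u} A) 0).app N) ≪≫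
    (L S).mapDerivedCategoryFactors.app
      ((HomologicalComplex.single (ModuleCat.{u} A) (ComplexShape.up ℤ) 0).obj N) ≪≫
    Q.mapIso (sIso (L S) 0 N).symm ≪≫
    ((singleFunctorIsoCompQ (ModuleCat.{u} (Localization S)) 0).app ((L S).obj N)).symm

/-- some element has annihilator contained in `p` -/
def HasAnnLE {R : Type*} [CommRing R] (p : Ideal R) (E : Type*) [AddCommGroup E] [Module R E] :
    Prop :=
  ∃ f : E, ∀ a : R, a • f = 0 → a ∈ p

lemma HasAnnLE.of_equiv {R : Type*} [CommRing R] (p : Ideal R) {E E' : Type*} [AddCommGroup E]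
    [Module R E] [AddCommGroup E'] [Module R E'] (e : E ≃ₗ[R] E') (h : HasAnnLE p E) :
    HasAnnLE p E' := by
  obtain ⟨f, hf⟩ := h
  refine ⟨e f, fun a ha => hf a ?_⟩
  apply e.injective
  rw [map_smul, ha, map_zero]

lemma hasAnnLE_iff_of_equiv {R : Type*} [CommRing R] (p : Ideal R) {E E' : Type*}
    [AddCommGroup E] [Module R E] [AddCommGroup E'] [Module R E'] (e : E ≃ₗ[R] E') :
    HasAnnLE p E ↔ HasAnnLE p E' :=
  ⟨HasAnnLE.of_equiv p e, HasAnnLE.of_equiv p e.symm⟩

lemma not_hasAnnLE_of_subsingleton {R : Type*} [CommRing R] (p : Ideal R) (hp : p ≠ ⊤)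
    (E : Type*) [AddCommGroup E] [Module R E] [Subsingleton E] : ¬ HasAnnLE p E := by
  rintro ⟨f, hf⟩
  exact hp ((Ideal.eq_top_iff_one p).mpr (hf 1 (Subsingleton.elim _ _)))

lemma hasAnnLE_iff_nontrivial_localizedModule {R : Type*} [CommRing R] (p : Ideal R) [p.IsPrime]
    (E : Type*) [AddCommGroup E] [Module R E] :
    HasAnnLE p E ↔ Nontrivial (LocalizedModule p.primeCompl E) := by
  rw [← not_subsingleton_iff_nontrivial, LocalizedModule.subsingleton_iff]
  constructor
  · rintro ⟨f, hf⟩ h
    obtain ⟨r, hr, hrf⟩ := h f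
    exact hr (hf r hrf)
  · intro h
    push Not at h
    obtain ⟨f, hf⟩ := h
    refine ⟨f, fun a ha => ?_⟩
    by_contra hap
    exact hf a hap ha

section Transfer

variable (q : Ideal A) [q.IsPrime] (ω : Dual.D A) (hω : Dual.IsDualizing A ω)

include hω

/-- transfer of supports between `A` and `A_q` -/
theorem hasAnnLE_iff (p : Ideal A) [p.IsPrime] (hpq : p ≤ q) (K : Dual.D A) (a b : ℤ) [K.IsGE a]
    [K.IsLE b] (hK : ∀ i : ℤ, Module.Finite A (Dual.HD A K i))
    (K' : Dual.D (Localization q.primeCompl)) (α : (LD q.primeCompl).obj K ≅ K') (i : ℤ) :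
    HasAnnLE p (K ⟶ ω⟦i⟧) ↔
      HasAnnLE (p.map (algebraMap A (Localization q.primeCompl)))
        (K' ⟶ ((LD q.primeCompl).obj ω)⟦i⟧) := by
  obtain ⟨hI, hS⟩ := IS_dualizing q.primeCompl ω hω K a b hK i
  let β : (LD q.primeCompl).obj (ω⟦i⟧) ≅ ((LD q.primeCompl).obj ω)⟦i⟧ :=
    ((LD q.primeCompl).commShiftIso i).app ω
  have hsm := semiLin_L q.primeCompl
  constructor
  · rintro ⟨f, hf⟩
    refine ⟨α.inv ≫ (LD q.primeCompl).map f ≫ β.hom, ?_⟩
    intro c hc
    obtain ⟨x, s, rfl⟩ := IsLocalization.exists_mk'_eq q.primeCompl c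
    have h1 : algebraMap A (Localization q.primeCompl) x •
        (α.inv ≫ (LD q.primeCompl).map f ≫ β.hom) = 0 := by
      rw [← IsLocalization.mk'_spec' (Localization q.primeCompl) x s, mul_smul, hc, smul_zero]
    have h2 : (LD q.primeCompl).map (x • f) = 0 := by
      rw [GD_map_smul hsm]
      rw [← Linear.comp_smul, ← Linear.smul_comp] at h1
      rw [← cancel_epi α.inv, ← cancel_mono β.hom, assoc, h1, comp_zero, zero_comp]
    obtain ⟨t, ht⟩ := hI _ h2
    rw [← mul_smul] at ht
    rw [IsLocalization.mk'_mem_map_algebraMap_iff]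
    exact ⟨t, t.2, hf _ ht⟩
  · rintro ⟨g, hg⟩
    obtain ⟨s, f, hsf⟩ := hS (α.hom ≫ g ≫ β.inv)
    refine ⟨f, fun x hx => ?_⟩
    have h1 : algebraMap A (Localization q.primeCompl) (x * (s : A)) • g = 0 := by
      have h2 : (LD q.primeCompl).map (x • f) = 0 := by rw [hx, Functor.map_zero]
      rw [GD_map_smul hsm, ← hsf, ← mul_smul, ← map_mul, ← Linear.comp_smul,
        ← Linear.smul_comp] at h2
      rw [← cancel_epi α.hom, ← cancel_mono β.inv, assoc, h2, comp_zero, zero_comp]
    have h3 := hg _ h1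
    rw [← IsLocalization.mk'_one (M := q.primeCompl) (Localization q.primeCompl),
      IsLocalization.mk'_mem_map_algebraMap_iff] at h3
    obtain ⟨m, hm, hmp⟩ := h3
    rcases (Ideal.IsPrime.mem_or_mem inferInstance hmp) with h | h
    · exact absurd (hpq h) hm
    · rcases (Ideal.IsPrime.mem_or_mem inferInstance h) with h' | h'
      · exact h'
      · exact absurd (hpq h') s.2

end Transfer

end Groth.Agent.Lib.H29DualPrime
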