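import Groth.Agent.Lib.H29DualSk
import Groth.Agent.Lib.H8Fin
import Groth.Prelude.Def_EGA4b

/-!
# Openness of the `(S_k)`-locus via a dualizing complex (helper29)

* `hasSkAt_iff`: `EGA4.HasSkAt k A M p ↔ ∀ q ≤ p, SkIneq A M k q`.
* `supportDim_localization_mono`: `η ≤ q` in `Supp M` ⇒ `dim M_η ≤ dim M_q`.
* `isOpen_setOf_hasSkAt` (= S18715).
-/

set_option autoImplicit false
universe u
open CategoryTheory CategoryTheory.Limits Category Pretriangulated DerivedCategory

namespace Groth.Agent.Lib.H29DualPrime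

attribute [local instance] HasDerivedCategory.standard

section NoDual

variable (A : Type u) [CommRing A] (M : Type u) [AddCommGroup M] [Module A M]

lemma skIneq_of_eq (k : ℕ) (q q' : PrimeSpectrum A) (h : q' = q) (hq : SkIneq A M k q') :
    SkIneq A M k q := h ▸ hq

theorem hasSkAt_iff (k : ℕ) (p : PrimeSpectrum A) :
    EGA4.HasSkAt k A M p.asIdeal ↔ ∀ q : PrimeSpectrum A, q ≤ p → SkIneq A M k q := by
  unfold EGA4.HasSkAt LocCoh.HasSk
  constructor
  · intro h q hqp
    have hdisj : Disjoint (p.asIdeal.primeCompl : Set A) (q.asIdeal : Set A) := by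
      rw [Set.disjoint_left]
      intro x hx hxq
      exact hx (hqp hxq)
    haveI hprime : (q.asIdeal.map (algebraMap A (Localization.AtPrime p.asIdeal))).IsPrime :=
      IsLocalization.isPrime_of_isPrime_disjoint p.asIdeal.primeCompl _ _ q.2 hdisj
    have hcomap : (q.asIdeal.map (algebraMap A (Localization.AtPrime p.asIdeal))).comap
        (algebraMap A (Localization.AtPrime p.asIdeal)) = q.asIdeal :=
      IsLocalization.under_map_of_isPrime_disjoint p.asIdeal.primeCompl _ q.2 hdisj
    have h1 := h (q.asIdeal.map (algebraMap A (Localization.AtPrime p.asIdeal)))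
    rw [Groth.Agent.Lib.H8LocTrans.depth_double p.asIdeal.primeCompl
        (Localization.AtPrime p.asIdeal) (LocalizedModule.mkLinearMap p.asIdeal.primeCompl M),
      Groth.Agent.Lib.H8LocTrans.supportDim_double p.asIdeal.primeCompl
        (Localization.AtPrime p.asIdeal) (LocalizedModule.mkLinearMap p.asIdeal.primeCompl M)] at h1
    let q' : PrimeSpectrum A :=
      ⟨(q.asIdeal.map (algebraMap A (Localization.AtPrime p.asIdeal))).comap
        (algebraMap A (Localization.AtPrime p.asIdeal)), inferInstance⟩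
    exact skIneq_of_eq A M k q q' (PrimeSpectrum.ext hcomap) h1
  · intro h Q _
    rw [Groth.Agent.Lib.H8LocTrans.depth_double p.asIdeal.primeCompl
        (Localization.AtPrime p.asIdeal) (LocalizedModule.mkLinearMap p.asIdeal.primeCompl M),
      Groth.Agent.Lib.H8LocTrans.supportDim_double p.asIdeal.primeCompl
        (Localization.AtPrime p.asIdeal) (LocalizedModule.mkLinearMap p.asIdeal.primeCompl M)]
    refine h ⟨Q.comap (algebraMap A (Localization.AtPrime p.asIdeal)), inferInstance⟩ ?_
    show Q.comap (algebraMap A (Localization.AtPrime p.asIdeal)) ≤ p.asIdeal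
    have h1 : Q ≤ IsLocalRing.maximalIdeal (Localization.AtPrime p.asIdeal) :=
      IsLocalRing.le_maximalIdeal (Ideal.IsPrime.ne_top inferInstance)
    have h2 := Ideal.comap_mono (f := algebraMap A (Localization.AtPrime p.asIdeal)) h1
    rw [show (IsLocalRing.maximalIdeal (Localization.AtPrime p.asIdeal)).comap
      (algebraMap A (Localization.AtPrime p.asIdeal)) = p.asIdeal from
      Localization.AtPrime.under_maximalIdeal] at h2
    exact h2

theorem supportDim_localization_mono (η q : PrimeSpectrum A) (h : η ≤ q)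
    (hη : η ∈ Module.support A M) :
    Module.supportDim (Localization.AtPrime η.asIdeal) (LocalizedModule η.asIdeal.primeCompl M) ≤
      Module.supportDim (Localization.AtPrime q.asIdeal)
        (LocalizedModule q.asIdeal.primeCompl M) := by
  have hq : q ∈ Module.support A M := Module.mem_support_mono h hη
  rw [Groth.Agent.Lib.H8Fin.supportDim_localization_eq_height η.asIdeal M hη,
    Groth.Agent.Lib.H8Fin.supportDim_localization_eq_height q.asIdeal M hq]
  have : Order.height (⟨η, hη⟩ : Module.support A M) ≤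
      Order.height (⟨q, hq⟩ : Module.support A M) := Order.height_mono h
  exact_mod_cast this

end NoDual

section Dual

variable (A : Type u) [CommRing A] [IsNoetherianRing A] (ω : Dual.D A)
  (hω : Dual.IsDualizing A ω) (M : Type u) [AddCommGroup M] [Module A M] [Module.Finite A M]

include hω in
theorem isOpen_setOf_hasSkAt (k : ℕ) :
    IsOpen {p : PrimeSpectrum A | EGA4.HasSkAt k A M p.asIdeal} := by
  classical
  obtain ⟨a, b, hab⟩ := hω.finite_injective_dimension
  let I : ℤ × ℤ → Ideal A := fun x =>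
    Module.annihilator A (Dual.inD A M ⟶ ω⟦x.1⟧) ⊔ Module.annihilator A (Dual.inD A M ⟶ ω⟦x.2⟧)
  have hmemI : ∀ (x : ℤ × ℤ) (q : PrimeSpectrum A), I x ≤ q.asIdeal ↔
      (q ∈ Module.support A (Dual.inD A M ⟶ ω⟦x.1⟧) ∧
        q ∈ Module.support A (Dual.inD A M ⟶ ω⟦x.2⟧)) := by
    intro x q
    haveI := Groth.Agent.Lib.H29DualLocal.finite_T A ω hω M x.1
    haveI := Groth.Agent.Lib.H29DualLocal.finite_T A ω hω M x.2
    rw [Module.mem_support_iff_of_finite, Module.mem_support_iff_of_finite]
    exact sup_le_iff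
  have hrange : ∀ (i : ℤ) (q : PrimeSpectrum A),
      q ∈ Module.support A (Dual.inD A M ⟶ ω⟦i⟧) → a ≤ i ∧ i ≤ b := by
    intro i q hq
    by_contra hcon
    haveI := hab M i (by omega)
    rw [Module.support_eq_empty] at hq
    exact hq
  let F : Finset (ℤ × ℤ) := (Finset.Icc a b ×ˢ Finset.Icc a b).filter (fun x => x.2 < x.1)
  let G : ℤ × ℤ → Set (PrimeSpectrum A) := fun x =>
    {η | η.asIdeal ∈ (I x).minimalPrimes ∧
      ¬ (((((k : ℤ) + x.1 - x.2).toNat : ℕ) : WithBot ℕ∞) ≤
        Module.supportDim (Localization.AtPrime η.asIdeal)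
          (LocalizedModule η.asIdeal.primeCompl M))}
  have hGfin : ∀ x, (G x).Finite := by
    intro x
    refine Set.Finite.subset (Set.Finite.preimage ?_
      (Ideal.finite_minimalPrimes_of_isNoetherianRing A (I x)) :
        (PrimeSpectrum.asIdeal ⁻¹' (I x).minimalPrimes : Set (PrimeSpectrum A)).Finite)
      (fun η hη => hη.1)
    intro p _ q _ hpq
    exact PrimeSpectrum.ext hpq
  have hset : {p : PrimeSpectrum A | EGA4.HasSkAt k A M p.asIdeal}ᶜ =
      ⋃ x ∈ F, ⋃ η ∈ G x, PrimeSpectrum.zeroLocus (η.asIdeal : Set A) := by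
    ext p
    simp only [Set.mem_compl_iff, Set.mem_setOf_eq, Set.mem_iUnion, exists_prop]
    rw [hasSkAt_iff]
    push Not
    constructor
    · rintro ⟨q, hqp, hq⟩
      rw [skIneq_iff A ω hω M k q] at hq
      push Not at hq
      obtain ⟨i, j, hji, hi, hj, hlt⟩ := hq
      have hIq : I (i, j) ≤ q.asIdeal := (hmemI (i, j) q).mpr ⟨hi, hj⟩
      obtain ⟨η', hηmin, hηq⟩ := Ideal.exists_minimalPrimes_le hIq
      haveI := hηmin.1.1
      let η : PrimeSpectrum A := ⟨η', hηmin.1.1⟩
      obtain ⟨hηi, hηj⟩ := (hmemI (i, j) η).mp hηmin.1.2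
      have hηM : η ∈ Module.support A M :=
        Module.mem_support_iff.mpr (nontrivial_of_mem_support A ω hω M η i hηi)
      refine ⟨(i, j), ?_, η, ⟨hηmin, ?_⟩, ?_⟩
      · show _ ∈ F
        rw [Finset.mem_filter, Finset.mem_product, Finset.mem_Icc, Finset.mem_Icc]
        exact ⟨⟨hrange i q hi, hrange j q hj⟩, hji⟩
      · intro hle
        exact not_le_of_gt hlt (le_trans hle (supportDim_localization_mono A M η q hηq hηM))
      · exact le_trans hηq hqp
    · rintro ⟨x, hxF, η, ⟨hηmin, hηlt⟩, hpη⟩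
      have hx : x.2 < x.1 := (Finset.mem_filter.mp hxF).2
      obtain ⟨hηi, hηj⟩ := (hmemI x η).mp hηmin.1.2
      refine ⟨η, hpη, ?_⟩
      rw [skIneq_iff A ω hω M k η]
      push Not
      exact ⟨x.1, x.2, hx, hηi, hηj, lt_of_not_ge hηlt⟩
  rw [← isClosed_compl_iff, hset]
  refine Set.Finite.isClosed_biUnion (Finset.finite_toSet F) (fun x _ => ?_)
  exact Set.Finite.isClosed_biUnion (hGfin x) (fun η _ => PrimeSpectrum.isClosed_zeroLocus _)

end Dual

end Groth.Agent.Lib.H29DualPrime
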