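import Mathlib.RingTheory.Artinian.Module
import Mathlib.Algebra.Module.Submodule.Range
import Mathlib.Algebra.Module.Submodule.Ker
import Mathlib.Algebra.Module.Equiv.Basic

/-!
# Inverse systems of Artinian modules (helper29)

Elementwise statements on `ℕ`-indexed inverse systems `(X n, t : n ≤ m → X m →ₗ X n)` of Artinian
modules:

* `exists_stable_range`: Mittag-Leffler, the ranges of `X m → X n` stabilise;
* `exists_compatible_of_mem_stable`: every element of a stable range extends to a compatible family;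
* `essConst_of_bijective_to_limit`: if `H` is Artinian with a compatible cone `c n : H → X n`
  which is "bijective onto the limit" (elementwise), then the system is essentially constant with
  value `H`: there are `i0` and `s : X i0 → H` with `s ∘ c i0 = id` and every `j` has `k ≥ i0, j`
  with `t (j ≤ k) = c j ∘ s ∘ t (i0 ≤ k)`.
-/

set_option autoImplicit false
universe u

namespace Groth.Agent.Lib.H29EssConst

variable {A : Type u} [CommRing A]
variable (X : ℕ → Type u) [∀ n, AddCommGroup (X n)] [∀ n, Module A (X n)]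
variable (t : ∀ {n m : ℕ}, n ≤ m → X m →ₗ[A] X n)

/-- Functoriality hypotheses on the transition maps. -/
structure IsSystem : Prop where
  id : ∀ (n : ℕ) (x : X n), t (le_refl n) x = x
  comp : ∀ {n m k : ℕ} (h₁ : n ≤ m) (h₂ : m ≤ k) (x : X k), t h₁ (t h₂ x) = t (h₁.trans h₂) x

variable {X} {t}

theorem range_antitone (ht : IsSystem X t) {n m m' : ℕ} (h : n ≤ m) (h' : m ≤ m') :
    LinearMap.range (t (h.trans h')) ≤ LinearMap.range (t h) := by
  rintro _ ⟨x, rfl⟩
  exact ⟨t h' x, ht.comp h h' x⟩

/-- Mittag-Leffler for Artinian systems: the ranges of `X m → X n` stabilise. -/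
theorem exists_stable_range [∀ n, IsArtinian A (X n)] (ht : IsSystem X t) (n : ℕ) :
    ∃ k : ℕ, ∃ hk : n ≤ k, ∀ (m : ℕ) (hm : k ≤ m),
      LinearMap.range (t (hk.trans hm)) = LinearMap.range (t hk) := by
  obtain ⟨r, hr⟩ := IsArtinian.monotone_stabilizes (R := A)
    (⟨fun s => OrderDual.toDual (LinearMap.range (t (Nat.le_add_right n s))), fun a b hab => by
      change LinearMap.range (t (Nat.le_add_right n b)) ≤ LinearMap.range (t (Nat.le_add_right n a))
      exact range_antitone ht (Nat.le_add_right n a) (Nat.add_le_add_left hab n)⟩ :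
      ℕ →o (Submodule A (X n))ᵒᵈ)
  refine ⟨n + r, Nat.le_add_right n r, fun m hm => ?_⟩
  obtain ⟨s, rfl⟩ := Nat.exists_eq_add_of_le ((Nat.le_add_right n r).trans hm)
  have hrs : r ≤ s := by omega
  exact (OrderDual.toDual.injective (hr s hrs)).symm

section Stable

variable [∀ n, IsArtinian A (X n)] (ht : IsSystem X t)

/-- An index from which on the ranges in `X n` are stable. -/
noncomputable def kk (n : ℕ) : ℕ := (exists_stable_range ht n).choose

theorem le_kk (n : ℕ) : n ≤ kk ht n := (exists_stable_range ht n).choose_spec.choose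

/-- The stable range in `X n`. -/
noncomputable def S (n : ℕ) : Submodule A (X n) := LinearMap.range (t (le_kk ht n))

theorem range_eq_S (n m : ℕ) (hm : kk ht n ≤ m) :
    LinearMap.range (t ((le_kk ht n).trans hm)) = S ht n :=
  (exists_stable_range ht n).choose_spec.choose_spec m hm

theorem exists_mem_S_of_mem_S {n m : ℕ} (h : n ≤ m) {z : X n} (hz : z ∈ S ht n) :
    ∃ z' ∈ S ht m, t h z' = z := by
  have h1 : kk ht n ≤ max (kk ht n) (kk ht m) := le_max_left _ _
  have h2 : kk ht m ≤ max (kk ht n) (kk ht m) := le_max_right _ _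
  rw [← range_eq_S ht n _ h1] at hz
  obtain ⟨w, rfl⟩ := hz
  refine ⟨t ((le_kk ht m).trans h2) w, ?_, ?_⟩
  · rw [← range_eq_S ht m _ h2]
    exact ⟨w, rfl⟩
  · rw [ht.comp]

theorem map_mem_S {n m : ℕ} (h : n ≤ m) {z' : X m} (hz : z' ∈ S ht m) : t h z' ∈ S ht n := by
  have h1 : kk ht n ≤ max (kk ht n) (kk ht m) := le_max_left _ _
  have h2 : kk ht m ≤ max (kk ht n) (kk ht m) := le_max_right _ _
  rw [← range_eq_S ht m _ h2] at hz
  obtain ⟨w, rfl⟩ := hz
  rw [← range_eq_S ht n _ h1, ht.comp]
  exact ⟨w, rfl⟩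

theorem range_le_S {n m : ℕ} (h : n ≤ m) (hm : kk ht n ≤ m) :
    LinearMap.range (t h) ≤ S ht n := by
  rw [← range_eq_S ht n m hm]

/-- The tower of lifts used in `exists_compatible_of_mem_stable`. -/
noncomputable def tower (n : ℕ) (z : X n) (hz : z ∈ S ht n) :
    ∀ j : ℕ, {w : X (n + j) // w ∈ S ht (n + j)}
  | 0 => ⟨z, hz⟩
  | j + 1 =>
    ⟨(exists_mem_S_of_mem_S ht (Nat.le_succ (n + j)) (tower n z hz j).2).choose,
      (exists_mem_S_of_mem_S ht (Nat.le_succ (n + j)) (tower n z hz j).2).choose_spec.1⟩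

theorem tower_succ (n : ℕ) (z : X n) (hz : z ∈ S ht n) (j : ℕ) :
    t (Nat.le_succ (n + j)) (tower ht n z hz (j + 1)).1 = (tower ht n z hz j).1 :=
  (exists_mem_S_of_mem_S ht (Nat.le_succ (n + j)) (tower ht n z hz j).2).choose_spec.2

theorem tower_le (n : ℕ) (z : X n) (hz : z ∈ S ht n) (j j' : ℕ) (h : j ≤ j') :
    t (Nat.add_le_add_left h n) (tower ht n z hz j').1 = (tower ht n z hz j).1 := by
  induction j', h using Nat.le_induction with
  | base => exact ht.id _ _
  | succ k hk ih =>
    rw [← ih, ← tower_succ ht n z hz k, ht.comp]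

/-- Every element of a stable range extends to a compatible family. -/
theorem exists_compatible_of_mem_stable (n : ℕ) (z : X n) (hz : z ∈ S ht n) :
    ∃ y : ∀ m, X m, (∀ (a b : ℕ) (h : a ≤ b), t h (y b) = y a) ∧ y n = z := by
  refine ⟨fun m => t (Nat.le_add_left m n) (tower ht n z hz m).1, ?_, ?_⟩
  · intro a b h
    dsimp only
    rw [ht.comp, ← tower_le ht n z hz a b h, ht.comp]
  · dsimp only
    have := tower_le ht n z hz 0 n (Nat.zero_le n)
    exact this

end Stable

/-- **Essential constancy.** An Artinian module `H` with a compatible cone to an inverse system of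
Artinian modules which is elementwise bijective onto the limit makes the system essentially
constant with value `H`. -/
theorem essConst_of_bijective_to_limit [∀ n, IsArtinian A (X n)] (ht : IsSystem X t)
    (H : Type u) [AddCommGroup H] [Module A H] [IsArtinian A H]
    (c : ∀ n, H →ₗ[A] X n) (hc : ∀ {n m : ℕ} (h : n ≤ m) (x : H), t h (c m x) = c n x)
    (hinj : ∀ x : H, (∀ n, c n x = 0) → x = 0)
    (hsurj : ∀ y : ∀ n, X n, (∀ (n m : ℕ) (h : n ≤ m), t h (y m) = y n) →
      ∃ x : H, ∀ n, c n x = y n) :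
    ∃ (i0 : ℕ) (s : X i0 →ₗ[A] H), (∀ x, s (c i0 x) = x) ∧
      ∀ j : ℕ, ∃ (k : ℕ) (hi : i0 ≤ k) (hj : j ≤ k), ∀ z : X k, t hj z = c j (s (t hi z)) := by
  classical
  -- kernels stabilise, hence are eventually zero
  obtain ⟨n0, hn0⟩ := IsArtinian.monotone_stabilizes (R := A)
    (⟨fun n => OrderDual.toDual (LinearMap.ker (c n)), fun a b hab => by
      change LinearMap.ker (c b) ≤ LinearMap.ker (c a)
      intro x hx
      rw [LinearMap.mem_ker] at hx ⊢
      rw [← hc hab, hx, map_zero]⟩ : ℕ →o (Submodule A H)ᵒᵈ)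
  have hker : LinearMap.ker (c n0) = ⊥ := by
    rw [eq_bot_iff]
    intro x hx
    rw [Submodule.mem_bot]
    apply hinj
    intro n
    rcases le_total n n0 with h | h
    · rw [← hc h, LinearMap.mem_ker.mp hx, map_zero]
    · have := OrderDual.toDual.injective (hn0 n h)
      rw [← LinearMap.mem_ker, ← this]
      exact hx
  have hinj0 : Function.Injective (c n0) := LinearMap.ker_eq_bot.mp hker
  -- stable ranges are the ranges of the cone
  have hS : ∀ n, S ht n = LinearMap.range (c n) := by
    intro n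
    apply le_antisymm
    · intro z hz
      obtain ⟨y, hy, hyn⟩ := exists_compatible_of_mem_stable ht n z hz
      obtain ⟨x, hx⟩ := hsurj y hy
      exact ⟨x, by rw [hx n, hyn]⟩
    · rintro _ ⟨x, rfl⟩
      rw [← hc (le_kk ht n)]
      exact ⟨_, rfl⟩
  -- the retraction
  let i0 := kk ht n0
  have hi0 : n0 ≤ i0 := le_kk ht n0
  have hrange : ∀ z : X i0, t hi0 z ∈ LinearMap.range (c n0) := by
    intro z
    rw [← hS]
    exact ⟨z, rfl⟩
  let e := LinearEquiv.ofInjective (c n0) hinj0
  let s : X i0 →ₗ[A] H := e.symm.toLinearMap ∘ₗ (t hi0).codRestrict (LinearMap.range (c n0)) hrange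
  have hs : ∀ z : X i0, c n0 (s z) = t hi0 z := by
    intro z
    have : (e (s z) : X n0) = t hi0 z := by
      simp only [s, LinearMap.comp_apply, LinearEquiv.coe_coe, LinearEquiv.apply_symm_apply]
      rfl
    rw [← this]
    rfl
  refine ⟨i0, s, ?_, ?_⟩
  · intro x
    apply hinj0
    rw [hs, hc]
  · intro j
    let j' := max j n0
    let k := max (kk ht j') i0
    have hj'k : j' ≤ k := (le_kk ht j').trans (le_max_left _ _)
    have hjj' : j ≤ j' := le_max_left _ _
    have hnj' : n0 ≤ j' := le_max_right _ _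
    have hik : i0 ≤ k := le_max_right _ _
    refine ⟨k, hik, hjj'.trans hj'k, fun z => ?_⟩
    have hz : t hj'k z ∈ LinearMap.range (c j') := by
      rw [← hS]
      exact range_le_S ht hj'k (le_max_left _ _) ⟨z, rfl⟩
    obtain ⟨x', hx'⟩ := hz
    have hxx : x' = s (t hik z) := by
      apply hinj0
      rw [hs, ht.comp, ← hc hnj', hx', ht.comp]
    rw [← hxx, ← hc hjj', hx', ht.comp]

end Groth.Agent.Lib.H29EssConst
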