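import Mathlib

/-!
# Artin–Rees for `Ext` in the first variable (helper29)

`ext_AR`: `A` Noetherian, `I` an ideal, `M` finite, `N` arbitrary, `p : ℕ`.  There is `c` such that for
`k + c ≤ n` the restriction `Ext^p(M, N) → Ext^p(IⁿM, N)` factors through `Ext^p(IⁿM, I^k N)`.
(Stacks, More on Algebra, "Ext and Artin–Rees".)
-/

set_option autoImplicit false
universe u w
open CategoryTheory Abelian

namespace Groth.Agent.Lib.H29ExtAR

variable {A : Type u} [CommRing A]

section Aux

variable (I : Ideal A)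

lemma map_mem_pow_smul_top {M N : Type u} [AddCommGroup M] [Module A M] [AddCommGroup N] [Module A N]
    (f : M →ₗ[A] N) {n k : ℕ} (hk : k ≤ n) {y : M} (hy : y ∈ I ^ n • (⊤ : Submodule A M)) :
    f y ∈ I ^ k • (⊤ : Submodule A N) := by
  have h1 : f y ∈ Submodule.map f (I ^ n • (⊤ : Submodule A M)) := Submodule.mem_map_of_mem hy
  rw [Submodule.map_smul''] at h1
  exact Submodule.smul_mono (Ideal.pow_le_pow_right hk) le_top h1

/-- restriction of a linear map to `IⁿM → I^k N` -/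
noncomputable def restr {M N : Type u} [AddCommGroup M] [Module A M] [AddCommGroup N] [Module A N]
    (f : M →ₗ[A] N) {n k : ℕ} (hk : k ≤ n) :
    ↥(I ^ n • (⊤ : Submodule A M)) →ₗ[A] ↥(I ^ k • (⊤ : Submodule A N)) :=
  f.restrict (fun _ hy => map_mem_pow_smul_top I f hk hy)

lemma restr_surjective {M N : Type u} [AddCommGroup M] [Module A M] [AddCommGroup N] [Module A N]
    (f : M →ₗ[A] N) (hf : Function.Surjective f) (n : ℕ) :
    Function.Surjective (restr I f (le_refl n)) := by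
  rintro ⟨z, hz⟩
  have h1 : Submodule.map f (I ^ n • (⊤ : Submodule A M)) = I ^ n • (⊤ : Submodule A N) := by
    rw [Submodule.map_smul'', Submodule.map_top, LinearMap.range_eq_top.2 hf]
  rw [← h1] at hz
  obtain ⟨y, hy, rfl⟩ := hz
  exact ⟨⟨y, hy⟩, rfl⟩

end Aux

section Main

variable [IsNoetherianRing A] (I : Ideal A) [HasExt.{w} (ModuleCat.{u} A)]

theorem ext_AR (N : Type u) [AddCommGroup N] [Module A N] (p : ℕ) :
    ∀ (M : Type u) [AddCommGroup M] [Module A M] [Module.Finite A M],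
    ∃ c : ℕ, ∀ n k : ℕ, k + c ≤ n → ∀ x : Ext (ModuleCat.of A M) (ModuleCat.of A N) p,
      ∃ x' : Ext (ModuleCat.of A ↥(I ^ n • ⊤ : Submodule A M))
          (ModuleCat.of A ↥(I ^ k • ⊤ : Submodule A N)) p,
        x'.comp (Ext.mk₀ (ModuleCat.ofHom (I ^ k • ⊤ : Submodule A N).subtype)) (add_zero p) =
          (Ext.mk₀ (ModuleCat.ofHom (I ^ n • ⊤ : Submodule A M).subtype)).comp x (zero_add p) := by
  induction p with
  | zero =>
    intro M _ _ _
    refine ⟨0, fun n k hk x => ?_⟩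
    obtain ⟨f, rfl⟩ := (Ext.mk₀_bijective _ _).2 x
    refine ⟨Ext.mk₀ (ModuleCat.ofHom (restr I f.hom (by omega : k ≤ n))), ?_⟩
    rw [Ext.mk₀_comp_mk₀, Ext.mk₀_comp_mk₀]
    rfl
  | succ p ih =>
    intro M _ _ _
    classical
    obtain ⟨r, π, hπ⟩ := Module.Finite.exists_fin' A M
    -- the presentation `0 → K → F → M → 0`
    have hS := LinearMap.shortExact_shortComplexKer hπ
    haveI : IsNoetherian A (Fin r → A) := isNoetherian_of_isNoetherianRing_of_finite A _
    haveI : Module.Finite A ↥(LinearMap.ker π) := Module.Finite.iff_fg.2 (IsNoetherian.noetherian _)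
    haveI : Projective (ModuleCat.of A (Fin r → A)) :=
      (IsProjective.iff_projective (R := A) (Fin r → A)).1 inferInstance
    obtain ⟨c₁, hc₁⟩ := ih ↥(LinearMap.ker π)
    obtain ⟨c₂, hc₂⟩ := Ideal.exists_pow_inf_eq_pow_smul I (LinearMap.ker π)
    refine ⟨c₁ + c₂, fun n k hk x => ?_⟩
    -- `x` comes from `Ext^p(K, N)`
    have hx0 : (Ext.mk₀ π.shortComplexKer.g).comp x (zero_add (p + 1)) = 0 :=
      Ext.eq_zero_of_projective _
    obtain ⟨x₁, hx₁⟩ := Ext.contravariant_sequence_exact₃ hS _ x hx0 (add_comm 1 p)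
    -- the restricted sequence
    have hπn := restr_surjective I π hπ n
    have hSn := LinearMap.shortExact_shortComplexKer hπn
    -- `K_n → K`
    have hκ : ∀ y : ↥(LinearMap.ker (restr I π (le_refl n))),
        ((y : ↥(I ^ n • (⊤ : Submodule A (Fin r → A)))) : Fin r → A) ∈ LinearMap.ker π := by
      intro y
      have := y.2
      rw [LinearMap.mem_ker] at this ⊢
      exact congrArg Subtype.val this
    let κ : ↥(LinearMap.ker (restr I π (le_refl n))) →ₗ[A] ↥(LinearMap.ker π) :=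
      LinearMap.codRestrict (LinearMap.ker π)
        ((I ^ n • (⊤ : Submodule A (Fin r → A))).subtype ∘ₗ
          (LinearMap.ker (restr I π (le_refl n))).subtype) hκ
    let φ : (restr I π (le_refl n)).shortComplexKer ⟶ π.shortComplexKer :=
      { τ₁ := ModuleCat.ofHom κ
        τ₂ := ModuleCat.ofHom (I ^ n • (⊤ : Submodule A (Fin r → A))).subtype
        τ₃ := ModuleCat.ofHom (I ^ n • (⊤ : Submodule A M)).subtype
        comm₁₂ := by ext y; rfl
        comm₂₃ := by ext y; rfl }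
    have hnat := ShortComplex.ShortExact.extClass_naturality hSn hS φ
    -- `K_n ⊆ I^(n - c₂) K`
    have hm : k + c₁ ≤ n - c₂ := by omega
    have hj : ∀ y, κ y ∈ I ^ (n - c₂) • (⊤ : Submodule A ↥(LinearMap.ker π)) := by
      intro y
      have h1 : ((κ y : ↥(LinearMap.ker π)) : Fin r → A) ∈
          I ^ n • (⊤ : Submodule A (Fin r → A)) ⊓ LinearMap.ker π :=
        ⟨(y : ↥(I ^ n • (⊤ : Submodule A (Fin r → A)))).2, (κ y).2⟩
      rw [hc₂ n (by omega)] at h1
      have h2 : I ^ (n - c₂) • (I ^ c₂ • (⊤ : Submodule A (Fin r → A)) ⊓ LinearMap.ker π) ≤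
          Submodule.map (LinearMap.ker π).subtype
            (I ^ (n - c₂) • (⊤ : Submodule A ↥(LinearMap.ker π))) := by
        rw [Submodule.map_smul'', Submodule.map_subtype_top]
        exact Submodule.smul_mono le_rfl inf_le_right
      obtain ⟨w, hw, hw'⟩ := h2 h1
      have : w = κ y := Subtype.ext hw'
      rwa [← this]
    let j : ↥(LinearMap.ker (restr I π (le_refl n))) →ₗ[A]
        ↥(I ^ (n - c₂) • (⊤ : Submodule A ↥(LinearMap.ker π))) :=
      LinearMap.codRestrict _ κ hj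
    obtain ⟨x₁', hx₁'⟩ := hc₁ (n - c₂) k hm x₁
    refine ⟨hSn.extClass.comp ((Ext.mk₀ (ModuleCat.ofHom j)).comp x₁' (zero_add p)) (add_comm 1 p), ?_⟩
    have hjκ : (I ^ (n - c₂) • (⊤ : Submodule A ↥(LinearMap.ker π))).subtype ∘ₗ j = κ := by
      ext y; rfl
    rw [Ext.comp_assoc_of_third_deg_zero, Ext.comp_assoc_of_third_deg_zero, hx₁',
      Ext.mk₀_comp_mk₀_assoc, ← ModuleCat.ofHom_comp, hjκ, ← hx₁]
    have h3 : hSn.extClass.comp ((Ext.mk₀ (ModuleCat.ofHom κ)).comp x₁ (zero_add p)) (add_comm 1 p) =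
        (hSn.extClass.comp (Ext.mk₀ φ.τ₁) (add_zero 1)).comp x₁ (add_comm 1 p) :=
      (Ext.comp_assoc_of_second_deg_zero _ _ _ _).symm
    rw [h3, hnat]
    exact Ext.comp_assoc _ _ _ _ _ (by omega)

end Main

end Groth.Agent.Lib.H29ExtAR
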