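import Groth.Agent.Lib.H29CanonGen
import Groth.Agent.Lib.H29Depth
import Groth.Agent.Lib.DepthRees
import Groth.Agent.Lib.H26FinLenExt
import Groth.Agent.S0319
import Mathlib.RingTheory.Ideal.MinimalPrime.Noetherian

/-!
# `Ext¹` between torsion-free modules on two branches meeting at a point (helper29)
-/

set_option autoImplicit false
set_option maxHeartbeats 400000
universe u

open CategoryTheory Abelian IsLocalRing

namespace Groth.Agent.Lib.H29ExtBranch

open Groth.Agent.Lib.LocCohLES Groth.Agent.Lib.H29LocCohReg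

section general

variable {R : Type u} [CommRing R]

/-- In the long exact sequence, `Ext¹(X₃, Y) → Ext¹(X₂, Y)` is injective when `Hom(X₁, Y) = 0`. -/
theorem ext_one_eq_zero_of_comp_eq_zero {X₁ X₂ X₃ Y : Type u} [AddCommGroup X₁] [Module R X₁]
    [AddCommGroup X₂] [Module R X₂] [AddCommGroup X₃] [Module R X₃] [AddCommGroup Y] [Module R Y]
    (f : X₁ →ₗ[R] X₂) (g : X₂ →ₗ[R] X₃) (hf : Function.Injective f) (hfg : Function.Exact f g)
    (hg : Function.Surjective g) (h0 : ∀ φ : X₁ →ₗ[R] Y, φ = 0)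
    (e : Ext.{u} (ModuleCat.of R X₃) (ModuleCat.of R Y) 1)
    (he : (Ext.mk₀ (ModuleCat.ofHom g)).comp e (zero_add 1) = 0) : e = 0 := by
  have hS := ses_shortExact f g hf hfg hg
  obtain ⟨x₁, hx₁⟩ := Ext.contravariant_sequence_exact₃ hS (ModuleCat.of R Y) e he
    (n₀ := 0) rfl
  obtain ⟨φ, rfl⟩ := (Ext.mk₀_bijective _ _).2 x₁
  have : φ = 0 := by
    ext a
    exact LinearMap.congr_fun (h0 φ.hom) a
  rw [← hx₁, this, Ext.mk₀_zero, Ext.comp_zero]

end general

section branch

variable {R : Type u} [CommRing R] [IsNoetherianRing R] [IsLocalRing R]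

/-- a nonzerodivisor of the reduced one-dimensional quotient `R/Q` in the maximal ideal. -/
theorem exists_nzd (Q : Ideal R) [IsReduced (R ⧸ Q)] (hQdim : ringKrullDim (R ⧸ Q) = 1) :
    ∃ y ∈ maximalIdeal R, Ideal.Quotient.mk Q y ∈ nonZeroDivisors (R ⧸ Q) := by
  classical
  have hfin : (Q.minimalPrimes).Finite := Ideal.finite_minimalPrimes_of_isNoetherianRing R Q
  -- the maximal ideal is not a minimal prime over `Q`
  have hm : maximalIdeal R ∉ Q.minimalPrimes := by
    intro hmin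
    have h1 : (1 : WithBot ℕ∞) ≤ Order.krullDim (PrimeSpectrum (R ⧸ Q)) := by
      change (1 : WithBot ℕ∞) ≤ ringKrullDim (R ⧸ Q)
      rw [hQdim]
    obtain ⟨a, b, hab⟩ := Order.one_le_krullDim_iff.mp h1
    let a' : Ideal R := a.asIdeal.comap (Ideal.Quotient.mk Q)
    let b' : Ideal R := b.asIdeal.comap (Ideal.Quotient.mk Q)
    have ha' : a'.IsPrime := Ideal.comap_isPrime _ _
    have hb' : b'.IsPrime := Ideal.comap_isPrime _ _
    have hQa : Q ≤ a' := by
      intro c hc
      show Ideal.Quotient.mk Q c ∈ a.asIdeal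
      rw [Ideal.Quotient.eq_zero_iff_mem.mpr hc]
      exact zero_mem _
    have hle : a' ≤ maximalIdeal R := le_maximalIdeal ha'.ne_top
    have hma : maximalIdeal R ≤ a' := hmin.2 ⟨ha', hQa⟩ hle
    have hbm : b' ≤ maximalIdeal R := le_maximalIdeal hb'.ne_top
    -- then `b ≤ a`
    have : b.asIdeal ≤ a.asIdeal := by
      intro c hc
      obtain ⟨r, rfl⟩ := Ideal.Quotient.mk_surjective c
      exact hma (hbm hc)
    exact absurd hab (not_lt_of_ge this)
  have hnot : ¬ ((maximalIdeal R : Set R) ⊆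
      ⋃ p ∈ (hfin.toFinset : Set (Ideal R)), (p : Set R)) := by
    intro hsub
    obtain ⟨p, hp, hle⟩ := (Ideal.subset_union_prime (f := fun P : Ideal R => P)
      (maximalIdeal R) (maximalIdeal R)
      (fun P hP _ _ => ((Set.Finite.mem_toFinset hfin).mp hP).1.1)).mp hsub
    have hpmin := (Set.Finite.mem_toFinset hfin).mp hp
    have hpm : p ≤ maximalIdeal R := le_maximalIdeal hpmin.1.1.ne_top
    have : p = maximalIdeal R := le_antisymm hpm hle
    exact hm (this ▸ hpmin)
  obtain ⟨y, hym, hy⟩ := Set.not_subset.mp hnot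
  refine ⟨y, hym, ?_⟩
  have hyp : ∀ p ∈ Q.minimalPrimes, y ∉ p := by
    intro p hp hyp
    apply hy
    simp only [Set.mem_iUnion, SetLike.mem_coe, exists_prop, Set.Finite.mem_toFinset]
    exact ⟨p, hp, hyp⟩
  have hrad : Q.radical = Q := ((Ideal.isRadical_iff_quotient_reduced Q).mpr inferInstance).radical
  rw [mem_nonZeroDivisors_iff_right]
  intro z hz
  obtain ⟨z, rfl⟩ := Ideal.Quotient.mk_surjective z
  rw [← map_mul, Ideal.Quotient.eq_zero_iff_mem] at hz
  rw [Ideal.Quotient.eq_zero_iff_mem, ← hrad, ← Ideal.sInf_minimalPrimes, Ideal.mem_sInf]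
  intro p hp
  exact (hp.1.1.mem_or_mem (hp.1.2 hz)).resolve_right (hyp p hp)

/-- iterating a regular element -/
theorem eq_zero_of_pow_smul {J : Type u} [AddCommGroup J] [Module R J] {y : R}
    (hy : ∀ z : J, y • z = 0 → z = 0) (k : ℕ) (z : J) (h : y ^ k • z = 0) : z = 0 := by
  induction k with
  | zero => simpa using h
  | succ k ih =>
    apply ih
    apply hy
    rw [smul_smul, ← pow_succ']
    exact h

/-- **`Ext¹(I, J) ≠ 0`** for torsion-free modules on two reduced one-dimensional branches meeting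
at the closed point. -/
theorem ext_one_nontrivial (P Q : Ideal R)
    (hPQ : ∃ n : ℕ, maximalIdeal R ^ n ≤ P ⊔ Q)
    [IsReduced (R ⧸ P)] [IsReduced (R ⧸ Q)]
    (hPdim : ringKrullDim (R ⧸ P) = 1) (hQdim : ringKrullDim (R ⧸ Q) = 1)
    (I J : Type u) [AddCommGroup I] [Module R I] [Module.Finite R I] [Nontrivial I]
    [AddCommGroup J] [Module R J] [Module.Finite R J] [Nontrivial J]
    (hPI : ∀ p ∈ P, ∀ x : I, p • x = 0) (hQJ : ∀ q ∈ Q, ∀ y : J, q • y = 0)
    (hItf : ∀ r : R, Ideal.Quotient.mk P r ∈ nonZeroDivisors (R ⧸ P) → ∀ x : I, r • x = 0 → x = 0)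
    (hJtf : ∀ r : R, Ideal.Quotient.mk Q r ∈ nonZeroDivisors (R ⧸ Q) →
      ∀ y : J, r • y = 0 → y = 0) :
    Nontrivial (Ext.{u} (ModuleCat.of R I) (ModuleCat.of R J) 1) := by
  obtain ⟨x, hxm, hx⟩ := exists_nzd P hPdim
  obtain ⟨y, hym, hy⟩ := exists_nzd Q hQdim
  have hxI : IsSMulRegular I x := by
    intro a b hab
    have hab' : x • a = x • b := hab
    have := hItf x hx (a - b) (by rw [smul_sub, hab', sub_self])
    exact sub_eq_zero.mp this
  have hyJ : ∀ z : J, y • z = 0 → z = 0 := hJtf y hy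
  have hyJ' : IsSMulRegular J y := by
    intro a b hab
    have hab' : y • a = y • b := hab
    have := hyJ (a - b) (by rw [smul_sub, hab', sub_self])
    exact sub_eq_zero.mp this
  -- `Hom(N, J) = 0` for `N` killed by `P`
  have hom0 : ∀ (N : Type u) [AddCommGroup N] [Module R N], (∀ p ∈ P, ∀ n : N, p • n = 0) →
      ∀ φ : N →ₗ[R] J, φ = 0 := by
    intro N _ _ hN φ
    ext n
    obtain ⟨k, hk⟩ := hPQ
    apply eq_zero_of_pow_smul hyJ k
    have hmem : y ^ k ∈ P ⊔ Q := hk (Ideal.pow_mem_pow hym k)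
    obtain ⟨p, hp, q, hq, hpq⟩ := Submodule.mem_sup.mp hmem
    rw [← hpq, add_smul, ← map_smul, hN p hp n, map_zero, hQJ q hq, add_zero]
  -- depth of `J` is one
  have hIM := Groth.Agent.Lib.H29Gorenstein.maximalIdeal_smul_top_ne_top R J
  have hdepth : LocCoh.idealDepth (maximalIdeal R) J = ((1 : ℕ) : ℕ∞) := by
    apply le_antisymm
    · have h1 := Groth.Agent.Lib.DepthRees.depth_le_supportDim (R := R) J
      have hQann : Q ≤ Module.annihilator R J := by
        intro q hq
        rw [Module.mem_annihilator]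
        exact hQJ q hq
      have h2 := Groth.Agent.Lib.H29CanonGen.supportDim_le_of_le_annihilator Q J hQann
      rw [hQdim] at h2
      have h3 : ((LocCoh.depth R J : ℕ∞) : WithBot ℕ∞) ≤ ((1 : ℕ∞) : WithBot ℕ∞) := by
        exact_mod_cast h1.trans h2
      have h4 : LocCoh.depth R J ≤ 1 := WithBot.coe_le_coe.mp h3
      exact_mod_cast h4
    · rw [Groth.Agent.Lib.H29Depth.le_idealDepth_iff (maximalIdeal R) J hIM 1]
      refine ⟨[y], rfl, by simpa using hym, ?_⟩
      apply Groth.Agent.Lib.H29Depth.isRegular_of_isWeaklyRegular (maximalIdeal R) J hIM _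
        (by simpa using hym)
      rw [RingTheory.Sequence.isWeaklyRegular_cons_iff]
      exact ⟨hyJ', RingTheory.Sequence.IsWeaklyRegular.nil _ _⟩
  have hk := ((Groth.Agent.S0319.result R (maximalIdeal R) J hIM 1).mp hdepth).2
  -- `L = I/xI`
  have hLnt : Nontrivial (I ⧸ LinearMap.range (mulMap (M := I) x)) := by
    apply Submodule.Quotient.nontrivial_iff.mpr
    intro htop
    have h2 : LinearMap.range (mulMap (M := I) x) ≤ maximalIdeal R • (⊤ : Submodule R I) := by
      rintro _ ⟨a, rfl⟩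
      exact Submodule.smul_mem_smul hxm Submodule.mem_top
    rw [htop] at h2
    exact Groth.Agent.Lib.H29Gorenstein.maximalIdeal_smul_top_ne_top R I (top_le_iff.mp h2)
  obtain ⟨L', hL'⟩ := IsCoatomic.exists_coatom
    (α := Submodule R (I ⧸ LinearMap.range (mulMap (M := I) x)))
  have hsimple : IsSimpleModule R ((I ⧸ LinearMap.range (mulMap (M := I) x)) ⧸ L') :=
    isSimpleModule_iff_isCoatom.mpr hL'
  obtain ⟨𝔪', hmax, ⟨e⟩⟩ := isSimpleModule_iff_quot_maximal.mp hsimple
  have h𝔪 : 𝔪' = maximalIdeal R := eq_maximalIdeal hmax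
  subst h𝔪
  have hT : Nontrivial (Ext.{u}
      (ModuleCat.of R ((I ⧸ LinearMap.range (mulMap (M := I) x)) ⧸ L')) (ModuleCat.of R J) 1) := by
    by_contra h
    rw [not_nontrivial_iff_subsingleton] at h
    exact not_subsingleton _
      (Groth.Agent.Lib.H26FinLenExt.subsingleton_ext_of_iso e.toModuleIso (ModuleCat.of R J) 1 h)
  obtain ⟨e₀, he₀⟩ := exists_ne (0 : Ext.{u}
      (ModuleCat.of R ((I ⧸ LinearMap.range (mulMap (M := I) x)) ⧸ L')) (ModuleCat.of R J) 1)
  have hL'P : ∀ p ∈ P, ∀ n : L', p • n = 0 := by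
    rintro p hp ⟨n, hn⟩
    apply Subtype.ext
    obtain ⟨i, rfl⟩ := Submodule.Quotient.mk_surjective _ n
    show p • (Submodule.Quotient.mk i) = 0
    rw [← Submodule.Quotient.mk_smul, hPI p hp i, Submodule.Quotient.mk_zero]
  have hb : (Ext.mk₀ (ModuleCat.ofHom L'.mkQ)).comp e₀ (zero_add 1) ≠ 0 := fun h =>
    he₀ (ext_one_eq_zero_of_comp_eq_zero L'.subtype L'.mkQ (Submodule.injective_subtype _)
      (LinearMap.exact_subtype_mkQ L') (Submodule.mkQ_surjective L') (hom0 L' hL'P) e₀ h)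
  have ha : (Ext.mk₀ (ModuleCat.ofHom (quotMap (M := I) x))).comp
      ((Ext.mk₀ (ModuleCat.ofHom L'.mkQ)).comp e₀ (zero_add 1)) (zero_add 1) ≠ 0 := fun h =>
    hb (ext_one_eq_zero_of_comp_eq_zero (mulMap (M := I) x) (quotMap x) (mulMap_injective hxI)
      (mul_exact x) (quotMap_surjective x) (hom0 I hPI) _ h)
  exact ⟨⟨_, 0, ha⟩⟩

end branch

end Groth.Agent.Lib.H29ExtBranch
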