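import Groth.Agent.Lib.H29FLDualD
import Groth.Agent.Lib.HDI25

/-!
# `colim_n F(A/m^n) ≃ E` for an exact duality `F` on modules of finite length (helper29)

* `colimEquiv`: for `F` with `IsFLDual F`, `F(κ) ≃ κ`: `colim_n F(A/m^n) ≃ₗ E`.
* `subsingleton_colimit`: a colimit of subsingleton modules is subsingleton.
* `nonempty_HDI_equiv`, `subsingleton_HDI`: local cohomology of a normalized dualizing complex.
-/

set_option autoImplicit false
universe u
open CategoryTheory CategoryTheory.Limits Opposite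

namespace Groth.Agent.Lib.H29FLDualColim

open Groth.Agent.Lib.H29FLDual Groth.Agent.Lib.HDI25 IsLocalRing

variable {A : Type u} [CommRing A]

/-- a colimit of zero modules is zero -/
theorem subsingleton_colimit {J : Type*} [Category J] (D : J ⥤ ModuleCat.{u + 1} A) [HasColimit D]
    (h : ∀ j, Subsingleton (D.obj j)) : Subsingleton (colimit D : ModuleCat.{u + 1} A) := by
  apply ModuleCat.subsingleton_of_isZero
  rw [IsZero.iff_id_eq_zero]
  apply colimit.hom_ext
  intro j
  haveI := h j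
  exact (ModuleCat.isZero_of_subsingleton (D.obj j)).eq_of_src _ _

variable [IsLocalRing A] [IsNoetherianRing A]
  (F : (ModuleCat.{u} A)ᵒᵖ ⥤ ModuleCat.{u + 1} A) (hF : IsFLDual F)
  {E : Type u} [AddCommGroup E] [Module A E]
  (f : ResidueField A →ₗ[A] E) (hf : InjHull.IsInjectiveHull f)
  (eκ : Fo F (ResidueField A) ≃ₗ[A] ResidueField A)

/-- the diagram `n ↦ F(A/m^n)` -/
noncomputable abbrev Dg : ℕᵒᵖᵒᵖ ⥤ ModuleCat.{u + 1} A :=
  (localCohomology.ringModIdeals (localCohomology.idealPowersDiagram (maximalIdeal A))).op ⋙ F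

lemma Dg_map {n k : ℕ} (h : n ≤ k) (ψ : Fo F (R A n)) :
    ((Dg F).map ((homOfLE h).op.op : op (op n) ⟶ op (op k))).hom ψ = Fm F (tr A h) ψ := rfl

/-- `ULift E ≃ E` -/
abbrev ul (A : Type u) [CommRing A] (E : Type u) [AddCommGroup E] [Module A E] :
    ULift.{u + 1} E ≃ₗ[A] E := ULift.moduleEquiv

/-- the cocone with vertex `E` -/
noncomputable def coconeE : Cocone (Dg F) where
  pt := ModuleCat.of A (ULift.{u + 1} E)
  ι :=
    { app := fun j => ModuleCat.ofHom
        ((ul A E).symm.toLinearMap ∘ₗ epsilon hF f hf eκ j.unop.unop)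
      naturality := by
        intro j j' a
        obtain ⟨j⟩ := j
        obtain ⟨n⟩ := j
        obtain ⟨j'⟩ := j'
        obtain ⟨k⟩ := j'
        obtain ⟨h, rfl⟩ := hom_eq_homOfLE a
        ext ψ
        change (ul A E).symm (epsilon hF f hf eκ k (Fm F (tr A h) ψ)) =
          (ul A E).symm (epsilon hF f hf eκ n ψ)
        rw [← LinearMap.comp_apply, epsilon_comp_tr] }

lemma desc_ι (n : ℕ) (ψ : Fo F (R A n)) :
    (colimit.desc (Dg F) (coconeE F hF f hf eκ)).hom
      ((colimit.ι (Dg F) (op (op n))).hom ψ) =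
      (ul A E).symm (epsilon hF f hf eκ n ψ) := by
  have := colimit.ι_desc (coconeE F hF f hf eκ) (op (op n))
  exact LinearMap.congr_fun (congrArg ModuleCat.Hom.hom this) ψ

theorem desc_bijective :
    Function.Bijective (colimit.desc (Dg F) (coconeE F hF f hf eκ)).hom := by
  constructor
  · rw [injective_iff_map_eq_zero]
    intro c hc
    obtain ⟨j, ψ, rfl⟩ := Concrete.colimit_exists_rep (Dg F) c
    obtain ⟨j⟩ := j
    obtain ⟨n⟩ := j
    let ψ' : Fo F (R A n) := ψ
    have h1 := desc_ι F hF f hf eκ n ψ'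
    have h1' : (ul A E).symm (epsilon hF f hf eκ n ψ') = 0 := h1.symm.trans hc
    have h2 : epsilon hF f hf eκ n ψ' = 0 := (ul A E).symm.map_eq_zero_iff.mp h1'
    have h3 : ψ' = 0 :=
      (injective_iff_map_eq_zero _).mp (epsilon_injective hF f hf eκ n) ψ' h2
    have h4 : ψ = 0 := h3
    rw [h4]
    exact map_zero (colimit.ι (Dg F) (op (op n))).hom
  · intro x
    obtain ⟨n, ψ, hψ⟩ := exists_epsilon_eq' hF f hf eκ (ul A E x)
    refine ⟨(colimit.ι (Dg F) (op (op n))).hom ψ, ?_⟩
    rw [desc_ι, hψ, LinearEquiv.symm_apply_apply]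

/-- `colim_n F(A/m^n) ≃ E` -/
noncomputable def colimEquiv : (colimit (Dg F) : ModuleCat.{u + 1} A) ≃ₗ[A] E :=
  (LinearEquiv.ofBijective _ (desc_bijective F hF f hf eκ)).trans (ul A E)

end Groth.Agent.Lib.H29FLDualColim
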