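import Groth.Agent.Lib.H29LDExact
import Groth.Agent.Lib.H29LocCohReg
import Groth.Agent.Lib.H29Matlis
import Groth.Agent.Lib.LocCohTorsion

/-!
# Local duality for finite modules (helper29)

`A` Noetherian local, `ω` normalized dualizing, `E` an injective hull of the residue field.
`PsiF i j M : H^i_m(M) → Hom_A(Hom_D(M[0], ω[j]), E)` (`j + i = 0`) is bijective for every finite
module `M` (`PsiF_bijective`).
-/

set_option autoImplicit false
set_option maxHeartbeats 400000
universe u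
open CategoryTheory CategoryTheory.Limits Opposite

namespace Groth.Agent.Lib.H29LDMain

attribute [local instance] HasDerivedCategory.standard

open Groth.Agent.Lib.H29FLDual Groth.Agent.Lib.H29FLDualD Groth.Agent.Lib.LocCohConcrete
  Groth.Agent.Lib.LocCohLES IsLocalRing Abelian DerivedCategory Groth.Agent.Lib.H29LDPair
  Groth.Agent.Lib.H29LDExact Groth.Agent.Lib.H29LocCohReg

variable (A : Type u) [CommRing A] [IsLocalRing A] [IsNoetherianRing A] (ω : Dual.D A)
  (hω : Dual.IsDualizing A ω) (hn : Dual.IsNormalized A ω)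
  {E : Type u} [AddCommGroup E] [Module A E]
  (f : ResidueField A →ₗ[A] E) (hf : InjHull.IsInjectiveHull f)

include hω in
lemma small_X (M : Type u) [AddCommGroup M] [Module A M] [Module.Finite A M] (j : ℤ) :
    Small.{u} (Dual.inD A M ⟶ ω⟦j⟧) := by
  haveI := Groth.Agent.Lib.H29DualLocal.finite_T A ω hω M j
  exact Module.Finite.small.{u} A _

/-- the local duality map for finite modules -/
noncomputable def PsiF (i : ℕ) (j : ℤ) (hij : j + (i : ℤ) = 0) (M : Type u) [AddCommGroup M]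
    [Module A M] [Module.Finite A M] :
    LocCoh.H (maximalIdeal A) i M →ₗ[A] ((Dual.inD A M ⟶ ω⟦j⟧) →ₗ[A] E) :=
  haveI := small_X A ω hω M j
  Psi A ω hω hn f hf i j hij M

section basic

variable (i : ℕ) (j : ℤ) (hij : j + (i : ℤ) = 0)
  {M M' : Type u} [AddCommGroup M] [Module A M] [Module.Finite A M]
  [AddCommGroup M'] [Module A M'] [Module.Finite A M']

lemma PsiF_HιE (n : ℕ) (x : Ext.{u} (Q (maximalIdeal A) n) (ModuleCat.of A M) i)
    (φ : Dual.inD A M ⟶ ω⟦j⟧) :
    PsiF A ω hω hn f hf i j hij M (HιE (maximalIdeal A) M i n x) φ =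
      eps0 A ω hω hn f hf n (x.hom.comp φ hij) := by
  haveI := small_X A ω hω M j
  unfold PsiF
  rw [Psi_HιE, pair_apply]

lemma PsiF_Hmap (g : M →ₗ[A] M') (y : LocCoh.H (maximalIdeal A) i M) :
    PsiF A ω hω hn f hf i j hij M' (Hmap (maximalIdeal A) g i y) =
      Rmap ω j g (PsiF A ω hω hn f hf i j hij M y) := by
  haveI := small_X A ω hω M j
  haveI := small_X A ω hω M' j
  apply LinearMap.ext
  intro φ'
  unfold PsiF
  rw [Psi_Hmap, Rmap_apply]

end basic

section delta

variable {M₁ M₂ M₃ : Type u} [AddCommGroup M₁] [Module A M₁] [AddCommGroup M₂] [Module A M₂]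
  [AddCommGroup M₃] [Module A M₃] [Module.Finite A M₁] [Module.Finite A M₃]
  (f₁ : M₁ →ₗ[A] M₂) (g₁ : M₂ →ₗ[A] M₃)
  (hf₁ : Function.Injective f₁) (hfg₁ : Function.Exact f₁ g₁) (hg₁ : Function.Surjective g₁)
  (i : ℕ) (j j' : ℤ) (hij : j + (i : ℤ) = 0) (hij' : j' + ((i + 1 : ℕ) : ℤ) = 0)

lemma PsiF_Hδ (y : LocCoh.H (maximalIdeal A) i M₃) :
    PsiF A ω hω hn f hf (i + 1) j' hij' M₁ (Hδ (maximalIdeal A) f₁ g₁ hf₁ hfg₁ hg₁ i y) =
      δR ω f₁ g₁ hf₁ hfg₁ hg₁ j' j (by push_cast at hij'; omega)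
        (PsiF A ω hω hn f hf i j hij M₃ y) := by
  haveI := small_X A ω hω M₃ j
  haveI := small_X A ω hω M₁ j'
  apply LinearMap.ext
  intro φ
  unfold PsiF
  rw [Psi_Hδ A ω hω hn f hf f₁ g₁ hf₁ hfg₁ hg₁ i j j' hij hij', δR_apply]

end delta

section step

variable (i : ℕ) (j j' : ℤ) (hij : j + (i : ℤ) = 0) (hij' : j' + ((i + 1 : ℕ) : ℤ) = 0)
  (IH : ∀ (M : Type u) [AddCommGroup M] [Module A M] [Module.Finite A M],
    Function.Bijective (PsiF A ω hω hn f hf i j hij M))
  (M : Type u) [AddCommGroup M] [Module A M] [Module.Finite A M] (z : A)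
  (hz : IsSMulRegular M z)

include IH hz in
theorem step_inj (y : LocCoh.H (maximalIdeal A) (i + 1) M) (hzy : z • y = 0)
    (hy : PsiF A ω hω hn f hf (i + 1) j' hij' M y = 0) : y = 0 := by
  have hmem : y ∈ Submodule.torsionBy A (LocCoh.H (maximalIdeal A) (i + 1) M) z :=
    (Submodule.mem_torsionBy_iff _ _).mpr hzy
  obtain ⟨v, rfl⟩ := torsionBy_le_range_Hδ (maximalIdeal A) hz i hmem
  rw [PsiF_Hδ A ω hω hn f hf (mulMap (M := M) z) (quotMap z) (mulMap_injective hz) (mul_exact z)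
    (quotMap_surjective z) i j j' hij hij'] at hy
  obtain ⟨w', hw'⟩ := (R_exact₃ ω hf.isInjective (mulMap (M := M) z) (quotMap z)
    (mulMap_injective hz) (mul_exact z) (quotMap_surjective z) j' j
    (by push_cast at hij'; omega) _).mp hy
  obtain ⟨v', rfl⟩ := (IH M).2 w'
  rw [← PsiF_Hmap] at hw'
  have hv := (IH (M ⧸ LinearMap.range (mulMap (M := M) z))).1 hw'
  rw [← hv]
  exact (exact₃ (maximalIdeal A) (mulMap (M := M) z) (quotMap z) (mulMap_injective hz)
    (mul_exact z) (quotMap_surjective z) i _).mpr ⟨v', rfl⟩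

include IH hz in
theorem step_surj (w : (Dual.inD A M ⟶ ω⟦j'⟧) →ₗ[A] E) (hzw : z • w = 0) :
    ∃ y, PsiF A ω hω hn f hf (i + 1) j' hij' M y = w := by
  have h1 : Rmap ω j' (mulMap (M := M) z) w = 0 := by
    rw [Rmap_smul_id, hzw]
  obtain ⟨θ, hθ⟩ := (R_exact₁ ω hf.isInjective (mulMap (M := M) z) (quotMap z)
    (mulMap_injective hz) (mul_exact z) (quotMap_surjective z) j' j
    (by push_cast at hij'; omega) w).mp h1
  obtain ⟨v, rfl⟩ := (IH (M ⧸ LinearMap.range (mulMap (M := M) z))).2 θ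
  refine ⟨Hδ (maximalIdeal A) (mulMap (M := M) z) (quotMap z) (mulMap_injective hz) (mul_exact z)
    (quotMap_surjective z) i v, ?_⟩
  rw [PsiF_Hδ A ω hω hn f hf (mulMap (M := M) z) (quotMap z) (mulMap_injective hz) (mul_exact z)
    (quotMap_surjective z) i j j' hij hij']
  exact hθ

end step

section regular

include hf in
/-- `Hom(X, E)` is `m`-power torsion for a finite module `X` -/
theorem exists_pow_smul_dual_eq_zero {X : Type*} [AddCommGroup X] [Module A X] [Module.Finite A X]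
    (w : X →ₗ[A] E) : ∃ n : ℕ, ∀ a ∈ maximalIdeal A ^ n, a • w = 0 := by
  classical
  have htors := Groth.Agent.S0311.result A E f hf
  obtain ⟨s, hs⟩ := (Module.finite_def.mp (inferInstance : Module.Finite A X))
  choose n hn using fun x : X => htors (w x)
  refine ⟨s.sup n, fun a ha => ?_⟩
  apply LinearMap.ext_on hs
  intro x hx
  rw [LinearMap.smul_apply, LinearMap.zero_apply]
  exact hn x a (Ideal.pow_le_pow_right (Finset.le_sup (f := n) hx) ha)

variable (i : ℕ) (j j' : ℤ) (hij : j + (i : ℤ) = 0) (hij' : j' + ((i + 1 : ℕ) : ℤ) = 0)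
  (IH : ∀ (M : Type u) [AddCommGroup M] [Module A M] [Module.Finite A M],
    Function.Bijective (PsiF A ω hω hn f hf i j hij M))
  (M : Type u) [AddCommGroup M] [Module A M] [Module.Finite A M] (x : A)
  (hx : x ∈ maximalIdeal A) (hreg : IsSMulRegular M x)

include IH hx hreg in
theorem bijective_succ_of_regular :
    Function.Bijective (PsiF A ω hω hn f hf (i + 1) j' hij' M) := by
  constructor
  · rw [injective_iff_map_eq_zero]
    intro y hy
    obtain ⟨n, hn'⟩ := exists_pow_smul_eq_zero (maximalIdeal A) M hx (i + 1) y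
    exact step_inj A ω hω hn f hf i j j' hij hij' IH M (x ^ n) (hreg.pow n) y hn' hy
  · intro w
    haveI := Groth.Agent.Lib.H29DualLocal.finite_T A ω hω M j'
    obtain ⟨n, hn'⟩ := exists_pow_smul_dual_eq_zero A f hf w
    exact step_surj A ω hω hn f hf i j j' hij hij' IH M (x ^ n) (hreg.pow n) w
      (hn' _ (Ideal.pow_mem_pow hx n))

omit [IsLocalRing A] [IsNoetherianRing A] in
include hreg in
theorem subsingleton_H_zero_of_regular {I : Ideal A} (hxI : x ∈ I) :
    Subsingleton (LocCoh.H I 0 M) := by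
  refine subsingleton_of_forall_eq 0 fun y => ?_
  obtain ⟨n, hn'⟩ := exists_pow_smul_eq_zero I M hxI 0 y
  have hinj : Function.Injective (mulMap (M := M) (x ^ n)) := mulMap_injective (hreg.pow n)
  apply Hmap_zero_injective I (mulMap (M := M) (x ^ n)) hinj
  rw [Groth.Agent.Lib.LocCohLES.Hmap_smul, Hmap_id, hn', map_zero]

include hω hn hx hreg in
theorem subsingleton_X_zero_of_regular : Subsingleton (Dual.inD A M ⟶ ω⟦(0 : ℤ)⟧) := by
  haveI := Groth.Agent.Lib.H29DualLocal.finite_T A ω hω M 0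
  apply Groth.Agent.Lib.H29DualLocal.subsingleton_of_forall_exists_smul A _ x hx
  intro φ
  exact Groth.Agent.Lib.H29DualLocal.exists_smul_T A ω M x hreg 0 1 rfl
    (Groth.Agent.Lib.H29DualLocal.subsingleton_T_pos A ω hω hn (QuotSMulTop x M) 1 (by norm_num)) φ

end regular

section finlen

open Groth.Agent.Lib.LocCohH0

variable (N : Type u) [AddCommGroup N] [Module A N] [Module.Finite A N]
  (hfl : IsFiniteLength A N) (n : ℕ) (hN : ∀ a ∈ maximalIdeal A ^ n, ∀ x : N, a • x = 0)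

/-- the class of `y : N` in `H^0_m(N)` -/
noncomputable def cls (y : N) : LocCoh.H (maximalIdeal A) 0 N :=
  HιE (maximalIdeal A) N 0 n (Ext.mk₀ (ModuleCat.ofHom (rho n hN y)))

lemma toGamma_cls (y : N) : (toGamma (maximalIdeal A) N (cls A N n hN y) : N) = y := by
  unfold cls
  rw [toGamma_HιE_mk₀]
  change rho n hN y (Submodule.Quotient.mk 1) = y
  rw [rho_mk, one_smul]

lemma exists_cls (c : LocCoh.H (maximalIdeal A) 0 N) : ∃ y : N, cls A N n hN y = c := by
  refine ⟨(toGamma (maximalIdeal A) N c : N), ?_⟩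
  apply toGamma_injective
  apply Subtype.ext
  rw [toGamma_cls]

lemma PsiF_cls (y : N) (φ : Dual.inD A N ⟶ ω⟦(0 : ℤ)⟧) :
    PsiF A ω hω hn f hf 0 0 (by simp) N (cls A N n hN y) φ =
      Phi (hF0 A ω hn) n (eps0 A ω hω hn f hf n) hN φ y := by
  unfold cls
  rw [PsiF_HιE, Ext.mk₀_hom, ShiftedHom.mk₀_comp, Phi_apply]
  rfl

include hfl in
theorem PsiF_bijective_of_isFiniteLength :
    Function.Bijective (PsiF A ω hω hn f hf 0 0 (by simp) N) := by
  obtain ⟨n, hN⟩ := Groth.Agent.Lib.H29FLDual.exists_pow_smul_eq_zero N hfl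
  have hΦ : Function.Bijective (Phi (hF0 A ω hn) n (eps0 A ω hω hn f hf n) hN) :=
    Phi_epsilon_bijective (hF0 A ω hn) f hf (eκ0 A ω hω hn) n N hfl hN
  constructor
  · rw [injective_iff_map_eq_zero]
    intro c hc
    obtain ⟨y, rfl⟩ := exists_cls A N n hN c
    have hy : y = 0 := by
      by_contra hne
      obtain ⟨θ, hθ⟩ := Groth.Agent.Lib.H29Matlis.exists_dual_ne_zero f hf y hne
      obtain ⟨φ, rfl⟩ := hΦ.2 θ
      apply hθ
      rw [← PsiF_cls A ω hω hn f hf N n hN y φ, hc, LinearMap.zero_apply]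
    apply toGamma_injective
    apply Subtype.ext
    rw [toGamma_cls, hy, map_zero]
    rfl
  · intro w
    let Φe : (Dual.inD A N ⟶ ω⟦(0 : ℤ)⟧) ≃ₗ[A] (N →ₗ[A] E) := LinearEquiv.ofBijective _ hΦ
    obtain ⟨y, hy⟩ := (Groth.Agent.Lib.H29Matlis.applyₗ_bijective_of_isFiniteLength f hf N hfl).2
      (w ∘ₗ Φe.symm.toLinearMap)
    refine ⟨cls A N n hN y, ?_⟩
    apply LinearMap.ext
    intro φ
    rw [PsiF_cls]
    have h1 := LinearMap.congr_fun hy (Φe φ)
    rw [LinearMap.comp_apply] at h1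
    have h2 : Φe.symm.toLinearMap (Φe φ) = φ := Φe.symm_apply_apply φ
    rw [h2] at h1
    exact h1

end finlen

section reduction

omit [IsNoetherianRing A] in
/-- a finite module killed by a power of the maximal ideal has finite length -/
theorem isFiniteLength_of_finite_of_pow_smul [IsNoetherianRing A] (N : Type u) [AddCommGroup N]
    [Module A N] [Module.Finite A N] (n : ℕ)
    (hN : ∀ a ∈ maximalIdeal A ^ n, ∀ x : N, a • x = 0) : IsFiniteLength A N := by
  obtain ⟨r, π, hπ⟩ := Module.Finite.exists_fin' A N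
  let π' : (Fin r → R A n) →ₗ[A] N :=
    ∑ k : Fin r, (rho n hN (π (Pi.single k 1))) ∘ₗ (LinearMap.proj k : (Fin r → R A n) →ₗ[A] R A n)
  refine IsFiniteLength.of_surjective (isFiniteLength_pi (R A n) (isFiniteLength_R n)) (f := π') ?_
  intro y
  obtain ⟨v, rfl⟩ := hπ y
  refine ⟨fun k => Submodule.Quotient.mk (v k), ?_⟩
  have hv : v = ∑ k : Fin r, v k • (Pi.single k (1 : A) : Fin r → A) := by
    ext l
    simp [Finset.sum_apply, Pi.single_apply]
  conv_rhs => rw [hv]
  rw [map_sum]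
  simp only [π', LinearMap.sum_apply, LinearMap.comp_apply, LinearMap.proj_apply]
  refine Finset.sum_congr rfl fun k _ => ?_
  rw [rho_mk, map_smul]

variable {W : Dual.D A}

omit [IsLocalRing A] [IsNoetherianRing A] in
/-- `X_j(g₁)` is bijective when `X_j(M₁) = 0 = X_{j-1}(M₁)` -/
theorem Xmap_bijective_of_subsingleton {M₁ M₂ M₃ : Type u} [AddCommGroup M₁] [Module A M₁]
    [AddCommGroup M₂] [Module A M₂] [AddCommGroup M₃] [Module A M₃]
    (f₁ : M₁ →ₗ[A] M₂) (g₁ : M₂ →ₗ[A] M₃)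
    (hf₁ : Function.Injective f₁) (hfg₁ : Function.Exact f₁ g₁) (hg₁ : Function.Surjective g₁)
    (j' j : ℤ) (h : j' + ((1 : ℕ) : ℤ) = j)
    (h1 : Subsingleton (Dual.inD A M₁ ⟶ W⟦j⟧)) (h0 : Subsingleton (Dual.inD A M₁ ⟶ W⟦j'⟧)) :
    Function.Bijective (Xmap W j g₁) := by
  constructor
  · rw [injective_iff_map_eq_zero]
    intro φ hφ
    obtain ⟨ψ, rfl⟩ := (X_exact₃ W f₁ g₁ hf₁ hfg₁ hg₁ j' j h φ).mp hφ
    rw [Subsingleton.elim ψ 0, map_zero]
  · intro φ
    have : Xmap W j f₁ φ = 0 := Subsingleton.elim _ _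
    exact (X_exact₂ W f₁ g₁ hf₁ hfg₁ hg₁ j φ).mp this

omit [IsLocalRing A] [IsNoetherianRing A] in
/-- `X_j(f₁)` is bijective when `X_j(M₃) = 0 = X_{j+1}(M₃)` -/
theorem Xmap_bijective_of_subsingleton' {M₁ M₂ M₃ : Type u} [AddCommGroup M₁] [Module A M₁]
    [AddCommGroup M₂] [Module A M₂] [AddCommGroup M₃] [Module A M₃]
    (f₁ : M₁ →ₗ[A] M₂) (g₁ : M₂ →ₗ[A] M₃)
    (hf₁ : Function.Injective f₁) (hfg₁ : Function.Exact f₁ g₁) (hg₁ : Function.Surjective g₁)
    (j' j : ℤ) (h : j' + ((1 : ℕ) : ℤ) = j)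
    (h1 : Subsingleton (Dual.inD A M₃ ⟶ W⟦j'⟧)) (h0 : Subsingleton (Dual.inD A M₃ ⟶ W⟦j⟧)) :
    Function.Bijective (Xmap W j' f₁) := by
  constructor
  · rw [injective_iff_map_eq_zero]
    intro φ hφ
    obtain ⟨ψ, rfl⟩ := (X_exact₂ W f₁ g₁ hf₁ hfg₁ hg₁ j' φ).mp hφ
    rw [Subsingleton.elim ψ 0, map_zero]
  · intro φ
    have : δX W f₁ g₁ hf₁ hfg₁ hg₁ j' j h φ = 0 := Subsingleton.elim _ _
    exact (X_exact₁ W f₁ g₁ hf₁ hfg₁ hg₁ j' j h φ).mp this

omit [IsLocalRing A] [IsNoetherianRing A] in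
theorem Rmap_bijective_of_bijective {M M' : Type u} [AddCommGroup M] [Module A M]
    [AddCommGroup M'] [Module A M'] (j : ℤ) (g : M →ₗ[A] M')
    (hg : Function.Bijective (Xmap W j g)) : Function.Bijective (Rmap (E := E) W j g) := by
  let e := LinearEquiv.ofBijective (Xmap W j g) hg
  constructor
  · rw [injective_iff_map_eq_zero]
    intro θ hθ
    apply LinearMap.ext
    intro φ
    obtain ⟨φ', rfl⟩ := hg.2 φ
    exact LinearMap.congr_fun hθ φ'
  · intro θ'
    refine ⟨θ' ∘ₗ e.symm.toLinearMap, ?_⟩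
    apply LinearMap.ext
    intro φ'
    change θ' (e.symm (e φ')) = θ' φ'
    rw [LinearEquiv.symm_apply_apply]

end reduction

section final

variable (M : Type u) [AddCommGroup M] [Module A M] [Module.Finite A M]

/-- `Γ_m(M)` -/
abbrev Gam : Submodule A M := DRing.torsionSub (maximalIdeal A) M

lemma isFiniteLength_Gam : IsFiniteLength A (Gam A M) := by
  classical
  obtain ⟨s, hs⟩ := (Module.finite_def.mp (inferInstance : Module.Finite A (Gam A M)))
  choose n hn using fun x : Gam A M =>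
    Groth.Agent.Lib.H29TorsionInj.isPowerTorsion_torsionSub (maximalIdeal A) M x
  apply isFiniteLength_of_finite_of_pow_smul A (Gam A M) (s.sup n)
  intro a ha x
  have hx : x ∈ Submodule.span A (s : Set (Gam A M)) := by rw [hs]; trivial
  refine Submodule.span_induction ?_ ?_ ?_ ?_ hx
  · intro y hy
    exact hn y a (Ideal.pow_le_pow_right (Finset.le_sup (f := n) hy) ha)
  · exact smul_zero a
  · intro y z _ _ hy hz
    rw [smul_add, hy, hz, add_zero]
  · intro r y _ hy
    rw [smul_comm, hy, smul_zero]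

/-- there is an element of the maximal ideal which is regular on `M/Γ_m(M)` -/
lemma exists_regular_quot :
    ∃ x ∈ maximalIdeal A, IsSMulRegular (M ⧸ Gam A M) x := by
  by_cases htop : maximalIdeal A • (⊤ : Submodule A (M ⧸ Gam A M)) = ⊤
  · have hbot := Submodule.eq_bot_of_le_smul_of_le_jacobson_bot (maximalIdeal A)
      (⊤ : Submodule A (M ⧸ Gam A M)) Module.Finite.fg_top htop.ge
      (IsLocalRing.jacobson_eq_maximalIdeal _ bot_ne_top).ge
    haveI : Subsingleton (M ⧸ Gam A M) :=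
      (Submodule.subsingleton_iff A).mp (subsingleton_of_bot_eq_top hbot.symm)
    exact ⟨0, Submodule.zero_mem _, Function.injective_of_subsingleton _⟩
  · exact exists_regular_of_tf (maximalIdeal A) (M ⧸ Gam A M) htop
      (tf_quotient_torsionSub (maximalIdeal A) M
        ((isNoetherianRing_iff_ideal_fg A).mp inferInstance _))

lemma isPowerTorsion_ker_mkQ :
    LocCoh.IsPowerTorsion (maximalIdeal A) (LinearMap.ker (Gam A M).mkQ) := by
  rintro ⟨y, hy⟩
  have hy' : y ∈ Gam A M := by rwa [Submodule.ker_mkQ] at hy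
  obtain ⟨n, hn'⟩ := hy'
  exact ⟨n, fun a ha => Subtype.ext (hn' a ha)⟩

variable (i : ℕ) (j' : ℤ) (hij' : j' + ((i + 1 : ℕ) : ℤ) = 0)

include hn in
/-- reduction to `M/Γ_m(M)` in positive degrees -/
theorem reduce_succ
    (h : Function.Bijective (PsiF A ω hω hn f hf (i + 1) j' hij' (M ⧸ Gam A M))) :
    Function.Bijective (PsiF A ω hω hn f hf (i + 1) j' hij' M) := by
  have hΓ := isFiniteLength_Gam A M
  have hL : Function.Bijective (Hmap (maximalIdeal A) (Gam A M).mkQ (i + 1)) :=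
    Groth.Agent.Lib.LocCohTorsion.Hmap_bijective_of_surjective (maximalIdeal A) (Gam A M).mkQ
      (Submodule.mkQ_surjective _) (isPowerTorsion_ker_mkQ A M) (i + 1) (Nat.succ_pos i)
  have hj' : j' ≠ 0 := by push_cast at hij'; omega
  have hj'' : j' - 1 ≠ 0 := by push_cast at hij'; omega
  have hX : Function.Bijective (Xmap ω j' (Gam A M).mkQ) :=
    Xmap_bijective_of_subsingleton A (Gam A M).subtype (Gam A M).mkQ
      (Submodule.injective_subtype _) (LinearMap.exact_subtype_mkQ _)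
      (Submodule.mkQ_surjective _) (j' - 1) j' (by push_cast; ring)
      (Groth.Agent.Lib.H29DualDimZero.subsingleton_hom_of_isFiniteLength A (ω⟦j'⟧) (hn j' hj')
        (Gam A M) hΓ)
      (Groth.Agent.Lib.H29DualDimZero.subsingleton_hom_of_isFiniteLength A (ω⟦j' - 1⟧)
        (hn (j' - 1) hj'') (Gam A M) hΓ)
  have hR : Function.Bijective (Rmap (E := E) ω j' (Gam A M).mkQ) :=
    Rmap_bijective_of_bijective A j' _ hX
  have hcomm : (Rmap (E := E) ω j' (Gam A M).mkQ) ∘ (PsiF A ω hω hn f hf (i + 1) j' hij' M) =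
      (PsiF A ω hω hn f hf (i + 1) j' hij' (M ⧸ Gam A M)) ∘
        (Hmap (maximalIdeal A) (Gam A M).mkQ (i + 1)) := by
    funext y
    exact (PsiF_Hmap A ω hω hn f hf (i + 1) j' hij' (Gam A M).mkQ y).symm
  have h2 : Function.Bijective ((Rmap (E := E) ω j' (Gam A M).mkQ) ∘
      (PsiF A ω hω hn f hf (i + 1) j' hij' M)) := by
    rw [hcomm]
    exact h.comp hL
  exact (Function.Bijective.of_comp_iff' hR _).mp h2

include hn in
/-- reduction to `Γ_m(M)` in degree `0` -/
theorem reduce_zero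
    (h : Function.Bijective (PsiF A ω hω hn f hf 0 0 (by simp) (Gam A M))) :
    Function.Bijective (PsiF A ω hω hn f hf 0 0 (by simp) M) := by
  obtain ⟨x, hx, hreg⟩ := exists_regular_quot A M
  have hL0 : Subsingleton (LocCoh.H (maximalIdeal A) 0 (M ⧸ Gam A M)) :=
    subsingleton_H_zero_of_regular A (M ⧸ Gam A M) x hreg hx
  have hX0 : Subsingleton (Dual.inD A (M ⧸ Gam A M) ⟶ ω⟦(0 : ℤ)⟧) :=
    subsingleton_X_zero_of_regular A ω hω hn (M ⧸ Gam A M) x hx hreg
  have hX1 : Subsingleton (Dual.inD A (M ⧸ Gam A M) ⟶ ω⟦(1 : ℤ)⟧) :=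
    Groth.Agent.Lib.H29DualLocal.subsingleton_T_pos A ω hω hn (M ⧸ Gam A M) 1 (by norm_num)
  have hL : Function.Bijective (Hmap (maximalIdeal A) (Gam A M).subtype 0) := by
    constructor
    · exact Hmap_zero_injective (maximalIdeal A) (Gam A M).subtype (Submodule.injective_subtype _)
    · intro y
      have : Hmap (maximalIdeal A) (Gam A M).mkQ 0 y = 0 := Subsingleton.elim _ _
      exact (exact₂ (maximalIdeal A) (Gam A M).subtype (Gam A M).mkQ
        (LinearMap.exact_subtype_mkQ _) (Submodule.injective_subtype _)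
        (Submodule.mkQ_surjective _) 0 y).mp this
  have hX : Function.Bijective (Xmap ω 0 (Gam A M).subtype) :=
    Xmap_bijective_of_subsingleton' A (Gam A M).subtype (Gam A M).mkQ
      (Submodule.injective_subtype _) (LinearMap.exact_subtype_mkQ _)
      (Submodule.mkQ_surjective _) 0 1 (by norm_num) hX0 hX1
  have hR : Function.Bijective (Rmap (E := E) ω 0 (Gam A M).subtype) :=
    Rmap_bijective_of_bijective A 0 _ hX
  have hcomm : (PsiF A ω hω hn f hf 0 0 (by simp) M) ∘
      (Hmap (maximalIdeal A) (Gam A M).subtype 0) =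
      (Rmap (E := E) ω 0 (Gam A M).subtype) ∘ (PsiF A ω hω hn f hf 0 0 (by simp) (Gam A M)) := by
    funext y
    exact PsiF_Hmap A ω hω hn f hf 0 0 (by simp) (Gam A M).subtype y
  have h2 : Function.Bijective ((PsiF A ω hω hn f hf 0 0 (by simp) M) ∘
      (Hmap (maximalIdeal A) (Gam A M).subtype 0)) := by
    rw [hcomm]
    exact hR.comp h
  exact (Function.Bijective.of_comp_iff _ hL).mp h2

end final

/-- **Local duality**: `H^i_m(M) → Hom_A(Hom_D(M[0], ω[j]), E)` is bijective for `j + i = 0` and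
`M` finite. -/
theorem PsiF_bijective : ∀ (i : ℕ) (j : ℤ) (hij : j + (i : ℤ) = 0) (M : Type u) [AddCommGroup M]
    [Module A M] [Module.Finite A M], Function.Bijective (PsiF A ω hω hn f hf i j hij M)
  | 0, j, hij, M, _, _, _ => by
    obtain rfl : j = 0 := by simpa using hij
    apply reduce_zero
    exact PsiF_bijective_of_isFiniteLength A ω hω hn f hf (Gam A M) (isFiniteLength_Gam A M)
  | i + 1, j', hij', M, _, _, _ => by
    apply reduce_succ
    obtain ⟨x, hx, hreg⟩ := exists_regular_quot A M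
    exact bijective_succ_of_regular A ω hω hn f hf i (j' + 1) j' (by push_cast at hij' ⊢; omega)
      hij' (fun M' _ _ _ => PsiF_bijective i (j' + 1) _ M') (M ⧸ Gam A M) x hx hreg

end Groth.Agent.Lib.H29LDMain
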