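import Groth.Agent.Lib.H29Coext
import Groth.Agent.S1774
import Groth.Agent.Lib.H29LDMain
import Groth.Agent.Lib.H29DualDimZero

/-!
# Dualizing complexes under finite ring maps (helper29)

`A → B` finite, Noetherian, `R` right adjoint of restriction `D(B) → D(A)`, `ω` dualizing for `A`.
* `exists_good_model`: bounded injective model `J` of `ω` with biduality for finite modules.
* `nonempty_iso_XB`: `R ω ≅ Q (Hom_A(B, J))`; `nonempty_iso_rho_R`: `(R ω)|_A ≅ Q (T J N₀)`.
* `isDualizing_R`: `R ω` is dualizing for `B`.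
-/

set_option autoImplicit false
universe u
open CategoryTheory CategoryTheory.Limits Category Pretriangulated DerivedCategory Opposite
  DerivedCategory.TStructure

namespace Groth.Agent.Lib.H29FiniteDual

attribute [local instance] HasDerivedCategory.standard

open Groth.Agent.Lib.H29Bidual Groth.Agent.Lib.H29AdjD Groth.Agent.Lib.H29Coext

section Model

variable (A : Type u) [CommRing A] [IsNoetherianRing A]

/-- bounded injective model with biduality -/
theorem exists_good_model (ω : Dual.D A) (hω : Dual.IsDualizing A ω) :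
    ∃ (a b : ℤ) (J : CochainComplex (ModuleCat.{u} A) ℤ), J.IsStrictlyGE a ∧ J.IsStrictlyLE b ∧
      (∀ i, Injective (J.X i)) ∧ Nonempty (Q.obj J ≅ ω) ∧
      ∀ (N : Type u) [AddCommGroup N] [Module A N] [Module.Finite A N],
        Good A J (ModuleCat.of A N) := by
  obtain ⟨a, b, J, hJa, hJb, hJinj, ⟨e⟩⟩ :=
    Groth.Agent.Lib.H29DualLocal.exists_model A ω hω
  haveI := hJa
  haveI := hJb
  have hend' : Function.Bijective (fun c : A => c • 𝟙 (Q.obj J)) := by
    constructor
    · intro c c' hcc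
      apply hω.toEnd_bijective.1
      show c • 𝟙 ω = c' • 𝟙 ω
      have h1 : ∀ d : A, d • 𝟙 ω = e.inv ≫ (d • 𝟙 (Q.obj J)) ≫ e.hom := by
        intro d
        rw [Linear.smul_comp, Linear.comp_smul, id_comp, e.inv_hom_id]
      rw [h1, h1]
      replace hcc : c • 𝟙 (Q.obj J) = c' • 𝟙 (Q.obj J) := hcc
      rw [hcc]
    · intro f
      obtain ⟨c, hc⟩ := hω.toEnd_bijective.2 (e.inv ≫ f ≫ e.hom)
      refine ⟨c, ?_⟩
      replace hc : c • 𝟙 ω = e.inv ≫ f ≫ e.hom := hc
      show c • 𝟙 (Q.obj J) = f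
      have : f = e.hom ≫ (c • 𝟙 ω) ≫ e.inv := by
        rw [hc]
        simp
      rw [this, Linear.smul_comp, Linear.comp_smul, id_comp, e.hom_inv_id]
  have hext' : ∀ i : ℤ, i ≠ 0 → Subsingleton (Q.obj J ⟶ (Q.obj J)⟦i⟧) := by
    intro i hi
    haveI := hω.ext_self_subsingleton i hi
    refine ⟨fun f g => ?_⟩
    rw [← cancel_epi e.inv, ← cancel_mono (e.hom⟦i⟧')]
    exact Subsingleton.elim _ _
  exact ⟨a, b, J, hJa, hJb, hJinj, ⟨e⟩, fun N _ _ _ =>
    good_of_finite A J a b hJinj hend' hext' N⟩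

end Model

variable (A B : Type u) [CommRing A] [CommRing B] [Algebra A B]
  (R : Dual.D A ⥤ Dual.D B) (adj : DRing.restrictD (algebraMap A B) ⊣ R)

include adj in
/-- vanishing of maps into shifts of `R Z` -/
theorem subsingleton_hom_R_shift (Y : Dual.D B) (Z : Dual.D A) (i : ℤ)
    (h : Subsingleton ((DRing.restrictD (algebraMap A B)).obj Y ⟶ Z⟦i⟧)) :
    Subsingleton (Y ⟶ (R.obj Z)⟦i⟧) := by
  let c : R.obj (Z⟦i⟧) ≅ (R.obj Z)⟦i⟧ := (Adjunction.RightAdjointCommShift.iso adj i).app Z
  refine ⟨fun f g => ?_⟩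
  rw [← cancel_mono c.inv]
  apply (adj.homEquiv Y (Z⟦i⟧)).symm.injective
  exact Subsingleton.elim _ _

section Main

variable [IsNoetherianRing A] [IsNoetherianRing B] [Module.Finite A B]

lemma finite_N₀ : Module.Finite A (N₀ A B) :=
  Module.Finite.of_surjective
    ({ toFun := fun x => x, map_add' := fun _ _ => rfl, map_smul' := fun a x =>
        (Algebra.smul_def a x).trans rfl } : B →ₗ[A] (N₀ A B)) (fun x => ⟨x, rfl⟩)

include adj in
/-- `R ω ≅ Q (Hom_A(B, J))` and `(R ω)|_A ≅ Q (T J N₀)` for a good model `J` of `ω`. -/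
theorem exists_iso_XB (ω : Dual.D A) (hω : Dual.IsDualizing A ω) :
    ∃ (a b : ℤ) (J : CochainComplex (ModuleCat.{u} A) ℤ), J.IsStrictlyGE a ∧ J.IsStrictlyLE b ∧
      (∀ i, Injective (J.X i)) ∧ Nonempty (Q.obj J ≅ ω) ∧
      (∀ (N : Type u) [AddCommGroup N] [Module A N] [Module.Finite A N],
        Good A J (ModuleCat.of A N)) ∧ Nonempty (R.obj ω ≅ XB A B J) ∧
      Nonempty ((DRing.restrictD (algebraMap A B)).obj (R.obj ω) ≅ Q.obj (T A J (N₀ A B))) := by
  obtain ⟨a, b, J, hJa, hJb, hJinj, ⟨e⟩, hgood⟩ := exists_good_model A ω hω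
  haveI := hJa
  haveI := isIso_alpha A B J R adj hJinj a
  let E : R.obj ω ≅ XB A B J := R.mapIso e.symm ≪≫ (asIso (alpha A B J R adj)).symm
  exact ⟨a, b, J, hJa, hJb, hJinj, ⟨e⟩, hgood, ⟨E⟩,
    ⟨(DRing.restrictD (algebraMap A B)).mapIso E ≪≫ theta A B J⟩⟩

include adj in
/-- **Finite ring maps**: `R ω` is a dualizing complex for `B`. -/
theorem isDualizing_R (ω : Dual.D A) (hω : Dual.IsDualizing A ω) :
    Dual.IsDualizing B (R.obj ω) := by
  obtain ⟨a, b, J, hJa, hJb, hJinj, ⟨e⟩, hgood, ⟨E⟩, _⟩ := exists_iso_XB A B R adj ω hω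
  haveI := hJa
  haveI := hJb
  haveI := finite_N₀ A B
  have hg : Good A J (N₀ A B) := hgood (N₀ A B)
  obtain ⟨a', b', hab⟩ := hω.finite_injective_dimension
  refine ⟨inferInstance, ⟨a', b', ?_⟩, ?_, ?_, ?_⟩
  · intro M _ _ i hi
    apply subsingleton_hom_R_shift A B R adj
    let eS := (ModuleCat.restrictScalars (algebraMap A B)).mapDerivedCategorySingleFunctor 0
    let e1 : (DRing.restrictD (algebraMap A B)).obj (Dual.inD B M) ≅
        Dual.inD A ((ModuleCat.restrictScalars (algebraMap A B)).obj (ModuleCat.of B M)) :=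
      eS.app (ModuleCat.of B M)
    haveI := hab ((ModuleCat.restrictScalars (algebraMap A B)).obj (ModuleCat.of B M)) i hi
    refine ⟨fun f g => ?_⟩
    rw [← cancel_epi e1.inv]
    exact Subsingleton.elim _ _
  · intro i
    obtain ⟨a₀, b₀, ha₀, hb₀⟩ := Groth.Agent.Lib.H29DualLocal.exists_bounds A ω hω
    refine Groth.Agent.S1774.result A B R adj ω a₀ (fun j hj => ?_) hω.finite_cohomology i
    exact ModuleCat.subsingleton_of_isZero (DerivedCategory.isZero_of_isGE ω a₀ j hj)
  · have hX := bijective_smul_id_XB A B J hJinj a hg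
    have h1 : (fun c : B => c • 𝟙 (R.obj ω)) =
        (fun χ : XB A B J ⟶ XB A B J => E.hom ≫ χ ≫ E.inv) ∘ (fun c : B => c • 𝟙 (XB A B J)) := by
      funext c
      simp only [Function.comp_apply]
      rw [Linear.smul_comp, Linear.comp_smul, id_comp, E.hom_inv_id]
    rw [h1]
    refine Function.Bijective.comp ?_ hX
    constructor
    · intro x y hxy
      simp only at hxy
      rw [cancel_epi, cancel_mono] at hxy
      exact hxy
    · intro x
      exact ⟨E.inv ≫ x ≫ E.hom, by simp⟩
  · intro i hi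
    apply subsingleton_hom_R_shift A B R adj
    haveI := subsingleton_rho_XB_hom A B J hg i hi
    refine ⟨fun f g => ?_⟩
    rw [← cancel_epi ((DRing.restrictD (algebraMap A B)).map E.inv),
      ← cancel_mono (e.inv⟦i⟧')]
    exact Subsingleton.elim _ _

end Main

section Normalized

variable [IsLocalRing A] [IsLocalRing B] [IsLocalHom (algebraMap A B)]
  [IsNoetherianRing A] [IsNoetherianRing B] [Module.Finite A B]

/-- the residue field of `B` as an `A`-module -/
noncomputable abbrev kB : ModuleCat.{u} A :=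
  (ModuleCat.restrictScalars (algebraMap A B)).obj (ModuleCat.of B (IsLocalRing.ResidueField B))

lemma isFiniteLength_kB : IsFiniteLength A (kB A B) := by
  haveI := finite_N₀ A B
  let π : N₀ A B →ₗ[A] kB A B :=
    ((ModuleCat.restrictScalars (algebraMap A B)).map
      (ModuleCat.ofHom (Algebra.linearMap B (IsLocalRing.ResidueField B)))).hom
  have hπ : Function.Surjective π := fun x => by
    obtain ⟨y, hy⟩ := IsLocalRing.residue_surjective (R := B) x
    exact ⟨y, hy⟩
  haveI : Module.Finite A (kB A B) := Module.Finite.of_surjective π hπ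
  apply Groth.Agent.Lib.H29LDMain.isFiniteLength_of_finite_of_pow_smul A (kB A B) 1
  intro c hc x
  rw [pow_one] at hc
  have hc' : algebraMap A B c ∈ IsLocalRing.maximalIdeal B :=
    (IsLocalRing.mem_maximalIdeal _).mpr (fun hu =>
      (IsLocalRing.mem_maximalIdeal c).mp hc (isUnit_of_map_unit (algebraMap A B) c hu))
  let x' : IsLocalRing.ResidueField B := x
  change (algebraMap A B c) • x' = 0
  rw [Algebra.smul_def]
  have : algebraMap B (IsLocalRing.ResidueField B) (algebraMap A B c) = 0 :=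
    (IsLocalRing.residue_eq_zero_iff _).mpr hc'
  rw [this, zero_mul]

include adj in
theorem isNormalized_R (ω : Dual.D A) (hn : Dual.IsNormalized A ω) :
    Dual.IsNormalized B (R.obj ω) := by
  intro i hi
  apply subsingleton_hom_R_shift A B R adj
  let eS := (ModuleCat.restrictScalars (algebraMap A B)).mapDerivedCategorySingleFunctor 0
  let e1 : (DRing.restrictD (algebraMap A B)).obj (Dual.inD B (IsLocalRing.ResidueField B)) ≅
      Dual.inD A (kB A B) := eS.app (ModuleCat.of B (IsLocalRing.ResidueField B))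
  haveI : Subsingleton (Dual.inD A (kB A B) ⟶ ω⟦i⟧) :=
    Groth.Agent.Lib.H29DualDimZero.subsingleton_hom_of_isFiniteLength A (ω⟦i⟧) (hn i hi)
      (kB A B) (isFiniteLength_kB A B)
  refine ⟨fun f g => ?_⟩
  rw [← cancel_epi e1.inv]
  exact Subsingleton.elim _ _

end Normalized

end Groth.Agent.Lib.H29FiniteDual
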