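import Groth.Agent.Lib.H29Gorenstein
import Groth.Agent.Lib.H29ExtLocalization

/-!
# `Ext` vanishing over Gorenstein rings (helper29)

* `ext_eq_zero_of_gorenstein`: over a Gorenstein ring of Krull dimension `≤ d`, `Ext^i(C, S) = 0`
  for finite `C` and `i > d`.
* `ext_one_eq_zero_of_isReflexive`: reflexive finite modules over Gorenstein rings of dimension `≤ 1`
  have `Ext^1(M, S) = 0`.
-/

set_option autoImplicit false
universe u
open CategoryTheory Abelian IsLocalRing

namespace Groth.Agent.Lib.H29GorExt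

section General

variable {C : Type*} [Category C] [Abelian C] [HasExt C]

/-- dimension shifting to the left along a short exact sequence -/
theorem ext_X₁_eq_zero {S : ShortComplex C} (hS : S.ShortExact) (N : C) (i : ℕ)
    (h2 : ∀ e : Ext S.X₂ N i, e = 0) (h3 : ∀ e : Ext S.X₃ N (1 + i), e = 0)
    (e : Ext S.X₁ N i) : e = 0 := by
  obtain ⟨x₂, rfl⟩ := Ext.contravariant_sequence_exact₁ hS N e rfl (h3 _)
  rw [h2 x₂, Ext.comp_zero]

end General

section Gor

variable (S : Type u) [CommRing S] [LocCoh.IsGorensteinRing S]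

theorem ext_eq_zero_of_gorenstein (d : ℕ) (hd : ringKrullDim S ≤ d) (C : ModuleCat.{u} S)
    [Module.Finite S C] (i : ℕ) (hi : d < i) (e : Ext C (ModuleCat.of S S) i) : e = 0 := by
  by_contra hne
  let J : Ideal S := LinearMap.ker (LinearMap.toSpanSingleton S (Ext C (ModuleCat.of S S) i) e)
  have hJ : J ≠ ⊤ := by
    intro h
    apply hne
    have h1 : (1 : S) ∈ J := by rw [h]; trivial
    have h2 : (1 : S) • e = 0 := h1
    rwa [one_smul] at h2
  obtain ⟨p, hp, hJp⟩ := Ideal.exists_le_maximal J hJ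
  haveI := hp.isPrime
  haveI : LocCoh.IsGorensteinLocalRing (Localization.AtPrime p) :=
    LocCoh.IsGorensteinRing.isGorensteinLocalRing_localization p
  obtain ⟨dp, hdp, -, hinj⟩ := H29Gorenstein.gorenstein_invariants (Localization.AtPrime p)
  have hdpd : dp ≤ d := by
    have h1 : ringKrullDim (Localization.AtPrime p) ≤ ringKrullDim S := by
      rw [IsLocalization.AtPrime.ringKrullDim_eq_height p (Localization.AtPrime p)]
      exact Ideal.height_le_ringKrullDim_of_ne_top hp.ne_top
    rw [hdp] at h1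
    have h2 := h1.trans hd
    exact_mod_cast h2
  have hinj' : HasInjectiveDimensionLT
      ((ModuleCat.localizedModuleFunctor.{u} p.primeCompl).obj (ModuleCat.of S S)) (dp + 1) :=
    hasInjectiveDimensionLT_of_iso (H29Gorenstein.locSelfIso S p).symm (dp + 1)
  have hsub : Subsingleton (Ext ((ModuleCat.localizedModuleFunctor.{u} p.primeCompl).obj C)
      ((ModuleCat.localizedModuleFunctor.{u} p.primeCompl).obj (ModuleCat.of S S)) i) :=
    HasInjectiveDimensionLT.subsingleton _ (dp + 1) i (by omega) _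
  have hz : e.mapExactFunctor (ModuleCat.localizedModuleFunctor.{u} p.primeCompl) = 0 :=
    Subsingleton.elim _ _
  obtain ⟨s, hs⟩ := (H29ExtLocalization.mapExactFunctor_eq_zero_iff p.primeCompl C
    (ModuleCat.of S S) i e).mp hz
  exact s.2 (hJp hs)

end Gor

section Reflexive

variable (S : Type u) [CommRing S] [IsNoetherianRing S] (M : Type u) [AddCommGroup M] [Module S M]
  [Module.Finite S M] [Module.IsReflexive S M]

/-- a reflexive finite module over a Noetherian ring is a second syzygy -/
theorem exists_second_syzygy :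
    ∃ (a b : ℕ) (ι : M →ₗ[S] Module.Dual S (Fin b → S))
      (δ : Module.Dual S (Fin b → S) →ₗ[S] Module.Dual S (Fin a → S)),
      Function.Injective ι ∧ Function.Exact ι δ := by
  obtain ⟨b, π₀, hπ₀⟩ := Module.Finite.exists_fin' S (Module.Dual S M)
  obtain ⟨a, π₁, hπ₁⟩ := Module.Finite.exists_fin' S (LinearMap.ker π₀)
  let φ : (Fin a → S) →ₗ[S] (Fin b → S) := (LinearMap.ker π₀).subtype ∘ₗ π₁
  have hφ : LinearMap.range φ = LinearMap.ker π₀ := by
    rw [LinearMap.range_comp, LinearMap.range_eq_top.mpr hπ₁, Submodule.map_top,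
      Submodule.range_subtype]
  have hπφ : ∀ x, π₀ (φ x) = 0 := fun x => (π₁ x).2
  refine ⟨a, b, π₀.dualMap ∘ₗ (Module.evalEquiv S M).toLinearMap, φ.dualMap, ?_, ?_⟩
  · exact (LinearMap.dualMap_injective_of_surjective hπ₀).comp (Module.evalEquiv S M).injective
  · intro ψ
    constructor
    · intro h
      have hker : LinearMap.ker π₀ ≤ LinearMap.ker ψ := by
        rw [← hφ]
        rintro _ ⟨x, rfl⟩
        exact LinearMap.congr_fun h x
      let χ : Module.Dual S (Module.Dual S M) :=
        (LinearMap.ker π₀).liftQ ψ hker ∘ₗ (π₀.quotKerEquivOfSurjective hπ₀).symm.toLinearMap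
      have hχ : ∀ y, χ (π₀ y) = ψ y := by
        intro y
        show (LinearMap.ker π₀).liftQ ψ hker ((π₀.quotKerEquivOfSurjective hπ₀).symm (π₀ y)) = ψ y
        have h1 : (π₀.quotKerEquivOfSurjective hπ₀).symm (π₀ y) = Submodule.Quotient.mk y := by
          rw [LinearEquiv.symm_apply_eq]
          rfl
        rw [h1, Submodule.liftQ_apply]
      refine ⟨(Module.evalEquiv S M).symm χ, ?_⟩
      apply LinearMap.ext
      intro y
      show ((Module.evalEquiv S M) ((Module.evalEquiv S M).symm χ)) (π₀ y) = ψ y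
      rw [LinearEquiv.apply_symm_apply, hχ]
    · rintro ⟨m, rfl⟩
      apply LinearMap.ext
      intro x
      show ((Module.evalEquiv S M) m) (π₀ (φ x)) = 0
      rw [hπφ, map_zero]

variable [LocCoh.IsGorensteinRing S]

omit [IsNoetherianRing S] [Module.Finite S M] [Module.IsReflexive S M] in
theorem ext_one_eq_zero_of_second_syzygy (hd : ringKrullDim S ≤ ((1 : ℕ) : WithBot ℕ∞))
    (G₀ G₁ : Type u) [AddCommGroup G₀] [Module S G₀] [AddCommGroup G₁] [Module S G₁]
    [Module.Projective S G₀] [Module.Projective S G₁] [Module.Finite S G₁]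
    (ι : M →ₗ[S] G₀) (δ : G₀ →ₗ[S] G₁) (hι : Function.Injective ι) (hex : Function.Exact ι δ)
    (e : Ext (ModuleCat.of S M) (ModuleCat.of S S) 1) : e = 0 := by
  let B : Submodule S G₁ := LinearMap.range δ
  let g₁ : G₀ →ₗ[S] B := δ.rangeRestrict
  have hex₁ : Function.Exact ι g₁ := by
    intro y
    rw [← hex y]
    constructor
    · intro h
      exact congrArg Subtype.val h
    · intro h
      exact Subtype.ext h
  have hg₁ : Function.Surjective g₁ := LinearMap.surjective_rangeRestrict δ
  have hS₁ := ModuleCat.shortComplex_shortExact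
    (ModuleCat.shortComplexOfCompEqZero ι g₁ hex₁.linearMap_comp_eq_zero) hex₁ hι hg₁
  have hex₂ : Function.Exact B.subtype B.mkQ := LinearMap.exact_subtype_mkQ B
  have hS₂ := ModuleCat.shortComplex_shortExact
    (ModuleCat.shortComplexOfCompEqZero B.subtype B.mkQ hex₂.linearMap_comp_eq_zero) hex₂
    (Submodule.injective_subtype B) (Submodule.mkQ_surjective B)
  haveI : Projective (ModuleCat.of S G₀) := (IsProjective.iff_projective _).mp inferInstance
  haveI : Projective (ModuleCat.of S G₁) := (IsProjective.iff_projective _).mp inferInstance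
  haveI : Module.Finite S (ModuleCat.of S (G₁ ⧸ B)) :=
    inferInstanceAs (Module.Finite S (G₁ ⧸ B))
  have h3 : ∀ e : Ext (ModuleCat.of S (G₁ ⧸ B)) (ModuleCat.of S S) (1 + 2), e = 0 :=
    fun e => ext_eq_zero_of_gorenstein S 1 hd _ 3 (by omega) e
  have h2 : ∀ e : Ext (ModuleCat.of S B) (ModuleCat.of S S) 2, e = 0 :=
    ext_X₁_eq_zero hS₂ _ 2 (fun e => Ext.eq_zero_of_projective e) h3
  exact ext_X₁_eq_zero hS₁ _ 1 (fun e => Ext.eq_zero_of_projective e) h2 e

omit [IsNoetherianRing S] in
theorem ext_one_eq_zero_of_isReflexive (hd : ringKrullDim S ≤ ((1 : ℕ) : WithBot ℕ∞))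
    (e : Ext (ModuleCat.of S M) (ModuleCat.of S S) 1) : e = 0 := by
  obtain ⟨a, b, ι, δ, hι, hex⟩ := exists_second_syzygy S M
  exact ext_one_eq_zero_of_second_syzygy S M hd _ _ ι δ hι hex e

end Reflexive

end Groth.Agent.Lib.H29GorExt
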