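import Groth.Agent.Lib.H29BEN2
import Groth.Agent.S12908

/-!
# Hilbert–Burch, necessity (helper29)

From a resolution `0 → R^m → R^n → I → 0`: `n = m + 1`, the ideal of maximal minors has grade `≥ 2`,
and `I = a · I_m(Ψ)` with `a` a non-zero-divisor.
-/

set_option autoImplicit false
universe u

namespace Groth.Agent.Lib.H29HB

open Groth.Agent.Lib.H29BEN2

section Hom

variable {R : Type u} [CommRing R]

/-- A linear map from an ideal of grade `≥ 2` to the ring is multiplication by an element. -/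
theorem exists_mul_of_linearMap (J : Ideal R) (hdepth : 2 ≤ LocCoh.idealDepth J R)
    (f : J →ₗ[R] R) :
    (∃ x ∈ J, ∀ r : R, x * r = 0 → r = 0) ∧ ∃ a : R, ∀ y (hy : y ∈ J), f ⟨y, hy⟩ = a * y := by
  obtain ⟨x, y, hx, hy, hxreg, hpair⟩ := Groth.Agent.S12908.exists_pair J hdepth
  refine ⟨⟨x, hx, hxreg⟩, ?_⟩
  have comm : ∀ u v (hu : u ∈ J) (hv : v ∈ J), u * f ⟨v, hv⟩ = v * f ⟨u, hu⟩ := by
    intro u v hu hv
    have h1 : u • (⟨v, hv⟩ : J) = v • (⟨u, hu⟩ : J) := by
      apply Subtype.ext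
      show u * v = v * u
      ring
    have h2 := congrArg f h1
    rw [map_smul, map_smul, smul_eq_mul, smul_eq_mul] at h2
    exact h2
  obtain ⟨a, ha⟩ := hpair (f ⟨x, hx⟩) (f ⟨y, hy⟩) (comm y x hy hx)
  refine ⟨a, fun z hz => ?_⟩
  have h3 : x * (f ⟨z, hz⟩ - a * z) = 0 := by
    rw [mul_sub, comm x z hx hz, ha]
    ring
  have h4 := hxreg _ h3
  exact sub_eq_zero.mp h4

end Hom

section Family

variable {R : Type u} [CommRing R]

/-- the sizes `1, n, m, m, …` -/
def nn (n m : ℕ) : ℕ → ℕ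
  | 0 => 1
  | 1 => n
  | _ => m

/-- the row matrix of a linear form -/
def rowMat {n : ℕ} (π : (Fin n → R) →ₗ[R] R) : Matrix (Fin 1) (Fin n) R :=
  Matrix.of fun _ j => π (Pi.single j 1)

theorem rowMat_mulVec {n : ℕ} (π : (Fin n → R) →ₗ[R] R) (v : Fin n → R) (i : Fin 1) :
    (rowMat π).mulVec v i = π v := by
  classical
  have h := LinearMap.pi_apply_eq_sum_univ π v
  rw [h]
  simp only [Matrix.mulVec, dotProduct, rowMat, Matrix.of_apply]
  refine Finset.sum_congr rfl fun j _ => ?_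
  rw [smul_eq_mul, mul_comm]
  congr 2
  funext k
  simp [Pi.single_apply, eq_comm]

theorem ker_rowMat {n : ℕ} (π : (Fin n → R) →ₗ[R] R) :
    LinearMap.ker (rowMat π).mulVecLin = LinearMap.ker π := by
  ext v
  rw [LinearMap.mem_ker, LinearMap.mem_ker, Matrix.mulVecLin_apply]
  constructor
  · intro h
    rw [← rowMat_mulVec π v 0, h]
    rfl
  · intro h
    funext i
    rw [rowMat_mulVec, h]
    rfl

/-- the complex `R^m → R^n → R^1` as a family of matrices -/
def fam {n m : ℕ} (Ψ : Matrix (Fin n) (Fin m) R) (π : (Fin n → R) →ₗ[R] R) :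
    (i : ℕ) → Matrix (Fin (nn n m i)) (Fin (nn n m (i + 1))) R
  | 0 => rowMat π
  | 1 => Ψ
  | (_ + 2) => 0

end Family

section Main

variable {R : Type u} [CommRing R] [IsNoetherianRing R]

theorem hb_rank {n m : ℕ} (Ψ : Matrix (Fin n) (Fin m) R) (π : (Fin n → R) →ₗ[R] R)
    (hΨ : LinearMap.ker Ψ.mulVecLin = ⊥) (hex : LinearMap.ker π = LinearMap.range Ψ.mulVecLin)
    (hI : LinearMap.range π ≠ ⊥) :
    n = m + 1 ∧ 2 ≤ LocCoh.idealDepth (CAlgX.minorIdeal Ψ m) R := by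
  classical
  haveI : Nontrivial R := by
    by_contra hnt
    rw [not_nontrivial_iff_subsingleton] at hnt
    exact hI (Subsingleton.elim _ _)
  have htop : LinearMap.ker (fam Ψ π 1).mulVecLin = ⊥ := hΨ
  have hex' : ∀ i, i + 1 ≤ 1 → LinearMap.ker (fam Ψ π i).mulVecLin =
      LinearMap.range (fam Ψ π (i + 1)).mulVecLin := by
    intro i hi
    obtain rfl : i = 0 := by omega
    show LinearMap.ker (rowMat π).mulVecLin = LinearMap.range Ψ.mulVecLin
    rw [ker_rowMat, hex]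
  have hI12 : Finset.Icc 1 2 = {1, 2} := by decide
  constructor
  · obtain ⟨r0, hr0, h1, h2⟩ := rank_minors 1 (nn n m) (fam Ψ π) htop hex' 0 (by omega)
    have h1' : CAlgX.minorIdeal (rowMat π) (r0 + 1) = ⊥ := h1
    have h2' : CAlgX.minorIdeal (rowMat π) r0 ≠ ⊥ := h2
    have hrho : rho 1 (nn n m) 0 = (n : ℤ) - (m : ℤ) := by
      unfold rho
      rw [show (0 + 1 : ℕ) = 1 from rfl, show (1 + 1 : ℕ) = 2 from rfl, hI12,
        Finset.sum_pair (by decide)]
      simp [nn]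
      ring
    have hr01 : r0 = 1 := by
      rcases Nat.lt_trichotomy r0 1 with hlt | heq | hgt
      · exfalso
        have hr00 : r0 = 0 := by omega
        subst hr00
        apply hI
        rw [eq_bot_iff]
        rintro _ ⟨v, rfl⟩
        rw [Submodule.mem_bot, LinearMap.pi_apply_eq_sum_univ π v]
        refine Finset.sum_eq_zero fun j _ => ?_
        have hmem : ((rowMat π).submatrix (fun _ : Fin 1 => (0 : Fin 1)) (fun _ : Fin 1 => j)).det ∈
            CAlgX.minorIdeal (rowMat π) (0 + 1) :=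
          Ideal.subset_span ⟨⟨fun _ => 0, fun _ => j⟩, rfl⟩
        rw [h1', Ideal.mem_bot, Matrix.det_unique] at hmem
        have h3 : π (Pi.single j 1) = 0 := hmem
        have h4 : (fun j' : Fin n => if j = j' then (1 : R) else 0) = Pi.single j 1 := by
          funext k
          simp [Pi.single_apply, eq_comm]
        rw [h4, h3, smul_zero]
      · exact heq
      · exfalso
        exact h2' (Groth.Agent.S10890.minorIdeal_eq_bot_of_rows_lt (rowMat π) r0 hgt)
    rw [hr01, hrho] at hr0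
    have : (1 : ℤ) = (n : ℤ) - (m : ℤ) := by exact_mod_cast hr0
    omega
  · obtain ⟨r1, hr1, hrk1⟩ := matrixRank_eq 1 (nn n m) (fam Ψ π) htop hex' 1 le_rfl
    have hrho : rho 1 (nn n m) 1 = (m : ℤ) := by
      unfold rho
      rw [show (1 + 1 : ℕ) = 2 from rfl, Finset.Icc_self, Finset.sum_singleton]
      simp [nn]
    have hr1m : r1 = m := by
      rw [hrho] at hr1
      exact_mod_cast hr1
    have hrk : CAlgX.matrixRank Ψ = m := hrk1.trans hr1m
    have hd := le_idealDepth_detIdeal 1 (nn n m) (fam Ψ π) htop hex' 1 le_rfl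
    have hd' : ((1 + 1 : ℕ) : ℕ∞) ≤ LocCoh.idealDepth (CAlgX.detIdeal Ψ) R := hd
    unfold CAlgX.detIdeal at hd'
    rw [hrk] at hd'
    exact_mod_cast hd'

theorem hb_ideal {m : ℕ} (Ψ : Matrix (Fin (m + 1)) (Fin m) R) (π : (Fin (m + 1) → R) →ₗ[R] R)
    (hex : LinearMap.ker π = LinearMap.range Ψ.mulVecLin)
    (hdepth : 2 ≤ LocCoh.idealDepth (CAlgX.minorIdeal Ψ m) R) :
    ∃ a : R, a ∈ nonZeroDivisors R ∧
      LinearMap.range π = Ideal.span {a} * CAlgX.minorIdeal Ψ m := by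
  classical
  obtain ⟨-, hkerΔ, hrangeΔ⟩ :=
    Groth.Agent.S12908.result m Ψ hdepth 1 (one_mem _)
  set Δ : (Fin (m + 1) → R) →ₗ[R] R := Fintype.linearCombination R
    (fun i : Fin (m + 1) => 1 * ((-1 : R) ^ (i : ℕ) * (Ψ.submatrix i.succAbove id).det)) with hΔ
  rw [Ideal.span_singleton_one, Ideal.top_mul] at hrangeΔ
  have hK : LinearMap.ker Δ = LinearMap.ker π := hkerΔ.trans hex.symm
  rw [← hrangeΔ] at hdepth ⊢
  let g : (LinearMap.range Δ) →ₗ[R] R :=
    ((LinearMap.ker Δ).liftQ π hK.le) ∘ₗ (Δ.quotKerEquivRange).symm.toLinearMap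
  have hg : ∀ v, g ⟨Δ v, ⟨v, rfl⟩⟩ = π v := by
    intro v
    show ((LinearMap.ker Δ).liftQ π hK.le) ((Δ.quotKerEquivRange).symm ⟨Δ v, ⟨v, rfl⟩⟩) = π v
    have h1 : (Δ.quotKerEquivRange).symm ⟨Δ v, ⟨v, rfl⟩⟩ = Submodule.Quotient.mk v := by
      rw [LinearEquiv.symm_apply_eq]
      apply Subtype.ext
      rfl
    rw [h1, Submodule.liftQ_apply]
  obtain ⟨⟨x, hx, hxreg⟩, a, ha⟩ := exists_mul_of_linearMap (LinearMap.range Δ) hdepth g
  have hπ : ∀ v, π v = a * Δ v := fun v => by rw [← hg v, ha]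
  refine ⟨a, ?_, ?_⟩
  · rw [mem_nonZeroDivisors_iff_right]
    intro b hb
    obtain ⟨v₀, hv₀⟩ := hx
    have h1 : π (b • v₀) = 0 := by
      rw [map_smul, hπ, smul_eq_mul, ← mul_assoc, hb, zero_mul]
    have h2 : b • v₀ ∈ LinearMap.ker Δ := by
      rw [hK]; exact h1
    have h3 : b * x = 0 := by
      rw [← hv₀]
      have := h2
      rw [LinearMap.mem_ker, map_smul, smul_eq_mul] at this
      exact this
    exact hxreg b (by rw [mul_comm]; exact h3)
  · ext y
    rw [Ideal.mem_span_singleton_mul]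
    constructor
    · rintro ⟨v, rfl⟩
      exact ⟨Δ v, ⟨v, rfl⟩, (hπ v).symm⟩
    · rintro ⟨z, ⟨v, rfl⟩, rfl⟩
      exact ⟨v, hπ v⟩

end Main

end Groth.Agent.Lib.H29HB
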