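import Groth.Agent.Lib.H29DualIso
import Groth.Agent.Lib.TildePullback
import Groth.Prelude.Def_DDual2
import Mathlib.CategoryTheory.Functor.Derived.PointwiseLeftDerived
import Mathlib.RingTheory.Localization.BaseChange

/-!
# Derived base change to a localization is the exact localization functor (helper29)

* `extLocIso S : extendScalars (algebraMap A S⁻¹A) ≅ localizedModuleFunctor S`.
* `lbaseLocIso S : DRing.LBaseChange (algebraMap A S⁻¹A) ≅ LD S` (for ANY existing derived
  base change: an exact functor is its own derived functor).
* `isDualizing_LBaseChange_localization` (= S1775).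
-/

set_option autoImplicit false
universe u
open CategoryTheory CategoryTheory.Limits Category DerivedCategory

namespace Groth.Agent.Lib.H29LBaseLoc

attribute [local instance] HasDerivedCategory.standard

open Groth.Agent.Lib.H29LocD TensorProduct ChangeOfRings

variable {A : Type u} [CommRing A] (S : Submonoid A)

/-- componentwise: `S⁻¹A ⊗_A M ≃ S⁻¹M` -/
noncomputable def extLocEquiv (M : ModuleCat.{u} A) :
    ((ModuleCat.extendScalars.{u, u, u} (algebraMap A (Localization S))).obj M) ≃ₗ[Localization S]
      (M.localizedModule S) :=
  have := ModuleCat.localizedModule_isLocalizedModule M S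
  (Groth.Agent.Lib.TildePullback.extendScalarsEquiv A (Localization S) M).trans
    (IsLocalizedModule.isBaseChange S (Localization S) (M.localizedModuleMkLinearMap S)).equiv

lemma extLocEquiv_one_tmul (M : ModuleCat.{u} A) (m : M) :
    extLocEquiv S M ((1 : Localization S) ⊗ₜ[A, algebraMap A (Localization S)] m) =
      M.localizedModuleMkLinearMap S m := by
  have := ModuleCat.localizedModule_isLocalizedModule M S
  show (IsLocalizedModule.isBaseChange S (Localization S)
    (M.localizedModuleMkLinearMap S)).equiv ((1 : Localization S) ⊗ₜ[A] m) = _
  rw [IsBaseChange.equiv_tmul, one_smul]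

/-- extension of scalars to a localization is the localization functor -/
noncomputable def extLocIso :
    ModuleCat.extendScalars.{u, u, u} (algebraMap A (Localization S)) ≅ L S :=
  NatIso.ofComponents (fun M => (extLocEquiv S M).toModuleIso) (by
    intro M N f
    apply ModuleCat.ExtendScalars.hom_ext
    intro m
    have h1 : ((ModuleCat.extendScalars.{u, u, u} (algebraMap A (Localization S))).map f ≫
        (extLocEquiv S N).toModuleIso.hom)
          ((1 : Localization S) ⊗ₜ[A, algebraMap A (Localization S)] m) =
        N.localizedModuleMkLinearMap S (f m) := by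
      show extLocEquiv S N ((1 : Localization S) ⊗ₜ[A, algebraMap A (Localization S)] (f m)) = _
      exact extLocEquiv_one_tmul S N (f m)
    have h2 : ((extLocEquiv S M).toModuleIso.hom ≫ (L S).map f)
          ((1 : Localization S) ⊗ₜ[A, algebraMap A (Localization S)] m) =
        N.localizedModuleMkLinearMap S (f m) := by
      show (L S).map f (extLocEquiv S M
        ((1 : Localization S) ⊗ₜ[A, algebraMap A (Localization S)] m)) = _
      rw [extLocEquiv_one_tmul]
      have := ModuleCat.localizedModule_isLocalizedModule M S
      exact IsLocalizedModule.map_apply S (M.localizedModuleMkLinearMap S)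
        (N.localizedModuleMkLinearMap S) f.hom m
    exact h1.trans h2.symm)

/-- the induced isomorphism on homotopy categories -/
noncomputable def extLocIsoh :
    (ModuleCat.extendScalars.{u, u, u} (algebraMap A (Localization S))).mapHomotopyCategory
        (ComplexShape.up ℤ) ≅ (L S).mapHomotopyCategory (ComplexShape.up ℤ) where
  hom := NatTrans.mapHomotopyCategory (extLocIso S).hom _
  inv := NatTrans.mapHomotopyCategory (extLocIso S).inv _
  hom_inv_id := by
    rw [← NatTrans.mapHomotopyCategory_comp, Iso.hom_inv_id, NatTrans.mapHomotopyCategory_id]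
  inv_hom_id := by
    rw [← NatTrans.mapHomotopyCategory_comp, Iso.inv_hom_id, NatTrans.mapHomotopyCategory_id]

/-- `Qh ⋙ LD S ≅ baseChangeKh` -/
noncomputable def facIso :
    Qh ⋙ LD S ≅ DRing.baseChangeKh (algebraMap A (Localization S)) :=
  (L S).mapDerivedCategoryFactorsh ≪≫ Functor.isoWhiskerRight (extLocIsoh S).symm Qh

instance : (LD S).IsLeftDerivedFunctor (facIso S).hom
    (HomotopyCategory.quasiIso (ModuleCat.{u} A) (ComplexShape.up ℤ)) :=
  Functor.isLeftDerivedFunctor_of_inverts _ _ _

variable [DRing.HasLBaseChange (algebraMap A (Localization S))]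

/-- **Derived base change to a localization is the exact localization functor.** -/
noncomputable def lbaseLocIso :
    DRing.LBaseChange (algebraMap A (Localization S)) ≅ LD S :=
  Functor.leftDerivedUnique _ _
    ((DRing.baseChangeKh (algebraMap A (Localization S))).totalLeftDerivedCounit Qh
      (HomotopyCategory.quasiIso (ModuleCat.{u} A) (ComplexShape.up ℤ)))
    (facIso S).hom (HomotopyCategory.quasiIso (ModuleCat.{u} A) (ComplexShape.up ℤ))

theorem isDualizing_LBaseChange_localization (ω : Dual.D A) (hω : Dual.IsDualizing A ω) :
    Dual.IsDualizing (Localization S)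
      ((DRing.LBaseChange (algebraMap A (Localization S))).obj ω) :=
  Groth.Agent.Lib.H29DualPrime.isDualizing_of_iso (Localization S)
    ((lbaseLocIso S).app ω).symm (isDualizing_LD S ω hω)

end Groth.Agent.Lib.H29LBaseLoc
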