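import Groth.Agent.Lib.H29LDPair

/-!
# Exact sequences for `X_j(M) = Hom_D(M[0], W[j])` and their `E`-duals (helper29)

For a short exact sequence `0 → M₁ → M₂ → M₃ → 0` with extension class `ξ`:
* `Xmap g : X_j(M') → X_j(M)`, `δX : X_{j'}(M₁) → X_j(M₃)` (`j' + 1 = j`), `φ ↦ ξ · φ`;
* exactness `X_exact₁`, `X_exact₂`, `X_exact₃`;
* for an injective module `E`: `Rmap g : Hom(X_j(M), E) → Hom(X_j(M'), E)`, `δR`, and exactness
  `R_exact₁`, `R_exact₂`, `R_exact₃`.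
-/

set_option autoImplicit false
set_option maxHeartbeats 400000
universe u
open CategoryTheory CategoryTheory.Limits Category Pretriangulated Opposite

namespace Groth.Agent.Lib.H29LDExact

attribute [local instance] HasDerivedCategory.standard

open Groth.Agent.Lib.LocCohLES Abelian DerivedCategory

variable {A : Type u} [CommRing A] (W : Dual.D A)

/-- dual exactness: if `ker v = range u` and `θ ∘ u = 0` then `θ` factors through `v` -/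
theorem exists_factor {E : Type u} [AddCommGroup E] [Module A E] (hE : Module.Injective A E)
    {X Y Z : Type*} [AddCommGroup X] [Module A X] [AddCommGroup Y] [Module A Y]
    [AddCommGroup Z] [Module A Z] (u' : X →ₗ[A] Y) (v : Y →ₗ[A] Z) (huv : Function.Exact u' v)
    (θ : Y →ₗ[A] E) (hθ : θ ∘ₗ u' = 0) : ∃ θ' : Z →ₗ[A] E, θ' ∘ₗ v = θ := by
  have hle : LinearMap.ker v ≤ LinearMap.ker θ := by
    intro y hy
    obtain ⟨x, rfl⟩ := (huv y).mp hy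
    exact LinearMap.congr_fun hθ x
  let v' : (Y ⧸ LinearMap.ker v) →ₗ[A] Z := (LinearMap.ker v).liftQ v le_rfl
  have hv' : Function.Injective v' :=
    LinearMap.ker_eq_bot.mp (Submodule.ker_liftQ_eq_bot _ _ _ le_rfl)
  let θb : (Y ⧸ LinearMap.ker v) →ₗ[A] E := (LinearMap.ker v).liftQ θ hle
  haveI := hE
  obtain ⟨θ', hθ'⟩ := Module.Injective.extension_property A E _ _ v' hv' θb
  refine ⟨θ', ?_⟩
  apply LinearMap.ext
  intro y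
  have := LinearMap.congr_fun hθ' (Submodule.Quotient.mk y)
  exact this

section X

variable {M M' M'' : Type u} [AddCommGroup M] [Module A M] [AddCommGroup M'] [Module A M']
  [AddCommGroup M''] [Module A M'']

/-- `X_j(g) : X_j(M') → X_j(M)` -/
noncomputable def Xmap (j : ℤ) (g : M →ₗ[A] M') :
    (Dual.inD A M' ⟶ W⟦j⟧) →ₗ[A] (Dual.inD A M ⟶ W⟦j⟧) :=
  Linear.leftComp A (W⟦j⟧) ((singleFunctor (ModuleCat.{u} A) 0).map (ModuleCat.ofHom g))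

lemma Xmap_apply (j : ℤ) (g : M →ₗ[A] M') (φ' : Dual.inD A M' ⟶ W⟦j⟧) :
    Xmap W j g φ' = (singleFunctor (ModuleCat.{u} A) 0).map (ModuleCat.ofHom g) ≫ φ' := rfl

lemma Xmap_smul_id (j : ℤ) (a : A) (φ : Dual.inD A M ⟶ W⟦j⟧) :
    Xmap W j (a • (LinearMap.id : M →ₗ[A] M)) φ = a • φ := by
  rw [Xmap_apply, Groth.Agent.Lib.H29DualLocal.singleFunctor_map_smul_id, Linear.smul_comp,
    Category.id_comp]

end X

section ses

variable {M₁ M₂ M₃ : Type u} [AddCommGroup M₁] [Module A M₁] [AddCommGroup M₂] [Module A M₂]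
  [AddCommGroup M₃] [Module A M₃]
  (f₁ : M₁ →ₗ[A] M₂) (g₁ : M₂ →ₗ[A] M₃)
  (hf₁ : Function.Injective f₁) (hfg₁ : Function.Exact f₁ g₁) (hg₁ : Function.Surjective g₁)

/-- the connecting map `X_{j'}(M₁) → X_j(M₃)`, `φ ↦ ξ · φ` -/
noncomputable def δX (j' j : ℤ) (h : j' + ((1 : ℕ) : ℤ) = j) :
    (Dual.inD A M₁ ⟶ W⟦j'⟧) →ₗ[A] (Dual.inD A M₃ ⟶ W⟦j⟧) where
  toFun φ := (ses_shortExact f₁ g₁ hf₁ hfg₁ hg₁).extClass.hom.comp φ h
  map_add' φ φ' := ShiftedHom.comp_add _ _ _ _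
  map_smul' a φ := ShiftedHom.comp_smul _ _ _ _

lemma δX_apply (j' j : ℤ) (h : j' + ((1 : ℕ) : ℤ) = j) (φ : Dual.inD A M₁ ⟶ W⟦j'⟧) :
    δX W f₁ g₁ hf₁ hfg₁ hg₁ j' j h φ =
      (ses_shortExact f₁ g₁ hf₁ hfg₁ hg₁).extClass.hom.comp φ h := rfl

lemma δX_eq (j' j : ℤ) (h : j' + ((1 : ℕ) : ℤ) = j) (φ : Dual.inD A M₁ ⟶ W⟦j'⟧) :
    δX W f₁ g₁ hf₁ hfg₁ hg₁ j' j h φ =
      ((ses_shortExact f₁ g₁ hf₁ hfg₁ hg₁).singleTriangle.mor₃ ≫ φ⟦(1 : ℤ)⟧') ≫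
        (shiftFunctorAdd' (Dual.D A) j' 1 j h).inv.app W := by
  rw [δX_apply, ShortComplex.ShortExact.extClass_hom]
  simp only [ShiftedHom.comp, Category.assoc]
  rfl

/-- exactness at `X_{j'}(M₁)`: `ker δX = range X(f₁)` -/
theorem X_exact₁ (j' j : ℤ) (h : j' + ((1 : ℕ) : ℤ) = j) :
    Function.Exact (Xmap W j' f₁) (δX W f₁ g₁ hf₁ hfg₁ hg₁ j' j h) := by
  have hT := (ses_shortExact f₁ g₁ hf₁ hfg₁ hg₁).singleTriangle_distinguished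
  intro φ
  constructor
  · intro hφ
    rw [δX_eq] at hφ
    have h0 : (ses_shortExact f₁ g₁ hf₁ hfg₁ hg₁).singleTriangle.mor₃ ≫ φ⟦(1 : ℤ)⟧' = 0 := by
      rw [← cancel_mono ((shiftFunctorAdd' (Dual.D A) j' 1 j h).inv.app W), hφ, zero_comp]
      rfl
    obtain ⟨ψ, hψ⟩ := Groth.Agent.Lib.H29Bidual.yoneda_exact₁ _ hT φ h0
    exact ⟨ψ, hψ.symm⟩
  · rintro ⟨ψ, rfl⟩
    rw [δX_apply, Xmap_apply]
    have h1 := ShiftedHom.comp_assoc (ses_shortExact f₁ g₁ hf₁ hfg₁ hg₁).extClass.hom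
      (ShiftedHom.mk₀ ((0 : ℕ) : ℤ) (by simp)
        ((singleFunctor (ModuleCat.{u} A) 0).map (ModuleCat.ofHom f₁))) ψ
      (by simp : ((0 : ℕ) : ℤ) + ((1 : ℕ) : ℤ) = ((1 : ℕ) : ℤ)) (by simp : j' + ((0 : ℕ) : ℤ) = j')
      (by simpa using h : j' + ((0 : ℕ) : ℤ) + ((1 : ℕ) : ℤ) = j)
    rw [ShiftedHom.mk₀_comp] at h1
    rw [← h1]
    have h2 : (ses_shortExact f₁ g₁ hf₁ hfg₁ hg₁).extClass.comp
        (Ext.mk₀ (ModuleCat.ofHom f₁)) (add_zero 1) = 0 :=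
      (ses_shortExact f₁ g₁ hf₁ hfg₁ hg₁).extClass_comp
    have h3 := congrArg Ext.hom h2
    rw [Ext.comp_hom, Ext.mk₀_hom] at h3
    rw [h3]
    have h4 : (0 : Ext.{u} (ModuleCat.of A M₃) (ModuleCat.of A M₂) 1).hom = 0 := by
      rw [← Ext.homAddEquiv_apply, map_zero]
    rw [h4, ShiftedHom.zero_comp]

/-- exactness at `X_j(M₃)`: `ker X(g₁) = range δX` -/
theorem X_exact₃ (j' j : ℤ) (h : j' + ((1 : ℕ) : ℤ) = j) :
    Function.Exact (δX W f₁ g₁ hf₁ hfg₁ hg₁ j' j h) (Xmap W j g₁) := by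
  have hT := (ses_shortExact f₁ g₁ hf₁ hfg₁ hg₁).singleTriangle_distinguished
  intro ψ
  constructor
  · intro hψ
    obtain ⟨φ, hφ⟩ := Groth.Agent.Lib.H29Bidual.yoneda_exact₃' _ hT j' j h ψ hψ
    refine ⟨φ, ?_⟩
    rw [δX_eq]
    exact hφ.symm
  · rintro ⟨φ, rfl⟩
    rw [δX_apply, Xmap_apply]
    have h1 := ShiftedHom.comp_assoc
      (ShiftedHom.mk₀ ((0 : ℕ) : ℤ) (by simp)
        ((singleFunctor (ModuleCat.{u} A) 0).map (ModuleCat.ofHom g₁)))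
      (ses_shortExact f₁ g₁ hf₁ hfg₁ hg₁).extClass.hom φ
      (by simp : ((1 : ℕ) : ℤ) + ((0 : ℕ) : ℤ) = ((1 : ℕ) : ℤ)) h
      (by simpa using h : j' + ((1 : ℕ) : ℤ) + ((0 : ℕ) : ℤ) = j)
    have h5 := ShiftedHom.mk₀_comp ((0 : ℕ) : ℤ) (by simp)
      ((singleFunctor (ModuleCat.{u} A) 0).map (ModuleCat.ofHom g₁))
      ((ses_shortExact f₁ g₁ hf₁ hfg₁ hg₁).extClass.hom.comp φ h)
    rw [h5] at h1
    rw [← h1]
    have h2 : (Ext.mk₀ (ModuleCat.ofHom g₁)).comp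
        (ses_shortExact f₁ g₁ hf₁ hfg₁ hg₁).extClass (zero_add 1) = 0 :=
      (ses_shortExact f₁ g₁ hf₁ hfg₁ hg₁).comp_extClass
    have h3 := congrArg Ext.hom h2
    rw [Ext.comp_hom, Ext.mk₀_hom] at h3
    rw [h3]
    have h4 : (0 : Ext.{u} (ModuleCat.of A M₂) (ModuleCat.of A M₁) 1).hom = 0 := by
      rw [← Ext.homAddEquiv_apply, map_zero]
    rw [h4, ShiftedHom.zero_comp]

include hf₁ hfg₁ hg₁ in
/-- exactness at `X_j(M₂)` -/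
theorem X_exact₂ (j : ℤ) : Function.Exact (Xmap W j g₁) (Xmap W j f₁) := by
  have hT := (ses_shortExact f₁ g₁ hf₁ hfg₁ hg₁).singleTriangle_distinguished
  intro φ
  constructor
  · intro hφ
    obtain ⟨ψ, hψ⟩ := Triangle.yoneda_exact₂ _ hT φ hφ
    exact ⟨ψ, hψ.symm⟩
  · rintro ⟨ψ, rfl⟩
    rw [Xmap_apply, Xmap_apply, ← Category.assoc, ← Functor.map_comp]
    have : ModuleCat.ofHom f₁ ≫ ModuleCat.ofHom g₁ = 0 := by
      ext x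
      exact hfg₁.apply_apply_eq_zero x
    rw [this, Functor.map_zero, zero_comp]

end ses

section R

variable {E : Type u} [AddCommGroup E] [Module A E] (hE : Module.Injective A E)

include hE in
/-- `Hom(-, E)` turns exact sequences into exact sequences -/
theorem lcomp_exact {X Y Z : Type*} [AddCommGroup X] [Module A X] [AddCommGroup Y] [Module A Y]
    [AddCommGroup Z] [Module A Z] (u' : X →ₗ[A] Y) (v : Y →ₗ[A] Z) (huv : Function.Exact u' v) :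
    Function.Exact (LinearMap.lcomp A E v) (LinearMap.lcomp A E u') := by
  intro θ
  constructor
  · intro hθ
    obtain ⟨θ', hθ'⟩ := exists_factor hE u' v huv θ hθ
    exact ⟨θ', hθ'⟩
  · rintro ⟨θ', rfl⟩
    apply LinearMap.ext
    intro x
    change θ' (v (u' x)) = 0
    rw [huv.apply_apply_eq_zero, map_zero]

variable {M M' : Type u} [AddCommGroup M] [Module A M] [AddCommGroup M'] [Module A M']

/-- `R_j(g) : Hom(X_j(M), E) → Hom(X_j(M'), E)` -/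
noncomputable def Rmap (j : ℤ) (g : M →ₗ[A] M') :
    ((Dual.inD A M ⟶ W⟦j⟧) →ₗ[A] E) →ₗ[A] ((Dual.inD A M' ⟶ W⟦j⟧) →ₗ[A] E) :=
  LinearMap.lcomp A E (Xmap W j g)

lemma Rmap_apply (j : ℤ) (g : M →ₗ[A] M') (θ : (Dual.inD A M ⟶ W⟦j⟧) →ₗ[A] E)
    (φ' : Dual.inD A M' ⟶ W⟦j⟧) :
    Rmap W j g θ φ' = θ ((singleFunctor (ModuleCat.{u} A) 0).map (ModuleCat.ofHom g) ≫ φ') := rfl

lemma Rmap_smul_id (j : ℤ) (a : A) (θ : (Dual.inD A M ⟶ W⟦j⟧) →ₗ[A] E) :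
    Rmap W j (a • (LinearMap.id : M →ₗ[A] M)) θ = a • θ := by
  apply LinearMap.ext
  intro φ
  change θ (Xmap W j (a • (LinearMap.id : M →ₗ[A] M)) φ) = _
  rw [Xmap_smul_id, map_smul, LinearMap.smul_apply]

variable {M₁ M₂ M₃ : Type u} [AddCommGroup M₁] [Module A M₁] [AddCommGroup M₂] [Module A M₂]
  [AddCommGroup M₃] [Module A M₃]
  (f₁ : M₁ →ₗ[A] M₂) (g₁ : M₂ →ₗ[A] M₃)
  (hf₁ : Function.Injective f₁) (hfg₁ : Function.Exact f₁ g₁) (hg₁ : Function.Surjective g₁)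

/-- the connecting map `R_j(M₃) → R_{j'}(M₁)` -/
noncomputable def δR (j' j : ℤ) (h : j' + ((1 : ℕ) : ℤ) = j) :
    ((Dual.inD A M₃ ⟶ W⟦j⟧) →ₗ[A] E) →ₗ[A] ((Dual.inD A M₁ ⟶ W⟦j'⟧) →ₗ[A] E) :=
  LinearMap.lcomp A E (δX W f₁ g₁ hf₁ hfg₁ hg₁ j' j h)

lemma δR_apply (j' j : ℤ) (h : j' + ((1 : ℕ) : ℤ) = j) (θ : (Dual.inD A M₃ ⟶ W⟦j⟧) →ₗ[A] E)
    (φ : Dual.inD A M₁ ⟶ W⟦j'⟧) :
    δR W f₁ g₁ hf₁ hfg₁ hg₁ j' j h θ φ =
      θ ((ses_shortExact f₁ g₁ hf₁ hfg₁ hg₁).extClass.hom.comp φ h) := rfl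

include hE in
theorem R_exact₃ (j' j : ℤ) (h : j' + ((1 : ℕ) : ℤ) = j) :
    Function.Exact (Rmap (E := E) W j g₁) (δR W f₁ g₁ hf₁ hfg₁ hg₁ j' j h) :=
  lcomp_exact hE _ _ (X_exact₃ W f₁ g₁ hf₁ hfg₁ hg₁ j' j h)

include hE in
theorem R_exact₁ (j' j : ℤ) (h : j' + ((1 : ℕ) : ℤ) = j) :
    Function.Exact (δR W f₁ g₁ hf₁ hfg₁ hg₁ j' j h) (Rmap (E := E) W j' f₁) :=
  lcomp_exact hE _ _ (X_exact₁ W f₁ g₁ hf₁ hfg₁ hg₁ j' j h)

include hE hf₁ hfg₁ hg₁ in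
theorem R_exact₂ (j : ℤ) : Function.Exact (Rmap (E := E) W j f₁) (Rmap (E := E) W j g₁) :=
  lcomp_exact hE _ _ (X_exact₂ W f₁ g₁ hf₁ hfg₁ hg₁ j)

end R

end Groth.Agent.Lib.H29LDExact
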