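import Groth.Agent.Lib.H29FLDualColim
import Groth.Agent.Lib.LocCohLES
import Groth.Agent.Lib.LocCohH0

/-!
# The local duality pairing `H^i_m(M) × Hom_D(M, ω[-i]) → E` (helper29)

`A` Noetherian local, `ω` a normalized dualizing complex, `E` an injective hull of the residue field.
* `eps0 n : Hom_D(A/m^n[0], ω[0]) → E`: the compatible system of `H29FLDual`.
* `pair n i j : Ext^i(A/m^n, M) → Hom_A(Hom_D(M[0], ω[j]), E)` for `j + i = 0`,
  `x ↦ (φ ↦ ε_n(x · φ))`.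
* `Psi i j : H^i_m(M) → Hom_A(Hom_D(M[0], ω[j]), E)` and `Psi_HιE`.
-/

set_option autoImplicit false
set_option maxHeartbeats 400000
universe u
open CategoryTheory CategoryTheory.Limits Opposite

namespace Groth.Agent.Lib.H29LDPair

attribute [local instance] HasDerivedCategory.standard

open Groth.Agent.Lib.H29FLDual Groth.Agent.Lib.H29FLDualD Groth.Agent.Lib.LocCohConcrete
  Groth.Agent.Lib.LocCohLES IsLocalRing Abelian DerivedCategory

variable (A : Type u) [CommRing A] [IsLocalRing A] [IsNoetherianRing A] (ω : Dual.D A)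
  (hω : Dual.IsDualizing A ω) (hn : Dual.IsNormalized A ω)
  {E : Type u} [AddCommGroup E] [Module A E]
  (f : ResidueField A →ₗ[A] E) (hf : InjHull.IsInjectiveHull f)

/-- the functor `N ↦ Hom_D(N[0], ω[0])` -/
noncomputable abbrev F0 : (ModuleCat.{u} A)ᵒᵖ ⥤ ModuleCat.{u + 1} A := FK A (ω⟦(0 : ℤ)⟧)

include hn in
lemma hF0 : IsFLDual (F0 A ω) :=
  isFLDual_of_normalized A ω hn _ ((shiftFunctorZero (Dual.D A) ℤ).app ω)

/-- a chosen isomorphism `Hom_D(κ[0], ω[0]) ≃ κ` -/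
noncomputable def eκ0 : Fo (F0 A ω) (ResidueField A) ≃ₗ[A] ResidueField A :=
  (nonempty_FK_residue_equiv A ω hω hn _ ((shiftFunctorZero (Dual.D A) ℤ).app ω)).some

/-- `ε_n : Hom_D(A/m^n[0], ω[0]) → E` -/
noncomputable def eps0 (n : ℕ) :
    (Dual.inD A (A ⧸ maximalIdeal A ^ n) ⟶ ω⟦(0 : ℤ)⟧) →ₗ[A] E :=
  epsilon (hF0 A ω hn) f hf (eκ0 A ω hω hn) n

lemma eps0_tr {n k : ℕ} (h : n ≤ k) (ψ : Dual.inD A (A ⧸ maximalIdeal A ^ n) ⟶ ω⟦(0 : ℤ)⟧) :
    eps0 A ω hω hn f hf k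
      ((singleFunctor (ModuleCat.{u} A) 0).map (proj (maximalIdeal A) h) ≫ ψ) =
      eps0 A ω hω hn f hf n ψ := by
  have := epsilon_comp_tr (hF0 A ω hn) f hf (eκ0 A ω hω hn) h
  exact LinearMap.congr_fun this ψ

lemma eps0_injective (n : ℕ) : Function.Injective (eps0 A ω hω hn f hf n) :=
  epsilon_injective (hF0 A ω hn) f hf (eκ0 A ω hω hn) n

section pair

variable (n i : ℕ) (j : ℤ) (hij : j + (i : ℤ) = 0) (M : Type u) [AddCommGroup M] [Module A M]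

/-- the pairing at level `n`: `x ↦ (φ ↦ ε_n(x · φ))` -/
noncomputable def pair :
    Ext.{u} (Q (maximalIdeal A) n) (ModuleCat.of A M) i →ₗ[A]
      ((Dual.inD A M ⟶ ω⟦j⟧) →ₗ[A] E) where
  toFun x :=
    { toFun := fun φ => eps0 A ω hω hn f hf n (x.hom.comp φ hij)
      map_add' := fun φ φ' => by rw [ShiftedHom.comp_add, map_add]
      map_smul' := fun a φ => by rw [ShiftedHom.comp_smul, map_smul, RingHom.id_apply] }
  map_add' x x' := by
    apply LinearMap.ext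
    intro φ
    simp only [LinearMap.coe_mk, AddHom.coe_mk, LinearMap.add_apply]
    rw [Ext.add_hom, ShiftedHom.add_comp, map_add]
  map_smul' a x := by
    apply LinearMap.ext
    intro φ
    simp only [LinearMap.coe_mk, AddHom.coe_mk, LinearMap.smul_apply, RingHom.id_apply]
    rw [Ext.smul_hom, ShiftedHom.smul_comp, map_smul]

lemma pair_apply (x : Ext.{u} (Q (maximalIdeal A) n) (ModuleCat.of A M) i)
    (φ : Dual.inD A M ⟶ ω⟦j⟧) :
    pair A ω hω hn f hf n i j hij M x φ = eps0 A ω hω hn f hf n (x.hom.comp φ hij) := rfl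

lemma pair_compat {n k : ℕ} (h : n ≤ k)
    (x : Ext.{u} (Q (maximalIdeal A) n) (ModuleCat.of A M) i) :
    pair A ω hω hn f hf k i j hij M ((Ext.mk₀ (proj (maximalIdeal A) h)).comp x (zero_add i)) =
      pair A ω hω hn f hf n i j hij M x := by
  apply LinearMap.ext
  intro φ
  rw [pair_apply, pair_apply, Ext.comp_hom, Ext.mk₀_hom, ShiftedHom.mk₀_comp]
  have : ShiftedHom.comp (a := (i : ℤ))
      ((singleFunctor (ModuleCat.{u} A) 0).map (proj (maximalIdeal A) h) ≫ x.hom) φ hij =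
      (singleFunctor (ModuleCat.{u} A) 0).map (proj (maximalIdeal A) h) ≫ x.hom.comp φ hij := by
    simp only [ShiftedHom.comp, Category.assoc]
  rw [this]
  exact eps0_tr A ω hω hn f hf h _

variable [Small.{u} (Dual.inD A M ⟶ ω⟦j⟧)]

/-- `Hom(X, E) ≃ Hom(Shrink X, E)` -/
noncomputable def shrinkEquiv :
    (Shrink.{u} (Dual.inD A M ⟶ ω⟦j⟧) →ₗ[A] E) ≃ₗ[A] ((Dual.inD A M ⟶ ω⟦j⟧) →ₗ[A] E) :=
  LinearEquiv.arrowCongr (Shrink.linearEquiv A (Dual.inD A M ⟶ ω⟦j⟧)) (LinearEquiv.refl A E)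

/-- the local duality map `H^i_m(M) → Hom_A(Hom_D(M[0], ω[j]), E)`, `j + i = 0` -/
noncomputable def Psi :
    LocCoh.H (maximalIdeal A) i M →ₗ[A] ((Dual.inD A M ⟶ ω⟦j⟧) →ₗ[A] E) :=
  (shrinkEquiv A ω j M).toLinearMap ∘ₗ
    Hdesc (maximalIdeal A) M i (Shrink.{u} (Dual.inD A M ⟶ ω⟦j⟧) →ₗ[A] E)
      (fun n => (shrinkEquiv A ω j M).symm.toLinearMap ∘ₗ pair A ω hω hn f hf n i j hij M)
      (fun n k h x => by
        rw [LinearMap.comp_apply, LinearMap.comp_apply, pair_compat])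

lemma Psi_HιE (n : ℕ) (x : Ext.{u} (Q (maximalIdeal A) n) (ModuleCat.of A M) i) :
    Psi A ω hω hn f hf i j hij M (HιE (maximalIdeal A) M i n x) =
      pair A ω hω hn f hf n i j hij M x := by
  unfold Psi
  rw [LinearMap.comp_apply, Hdesc_HιE, LinearMap.comp_apply]
  exact LinearEquiv.apply_symm_apply _ _

end pair

section natural

variable (i : ℕ) (j : ℤ) (hij : j + (i : ℤ) = 0)
  {M M' : Type u} [AddCommGroup M] [Module A M] [AddCommGroup M'] [Module A M']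
  [Small.{u} (Dual.inD A M ⟶ ω⟦j⟧)] [Small.{u} (Dual.inD A M' ⟶ ω⟦j⟧)]

/-- naturality of `Psi` in the module -/
lemma Psi_Hmap (g : M →ₗ[A] M') (y : LocCoh.H (maximalIdeal A) i M) (φ' : Dual.inD A M' ⟶ ω⟦j⟧) :
    Psi A ω hω hn f hf i j hij M' (Hmap (maximalIdeal A) g i y) φ' =
      Psi A ω hω hn f hf i j hij M y
        ((singleFunctor (ModuleCat.{u} A) 0).map (ModuleCat.ofHom g) ≫ φ') := by
  obtain ⟨n, x, rfl⟩ := exists_rep (maximalIdeal A) M i y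
  rw [Hmap_HιE, Psi_HιE, Psi_HιE, pair_apply, pair_apply, Ext.comp_hom, Ext.mk₀_hom]
  have h1 := ShiftedHom.comp_assoc x.hom
    (ShiftedHom.mk₀ ((0 : ℕ) : ℤ) (by simp)
      ((singleFunctor (ModuleCat.{u} A) 0).map (ModuleCat.ofHom g))) φ'
    (by simp : ((0 : ℕ) : ℤ) + (i : ℤ) = (i : ℤ)) (by simp : j + ((0 : ℕ) : ℤ) = j)
    (by simpa using hij : j + ((0 : ℕ) : ℤ) + (i : ℤ) = 0)
  rw [ShiftedHom.mk₀_comp] at h1
  rw [← h1]

end natural

section delta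

variable {M₁ M₂ M₃ : Type u} [AddCommGroup M₁] [Module A M₁] [AddCommGroup M₂] [Module A M₂]
  [AddCommGroup M₃] [Module A M₃]
  (f₁ : M₁ →ₗ[A] M₂) (g₁ : M₂ →ₗ[A] M₃)
  (hf₁ : Function.Injective f₁) (hfg₁ : Function.Exact f₁ g₁) (hg₁ : Function.Surjective g₁)
  (i : ℕ) (j j' : ℤ) (hij : j + (i : ℤ) = 0) (hij' : j' + ((i + 1 : ℕ) : ℤ) = 0)
  [Small.{u} (Dual.inD A M₃ ⟶ ω⟦j⟧)] [Small.{u} (Dual.inD A M₁ ⟶ ω⟦j'⟧)]

/-- compatibility of `Psi` with the connecting maps -/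
lemma Psi_Hδ (y : LocCoh.H (maximalIdeal A) i M₃) (φ : Dual.inD A M₁ ⟶ ω⟦j'⟧) :
    Psi A ω hω hn f hf (i + 1) j' hij' M₁ (Hδ (maximalIdeal A) f₁ g₁ hf₁ hfg₁ hg₁ i y) φ =
      Psi A ω hω hn f hf i j hij M₃ y
        ((ses_shortExact f₁ g₁ hf₁ hfg₁ hg₁).extClass.hom.comp φ
          (by push_cast at hij'; omega : j' + ((1 : ℕ) : ℤ) = j)) := by
  obtain ⟨n, x, rfl⟩ := exists_rep (maximalIdeal A) M₃ i y
  rw [Hδ_HιE, Psi_HιE, Psi_HιE, pair_apply, pair_apply, Ext.comp_hom]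
  rw [ShiftedHom.comp_assoc x.hom (ses_shortExact f₁ g₁ hf₁ hfg₁ hg₁).extClass.hom φ
    (by push_cast; ring) (by push_cast at hij'; omega : j' + ((1 : ℕ) : ℤ) = j)
    (by push_cast at hij' ⊢; omega)]

end delta

end Groth.Agent.Lib.H29LDPair
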