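import Groth.Agent.Lib.H29ResField
import Groth.Agent.Lib.DDevissage
import Mathlib.Algebra.Homology.DerivedCategory.ExactFunctor

/-!
# Localization of `Hom` in the derived category (helper29)

`G : Mod R ⥤ Mod B` an exact additive functor, semilinear over `R → B`, `S ⊆ R` a submonoid.
`Inj G S K T`: a morphism `f : K ⟶ T` of `D(R)` killed by `G` is killed by some `s ∈ S`.
`Surj G S K T`: every morphism `G K ⟶ G T` of `D(B)` is, up to a denominator in `S`, in the image.

* `IS_of_triangle`: five lemma (elementwise).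
* `IS_single`: base case `K = N[-m]`, `N` finite module, `T = Q J`, `J` a bounded below complex of
  injectives whose image under `G` is termwise injective.
* `IS_of_bounded`: dévissage to `K ∈ D^b` with finite cohomology.
-/

set_option autoImplicit false
universe u
open CategoryTheory CategoryTheory.Limits Category Pretriangulated DerivedCategory
  HomologicalComplex

namespace Groth.Agent.Lib.H29LocD

attribute [local instance] HasDerivedCategory.standard

variable {R B : Type u} [CommRing R] [CommRing B] [Algebra R B]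
  (G : ModuleCat.{u} R ⥤ ModuleCat.{u} B) [G.Additive] [PreservesFiniteLimits G]
  [PreservesFiniteColimits G]

/-- semilinearity of `G` over `R → B` -/
def SemiLin : Prop :=
  ∀ (a : R) {M N : ModuleCat.{u} R} (f : M ⟶ N), G.map (a • f) = algebraMap R B a • G.map f

variable {G}

lemma mapHC_map_smul (hsm : SemiLin G) (a : R) {X Y : CochainComplex (ModuleCat.{u} R) ℤ}
    (f : X ⟶ Y) :
    (G.mapHomologicalComplex (ComplexShape.up ℤ)).map (a • f) =
      algebraMap R B a • (G.mapHomologicalComplex (ComplexShape.up ℤ)).map f := by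
  ext i : 1
  simp only [Functor.mapHomologicalComplex_map_f, HomologicalComplex.smul_f_apply]
  exact hsm a (f.f i)

lemma GD_map_smul_id (hsm : SemiLin G) (a : R) (X : CochainComplex (ModuleCat.{u} R) ℤ) :
    G.mapDerivedCategory.map (a • 𝟙 (Q.obj X)) =
      algebraMap R B a • 𝟙 (G.mapDerivedCategory.obj (Q.obj X)) := by
  have h1 : a • 𝟙 (Q.obj X) = Q.map (a • 𝟙 X) := by
    rw [Functor.map_smul, CategoryTheory.Functor.map_id]
  rw [h1]
  have h2 := G.mapDerivedCategoryFactors_hom_naturality (a • 𝟙 X)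
  have h3 : Q.map ((G.mapHomologicalComplex (ComplexShape.up ℤ)).map (a • 𝟙 X)) =
      algebraMap R B a • 𝟙 (Q.obj ((G.mapHomologicalComplex (ComplexShape.up ℤ)).obj X)) := by
    rw [mapHC_map_smul hsm, CategoryTheory.Functor.map_id, Functor.map_smul,
      CategoryTheory.Functor.map_id]
  rw [h3, Linear.comp_smul] at h2
  rw [← cancel_mono (G.mapDerivedCategoryFactors.hom.app X), h2, Linear.smul_comp, id_comp]
  congr 1
  exact comp_id _

lemma GD_map_smul (hsm : SemiLin G) (a : R) {K T : Dual.D R} (f : K ⟶ T) :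
    G.mapDerivedCategory.map (a • f) = algebraMap R B a • G.mapDerivedCategory.map f := by
  let e : Q.obj (Q.objPreimage T) ≅ T := Q.objObjPreimageIso T
  have h1 : a • f = f ≫ e.inv ≫ (a • 𝟙 (Q.obj (Q.objPreimage T))) ≫ e.hom := by
    rw [Linear.smul_comp, Linear.comp_smul, Linear.comp_smul, id_comp, e.inv_hom_id, comp_id]
  rw [h1, Functor.map_comp, Functor.map_comp, Functor.map_comp, GD_map_smul_id hsm,
    Linear.smul_comp, Linear.comp_smul, Linear.comp_smul, id_comp, ← Functor.map_comp,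
    e.inv_hom_id, CategoryTheory.Functor.map_id, comp_id]

variable (G) (S : Submonoid R)

/-- a morphism killed by `G` is killed by an element of `S` -/
def Inj (K T : Dual.D R) : Prop :=
  ∀ f : K ⟶ T, G.mapDerivedCategory.map f = 0 → ∃ s : S, (s : R) • f = 0

/-- every morphism between the images is in the image, up to a denominator in `S` -/
def Surj (K T : Dual.D R) : Prop :=
  ∀ g : G.mapDerivedCategory.obj K ⟶ G.mapDerivedCategory.obj T,
    ∃ (s : S) (f : K ⟶ T), algebraMap R B (s : R) • g = G.mapDerivedCategory.map f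

variable {G S}

lemma Inj.of_iso_left {K K' T : Dual.D R} (e : K ≅ K') (h : Inj G S K T) : Inj G S K' T := by
  intro f hf
  obtain ⟨s, hs⟩ := h (e.hom ≫ f) (by rw [Functor.map_comp, hf, comp_zero])
  refine ⟨s, ?_⟩
  rw [← cancel_epi e.hom, Linear.comp_smul, hs, comp_zero]

lemma Surj.of_iso_left {K K' T : Dual.D R} (e : K ≅ K') (h : Surj G S K T) : Surj G S K' T := by
  intro g
  obtain ⟨s, f, hf⟩ := h (G.mapDerivedCategory.map e.hom ≫ g)
  refine ⟨s, e.inv ≫ f, ?_⟩
  rw [Functor.map_comp, ← hf, Linear.comp_smul, ← assoc, ← Functor.map_comp, e.inv_hom_id,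
    CategoryTheory.Functor.map_id, id_comp]

lemma Inj.of_iso_right {K T T' : Dual.D R} (e : T ≅ T') (h : Inj G S K T) : Inj G S K T' := by
  intro f hf
  obtain ⟨s, hs⟩ := h (f ≫ e.inv) (by rw [Functor.map_comp, hf, zero_comp])
  refine ⟨s, ?_⟩
  rw [← cancel_mono e.inv, Linear.smul_comp, hs, zero_comp]

lemma Surj.of_iso_right {K T T' : Dual.D R} (e : T ≅ T') (h : Surj G S K T) : Surj G S K T' := by
  intro g
  obtain ⟨s, f, hf⟩ := h (g ≫ G.mapDerivedCategory.map e.inv)
  refine ⟨s, f ≫ e.hom, ?_⟩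
  rw [Functor.map_comp, ← hf, Linear.smul_comp, assoc, ← Functor.map_comp, e.inv_hom_id,
    CategoryTheory.Functor.map_id, comp_id]

lemma Inj.of_isZero {K T : Dual.D R} (hK : IsZero K) : Inj G S K T := by
  intro f _
  exact ⟨1, by rw [hK.eq_of_src f 0, smul_zero]⟩

lemma Surj.of_isZero {K T : Dual.D R} (hK : IsZero K) : Surj G S K T := by
  intro g
  have h0 : IsZero (G.mapDerivedCategory.obj K) := G.mapDerivedCategory.map_isZero hK
  exact ⟨1, 0, by rw [h0.eq_of_src g 0, smul_zero, Functor.map_zero]⟩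

/-- elementwise five lemma -/
theorem IS_of_triangle (hsm : SemiLin G) (T : Triangle (Dual.D R))
    (hT : T ∈ distTriang (Dual.D R)) (W : Dual.D R)
    (i1 : Inj G S T.obj₁ W) (s1 : Surj G S T.obj₁ W) (s1' : Surj G S (T.obj₁⟦(1 : ℤ)⟧) W)
    (i3 : Inj G S T.obj₃ W) (s3 : Surj G S T.obj₃ W) (i3' : Inj G S (T.obj₃⟦(-1 : ℤ)⟧) W) :
    Inj G S T.obj₂ W ∧ Surj G S T.obj₂ W := by
  have hGT := G.mapDerivedCategory.map_distinguished T hT
  have hinv := inv_rot_of_distTriang T hT
  constructor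
  · intro f hf
    obtain ⟨σ1, hσ1⟩ := i1 (T.mor₁ ≫ f) (by rw [Functor.map_comp, hf, comp_zero])
    rw [← Linear.comp_smul] at hσ1
    obtain ⟨f3, hf3⟩ := Triangle.yoneda_exact₂ T hT ((σ1 : R) • f) hσ1
    have h1 : (G.mapDerivedCategory.mapTriangle.obj T).mor₂ ≫ G.mapDerivedCategory.map f3 = 0 := by
      show G.mapDerivedCategory.map T.mor₂ ≫ G.mapDerivedCategory.map f3 = 0
      rw [← Functor.map_comp, ← hf3, GD_map_smul hsm, hf, smul_zero]
    obtain ⟨k, hk⟩ := Triangle.yoneda_exact₃ _ hGT (G.mapDerivedCategory.map f3) h1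
    replace hk : G.mapDerivedCategory.map f3 = G.mapDerivedCategory.map T.mor₃ ≫
        ((G.mapDerivedCategory.commShiftIso (1 : ℤ)).hom.app T.obj₁ ≫ k) := by
      rw [hk]
      exact assoc _ _ _
    obtain ⟨σ, f1', hf1'⟩ := s1' ((G.mapDerivedCategory.commShiftIso (1 : ℤ)).hom.app T.obj₁ ≫ k)
    obtain ⟨τ, hτ⟩ := i3 ((σ : R) • f3 - T.mor₃ ≫ f1') (by
      rw [Functor.map_sub, GD_map_smul hsm, Functor.map_comp, ← hf1', hk, Linear.comp_smul,
        sub_self])
    refine ⟨τ * σ * σ1, ?_⟩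
    have h2 : (τ : R) • ((σ : R) • f3) = (τ : R) • (T.mor₃ ≫ f1') := by
      rw [smul_sub] at hτ
      exact sub_eq_zero.mp hτ
    have h3 : T.mor₂ ≫ T.mor₃ = 0 := comp_distTriang_mor_zero₂₃ T hT
    calc ((τ * σ * σ1 : S) : R) • f = ((τ : R) * (σ : R)) • ((σ1 : R) • f) := by
          simp only [Submonoid.coe_mul, mul_smul]
      _ = ((τ : R) * (σ : R)) • (T.mor₂ ≫ f3) := by rw [hf3]
      _ = T.mor₂ ≫ ((τ : R) • ((σ : R) • f3)) := by
          rw [mul_smul, Linear.comp_smul, Linear.comp_smul]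
      _ = 0 := by
          rw [h2, Linear.comp_smul, ← assoc, h3, zero_comp, smul_zero]
  · intro g
    obtain ⟨σ1, f1, hf1⟩ := s1 (G.mapDerivedCategory.map T.mor₁ ≫ g)
    let c : T.obj₃⟦(-1 : ℤ)⟧ ⟶ T.obj₁ := T.invRotate.mor₁
    have hz : c ≫ T.mor₁ = 0 := comp_distTriang_mor_zero₁₂ _ hinv
    obtain ⟨τ, hτ⟩ := i3' (c ≫ f1) (by
      rw [Functor.map_comp, ← hf1, Linear.comp_smul, ← assoc, ← Functor.map_comp, hz,
        Functor.map_zero, zero_comp, smul_zero])
    rw [← Linear.comp_smul] at hτ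
    obtain ⟨f2', hf2'⟩ := Triangle.yoneda_exact₂ _ hinv ((τ : R) • f1) hτ
    obtain ⟨f2, hf2⟩ : ∃ f2 : T.obj₂ ⟶ W, (τ : R) • f1 = T.mor₁ ≫ f2 := ⟨f2', hf2'⟩
    have h1 : (G.mapDerivedCategory.mapTriangle.obj T).mor₁ ≫
        (G.mapDerivedCategory.map f2 - algebraMap R B ((τ : R) * (σ1 : R)) • g) = 0 := by
      show G.mapDerivedCategory.map T.mor₁ ≫ _ = 0
      rw [Preadditive.comp_sub, ← Functor.map_comp, ← hf2, GD_map_smul hsm, ← hf1,
        Linear.comp_smul, map_mul, mul_smul, sub_self]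
    obtain ⟨h, hh⟩ := Triangle.yoneda_exact₂ _ hGT _ h1
    replace hh : G.mapDerivedCategory.map f2 - algebraMap R B ((τ : R) * (σ1 : R)) • g =
        G.mapDerivedCategory.map T.mor₂ ≫ h := hh
    obtain ⟨σ3, f3, hf3⟩ := s3 h
    refine ⟨σ3 * τ * σ1, (σ3 : R) • f2 - T.mor₂ ≫ f3, ?_⟩
    rw [Functor.map_sub, GD_map_smul hsm, Functor.map_comp, ← hf3, Linear.comp_smul, ← hh,
      smul_sub, sub_sub_cancel, Submonoid.coe_mul, Submonoid.coe_mul, map_mul, map_mul, map_mul,
      mul_smul, mul_smul, mul_smul]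

/-- the dévissage property: `Inj` and `Surj` for all shifts of the source -/
def P (G : ModuleCat.{u} R ⥤ ModuleCat.{u} B) [G.Additive] [PreservesFiniteLimits G]
    [PreservesFiniteColimits G] (S : Submonoid R) (W : Dual.D R) : ObjectProperty (Dual.D R) :=
  fun K => ∀ n : ℤ, Inj G S (K⟦n⟧) W ∧ Surj G S (K⟦n⟧) W

instance (W : Dual.D R) : (P G S W).IsClosedUnderIsomorphisms where
  of_iso e h n :=
    ⟨(h n).1.of_iso_left ((shiftFunctor (Dual.D R) n).mapIso e),
      (h n).2.of_iso_left ((shiftFunctor (Dual.D R) n).mapIso e)⟩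

lemma P_of_isZero (W : Dual.D R) (K : Dual.D R) (hK : IsZero K) : P G S W K := fun n =>
  ⟨Inj.of_isZero ((shiftFunctor (Dual.D R) n).map_isZero hK),
    Surj.of_isZero ((shiftFunctor (Dual.D R) n).map_isZero hK)⟩

lemma P_ext (hsm : SemiLin G) (W : Dual.D R) (T : Triangle (Dual.D R))
    (hT : T ∈ distTriang (Dual.D R)) (h1 : P G S W T.obj₁) (h3 : P G S W T.obj₃) :
    P G S W T.obj₂ := by
  intro n
  have hT' := Triangle.shift_distinguished T hT n
  exact IS_of_triangle hsm _ hT' W (h1 n).1 (h1 n).2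
    ((h1 (n + 1)).2.of_iso_left ((shiftFunctorAdd' (Dual.D R) n 1 (n + 1) rfl).app T.obj₁))
    (h3 n).1 (h3 n).2
    ((h3 (n - 1)).1.of_iso_left
      ((shiftFunctorAdd' (Dual.D R) n (-1) (n - 1) (by omega)).app T.obj₃))

section Base

open Groth.Agent.Lib.DInjTrunc Groth.Agent.Lib.H29ResField

lemma fromSingle_smul {C : Type*} [Category C] [Abelian C] {A : Type*} [Ring A] [Linear A C]
    (I : CochainComplex C ℤ) (a : ℤ) {M : C} (y : M ⟶ I.X a) (hy : y ≫ I.d a (a + 1) = 0)
    (c : A) : c • fromSingle I a y hy =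
      fromSingle I a (c • y) (by rw [Linear.smul_comp, hy, smul_zero]) := by
  apply from_single_hom_ext
  simp [fromSingle, mkHomFromSingle_f]

/-- comparison of the image of a single complex -/
noncomputable def sIso (G : ModuleCat.{u} R ⥤ ModuleCat.{u} B) [G.Additive] (m : ℤ)
    (N : ModuleCat.{u} R) :
    (single (ModuleCat.{u} B) (ComplexShape.up ℤ) m).obj (G.obj N) ≅
      (G.mapHomologicalComplex (ComplexShape.up ℤ)).obj
        ((single (ModuleCat.{u} R) (ComplexShape.up ℤ) m).obj N) :=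
  ((HomologicalComplex.singleMapHomologicalComplex G (ComplexShape.up ℤ) m).app N).symm

lemma map_d_eq_zero (J : CochainComplex (ModuleCat.{u} R) ℤ) (m : ℤ) {N : ModuleCat.{u} R}
    (y : N ⟶ J.X m) (hy : y ≫ J.d m (m + 1) = 0) :
    G.map y ≫ ((G.mapHomologicalComplex (ComplexShape.up ℤ)).obj J).d m (m + 1) = 0 := by
  show G.map y ≫ G.map (J.d m (m + 1)) = 0
  rw [← G.map_comp, hy, G.map_zero]

lemma sIso_hom_comp (J : CochainComplex (ModuleCat.{u} R) ℤ) (m : ℤ) {N : ModuleCat.{u} R}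
    (y : N ⟶ J.X m) (hy : y ≫ J.d m (m + 1) = 0) :
    (sIso G m N).hom ≫ (G.mapHomologicalComplex (ComplexShape.up ℤ)).map (fromSingle J m y hy) =
      fromSingle ((G.mapHomologicalComplex (ComplexShape.up ℤ)).obj J) m (G.map y)
        (map_d_eq_zero J m y hy) := by
  apply from_single_hom_ext
  rw [HomologicalComplex.comp_f, Functor.mapHomologicalComplex_map_f]
  dsimp only [sIso, fromSingle, Iso.symm_hom, Iso.app_inv]
  rw [singleMapHomologicalComplex_inv_app_self, mkHomFromSingle_f, mkHomFromSingle_f]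
  have key : ∀ {X : ModuleCat.{u} B} {Y Z W : ModuleCat.{u} R} (a : X ⟶ G.obj Z) (i : Y ≅ Z)
      (y : Z ⟶ W), (a ≫ G.map i.inv) ≫ G.map (i.hom ≫ y) = a ≫ G.map y := by
    intro X Y Z W a i y
    rw [assoc, ← G.map_comp, ← assoc i.inv, i.inv_hom_id, id_comp]
  exact key _ (singleObjXSelf (ComplexShape.up ℤ) m N) y

lemma GD_Q_map {X Y : CochainComplex (ModuleCat.{u} R) ℤ} (φ : X ⟶ Y) :
    G.mapDerivedCategory.map (Q.map φ) = G.mapDerivedCategoryFactors.hom.app X ≫
      Q.map ((G.mapHomologicalComplex (ComplexShape.up ℤ)).map φ) ≫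
        G.mapDerivedCategoryFactors.inv.app Y := by
  rw [← assoc, ← Functor.mapDerivedCategoryFactors_hom_naturality, assoc, Iso.hom_inv_id_app]
  exact (comp_id _).symm

lemma Q_map_mapHC_eq_zero {X Y : CochainComplex (ModuleCat.{u} R) ℤ} (φ : X ⟶ Y)
    (h : G.mapDerivedCategory.map (Q.map φ) = 0) :
    Q.map ((G.mapHomologicalComplex (ComplexShape.up ℤ)).map φ) = 0 := by
  rw [GD_Q_map] at h
  rw [← cancel_epi (G.mapDerivedCategoryFactors.hom.app X),
    ← cancel_mono (G.mapDerivedCategoryFactors.inv.app Y), assoc, h, comp_zero, zero_comp]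

variable (hsm : SemiLin G)
  (hinj0 : ∀ (N M : ModuleCat.{u} R) [Module.Finite R N] (f : N ⟶ M), G.map f = 0 →
    ∃ s : S, (s : R) • f = 0)
  (hsurj0 : ∀ (N M : ModuleCat.{u} R) [Module.Finite R N] (g : G.obj N ⟶ G.obj M),
    ∃ (s : S) (f : N ⟶ M), algebraMap R B (s : R) • g = G.map f)

include hsm hinj0 hsurj0

theorem inj_single (N : ModuleCat.{u} R) [Module.Finite R N] (m : ℤ)
    (J : CochainComplex (ModuleCat.{u} R) ℤ) [J.IsKInjective]
    [CochainComplex.IsKInjective ((G.mapHomologicalComplex (ComplexShape.up ℤ)).obj J)] :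
    Inj G S (Q.obj ((single (ModuleCat.{u} R) (ComplexShape.up ℤ) m).obj N)) (Q.obj J) := by
  intro f hf
  obtain ⟨y, hy, rfl⟩ := exists_fromSingle_eq J m f
  have h1 := Q_map_mapHC_eq_zero _ hf
  have h2 : Q.map (fromSingle ((G.mapHomologicalComplex (ComplexShape.up ℤ)).obj J) m (G.map y)
      (map_d_eq_zero J m y hy)) = 0 := by
    have h := sIso_hom_comp (G := G) J m y hy
    rw [← h, Functor.map_comp, h1, comp_zero]
  obtain ⟨s', hs'⟩ : ∃ s' : G.obj N ⟶ G.obj (J.X (m - 1)),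
      s' ≫ G.map (J.d (m - 1) m) = G.map y :=
    exists_factor_of_Q_map_eq_zero ((G.mapHomologicalComplex (ComplexShape.up ℤ)).obj J) m
      (G.map y) (map_d_eq_zero J m y hy) h2
  obtain ⟨σ, ψ, hψ⟩ := hsurj0 N (J.X (m - 1)) s'
  obtain ⟨τ, hτ⟩ := hinj0 N (J.X m) ((σ : R) • y - ψ ≫ J.d (m - 1) m) (by
    rw [G.map_sub, hsm, G.map_comp, ← hψ, Linear.smul_comp, hs', sub_self])
  refine ⟨τ * σ, ?_⟩
  have h3 : ((τ * σ : S) : R) • y = ((τ : R) • ψ) ≫ J.d (m - 1) m := by
    rw [smul_sub] at hτ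
    rw [Submonoid.coe_mul, mul_smul, sub_eq_zero.mp hτ, Linear.smul_comp]
  rw [← Functor.map_smul, fromSingle_smul]
  have key : ∀ (y' : N ⟶ J.X m) (hy' : y' ≫ J.d m (m + 1) = 0),
      y' = ((τ : R) • ψ) ≫ J.d (m - 1) m → Q.map (fromSingle J m y' hy') = 0 := by
    intro y' hy' h
    subst h
    exact Q_map_fromSingle_comp_d J m _
  exact key _ _ h3

theorem surj_single (N : ModuleCat.{u} R) [Module.Finite R N] (m : ℤ)
    (J : CochainComplex (ModuleCat.{u} R) ℤ) [J.IsKInjective]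
    [CochainComplex.IsKInjective ((G.mapHomologicalComplex (ComplexShape.up ℤ)).obj J)] :
    Surj G S (Q.obj ((single (ModuleCat.{u} R) (ComplexShape.up ℤ) m).obj N)) (Q.obj J) := by
  intro g
  let X₀ := (single (ModuleCat.{u} R) (ComplexShape.up ℤ) m).obj N
  let g'' : Q.obj ((single (ModuleCat.{u} B) (ComplexShape.up ℤ) m).obj (G.obj N)) ⟶
      Q.obj ((G.mapHomologicalComplex (ComplexShape.up ℤ)).obj J) :=
    Q.map (sIso G m N).hom ≫ G.mapDerivedCategoryFactors.inv.app X₀ ≫ g ≫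
      G.mapDerivedCategoryFactors.hom.app J
  obtain ⟨y', hy', hg''⟩ : ∃ (y' : G.obj N ⟶ G.obj (J.X m))
      (hy' : y' ≫ G.map (J.d m (m + 1)) = 0),
      Q.map (fromSingle ((G.mapHomologicalComplex (ComplexShape.up ℤ)).obj J) m y' hy') = g'' :=
    exists_fromSingle_eq ((G.mapHomologicalComplex (ComplexShape.up ℤ)).obj J) m g''
  obtain ⟨σ, y, hy⟩ := hsurj0 N (J.X m) y'
  obtain ⟨τ, hτ⟩ := hinj0 N (J.X (m + 1)) (y ≫ J.d m (m + 1)) (by
    rw [G.map_comp, ← hy, Linear.smul_comp, hy', smul_zero])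
  have hy1 : ((τ : R) • y) ≫ J.d m (m + 1) = 0 := by rw [Linear.smul_comp, hτ]
  refine ⟨τ * σ, Q.map (fromSingle J m ((τ : R) • y) hy1), ?_⟩
  rw [GD_Q_map]
  have h1 : Q.map (sIso G m N).hom ≫ Q.map ((G.mapHomologicalComplex (ComplexShape.up ℤ)).map
      (fromSingle J m ((τ : R) • y) hy1)) = algebraMap R B ((τ * σ : S) : R) • g'' := by
    rw [← Functor.map_comp, sIso_hom_comp, ← hg'', ← Functor.map_smul, fromSingle_smul]
    have key : ∀ (y₁ y₂ : G.obj N ⟶ ((G.mapHomologicalComplex (ComplexShape.up ℤ)).obj J).X m)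
        (h₁ : y₁ ≫ ((G.mapHomologicalComplex (ComplexShape.up ℤ)).obj J).d m (m + 1) = 0)
        (h₂ : y₂ ≫ ((G.mapHomologicalComplex (ComplexShape.up ℤ)).obj J).d m (m + 1) = 0),
        y₁ = y₂ → Q.map (fromSingle _ m y₁ h₁) = Q.map (fromSingle _ m y₂ h₂) := by
      intro y₁ y₂ h₁ h₂ h
      subst h
      rfl
    apply key
    rw [hsm, ← hy, Submonoid.coe_mul, map_mul, mul_smul]
    rfl
  have h2 : Q.map ((G.mapHomologicalComplex (ComplexShape.up ℤ)).map
      (fromSingle J m ((τ : R) • y) hy1)) =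
      Q.map (sIso G m N).inv ≫ (algebraMap R B ((τ * σ : S) : R) • g'') := by
    rw [← h1, ← assoc, ← Functor.map_comp, Iso.inv_hom_id, CategoryTheory.Functor.map_id, id_comp]
  rw [h2]
  dsimp only [g'']
  have h3 : G.mapDerivedCategoryFactors.hom.app X₀ ≫ (Q.map (sIso G m N).inv ≫
      Q.map (sIso G m N).hom ≫ G.mapDerivedCategoryFactors.inv.app X₀ ≫ g ≫
        G.mapDerivedCategoryFactors.hom.app J) ≫ G.mapDerivedCategoryFactors.inv.app J = g := by
    rw [← Functor.map_comp_assoc, Iso.inv_hom_id, CategoryTheory.Functor.map_id, id_comp, assoc,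
      assoc, Iso.hom_inv_id_app, Iso.hom_inv_id_app_assoc]
    exact comp_id g
  rw [Linear.comp_smul, Linear.smul_comp, Linear.comp_smul]
  congr 1
  exact h3.symm

/-- **Localization of `Hom(K, Q J)`** for `K ∈ D^b` with finite cohomology modules. -/
theorem P_of_bounded (J : CochainComplex (ModuleCat.{u} R) ℤ) [J.IsKInjective]
    [CochainComplex.IsKInjective ((G.mapHomologicalComplex (ComplexShape.up ℤ)).obj J)]
    (K : Dual.D R) (a b : ℤ) [K.IsGE a] [K.IsLE b]
    (hK : ∀ i : ℤ, Module.Finite R (Dual.HD R K i)) : P G S (Q.obj J) K := by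
  refine Groth.Agent.Lib.DDevissage.devissage (P G S (Q.obj J))
    (fun T hT h1 h3 => P_ext hsm _ T hT h1 h3) (fun Z hZ => P_of_isZero _ Z hZ) K a b ?_
  intro j _ _ n
  let e : ((singleFunctor (ModuleCat.{u} R) j).obj
      ((homologyFunctor (ModuleCat.{u} R) j).obj K))⟦n⟧ ≅
      (singleFunctor (ModuleCat.{u} R) (j - n)).obj ((homologyFunctor (ModuleCat.{u} R) j).obj K) :=
    ((singleFunctors (ModuleCat.{u} R)).shiftIso n (j - n) j (by omega)).app _
  haveI : Module.Finite R ((homologyFunctor (ModuleCat.{u} R) j).obj K) := hK j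
  exact ⟨(inj_single hsm hinj0 hsurj0 _ (j - n) J).of_iso_left e.symm,
    (surj_single hsm hinj0 hsurj0 _ (j - n) J).of_iso_left e.symm⟩

end Base

end Groth.Agent.Lib.H29LocD
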