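import Groth.Agent.Lib.H29LocD
import Groth.Agent.Lib.H29ExtLocalization
import Mathlib.RingTheory.LocalProperties.InjectiveDimension

/-!
# Localization of `Hom` in `D(R)`: the functor `M ↦ S⁻¹M` (helper29)
-/

set_option autoImplicit false
universe u
open CategoryTheory CategoryTheory.Limits Category Pretriangulated DerivedCategory
  HomologicalComplex

namespace Groth.Agent.Lib.H29LocD

attribute [local instance] HasDerivedCategory.standard

variable {R : Type u} [CommRing R] (S : Submonoid R)

/-- the localization functor on modules -/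
noncomputable abbrev L : ModuleCat.{u} R ⥤ ModuleCat.{u} (Localization S) :=
  ModuleCat.localizedModuleFunctor.{u} S

/-- the localization functor on derived categories -/
noncomputable abbrev LD : Dual.D R ⥤ Dual.D (Localization S) := (L S).mapDerivedCategory

lemma semiLin_L : SemiLin (L S) := fun a _ _ f =>
  Groth.Agent.Lib.H29ExtLocalization.locF_scalarCompat S a f

lemma inj0_L [IsNoetherianRing R] (N M : ModuleCat.{u} R) [Module.Finite R N] (f : N ⟶ M)
    (h : (L S).map f = 0) : ∃ s : S, (s : R) • f = 0 := by
  haveI := Module.finitePresentation_of_finite R N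
  let φ := IsLocalizedModule.mapExtendScalars S (N.localizedModuleMkLinearMap S)
      (M.localizedModuleMkLinearMap S) (Localization S)
  have hφ : IsLocalizedModule S φ := inferInstance
  have h1 : φ f.hom = φ 0 := by
    rw [map_zero]
    exact congrArg ModuleCat.Hom.hom h
  obtain ⟨c, hc⟩ := IsLocalizedModule.exists_of_eq (S := S) (f := φ) h1
  refine ⟨c, ?_⟩
  apply ModuleCat.hom_ext
  rw [smul_zero] at hc
  exact hc

lemma surj0_L [IsNoetherianRing R] (N M : ModuleCat.{u} R) [Module.Finite R N]
    (g : (L S).obj N ⟶ (L S).obj M) :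
    ∃ (s : S) (f : N ⟶ M), algebraMap R (Localization S) (s : R) • g = (L S).map f := by
  haveI := Module.finitePresentation_of_finite R N
  let φ := IsLocalizedModule.mapExtendScalars S (N.localizedModuleMkLinearMap S)
      (M.localizedModuleMkLinearMap S) (Localization S)
  have hφ : IsLocalizedModule S φ := inferInstance
  obtain ⟨⟨f, s⟩, hfs⟩ := IsLocalizedModule.surj S φ g.hom
  refine ⟨s, ModuleCat.ofHom f, ?_⟩
  apply ModuleCat.hom_ext
  refine Eq.trans ?_ hfs
  refine LinearMap.ext fun x => ?_
  have h1 : ∀ (y : M.localizedModule S), algebraMap R (Localization S) (s : R) • y = (s : R) • y :=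
    fun y => algebraMap_smul _ _ _
  exact h1 (g.hom x)

/-- **Localization of `Hom(K, Q J)`**, `K ∈ D^b` with finite cohomology, `J` a bounded below
complex of injectives, `R` Noetherian. -/
theorem P_L [IsNoetherianRing R] (J : CochainComplex (ModuleCat.{u} R) ℤ) (a' : ℤ)
    [J.IsStrictlyGE a'] (hJ : ∀ i, Injective (J.X i)) (K : Dual.D R) (a b : ℤ) [K.IsGE a]
    [K.IsLE b] (hK : ∀ i : ℤ, Module.Finite R (Dual.HD R K i)) : P (L S) S (Q.obj J) K := by
  haveI : J.IsKInjective := CochainComplex.isKInjective_of_injective J a'
  haveI : ∀ i, Injective ((((L S).mapHomologicalComplex (ComplexShape.up ℤ)).obj J).X i) :=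
    fun i => (L S).injective_obj (J.X i)
  haveI : CochainComplex.IsKInjective (((L S).mapHomologicalComplex (ComplexShape.up ℤ)).obj J) :=
    CochainComplex.isKInjective_of_injective _ a'
  exact P_of_bounded (semiLin_L S) (inj0_L S) (surj0_L S) J K a b hK

end Groth.Agent.Lib.H29LocD
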