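import Groth.Agent.Lib.H29LocD2
import Groth.Agent.Lib.H29DualLocal
import Groth.Agent.Lib.FlatBaseChangeD

/-!
# Localization of dualizing complexes (helper29)

* `IS_dualizing`: for `ω` dualizing over `A` and `K ∈ D^b` with finite cohomology,
  `Hom(K, ω[i])` commutes with localization (elementwise form).
* `isDualizing_LD`: `S⁻¹ω` is a dualizing complex for `S⁻¹A`.
-/

set_option autoImplicit false
universe u
open CategoryTheory CategoryTheory.Limits Category Pretriangulated DerivedCategory
  HomologicalComplex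

namespace Groth.Agent.Lib.H29LocD

attribute [local instance] HasDerivedCategory.standard

variable {A : Type u} [CommRing A] (S : Submonoid A)

/-- shift on the target -/
theorem IS_shift_target [IsNoetherianRing A] (J : CochainComplex (ModuleCat.{u} A) ℤ) (a' : ℤ)
    [J.IsStrictlyGE a'] (hJ : ∀ i, Injective (J.X i)) (W : Dual.D A) (e : Q.obj J ≅ W)
    (K : Dual.D A) (a b : ℤ) [K.IsGE a] [K.IsLE b]
    (hK : ∀ i : ℤ, Module.Finite A (Dual.HD A K i)) (i : ℤ) :
    Inj (L S) S K (W⟦i⟧) ∧ Surj (L S) S K (W⟦i⟧) := by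
  haveI : (J⟦i⟧).IsStrictlyGE (a' - i) := CochainComplex.isStrictlyGE_shift J a' i (a' - i) (by omega)
  have hJ' : ∀ n, Injective ((J⟦i⟧).X n) := fun n => hJ (n + i)
  have h := P_L S (J⟦i⟧) (a' - i) hJ' K a b hK 0
  let e1 : Q.obj (J⟦i⟧) ≅ W⟦i⟧ :=
    (Q.commShiftIso i).app J ≪≫ (shiftFunctor (Dual.D A) i).mapIso e
  let e0 : K⟦(0 : ℤ)⟧ ≅ K := (shiftFunctorZero (Dual.D A) ℤ).app K
  exact ⟨(h.1.of_iso_left e0).of_iso_right e1, (h.2.of_iso_left e0).of_iso_right e1⟩

variable (ω : Dual.D A) (hω : Dual.IsDualizing A ω)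

include hω

theorem IS_dualizing (K : Dual.D A) (a b : ℤ) [K.IsGE a] [K.IsLE b]
    (hK : ∀ i : ℤ, Module.Finite A (Dual.HD A K i)) (i : ℤ) :
    Inj (L S) S K (ω⟦i⟧) ∧ Surj (L S) S K (ω⟦i⟧) := by
  haveI := hω.isNoetherianRing
  obtain ⟨a', b', J, hJa, hJb, hJinj, ⟨e⟩⟩ := Groth.Agent.Lib.H29DualLocal.exists_model A ω hω
  exact IS_shift_target S J a' hJinj ω e K a b hK i

/-- **Localization of a dualizing complex is dualizing.** -/
theorem isDualizing_LD : Dual.IsDualizing (Localization S) ((LD S).obj ω) := by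
  haveI := hω.isNoetherianRing
  obtain ⟨a, b, J, hJa, hJb, hJinj, ⟨e⟩⟩ := Groth.Agent.Lib.H29DualLocal.exists_model A ω hω
  obtain ⟨a₁, b₁, hge, hle⟩ := Groth.Agent.Lib.H29DualLocal.exists_bounds A ω hω
  let GJ : CochainComplex (ModuleCat.{u} (Localization S)) ℤ :=
    ((L S).mapHomologicalComplex (ComplexShape.up ℤ)).obj J
  let e' : Q.obj GJ ≅ (LD S).obj ω :=
    ((L S).mapDerivedCategoryFactors.app J).symm ≪≫ (LD S).mapIso e
  have hGJinj : ∀ i, Injective (GJ.X i) := fun i => (L S).injective_obj (J.X i)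
  haveI : GJ.IsStrictlyGE a := by dsimp only [GJ]; infer_instance
  haveI : GJ.IsStrictlyLE b := by dsimp only [GJ]; infer_instance
  have hIS := IS_dualizing S ω hω ω a₁ b₁ hω.finite_cohomology
  have hunit : ∀ s : S, IsUnit (algebraMap A (Localization S) (s : A)) :=
    fun s => IsLocalization.map_units (Localization S) s
  refine ⟨IsLocalization.isNoetherianRing S (Localization S) inferInstance, ⟨a, b, ?_⟩, ?_, ?_, ?_⟩
  · intro M _ _ i hi
    have hz : ∀ i : ℤ, (i < a ∨ b < i) → IsZero (GJ.X i) := by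
      intro i hi
      rcases hi with h | h
      · exact CochainComplex.isZero_of_isStrictlyGE GJ a i h
      · exact CochainComplex.isZero_of_isStrictlyLE GJ b i h
    refine ⟨fun φ ψ => ?_⟩
    have hv := Groth.Agent.Lib.DInjGE.hom_vanishing_of_injective_amplitude GJ a b hGJinj hz
      ((LD S).obj ω) e' (ModuleCat.of (Localization S) M) i hi
    rw [hv φ, hv ψ]
  · intro i
    haveI := hω.finite_cohomology i
    let σ : (homologyFunctor (ModuleCat.{u} (Localization S)) i).obj ((LD S).obj ω) ≅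
        (L S).obj ((homologyFunctor (ModuleCat.{u} A) i).obj ω) :=
      (Groth.Agent.Lib.FlatBaseChangeD.mapDerivedCategoryHomologyIso (L S) i).app ω
    haveI : Module.Finite (Localization S)
        (((homologyFunctor (ModuleCat.{u} A) i).obj ω).localizedModule S) :=
      Module.Finite.of_isLocalizedModule S
        (((homologyFunctor (ModuleCat.{u} A) i).obj ω).localizedModuleMkLinearMap S)
    haveI : Module.Finite (Localization S)
        ((L S).obj ((homologyFunctor (ModuleCat.{u} A) i).obj ω)) := this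
    exact Module.Finite.equiv σ.symm.toLinearEquiv
  · -- `S⁻¹A → End(S⁻¹ω)` bijective
    obtain ⟨hinj, hsurj⟩ := hIS 0
    let z : ω⟦(0 : ℤ)⟧ ≅ ω := (shiftFunctorZero (Dual.D A) ℤ).app ω
    replace hinj := hinj.of_iso_right z
    replace hsurj := hsurj.of_iso_right z
    constructor
    · intro c c' hcc
      replace hcc : c • 𝟙 ((LD S).obj ω) = c' • 𝟙 ((LD S).obj ω) := hcc
      have h0 : (c - c') • 𝟙 ((LD S).obj ω) = 0 := by rw [sub_smul, hcc, sub_self]
      obtain ⟨x, s, hx⟩ := IsLocalization.exists_mk'_eq S (c - c')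
      have h1 : (LD S).map (x • 𝟙 ω) = 0 := by
        rw [GD_map_smul (semiLin_L S), CategoryTheory.Functor.map_id,
          ← IsLocalization.mk'_spec' (Localization S) x s, hx, mul_smul, h0, smul_zero]
      obtain ⟨t, ht⟩ := hinj _ h1
      rw [← mul_smul] at ht
      have h2 : (t : A) * x = 0 := by
        apply hω.toEnd_bijective.1
        show ((t : A) * x) • 𝟙 ω = (0 : A) • 𝟙 ω
        rw [ht, zero_smul]
      have h3 : c - c' = 0 := by
        rw [← hx, IsLocalization.mk'_eq_zero_iff]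
        exact ⟨t, h2⟩
      exact sub_eq_zero.mp h3
    · intro g
      obtain ⟨s, f, hf⟩ := hsurj g
      obtain ⟨x, hx⟩ := hω.toEnd_bijective.2 f
      replace hx : x • 𝟙 ω = f := hx
      refine ⟨IsLocalization.mk' (Localization S) x s, ?_⟩
      show IsLocalization.mk' (Localization S) x s • 𝟙 ((LD S).obj ω) = g
      obtain ⟨u, hu⟩ := hunit s
      rw [← hx, GD_map_smul (semiLin_L S), CategoryTheory.Functor.map_id] at hf
      have h1 : IsLocalization.mk' (Localization S) x s =
          (↑u⁻¹ : Localization S) * algebraMap A (Localization S) x := by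
        rw [IsLocalization.mk'_eq_iff_eq_mul, mul_comm _ (algebraMap A (Localization S) (s : A)),
          ← mul_assoc, ← hu, Units.mul_inv, one_mul]
      rw [h1, mul_smul, ← hf, ← mul_smul, ← hu, Units.inv_mul, one_smul]
  · intro i hi
    obtain ⟨_, hsurj⟩ := hIS i
    haveI := hω.ext_self_subsingleton i hi
    refine ⟨fun φ ψ => ?_⟩
    suffices H : ∀ φ : (LD S).obj ω ⟶ ((LD S).obj ω)⟦i⟧, φ = 0 by rw [H φ, H ψ]
    intro φ
    obtain ⟨s, f, hf⟩ := hsurj (φ ≫ ((LD S).commShiftIso i).inv.app ω)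
    rw [Subsingleton.elim f 0, Functor.map_zero] at hf
    obtain ⟨u, hu⟩ := hunit s
    have h1 : φ ≫ ((LD S).commShiftIso i).inv.app ω = 0 := by
      have := congrArg (fun t => (↑u⁻¹ : Localization S) • t) hf
      simp only [smul_zero, ← mul_smul, ← hu, Units.inv_mul, one_smul] at this
      exact this
    rw [← cancel_mono (((LD S).commShiftIso i).inv.app ω), h1, zero_comp]

end Groth.Agent.Lib.H29LocD
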