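/-
Helper library (helper29): Matlis duality — the double Matlis dual of a finite module is its
completion:  `AdicCompletion m N ≃ₗ[A] Hom_A(Hom_A(N, E), E)`.
-/
import Groth.Agent.Lib.H29LDMain
import Mathlib.RingTheory.AdicCompletion.Functoriality

set_option autoImplicit false
universe u

namespace Groth.Agent.Lib.H29MatlisCompl

open IsLocalRing Groth.Agent.Lib.H29Matlis

variable {A : Type u} [CommRing A] [IsLocalRing A] [IsNoetherianRing A]
  {E : Type u} [AddCommGroup E] [Module A E]
  (f : ResidueField A →ₗ[A] E) (hf : _root_.InjHull.IsInjectiveHull f)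
  (N : Type u) [AddCommGroup N] [Module A N] [Module.Finite A N]

/-- `N / m^n N` -/
abbrev Q (n : ℕ) : Type u := N ⧸ ((maximalIdeal A) ^ n • ⊤ : Submodule A N)

theorem isFiniteLength_Q (n : ℕ) : IsFiniteLength A (Q (A := A) N n) := by
  apply Groth.Agent.Lib.H29LDMain.isFiniteLength_of_finite_of_pow_smul A (Q (A := A) N n) n
  intro a ha x
  obtain ⟨y, rfl⟩ := Submodule.Quotient.mk_surjective _ x
  rw [← Submodule.Quotient.mk_smul, Submodule.Quotient.mk_eq_zero]
  exact Submodule.smul_mem_smul ha Submodule.mem_top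

/-- finite length Matlis duality as an equivalence -/
noncomputable def eQ (n : ℕ) :
    Q (A := A) N n ≃ₗ[A] ((Q (A := A) N n →ₗ[A] E) →ₗ[A] E) :=
  LinearEquiv.ofBijective LinearMap.applyₗ
    (applyₗ_bijective_of_isFiniteLength f hf (Q (A := A) N n) (isFiniteLength_Q N n))

omit [IsLocalRing A] [IsNoetherianRing A] [Module.Finite A N] in
/-- pull back a functional on `N / m^n N` to `N` -/
noncomputable def pull (n : ℕ) (E : Type u) [AddCommGroup E] [Module A E] :
    (Q (A := A) N n →ₗ[A] E) →ₗ[A] (N →ₗ[A] E) :=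
  LinearMap.lcomp A E (Submodule.mkQ _)

/-- the `n`-th component of the comparison map -/
noncomputable def Θn (n : ℕ) : ((N →ₗ[A] E) →ₗ[A] E) →ₗ[A] Q (A := A) N n :=
  (eQ f hf N n).symm.toLinearMap ∘ₗ LinearMap.lcomp A E (pull N n E)

theorem Θn_spec (n : ℕ) (θ : (N →ₗ[A] E) →ₗ[A] E) (w : Q (A := A) N n →ₗ[A] E) :
    w (Θn f hf N n θ) = θ (w ∘ₗ Submodule.mkQ _) := by
  have h1 : eQ f hf N n (Θn f hf N n θ) = θ ∘ₗ pull N n E := by
    unfold Θn
    rw [LinearMap.comp_apply, LinearEquiv.coe_coe, LinearEquiv.apply_symm_apply]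
    rfl
  have h2 := LinearMap.congr_fun h1 w
  exact h2

theorem Θn_compat {k n : ℕ} (hle : k ≤ n) :
    AdicCompletion.transitionMap (maximalIdeal A) N hle ∘ₗ Θn f hf N n = Θn f hf N k := by
  apply LinearMap.ext
  intro θ
  apply (eQ f hf N k).injective
  apply LinearMap.ext
  intro w
  change w ((AdicCompletion.transitionMap (maximalIdeal A) N hle) (Θn f hf N n θ)) =
    w (Θn f hf N k θ)
  rw [Θn_spec, ← LinearMap.comp_apply, Θn_spec]
  congr 1

/-- the comparison map `Hom(Hom(N, E), E) → N^` -/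
noncomputable def Θ : ((N →ₗ[A] E) →ₗ[A] E) →ₗ[A] AdicCompletion (maximalIdeal A) N :=
  AdicCompletion.lift (maximalIdeal A) (fun n => Θn f hf N n) (fun hle => Θn_compat f hf N hle)

theorem eval_Θ (n : ℕ) (θ : (N →ₗ[A] E) →ₗ[A] E) :
    AdicCompletion.eval (maximalIdeal A) N n (Θ f hf N θ) = Θn f hf N n θ := rfl

include hf in
/-- every functional on a finite module factors through some `N / m^n N` -/
theorem exists_factor (w : N →ₗ[A] E) :
    ∃ n : ℕ, ((maximalIdeal A) ^ n • ⊤ : Submodule A N) ≤ LinearMap.ker w := by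
  obtain ⟨n, hn⟩ := Groth.Agent.Lib.H29LDMain.exists_pow_smul_dual_eq_zero A f hf w
  refine ⟨n, ?_⟩
  rw [Submodule.smul_le]
  intro a ha x _
  rw [LinearMap.mem_ker, map_smul]
  have := LinearMap.congr_fun (hn a ha) x
  exact this

theorem Θ_injective : Function.Injective (Θ f hf N) := by
  rw [injective_iff_map_eq_zero]
  intro θ hθ
  apply LinearMap.ext
  intro w
  obtain ⟨n, hn⟩ := exists_factor f hf N w
  have h1 : Θn f hf N n θ = 0 := by
    rw [← eval_Θ, hθ, map_zero]
  have h2 := Θn_spec f hf N n θ (Submodule.liftQ _ w hn)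
  rw [h1, map_zero, Submodule.liftQ_mkQ] at h2
  rw [← h2, LinearMap.zero_apply]

section surj

variable (s : AdicCompletion.AdicCauchySequence (maximalIdeal A) N)

/-- the functional attached to a Cauchy sequence (underlying function) -/
noncomputable def actFun (w : N →ₗ[A] E) : E := by
  classical
  exact w (s (Nat.find (exists_factor f hf N w)))

theorem actFun_eq (w : N →ₗ[A] E) (k : ℕ)
    (hk : ((maximalIdeal A) ^ k • ⊤ : Submodule A N) ≤ LinearMap.ker w) :
    actFun f hf N s w = w (s k) := by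
  classical
  have hle : Nat.find (exists_factor f hf N w) ≤ k := Nat.find_min' _ hk
  have hsp := Nat.find_spec (exists_factor f hf N w)
  have h1 := s.property hle
  rw [SModEq.sub_mem] at h1
  have h2 := hsp h1
  rw [LinearMap.mem_ker, map_sub, sub_eq_zero] at h2
  exact h2

omit [IsNoetherianRing A] [Module.Finite A N] in
theorem ker_mono (w : N →ₗ[A] E) {i j : ℕ} (hij : i ≤ j)
    (hi : ((maximalIdeal A) ^ i • ⊤ : Submodule A N) ≤ LinearMap.ker w) :
    ((maximalIdeal A) ^ j • ⊤ : Submodule A N) ≤ LinearMap.ker w :=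
  le_trans (Submodule.smul_mono_left (Ideal.pow_le_pow_right hij)) hi

/-- the functional attached to a Cauchy sequence -/
noncomputable def act : (N →ₗ[A] E) →ₗ[A] E where
  toFun := actFun f hf N s
  map_add' w w' := by
    obtain ⟨n, hn⟩ := exists_factor f hf N w
    obtain ⟨n', hn'⟩ := exists_factor f hf N w'
    have h1 := ker_mono N w (le_max_left n n') hn
    have h2 := ker_mono N w' (le_max_right n n') hn'
    have h3 : ((maximalIdeal A) ^ (max n n') • ⊤ : Submodule A N) ≤ LinearMap.ker (w + w') := by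
      intro x hx
      rw [LinearMap.mem_ker, LinearMap.add_apply, LinearMap.mem_ker.mp (h1 hx),
        LinearMap.mem_ker.mp (h2 hx), add_zero]
    rw [actFun_eq f hf N s w _ h1, actFun_eq f hf N s w' _ h2, actFun_eq f hf N s (w + w') _ h3,
      LinearMap.add_apply]
  map_smul' a w := by
    obtain ⟨n, hn⟩ := exists_factor f hf N w
    have h3 : ((maximalIdeal A) ^ n • ⊤ : Submodule A N) ≤ LinearMap.ker (a • w) := by
      intro x hx
      rw [LinearMap.mem_ker, LinearMap.smul_apply, LinearMap.mem_ker.mp (hn hx), smul_zero]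
    rw [actFun_eq f hf N s w _ hn, actFun_eq f hf N s (a • w) _ h3, LinearMap.smul_apply,
      RingHom.id_apply]

theorem Θ_act : Θ f hf N (act f hf N s) = AdicCompletion.mk (maximalIdeal A) N s := by
  apply AdicCompletion.ext
  intro n
  change Θn f hf N n (act f hf N s) = Submodule.mkQ _ (s n)
  apply (eQ f hf N n).injective
  apply LinearMap.ext
  intro w
  change w (Θn f hf N n (act f hf N s)) = w (Submodule.mkQ _ (s n))
  rw [Θn_spec]
  have hk : ((maximalIdeal A) ^ n • ⊤ : Submodule A N) ≤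
      LinearMap.ker (w ∘ₗ Submodule.mkQ ((maximalIdeal A) ^ n • ⊤ : Submodule A N)) := by
    intro x hx
    rw [LinearMap.mem_ker, LinearMap.comp_apply, Submodule.mkQ_apply,
      (Submodule.Quotient.mk_eq_zero _).mpr hx, map_zero]
  have h0 : act f hf N s (w ∘ₗ Submodule.mkQ ((maximalIdeal A) ^ n • ⊤ : Submodule A N)) =
      actFun f hf N s (w ∘ₗ Submodule.mkQ ((maximalIdeal A) ^ n • ⊤ : Submodule A N)) := rfl
  rw [h0, actFun_eq f hf N s _ n hk]
  rfl

end surj

theorem Θ_surjective : Function.Surjective (Θ f hf N) := by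
  intro x
  obtain ⟨s, rfl⟩ := AdicCompletion.mk_surjective (maximalIdeal A) N x
  exact ⟨act f hf N s, Θ_act f hf N s⟩

/-- **Matlis**: the double dual of a finite module is its completion. -/
noncomputable def doubleDualEquiv :
    ((N →ₗ[A] E) →ₗ[A] E) ≃ₗ[A] AdicCompletion (maximalIdeal A) N :=
  LinearEquiv.ofBijective (Θ f hf N) ⟨Θ_injective f hf N, Θ_surjective f hf N⟩

end Groth.Agent.Lib.H29MatlisCompl
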