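import Mathlib

/-!
# Maps from finitely generated (free) modules into filtered colimits of modules (helper29)
-/

set_option autoImplicit false
universe u
open CategoryTheory Limits

namespace Groth.Agent.Lib.H29ModFiltColim

variable {R : Type u} [CommRing R] {J : Type u} [SmallCategory J] [IsFiltered J]
  (F : J ⥤ ModuleCat.{u} R) (c : Cocone F) (hc : IsColimit c)

include hc

/-- a linear map from a finite free module to a filtered colimit factors through a stage -/
lemma exists_factor {P : Type u} [AddCommGroup P] [Module R P] [Module.Finite R P]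
    [Module.Free R P] (φ : P →ₗ[R] c.pt) :
    ∃ (j : J) (φj : P →ₗ[R] F.obj j), (c.ι.app j).hom ∘ₗ φj = φ := by
  classical
  let b := Module.Free.chooseBasis R P
  have h1 : ∀ k, ∃ (j : J) (y : F.obj j), c.ι.app j y = φ (b k) :=
    fun k => Concrete.isColimit_exists_rep F hc (φ (b k))
  choose jk yk hyk using h1
  obtain ⟨j, hj⟩ := IsFiltered.sup_objs_exists (Finset.image jk Finset.univ)
  have hf : ∀ k, Nonempty (jk k ⟶ j) := fun k =>
    hj (Finset.mem_image_of_mem jk (Finset.mem_univ k))
  let f : ∀ k, jk k ⟶ j := fun k => (hf k).some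
  refine ⟨j, b.constr R (fun k => (F.map (f k)) (yk k)), ?_⟩
  apply b.ext
  intro k
  rw [LinearMap.comp_apply, Module.Basis.constr_basis, ← hyk k]
  exact ConcreteCategory.congr_hom (c.w (f k)) (yk k)

/-- a linear map from a finitely generated module to a stage which dies in the colimit dies at a
later stage -/
lemma exists_map_comp_eq_zero {P : Type u} [AddCommGroup P] [Module R P] [Module.Finite R P]
    (j : J) (φj : P →ₗ[R] F.obj j) (h : (c.ι.app j).hom ∘ₗ φj = 0) :
    ∃ (j' : J) (f : j ⟶ j'), (F.map f).hom ∘ₗ φj = 0 := by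
  classical
  obtain ⟨S, hS⟩ := (Module.Finite.fg_top : (⊤ : Submodule R P).FG)
  have key : ∀ T : Finset P, ∃ (j' : J) (f : j ⟶ j'), ∀ t ∈ T, (F.map f) (φj t) = 0 := by
    intro T
    induction T using Finset.induction_on with
    | empty => exact ⟨j, 𝟙 j, fun t ht => absurd ht (Finset.notMem_empty t)⟩
    | insert a T _ ih =>
      obtain ⟨j₀, f₀, h₀⟩ := ih
      have h1 : c.ι.app j₀ ((F.map f₀) (φj a)) = c.ι.app j₀ (0 : F.obj j₀) := by
        rw [map_zero]
        have h2 := ConcreteCategory.congr_hom (c.w f₀) (φj a)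
        have h3 : (c.ι.app j) (φj a) = 0 := LinearMap.congr_fun h a
        exact h2.trans h3
      obtain ⟨k, f, g, hfg⟩ := Concrete.isColimit_exists_of_rep_eq F hc _ _ h1
      rw [map_zero] at hfg
      refine ⟨k, f₀ ≫ f, fun t ht => ?_⟩
      rw [Finset.mem_insert] at ht
      have hcomp : ∀ z : F.obj j, (F.map (f₀ ≫ f)) z = (F.map f) ((F.map f₀) z) := by
        intro z
        rw [F.map_comp]
        rfl
      rcases ht with rfl | ht
      · rw [hcomp]; exact hfg
      · rw [hcomp, h₀ t ht, map_zero]
  obtain ⟨j', f, hf⟩ := key S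
  refine ⟨j', f, ?_⟩
  apply LinearMap.ext_on hS
  intro t ht
  exact hf t ht

end Groth.Agent.Lib.H29ModFiltColim
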