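import Mathlib.CategoryTheory.Abelian.Refinements
import Mathlib.CategoryTheory.Subobject.Limits
import Mathlib.CategoryTheory.Abelian.Exact
import Mathlib.Algebra.Category.ModuleCat.Abelian
import Mathlib.Algebra.Category.ModuleCat.EpiMono

/-!
# Image subobjects in `ModuleCat` via ranges (helper29)

* `imageSubobject_le_of_range_le`, `imageSubobject_eq_of_range_eq`: comparison of image
  subobjects of morphisms of `ModuleCat R` into a common target by the ranges of the underlying
  linear maps.
-/

set_option autoImplicit false
universe u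

open CategoryTheory CategoryTheory.Limits

namespace Groth.Agent.Lib.H29ModImage

section General

variable {C : Type*} [Category C] [Abelian C]

theorem image_le_iff_factors {Y Z : C} (f : Y ⟶ Z) (S : Subobject Z) :
    imageSubobject f ≤ S ↔ S.Factors f := by
  constructor
  · intro h
    have h1 : (imageSubobject f).Factors f := by
      have := Subobject.factors_comp_arrow (factorThruImageSubobject f)
      rwa [imageSubobject_arrow_comp] at this
    exact Subobject.factors_of_le f h h1
  · intro h
    exact imageSubobject_le f (S.factorThru f h) (S.factorThru_arrow f h)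

theorem image_eq_kernel_cokernel {Y Z : C} (f : Y ⟶ Z) :
    imageSubobject f = kernelSubobject (cokernel.π f) :=
  (ShortComplex.exact_iff_image_eq_kernel (ShortComplex.mk f (cokernel.π f) (by simp))).mp
    (ShortComplex.exact_cokernel f)

theorem image_factors_iff {W Y Z : C} (f : Y ⟶ Z) (g : W ⟶ Z) :
    (imageSubobject f).Factors g ↔ g ≫ cokernel.π f = 0 := by
  rw [image_eq_kernel_cokernel, kernelSubobject_factors_iff]

end General

/-- If every "element" of the image of `a` lifts along `b` after refinement then
`im a ≤ im b` (copy of `ARSysElem.image_le_of_refinement`, to keep imports light). -/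
theorem image_le_of_refinement {D : Type*} [Category D] [Abelian D] {A B K : D} (a : A ⟶ K)
    (b : B ⟶ K)
    (h : ∃ (T' : D) (π : T' ⟶ A) (_ : Epi π) (y : T' ⟶ B), π ≫ a = y ≫ b) :
    imageSubobject a ≤ imageSubobject b := by
  obtain ⟨T', π, hπ, y, hy⟩ := h
  rw [image_le_iff_factors, image_factors_iff, ← cancel_epi π, comp_zero, ← Category.assoc, hy,
    Category.assoc, cokernel.condition, comp_zero]

variable {R : Type u} [Ring R]

theorem imageSubobject_le_of_range_le {A B K : ModuleCat.{u} R} (a : A ⟶ K) (b : B ⟶ K)
    (h : LinearMap.range a.hom ≤ LinearMap.range b.hom) :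
    imageSubobject a ≤ imageSubobject b := by
  apply image_le_of_refinement
  let P : Submodule R (A × B) :=
    LinearMap.eqLocus (a.hom ∘ₗ LinearMap.fst R A B) (b.hom ∘ₗ LinearMap.snd R A B)
  refine ⟨ModuleCat.of R P, ModuleCat.ofHom (LinearMap.fst R A B ∘ₗ P.subtype), ?_,
    ModuleCat.ofHom (LinearMap.snd R A B ∘ₗ P.subtype), ?_⟩
  · rw [ModuleCat.epi_iff_surjective]
    intro x
    obtain ⟨y, hy⟩ := h ⟨x, rfl⟩
    exact ⟨⟨(x, y), by simpa [P, LinearMap.mem_eqLocus] using hy.symm⟩, rfl⟩
  · ext ⟨⟨x, y⟩, hxy⟩
    simpa [P, LinearMap.mem_eqLocus] using hxy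

theorem imageSubobject_eq_of_range_eq {A B K : ModuleCat.{u} R} (a : A ⟶ K) (b : B ⟶ K)
    (h : LinearMap.range a.hom = LinearMap.range b.hom) :
    imageSubobject a = imageSubobject b :=
  le_antisymm (imageSubobject_le_of_range_le a b h.le) (imageSubobject_le_of_range_le b a h.ge)

end Groth.Agent.Lib.H29ModImage
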