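import Mathlib

/-!
# Comparing `Hom(K, Y)` and `Hom(X, Y)` along `α : X ⟶ K` which is an iso on `H^i`, `i > m`, and epi
on `H^m` (helper29)

For `Y ≥ n₁` in the canonical t-structure of `D(C)`: precomposition with `α` is injective on
`Hom(K, Y)` if `m - 1 < n₁` and surjective if `m < n₁`.
-/

set_option autoImplicit false
universe w v u
open CategoryTheory Pretriangulated DerivedCategory Limits

namespace Groth.Agent.Lib.H29PCohCone

variable {C : Type u} [Category.{v} C] [Abelian C] [HasDerivedCategory.{w} C]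

lemma isLE_cone {X K Z : DerivedCategory C} (α : X ⟶ K) (g : K ⟶ Z) (h : Z ⟶ X⟦(1 : ℤ)⟧)
    (hT : Triangle.mk α g h ∈ distTriang (DerivedCategory C)) (m : ℤ)
    (hiso : ∀ i : ℤ, m < i → IsIso ((homologyFunctor C i).map α))
    (hepi : Epi ((homologyFunctor C m).map α)) : Z.IsLE (m - 1) := by
  rw [DerivedCategory.isLE_iff]
  intro i hi
  have hepi' : Epi ((homologyFunctor C i).map α) := by
    rcases (show m = i ∨ m < i by omega) with rfl | h'
    · exact hepi
    · haveI := hiso i h'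
      infer_instance
  have hmono : Mono ((homologyFunctor C (i + 1)).map α) := by
    haveI := hiso (i + 1) (by omega)
    infer_instance
  have h1 : (homologyFunctor C i).map g = 0 :=
    (HomologySequence.epi_homologyMap_mor₁_iff _ hT i).1 hepi'
  have h2 : HomologySequence.δ (Triangle.mk α g h) i (i + 1) rfl = 0 :=
    (HomologySequence.mono_homologyMap_mor₁_iff _ hT i (i + 1) rfl).1 hmono
  exact (HomologySequence.exact₃ _ hT i (i + 1) rfl).isZero_of_both_zeros h1 h2

variable {X K : DerivedCategory C} (α : X ⟶ K) (m : ℤ)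
  (hiso : ∀ i : ℤ, m < i → IsIso ((homologyFunctor C i).map α))
  (hepi : Epi ((homologyFunctor C m).map α))

include hiso hepi

lemma precomp_injective (Y : DerivedCategory C) (n₁ : ℤ) [Y.IsGE n₁] (hn : m - 1 < n₁) :
    Function.Injective (fun x : K ⟶ Y => α ≫ x) := by
  obtain ⟨Z, g, h, hT⟩ := distinguished_cocone_triangle α
  haveI := isLE_cone α g h hT m hiso hepi
  intro x₁ x₂ hx
  have h0 : α ≫ (x₁ - x₂) = 0 := by
    rw [Preadditive.comp_sub]
    exact sub_eq_zero.2 hx
  obtain ⟨y, hy⟩ := Triangle.yoneda_exact₂ _ hT (x₁ - x₂) h0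
  have hy0 : y = 0 := TStructure.t.zero (X := Z) y (m - 1) n₁ hn
  have : x₁ - x₂ = 0 := by
    rw [hy, hy0]
    exact comp_zero
  exact sub_eq_zero.1 this

lemma precomp_surjective (Y : DerivedCategory C) (n₁ : ℤ) [Y.IsGE n₁] (hn : m < n₁) :
    Function.Surjective (fun x : K ⟶ Y => α ≫ x) := by
  obtain ⟨Z, g, h, hT⟩ := distinguished_cocone_triangle α
  haveI := isLE_cone α g h hT m hiso hepi
  intro w
  have hT' := inv_rot_of_distTriang _ hT
  haveI : TStructure.t.IsLE (Z⟦(-1 : ℤ)⟧) m :=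
    TStructure.t.isLE_shift Z (m - 1) (-1) m (by omega)
  have h0 : (Triangle.mk α g h).invRotate.mor₁ ≫ w = 0 :=
    TStructure.t.zero (X := Z⟦(-1 : ℤ)⟧) _ m n₁ hn
  obtain ⟨x, hx⟩ := Triangle.yoneda_exact₂ _ hT' w h0
  exact ⟨x, hx.symm⟩

end Groth.Agent.Lib.H29PCohCone
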