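import Groth.Agent.Lib.H29PCohExt

/-!
# Derived Artin–Rees, image form (helper29)

`exists_pow_image`: for `K ≅ Q E` with `E` K-projective and `E^j` finite free (`i + j = 0`), `M` finite
over Noetherian `A`: there is `c` such that for `n ≥ c` any module map `g : N' → M` with values in
`I^n M` sends `Hom(K, N'[i])` into `I^(n-c) • Hom(K, M[i])`.
-/

set_option autoImplicit false
universe u v
open CategoryTheory
attribute [local instance] HasDerivedCategory.standard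

namespace Groth.Agent.Lib.H29PCohExt

variable {A : Type u} [CommRing A] [IsNoetherianRing A] (I : Ideal A)

lemma exists_mem_smul {F M : Type u} {X : Type v} [AddCommGroup F] [Module A F] [Module.Finite A F]
    [Module.Free A F] [AddCommGroup M] [Module A M] [Module.Finite A M] [AddCommGroup X] [Module A X]
    (Z : Submodule A (F →ₗ[A] M)) (Ψ : Z →ₗ[A] X) :
    ∃ c : ℕ, ∀ n : ℕ, c ≤ n → ∀ (φ : F →ₗ[A] M) (hφ : φ ∈ Z),
      (∀ f, φ f ∈ I ^ n • (⊤ : Submodule A M)) →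
        Ψ ⟨φ, hφ⟩ ∈ I ^ (n - c) • (⊤ : Submodule A X) := by
  classical
  obtain ⟨k, hk⟩ := Ideal.exists_pow_inf_eq_pow_smul I Z
  refine ⟨k, fun n hn φ hφ hval => ?_⟩
  have h1 : φ ∈ I ^ n • (⊤ : Submodule A (F →ₗ[A] M)) ⊓ Z :=
    ⟨mem_smul_top_of_forall_mem _ φ hval, hφ⟩
  rw [hk n hn] at h1
  have key : ∀ ψ ∈ I ^ (n - k) • (I ^ k • (⊤ : Submodule A (F →ₗ[A] M)) ⊓ Z),
      ∃ h : ψ ∈ Z, Ψ ⟨ψ, h⟩ ∈ I ^ (n - k) • (⊤ : Submodule A X) := by
    intro ψ hψ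
    induction hψ using Submodule.smul_induction_on' with
    | smul r hr z hz =>
      refine ⟨Z.smul_mem r hz.2, ?_⟩
      have : (⟨r • z, Z.smul_mem r hz.2⟩ : Z) = r • ⟨z, hz.2⟩ := rfl
      rw [this, map_smul]
      exact Submodule.smul_mem_smul hr trivial
    | add x _ y _ hx hy =>
      obtain ⟨hx1, hx2⟩ := hx
      obtain ⟨hy1, hy2⟩ := hy
      refine ⟨Z.add_mem hx1 hy1, ?_⟩
      have : (⟨x + y, Z.add_mem hx1 hy1⟩ : Z) = ⟨x, hx1⟩ + ⟨y, hy1⟩ := rfl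
      rw [this, map_add]
      exact Submodule.add_mem _ hx2 hy2
  obtain ⟨_, h2⟩ := key φ h1
  exact h2

/-- Derived Artin–Rees (Stacks 0G3T-type statement), flexible form. -/
theorem exists_pow_image (E : CochainComplex (ModuleCat.{u} A) ℤ) [E.IsKProjective] {K : Dual.D A}
    (α : DerivedCategory.Q.obj E ≅ K) (i j : ℤ) (hij : i + j = 0)
    [Module.Finite A (E.X j)] [Module.Free A (E.X j)]
    (M : Type u) [AddCommGroup M] [Module A M] [Module.Finite A M] :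
    ∃ c : ℕ, ∀ n : ℕ, c ≤ n → ∀ (N' : Type u) [AddCommGroup N'] [Module A N'] (g : N' →ₗ[A] M),
      (∀ y, g y ∈ I ^ n • (⊤ : Submodule A M)) → ∀ e : K ⟶ (Dual.inD A N')⟦i⟧,
        e ≫ ((DerivedCategory.singleFunctor (ModuleCat.{u} A) 0).map (ModuleCat.ofHom g))⟦i⟧' ∈
          (I ^ (n - c) • ⊤ : Submodule A (K ⟶ (Dual.inD A M)⟦i⟧)) := by
  obtain ⟨c, hc⟩ := exists_mem_smul I (Z E j M) (Phi E α i j hij M)
  refine ⟨c, fun n hn N' _ _ g hg e => ?_⟩
  obtain ⟨φ, rfl⟩ := Phi_surjective E α i j hij N' e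
  rw [← Phi_comp]
  exact hc n hn _ _ (fun f => hg _)

end Groth.Agent.Lib.H29PCohExt
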