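import Groth.Agent.Lib.H29PCohExt

/-!
# Kernel of `Phi`: coboundaries (helper29)

`Phi_eq_zero_iff`: for `E` K-projective, `Phi φ = 0` iff `φ = ψ ∘ d` for some `ψ : E^{j+1} → N`.
-/

set_option autoImplicit false
universe u v
open CategoryTheory
attribute [local instance] HasDerivedCategory.standard

namespace Groth.Agent.Lib.H29PCohExt

variable {A : Type u} [CommRing A]

section Ker

variable {E : CochainComplex (ModuleCat.{u} A) ℤ} {j : ℤ}

lemma comp_d_mem_Z {N : Type u} [AddCommGroup N] [Module A N] (ψ : E.X (j + 1) →ₗ[A] N) :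
    ψ ∘ₗ (E.d j (j + 1)).hom ∈ Z E j N := by
  rw [mem_Z_iff, LinearMap.comp_assoc]
  have h := E.d_comp_d (j - 1) j (j + 1)
  have h' : (E.d j (j + 1)).hom ∘ₗ (E.d (j - 1) j).hom = 0 := by
    ext x
    exact congrArg (fun f => (ModuleCat.Hom.hom f) x) h
  rw [h', LinearMap.comp_zero]

/-- the homotopy data for a coboundary -/
noncomputable def hHom {N : Type u} [AddCommGroup N] [Module A N] (ψ : E.X (j + 1) →ₗ[A] N)
    (i k : ℤ) : E.X i ⟶ ((HomologicalComplex.single (ModuleCat.{u} A) (ComplexShape.up ℤ) j).obj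
      (ModuleCat.of A N)).X k :=
  if hk : k = j then
    (if hi : i = j + 1 then (E.XIsoOfEq hi).hom ≫ ModuleCat.ofHom ψ ≫
      (HomologicalComplex.singleObjXIsoOfEq (ComplexShape.up ℤ) j (ModuleCat.of A N) k hk).inv
    else 0)
  else 0

lemma toSingle_coboundary {N : Type u} [AddCommGroup N] [Module A N] (ψ : E.X (j + 1) →ₗ[A] N) :
    toSingle (⟨ψ ∘ₗ (E.d j (j + 1)).hom, comp_d_mem_Z ψ⟩ : Z E j N) =
      Homotopy.nullHomotopicMap (hHom ψ) := by
  apply HomologicalComplex.to_single_hom_ext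
  rw [Homotopy.nullHomotopicMap_f (k₂ := j - 1) (k₁ := j) (k₀ := j + 1) (by simp) (by simp)]
  simp only [toSingle, HomologicalComplex.mkHomToSingle_f, HomologicalComplex.single_obj_d,
    Limits.comp_zero, add_zero]
  simp only [hHom, dif_pos, HomologicalComplex.XIsoOfEq_rfl, Iso.refl_hom, Category.id_comp]
  rfl

lemma Q_map_toSingle_coboundary {N : Type u} [AddCommGroup N] [Module A N]
    (ψ : E.X (j + 1) →ₗ[A] N) :
    DerivedCategory.Q.map (toSingle (⟨ψ ∘ₗ (E.d j (j + 1)).hom, comp_d_mem_Z ψ⟩ : Z E j N)) = 0 := by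
  rw [toSingle_coboundary]
  have h : Homotopy (Homotopy.nullHomotopicMap (hHom ψ)) 0 := by
    apply Homotopy.nullHomotopy
    intro i k hik
    simp only [ComplexShape.up_Rel] at hik
    unfold hHom
    split_ifs with hk hi
    · exact absurd (by omega) hik
    · rfl
    · rfl
  rw [DerivedCategory.Q_map_eq_of_homotopy _ h, Functor.map_zero]

lemma exists_of_Q_map_toSingle_eq_zero [E.IsKProjective] {N : Type u} [AddCommGroup N] [Module A N]
    (φ : Z E j N) (h : DerivedCategory.Q.map (toSingle φ) = 0) :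
    ∃ ψ : E.X (j + 1) →ₗ[A] N, φ.1 = ψ ∘ₗ (E.d j (j + 1)).hom := by
  have h2 : (HomotopyCategory.quotient (ModuleCat.{u} A) (ComplexShape.up ℤ)).map (toSingle φ)
      = (HomotopyCategory.quotient (ModuleCat.{u} A) (ComplexShape.up ℤ)).map 0 := by
    apply (CochainComplex.IsKProjective.Qh_map_bijective E _).injective
    have h1 := DerivedCategory.quotientCompQhIso_hom_naturality (C := ModuleCat.{u} A) (toSingle φ)
    have h2 := DerivedCategory.quotientCompQhIso_hom_naturality (C := ModuleCat.{u} A)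
      (0 : E ⟶ (HomologicalComplex.single (ModuleCat.{u} A) (ComplexShape.up ℤ) j).obj
        (ModuleCat.of A N))
    rw [h, ← Functor.map_zero DerivedCategory.Q, ← h2] at h1
    exact (cancel_mono _).mp h1
  have hh := HomotopyCategory.homotopyOfEq _ _ h2
  have hc := hh.comm j
  rw [dNext_eq hh.hom (show (ComplexShape.up ℤ).Rel j (j + 1) by simp),
    prevD_eq hh.hom (show (ComplexShape.up ℤ).Rel (j - 1) j by simp)] at hc
  simp only [toSingle, HomologicalComplex.mkHomToSingle_f, HomologicalComplex.single_obj_d,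
    Limits.comp_zero, add_zero, HomologicalComplex.zero_f] at hc
  refine ⟨(hh.hom (j + 1) j ≫ (HomologicalComplex.singleObjXSelf (ComplexShape.up ℤ) j
    (ModuleCat.of A N)).hom).hom, ?_⟩
  have hc' := congrArg (fun f => (f ≫ (HomologicalComplex.singleObjXSelf (ComplexShape.up ℤ) j
    (ModuleCat.of A N)).hom).hom) hc
  simp only [Category.assoc, Iso.inv_hom_id, Category.comp_id] at hc'
  exact hc'

end Ker

section KerD

variable (E : CochainComplex (ModuleCat.{u} A) ℤ) {K : Dual.D A}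
  (α : DerivedCategory.Q.obj E ≅ K) (i j : ℤ) (hij : i + j = 0)

lemma Phi_coboundary {N : Type u} [AddCommGroup N] [Module A N] (ψ : E.X (j + 1) →ₗ[A] N) :
    Phi E α i j hij N ⟨ψ ∘ₗ (E.d j (j + 1)).hom, comp_d_mem_Z ψ⟩ = 0 := by
  show PhiFun E α i j hij N _ = 0
  rw [PhiFun, Q_map_toSingle_coboundary, Limits.zero_comp, Limits.comp_zero]

lemma exists_of_Phi_eq_zero [E.IsKProjective] {N : Type u} [AddCommGroup N] [Module A N]
    (φ : Z E j N) (h : Phi E α i j hij N φ = 0) :
    ∃ ψ : E.X (j + 1) →ₗ[A] N, φ.1 = ψ ∘ₗ (E.d j (j + 1)).hom := by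
  apply exists_of_Q_map_toSingle_eq_zero
  have h' : α.inv ≫ DerivedCategory.Q.map (toSingle φ) ≫ (tgtIso i j hij N).inv = 0 := h
  have h2 : DerivedCategory.Q.map (toSingle φ) =
      α.hom ≫ (α.inv ≫ DerivedCategory.Q.map (toSingle φ) ≫ (tgtIso i j hij N).inv) ≫
        (tgtIso i j hij N).hom := by simp
  rw [h2, h', Limits.zero_comp, Limits.comp_zero]

end KerD

end Groth.Agent.Lib.H29PCohExt
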