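import Groth.Agent.Lib.H29PCohExt3
import Groth.Agent.Lib.H29PCohCone
import Groth.Agent.Lib.H29ModFiltColim

/-!
# `Hom(K, -[n])` and filtered colimits of modules for `m`-pseudo-coherent `K` (helper29)
-/

set_option autoImplicit false
universe u
open CategoryTheory Limits
attribute [local instance] HasDerivedCategory.standard

namespace Groth.Agent.Lib.H29PCohFilt

open Groth.Agent.Lib.H29PCohExt

variable {R : Type u} [CommRing R] (E : CochainComplex (ModuleCat.{u} R) ℤ) [E.IsKProjective]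
  {K : Dual.D R} (α : DerivedCategory.Q.obj E ⟶ K) (m : ℤ)
  (hiso : ∀ i : ℤ, m < i → IsIso ((DerivedCategory.homologyFunctor (ModuleCat.{u} R) i).map α))
  (hepi : Epi ((DerivedCategory.homologyFunctor (ModuleCat.{u} R) m).map α))
  (hfin : ∀ i, Module.Finite R (E.X i)) (hfree : ∀ i, Module.Free R (E.X i))
  {J : Type u} [SmallCategory J] [IsFiltered J] (F : J ⥤ ModuleCat.{u} R) (c : Cocone F)
  (hc : IsColimit c)

instance isGE_inD_shift (N : Type u) [AddCommGroup N] [Module R N] (n : ℤ) :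
    DerivedCategory.IsGE ((Dual.inD R N)⟦n⟧) (-n) :=
  DerivedCategory.TStructure.t.isGE_shift (Dual.inD R N) 0 n (-n) (by omega)

/-- abbreviation: `Phi` for the identity iso -/
noncomputable abbrev Ph (n : ℤ) (N : Type u) [AddCommGroup N] [Module R N] :=
  Phi E (Iso.refl (DerivedCategory.Q.obj E)) n (-n) (by omega) N

include hiso hepi hfin hfree hc

theorem part1 (n : ℤ) (hn : n < -m) (x : K ⟶ (Dual.inD R c.pt)⟦n⟧) :
    ∃ (j : J) (y : K ⟶ (Dual.inD R (F.obj j))⟦n⟧),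
      y ≫ ((DerivedCategory.singleFunctor (ModuleCat.{u} R) 0).map (c.ι.app j))⟦n⟧' = x := by
  haveI := hfin; haveI := hfree
  obtain ⟨φ, hφ⟩ := Phi_surjective E (Iso.refl _) n (-n) (by omega) c.pt (α ≫ x)
  obtain ⟨j₀, φ₀, hφ₀⟩ := H29ModFiltColim.exists_factor F c hc φ.1
  have hcoc : (c.ι.app j₀).hom ∘ₗ (φ₀ ∘ₗ (E.d (-n - 1) (-n)).hom) = 0 := by
    rw [← LinearMap.comp_assoc, hφ₀]
    exact (mem_Z_iff φ.1).1 φ.2
  obtain ⟨j₁, f, hf⟩ := H29ModFiltColim.exists_map_comp_eq_zero F c hc j₀ _ hcoc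
  let φ₁ : Z E (-n) (F.obj j₁) := ⟨(F.map f).hom ∘ₗ φ₀, by
    rw [mem_Z_iff, LinearMap.comp_assoc]
    exact hf⟩
  obtain ⟨y, hy⟩ := H29PCohCone.precomp_surjective α m hiso hepi
    ((Dual.inD R (F.obj j₁))⟦n⟧) (-n) (by omega) (Ph E n (F.obj j₁) φ₁)
  refine ⟨j₁, y, ?_⟩
  apply H29PCohCone.precomp_injective α m hiso hepi ((Dual.inD R c.pt)⟦n⟧) (-n) (by omega)
  show α ≫ y ≫ _ = α ≫ x
  have hy' : α ≫ y = Ph E n (F.obj j₁) φ₁ := hy
  rw [← Category.assoc, hy', ← hφ]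
  have h1 := Phi_comp E (Iso.refl _) n (-n) (by omega) (c.ι.app j₁).hom φ₁
  refine h1.symm.trans ?_
  congr 1
  apply Subtype.ext
  show (c.ι.app j₁).hom ∘ₗ ((F.map f).hom ∘ₗ φ₀) = φ.1
  rw [← hφ₀, ← LinearMap.comp_assoc]
  congr 1
  have := c.w f
  exact congrArg ModuleCat.Hom.hom this

theorem part2 (n : ℤ) (hn : n ≤ -m) (j : J) (y : K ⟶ (Dual.inD R (F.obj j))⟦n⟧)
    (hy : y ≫ ((DerivedCategory.singleFunctor (ModuleCat.{u} R) 0).map (c.ι.app j))⟦n⟧' = 0) :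
    ∃ (j' : J) (f : j ⟶ j'),
      y ≫ ((DerivedCategory.singleFunctor (ModuleCat.{u} R) 0).map (F.map f))⟦n⟧' = 0 := by
  haveI := hfin; haveI := hfree
  obtain ⟨φ, hφ⟩ := Phi_surjective E (Iso.refl _) n (-n) (by omega) (F.obj j) (α ≫ y)
  -- the image in the colimit is a coboundary
  have h1 := Phi_comp E (Iso.refl _) n (-n) (by omega)
    (show ↑(F.obj j) →ₗ[R] ↑c.pt from (c.ι.app j).hom) φ
  have h2 : Phi E (Iso.refl _) n (-n) (by omega) c.pt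
      ⟨(c.ι.app j).hom ∘ₗ φ.1, comp_mem_Z _ φ.2⟩ = 0 := by
    rw [h1, hφ, Category.assoc]
    have : y ≫ ((DerivedCategory.singleFunctor (ModuleCat.{u} R) 0).map
        (ModuleCat.ofHom (c.ι.app j).hom))⟦n⟧' = 0 := hy
    rw [this, comp_zero]
  obtain ⟨ψ, hψ⟩ := exists_of_Phi_eq_zero E (Iso.refl _) n (-n) (by omega) _ h2
  obtain ⟨j₂, ψ₂, hψ₂⟩ := H29ModFiltColim.exists_factor F c hc ψ
  let j₃ := IsFiltered.max j j₂
  let a : j ⟶ j₃ := IsFiltered.leftToMax j j₂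
  let b : j₂ ⟶ j₃ := IsFiltered.rightToMax j j₂
  have h3 : (c.ι.app j₃).hom ∘ₗ ((F.map a).hom ∘ₗ φ.1 -
      (F.map b).hom ∘ₗ ψ₂ ∘ₗ (E.d (-n) (-n + 1)).hom) = 0 := by
    rw [LinearMap.comp_sub, sub_eq_zero, ← LinearMap.comp_assoc, ← LinearMap.comp_assoc]
    have ha : (c.ι.app j₃).hom ∘ₗ (F.map a).hom = (c.ι.app j).hom :=
      congrArg ModuleCat.Hom.hom (c.w a)
    have hb : (c.ι.app j₃).hom ∘ₗ (F.map b).hom = (c.ι.app j₂).hom :=
      congrArg ModuleCat.Hom.hom (c.w b)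
    rw [ha, hb, ← LinearMap.comp_assoc, hψ₂]
    exact hψ
  obtain ⟨j₄, f, hf⟩ := H29ModFiltColim.exists_map_comp_eq_zero F c hc j₃ _ h3
  refine ⟨j₄, a ≫ f, ?_⟩
  apply H29PCohCone.precomp_injective α m hiso hepi ((Dual.inD R (F.obj j₄))⟦n⟧) (-n) (by omega)
  show α ≫ y ≫ _ = α ≫ 0
  rw [comp_zero, ← Category.assoc, ← hφ]
  have h4 := Phi_comp E (Iso.refl _) n (-n) (by omega) (F.map (a ≫ f)).hom φ
  refine h4.symm.trans ?_
  have h5 : (F.map (a ≫ f)).hom ∘ₗ φ.1 =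
      ((F.map (b ≫ f)).hom ∘ₗ ψ₂) ∘ₗ (E.d (-n) (-n + 1)).hom := by
    rw [LinearMap.comp_sub, sub_eq_zero] at hf
    have e1 : (F.map (a ≫ f)).hom = (F.map f).hom ∘ₗ (F.map a).hom := by
      rw [F.map_comp]; rfl
    have e2 : (F.map (b ≫ f)).hom = (F.map f).hom ∘ₗ (F.map b).hom := by
      rw [F.map_comp]; rfl
    rw [e1, e2, LinearMap.comp_assoc, hf]
    simp only [LinearMap.comp_assoc]
  have h6 : (⟨(F.map (a ≫ f)).hom ∘ₗ φ.1, comp_mem_Z _ φ.2⟩ : Z E (-n) (F.obj j₄)) =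
      ⟨((F.map (b ≫ f)).hom ∘ₗ ψ₂) ∘ₗ (E.d (-n) (-n + 1)).hom, comp_d_mem_Z _⟩ :=
    Subtype.ext h5
  rw [h6]
  exact Phi_coboundary E (Iso.refl _) n (-n) (by omega) _

end Groth.Agent.Lib.H29PCohFilt
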