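import Mathlib.RingTheory.Filtration
import Mathlib.RingTheory.Nakayama
import Mathlib.RingTheory.FiniteType
import Mathlib.RingTheory.LocalRing.MaximalIdeal.Basic
import Mathlib.LinearAlgebra.Isomorphisms

/-!
Finite modules `M`, `N` over a Noetherian local ring with `M/m^n M ≅ N/m^n N` for all `n` are
isomorphic (Artin–Rees lifting argument, no completions).
-/

set_option autoImplicit false
universe u v

namespace Groth.Agent.Lib.H29QuotLift

open IsLocalRing

section pi

variable {R : Type u} [CommRing R]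

/-- `I • ⊤` in a finite power is computed componentwise. -/
theorem mem_smul_top_pi {ι : Type*} [Fintype ι] [DecidableEq ι] (I : Ideal R) (N : Type v)
    [AddCommGroup N] [Module R N] (x : ι → N)
    (hx : ∀ i, x i ∈ I • (⊤ : Submodule R N)) : x ∈ I • (⊤ : Submodule R (ι → N)) := by
  have h1 : x = ∑ i, (LinearMap.single R (fun _ : ι => N) i) (x i) := by
    funext k
    simp [Finset.sum_apply, Pi.single_apply]
  rw [h1]
  refine Submodule.sum_mem _ fun i _ => ?_
  have h2 : (I • (⊤ : Submodule R N)).map (LinearMap.single R (fun _ : ι => N) i) ≤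
      I • (⊤ : Submodule R (ι → N)) := by
    rw [Submodule.map_smul'']
    exact Submodule.smul_mono le_rfl le_top
  exact h2 ⟨x i, hx i, rfl⟩

theorem apply_mem_smul_top_of_mem {ι : Type*} (I : Ideal R) (N : Type v)
    [AddCommGroup N] [Module R N] (x : ι → N) (hx : x ∈ I • (⊤ : Submodule R (ι → N))) (i : ι) :
    x i ∈ I • (⊤ : Submodule R N) := by
  have h2 : (I • (⊤ : Submodule R (ι → N))).map (LinearMap.proj (φ := fun _ : ι => N) i) ≤
      I • (⊤ : Submodule R N) := by
    rw [Submodule.map_smul'']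
    exact Submodule.smul_mono le_rfl le_top
  exact h2 ⟨x, hx, rfl⟩

end pi

variable {R : Type u} [CommRing R] [IsNoetherianRing R] [IsLocalRing R]

/-- Lifting: if `M/m^n M ≅ N/m^n N` for all `n` then there is a surjection `M → N`. -/
theorem exists_surjective_of_quot_equiv (M N : Type u) [AddCommGroup M] [Module R M]
    [AddCommGroup N] [Module R N] [Module.Finite R M] [Module.Finite R N]
    (h : ∀ n : ℕ, Nonempty ((M ⧸ (maximalIdeal R ^ n) • (⊤ : Submodule R M)) ≃ₗ[R]
      (N ⧸ (maximalIdeal R ^ n) • (⊤ : Submodule R N)))) :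
    ∃ f : M →ₗ[R] N, Function.Surjective f := by
  classical
  -- generators and relations of `M`
  obtain ⟨s, g, hg⟩ := Module.Finite.exists_fin (R := R) (M := M)
  let π : (Fin s → R) →ₗ[R] M := Fintype.linearCombination R g
  have hπ : Function.Surjective π := by
    rw [← LinearMap.range_eq_top, Fintype.range_linearCombination, hg]
  have hUfg : (LinearMap.ker π).FG := IsNoetherian.noetherian _
  obtain ⟨t, u, hu⟩ := Submodule.fg_iff_exists_fin_generating_family.mp hUfg
  have hu_mem : ∀ i, π (u i) = 0 := by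
    intro i
    have : u i ∈ LinearMap.ker π := by
      rw [← hu]; exact Submodule.subset_span ⟨i, rfl⟩
    exact this
  -- the linear map `L`
  let L : (Fin s → N) →ₗ[R] (Fin t → N) :=
    LinearMap.pi fun i => ∑ j, (u i j) • (LinearMap.proj (φ := fun _ : Fin s => N) j)
  have hL : ∀ (y : Fin s → N) (i : Fin t), L y i = ∑ j, u i j • y j := by
    intro y i
    simp [L]
  -- Artin–Rees
  obtain ⟨c, hc⟩ := Ideal.exists_pow_inf_eq_pow_smul (maximalIdeal R) (LinearMap.range L)
  obtain ⟨θ⟩ := h (c + 1)
  -- lifts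
  have hy : ∀ j, ∃ y : N, Submodule.Quotient.mk y = θ (Submodule.Quotient.mk (g j)) :=
    fun j => Submodule.Quotient.mk_surjective _ _
  choose y hy using hy
  have hθ : ∀ v : Fin s → R, θ (Submodule.Quotient.mk (π v)) =
      Submodule.Quotient.mk (∑ j, v j • y j) := by
    intro v
    have : π v = ∑ j, v j • g j := by simp [π, Fintype.linearCombination_apply]
    rw [this, ← Submodule.mkQ_apply, ← Submodule.mkQ_apply, map_sum, map_sum, map_sum]
    refine Finset.sum_congr rfl fun j _ => ?_
    rw [map_smul, map_smul, map_smul, Submodule.mkQ_apply, Submodule.mkQ_apply, ← hy j]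
  have hLy : L y ∈ (maximalIdeal R ^ (c + 1)) • (⊤ : Submodule R (Fin t → N)) := by
    apply mem_smul_top_pi
    intro i
    rw [hL, ← Submodule.Quotient.mk_eq_zero, ← hθ (u i), hu_mem i, Submodule.Quotient.mk_zero,
      map_zero]
  have hLy2 : L y ∈ (maximalIdeal R) • LinearMap.range L := by
    have h1 : L y ∈ (maximalIdeal R ^ (c + 1)) • (⊤ : Submodule R (Fin t → N)) ⊓
        LinearMap.range L := ⟨hLy, ⟨y, rfl⟩⟩
    rw [hc (c + 1) (by omega)] at h1
    have h2 : c + 1 - c = 1 := by omega
    rw [h2, pow_one] at h1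
    exact Submodule.smul_mono le_rfl inf_le_right h1
  obtain ⟨w, hw, hwL⟩ : ∃ w ∈ (maximalIdeal R) • (⊤ : Submodule R (Fin s → N)), L w = L y := by
    have h3 : (maximalIdeal R) • LinearMap.range L =
        ((maximalIdeal R) • (⊤ : Submodule R (Fin s → N))).map L := by
      rw [Submodule.map_smul'', Submodule.map_top]
    rw [h3] at hLy2
    exact hLy2
  let y' : Fin s → N := y - w
  have hy'L : L y' = 0 := by
    simp only [y', map_sub, hwL, sub_self]
  -- the induced map
  let F' : (Fin s → R) →ₗ[R] N := Fintype.linearCombination R y'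
  have hF' : ∀ v, F' v = ∑ j, v j • y' j := fun v => by
    simp [F', Fintype.linearCombination_apply]
  have hker : LinearMap.ker π ≤ LinearMap.ker F' := by
    rw [← hu, Submodule.span_le]
    rintro _ ⟨i, rfl⟩
    change F' (u i) = 0
    rw [hF', ← hL, hy'L]
    rfl
  let f : M →ₗ[R] N := ((LinearMap.ker π).liftQ F' hker) ∘ₗ
    (π.quotKerEquivOfSurjective hπ).symm.toLinearMap
  have hfπ : ∀ v, f (π v) = F' v := by
    intro v
    have : (π.quotKerEquivOfSurjective hπ).symm (π v) = Submodule.Quotient.mk v := by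
      rw [LinearEquiv.symm_apply_eq]
      rfl
    simp only [f, LinearMap.comp_apply, LinearEquiv.coe_coe, this]
    rfl
  refine ⟨f, ?_⟩
  -- surjectivity by Nakayama
  rw [← LinearMap.range_eq_top, eq_top_iff]
  apply Submodule.le_of_le_smul_of_le_jacobson_bot (I := maximalIdeal R) Module.Finite.fg_top
    (IsLocalRing.maximalIdeal_le_jacobson ⊥)
  intro z _
  obtain ⟨xq, hxq⟩ := θ.surjective (Submodule.Quotient.mk z)
  obtain ⟨x, rfl⟩ := Submodule.Quotient.mk_surjective _ xq
  obtain ⟨v, rfl⟩ := hπ x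
  rw [hθ v] at hxq
  have h4 : z - ∑ j, v j • y j ∈ (maximalIdeal R ^ (c + 1)) • (⊤ : Submodule R N) := by
    rw [← Submodule.Quotient.mk_eq_zero, Submodule.Quotient.mk_sub, hxq, sub_self]
  have h5 : (maximalIdeal R ^ (c + 1)) • (⊤ : Submodule R N) ≤
      (maximalIdeal R) • (⊤ : Submodule R N) :=
    Submodule.smul_mono_left (Ideal.pow_le_self (by omega))
  have h6 : ∑ j, v j • y j = f (π v) + ∑ j, v j • w j := by
    rw [hfπ, hF', ← Finset.sum_add_distrib]
    refine Finset.sum_congr rfl fun j _ => ?_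
    simp only [y', Pi.sub_apply, smul_sub]
    abel
  have h7 : ∑ j, v j • w j ∈ (maximalIdeal R) • (⊤ : Submodule R N) :=
    Submodule.sum_mem _ fun j _ =>
      Submodule.smul_mem _ _ (apply_mem_smul_top_of_mem _ N w hw j)
  have h8 : z = f (π v) + ((z - ∑ j, v j • y j) + ∑ j, v j • w j) := by
    rw [h6]; abel
  rw [h8]
  exact Submodule.add_mem_sup ⟨π v, rfl⟩ (Submodule.add_mem _ (h5 h4) h7)

/-- Finite modules with isomorphic truncations are isomorphic. -/
theorem nonempty_equiv_of_quot_equiv (M N : Type u) [AddCommGroup M] [Module R M]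
    [AddCommGroup N] [Module R N] [Module.Finite R M] [Module.Finite R N]
    (h : ∀ n : ℕ, Nonempty ((M ⧸ (maximalIdeal R ^ n) • (⊤ : Submodule R M)) ≃ₗ[R]
      (N ⧸ (maximalIdeal R ^ n) • (⊤ : Submodule R N)))) :
    Nonempty (M ≃ₗ[R] N) := by
  obtain ⟨f, hf⟩ := exists_surjective_of_quot_equiv M N h
  obtain ⟨g, hg⟩ := exists_surjective_of_quot_equiv N M (fun n => ⟨(h n).some.symm⟩)
  have hinj : Function.Injective (g ∘ₗ f) :=
    OrzechProperty.injective_of_surjective_endomorphism _ (hg.comp hf)
  exact ⟨LinearEquiv.ofBijective f ⟨Function.Injective.of_comp hinj, hf⟩⟩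

end Groth.Agent.Lib.H29QuotLift
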