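import Groth.Agent.Lib.H29Bidual
import Groth.Agent.Lib.DInjGE

/-!
# Residue field and dualizing complexes (helper29)

Tools for `Ext^i(κ, ω)`: maps from `M[-a]` to a K-injective complex as cocycles modulo coboundaries,
functionals on modules killed by a maximal ideal, retraction data, and the main theorem: for a
dualizing complex `ω` over a Noetherian ring and a maximal ideal `m` there is exactly one `n` with
`Hom(κ, ω[n]) ≠ 0`, and it is `≅ κ`.
-/

set_option autoImplicit false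
universe w v u
open CategoryTheory CategoryTheory.Limits Category Pretriangulated DerivedCategory Opposite
  HomologicalComplex

namespace Groth.Agent.Lib.H29ResField

open Groth.Agent.Lib.DInjTrunc

section General

variable {C : Type u} [Category.{v} C] [Abelian C]

/-- `fromSingle` of a coboundary is null-homotopic. -/
lemma fromSingle_comp_d_eq (I : CochainComplex C ℤ) (a : ℤ) {M : C} (s : M ⟶ I.X (a - 1)) :
    ∃ h : ∀ p q : ℤ, (ComplexShape.up ℤ).Rel q p →
        (((single C (ComplexShape.up ℤ) a).obj M).X p ⟶ I.X q),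
      fromSingle I a (s ≫ I.d (a - 1) a) (by simp) = Homotopy.nullHomotopicMap' h := by
  refine ⟨fun p q hqp => if hp : p = a then
      eqToHom (by rw [hp]) ≫ (singleObjXSelf (ComplexShape.up ℤ) a M).hom ≫ s ≫
        eqToHom (by congr 1; simp at hqp; omega) else 0, ?_⟩
  apply from_single_hom_ext
  rw [Homotopy.nullHomotopicMap'_f (show (ComplexShape.up ℤ).Rel (a - 1) a by simp)
    (show (ComplexShape.up ℤ).Rel a (a + 1) by simp)]
  simp [fromSingle, mkHomFromSingle_f]

variable [HasDerivedCategory.{w} C]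

lemma Q_map_fromSingle_comp_d (I : CochainComplex C ℤ) (a : ℤ) {M : C} (s : M ⟶ I.X (a - 1)) :
    Q.map (fromSingle I a (s ≫ I.d (a - 1) a) (by simp)) = 0 := by
  obtain ⟨h, hh⟩ := fromSingle_comp_d_eq I a s
  rw [hh, DerivedCategory.Q_map_eq_of_homotopy (h := Homotopy.nullHomotopy' h), Functor.map_zero]

/-- every morphism `M[-a] ⟶ I` in `D(C)`, `I` K-injective, comes from a cocycle -/
lemma exists_fromSingle_eq (I : CochainComplex C ℤ) [I.IsKInjective] (a : ℤ) {M : C}
    (w : Q.obj ((single C (ComplexShape.up ℤ) a).obj M) ⟶ Q.obj I) :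
    ∃ (y : M ⟶ I.X a) (hy : y ≫ I.d a (a + 1) = 0), Q.map (fromSingle I a y hy) = w := by
  obtain ⟨g, rfl⟩ := Groth.Agent.Lib.DConeRep.exists_map_eq_of_isKInjective w
  refine ⟨(singleObjXSelf (ComplexShape.up ℤ) a M).inv ≫ g.f a, ?_, ?_⟩
  · rw [assoc, g.comm, single_obj_d, zero_comp, comp_zero]
  · congr 1
    apply from_single_hom_ext
    simp [fromSingle, mkHomFromSingle_f]

end General

section Functional

variable {A : Type u} [CommRing A]

/-- a functional on a module killed by a maximal ideal, vanishing on a submodule and equal to `1`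
on a given element outside of it -/
lemma exists_functional (m : Ideal A) [hm : m.IsMaximal] (V : Type*) [AddCommGroup V] [Module A V]
    (hV : ∀ a ∈ m, ∀ v : V, a • v = 0) (B : Submodule A V) (φ : V) (hφ : φ ∉ B) :
    ∃ l : V →ₗ[A] (A ⧸ m), (∀ b ∈ B, l b = 0) ∧ l φ = 1 := by
  letI : Field (A ⧸ m) := Ideal.Quotient.field m
  have htors : Module.IsTorsionBySet A (V ⧸ B) (m : Set A) := by
    intro x a
    obtain ⟨v, rfl⟩ := Submodule.Quotient.mk_surjective B x
    rw [← Submodule.Quotient.mk_smul, hV a.1 a.2 v, Submodule.Quotient.mk_zero]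
  letI : Module (A ⧸ m) (V ⧸ B) := htors.module
  haveI : IsScalarTower A (A ⧸ m) (V ⧸ B) := htors.isScalarTower
  let x : V ⧸ B := Submodule.Quotient.mk φ
  have hx : x ≠ 0 := by
    intro h
    exact hφ ((Submodule.Quotient.mk_eq_zero B).mp h)
  let f : (A ⧸ m) →ₗ[A ⧸ m] (V ⧸ B) := LinearMap.toSpanSingleton (A ⧸ m) (V ⧸ B) x
  have hf : Function.Injective f := by
    rw [← LinearMap.ker_eq_bot, LinearMap.ker_eq_bot']
    intro c hc
    replace hc : c • x = 0 := hc
    rcases smul_eq_zero.mp hc with h | h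
    · exact h
    · exact absurd h hx
  obtain ⟨g, hg⟩ := LinearMap.exists_leftInverse_of_injective f (LinearMap.ker_eq_bot.mpr hf)
  refine ⟨(g.restrictScalars A) ∘ₗ B.mkQ, ?_, ?_⟩
  · intro b hb
    have : B.mkQ b = 0 := (Submodule.Quotient.mk_eq_zero B).mpr hb
    simp [this]
  · have h1 : g (f 1) = 1 := by
      have := LinearMap.congr_fun hg (1 : A ⧸ m)
      simpa using this
    have h2 : f 1 = x := by simp [f]
    rw [h2] at h1
    exact h1

end Functional

section Concrete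

attribute [local instance] HasDerivedCategory.standard

open Groth.Agent.Lib.H29Bidual

variable (A : Type u) [CommRing A] (J : CochainComplex (ModuleCat.{u} A) ℤ)

/-- if all maps `M[-i] ⟶ J` vanish in `D(A)` then `Hom_A(M, J)` is acyclic -/
lemma isZero_Q_T_of_forall_eq_zero [J.IsKInjective] (M : ModuleCat.{u} A)
    (h : ∀ (i : ℤ) (w : Q.obj ((single (ModuleCat.{u} A) (ComplexShape.up ℤ) i).obj M) ⟶ Q.obj J),
      w = 0) : IsZero (Q.obj (T A J M)) := by
  have hex : ∀ i : ℤ, (T A J M).ExactAt i := by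
    intro i
    rw [HomologicalComplex.exactAt_iff' _ (i - 1) i (i + 1) (by simp) (by simp),
      ShortComplex.moduleCat_exact_iff]
    intro x hx
    replace hx : x ≫ J.d i (i + 1) = 0 := hx
    obtain ⟨s, hs⟩ := exists_factor_of_Q_map_eq_zero J i x hx (h i _)
    exact ⟨s, hs⟩
  haveI : (T A J M).IsGE 1 := (CochainComplex.isGE_iff _ _).mpr (fun i _ => hex i)
  haveI : (T A J M).IsLE 0 := (CochainComplex.isLE_iff _ _).mpr (fun i _ => hex i)
  haveI : (Q.obj (T A J M)).IsGE 1 := (isGE_Q_obj_iff _ _).mpr inferInstance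
  haveI : (Q.obj (T A J M)).IsLE 0 := (isLE_Q_obj_iff _ _).mpr inferInstance
  exact DerivedCategory.TStructure.t.isZero (Q.obj (T A J M)) 0 1

variable (m : Ideal A) [hm : m.IsMaximal]

omit hm in
lemma smul_eq_zero_of_mem {a : A} (ha : a ∈ m) (x : A ⧸ m) : a • x = 0 := by
  obtain ⟨x, rfl⟩ := Ideal.Quotient.mk_surjective x
  rw [← Ideal.Quotient.mk_eq_mk, Algebra.smul_def]
  show (Ideal.Quotient.mk m) a * (Ideal.Quotient.mk m) x = 0
  rw [Ideal.Quotient.eq_zero_iff_mem.mpr ha, zero_mul]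

/-- retraction data: a nonzero map `κ[-i] ⟶ Q J` gives a retraction of `κ[-i]` off
`Q (Hom_A(κ, J))` -/
lemma exists_retraction [J.IsKInjective] (i : ℤ)
    (w : Q.obj ((single (ModuleCat.{u} A) (ComplexShape.up ℤ) i).obj (ModuleCat.of A (A ⧸ m))) ⟶
      Q.obj J) (hw : w ≠ 0) :
    ∃ (s : Q.obj ((single (ModuleCat.{u} A) (ComplexShape.up ℤ) i).obj (ModuleCat.of A (A ⧸ m))) ⟶
        Q.obj (T A J (ModuleCat.of A (A ⧸ m))))
      (p : Q.obj (T A J (ModuleCat.of A (A ⧸ m))) ⟶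
        Q.obj ((single (ModuleCat.{u} A) (ComplexShape.up ℤ) i).obj (ModuleCat.of A (A ⧸ m)))),
      s ≫ p = 𝟙 _ := by
  obtain ⟨y, hy, rfl⟩ := exists_fromSingle_eq J i w
  let k : ModuleCat.{u} A := ModuleCat.of A (A ⧸ m)
  let B : Submodule A ((T A J k).X i) := LinearMap.range ((T A J k).d (i - 1) i).hom
  have hyB : (show (T A J k).X i from y) ∉ B := by
    rintro ⟨ψ, hψ⟩
    replace hψ : ψ ≫ J.d (i - 1) i = y := hψ
    subst hψ
    exact hw (Q_map_fromSingle_comp_d J i ψ)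
  have hV : ∀ a ∈ m, ∀ v : (T A J k).X i, a • v = 0 := by
    intro a ha v
    apply ModuleCat.hom_ext
    refine LinearMap.ext (fun x => ?_)
    show a • (ModuleCat.Hom.hom v) x = 0
    rw [← map_smul, smul_eq_zero_of_mem A m ha, map_zero]
  obtain ⟨l, hlB, hl1⟩ := exists_functional m _ hV B (show (T A J k).X i from y) hyB
  let σ₀ : (A ⧸ m) →ₗ[A] (T A J k).X i :=
    Submodule.liftQ m (LinearMap.toSpanSingleton A _ (show (T A J k).X i from y)) (by
      intro a ha
      rw [LinearMap.mem_ker]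
      exact hV a ha _)
  let σ : k ⟶ (T A J k).X i := ModuleCat.ofHom σ₀
  have hσ₀ : ∀ c : A, σ₀ (Submodule.Quotient.mk c) = c • (show (T A J k).X i from y) := by
    intro c
    rfl
  have hσ : σ ≫ (T A J k).d i (i + 1) = 0 := by
    apply ModuleCat.hom_ext
    refine LinearMap.ext (fun c => ?_)
    obtain ⟨c, rfl⟩ := Submodule.Quotient.mk_surjective _ c
    show ((T A J k).d i (i + 1)).hom (σ₀ (Submodule.Quotient.mk c)) = 0
    rw [hσ₀, map_smul]
    have : ((T A J k).d i (i + 1)).hom (show (T A J k).X i from y) = 0 := hy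
    rw [this, smul_zero]
  have hl : ∀ j : ℤ, (ComplexShape.up ℤ).Rel j i → (T A J k).d j i ≫ ModuleCat.ofHom l = 0 := by
    intro j hj
    obtain rfl : j = i - 1 := by simp at hj; omega
    apply ModuleCat.hom_ext
    ext x
    exact hlB _ ⟨x, rfl⟩
  let sC := fromSingle (T A J k) i σ hσ
  let pC : T A J k ⟶ (single (ModuleCat.{u} A) (ComplexShape.up ℤ) i).obj k :=
    mkHomToSingle (ModuleCat.ofHom l) hl
  have hsp : sC ≫ pC = 𝟙 _ := by
    apply from_single_hom_ext
    have h1 : σ ≫ ModuleCat.ofHom l = 𝟙 k := by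
      apply ModuleCat.hom_ext
      refine LinearMap.ext (fun c => ?_)
      obtain ⟨c, rfl⟩ := Submodule.Quotient.mk_surjective _ c
      show l (σ₀ (Submodule.Quotient.mk c)) = Submodule.Quotient.mk c
      rw [hσ₀, map_smul, hl1]
      show c • (Submodule.Quotient.mk (1 : A) : A ⧸ m) = _
      rw [← Submodule.Quotient.mk_smul, smul_eq_mul, mul_one]
    simp only [comp_f, id_f, sC, pC, fromSingle, mkHomFromSingle_f, mkHomToSingle_f, assoc]
    rw [reassoc_of% h1]
    simp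
  refine ⟨Q.map sC, Q.map pC, ?_⟩
  rw [← Functor.map_comp, hsp, CategoryTheory.Functor.map_id]

/-- the comparison `Hom(X', Y[t]) → Hom(X₀, Y[n])` for `X'[i] ≅ X₀`, `t + i = n` -/
noncomputable def Phi {X' X₀ : Dual.D A} (i : ℤ) (α : X'⟦i⟧ ≅ X₀) (Y : Dual.D A) (t n : ℤ)
    (h : t + i = n) : (X' ⟶ Y⟦t⟧) →ₗ[A] (X₀ ⟶ Y⟦n⟧) where
  toFun w := α.inv ≫ w⟦i⟧' ≫ (shiftFunctorAdd' (Dual.D A) t i n h).inv.app Y
  map_add' w w' := by
    rw [Functor.map_add, Preadditive.add_comp, Preadditive.comp_add]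
  map_smul' c w := by
    rw [Functor.map_smul, Linear.smul_comp, Linear.comp_smul]
    rfl

lemma Phi_apply {X' X₀ : Dual.D A} (i : ℤ) (α : X'⟦i⟧ ≅ X₀) (Y : Dual.D A) (t n : ℤ)
    (h : t + i = n) (w : X' ⟶ Y⟦t⟧) :
    Phi A i α Y t n h w = α.inv ≫ w⟦i⟧' ≫ (shiftFunctorAdd' (Dual.D A) t i n h).inv.app Y := rfl

lemma Phi_bijective {X' X₀ : Dual.D A} (i : ℤ) (α : X'⟦i⟧ ≅ X₀) (Y : Dual.D A) (t n : ℤ)
    (h : t + i = n) : Function.Bijective (Phi A i α Y t n h) := by
  constructor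
  · intro w w' hww
    rw [Phi_apply, Phi_apply, cancel_epi, cancel_mono] at hww
    exact (shiftFunctor (Dual.D A) i).map_injective hww
  · intro v
    obtain ⟨w, hw⟩ := (shiftFunctor (Dual.D A) i).map_surjective
      (α.hom ≫ v ≫ (shiftFunctorAdd' (Dual.D A) t i n h).hom.app Y)
    refine ⟨w, ?_⟩
    rw [Phi_apply, hw]
    simp

end Concrete

section Final

attribute [local instance] HasDerivedCategory.standard

open Groth.Agent.Lib.H29Bidual

variable (A : Type u) [CommRing A] [IsNoetherianRing A]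

/-- **Residue field and dualizing complex**: exactly one `Ext^n(κ, ω)` is nonzero, and it is `κ`. -/
theorem exists_unique_degree (ω : Dual.D A) (hω : Dual.IsDualizing A ω) (m : Ideal A)
    [hm : m.IsMaximal] :
    ∃ n : ℤ, (∀ i : ℤ, i ≠ n → Subsingleton (Dual.inD A (A ⧸ m) ⟶ ω⟦i⟧)) ∧
      Nonempty ((Dual.inD A (A ⧸ m) ⟶ ω⟦n⟧) ≃ₗ[A] (A ⧸ m)) := by
  classical
  obtain ⟨a, b, hab⟩ := hω.finite_injective_dimension
  obtain ⟨J, hJa, hJb, hJinj, ⟨e⟩⟩ :=
    Groth.Agent.Lib.DInjGE.exists_injective_amplitude ω a b (by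
      intro Y i hi φ
      haveI := hab Y i hi
      exact Subsingleton.elim _ _)
  haveI := hJa
  haveI := hJb
  haveI : ∀ i, Injective (J.X i) := hJinj
  haveI : J.IsKInjective := CochainComplex.isKInjective_of_injective J a
  have hend' : Function.Bijective (fun c : A => c • 𝟙 (Q.obj J)) := by
    constructor
    · intro c c' hcc
      apply hω.toEnd_bijective.1
      show c • 𝟙 ω = c' • 𝟙 ω
      have h1 : ∀ d : A, d • 𝟙 ω = e.inv ≫ (d • 𝟙 (Q.obj J)) ≫ e.hom := by
        intro d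
        rw [Linear.smul_comp, Linear.comp_smul, id_comp, e.inv_hom_id]
      rw [h1, h1]
      replace hcc : c • 𝟙 (Q.obj J) = c' • 𝟙 (Q.obj J) := hcc
      rw [hcc]
    · intro f
      obtain ⟨c, hc⟩ := hω.toEnd_bijective.2 (e.inv ≫ f ≫ e.hom)
      refine ⟨c, ?_⟩
      replace hc : c • 𝟙 ω = e.inv ≫ f ≫ e.hom := hc
      show c • 𝟙 (Q.obj J) = f
      have : f = e.hom ≫ (c • 𝟙 ω) ≫ e.inv := by
        rw [hc]
        simp
      rw [this, Linear.smul_comp, Linear.comp_smul, id_comp, e.hom_inv_id]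
  have hext' : ∀ i : ℤ, i ≠ 0 → Subsingleton (Q.obj J ⟶ (Q.obj J)⟦i⟧) := by
    intro i hi
    haveI := hω.ext_self_subsingleton i hi
    refine ⟨fun f g => ?_⟩
    rw [← cancel_epi e.inv, ← cancel_mono (e.hom⟦i⟧')]
    exact Subsingleton.elim _ _
  let k : ModuleCat.{u} A := ModuleCat.of A (A ⧸ m)
  have good : Good A J k := good_of_finite A J a b hJinj hend' hext' (A ⧸ m)
  let ks : ℤ → Dual.D A := fun i => (singleFunctor (ModuleCat.{u} A) i).obj k
  let α : ∀ i : ℤ, (ks i)⟦i⟧ ≅ ks 0 := fun i => Groth.Agent.Lib.DInjHom.singleShiftIso i k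
  -- retraction data
  have retr : ∀ i : ℤ, Nontrivial (ks 0 ⟶ ω⟦i⟧) →
      ∃ (s : ks i ⟶ Q.obj (T A J k)) (p : Q.obj (T A J k) ⟶ ks i), s ≫ p = 𝟙 _ := by
    intro i hnt
    obtain ⟨v, hv⟩ := exists_ne (0 : ks 0 ⟶ ω⟦i⟧)
    obtain ⟨u, hu⟩ := (Phi_bijective A i (α i) ω 0 i (zero_add i)).2 v
    have hu0 : u ≠ 0 := by
      rintro rfl
      rw [map_zero] at hu
      exact hv hu.symm
    let w : ks i ⟶ Q.obj J := u ≫ (shiftFunctorZero (Dual.D A) ℤ).hom.app ω ≫ e.inv
    have hw : w ≠ 0 := by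
      intro h0
      apply hu0
      have : u = w ≫ e.hom ≫ (shiftFunctorZero (Dual.D A) ℤ).inv.app ω := by
        simp [w]
      rw [this, h0, zero_comp]
    exact exists_retraction A J m i w hw
  -- Step 1: some degree is nontrivial
  have step1 : ∃ n : ℤ, Nontrivial (ks 0 ⟶ ω⟦n⟧) := by
    by_contra hne
    push Not at hne
    have hall : ∀ (i : ℤ)
        (w : Q.obj ((single (ModuleCat.{u} A) (ComplexShape.up ℤ) i).obj k) ⟶ Q.obj J), w = 0 := by
      intro i w
      haveI : Subsingleton (ks 0 ⟶ ω⟦i⟧) := hne i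
      let u : ks i ⟶ ω⟦(0 : ℤ)⟧ := w ≫ e.hom ≫ (shiftFunctorZero (Dual.D A) ℤ).inv.app ω
      have h1 : Phi A i (α i) ω 0 i (zero_add i) u = Phi A i (α i) ω 0 i (zero_add i) 0 :=
        Subsingleton.elim _ _
      have h2 : u = 0 := (Phi_bijective A i (α i) ω 0 i (zero_add i)).1 h1
      have h3 : w = u ≫ (shiftFunctorZero (Dual.D A) ℤ).hom.app ω ≫ e.inv := by
        simp [u]
      rw [h3, h2, zero_comp]
      rfl
    have hz := isZero_Q_T_of_forall_eq_zero A J k hall
    have h1 : (1 : A ⧸ m) = 0 := by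
      apply good.bij.1
      exact hz.eq_of_src _ _
    haveI : Nontrivial (A ⧸ m) := Ideal.Quotient.nontrivial_iff.mpr hm.ne_top
    exact one_ne_zero h1
  obtain ⟨n, hn⟩ := step1
  -- Step 2: uniqueness
  have step2 : ∀ j : ℤ, j ≠ n → Subsingleton (ks 0 ⟶ ω⟦j⟧) := by
    intro j hj
    obtain ⟨s, p, hsp⟩ := retr n hn
    refine ⟨fun v v' => ?_⟩
    suffices H : ∀ v : ks 0 ⟶ ω⟦j⟧, v = 0 by rw [H v, H v']
    intro v
    obtain ⟨u, rfl⟩ := (Phi_bijective A n (α n) ω (j - n) j (by omega)).2 v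
    haveI := good.vanish (j - n) (by omega)
    have h1 : p ≫ u ≫ (e.inv)⟦j - n⟧' = 0 :=
      Subsingleton.elim (α := G A J (j - n) k) _ _
    have h2 : p ≫ u = 0 := by
      rw [← cancel_mono ((e.inv)⟦j - n⟧'), assoc, h1, zero_comp]
    have h3 : u = 0 := by
      have : u = (s ≫ p) ≫ u := by rw [hsp, id_comp]
      rw [this, assoc, h2, comp_zero]
    rw [h3, map_zero]
  -- Step 3: dimension one
  obtain ⟨v, hv⟩ := exists_ne (0 : ks 0 ⟶ ω⟦n⟧)
  have step3 : ∀ v' : ks 0 ⟶ ω⟦n⟧, ∃ c : A, v' = c • v := by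
    intro v'
    obtain ⟨s, p, hsp⟩ := retr n hn
    obtain ⟨u, hu⟩ := (Phi_bijective A n (α n) ω 0 n (zero_add n)).2 v
    obtain ⟨u', hu'⟩ := (Phi_bijective A n (α n) ω 0 n (zero_add n)).2 v'
    obtain ⟨x, hx⟩ := good.bij.2 (p ≫ u ≫ (e.inv)⟦(0 : ℤ)⟧')
    obtain ⟨y, hy⟩ := good.bij.2 (p ≫ u' ≫ (e.inv)⟦(0 : ℤ)⟧')
    have hsu : ∀ z : ks n ⟶ ω⟦(0 : ℤ)⟧, z = s ≫ (p ≫ z ≫ (e.inv)⟦(0 : ℤ)⟧') ≫ (e.hom)⟦(0 : ℤ)⟧' := by
      intro z
      simp only [assoc, ← Functor.map_comp, e.inv_hom_id, CategoryTheory.Functor.map_id, comp_id]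
      rw [← assoc, hsp, id_comp]
    have hx0 : x ≠ 0 := by
      rintro rfl
      rw [map_zero] at hx
      apply hv
      rw [← hu, hsu u, ← hx, zero_comp, comp_zero, map_zero]
    letI : Field (A ⧸ m) := Ideal.Quotient.field m
    obtain ⟨c, hc⟩ := Ideal.Quotient.mk_surjective (y * x⁻¹)
    have hyx : y = c • x := by
      rw [Algebra.smul_def]
      show y = (Ideal.Quotient.mk m) c * x
      rw [hc, mul_assoc, inv_mul_cancel₀ hx0, mul_one]
    refine ⟨c, ?_⟩
    rw [← hu', ← hu, ← map_smul]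
    congr 1
    rw [hsu u', ← hy, hyx, map_smul, hx, hsu (c • u)]
    simp only [Linear.smul_comp, Linear.comp_smul]
  -- Step 4: the linear equivalence
  refine ⟨n, step2, ?_⟩
  let f : A →ₗ[A] (ks 0 ⟶ ω⟦n⟧) := LinearMap.toSpanSingleton A _ v
  have hf : Function.Surjective f := by
    intro v'
    obtain ⟨c, hc⟩ := step3 v'
    exact ⟨c, hc.symm⟩
  have hker : m = LinearMap.ker f := by
    apply hm.eq_of_le
    · intro h
      have : (1 : A) ∈ LinearMap.ker f := by rw [h]; trivial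
      rw [LinearMap.mem_ker] at this
      apply hv
      simpa [f] using this
    · intro c hc
      rw [LinearMap.mem_ker]
      show c • v = 0
      have h1 : c • 𝟙 k = 0 := by
        apply ModuleCat.hom_ext
        refine LinearMap.ext (fun x => ?_)
        exact smul_eq_zero_of_mem A m hc x
      have h2 : c • v = (c • 𝟙 (ks 0)) ≫ v := by
        rw [Linear.smul_comp, id_comp]
      have h3 : c • 𝟙 (ks 0) = (singleFunctor (ModuleCat.{u} A) 0).map (c • 𝟙 k) := by
        rw [Functor.map_smul, CategoryTheory.Functor.map_id]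
      rw [h2, h3, h1, Functor.map_zero, zero_comp]
  exact ⟨((Submodule.quotEquivOfEq m (LinearMap.ker f) hker).trans
    (f.quotKerEquivOfSurjective hf)).symm⟩

end Final

end Groth.Agent.Lib.H29ResField
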