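import Groth.Agent.Lib.H29Watts
import Groth.Agent.Lib.LocCohLinear
import Groth.Agent.Lib.LocCohVanishing
import Groth.Agent.Lib.InjHull

/-!
# Top local cohomology is a tensor product; double duals (helper29)

* `isRightExactLinear_localCohomology`: if `cd(R, I) ≤ d` then `H^d_I` is an `R`-linear right exact
  functor (in the sense of `H29Watts.IsRightExactLinear`).
* `dualHom K E`: the functor `M ↦ Hom(Hom(M, K), E)`; `isRightExactLinear_dualHom` when `E` is an
  injective module.
* `topEquivTensor`: `H^d_I(M) ≃ M ⊗ H^d_I(R)` for finite `M` (Noetherian `R`, `cd ≤ d`).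
* `topEquivDualHom`: given `eK : (K →ₗ E) ≃ₗ H^d_I(R)`, `H^d_I(M) ≃ Hom(Hom(M, K), E)` for finite `M`,
  natural in `M` (`topEquivDualHom_natural`).
-/

set_option autoImplicit false
universe u

open CategoryTheory TensorProduct

namespace Groth.Agent.Lib.H29TopLC

open Groth.Agent.Lib.H29Watts Groth.Agent.Lib.LocCohLES

variable {R : Type u} [CommRing R]

section LC

variable (I : Ideal R)

theorem isRightExactLinear_localCohomology (d : ℕ) (hcd : LocCoh.CdLE R I d) :
    IsRightExactLinear (localCohomology I d) where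
  map_add := by
    intro M N f g
    ext y
    exact Hmap_add I f.hom g.hom d y
  map_smul := by
    intro M N r f
    ext y
    exact Hmap_smul I r f.hom d y
  exact := by
    intro M₁ M₂ M₃ f g hf hfg hg
    refine ⟨exact₂ I f.hom g.hom hfg hf hg d, ?_⟩
    intro y
    have hsub : Subsingleton (LocCoh.H I (d + 1) M₁) := hcd M₁ (d + 1) (Nat.lt_succ_self d)
    have h3 := exact₃ I f.hom g.hom hf hfg hg d
    exact (h3 y).mp (Subsingleton.elim _ _)

end LC

section Dual

variable (K E : Type u) [AddCommGroup K] [Module R K] [AddCommGroup E] [Module R E]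

/-- The functor `M ↦ Hom(Hom(M, K), E)`. -/
noncomputable def dualHom : ModuleCat.{u} R ⥤ ModuleCat.{u} R where
  obj M := ModuleCat.of R ((M →ₗ[R] K) →ₗ[R] E)
  map f := ModuleCat.ofHom (LinearMap.lcomp R E (LinearMap.lcomp R K f.hom))
  map_id M := by
    ext φ α
    rfl
  map_comp f g := by
    ext φ α
    rfl

theorem dualHom_map_apply {M N : ModuleCat.{u} R} (f : M ⟶ N) (φ : (M →ₗ[R] K) →ₗ[R] E)
    (α : N →ₗ[R] K) :
    (show (N →ₗ[R] K) →ₗ[R] E from ((dualHom K E).map f).hom φ) α = φ (α ∘ₗ f.hom) := rfl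

variable {K E}

/-- Factorisation of maps into an injective module through a map with smaller kernel. -/
theorem exists_factor_of_ker_le (hE : Module.Injective R E) {X Y : Type u} [AddCommGroup X]
    [Module R X] [AddCommGroup Y] [Module R Y] (a : X →ₗ[R] Y) (φ : X →ₗ[R] E)
    (h : LinearMap.ker a ≤ LinearMap.ker φ) : ∃ φ' : Y →ₗ[R] E, φ' ∘ₗ a = φ := by
  have hinj : Function.Injective ((LinearMap.ker a).liftQ a le_rfl) := by
    rw [← LinearMap.ker_eq_bot, Submodule.ker_liftQ, Submodule.mkQ_map_self]
  obtain ⟨φ', hφ'⟩ := Groth.Agent.Lib.InjHull.extend hE _ hinj ((LinearMap.ker a).liftQ φ h)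
  refine ⟨φ', ?_⟩
  ext x
  have := LinearMap.congr_fun hφ' (Submodule.Quotient.mk x)
  simpa using this

theorem isRightExactLinear_dualHom (hE : Module.Injective R E) :
    IsRightExactLinear (dualHom (R := R) K E) where
  map_add := by
    intro M N f g
    apply ModuleCat.hom_ext
    apply LinearMap.ext
    intro (φ : (M →ₗ[R] K) →ₗ[R] E)
    apply LinearMap.ext
    intro (α : N →ₗ[R] K)
    change φ (α ∘ₗ (f.hom + g.hom)) = φ (α ∘ₗ f.hom) + φ (α ∘ₗ g.hom)
    rw [LinearMap.comp_add, map_add]
  map_smul := by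
    intro M N r f
    apply ModuleCat.hom_ext
    apply LinearMap.ext
    intro (φ : (M →ₗ[R] K) →ₗ[R] E)
    apply LinearMap.ext
    intro (α : N →ₗ[R] K)
    change φ (α ∘ₗ (r • f.hom)) = r • φ (α ∘ₗ f.hom)
    rw [LinearMap.comp_smul, map_smul]
  exact := by
    intro M₁ M₂ M₃ f g hf hfg hg
    constructor
    · intro (φ : (M₂ →ₗ[R] K) →ₗ[R] E)
      constructor
      · intro hφ
        -- φ vanishes on maps factoring through g, hence factors through restriction along f
        have hker : LinearMap.ker (LinearMap.lcomp R K f.hom) ≤ LinearMap.ker φ := by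
          intro α hα
          rw [LinearMap.mem_ker] at hα ⊢
          -- α ∘ f = 0, so α factors through g
          have hαf : ∀ x, α (f.hom x) = 0 := fun x => LinearMap.congr_fun hα x
          have hle : LinearMap.ker g.hom ≤ LinearMap.ker α := by
            intro y hy
            obtain ⟨x, rfl⟩ := (hfg y).mp hy
            exact hαf x
          obtain ⟨β, hβ⟩ : ∃ β : M₃ →ₗ[R] K, β ∘ₗ g.hom = α := by
            let e := g.hom.quotKerEquivOfSurjective hg
            refine ⟨(LinearMap.ker g.hom).liftQ α hle ∘ₗ e.symm.toLinearMap, ?_⟩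
            ext y
            have : e.symm (g.hom y) = Submodule.Quotient.mk y := by
              rw [LinearEquiv.symm_apply_eq]
              rfl
            simp [this]
          have := LinearMap.congr_fun hφ β
          rw [← hβ]
          exact this
        obtain ⟨φ', hφ'⟩ := exists_factor_of_ker_le hE (LinearMap.lcomp R K f.hom) φ hker
        exact ⟨φ', hφ'⟩
      · rintro ⟨(φ' : (M₁ →ₗ[R] K) →ₗ[R] E), rfl⟩
        apply LinearMap.ext
        intro (α : M₃ →ₗ[R] K)
        change φ' ((α ∘ₗ g.hom) ∘ₗ f.hom) = 0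
        have : (α ∘ₗ g.hom) ∘ₗ f.hom = 0 := by
          ext x
          simp [hfg.apply_apply_eq_zero x]
        rw [this, map_zero]
    · intro (ψ : (M₃ →ₗ[R] K) →ₗ[R] E)
      have hinj : Function.Injective (LinearMap.lcomp R K g.hom) := by
        intro α β hαβ
        ext y
        obtain ⟨x, rfl⟩ := hg y
        exact LinearMap.congr_fun hαβ x
      obtain ⟨φ, hφ⟩ := Groth.Agent.Lib.InjHull.extend hE _ hinj ψ
      exact ⟨φ, hφ⟩

end Dual

section Top

variable [IsNoetherianRing R] (I : Ideal R) (d : ℕ) (hcd : LocCoh.CdLE R I d)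

/-- `H^d_I(M) ≃ M ⊗ H^d_I(R)` for finite `M` when `cd(R, I) ≤ d`. -/
noncomputable def topEquivTensor (M : Type u) [AddCommGroup M] [Module R M] [Module.Finite R M] :
    LocCoh.H I d M ≃ₗ[R] (M ⊗[R] LocCoh.H I d R) :=
  (thetaEquiv (localCohomology I d) (isRightExactLinear_localCohomology I d hcd)
    (ModuleCat.of R M)).symm

variable {K E : Type u} [AddCommGroup K] [Module R K] [AddCommGroup E] [Module R E]
  (hE : Module.Injective R E) (eK : (K →ₗ[R] E) ≃ₗ[R] LocCoh.H I d R)

/-- The comparison of the two functors on `R`. -/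
noncomputable def ringEquiv :
    (localCohomology I d).obj (ModuleCat.of R R) ≃ₗ[R] (dualHom K E).obj (ModuleCat.of R R) :=
  eK.symm ≪≫ₗ (LinearEquiv.congrLeft E R (LinearMap.ringLmapEquivSelf R R K)).symm

/-- `H^d_I(M) ≃ Hom(Hom(M, K), E)` for finite `M`, when `Hom(K, E) ≃ H^d_I(R)`, `E` is injective
and `cd(R, I) ≤ d`. -/
noncomputable def topEquivDualHom (M : ModuleCat.{u} R) [Module.Finite R M] :
    (localCohomology I d).obj M ≃ₗ[R] (dualHom K E).obj M :=
  compEquiv (localCohomology I d) (isRightExactLinear_localCohomology I d hcd)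
    (dualHom K E) (isRightExactLinear_dualHom hE) (ringEquiv I d eK) M

theorem topEquivDualHom_natural {M N : ModuleCat.{u} R} [Module.Finite R M] [Module.Finite R N]
    (f : M ⟶ N) (y : (localCohomology I d).obj M) :
    topEquivDualHom I d hcd hE eK N (((localCohomology I d).map f).hom y) =
      ((dualHom K E).map f).hom (topEquivDualHom I d hcd hE eK M y) :=
  compEquiv_natural _ _ _ _ _ f y

end Top

end Groth.Agent.Lib.H29TopLC
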