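import Groth.Agent.Lib.H29TopLC
import Groth.Agent.Lib.LocCohLinear
import Groth.Agent.Lib.LocCohVanishing
import Mathlib.LinearAlgebra.TensorProduct.Finiteness

/-!
# Top local cohomology is a tensor product, for arbitrary modules (helper29)

* `exists_fg_of_Hmap_eq_zero`: a class of `H^i_I(M')` (`M' ≤ M` f.g.) dying in `H^i_I(M)` dies in
  `H^i_I(M'')` for some f.g. `M' ≤ M'' ≤ M`.
* `theta_bijective_of_approx`: Watts' theorem for arbitrary modules, for a right exact linear functor
  which commutes with the filtered union of f.g. submodules.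
* `topEquivTensor'`: `H^d_I(M) ≃ H^d_I(R) ⊗ M` for every module `M` when `cd(R, I) ≤ d`.
-/

set_option autoImplicit false
set_option maxHeartbeats 400000
universe u

open CategoryTheory TensorProduct

namespace Groth.Agent.Lib.H29TopTensor

open Groth.Agent.Lib.H29Watts Groth.Agent.Lib.LocCohLES Groth.Agent.Lib.H29TopLC

variable {R : Type u} [CommRing R] [IsNoetherianRing R]

section approx

variable (I : Ideal R) {M : Type u} [AddCommGroup M] [Module R M]

/-- the map `M'' → Q` for `M'' = comap mkQ Q`. -/
def toQ (M' : Submodule R M) (Q : Submodule R (M ⧸ M')) : Q.comap M'.mkQ →ₗ[R] Q :=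
  (M'.mkQ.comp (Q.comap M'.mkQ).subtype).codRestrict Q (fun m => m.2)

theorem le_comap_mkQ (M' : Submodule R M) (Q : Submodule R (M ⧸ M')) : M' ≤ Q.comap M'.mkQ := by
  intro m hm
  rw [Submodule.mem_comap, Submodule.mkQ_apply, (Submodule.Quotient.mk_eq_zero M').mpr hm]
  exact zero_mem _

/-- a class of `H^i_I(M')` dying in `H^i_I(M)` dies in a f.g. intermediate submodule. -/
theorem exists_fg_of_Hmap_eq_zero (i : ℕ) (M' : Submodule R M) (hM' : M'.FG)
    (y' : LocCoh.H I i M') (hy : Hmap I M'.subtype i y' = 0) :
    ∃ (M'' : Submodule R M) (h : M' ≤ M''), M''.FG ∧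
      Hmap I (Submodule.inclusion h) i y' = 0 := by
  cases i with
  | zero =>
    refine ⟨M', le_rfl, hM', ?_⟩
    have := Hmap_zero_injective I M'.subtype (Submodule.injective_subtype _)
      (hy.trans (map_zero _).symm)
    rw [this, map_zero]
  | succ j =>
    have hι := Submodule.injective_subtype M'
    have hex := LinearMap.exact_subtype_mkQ M'
    have hq := Submodule.mkQ_surjective M'
    obtain ⟨w, hw⟩ := (exact₁ I M'.subtype M'.mkQ hι hex hq j y').1 hy
    obtain ⟨Q, hQ, w', hw'⟩ := Groth.Agent.Lib.LocCohVanishing.exists_fg_H (M ⧸ M') I j w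
    let M'' : Submodule R M := Q.comap M'.mkQ
    have hle : M' ≤ M'' := le_comap_mkQ M' Q
    have hfg : M''.FG := by
      apply Submodule.fg_of_fg_map_of_fg_inf_ker M'.mkQ
      · rw [Submodule.map_comap_eq_of_surjective hq]
        exact hQ
      · rw [Submodule.ker_mkQ, inf_eq_right.mpr hle]
        exact hM'
    refine ⟨M'', hle, hfg, ?_⟩
    have hinj : Function.Injective (Submodule.inclusion hle) := Submodule.inclusion_injective hle
    have hsurj : Function.Surjective (toQ M' Q) := by
      rintro ⟨q, hq'⟩
      obtain ⟨m, rfl⟩ := hq q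
      exact ⟨⟨m, hq'⟩, rfl⟩
    have hex' : Function.Exact (Submodule.inclusion hle) (toQ M' Q) := by
      intro m
      constructor
      · intro h
        have h1 : M'.mkQ m.1 = 0 := congrArg Subtype.val h
        rw [Submodule.mkQ_apply, Submodule.Quotient.mk_eq_zero] at h1
        exact ⟨⟨m.1, h1⟩, rfl⟩
      · rintro ⟨m', rfl⟩
        apply Subtype.ext
        show M'.mkQ (m' : M) = 0
        rw [Submodule.mkQ_apply, (Submodule.Quotient.mk_eq_zero M').mpr m'.2]
    have hnat := Hδ_naturality I (Submodule.inclusion hle) (toQ M' Q) hinj hex' hsurj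
      M'.subtype M'.mkQ hι hex hq LinearMap.id M''.subtype Q.subtype (by ext; rfl) (by ext; rfl)
      j w'
    rw [hw', hw, Hmap_id] at hnat
    rw [hnat]
    exact (exact₁ I (Submodule.inclusion hle) (toQ M' Q) hinj hex' hsurj j _).2 ⟨w', rfl⟩

end approx

section watts

variable (F : ModuleCat.{u} R ⥤ ModuleCat.{u} R) (hF : IsRightExactLinear F)
  (M : Type u) [AddCommGroup M] [Module R M]

/-- **Watts' theorem for arbitrary modules**, for a right exact linear functor commuting with the
filtered union of finitely generated submodules. -/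
theorem theta_bijective_of_approx
    (hsurj : ∀ y : F.obj (ModuleCat.of R M), ∃ M' : Submodule R M, M'.FG ∧
      ∃ y' : F.obj (ModuleCat.of R M'), (F.map (ModuleCat.ofHom M'.subtype)).hom y' = y)
    (hinj : ∀ (M' : Submodule R M), M'.FG → ∀ y' : F.obj (ModuleCat.of R M'),
      (F.map (ModuleCat.ofHom M'.subtype)).hom y' = 0 →
      ∃ (M'' : Submodule R M) (h : M' ≤ M''), M''.FG ∧
        (F.map (ModuleCat.ofHom (Submodule.inclusion h))).hom y' = 0) :
    Function.Bijective (theta F hF (ModuleCat.of R M)) := by
  constructor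
  · rw [injective_iff_map_eq_zero]
    intro t ht
    obtain ⟨M', hfin, hM'⟩ := TensorProduct.exists_finite_submodule_left_of_setFinite
      ({t} : Set (M ⊗[R] F.obj (ModuleCat.of R R))) (Set.finite_singleton t)
    obtain ⟨t', ht'⟩ := hM' (Set.mem_singleton t)
    have hfg : M'.FG := Module.Finite.iff_fg.mp hfin
    have hfin' : Module.Finite R (ModuleCat.of R M') := hfin
    have h1 : (F.map (ModuleCat.ofHom M'.subtype)).hom (theta F hF (ModuleCat.of R M') t') = 0 := by
      rw [theta_natural]
      change theta F hF (ModuleCat.of R M) (LinearMap.rTensor _ M'.subtype t') = 0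
      rw [ht', ht]
    obtain ⟨M'', hle, hfg'', h2⟩ := hinj M' hfg _ h1
    have hfin'' : Module.Finite R (ModuleCat.of R M'') := Module.Finite.iff_fg.mpr hfg''
    rw [theta_natural] at h2
    have h3 : LinearMap.rTensor (F.obj (ModuleCat.of R R)) (Submodule.inclusion hle) t' = 0 :=
      (theta_bijective_of_finite F hF (ModuleCat.of R M'')).1 (h2.trans (map_zero _).symm)
    rw [← ht']
    have h4 : M'.subtype = M''.subtype ∘ₗ Submodule.inclusion hle := by ext; rfl
    rw [h4, LinearMap.rTensor_comp, LinearMap.comp_apply]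
    change LinearMap.rTensor _ M''.subtype (LinearMap.rTensor _ (Submodule.inclusion hle) t') = 0
    rw [h3, map_zero]
  · intro y
    obtain ⟨M', hfg, y', rfl⟩ := hsurj y
    have hfin' : Module.Finite R (ModuleCat.of R M') := Module.Finite.iff_fg.mpr hfg
    obtain ⟨t', rfl⟩ := theta_surjective_of_finite F hF (ModuleCat.of R M') y'
    exact ⟨LinearMap.rTensor _ M'.subtype t', (theta_natural F hF _ t').symm⟩

end watts

section top

variable (I : Ideal R) (d : ℕ) (hcd : LocCoh.CdLE R I d)

include hcd in
theorem theta_bijective_localCohomology (M : Type u) [AddCommGroup M] [Module R M] :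
    Function.Bijective (theta (localCohomology I d)
      (isRightExactLinear_localCohomology I d hcd) (ModuleCat.of R M)) := by
  apply theta_bijective_of_approx
  · intro y
    exact Groth.Agent.Lib.LocCohVanishing.exists_fg_H M I d y
  · intro M' hM' y' hy
    exact exists_fg_of_Hmap_eq_zero I d M' hM' y' hy

/-- `H^d_I(M) ≃ H^d_I(R) ⊗ M` for every module `M` when `cd(R, I) ≤ d`. -/
noncomputable def topEquivTensor' (M : Type u) [AddCommGroup M] [Module R M] :
    LocCoh.H I d M ≃ₗ[R] (LocCoh.H I d R ⊗[R] M) :=
  (LinearEquiv.ofBijective _ (theta_bijective_localCohomology I d hcd M)).symm ≪≫ₗ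
    TensorProduct.comm R M (LocCoh.H I d R)

end top

end Groth.Agent.Lib.H29TopTensor
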