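import Groth.Agent.Lib.H29GorExt
import Mathlib.RingTheory.LocalProperties.Reduced
import Mathlib.RingTheory.SimpleModule.InjectiveProjective
import Mathlib.RingTheory.KrullDimension.PID
import Mathlib.LinearAlgebra.FreeModule.PID
import Mathlib.Algebra.Module.FinitePresentation
import Mathlib.RingTheory.Localization.Finiteness

/-!
# Torsionless and reflexive modules over orders (helper29)

* `eval_surjective_of_gorenstein`: over a Gorenstein ring of dimension `≤ 1`, `M → M**` is surjective
  for every finite module.
* `free_of_eval_injective`, `eval_injective_of_free`: for `S` finite free reduced over a PID `Λ`,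
  a finite `S`-module is torsionless iff it is `Λ`-free.
-/

set_option autoImplicit false
universe u
open CategoryTheory Abelian

namespace Groth.Agent.Lib.H29Torsionless

section Gor

variable (S : Type u) [CommRing S] [LocCoh.IsGorensteinRing S]

/-- over a Gorenstein ring of dimension `≤ 1`, functionals extend along the first map of an exact
sequence `0 → N → G₀ → G₁` of with `G₀`, `G₁` projective and `G₁` finite. -/
theorem exists_extend (hd : ringKrullDim S ≤ ((1 : ℕ) : WithBot ℕ∞))
    (N G₀ G₁ : Type u) [AddCommGroup N] [Module S N]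
    [AddCommGroup G₀] [Module S G₀] [AddCommGroup G₁] [Module S G₁]
    [Module.Projective S G₁] [Module.Finite S G₁]
    (ι : N →ₗ[S] G₀) (δ : G₀ →ₗ[S] G₁) (hι : Function.Injective ι) (hex : Function.Exact ι δ)
    (g : N →ₗ[S] S) : ∃ g' : G₀ →ₗ[S] S, g' ∘ₗ ι = g := by
  let B : Submodule S G₁ := LinearMap.range δ
  let g₁ : G₀ →ₗ[S] B := δ.rangeRestrict
  have hex₁ : Function.Exact ι g₁ := by
    intro y
    rw [← hex y]
    constructor
    · intro h
      exact congrArg Subtype.val h
    · intro h
      exact Subtype.ext h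
  have hg₁ : Function.Surjective g₁ := LinearMap.surjective_rangeRestrict δ
  have hS₁ := ModuleCat.shortComplex_shortExact
    (ModuleCat.shortComplexOfCompEqZero ι g₁ hex₁.linearMap_comp_eq_zero) hex₁ hι hg₁
  have hex₂ : Function.Exact B.subtype B.mkQ := LinearMap.exact_subtype_mkQ B
  have hS₂ := ModuleCat.shortComplex_shortExact
    (ModuleCat.shortComplexOfCompEqZero B.subtype B.mkQ hex₂.linearMap_comp_eq_zero) hex₂
    (Submodule.injective_subtype B) (Submodule.mkQ_surjective B)
  haveI : Projective (ModuleCat.of S G₁) := (IsProjective.iff_projective _).mp inferInstance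
  haveI : Module.Finite S (ModuleCat.of S (G₁ ⧸ B)) :=
    inferInstanceAs (Module.Finite S (G₁ ⧸ B))
  have h3 : ∀ e : Ext (ModuleCat.of S (G₁ ⧸ B)) (ModuleCat.of S S) (1 + 1), e = 0 :=
    fun e => H29GorExt.ext_eq_zero_of_gorenstein S 1 hd _ 2 (by omega) e
  have h2 : ∀ e : Ext (ModuleCat.of S B) (ModuleCat.of S S) 1, e = 0 :=
    H29GorExt.ext_X₁_eq_zero hS₂ _ 1 (fun e => Ext.eq_zero_of_projective e) h3
  obtain ⟨x₂, hx₂⟩ := Ext.contravariant_sequence_exact₁ hS₁ (ModuleCat.of S S)
    (Ext.mk₀ (ModuleCat.ofHom g)) rfl (h2 _)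
  obtain ⟨γ, rfl⟩ := (Ext.mk₀_bijective _ _).2 x₂
  rw [Ext.mk₀_comp_mk₀] at hx₂
  have h4 := (Ext.mk₀_bijective _ _).1 hx₂
  refine ⟨γ.hom, ?_⟩
  have h5 := congrArg ModuleCat.Hom.hom h4
  exact h5

/-- Over a Gorenstein ring of dimension `≤ 1` the evaluation map `M → M**` is surjective for every
finite module `M`. -/
theorem eval_surjective_of_gorenstein (hd : ringKrullDim S ≤ ((1 : ℕ) : WithBot ℕ∞))
    (M : Type u) [AddCommGroup M] [Module S M] [Module.Finite S M] :
    Function.Surjective (Module.Dual.eval S M) := by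
  obtain ⟨b, ε, hε⟩ := Module.Finite.exists_fin' S M
  obtain ⟨a, π₁, hπ₁⟩ := Module.Finite.exists_fin' S (LinearMap.ker ε)
  let φ : (Fin a → S) →ₗ[S] (Fin b → S) := (LinearMap.ker ε).subtype ∘ₗ π₁
  have hφ : LinearMap.range φ = LinearMap.ker ε := by
    rw [LinearMap.range_comp, LinearMap.range_eq_top.mpr hπ₁, Submodule.map_top,
      Submodule.range_subtype]
  have hεφ : ∀ x, ε (φ x) = 0 := fun x => (π₁ x).2
  have hex : Function.Exact ε.dualMap φ.dualMap := by
    intro ψ
    constructor
    · intro h
      have hker : LinearMap.ker ε ≤ LinearMap.ker ψ := by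
        rw [← hφ]
        rintro _ ⟨x, rfl⟩
        exact LinearMap.congr_fun h x
      let χ : Module.Dual S M :=
        (LinearMap.ker ε).liftQ ψ hker ∘ₗ (ε.quotKerEquivOfSurjective hε).symm.toLinearMap
      have hχ : ∀ y, χ (ε y) = ψ y := by
        intro y
        show (LinearMap.ker ε).liftQ ψ hker ((ε.quotKerEquivOfSurjective hε).symm (ε y)) = ψ y
        have h1 : (ε.quotKerEquivOfSurjective hε).symm (ε y) = Submodule.Quotient.mk y := by
          rw [LinearEquiv.symm_apply_eq]
          rfl
        rw [h1, Submodule.liftQ_apply]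
      refine ⟨χ, ?_⟩
      apply LinearMap.ext
      intro y
      exact hχ y
    · rintro ⟨m, rfl⟩
      apply LinearMap.ext
      intro x
      show m (ε (φ x)) = 0
      rw [hεφ, map_zero]
  intro g
  obtain ⟨g', hg'⟩ := exists_extend S hd (Module.Dual S M) (Module.Dual S (Fin b → S))
    (Module.Dual S (Fin a → S)) ε.dualMap φ.dualMap
    (LinearMap.dualMap_injective_of_surjective hε) hex g
  refine ⟨ε ((Module.evalEquiv S (Fin b → S)).symm g'), ?_⟩
  apply LinearMap.ext
  intro ψ
  have h1 : (Module.evalEquiv S (Fin b → S)) ((Module.evalEquiv S (Fin b → S)).symm g')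
      (ε.dualMap ψ) = g' (ε.dualMap ψ) := by
    rw [LinearEquiv.apply_symm_apply]
  have h2 : g' (ε.dualMap ψ) = g ψ := LinearMap.congr_fun hg' ψ
  rw [← h2, ← h1]
  rfl

end Gor

section Torsionless

variable (Λ : Type u) [CommRing Λ] [IsDomain Λ] [IsPrincipalIdealRing Λ]
  (S : Type u) [CommRing S] [Algebra Λ S] [Module.Finite Λ S] [Module.Free Λ S]
  (M : Type u) [AddCommGroup M] [Module S M] [Module Λ M] [IsScalarTower Λ S M]
  [Module.Finite S M]

include S in
omit [IsPrincipalIdealRing Λ] [Module.Finite Λ S] [Module.Finite S M] in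
theorem isTorsionFree_of_eval_injective (h : Function.Injective (Module.Dual.eval S M)) :
    Module.IsTorsionFree Λ M := by
  rw [Module.isTorsionFree_iff_smul_eq_zero]
  intro r m hrm
  by_contra hcon
  push Not at hcon
  apply hcon.2
  apply h
  rw [map_zero]
  apply LinearMap.ext
  intro f
  show f m = 0
  have h1 : r • f m = 0 := by
    rw [← LinearMap.map_smul_of_tower, hrm, map_zero]
  exact (smul_eq_zero.mp h1).resolve_left hcon.1

include S in
theorem free_of_eval_injective (h : Function.Injective (Module.Dual.eval S M)) :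
    Module.Free Λ M := by
  haveI : Module.Finite Λ M := Module.Finite.trans S M
  haveI : Module.IsTorsionFree Λ M := isTorsionFree_of_eval_injective Λ S M h
  exact Module.free_of_finite_type_torsion_free'

include Λ in
omit [IsDomain Λ] [Module.Free Λ S] in
theorem ringKrullDim_le_one : ringKrullDim S ≤ ((1 : ℕ) : WithBot ℕ∞) := by
  have h1 : ringKrullDim S ≤ ringKrullDim Λ :=
    Order.krullDim_le_of_strictMono
      (fun I ↦ ⟨Ideal.comap (algebraMap Λ S) I.asIdeal, inferInstance⟩)
      (fun I J hIJ ↦ by
        have : I.asIdeal < J.asIdeal := hIJ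
        exact Ideal.IsIntegral.comap_lt_comap (R := Λ) this)
  have h2 : ringKrullDim Λ ≤ ((1 : ℕ) : WithBot ℕ∞) := by
    rw [← Ring.krullDimLE_iff]
    infer_instance
  exact h1.trans h2

variable [IsReduced S]

open nonZeroDivisors in
omit [Module.Free Λ S] in
theorem eval_injective_of_free [Module.Free Λ M] :
    Function.Injective (Module.Dual.eval S M) := by
  rw [injective_iff_map_eq_zero]
  intro m hm
  by_contra hne
  have hm' : ∀ f : Module.Dual S M, f m = 0 := fun f => LinearMap.congr_fun hm f
  haveI : IsNoetherianRing S := IsNoetherianRing.of_finite Λ S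
  let T : Submonoid S := Algebra.algebraMapSubmonoid S Λ⁰
  haveI : IsArtinianRing (Localization T) :=
    IsArtinianRing.of_finite (FractionRing Λ) (Localization T)
  haveI : IsSemisimpleRing (Localization T) :=
    IsArtinianRing.isSemisimpleRing_of_isReduced (Localization T)
  haveI : Module.Projective (Localization T) (LocalizedModule T M) :=
    Module.projective_of_isSemisimpleRing _ _
  have hmk : LocalizedModule.mkLinearMap T M m ≠ 0 := by
    intro h0
    rw [LocalizedModule.mkLinearMap_apply, ← LocalizedModule.zero_mk (1 : T),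
      LocalizedModule.mk_eq] at h0
    obtain ⟨⟨u, r, hr, rfl⟩, hu⟩ := h0
    simp only [one_smul, smul_zero] at hu
    have h1 : r • m = 0 := by
      rw [← hu]
      exact (algebraMap_smul S r m).symm
    rcases smul_eq_zero.mp h1 with h | h
    · exact nonZeroDivisors.ne_zero hr h
    · exact hne h
  obtain ⟨φ, hφ⟩ := Module.Projective.exists_dual_ne_zero (Localization T) hmk
  let g : M →ₗ[S] Localization T :=
    (φ.restrictScalars S) ∘ₗ LocalizedModule.mkLinearMap T M
  haveI : Module.FinitePresentation S M := Module.finitePresentation_of_finite S M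
  obtain ⟨h, s, hs⟩ := Module.FinitePresentation.exists_lift_of_isLocalizedModule T
    (Algebra.linearMap S (Localization T)) g
  have h1 := LinearMap.congr_fun hs m
  have h2 : (Algebra.linearMap S (Localization T)) (h m) = 0 := by
    rw [hm' h, map_zero]
  have h3 : s • g m = 0 := by
    rw [← h2]
    exact h1.symm
  have h4 : (algebraMap S (Localization T) s) * g m = 0 := by
    rw [← h3, Submonoid.smul_def, Algebra.smul_def]
  have h5 : g m = 0 :=
    (IsLocalization.map_units (Localization T) s).mul_right_eq_zero.mp h4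
  exact hφ h5

end Torsionless

end Groth.Agent.Lib.H29Torsionless
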