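/-
Helper library (helper29): functor-of-points computations for the trivial principal bundle
`X ⊗ G` in a cartesian monoidal category, `G` a group object.
-/
import Mathlib.CategoryTheory.Monoidal.Cartesian.Grp

set_option autoImplicit false
universe v u₁
open CategoryTheory MonoidalCategory CartesianMonoidalCategory MonObj GrpObj

namespace Groth.Agent.Lib.H29TrivBundle

variable {C : Type u₁} [Category.{v} C] [CartesianMonoidalCategory C] {X G : C} [GrpObj G]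

omit [GrpObj G] in
/-- Morphisms out of `X ⊗ G` agree as soon as they agree on the universal point. -/
lemma hom_ext_univ {Y : C} {A B : X ⊗ G ⟶ Y}
    (h : lift (fst X G) (snd X G) ≫ A = lift (fst X G) (snd X G) ≫ B) : A = B := by
  rwa [lift_fst_snd, Category.id_comp, Category.id_comp] at h

lemma lift_one_comp {T Y : C} (x : T ⟶ X) (Λ : X ⊗ G ⟶ Y) :
    x ≫ lift (𝟙 X) (1 : X ⟶ G) ≫ Λ = lift x 1 ≫ Λ := by
  rw [← Category.assoc, comp_lift, Category.comp_id, MonObj.comp_one]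

/-- A `G`-equivariant endomorphism of `X ⊗ G` covering `r : X ⟶ X` is
`(x, g) ↦ (r x, a(x) g)` with `a = Λ(·, 1)`. -/
lemma equivariant_eq {Λ : X ⊗ G ⟶ X ⊗ G} {r : X ⟶ X} (h₁ : Λ ≫ fst X G = fst X G ≫ r)
    (h₂ : ∀ (T : C) (x : T ⟶ X) (g h : T ⟶ G),
      lift x (g * h) ≫ Λ ≫ snd X G = (lift x g ≫ Λ ≫ snd X G) * h)
    {T : C} (x : T ⟶ X) (g : T ⟶ G) :
    lift x g ≫ Λ = lift (x ≫ r) ((x ≫ lift (𝟙 X) 1 ≫ Λ ≫ snd X G) * g) := by
  apply CartesianMonoidalCategory.hom_ext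
  · rw [Category.assoc, h₁, lift_fst_assoc, lift_fst]
  · rw [Category.assoc, lift_snd, lift_one_comp]
    have := h₂ T x 1 g
    rwa [_root_.one_mul] at this

/-- If `Λ(x, g) = (r x, a(x)⁻¹ g)` on all points then `a` is recovered from `Λ`. -/
lemma eq_inv_of_formula {Λ : X ⊗ G ⟶ X ⊗ G} {r : X ⟶ X} {a : X ⟶ G}
    (h : ∀ (T : C) (x : T ⟶ X) (g : T ⟶ G), lift x g ≫ Λ = lift (x ≫ r) ((x ≫ a)⁻¹ * g)) :
    a = (lift (𝟙 X) 1 ≫ Λ ≫ snd X G)⁻¹ := by
  rw [← Category.assoc, h, lift_snd, Category.id_comp, _root_.mul_one, _root_.inv_inv]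

end Groth.Agent.Lib.H29TrivBundle
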