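import Mathlib.Algebra.Category.ModuleCat.Basic
import Mathlib.LinearAlgebra.TensorProduct.RightExactness
import Mathlib.LinearAlgebra.TensorProduct.Pi
import Mathlib.RingTheory.Noetherian.Basic
import Mathlib.RingTheory.Finiteness.Cardinality
import Mathlib.Algebra.Exact.Basic

/-!
# Watts' theorem for finite modules (helper29)

Let `F : ModuleCat R ⥤ ModuleCat R` be an `R`-linear right exact functor (hypotheses packaged in
`IsRightExactLinear F`).  There is a natural map
`θ_M : M ⊗[R] F(R) → F(M)`, `m ⊗ x ↦ F(r ↦ r • m)(x)`, and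

* `theta_natural`: naturality in `M`;
* `theta_bijective_ring`, `theta_bijective_free`: bijective for `M = R` and `M = (Fin b → R)`;
* `theta_surjective_of_finite`: surjective for finite `M`;
* `theta_bijective_of_finite`: bijective for finite `M` over a Noetherian ring;
* `compEquiv`: for two such functors `F`, `G` and `e : F(R) ≃ₗ G(R)` the induced equivalence
  `F(M) ≃ₗ G(M)` for finite `M`, natural in `M` (`compEquiv_natural`).
-/

set_option autoImplicit false
universe u

open CategoryTheory TensorProduct

namespace Groth.Agent.Lib.H29Watts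

variable {R : Type u} [CommRing R]

/-- An `R`-linear right exact endofunctor of `ModuleCat R` (elementwise form). -/
structure IsRightExactLinear (F : ModuleCat.{u} R ⥤ ModuleCat.{u} R) : Prop where
  map_add : ∀ {M N : ModuleCat.{u} R} (f g : M ⟶ N), F.map (f + g) = F.map f + F.map g
  map_smul : ∀ {M N : ModuleCat.{u} R} (r : R) (f : M ⟶ N), F.map (r • f) = r • F.map f
  exact : ∀ {M₁ M₂ M₃ : ModuleCat.{u} R} (f : M₁ ⟶ M₂) (g : M₂ ⟶ M₃),
    Function.Injective f.hom → Function.Exact f.hom g.hom → Function.Surjective g.hom →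
    Function.Exact (F.map f).hom (F.map g).hom ∧ Function.Surjective (F.map g).hom

/-- The map `R → M`, `r ↦ r • m`. -/
noncomputable def rho (M : ModuleCat.{u} R) (m : M) : ModuleCat.of R R ⟶ M :=
  ModuleCat.ofHom (LinearMap.toSpanSingleton R M m)

theorem rho_apply (M : ModuleCat.{u} R) (m : M) (r : R) : (rho M m).hom r = r • m := rfl

theorem rho_add (M : ModuleCat.{u} R) (m m' : M) : rho M (m + m') = rho M m + rho M m' := by
  ext
  simp [rho]

theorem rho_smul (M : ModuleCat.{u} R) (r : R) (m : M) : rho M (r • m) = r • rho M m := by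
  ext
  simp [rho]

theorem rho_comp {M N : ModuleCat.{u} R} (f : M ⟶ N) (m : M) : rho M m ≫ f = rho N (f.hom m) := by
  ext
  simp [rho]

theorem rho_ring (r : R) : rho (ModuleCat.of R R) r = r • 𝟙 (ModuleCat.of R R) := by
  ext
  simp [rho]

variable (F : ModuleCat.{u} R ⥤ ModuleCat.{u} R) (hF : IsRightExactLinear F)

include hF in
theorem map_zero' {M N : ModuleCat.{u} R} : F.map (0 : M ⟶ N) = 0 := by
  have := hF.map_add (0 : M ⟶ N) 0
  rw [add_zero] at this
  exact left_eq_add.mp this

include hF in
theorem map_sum' {M N : ModuleCat.{u} R} {ι : Type*} (s : Finset ι) (f : ι → (M ⟶ N)) :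
    F.map (∑ i ∈ s, f i) = ∑ i ∈ s, F.map (f i) := by
  classical
  induction s using Finset.induction_on with
  | empty => simp [map_zero' F hF]
  | insert a s ha ih => rw [Finset.sum_insert ha, Finset.sum_insert ha, hF.map_add, ih]

/-- The natural map `M ⊗ F(R) → F(M)`. -/
noncomputable def theta (M : ModuleCat.{u} R) :
    (M ⊗[R] F.obj (ModuleCat.of R R)) →ₗ[R] F.obj M :=
  TensorProduct.lift
    { toFun := fun m => (F.map (rho M m)).hom
      map_add' := fun m m' => by rw [rho_add, hF.map_add]; rfl
      map_smul' := fun r m => by rw [rho_smul, hF.map_smul]; rfl }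

theorem theta_tmul (M : ModuleCat.{u} R) (m : M) (x : F.obj (ModuleCat.of R R)) :
    theta F hF M (m ⊗ₜ x) = (F.map (rho M m)).hom x := rfl

/-- Naturality of `θ`. -/
theorem theta_natural {M N : ModuleCat.{u} R} (f : M ⟶ N)
    (t : M ⊗[R] F.obj (ModuleCat.of R R)) :
    (F.map f).hom (theta F hF M t) = theta F hF N (LinearMap.rTensor _ f.hom t) := by
  induction t using TensorProduct.induction_on with
  | zero => simp
  | tmul m x =>
    rw [theta_tmul, LinearMap.rTensor_tmul, theta_tmul, ← rho_comp, F.map_comp]
    rfl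
  | add a b ha hb => simp only [map_add, ha, hb]

theorem theta_ring_tmul (r : R) (x : F.obj (ModuleCat.of R R)) :
    theta F hF (ModuleCat.of R R) (r ⊗ₜ x) = r • x := by
  rw [theta_tmul, rho_ring, hF.map_smul, F.map_id]
  rfl

theorem theta_ring_eq :
    theta F hF (ModuleCat.of R R) = (TensorProduct.lid R (F.obj (ModuleCat.of R R))).toLinearMap := by
  apply TensorProduct.ext'
  intro r x
  rw [theta_ring_tmul]
  rfl

theorem theta_bijective_ring : Function.Bijective (theta F hF (ModuleCat.of R R)) := by
  rw [theta_ring_eq]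
  exact (TensorProduct.lid R _).bijective

/-- `θ` is bijective on a module with a finite decomposition into pieces where it is bijective. -/
theorem theta_bijective_of_decomp {ι : Type*} [Fintype ι] (M : ModuleCat.{u} R)
    (N : ι → ModuleCat.{u} R) (inc : ∀ j, N j ⟶ M) (pr : ∀ j, M ⟶ N j)
    (h : ∑ j, pr j ≫ inc j = 𝟙 M) (hN : ∀ j, Function.Bijective (theta F hF (N j))) :
    Function.Bijective (theta F hF M) := by
  classical
  have hsum : ∀ t : M ⊗[R] F.obj (ModuleCat.of R R),
      t = ∑ j, LinearMap.rTensor _ (inc j).hom (LinearMap.rTensor _ (pr j).hom t) := by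
    intro t
    have h1 : (LinearMap.id : M →ₗ[R] M) = ∑ j, (inc j).hom ∘ₗ (pr j).hom := by
      have := congrArg ModuleCat.Hom.hom h
      rw [ModuleCat.hom_sum] at this
      exact this.symm
    have h2 : LinearMap.rTensor (F.obj (ModuleCat.of R R)) (LinearMap.id : M →ₗ[R] M) t = t := by
      rw [LinearMap.rTensor_id]; rfl
    rw [h1] at h2
    have h3 : LinearMap.rTensor (F.obj (ModuleCat.of R R)) (∑ j, (inc j).hom ∘ₗ (pr j).hom)
        = ∑ j, LinearMap.rTensor (F.obj (ModuleCat.of R R)) ((inc j).hom ∘ₗ (pr j).hom) :=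
      map_sum (LinearMap.rTensorHom (F.obj (ModuleCat.of R R))) _ _
    rw [h3, LinearMap.sum_apply] at h2
    conv_lhs => rw [← h2]
    refine Finset.sum_congr rfl (fun j _ => ?_)
    rw [LinearMap.rTensor_comp]
    rfl
  constructor
  · rw [injective_iff_map_eq_zero]
    intro t ht
    rw [hsum t]
    refine Finset.sum_eq_zero (fun j _ => ?_)
    have : theta F hF (N j) (LinearMap.rTensor _ (pr j).hom t) = 0 := by
      rw [← theta_natural, ht, map_zero]
    rw [(injective_iff_map_eq_zero _).mp (hN j).1 _ this, map_zero]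
  · intro y
    have hy : y = ∑ j, (F.map (inc j)).hom ((F.map (pr j)).hom y) := by
      have h1 : F.map (∑ j, pr j ≫ inc j) = F.map (𝟙 M) := by rw [h]
      rw [map_sum' F hF, F.map_id] at h1
      have h2 := congrArg (fun φ => (ModuleCat.Hom.hom φ) y) h1
      simp only [ModuleCat.hom_sum, LinearMap.sum_apply] at h2
      rw [ModuleCat.hom_id, LinearMap.id_apply] at h2
      refine h2.symm.trans ?_
      refine Finset.sum_congr rfl (fun j _ => ?_)
      rw [F.map_comp]
      rfl
    choose s hs using fun j => (hN j).2 ((F.map (pr j)).hom y)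
    refine ⟨∑ j, LinearMap.rTensor _ (inc j).hom (s j), ?_⟩
    rw [map_sum, hy]
    refine Finset.sum_congr rfl (fun j _ => ?_)
    rw [← theta_natural, hs]

/-- `θ` is bijective on finite free modules. -/
theorem theta_bijective_free (b : ℕ) :
    Function.Bijective (theta F hF (ModuleCat.of R (Fin b → R))) := by
  classical
  apply theta_bijective_of_decomp F hF (ModuleCat.of R (Fin b → R))
    (fun _ : Fin b => ModuleCat.of R R)
    (fun j => ModuleCat.ofHom (LinearMap.single R (fun _ : Fin b => R) j))
    (fun j => ModuleCat.ofHom (LinearMap.proj j))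
  · ext x
    simp only [ModuleCat.hom_sum, ModuleCat.hom_comp, ModuleCat.hom_ofHom, LinearMap.sum_apply,
      LinearMap.comp_apply, ModuleCat.hom_id, LinearMap.id_apply]
    simp [Finset.sum_apply, Pi.single_apply]
  · intro j
    exact theta_bijective_ring F hF

include hF in
theorem map_surjective {M N : ModuleCat.{u} R} (g : M ⟶ N) (hg : Function.Surjective g.hom) :
    Function.Surjective (F.map g).hom :=
  (hF.exact (ModuleCat.ofHom (LinearMap.ker g.hom).subtype) g
    (Submodule.injective_subtype _) (LinearMap.exact_subtype_ker_map g.hom) hg).2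

theorem theta_surjective_of_surjective {M N : ModuleCat.{u} R} (g : M ⟶ N)
    (hg : Function.Surjective g.hom) (hM : Function.Surjective (theta F hF M)) :
    Function.Surjective (theta F hF N) := by
  intro y
  obtain ⟨y', rfl⟩ := map_surjective F hF g hg y
  obtain ⟨t, rfl⟩ := hM y'
  exact ⟨_, (theta_natural F hF g t).symm⟩

/-- `θ` is surjective on finite modules. -/
theorem theta_surjective_of_finite (M : ModuleCat.{u} R) [Module.Finite R M] :
    Function.Surjective (theta F hF M) := by
  obtain ⟨b, π, hπ⟩ := Module.Finite.exists_fin' R M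
  exact theta_surjective_of_surjective F hF
    (ModuleCat.ofHom π : ModuleCat.of R (Fin b → R) ⟶ M) hπ (theta_bijective_free F hF b).2

/-- **Watts' theorem for finite modules over a Noetherian ring**: `M ⊗ F(R) ≃ F(M)`. -/
theorem theta_bijective_of_finite [IsNoetherianRing R] (M : ModuleCat.{u} R) [Module.Finite R M] :
    Function.Bijective (theta F hF M) := by
  refine ⟨?_, theta_surjective_of_finite F hF M⟩
  obtain ⟨b, π, hπ⟩ := Module.Finite.exists_fin' R M
  let L : ModuleCat.{u} R := ModuleCat.of R (Fin b → R)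
  let N : ModuleCat.{u} R := ModuleCat.of R (LinearMap.ker π)
  haveI : Module.Finite R N := by
    change Module.Finite R (LinearMap.ker π)
    infer_instance
  let f : N ⟶ L := ModuleCat.ofHom (LinearMap.ker π).subtype
  let g : L ⟶ M := ModuleCat.ofHom π
  have hex := (hF.exact f g (Submodule.injective_subtype _) (LinearMap.exact_subtype_ker_map π) hπ).1
  rw [injective_iff_map_eq_zero]
  intro t ht
  obtain ⟨s, rfl⟩ := LinearMap.rTensor_surjective (F.obj (ModuleCat.of R R)) hπ t
  have h1 : (F.map g).hom (theta F hF L s) = 0 := by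
    rw [theta_natural]
    exact ht
  obtain ⟨y, hy⟩ := (hex _).mp h1
  obtain ⟨s', rfl⟩ := theta_surjective_of_finite F hF N y
  rw [theta_natural] at hy
  have h2 : LinearMap.rTensor _ f.hom s' = s := (theta_bijective_free F hF b).1 hy
  rw [← h2]
  change (LinearMap.rTensor _ π ∘ₗ LinearMap.rTensor _ (LinearMap.ker π).subtype) s' = 0
  rw [← LinearMap.rTensor_comp]
  have : π ∘ₗ (LinearMap.ker π).subtype = 0 := by
    ext x
    exact x.2
  rw [this, LinearMap.rTensor_zero]
  rfl

section Compare

variable [IsNoetherianRing R] (G : ModuleCat.{u} R ⥤ ModuleCat.{u} R) (hG : IsRightExactLinear G)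
  (e : F.obj (ModuleCat.of R R) ≃ₗ[R] G.obj (ModuleCat.of R R))

/-- `θ` as an equivalence, for finite modules over a Noetherian ring. -/
noncomputable def thetaEquiv (M : ModuleCat.{u} R) [Module.Finite R M] :
    (M ⊗[R] F.obj (ModuleCat.of R R)) ≃ₗ[R] F.obj M :=
  LinearEquiv.ofBijective (theta F hF M) (theta_bijective_of_finite F hF M)

theorem thetaEquiv_apply (M : ModuleCat.{u} R) [Module.Finite R M]
    (t : M ⊗[R] F.obj (ModuleCat.of R R)) : thetaEquiv F hF M t = theta F hF M t := rfl

/-- Two `R`-linear right exact functors which agree on `R` agree on finite modules. -/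
noncomputable def compEquiv (M : ModuleCat.{u} R) [Module.Finite R M] : F.obj M ≃ₗ[R] G.obj M :=
  (thetaEquiv F hF M).symm ≪≫ₗ TensorProduct.congr (LinearEquiv.refl R M) e ≪≫ₗ thetaEquiv G hG M

theorem compEquiv_theta (M : ModuleCat.{u} R) [Module.Finite R M]
    (t : M ⊗[R] F.obj (ModuleCat.of R R)) :
    compEquiv F hF G hG e M (theta F hF M t) = theta G hG M (LinearMap.lTensor M e.toLinearMap t) := by
  have : (thetaEquiv F hF M).symm (theta F hF M t) = t :=
    (thetaEquiv F hF M).symm_apply_apply t
  simp only [compEquiv, LinearEquiv.trans_apply]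
  rw [this]
  rfl

/-- Naturality of `compEquiv`. -/
theorem compEquiv_natural {M N : ModuleCat.{u} R} [Module.Finite R M] [Module.Finite R N]
    (f : M ⟶ N) (y : F.obj M) :
    compEquiv F hF G hG e N ((F.map f).hom y) = (G.map f).hom (compEquiv F hF G hG e M y) := by
  obtain ⟨t, rfl⟩ := (theta_bijective_of_finite F hF M).2 y
  rw [theta_natural, compEquiv_theta, compEquiv_theta, theta_natural]
  congr 1
  change (LinearMap.lTensor N e.toLinearMap ∘ₗ LinearMap.rTensor _ f.hom) t =
    (LinearMap.rTensor _ f.hom ∘ₗ LinearMap.lTensor M e.toLinearMap) t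
  rw [LinearMap.lTensor_comp_rTensor, LinearMap.rTensor_comp_lTensor]

end Compare

end Groth.Agent.Lib.H29Watts
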