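import Groth.Prelude.Def_DeRham
import Mathlib.LinearAlgebra.ExteriorPower.Basic
import Mathlib.RingTheory.Kaehler.Basic

/-!
# Generators of the exterior powers of Kähler differentials

The elements `b₀ • (δ b₁ ∧ … ∧ δ b_p)` (`DeRham.gen`) generate `⋀[A]^p M` additively as soon as
`δ(A)` spans `M`; this gives an induction principle used for all the `DeRham.*` rules.
-/

set_option autoImplicit false
open exteriorPower

universe v u

namespace Groth.Agent.Lib.H79DeRhamGen

variable {R : Type v} {A M : Type u} [CommRing R] [CommRing A] [Algebra R A]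
  [AddCommGroup M] [Module A M] [Module R M]

lemma smul_gen (δ : Derivation R A M) (p : ℕ) (a b₀ : A) (b : Fin p → A) :
    a • DeRham.gen δ p b₀ b = DeRham.gen δ p (a * b₀) b := by
  simp [DeRham.gen, mul_smul]

lemma gen_one (δ : Derivation R A M) (p : ℕ) (b : Fin p → A) :
    DeRham.gen δ p 1 b = ιMulti A p (fun i => δ (b i)) := by
  simp [DeRham.gen]

/-- Induction principle: a predicate on `⋀[A]^p M` which holds at `0`, is stable under addition and
holds on all `gen δ p b₀ b` holds everywhere, provided `δ(A)` spans `M`. -/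
theorem gen_induction (δ : Derivation R A M) (hδ : Submodule.span A (Set.range δ) = ⊤) (p : ℕ)
    {P : ↥(⋀[A]^p M) → Prop} (h0 : P 0) (hadd : ∀ x y, P x → P y → P (x + y))
    (hgen : ∀ (b₀ : A) (b : Fin p → A), P (DeRham.gen δ p b₀ b)) (x : ↥(⋀[A]^p M)) : P x := by
  have hx : x ∈ Submodule.span A (ιMulti A p '' {a : Fin p → M | Set.range a ⊆ Set.range δ}) := by
    rw [exteriorPower.ιMulti_span_of_span A p M hδ]
    trivial
  suffices h : ∀ r : A, P (r • x) by simpa using h 1
  induction hx using Submodule.span_induction with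
  | mem y hy =>
    obtain ⟨a, ha, rfl⟩ := hy
    intro r
    have hb : ∀ i, ∃ c : A, δ c = a i := fun i => ha ⟨i, rfl⟩
    choose b hb using hb
    have : a = fun i => δ (b i) := funext fun i => (hb i).symm
    rw [this]
    exact hgen r b
  | zero => intro r; rw [smul_zero]; exact h0
  | add y z _ _ hy hz => intro r; rw [smul_add]; exact hadd _ _ (hy r) (hz r)
  | smul s y _ hy => intro r; rw [smul_smul]; exact hy (r * s)

/-- The induction principle for the Kähler differentials. -/
theorem gen_induction_kaehler (R A : Type u) [CommRing R] [CommRing A] [Algebra R A] (p : ℕ)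
    {P : ↥(⋀[A]^p (Ω[A⁄R])) → Prop} (h0 : P 0) (hadd : ∀ x y, P x → P y → P (x + y))
    (hgen : ∀ (b₀ : A) (b : Fin p → A), P (DeRham.gen (KaehlerDifferential.D R A) p b₀ b))
    (x : ↥(⋀[A]^p (Ω[A⁄R]))) : P x :=
  gen_induction (KaehlerDifferential.D R A) (KaehlerDifferential.span_range_derivation R A) p
    h0 hadd hgen x

/-- Two additive maps out of `⋀[A]^p M` agreeing on the generators are equal. -/
theorem addMonoidHom_ext (δ : Derivation R A M) (hδ : Submodule.span A (Set.range δ) = ⊤) (p : ℕ)
    {N : Type*} [AddCommGroup N] (f g : ↥(⋀[A]^p M) →+ N)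
    (h : ∀ (b₀ : A) (b : Fin p → A), f (DeRham.gen δ p b₀ b) = g (DeRham.gen δ p b₀ b)) : f = g := by
  ext x
  refine gen_induction δ hδ p (P := fun x => f x = g x) ?_ ?_ h x
  · simp
  · intro x y hx hy; simp [hx, hy]

end Groth.Agent.Lib.H79DeRhamGen
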