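import Groth.Prelude.Def_DeRham
import Groth.Agent.Lib.H2ExtPowBC
import Groth.Agent.Lib.H79DeRhamGen
import Mathlib

/-!
# Base change for exterior powers of Kähler differentials (helper2)

For a pushout square `B = S ⊗[R] A`:
`kaehlerBC R S A B p : S ⊗[R] ⋀[A]^p Ω[A⁄R] ≃ₗ[S] ⋀[B]^p Ω[B⁄S]`,
sending `s ⊗ (b₀ • db₁ ∧ … ∧ db_p)` to `s • (g b₀ • d(g b₁) ∧ … ∧ d(g b_p))`.
-/

set_option autoImplicit false

open TensorProduct exteriorPower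

namespace Groth.Agent.Lib.H2DeRhamBC

open Groth.Agent.Lib.H2ExtPowBC

universe u

variable (R S A B : Type u) [CommRing R] [CommRing S] [CommRing A] [CommRing B]
    [Algebra R S] [Algebra R A] [Algebra R B] [Algebra A B] [Algebra S B]
    [IsScalarTower R A B] [IsScalarTower R S B] [Algebra.IsPushout R S A B] (p : ℕ)

/-- the `B`-linear iso `B ⊗[A] ⋀[A]^p Ω[A⁄R] ≃ ⋀[B]^p Ω[B⁄S]` -/
noncomputable def kaehlerBCB : B ⊗[A] ↥(⋀[A]^p (Ω[A⁄R])) ≃ₗ[B] ↥(⋀[B]^p (Ω[B⁄S])) :=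
  (baseChangeEquiv B A (Ω[A⁄R]) p).trans (mapEquiv p (KaehlerDifferential.tensorKaehlerEquiv R S A B))

theorem kaehlerBCB_tmul_gen (c : B) (b₀ : A) (b : Fin p → A) :
    kaehlerBCB R S A B p (c ⊗ₜ DeRham.gen (KaehlerDifferential.D R A) p b₀ b) =
      c • DeRham.gen (KaehlerDifferential.D S B) p (algebraMap A B b₀)
        (fun i => algebraMap A B (b i)) := by
  have h1 : (c ⊗ₜ[A] DeRham.gen (KaehlerDifferential.D R A) p b₀ b :
      B ⊗[A] ↥(⋀[A]^p (Ω[A⁄R]))) =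
      (c * algebraMap A B b₀) ⊗ₜ[A] ιMulti A p (fun i => KaehlerDifferential.D R A (b i)) := by
    rw [DeRham.gen, TensorProduct.tmul_smul, TensorProduct.smul_tmul', Algebra.smul_def,
      mul_comm]
  rw [h1, kaehlerBCB, LinearEquiv.trans_apply, baseChangeEquiv_tmul_ιMulti, map_smul,
    mapEquiv_ιMulti, DeRham.gen, smul_smul]
  congr 2
  funext i
  rw [KaehlerDifferential.tensorKaehlerEquiv_tmul_D, one_smul]

/-- the `S`-linear iso `S ⊗[R] ⋀[A]^p Ω[A⁄R] ≃ ⋀[B]^p Ω[B⁄S]` -/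
noncomputable def kaehlerBC : S ⊗[R] ↥(⋀[A]^p (Ω[A⁄R])) ≃ₗ[S] ↥(⋀[B]^p (Ω[B⁄S])) :=
  (Algebra.IsPushout.cancelBaseChange R S A B ↥(⋀[A]^p (Ω[A⁄R]))).symm ≪≫ₗ
    (kaehlerBCB R S A B p).restrictScalars S

theorem kaehlerBC_tmul_gen (s : S) (b₀ : A) (b : Fin p → A) :
    kaehlerBC R S A B p (s ⊗ₜ DeRham.gen (KaehlerDifferential.D R A) p b₀ b) =
      s • DeRham.gen (KaehlerDifferential.D S B) p (algebraMap A B b₀)
        (fun i => algebraMap A B (b i)) := by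
  rw [kaehlerBC, LinearEquiv.trans_apply, Algebra.IsPushout.cancelBaseChange_symm_tmul,
    LinearEquiv.restrictScalars_apply, kaehlerBCB_tmul_gen, algebraMap_smul]

/-- the statement of S15295: any additive `Φ` with `Φ (s ⊗ x) = s • ψ p x` is bijective -/
theorem bijective_of_isCxMap
    (ψ : ∀ p : ℕ, ↥(⋀[A]^p (Ω[A⁄R])) →+ ↥(⋀[B]^p (Ω[B⁄S])))
    (hψ : DeRham.IsCxMap (KaehlerDifferential.D R A) (KaehlerDifferential.D S B) (algebraMap A B) ψ)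
    (Φ : S ⊗[R] ↥(⋀[A]^p (Ω[A⁄R])) →+ ↥(⋀[B]^p (Ω[B⁄S])))
    (hΦ : ∀ (s : S) (x : ↥(⋀[A]^p (Ω[A⁄R]))), Φ (s ⊗ₜ[R] x) = s • ψ p x) :
    (∀ z, Φ z = kaehlerBC R S A B p z) ∧ Function.Bijective Φ := by
  have h1 : ∀ x : ↥(⋀[A]^p (Ω[A⁄R])), ψ p x = kaehlerBC R S A B p ((1 : S) ⊗ₜ[R] x) := by
    intro x
    refine Groth.Agent.Lib.H79DeRhamGen.gen_induction_kaehler R A p
      (P := fun x => ψ p x = kaehlerBC R S A B p ((1 : S) ⊗ₜ[R] x)) ?_ ?_ ?_ x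
    · simp
    · intro x y hx hy
      simp only [map_add, TensorProduct.tmul_add, hx, hy]
    · intro b₀ b
      rw [hψ p b₀ b, kaehlerBC_tmul_gen, one_smul]
  have h2 : ∀ z, Φ z = kaehlerBC R S A B p z := by
    intro z
    induction z using TensorProduct.induction_on with
    | zero => simp
    | add x y hx hy => rw [map_add, map_add, hx, hy]
    | tmul s x =>
      rw [hΦ, h1]
      rw [← map_smul, TensorProduct.smul_tmul', smul_eq_mul, mul_one]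
  refine ⟨h2, ?_⟩
  have : (Φ : _ → _) = kaehlerBC R S A B p := funext h2
  rw [this]
  exact (kaehlerBC R S A B p).bijective

/-- a map of de Rham complexes over a pushout square is `x ↦ kaehlerBC (1 ⊗ x)` -/
theorem eq_kaehlerBC_of_isCxMap
    (ψ : ∀ p : ℕ, ↥(⋀[A]^p (Ω[A⁄R])) →+ ↥(⋀[B]^p (Ω[B⁄S])))
    (hψ : DeRham.IsCxMap (KaehlerDifferential.D R A) (KaehlerDifferential.D S B) (algebraMap A B) ψ)
    (x : ↥(⋀[A]^p (Ω[A⁄R]))) : ψ p x = kaehlerBC R S A B p ((1 : S) ⊗ₜ[R] x) := by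
  refine Groth.Agent.Lib.H79DeRhamGen.gen_induction_kaehler R A p
    (P := fun x => ψ p x = kaehlerBC R S A B p ((1 : S) ⊗ₜ[R] x)) ?_ ?_ ?_ x
  · simp
  · intro x y hx hy
    simp only [map_add, TensorProduct.tmul_add, hx, hy]
  · intro b₀ b
    rw [hψ p b₀ b, kaehlerBC_tmul_gen, one_smul]

theorem kaehlerBC_tmul_of_isCxMap
    (ψ : ∀ p : ℕ, ↥(⋀[A]^p (Ω[A⁄R])) →+ ↥(⋀[B]^p (Ω[B⁄S])))
    (hψ : DeRham.IsCxMap (KaehlerDifferential.D R A) (KaehlerDifferential.D S B) (algebraMap A B) ψ)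
    (s : S) (x : ↥(⋀[A]^p (Ω[A⁄R]))) : kaehlerBC R S A B p (s ⊗ₜ[R] x) = s • ψ p x := by
  rw [eq_kaehlerBC_of_isCxMap R S A B p ψ hψ, ← map_smul, TensorProduct.smul_tmul', smul_eq_mul,
    mul_one]

end Groth.Agent.Lib.H2DeRhamBC
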