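import Mathlib
import Groth.Agent.Lib.H2DeRhamD
import Groth.Agent.Lib.H79DeRhamGen

/-!
# Contraction, Lie derivative and the Euler-homotopy engine for algebraic de Rham complexes

For an `R`-derivation `E : A → A` we define on `ExteriorAlgebra A Ω[A⁄R]` the contraction
`contr E` (interior product with the vector field `E`) and the Lie derivative
`lie E = d ∘ contr E + contr E ∘ d` (Cartan's formula, taken as the definition).  It acts as a
derivation on the generators `b₀ • db₁ ∧ … ∧ db_p`; on generators built from `E`-eigenvectors it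
acts by the sum of the weights.  If `ℚ ⊆ R`, a closed form which is a sum of `lie`-eigenvectors with
integer weights is cohomologous to its weight-zero part (`engine`).
-/

set_option autoImplicit false
universe u

namespace Groth.Agent.Lib.H2DeRhamLie

open Groth.Agent.Lib.H2DeRhamD KaehlerDifferential

section Contr

variable (R A : Type u) [CommRing R] [CommRing A] [Algebra R A] (E : Derivation R A A)

/-- interior product with the vector field `E` -/
noncomputable def contr : ExteriorAlgebra A (Ω[A⁄R]) →ₗ[A] ExteriorAlgebra A (Ω[A⁄R]) :=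
  CliffordAlgebra.contractLeft (Q := (0 : QuadraticForm A (Ω[A⁄R]))) E.liftKaehlerDifferential

theorem contr_ι_mul (ω : Ω[A⁄R]) (x : ExteriorAlgebra A (Ω[A⁄R])) :
    contr R A E (ExteriorAlgebra.ι A ω * x) =
      E.liftKaehlerDifferential ω • x - ExteriorAlgebra.ι A ω * contr R A E x :=
  CliffordAlgebra.contractLeft_ι_mul _ _ _

theorem contr_ιD_mul (b : A) (x : ExteriorAlgebra A (Ω[A⁄R])) :
    contr R A E (ιD R A b * x) = E b • x - ιD R A b * contr R A E x := by
  rw [ιD, contr_ι_mul, Derivation.liftKaehlerDifferential_comp_D]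

theorem contr_algebraMap (a : A) : contr R A E (algebraMap A _ a) = 0 :=
  CliffordAlgebra.contractLeft_algebraMap _ _ _

theorem contr_one : contr R A E 1 = 0 :=
  CliffordAlgebra.contractLeft_one _ _

theorem contr_mem_aux {n : ℕ} {x : ExteriorAlgebra A (Ω[A⁄R])} (hx : x ∈ ⋀[A]^n (Ω[A⁄R])) :
    (n = 0 → contr R A E x = 0) ∧ ∀ p, n = p + 1 → contr R A E x ∈ ⋀[A]^p (Ω[A⁄R]) := by
  induction hx using Submodule.pow_induction_on_left' with
  | algebraMap r =>
    exact ⟨fun _ => contr_algebraMap R A E r, fun p hp => by omega⟩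
  | add x y i hx hy hx' hy' =>
    refine ⟨fun h => ?_, fun p hp => ?_⟩
    · rw [map_add, hx'.1 h, hy'.1 h, add_zero]
    · rw [map_add]
      exact add_mem (hx'.2 p hp) (hy'.2 p hp)
  | mem_mul m hm i x hx hx' =>
    obtain ⟨ω, rfl⟩ := hm
    refine ⟨fun h => by omega, fun p hp => ?_⟩
    have hpi : p = i := by omega
    subst hpi
    rw [contr_ι_mul]
    refine sub_mem (Submodule.smul_mem _ _ hx) ?_
    rcases Nat.eq_zero_or_pos p with h0 | hpos
    · rw [hx'.1 h0, mul_zero]
      exact zero_mem _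
    · obtain ⟨q, rfl⟩ : ∃ q, p = q + 1 := ⟨p - 1, by omega⟩
      exact mem_of_eq' A (by omega) (mul_mem_ext (ι_mem_one ω) (hx'.2 q rfl))

theorem contr_mem_zero {x : ExteriorAlgebra A (Ω[A⁄R])} (hx : x ∈ ⋀[A]^0 (Ω[A⁄R])) :
    contr R A E x = 0 := (contr_mem_aux R A E hx).1 rfl

theorem contr_mem {p : ℕ} {x : ExteriorAlgebra A (Ω[A⁄R])} (hx : x ∈ ⋀[A]^(p + 1) (Ω[A⁄R])) :
    contr R A E x ∈ ⋀[A]^p (Ω[A⁄R]) := (contr_mem_aux R A E hx).2 p rfl

end Contr

section Lie

variable (R A : Type u) [CommRing R] [CommRing A] [Algebra R A] (E : Derivation R A A)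

/-- the Lie derivative along `E` (Cartan's formula) -/
noncomputable def lie (x : ExteriorAlgebra A (Ω[A⁄R])) : ExteriorAlgebra A (Ω[A⁄R]) :=
  dFun R A (contr R A E x) + contr R A E (dFun R A x)

theorem lie_add (x y : ExteriorAlgebra A (Ω[A⁄R])) :
    lie R A E (x + y) = lie R A E x + lie R A E y := by
  simp only [lie, map_add, dFun_add]
  abel

@[simp] theorem lie_zero : lie R A E 0 = 0 := by
  simp [lie]

/-- `lie` as an additive map -/
noncomputable def lieAdd : ExteriorAlgebra A (Ω[A⁄R]) →+ ExteriorAlgebra A (Ω[A⁄R]) where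
  toFun := lie R A E
  map_zero' := lie_zero R A E
  map_add' := lie_add R A E

theorem lieAdd_apply (x : ExteriorAlgebra A (Ω[A⁄R])) : lieAdd R A E x = lie R A E x := rfl

theorem lie_zsmul (n : ℤ) (x : ExteriorAlgebra A (Ω[A⁄R])) :
    lie R A E (n • x) = n • lie R A E x :=
  map_zsmul (lieAdd R A E) n x

theorem lie_sum {ι : Type*} (s : Finset ι) (f : ι → ExteriorAlgebra A (Ω[A⁄R])) :
    lie R A E (∑ i ∈ s, f i) = ∑ i ∈ s, lie R A E (f i) :=
  map_sum (lieAdd R A E) f s

theorem lie_smulR (r : R) (x : ExteriorAlgebra A (Ω[A⁄R])) :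
    lie R A E (r • x) = r • lie R A E x := by
  have h : ∀ y : ExteriorAlgebra A (Ω[A⁄R]), contr R A E (r • y) = r • contr R A E y := by
    intro y
    rw [← algebraMap_smul A r y, map_smul, algebraMap_smul]
  rw [lie, lie, h, dFun_smulR, dFun_smulR, h, smul_add]

theorem lie_one : lie R A E 1 = 0 := by
  have h1 : dFun R A (1 : ExteriorAlgebra A (Ω[A⁄R])) = 0 := by
    have := dFun_algebraMap R A (1 : A)
    rwa [map_one, ιD_one] at this
  rw [lie, contr_one, dFun_zero, h1, map_zero, add_zero]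

set_option maxHeartbeats 400000 in
theorem lie_smul (a : A) (y : ExteriorAlgebra A (Ω[A⁄R])) :
    lie R A E (a • y) = E a • y + a • lie R A E y := by
  rw [lie, lie, map_smul, dFun_smul, dFun_smul, map_add, map_smul, contr_ιD_mul, smul_add]
  abel

set_option maxHeartbeats 400000 in
theorem dFun_ιD_mul (b : A) (z : ExteriorAlgebra A (Ω[A⁄R])) :
    dFun R A (ιD R A b * z) = -(ιD R A b * dFun R A z) := by
  rw [dFun_mul, ιD, inv_ι, dFun_ι, d₁_D, zero_mul, add_zero, neg_mul]

set_option maxHeartbeats 400000 in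
theorem lie_ιD_mul (b : A) (y : ExteriorAlgebra A (Ω[A⁄R])) :
    lie R A E (ιD R A b * y) = ιD R A (E b) * y + ιD R A b * lie R A E y := by
  rw [lie, lie, contr_ιD_mul, dFun_ιD_mul, map_neg, contr_ιD_mul]
  have h1 : dFun R A (E b • y - ιD R A b * contr R A E y) =
      E b • dFun R A y + ιD R A (E b) * y + ιD R A b * dFun R A (contr R A E y) := by
    rw [sub_eq_add_neg, dFun_add, dFun_neg, dFun_smul, dFun_ιD_mul, neg_neg]
  rw [h1, mul_add]
  abel

theorem dFun_lie (x : ExteriorAlgebra A (Ω[A⁄R])) :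
    dFun R A (lie R A E x) = lie R A E (dFun R A x) := by
  rw [lie, lie, dFun_add, dFun_dFun, zero_add, dFun_dFun, map_zero, add_zero]

theorem lie_mem {p : ℕ} {x : ExteriorAlgebra A (Ω[A⁄R])} (hx : x ∈ ⋀[A]^p (Ω[A⁄R])) :
    lie R A E x ∈ ⋀[A]^p (Ω[A⁄R]) := by
  rw [lie]
  refine add_mem ?_ (contr_mem R A E (dFun_mem R A hx))
  rcases Nat.eq_zero_or_pos p with h0 | hpos
  · subst h0
    rw [contr_mem_zero R A E hx, dFun_zero]
    exact zero_mem _
  · obtain ⟨q, rfl⟩ : ∃ q, p = q + 1 := ⟨p - 1, by omega⟩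
    exact dFun_mem R A (contr_mem R A E hx)

/-- the wedge `db₁ ∧ … ∧ db_p` in the exterior algebra -/
noncomputable def wedgeD (p : ℕ) (b : Fin p → A) : ExteriorAlgebra A (Ω[A⁄R]) :=
  ExteriorAlgebra.ιMulti A p (fun i => KaehlerDifferential.D R A (b i))

theorem wedgeD_zero (b : Fin 0 → A) : wedgeD R A 0 b = 1 :=
  ExteriorAlgebra.ιMulti_zero_apply _

theorem wedgeD_succ (p : ℕ) (b : Fin (p + 1) → A) :
    wedgeD R A (p + 1) b = ιD R A (b 0) * wedgeD R A p (fun i => b i.succ) := by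
  rw [wedgeD, ExteriorAlgebra.ιMulti_succ_apply]
  rfl

theorem wedgeD_mem (p : ℕ) (b : Fin p → A) : wedgeD R A p b ∈ ⋀[A]^p (Ω[A⁄R]) :=
  ExteriorAlgebra.ιMulti_range A p ⟨_, rfl⟩

theorem dFun_wedgeD (p : ℕ) (b : Fin p → A) : dFun R A (wedgeD R A p b) = 0 := by
  induction p with
  | zero =>
    rw [wedgeD_zero]
    have := dFun_algebraMap R A (1 : A)
    rwa [map_one, ιD_one] at this
  | succ p ih => rw [wedgeD_succ, dFun_ιD_mul, ih, mul_zero, neg_zero]

theorem dFun_smul_wedgeD (p : ℕ) (b₀ : A) (b : Fin p → A) :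
    dFun R A (b₀ • wedgeD R A p b) = wedgeD R A (p + 1) (Fin.cons b₀ b) := by
  rw [dFun_smul, dFun_wedgeD, smul_zero, zero_add, wedgeD_succ]
  rfl

theorem lie_wedgeD (p : ℕ) (b : Fin p → A) (n : Fin p → ℤ) (hb : ∀ i, E (b i) = n i • b i) :
    lie R A E (wedgeD R A p b) = (∑ i, n i) • wedgeD R A p b := by
  induction p with
  | zero => rw [wedgeD_zero, lie_one, Finset.univ_eq_empty, Finset.sum_empty, zero_smul]
  | succ p ih =>
    rw [wedgeD_succ, lie_ιD_mul, ih (fun i => b i.succ) (fun i => n i.succ) (fun i => hb i.succ),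
      hb 0, Fin.sum_univ_succ, add_smul, ιD, map_zsmul, map_zsmul, ← ιD, smul_mul_assoc,
      mul_smul_comm]

theorem lie_smul_wedgeD (p : ℕ) (b₀ : A) (n₀ : ℤ) (hb₀ : E b₀ = n₀ • b₀) (b : Fin p → A)
    (n : Fin p → ℤ) (hb : ∀ i, E (b i) = n i • b i) :
    lie R A E (b₀ • wedgeD R A p b) = (n₀ + ∑ i, n i) • (b₀ • wedgeD R A p b) := by
  rw [lie_smul, lie_wedgeD R A E p b n hb, hb₀, add_smul, smul_assoc, smul_comm b₀]

end Lie

section Engine

variable (R : Type u) [CommRing R]

/-- eigenvectors of an additive endomorphism with distinct integer eigenvalues are independent, as soon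
as nonzero integers act invertibly -/
theorem eigen_indep (hQ : ∀ n : ℤ, n ≠ 0 → IsUnit ((n : ℤ) : R)) {V : Type*} [AddCommGroup V]
    [Module R V] (L : V →+ V) (F : Finset ℤ) :
    ∀ (z : ℤ → V), (∀ n ∈ F, L (z n) = n • z n) → ∑ n ∈ F, z n = 0 → ∀ n ∈ F, z n = 0 := by
  classical
  induction F using Finset.induction_on with
  | empty => intro z _ _ n hn; simp at hn
  | insert m F hm ih =>
    intro z hz hsum
    rw [Finset.sum_insert hm] at hsum
    have h1 : ∑ n ∈ F, (n - m) • z n = 0 := by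
      have h2 : L (z m + ∑ n ∈ F, z n) - m • (z m + ∑ n ∈ F, z n) = 0 := by
        rw [hsum, map_zero, smul_zero, sub_zero]
      rw [map_add, map_sum, hz m (Finset.mem_insert_self m F), smul_add, Finset.smul_sum] at h2
      rw [← h2, add_sub_add_left_eq_sub, ← Finset.sum_sub_distrib]
      refine Finset.sum_congr rfl fun n hn => ?_
      rw [hz n (Finset.mem_insert_of_mem hn), sub_smul]
    have h3 : ∀ n ∈ F, (n - m) • z n = 0 := by
      refine ih (fun n => (n - m) • z n) (fun n hn => ?_) h1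
      rw [map_zsmul, hz n (Finset.mem_insert_of_mem hn), smul_comm]
    have h4 : ∀ n ∈ F, z n = 0 := by
      intro n hn
      have hne : n - m ≠ 0 := by
        intro h
        have : n = m := by omega
        exact hm (this ▸ hn)
      obtain ⟨u, hu⟩ := hQ (n - m) hne
      have h5 := h3 n hn
      rw [← Int.cast_smul_eq_zsmul R, ← hu] at h5
      have := congrArg (fun v => (↑u⁻¹ : R) • v) h5
      simpa [smul_smul] using this
    intro n hn
    rcases Finset.mem_insert.mp hn with rfl | hn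
    · rw [Finset.sum_eq_zero h4, add_zero] at hsum
      exact hsum
    · exact h4 n hn

variable (A : Type u) [CommRing A] [Algebra R A] (E : Derivation R A A)

set_option maxHeartbeats 400000 in
/-- **Euler homotopy engine.**  Suppose nonzero integers are invertible in `R`.  If a closed `p`-form is
a finite sum of `lie E`-eigenvectors `z n` with pairwise distinct integer weights `n`, then each `z n` is
closed, and the sum of the `z n` with `n ≠ 0` is `d w` for some `(p-1)`-form `w`. -/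
theorem engine (hQ : ∀ n : ℤ, n ≠ 0 → IsUnit ((n : ℤ) : R)) (p : ℕ) (F : Finset ℤ)
    (z : ℤ → ExteriorAlgebra A (Ω[A⁄R])) (hz : ∀ n ∈ F, z n ∈ ⋀[A]^p (Ω[A⁄R]))
    (hL : ∀ n ∈ F, lie R A E (z n) = n • z n) (hy : dFun R A (∑ n ∈ F, z n) = 0) :
    (∀ n ∈ F, dFun R A (z n) = 0) ∧
      ∃ w : ExteriorAlgebra A (Ω[A⁄R]), (p = 0 → w = 0) ∧ (∀ q, p = q + 1 → w ∈ ⋀[A]^q (Ω[A⁄R])) ∧
        ∑ n ∈ F.erase 0, z n = dFun R A w := by
  classical
  have hcl : ∀ n ∈ F, dFun R A (z n) = 0 := by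
    refine eigen_indep R hQ (lieAdd R A E) F (fun n => dFun R A (z n)) (fun n hn => ?_) ?_
    · rw [lieAdd_apply, ← dFun_lie, hL n hn]
      exact map_zsmul (dAdd R A) n (z n)
    · have := map_sum (dAdd R A) z F
      exact this.symm.trans hy
  refine ⟨hcl, ?_⟩
  have hw : ∀ n ∈ F.erase 0, ∃ w : ExteriorAlgebra A (Ω[A⁄R]), (p = 0 → w = 0) ∧
      (∀ q, p = q + 1 → w ∈ ⋀[A]^q (Ω[A⁄R])) ∧ z n = dFun R A w := by
    intro n hn
    obtain ⟨hn0, hnF⟩ := Finset.mem_erase.mp hn
    obtain ⟨u, hu⟩ := hQ n hn0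
    refine ⟨(↑u⁻¹ : R) • contr R A E (z n), fun hp => ?_, fun q hq => ?_, ?_⟩
    · subst hp
      rw [contr_mem_zero R A E (hz n hnF), smul_zero]
    · subst hq
      exact Submodule.smul_of_tower_mem _ _ (contr_mem R A E (hz n hnF))
    · have h1 : n • z n = dFun R A (contr R A E (z n)) := by
        rw [← hL n hnF, lie, hcl n hnF, map_zero, add_zero]
      rw [dFun_smulR, ← h1, ← Int.cast_smul_eq_zsmul R, ← hu, smul_smul, Units.inv_mul, one_smul]
  choose! w hw0 hwq hwz using hw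
  refine ⟨∑ n ∈ F.erase 0, w n, fun hp => ?_, fun q hq => ?_, ?_⟩
  · exact Finset.sum_eq_zero fun n hn => hw0 n hn hp
  · exact Submodule.sum_mem _ fun n hn => hwq n hn q hq
  · have := map_sum (dAdd R A) w (F.erase 0)
    refine Eq.trans ?_ this.symm
    exact Finset.sum_congr rfl fun n hn => hwz n hn

end Engine

section Bridge

variable (R A : Type u) [CommRing R] [CommRing A] [Algebra R A]

open exteriorPower

theorem coe_gen (p : ℕ) (b₀ : A) (b : Fin p → A) :
    ((DeRham.gen (KaehlerDifferential.D R A) p b₀ b : ↥(⋀[A]^p (Ω[A⁄R]))) :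
      ExteriorAlgebra A (Ω[A⁄R])) = b₀ • wedgeD R A p b := by
  rw [DeRham.gen, Submodule.coe_smul, exteriorPower.ιMulti_apply_coe]
  rfl

/-- a family satisfying the rule `DeRham.IsRule` is the restriction of `dFun` -/
theorem coe_d (d : ∀ p : ℕ, ↥(⋀[A]^p (Ω[A⁄R])) →ₗ[R] ↥(⋀[A]^(p + 1) (Ω[A⁄R])))
    (hd : DeRham.IsRule (KaehlerDifferential.D R A) d) (p : ℕ) (x : ↥(⋀[A]^p (Ω[A⁄R]))) :
    ((d p x : ↥(⋀[A]^(p + 1) (Ω[A⁄R]))) : ExteriorAlgebra A (Ω[A⁄R])) =
      dFun R A (x : ExteriorAlgebra A (Ω[A⁄R])) := by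
  refine Groth.Agent.Lib.H79DeRhamGen.gen_induction_kaehler R A p
    (P := fun x => ((d p x : ↥(⋀[A]^(p + 1) (Ω[A⁄R]))) : ExteriorAlgebra A (Ω[A⁄R])) =
      dFun R A (x : ExteriorAlgebra A (Ω[A⁄R]))) ?_ ?_ ?_ x
  · simp
  · intro x y hx hy
    rw [map_add, Submodule.coe_add, Submodule.coe_add, dFun_add, hx, hy]
  · intro b₀ b
    rw [hd p b₀ b, coe_gen, dFun_smul_wedgeD, exteriorPower.ιMulti_apply_coe, wedgeD]
    congr 1
    funext i
    refine Fin.cases ?_ (fun j => ?_) i
    · simp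
    · simp

end Bridge

end Groth.Agent.Lib.H2DeRhamLie
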