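import Mathlib
import Groth.Agent.Lib.H2DeRhamLie

/-!
# Transport of the Lie derivative to a general receptacle `(M, δ)`

For a derivation `δ : A → M` the `A`-linear map `π : Ω[A⁄R] → M` induces an algebra map
`Λ = ExteriorAlgebra.map π`.  Any family `d` satisfying `DeRham.IsRule δ d` is compatible with `dFun`
along `Λ` (`map_dFun`), contractions are natural (`map_contrG`), hence
`Λ (lie E x) = d (ε ⌟ Λ x) + ε ⌟ d (Λ x)` (`map_lie`) whenever `ε ∘ δ = E`.
-/

set_option autoImplicit false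
universe u

namespace Groth.Agent.Lib.H2DeRhamRecept

open Groth.Agent.Lib.H2DeRhamD Groth.Agent.Lib.H2DeRhamLie KaehlerDifferential exteriorPower

section General

variable {A : Type*} [CommRing A] {M N : Type*} [AddCommGroup M] [Module A M] [AddCommGroup N]
  [Module A N]

/-- interior product with a linear form -/
noncomputable def contrG (ε : Module.Dual A M) : ExteriorAlgebra A M →ₗ[A] ExteriorAlgebra A M :=
  CliffordAlgebra.contractLeft (Q := (0 : QuadraticForm A M)) ε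

theorem contrG_ι_mul (ε : Module.Dual A M) (m : M) (x : ExteriorAlgebra A M) :
    contrG ε (ExteriorAlgebra.ι A m * x) = ε m • x - ExteriorAlgebra.ι A m * contrG ε x :=
  CliffordAlgebra.contractLeft_ι_mul _ _ _

theorem contrG_algebraMap (ε : Module.Dual A M) (a : A) : contrG ε (algebraMap A _ a) = 0 :=
  CliffordAlgebra.contractLeft_algebraMap _ _ _

theorem contrG_mem_aux (ε : Module.Dual A M) {n : ℕ} {x : ExteriorAlgebra A M}
    (hx : x ∈ ⋀[A]^n M) :
    (n = 0 → contrG ε x = 0) ∧ ∀ p, n = p + 1 → contrG ε x ∈ ⋀[A]^p M := by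
  induction hx using Submodule.pow_induction_on_left' with
  | algebraMap r =>
    exact ⟨fun _ => contrG_algebraMap ε r, fun p hp => by omega⟩
  | add x y i hx hy hx' hy' =>
    refine ⟨fun h => ?_, fun p hp => ?_⟩
    · rw [map_add, hx'.1 h, hy'.1 h, add_zero]
    · rw [map_add]
      exact add_mem (hx'.2 p hp) (hy'.2 p hp)
  | mem_mul m hm i x hx hx' =>
    obtain ⟨ω, rfl⟩ := hm
    refine ⟨fun h => by omega, fun p hp => ?_⟩
    have hpi : p = i := by omega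
    subst hpi
    rw [contrG_ι_mul]
    refine sub_mem (Submodule.smul_mem _ _ hx) ?_
    rcases Nat.eq_zero_or_pos p with h0 | hpos
    · rw [hx'.1 h0, mul_zero]
      exact zero_mem _
    · obtain ⟨q, rfl⟩ : ∃ q, p = q + 1 := ⟨p - 1, by omega⟩
      exact mem_of_eq' A (by omega) (mul_mem_ext (ι_mem_one ω) (hx'.2 q rfl))

theorem contrG_mem (ε : Module.Dual A M) {p : ℕ} {x : ExteriorAlgebra A M}
    (hx : x ∈ ⋀[A]^(p + 1) M) : contrG ε x ∈ ⋀[A]^p M := (contrG_mem_aux ε hx).2 p rfl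

theorem map_mem (π : N →ₗ[A] M) {p : ℕ} {x : ExteriorAlgebra A N} (hx : x ∈ ⋀[A]^p N) :
    ExteriorAlgebra.map π x ∈ ⋀[A]^p M := by
  induction hx using Submodule.pow_induction_on_left' with
  | algebraMap r =>
    rw [AlgHom.commutes]
    exact algebraMap_mem_zero r
  | add x y i hx hy hx' hy' =>
    rw [map_add]
    exact add_mem hx' hy'
  | mem_mul m hm i x hx hx' =>
    obtain ⟨ω, rfl⟩ := hm
    rw [map_mul, ExteriorAlgebra.map_apply_ι]
    exact mem_of_eq' A (by omega) (mul_mem_ext (ι_mem_one (π ω)) hx')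

theorem map_contrG (ε : Module.Dual A M) (π : N →ₗ[A] M) (x : ExteriorAlgebra A N) :
    contrG ε (ExteriorAlgebra.map π x) = ExteriorAlgebra.map π (contrG (ε ∘ₗ π) x) := by
  induction x using CliffordAlgebra.left_induction with
  | algebraMap r =>
    rw [AlgHom.commutes]
    erw [contrG_algebraMap, contrG_algebraMap, map_zero]
  | add x y hx hy => rw [map_add, map_add, hx, hy, map_add, map_add]
  | ι_mul x m hx =>
    erw [map_mul, ExteriorAlgebra.map_apply_ι, contrG_ι_mul, hx, contrG_ι_mul]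
    rw [map_sub, map_smul, map_mul, ExteriorAlgebra.map_apply_ι]
    rfl

end General

section Kaehler

variable (R A : Type u) [CommRing R] [CommRing A] [Algebra R A] {M : Type u} [AddCommGroup M]
  [Module A M] [Module R M] [IsScalarTower R A M] (δ : Derivation R A M)

/-- the algebra map `⋀ Ω[A⁄R] → ⋀ M` -/
noncomputable def Λ : ExteriorAlgebra A (Ω[A⁄R]) →ₐ[A] ExteriorAlgebra A M :=
  ExteriorAlgebra.map δ.liftKaehlerDifferential

theorem Λ_mem {p : ℕ} {x : ExteriorAlgebra A (Ω[A⁄R])} (hx : x ∈ ⋀[A]^p (Ω[A⁄R])) :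
    Λ R A δ x ∈ ⋀[A]^p M := map_mem _ hx

theorem Λ_wedgeD (p : ℕ) (b : Fin p → A) :
    Λ R A δ (wedgeD R A p b) = ExteriorAlgebra.ιMulti A p (fun i => δ (b i)) := by
  rw [Λ, wedgeD, ExteriorAlgebra.map_apply_ιMulti]
  congr 1
  funext i
  exact Derivation.liftKaehlerDifferential_comp_D δ (b i)

theorem coe_genM (p : ℕ) (b₀ : A) (b : Fin p → A) :
    ((DeRham.gen δ p b₀ b : ↥(⋀[A]^p M)) : ExteriorAlgebra A M) =
      b₀ • ExteriorAlgebra.ιMulti A p (fun i => δ (b i)) := by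
  rw [DeRham.gen, Submodule.coe_smul, exteriorPower.ιMulti_apply_coe]

/-- compatibility of a family satisfying the rule with `dFun` -/
theorem Λ_dFun (d : ∀ p : ℕ, ↥(⋀[A]^p M) →ₗ[R] ↥(⋀[A]^(p + 1) M)) (hd : DeRham.IsRule δ d)
    (p : ℕ) (x : ↥(⋀[A]^p (Ω[A⁄R]))) :
    ((d p ⟨Λ R A δ x, Λ_mem R A δ x.2⟩ : ↥(⋀[A]^(p + 1) M)) : ExteriorAlgebra A M) =
      Λ R A δ (dFun R A (x : ExteriorAlgebra A (Ω[A⁄R]))) := by
  refine Groth.Agent.Lib.H79DeRhamGen.gen_induction_kaehler R A p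
    (P := fun x => ((d p ⟨Λ R A δ x, Λ_mem R A δ x.2⟩ : ↥(⋀[A]^(p + 1) M)) :
      ExteriorAlgebra A M) = Λ R A δ (dFun R A (x : ExteriorAlgebra A (Ω[A⁄R])))) ?_ ?_ ?_ x
  · have : (⟨Λ R A δ ((0 : ↥(⋀[A]^p (Ω[A⁄R]))) : ExteriorAlgebra A (Ω[A⁄R])),
        Λ_mem R A δ (0 : ↥(⋀[A]^p (Ω[A⁄R]))).2⟩ : ↥(⋀[A]^p M)) = 0 := by
      apply Subtype.ext
      simp
    rw [this]
    simp
  · intro x y hx hy
    have : (⟨Λ R A δ ((x + y : ↥(⋀[A]^p (Ω[A⁄R]))) : ExteriorAlgebra A (Ω[A⁄R])),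
        Λ_mem R A δ (x + y).2⟩ : ↥(⋀[A]^p M)) =
        ⟨Λ R A δ x, Λ_mem R A δ x.2⟩ + ⟨Λ R A δ y, Λ_mem R A δ y.2⟩ := by
      apply Subtype.ext
      simp
    rw [this, map_add, Submodule.coe_add, hx, hy, Submodule.coe_add, dFun_add, map_add]
  · intro b₀ b
    have : (⟨Λ R A δ ((DeRham.gen (KaehlerDifferential.D R A) p b₀ b : ↥(⋀[A]^p (Ω[A⁄R]))) :
        ExteriorAlgebra A (Ω[A⁄R])), Λ_mem R A δ (DeRham.gen (KaehlerDifferential.D R A) p b₀ b).2⟩ :
        ↥(⋀[A]^p M)) = DeRham.gen δ p b₀ b := by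
      apply Subtype.ext
      show Λ R A δ ((DeRham.gen (KaehlerDifferential.D R A) p b₀ b : ↥(⋀[A]^p (Ω[A⁄R]))) :
        ExteriorAlgebra A (Ω[A⁄R])) = ((DeRham.gen δ p b₀ b : ↥(⋀[A]^p M)) : ExteriorAlgebra A M)
      rw [coe_gen, coe_genM, map_smul, Λ_wedgeD]
    rw [this, hd p b₀ b, coe_gen, dFun_smul_wedgeD, Λ_wedgeD, exteriorPower.ιMulti_apply_coe]
    congr 1
    funext i
    refine Fin.cases ?_ (fun j => ?_) i
    · simp
    · simp

variable (ε : Module.Dual A M) (E : Derivation R A A) (hE : ∀ a, ε (δ a) = E a)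

include hE in
theorem contr_eq (x : ExteriorAlgebra A (Ω[A⁄R])) :
    contr R A E x = contrG (ε ∘ₗ δ.liftKaehlerDifferential) x := by
  have h : E.liftKaehlerDifferential = ε ∘ₗ δ.liftKaehlerDifferential := by
    apply Derivation.liftKaehlerDifferential_unique
    ext a
    show E.liftKaehlerDifferential (KaehlerDifferential.D R A a) =
      ε (δ.liftKaehlerDifferential (KaehlerDifferential.D R A a))
    rw [Derivation.liftKaehlerDifferential_comp_D, Derivation.liftKaehlerDifferential_comp_D, hE]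
  rw [contr, h]
  rfl

include hE in
theorem Λ_contr (x : ExteriorAlgebra A (Ω[A⁄R])) :
    Λ R A δ (contr R A E x) = contrG ε (Λ R A δ x) := by
  rw [contr_eq R A δ ε E hE, Λ, map_contrG]

include hE in
/-- `Λ (lie E x)` only depends on `Λ x` -/
theorem Λ_lie (d : ∀ p : ℕ, ↥(⋀[A]^p M) →ₗ[R] ↥(⋀[A]^(p + 1) M)) (hd : DeRham.IsRule δ d)
    (q : ℕ) (x : ↥(⋀[A]^(q + 1) (Ω[A⁄R]))) :
    Λ R A δ (lie R A E (x : ExteriorAlgebra A (Ω[A⁄R]))) =
      ((d q ⟨contrG ε (Λ R A δ x), contrG_mem ε (Λ_mem R A δ x.2)⟩ : ↥(⋀[A]^(q + 1) M)) :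
        ExteriorAlgebra A M) +
      contrG ε ((d (q + 1) ⟨Λ R A δ x, Λ_mem R A δ x.2⟩ : ↥(⋀[A]^(q + 2) M)) :
        ExteriorAlgebra A M) := by
  rw [lie, map_add, Λ_contr R A δ ε E hE, Λ_dFun R A δ d hd (q + 1) x]
  congr 1
  have h1 := Λ_dFun R A δ d hd q ⟨contr R A E x, contr_mem R A E x.2⟩
  rw [← h1]
  congr 3
  exact Λ_contr R A δ ε E hE x

end Kaehler

end Groth.Agent.Lib.H2DeRhamRecept
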