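import Mathlib
import Groth.Agent.Lib.H2DeRhamLie

/-!
# Weight decomposition of the algebraic de Rham complex along an Euler-type derivation

Let `E` be an `R`-derivation of `A` and `G : ℤ → Submodule ℤ A` additive subgroups of `E`-eigenvectors
(`E a = N • a` on `G N`) which together span `A`.  Then every `p`-form is a finite sum of forms in
`S p N` (spanned by the `b₀ db₁ ∧ … ∧ db_p` with `bᵢ ∈ G nᵢ`, `∑ nᵢ = N`), and, if `ℚ ⊆ R`, every
closed `p`-form is cohomologous to a closed form in `S p 0` (`main`).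
-/

set_option autoImplicit false
universe u

namespace Groth.Agent.Lib.H2DeRhamWeight

open Groth.Agent.Lib.H2DeRhamD Groth.Agent.Lib.H2DeRhamLie KaehlerDifferential exteriorPower

variable (R A : Type u) [CommRing R] [CommRing A] [Algebra R A] (E : Derivation R A A)
  (G : ℤ → Submodule ℤ A)

/-- generators of weight `N` -/
def gset (p : ℕ) (N : ℤ) : Set ↥(⋀[A]^p (Ω[A⁄R])) :=
  {y | ∃ (n₀ : ℤ) (b₀ : A) (n : Fin p → ℤ) (b : Fin p → A), b₀ ∈ G n₀ ∧ (∀ i, b i ∈ G (n i)) ∧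
    n₀ + ∑ i, n i = N ∧ y = DeRham.gen (KaehlerDifferential.D R A) p b₀ b}

/-- the weight `N` part of the `p`-forms -/
noncomputable def S (p : ℕ) (N : ℤ) : Submodule ℤ ↥(⋀[A]^p (Ω[A⁄R])) :=
  Submodule.span ℤ (gset R A G p N)

variable {G} in
theorem S_eigen (hG : ∀ N, ∀ a ∈ G N, E a = N • a) (p : ℕ) (N : ℤ) (y : ↥(⋀[A]^p (Ω[A⁄R])))
    (hy : y ∈ S R A G p N) :
    lie R A E (y : ExteriorAlgebra A (Ω[A⁄R])) = N • (y : ExteriorAlgebra A (Ω[A⁄R])) := by
  induction hy using Submodule.span_induction with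
  | mem y hy =>
    obtain ⟨n₀, b₀, n, b, hb₀, hb, hN, rfl⟩ := hy
    rw [coe_gen, lie_smul_wedgeD R A E p b₀ n₀ (hG n₀ b₀ hb₀) b n (fun i => hG (n i) (b i) (hb i)),
      hN]
  | zero => simp
  | add x y _ _ hx hy => rw [Submodule.coe_add, lie_add, hx, hy, smul_add]
  | smul m x _ hx => rw [AddSubgroupClass.coe_zsmul, lie_zsmul, hx, smul_comm]

/-- finite decomposition of an element of a supremum of submodules -/
theorem exists_finset_decomp {M : Type*} [AddCommGroup M] (T : ℤ → Submodule ℤ M) (y : M)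
    (hy : y ∈ ⨆ N, T N) :
    ∃ (F : Finset ℤ) (z : ℤ → M), (∀ N, z N ∈ T N) ∧ (∀ N, N ∉ F → z N = 0) ∧
      y = ∑ N ∈ F, z N := by
  classical
  obtain ⟨f, hf⟩ := (Submodule.mem_iSup_iff_exists_dfinsupp' T y).mp hy
  refine ⟨f.support, fun N => (f N : M), fun N => (f N).2, fun N hN => ?_, ?_⟩
  · rw [DFinsupp.notMem_support_iff] at hN
    show ((f N : ↥(T N)) : M) = 0
    rw [hN]
    rfl
  · rw [← hf]
    rfl

variable {G} in
theorem mem_iSup_S (hA : ∀ a : A, a ∈ ⨆ N, G N) (p : ℕ) (y : ↥(⋀[A]^p (Ω[A⁄R]))) :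
    y ∈ ⨆ N : ℤ, S R A G p N := by
  classical
  refine Groth.Agent.Lib.H79DeRhamGen.gen_induction_kaehler R A p
    (P := fun y => y ∈ ⨆ N : ℤ, S R A G p N) (zero_mem _) (fun x y hx hy => add_mem hx hy) ?_ y
  intro b₀ b
  have hdec : ∀ a : A, ∃ (F : Finset ℤ) (z : ℤ → A), (∀ N, z N ∈ G N) ∧ (∀ N, N ∉ F → z N = 0) ∧
      a = ∑ N ∈ F, z N := fun a => exists_finset_decomp G a (hA a)
  choose F z hz _ hsum using hdec
  have h1 : (fun i => KaehlerDifferential.D R A (b i)) =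
      fun i => ∑ N ∈ F (b i), KaehlerDifferential.D R A (z (b i) N) := by
    funext i
    rw [← map_sum, ← hsum (b i)]
  have h2 : ιMulti A p (fun i => KaehlerDifferential.D R A (b i)) =
      ∑ r ∈ Fintype.piFinset (fun i => F (b i)),
        ιMulti A p (fun i => KaehlerDifferential.D R A (z (b i) (r i))) := by
    rw [h1]
    exact (ιMulti A p).toMultilinearMap.map_sum_finset
      (fun i N => KaehlerDifferential.D R A (z (b i) N)) (fun i => F (b i))
  have h3 : DeRham.gen (KaehlerDifferential.D R A) p b₀ b =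
      ∑ n₀ ∈ F b₀, ∑ r ∈ Fintype.piFinset (fun i => F (b i)),
        DeRham.gen (KaehlerDifferential.D R A) p (z b₀ n₀) (fun i => z (b i) (r i)) := by
    unfold DeRham.gen
    rw [h2]
    conv_lhs => rw [hsum b₀]
    rw [Finset.sum_smul]
    refine Finset.sum_congr rfl fun n₀ _ => ?_
    rw [Finset.smul_sum]
  rw [h3]
  refine Submodule.sum_mem _ fun n₀ _ => Submodule.sum_mem _ fun r _ => ?_
  refine Submodule.mem_iSup_of_mem (n₀ + ∑ i, r i) (Submodule.subset_span ?_)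
  exact ⟨n₀, _, r, _, hz b₀ n₀, fun i => hz (b i) (r i), rfl, rfl⟩

variable {G} in
set_option maxHeartbeats 1000000 in
/-- **Weight-zero retraction.**  If `ℚ ⊆ R`, the `G N` consist of `E`-eigenvectors of weight `N` and span
`A`, then every closed `p`-form `y` is `z₀ + d w` with `z₀` a closed form of weight zero. -/
theorem main (hQ : ∀ n : ℤ, n ≠ 0 → IsUnit ((n : ℤ) : R)) (hG : ∀ N, ∀ a ∈ G N, E a = N • a)
    (hA : ∀ a : A, a ∈ ⨆ N, G N) (p : ℕ) (y : ↥(⋀[A]^p (Ω[A⁄R])))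
    (hy : dFun R A (y : ExteriorAlgebra A (Ω[A⁄R])) = 0) :
    ∃ z₀ ∈ S R A G p 0, dFun R A (z₀ : ExteriorAlgebra A (Ω[A⁄R])) = 0 ∧
      ∃ w : ExteriorAlgebra A (Ω[A⁄R]), (p = 0 → w = 0) ∧
        (∀ q, p = q + 1 → w ∈ ⋀[A]^q (Ω[A⁄R])) ∧
        (y : ExteriorAlgebra A (Ω[A⁄R])) - (z₀ : ExteriorAlgebra A (Ω[A⁄R])) = dFun R A w := by
  classical
  obtain ⟨F, z, hzS, hzF, hyz⟩ := exists_finset_decomp (S R A G p) y (mem_iSup_S R A hA p y)
  have hyz' : y = ∑ N ∈ insert 0 F, z N := by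
    by_cases h0 : (0 : ℤ) ∈ F
    · rw [Finset.insert_eq_of_mem h0]; exact hyz
    · rw [Finset.sum_insert h0, hzF 0 h0, zero_add]; exact hyz
  obtain ⟨hcl, w, hw0, hwq, hwsum⟩ := engine R A E hQ p (insert 0 F)
    (fun N => ((z N : ↥(⋀[A]^p (Ω[A⁄R]))) : ExteriorAlgebra A (Ω[A⁄R])))
    (fun N _ => (z N).2) (fun N _ => S_eigen R A E hG p N (z N) (hzS N)) (by
      have h1 : (∑ N ∈ insert 0 F, ((z N : ↥(⋀[A]^p (Ω[A⁄R]))) :
          ExteriorAlgebra A (Ω[A⁄R]))) = ((y : ↥(⋀[A]^p (Ω[A⁄R]))) :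
          ExteriorAlgebra A (Ω[A⁄R])) := by
        rw [hyz', Submodule.coe_sum]
      rw [h1, hy])
  refine ⟨z 0, hzS 0, hcl 0 (Finset.mem_insert_self 0 F), w, hw0, hwq, ?_⟩
  rw [← hwsum, hyz', Finset.sum_erase_eq_sub (Finset.mem_insert_self 0 F), Submodule.coe_sum]

end Groth.Agent.Lib.H2DeRhamWeight
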