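import Mathlib
import Groth.Prelude.Def_W4c5flasquetoriphsGLat

/-!
# Permutation lattices (helper2)

`perm G ι` is the permutation representation of `G` on `ι →₀ ℤ`; it is a permutation module in the
sense of `GLat.IsPermutation` and, for finite `G` and `ι`, has vanishing `H¹` on every subgroup
(`h1_perm`), i.e. it is coflasque.
-/

namespace Groth.Agent.Lib.H2GLat

variable (G : Type*) [Group G] (ι : Type*) [MulAction G ι]

/-- permutation representation on `ι →₀ ℤ` -/
noncomputable def perm : Representation ℤ G (ι →₀ ℤ) where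
  toFun g := Finsupp.lmapDomain ℤ ℤ (g • ·)
  map_one' := by ext; simp
  map_mul' x y := by ext; simp [mul_smul]

variable {G ι}

@[simp] lemma perm_single (g : G) (x : ι) (r : ℤ) :
    perm G ι g (Finsupp.single x r) = Finsupp.single (g • x) r := by
  simp [perm]

lemma perm_apply (g : G) (f : ι →₀ ℤ) (x : ι) : perm G ι g f x = f (g⁻¹ • x) := by
  have hx : x = g • (g⁻¹ • x) := (smul_inv_smul g x).symm
  conv_lhs => rw [hx]
  exact Finsupp.mapDomain_apply (MulAction.injective g) f _

lemma isPermutation_perm {G : Type*} [Group G] {ι : Type} [MulAction G ι] :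
    GLat.IsPermutation (perm G ι) :=
  ⟨ι, Finsupp.basisSingleOne, fun g i => ⟨g • i, by simp [Finsupp.basisSingleOne]⟩⟩

/-- `H¹(K, ℤ[ι]) = 0` for a finite group acting on a finite set. -/
theorem h1_perm [Finite G] [Finite ι] (K : Subgroup G) (f : K → (ι →₀ ℤ))
    (hf : ∀ a b : K, f (a * b) = f a + perm G ι (a : G) (f b)) :
    ∃ m : ι →₀ ℤ, ∀ a : K, f a = perm G ι (a : G) m - m := by
  classical
  have hf1 : f 1 = 0 := by
    have := hf 1 1
    simp only [mul_one, OneMemClass.coe_one, map_one, Module.End.one_apply] at this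
    simpa using this
  -- evaluation form of the cocycle identity
  have hev : ∀ (a b : K) (x : ι), f (a * b) x = f a x + f b ((a : G)⁻¹ • x) := by
    intro a b x
    rw [hf, Finsupp.add_apply, perm_apply]
  -- stabiliser elements evaluate to zero
  have hstab : ∀ (s : K) (x0 : ι), (s : G) • x0 = x0 → f s x0 = 0 := by
    intro s x0 hs
    have hs' : (s : G)⁻¹ • x0 = x0 := by
      rw [inv_smul_eq_iff]; exact hs.symm
    have hpow : ∀ n : ℕ, f (s ^ n) x0 = n * f s x0 := by
      intro n
      induction n with
      | zero => simp [hf1]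
      | succ n ih =>
        rw [pow_succ', hev, hs', ih]; push_cast; ring
    have hN := hpow (orderOf s)
    rw [pow_orderOf_eq_one, hf1] at hN
    have hpos : (orderOf s : ℤ) ≠ 0 := by
      have := orderOf_pos s
      exact_mod_cast this.ne'
    rcases mul_eq_zero.mp hN.symm with h | h
    · exact absurd h hpos
    · exact h
  -- two elements with the same effect on `x0` have the same value at the image
  have hsame : ∀ (b b' : K) (x0 : ι), (b : G) • x0 = (b' : G) • x0 →
      f b ((b : G) • x0) = f b' ((b : G) • x0) := by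
    intro b b' x0 h
    have hs : ((b⁻¹ * b' : K) : G) • x0 = x0 := by
      simp only [Subgroup.coe_mul, InvMemClass.coe_inv, mul_smul, ← h, inv_smul_smul]
    have h1 : b' = b * (b⁻¹ * b') := by group
    rw [h1, hev, inv_smul_smul, hstab _ _ hs, add_zero]
  -- orbit representatives
  let rep : ι → ι := fun x => Quotient.out (Quotient.mk (MulAction.orbitRel K ι) x)
  have hrep : ∀ x, ∃ c : K, (c : G) • rep x = x := by
    intro x
    have h : (MulAction.orbitRel K ι) (rep x) x := Quotient.exact (Quotient.out_eq _)
    rw [MulAction.orbitRel_apply] at h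
    obtain ⟨k, hk⟩ := h
    refine ⟨k⁻¹, ?_⟩
    rw [← hk]
    simp [Subgroup.smul_def]
  have hrep_smul : ∀ (a : K) (x : ι), rep ((a : G) • x) = rep x := by
    intro a x
    simp only [rep]
    congr 1
    apply Quotient.sound
    show (MulAction.orbitRel K ι) ((a : G) • x) x
    rw [MulAction.orbitRel_apply]
    exact ⟨a, rfl⟩
  choose c hc using hrep
  refine ⟨Finsupp.equivFunOnFinite.symm (fun x => - f (c x) x), fun a => ?_⟩
  ext x
  rw [Finsupp.sub_apply, perm_apply]
  simp only [Finsupp.equivFunOnFinite_symm_apply_apply]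
  set y := (a : G)⁻¹ • x with hy
  have hrepy : rep y = rep x := by
    have := hrep_smul a⁻¹ x
    simpa [hy] using this
  -- b := a * c y sends rep x to x
  have hb : ((a * c y : K) : G) • rep x = x := by
    rw [Subgroup.coe_mul, mul_smul, ← hrepy, hc y, hy, smul_inv_smul]
  have h2 := hsame (a * c y) (c x) (rep x) (by rw [hb, hc x])
  rw [hb] at h2
  rw [hev] at h2
  -- h2 : f a x + f (c y) (a⁻¹ • x) = f (c x) x
  linarith

end Groth.Agent.Lib.H2GLat
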