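import Mathlib
import Groth.Prelude.Def_W4c5flasquetoriphsGLat
import Groth.Agent.Lib.H2GLat

/-!
# Flasque / coflasque lattices: basic tools (helper2)

* `inv ρ K`, `aug ρ K`, `nrm ρ K`: invariants, augmentation submodule, norm of a subgroup.
* `isFlasque_of` / `IsFlasque.mem_aug'`: the `finsum` in `GLat.IsFlasque` as a `Finset` sum.
* `flasque_perm`, `coflasque_perm`: permutation lattices are flasque and coflasque.
* `coflasque_of_exact`, `flasque_of_exact`: middle terms of exact sequences.
-/

namespace Groth.Agent.Lib.H2GLat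

open GLat

section basic
variable {G : Type*} [Group G] {A : Type*} [AddCommGroup A] (ρ : Representation ℤ G A)

/-- invariants of a subgroup -/
def inv (H : Subgroup G) : Submodule ℤ A where
  carrier := {a | ∀ h : H, ρ (h : G) a = a}
  add_mem' := fun {a b} ha hb h => by rw [map_add, ha h, hb h]
  zero_mem' := fun h => map_zero _
  smul_mem' := fun c a ha h => by rw [map_smul, ha h]

lemma mem_inv {H : Subgroup G} {a : A} : a ∈ inv ρ H ↔ ∀ h : H, ρ (h : G) a = a := Iff.rfl

/-- augmentation submodule -/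
def aug (H : Subgroup G) : Submodule ℤ A :=
  Submodule.span ℤ {x : A | ∃ (h : H) (y : A), x = ρ (h : G) y - y}

/-- norm of a finite subgroup -/
noncomputable def nrm (H : Subgroup G) [Fintype H] : A →ₗ[ℤ] A := ∑ h : H, ρ (h : G)

lemma nrm_apply (H : Subgroup G) [Fintype H] (a : A) : nrm ρ H a = ∑ h : H, ρ (h : G) a := by
  simp [nrm, LinearMap.sum_apply]

lemma rho_nrm (H : Subgroup G) [Fintype H] (k : H) (a : A) : ρ (k : G) (nrm ρ H a) = nrm ρ H a := by
  rw [nrm_apply, map_sum]
  refine Fintype.sum_equiv (Equiv.mulLeft k) _ _ (fun h => ?_)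
  simp [← Module.End.mul_apply, ← map_mul]

lemma nrm_rho (H : Subgroup G) [Fintype H] (k : H) (a : A) : nrm ρ H (ρ (k : G) a) = nrm ρ H a := by
  rw [nrm_apply, nrm_apply]
  refine Fintype.sum_equiv (Equiv.mulRight k) _ _ (fun h => ?_)
  simp [← Module.End.mul_apply, ← map_mul]

lemma nrm_of_mem_inv (H : Subgroup G) [Fintype H] {a : A} (ha : a ∈ inv ρ H) :
    nrm ρ H a = (Fintype.card H : ℤ) • a := by
  rw [nrm_apply]
  simp only [ha _, Finset.sum_const, Finset.card_univ]
  rw [natCast_zsmul]

lemma nrm_aug (H : Subgroup G) [Fintype H] {x : A} (hx : x ∈ aug ρ H) : nrm ρ H x = 0 := by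
  refine Submodule.span_induction ?_ ?_ ?_ ?_ hx
  · rintro _ ⟨h, y, rfl⟩
    rw [map_sub, nrm_rho, sub_self]
  · exact map_zero _
  · intro x y _ _ hx hy; rw [map_add, hx, hy, add_zero]
  · intro c x _ hx; rw [map_smul, hx, smul_zero]

lemma nrm_sub_card_mem_aug (H : Subgroup G) [Fintype H] (b : A) :
    nrm ρ H b - (Fintype.card H : ℤ) • b ∈ aug ρ H := by
  have : nrm ρ H b - (Fintype.card H : ℤ) • b = ∑ h : H, (ρ (h : G) b - b) := by
    rw [Finset.sum_sub_distrib, nrm_apply, Finset.sum_const, Finset.card_univ, natCast_zsmul]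
  rw [this]
  exact Submodule.sum_mem _ (fun h _ => Submodule.subset_span ⟨h, b, rfl⟩)

lemma isFlasque_of [Finite G]
    (h : ∀ (K : Subgroup G) [Fintype K] (m : A), nrm ρ K m = 0 → m ∈ aug ρ K) :
    IsFlasque ρ := by
  intro K m hm
  have : Fintype K := Fintype.ofFinite K
  rw [finsum_eq_sum_of_fintype] at hm
  exact h K m (by rw [nrm_apply]; exact hm)

lemma flasque_mem_aug {ρ : Representation ℤ G A} (hρ : IsFlasque ρ) (K : Subgroup G) [Fintype K]
    {m : A} (hm : nrm ρ K m = 0) : m ∈ aug ρ K := by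
  apply hρ K m
  rw [finsum_eq_sum_of_fintype, ← nrm_apply]
  exact hm

end basic

section perm
variable {G : Type*} [Group G] {ι : Type*} [MulAction G ι]

lemma coflasque_perm [Finite G] [Finite ι] : IsCoflasque (perm G ι) :=
  fun K f hf => h1_perm K f hf

theorem flasque_perm [Finite G] [Finite ι] : IsFlasque (perm G ι) := by
  classical
  apply isFlasque_of
  intro K _ p hp
  -- orbit representatives
  let rep : ι → ι := fun x => Quotient.out (Quotient.mk (MulAction.orbitRel K ι) x)
  have hrep : ∀ x, ∃ c : K, (c : G) • rep x = x := by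
    intro x
    have h : (MulAction.orbitRel K ι) (rep x) x := Quotient.exact (Quotient.out_eq _)
    rw [MulAction.orbitRel_apply] at h
    obtain ⟨k, hk⟩ := h
    refine ⟨k⁻¹, ?_⟩
    rw [← hk]
    simp [Subgroup.smul_def]
  have hrep_smul : ∀ (a : K) (x : ι), rep ((a : G) • x) = rep x := by
    intro a x
    simp only [rep]
    congr 1
    apply Quotient.sound
    show (MulAction.orbitRel K ι) ((a : G) • x) x
    rw [MulAction.orbitRel_apply]
    exact ⟨a, rfl⟩
  let R : (ι →₀ ℤ) →ₗ[ℤ] (ι →₀ ℤ) := Finsupp.lmapDomain ℤ ℤ rep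
  have hR_single : ∀ x r, R (Finsupp.single x r) = Finsupp.single (rep x) r := by
    intro x r; simp [R]
  have hRτ : ∀ (k : K) (q : ι →₀ ℤ), R (perm G ι (k : G) q) = R q := by
    intro k q
    induction q using Finsupp.induction_linear with
    | zero => simp
    | add a b ha hb => rw [map_add, map_add, map_add, ha, hb]
    | single x r => rw [perm_single, hR_single, hR_single, hrep_smul]
  have hsub : ∀ q : ι →₀ ℤ, q - R q ∈ aug (perm G ι) K := by
    intro q
    induction q using Finsupp.induction_linear with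
    | zero => simp
    | add a b ha hb =>
      have : a + b - R (a + b) = (a - R a) + (b - R b) := by rw [map_add]; abel
      rw [this]; exact Submodule.add_mem _ ha hb
    | single x r =>
      obtain ⟨c, hc⟩ := hrep x
      refine Submodule.subset_span ⟨c, Finsupp.single (rep x) r, ?_⟩
      rw [perm_single, hc, hR_single]
  have hRp : R p = 0 := by
    have h1 : R (nrm (perm G ι) K p) = (Fintype.card K : ℤ) • R p := by
      rw [nrm_apply, map_sum]
      simp only [hRτ, Finset.sum_const, Finset.card_univ]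
      rw [natCast_zsmul]
    rw [hp, map_zero] at h1
    have hcard : (Fintype.card K : ℤ) ≠ 0 := by
      have : 0 < Fintype.card K := Fintype.card_pos
      exact_mod_cast this.ne'
    exact (smul_eq_zero.mp h1.symm).resolve_left hcard
  have := hsub p
  rwa [hRp, sub_zero] at this

end perm

section exact
variable {G : Type*} [Group G] {M' M M'' : Type*} [AddCommGroup M'] [AddCommGroup M]
  [AddCommGroup M''] {ρ' : Representation ℤ G M'} {ρ : Representation ℤ G M}
  {ρ'' : Representation ℤ G M''} {i : M' →ₗ[ℤ] M} {π : M →ₗ[ℤ] M''}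

lemma equiv_nrm (hπ : IsEquivariant ρ ρ'' π) (K : Subgroup G) [Fintype K] (x : M) :
    π (nrm ρ K x) = nrm ρ'' K (π x) := by
  rw [nrm_apply, nrm_apply, map_sum]
  exact Finset.sum_congr rfl (fun k _ => hπ _ _)

lemma equiv_map_aug (hπ : IsEquivariant ρ ρ'' π) (K : Subgroup G) :
    Submodule.map π (aug ρ K) ≤ aug ρ'' K := by
  rw [aug, Submodule.map_span, Submodule.span_le]
  rintro _ ⟨_, ⟨h, y, rfl⟩, rfl⟩
  exact Submodule.subset_span ⟨h, π y, by rw [map_sub, hπ]⟩

lemma equiv_aug_le_map (hπ : IsEquivariant ρ ρ'' π) (hsurj : Function.Surjective π)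
    (K : Subgroup G) : aug ρ'' K ≤ Submodule.map π (aug ρ K) := by
  rw [aug, Submodule.span_le]
  rintro _ ⟨h, y, rfl⟩
  obtain ⟨z, rfl⟩ := hsurj y
  exact ⟨ρ (h : G) z - z, Submodule.subset_span ⟨h, z, rfl⟩, by rw [map_sub, hπ]⟩

theorem coflasque_of_exact (hi : IsEquivariant ρ' ρ i) (hπ : IsEquivariant ρ ρ'' π)
    (hinj : Function.Injective i) (hsurj : Function.Surjective π)
    (hex : LinearMap.range i = LinearMap.ker π)
    (h' : IsCoflasque ρ') (h'' : IsCoflasque ρ'') : IsCoflasque ρ := by
  intro K f hf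
  obtain ⟨m'', hm''⟩ := h'' K (fun a => π (f a)) (by
    intro a b; rw [hf, map_add, hπ])
  obtain ⟨m, rfl⟩ := hsurj m''
  -- corrected cocycle lands in the kernel
  have hker : ∀ a : K, f a - (ρ (a : G) m - m) ∈ LinearMap.range i := by
    intro a
    rw [hex, LinearMap.mem_ker, map_sub, map_sub, hπ, ← hm'' a, sub_self]
  choose f' hf' using hker
  obtain ⟨m', hm'⟩ := h' K f' (by
    intro a b
    apply hinj
    rw [map_add, hi, hf', hf', hf', hf, map_sub, map_sub, Subgroup.coe_mul, map_mul,
      Module.End.mul_apply]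
    abel)
  refine ⟨m + i m', fun a => ?_⟩
  have := hf' a
  rw [hm' a, map_sub, hi] at this
  rw [map_add]
  have h2 : f a = (ρ (a : G) (i m') - i m') + (ρ (a : G) m - m) := by
    rw [this]; abel
  rw [h2]; abel

theorem flasque_of_exact [Finite G] (hi : IsEquivariant ρ' ρ i) (hπ : IsEquivariant ρ ρ'' π)
    (hinj : Function.Injective i) (hsurj : Function.Surjective π)
    (hex : LinearMap.range i = LinearMap.ker π)
    (h' : IsFlasque ρ') (h'' : IsFlasque ρ'') : IsFlasque ρ := by
  apply isFlasque_of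
  intro K _ x hx
  have h1 : nrm ρ'' K (π x) = 0 := by rw [← equiv_nrm hπ, hx, map_zero]
  obtain ⟨y, hy, hyx⟩ := equiv_aug_le_map hπ hsurj K (flasque_mem_aug h'' K h1)
  have h2 : x - y ∈ LinearMap.range i := by
    rw [hex, LinearMap.mem_ker, map_sub, hyx, sub_self]
  obtain ⟨p, hp⟩ := h2
  have h3 : nrm ρ' K p = 0 := by
    apply hinj
    rw [equiv_nrm hi, hp, map_sub, hx, nrm_aug ρ K hy, sub_self, map_zero]
  have h4 : i p ∈ aug ρ K := equiv_map_aug hi K ⟨p, flasque_mem_aug h' K h3, rfl⟩
  have : x = y + i p := by rw [hp]; abel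
  rw [this]
  exact Submodule.add_mem _ hy h4

end exact

end Groth.Agent.Lib.H2GLat
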