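import Mathlib
import Groth.Prelude.Def_W4c5flasquetoriphsGLat
import Groth.Agent.Lib.H2GLat2

/-!
# Permutation lattices are flasque and coflasque (helper2)

Transport of (co)flasqueness along equivariant isomorphisms, and the abstract
`GLat.IsPermutation` is the concrete `perm G ι`.
-/

namespace Groth.Agent.Lib.H2GLat

open GLat

section
variable {G : Type*} [Group G] {P P' : Type*} [AddCommGroup P] [AddCommGroup P']
  {σ : Representation ℤ G P} {σ' : Representation ℤ G P'}

lemma equiv_symm (e : P ≃ₗ[ℤ] P') (he : IsEquivariant σ σ' e.toLinearMap) :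
    IsEquivariant σ' σ e.symm.toLinearMap := by
  intro g p'
  apply e.injective
  have := he g (e.symm p')
  simp only [LinearEquiv.coe_coe, LinearEquiv.apply_symm_apply] at this ⊢
  exact this.symm

theorem coflasque_of_equiv (e : P ≃ₗ[ℤ] P') (he : IsEquivariant σ σ' e.toLinearMap)
    (h : IsCoflasque σ') : IsCoflasque σ := by
  intro K f hf
  obtain ⟨m', hm'⟩ := h K (fun a => e (f a)) (by
    intro a b
    rw [hf, map_add]
    congr 1
    exact he _ _)
  refine ⟨e.symm m', fun a => ?_⟩
  apply e.injective
  rw [hm' a, map_sub, LinearEquiv.apply_symm_apply]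
  congr 1
  have := he (a : G) (e.symm m')
  simp only [LinearEquiv.coe_coe, LinearEquiv.apply_symm_apply] at this
  exact this.symm

theorem flasque_of_equiv [Finite G] (e : P ≃ₗ[ℤ] P') (he : IsEquivariant σ σ' e.toLinearMap)
    (h : IsFlasque σ') : IsFlasque σ := by
  apply isFlasque_of
  intro K _ m hm
  have h1 : nrm σ' K (e m) = 0 := by
    have := equiv_nrm he K m
    simp only [LinearEquiv.coe_coe] at this
    rw [← this, hm, map_zero]
  have h2 := flasque_mem_aug h K h1
  have h3 := equiv_map_aug (equiv_symm e he) K ⟨_, h2, rfl⟩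
  simpa using h3

end

section
variable {G : Type} [Group G] {P : Type} [AddCommGroup P] {σ : Representation ℤ G P}

theorem exists_perm_iso (h : IsPermutation σ) :
    ∃ (ι : Type) (_ : MulAction G ι) (e : P ≃ₗ[ℤ] (ι →₀ ℤ)),
      IsEquivariant σ (perm G ι) e.toLinearMap := by
  obtain ⟨ι, b, hb⟩ := h
  choose act hact using hb
  let inst : MulAction G ι :=
    { smul := act
      one_smul := fun i => by
        apply b.injective
        show b (act 1 i) = b i
        rw [← hact, map_one, Module.End.one_apply]
      mul_smul := fun g h i => by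
        apply b.injective
        show b (act (g * h) i) = b (act g (act h i))
        rw [← hact, ← hact, ← hact, map_mul, Module.End.mul_apply] }
  refine ⟨ι, inst, b.repr, fun g p => ?_⟩
  have : b.repr.toLinearMap ∘ₗ (σ g) = (perm G ι g) ∘ₗ b.repr.toLinearMap := by
    apply b.ext
    intro i
    simp only [LinearMap.comp_apply, LinearEquiv.coe_coe, Module.Basis.repr_self]
    rw [perm_single, hact, Module.Basis.repr_self]
    rfl
  exact LinearMap.congr_fun this p

theorem coflasque_of_isPermutation [Finite G] [Module.Finite ℤ P] (h : IsPermutation σ) :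
    IsCoflasque σ := by
  obtain ⟨ι, inst, e, he⟩ := exists_perm_iso h
  have : Finite ι := Module.Finite.finite_basis (Finsupp.basisSingleOne.map e.symm)
  exact coflasque_of_equiv e he coflasque_perm

theorem flasque_of_isPermutation [Finite G] [Module.Finite ℤ P] (h : IsPermutation σ) :
    IsFlasque σ := by
  obtain ⟨ι, inst, e, he⟩ := exists_perm_iso h
  have : Finite ι := Module.Finite.finite_basis (Finsupp.basisSingleOne.map e.symm)
  exact flasque_of_equiv e he flasque_perm

end

section
variable {M' M M'' : Type*} [AddCommGroup M'] [AddCommGroup M] [AddCommGroup M'']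
  {i : M' →ₗ[ℤ] M} {π : M →ₗ[ℤ] M''}

theorem torsionFree_of_exact [Module.IsTorsionFree ℤ M'] [Module.IsTorsionFree ℤ M'']
    (hinj : Function.Injective i)
    (hex : LinearMap.range i = LinearMap.ker π) : Module.IsTorsionFree ℤ M := by
  apply Module.IsTorsionFree.of_smul_eq_zero
  intro n x hx
  by_cases hn : n = 0
  · exact Or.inl hn
  right
  have h1 : π x = 0 := by
    have : n • π x = 0 := by rw [← map_smul, hx, map_zero]
    exact (smul_eq_zero.mp this).resolve_left hn
  have h2 : x ∈ LinearMap.range i := by rw [hex]; exact h1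
  obtain ⟨p, rfl⟩ := h2
  have h3 : i (n • p) = i 0 := by rw [map_smul, hx, map_zero]
  have h4 : n • p = 0 := hinj h3
  rw [(smul_eq_zero.mp h4).resolve_left hn, map_zero]

end

end Groth.Agent.Lib.H2GLat
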