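import Mathlib.RingTheory.Artinian.Module

/-! Melkersson's lemma: if `x` acts locally nilpotently on `N` and `0 :_N x` is Artinian, then `N`
is Artinian. -/

set_option autoImplicit false

namespace Groth.Agent.Lib.H2Melkersson

variable {R : Type*} [CommRing R] {N : Type*} [AddCommGroup N] [Module R N]

/-- minimal elements among submodules below an Artinian submodule -/
lemma exists_minimal_of_le (K : Submodule R N) [IsArtinian R K] (S : Set (Submodule R N))
    (hS : S.Nonempty) (hle : ∀ L ∈ S, L ≤ K) : ∃ L ∈ S, ∀ L' ∈ S, L' ≤ L → L' = L := by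
  obtain ⟨M', ⟨L₀, hL₀, rfl⟩, hmin⟩ := IsArtinian.set_has_minimal (R := R) (M := K)
    ((fun L => Submodule.comap K.subtype L) '' S) (hS.image _)
  refine ⟨L₀, hL₀, fun L' hL' hle' => ?_⟩
  have h1 : Submodule.comap K.subtype L' ≤ Submodule.comap K.subtype L₀ :=
    Submodule.comap_mono hle'
  have h2 : Submodule.comap K.subtype L' = Submodule.comap K.subtype L₀ := by
    by_contra hne
    exact hmin _ ⟨L', hL', rfl⟩ (lt_of_le_of_ne h1 hne)
  have h3 := congrArg (Submodule.map K.subtype) h2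
  rw [Submodule.map_comap_subtype, Submodule.map_comap_subtype,
    inf_eq_right.mpr (hle L' hL'), inf_eq_right.mpr (hle L₀ hL₀)] at h3
  exact h3

/-- antitone chains below an Artinian submodule stabilize -/
lemma chain_stabilizes_of_le (K : Submodule R N) [IsArtinian R K] (C : ℕ → Submodule R N)
    (hC : Antitone C) (hle : ∀ i, C i ≤ K) : ∃ i₁, ∀ i, i₁ ≤ i → C i = C i₁ := by
  obtain ⟨L, ⟨i₁, rfl⟩, hmin⟩ := exists_minimal_of_le K (Set.range C) ⟨C 0, 0, rfl⟩
    (by rintro L ⟨i, rfl⟩; exact hle i)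
  exact ⟨i₁, fun i hi => hmin _ ⟨i, rfl⟩ (hC hi)⟩

variable (x : R)

/-- `K x n = 0 :_N x^n` -/
def K (N : Type*) [AddCommGroup N] [Module R N] (n : ℕ) : Submodule R N :=
  LinearMap.ker (LinearMap.lsmul R N (x ^ n))

lemma mem_K {n : ℕ} {y : N} : y ∈ K x N n ↔ x ^ n • y = 0 := by
  rw [K, LinearMap.mem_ker, LinearMap.lsmul_apply]

lemma K_mono : Monotone (K x N) := by
  apply monotone_nat_of_le_succ
  intro n y hy
  rw [mem_K] at hy ⊢
  rw [pow_succ', mul_smul, hy, smul_zero]

lemma smul_mem_K {n : ℕ} {y : N} (hy : y ∈ K x N (n + 1)) : x • y ∈ K x N n := by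
  rw [mem_K] at hy ⊢
  rw [← mul_smul, ← pow_succ, hy]

lemma isArtinian_K (h1 : IsArtinian R (K x N 1)) : ∀ n, IsArtinian R (K x N n)
  | 0 => isArtinian_of_le (K_mono x (Nat.zero_le 1))
  | 1 => h1
  | (n + 2) => by
    have ih := isArtinian_K h1 (n + 1)
    let f : K x N 1 →ₗ[R] K x N (n + 2) := Submodule.inclusion (K_mono x (by omega))
    let g : K x N (n + 2) →ₗ[R] K x N (n + 1) :=
      (LinearMap.lsmul R N x).restrict (fun y hy => smul_mem_K x hy)
    refine isArtinian_of_range_eq_ker f g ?_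
    ext y
    constructor
    · rintro ⟨z, rfl⟩
      rw [LinearMap.mem_ker]
      apply Subtype.ext
      have hz := z.2
      rw [mem_K, pow_one] at hz
      simpa [f, g] using hz
    · intro hy
      rw [LinearMap.mem_ker] at hy
      have hy' : x • (y : N) = 0 := by
        have := congrArg Subtype.val hy
        simpa [g] using this
      refine ⟨⟨y, by rw [mem_K, pow_one]; exact hy'⟩, ?_⟩
      apply Subtype.ext
      rfl


/-- **Melkersson's lemma.** -/
theorem isArtinian_of_locallyNilpotent (htors : ∀ y : N, ∃ n, x ^ n • y = 0)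
    (h1 : IsArtinian R (K x N 1)) : IsArtinian R N := by
  rw [← monotone_stabilizes_iff_artinian]
  intro F
  let C : ℕ → Submodule R N := fun i => OrderDual.ofDual (F i)
  have hC : Antitone C := fun i j hij => F.monotone hij
  let L : ℕ → ℕ → Submodule R N := fun i n =>
    Submodule.map (LinearMap.lsmul R N (x ^ n)) (C i ⊓ K x N (n + 1))
  have hLK : ∀ i n, L i n ≤ K x N 1 := by
    rintro i n _ ⟨y, hy, rfl⟩
    rw [mem_K, pow_one, LinearMap.lsmul_apply, ← mul_smul, ← pow_succ']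
    exact (mem_K x).mp hy.2
  have hLi : ∀ n i j, i ≤ j → L j n ≤ L i n := fun n i j hij =>
    Submodule.map_mono (inf_le_inf_right _ (hC hij))
  have hLn : ∀ i n, L i (n + 1) ≤ L i n := by
    rintro i n _ ⟨y, hy, rfl⟩
    refine ⟨x • y, ⟨(C i).smul_mem x hy.1, smul_mem_K x hy.2⟩, ?_⟩
    rw [LinearMap.lsmul_apply, LinearMap.lsmul_apply, pow_succ, mul_smul]
  have hLn' : ∀ i n m, n ≤ m → L i m ≤ L i n := fun i n m hnm =>
    antitone_nat_of_succ_le (hLn i) hnm
  haveI := h1
  obtain ⟨L₀, ⟨⟨i₀, n₀⟩, rfl⟩, hmin⟩ := exists_minimal_of_le (K x N 1)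
    (Set.range (fun p : ℕ × ℕ => L p.1 p.2)) ⟨_, ⟨(0, 0), rfl⟩⟩
    (by rintro _ ⟨p, rfl⟩; exact hLK _ _)
  have hLeq : ∀ i n, i₀ ≤ i → n₀ ≤ n → L i n = L i₀ n₀ := fun i n hi hn =>
    hmin _ ⟨(i, n), rfl⟩ ((hLi n i₀ i hi).trans (hLn' i₀ n₀ n hn))
  have stepC : ∀ i n, i₀ ≤ i → n₀ ≤ n →
      C i ⊓ K x N (n + 1) ≤ (C (i + 1) ⊓ K x N (n + 1)) ⊔ (C i ⊓ K x N n) := by
    intro i n hi hn y hy
    have h1 : x ^ n • y ∈ L i n := ⟨y, hy, rfl⟩
    rw [hLeq i n hi hn, ← hLeq (i + 1) n (by omega) hn] at h1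
    obtain ⟨y', hy', hyy'⟩ := h1
    have : y = y' + (y - y') := by abel
    rw [this]
    refine Submodule.add_mem_sup hy' ⟨sub_mem hy.1 (hC (Nat.le_succ i) hy'.1), ?_⟩
    show y - y' ∈ K x N n
    rw [mem_K, smul_sub, sub_eq_zero]
    exact hyy'.symm
  have stepD : ∀ i, i₀ ≤ i → ∀ n, C i ⊓ K x N (n₀ + n) ≤ C (i + 1) ⊔ (C i ⊓ K x N n₀) := by
    intro i hi n
    induction n with
    | zero => exact le_sup_right
    | succ n ih =>
      refine (stepC i (n₀ + n) hi (by omega)).trans ?_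
      exact sup_le (inf_le_left.trans le_sup_left) ih
  have stepD' : ∀ i, i₀ ≤ i → C i ≤ C (i + 1) ⊔ (C i ⊓ K x N n₀) := by
    intro i hi y hy
    obtain ⟨n, hn⟩ := htors y
    exact stepD i hi n ⟨hy, K_mono x (by omega : n ≤ n₀ + n) ((mem_K x).mpr hn)⟩
  haveI := isArtinian_K x h1 n₀
  obtain ⟨i₁, hi₁⟩ := chain_stabilizes_of_le (K x N n₀) (fun i => C i ⊓ K x N n₀)
    (fun i j hij => inf_le_inf_right _ (hC hij)) (fun i => inf_le_right)
  have hstab : ∀ i, max i₀ i₁ ≤ i → C (i + 1) = C i := by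
    intro i hi
    apply le_antisymm (hC (Nat.le_succ i))
    refine (stepD' i (le_trans (le_max_left _ _) hi)).trans ?_
    have hi1 : i₁ ≤ i := le_trans (le_max_right _ _) hi
    have e1 : C i ⊓ K x N n₀ = C i₁ ⊓ K x N n₀ := hi₁ i hi1
    have e2 : C (i + 1) ⊓ K x N n₀ = C i₁ ⊓ K x N n₀ := hi₁ (i + 1) (by omega)
    rw [e1, ← e2]
    exact sup_le le_rfl inf_le_left
  refine ⟨max i₀ i₁, fun m hm => ?_⟩
  induction m, hm using Nat.le_induction with
  | base => rfl
  | succ m hm ih =>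
    rw [ih]
    exact (congrArg OrderDual.toDual (hstab m hm)).symm


/-- Submodule version of Melkersson's lemma. -/
theorem isArtinian_submodule_of_locallyNilpotent (P : Submodule R N)
    (htors : ∀ y ∈ P, ∃ n, x ^ n • y = 0) (h : IsArtinian R ↥(P ⊓ K x N 1)) :
    IsArtinian R P := by
  apply isArtinian_of_locallyNilpotent x
  · intro y
    obtain ⟨n, hn⟩ := htors y.1 y.2
    exact ⟨n, Subtype.ext (by simpa using hn)⟩
  · let φ : K x P 1 →ₗ[R] ↥(P ⊓ K x N 1) :=
      { toFun := fun y => ⟨y.1.1, y.1.2, by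
          have := y.2
          rw [mem_K] at this
          show (y.1.1 : N) ∈ K x N 1
          rw [mem_K]
          have h2 := congrArg Subtype.val this
          simpa using h2⟩
        map_add' := fun y y' => rfl
        map_smul' := fun r y => rfl }
    refine isArtinian_of_injective φ ?_
    intro y y' hyy'
    apply Subtype.ext
    apply Subtype.ext
    exact congrArg (fun z : ↥(P ⊓ K x N 1) => (z : N)) hyy'

/-- Iterated version: finitely many locally nilpotent elements with Artinian common kernel. -/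
theorem isArtinian_of_finset (S : Finset R) (htors : ∀ x ∈ S, ∀ y : N, ∃ n, x ^ n • y = 0)
    (hsoc : IsArtinian R ↥(⨅ x ∈ S, K x N 1)) : IsArtinian R N := by
  classical
  have key : ∀ (T : Finset R), T ⊆ S → ∀ P : Submodule R N,
      IsArtinian R ↥(P ⊓ ⨅ x ∈ T, K x N 1) → IsArtinian R P := by
    intro T
    induction T using Finset.induction_on with
    | empty =>
      intro _ P hP
      have : P ⊓ ⨅ x ∈ (∅ : Finset R), K x N 1 = P := by simp
      rwa [this] at hP
    | insert a T ha ih =>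
      intro hTS P hP
      have haS : a ∈ S := hTS (Finset.mem_insert_self a T)
      have hT : T ⊆ S := fun z hz => hTS (Finset.mem_insert_of_mem hz)
      rw [Finset.iInf_insert, ← inf_assoc] at hP
      have h2 : IsArtinian R ↥(P ⊓ K a N 1) := ih hT _ hP
      exact isArtinian_submodule_of_locallyNilpotent a P (fun y _ => htors a haS y) h2
  have htop : IsArtinian R (⊤ : Submodule R N) := by
    apply key S subset_rfl
    rw [top_inf_eq]
    exact hsoc
  exact isArtinian_of_linearEquiv (Submodule.topEquiv : (⊤ : Submodule R N) ≃ₗ[R] N)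

end Groth.Agent.Lib.H2Melkersson
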