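import Groth.Agent.Lib.H2GrDual
import Groth.Agent.Lib.H2Melkersson
import Mathlib.RingTheory.FiniteType
import Mathlib.RingTheory.Noetherian.Basic
import Mathlib.LinearAlgebra.FiniteDimensional.Basic
import Mathlib.RingTheory.Artinian.Ring

/-! The graded dual of a finitely generated, bounded below graded module over a nonnegatively
graded algebra of finite type over a field is an Artinian module. -/

set_option autoImplicit false
set_option linter.unusedSectionVars false
universe u

namespace Groth.Agent.Lib.H2GrDualArt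
open DirectSum Groth.Agent.Lib.H2GrDual Groth.Agent.Lib.H2Melkersson

section

variable {k : Type u} [Field k] {R : Type u} [CommRing R] [Algebra k R]
  (𝒜 : ℤ → Submodule k R) [GradedAlgebra 𝒜]
  (hposR : ∀ n : ℤ, n < 0 → 𝒜 n = ⊥) (h0R : 𝒜 0 = Submodule.span k {(1 : R)})

/-- the irrelevant ideal -/
def irr : Ideal R := Ideal.span (⋃ n ∈ Set.Ioi (0 : ℤ), (𝒜 n : Set R))

lemma mem_irr_of_pos {i : ℤ} (hi : 0 < i) {r : R} (hr : r ∈ 𝒜 i) : r ∈ irr 𝒜 := by
  apply Ideal.subset_span
  simp only [Set.mem_iUnion]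
  exact ⟨i, hi, hr⟩

include hposR h0R in
/-- `R = k ⊕ R_+` -/
lemma exists_sub_mem_irr (r : R) : ∃ c : k, r - algebraMap k R c ∈ irr 𝒜 := by
  induction r using Decomposition.inductionOn 𝒜 with
  | zero => exact ⟨0, by simp⟩
  | @homogeneous i r =>
    rcases lt_trichotomy i 0 with hi | hi | hi
    · refine ⟨0, ?_⟩
      have : (r : R) = 0 := by
        have h1 : (r : R) ∈ (⊥ : Submodule k R) := hposR i hi ▸ r.2
        simpa using h1
      rw [this]; simp
    · subst hi
      have hr0 : (r : R) ∈ Submodule.span k {(1 : R)} := h0R ▸ r.2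
      obtain ⟨c, hc⟩ := Submodule.mem_span_singleton.mp hr0
      refine ⟨c, ?_⟩
      rw [← hc, Algebra.algebraMap_eq_smul_one, sub_self]
      exact zero_mem _
    · exact ⟨0, by rw [map_zero, sub_zero]; exact mem_irr_of_pos 𝒜 hi r.2⟩
  | add r r' hr hr' =>
    obtain ⟨c, hc⟩ := hr
    obtain ⟨c', hc'⟩ := hr'
    refine ⟨c + c', ?_⟩
    have : r + r' - algebraMap k R (c + c') = (r - algebraMap k R c) + (r' - algebraMap k R c') := by
      rw [map_add]; ring
    rw [this]
    exact add_mem hc hc'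

end


section dual

variable {k : Type u} [Field k] {R : Type u} [CommRing R] [Algebra k R]
  (𝒜 : ℤ → Submodule k R) [GradedAlgebra 𝒜]
  (hposR : ∀ n : ℤ, n < 0 → 𝒜 n = ⊥) (h0R : 𝒜 0 = Submodule.span k {(1 : R)})
  {M : Type u} [AddCommGroup M] [Module R M] [Module k M] [IsScalarTower k R M]
  {τ : Type u} [SetLike τ M] [AddSubgroupClass τ M]
  (ℳ : ℤ → τ) [DirectSum.Decomposition ℳ]
  {D : Type u} [AddCommGroup D] [Module R D] [Module k D] [IsScalarTower k R D]
  (𝒟 : ℤ → AddSubgroup D) [DirectSum.Decomposition 𝒟] [SetLike.GradedSMul 𝒜 𝒟]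
  (β : D →ₗ[k] M →ₗ[k] k) (hD : GrSeg.IsGDual R ℳ 𝒟 β)

include hD in
lemma piece_eq_zero_of_bound {a : ℤ} (ha : ∀ j < a, ∀ x ∈ ℳ j, x = 0) {n : ℤ} (hn : -a < n)
    {d : D} (hd : d ∈ 𝒟 n) : d = 0 := by
  apply hD.eq_zero n d hd
  intro x hx
  rw [ha (-n) (by omega) x hx, map_zero]

include hD in
lemma locally_nilpotent {a : ℤ} (ha : ∀ j < a, ∀ x ∈ ℳ j, x = 0) {e : ℤ} (he : 0 < e) {x : R}
    (hx : x ∈ 𝒜 e) (d : D) : ∃ N : ℕ, x ^ N • d = 0 := by
  have hmono : ∀ (N N' : ℕ) (d : D), N ≤ N' → x ^ N • d = 0 → x ^ N' • d = 0 := by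
    intro N N' d hNN' h
    obtain ⟨t, rfl⟩ := Nat.exists_eq_add_of_le hNN'
    rw [pow_add, mul_comm, mul_smul, h, smul_zero]
  induction d using Decomposition.inductionOn 𝒟 with
  | zero => exact ⟨0, by simp⟩
  | @homogeneous j d =>
    refine ⟨(-a - j + 1).toNat, ?_⟩
    set N := (-a - j + 1).toNat with hN
    have hxN : x ^ N ∈ 𝒜 (N • e) := SetLike.pow_mem_graded N hx
    have hmem : x ^ N • (d : D) ∈ 𝒟 (N • e + j) := smul_mem_add 𝒜 𝒟 hxN d.2
    refine piece_eq_zero_of_bound ℳ 𝒟 β hD ha ?_ hmem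
    have h1 : (N : ℤ) ≤ N • e := by
      rw [nsmul_eq_mul]
      nlinarith [Int.natCast_nonneg N]
    have h2 : -a - j + 1 ≤ (N : ℤ) := Int.self_le_toNat _
    omega
  | add d d' hd hd' =>
    obtain ⟨N, hN⟩ := hd
    obtain ⟨N', hN'⟩ := hd'
    refine ⟨max N N', ?_⟩
    rw [smul_add, hmono N _ d (le_max_left _ _) hN, hmono N' _ d' (le_max_right _ _) hN',
      add_zero]

include hposR h0R in
lemma socle_smul {d : D} (hsoc : ∀ r ∈ irr 𝒜, r • d = 0) (r : R) : ∃ c : k, r • d = c • d := by
  obtain ⟨c, hc⟩ := exists_sub_mem_irr 𝒜 hposR h0R r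
  refine ⟨c, ?_⟩
  have := hsoc _ hc
  rw [sub_smul, sub_eq_zero, algebraMap_smul] at this
  exact this

include hposR h0R hD in
/-- The graded dual of a finite, bounded below graded module is Artinian. -/
theorem isArtinian_dual [Algebra.FiniteType k R] [Module.Finite R M]
    (hbound : ∃ a : ℤ, ∀ j < a, ∀ x ∈ ℳ j, x = 0) : IsArtinian R D := by
  classical
  obtain ⟨a, ha⟩ := hbound
  haveI : IsNoetherianRing R := Algebra.FiniteType.isNoetherianRing k R
  -- finitely many homogeneous generators of the irrelevant ideal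
  have hfg : (irr 𝒜).FG := IsNoetherian.noetherian _
  obtain ⟨S, hSsub, hSspan⟩ := (Submodule.fg_span_iff_fg_span_finset_subset _).mp hfg
  have hSpos : ∀ x ∈ S, ∃ e : ℤ, 0 < e ∧ x ∈ 𝒜 e := by
    intro x hx
    have := hSsub hx
    simp only [Set.mem_iUnion] at this
    obtain ⟨e, he, hxe⟩ := this
    exact ⟨e, he, hxe⟩
  apply isArtinian_of_finset S
  · intro x hx d
    obtain ⟨e, he, hxe⟩ := hSpos x hx
    exact locally_nilpotent 𝒜 ℳ 𝒟 β hD ha he hxe d
  · -- the socle
    set soc : Submodule R D := ⨅ x ∈ S, K x D 1 with hsocdef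
    have hsoc : ∀ d ∈ soc, ∀ r ∈ irr 𝒜, r • d = 0 := by
      intro d hd r hr
      have hr' : r ∈ Submodule.span R (S : Set R) := by
        have : irr 𝒜 = Submodule.span R (S : Set R) := hSspan
        rw [← this]; exact hr
      clear hr
      induction hr' using Submodule.span_induction with
      | mem x hx =>
        have : d ∈ K x D 1 := by
          have := (Submodule.mem_iInf _).mp hd x
          exact (Submodule.mem_iInf _).mp this hx
        rw [mem_K, pow_one] at this
        exact this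
      | zero => simp
      | add p q _ _ hp hq => rw [add_smul, hp, hq, add_zero]
      | smul p q _ hq => rw [smul_eq_mul, mul_smul, hq, smul_zero]
    -- generators of M
    obtain ⟨G, hG⟩ := (Module.Finite.fg_top : (⊤ : Submodule R M).FG)
    let W : Submodule k D := soc.restrictScalars k
    let ψ : W →ₗ[k] (G → k) :=
      { toFun := fun d g => β d.1 g.1
        map_add' := fun d d' => by ext g; simp
        map_smul' := fun c d => by ext g; simp }
    have hψ : Function.Injective ψ := by
      rw [← LinearMap.ker_eq_bot, Submodule.eq_bot_iff]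
      intro d hd
      rw [LinearMap.mem_ker] at hd
      apply Subtype.ext
      apply eq_zero_of_forall_left ℳ 𝒟 β hD
      intro x
      have hx : x ∈ Submodule.span R (G : Set M) := hG ▸ Submodule.mem_top
      induction hx using Submodule.span_induction with
      | mem g hg =>
        have := congrFun hd ⟨g, hg⟩
        exact this
      | zero => simp
      | add p q _ _ hp hq => rw [map_add, hp, hq, add_zero]
      | smul r p _ hp =>
        obtain ⟨c, hc⟩ := socle_smul 𝒜 hposR h0R (hsoc d.1 d.2) r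
        rw [← hD.map_smul, hc, map_smul, LinearMap.smul_apply, hp, smul_zero]
    haveI : Module.Finite k W := Module.Finite.of_injective ψ hψ
    haveI : IsArtinian k W := inferInstance
    haveI : IsArtinian k soc := ‹IsArtinian k W›
    exact isArtinian_of_tower k ‹IsArtinian k soc›

end dual

end Groth.Agent.Lib.H2GrDualArt
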