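import Groth.Agent.Lib.H2GrDual

/-! Shifted version of the representability of graded duals. -/

set_option autoImplicit false
set_option linter.unusedSectionVars false
universe u

namespace Groth.Agent.Lib.H2GrDualShift
open DirectSum Groth.Agent.Lib.H2GrDual

section represent

variable {k : Type u} [Field k] {R : Type u} [CommRing R] [Algebra k R]
  {M : Type u} [AddCommGroup M] [Module R M] [Module k M] [IsScalarTower k R M]
  {τ : Type u} [SetLike τ M] [AddSubgroupClass τ M]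
  (ℳ : ℤ → τ) [DirectSum.Decomposition ℳ]
  {D : Type u} [AddCommGroup D] [Module R D] [Module k D] [IsScalarTower k R D]
  {τ' : Type u} [SetLike τ' D] [AddSubgroupClass τ' D]
  (𝒟 : ℤ → τ') [DirectSum.Decomposition 𝒟]
  (β : D →ₗ[k] M →ₗ[k] k)
  {B : Type u} [AddCommGroup B] [Module R B] [Module k B] [IsScalarTower k R B]
  {σ : Type u} [SetLike σ B] [AddSubgroupClass σ B]
  (ℬ : ℤ → σ) [DirectSum.Decomposition ℬ]
  (Φ : B →ₗ[k] M →ₗ[k] k) (s : ℤ)

lemma exists_rep_hom (hD : GrSeg.IsGDual R ℳ 𝒟 β)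
    (hΦvan : ∀ (n : ℤ) (b : B), b ∈ ℬ n → ∀ m : ℤ, m ≠ -(n + s) → ∀ x : M, x ∈ ℳ m → Φ b x = 0)
    {n : ℤ} {b : B} (hb : b ∈ ℬ n) : ∃ d ∈ 𝒟 (n + s), ∀ x : M, β d x = Φ b x := by
  obtain ⟨d, hd, hdΦ⟩ := hD.exists_eq (n + s) (Φ b)
  refine ⟨d, hd, fun x => ?_⟩
  induction x using Decomposition.inductionOn ℳ with
  | zero => simp
  | @homogeneous m x =>
    by_cases hm : m = -(n + s)
    · subst hm; exact hdΦ x x.2
    · rw [hD.vanish (n + s) d hd m hm x x.2, hΦvan n b hb m hm x x.2]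
  | add x x' hx hx' => rw [map_add, map_add, hx, hx']

lemma exists_rep_all (hD : GrSeg.IsGDual R ℳ 𝒟 β)
    (hΦvan : ∀ (n : ℤ) (b : B), b ∈ ℬ n → ∀ m : ℤ, m ≠ -(n + s) → ∀ x : M, x ∈ ℳ m → Φ b x = 0)
    (b : B) : ∃ d : D, ∀ x : M, β d x = Φ b x := by
  induction b using Decomposition.inductionOn ℬ with
  | zero => exact ⟨0, fun x => by simp⟩
  | @homogeneous i b =>
    obtain ⟨d, -, hd⟩ := exists_rep_hom ℳ 𝒟 β ℬ Φ s hD hΦvan b.2
    exact ⟨d, hd⟩
  | add b b' hb hb' =>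
    obtain ⟨d, hd⟩ := hb
    obtain ⟨d', hd'⟩ := hb'
    exact ⟨d + d', fun x => by rw [map_add, map_add, LinearMap.add_apply, LinearMap.add_apply,
      hd, hd']⟩

/-- **Representability of the graded dual, with a shift**: a pairing `Φ : B × M → k` compatible
with the `R`-actions and pairing `B_n` only with `M_{-(n+s)}` comes from a homomorphism `B → D`
of degree `s`. -/
theorem exists_hom_of_pairing_shift (hD : GrSeg.IsGDual R ℳ 𝒟 β)
    (hΦsmul : ∀ (r : R) (b : B) (x : M), Φ (r • b) x = Φ b (r • x))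
    (hΦvan : ∀ (n : ℤ) (b : B), b ∈ ℬ n → ∀ m : ℤ, m ≠ -(n + s) → ∀ x : M, x ∈ ℳ m → Φ b x = 0) :
    ∃ h : B →ₗ[R] D, (∀ (n : ℤ) (b : B), b ∈ ℬ n → h b ∈ 𝒟 (n + s)) ∧
      ∀ (b : B) (x : M), β (h b) x = Φ b x := by
  have hex := exists_rep_all ℳ 𝒟 β ℬ Φ s hD hΦvan
  choose h₀ hh₀ using hex
  have sep : ∀ d d' : D, (∀ x : M, β d x = β d' x) → d = d' := by
    intro d d' h
    rw [← sub_eq_zero]
    apply eq_zero_of_forall_left ℳ 𝒟 β hD
    intro x
    rw [map_sub, LinearMap.sub_apply, h x, sub_self]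
  let h : B →ₗ[R] D :=
    { toFun := h₀
      map_add' := by
        intro b b'
        apply sep
        intro x
        rw [map_add, LinearMap.add_apply, hh₀, hh₀, hh₀, map_add, LinearMap.add_apply]
      map_smul' := by
        intro r b
        apply sep
        intro x
        rw [RingHom.id_apply, hh₀, hD.map_smul, hh₀, hΦsmul] }
  have hh : ∀ b, h b = h₀ b := fun b => rfl
  refine ⟨h, ?_, fun b x => by rw [hh, hh₀]⟩
  intro n b hb
  obtain ⟨d, hd, hdΦ⟩ := exists_rep_hom ℳ 𝒟 β ℬ Φ s hD hΦvan hb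
  have : h b = d := by
    apply sep
    intro x
    rw [hh, hh₀, hdΦ]
  rw [this]; exact hd

end represent

section graded

variable {R : Type u} [CommRing R]
  {M : Type u} [AddCommGroup M] [Module R M]
  {τ : Type u} [SetLike τ M] [AddSubgroupClass τ M]
  (ℳ : ℤ → τ) [DirectSum.Decomposition ℳ]
  {N : Type u} [AddCommGroup N] [Module R N]
  {τ' : Type u} [SetLike τ' N] [AddSubgroupClass τ' N]
  (𝒩 : ℤ → τ') [DirectSum.Decomposition 𝒩]

/-- maps of degree `s` commute with components -/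
lemma map_decompose_shift (f : M →ₗ[R] N) (s : ℤ)
    (hf : ∀ (n : ℤ) (x : M), x ∈ ℳ n → f x ∈ 𝒩 (n + s)) (x : M) (j : ℤ) :
    f (decompose ℳ x j : M) = (decompose 𝒩 (f x) (j + s) : N) := by
  induction x using Decomposition.inductionOn ℳ with
  | zero => simp
  | @homogeneous i x =>
    by_cases hi : i = j
    · subst hi
      rw [decompose_of_mem_same ℳ x.2, decompose_of_mem_same 𝒩 (hf _ _ x.2)]
    · have hne : i + s ≠ j + s := fun h => hi (add_right_cancel h)
      rw [decompose_of_mem_ne ℳ x.2 hi, decompose_of_mem_ne 𝒩 (hf _ _ x.2) hne, map_zero]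
  | add x x' hx hx' =>
    rw [coe_decompose_add, map_add, hx, hx', map_add, coe_decompose_add]

end graded

end Groth.Agent.Lib.H2GrDualShift
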