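import Mathlib
import Groth.Agent.Lib.TorOne

universe u

namespace Groth.Agent.Lib.H2GrNak


open DirectSum MvPolynomial

variable {k : Type*} [CommRing k] {σ : Type*}
  {M : Type*} [AddCommGroup M] [Module (MvPolynomial σ k) M]
  (ℳ : ℕ → AddSubgroup M)
  [SetLike.GradedSMul (MvPolynomial.homogeneousSubmodule σ k) ℳ]
  [DirectSum.Decomposition ℳ]

omit [Decomposition ℳ] in
theorem smul_mem_add {a : MvPolynomial σ k} {y : M} {i j : ℕ}
    (ha : a ∈ MvPolynomial.homogeneousSubmodule σ k i) (hy : y ∈ ℳ j) :
    a • y ∈ ℳ (i + j) := by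
  have h : a • y ∈ ℳ (i +ᵥ j) := SetLike.GradedSMul.smul_mem ha hy
  simpa [vadd_eq_add] using h

/-- Homogeneous components of `c • y` for homogeneous `y`. -/
theorem coe_decompose_smul_of_mem (c : MvPolynomial σ k) {y : M} {j : ℕ} (hy : y ∈ ℳ j) (N : ℕ) :
    ((decompose ℳ (c • y) N : ℳ N) : M) =
      if j ≤ N then (homogeneousComponent (N - j) c) • y else 0 := by
  classical
  have hterm : ∀ i, ((decompose ℳ ((homogeneousComponent i c) • y) N : ℳ N) : M) =
      if i + j = N then (homogeneousComponent i c) • y else 0 := by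
    intro i
    have hmem : (homogeneousComponent i c) • y ∈ ℳ (i + j) :=
      smul_mem_add ℳ (homogeneousComponent_mem i c) hy
    split_ifs with h
    · subst h; exact DirectSum.decompose_of_mem_same ℳ hmem
    · exact DirectSum.decompose_of_mem_ne ℳ hmem h
  conv_lhs => rw [← MvPolynomial.sum_homogeneousComponent c, Finset.sum_smul,
    DirectSum.decompose_sum, DFinsupp.finsetSum_apply, AddSubmonoidClass.coe_finsetSum]
  simp_rw [hterm]
  split_ifs with hle
  · by_cases hN : N - j ∈ Finset.range (c.totalDegree + 1)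
    · rw [Finset.sum_eq_single_of_mem (N - j) hN]
      · rw [if_pos (Nat.sub_add_cancel hle)]
      · intro i _ hne
        rw [if_neg]; omega
    · rw [Finset.sum_eq_zero]
      · rw [homogeneousComponent_eq_zero, zero_smul]
        simp only [Finset.mem_range, not_lt] at hN
        omega
      · intro i hi
        rw [if_neg]
        intro h
        apply hN
        have : i = N - j := by omega
        rw [← this]; exact hi
  · apply Finset.sum_eq_zero
    intro i _
    rw [if_neg]; omega




section
variable {k : Type*} [CommRing k] {σ : Type*}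
  {M : Type*} [AddCommGroup M] [Module (MvPolynomial σ k) M]
  (ℳ : ℕ → AddSubgroup M)
  [SetLike.GradedSMul (MvPolynomial.homogeneousSubmodule σ k) ℳ]
  [DirectSum.Decomposition ℳ]

omit [SetLike.GradedSMul (MvPolynomial.homogeneousSubmodule σ k) ℳ] in
/-- A finitely generated graded module has a finite family of homogeneous generators. -/
theorem exists_fin_homogeneous_span_eq_top [Module.Finite (MvPolynomial σ k) M] :
    ∃ (s : ℕ) (m : Fin s → M), (∀ i, SetLike.IsHomogeneousElem ℳ (m i)) ∧
      Submodule.span (MvPolynomial σ k) (Set.range m) = ⊤ := by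
  classical
  obtain ⟨F, hF⟩ := (Module.finite_def (R := MvPolynomial σ k) (M := M)).mp inferInstance
  set X : Finset M := F.biUnion (fun f => (decompose ℳ f).support.image
    (fun i => ((decompose ℳ f i : ℳ i) : M))) with hX
  have h1 : Submodule.span (MvPolynomial σ k) (X : Set M) = ⊤ := by
    rw [eq_top_iff, ← hF, Submodule.span_le]
    intro f hf
    rw [← DirectSum.sum_support_decompose ℳ f]
    refine sum_mem (fun i hi => Submodule.subset_span ?_)
    simp only [hX, Finset.coe_biUnion, Finset.coe_image, Set.mem_iUnion, Set.mem_image,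
      Finset.mem_coe]
    exact ⟨f, hf, i, hi, rfl⟩
  have h2 : ∀ y ∈ X, SetLike.IsHomogeneousElem ℳ y := by
    intro y hy
    simp only [hX, Finset.mem_biUnion, Finset.mem_image] at hy
    obtain ⟨f, _, i, _, rfl⟩ := hy
    exact ⟨i, Subtype.prop _⟩
  refine ⟨X.card, fun i => (X.equivFin.symm i : M), fun i => h2 _ (X.equivFin.symm i).2, ?_⟩
  rw [← h1]
  congr 1
  ext y
  constructor
  · rintro ⟨i, rfl⟩; exact (X.equivFin.symm i).2
  · intro hy; exact ⟨X.equivFin ⟨y, hy⟩, by simp⟩

end

section
variable {k : Type*} [Field k] {σ : Type*}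
  {M : Type*} [AddCommGroup M] [Module (MvPolynomial σ k) M]
  (ℳ : ℕ → AddSubgroup M)
  [SetLike.GradedSMul (MvPolynomial.homogeneousSubmodule σ k) ℳ]
  [DirectSum.Decomposition ℳ]

theorem constantCoeff_eq_zero_of_min (s : ℕ) (m : Fin s → M)
    (hm : ∀ i, SetLike.IsHomogeneousElem ℳ (m i))
    (hspan : Submodule.span (MvPolynomial σ k) (Set.range m) = ⊤)
    (hmin : ∀ s' < s, ¬ ∃ m' : Fin s' → M, (∀ i, SetLike.IsHomogeneousElem ℳ (m' i)) ∧
      Submodule.span (MvPolynomial σ k) (Set.range m') = ⊤)
    (x : Fin s → MvPolynomial σ k) (hx : ∑ i, x i • m i = 0) (i0 : Fin s) :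
    constantCoeff (x i0) = 0 := by
  classical
  by_contra hc
  obtain ⟨s', rfl⟩ : ∃ s', s = s' + 1 := ⟨s - 1, by have := i0.2; omega⟩
  apply hmin s' (Nat.lt_succ_self s')
  refine ⟨m ∘ i0.succAbove, fun i => hm _, ?_⟩
  choose e he using hm
  set N' := Submodule.span (MvPolynomial σ k) (Set.range (m ∘ i0.succAbove)) with hN'
  have hj : ∀ j, m (i0.succAbove j) ∈ N' := fun j => Submodule.subset_span ⟨j, rfl⟩
  have key : m i0 ∈ N' := by
    have h0 := congrArg (fun z => ((decompose ℳ z (e i0) : ℳ (e i0)) : M)) hx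
    simp only [DirectSum.decompose_sum,
      DirectSum.decompose_zero, DirectSum.zero_apply, ZeroMemClass.coe_zero] at h0
    rw [DFinsupp.finsetSum_apply, AddSubmonoidClass.coe_finsetSum] at h0
    rw [Fin.sum_univ_succAbove _ i0] at h0
    simp_rw [coe_decompose_smul_of_mem (σ := σ) (k := k) ℳ _ (he _)] at h0
    rw [if_pos le_rfl, Nat.sub_self, homogeneousComponent_zero] at h0
    have h1 : (C (coeff 0 (x i0)) : MvPolynomial σ k) • m i0 ∈ N' := by
      rw [eq_neg_of_add_eq_zero_left h0]
      apply Submodule.neg_mem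
      apply Submodule.sum_mem
      intro j _
      split_ifs
      · exact Submodule.smul_mem _ _ (hj j)
      · exact Submodule.zero_mem _
    have h2 : m i0 = (C (coeff 0 (x i0))⁻¹ : MvPolynomial σ k) • ((C (coeff 0 (x i0)) : MvPolynomial σ k) • m i0) := by
      rw [smul_smul, ← C_mul, inv_mul_cancel₀, C_1, one_smul]
      exact hc
    rw [h2]
    exact Submodule.smul_mem _ _ h1
  rw [eq_top_iff, ← hspan, Submodule.span_le]
  rintro _ ⟨i, rfl⟩
  rcases Fin.eq_self_or_eq_succAbove i0 i with h | ⟨j, h⟩
  · rw [h]; exact key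
  · rw [h]; exact hj j

end


section tor
open CategoryTheory


theorem rTensor_injective_of_tor_zero {R : Type u} [CommRing R] {M F : Type u}
    [AddCommGroup M] [Module R M] [AddCommGroup F] [Module R F] [Module.Flat R F]
    (π : F →ₗ[R] M) (hπ : Function.Surjective π) (N : Type u) [AddCommGroup N] [Module R N]
    (h : Limits.IsZero (((Tor (ModuleCat.{u} R) 1).obj (ModuleCat.of R M)).obj (ModuleCat.of R N))) :
    Function.Injective ((LinearMap.ker π).subtype.rTensor N) := by
  let S : ShortComplex (ModuleCat.{u} R) :=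
    ShortComplex.mk (ModuleCat.ofHom (LinearMap.ker π).subtype) (ModuleCat.ofHom π)
      (by ext x; exact x.2)
  have hex : S.Exact := by
    rw [ShortComplex.ShortExact.moduleCat_exact_iff_function_exact]
    intro y
    constructor
    · intro hy; exact ⟨⟨y, hy⟩, rfl⟩
    · rintro ⟨x, rfl⟩; exact x.2
  have hmono : Mono S.f := by
    rw [ModuleCat.mono_iff_injective]
    exact Subtype.val_injective
  have hepi : Epi S.g := by
    rw [ModuleCat.epi_iff_surjective]
    exact hπ
  have hS : S.ShortExact := ShortComplex.ShortExact.mk hex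
  have : Module.Flat R S.X₂ := inferInstanceAs (Module.Flat R F)
  have e := Groth.Agent.Lib.TorOne.tor1Equiv hS (ModuleCat.of R N)
  rw [← LinearMap.ker_eq_bot]
  rw [eq_bot_iff]
  intro x hx
  have : e.symm ⟨x, hx⟩ = 0 := by
    have := h.eq_of_src (𝟙 _) 0
    have h2 := congrArg (fun f => f.hom (e.symm ⟨x, hx⟩)) this
    simpa using h2
  have h3 : (⟨x, hx⟩ : LinearMap.ker (S.f.hom.rTensor (ModuleCat.of R N))) = 0 := by
    have := congrArg e this
    simpa using this
  exact congrArg Subtype.val h3


end tor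

end Groth.Agent.Lib.H2GrNak
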