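import Mathlib

namespace Groth.Agent.Lib.H2LatQuot

open scoped BigOperators


theorem exists_basis_smul (r : ℕ) (d : Fin r → ℤ) (hd : d ≠ 0) :
    ∃ (bM : Module.Basis (Fin r) ℤ (Fin r → ℤ)) (j0 : Fin r) (D' : ℤ), d = D' • bM j0 := by
  classical
  obtain ⟨n, snf⟩ := Submodule.smithNormalForm (Pi.basisFun ℤ (Fin r)) (ℤ ∙ d)
  have hn : n = 1 := by
    have h1 : Module.finrank ℤ (ℤ ∙ d) = n := by
      rw [Module.finrank_eq_card_basis snf.bN]; simp
    have h2 : Module.finrank ℤ (ℤ ∙ d) = 1 := by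
      rw [← (LinearEquiv.toSpanNonzeroSingleton ℤ (Fin r → ℤ) d hd).finrank_eq]; simp
    omega
  subst hn
  have hdmem : d ∈ (ℤ ∙ d) := Submodule.mem_span_singleton_self d
  refine ⟨snf.bM, snf.f 0, snf.bN.repr ⟨d, hdmem⟩ 0 * snf.a 0, ?_⟩
  have hy : (⟨d, hdmem⟩ : (ℤ ∙ d)) = (snf.bN.repr ⟨d, hdmem⟩ 0) • snf.bN 0 := by
    conv_lhs => rw [← snf.bN.sum_repr ⟨d, hdmem⟩]
    simp
  have := congrArg Subtype.val hy
  rw [Submodule.coe_smul, snf.snf, smul_smul] at this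
  exact this

theorem exists_equiv (r : ℕ) (i0 : Fin r) (d : Fin r → ℤ) :
    ∃ A : (Fin r → ℤ) ≃ₗ[ℤ] (Fin r → ℤ), A d = Pi.single i0 (Finset.univ.gcd d) := by
  classical
  by_cases hd : d = 0
  · subst hd
    refine ⟨LinearEquiv.refl _ _, ?_⟩
    have : Finset.univ.gcd (0 : Fin r → ℤ) = 0 := by
      rw [Finset.gcd_eq_zero_iff]; intros; rfl
    simp [this]
  · obtain ⟨bM, j0, D', hd'⟩ := exists_basis_smul r d hd
    set D := Finset.univ.gcd d with hD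
    have h1 : D ∣ D' := by
      have e1 : D' = bM.coord j0 d := by
        conv_rhs => rw [hd']
        rw [map_smul, Module.Basis.coord_apply, Module.Basis.repr_self]; simp
      have e2 : d = ∑ i, d i • (Pi.single i (1:ℤ) : Fin r → ℤ) := by
        ext j; simp [Finset.sum_apply, Pi.single_apply]
      rw [e1, e2, map_sum]
      apply Finset.dvd_sum
      intro i _
      rw [map_smul, smul_eq_mul]
      exact Dvd.dvd.mul_right (Finset.gcd_dvd (Finset.mem_univ i)) _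
    have h2 : D' ∣ D := by
      apply Finset.dvd_gcd
      intro i _
      have := congrFun hd' i
      rw [this]; simp
    have hA0 : bM.equivFun d = Pi.single j0 D' := by
      conv_lhs => rw [hd']
      rw [map_smul]
      ext i
      rw [Pi.smul_apply, Module.Basis.equivFun_self, Pi.single_apply]
      split_ifs with h1 h2 h2
      · simp
      · exact absurd h1.symm h2
      · exact absurd h2.symm h1
      · simp
    let P : (Fin r → ℤ) ≃ₗ[ℤ] (Fin r → ℤ) := LinearEquiv.funCongrLeft ℤ ℤ (Equiv.swap i0 j0)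
    have hP : ∀ c : ℤ, P (Pi.single j0 c) = Pi.single i0 c := by
      intro c
      ext i
      simp only [P, LinearEquiv.funCongrLeft_apply, LinearMap.funLeft_apply, Pi.single_apply,
        Equiv.swap_apply_eq_iff, Equiv.swap_apply_right]
    rcases Int.natAbs_eq_natAbs_iff.mp (Int.natAbs_eq_of_dvd_dvd h2 h1) with h | h
    · refine ⟨bM.equivFun.trans P, ?_⟩
      rw [LinearEquiv.trans_apply, hA0, hP, h]
    · refine ⟨(bM.equivFun.trans P).trans (LinearEquiv.neg ℤ), ?_⟩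
      rw [LinearEquiv.trans_apply, LinearEquiv.trans_apply, hA0, hP, h]
      ext i; simp only [LinearEquiv.neg_apply, Pi.neg_apply, Pi.single_apply]
      split_ifs <;> simp



section
variable (r δ : ℕ) (g : ℤ)

/-- the generating set -/
def S (d : Fin r → ℤ) : Set ((Fin r → ℤ) →+ ZMod δ) :=
  {φ | ∃ b : LinearMap.BilinForm ℤ (Fin r → ℤ), b.IsSymm ∧
      ∀ x, φ x = ((b d x + (1 - g) * b x x : ℤ) : ZMod δ)}

def T (A : (Fin r → ℤ) ≃ₗ[ℤ] (Fin r → ℤ)) :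
    ((Fin r → ℤ) →+ ZMod δ) ≃+ ((Fin r → ℤ) →+ ZMod δ) where
  toFun φ := φ.comp A.symm.toLinearMap.toAddMonoidHom
  invFun φ := φ.comp A.toLinearMap.toAddMonoidHom
  left_inv φ := by ext x; simp
  right_inv φ := by ext x; simp
  map_add' φ ψ := by ext x; simp

theorem T_apply (A : (Fin r → ℤ) ≃ₗ[ℤ] (Fin r → ℤ)) (φ : (Fin r → ℤ) →+ ZMod δ) (y : Fin r → ℤ) :
    T r δ A φ y = φ (A.symm y) := rfl

theorem T_mem (A : (Fin r → ℤ) ≃ₗ[ℤ] (Fin r → ℤ)) (d : Fin r → ℤ) (φ : (Fin r → ℤ) →+ ZMod δ)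
    (h : φ ∈ S r δ g d) : T r δ A φ ∈ S r δ g (A d) := by
  obtain ⟨b, hb, hφ⟩ := h
  refine ⟨b.compl₁₂ A.symm.toLinearMap A.symm.toLinearMap, ⟨fun x y => ?_⟩, fun y => ?_⟩
  · simp only [LinearMap.compl₁₂_apply]; exact hb.eq _ _
  · simp only [LinearMap.compl₁₂_apply, LinearEquiv.coe_coe, LinearEquiv.symm_apply_apply]
    exact hφ (A.symm y)

theorem T_image (A : (Fin r → ℤ) ≃ₗ[ℤ] (Fin r → ℤ)) (d : Fin r → ℤ) :
    (T r δ A) '' (S r δ g d) = S r δ g (A d) := by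
  ext ψ
  constructor
  · rintro ⟨φ, hφ, rfl⟩; exact T_mem r δ g A d φ hφ
  · intro hψ
    refine ⟨T r δ A.symm ψ, ?_, ?_⟩
    · have := T_mem r δ g A.symm (A d) ψ hψ
      rwa [LinearEquiv.symm_apply_apply] at this
    · ext x; simp [T_apply]

theorem map_closure (A : (Fin r → ℤ) ≃ₗ[ℤ] (Fin r → ℤ)) (d : Fin r → ℤ) :
    (AddSubgroup.closure (S r δ g d)).map (T r δ A).toAddMonoidHom =
      AddSubgroup.closure (S r δ g (A d)) := by
  rw [AddMonoidHom.map_closure]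
  congr 1
  exact T_image r δ g A d

theorem hom_ext {φ ψ : (Fin r → ℤ) →+ ZMod δ}
    (h : ∀ i, φ (Pi.single i 1) = ψ (Pi.single i 1)) : φ = ψ := by
  apply AddMonoidHom.functions_ext
  intro i x
  have : (Pi.single i x : Fin r → ℤ) = x • Pi.single i 1 := by
    ext j; simp [Pi.single_apply]
  rw [this, map_zsmul, map_zsmul, h]

/-- the additive map attached to a symmetric bilinear form -/
def qHom (hδ : (δ : ℤ) ∣ 2 * (g - 1)) (b : LinearMap.BilinForm ℤ (Fin r → ℤ)) (hb : b.IsSymm)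
    (d : Fin r → ℤ) : (Fin r → ℤ) →+ ZMod δ :=
  AddMonoidHom.mk' (fun x => ((b d x + (1 - g) * b x x : ℤ) : ZMod δ)) (by
    intro x y
    have e : b d (x + y) + (1 - g) * b (x + y) (x + y) =
        (b d x + (1 - g) * b x x) + (b d y + (1 - g) * b y y) + (2 * (g - 1)) * (- b x y) := by
      simp only [map_add, LinearMap.add_apply]
      rw [hb.eq y x]; ring
    rw [e]
    obtain ⟨c, hc⟩ := hδ
    have : (((2 * (g - 1)) * (- b x y) : ℤ) : ZMod δ) = 0 := by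
      rw [hc, mul_assoc]; push_cast; simp
    push_cast at this ⊢
    rw [this, add_zero])

theorem qHom_apply (hδ : (δ : ℤ) ∣ 2 * (g - 1)) (b : LinearMap.BilinForm ℤ (Fin r → ℤ))
    (hb : b.IsSymm) (d x : Fin r → ℤ) :
    qHom r δ g hδ b hb d x = ((b d x + (1 - g) * b x x : ℤ) : ZMod δ) := rfl

theorem qHom_mem (hδ : (δ : ℤ) ∣ 2 * (g - 1)) (b : LinearMap.BilinForm ℤ (Fin r → ℤ))
    (hb : b.IsSymm) (d : Fin r → ℤ) : qHom r δ g hδ b hb d ∈ S r δ g d :=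
  ⟨b, hb, fun _ => rfl⟩

end



section zmod
variable (δ : ℕ)

theorem gcd_dvd_nat (m : ℤ) : Int.gcd (δ : ℤ) m ∣ δ :=
  Int.natCast_dvd_natCast.mp (Int.gcd_dvd_left (δ : ℤ) m)

/-- K1 -/
theorem exists_mul_of_cast_eq_zero (m : ℤ) (x : ZMod δ)
    (h : ZMod.castHom (gcd_dvd_nat δ m) (ZMod (Int.gcd (δ : ℤ) m)) x = 0) :
    ∃ s : ℤ, x = ((m * s : ℤ) : ZMod δ) := by
  obtain ⟨a, rfl⟩ := ZMod.intCast_surjective x
  rw [map_intCast] at h
  obtain ⟨k, hk⟩ := (CharP.intCast_eq_zero_iff (ZMod (Int.gcd (δ : ℤ) m)) (Int.gcd (δ : ℤ) m) a).mp h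
  refine ⟨Int.gcdB δ m * k, ?_⟩
  rw [ZMod.intCast_eq_intCast_iff_dvd_sub]
  refine ⟨- (Int.gcdA δ m * k), ?_⟩
  rw [hk, Int.gcd_eq_gcd_ab (δ : ℤ) m]; ring

theorem cast_eq_zero_of_mul (m : ℤ) (s : ℤ) :
    ZMod.castHom (gcd_dvd_nat δ m) (ZMod (Int.gcd (δ : ℤ) m)) ((m * s : ℤ) : ZMod δ) = 0 := by
  rw [map_intCast]
  rw [CharP.intCast_eq_zero_iff (ZMod (Int.gcd (δ : ℤ) m)) (Int.gcd (δ : ℤ) m)]
  exact Dvd.dvd.mul_right (Int.gcd_dvd_right (δ : ℤ) m) s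

end zmod


end Groth.Agent.Lib.H2LatQuot
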