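import Mathlib
import Groth.Agent.Lib.H2LatQuot

namespace Groth.Agent.Lib.H2LatQuot

open scoped BigOperators


section norm
variable (n δ : ℕ) (g D : ℤ)

/-- explicit symmetric bilinear form -/
def bform (s : ℤ) (t u : Fin n → ℤ) : LinearMap.BilinForm ℤ (Fin (n + 1) → ℤ) :=
  LinearMap.mk₂ ℤ (fun x y => s * x 0 * y 0 +
      ∑ j, (t j * (x 0 * y j.succ + x j.succ * y 0) + u j * (x j.succ * y j.succ)))
    (by
      intro x x' y
      simp only [Pi.add_apply]
      rw [add_add_add_comm, ← Finset.sum_add_distrib]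
      congr 1
      · ring
      · apply Finset.sum_congr rfl; intro j _; ring)
    (by
      intro c x y
      simp only [Pi.smul_apply, smul_eq_mul]
      rw [mul_add, Finset.mul_sum]
      congr 1
      · ring
      · apply Finset.sum_congr rfl; intro j _; ring)
    (by
      intro x y y'
      simp only [Pi.add_apply]
      rw [add_add_add_comm, ← Finset.sum_add_distrib]
      congr 1
      · ring
      · apply Finset.sum_congr rfl; intro j _; ring)
    (by
      intro c x y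
      simp only [Pi.smul_apply, smul_eq_mul]
      rw [mul_add, Finset.mul_sum]
      congr 1
      · ring
      · apply Finset.sum_congr rfl; intro j _; ring)

theorem bform_apply (s : ℤ) (t u : Fin n → ℤ) (x y : Fin (n + 1) → ℤ) :
    bform n s t u x y = s * x 0 * y 0 +
      ∑ j, (t j * (x 0 * y j.succ + x j.succ * y 0) + u j * (x j.succ * y j.succ)) := rfl

theorem bform_symm (s : ℤ) (t u : Fin n → ℤ) : (bform n s t u).IsSymm := by
  refine ⟨fun x y => ?_⟩
  rw [bform_apply, bform_apply]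
  congr 1
  · ring
  · apply Finset.sum_congr rfl; intro j _; ring

theorem bform_d_zero (s : ℤ) (t u : Fin n → ℤ) :
    bform n s t u (Pi.single 0 D) (Pi.single 0 1) = D * s := by
  rw [bform_apply]
  have : ∀ j : Fin n, (Pi.single (0 : Fin (n+1)) (1:ℤ) : Fin (n+1) → ℤ) j.succ = 0 :=
    fun j => Pi.single_eq_of_ne (Fin.succ_ne_zero j) _
  have h2 : ∀ j : Fin n, (Pi.single (0 : Fin (n+1)) D : Fin (n+1) → ℤ) j.succ = 0 :=
    fun j => Pi.single_eq_of_ne (Fin.succ_ne_zero j) _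
  simp only [this, h2, Pi.single_eq_same]
  simp; ring

theorem bform_zero_zero (s : ℤ) (t u : Fin n → ℤ) :
    bform n s t u (Pi.single 0 1) (Pi.single 0 1) = s := by
  have := bform_d_zero n 1 s t u
  rw [one_mul] at this
  exact this

theorem bform_d_succ (s : ℤ) (t u : Fin n → ℤ) (k : Fin n) :
    bform n s t u (Pi.single 0 D) (Pi.single k.succ 1) = D * t k := by
  rw [bform_apply]
  have h0 : (Pi.single (k.succ : Fin (n+1)) (1:ℤ) : Fin (n+1) → ℤ) 0 = 0 :=
    Pi.single_eq_of_ne (Fin.succ_ne_zero k).symm _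
  have h2 : ∀ j : Fin n, (Pi.single (0 : Fin (n+1)) D : Fin (n+1) → ℤ) j.succ = 0 :=
    fun j => Pi.single_eq_of_ne (Fin.succ_ne_zero j) _
  simp only [h0, h2, Pi.single_eq_same]
  rw [Finset.sum_eq_single k]
  · simp; ring
  · intro j _ hj
    have : (Pi.single (k.succ : Fin (n+1)) (1:ℤ) : Fin (n+1) → ℤ) j.succ = 0 :=
      Pi.single_eq_of_ne (fun h => hj (Fin.succ_injective _ h)) _
    rw [this]; ring
  · intro h; exact absurd (Finset.mem_univ k) h

theorem bform_succ_succ (s : ℤ) (t u : Fin n → ℤ) (k : Fin n) :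
    bform n s t u (Pi.single k.succ 1) (Pi.single k.succ 1) = u k := by
  rw [bform_apply]
  have h0 : (Pi.single (k.succ : Fin (n+1)) (1:ℤ) : Fin (n+1) → ℤ) 0 = 0 :=
    Pi.single_eq_of_ne (Fin.succ_ne_zero k).symm _
  simp only [h0]
  rw [Finset.sum_eq_single k]
  · simp
  · intro j _ hj
    have : (Pi.single (k.succ : Fin (n+1)) (1:ℤ) : Fin (n+1) → ℤ) j.succ = 0 :=
      Pi.single_eq_of_ne (fun h => hj (Fin.succ_injective _ h)) _
    rw [this]; ring
  · intro h; exact absurd (Finset.mem_univ k) h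

end norm



section norm
variable (n δ : ℕ) (g D : ℤ)

/-- The surjection -/
noncomputable def Φ : ((Fin (n + 1) → ℤ) →+ ZMod δ) →+
    ZMod (Int.gcd (δ : ℤ) (D + 1 - g)) × (Fin n → ZMod (Int.gcd (δ : ℤ) (Int.gcd (g - 1) D))) :=
  AddMonoidHom.mk' (fun φ =>
    (ZMod.castHom (gcd_dvd_nat δ (D + 1 - g)) _ (φ (Pi.single 0 1)),
      fun j => ZMod.castHom (gcd_dvd_nat δ (Int.gcd (g - 1) D)) _ (φ (Pi.single j.succ 1))))
    (by
      intro φ ψ
      refine Prod.ext ?_ (funext fun j => ?_)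
      · simp only [AddMonoidHom.add_apply, map_add, Prod.fst_add]
      · simp only [AddMonoidHom.add_apply, map_add, Prod.snd_add, Pi.add_apply])

theorem Φ_fst (φ : (Fin (n + 1) → ℤ) →+ ZMod δ) :
    (Φ n δ g D φ).1 = ZMod.castHom (gcd_dvd_nat δ (D + 1 - g)) _ (φ (Pi.single 0 1)) := rfl

theorem Φ_snd (φ : (Fin (n + 1) → ℤ) →+ ZMod δ) (j : Fin n) :
    (Φ n δ g D φ).2 j =
      ZMod.castHom (gcd_dvd_nat δ (Int.gcd (g - 1) D)) _ (φ (Pi.single j.succ 1)) := rfl

/-- coordinates to hom -/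
noncomputable def mkEquiv : (Fin (n + 1) → ZMod δ) ≃+ ((Fin (n + 1) → ℤ) →+ ZMod δ) :=
  ((Pi.basisFun ℤ (Fin (n + 1))).constr ℤ).toAddEquiv.trans (addMonoidHomLequivInt ℤ).symm.toAddEquiv

theorem mkEquiv_single (c : Fin (n + 1) → ZMod δ) (i : Fin (n + 1)) :
    mkEquiv n δ c (Pi.single i 1) = c i := by
  have := (Pi.basisFun ℤ (Fin (n + 1))).constr_basis ℤ c i
  rw [Pi.basisFun_apply] at this
  exact this

theorem Φ_surjective : Function.Surjective (Φ n δ g D) := by
  rintro ⟨s, t⟩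
  obtain ⟨a, rfl⟩ := ZMod.intCast_surjective s
  choose c hc using fun j => ZMod.intCast_surjective (t j)
  refine ⟨mkEquiv n δ (Fin.cons (a : ZMod δ) (fun j => (c j : ZMod δ))), ?_⟩
  refine Prod.ext ?_ (funext fun j => ?_)
  · rw [Φ_fst, mkEquiv_single, Fin.cons_zero, map_intCast]
  · rw [Φ_snd, mkEquiv_single, Fin.cons_succ, map_intCast, hc]

theorem closure_eq_ker (hδ : (δ : ℤ) ∣ 2 * (g - 1)) :
    AddSubgroup.closure (S (n + 1) δ g (Pi.single 0 D)) = (Φ n δ g D).ker := by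
  apply le_antisymm
  · rw [AddSubgroup.closure_le]
    rintro φ ⟨b, hb, hφ⟩
    rw [SetLike.mem_coe, AddMonoidHom.mem_ker]
    have hd : (Pi.single 0 D : Fin (n + 1) → ℤ) = D • Pi.single 0 1 := by
      ext j; simp [Pi.single_apply]
    refine Prod.ext ?_ (funext fun j => ?_)
    · rw [Φ_fst, hφ, hd, map_smul, LinearMap.smul_apply, smul_eq_mul]
      have : D * b (Pi.single 0 1) (Pi.single 0 1) + (1 - g) * b (Pi.single 0 1) (Pi.single 0 1)
          = (D + 1 - g) * b (Pi.single 0 1) (Pi.single 0 1) := by ring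
      rw [this]
      exact cast_eq_zero_of_mul δ (D + 1 - g) _
    · rw [Φ_snd, hφ, hd, map_smul, LinearMap.smul_apply, smul_eq_mul, map_intCast]
      show _ = (0 : ZMod _)
      rw [CharP.intCast_eq_zero_iff (ZMod (Int.gcd (δ : ℤ) (Int.gcd (g - 1) D)))
        (Int.gcd (δ : ℤ) (Int.gcd (g - 1) D))]
      have h1 : ((Int.gcd (δ : ℤ) (Int.gcd (g - 1) D) : ℕ) : ℤ) ∣ ((Int.gcd (g - 1) D : ℕ) : ℤ) :=
        Int.gcd_dvd_right _ _
      have h2 : ((Int.gcd (δ : ℤ) (Int.gcd (g - 1) D) : ℕ) : ℤ) ∣ D :=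
        h1.trans (Int.gcd_dvd_right _ _)
      have h3 : ((Int.gcd (δ : ℤ) (Int.gcd (g - 1) D) : ℕ) : ℤ) ∣ 1 - g := by
        have := h1.trans (Int.gcd_dvd_left (g - 1) D)
        have e : 1 - g = -(g - 1) := by ring
        rw [e]; exact (dvd_neg).mpr this
      exact dvd_add (Dvd.dvd.mul_right h2 _) (Dvd.dvd.mul_right h3 _)
  · intro φ hφ
    rw [AddMonoidHom.mem_ker] at hφ
    have h1 := congrArg Prod.fst hφ
    have h2 := fun j => congrFun (congrArg Prod.snd hφ) j
    rw [Φ_fst] at h1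
    simp only [Φ_snd] at h2
    obtain ⟨s, hs⟩ := exists_mul_of_cast_eq_zero δ (D + 1 - g) _ h1
    have h3 : ∀ j : Fin n, ∃ t u : ℤ, φ (Pi.single j.succ 1) = ((D * t + (1 - g) * u : ℤ) : ZMod δ) := by
      intro j
      obtain ⟨w, hw⟩ := exists_mul_of_cast_eq_zero δ (Int.gcd (g - 1) D) _ (h2 j)
      refine ⟨Int.gcdB (g - 1) D * w, - (Int.gcdA (g - 1) D * w), ?_⟩
      rw [hw, Int.gcd_eq_gcd_ab (g - 1) D]
      congr 1; ring
    choose t u htu using h3
    apply AddSubgroup.subset_closure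
    have key : φ = qHom (n + 1) δ g hδ (bform n s t u) (bform_symm n s t u) (Pi.single 0 D) := by
      apply hom_ext
      intro i
      refine Fin.cases ?_ (fun k => ?_) i
      · rw [qHom_apply, bform_d_zero, bform_zero_zero, hs]
        congr 1; ring
      · rw [qHom_apply, bform_d_succ, bform_succ_succ, htu]
    rw [key]
    exact qHom_mem _ _ _ _ _ _ _

end norm


end Groth.Agent.Lib.H2LatQuot
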