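import Mathlib
import Groth.Agent.Lib.H2LatQuot
import Groth.Agent.Lib.H2LatQuot2

namespace Groth.Agent.Lib.H2LatQuot

open scoped BigOperators

section iota
variable (δ : ℕ)

/-- multiplication by `m` as a map `ZMod (δ / m) →+ ZMod δ` -/
noncomputable def ι (m : ℕ) (hm : m ∣ δ) : ZMod (δ / m) →+ ZMod δ :=
  ZMod.lift (δ / m) ⟨(Int.castAddHom (ZMod δ)).comp (AddMonoidHom.mulLeft (m : ℤ)), by
    show (((m : ℤ) * ((δ / m : ℕ) : ℤ) : ℤ) : ZMod δ) = 0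
    rw [← Nat.cast_mul, Nat.mul_div_cancel' hm]; simp⟩

theorem ι_intCast (m : ℕ) (hm : m ∣ δ) (k : ℤ) :
    ι δ m hm (k : ZMod (δ / m)) = (((m : ℤ) * k : ℤ) : ZMod δ) :=
  ZMod.lift_coe _ _ _

theorem ι_injective (hδ0 : 0 < δ) (m : ℕ) (hm : m ∣ δ) : Function.Injective (ι δ m hm) := by
  rw [ι, ZMod.lift_injective]
  intro k hk
  have h1 : (δ : ℤ) ∣ (m : ℤ) * k := (CharP.intCast_eq_zero_iff (ZMod δ) δ _).mp hk
  rw [CharP.intCast_eq_zero_iff (ZMod (δ / m)) (δ / m)]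
  have hmpos : 0 < m := Nat.pos_of_dvd_of_pos hm hδ0
  obtain ⟨q, rfl⟩ := hm
  rw [Nat.mul_div_cancel_left q hmpos]
  rw [Nat.cast_mul] at h1
  exact Int.dvd_of_mul_dvd_mul_left (by exact_mod_cast hmpos.ne') h1

theorem cast_ι (m : ℕ) (hm : m ∣ δ) (y : ZMod (δ / m)) :
    ZMod.castHom hm (ZMod m) (ι δ m hm y) = 0 := by
  obtain ⟨k, rfl⟩ := ZMod.intCast_surjective y
  rw [ι_intCast, map_intCast, CharP.intCast_eq_zero_iff (ZMod m) m]
  exact dvd_mul_right _ _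

theorem exists_ι_eq (m : ℕ) (hm : m ∣ δ) (x : ZMod δ) (hx : ZMod.castHom hm (ZMod m) x = 0) :
    ∃ y, ι δ m hm y = x := by
  obtain ⟨a, rfl⟩ := ZMod.intCast_surjective x
  rw [map_intCast, CharP.intCast_eq_zero_iff (ZMod m) m] at hx
  obtain ⟨k, rfl⟩ := hx
  exact ⟨(k : ZMod (δ / m)), ι_intCast δ m hm k⟩

end iota

section norm2
variable (n δ : ℕ) (g D : ℤ)

/-- the embedding -/
noncomputable def Θ : ZMod (δ / Int.gcd (δ : ℤ) (D + 1 - g)) ×
      (Fin n → ZMod (δ / Int.gcd (δ : ℤ) (Int.gcd (g - 1) D))) →+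
    ((Fin (n + 1) → ℤ) →+ ZMod δ) :=
  AddMonoidHom.mk' (fun p => mkEquiv n δ
      (Fin.cons (ι δ _ (gcd_dvd_nat δ (D + 1 - g)) p.1)
        (fun j => ι δ _ (gcd_dvd_nat δ (Int.gcd (g - 1) D)) (p.2 j))))
    (by
      intro p q
      rw [← map_add]
      congr 1
      ext i
      refine Fin.cases ?_ (fun k => ?_) i
      · simp only [Fin.cons_zero, Pi.add_apply, Prod.fst_add, map_add]
      · simp only [Fin.cons_succ, Pi.add_apply, Prod.snd_add, map_add])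

theorem Θ_zero (p) : Θ n δ g D p (Pi.single 0 1) = ι δ _ (gcd_dvd_nat δ (D + 1 - g)) p.1 := by
  show mkEquiv n δ _ (Pi.single 0 1) = _
  rw [mkEquiv_single, Fin.cons_zero]

theorem Θ_succ (p) (j : Fin n) :
    Θ n δ g D p (Pi.single j.succ 1) = ι δ _ (gcd_dvd_nat δ (Int.gcd (g - 1) D)) (p.2 j) := by
  show mkEquiv n δ _ (Pi.single j.succ 1) = _
  rw [mkEquiv_single, Fin.cons_succ]

theorem Θ_injective (hδ0 : 0 < δ) : Function.Injective (Θ n δ g D) := by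
  intro p q h
  refine Prod.ext ?_ (funext fun j => ?_)
  · apply ι_injective δ hδ0 _ (gcd_dvd_nat δ (D + 1 - g))
    rw [← Θ_zero, ← Θ_zero, h]
  · apply ι_injective δ hδ0 _ (gcd_dvd_nat δ (Int.gcd (g - 1) D))
    rw [← Θ_succ, ← Θ_succ, h]

theorem Θ_range : (Θ n δ g D).range = (Φ n δ g D).ker := by
  ext φ
  rw [AddMonoidHom.mem_range, AddMonoidHom.mem_ker]
  constructor
  · rintro ⟨p, rfl⟩
    refine Prod.ext ?_ (funext fun j => ?_)
    · rw [Φ_fst, Θ_zero]; exact cast_ι δ _ _ _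
    · rw [Φ_snd, Θ_succ]; exact cast_ι δ _ _ _
  · intro hφ
    have h1 := congrArg Prod.fst hφ
    have h2 := fun j => congrFun (congrArg Prod.snd hφ) j
    rw [Φ_fst] at h1
    simp only [Φ_snd] at h2
    obtain ⟨y0, hy0⟩ := exists_ι_eq δ _ _ _ h1
    choose y hy using fun j => exists_ι_eq δ _ _ _ (h2 j)
    refine ⟨(y0, y), ?_⟩
    apply hom_ext
    intro i
    refine Fin.cases ?_ (fun k => ?_) i
    · rw [Θ_zero, hy0]
    · rw [Θ_succ, hy]

theorem closure_equiv (hδ0 : 0 < δ) (hδ : (δ : ℤ) ∣ 2 * (g - 1)) :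
    Nonempty (AddSubgroup.closure (S (n + 1) δ g (Pi.single 0 D)) ≃+
      (ZMod (δ / Int.gcd (δ : ℤ) (D + 1 - g)) ×
        (Fin n → ZMod (δ / Int.gcd (δ : ℤ) (Int.gcd (g - 1) D))))) := by
  have e1 := AddMonoidHom.ofInjective (Θ_injective n δ g D hδ0)
  have e2 : AddSubgroup.closure (S (n + 1) δ g (Pi.single 0 D)) = (Θ n δ g D).range := by
    rw [closure_eq_ker n δ g D hδ, Θ_range]
  exact ⟨(AddEquiv.addSubgroupCongr e2).trans e1.symm⟩

end norm2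

end Groth.Agent.Lib.H2LatQuot
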