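import Mathlib
import Groth.Agent.Lib.TowerSurj31

set_option autoImplicit false
universe u
open CategoryTheory CategoryTheory.Limits Opposite TensorProduct

namespace Groth.Agent.Lib.H2LimTensor

section fibre


variable {R : Type u} [CommRing R] {A B : ℕᵒᵖ ⥤ ModuleCat.{u} R}

lemma nat_apply (v : A ⟶ B) {i j : ℕᵒᵖ} (f : i ⟶ j) (a : A.obj i) :
    (B.map f).hom ((v.app i).hom a) = (v.app j).hom ((A.map f).hom a) :=
  (ConcreteCategory.congr_hom (v.naturality f) a).symm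

lemma map_map_apply (A : ℕᵒᵖ ⥤ ModuleCat.{u} R) {i j k : ℕᵒᵖ}
    (f : i ⟶ j) (g : j ⟶ k) (h : i ⟶ k) (b : A.obj i) :
    (A.map g).hom ((A.map f).hom b) = (A.map h).hom b := by
  rw [Subsingleton.elim h (f ≫ g), A.map_comp]; rfl

lemma map_id_apply (A : ℕᵒᵖ ⥤ ModuleCat.{u} R) {i : ℕᵒᵖ} (f : i ⟶ i) (b : A.obj i) :
    (A.map f).hom b = b := by
  rw [Subsingleton.elim f (𝟙 i), A.map_id]; rfl

/-- The fibre tower over a compatible family. -/
def fib (v : A ⟶ B) (c : ∀ j : ℕᵒᵖ, B.obj j)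
    (hc : ∀ {i j : ℕᵒᵖ} (f : i ⟶ j), (B.map f).hom (c i) = c j) : ℕᵒᵖ ⥤ Type u where
  obj j := {a : A.obj j // (v.app j).hom a = c j}
  map {i j} f := ↾(fun a => ⟨(A.map f).hom a.1, by rw [← nat_apply, a.2, hc]⟩)
  map_id j := by
    ext a
    simp
  map_comp f g := by
    ext a
    simp

lemma fib_map_val (v : A ⟶ B) (c : ∀ j : ℕᵒᵖ, B.obj j)
    (hc : ∀ {i j : ℕᵒᵖ} (f : i ⟶ j), (B.map f).hom (c i) = c j) {i j : ℕᵒᵖ}
    (f : i ⟶ j) (a : (fib v c hc).obj i) : ((fib v c hc).map f a).1 = (A.map f).hom a.1 := rfl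

/-- transition map `A_m → A_n` for `n ≤ m` -/
abbrev tr (A : ℕᵒᵖ ⥤ ModuleCat.{u} R) {n m : ℕ} (h : n ≤ m) : A.obj (op m) ⟶ A.obj (op n) :=
  A.map (homOfLE h).op

lemma tr_tr (A : ℕᵒᵖ ⥤ ModuleCat.{u} R) {n m k : ℕ} (h₁ : n ≤ m) (h₂ : m ≤ k)
    (x : A.obj (op k)) : (tr A h₁).hom ((tr A h₂).hom x) = (tr A (h₁.trans h₂)).hom x :=
  map_map_apply A _ _ _ _

/-- Image of the kernel at level `m` in level `n`. -/
def kerImg (v : A ⟶ B) (n m : ℕ) (h : n ≤ m) : Submodule R (A.obj (op n)) :=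
  Submodule.map (tr A h).hom (LinearMap.ker (v.app (op m)).hom)

lemma kerImg_anti (v : A ⟶ B) (n m m' : ℕ) (h : n ≤ m) (h' : m ≤ m') :
    kerImg v n m' (h.trans h') ≤ kerImg v n m h := by
  rintro _ ⟨x, hx, rfl⟩
  refine ⟨(tr A h').hom x, ?_, tr_tr A h h' x⟩
  rw [SetLike.mem_coe, LinearMap.mem_ker] at hx ⊢
  rw [← nat_apply, hx, map_zero]

theorem fib_isMittagLeffler (v : A ⟶ B) (hA : ∀ j, IsArtinian R (A.obj j))
    (c : ∀ j : ℕᵒᵖ, B.obj j)
    (hc : ∀ {i j : ℕᵒᵖ} (f : i ⟶ j), (B.map f).hom (c i) = c j)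
    (hne : ∀ j, ∃ a, (v.app j).hom a = c j) :
    (fib v c hc).IsMittagLeffler := by
  intro j
  obtain ⟨n⟩ := j
  have := hA (op n)
  -- the antitone chain
  let F : ℕ →o (Submodule R (A.obj (op n)))ᵒᵈ :=
    ⟨fun t => OrderDual.toDual (kerImg v n (n + t) (Nat.le_add_right n t)), by
      intro t t' htt'
      exact kerImg_anti v n (n + t) (n + t') (Nat.le_add_right n t) (Nat.add_le_add_left htt' n)⟩
  obtain ⟨t0, ht0⟩ := IsArtinian.monotone_stabilizes F
  refine ⟨op (n + t0), (homOfLE (Nat.le_add_right n t0)).op, ?_⟩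
  intro k g
  obtain ⟨k⟩ := k
  have hnk : n ≤ k := leOfHom g.unop
  -- reduce to k' = max k (n+t0)
  obtain ⟨k', hkk', htk'⟩ : ∃ k', k ≤ k' ∧ n + t0 ≤ k' :=
    ⟨max k (n + t0), le_max_left _ _, le_max_right _ _⟩
  rintro _ ⟨a, rfl⟩
  -- pick b ∈ Fib_{k'}
  obtain ⟨b, hb⟩ := hne (op k')
  -- a - tr b ∈ ker v_{n+t0}
  have h1 : a.1 - (tr A htk').hom b ∈ LinearMap.ker (v.app (op (n + t0))).hom := by
    rw [LinearMap.mem_ker, map_sub, a.2, ← nat_apply, hb, hc, sub_self]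
  have h2 : (tr A (Nat.le_add_right n t0)).hom (a.1 - (tr A htk').hom b) ∈
      kerImg v n (n + t0) (Nat.le_add_right n t0) := ⟨_, h1, rfl⟩
  have h3 : kerImg v n (n + t0) (Nat.le_add_right n t0) =
      kerImg v n k' ((Nat.le_add_right n t0).trans htk') := by
    obtain ⟨t', rfl⟩ : ∃ t', k' = n + t' := ⟨k' - n, by omega⟩
    have := ht0 t' (by omega)
    exact congrArg OrderDual.ofDual this
  rw [h3] at h2
  obtain ⟨w, hw, hw'⟩ := h2
  rw [SetLike.mem_coe, LinearMap.mem_ker] at hw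
  refine ⟨(fib v c hc).map (homOfLE hkk').op ⟨b + w, by rw [map_add, hb, hw, add_zero]⟩, ?_⟩
  apply Subtype.ext
  show (A.map g).hom ((A.map (homOfLE hkk').op).hom (b + w)) = (tr A (Nat.le_add_right n t0)).hom a.1
  rw [map_map_apply A _ g (homOfLE ((Nat.le_add_right n t0).trans htk')).op, map_add]
  show (tr A _).hom b + (tr A _).hom w = _
  rw [hw', map_sub, tr_tr]
  abel

/-- Lifting compatible families along `v : A ⟶ B` when the `A_j` are Artinian. -/
theorem exists_lift (v : A ⟶ B) (hA : ∀ j, IsArtinian R (A.obj j))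
    (c : ∀ j : ℕᵒᵖ, B.obj j)
    (hc : ∀ {i j : ℕᵒᵖ} (f : i ⟶ j), (B.map f).hom (c i) = c j)
    (hne : ∀ j, ∃ a, (v.app j).hom a = c j) :
    ∃ a : ∀ j : ℕᵒᵖ, A.obj j, (∀ {i j : ℕᵒᵖ} (f : i ⟶ j), (A.map f).hom (a i) = a j) ∧
      ∀ j, (v.app j).hom (a j) = c j := by
  have : ∀ j, Nonempty ((fib v c hc).obj j) := fun j => by
    obtain ⟨a, ha⟩ := hne j
    exact ⟨⟨a, ha⟩⟩
  obtain ⟨s⟩ := Groth.Agent.TowerSurj31.nonempty_sections_of_isMittagLeffler (fib v c hc)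
    (fib_isMittagLeffler v hA c hc hne)
  refine ⟨fun j => (s.1 j).1, fun {i j} f => ?_, fun j => (s.1 j).2⟩
  have := congrArg Subtype.val (s.2 f)
  rw [fib_map_val] at this
  exact this


end fibre


section coords
variable {R : Type u} [CommRing R] {L L' : Type u} [AddCommGroup L] [Module R L]
  [AddCommGroup L'] [Module R L'] {b : ℕ}

/-- `i`-th coordinate of an element of `L ⊗ R^b`. -/
noncomputable def coord (i : Fin b) : L ⊗[R] (Fin b → R) →ₗ[R] L :=
  (TensorProduct.rid R L).toLinearMap ∘ₗ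
    (LinearMap.proj (R := R) (φ := fun _ : Fin b => R) i).lTensor L

lemma coord_tmul (i : Fin b) (l : L) (f : Fin b → R) :
    coord i (l ⊗ₜ[R] f) = f i • l := by
  simp [coord]

lemma coord_rTensor (g : L →ₗ[R] L') (i : Fin b) (z : L ⊗[R] (Fin b → R)) :
    coord i (g.rTensor (Fin b → R) z) = g (coord i z) := by
  induction z using TensorProduct.induction_on with
  | zero => simp
  | tmul l f => simp [coord_tmul]
  | add x y hx hy => simp [hx, hy]

lemma sum_coord (z : L ⊗[R] (Fin b → R)) :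
    ∑ i, coord i z ⊗ₜ[R] (Pi.single i (1 : R) : Fin b → R) = z := by
  induction z using TensorProduct.induction_on with
  | zero => simp
  | tmul l f =>
    simp_rw [coord_tmul, TensorProduct.smul_tmul, ← TensorProduct.tmul_sum]
    congr 1
    ext j; simp [Finset.sum_apply, Pi.single_apply]
  | add x y hx hy =>
    simp_rw [map_add, TensorProduct.add_tmul, Finset.sum_add_distrib, hx, hy]

lemma ext_coord {z z' : L ⊗[R] (Fin b → R)} (h : ∀ i, coord i z = coord i z') : z = z' := by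
  rw [← sum_coord z, ← sum_coord z']
  simp_rw [h]

lemma coord_sum_tmul (ζ : Fin b → L) (i : Fin b) :
    coord i (∑ j, ζ j ⊗ₜ[R] (Pi.single j (1 : R) : Fin b → R)) = ζ i := by
  classical
  rw [map_sum]
  simp_rw [coord_tmul, Pi.single_apply]
  rw [Finset.sum_eq_single i]
  · simp
  · intro j _ hj; rw [if_neg (Ne.symm hj), zero_smul]
  · intro h; exact absurd (Finset.mem_univ i) h

end coords



section lim
variable {R : Type u} [CommRing R] (F : ℕᵒᵖ ⥤ ModuleCat.{u} R)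

lemma limit_ext' (x y : ↑(limit F)) (h : ∀ j, (limit.π F j).hom x = (limit.π F j).hom y) :
    x = y :=
  Concrete.limit_ext F x y h

lemma exists_limit_elt (a : ∀ j, F.obj j)
    (ha : ∀ {i j : ℕᵒᵖ} (f : i ⟶ j), (F.map f).hom (a i) = a j) :
    ∃ x : ↑(limit F), ∀ j, (limit.π F j).hom x = a j := by
  let s : (F ⋙ forget (ModuleCat.{u} R)).sections := ⟨fun j => a j, fun {i j} f => ha f⟩
  refine ⟨(Types.isLimitEquivSections
    (isLimitOfPreserves (forget (ModuleCat.{u} R)) (limit.isLimit F))).symm s, fun j => ?_⟩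
  exact Types.isLimitEquivSections_symm_apply
    (isLimitOfPreserves (forget (ModuleCat.{u} R)) (limit.isLimit F)) s j

lemma limit_w_apply {i j : ℕᵒᵖ} (f : i ⟶ j) (x : ↑(limit F)) :
    (F.map f).hom ((limit.π F i).hom x) = (limit.π F j).hom x :=
  ConcreteCategory.congr_hom (limit.w F f) x

end lim


end Groth.Agent.Lib.H2LimTensor
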