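import Mathlib

set_option autoImplicit false
universe u v
open Module

namespace Groth.Agent.Lib.H2PrimElt

section card
variable (K : Type u) (L : Type u) [Field K] [CommRing L] [Algebra K L] [Module.Finite K L]
  [IsReduced L] [Algebra.IsSeparable K L] (Ω : Type v) [Field Ω] [Algebra K Ω] [IsAlgClosed Ω]

theorem finrank_le_card_algHom : finrank K L ≤ Nat.card (L →ₐ[K] Ω) := by
  classical
  have hart : IsArtinianRing L := isArtinian_of_tower K inferInstance
  let inst (m : MaximalSpectrum L) : Field (L ⧸ m.asIdeal) := Ideal.Quotient.field m.asIdeal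
  let e : L ≃ₐ[K] Π m : MaximalSpectrum L, L ⧸ m.asIdeal :=
    (IsArtinianRing.equivPi L).restrictScalars K
  have hfin : Finite (MaximalSpectrum L) := inferInstance
  have := Fintype.ofFinite (MaximalSpectrum L)
  have hsep : ∀ m : MaximalSpectrum L, Algebra.IsSeparable K (L ⧸ m.asIdeal) := by
    intro m
    refine ⟨fun x => ?_⟩
    obtain ⟨y, rfl⟩ := Ideal.Quotient.mk_surjective x
    have hy : IsSeparable K y := Algebra.IsSeparable.isSeparable K y
    have h0 : Polynomial.aeval (Ideal.Quotient.mk m.asIdeal y) (minpoly K y) = 0 := by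
      have := Polynomial.aeval_algHom_apply (Ideal.Quotient.mkₐ K m.asIdeal) y (minpoly K y)
      rw [minpoly.aeval, map_zero] at this
      exact this
    exact hy.of_dvd (minpoly.dvd K _ h0)
  have hcard : ∀ m : MaximalSpectrum L,
      Nat.card ((L ⧸ m.asIdeal) →ₐ[K] Ω) = finrank K (L ⧸ m.asIdeal) := by
    intro m
    have := hsep m
    exact AlgHom.natCard_of_splits K (L ⧸ m.asIdeal) Ω (fun _ => IsAlgClosed.splits _)
  -- the injection
  let ι : (Σ m : MaximalSpectrum L, ((L ⧸ m.asIdeal) →ₐ[K] Ω)) → (L →ₐ[K] Ω) :=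
    fun p => p.2.comp (Ideal.Quotient.mkₐ K p.1.asIdeal)
  have hι : Function.Injective ι := by
    rintro ⟨m, τ⟩ ⟨m', τ'⟩ h
    have hker : ∀ (m : MaximalSpectrum L) (τ : (L ⧸ m.asIdeal) →ₐ[K] Ω),
        RingHom.ker (ι ⟨m, τ⟩ : L →+* Ω) = m.asIdeal := by
      intro m τ
      ext x
      rw [RingHom.mem_ker]
      show τ (Ideal.Quotient.mk m.asIdeal x) = 0 ↔ _
      rw [map_eq_zero_iff τ τ.toRingHom.injective, Ideal.Quotient.eq_zero_iff_mem]
    have hm : m = m' := by
      apply MaximalSpectrum.ext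
      rw [← hker m τ, ← hker m' τ', h]
    subst hm
    congr 1
    apply AlgHom.ext
    intro x
    obtain ⟨y, rfl⟩ := Ideal.Quotient.mk_surjective x
    exact DFunLike.congr_fun h y
  have h1 : Nat.card (Σ m : MaximalSpectrum L, ((L ⧸ m.asIdeal) →ₐ[K] Ω)) = finrank K L := by
    rw [Nat.card_sigma]
    simp_rw [hcard]
    rw [e.toLinearEquiv.finrank_eq, Module.finrank_pi_fintype]
  rw [← h1]
  exact Nat.card_le_card_of_injective ι hι

end card

end Groth.Agent.Lib.H2PrimElt
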