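import Groth.Prelude.Def_W4bk4goldsch23FF
import Mathlib.NumberTheory.RatFunc.Ostrowski

set_option autoImplicit false

namespace Groth.Agent.Lib.H2RatFuncPlace

open WithZero Polynomial IsDedekindDomain HeightOneSpectrum

section General

variable {K : Type*} [Field K]

/-- A surjective `ℤᵐ⁰`-valued valuation is rank-one discrete. -/
theorem isRankOneDiscrete_of_surjective (v : Valuation K ℤᵐ⁰) (hv : Function.Surjective v) :
    v.IsRankOneDiscrete := by
  refine ⟨⟨Units.mk0 (exp (-1 : ℤ)) (by simp), ?_, ?_⟩⟩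
  · ext n
    simp only [Subgroup.mem_zpowers_iff, MonoidWithZeroHom.mem_valueGroup_iff_of_comm]
    constructor
    · intro _
      obtain ⟨x, hx⟩ := hv (n : ℤᵐ⁰)
      exact ⟨1, by simp, x, by simp [hx]⟩
    · intro _
      refine ⟨-(log (n : ℤᵐ⁰)), ?_⟩
      ext
      simp [exp_log]
  · rw [← Units.val_lt_val]
    simp only [Units.val_mk0, Units.val_one, ← exp_zero]
    exact exp_lt_exp.mpr (by norm_num)

/-- The value of a nonzero element is `exp` of its log. -/
theorem val_eq_exp_log (v : Valuation K ℤᵐ⁰) {x : K} (hx : x ≠ 0) : v x = exp (log (v x)) :=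
  (exp_log ((v.ne_zero_iff).mpr hx)).symm

/-- Equivalent surjective `ℤᵐ⁰`-valued valuations are equal. -/
theorem eq_of_isEquiv_of_surjective {v w : Valuation K ℤᵐ⁰} (hv : Function.Surjective v)
    (hw : Function.Surjective w) (h : v.IsEquiv w) : v = w := by
  obtain ⟨π, hπ⟩ := hv (exp (-1))
  obtain ⟨ϖ, hϖ⟩ := hw (exp (-1))
  have hπ0 : π ≠ 0 := by
    rintro rfl
    rw [map_zero] at hπ
    exact exp_ne_zero hπ.symm
  have hϖ0 : ϖ ≠ 0 := by
    rintro rfl
    rw [map_zero] at hϖ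
    exact exp_ne_zero hϖ.symm
  have h1 : ∀ x : K, v x = 1 ↔ w x = 1 := fun x => Valuation.isEquiv_iff_val_eq_one.mp h
  have hlt : ∀ x : K, v x < 1 ↔ w x < 1 := fun x => Valuation.isEquiv_iff_val_lt_one.mp h
  -- w π = exp (-n), v ϖ = exp (-m)
  set n : ℤ := -log (w π) with hn
  set m : ℤ := -log (v ϖ) with hm
  have hwπ : w π = exp (-n) := by rw [hn, neg_neg]; exact val_eq_exp_log w hπ0
  have hvϖ : v ϖ = exp (-m) := by rw [hm, neg_neg]; exact val_eq_exp_log v hϖ0
  have hn1 : 1 ≤ n := by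
    have : w π < 1 := (hlt π).mp (by rw [hπ, ← exp_zero]; exact exp_lt_exp.mpr (by norm_num))
    rw [hwπ, ← exp_zero, exp_lt_exp] at this
    omega
  have hm1 : 1 ≤ m := by
    have : v ϖ < 1 := (hlt ϖ).mpr (by rw [hϖ, ← exp_zero]; exact exp_lt_exp.mpr (by norm_num))
    rw [hvϖ, ← exp_zero, exp_lt_exp] at this
    omega
  have hv1 : v (π ^ m / ϖ) = 1 := by
    rw [map_div₀, map_zpow₀, hπ, hvϖ, ← exp_zsmul, div_eq_one_iff_eq (by simp)]
    congr 1
    simp
  have hw1 : w (π ^ m / ϖ) = 1 := (h1 _).mp hv1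
  rw [map_div₀, map_zpow₀, hwπ, hϖ, ← exp_zsmul, div_eq_one_iff_eq (by simp), exp_inj] at hw1
  have hnm : n * m = 1 := by
    simp only [smul_eq_mul] at hw1
    linarith
  have hn' : n = 1 := Int.eq_one_of_mul_eq_one_right (by omega) hnm
  rw [hn', ] at hwπ
  ext x
  by_cases hx : x = 0
  · simp [hx]
  · have hvx := val_eq_exp_log v hx
    set a := log (v x)
    have e1 : v (x * π ^ a) = 1 := by
      rw [map_mul, map_zpow₀, hπ, hvx, ← exp_zsmul, ← exp_add]
      simp
    have e2 := (h1 _).mp e1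
    rw [map_mul, map_zpow₀, hwπ, ← exp_zsmul] at e2
    rw [hvx]
    have : w x = w x * exp (a • (-1 : ℤ)) * exp a := by
      rw [mul_assoc, ← exp_add]; simp
    rw [this, e2, one_mul]

end General

section RatFunc

variable {k : Type*} [Field k]

theorem place_val_algebraMap (P : FunFld.Place k (RatFunc k)) {c : k} (hc : c ≠ 0) :
    P.1 (algebraMap k (RatFunc k) c) = 1 := by
  refine le_antisymm (P.2.1 c) ?_
  have h1 := P.2.1 c⁻¹
  have h2 : P.1 (algebraMap k (RatFunc k) c) * P.1 (algebraMap k (RatFunc k) c⁻¹) = 1 := by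
    rw [← map_mul, ← map_mul, mul_inv_cancel₀ hc, map_one, map_one]
  calc (1 : ℤᵐ⁰) = P.1 (algebraMap k (RatFunc k) c) * P.1 (algebraMap k (RatFunc k) c⁻¹) := h2.symm
    _ ≤ P.1 (algebraMap k (RatFunc k) c) * 1 := by gcongr
    _ = _ := mul_one _

instance place_isTrivialOn (P : FunFld.Place k (RatFunc k)) : P.1.IsTrivialOn k :=
  ⟨fun _ hc => place_val_algebraMap P hc⟩

theorem inftyValuation_surjective [DecidableEq (RatFunc k)] : Function.Surjective (RatFunc.inftyValuation k) := by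
  intro γ
  by_cases hγ : γ = 0
  · exact ⟨0, by simp [hγ]⟩
  · refine ⟨RatFunc.X ^ (log γ), ?_⟩
    rw [RatFunc.inftyValuation.X_zpow, exp_log hγ]

/-- Classification of the places of `k(x)/k` (Ostrowski): a place is either the place at infinity
or the adic valuation of a maximal ideal of `k[x]`. -/
theorem place_cases [DecidableEq (RatFunc k)] (P : FunFld.Place k (RatFunc k)) :
    (1 < P.1 RatFunc.X ∧ P.1 = RatFunc.inftyValuation k) ∨
    (P.1 RatFunc.X ≤ 1 ∧ ∃ u : HeightOneSpectrum k[X], P.1 = u.valuation (RatFunc k)) := by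
  have := isRankOneDiscrete_of_surjective P.1 P.2.2
  rcases lt_or_ge 1 (P.1 RatFunc.X) with hlt | hle
  · left
    refine ⟨hlt, eq_of_isEquiv_of_surjective P.2.2 inftyValuation_surjective ?_⟩
    exact RatFunc.valuation_isEquiv_inftyValuation_of_one_lt_valuation_X hlt
  · right
    obtain ⟨u, hu⟩ := RatFunc.valuation_isEquiv_adic_of_valuation_X_le_one hle
    exact ⟨hle, u, eq_of_isEquiv_of_surjective P.2.2 (u.valuation_surjective _) hu⟩

end RatFunc

end Groth.Agent.Lib.H2RatFuncPlace
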