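import Mathlib
import Groth.Agent.Lib.SamuelPoly

/-!
# Additivity of Samuel multiplicities on short exact sequences

`A` Noetherian, `0 → M' → M → M'' → 0` exact, `I` an ideal:
* `length_quot_eq_add`: `length (M/I^t M) = length (M'/f⁻¹(I^t M)) + length (M''/I^t M'')`;
* `exists_artinRees`: `I^t M' ≤ f⁻¹(I^t M) ≤ I^(t-c) M'` for `t ≥ c`;
* `tendsto_add`: the normalized limits add up.
-/

set_option autoImplicit false
universe u

open Filter Topology

namespace Groth.Agent.Lib.H2SamuelAdd

open Groth.Agent.Lib.EulerLES Groth.Agent.Lib.HilbertSamuel Groth.Agent.Lib.SamuelPoly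

section Exact

variable {A : Type u} [CommRing A] (I : Ideal A)
  {M' M M'' : Type u} [AddCommGroup M'] [Module A M'] [AddCommGroup M] [Module A M]
  [AddCommGroup M''] [Module A M'']
  (f : M' →ₗ[A] M) (g : M →ₗ[A] M'') (hf : Function.Injective f) (hg : Function.Surjective g)
  (hfg : LinearMap.range f = LinearMap.ker g)

/-- the contracted filtration on `M'` -/
abbrev K (t : ℕ) : Submodule A M' := (I ^ t • (⊤ : Submodule A M)).comap f

include hg hfg in
theorem length_quot_eq_add (t : ℕ) :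
    Module.length A (M ⧸ (I ^ t • (⊤ : Submodule A M))) =
      Module.length A (M' ⧸ K I f t) + Module.length A (M'' ⧸ (I ^ t • (⊤ : Submodule A M''))) := by
  set φ : (M' ⧸ K I f t) →ₗ[A] (M ⧸ (I ^ t • (⊤ : Submodule A M))) :=
    Submodule.mapQ _ _ f (le_refl _) with hφ
  set ψ : (M ⧸ (I ^ t • (⊤ : Submodule A M))) →ₗ[A] (M'' ⧸ (I ^ t • (⊤ : Submodule A M''))) :=
    Submodule.mapQ _ _ g (Submodule.smul_top_le_comap_smul_top (I ^ t) g) with hψ
  have hφinj : Function.Injective φ := by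
    rw [← LinearMap.ker_eq_bot, hφ, Submodule.ker_mapQ]
    simp
  have hψsurj : Function.Surjective ψ := by
    intro y
    obtain ⟨y, rfl⟩ := Submodule.Quotient.mk_surjective _ y
    obtain ⟨x, rfl⟩ := hg y
    exact ⟨Submodule.Quotient.mk x, rfl⟩
  have hex : Function.Exact φ ψ := by
    intro y
    constructor
    · intro hy
      obtain ⟨y, rfl⟩ := Submodule.Quotient.mk_surjective _ y
      have h1 : g y ∈ I ^ t • (⊤ : Submodule A M'') := by
        have : ψ (Submodule.Quotient.mk y) = Submodule.Quotient.mk (g y) := rfl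
        rw [this] at hy
        exact (Submodule.Quotient.mk_eq_zero _).mp hy
      have h2 : I ^ t • (⊤ : Submodule A M'') = (I ^ t • (⊤ : Submodule A M)).map g := by
        rw [Submodule.map_smul'', Submodule.map_top, LinearMap.range_eq_top.mpr hg]
      rw [h2] at h1
      obtain ⟨z, hz, hzy⟩ := h1
      have h3 : y - z ∈ LinearMap.ker g := by
        rw [LinearMap.mem_ker, map_sub, hzy, sub_self]
      rw [← hfg] at h3
      obtain ⟨x, hx⟩ := h3
      refine ⟨Submodule.Quotient.mk x, ?_⟩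
      show Submodule.Quotient.mk (f x) = Submodule.Quotient.mk y
      rw [hx, Submodule.Quotient.eq]
      have : y - z - y = -z := by abel
      rw [this]
      exact neg_mem hz
    · rintro ⟨x, rfl⟩
      obtain ⟨x, rfl⟩ := Submodule.Quotient.mk_surjective _ x
      show Submodule.Quotient.mk (g (f x)) = 0
      have : g (f x) = 0 := by
        have : f x ∈ LinearMap.ker g := hfg ▸ LinearMap.mem_range_self f x
        exact this
      rw [this]
      rfl
  exact Module.length_eq_add_of_exact φ ψ hφinj hψsurj hex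

theorem pow_smul_le_K (t : ℕ) : I ^ t • (⊤ : Submodule A M') ≤ K I f t :=
  Submodule.smul_top_le_comap_smul_top (I ^ t) f

include hf in
theorem exists_artinRees [IsNoetherianRing A] [Module.Finite A M] :
    ∃ c : ℕ, ∀ t : ℕ, c ≤ t → K I f t ≤ I ^ (t - c) • (⊤ : Submodule A M') := by
  obtain ⟨c, hc⟩ := Ideal.exists_pow_inf_eq_pow_smul I (LinearMap.range f)
  refine ⟨c, fun t ht x hx => ?_⟩
  have h1 : f x ∈ I ^ t • (⊤ : Submodule A M) ⊓ LinearMap.range f := ⟨hx, LinearMap.mem_range_self f x⟩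
  rw [hc t ht] at h1
  have h2 : I ^ (t - c) • (I ^ c • (⊤ : Submodule A M) ⊓ LinearMap.range f) ≤
      (I ^ (t - c) • (⊤ : Submodule A M')).map f := by
    rw [Submodule.map_smul'', Submodule.map_top]
    exact Submodule.smul_mono le_rfl inf_le_right
  obtain ⟨y, hy, hyx⟩ := h2 h1
  rw [← hf hyx]
  exact hy

end Exact

section Limit

variable {A : Type u} [CommRing A] [IsNoetherianRing A] [IsLocalRing A] (I : Ideal A)
  (n₀ : ℕ) (hn₀ : IsLocalRing.maximalIdeal A ^ n₀ ≤ I)

include hn₀ in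
theorem fl (N : Type u) [AddCommGroup N] [Module A N] [Module.Finite A N] (t : ℕ) :
    IsFiniteLength A (N ⧸ (I ^ t • (⊤ : Submodule A N))) := by
  haveI : Finite (MaximalSpectrum A) := inferInstance
  exact isFiniteLength_quot_pow_smul N I n₀ (by rwa [IsLocalRing.ringJacobson_eq_maximalIdeal]) t

/-- the normalized Samuel function -/
noncomputable def sam (N : Type u) [AddCommGroup N] [Module A N] (d t : ℕ) : ℝ :=
  (d.factorial : ℝ) * ((Module.length A (N ⧸ (I ^ t • (⊤ : Submodule A N)))).toNat : ℝ) / (t : ℝ) ^ d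

variable {M' M M'' : Type u} [AddCommGroup M'] [Module A M'] [AddCommGroup M] [Module A M]
  [AddCommGroup M''] [Module A M''] [Module.Finite A M'] [Module.Finite A M] [Module.Finite A M'']
  (f : M' →ₗ[A] M) (g : M →ₗ[A] M'') (hf : Function.Injective f) (hg : Function.Surjective g)
  (hfg : LinearMap.range f = LinearMap.ker g)

include hn₀ hf hg hfg in
theorem toNat_bounds :
    ∃ c : ℕ, ∀ t : ℕ, c ≤ t →
      (Module.length A (M' ⧸ (I ^ (t - c) • (⊤ : Submodule A M')))).toNat +
          (Module.length A (M'' ⧸ (I ^ t • (⊤ : Submodule A M'')))).toNat ≤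
        (Module.length A (M ⧸ (I ^ t • (⊤ : Submodule A M)))).toNat ∧
      (Module.length A (M ⧸ (I ^ t • (⊤ : Submodule A M)))).toNat ≤
        (Module.length A (M' ⧸ (I ^ t • (⊤ : Submodule A M')))).toNat +
          (Module.length A (M'' ⧸ (I ^ t • (⊤ : Submodule A M'')))).toNat := by
  obtain ⟨c, hc⟩ := exists_artinRees I f hf
  refine ⟨c, fun t ht => ?_⟩
  have hadd := length_quot_eq_add I f g hg hfg t
  have h1 : Module.length A (M' ⧸ (I ^ (t - c) • (⊤ : Submodule A M'))) ≤
      Module.length A (M' ⧸ K I f t) := length_quot_le_of_le M' (hc t ht)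
  have h2 : Module.length A (M' ⧸ K I f t) ≤
      Module.length A (M' ⧸ (I ^ t • (⊤ : Submodule A M'))) :=
    length_quot_le_of_le M' (pow_smul_le_K I f t)
  have f1 := Module.length_ne_top_iff.mpr (fl I n₀ hn₀ M' t)
  have f2 := Module.length_ne_top_iff.mpr (fl I n₀ hn₀ M'' t)
  have f3 := Module.length_ne_top_iff.mpr (fl I n₀ hn₀ M t)
  have f4 := Module.length_ne_top_iff.mpr (fl I n₀ hn₀ M' (t - c))
  have f5 : Module.length A (M' ⧸ K I f t) ≠ ⊤ := ne_top_of_le_ne_top f1 h2
  rw [hadd]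
  constructor
  · rw [← ENat.toNat_add f4 f2]
    exact ENat.toNat_le_toNat (add_le_add_left h1 _) (WithTop.add_ne_top.mpr ⟨f5, f2⟩)
  · rw [← ENat.toNat_add f1 f2]
    exact ENat.toNat_le_toNat (add_le_add_left h2 _) (WithTop.add_ne_top.mpr ⟨f1, f2⟩)

theorem tendsto_ratio (c d : ℕ) :
    Tendsto (fun t : ℕ => (((t - c : ℕ) : ℝ) / (t : ℝ)) ^ d) atTop (𝓝 1) := by
  have h1 : Tendsto (fun t : ℕ => (1 : ℝ) - (c : ℝ) / (t : ℝ)) atTop (𝓝 (1 - 0)) :=
    tendsto_const_nhds.sub (tendsto_const_div_atTop_nhds_zero_nat (c : ℝ))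
  rw [sub_zero] at h1
  have h2 : Tendsto (fun t : ℕ => ((t - c : ℕ) : ℝ) / (t : ℝ)) atTop (𝓝 1) := by
    refine h1.congr' ?_
    filter_upwards [eventually_ge_atTop (c + 1)] with t ht
    have ht0 : (t : ℝ) ≠ 0 := by
      have : 0 < t := by omega
      positivity
    rw [Nat.cast_sub (by omega : c ≤ t)]
    field_simp
  simpa using h2.pow d

include hn₀ hf hg hfg in
/-- **additivity of the Samuel multiplicity** on short exact sequences -/
theorem tendsto_add (d : ℕ) (e' e'' : ℝ) (h' : Tendsto (sam I M' d) atTop (𝓝 e'))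
    (h'' : Tendsto (sam I M'' d) atTop (𝓝 e'')) :
    Tendsto (sam I M d) atTop (𝓝 (e' + e'')) := by
  obtain ⟨c, hc⟩ := toNat_bounds I n₀ hn₀ f g hf hg hfg
  have hlo : Tendsto (fun t : ℕ => sam I M' d (t - c) * (((t - c : ℕ) : ℝ) / (t : ℝ)) ^ d +
      sam I M'' d t) atTop (𝓝 (e' * 1 + e'')) :=
    ((h'.comp (tendsto_sub_atTop_nat c)).mul (tendsto_ratio c d)).add h''
  rw [mul_one] at hlo
  have hhi : Tendsto (fun t : ℕ => sam I M' d t + sam I M'' d t) atTop (𝓝 (e' + e'')) :=
    h'.add h''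
  refine tendsto_of_tendsto_of_tendsto_of_le_of_le' hlo hhi ?_ ?_
  · filter_upwards [eventually_ge_atTop (c + 1)] with t ht
    have ht0 : (0 : ℝ) < (t : ℝ) := by
      have : 0 < t := by omega
      positivity
    have htc : (0 : ℝ) < ((t - c : ℕ) : ℝ) := by
      have : 0 < t - c := by omega
      positivity
    have h1 := (hc t (by omega)).1
    have h2 : ((Module.length A (M' ⧸ (I ^ (t - c) • (⊤ : Submodule A M')))).toNat : ℝ) +
        ((Module.length A (M'' ⧸ (I ^ t • (⊤ : Submodule A M'')))).toNat : ℝ) ≤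
        ((Module.length A (M ⧸ (I ^ t • (⊤ : Submodule A M)))).toNat : ℝ) := by exact_mod_cast h1
    unfold sam
    have h3 : (d.factorial : ℝ) * ((Module.length A (M' ⧸ (I ^ (t - c) • (⊤ : Submodule A M')))).toNat : ℝ) /
        (((t - c : ℕ) : ℝ)) ^ d * ((((t - c : ℕ) : ℝ)) / (t : ℝ)) ^ d =
        (d.factorial : ℝ) * ((Module.length A (M' ⧸ (I ^ (t - c) • (⊤ : Submodule A M')))).toNat : ℝ) /
          (t : ℝ) ^ d := by
      rw [div_pow]
      field_simp
    rw [h3, ← add_div, ← mul_add]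
    have hfac : (0 : ℝ) ≤ (d.factorial : ℝ) := by positivity
    gcongr
  · filter_upwards [eventually_ge_atTop c] with t ht
    have h1 := (hc t ht).2
    have h2 : ((Module.length A (M ⧸ (I ^ t • (⊤ : Submodule A M)))).toNat : ℝ) ≤
        ((Module.length A (M' ⧸ (I ^ t • (⊤ : Submodule A M')))).toNat : ℝ) +
        ((Module.length A (M'' ⧸ (I ^ t • (⊤ : Submodule A M'')))).toNat : ℝ) := by exact_mod_cast h1
    unfold sam
    rw [← add_div, ← mul_add]
    have hfac : (0 : ℝ) ≤ (d.factorial : ℝ) := by positivity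
    gcongr

end Limit

end Groth.Agent.Lib.H2SamuelAdd
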