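import Groth.Agent.Lib.DimFormulaLocal
import Groth.Agent.Lib.FibreStalkChart
import Groth.Agent.Lib.H30DimRel
import Groth.Agent.Lib.H30GenFib
import Groth.Prelude.Def_Cyc
import Mathlib

/-!
helper30: the dimension formula `dim O_{X,x}/𝔭_ζ + trdeg κ(x)/κ(fx) = dim O_{S,fx}/𝔭_{fζ} +
trdeg κ(ζ)/κ(fζ)` for an arbitrary generization `ζ ⤳ x` (no irreducibility), when `O_{S,fx}` is
universally catenary; dictionary between primes of the local ring and generizations.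
-/

set_option autoImplicit false
universe u
open CategoryTheory AlgebraicGeometry

namespace Groth.Agent.Lib.H30DimFormulaGen

open Groth.Agent.Lib.DimFormulaLocal Groth.Agent.Lib.FibreStalkChart Groth.Agent.Lib.H30DimRel
  Groth.Agent.Lib.DimIneqScheme Groth.Agent.Lib.DimFormulaScheme

section Dict

variable {X : Scheme.{u}}

/-- the prime of `ζ` in an affine chart generates the prime of `ζ` in the local ring at `x` -/
theorem map_primeIdealOf_eq_ker {U : X.Opens} (hU : IsAffineOpen U) (x ζ : X) (hx : x ∈ U)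
    (h : ζ ⤳ x) (hζ : ζ ∈ U) :
    letI := X.presheaf.algebra_section_stalk ⟨x, hx⟩
    (hU.primeIdealOf ⟨ζ, hζ⟩).asIdeal.map (algebraMap Γ(X, U) (X.presheaf.stalk x)) =
      RingHom.ker (Cyc.specMap x ζ h) := by
  letI := X.presheaf.algebra_section_stalk ⟨x, hx⟩
  haveI := hU.isLocalization_stalk ⟨x, hx⟩
  have hcomap : (RingHom.ker (Cyc.specMap x ζ h)).comap (algebraMap Γ(X, U) (X.presheaf.stalk x)) =
      (hU.primeIdealOf ⟨ζ, hζ⟩).asIdeal := by
    rw [hU.primeIdealOf_eq_map_closedPoint ⟨ζ, hζ⟩]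
    ext a
    rw [Ideal.mem_comap, RingHom.mem_ker]
    show (X.residue ζ) ((X.presheaf.stalkSpecializes h) ((X.presheaf.germ U x hx) a)) = 0 ↔
      (X.presheaf.germ U ζ hζ) a ∈ IsLocalRing.maximalIdeal _
    have h1 : (X.presheaf.stalkSpecializes h) ((X.presheaf.germ U x hx) a) =
        (X.presheaf.germ U ζ hζ) a := by
      rw [← CommRingCat.comp_apply, TopCat.Presheaf.germ_stalkSpecializes]
    rw [h1]
    exact IsLocalRing.residue_eq_zero_iff _
  rw [← hcomap]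
  exact IsLocalization.map_under (hU.primeIdealOf ⟨x, hx⟩).asIdeal.primeCompl _ _

theorem primeIdealOf_le_of_specializes {U : X.Opens} (hU : IsAffineOpen U) (x ζ : X) (hx : x ∈ U)
    (h : ζ ⤳ x) (hζ : ζ ∈ U) :
    (hU.primeIdealOf ⟨ζ, hζ⟩).asIdeal ≤ (hU.primeIdealOf ⟨x, hx⟩).asIdeal := by
  have h0 : hU.fromSpec (hU.primeIdealOf ⟨ζ, hζ⟩) ⤳ hU.fromSpec (hU.primeIdealOf ⟨x, hx⟩) := by
    rw [hU.fromSpec_primeIdealOf, hU.fromSpec_primeIdealOf]
    exact h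
  have h1 := (hU.fromSpec.isOpenEmbedding.isInducing.specializes_iff).mp h0
  exact (PrimeSpectrum.le_iff_specializes _ _).mpr h1

theorem ringKrullDim_locQuot_eq_height {U : X.Opens} (hU : IsAffineOpen U) (x ζ : X) (hx : x ∈ U)
    (h : ζ ⤳ x) (hζ : ζ ∈ U) :
    ringKrullDim (Cyc.LocQuot x ζ h) =
      ((hU.primeIdealOf ⟨x, hx⟩).asIdeal.map
        (Ideal.Quotient.mk (hU.primeIdealOf ⟨ζ, hζ⟩).asIdeal)).height := by
  letI := X.presheaf.algebra_section_stalk ⟨x, hx⟩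
  haveI := hU.isLocalization_stalk ⟨x, hx⟩
  have h1 := ringKrullDim_quotient_map_eq_height (hU.primeIdealOf ⟨ζ, hζ⟩).asIdeal
    (hU.primeIdealOf ⟨x, hx⟩).asIdeal (primeIdealOf_le_of_specializes hU x ζ hx h hζ)
    (X.presheaf.stalk x)
  rw [← h1]
  unfold Cyc.LocQuot
  rw [map_primeIdealOf_eq_ker hU x ζ hx h hζ]

end Dict

section Formula

variable {X S : Scheme.{u}}

/-- **general dimension formula**: `ζ ⤳ x` arbitrary, `O_{S,f x}` universally catenary -/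
theorem gen_formula_card (f : X ⟶ S) [IsLocallyNoetherian S] [LocallyOfFiniteType f] (x : X)
    (hUC : CAlg.IsUniversallyCatenary (S.presheaf.stalk (f x))) (ζ : X) (h : ζ ⤳ x) :
    ∃ a b : ℕ, ringKrullDim (Cyc.LocQuot x ζ h) = a ∧
      ringKrullDim (Cyc.LocQuot (f x) (f ζ) (h.map f.continuous)) = b ∧
      (letI := (f.residueFieldMap x).hom.toAlgebra;
       letI := (f.residueFieldMap ζ).hom.toAlgebra;
      (a : Cardinal.{u}) + Algebra.trdeg (S.residueField (f x)) (X.residueField x) =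
        b + Algebra.trdeg (S.residueField (f ζ)) (X.residueField ζ)) := by
  obtain ⟨V, hV, hfxV⟩ : ∃ V : S.Opens, IsAffineOpen V ∧ f x ∈ V := by
    obtain ⟨_, ⟨V, hV, rfl⟩, hxV, -⟩ := S.isBasis_affineOpens.exists_subset_of_mem_open
      (Set.mem_univ (f x)) isOpen_univ
    exact ⟨V, hV, hxV⟩
  obtain ⟨U, hU, hx, e⟩ : ∃ U : X.Opens, IsAffineOpen U ∧ x ∈ U ∧ U ≤ f ⁻¹ᵁ V := by
    obtain ⟨_, ⟨U, hU, rfl⟩, hxU, hUV⟩ := X.isBasis_affineOpens.exists_subset_of_mem_open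
      (show x ∈ ((f ⁻¹ᵁ V : X.Opens) : Set X) from hfxV) (f ⁻¹ᵁ V).isOpen
    exact ⟨U, hU, hxU, hUV⟩
  have hζU : ζ ∈ U := h.mem_open U.isOpen hx
  letI alg := (f.appLE V U e).hom.toAlgebra
  haveI : IsNoetherianRing Γ(S, V) := IsLocallyNoetherian.component_noetherian ⟨V, hV⟩
  haveI : Algebra.FiniteType Γ(S, V) Γ(X, U) := f.finiteType_appLE hV hU e
  have hunder : (hU.primeIdealOf ⟨x, hx⟩).asIdeal.under Γ(S, V) =
      (hV.primeIdealOf ⟨f x, e hx⟩).asIdeal :=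
    congrArg PrimeSpectrum.asIdeal (IsAffineOpen.comap_primeIdealOf_appLE V hV U hU e hx)
  have hR : CAlg.IsUniversallyCatenary
      (Localization.AtPrime ((hU.primeIdealOf ⟨x, hx⟩).asIdeal.under Γ(S, V))) := by
    refine uc_atPrime_of_eq _ _ hunder.symm ?_
    letI := S.presheaf.algebra_section_stalk ⟨f x, e hx⟩
    haveI := hV.isLocalization_stalk ⟨f x, e hx⟩
    let E : S.presheaf.stalk (f x) ≃ₐ[Γ(S, V)]
        Localization.AtPrime (hV.primeIdealOf ⟨f x, e hx⟩).asIdeal :=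
      IsLocalization.algEquiv (hV.primeIdealOf ⟨f x, e hx⟩).asIdeal.primeCompl _ _
    exact Groth.Agent.Lib.ComplUC33.isUniversallyCatenary_of_surjective
      (E : S.presheaf.stalk (f x) →+* _) E.surjective hUC
  have hle : (hU.primeIdealOf ⟨ζ, hζU⟩).asIdeal ≤ (hU.primeIdealOf ⟨x, hx⟩).asIdeal :=
    primeIdealOf_le_of_specializes hU x ζ hx h hζU
  have hmain := eq_of_prime_le_local (hU.primeIdealOf ⟨x, hx⟩).asIdeal hR
    (hU.primeIdealOf ⟨ζ, hζU⟩).asIdeal hle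
  rw [← trdeg_residueField_eq f hU hV e x hx, ← trdeg_residueField_eq f hU hV e ζ hζU] at hmain
  have hunderζ : (hU.primeIdealOf ⟨ζ, hζU⟩).asIdeal.under Γ(S, V) =
      (hV.primeIdealOf ⟨f ζ, e hζU⟩).asIdeal :=
    congrArg PrimeSpectrum.asIdeal (IsAffineOpen.comap_primeIdealOf_appLE V hV U hU e hζU)
  have hh1 := ringKrullDim_locQuot_eq_height hU x ζ hx h hζU
  have hh2 : ringKrullDim (Cyc.LocQuot (f x) (f ζ) (h.map f.continuous)) =
      (((hU.primeIdealOf ⟨x, hx⟩).asIdeal.under Γ(S, V)).map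
      (Ideal.Quotient.mk ((hU.primeIdealOf ⟨ζ, hζU⟩).asIdeal.under Γ(S, V)))).height := by
    rw [hunder, hunderζ]
    exact ringKrullDim_locQuot_eq_height hV (f x) (f ζ) (e hx) (h.map f.continuous) (e hζU)
  haveI : IsNoetherianRing Γ(X, U) := Algebra.FiniteType.isNoetherianRing Γ(S, V) Γ(X, U)
  haveI hq' : ((hU.primeIdealOf ⟨x, hx⟩).asIdeal.map
        (Ideal.Quotient.mk (hU.primeIdealOf ⟨ζ, hζU⟩).asIdeal)).IsPrime :=
    Groth.Agent.Lib.DimIneqCore.isPrime_map_mk _ _ hle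
  haveI hp' : (((hU.primeIdealOf ⟨x, hx⟩).asIdeal.under Γ(S, V)).map
      (Ideal.Quotient.mk ((hU.primeIdealOf ⟨ζ, hζU⟩).asIdeal.under Γ(S, V)))).IsPrime :=
    Groth.Agent.Lib.DimIneqCore.isPrime_map_mk _ _ (Ideal.comap_mono hle)
  obtain ⟨a, ha⟩ := ENat.ne_top_iff_exists.mp
    (Ideal.height_ne_top_of_isPrime (I := ((hU.primeIdealOf ⟨x, hx⟩).asIdeal.map
        (Ideal.Quotient.mk (hU.primeIdealOf ⟨ζ, hζU⟩).asIdeal))))
  obtain ⟨b, hb⟩ := ENat.ne_top_iff_exists.mp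
    (Ideal.height_ne_top_of_isPrime (I := (((hU.primeIdealOf ⟨x, hx⟩).asIdeal.under Γ(S, V)).map
      (Ideal.Quotient.mk ((hU.primeIdealOf ⟨ζ, hζU⟩).asIdeal.under Γ(S, V))))))
  refine ⟨a, b, ?_, ?_, ?_⟩
  · rw [hh1, ← ha]; rfl
  · rw [hh2, ← hb]; rfl
  · rw [← ha, ← hb] at hmain
    simpa using hmain

/-- the general dimension formula in `ℕ` -/
theorem gen_formula (f : X ⟶ S) [IsLocallyNoetherian S] [LocallyOfFiniteType f] (x : X)
    (hUC : CAlg.IsUniversallyCatenary (S.presheaf.stalk (f x))) (ζ : X) (h : ζ ⤳ x) :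
    ∃ a b : ℕ, ringKrullDim (Cyc.LocQuot x ζ h) = a ∧
      ringKrullDim (Cyc.LocQuot (f x) (f ζ) (h.map f.continuous)) = b ∧
      a + rt f x = b + rt f ζ := by
  obtain ⟨a, b, ha, hb, hab⟩ := gen_formula_card f x hUC ζ h
  refine ⟨a, b, ha, hb, ?_⟩
  rw [trdeg_eq_rt f x, trdeg_eq_rt f ζ] at hab
  exact_mod_cast hab

end Formula

end Groth.Agent.Lib.H30DimFormulaGen
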