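import Groth.Agent.Lib.H30DimFormulaGen
import Groth.Agent.Lib.DimFormulaScheme2
import Mathlib

/-!
helper30: the dimension inequality `dim O_{X,x}/𝔭_ζ + trdeg κ(x)/κ(fx) ≤ dim O_{S,fx}/𝔭_{fζ} +
trdeg κ(ζ)/κ(fζ)` for an arbitrary generization `ζ ⤳ x` over a locally Noetherian base.
-/

set_option autoImplicit false
universe u
open CategoryTheory AlgebraicGeometry

namespace Groth.Agent.Lib.H30DimIneqGen

open Cardinal Groth.Agent.Lib.DimFormulaLocal Groth.Agent.Lib.FibreStalkChart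
  Groth.Agent.Lib.H30DimRel Groth.Agent.Lib.DimIneqScheme Groth.Agent.Lib.DimFormulaScheme
  Groth.Agent.Lib.DimIneqCore Groth.Agent.Lib.TrdegTransfer Groth.Agent.Lib.H30DimFormulaGen

section Alg

variable {R B : Type u} [CommRing R] [CommRing B] [Algebra R B]

/-- The sharp inequality for the quotient by a prime `Q₀ ≤ q` of `B`. -/
theorem ineq_of_prime_le' [IsNoetherianRing R] [Algebra.FiniteType R B]
    (q : Ideal B) [q.IsPrime] (Q₀ : Ideal B) [Q₀.IsPrime] (hle : Q₀ ≤ q) :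
    ((q.map (Ideal.Quotient.mk Q₀)).height : Cardinal.{u}) +
        Algebra.trdeg (R ⧸ q.under R) (B ⧸ q) ≤
      (((q.under R).map (Ideal.Quotient.mk (Q₀.under R))).height : Cardinal.{u}) +
        Algebra.trdeg (R ⧸ Q₀.under R) (B ⧸ Q₀) := by
  have hPle : Q₀.under R ≤ q.under R := Ideal.comap_mono hle
  haveI hp' : ((q.under R).map (Ideal.Quotient.mk (Q₀.under R))).IsPrime :=
    isPrime_map_mk (Q₀.under R) (q.under R) hPle
  haveI hq' : (q.map (Ideal.Quotient.mk Q₀)).IsPrime := isPrime_map_mk Q₀ q hle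
  haveI : (q.map (Ideal.Quotient.mk Q₀)).LiesOver
      ((q.under R).map (Ideal.Quotient.mk (Q₀.under R))) := by
    constructor
    ext x
    obtain ⟨r, rfl⟩ := Ideal.Quotient.mk_surjective x
    have h1 : Ideal.Quotient.mk (Q₀.under R) r ∈
        (q.under R).map (Ideal.Quotient.mk (Q₀.under R)) ↔ r ∈ q.under R :=
      Ideal.mem_quotient_iff_mem hPle
    have h2 : Ideal.Quotient.mk (Q₀.under R) r ∈
        (q.map (Ideal.Quotient.mk Q₀)).under (R ⧸ Q₀.under R) ↔ algebraMap R B r ∈ q := by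
      change Ideal.Quotient.mk Q₀ (algebraMap R B r) ∈ q.map (Ideal.Quotient.mk Q₀) ↔ _
      exact Ideal.mem_quotient_iff_mem hle
    rw [h1, h2]
    rfl
  haveI : Algebra.FiniteType R (B ⧸ Q₀) :=
    Algebra.FiniteType.of_surjective (Ideal.Quotient.mkₐ R Q₀) Ideal.Quotient.mk_surjective
  haveI : Algebra.FiniteType (R ⧸ Q₀.under R) (B ⧸ Q₀) :=
    Algebra.FiniteType.of_restrictScalars_finiteType R (R ⧸ Q₀.under R) (B ⧸ Q₀)
  have h1 := dimIneq (R ⧸ Q₀.under R) (B ⧸ Q₀)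
    ((q.under R).map (Ideal.Quotient.mk (Q₀.under R))) (q.map (Ideal.Quotient.mk Q₀))
  have h3 : Algebra.trdeg ((R ⧸ Q₀.under R) ⧸ (q.under R).map (Ideal.Quotient.mk (Q₀.under R)))
      ((B ⧸ Q₀) ⧸ q.map (Ideal.Quotient.mk Q₀)) = Algebra.trdeg (R ⧸ q.under R) (B ⧸ q) := by
    refine trdeg_eq_of_ringEquiv (DoubleQuot.quotQuotEquivQuotOfLE hPle)
      (DoubleQuot.quotQuotEquivQuotOfLE hle) (fun a => ?_)
    obtain ⟨a', rfl⟩ := Ideal.Quotient.mk_surjective a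
    obtain ⟨r, rfl⟩ := Ideal.Quotient.mk_surjective a'
    rfl
  rw [h3] at h1
  exact h1

end Alg

section Sch

variable {X S : Scheme.{u}}

/-- **general dimension inequality**: `ζ ⤳ x` arbitrary, base locally Noetherian -/
theorem gen_ineq_card (f : X ⟶ S) [IsLocallyNoetherian S] [LocallyOfFiniteType f] (x : X)
    (ζ : X) (h : ζ ⤳ x) :
    ∃ a b : ℕ, ringKrullDim (Cyc.LocQuot x ζ h) = a ∧
      ringKrullDim (Cyc.LocQuot (f x) (f ζ) (h.map f.continuous)) = b ∧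
      (letI := (f.residueFieldMap x).hom.toAlgebra;
       letI := (f.residueFieldMap ζ).hom.toAlgebra;
      (a : Cardinal.{u}) + Algebra.trdeg (S.residueField (f x)) (X.residueField x) ≤
        b + Algebra.trdeg (S.residueField (f ζ)) (X.residueField ζ)) := by
  obtain ⟨V, hV, hfxV⟩ : ∃ V : S.Opens, IsAffineOpen V ∧ f x ∈ V := by
    obtain ⟨_, ⟨V, hV, rfl⟩, hxV, -⟩ := S.isBasis_affineOpens.exists_subset_of_mem_open
      (Set.mem_univ (f x)) isOpen_univ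
    exact ⟨V, hV, hxV⟩
  obtain ⟨U, hU, hx, e⟩ : ∃ U : X.Opens, IsAffineOpen U ∧ x ∈ U ∧ U ≤ f ⁻¹ᵁ V := by
    obtain ⟨_, ⟨U, hU, rfl⟩, hxU, hUV⟩ := X.isBasis_affineOpens.exists_subset_of_mem_open
      (show x ∈ ((f ⁻¹ᵁ V : X.Opens) : Set X) from hfxV) (f ⁻¹ᵁ V).isOpen
    exact ⟨U, hU, hxU, hUV⟩
  have hζU : ζ ∈ U := h.mem_open U.isOpen hx
  letI alg := (f.appLE V U e).hom.toAlgebra
  haveI : IsNoetherianRing Γ(S, V) := IsLocallyNoetherian.component_noetherian ⟨V, hV⟩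
  haveI : Algebra.FiniteType Γ(S, V) Γ(X, U) := f.finiteType_appLE hV hU e
  have hunder : (hU.primeIdealOf ⟨x, hx⟩).asIdeal.under Γ(S, V) =
      (hV.primeIdealOf ⟨f x, e hx⟩).asIdeal :=
    congrArg PrimeSpectrum.asIdeal (IsAffineOpen.comap_primeIdealOf_appLE V hV U hU e hx)
  have hle : (hU.primeIdealOf ⟨ζ, hζU⟩).asIdeal ≤ (hU.primeIdealOf ⟨x, hx⟩).asIdeal :=
    primeIdealOf_le_of_specializes hU x ζ hx h hζU
  have hmain := ineq_of_prime_le' (R := Γ(S, V)) (hU.primeIdealOf ⟨x, hx⟩).asIdeal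
    (hU.primeIdealOf ⟨ζ, hζU⟩).asIdeal hle
  rw [← trdeg_residueField_eq f hU hV e x hx, ← trdeg_residueField_eq f hU hV e ζ hζU] at hmain
  have hunderζ : (hU.primeIdealOf ⟨ζ, hζU⟩).asIdeal.under Γ(S, V) =
      (hV.primeIdealOf ⟨f ζ, e hζU⟩).asIdeal :=
    congrArg PrimeSpectrum.asIdeal (IsAffineOpen.comap_primeIdealOf_appLE V hV U hU e hζU)
  have hh1 := ringKrullDim_locQuot_eq_height hU x ζ hx h hζU
  have hh2 : ringKrullDim (Cyc.LocQuot (f x) (f ζ) (h.map f.continuous)) =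
      (((hU.primeIdealOf ⟨x, hx⟩).asIdeal.under Γ(S, V)).map
      (Ideal.Quotient.mk ((hU.primeIdealOf ⟨ζ, hζU⟩).asIdeal.under Γ(S, V)))).height := by
    rw [hunder, hunderζ]
    exact ringKrullDim_locQuot_eq_height hV (f x) (f ζ) (e hx) (h.map f.continuous) (e hζU)
  haveI : IsNoetherianRing Γ(X, U) := Algebra.FiniteType.isNoetherianRing Γ(S, V) Γ(X, U)
  haveI hq' : ((hU.primeIdealOf ⟨x, hx⟩).asIdeal.map
        (Ideal.Quotient.mk (hU.primeIdealOf ⟨ζ, hζU⟩).asIdeal)).IsPrime :=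
    isPrime_map_mk _ _ hle
  haveI hp' : (((hU.primeIdealOf ⟨x, hx⟩).asIdeal.under Γ(S, V)).map
      (Ideal.Quotient.mk ((hU.primeIdealOf ⟨ζ, hζU⟩).asIdeal.under Γ(S, V)))).IsPrime :=
    isPrime_map_mk _ _ (Ideal.comap_mono hle)
  obtain ⟨a, ha⟩ := ENat.ne_top_iff_exists.mp
    (Ideal.height_ne_top_of_isPrime (I := ((hU.primeIdealOf ⟨x, hx⟩).asIdeal.map
        (Ideal.Quotient.mk (hU.primeIdealOf ⟨ζ, hζU⟩).asIdeal))))
  obtain ⟨b, hb⟩ := ENat.ne_top_iff_exists.mp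
    (Ideal.height_ne_top_of_isPrime (I := (((hU.primeIdealOf ⟨x, hx⟩).asIdeal.under Γ(S, V)).map
      (Ideal.Quotient.mk ((hU.primeIdealOf ⟨ζ, hζU⟩).asIdeal.under Γ(S, V))))))
  refine ⟨a, b, ?_, ?_, ?_⟩
  · rw [hh1, ← ha]; rfl
  · rw [hh2, ← hb]; rfl
  · rw [← ha, ← hb] at hmain
    simpa using hmain

/-- the general dimension inequality in `ℕ` -/
theorem gen_ineq (f : X ⟶ S) [IsLocallyNoetherian S] [LocallyOfFiniteType f] (x : X)
    (ζ : X) (h : ζ ⤳ x) :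
    ∃ a b : ℕ, ringKrullDim (Cyc.LocQuot x ζ h) = a ∧
      ringKrullDim (Cyc.LocQuot (f x) (f ζ) (h.map f.continuous)) = b ∧
      a + rt f x ≤ b + rt f ζ := by
  obtain ⟨a, b, ha, hb, hab⟩ := gen_ineq_card f x ζ h
  refine ⟨a, b, ha, hb, ?_⟩
  rw [trdeg_eq_rt f x, trdeg_eq_rt f ζ] at hab
  exact_mod_cast hab

end Sch

end Groth.Agent.Lib.H30DimIneqGen
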