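import Groth.Agent.Lib.H30EquidimAt
import Mathlib

/-!
helper30: more tools around maximal points and quotients by primes.
-/

set_option autoImplicit false
universe u
open CategoryTheory AlgebraicGeometry

namespace Groth.Agent.Lib.H30EquidimAt

open Groth.Agent.Lib.H30GenFib Groth.Agent.Lib.H30DimField Groth.Agent.S2594 TopologicalSpace

theorem ringKrullDim_quotient_prime_eq_coheight {R : Type u} [CommRing R] (P : PrimeSpectrum R) :
    ringKrullDim (R ⧸ P.asIdeal) = Order.coheight P := by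
  rw [ringKrullDim_quotient, Order.coheight_eq_krullDim_Ici]
  have hset : PrimeSpectrum.zeroLocus (P.asIdeal : Set R) = Set.Ici P := by
    ext Q
    rw [PrimeSpectrum.mem_zeroLocus, Set.mem_Ici]
    rfl
  rw [hset]

/-- a strictly larger prime has a quotient of strictly smaller dimension -/
theorem ringKrullDim_quotient_add_one_le {R : Type u} [CommRing R] (p q : Ideal R) [hp : p.IsPrime]
    [hq : q.IsPrime] (hlt : p < q) :
    ringKrullDim (R ⧸ q) + 1 ≤ ringKrullDim (R ⧸ p) := by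
  have h1 := ringKrullDim_quotient_prime_eq_coheight (⟨p, hp⟩ : PrimeSpectrum R)
  have h2 := ringKrullDim_quotient_prime_eq_coheight (⟨q, hq⟩ : PrimeSpectrum R)
  have h3 : Order.coheight (⟨q, hq⟩ : PrimeSpectrum R) + 1 ≤
      Order.coheight (⟨p, hp⟩ : PrimeSpectrum R) :=
    Order.coheight_add_one_le (show (⟨p, hp⟩ : PrimeSpectrum R) < ⟨q, hq⟩ from hlt)
  change ringKrullDim (R ⧸ q) = _ at h2
  change ringKrullDim (R ⧸ p) = _ at h1
  rw [h1, h2]
  exact_mod_cast h3

/-- every point of a scheme has a generization without proper generizations -/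
theorem exists_isMaxPt_specializes {X : Scheme.{u}} (z : X) : ∃ ζ : X, IsMaxPt ζ ∧ ζ ⤳ z := by
  have hmem := irreducibleComponent_mem_irreducibleComponents z
  obtain ⟨ζ, hζ⟩ : ∃ ζ, IsGenericPoint ζ (irreducibleComponent z) :=
    QuasiSober.sober hmem.1 isClosed_irreducibleComponent
  refine ⟨ζ, ?_, ?_⟩
  · rw [← hζ.def] at hmem
    exact (closure_mem_irreducibleComponents_iff ζ).mp hmem
  · rw [specializes_iff_mem_closure, hζ.def]
    exact mem_irreducibleComponent

/-- in a locally Noetherian scheme, every point has arbitrarily small open neighbourhoods all of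
whose maximal points generize the point -/
theorem exists_open_all_max_specialize {X : Scheme.{u}} [IsLocallyNoetherian X] (x : X)
    (U₀ : X.Opens) (hx : x ∈ U₀) :
    ∃ U : X.Opens, x ∈ U ∧ U ≤ U₀ ∧ ∀ ζ ∈ U, IsMaxPt ζ → ζ ⤳ x := by
  obtain ⟨V, hV, hxV, hVU⟩ := exists_isAffineOpen_mem_and_subset hx
  haveI : IsNoetherianRing Γ(X, V) := IsLocallyNoetherian.component_noetherian ⟨V, hV⟩
  haveI : NoetherianSpace V := noetherianSpace_of_isAffineOpen V hV
  have hSfin : {ζ : X | ζ ∈ V ∧ IsMaxPt ζ ∧ ¬ ζ ⤳ x}.Finite := by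
    refine ((finite_isMax V.toScheme).image V.ι).subset ?_
    rintro ζ ⟨hζV, hζmax, -⟩
    obtain ⟨ζ₀, rfl⟩ : ζ ∈ Set.range V.ι := by rw [Scheme.Opens.range_ι]; exact hζV
    exact ⟨ζ₀, isMax_of_ι V ζ₀ hζmax, rfl⟩
  have hclosed : IsClosed (⋃ ζ ∈ {ζ : X | ζ ∈ V ∧ IsMaxPt ζ ∧ ¬ ζ ⤳ x},
      closure ({ζ} : Set X)) :=
    hSfin.isClosed_biUnion (fun _ _ => isClosed_closure)
  obtain ⟨U, hUdef⟩ : ∃ U : X.Opens, U = V ⊓ ⟨_, hclosed.isOpen_compl⟩ := ⟨_, rfl⟩
  have hUV : U ≤ V := hUdef ▸ inf_le_left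
  refine ⟨U, ?_, fun z hz => hVU (hUV hz), ?_⟩
  · rw [hUdef]
    refine ⟨hxV, ?_⟩
    show x ∉ _
    simp only [Set.mem_iUnion, not_exists]
    rintro ζ ⟨-, -, hζ⟩ hmem
    exact hζ (specializes_iff_mem_closure.mpr hmem)
  · intro ζ hζU hζmax
    by_contra hcon
    rw [hUdef] at hζU
    apply hζU.2
    show ζ ∈ ⋃ _, _
    simp only [Set.mem_iUnion]
    exact ⟨ζ, ⟨hζU.1, hζmax, hcon⟩, subset_closure rfl⟩

end Groth.Agent.Lib.H30EquidimAt
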