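import Mathlib
import Groth.Agent.Lib.H30NormalSmooth

/-!
# Normality / reducedness of stalks along smooth morphisms of schemes (helper30)

* `normal_descent_atPrime`, `isReduced_descent_atPrime` : flat descent, local form.
* `stalk_iff_of_smooth_chart`, `stalk_iff_of_mem_smoothLocus`, `stalk_iff_of_smooth` :
  `O_{X,x}` is an integrally closed domain (resp. reduced) iff `O_{Y,f x}` is, for `f` smooth at `x`.
-/

set_option autoImplicit false
universe u
open TensorProduct CategoryTheory AlgebraicGeometry

namespace Groth.Agent.Lib.H30NormalSmoothSch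

open Groth.Agent.Lib.H30NormalSmooth

/-- For a flat `A`-algebra `B` and a prime `q` of `B` over `p`, `B_q` is faithfully flat over
`A_p` (standard localizations). -/
theorem faithfullyFlat_localization (A B : Type*) [CommRing A] [CommRing B] [Algebra A B]
    [Module.Flat A B] (q : Ideal B) [q.IsPrime] :
    letI := Localization.AtPrime.algebraOfLiesOver (q.under A) q
    Module.FaithfullyFlat (Localization.AtPrime (q.under A)) (Localization.AtPrime q) := by
  let := Localization.AtPrime.algebraOfLiesOver (q.under A) q
  have : IsLocalHom (algebraMap (Localization.AtPrime <| q.under A) (Localization.AtPrime q)) := by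
    rw [RingHom.algebraMap_toAlgebra]
    exact Localization.isLocalHom_localRingHom (q.under A) q (algebraMap A B) Ideal.LiesOver.over
  exact Module.FaithfullyFlat.of_flat_of_isLocalHom

/-- Flat descent of normality, general local form. -/
theorem normal_descent_atPrime (A B : Type*) [CommRing A] [CommRing B] [Algebra A B]
    [Module.Flat A B]
    (q : Ideal B) [q.IsPrime] (p : Ideal A) [p.IsPrime] (hpq : q.comap (algebraMap A B) = p)
    (Ap : Type*) [CommRing Ap] [Algebra A Ap] [IsLocalization.AtPrime Ap p]
    (T : Type*) [CommRing T] [Algebra B T] [IsLocalization.AtPrime T q]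
    (h : IsDomain T ∧ IsIntegrallyClosed T) : IsDomain Ap ∧ IsIntegrallyClosed Ap := by
  subst hpq
  let := Localization.AtPrime.algebraOfLiesOver (q.under A) q
  have := faithfullyFlat_localization A B q
  have h1 : IsDomain (Localization.AtPrime q) ∧ IsIntegrallyClosed (Localization.AtPrime q) :=
    normal_of_ringEquiv (IsLocalization.algEquiv q.primeCompl T (Localization.AtPrime q)).toRingEquiv h
  have h2 := normal_of_faithfullyFlat (Localization.AtPrime (q.under A)) (Localization.AtPrime q) h1
  exact normal_of_ringEquiv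
    (IsLocalization.algEquiv (q.under A).primeCompl (Localization.AtPrime (q.under A)) Ap).toRingEquiv h2

/-- Flat descent of reducedness, general local form. -/
theorem isReduced_descent_atPrime (A B : Type*) [CommRing A] [CommRing B] [Algebra A B]
    [Module.Flat A B]
    (q : Ideal B) [q.IsPrime] (p : Ideal A) [p.IsPrime] (hpq : q.comap (algebraMap A B) = p)
    (Ap : Type*) [CommRing Ap] [Algebra A Ap] [IsLocalization.AtPrime Ap p]
    (T : Type*) [CommRing T] [Algebra B T] [IsLocalization.AtPrime T q]
    [IsReduced T] : IsReduced Ap := by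
  subst hpq
  let := Localization.AtPrime.algebraOfLiesOver (q.under A) q
  have := faithfullyFlat_localization A B q
  have h1 : IsReduced (Localization.AtPrime q) :=
    isReduced_of_injective (IsLocalization.algEquiv q.primeCompl T (Localization.AtPrime q)).symm.toRingEquiv.toRingHom
      (IsLocalization.algEquiv q.primeCompl T (Localization.AtPrime q)).symm.injective
  have h2 : IsReduced (Localization.AtPrime (q.under A)) :=
    isReduced_of_injective (algebraMap (Localization.AtPrime (q.under A)) (Localization.AtPrime q))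
      (FaithfulSMul.algebraMap_injective _ _)
  exact isReduced_of_injective
    (IsLocalization.algEquiv (q.under A).primeCompl (Localization.AtPrime (q.under A)) Ap).symm.toRingEquiv.toRingHom
    (IsLocalization.algEquiv (q.under A).primeCompl (Localization.AtPrime (q.under A)) Ap).symm.injective


/-- Normality and reducedness of stalks along a smooth affine chart. -/
theorem stalk_iff_of_smooth_chart {X Y : Scheme.{u}} (f : X ⟶ Y) (x : X) {U : Y.Opens}
    (hU : IsAffineOpen U) {V : X.Opens} (hV : IsAffineOpen V) (hVU : V ≤ f ⁻¹ᵁ U) (hxV : x ∈ V)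
    (hsm : (f.appLE U V hVU).hom.Smooth) :
    ((IsDomain (X.presheaf.stalk x) ∧ IsIntegrallyClosed (X.presheaf.stalk x)) ↔
      (IsDomain (Y.presheaf.stalk (f.base x)) ∧
        IsIntegrallyClosed (Y.presheaf.stalk (f.base x)))) ∧
    (IsReduced (X.presheaf.stalk x) ↔ IsReduced (Y.presheaf.stalk (f.base x))) := by
  algebraize [(f.appLE U V hVU).hom]
  let := Y.presheaf.algebra_section_stalk ⟨f.base x, hVU hxV⟩
  have := hU.isLocalization_stalk ⟨f.base x, hVU hxV⟩
  let := X.presheaf.algebra_section_stalk ⟨x, hxV⟩
  have := hV.isLocalization_stalk ⟨x, hxV⟩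
  have hpq : (hV.primeIdealOf ⟨x, hxV⟩).asIdeal.comap (algebraMap Γ(Y, U) Γ(X, V)) =
      (hU.primeIdealOf ⟨f.base x, hVU hxV⟩).asIdeal :=
    congr($(IsAffineOpen.comap_primeIdealOf_appLE U hU V hV hVU hxV).1)
  refine ⟨⟨fun h => ?_, fun h => ?_⟩, ⟨fun h => ?_, fun h => ?_⟩⟩
  · exact normal_descent_atPrime Γ(Y, U) Γ(X, V) _ _ hpq (Y.presheaf.stalk (f.base x))
      (X.presheaf.stalk x) h
  · exact normal_of_smooth_atPrime Γ(Y, U) Γ(X, V) _ _ hpq (Y.presheaf.stalk (f.base x))
      (X.presheaf.stalk x) h
  · exact isReduced_descent_atPrime Γ(Y, U) Γ(X, V) _ _ hpq (Y.presheaf.stalk (f.base x))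
      (X.presheaf.stalk x)
  · exact isReduced_of_smooth_atPrime Γ(Y, U) Γ(X, V) _ _ hpq (Y.presheaf.stalk (f.base x))
      (X.presheaf.stalk x)

/-- At a point of the smooth locus, the stalk upstairs is a normal domain (resp. reduced) iff the
stalk downstairs is. -/
theorem stalk_iff_of_mem_smoothLocus {X Y : Scheme.{u}} (f : X ⟶ Y)
    [LocallyOfFinitePresentation f] (x : X) (hx : x ∈ f.smoothLocus) :
    ((IsDomain (X.presheaf.stalk x) ∧ IsIntegrallyClosed (X.presheaf.stalk x)) ↔
      (IsDomain (Y.presheaf.stalk (f.base x)) ∧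
        IsIntegrallyClosed (Y.presheaf.stalk (f.base x)))) ∧
    (IsReduced (X.presheaf.stalk x) ↔ IsReduced (Y.presheaf.stalk (f.base x))) := by
  obtain ⟨U, hU, V, hV, hVU, hxV, H⟩ := exists_smooth_of_formallySmooth_stalk f x hx
  exact stalk_iff_of_smooth_chart f x hU hV hVU hxV H

/-- For a smooth morphism, the stalk upstairs is a normal domain (resp. reduced) iff the
stalk downstairs is. -/
theorem stalk_iff_of_smooth {X Y : Scheme.{u}} (f : X ⟶ Y) [Smooth f] (x : X) :
    ((IsDomain (X.presheaf.stalk x) ∧ IsIntegrallyClosed (X.presheaf.stalk x)) ↔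
      (IsDomain (Y.presheaf.stalk (f.base x)) ∧
        IsIntegrallyClosed (Y.presheaf.stalk (f.base x)))) ∧
    (IsReduced (X.presheaf.stalk x) ↔ IsReduced (Y.presheaf.stalk (f.base x))) :=
  stalk_iff_of_mem_smoothLocus f x (by rw [f.smoothLocus_eq_top]; trivial)

end Groth.Agent.Lib.H30NormalSmoothSch
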