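import Groth.Prelude.Def_Pi1
import Groth.Agent.Lib.H30NormalSmoothSch
import Groth.Agent.Lib.FEtFaithful
import Mathlib

/-!
# Finite étale covers of normal integral schemes (helper30)

* `genFibre f`, `exists_mem_genFibre_specializes`, `eq_of_specializes_mem_genFibre`,
  `eq_of_specializes_of_isDomain`, `isClopen_biUnion_closure`: structure of the generic fibre.
* `exists_extension`: morphisms of finite étale covers of a normal integral scheme extend from
  the generic point.
* `restrict_full`, `restrict_faithful`: fullness / faithfulness of `FEt.restrict`.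
-/

set_option autoImplicit false
universe u

namespace Groth.Agent.Lib.H30FEtNormal

open AlgebraicGeometry CategoryTheory CategoryTheory.Limits TopologicalSpace

/-- Generic fibre of a morphism to an integral scheme. -/
def genFibre {X W : Scheme.{u}} [IsIntegral X] (f : W ⟶ X) : Set W := f ⁻¹' {genericPoint X}

section flat

variable {X W : Scheme.{u}} [IsIntegral X] (f : W ⟶ X)

/-- Every point has a generalization in the generic fibre (flat morphisms are generalizing). -/
theorem exists_mem_genFibre_specializes [Flat f] (y : W) : ∃ y' ∈ genFibre f, y' ⤳ y := by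
  obtain ⟨y', hy', hfy'⟩ := Flat.generalizingMap (f := f) (genericPoint_specializes (f y))
  exact ⟨y', hfy', hy'⟩

/-- Points of the generic fibre of a locally quasi-finite morphism are maximal points. -/
theorem eq_of_specializes_mem_genFibre [LocallyQuasiFinite f] (z y' : W) (hy' : y' ∈ genFibre f)
    (hz : z ⤳ y') : z = y' := by
  have hfz : f z ⤳ genericPoint X := by
    have := hz.map f.continuous
    rwa [show f y' = genericPoint X from hy'] at this
  have hzF : z ∈ genFibre f := ((genericPoint_specializes (f z)).antisymm hfz).eq.symm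
  have := (f.isDiscrete_preimage_singleton (genericPoint X)).to_subtype
  have hs : (⟨z, hzF⟩ : f ⁻¹' {genericPoint X}) ⤳ ⟨y', hy'⟩ :=
    (subtype_specializes_iff _ _).mpr hz
  exact congrArg Subtype.val hs.eq

theorem finite_genFibre [LocallyQuasiFinite f] [QuasiCompact f] : (genFibre f).Finite :=
  f.finite_preimage_singleton _

/-- If the stalk at `y` is a domain, `y` has at most one generalization in the generic fibre. -/
theorem eq_of_specializes_of_isDomain [LocallyQuasiFinite f] (y y1 y2 : W)
    [IsDomain (W.presheaf.stalk y)] (hy1 : y1 ∈ genFibre f) (hy2 : y2 ∈ genFibre f)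
    (h1y : y1 ⤳ y) (h2y : y2 ⤳ y) : y1 = y2 := by
  let g := W.fromSpecStalk y
  have key : ∀ y', y' ∈ genFibre f → y' ⤳ y →
      g (genericPoint (Spec (W.presheaf.stalk y))) = y' := by
    intro y' hy' hy'y
    obtain ⟨p, rfl⟩ : y' ∈ Set.range g := by
      rw [Scheme.range_fromSpecStalk]
      exact hy'y
    exact eq_of_specializes_mem_genFibre f _ _ hy' ((genericPoint_specializes p).map g.continuous)
  rw [← key y1 hy1 h1y, ← key y2 hy2 h2y]

end flat

/-- For `S` a subset of a finite set `F` of points such that every point has a generalization in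
`F` and no point has two, the union of the closures of the points of `S` is clopen. -/
theorem isClopen_biUnion_closure {Y : Type*} [TopologicalSpace Y] (F : Set Y) (hF : F.Finite)
    (h1 : ∀ y, ∃ y' ∈ F, y' ⤳ y)
    (h3 : ∀ y y1 y2, y1 ∈ F → y2 ∈ F → y1 ⤳ y → y2 ⤳ y → y1 = y2) (S : Set Y) (hS : S ⊆ F) :
    IsClopen (⋃ y' ∈ S, closure {y'}) := by
  have hcompl : (⋃ y' ∈ S, closure {y'})ᶜ = ⋃ y'' ∈ F \ S, closure {y''} := by
    ext y
    simp only [Set.mem_compl_iff, Set.mem_iUnion, Set.mem_sdiff,
      exists_prop, ← specializes_iff_mem_closure, not_exists, not_and]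
    constructor
    · intro hy
      obtain ⟨y'', hy''F, hy''⟩ := h1 y
      exact ⟨y'', ⟨hy''F, fun h => hy y'' h hy''⟩, hy''⟩
    · rintro ⟨y'', ⟨hy''F, hne⟩, hy''⟩ y' hy'S hy'
      exact hne (h3 y y'' y' hy''F (hS hy'S) hy'' hy' ▸ hy'S)
  have hclosed : IsClosed ((⋃ y' ∈ S, closure {y'})ᶜ) := by
    rw [hcompl]
    exact (hF.subset Set.sdiff_subset).isClosed_biUnion fun _ _ => isClosed_closure
  exact ⟨(hF.subset hS).isClosed_biUnion fun _ _ => isClosed_closure,
    by simpa using hclosed.isOpen_compl⟩

/-- Extension of morphisms of finite étale covers from the generic point, over a normal integral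
base. -/
theorem exists_extension {X : Scheme.{u}} [IsIntegral X] (hX : Pi1.IsNormalScheme X)
    {A B T : Scheme.{u}} (fA : A ⟶ X) (fB : B ⟶ X) [IsFinite fA] [Etale fA] [IsFinite fB]
    [Etale fB] (j : T ⟶ X) [IsPreimmersion j] (hj : Set.range j = {genericPoint X})
    (gB : pullback fA j ⟶ B) (hg : gB ≫ fB = pullback.fst fA j ≫ fA) :
    ∃ φ : A ⟶ B, φ ≫ fB = fA ∧ pullback.fst fA j ≫ φ = gB := by
  let a : pullback fA j ⟶ A := pullback.fst fA j
  let W := pullback fA fB
  let pr1 : W ⟶ A := pullback.fst fA fB
  let pr2 : W ⟶ B := pullback.snd fA fB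
  let fW : W ⟶ X := pr1 ≫ fA
  let γ : pullback fA j ⟶ W := pullback.lift a gB hg.symm
  have hγ1 : γ ≫ pr1 = a := pullback.lift_fst _ _ _
  have hγ2 : γ ≫ pr2 = gB := pullback.lift_snd _ _ _
  have hW : ∀ w : W, IsDomain (W.presheaf.stalk w) := fun w =>
    ((Groth.Agent.Lib.H30NormalSmoothSch.stalk_iff_of_smooth fW w).1.mpr (hX _)).1
  let F := genFibre fW
  have hrange : Set.range γ ⊆ F := by
    rintro _ ⟨t, rfl⟩
    change fW (γ t) = genericPoint X
    have h0 : γ ≫ fW = pullback.snd fA j ≫ j := by
      rw [← Category.assoc, hγ1]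
      exact (pullback.condition (f := fA) (g := j))
    have h1 : fW (γ t) = j (pullback.snd fA j t) := by
      rw [← Scheme.Hom.comp_apply, ← Scheme.Hom.comp_apply, h0]
    rw [h1]
    have : j (pullback.snd fA j t) ∈ Set.range j := ⟨_, rfl⟩
    rw [hj] at this
    exact this
  let Γ' : Set W := ⋃ y' ∈ Set.range γ, closure {y'}
  have hclopen : IsClopen Γ' :=
    isClopen_biUnion_closure F (finite_genFibre fW) (exists_mem_genFibre_specializes fW)
      (fun y y1 y2 => eq_of_specializes_of_isDomain fW y y1 y2) _ hrange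
  have hΓF : ∀ w, w ∈ Γ' → w ∈ F → w ∈ Set.range γ := by
    intro w hw hwF
    simp only [Γ', Set.mem_iUnion, exists_prop, ← specializes_iff_mem_closure] at hw
    obtain ⟨y', hy', hy'w⟩ := hw
    rwa [← eq_of_specializes_mem_genFibre fW y' w hwF hy'w]
  let G : W.Opens := ⟨Γ', hclopen.isOpen⟩
  have hGι : IsClosedImmersion G.ι := IsClosedImmersion.of_isPreimmersion _ (by
    rw [Scheme.Opens.range_ι]; exact hclopen.isClosed)
  let p : (G : Scheme) ⟶ A := G.ι ≫ pr1
  have hγG : Set.range γ ⊆ Set.range G.ι := by
    rw [Scheme.Opens.range_ι]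
    intro w hw
    exact Set.mem_biUnion hw (subset_closure rfl)
  let γ'' : pullback fA j ⟶ G := IsOpenImmersion.lift G.ι γ hγG
  have hγ'' : γ'' ≫ G.ι = γ := IsOpenImmersion.lift_fac _ _ _
  have hγp : γ'' ≫ p = a := by rw [← Category.assoc, hγ'', hγ1]
  let s : pullback fA j ⟶ pullback p a := pullback.lift γ'' (𝟙 _) (by rw [hγp, Category.id_comp])
  have hs : s ≫ pullback.snd p a = 𝟙 _ := pullback.lift_snd _ _ _
  have hs1 : s ≫ pullback.fst p a = γ'' := pullback.lift_fst _ _ _
  have hset : Etale s := by
    have : Etale (s ≫ pullback.snd p a) := by rw [hs]; infer_instance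
    exact Etale.of_comp s (pullback.snd p a)
  have hsm : Mono s := mono_of_mono_fac hs
  have hsoi : IsOpenImmersion s := IsOpenImmersion.of_flat_of_mono s
  have hgen : ∀ t : ↥(pullback fA j), fA (a t) = genericPoint X := by
    intro t
    have h2 : fA (a t) = j (pullback.snd fA j t) := by
      rw [← Scheme.Hom.comp_apply, ← Scheme.Hom.comp_apply,
        (pullback.condition (f := fA) (g := j))]
    rw [h2]
    have : j (pullback.snd fA j t) ∈ Set.range j := ⟨_, rfl⟩
    rw [hj] at this
    exact this
  have hssurj : Surjective s := by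
    constructor
    intro z
    let w' := pullback.fst p a z
    let t := pullback.snd p a z
    have hwt : p w' = a t := by
      rw [← Scheme.Hom.comp_apply, ← Scheme.Hom.comp_apply, pullback.condition]
    have hwF : G.ι w' ∈ F := by
      change fW (G.ι w') = genericPoint X
      have h1 : fW (G.ι w') = fA (p w') := by
        rw [← Scheme.Hom.comp_apply, ← Scheme.Hom.comp_apply, ← Scheme.Hom.comp_apply]
        rfl
      rw [h1, hwt]
      exact hgen t
    have hwΓ : G.ι w' ∈ Γ' := by
      have : G.ι w' ∈ Set.range G.ι := ⟨_, rfl⟩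
      rwa [Scheme.Opens.range_ι] at this
    obtain ⟨t', ht'⟩ := hΓF _ hwΓ hwF
    refine ⟨t', ?_⟩
    have h3 : pullback.fst p a (s t') = pullback.fst p a z := by
      rw [← Scheme.Hom.comp_apply, hs1]
      apply G.ι.injective
      rw [← Scheme.Hom.comp_apply, hγ'', ht']
    exact (pullback.fst p a).injective h3
  have hsiso : IsIso s := (isIso_iff_isOpenImmersion_and_surjective s).mpr ⟨hsoi, hssurj⟩
  have hsnd : IsIso (pullback.snd p a) := by
    have : IsIso (s ≫ pullback.snd p a) := by rw [hs]; infer_instance
    exact IsIso.of_isIso_comp_left s _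
  have hrank_a : ∀ t, Scheme.Hom.finrank p (a t) = 1 := by
    intro t
    rw [← Scheme.Hom.finrank_pullback_snd p a t, Scheme.Hom.finrank_eq_one_of_isIso]
    rfl
  have hrank : Scheme.Hom.finrank p = 1 := by
    ext y
    obtain ⟨y', hy', hy'y⟩ := exists_mem_genFibre_specializes fA y
    have hy'a : y' ∈ Set.range a := by
      rw [Scheme.Pullback.range_fst, hj]
      exact hy'
    obtain ⟨t, rfl⟩ := hy'a
    have hlc := Scheme.Hom.isLocallyConstant_finrank p
    have := (hy'y.map hlc.continuous).eq
    rw [Pi.one_apply, ← this, hrank_a]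
  have hpiso : IsIso p := (Scheme.Hom.isIso_iff_finrank_eq p).mpr hrank
  refine ⟨inv p ≫ G.ι ≫ pr2, ?_, ?_⟩
  · rw [Category.assoc, Category.assoc, IsIso.inv_comp_eq]
    have : pr2 ≫ fB = pr1 ≫ fA := (pullback.condition (f := fA) (g := fB)).symm
    rw [this]
    rfl
  · have : a ≫ inv p = γ'' := by rw [← hγp, Category.assoc, IsIso.hom_inv_id, Category.comp_id]
    rw [← Category.assoc, this, ← Category.assoc, hγ'', hγ2]

/-- Restriction of finite étale covers of a normal integral scheme to its generic point is full. -/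
theorem restrict_full {X T : Scheme.{u}} [IsIntegral X] (hX : Pi1.IsNormalScheme X) (j : T ⟶ X)
    [IsPreimmersion j] (hj : Set.range j = {genericPoint X}) : (FEt.restrict j).Full := by
  constructor
  intro A B g
  have hA1 : IsFinite A.hom := A.prop.1
  have hA2 : Etale A.hom := A.prop.2
  have hB1 : IsFinite B.hom := B.prop.1
  have hB2 : Etale B.hom := B.prop.2
  let gL : pullback A.hom j ⟶ pullback B.hom j := g.left
  let gB : pullback A.hom j ⟶ B.left := gL ≫ pullback.fst B.hom j
  have hgw : gL ≫ pullback.snd B.hom j = pullback.snd A.hom j := Over.w g.hom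
  have hg : gB ≫ B.hom = pullback.fst A.hom j ≫ A.hom := by
    change (gL ≫ pullback.fst B.hom j) ≫ B.hom = _
    rw [Category.assoc, pullback.condition, ← Category.assoc, hgw, pullback.condition]
  obtain ⟨φ, hφ1, hφ2⟩ := exists_extension hX A.hom B.hom j hj gB hg
  refine ⟨MorphismProperty.Over.homMk φ hφ1 trivial, ?_⟩
  apply MorphismProperty.Over.Hom.ext
  change _ = gL
  apply pullback.hom_ext
  · simp only [FEt.restrict, MorphismProperty.Over.pullback_map_left]
    erw [pullback.lift_fst]
    exact hφ2
  · simp only [FEt.restrict, MorphismProperty.Over.pullback_map_left]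
    erw [pullback.lift_snd]
    exact hgw.symm

/-- Restriction of finite étale covers along `j` is faithful as soon as every point of the base has
a generalization in the range of `j`. -/
theorem restrict_faithful {Y T : Scheme.{u}} (j : T ⟶ Y)
    (hj : ∀ y : Y, ∃ y' ∈ Set.range j, y' ⤳ y) : (FEt.restrict j).Faithful := by
  constructor
  intro A B φ ψ hφψ
  have hleft : ((FEt.restrict j).map φ).left = ((FEt.restrict j).map ψ).left := by rw [hφψ]
  have key : pullback.fst A.hom j ≫ φ.left = pullback.fst A.hom j ≫ ψ.left := by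
    have := congr($hleft ≫ pullback.fst B.hom j)
    simp only [FEt.restrict, MorphismProperty.Over.pullback_map_left] at this
    erw [pullback.lift_fst, pullback.lift_fst] at this
    exact this
  have hB1 : IsFinite B.hom := B.prop.1
  have hB2 : Etale B.hom := B.prop.2
  have hA1 : IsFinite A.hom := A.prop.1
  have hA2 : Etale A.hom := A.prop.2
  have hmain : φ.left = ψ.left := by
    refine Groth.Agent.Lib.FEtFaithful.eq_of_comp_eq B.hom φ.left ψ.left
      ((Over.w φ.hom).trans (Over.w ψ.hom).symm)
      (pullback.fst A.hom j) ?_ key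
    intro Z hZ hsub
    rw [Scheme.Pullback.range_fst] at hsub
    apply Set.eq_univ_of_forall
    intro y
    obtain ⟨x', hx', hx'y⟩ := hj (A.hom y)
    obtain ⟨y', hy', hfy'⟩ := Flat.generalizingMap (f := A.hom) hx'y
    have hy'Z : y' ∈ Z := hsub (by rw [Set.mem_preimage, hfy']; exact hx')
    exact hy'.mem_closed hZ.isClosed hy'Z
  exact MorphismProperty.Over.Hom.ext hmain

end Groth.Agent.Lib.H30FEtNormal
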