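import Groth.Agent.Lib.FTDim
import Mathlib

/-!
# Fibres of morphisms of affine schemes into affine space (helper30)

For `f : X ⟶ Y` between affine schemes (`X ≅ Spec B`, `Y ≅ Spec R`), a point `y` with prime `p`,
and a `Y`-morphism `g : X ⟶ 𝔸(n; Y)` with coordinates `b_i`, the base change of `g` to the fibre
of `𝔸(n; Y)` over `y` is (up to isomorphisms on both sides) `Spec` of the `κ(p)`-algebra map
`chi : κ(p)[T_i] → κ(p) ⊗_R B`, `T_i ↦ 1 ⊗ b_i` (`key`, `isFinite_iff`,
`surjective_of_comap_surjective`); `dim_fiber_eq` identifies `dim f⁻¹(y)` with the Krull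
dimension of `κ(p) ⊗_R B`; `injective_of_finite_of_dim` is the dimension argument.
-/

set_option autoImplicit false
open CategoryTheory Limits AlgebraicGeometry TensorProduct

universe u

namespace Groth.Agent.Lib.H30FibNorm

theorem injective_of_finite_of_dim {K : Type u} [Field K] {σ : Type u} [Finite σ] {C : Type u}
    [CommRing C] (χ : MvPolynomial σ K →+* C) (hfin : χ.Finite)
    (hdim : ringKrullDim C = (Nat.card σ : WithBot ℕ∞)) : Function.Injective χ := by
  rw [RingHom.injective_iff_ker_eq_bot, eq_bot_iff]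
  intro a ha
  by_contra hne
  have hne' : a ≠ 0 := hne
  have hA : ringKrullDim (MvPolynomial σ K) = (Nat.card σ : WithBot ℕ∞) := by
    rw [MvPolynomial.ringKrullDim_of_isNoetherianRing, ringKrullDim_eq_zero_of_field, zero_add]
  have h1 : ringKrullDim (MvPolynomial σ K ⧸ Ideal.span {a}) + 1 ≤ ringKrullDim (MvPolynomial σ K) :=
    ringKrullDim_quotient_succ_le_of_nonZeroDivisor (mem_nonZeroDivisors_of_ne_zero hne')
  have hle : Ideal.span {a} ≤ RingHom.ker χ := by
    rw [Ideal.span_singleton_le_iff_mem]; exact ha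
  have h2 : ringKrullDim (MvPolynomial σ K ⧸ RingHom.ker χ) ≤
      ringKrullDim (MvPolynomial σ K ⧸ Ideal.span {a}) :=
    ringKrullDim_le_of_surjective (Ideal.Quotient.factor hle) (Ideal.Quotient.factor_surjective hle)
  have h3 : ringKrullDim (MvPolynomial σ K ⧸ RingHom.ker χ) = ringKrullDim C := by
    let ψ : (MvPolynomial σ K ⧸ RingHom.ker χ) →+* C := RingHom.kerLift χ
    have hψinj : Function.Injective ψ := RingHom.kerLift_injective χ
    have hψfin : ψ.Finite := by
      have : χ = ψ.comp (Ideal.Quotient.mk (RingHom.ker χ)) := by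
        ext x <;> rfl
      rw [this] at hfin
      exact RingHom.Finite.of_comp_finite hfin
    algebraize [ψ]
    have : Algebra.IsIntegral (MvPolynomial σ K ⧸ RingHom.ker χ) C := Algebra.IsIntegral.of_finite _ _
    exact Groth.Agent.Lib.FTDim.ringKrullDim_eq_of_isIntegral_of_injective hψinj
  rw [hA] at h1
  rw [h3, hdim] at h2
  have h4 : ((Nat.card σ : ℕ) : WithBot ℕ∞) + 1 ≤ (Nat.card σ : ℕ) :=
    (add_le_add_left h2 1).trans h1
  have h5 : ((Nat.card σ + 1 : ℕ) : WithBot ℕ∞) ≤ ((Nat.card σ : ℕ) : WithBot ℕ∞) := by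
    push_cast; exact h4
  have h6 : Nat.card σ + 1 ≤ Nat.card σ := by exact_mod_cast h5
  omega

noncomputable section

variable {X Y : Scheme.{u}} (R B : Type u) [CommRing R] [CommRing B] [Algebra R B]
  (eX : X ≅ Spec (.of B)) (eY : Y ≅ Spec (.of R)) (f : X ⟶ Y)
  (hf : f ≫ eY.hom = eX.hom ≫ Spec.map (CommRingCat.ofHom (algebraMap R B)))
  (y : Y)

/-- the prime of `R` corresponding to `y` -/
def pt : PrimeSpectrum R := eY.hom.base y

instance : (pt R eY y).asIdeal.IsPrime := (pt R eY y).isPrime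

/-- residue field at that prime -/
abbrev Kp : Type u := (pt R eY y).asIdeal.ResidueField

/-- the morphism `Spec κ(p) ⟶ Y` -/
def q : Spec (.of (Kp R eY y)) ⟶ Y :=
  Spec.map (CommRingCat.ofHom (algebraMap R (Kp R eY y))) ≫ eY.inv

omit [CommRing R] in
theorem tau_aux {S : Scheme.{u}} (eY : Y ≅ S) (K κ' κ : CommRingCat.{u}) (ρ : κ' ⟶ κ) [IsIso ρ]
    (rfi : κ' ≅ K) (a : Spec K ⟶ S) (fs : Spec κ' ⟶ S) (fy : Spec κ ⟶ Y)
    (h1 : Spec.map ρ ≫ fs = fy ≫ eY.hom) (h2 : Spec.map rfi.inv ≫ a = fs) :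
    Spec.map (inv ρ ≫ rfi.hom) ≫ fy = a ≫ eY.inv := by
  have h3 : fy = Spec.map ρ ≫ fs ≫ eY.inv := by
    rw [← Category.assoc, h1, Category.assoc, Iso.hom_inv_id, Category.comp_id]
  rw [h3, Spec.map_comp, Category.assoc, ← Spec.map_comp_assoc ρ, IsIso.hom_inv_id, Spec.map_id,
    Category.id_comp, ← h2, Category.assoc, ← Spec.map_comp_assoc, Iso.inv_hom_id, Spec.map_id,
    Category.id_comp]

/-- comparison with the residue field of `Y` at `y` -/
theorem exists_tau : ∃ τ : Spec (.of (Kp R eY y)) ≅ Spec (Y.residueField y),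
    τ.hom ≫ Y.fromSpecResidueField y = q R eY y := by
  let ρ := eY.hom.residueFieldMap y
  have h1 : Spec.map ρ ≫ (Spec (.of R)).fromSpecResidueField (eY.hom.base y) =
      Y.fromSpecResidueField y ≫ eY.hom :=
    Scheme.Hom.SpecMap_residueFieldMap_fromSpecResidueField eY.hom y
  have h2 := Scheme.Spec.map_residueFieldIso_inv_eq_fromSpecResidueField (.of R) (pt R eY y)
  let θ : Y.residueField y ≅ .of (Kp R eY y) :=
    (asIso ρ).symm ≪≫ Scheme.Spec.residueFieldIso (.of R) (pt R eY y)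
  refine ⟨⟨Spec.map θ.hom, Spec.map θ.inv, by rw [← Spec.map_comp, θ.inv_hom_id, Spec.map_id],
    by rw [← Spec.map_comp, θ.hom_inv_id, Spec.map_id]⟩, ?_⟩
  exact tau_aux eY _ _ _ ρ (Scheme.Spec.residueFieldIso (.of R) (pt R eY y)) _ _ _ h1 h2

/-- the fibre ring -/
abbrev Cf : Type u := Kp R eY y ⊗[R] B

/-- `Spec (κ(p) ⊗ B) ⟶ X` -/
def top : Spec (.of (Cf R B eY y)) ⟶ X :=
  Spec.map (CommRingCat.ofHom
    (Algebra.TensorProduct.includeRight (R := R) (A := Kp R eY y) (B := B)).toRingHom) ≫ eX.inv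

/-- `Spec (κ(p) ⊗ B) ⟶ Spec κ(p)` -/
def pK : Spec (.of (Cf R B eY y)) ⟶ Spec (.of (Kp R eY y)) :=
  Spec.map (CommRingCat.ofHom
    (Algebra.TensorProduct.includeLeftRingHom (R := R) (A := Kp R eY y) (B := B)))

include hf in
theorem isPullback_top : IsPullback (top R B eX eY y) (pK R B eY y) f (q R eY y) := by
  have h0 := (AlgebraicGeometry.isPullback_SpecMap_of_isPushout _ _ _ _
    (CommRingCat.isPushout_tensorProduct R (Kp R eY y) B)).flip
  refine h0.of_iso (Iso.refl _) eX.symm (Iso.refl _) eY.symm ?_ ?_ ?_ ?_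
  · simp [top]
  · simp [pK]
  · simp only [Iso.symm_hom]
    rw [Iso.comp_inv_eq, Category.assoc, hf, Iso.inv_hom_id_assoc]
  · simp [q]

section affineSpace

variable (n : Type u) (g : X ⟶ 𝔸(n; Y)) (hg : g ≫ (𝔸(n; Y) ↘ Y) = f)

/-- coordinates of `g` as elements of `B` -/
def coords (i : n) : B :=
  (Scheme.ΓSpecIso (.of B)).hom ((eX.inv ≫ g).appTop (AffineSpace.coord Y i))

/-- the induced map on fibre rings -/
def chi : MvPolynomial n (Kp R eY y) →ₐ[Kp R eY y] Cf R B eY y :=
  MvPolynomial.aeval (fun i => (1 : Kp R eY y) ⊗ₜ[R] coords B eX n g i)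

/-- `Spec (κ(p) ⊗ B) ⟶ 𝔸ⁿ_{κ(p)}` -/
def left : Spec (.of (Cf R B eY y)) ⟶ 𝔸(n; Spec (.of (Kp R eY y))) :=
  Spec.map (CommRingCat.ofHom (chi R B eX eY y n g).toRingHom) ≫
    (AffineSpace.SpecIso n (.of (Kp R eY y))).inv

theorem left_over : left R B eX eY y n g ≫ (𝔸(n; Spec (.of (Kp R eY y))) ↘ Spec (.of (Kp R eY y))) =
    pK R B eY y := by
  unfold left pK
  rw [Category.assoc, AffineSpace.SpecIso_inv_over, ← Spec.map_comp]
  congr 1
  ext k
  simp [chi]

theorem left_appTop_coord (i : n) :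
    (left R B eX eY y n g).appTop (AffineSpace.coord _ i) =
      (Scheme.ΓSpecIso (.of (Cf R B eY y))).inv ((1 : Kp R eY y) ⊗ₜ[R] coords B eX n g i) := by
  unfold left
  rw [Scheme.Hom.comp_appTop, CommRingCat.comp_apply, AffineSpace.SpecIso_inv_appTop_coord,
    ← CommRingCat.comp_apply, ← Scheme.ΓSpecIso_inv_naturality, CommRingCat.comp_apply]
  congr 1
  simp [chi]

include hf hg in
theorem top_comp_g : top R B eX eY y ≫ g = left R B eX eY y n g ≫ AffineSpace.map n (q R eY y) := by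
  apply AffineSpace.hom_ext
  · rw [Category.assoc, hg, (isPullback_top R B eX eY f hf y).w, Category.assoc,
      AffineSpace.map_over, ← Category.assoc, left_over]
  · intro i
    have e1 : (AffineSpace.map n (q R eY y)).appTop (AffineSpace.coord Y i) =
        AffineSpace.coord (Spec (.of (Kp R eY y))) i := AffineSpace.map_appTop_coord (q R eY y) i
    have e2 : (left R B eX eY y n g ≫ AffineSpace.map n (q R eY y)).appTop (AffineSpace.coord Y i) =
        (left R B eX eY y n g).appTop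
          ((AffineSpace.map n (q R eY y)).appTop (AffineSpace.coord Y i)) := by
      rw [Scheme.Hom.comp_appTop, CommRingCat.comp_apply]
    have h1 : (eX.inv ≫ g).appTop (AffineSpace.coord Y i) =
        (Scheme.ΓSpecIso (.of B)).inv (coords B eX n g i) := by
      unfold coords
      rw [← CommRingCat.comp_apply, Iso.hom_inv_id, CommRingCat.id_apply]
    have e3 : (top R B eX eY y ≫ g).appTop (AffineSpace.coord Y i) =
        (Spec.map (CommRingCat.ofHom (Algebra.TensorProduct.includeRight (R := R)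
          (A := Kp R eY y) (B := B)).toRingHom)).appTop
          ((eX.inv ≫ g).appTop (AffineSpace.coord Y i)) := by
      unfold top
      rw [Category.assoc, Scheme.Hom.comp_appTop, CommRingCat.comp_apply]
    rw [e3, e2, e1, left_appTop_coord, h1, ← CommRingCat.comp_apply,
      ← Scheme.ΓSpecIso_inv_naturality, CommRingCat.comp_apply]
    rfl

include hf hg in
theorem isPullback_left :
    IsPullback (top R B eX eY y) (left R B eX eY y n g) g (AffineSpace.map n (q R eY y)) := by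
  refine IsPullback.of_bot ?_ (top_comp_g R B eX eY f hf y n g hg) (AffineSpace.isPullback_map (q R eY y))
  rw [left_over, hg]
  exact isPullback_top R B eX eY f hf y

include hf hg in
theorem key : ∃ (ζ : pullback g ((𝔸(n; Y) ↘ Y).fiberι y) ≅ Spec (.of (Cf R B eY y)))
    (ξ : Spec (.of (MvPolynomial n (Kp R eY y))) ≅ (𝔸(n; Y) ↘ Y).fiber y),
    pullback.snd g ((𝔸(n; Y) ↘ Y).fiberι y) =
      ζ.hom ≫ Spec.map (CommRingCat.ofHom (chi R B eX eY y n g).toRingHom) ≫ ξ.hom := by
  obtain ⟨τ, hτ⟩ := exists_tau R eY y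
  have hF : IsPullback (AffineSpace.map n (q R eY y))
      ((𝔸(n; Spec (.of (Kp R eY y))) ↘ Spec (.of (Kp R eY y))) ≫ τ.hom) (𝔸(n; Y) ↘ Y)
      (Y.fromSpecResidueField y) :=
    (AffineSpace.isPullback_map (q R eY y)).of_iso (Iso.refl _) (Iso.refl _) τ (Iso.refl _)
      (by simp) (by simp) (by simp) (by simp [hτ])
  let cF : 𝔸(n; Spec (.of (Kp R eY y))) ≅ (𝔸(n; Y) ↘ Y).fiber y := hF.isoPullback
  have hcF : cF.hom ≫ (𝔸(n; Y) ↘ Y).fiberι y = AffineSpace.map n (q R eY y) :=
    hF.isoPullback_hom_fst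
  have hP : IsPullback (top R B eX eY y) (left R B eX eY y n g ≫ cF.hom) g
      ((𝔸(n; Y) ↘ Y).fiberι y) :=
    (isPullback_left R B eX eY f hf y n g hg).of_iso (Iso.refl _) (Iso.refl _) cF (Iso.refl _)
      (by simp) (by simp) (by simp) (by simp [hcF])
  refine ⟨hP.isoPullback.symm, (AffineSpace.SpecIso n (.of (Kp R eY y))).symm ≪≫ cF, ?_⟩
  rw [Iso.symm_hom, Iso.eq_inv_comp, hP.isoPullback_hom_snd]
  simp [left]

include hf in
theorem nonempty_fiber_iso : Nonempty (Spec (.of (Cf R B eY y)) ≅ f.fiber y) := by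
  obtain ⟨τ, hτ⟩ := exists_tau R eY y
  have hF : IsPullback (top R B eX eY y) (pK R B eY y ≫ τ.hom) f (Y.fromSpecResidueField y) :=
    (isPullback_top R B eX eY f hf y).of_iso (Iso.refl _) (Iso.refl _) τ (Iso.refl _)
      (by simp) (by simp) (by simp) (by simp [hτ])
  exact ⟨hF.isoPullback⟩

include hf hg in
theorem isFinite_iff : IsFinite (pullback.snd g ((𝔸(n; Y) ↘ Y).fiberι y)) ↔
    (chi R B eX eY y n g).toRingHom.Finite := by
  obtain ⟨ζ, ξ, h⟩ := key R B eX eY f hf y n g hg
  have h2 : Spec.map (CommRingCat.ofHom (chi R B eX eY y n g).toRingHom) =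
      ζ.inv ≫ pullback.snd g ((𝔸(n; Y) ↘ Y).fiberι y) ≫ ξ.inv := by
    rw [h]; simp
  constructor
  · intro hfin
    have : IsFinite (Spec.map (CommRingCat.ofHom (chi R B eX eY y n g).toRingHom)) := by
      rw [h2]; infer_instance
    exact (IsFinite.SpecMap_iff _).mp this
  · intro hfin
    have : IsFinite (Spec.map (CommRingCat.ofHom (chi R B eX eY y n g).toRingHom)) :=
      (IsFinite.SpecMap_iff _).mpr hfin
    rw [h]; infer_instance

include hf hg in
theorem surjective_of_comap_surjective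
    (h : Function.Surjective (PrimeSpectrum.comap (chi R B eX eY y n g).toRingHom)) :
    Function.Surjective (pullback.snd g ((𝔸(n; Y) ↘ Y).fiberι y)).base := by
  obtain ⟨ζ, ξ, h'⟩ := key R B eX eY f hf y n g hg
  rw [h']
  have h1 : Function.Surjective ζ.hom.base := (Scheme.Hom.homeomorph ζ.hom).surjective
  have h2 : Function.Surjective ξ.hom.base := (Scheme.Hom.homeomorph ξ.hom).surjective
  have h3 : Function.Surjective
      (Spec.map (CommRingCat.ofHom (chi R B eX eY y n g).toRingHom)).base := h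
  intro t
  obtain ⟨t1, rfl⟩ := h2 t
  obtain ⟨t2, rfl⟩ := h3 t1
  obtain ⟨t3, rfl⟩ := h1 t2
  exact ⟨t3, rfl⟩

include hf in
theorem dim_fiber_eq : topologicalKrullDim ↥(f.fiber y) = ringKrullDim (Cf R B eY y) := by
  obtain ⟨e⟩ := nonempty_fiber_iso R B eX eY f hf y
  rw [← PrimeSpectrum.topologicalKrullDim_eq_ringKrullDim]
  exact (IsHomeomorph.topologicalKrullDim_eq _ (Scheme.Hom.homeomorph e.hom).isHomeomorph).symm

end affineSpace

end
end Groth.Agent.Lib.H30FibNorm
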