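import Mathlib

/-!
# Field-valued points of schemes and residue field maps (helper30)

Let `h : P ⟶ S` and let `σ : Spec K ⟶ P` be a `K`-point.
* `surjective_residueFieldMap_of_section`: if `σ ≫ h` identifies `K` with (a quotient of) the
  residue field of its image point, then `h.residueFieldMap (σ pt)` is surjective.
* `hom_ext_of_surjective_residueFieldMap`: two `K`-points at the same point of `P` with the same
  composite to `S` are equal provided the residue field map at that point is surjective.
* `exists_theta_of_surjective`: for a surjective ring hom `A → K` onto a field, `Spec K ⟶ Spec A`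
  factors through the residue field of its image point via a surjection.
-/

set_option autoImplicit false
open CategoryTheory CategoryTheory.Limits AlgebraicGeometry IsLocalRing
universe u

namespace Groth.Agent.Lib.H30FieldPt

theorem exists_rho {K : Type u} [Field K] {P : Scheme.{u}} (σ : Spec (CommRingCat.of K) ⟶ P)
    (x' : P) (hx' : σ (closedPoint K) = x') :
    ∃ ρ : P.residueField x' ⟶ CommRingCat.of K, Spec.map ρ ≫ P.fromSpecResidueField x' = σ := by
  subst hx'
  exact ⟨_, Scheme.descResidueField_stalkClosedPointTo_fromSpecResidueField K P σ⟩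

theorem rfm_comp_eq {K : Type u} [Field K] {P S : Scheme.{u}} (h : P ⟶ S) (x' : P)
    (ρ : P.residueField x' ⟶ CommRingCat.of K) (θ : S.residueField (h x') ⟶ CommRingCat.of K)
    (hρθ : (Spec.map ρ ≫ P.fromSpecResidueField x') ≫ h =
      Spec.map θ ≫ S.fromSpecResidueField (h x')) :
    h.residueFieldMap x' ≫ ρ = θ := by
  apply Spec.map_injective
  rw [← cancel_mono (S.fromSpecResidueField (h x')), ← hρθ,
    Spec.map_comp, Category.assoc, Category.assoc,
    Scheme.Hom.SpecMap_residueFieldMap_fromSpecResidueField]

theorem surjective_residueFieldMap_of_section {K : Type u} [Field K] {P S : Scheme.{u}}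
    (h : P ⟶ S) (σ : Spec (CommRingCat.of K) ⟶ P)
    (θ : S.residueField (h (σ (closedPoint K))) ⟶ CommRingCat.of K)
    (hθ : Function.Surjective θ.hom)
    (hσ : σ ≫ h = Spec.map θ ≫ S.fromSpecResidueField (h (σ (closedPoint K)))) :
    Function.Surjective (h.residueFieldMap (σ (closedPoint K))).hom := by
  obtain ⟨ρ, hρ⟩ := exists_rho σ (σ (closedPoint K)) rfl
  have h3 : h.residueFieldMap (σ (closedPoint K)) ≫ ρ = θ :=
    rfm_comp_eq h _ ρ θ (by rw [hρ, hσ])
  intro b
  obtain ⟨a, ha⟩ := hθ (ρ.hom b)
  refine ⟨a, ?_⟩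
  apply ρ.hom.injective
  rw [← ha, ← h3]
  rfl

theorem hom_ext_of_surjective_residueFieldMap {K : Type u} [Field K] {P S : Scheme.{u}}
    (h : P ⟶ S) (σ₁ σ₂ : Spec (CommRingCat.of K) ⟶ P) (h12 : σ₁ ≫ h = σ₂ ≫ h)
    (hpt : σ₁ (closedPoint K) = σ₂ (closedPoint K))
    (hsurj : Function.Surjective (h.residueFieldMap (σ₂ (closedPoint K))).hom) : σ₁ = σ₂ := by
  set x' := σ₂ (closedPoint K) with hx'
  obtain ⟨ρ₁, hρ₁⟩ := exists_rho σ₁ x' hpt
  obtain ⟨ρ₂, hρ₂⟩ := exists_rho σ₂ x' rfl
  have e₂ : (Spec.map ρ₂ ≫ P.fromSpecResidueField x') ≫ h =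
      Spec.map (h.residueFieldMap x' ≫ ρ₂) ≫ S.fromSpecResidueField (h x') := by
    rw [Spec.map_comp, Category.assoc, Category.assoc,
      Scheme.Hom.SpecMap_residueFieldMap_fromSpecResidueField]
  have e₁ : h.residueFieldMap x' ≫ ρ₁ = h.residueFieldMap x' ≫ ρ₂ :=
    rfm_comp_eq h x' ρ₁ _ (by rw [hρ₁, h12, ← hρ₂, e₂])
  have : ρ₁ = ρ₂ := by
    ext b
    obtain ⟨a, rfl⟩ := hsurj b
    exact congrArg (fun φ => φ.hom a) e₁
  rw [← hρ₁, ← hρ₂, this]

/-- For a surjective ring hom onto a field, `Spec K ⟶ Spec A` factors through the residue field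
of its image point via a surjection. -/
theorem exists_theta_of_surjective {A K : Type u} [CommRing A] [Field K] (φ : A →+* K)
    (hφ : Function.Surjective φ) (p : ↥(Spec (CommRingCat.of A)))
    (hp : (Spec.map (CommRingCat.ofHom φ)) (closedPoint K) = p) :
    ∃ θ : (Spec (CommRingCat.of A)).residueField p ⟶ CommRingCat.of K,
      Function.Surjective θ.hom ∧
      Spec.map θ ≫ (Spec (CommRingCat.of A)).fromSpecResidueField p =
        Spec.map (CommRingCat.ofHom φ) := by
  subst hp
  set j := Spec.map (CommRingCat.ofHom φ) with hj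
  refine ⟨Scheme.descResidueField (Scheme.stalkClosedPointTo j), ?_,
    Scheme.descResidueField_stalkClosedPointTo_fromSpecResidueField K _ j⟩
  set θ := Scheme.descResidueField (Scheme.stalkClosedPointTo j) with hθ
  have hfac : Spec.map θ ≫ (Spec (CommRingCat.of A)).fromSpecResidueField (j (closedPoint K)) = j :=
    Scheme.descResidueField_stalkClosedPointTo_fromSpecResidueField K _ j
  have hfac2 : CommRingCat.ofHom φ =
      ((Scheme.ΓSpecIso (CommRingCat.of A)).inv ≫
        (Spec (CommRingCat.of A)).presheaf.germ ⊤ (j (closedPoint K)) trivial ≫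
        (Spec (CommRingCat.of A)).residue (j (closedPoint K))) ≫ θ := by
    apply Spec.map_injective
    refine hfac.symm.trans ?_
    simp only [Scheme.fromSpecResidueField, Spec.fromSpecStalk_eq, ← Spec.map_comp, Category.assoc]
  intro c
  obtain ⟨a, rfl⟩ := hφ c
  set e := ((Scheme.ΓSpecIso (CommRingCat.of A)).inv ≫
        (Spec (CommRingCat.of A)).presheaf.germ ⊤ (j (closedPoint K)) trivial ≫
        (Spec (CommRingCat.of A)).residue (j (closedPoint K))) with he
  refine ⟨e.hom a, ?_⟩
  have := congrArg (fun ψ => ψ.hom a) hfac2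
  exact this.symm

/-- The residue map of a local ring sends the point of `Spec k` to the closed point. -/
theorem residue_closedPoint (A : Type u) [CommRing A] [IsLocalRing A] :
    (Spec.map (CommRingCat.ofHom (residue A))) (closedPoint (ResidueField A)) = closedPoint A := by
  apply PrimeSpectrum.ext
  change Ideal.comap (residue A) (closedPoint (ResidueField A)).asIdeal = maximalIdeal A
  have h0 : (closedPoint (ResidueField A)).asIdeal = ⊥ := by
    change maximalIdeal (ResidueField A) = ⊥
    exact IsLocalRing.isField_iff_maximalIdeal_eq.mp (Field.toIsField _)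
  rw [h0, ← RingHom.ker_eq_comap_bot, IsLocalRing.ker_residue]

/-- A section through a `k`-point over the closed point of a local ring: the residue field map at
that point is surjective. -/
theorem surjective_residueFieldMap_of_residue_section {A : Type u} [CommRing A] [IsLocalRing A]
    {P : Scheme.{u}} (h : P ⟶ Spec (CommRingCat.of A))
    (σ : Spec (CommRingCat.of (ResidueField A)) ⟶ P)
    (hσ : σ ≫ h = Spec.map (CommRingCat.ofHom (residue A))) :
    Function.Surjective (h.residueFieldMap (σ (closedPoint (ResidueField A)))).hom := by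
  have hp : (Spec.map (CommRingCat.ofHom (residue A))) (closedPoint (ResidueField A)) =
      h (σ (closedPoint (ResidueField A))) := by
    rw [← hσ]; rfl
  obtain ⟨θ, hθs, hθ⟩ := exists_theta_of_surjective (residue A) IsLocalRing.residue_surjective _ hp
  exact surjective_residueFieldMap_of_section h σ θ hθs (by rw [hσ, hθ])

end Groth.Agent.Lib.H30FieldPt
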