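import Groth.Agent.Lib.H30TensorNormal
import Groth.Agent.Lib.H30NormalSmooth
import Groth.Agent.Lib.H14NormalHom
import Groth.Agent.S9412
import Mathlib

/-!
# Geometrically normal algebras and tensor products (Stacks 06DF, non-Noetherian)

* `isNormalRing_of_faithfullyFlat`: normality descends along faithfully flat maps.
* `isNormalRing_algebraic_tensor`, `isNormalRing_field_tensor`: a geometrically normal `k`-algebra
  (defined via finite extensions) stays normal after ANY field extension.
* `isGeometricallyReduced_fractionRing`.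
* `isNormalRing_tensor_of_forall_localization_left/right`.
* `isNormalRing_tensor_of_isGeomNormal`: `A` geometrically normal, `B` normal ⇒ `A ⊗[k] B` normal.
-/

set_option autoImplicit false
universe u
open TensorProduct

namespace Groth.Agent.Lib.H30GeomNormalTensor
open Groth.Agent.Lib.H30NormalEq Groth.Agent.Lib.H30TensorNormal


/-- Normality descends along faithfully flat ring maps. -/
theorem isNormalRing_of_faithfullyFlat (A B : Type u) [CommRing A] [CommRing B] [Algebra A B]
    [Module.FaithfullyFlat A B] (hB : EGA4.IsNormalRing B) : EGA4.IsNormalRing A := by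
  intro p _
  obtain ⟨⟨q, hq⟩, hqp⟩ :=
    PrimeSpectrum.comap_surjective_of_faithfullyFlat (A := A) (B := B) ⟨p, inferInstance⟩
  have hqp' : q.under A = p := congrArg PrimeSpectrum.asIdeal hqp
  subst hqp'
  let := Localization.AtPrime.algebraOfLiesOver (q.under A) q
  have : IsLocalHom (algebraMap (Localization.AtPrime <| q.under A) (Localization.AtPrime q)) := by
    rw [RingHom.algebraMap_toAlgebra]
    exact Localization.isLocalHom_localRingHom (q.under A) q (algebraMap A B) Ideal.LiesOver.over
  have : Module.FaithfullyFlat (Localization.AtPrime (q.under A)) (Localization.AtPrime q) :=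
    Module.FaithfullyFlat.of_flat_of_isLocalHom
  exact Groth.Agent.Lib.H30NormalSmooth.normal_of_faithfullyFlat
    (Localization.AtPrime (q.under A)) (Localization.AtPrime q) (hB q)

/-- Over an algebraically closed field every field extension is geometrically reduced. -/
theorem isGeometricallyReduced_of_isAlgClosed (Ω L' : Type*) [Field Ω] [IsAlgClosed Ω] [Field L']
    [Algebra Ω L'] : Algebra.IsGeometricallyReduced Ω L' := by
  rw [Algebra.isGeometricallyReduced_field_iff]
  have hbij : Function.Bijective (algebraMap Ω (AlgebraicClosure Ω)) :=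
    IsAlgClosed.algebraMap_bijective_of_isIntegral
  let e : Ω ≃ₐ[Ω] AlgebraicClosure Ω := AlgEquiv.ofBijective (Algebra.ofId Ω _) hbij
  let e' : AlgebraicClosure Ω ⊗[Ω] L' ≃ₐ[Ω] L' :=
    (Algebra.TensorProduct.congr e.symm AlgEquiv.refl).trans (Algebra.TensorProduct.lid Ω L')
  exact isReduced_of_injective e'.toRingHom e'.injective



section alg

variable (k A Ω : Type u) [Field k] [CommRing A] [Algebra k A] [Field Ω] [Algebra k Ω]

/-- The comparison map `F ⊗ A → Ω ⊗ A` for an intermediate field `F`. -/
noncomputable def φF (F : IntermediateField k Ω) : F ⊗[k] A →+* Ω ⊗[k] A :=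
  (Algebra.TensorProduct.map F.val (AlgHom.id k A)).toRingHom

theorem φF_injective (F : IntermediateField k Ω) : Function.Injective (φF k A Ω F) := by
  have := Module.Flat.rTensor_preserves_injective_linearMap (M := A) F.val.toLinearMap
    Subtype.val_injective
  exact this

theorem φF_rTensor (F : IntermediateField k Ω) (M' : Submodule k Ω)
    (hle : M' ≤ Subalgebra.toSubmodule F.toSubalgebra) (w : M' ⊗[k] A) :
    φF k A Ω F ((Submodule.inclusion hle).rTensor A w) = M'.subtype.rTensor A w := by
  have h1 : ∀ x, φF k A Ω F x = (F.val.toLinearMap.rTensor A) x := fun x => rfl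
  rw [h1, ← LinearMap.rTensor_comp_apply]
  congr 2

theorem isNormalRing_algebraic_tensor [Algebra.IsAlgebraic k Ω] (hA : EGA4.IsGeomNormal k A) :
    EGA4.IsNormalRing (Ω ⊗[k] A) := by
  classical
  apply isNormalRing_of_approx
    (fun F : {F : IntermediateField k Ω // FiniteDimensional k F} => (F : IntermediateField k Ω) ⊗[k] A)
    (fun F => φF k A Ω F.1) ?_ ?_ (fun F => hA F.1 F.2)
  · intro s
    obtain ⟨M', hM', hs⟩ := TensorProduct.exists_finite_submodule_left_of_setFinite
      (s : Set (Ω ⊗[k] A)) s.finite_toSet
    obtain ⟨t, ht⟩ := Module.Finite.iff_fg.mp hM'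
    have hfd : FiniteDimensional k (IntermediateField.adjoin k (t : Set Ω)) :=
      IntermediateField.finiteDimensional_adjoin
        (fun x _ => (Algebra.IsAlgebraic.isAlgebraic x).isIntegral)
    refine ⟨⟨IntermediateField.adjoin k (t : Set Ω), hfd⟩, ?_⟩
    intro z hz
    obtain ⟨w, rfl⟩ := hs hz
    have hle : M' ≤ Subalgebra.toSubmodule (IntermediateField.adjoin k (t : Set Ω)).toSubalgebra := by
      rw [← ht]
      exact Submodule.span_le.mpr (IntermediateField.subset_adjoin k _)
    exact ⟨_, φF_rTensor k A Ω _ M' hle w⟩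
  · intro F x hx
    refine ⟨F, RingHom.id _, RingHom.comp_id _, ?_⟩
    exact φF_injective k A Ω F.1 (by rw [RingHom.id_apply, hx, map_zero])

end alg



/-- A geometrically normal algebra (w.r.t. finite extensions) stays normal after any field
extension. -/
theorem isNormalRing_field_tensor (k A L : Type u) [Field k] [CommRing A] [Algebra k A] [Field L]
    [Algebra k L] (hA : EGA4.IsGeomNormal k A) : EGA4.IsNormalRing (L ⊗[k] A) := by
  let Ω := AlgebraicClosure k
  let L' := AlgebraicClosure L
  let σ : Ω →ₐ[k] L' := IsAlgClosed.lift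
  letI : Algebra Ω L' := σ.toRingHom.toAlgebra
  haveI : IsScalarTower k Ω L' := IsScalarTower.of_algebraMap_eq (fun x => (σ.commutes x).symm)
  haveI : Algebra.IsGeometricallyReduced Ω L' := isGeometricallyReduced_of_isAlgClosed Ω L'
  have hΩA : EGA4.IsNormalRing (Ω ⊗[k] A) := isNormalRing_algebraic_tensor k A Ω hA
  have h3 : EGA4.IsNormalRing (L' ⊗[Ω] (Ω ⊗[k] A)) := Groth.Agent.S2690.result Ω (Ω ⊗[k] A) L' hΩA
  have h4 : EGA4.IsNormalRing (L' ⊗[k] A) :=
    Groth.Agent.Lib.H30GeomNormal.isNormalRing_of_ringEquiv
      (Algebra.TensorProduct.cancelBaseChange k Ω Ω L' A).toRingEquiv h3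
  have h5 : EGA4.IsNormalRing (L' ⊗[L] (L ⊗[k] A)) :=
    Groth.Agent.Lib.H30GeomNormal.isNormalRing_of_ringEquiv
      (Algebra.TensorProduct.cancelBaseChange k L L L' A).symm.toRingEquiv h4
  have h6 : EGA4.IsNormalRing ((L ⊗[k] A) ⊗[L] L') :=
    Groth.Agent.Lib.H30GeomNormal.isNormalRing_of_ringEquiv
      (Algebra.TensorProduct.comm L L' (L ⊗[k] A)).toRingEquiv h5
  exact isNormalRing_of_faithfullyFlat (L ⊗[k] A) ((L ⊗[k] A) ⊗[L] L') h6

/-- The fraction field of a geometrically normal domain is geometrically reduced. -/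
theorem isGeometricallyReduced_fractionRing (k A K : Type u) [Field k] [CommRing A] [Algebra k A]
    [Field K] [Algebra k K] [Algebra A K] [IsScalarTower k A K] [IsFractionRing A K]
    (hA : EGA4.IsGeomNormal k A) : Algebra.IsGeometricallyReduced k K := by
  rw [Algebra.isGeometricallyReduced_field_iff]
  have hΩA : EGA4.IsNormalRing (AlgebraicClosure k ⊗[k] A) :=
    isNormalRing_algebraic_tensor k A (AlgebraicClosure k) hA
  haveI : IsReduced (AlgebraicClosure k ⊗[k] A) := isReduced_of_isNormalRing hΩA
  constructor
  intro x hx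
  obtain ⟨s, hs, y, hy⟩ := exists_den_right k (AlgebraicClosure k) A K x
  replace hy : Algebra.TensorProduct.map (AlgHom.id k (AlgebraicClosure k))
      (IsScalarTower.toAlgHom k A K) y = 1 ⊗ₜ[k] (algebraMap A K) s * x := hy
  have hinj : Function.Injective (Algebra.TensorProduct.map (AlgHom.id k (AlgebraicClosure k))
      (IsScalarTower.toAlgHom k A K)) :=
    Module.Flat.lTensor_preserves_injective_linearMap (M := AlgebraicClosure k)
      (IsScalarTower.toAlgHom k A K).toLinearMap (IsFractionRing.injective A K)
  have hy0 : y = 0 := by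
    apply IsReduced.eq_zero
    obtain ⟨n, hn⟩ := hx
    refine ⟨n, hinj ?_⟩
    rw [map_pow, hy, mul_pow, hn, mul_zero, map_zero]
  rw [hy0, map_zero] at hy
  exact ((isUnit_one_tmul k (AlgebraicClosure k) A K s hs).mul_right_eq_zero).mp hy.symm



/-- Normality of `A ⊗ B` can be checked after localizing `A` at its primes. -/
theorem isNormalRing_tensor_of_forall_localization_left (k A B : Type u) [CommRing k] [CommRing A]
    [CommRing B] [Algebra k A] [Algebra k B]
    (h : ∀ (p : Ideal A) [p.IsPrime], EGA4.IsNormalRing (Localization.AtPrime p ⊗[k] B)) :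
    EGA4.IsNormalRing (A ⊗[k] B) := by
  intro r hr
  let p : Ideal A := r.comap (algebraMap A (A ⊗[k] B))
  haveI hp : p.IsPrime := Ideal.comap_isPrime _ _
  letI algTT' : Algebra (A ⊗[k] B) (Localization.AtPrime p ⊗[k] B) :=
    (Algebra.TensorProduct.map (IsScalarTower.toAlgHom k A (Localization.AtPrime p))
      (AlgHom.id k B)).toRingHom.toAlgebra
  haveI : IsScalarTower A (A ⊗[k] B) (Localization.AtPrime p ⊗[k] B) :=
    IsScalarTower.of_algebraMap_eq (fun a => by
      rw [RingHom.algebraMap_toAlgebra]
      simp [Algebra.TensorProduct.algebraMap_apply])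
  have H : (algebraMap (A ⊗[k] B) (Localization.AtPrime p ⊗[k] B)).comp
      (Algebra.TensorProduct.includeRight : B →ₐ[k] A ⊗[k] B).toRingHom =
      (Algebra.TensorProduct.includeRight : B →ₐ[k] Localization.AtPrime p ⊗[k] B).toRingHom := by
    ext b
    rw [RingHom.algebraMap_toAlgebra]
    simp
  have hpo : Algebra.IsPushout A (Localization.AtPrime p) (A ⊗[k] B)
      (Localization.AtPrime p ⊗[k] B) :=
    Algebra.IsPushout.tensorProduct_tensorProduct k B A (Localization.AtPrime p) H
  have hloc : IsLocalization (Algebra.algebraMapSubmonoid (A ⊗[k] B) p.primeCompl)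
      (Localization.AtPrime p ⊗[k] B) :=
    (Algebra.isLocalization_iff_isPushout p.primeCompl (Localization.AtPrime p)).mpr hpo.symm
  refine Groth.Agent.Lib.H30GeomNormal.normal_atPrime_of_isLocalization
    (Algebra.algebraMapSubmonoid (A ⊗[k] B) p.primeCompl) r ?_ (h p)
  rw [Set.disjoint_left]
  rintro x ⟨a, ha, rfl⟩ hx
  exact ha hx

/-- Normality of `A ⊗ B` can be checked after localizing `B` at its primes. -/
theorem isNormalRing_tensor_of_forall_localization_right (k A B : Type u) [CommRing k] [CommRing A]
    [CommRing B] [Algebra k A] [Algebra k B]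
    (h : ∀ (q : Ideal B) [q.IsPrime], EGA4.IsNormalRing (A ⊗[k] Localization.AtPrime q)) :
    EGA4.IsNormalRing (A ⊗[k] B) := by
  have h' : EGA4.IsNormalRing (B ⊗[k] A) :=
    isNormalRing_tensor_of_forall_localization_left k B A (fun q _ =>
      Groth.Agent.Lib.H30GeomNormal.isNormalRing_of_ringEquiv
        (Algebra.TensorProduct.comm k A (Localization.AtPrime q)).toRingEquiv (h q))
  exact Groth.Agent.Lib.H30GeomNormal.isNormalRing_of_ringEquiv
    (Algebra.TensorProduct.comm k B A).toRingEquiv h'


/-- **Stacks 06DF**: geometrically normal ⊗ normal is normal (no finiteness hypotheses). -/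
theorem isNormalRing_tensor_of_isGeomNormal (k A B : Type u) [Field k] [CommRing A] [Algebra k A]
    [CommRing B] [Algebra k B] (hA : EGA4.IsGeomNormal k A) (hB : EGA4.IsNormalRing B) :
    EGA4.IsNormalRing (A ⊗[k] B) := by
  apply isNormalRing_tensor_of_forall_localization_left
  intro p _
  apply isNormalRing_tensor_of_forall_localization_right
  intro q _
  have hAp : EGA4.IsGeomNormal k (Localization.AtPrime p) :=
    Groth.Agent.S9412.result k A p.primeCompl (Localization.AtPrime p) hA
  obtain ⟨hAd, hAic⟩ := (Groth.Agent.Lib.H14NormalHom.isNormalRing_of_isGeomNormal k A hA) p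
  obtain ⟨hBd, hBic⟩ := hB q
  haveI : Algebra.IsGeometricallyReduced k (FractionRing (Localization.AtPrime p)) :=
    isGeometricallyReduced_fractionRing k (Localization.AtPrime p) _ hAp
  have h1 : EGA4.IsNormalRing (FractionRing (Localization.AtPrime p) ⊗[k] Localization.AtPrime q) :=
    Groth.Agent.S2690.result k (Localization.AtPrime q) (FractionRing (Localization.AtPrime p))
      (Groth.Agent.Lib.H14NormalConn.isNormalRing_of_isIntegrallyClosed _)
  have h2 : EGA4.IsNormalRing (Localization.AtPrime p ⊗[k] FractionRing (Localization.AtPrime q)) :=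
    Groth.Agent.Lib.H30GeomNormal.isNormalRing_of_ringEquiv
      (Algebra.TensorProduct.comm k (FractionRing (Localization.AtPrime q))
        (Localization.AtPrime p)).toRingEquiv
      (isNormalRing_field_tensor k (Localization.AtPrime p) _ hAp)
  have hT : EGA4.IsNormalRing (FractionRing (Localization.AtPrime p) ⊗[k]
      FractionRing (Localization.AtPrime q)) :=
    Groth.Agent.S2690.result k (FractionRing (Localization.AtPrime q))
      (FractionRing (Localization.AtPrime p)) (isNormalRing_of_field _)
  exact isNormalRing_tensor_of_fractionRings k (Localization.AtPrime p) (Localization.AtPrime q)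
    (FractionRing (Localization.AtPrime p)) (FractionRing (Localization.AtPrime q)) h1 h2 hT
    (exists_idem_tensor_field k _ _)

end Groth.Agent.Lib.H30GeomNormalTensor
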