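import Groth.Agent.Lib.H30FibBC
import Groth.Agent.Lib.H30GenFib
import Groth.Agent.Lib.H69RedInduced
import Groth.Agent.S0402
import Mathlib

/-!
helper30: Chevalley-type bounds for the local fibre dimension without irreducibility hypotheses:
monotonicity under generization, lower bound along the closure of an arbitrary point.
-/

set_option autoImplicit false
universe u
open CategoryTheory CategoryTheory.Limits AlgebraicGeometry

namespace Groth.Agent.Lib.H30LowerBound

open Groth.Agent.Lib.H30DimRel Groth.Agent.Lib.H30FibRes Groth.Agent.Lib.H30DimField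
  Groth.Agent.Lib.H30IrrFib Groth.Agent.Lib.H30LocDimTop Groth.Agent.Lib.H56LocDim

variable {X Y : Scheme.{u}} (f : X ⟶ Y)

/-- the transcendence-degree dimension function of a fibre is the relative transcendence degree -/
theorem td_fiber_eq_rt [LocallyOfFiniteType f] (y : Y) (v : f.fiber y) :
    letI := fiberOver f y
    haveI := lft_fiber f y
    td (Y.residueField y) (f.fiber y) v = (rt f (f.fiberι y v) : ℤ) := by
  letI := fiberOver f y
  haveI := lft_fiber f y
  apply td_eq_of_trdeg_eq
  rw [trdeg_fiber_eq f y v]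
  exact trdeg_eq_rt f _

/-- the local fibre dimension is a natural number -/
theorem exists_nat_fibreDimAt_eq [LocallyOfFiniteType f] (x : X) :
    ∃ m : ℕ, FlatMor.fibreDimAt f x = (m : WithBot ℕ∞) := by
  obtain ⟨w, -, -, -, hw⟩ := exists_rt_eq_fibreDimAt f x
  exact ⟨rt f w, hw.symm⟩

/-- a generization of `x` inside the fibre has transcendence degree at most the local fibre
dimension at `x` -/
theorem rt_le_fibreDimAt_of_specializes [LocallyOfFiniteType f] (x z : X) (hz : f z = f x)
    (h : z ⤳ x) : ((rt f z : ℕ) : WithBot ℕ∞) ≤ FlatMor.fibreDimAt f x := by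
  letI := fiberOver f (f x)
  haveI := lft_fiber f (f x)
  haveI := isLocallyNoetherian (Y.residueField (f x)) (f.fiber (f x))
  have hδ := isDimFun (Y.residueField (f x)) (f.fiber (f x))
  obtain ⟨v, hv⟩ : z ∈ Set.range (f.fiberι (f x)) := by rw [f.range_fiberι]; exact hz
  have h1 : v ⤳ f.asFiber x := by
    apply (f.fiberι (f x)).isEmbedding.isInducing.specializes_iff.mp
    rw [hv, f.fiberι_asFiber]; exact h
  have hloc := localDim_eq (Y.residueField (f x)) (f.fiber (f x)) (f.asFiber x)
  have hge := stalk_dim_ge hδ (f.asFiber x) v h1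
  have htd : td (Y.residueField (f x)) (f.fiber (f x)) v = (rt f z : ℤ) := by
    rw [td_fiber_eq_rt f (f x) v, hv]
  have hle : td (Y.residueField (f x)) (f.fiber (f x)) (f.asFiber x) ≤
      td (Y.residueField (f x)) (f.fiber (f x)) v :=
    delta_mono _ (isDimensionFunction_of_isDimFun hδ) h1
  have hnn := td_nonneg (Y.residueField (f x)) (f.fiber (f x)) (f.asFiber x)
  show _ ≤ FlatMor.localDim _ _
  rw [hloc]
  have h2 : rt f z =
      (td (Y.residueField (f x)) (f.fiber (f x)) v -
        td (Y.residueField (f x)) (f.fiber (f x)) (f.asFiber x)).toNat +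
      (td (Y.residueField (f x)) (f.fiber (f x)) (f.asFiber x)).toNat := by omega
  rw [h2]
  push_cast
  exact add_le_add_left hge _

/-- proper generization inside a fibre strictly increases the transcendence degree -/
theorem rt_lt_of_specializes_ne [LocallyOfFiniteType f] (z z' : X) (hz : f z' = f z)
    (h : z' ⤳ z) (hne : z' ≠ z) : rt f z < rt f z' := by
  letI := fiberOver f (f z)
  haveI := lft_fiber f (f z)
  haveI := isLocallyNoetherian (Y.residueField (f z)) (f.fiber (f z))
  have hδ := isDimFun (Y.residueField (f z)) (f.fiber (f z))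
  obtain ⟨v, hv⟩ : z' ∈ Set.range (f.fiberι (f z)) := by rw [f.range_fiberι]; exact hz
  have h1 : v ⤳ f.asFiber z := by
    apply (f.fiberι (f z)).isEmbedding.isInducing.specializes_iff.mp
    rw [hv, f.fiberι_asFiber]; exact h
  have hne' : v ≠ f.asFiber z := by
    intro he
    apply hne
    rw [← hv, he, f.fiberι_asFiber]
  have hlt := (hδ v (f.asFiber z) h1 hne').1
  rw [td_fiber_eq_rt f (f z) v, td_fiber_eq_rt f (f z) (f.asFiber z), hv, f.fiberι_asFiber] at hlt
  exact_mod_cast hlt

/-- **upper semicontinuity**: the local fibre dimension does not increase under generization -/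
theorem fibreDimAt_le_of_specializes [LocallyOfFiniteType f] (x ζ : X) (h : ζ ⤳ x) :
    FlatMor.fibreDimAt f ζ ≤ FlatMor.fibreDimAt f x := by
  obtain ⟨m, hm⟩ := exists_nat_fibreDimAt_eq f x
  rw [hm]
  have hopen := Groth.Agent.S0402.result f m
  have hxU : x ∈ {x : X | FlatMor.fibreDimAt f x ≤ (m : WithBot ℕ∞)} := hm.le
  exact h.mem_open hopen hxU

/-- **lower bound along the closure of a point** (EGA IV 13.1.1 applied to `closure {ζ}`): every
`x ∈ closure {ζ}` has a generization `z ∈ closure {ζ}` in its fibre whose residue field has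
transcendence degree at least that of `ζ` -/
theorem exists_specialization_rt_ge [LocallyOfFiniteType f] (x ζ : X) (h : ζ ⤳ x) :
    ∃ z : X, ζ ⤳ z ∧ z ⤳ x ∧ f z = f x ∧ rt f ζ ≤ rt f z := by
  let W : TopologicalSpace.Closeds X := ⟨closure {ζ}, isClosed_closure⟩
  have hrange : Set.range (Groth.Agent.Lib.H69RedInduced.redSubι W) = closure {ζ} :=
    Groth.Agent.Lib.H69RedInduced.range_redSubι W
  haveI hirr : IrreducibleSpace (Groth.Agent.Lib.H69RedInduced.redSub W) := by
    have hemb := (Groth.Agent.Lib.H69RedInduced.redSubι W).isEmbedding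
    have h1 : IrreducibleSpace (Set.range (Groth.Agent.Lib.H69RedInduced.redSubι W)) := by
      rw [hrange]
      exact Subtype.irreducibleSpace isIrreducible_singleton.closure
    exact (hemb.toHomeomorph.irreducibleSpace_iff).mpr h1
  obtain ⟨z₀, hz₀⟩ : x ∈ Set.range (Groth.Agent.Lib.H69RedInduced.redSubι W) := by
    rw [hrange]; exact specializes_iff_mem_closure.mp h
  obtain ⟨g₀, hg₀⟩ : ζ ∈ Set.range (Groth.Agent.Lib.H69RedInduced.redSubι W) := by
    rw [hrange]; exact subset_closure rfl
  have hgen : (Groth.Agent.Lib.H69RedInduced.redSubι W)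
      (genericPoint (Groth.Agent.Lib.H69RedInduced.redSub W)) = ζ := by
    have h1 : (Groth.Agent.Lib.H69RedInduced.redSubι W)
        (genericPoint (Groth.Agent.Lib.H69RedInduced.redSub W)) ⤳ ζ := by
      rw [← hg₀]
      exact (genericPoint_specializes g₀).map
        (Groth.Agent.Lib.H69RedInduced.redSubι W).continuous
    have h2 : ζ ⤳ (Groth.Agent.Lib.H69RedInduced.redSubι W)
        (genericPoint (Groth.Agent.Lib.H69RedInduced.redSub W)) := by
      rw [specializes_iff_mem_closure, ← hrange]
      exact ⟨_, rfl⟩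
    exact (h1.antisymm h2).eq
  have key := rt_le_fibreDimAt (Groth.Agent.Lib.H69RedInduced.redSubι W ≫ f) z₀
  obtain ⟨w, hw1, hw2, -, hw4⟩ :=
    exists_rt_eq_fibreDimAt (Groth.Agent.Lib.H69RedInduced.redSubι W ≫ f) z₀
  rw [← hw4, rt_comp_of_isPreimmersion, rt_comp_of_isPreimmersion, hgen] at key
  refine ⟨(Groth.Agent.Lib.H69RedInduced.redSubι W) w, ?_, ?_, ?_, ?_⟩
  · rw [← hgen]
    exact (genericPoint_specializes w).map (Groth.Agent.Lib.H69RedInduced.redSubι W).continuous
  · rw [← hz₀]
    exact hw2.map (Groth.Agent.Lib.H69RedInduced.redSubι W).continuous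
  · rw [← hz₀]
    exact hw1
  · exact_mod_cast key

end Groth.Agent.Lib.H30LowerBound
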