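import Groth.Agent.Lib.H30EquidimAt2
import Groth.Agent.Lib.H30LowerBound
import Mathlib

/-!
helper30: cutting by one equation (Krull's principal ideal theorem in geometric form):
immediate specializations inside the zero locus of a section, exact drop of the relative
transcendence degree along immediate specializations in a fibre, codimension of the maximal points
of a zero locus.
-/

set_option autoImplicit false
universe u
open CategoryTheory CategoryTheory.Limits AlgebraicGeometry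

namespace Groth.Agent.Lib.H30KrullCut

open Groth.Agent.Lib.H30GenFib Groth.Agent.Lib.H30EquidimAt Groth.Agent.Lib.H30DimRel
  Groth.Agent.Lib.H30FibRes Groth.Agent.Lib.H30DimField Groth.Agent.Lib.H30IrrFib
  Groth.Agent.Lib.H30LowerBound

section Ring

variable {R : Type*} [CommRing R] [IsNoetherianRing R]

/-- **Krull's principal ideal theorem**, relative form: there is no prime strictly between a prime
`P` and a minimal prime over `P + (a)` -/
theorem eq_or_eq_of_le_of_mem_minimalPrimes (P : Ideal R) [P.IsPrime] (a : R) (q : Ideal R)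
    (hq : q ∈ (P ⊔ Ideal.span {a}).minimalPrimes) (P' : Ideal R) [P'.IsPrime] (h1 : P ≤ P')
    (h2 : P' ≤ q) : P' = P ∨ P' = q := by
  by_contra hcon
  push Not at hcon
  obtain ⟨hne1, hne2⟩ := hcon
  haveI : q.IsPrime := hq.1.1
  have hht := Ideal.map_height_le_one_of_mem_minimalPrimes hq
  have hsurj : Function.Surjective (Ideal.Quotient.mk P) := Ideal.Quotient.mk_surjective
  have hker : RingHom.ker (Ideal.Quotient.mk P) = P := Ideal.mk_ker
  have hPq : P ≤ q := h1.trans h2
  haveI hp1 : (P'.map (Ideal.Quotient.mk P)).IsPrime :=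
    Ideal.map_isPrime_of_surjective hsurj (by rw [hker]; exact h1)
  haveI hp2 : (q.map (Ideal.Quotient.mk P)).IsPrime :=
    Ideal.map_isPrime_of_surjective hsurj (by rw [hker]; exact hPq)
  have hc1 : (P'.map (Ideal.Quotient.mk P)).comap (Ideal.Quotient.mk P) = P' := by
    rw [Ideal.comap_map_of_surjective _ hsurj, ← RingHom.ker_eq_comap_bot, hker]
    exact sup_eq_left.mpr h1
  have hc2 : (q.map (Ideal.Quotient.mk P)).comap (Ideal.Quotient.mk P) = q := by
    rw [Ideal.comap_map_of_surjective _ hsurj, ← RingHom.ker_eq_comap_bot, hker]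
    exact sup_eq_left.mpr hPq
  have hlt1 : (⊥ : Ideal (R ⧸ P)) < P'.map (Ideal.Quotient.mk P) := by
    rw [bot_lt_iff_ne_bot]
    intro hbot
    apply hne1
    apply le_antisymm _ h1
    rw [← hc1, hbot, ← RingHom.ker_eq_comap_bot, hker]
  have hlt2 : P'.map (Ideal.Quotient.mk P) < q.map (Ideal.Quotient.mk P) := by
    refine lt_of_le_of_ne (Ideal.map_mono h2) ?_
    intro heq
    apply hne2
    rw [← hc1, heq, hc2]
  haveI : (⊥ : Ideal (R ⧸ P)).IsPrime := Ideal.isPrime_bot
  have hA := Ideal.height_add_one_le_of_lt_of_isPrime hlt1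
  have hB := Ideal.height_add_one_le_of_lt_of_isPrime hlt2
  have hC : (⊥ : Ideal (R ⧸ P)).height + 1 + 1 ≤ 1 :=
    ((add_le_add_left hA 1).trans hB).trans hht
  have hD : (1 : ℕ∞) + 1 ≤ (⊥ : Ideal (R ⧸ P)).height + 1 + 1 := by
    gcongr
    exact le_add_self
  have hE : (1 : ℕ∞) + 1 ≤ 1 := hD.trans hC
  exact absurd hE (by decide)

end Ring

section Geom

variable {X : Scheme.{u}}

/-- a global section vanishes at a generization `ξ` of `x` iff its germ at `x` lies in the prime of
`ξ` -/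
theorem germ_mem_ker_iff (g : Γ(X, ⊤)) (x ξ : X) (h : ξ ⤳ x) :
    X.presheaf.germ ⊤ x trivial g ∈ RingHom.ker (Cyc.specMap x ξ h) ↔
      ξ ∈ X.zeroLocus ({g} : Set Γ(X, ⊤)) := by
  rw [Groth.Agent.S6462.ker_specMap, Ideal.mem_comap]
  have h1 : (X.presheaf.stalkSpecializes h).hom (X.presheaf.germ ⊤ x trivial g) =
      X.presheaf.germ ⊤ ξ trivial g := by
    have := TopCat.Presheaf.germ_stalkSpecializes X.presheaf (U := ⊤) (y := x) trivial h
    exact congrArg (fun φ => φ.hom g) this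
  rw [h1, Scheme.mem_zeroLocus_iff]
  simp only [Set.mem_singleton_iff, forall_eq]
  rw [Scheme.mem_basicOpen_top, IsLocalRing.mem_maximalIdeal, mem_nonunits_iff]

/-- **Krull's principal ideal theorem, geometric form**: if the section `g` vanishes at `x` but not
at the generization `ζ` of `x`, there is an immediate specialization `ξ` of `ζ` generizing `x` at
which `g` vanishes -/
theorem exists_immediate_specialization_zeroLocus [IsLocallyNoetherian X] (g : Γ(X, ⊤))
    (x ζ : X) (h : ζ ⤳ x) (hx : x ∈ X.zeroLocus ({g} : Set Γ(X, ⊤)))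
    (hζ : ζ ∉ X.zeroLocus ({g} : Set Γ(X, ⊤))) :
    ∃ ξ : X, ζ ⤳ ξ ∧ ξ ⤳ x ∧ ξ ∈ X.zeroLocus ({g} : Set Γ(X, ⊤)) ∧ ξ ≠ ζ ∧
      ∀ t : X, ζ ⤳ t → t ⤳ ξ → t = ζ ∨ t = ξ := by
  obtain ⟨a, ha⟩ : ∃ a, a = X.presheaf.germ ⊤ x trivial g := ⟨_, rfl⟩
  haveI hP : (RingHom.ker (Cyc.specMap x ζ h)).IsPrime := RingHom.ker_isPrime _
  have hax : a ∈ IsLocalRing.maximalIdeal (X.presheaf.stalk x) := by
    have := (germ_mem_ker_iff g x x (specializes_refl x)).mpr hx
    rw [← ha, Groth.Agent.S6462.ker_specMap, Ideal.mem_comap] at this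
    simpa using this
  have hne : RingHom.ker (Cyc.specMap x ζ h) ⊔ Ideal.span {a} ≠ ⊤ := by
    intro htop
    have h1 : RingHom.ker (Cyc.specMap x ζ h) ⊔ Ideal.span {a} ≤
        IsLocalRing.maximalIdeal (X.presheaf.stalk x) :=
      sup_le (IsLocalRing.le_maximalIdeal hP.ne_top)
        ((Ideal.span_singleton_le_iff_mem _).mpr hax)
    rw [htop] at h1
    exact (IsLocalRing.maximalIdeal.isMaximal _).ne_top (top_le_iff.mp h1)
  obtain ⟨q, hq⟩ := Ideal.nonempty_minimalPrimes hne
  haveI hqp : q.IsPrime := hq.1.1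
  obtain ⟨ξ, hξx, hξq⟩ := exists_specializes_ker_eq x q
  have hPq : RingHom.ker (Cyc.specMap x ζ h) ≤ q := le_sup_left.trans hq.1.2
  have haq : a ∈ q := hq.1.2 (le_sup_right (a := RingHom.ker (Cyc.specMap x ζ h))
    (Ideal.mem_span_singleton_self a))
  have hζξ : ζ ⤳ ξ := by
    rw [← ker_le_ker_iff x ξ ζ hξx h, hξq]
    exact hPq
  have hξg : ξ ∈ X.zeroLocus ({g} : Set Γ(X, ⊤)) := by
    rw [← germ_mem_ker_iff g x ξ hξx, hξq, ← ha]
    exact haq
  refine ⟨ξ, hζξ, hξx, hξg, ?_, ?_⟩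
  · rintro rfl
    exact hζ hξg
  · intro t hζt htξ
    have htx : t ⤳ x := htξ.trans hξx
    haveI : (RingHom.ker (Cyc.specMap x t htx)).IsPrime := RingHom.ker_isPrime _
    have h1 : RingHom.ker (Cyc.specMap x ζ h) ≤ RingHom.ker (Cyc.specMap x t htx) :=
      (ker_le_ker_iff x t ζ htx h).mpr hζt
    have h2 : RingHom.ker (Cyc.specMap x t htx) ≤ q := by
      rw [← hξq]
      exact (ker_le_ker_iff x ξ t hξx htx).mpr htξ
    rcases eq_or_eq_of_le_of_mem_minimalPrimes _ a q hq _ h1 h2 with h3 | h3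
    · left
      have h4 : t ⤳ ζ := (ker_le_ker_iff x ζ t h htx).mp h3.le
      exact (h4.antisymm hζt).eq
    · right
      have h4 : ξ ⤳ t := by
        rw [← ker_le_ker_iff x t ξ htx hξx, hξq, h3]
      exact (htξ.antisymm h4).eq

/-- **Krull's principal ideal theorem at maximal points of a zero locus**: the local ring at a
maximal point of the zero locus of a section has dimension at most one -/
theorem ringKrullDim_stalk_le_one_of_isMax_zeroLocus [IsLocallyNoetherian X] (g : Γ(X, ⊤))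
    (ξ : X) (hξ : ξ ∈ X.zeroLocus ({g} : Set Γ(X, ⊤)))
    (hmax : ∀ t : X, t ∈ X.zeroLocus ({g} : Set Γ(X, ⊤)) → t ⤳ ξ → t = ξ) :
    ringKrullDim (X.presheaf.stalk ξ) ≤ 1 := by
  obtain ⟨a, ha⟩ : ∃ a, a = X.presheaf.germ ⊤ ξ trivial g := ⟨_, rfl⟩
  have hker : RingHom.ker (Cyc.specMap ξ ξ (specializes_refl ξ)) =
      IsLocalRing.maximalIdeal (X.presheaf.stalk ξ) := by
    rw [Groth.Agent.S6462.ker_specMap]
    simp
  have haξ : a ∈ IsLocalRing.maximalIdeal (X.presheaf.stalk ξ) := by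
    rw [← hker, ha, germ_mem_ker_iff]
    exact hξ
  have hmin : IsLocalRing.maximalIdeal (X.presheaf.stalk ξ) ∈
      (Ideal.span {a}).minimalPrimes := by
    refine ⟨⟨inferInstance, (Ideal.span_singleton_le_iff_mem _).mpr haξ⟩, ?_⟩
    rintro q ⟨hqp, hqa⟩ -
    haveI := hqp
    obtain ⟨t, htξ, htq⟩ := exists_specializes_ker_eq ξ q
    have hat : a ∈ RingHom.ker (Cyc.specMap ξ t htξ) := by
      rw [htq]; exact hqa (Ideal.mem_span_singleton_self a)
    rw [ha, germ_mem_ker_iff] at hat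
    have hteq := hmax t hat htξ
    subst hteq
    rw [← htq, hker]
  have hht := Ideal.height_le_one_of_isPrincipal_of_mem_minimalPrimes _ _ hmin
  rw [← IsLocalRing.maximalIdeal_height_eq_ringKrullDim]
  exact_mod_cast hht

end Geom

section Fibre

variable {X Y : Scheme.{u}} (f : X ⟶ Y)

/-- along an immediate specialization inside a fibre the relative transcendence degree drops by
exactly one -/
theorem rt_eq_add_one_of_immediate [LocallyOfFiniteType f] (z z' : X) (hz : f z' = f z)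
    (h : z' ⤳ z) (hne : z' ≠ z) (himm : ∀ t : X, z' ⤳ t → t ⤳ z → t = z' ∨ t = z) :
    rt f z' = rt f z + 1 := by
  letI := fiberOver f (f z)
  haveI := lft_fiber f (f z)
  haveI := isLocallyNoetherian (Y.residueField (f z)) (f.fiber (f z))
  have hδ := isDimFun (Y.residueField (f z)) (f.fiber (f z))
  obtain ⟨v, hv⟩ : z' ∈ Set.range (f.fiberι (f z)) := by rw [f.range_fiberι]; exact hz
  have h1 : v ⤳ f.asFiber z := by
    apply (f.fiberι (f z)).isEmbedding.isInducing.specializes_iff.mp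
    rw [hv, f.fiberι_asFiber]; exact h
  have hne' : v ≠ f.asFiber z := by
    intro he
    apply hne
    rw [← hv, he, f.fiberι_asFiber]
  have himm' : ∀ t : f.fiber (f z), v ⤳ t → t ⤳ f.asFiber z → t = v ∨ t = f.asFiber z := by
    intro t ht1 ht2
    have e1 : z' ⤳ f.fiberι (f z) t := by
      rw [← hv]; exact ht1.map (f.fiberι (f z)).continuous
    have e2 : f.fiberι (f z) t ⤳ z := by
      have := ht2.map (f.fiberι (f z)).continuous
      rwa [f.fiberι_asFiber] at this
    rcases himm _ e1 e2 with h3 | h3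
    · left
      apply (f.fiberι (f z)).isEmbedding.injective
      rw [h3, hv]
    · right
      apply (f.fiberι (f z)).isEmbedding.injective
      rw [h3, f.fiberι_asFiber]
  have heq := (hδ v (f.asFiber z) h1 hne').2 himm'
  rw [td_fiber_eq_rt f (f z) v, td_fiber_eq_rt f (f z) (f.asFiber z), hv, f.fiberι_asFiber] at heq
  exact_mod_cast heq

/-- **cutting the fibre by one equation**: if the section `g` vanishes at `x` but at no maximal
point of the fibre through `x`, the local fibre dimension at `x` of the zero locus of `g` is one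
less than that of `X` -/
theorem fibreDimAt_zeroLocus_add_one [IsLocallyNoetherian X] [LocallyOfFiniteType f] (x : X)
    (g : Γ(X, ⊤)) (hgx : x ∈ X.zeroLocus ({g} : Set Γ(X, ⊤)))
    (hmax : ∀ z : X, f z = f x → (∀ z' : X, f z' = f x → z' ⤳ z → z' = z) →
      z ∉ X.zeroLocus ({g} : Set Γ(X, ⊤)))
    {Z : Scheme.{u}} (ι : Z ⟶ X) [IsClosedImmersion ι]
    (hrange : Set.range ι = X.zeroLocus ({g} : Set Γ(X, ⊤))) (w : Z) (hw : ι w = x) :
    FlatMor.fibreDimAt (ι ≫ f) w + 1 = FlatMor.fibreDimAt f x := by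
  obtain ⟨e, he⟩ := exists_nat_fibreDimAt_eq f x
  obtain ⟨e', he'⟩ := exists_nat_fibreDimAt_eq (ι ≫ f) w
  have hpt : ∀ a : Z, (ι ≫ f) a = f (ι a) := fun a => rfl
  have hle : e' + 1 ≤ e := by
    obtain ⟨w', hw'1, hw'2, -, hw'4⟩ := exists_rt_eq_fibreDimAt (ι ≫ f) w
    have hξg : ι w' ∈ X.zeroLocus ({g} : Set Γ(X, ⊤)) := by rw [← hrange]; exact ⟨w', rfl⟩
    have hξy : f (ι w') = f x := by rw [← hpt, hw'1, hpt, hw]
    have hξx : ι w' ⤳ x := by rw [← hw]; exact hw'2.map ι.continuous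
    have hnot : ¬ ∀ z' : X, f z' = f x → z' ⤳ ι w' → z' = ι w' := fun hh => hmax _ hξy hh hξg
    push Not at hnot
    obtain ⟨ξ', hξ'y, hξ'sp, hξ'ne⟩ := hnot
    have h1 := rt_lt_of_specializes_ne f (ι w') ξ' (hξ'y.trans hξy.symm) hξ'sp hξ'ne
    have h2 := rt_le_fibreDimAt_of_specializes f x ξ' hξ'y (hξ'sp.trans hξx)
    rw [he] at h2
    have h3 : rt f ξ' ≤ e := by exact_mod_cast h2
    rw [rt_comp_of_isPreimmersion, he'] at hw'4
    have h4 : rt f (ι w') = e' := by exact_mod_cast hw'4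
    omega
  have hge : e ≤ e' + 1 := by
    obtain ⟨ζ, hζ1, hζ2, hζ3, hζ4⟩ := exists_rt_eq_fibreDimAt f x
    have hζg := hmax ζ hζ1 hζ3
    obtain ⟨ξ, hζξ, hξx, hξg, hξne, himm⟩ :=
      exists_immediate_specialization_zeroLocus g x ζ hζ2 hgx hζg
    have hξy : f ξ = f x := by
      have e1 : f ζ ⤳ f ξ := hζξ.map f.continuous
      have e2 : f ξ ⤳ f x := hξx.map f.continuous
      rw [hζ1] at e1
      exact (e2.antisymm e1).eq
    have h1 := rt_eq_add_one_of_immediate f ξ ζ (hζ1.trans hξy.symm) hζξ hξne.symm himm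
    obtain ⟨w'', hw''⟩ : ξ ∈ Set.range ι := by rw [hrange]; exact hξg
    have hw''w : w'' ⤳ w := by
      apply ι.isEmbedding.isInducing.specializes_iff.mp
      rw [hw'', hw]; exact hξx
    have hw''y : (ι ≫ f) w'' = (ι ≫ f) w := by rw [hpt, hpt, hw'', hw, hξy]
    have h2 := rt_le_fibreDimAt_of_specializes (ι ≫ f) w w'' hw''y hw''w
    rw [rt_comp_of_isPreimmersion, hw'', he'] at h2
    have h3 : rt f ξ ≤ e' := by exact_mod_cast h2
    rw [he] at hζ4
    have h4 : rt f ζ = e := by exact_mod_cast hζ4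
    omega
  rw [he, he']
  have : e' + 1 = e := le_antisymm hle hge
  exact_mod_cast this

end Fibre

end Groth.Agent.Lib.H30KrullCut
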