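import Groth.Agent.Lib.H71SepClosedPi0
import Groth.Agent.Lib.H71GeomRedAt5

/-!
# Counting connected components after field extension (helper71)

* `exists_common_extension`: two field extensions of `k` have a common field extension (same universe).
* `card_connectedComponents_le`: `#π₀(X_K) ≤ #π₀(X_Ω)` for `Ω` separably closed (Stacks 0363-type).
-/
set_option autoImplicit false
universe u
open CategoryTheory CategoryTheory.Limits AlgebraicGeometry TensorProduct

namespace Groth.Agent.Lib.H71Pi0Card

/-- Two field extensions of `k` admit a common field extension (in the same universe). -/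
theorem exists_common_extension (k K Ω : Type u) [Field k] [Field K] [Field Ω] [Algebra k K] [Algebra k Ω] :
    ∃ (M : Type u) (_ : Field M) (φ : K →+* M) (ψ : Ω →+* M),
      φ.comp (algebraMap k K) = ψ.comp (algebraMap k Ω) := by
  haveI : Nontrivial (K ⊗[k] Ω) :=
    Algebra.TensorProduct.nontrivial_of_algebraMap_injective_of_flat_left k K Ω (algebraMap k Ω).injective
  obtain ⟨m, hm⟩ := Ideal.exists_maximal (K ⊗[k] Ω)
  letI : Field ((K ⊗[k] Ω) ⧸ m) := Ideal.Quotient.field m
  refine ⟨(K ⊗[k] Ω) ⧸ m, inferInstance,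
    (Ideal.Quotient.mk m).comp (Algebra.TensorProduct.includeLeftRingHom),
    (Ideal.Quotient.mk m).comp (Algebra.TensorProduct.includeRight (R := k) (A := K) (B := Ω)).toRingHom, ?_⟩
  ext c
  simp only [RingHom.comp_apply, Algebra.TensorProduct.includeLeftRingHom_apply, AlgHom.toRingHom_eq_coe,
    RingHom.coe_coe, Algebra.TensorProduct.includeRight_apply]
  congr 1
  rw [Algebra.algebraMap_eq_smul_one, Algebra.algebraMap_eq_smul_one, TensorProduct.smul_tmul]

variable {k : Type u} [Field k]

instance {X S SK S' W : Scheme.{u}} (f : X ⟶ S) (gK : SK ⟶ S) (g' : S' ⟶ S)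
    (bK : W ⟶ SK) (b' : W ⟶ S') (h : b' ≫ g' = bK ≫ gK) [Surjective bK] :
    Surjective (Groth.Agent.Lib.H71GeomRedAt.pullbackCompare f gK g' bK b' h) := by
  delta Groth.Agent.Lib.H71GeomRedAt.pullbackCompare
  infer_instance

/-- The number of connected components of `X_K` is at most that of `X_Ω` for `Ω` separably closed. -/
theorem card_connectedComponents_le (K Ω : Type u) [Field K] [Algebra k K] [Field Ω] [Algebra k Ω]
    [IsSepClosed Ω] {X : Scheme.{u}} (f : X ⟶ Spec (CommRingCat.of k)) :
    Cardinal.mk (_root_.ConnectedComponents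
        ↥(pullback f (Spec.map (CommRingCat.ofHom (algebraMap k K))))) ≤
      Cardinal.mk (_root_.ConnectedComponents
        ↥(pullback f (Spec.map (CommRingCat.ofHom (algebraMap k Ω))))) := by
  obtain ⟨M, _, φ, ψ, hφψ⟩ := exists_common_extension k K Ω
  letI : Algebra Ω M := ψ.toAlgebra
  letI : Algebra K M := φ.toAlgebra
  have hbij := Groth.Agent.Lib.H71SepClosedPi0.bijective_connectedComponentsMap (k := Ω) M
    (pullback.snd f (Spec.map (CommRingCat.ofHom (algebraMap k Ω))))
  haveI hs : Surjective (Spec.map (CommRingCat.ofHom (algebraMap K M))) :=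
    Groth.Agent.Lib.H71SepClosedGeom.surjective_SpecMap M
  have hcomm : Spec.map (CommRingCat.ofHom (algebraMap Ω M)) ≫
      Spec.map (CommRingCat.ofHom (algebraMap k Ω)) =
      Spec.map (CommRingCat.ofHom (algebraMap K M)) ≫ Spec.map (CommRingCat.ofHom (algebraMap k K)) := by
    rw [← Spec.map_comp, ← Spec.map_comp, ← CommRingCat.ofHom_comp, ← CommRingCat.ofHom_comp]
    congr 2
    exact hφψ.symm
  let c := Groth.Agent.Lib.H71GeomRedAt.pullbackCompare f
    (Spec.map (CommRingCat.ofHom (algebraMap k K))) (Spec.map (CommRingCat.ofHom (algebraMap k Ω)))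
    (Spec.map (CommRingCat.ofHom (algebraMap K M))) (Spec.map (CommRingCat.ofHom (algebraMap Ω M))) hcomm
  have hc : Function.Surjective c := c.surjective
  have h1 := Cardinal.mk_le_of_surjective
    (Continuous.connectedComponentsMap_surjective c.continuous hc)
  have h2 := Cardinal.mk_congr (Equiv.ofBijective _ hbij)
  rw [← h2]
  exact h1

end Groth.Agent.Lib.H71Pi0Card
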