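import Groth.Agent.Lib.H71Pi0Bound
import Groth.Agent.Lib.H71Pi0Card
import Groth.Agent.Lib.H71GeomConnComp

/-!
# Making connected components geometrically connected by a finite separable extension (helper71)

* `exists_lift_subscheme`, `compScheme`, `compι`, `range_compι`, `exists_lift_comp`: the connected component of a point
  as a reduced closed subscheme (connected), and lifting reduced-source morphisms into it.
* `finite_connectedComponents_bc`: finiteness of `π₀(X_Ω)` if every component (finitely many) of `X` has a point `x`
  with `[k'_x : k] < ∞`, `k'_x` the separable closure of `k` in `κ(x)`.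
* `finite_and_card_le`: `#π₀(X_K) ≤ #π₀(X_Ω)` in `ℕ` form.
* `exists_not_injective_of_not_geometricallyConnected`: a non-geometrically-connected component splits after a finite
  separable extension.
* `exists_finite_separable_geomConn`: EGA IV 4.5.x / Stacks 04PZ-type: a finite separable extension makes all connected
  components geometrically connected.
-/
set_option autoImplicit false
universe u
open CategoryTheory CategoryTheory.Limits AlgebraicGeometry TensorProduct

namespace Groth.Agent.Lib.H71CompGeomConn

open Groth.Agent.Lib.FieldBC13

/-- A morphism from a reduced scheme whose image lies in a closed subset `Z` factors through the reduced induced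
closed subscheme structure on `Z`. -/
theorem exists_lift_subscheme {X T : Scheme.{u}} [IsReduced T] (g : T ⟶ X)
    (Z : TopologicalSpace.Closeds X) (h : Set.range g ⊆ (Z : Set X)) :
    ∃ l : T ⟶ (Scheme.IdealSheafData.vanishingIdeal Z).subscheme,
      l ≫ (Scheme.IdealSheafData.vanishingIdeal Z).subschemeι = g := by
  refine ⟨IsClosedImmersion.lift (Scheme.IdealSheafData.vanishingIdeal Z).subschemeι g ?_,
    IsClosedImmersion.lift_fac _ _ _⟩
  rw [Scheme.IdealSheafData.ker_subschemeι, ← Scheme.IdealSheafData.map_bot,
    ← Scheme.nilradical_eq_bot, ← Scheme.IdealSheafData.vanishingIdeal_top,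
    Scheme.IdealSheafData.map_vanishingIdeal]
  apply Scheme.IdealSheafData.vanishingIdeal_antimono
  rw [TopologicalSpace.Closeds.closure_le]
  rintro _ ⟨t, -, rfl⟩
  exact h ⟨t, rfl⟩

section Comp

variable {X : Scheme.{u}} (x : X)

/-- The connected component of `x`, as a reduced closed subscheme. -/
noncomputable abbrev compScheme : Scheme.{u} :=
  (Scheme.IdealSheafData.vanishingIdeal
    ⟨connectedComponent x, isClosed_connectedComponent⟩).subscheme

/-- The closed immersion of the connected component of `x`. -/
noncomputable abbrev compι : compScheme x ⟶ X :=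
  (Scheme.IdealSheafData.vanishingIdeal
    ⟨connectedComponent x, isClosed_connectedComponent⟩).subschemeι

theorem range_compι : Set.range (compι x) = connectedComponent x := by
  rw [Scheme.IdealSheafData.range_subschemeι, Scheme.IdealSheafData.coe_support_vanishingIdeal]
  rfl

instance : ConnectedSpace ↥(compScheme x) := by
  have hx : x ∈ Set.range (compι x) := range_compι x ▸ mem_connectedComponent
  obtain ⟨z, hz⟩ := hx
  have hemb : Topology.IsEmbedding (compι x) := (compι x).isClosedEmbedding.isEmbedding
  have hpre : _root_.IsPreconnected ((compι x) '' Set.univ) := by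
    rw [Set.image_univ, range_compι]
    exact isPreconnected_connectedComponent
  have := (hemb.isInducing.isPreconnected_image).mp hpre
  exact { toPreconnectedSpace := ⟨this⟩, toNonempty := ⟨z⟩ }

theorem exists_compι_eq : ∃ z : ↥(compScheme x), compι x z = x := by
  have hx : x ∈ Set.range (compι x) := range_compι x ▸ mem_connectedComponent
  exact hx

/-- A morphism from a reduced scheme with image in the connected component of `x` lifts to `compScheme x`. -/
theorem exists_lift_comp {T : Scheme.{u}} [IsReduced T] (g : T ⟶ X)
    (h : Set.range g ⊆ connectedComponent x) :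
    ∃ l : T ⟶ compScheme x, l ≫ compι x = g :=
  exists_lift_subscheme g ⟨connectedComponent x, isClosed_connectedComponent⟩ h

end Comp

variable {k : Type u} [Field k]

/-- If every connected component of `X` (finitely many) has a point `x` such that the separable closure of `k` in `κ(x)`
is finite over `k`, then `X_Ω` has finitely many connected components (`Ω` algebraically closed). -/
theorem finite_connectedComponents_bc (Ω : Type u) [Field Ω] [Algebra k Ω] [IsAlgClosed Ω]
    {X : Scheme.{u}} (f : X ⟶ Spec (CommRingCat.of k)) [Finite (_root_.ConnectedComponents ↥X)]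
    (hx : ∀ c : _root_.ConnectedComponents ↥X, ∃ x : X, (x : _root_.ConnectedComponents ↥X) = c ∧
      ∃ φ : k →+* X.residueField x,
        Spec.map (CommRingCat.ofHom φ) = X.fromSpecResidueField x ≫ f ∧
        (letI := φ.toAlgebra; FiniteDimensional k (separableClosure k (X.residueField x)))) :
    Finite (_root_.ConnectedComponents
      ↥(pullback f (Spec.map (CommRingCat.ofHom (algebraMap k Ω))))) := by
  choose x hxc φ hφ hfd using hx
  have hfin : ∀ c : _root_.ConnectedComponents ↥X, Finite (_root_.ConnectedComponents
      ↥(pullback (compι (x c) ≫ f) (Spec.map (CommRingCat.ofHom (algebraMap k Ω))))) := by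
    intro c
    letI := (φ c).toAlgebra
    haveI := hfd c
    have hr : Set.range (X.fromSpecResidueField (x c)) ⊆ connectedComponent (x c) := by
      rw [Scheme.range_fromSpecResidueField]
      simpa using mem_connectedComponent
    obtain ⟨l, hl⟩ := exists_lift_comp (x c) (X.fromSpecResidueField (x c)) hr
    refine (Groth.Agent.Lib.H71Pi0Bound.card_connectedComponents_le_finrank (Ω := Ω) (compι (x c) ≫ f)
      (X.residueField (x c)) l ?_).1
    rw [← Category.assoc, hl]
    exact (hφ c).symm
  let F : (Σ c : _root_.ConnectedComponents ↥X, _root_.ConnectedComponents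
      ↥(pullback (compι (x c) ≫ f) (Spec.map (CommRingCat.ofHom (algebraMap k Ω))))) →
      _root_.ConnectedComponents ↥(pullback f (Spec.map (CommRingCat.ofHom (algebraMap k Ω)))) :=
    fun p => Continuous.connectedComponentsMap
      (mapK Ω f (compι (x p.1) ≫ f) (compι (x p.1)) rfl).continuous p.2
  have hF : Function.Surjective F := by
    intro y'
    obtain ⟨y, rfl⟩ := ConnectedComponents.surjective_coe y'
    set c : _root_.ConnectedComponents ↥X :=
      ((pullback.fst f (Spec.map (CommRingCat.ofHom (algebraMap k Ω))) y : X) :
        _root_.ConnectedComponents ↥X) with hc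
    have hmem : pullback.fst f (Spec.map (CommRingCat.ofHom (algebraMap k Ω))) y ∈
        Set.range (compι (x c)) := by
      rw [range_compι]
      exact ConnectedComponents.coe_eq_coe'.mp (hxc c).symm
    obtain ⟨z, hz⟩ := hmem
    have hpb := isPullback_mapK Ω f (compι (x c) ≫ f) (compι (x c)) rfl
    obtain ⟨p, hp1, hp2⟩ := Scheme.exists_preimage_of_isPullback hpb y z hz.symm
    refine ⟨⟨c, (p : _root_.ConnectedComponents _)⟩, ?_⟩
    show Continuous.connectedComponentsMap _ _ = _
    rw [Continuous.connectedComponentsMap_mk, hp1]
  exact Finite.of_surjective F hF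

/-- Finiteness and a bound for `π₀(X_K)` given finiteness of `π₀(X_Ω)`, `Ω` separably closed. -/
theorem finite_and_card_le (K Ω : Type u) [Field K] [Algebra k K] [Field Ω] [Algebra k Ω] [IsSepClosed Ω]
    {X : Scheme.{u}} (f : X ⟶ Spec (CommRingCat.of k))
    [hΩ : Finite (_root_.ConnectedComponents
      ↥(pullback f (Spec.map (CommRingCat.ofHom (algebraMap k Ω)))))] :
    Finite (_root_.ConnectedComponents
      ↥(pullback f (Spec.map (CommRingCat.ofHom (algebraMap k K))))) ∧
    Nat.card (_root_.ConnectedComponents
      ↥(pullback f (Spec.map (CommRingCat.ofHom (algebraMap k K))))) ≤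
    Nat.card (_root_.ConnectedComponents
      ↥(pullback f (Spec.map (CommRingCat.ofHom (algebraMap k Ω))))) := by
  have hle := Groth.Agent.Lib.H71Pi0Card.card_connectedComponents_le K Ω f
  have hlt : Cardinal.mk (_root_.ConnectedComponents
      ↥(pullback f (Spec.map (CommRingCat.ofHom (algebraMap k Ω))))) < Cardinal.aleph0 :=
    Cardinal.lt_aleph0_iff_finite.mpr hΩ
  exact ⟨Cardinal.lt_aleph0_iff_finite.mp (hle.trans_lt hlt), Cardinal.toNat_le_toNat hle hlt⟩

/-- If the connected component of `y` in the `k`-scheme `Y` (finitely many components) is not geometrically connected,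
some finite separable extension `L/k` strictly refines the set of connected components. -/
theorem exists_not_injective_of_not_geometricallyConnected {Y : Scheme.{u}}
    (g : Y ⟶ Spec (CommRingCat.of k)) [Finite (_root_.ConnectedComponents ↥Y)] (y : Y)
    (hng : ¬ GeometricallyConnected (compι y ≫ g)) :
    ∃ (L : Type u) (_ : Field L) (_ : Algebra k L), FiniteDimensional k L ∧ Algebra.IsSeparable k L ∧
      ¬ Function.Injective (Continuous.connectedComponentsMap
        (pullback.fst g (Spec.map (CommRingCat.ofHom (algebraMap k L)))).continuous) := by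
  have hex : ∃ (L : Type u) (_ : Field L) (_ : Algebra k L), FiniteDimensional k L ∧
      Algebra.IsSeparable k L ∧
      ¬ ConnectedSpace ↥(pullback (compι y ≫ g) (Spec.map (CommRingCat.ofHom (algebraMap k L)))) := by
    by_contra hcon
    apply hng
    apply Groth.Agent.Lib.H71FinSepConn.geometricallyConnected_of_forall_finite_separable
    intro L _ _ _ _
    by_contra hL
    exact hcon ⟨L, inferInstance, inferInstance, inferInstance, inferInstance, hL⟩
  obtain ⟨L, _, _, hfd, hsep, hL⟩ := hex
  refine ⟨L, inferInstance, inferInstance, hfd, hsep, ?_⟩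
  obtain ⟨z₀, hz₀⟩ := exists_compι_eq y
  obtain ⟨w₀, hw₀⟩ := surjective_fst L (compι y ≫ g) z₀
  have hne : connectedComponent w₀ ≠ Set.univ := by
    intro h
    exact hL (connectedSpace_iff_connectedComponent.mpr ⟨w₀, h⟩)
  obtain ⟨w₁, hw₁⟩ := (Set.ne_univ_iff_exists_notMem _).mp hne
  have hpb := isPullback_mapK L g (compι y ≫ g) (compι y) rfl
  haveI : IsClosedImmersion (mapK L g (compι y ≫ g) (compι y) rfl) :=
    MorphismProperty.of_isPullback hpb.flip (inferInstanceAs (IsClosedImmersion (compι y)))
  have hemb : Topology.IsEmbedding (mapK L g (compι y ≫ g) (compι y) rfl) :=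
    (mapK L g (compι y ≫ g) (compι y) rfl).isClosedEmbedding.isEmbedding
  -- the two points have the same image component downstairs
  have hsame : ∀ w : ↥(pullback (compι y ≫ g) (Spec.map (CommRingCat.ofHom (algebraMap k L)))),
      pullback.fst g (Spec.map (CommRingCat.ofHom (algebraMap k L)))
        (mapK L g (compι y ≫ g) (compι y) rfl w) ∈ connectedComponent y := by
    intro w
    rw [← Scheme.Hom.comp_apply, Groth.Agent.Lib.GalAct13.mapK_fst, Scheme.Hom.comp_apply,
      ← range_compι]
    exact ⟨_, rfl⟩
  intro hinj
  apply hw₁
  have heq : (ConnectedComponents.mk (mapK L g (compι y ≫ g) (compι y) rfl w₁) :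
        _root_.ConnectedComponents ↥(pullback g (Spec.map (CommRingCat.ofHom (algebraMap k L))))) =
      ConnectedComponents.mk (mapK L g (compι y ≫ g) (compι y) rfl w₀) := by
    apply hinj
    rw [Continuous.connectedComponentsMap_mk, Continuous.connectedComponentsMap_mk,
      ConnectedComponents.coe_eq_coe']
    have h1 := hsame w₁
    have h0 := hsame w₀
    rw [← connectedComponent_eq h0]
    exact h1
  rw [ConnectedComponents.coe_eq_coe'] at heq
  -- the preimage of the connected component of `y` is clopen upstairs and equals the range of `m`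
  have hclopen : IsClopen (connectedComponent y) := by
    rw [← connectedComponents_preimage_singleton]
    exact (isClopen_discrete _).preimage ConnectedComponents.continuous_coe
  have hVclopen : IsClopen ((pullback.fst g (Spec.map (CommRingCat.ofHom (algebraMap k L)))) ⁻¹'
      connectedComponent y) := hclopen.preimage (pullback.fst g _).continuous
  have hEsub : connectedComponent (mapK L g (compι y ≫ g) (compι y) rfl w₀) ⊆
      (pullback.fst g (Spec.map (CommRingCat.ofHom (algebraMap k L)))) ⁻¹' connectedComponent y :=
    isPreconnected_connectedComponent.subset_isClopen hVclopen ⟨_, mem_connectedComponent, hsame w₀⟩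
  have hVrange : (pullback.fst g (Spec.map (CommRingCat.ofHom (algebraMap k L)))) ⁻¹'
      connectedComponent y ⊆ Set.range (mapK L g (compι y ≫ g) (compι y) rfl) := by
    intro v hv
    rw [Set.mem_preimage, ← range_compι] at hv
    obtain ⟨z, hz⟩ := hv
    obtain ⟨p, hp1, -⟩ := Scheme.exists_preimage_of_isPullback hpb v z hz.symm
    exact ⟨p, hp1⟩
  have himg : (mapK L g (compι y ≫ g) (compι y) rfl) ''
      ((mapK L g (compι y ≫ g) (compι y) rfl) ⁻¹'
        connectedComponent (mapK L g (compι y ≫ g) (compι y) rfl w₀)) =
      connectedComponent (mapK L g (compι y ≫ g) (compι y) rfl w₀) := by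
    rw [Set.image_preimage_eq_inter_range]
    exact Set.inter_eq_left.mpr (hEsub.trans hVrange)
  have hpre : _root_.IsPreconnected ((mapK L g (compι y ≫ g) (compι y) rfl) ⁻¹'
      connectedComponent (mapK L g (compι y ≫ g) (compι y) rfl w₀)) := by
    rw [← hemb.isInducing.isPreconnected_image, himg]
    exact isPreconnected_connectedComponent
  exact hpre.subset_connectedComponent (x := w₀) mem_connectedComponent heq

/-- **Stacks 04PZ/EGA IV 4.5.x**: if `X` has finitely many connected components, each containing a point `x` such that
the separable closure of `k` in `κ(x)` is finite over `k`, then after a finite separable extension `k''/k` all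
connected components of `X_{k''}` are geometrically connected. -/
theorem exists_finite_separable_geomConn {X : Scheme.{u}} (f : X ⟶ Spec (CommRingCat.of k))
    [Finite (_root_.ConnectedComponents ↥X)]
    (hx : ∀ c : _root_.ConnectedComponents ↥X, ∃ x : X, (x : _root_.ConnectedComponents ↥X) = c ∧
      ∃ φ : k →+* X.residueField x,
        Spec.map (CommRingCat.ofHom φ) = X.fromSpecResidueField x ≫ f ∧
        (letI := φ.toAlgebra; FiniteDimensional k (separableClosure k (X.residueField x)))) :
    ∃ (k'' : Type u) (_ : Field k'') (_ : Algebra k k''), FiniteDimensional k k'' ∧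
      Algebra.IsSeparable k k'' ∧
      ∀ x' : ↥(pullback f (Spec.map (CommRingCat.ofHom (algebraMap k k'')))),
        GeometricallyConnected
          (compι x' ≫ pullback.snd f (Spec.map (CommRingCat.ofHom (algebraMap k k'')))) := by
  classical
  haveI hΩ := finite_connectedComponents_bc (AlgebraicClosure k) f hx
  set N := Nat.card (_root_.ConnectedComponents
      ↥(pullback f (Spec.map (CommRingCat.ofHom (algebraMap k (AlgebraicClosure k)))))) with hN
  let P : ℕ → Prop := fun n => ∃ (k'' : Type u) (_ : Field k'') (_ : Algebra k k''),
    FiniteDimensional k k'' ∧ Algebra.IsSeparable k k'' ∧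
    Nat.card (_root_.ConnectedComponents
      ↥(pullback f (Spec.map (CommRingCat.ofHom (algebraMap k k''))))) = n
  have hP0 : P (Nat.card (_root_.ConnectedComponents
      ↥(pullback f (Spec.map (CommRingCat.ofHom (algebraMap k k)))))) :=
    ⟨k, inferInstance, inferInstance, inferInstance, inferInstance, rfl⟩
  have hbound : ∀ n, P n → n ≤ N := by
    rintro n ⟨k'', _, _, _, _, rfl⟩
    exact (finite_and_card_le k'' (AlgebraicClosure k) f).2
  have hspec : P (Nat.findGreatest P N) := Nat.findGreatest_spec (hbound _ hP0) hP0
  have hmax : ∀ n, P n → n ≤ Nat.findGreatest P N := fun n hn =>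
    Nat.le_findGreatest (hbound n hn) hn
  obtain ⟨k'', _, _, hfd, hsep, hn⟩ := hspec
  refine ⟨k'', inferInstance, inferInstance, hfd, hsep, ?_⟩
  intro x'
  by_contra hng
  haveI hfinY : Finite (_root_.ConnectedComponents
      ↥(pullback f (Spec.map (CommRingCat.ofHom (algebraMap k k''))))) :=
    (finite_and_card_le k'' (AlgebraicClosure k) f).1
  obtain ⟨L, _, _, hLfd, hLsep, hninj⟩ := exists_not_injective_of_not_geometricallyConnected
    (pullback.snd f (Spec.map (CommRingCat.ofHom (algebraMap k k'')))) x' hng
  letI : Algebra k L := ((algebraMap k'' L).comp (algebraMap k k'')).toAlgebra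
  haveI : IsScalarTower k k'' L := IsScalarTower.of_algebraMap_eq fun _ => rfl
  haveI : FiniteDimensional k L := FiniteDimensional.trans k k'' L
  haveI : Algebra.IsSeparable k L := Algebra.IsSeparable.trans k k'' L
  let e := Groth.Agent.Lib.H71GeomRedAt.pullbackTransIso f
    (Spec.map (CommRingCat.ofHom (algebraMap k k'')))
    (Spec.map (CommRingCat.ofHom (algebraMap k'' L)))
    (Spec.map (CommRingCat.ofHom (algebraMap k L)))
    (by rw [← Spec.map_comp, ← CommRingCat.ofHom_comp, ← IsScalarTower.algebraMap_eq])
  haveI hA : Finite (_root_.ConnectedComponents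
      ↥(pullback f (Spec.map (CommRingCat.ofHom (algebraMap k L))))) :=
    (finite_and_card_le L (AlgebraicClosure k) f).1
  have hαs : Function.Surjective (Continuous.connectedComponentsMap e.inv.continuous) :=
    Continuous.connectedComponentsMap_surjective _ e.inv.surjective
  haveI hB : Finite (_root_.ConnectedComponents
      ↥(pullback (pullback.snd f (Spec.map (CommRingCat.ofHom (algebraMap k k''))))
        (Spec.map (CommRingCat.ofHom (algebraMap k'' L))))) := Finite.of_surjective _ hαs
  have hβs : Function.Surjective (Continuous.connectedComponentsMap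
      (pullback.fst (pullback.snd f (Spec.map (CommRingCat.ofHom (algebraMap k k''))))
        (Spec.map (CommRingCat.ofHom (algebraMap k'' L)))).continuous) :=
    Continuous.connectedComponentsMap_surjective _ (surjective_fst L _)
  have h1 : Nat.card (_root_.ConnectedComponents
      ↥(pullback f (Spec.map (CommRingCat.ofHom (algebraMap k k''))))) <
      Nat.card (_root_.ConnectedComponents
      ↥(pullback (pullback.snd f (Spec.map (CommRingCat.ofHom (algebraMap k k''))))
        (Spec.map (CommRingCat.ofHom (algebraMap k'' L))))) := by
    letI := Fintype.ofFinite (_root_.ConnectedComponents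
      ↥(pullback f (Spec.map (CommRingCat.ofHom (algebraMap k k'')))))
    letI := Fintype.ofFinite (_root_.ConnectedComponents
      ↥(pullback (pullback.snd f (Spec.map (CommRingCat.ofHom (algebraMap k k''))))
        (Spec.map (CommRingCat.ofHom (algebraMap k'' L)))))
    rw [Nat.card_eq_fintype_card, Nat.card_eq_fintype_card]
    exact Fintype.card_lt_of_surjective_not_injective _ hβs hninj
  have h2 := Nat.card_le_card_of_surjective _ hαs
  have h3 : Nat.card (_root_.ConnectedComponents
      ↥(pullback f (Spec.map (CommRingCat.ofHom (algebraMap k L))))) ≤ Nat.findGreatest P N :=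
    hmax _ ⟨L, inferInstance, inferInstance, inferInstance, inferInstance, rfl⟩
  omega

/-- Preimage form of `exists_finite_separable_geomConn`. -/
theorem exists_finite_separable_isConnected_preimage {X : Scheme.{u}} (f : X ⟶ Spec (CommRingCat.of k))
    [Finite (_root_.ConnectedComponents ↥X)]
    (hx : ∀ c : _root_.ConnectedComponents ↥X, ∃ x : X, (x : _root_.ConnectedComponents ↥X) = c ∧
      ∃ φ : k →+* X.residueField x,
        Spec.map (CommRingCat.ofHom φ) = X.fromSpecResidueField x ≫ f ∧
        (letI := φ.toAlgebra; FiniteDimensional k (separableClosure k (X.residueField x)))) :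
    ∃ (k'' : Type u) (_ : Field k'') (_ : Algebra k k''), FiniteDimensional k k'' ∧
      Algebra.IsSeparable k k'' ∧
      ∀ (K : Type u) [Field K] [Algebra k'' K]
        (x' : ↥(pullback f (Spec.map (CommRingCat.ofHom (algebraMap k k''))))),
        _root_.IsConnected ((pullback.fst (pullback.snd f (Spec.map (CommRingCat.ofHom (algebraMap k k''))))
          (Spec.map (CommRingCat.ofHom (algebraMap k'' K)))) ⁻¹' connectedComponent x') := by
  obtain ⟨k'', i1, i2, hfd, hsep, h⟩ := exists_finite_separable_geomConn f hx
  refine ⟨k'', i1, i2, hfd, hsep, ?_⟩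
  intro K _ _ x'
  haveI := h x'
  obtain ⟨z, hz⟩ := exists_compι_eq x'
  have := Groth.Agent.Lib.H71GeomConnComp.isConnected_preimage_connectedComponent K
    (pullback.snd f (Spec.map (CommRingCat.ofHom (algebraMap k k''))))
    (compι x' ≫ pullback.snd f (Spec.map (CommRingCat.ofHom (algebraMap k k''))))
    (compι x') rfl z
  rw [hz] at this
  exact this

end Groth.Agent.Lib.H71CompGeomConn
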