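import Groth.Agent.Lib.H86CoprodSp

/-!
# helper86: finite morphisms and finite covers of the source; finite coproducts of sheaves

* `universallyClosed_of_finite_cover`: `f : X ⟶ T` is universally closed if finitely many
  `j i : W i ⟶ X`, jointly surjective, have `j i ≫ f` universally closed.
* `isFinite_of_finite_disjoint_openCover`: `f : X ⟶ T` with `T` affine is finite if `X` is covered by
  finitely many pairwise disjoint affine opens finite over `T`.
* `nonempty_isColimit_of_isPullback`: finite coproducts of fppf sheaves are universal.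
-/

set_option autoImplicit false
set_option linter.style.haveILetI false
universe u
open CategoryTheory CategoryTheory.Limits AlgebraicGeometry Opposite

namespace Groth.Agent.Lib.H86Coprod

open AlgSp

set_option backward.isDefEq.respectTransparency false in
theorem isZariskiLocalAtSource_lft : IsZariskiLocalAtSource @LocallyOfFiniteType := inferInstance

/-- A morphism is universally closed if its restrictions to a finite jointly surjective family are. -/
theorem universallyClosed_of_finite_cover {X T : Scheme.{u}} (f : X ⟶ T) {ι : Type*} [Finite ι]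
    (W : ι → Scheme.{u}) (j : ∀ i, W i ⟶ X) (hcov : ∀ x : X, ∃ i, x ∈ Set.range (j i))
    (h : ∀ i, UniversallyClosed (j i ≫ f)) : UniversallyClosed f := by
  constructor
  intro X' T' i₁ i₂ f' sq
  change IsClosedMap f'
  intro C hC
  have key : f' '' C =
      ⋃ i, (pullback.snd (j i) i₁ ≫ f') '' ((pullback.snd (j i) i₁) ⁻¹' C) := by
    ext t
    constructor
    · rintro ⟨x', hx', rfl⟩
      obtain ⟨i, y, hy⟩ := hcov (i₁ x')
      obtain ⟨p, -, hp2⟩ := Scheme.Pullback.exists_preimage_pullback (f := j i) (g := i₁) y x' hy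
      refine Set.mem_iUnion.2 ⟨i, p, ?_, ?_⟩
      · show pullback.snd (j i) i₁ p ∈ C
        rw [hp2]; exact hx'
      · rw [Scheme.Hom.comp_apply, hp2]
    · intro ht
      obtain ⟨i, p, hp, rfl⟩ := Set.mem_iUnion.1 ht
      exact ⟨pullback.snd (j i) i₁ p, hp, by rw [Scheme.Hom.comp_apply]⟩
  rw [key]
  refine isClosed_iUnion_of_finite fun i => ?_
  have big : IsPullback (pullback.snd (j i) i₁ ≫ f') (pullback.fst (j i) i₁) i₂ (j i ≫ f) :=
    (IsPullback.of_hasPullback (j i) i₁).flip.paste_horiz sq
  have := h i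
  have : UniversallyClosed (pullback.snd (j i) i₁ ≫ f') :=
    MorphismProperty.of_isPullback (P := @UniversallyClosed) big.flip (h i)
  exact (pullback.snd (j i) i₁ ≫ f').isClosedMap _ (hC.preimage (pullback.snd (j i) i₁).continuous)

open scoped Function in
/-- A morphism to an affine scheme is finite if its source is covered by finitely many pairwise
disjoint affine open subschemes, each finite over the target. -/
theorem isFinite_of_finite_disjoint_openCover {X T : Scheme.{u}} [IsAffine T] (f : X ⟶ T)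
    {ι : Type u} [Finite ι] (W : ι → Scheme.{u}) (j : ∀ i, W i ⟶ X) [∀ i, IsOpenImmersion (j i)]
    (hcov : ∀ x : X, ∃ i, x ∈ Set.range (j i))
    (hdisj : Pairwise (Disjoint on fun i => (j i).opensRange))
    (hW : ∀ i, IsAffine (W i)) (h : ∀ i, IsFinite (j i ≫ f)) : IsAffine X ∧ IsFinite f := by
  have hXaff : IsAffine X := by
    have h1 : IsAffineOpen (⨆ i, (j i).opensRange) :=
      IsAffineOpen.iSup_of_disjoint (fun i => isAffineOpen_opensRange (j i)) hdisj
    have h2 : (⨆ i, (j i).opensRange) = ⊤ := by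
      rw [eq_top_iff]
      intro x _
      obtain ⟨i, hi⟩ := hcov x
      exact TopologicalSpace.Opens.mem_iSup.2 ⟨i, hi⟩
    rw [h2] at h1
    have : IsAffine (⊤ : X.Opens).toScheme := h1
    exact IsAffine.of_isIso X.topIso.inv
  refine ⟨hXaff, ?_⟩
  rw [IsFinite.iff_isIntegralHom_and_locallyOfFiniteType]
  refine ⟨?_, ?_⟩
  · rw [IsIntegralHom.iff_universallyClosed_and_isAffineHom]
    refine ⟨universallyClosed_of_finite_cover f W j hcov fun i => ?_, inferInstance⟩
    have := h i
    infer_instance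
  · have hloc := isZariskiLocalAtSource_lft.{u}
    let 𝒰 : X.OpenCover := Scheme.Cover.mkOfCovers ι W j
      (fun x => by obtain ⟨i, y, hy⟩ := hcov x; exact ⟨i, y, hy⟩) inferInstance
    refine (IsZariskiLocalAtSource.iff_of_openCover (P := @LocallyOfFiniteType) 𝒰).2 ?_
    intro (i : ι)
    change LocallyOfFiniteType (j i ≫ f)
    have := h i
    infer_instance

variable {S : Scheme.{u}}

/-- Finite coproducts of fppf sheaves are universal. -/
theorem nonempty_isColimit_of_isPullback {ι : Type*} [Finite ι] {F : ι → Sp S} (c : Cofan F)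
    (hc : IsColimit c) {Q : Sp S} (m : Q ⟶ c.pt) (Qi : ι → Sp S) (a : ∀ i, Qi i ⟶ Q)
    (b : ∀ i, Qi i ⟶ F i) (sq : ∀ i, IsPullback (a i) (b i) m (c.inj i)) :
    Nonempty (IsColimit (Cofan.mk Q a)) := by
  have hu : IsUniversalColimit c := FinitaryPreExtensive.isUniversal_finiteCoproducts hc
  refine hu (Cofan.mk Q a) (Discrete.natTrans fun i => b i.as) m ?_ (.of_discrete _) ?_
  · apply NatTrans.ext
    funext ⟨i⟩
    exact (sq i).w.symm
  · rintro ⟨i⟩
    exact sq i

/-- A finite coproduct of sheaves finite over `Y` is finite over `Y`. -/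
theorem isFiniteMor_desc_of_finite {ι : Type u} [Finite ι] (F : ι → Sp S) {Y : Sp S}
    (g : ∀ i, F i ⟶ Y) (hg : ∀ i, IsFiniteMor (g i)) (c : Cofan F) (hc : IsColimit c)
    (d : c.pt ⟶ Y) (hd : ∀ i, c.inj i ≫ d = g i) : IsFiniteMor d := by
  classical
  intro Z hZ z
  haveI := hZ
  -- the represented fibre products of the summands
  choose W w fst sq hWaff hwfin using fun i => hg i hZ z
  -- the fibre product of the coproduct
  let P : AlgSp.Sp S := pullback d z
  let π₁ : P ⟶ c.pt := pullback.fst d z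
  let π₂ : P ⟶ (AlgSp.yon S).obj Z := pullback.snd d z
  have hP : IsPullback π₁ π₂ d z := IsPullback.of_hasPullback d z
  have hcomm : ∀ i, (fst i ≫ c.inj i) ≫ d = (AlgSp.yon S).map (w i) ≫ z := fun i => by
    rw [Category.assoc, hd i, (sq i).w]
  let a : ∀ i, (AlgSp.yon S).obj (W i) ⟶ P := fun i =>
    pullback.lift (fst i ≫ c.inj i) ((AlgSp.yon S).map (w i)) (hcomm i)
  have ha₁ : ∀ i, a i ≫ π₁ = fst i ≫ c.inj i := fun i => pullback.lift_fst _ _ _
  have ha₂ : ∀ i, a i ≫ π₂ = (AlgSp.yon S).map (w i) := fun i => pullback.lift_snd _ _ _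
  -- each `h_{W i}` is the pullback of the `i`-th summand
  have sqa : ∀ i, IsPullback (a i) (fst i) π₁ (c.inj i) := by
    intro i
    refine IsPullback.of_right ?_ (ha₁ i) hP.flip
    rw [ha₂ i, hd i]
    exact (sq i).flip
  -- so `P` is the coproduct of the `h_{W i}`
  obtain ⟨hcP⟩ := Groth.Agent.Lib.H86Coprod.nonempty_isColimit_of_isPullback c hc π₁ _ a fst sqa
  set cP : Cofan (fun i => (AlgSp.yon S).obj (W i)) := Cofan.mk P a with hcPdef
  have hopen : ∀ i, AlgSp.RepWith @IsOpenImmersion (a i) := fun i =>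
    Groth.Agent.Lib.H69AlgSp.repWith_mono
      (P := (@IsOpenImmersion ⊓ @IsClosedImmersion : MorphismProperty Scheme.{u}))
      (fun _ _ _ h => h.1)
      (Groth.Agent.Lib.H86Coprod.repWith_inj_of_isColimit cP hcP i)
  have hcov : ∀ x : AlgSp.Points P, ∃ i, x ∈ Set.range (AlgSp.Points.map (a i)) := by
    intro x
    have h := Groth.Agent.S10228.points_eq_iUnion_range _ cP hcP
    have hx : x ∈ ⋃ i, Set.range (AlgSp.Points.map (cP.inj i)) := by rw [h]; trivial
    exact Set.mem_iUnion.1 hx
  obtain ⟨X₀, e, j, hj, hjo, hjc⟩ :=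
    Groth.Agent.Lib.H86ZarGlue.exists_iso_yon_of_openCover a hopen hcov
  -- the morphism `X₀ ⟶ Z`
  let w₀ : X₀ ⟶ Z := (AlgSp.yon S).preimage (e.hom ≫ π₂)
  have hw₀ : (AlgSp.yon S).map w₀ = e.hom ≫ π₂ := (AlgSp.yon S).map_preimage _
  have hjw : ∀ i, j i ≫ w₀ = w i := by
    intro i
    apply (AlgSp.yon S).map_injective
    rw [Functor.map_comp, hw₀, ← Category.assoc, hj i, ha₂ i]
  have hpb : IsPullback (e.hom ≫ π₁) ((AlgSp.yon S).map w₀) d z := by
    rw [hw₀]
    exact IsPullback.of_iso_pullback ⟨by rw [Category.assoc, Category.assoc, hP.w]⟩ e rfl rfl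
  -- disjointness of the pieces
  haveI : ∀ i, IsOpenImmersion (j i).left := hjo
  have hdisj : Pairwise (Function.onFun Disjoint fun i => (j i).left.opensRange) := by
    intro i k hik
    change Disjoint (j i).left.opensRange (j k).left.opensRange
    rw [disjoint_iff, eq_bot_iff]
    rintro x ⟨⟨p, hp⟩, ⟨q, hq⟩⟩
    exfalso
    have sqO : IsPullback (pullback.fst (j i) (j k)) (pullback.snd (j i) (j k)) (j i) (j k) :=
      IsPullback.of_hasPullback _ _
    have sqS := sqO.map (Over.forget S)
    obtain ⟨r, -, -⟩ := Scheme.exists_preimage_of_isPullback sqS p q (hp.trans hq.symm)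
    have hE : IsEmpty ↥(pullback (j i) (j k)).left := by
      refine Groth.Agent.Lib.H86Coprod.isEmpty_of_inj_comp_eq cP hcP hik.symm
        ((AlgSp.yon S).map (pullback.fst (j i) (j k)))
        ((AlgSp.yon S).map (pullback.snd (j i) (j k))) ?_
      change _ ≫ a i = _ ≫ a k
      rw [← hj i, ← hj k, ← Category.assoc, ← Category.assoc, ← Functor.map_comp,
        ← Functor.map_comp, sqO.w]
    exact hE.false r
  have hfin : ∀ i, IsFinite ((j i).left ≫ w₀.left) := by
    intro i
    have h1 : (j i).left ≫ w₀.left = (w i).left := congrArg (·.left) (hjw i)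
    rw [h1]
    exact hwfin i
  obtain ⟨hX₀aff, hw₀fin⟩ := Groth.Agent.Lib.H86Coprod.isFinite_of_finite_disjoint_openCover
    w₀.left (fun i => (W i).left) (fun i => (j i).left) hjc hdisj hWaff hfin
  exact ⟨X₀, w₀, e.hom ≫ π₁, hpb, hX₀aff, hw₀fin⟩


end Groth.Agent.Lib.H86Coprod
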