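import Groth.Agent.Lib.ZMTBir2

/-! # Birational ZMT, part 3 (helper34): codimension one, open immersions -/

universe u
open CategoryTheory AlgebraicGeometry Limits

namespace Groth.Agent.Lib.ZMTBir

/-- if `f` is an isomorphism over a nonempty open of the integral scheme `Y`, it is birational. -/
theorem genericPoint_of_isIso_morphismRestrict {X Y : Scheme.{u}} [IsIntegral X] [IsIntegral Y]
    (f : X ⟶ Y) (W : Y.Opens) (hW : (W : Set Y).Nonempty) (hfW : IsIso (f ∣_ W)) :
    f (genericPoint X) = genericPoint Y ∧ IsIso (f.stalkMap (genericPoint X)) := by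
  have hWr : (W : Set Y) ⊆ Set.range f := by
    intro w hw
    obtain ⟨z, hz⟩ := (ConcreteCategory.bijective_of_isIso (f ∣_ W).base).2 ⟨w, hw⟩
    refine ⟨z.1, ?_⟩
    have := congrArg Subtype.val hz
    simpa using this
  have hgen : f (genericPoint X) = genericPoint Y := by
    refine ((genericPoint_spec Y).eq ?_).symm
    have h1 := (genericPoint_spec X).image f.continuous
    rw [isGenericPoint_def] at h1 ⊢
    rw [h1, Set.image_univ, Set.eq_univ_iff_forall]
    intro z
    have hd : Dense (W : Set Y) := W.isOpen.dense hW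
    exact closure_mono hWr (hd z)
  have hηW : f (genericPoint X) ∈ W := by
    rw [hgen]
    exact ((genericPoint_spec Y).mem_open_set_iff W.isOpen).mpr (by simpa using hW)
  exact ⟨hgen, isIso_stalkMap_of_isIso_morphismRestrict f W _ hηW⟩

lemma surjective_of_isProper_of_genericPoint {X Y : Scheme.{u}} [IsIntegral X] [IsIntegral Y]
    (f : X ⟶ Y) [IsProper f] (hgen : f (genericPoint X) = genericPoint Y) :
    Function.Surjective f := by
  have hcl : IsClosed (Set.range f) := f.isClosedMap.isClosed_range
  have hη : genericPoint Y ∈ Set.range f := ⟨genericPoint X, hgen⟩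
  have : closure {genericPoint Y} ⊆ Set.range f := hcl.closure_subset_iff.mpr (by simpa using hη)
  rw [(genericPoint_spec Y).def] at this
  exact Set.range_eq_univ.mp (Set.eq_univ_of_univ_subset this)

/-- proper birational onto a locally Noetherian integral scheme is an isomorphism near normal points of
codimension at most one. -/
theorem exists_isIso_morphismRestrict_of_ringKrullDim_le_one {X Y : Scheme.{u}} [IsIntegral X]
    [IsIntegral Y] [IsLocallyNoetherian Y] (f : X ⟶ Y) [IsProper f]
    (hgen : f (genericPoint X) = genericPoint Y) (hbir : IsIso (f.stalkMap (genericPoint X)))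
    (y : Y) (hic : IsIntegrallyClosed (Y.presheaf.stalk y))
    (hdim : ringKrullDim (Y.presheaf.stalk y) ≤ 1) :
    ∃ V : Y.Opens, y ∈ V ∧ IsIso (f ∣_ V) := by
  obtain ⟨x, rfl⟩ := surjective_of_isProper_of_genericPoint f hgen y
  have hval : ValuationRing (Y.presheaf.stalk (f x)) := by
    have htfae := (tfae_of_isNoetherianRing_of_isLocalRing_of_isDomain
      (Y.presheaf.stalk (f x))).out 3 1
    refine htfae.mp ⟨hic, fun P hP hPp => ?_⟩
    have hK : Ring.KrullDimLE 1 (Y.presheaf.stalk (f x)) := Ring.krullDimLE_iff.mpr hdim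
    rcases Ring.krullDimLE_one_iff.mp hK P hPp with h | h
    · rw [IsDomain.minimalPrimes_eq_singleton_bot] at h
      exact absurd h hP
    · exact IsLocalRing.eq_maximalIdeal h
  have hb := bijective_stalkMap_of_valuationRing f hgen hbir x
  have hq : f.QuasiFiniteAt x :=
    RingHom.QuasiFinite.of_finite (RingHom.Finite.of_surjective _ hb.2)
  exact exists_isIso_morphismRestrict_of_quasiFiniteAt f hgen hbir x hic hq

/-- birational separated quasi-finite morphisms of finite type onto a normal integral scheme are open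
immersions. -/
theorem isOpenImmersion_of_birational_of_finite_fibres {X Y : Scheme.{u}} [IsIntegral X]
    [IsIntegral Y] (hY : ∀ y : Y, IsIntegrallyClosed (Y.presheaf.stalk y)) (f : X ⟶ Y)
    [IsSeparated f] [LocallyOfFiniteType f] [QuasiCompact f]
    (hgen : f (genericPoint X) = genericPoint Y) (hbir : IsIso (f.stalkMap (genericPoint X)))
    (hfin : ∀ y : Y, (f ⁻¹' {y}).Finite) : IsOpenImmersion f := by
  have hlqf : LocallyQuasiFinite f := .of_finite_preimage_singleton _ hfin
  obtain ⟨V, hV, hmem⟩ := exists_isoLocus f hgen hbir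
  have htop : f ⁻¹ᵁ V = ⊤ := by
    rw [eq_top_iff]
    intro x _
    exact hmem x (f.quasiFiniteAt x) (hY _)
  have h1 : IsOpenImmersion ((f ⁻¹ᵁ V).ι ≫ f) := by
    rw [← morphismRestrict_ι]
    infer_instance
  have h2 : IsIso (f ⁻¹ᵁ V).ι := by
    refine (isIso_iff_isOpenImmersion_and_surjective _).mpr ⟨inferInstance, ⟨fun x => ?_⟩⟩
    exact ⟨⟨x, htop ▸ (trivial : x ∈ (⊤ : X.Opens))⟩, rfl⟩
  have e : f = inv (f ⁻¹ᵁ V).ι ≫ (f ⁻¹ᵁ V).ι ≫ f := by simp
  rw [e]
  infer_instance

end Groth.Agent.Lib.ZMTBir
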