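import Groth.Agent.Lib.H90Chow3
import Groth.Agent.Lib.ZMTBir3

/-!
# Local valuative criterion of properness, part 2 (helper85): Chow compactification

For an integral scheme `X` separated and of finite type over an affine scheme `Spec A`, there is a
proper birational `π : X' ⟶ X` with `X'` integral and an immersion `φ : X' ⟶ P` into a proper
`A`-scheme (a version of Chow's lemma without properness of `X`; construction of helper90).
-/

set_option autoImplicit false
universe u
open CategoryTheory CategoryTheory.Limits AlgebraicGeometry TopologicalSpace CohB1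
open Groth.Agent.Lib.ProjProd Groth.Agent.Lib.H90Chow

namespace Groth.Agent.Lib.LocProper85

/-- **Chow compactification** of an integral scheme separated of finite type over an affine base. -/
theorem exists_chow_compactification (A : Type u) [CommRing A] (X : Scheme.{u}) [IsIntegral X]
    (f : X ⟶ Spec (CommRingCat.of A)) [IsSeparated f] [LocallyOfFiniteType f] [QuasiCompact f] :
    ∃ (X' P : Scheme.{u}) (π : X' ⟶ X) (φ : X' ⟶ P) (p : P ⟶ Spec (CommRingCat.of A)),
      IsProper p ∧ IsImmersion φ ∧ φ ≫ p = π ≫ f ∧ IsProper π ∧ Function.Surjective π ∧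
      IsIntegral X' ∧ ∃ U : X.Opens, (U : Set X).Nonempty ∧ IsIso (π ∣_ U) := by
  classical
  have : CompactSpace X := QuasiCompact.compactSpace_of_compactSpace f
  have : QuasiSeparatedSpace X := quasiSeparatedSpace_of_quasiSeparated f
  -- affine neighbourhoods
  have hV : ∀ x : X, ∃ V : X.Opens, IsAffineOpen V ∧ x ∈ V := by
    intro x
    obtain ⟨_, ⟨V, hV, rfl⟩, hxV, -⟩ :=
      X.isBasis_affineOpens.exists_subset_of_mem_open (Set.mem_univ x) isOpen_univ
    exact ⟨V, hV, hxV⟩
  choose V hVa hVx using hV
  obtain ⟨t, ht⟩ := CompactSpace.elim_nhds_subcover (fun x => (V x : Set X))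
    (fun x => (V x).isOpen.mem_nhds (hVx x))
  have htne : t.Nonempty := by
    by_contra hne
    rw [Finset.not_nonempty_iff_eq_empty] at hne
    subst hne
    obtain ⟨x⟩ := (inferInstance : Nonempty X)
    have : x ∈ (⊤ : Set X) := trivial
    rw [← ht] at this
    simp at this
  obtain ⟨r, hr⟩ := Nat.exists_eq_succ_of_ne_zero (Finset.card_ne_zero.mpr htne)
  let e : Fin (r + 1) ≃ ↥t := (finCongr hr.symm).trans t.equivFin.symm
  let Uo : Fin (r + 1) → X.Opens := fun i => V (e i).1
  have cov : ⨆ i, Uo i = ⊤ := by
    rw [eq_top_iff]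
    intro x _
    have hx : x ∈ (⊤ : Set X) := trivial
    rw [← ht] at hx
    simp only [Set.mem_iUnion] at hx
    obtain ⟨y, hy, hxy⟩ := hx
    refine Opens.mem_iSup.mpr ⟨e.symm ⟨y, hy⟩, ?_⟩
    change x ∈ V (e (e.symm ⟨y, hy⟩)).1
    rw [Equiv.apply_symm_apply]
    exact hxy
  have hUa : ∀ i, IsAffineOpen (Uo i) := fun i => hVa _
  have : ∀ i, IsAffine (Uo i).toScheme := fun i => hUa i
  have hne : ∀ i, (Uo i : Set X).Nonempty := fun i => ⟨_, hVx _⟩
  -- immersions into projective spaces
  have him := fun i => Groth.Agent.Lib.AffineFTImm.exists_immersion_of_isAffine A ((Uo i).ι ≫ f)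
  choose n j hjimm hjcomp using him
  have : ∀ i, IsProper (ProjSpace.toSpec (n i) A) :=
    fun i => Groth.Agent.Lib.ProjSpaceProper.isProper_toSpec (n i) A
  have : ∀ i, QuasiSeparatedSpace (ProjSpace (n i) A) :=
    fun i => quasiSeparatedSpace_of_quasiSeparated (ProjSpace.toSpec (n i) A)
  have : ∀ i, IsImmersion (j i) := hjimm
  have : ∀ i, QuasiCompact (j i) := fun i => inferInstance
  let P : Fin (r + 1) → Scheme.{u} := fun i => (j i).image
  let c : ∀ i, P i ⟶ ProjSpace (n i) A := fun i => (j i).imageι
  let q : ∀ i, P i ⟶ Spec (CommRingCat.of A) := fun i => c i ≫ ProjSpace.toSpec (n i) A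
  obtain ⟨D, N, σ, hσ, hσq⟩ := Groth.Agent.Lib.H90Segre.exists_finProd_closedImmersion A r P q n c
    (fun i => inferInstance) (fun i => rfl)
  have := hσ
  have : IsProper (ProjSpace.toSpec N A) := Groth.Agent.Lib.ProjSpaceProper.isProper_toSpec N A
  have hDp : IsProper D.hom := by rw [← hσq]; infer_instance
  have : ∀ i, IsProper (q i) := fun i => inferInstance
  have hcpt : CompactSpace ↥(⨅ i, Uo i : X.Opens) := by
    refine isCompact_iff_compactSpace.mp ?_
    rw [← Finset.inf_univ_eq_iInf]
    exact isCompact_finset_inf _ _ (fun i => (hUa i).isCompact)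
  have hqs : QuasiSeparatedSpace ↥(pullback f D.hom) :=
    quasiSeparatedSpace_of_quasiSeparated (pullback.fst f D.hom ≫ f)
  let C : ChowData (Spec (CommRingCat.of A)) X :=
    { f := f, r := r, P := P, q := q, D := D, Uo := Uo
      t := fun i => (j i).toImage
      ht := fun i => by
        change (j i).toImage ≫ (j i).imageι ≫ _ = _
        rw [← Category.assoc, Scheme.Hom.toImage_imageι, hjcomp]
      sepf := inferInstance
      sepq := fun i => inferInstance
      sepD := inferInstance
      ot := fun i => inferInstance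
      red := inferInstance
      cov := cov
      cpt := hcpt
      qs := hqs }
  have hUne : (C.U : Set X).Nonempty := by
    change ((⨅ i, Uo i : X.Opens) : Set X).Nonempty
    rw [← Finset.inf_univ_eq_iInf]
    exact nonempty_finset_inf _ _ hne
  have hUd : Dense (C.U : Set X) := C.U.isOpen.dense hUne
  have : IsProper C.D.hom := hDp
  have := C.isImmersion_φ
  -- integrality of `X'`
  have : Nonempty C.U := hUne.to_subtype
  have : IsIntegral C.U.toScheme := inferInstance
  have hirr : IrreducibleSpace C.X' := by
    have hdense : DenseRange C.θ := (inferInstance : IsDominant C.θ).denseRange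
    have h1 := ((IrreducibleSpace.isIrreducible_univ C.U.toScheme).image _
      C.θ.continuous.continuousOn).closure
    rw [Set.image_univ, hdense.closure_range] at h1
    exact (irreducibleSpace_def _).mpr h1
  have : IsIntegral C.X' := isIntegral_of_irreducibleSpace_of_isReduced _
  exact ⟨C.X', D.pt, C.π, C.φ, D.hom, hDp, inferInstance, C.π_f.symm, C.isProper_π,
    C.surjective_π hUd, inferInstance, C.U, hUne, C.isIso_π_restrict⟩

end Groth.Agent.Lib.LocProper85
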