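import Mathlib
import Groth.Agent.Lib.LocProper85b
import Groth.Agent.Lib.ConnFib5G
import Groth.Agent.Lib.H90DevAtom
import Groth.Agent.Lib.H71CompGeomConn
import Groth.Agent.Lib.HenselQFLocalization61
import Groth.Agent.S0002
import Groth.Agent.S0058
import Groth.Agent.Lib.FibreBranchesC96
import Groth.Agent.Lib.H86FiniteCover
import Groth.Agent.Lib.AdicDim

set_option autoImplicit false
open CategoryTheory CategoryTheory.Limits AlgebraicGeometry TopologicalSpace IsLocalRing
universe u

namespace Groth.Agent.Lib.H30PropDvr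

/-- A nontrivial finite algebra over a henselian local ring with only trivial idempotents is
local. -/
theorem isLocalRing_of_finite_of_henselian (A : Type u) [CommRing A] [HenselianLocalRing A]
    (D : Type u) [CommRing D] [Nontrivial D] [Algebra A D] [Module.Finite A D]
    (hidem : ∀ e : D, IsIdempotentElem e → e = 0 ∨ e = 1) : IsLocalRing D := by
  have hker : RingHom.ker (algebraMap A D) ≤ maximalIdeal A :=
    IsLocalRing.le_maximalIdeal (RingHom.ker_ne_top _)
  obtain ⟨Q, hQmax, hQ⟩ := Ideal.exists_ideal_over_maximal_of_isIntegral (S := D)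
    (maximalIdeal A) hker
  haveI : Q.IsPrime := hQmax.isPrime
  haveI : Q.LiesOver (maximalIdeal A) := ⟨hQ.symm⟩
  obtain ⟨ε, hε, hεQ, hfin, hloc⟩ :=
    Groth.Agent.Lib.HenselQFLocalization61.exists_idem_isLocalization A D Q
  have hε1 : ε = 1 := by
    rcases hidem ε hε with h | h
    · exact absurd (h ▸ Q.zero_mem) hεQ
    · exact h
  subst hε1
  have hbot : Ideal.span {(1 : D) - 1} = ⊥ := by simp
  let e : (D ⧸ Ideal.span {(1 : D) - 1}) ≃ₐ[A] D :=
    (Ideal.quotientEquivAlgOfEq A hbot).trans (AlgEquiv.quotientBot A D)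
  have : IsLocalRing (D ⧸ Ideal.span {(1 : D) - 1}) := IsLocalization.AtPrime.isLocalRing _ Q
  exact e.toRingEquiv.isLocalRing

/-- A closed nonempty subset of a scheme universally closed over a base with a point `s` to which
every point specializes meets the fibre over `s`. -/
theorem exists_mem_map_eq {S V : Scheme.{u}} (s : S) (hsp : ∀ y : S, y ⤳ s)
    (h : V ⟶ S) [UniversallyClosed h] (T : Set V) (hT : IsClosed T)
    (hne : T.Nonempty) : ∃ t ∈ T, h t = s := by
  obtain ⟨x, hx⟩ := hne
  have hcl : IsClosed (h '' T) := h.isClosedMap _ hT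
  obtain ⟨z, hz, hz'⟩ := hcl.stableUnderSpecialization (hsp (h x)) ⟨x, hx, rfl⟩
  exact ⟨z, hz, hz'⟩

/-- A dense locally closed subset is open. -/
theorem isOpen_of_isLocallyClosed_of_dense {α : Type*} [TopologicalSpace α] {s : Set α}
    (h : IsLocallyClosed s) (hd : Dense s) : IsOpen s := by
  have h1 := h.isOpen_coborder
  have h2 : coborder s = s := by
    rw [coborder_eq_union_closure_compl, hd.closure_eq]
    simp
  rwa [h2] at h1

/-- The fibre of a composite over a point `s` is proper over `κ(s)` if the first morphism is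
proper and the fibre of the second is. -/
theorem isProper_fiber_comp {U X S : Scheme.{u}} (π : U ⟶ X) (g : X ⟶ S) (s : S) [IsProper π]
    (hs : IsProper (g.fiberToSpecResidueField s)) :
    IsProper ((π ≫ g).fiberToSpecResidueField s) := by
  haveI : IsProper (Groth.Agent.Lib.FibreBranches96.fiberMap π g s) :=
    MorphismProperty.of_isPullback (P := @IsProper)
      (Groth.Agent.Lib.FibreBranches96.isPullback_fiberMap π g s).flip ‹_›
  rw [← Groth.Agent.Lib.FibreBranches96.fiberMap_snd π g s]
  infer_instance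

/-- The fibre over a closed point, mapped to the base through the total space, is proper over
the base when it is proper over the residue field. -/
theorem isProper_fiberι_comp {V S : Scheme.{u}} (h : V ⟶ S) (s : S) (hcl : IsClosed ({s} : Set S))
    (hs : IsProper (h.fiberToSpecResidueField s)) : IsProper (h.fiberι s ≫ h) := by
  haveI : IsClosedImmersion (S.fromSpecResidueField s) :=
    isClosed_singleton_iff_isClosedImmersion.mp hcl
  rw [h.fiber_fac]
  infer_instance

open Groth.Agent.Lib.ProperFinHyp Groth.Agent.Lib.ConnFib5 in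
/-- **Dichotomy.** An integral scheme separated of finite type over a henselian Noetherian local
ring whose closed fibre is proper is either proper or has empty closed fibre. -/
theorem isProper_or_preimage_eq_empty (R : Type u) [CommRing R] [IsNoetherianRing R]
    [HenselianLocalRing R] {W : Scheme.{u}} [IsIntegral W] (g : W ⟶ Spec (CommRingCat.of R))
    [IsSeparated g] [LocallyOfFiniteType g] [QuasiCompact g]
    (s : ↥(Spec (CommRingCat.of R))) (hs0 : s = closedPoint R)
    (hs : IsProper (g.fiberToSpecResidueField s)) :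
    IsProper g ∨ g ⁻¹' {s} = ∅ := by
  have hsp : ∀ y : ↥(Spec (CommRingCat.of R)), y ⤳ s := fun y => by
    rw [hs0]; exact IsLocalRing.specializes_closedPoint y
  have hscl : IsClosed ({s} : Set ↥(Spec (CommRingCat.of R))) := by
    rw [hs0]; exact IsLocalRing.isClosed_singleton_closedPoint R
  have H2 : Hyp.{u} := fun A _ _ X _ _ M hM n => Groth.Agent.S0002.result A X M hM n
  have H58 : Hyp58.{u} := fun A _ _ I X _ _ M hM p => Groth.Agent.S0058.result A I X M hM p
  obtain ⟨X', P, π, φ, p, hp, hφ, hfac, hπ, hπsurj, hX'int, -⟩ :=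
    Groth.Agent.Lib.LocProper85.exists_chow_compactification R W g
  -- the integral closure `W̄` of the image of `φ` in `P`
  let C : Closeds ↥P := ⟨closure (Set.range φ), isClosed_closure⟩
  have hCirr : IsIrreducible (C : Set ↥P) := by
    have h1 : IsIrreducible (Set.range φ) := by
      rw [← Set.image_univ]
      exact (IrreducibleSpace.isIrreducible_univ ↥X').image φ φ.continuous.continuousOn
    exact h1.closure
  set I := Scheme.IdealSheafData.vanishingIdeal C with hI
  set ι' := I.subschemeι with hι'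
  haveI hWint : IsIntegral I.subscheme := Groth.Agent.Lib.H90DevAtom.isIntegral_subscheme C hCirr
  have hrange : Set.range ι' = closure (Set.range φ) := by
    rw [hι', Scheme.IdealSheafData.range_subschemeι, hI,
      Scheme.IdealSheafData.coe_support_vanishingIdeal]
    rfl
  obtain ⟨j, hj⟩ := Groth.Agent.Lib.H71CompGeomConn.exists_lift_subscheme φ C subset_closure
  haveI : IsImmersion (j ≫ ι') := by rw [hj]; exact hφ
  haveI : IsImmersion j := IsImmersion.of_comp j ι'
  let g' : I.subscheme ⟶ Spec (CommRingCat.of R) := ι' ≫ p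
  haveI : IsProper g' := inferInstance
  have hjg : j ≫ g' = π ≫ g := by
    rw [← hfac, ← hj, Category.assoc]
  -- `j` has dense open range
  have hdense : Dense (Set.range j) := by
    rw [dense_iff_closure_eq]
    apply Set.eq_univ_of_forall
    intro w
    have h1 : ι' w ∈ closure (Set.range φ) := by rw [← hrange]; exact ⟨w, rfl⟩
    have h2 : Set.range φ = ι' '' Set.range j := by
      rw [← Set.range_comp]
      have : (ι' : _ → _) ∘ (j : _ → _) = φ := by
        funext x; rw [← hj]; rfl
      rw [this]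
    rw [h2, (ι'.isClosedEmbedding.closure_image_eq (Set.range j))] at h1
    obtain ⟨w', hw', hww'⟩ := h1
    rwa [← ι'.isClosedEmbedding.injective hww']
  have hopen : IsOpen (Set.range j) :=
    isOpen_of_isLocallyClosed_of_dense j.isLocallyClosed_range hdense
  -- the image of the closed fibre of `X'` is closed
  have hS'eq : Set.range (((π ≫ g).fiberι s) ≫ j) = j '' ((π ≫ g) ⁻¹' {s}) := by
    rw [← (π ≫ g).range_fiberι s, ← Set.range_comp]
    rfl
  have hS'closed : IsClosed (j '' ((π ≫ g) ⁻¹' {s})) := by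
    haveI h1 : IsProper ((π ≫ g).fiberι s ≫ π ≫ g) :=
      isProper_fiberι_comp (π ≫ g) s hscl (isProper_fiber_comp π g s hs)
    haveI h2 : IsProper (((π ≫ g).fiberι s ≫ j) ≫ g') := by
      rw [Category.assoc, hjg]; exact h1
    haveI h3 : IsProper ((π ≫ g).fiberι s ≫ j) := IsProper.of_comp _ g'
    rw [← hS'eq]
    exact ((π ≫ g).fiberι s ≫ j).isClosedMap.isClosed_range
  -- `Γ(W̄, O)` is local
  set Γ := Γ(I.subscheme, ⊤) with hΓ
  letI : Algebra R Γ :=
    ((g'.appTop).hom.comp (Scheme.ΓSpecIso (CommRingCat.of R)).inv.hom).toAlgebra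
  haveI hfinΓ : Module.Finite R Γ := by
    have h1 : (g'.appTop).hom.Finite :=
      Groth.Agent.Lib.SteinFin5.finite_appTop_of_hyp H2 R I.subscheme g'
    have h2 : ((Scheme.ΓSpecIso (CommRingCat.of R)).inv.hom).Finite :=
      RingHom.Finite.of_surjective _
        (ConcreteCategory.bijective_of_isIso (Scheme.ΓSpecIso (CommRingCat.of R)).inv).2
    exact h1.comp h2
  haveI hΓloc : IsLocalRing Γ := isLocalRing_of_finite_of_henselian R Γ
    (fun e he => IsIdempotentElem.iff_eq_zero_or_one.mp he)
  -- the closed fibre of `W̄` is preconnected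
  have hFeq : g' ⁻¹' {s} = I.subscheme.toSpecΓ ⁻¹'
      {⟨maximalIdeal Γ, (maximalIdeal.isMaximal Γ).isPrime⟩} := by
    ext z
    simp only [Set.mem_preimage, Set.mem_singleton_iff]
    constructor
    · intro hz
      have hz' : g' z = closedPoint (CommRingCat.of R) := hz.trans hs0
      have hmax := isMaximal_toSpecΓ_of_map_eq_closedPoint (CommRingCat.of R) g' z hz'
      exact PrimeSpectrum.ext (IsLocalRing.eq_maximalIdeal hmax)
    · intro hz
      have hmax : (I.subscheme.toSpecΓ z).asIdeal.IsMaximal := by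
        rw [hz]; exact maximalIdeal.isMaximal Γ
      exact (map_eq_closedPoint_of_isMaximal (CommRingCat.of R) g' z hmax).trans hs0.symm
  have hFpre : _root_.IsPreconnected (g' ⁻¹' {s}) := by
    rw [hFeq]
    exact isPreconnected_toSpecΓ_preimage' H2 H58 (CommRingCat.of R) g' (maximalIdeal Γ)
  have hFclosed : IsClosed (g' ⁻¹' {s}) := hscl.preimage g'.continuous
  have hS'sub : j '' ((π ≫ g) ⁻¹' {s}) = Set.range j ∩ g' ⁻¹' {s} := by
    ext w
    constructor
    · rintro ⟨x, hx, rfl⟩
      refine ⟨⟨x, rfl⟩, ?_⟩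
      have e : g' (j x) = (π ≫ g) x := by rw [← hjg]; rfl
      exact e.trans hx
    · rintro ⟨⟨x, rfl⟩, hx⟩
      refine ⟨x, ?_, rfl⟩
      have e : g' (j x) = (π ≫ g) x := by rw [← hjg]; rfl
      exact e.symm.trans hx
  by_cases hemp : (π ≫ g) ⁻¹' {s} = ∅
  · right
    ext w
    simp only [Set.mem_preimage, Set.mem_singleton_iff, Set.mem_empty_iff_false, iff_false]
    intro hw
    obtain ⟨x, rfl⟩ := hπsurj w
    have : x ∈ (π ≫ g) ⁻¹' {s} := hw
    rw [hemp] at this
    exact this
  · left
    obtain ⟨x₀, hx₀⟩ := Set.nonempty_iff_ne_empty.mpr hemp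
    -- the complement of the range of `j` misses the closed fibre
    have hmiss : g' ⁻¹' {s} ∩ (Set.range j)ᶜ = ∅ := by
      by_contra hne
      obtain ⟨w, hwF, hwc⟩ := Set.nonempty_iff_ne_empty.mpr hne
      have key := (isPreconnected_closed_iff.mp hFpre) (j '' ((π ≫ g) ⁻¹' {s})) (Set.range j)ᶜ
        hS'closed hopen.isClosed_compl
        (by
          intro z hz
          by_cases hzr : z ∈ Set.range j
          · left; rw [hS'sub]; exact ⟨hzr, hz⟩
          · right; exact hzr)
        ⟨j x₀, by
          have e : g' (j x₀) = (π ≫ g) x₀ := by rw [← hjg]; rfl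
          exact e.trans hx₀, ⟨x₀, hx₀, rfl⟩⟩
        ⟨w, hwF, hwc⟩
      obtain ⟨z, -, hz1, hz2⟩ := key
      rw [hS'sub] at hz1
      exact hz2 hz1.1
    have hsurj : Set.range j = Set.univ := by
      by_contra hne
      have hne' : ((Set.range j)ᶜ).Nonempty := by
        rw [Set.nonempty_compl]; exact hne
      obtain ⟨t, ht, hts⟩ := exists_mem_map_eq s hsp g' (Set.range j)ᶜ hopen.isClosed_compl hne'
      have : t ∈ g' ⁻¹' {s} ∩ (Set.range j)ᶜ := ⟨hts, ht⟩
      rw [hmiss] at this
      exact this
    haveI : IsClosedImmersion j := IsClosedImmersion.of_isPreimmersion j (by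
      rw [hsurj]; exact isClosed_univ)
    haveI : IsProper (π ≫ g) := by rw [← hjg]; infer_instance
    haveI : Surjective π := ⟨hπsurj⟩
    haveI : UniversallyClosed g := UniversallyClosed.of_comp_surjective π g
    exact { }

/-- **Properness over a henselian base.** A flat separated scheme of finite type over a henselian
Noetherian local domain, whose closed fibre is proper and nonempty and whose generic fibre is
connected, is proper. -/
theorem isProper_of_henselian (R : Type u) [CommRing R] [IsDomain R] [IsNoetherianRing R]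
    [HenselianLocalRing R] {X : Scheme.{u}} (f : X ⟶ Spec (CommRingCat.of R)) [Flat f]
    [IsSeparated f] [LocallyOfFiniteType f] [QuasiCompact f]
    (s : ↥(Spec (CommRingCat.of R))) (hs0 : s = closedPoint R)
    (hs : IsProper (f.fiberToSpecResidueField s)) (hne : (f ⁻¹' {s}).Nonempty)
    (η : ↥(Spec (CommRingCat.of R))) (hη : ∀ y : ↥(Spec (CommRingCat.of R)), η ⤳ y)
    (hconn : _root_.IsPreconnected (f ⁻¹' {η})) : IsProper f := by
  have hsp : ∀ y : ↥(Spec (CommRingCat.of R)), y ⤳ s := fun y => by
    rw [hs0]; exact IsLocalRing.specializes_closedPoint y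
  haveI : IsLocallyNoetherian X := LocallyOfFiniteType.isLocallyNoetherian f
  haveI : CompactSpace X := QuasiCompact.compactSpace_of_compactSpace f
  haveI : IsNoetherian X := { }
  have hfin : (irreducibleComponents ↥X).Finite := NoetherianSpace.finite_irreducibleComponents
  haveI : Finite ↥(irreducibleComponents ↥X) := hfin.to_subtype
  -- the components as integral closed subschemes
  let Cl : ↥(irreducibleComponents ↥X) → Closeds ↥X := fun Z =>
    ⟨Z.1, isClosed_of_mem_irreducibleComponents Z.1 Z.2⟩
  have hCirr : ∀ Z, IsIrreducible (Cl Z : Set ↥X) := fun Z => Z.2.1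
  let Wd : ↥(irreducibleComponents ↥X) → Scheme.{u} := fun Z =>
    (Scheme.IdealSheafData.vanishingIdeal (Cl Z)).subscheme
  let jd : ∀ Z, Wd Z ⟶ X := fun Z => (Scheme.IdealSheafData.vanishingIdeal (Cl Z)).subschemeι
  haveI hWint : ∀ Z, IsIntegral (Wd Z) := fun Z =>
    Groth.Agent.Lib.H90DevAtom.isIntegral_subscheme (Cl Z) (hCirr Z)
  have hrange : ∀ Z, Set.range (jd Z) = Z.1 := fun Z => by
    change Set.range (Scheme.IdealSheafData.vanishingIdeal (Cl Z)).subschemeι = _
    rw [Scheme.IdealSheafData.range_subschemeι, Scheme.IdealSheafData.coe_support_vanishingIdeal]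
    rfl
  have hdich : ∀ Z, IsProper (jd Z ≫ f) ∨ (jd Z ≫ f) ⁻¹' {s} = ∅ := fun Z =>
    isProper_or_preimage_eq_empty R (jd Z ≫ f) s hs0 (isProper_fiber_comp (jd Z) f s hs)
  have hcov : ∀ x : X, ∃ Z : ↥(irreducibleComponents ↥X), x ∈ Set.range (jd Z) := by
    intro x
    obtain ⟨Z, hZ, hxZ⟩ := exists_mem_irreducibleComponents_subset_of_isIrreducible {x}
      isIrreducible_singleton
    exact ⟨⟨Z, hZ⟩, by rw [hrange]; exact hxZ rfl⟩
  -- generic points of the components lie over `η`
  have hgen : ∀ Z : ↥(irreducibleComponents ↥X), ∃ ξ : X, ξ ∈ Z.1 ∧ f ξ = η := by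
    intro Z
    have hg := (hCirr Z).isGenericPoint_genericPoint (Cl Z).isClosed
    set ξ := (hCirr Z).genericPoint with hξ
    have hξZ : ξ ∈ Z.1 := by
      have : ξ ∈ closure ({ξ} : Set X) := subset_closure rfl
      rw [hg.def] at this
      exact this
    obtain ⟨ξ', hξ'sp, hξ'η⟩ := (Flat.generalizingMap f) (hη (f ξ))
    have hξ'eq : ξ' = ξ := by
      have h1 : Z.1 ⊆ closure ({ξ'} : Set X) := by
        have : closure ({ξ} : Set X) ⊆ closure ({ξ'} : Set X) :=
          hξ'sp.closure_subset -- placeholder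
        rw [hg.def] at this
        exact this
      have h2 : closure ({ξ'} : Set X) = Z.1 :=
        (Z.2.2 isIrreducible_singleton.closure h1).antisymm h1 |>.symm ▸ rfl
      have h3 : IsGenericPoint ξ' Z.1 := h2
      exact h3.eq hg
    exact ⟨ξ, hξZ, hξ'eq ▸ hξ'η⟩
  classical
  let A : Set X := ⋃ Z ∈ {Z : ↥(irreducibleComponents ↥X) | IsProper (jd Z ≫ f)}, Z.1
  let B : Set X := ⋃ Z ∈ {Z : ↥(irreducibleComponents ↥X) | ¬ IsProper (jd Z ≫ f)}, Z.1
  have hAcl : IsClosed A := Set.Finite.isClosed_biUnion (Set.toFinite _) fun Z _ => (Cl Z).isClosed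
  have hBcl : IsClosed B := Set.Finite.isClosed_biUnion (Set.toFinite _) fun Z _ => (Cl Z).isClosed
  have hAB : A ∩ B = ∅ := by
    by_contra hne
    obtain ⟨q, hqA, hqB⟩ := Set.nonempty_iff_ne_empty.mpr hne
    simp only [A, B, Set.mem_iUnion, Set.mem_ofPred_eq, exists_prop] at hqA hqB
    obtain ⟨Z, hZp, hqZ⟩ := hqA
    obtain ⟨Z', hZ'np, hqZ'⟩ := hqB
    have hZ'emp : (jd Z' ≫ f) ⁻¹' {s} = ∅ := (hdich Z').resolve_left hZ'np
    haveI := hZp
    have hTne : ((jd Z) ⁻¹' closure ({q} : Set X)).Nonempty := by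
      have : q ∈ Set.range (jd Z) := by rw [hrange]; exact hqZ
      obtain ⟨t, ht⟩ := this
      exact ⟨t, by
        change jd Z t ∈ closure ({q} : Set X)
        rw [ht]; exact subset_closure rfl⟩
    obtain ⟨t, ht, hts⟩ := exists_mem_map_eq s hsp (jd Z ≫ f) ((jd Z) ⁻¹' closure ({q} : Set X))
      (isClosed_closure.preimage (jd Z).continuous) hTne
    have hc : jd Z t ∈ Z'.1 := by
      have h1 : closure ({q} : Set X) ⊆ Z'.1 :=
        (Cl Z').isClosed.closure_subset_iff.mpr (Set.singleton_subset_iff.mpr hqZ')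
      exact h1 ht
    rw [← hrange Z'] at hc
    obtain ⟨t', ht'⟩ := hc
    have : t' ∈ (jd Z' ≫ f) ⁻¹' {s} := by
      change f (jd Z' t') = s
      rw [ht']
      exact hts
    rw [hZ'emp] at this
    exact this
  have hAne : ∃ Z : ↥(irreducibleComponents ↥X), IsProper (jd Z ≫ f) := by
    obtain ⟨c, hc⟩ := hne
    obtain ⟨Z, hcZ⟩ := hcov c
    refine ⟨Z, (hdich Z).resolve_right ?_⟩
    obtain ⟨t, ht⟩ := hcZ
    intro hemp
    have : t ∈ (jd Z ≫ f) ⁻¹' {s} := by
      change f (jd Z t) = s
      rw [ht]; exact hc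
    rw [hemp] at this
    exact this
  have hall : ∀ Z : ↥(irreducibleComponents ↥X), IsProper (jd Z ≫ f) := by
    by_contra hcon
    push Not at hcon
    obtain ⟨Z', hZ'⟩ := hcon
    obtain ⟨Z, hZ⟩ := hAne
    obtain ⟨ξ, hξZ, hξη⟩ := hgen Z
    obtain ⟨ξ', hξ'Z', hξ'η⟩ := hgen Z'
    have key := (isPreconnected_closed_iff.mp hconn) A B hAcl hBcl
      (by
        intro x _
        obtain ⟨Z₀, hxZ₀⟩ := hcov x
        rw [hrange] at hxZ₀
        by_cases hp : IsProper (jd Z₀ ≫ f)
        · left
          simp only [A, Set.mem_iUnion, Set.mem_ofPred_eq, exists_prop]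
          exact ⟨Z₀, hp, hxZ₀⟩
        · right
          simp only [B, Set.mem_iUnion, Set.mem_ofPred_eq, exists_prop]
          exact ⟨Z₀, hp, hxZ₀⟩)
      ⟨ξ, hξη, by
        simp only [A, Set.mem_iUnion, Set.mem_ofPred_eq, exists_prop]
        exact ⟨Z, hZ, hξZ⟩⟩
      ⟨ξ', hξ'η, by
        simp only [B, Set.mem_iUnion, Set.mem_ofPred_eq, exists_prop]
        exact ⟨Z', hZ', hξ'Z'⟩⟩
    obtain ⟨z, -, hz⟩ := key
    rw [hAB] at hz
    exact hz
  haveI : UniversallyClosed f :=
    Groth.Agent.Lib.H86Coprod.universallyClosed_of_finite_cover f Wd jd hcov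
      (fun Z => by haveI := hall Z; infer_instance)
  exact { }


theorem hens' (A : Type*) [CommRing A] [IsLocalRing A]
    [IsAdicComplete (maximalIdeal A) A] : HenselianLocalRing A where
  is_henselian f hf a₀ h₁ h₂ :=
    (IsAdicComplete.henselianRing A (maximalIdeal A)).is_henselian f hf a₀ h₁ (h₂.map _)

/-- The preimage of a point whose fibre is geometrically connected is connected. -/
theorem isPreconnected_preimage_of_geometricallyConnected {X S : Scheme.{u}} (f : X ⟶ S) (y : S)
    (h : GeometricallyConnected (f.fiberToSpecResidueField y)) :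
    _root_.IsPreconnected (f ⁻¹' {y}) := by
  haveI : ConnectedSpace ↥(f.fiber y) :=
    self_of_isIntegral_of_geometrically (P := fun Z => ConnectedSpace Z)
      h.geometrically_connectedSpace
  rw [← f.range_fiberι, ← Set.image_univ]
  exact (isConnected_univ.image _ (f.fiberι y).continuous.continuousOn).isPreconnected

/-- **Properness over a discrete valuation ring** (EGA IV 15.7.9-type): a flat separated scheme of
finite type over a DVR with nonempty proper closed fibre and geometrically connected generic fibre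
is proper. -/
theorem isProper_of_dvr (R : Type u) [CommRing R] [IsDomain R] [IsDiscreteValuationRing R]
    {X : Scheme.{u}} (f : X ⟶ Spec (CommRingCat.of R)) [Flat f]
    [IsSeparated f] [LocallyOfFiniteType f] [QuasiCompact f]
    (s : ↥(Spec (CommRingCat.of R))) (hs0 : s = closedPoint R)
    (hs : IsProper (f.fiberToSpecResidueField s)) (hne : (f ⁻¹' {s}).Nonempty)
    (η : ↥(Spec (CommRingCat.of R))) (hη : ∀ y : ↥(Spec (CommRingCat.of R)), η ⤳ y)
    (hconn : GeometricallyConnected (f.fiberToSpecResidueField η)) : IsProper f := by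
  set R' := AdicCompletion (maximalIdeal R) R with hR'
  haveI : IsNoetherianRing R' := Groth.Agent.Lib.AdicNoeth.isNoetherianRing_adicCompletion _
  obtain ⟨hdom', hdvr'⟩ :=
    (Groth.Agent.Lib.AdicDim.isDiscreteValuationRing_iff_adicCompletion R).mp ⟨inferInstance, inferInstance⟩
  haveI : HenselianLocalRing R' := hens' R'
  let ρ : R →+* R' := algebraMap R R'
  have hρinj : Function.Injective ρ := AdicCompletion.of_injective (maximalIdeal R) R
  haveI : IsLocalHom ρ := inferInstanceAs (IsLocalHom (algebraMap R R'))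
  have hff : ρ.FaithfullyFlat := by
    haveI : Module.FaithfullyFlat R R' := Module.FaithfullyFlat.of_flat_of_isLocalHom
    exact RingHom.faithfullyFlat_algebraMap_iff.mpr inferInstance
  let h : Spec (CommRingCat.of R') ⟶ Spec (CommRingCat.of R) := Spec.map (CommRingCat.ofHom ρ)
  have hh : Flat h ∧ Surjective h := (flat_and_surjective_SpecMap_iff (CommRingCat.ofHom ρ)).mpr hff
  haveI := hh.1
  haveI := hh.2
  -- the base change
  let f' : pullback f h ⟶ Spec (CommRingCat.of R') := pullback.snd f h
  -- closed and generic points upstairs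
  let s' : ↥(Spec (CommRingCat.of R')) := (closedPoint R' : PrimeSpectrum R')
  let η' : ↥(Spec (CommRingCat.of R')) := (⟨⊥, Ideal.isPrime_bot⟩ : PrimeSpectrum R')
  have hs's : h s' = s := by
    rw [hs0]; exact IsLocalRing.comap_closedPoint ρ
  have hη' : ∀ y : ↥(Spec (CommRingCat.of R')), η' ⤳ y := fun y =>
    (PrimeSpectrum.le_iff_specializes (R := R') η' y).mp (bot_le : (⊥ : Ideal R') ≤ y.asIdeal)
  have hη'η : h η' = η := by
    have h1 : h η' = (⟨⊥, Ideal.isPrime_bot⟩ : PrimeSpectrum R) := by
      apply PrimeSpectrum.ext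
      change Ideal.comap ρ ⊥ = ⊥
      rw [← RingHom.ker_eq_comap_bot]
      exact (RingHom.injective_iff_ker_eq_bot ρ).mp hρinj
    have h2 : (⟨⊥, Ideal.isPrime_bot⟩ : PrimeSpectrum R) ⤳ η :=
      (PrimeSpectrum.le_iff_specializes (R := R) ⟨⊥, Ideal.isPrime_bot⟩ η).mp
        (bot_le : (⊥ : Ideal R) ≤ η.asIdeal)
    rw [h1]
    exact (h2.antisymm (hη _)).eq
  subst hs's
  subst hη'η
  have hPBs := isPullback_fiberToSpecResidueField_of_isPullback (IsPullback.of_hasPullback f h) s'
  have hPBη := isPullback_fiberToSpecResidueField_of_isPullback (IsPullback.of_hasPullback f h) η'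
  have hs' : IsProper (f'.fiberToSpecResidueField s') :=
    MorphismProperty.of_isPullback (P := @IsProper) hPBs hs
  have hconn' : GeometricallyConnected (f'.fiberToSpecResidueField η') :=
    MorphismProperty.of_isPullback (P := @GeometricallyConnected) hPBη hconn
  have hne' : (f' ⁻¹' {s'}).Nonempty := by
    obtain ⟨c, hc⟩ := hne
    obtain ⟨z, -, hz2⟩ := Scheme.Pullback.exists_preimage_pullback (f := f) (g := h) c s' hc
    exact ⟨z, hz2⟩
  haveI hprop' : IsProper f' := isProper_of_henselian R' f' s' rfl hs' hne' η' hη'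
    (isPreconnected_preimage_of_geometricallyConnected f' η' hconn')
  haveI : UniversallyClosed f :=
    MorphismProperty.of_pullback_snd_of_descendsAlong (P := @UniversallyClosed)
      (Q := @Surjective ⊓ @Flat ⊓ @QuasiCompact) (f := f) (g := h)
      ⟨⟨inferInstance, inferInstance⟩, inferInstance⟩ inferInstance
  exact { }


end Groth.Agent.Lib.H30PropDvr
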