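import Mathlib
import Groth.Agent.Lib.H30PropDvr
import Groth.Agent.Lib.H80DvrUnivOpen

/-!
# helper30: properness over a DVR, variants without flatness

`isProper_of_henselian'`, `isProper_of_dvr'`: the flatness hypothesis is replaced by "all maximal
points lie over the generic point", and geometric connectedness of the generic fibre is phrased with
field-valued points (`GC`).
-/

set_option autoImplicit false
open CategoryTheory CategoryTheory.Limits AlgebraicGeometry TopologicalSpace IsLocalRing
universe u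

namespace Groth.Agent.Lib.H30PropDvr

/-- **Properness over a henselian base.** A flat separated scheme of finite type over a henselian
Noetherian local domain, whose closed fibre is proper and nonempty and whose generic fibre is
connected, is proper. -/
theorem isProper_of_henselian' (R : Type u) [CommRing R] [IsDomain R] [IsNoetherianRing R]
    [HenselianLocalRing R] {X : Scheme.{u}} (f : X ⟶ Spec (CommRingCat.of R))
    [IsSeparated f] [LocallyOfFiniteType f] [QuasiCompact f]
    (s : ↥(Spec (CommRingCat.of R))) (hs0 : s = closedPoint R)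
    (hs : IsProper (f.fiberToSpecResidueField s)) (hne : (f ⁻¹' {s}).Nonempty)
    (η : ↥(Spec (CommRingCat.of R))) (hη : ∀ y : ↥(Spec (CommRingCat.of R)), η ⤳ y)
    (hdom : ∀ ξ : X, (∀ ξ' : X, ξ' ⤳ ξ → ξ' = ξ) → f ξ = η)
    (hconn : _root_.IsPreconnected (f ⁻¹' {η})) : IsProper f := by
  have hsp : ∀ y : ↥(Spec (CommRingCat.of R)), y ⤳ s := fun y => by
    rw [hs0]; exact IsLocalRing.specializes_closedPoint y
  haveI : IsLocallyNoetherian X := LocallyOfFiniteType.isLocallyNoetherian f
  haveI : CompactSpace X := QuasiCompact.compactSpace_of_compactSpace f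
  haveI : IsNoetherian X := { }
  have hfin : (irreducibleComponents ↥X).Finite := NoetherianSpace.finite_irreducibleComponents
  haveI : Finite ↥(irreducibleComponents ↥X) := hfin.to_subtype
  -- the components as integral closed subschemes
  let Cl : ↥(irreducibleComponents ↥X) → Closeds ↥X := fun Z =>
    ⟨Z.1, isClosed_of_mem_irreducibleComponents Z.1 Z.2⟩
  have hCirr : ∀ Z, IsIrreducible (Cl Z : Set ↥X) := fun Z => Z.2.1
  let Wd : ↥(irreducibleComponents ↥X) → Scheme.{u} := fun Z =>
    (Scheme.IdealSheafData.vanishingIdeal (Cl Z)).subscheme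
  let jd : ∀ Z, Wd Z ⟶ X := fun Z => (Scheme.IdealSheafData.vanishingIdeal (Cl Z)).subschemeι
  haveI hWint : ∀ Z, IsIntegral (Wd Z) := fun Z =>
    Groth.Agent.Lib.H90DevAtom.isIntegral_subscheme (Cl Z) (hCirr Z)
  have hrange : ∀ Z, Set.range (jd Z) = Z.1 := fun Z => by
    change Set.range (Scheme.IdealSheafData.vanishingIdeal (Cl Z)).subschemeι = _
    rw [Scheme.IdealSheafData.range_subschemeι, Scheme.IdealSheafData.coe_support_vanishingIdeal]
    rfl
  have hdich : ∀ Z, IsProper (jd Z ≫ f) ∨ (jd Z ≫ f) ⁻¹' {s} = ∅ := fun Z =>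
    isProper_or_preimage_eq_empty R (jd Z ≫ f) s hs0 (isProper_fiber_comp (jd Z) f s hs)
  have hcov : ∀ x : X, ∃ Z : ↥(irreducibleComponents ↥X), x ∈ Set.range (jd Z) := by
    intro x
    obtain ⟨Z, hZ, hxZ⟩ := exists_mem_irreducibleComponents_subset_of_isIrreducible {x}
      isIrreducible_singleton
    exact ⟨⟨Z, hZ⟩, by rw [hrange]; exact hxZ rfl⟩
  -- generic points of the components lie over `η`
  have hgen : ∀ Z : ↥(irreducibleComponents ↥X), ∃ ξ : X, ξ ∈ Z.1 ∧ f ξ = η := by
    intro Z
    have hg := (hCirr Z).isGenericPoint_genericPoint (Cl Z).isClosed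
    set ξ := (hCirr Z).genericPoint with hξ
    have hξZ : ξ ∈ Z.1 := by
      have : ξ ∈ closure ({ξ} : Set X) := subset_closure rfl
      rw [hg.def] at this
      exact this
    refine ⟨ξ, hξZ, hdom ξ ?_⟩
    intro ξ' hξ'sp
    have h1 : Z.1 ⊆ closure ({ξ'} : Set X) := by
      have : closure ({ξ} : Set X) ⊆ closure ({ξ'} : Set X) := hξ'sp.closure_subset
      rw [hg.def] at this
      exact this
    have h2 : closure ({ξ'} : Set X) = Z.1 :=
      (Z.2.2 isIrreducible_singleton.closure h1).antisymm h1 |>.symm ▸ rfl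
    have h3 : IsGenericPoint ξ' Z.1 := h2
    exact h3.eq hg
  classical
  let A : Set X := ⋃ Z ∈ {Z : ↥(irreducibleComponents ↥X) | IsProper (jd Z ≫ f)}, Z.1
  let B : Set X := ⋃ Z ∈ {Z : ↥(irreducibleComponents ↥X) | ¬ IsProper (jd Z ≫ f)}, Z.1
  have hAcl : IsClosed A := Set.Finite.isClosed_biUnion (Set.toFinite _) fun Z _ => (Cl Z).isClosed
  have hBcl : IsClosed B := Set.Finite.isClosed_biUnion (Set.toFinite _) fun Z _ => (Cl Z).isClosed
  have hAB : A ∩ B = ∅ := by
    by_contra hne
    obtain ⟨q, hqA, hqB⟩ := Set.nonempty_iff_ne_empty.mpr hne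
    simp only [A, B, Set.mem_iUnion, Set.mem_ofPred_eq, exists_prop] at hqA hqB
    obtain ⟨Z, hZp, hqZ⟩ := hqA
    obtain ⟨Z', hZ'np, hqZ'⟩ := hqB
    have hZ'emp : (jd Z' ≫ f) ⁻¹' {s} = ∅ := (hdich Z').resolve_left hZ'np
    haveI := hZp
    have hTne : ((jd Z) ⁻¹' closure ({q} : Set X)).Nonempty := by
      have : q ∈ Set.range (jd Z) := by rw [hrange]; exact hqZ
      obtain ⟨t, ht⟩ := this
      exact ⟨t, by
        change jd Z t ∈ closure ({q} : Set X)
        rw [ht]; exact subset_closure rfl⟩
    obtain ⟨t, ht, hts⟩ := exists_mem_map_eq s hsp (jd Z ≫ f) ((jd Z) ⁻¹' closure ({q} : Set X))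
      (isClosed_closure.preimage (jd Z).continuous) hTne
    have hc : jd Z t ∈ Z'.1 := by
      have h1 : closure ({q} : Set X) ⊆ Z'.1 :=
        (Cl Z').isClosed.closure_subset_iff.mpr (Set.singleton_subset_iff.mpr hqZ')
      exact h1 ht
    rw [← hrange Z'] at hc
    obtain ⟨t', ht'⟩ := hc
    have : t' ∈ (jd Z' ≫ f) ⁻¹' {s} := by
      change f (jd Z' t') = s
      rw [ht']
      exact hts
    rw [hZ'emp] at this
    exact this
  have hAne : ∃ Z : ↥(irreducibleComponents ↥X), IsProper (jd Z ≫ f) := by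
    obtain ⟨c, hc⟩ := hne
    obtain ⟨Z, hcZ⟩ := hcov c
    refine ⟨Z, (hdich Z).resolve_right ?_⟩
    obtain ⟨t, ht⟩ := hcZ
    intro hemp
    have : t ∈ (jd Z ≫ f) ⁻¹' {s} := by
      change f (jd Z t) = s
      rw [ht]; exact hc
    rw [hemp] at this
    exact this
  have hall : ∀ Z : ↥(irreducibleComponents ↥X), IsProper (jd Z ≫ f) := by
    by_contra hcon
    push Not at hcon
    obtain ⟨Z', hZ'⟩ := hcon
    obtain ⟨Z, hZ⟩ := hAne
    obtain ⟨ξ, hξZ, hξη⟩ := hgen Z
    obtain ⟨ξ', hξ'Z', hξ'η⟩ := hgen Z'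
    have key := (isPreconnected_closed_iff.mp hconn) A B hAcl hBcl
      (by
        intro x _
        obtain ⟨Z₀, hxZ₀⟩ := hcov x
        rw [hrange] at hxZ₀
        by_cases hp : IsProper (jd Z₀ ≫ f)
        · left
          simp only [A, Set.mem_iUnion, Set.mem_ofPred_eq, exists_prop]
          exact ⟨Z₀, hp, hxZ₀⟩
        · right
          simp only [B, Set.mem_iUnion, Set.mem_ofPred_eq, exists_prop]
          exact ⟨Z₀, hp, hxZ₀⟩)
      ⟨ξ, hξη, by
        simp only [A, Set.mem_iUnion, Set.mem_ofPred_eq, exists_prop]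
        exact ⟨Z, hZ, hξZ⟩⟩
      ⟨ξ', hξ'η, by
        simp only [B, Set.mem_iUnion, Set.mem_ofPred_eq, exists_prop]
        exact ⟨Z', hZ', hξ'Z'⟩⟩
    obtain ⟨z, -, hz⟩ := key
    rw [hAB] at hz
    exact hz
  haveI : UniversallyClosed f :=
    Groth.Agent.Lib.H86Coprod.universallyClosed_of_finite_cover f Wd jd hcov
      (fun Z => by haveI := hall Z; infer_instance)
  exact { }



/-- Geometric connectedness passes to the source of a surjective closed immersion. -/
theorem geometricallyConnected_comp_of_surjective_closedImmersion {F' F T : Scheme.{u}}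
    (m : F' ⟶ F) [IsClosedImmersion m] [Surjective m] (q : F ⟶ T)
    (hq : GeometricallyConnected q) : GeometricallyConnected (m ≫ q) := by
  rw [geometricallyConnected_iff]
  intro K _ y Z fst snd hPB
  have hP0 := IsPullback.of_hasPullback q y
  haveI : ConnectedSpace ↥(pullback q y) :=
    hq.geometrically_connectedSpace y (pullback.fst q y) (pullback.snd q y) hP0
  let c : Z ⟶ pullback q y := pullback.lift (fst ≫ m) snd (by rw [Category.assoc]; exact hPB.w)
  have hc1 : c ≫ pullback.fst q y = fst ≫ m := pullback.lift_fst _ _ _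
  have hc2 : c ≫ pullback.snd q y = snd := pullback.lift_snd _ _ _
  have hPc : IsPullback fst c m (pullback.fst q y) :=
    IsPullback.of_bot (by rw [hc2]; exact hPB) hc1.symm hP0
  haveI : IsClosedImmersion c := MorphismProperty.of_isPullback (P := @IsClosedImmersion) hPc ‹_›
  haveI : Surjective c := MorphismProperty.of_isPullback (P := @Surjective) hPc ‹_›
  let e : ↥Z ≃ₜ ↥(pullback q y) :=
    c.isClosedEmbedding.isEmbedding.toHomeomorphOfSurjective c.surjective
  exact e.symm.surjective.connectedSpace e.symm.continuous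

/-- Geometric connectedness of a fibre passes to a closed subscheme containing the fibre
topologically. -/
theorem geometricallyConnected_fiber_comp {W X S : Scheme.{u}} (ι : W ⟶ X) [IsClosedImmersion ι]
    (f : X ⟶ S) (y : S) (hsub : f ⁻¹' {y} ⊆ Set.range ι)
    (h : GeometricallyConnected (f.fiberToSpecResidueField y)) :
    GeometricallyConnected ((ι ≫ f).fiberToSpecResidueField y) := by
  have hP := Groth.Agent.Lib.FibreBranches96.isPullback_fiberMap ι f y
  haveI : IsClosedImmersion (Groth.Agent.Lib.FibreBranches96.fiberMap ι f y) :=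
    MorphismProperty.of_isPullback (P := @IsClosedImmersion) hP.flip ‹_›
  haveI : Surjective (Groth.Agent.Lib.FibreBranches96.fiberMap ι f y) := by
    constructor
    intro z
    have hz : f.fiberι y z ∈ f ⁻¹' {y} := by
      rw [← f.range_fiberι]; exact ⟨z, rfl⟩
    obtain ⟨w, hw⟩ := hsub hz
    obtain ⟨p', hp1, -⟩ := Scheme.Pullback.exists_preimage_pullback (f := f.fiberι y) (g := ι) z w
      hw.symm
    refine ⟨hP.isoPullback.inv p', ?_⟩
    rw [← Scheme.Hom.comp_apply, hP.isoPullback_inv_fst]
    exact hp1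
  rw [← Groth.Agent.Lib.FibreBranches96.fiberMap_snd ι f y]
  exact geometricallyConnected_comp_of_surjective_closedImmersion _ _ h

/-- **Properness over a discrete valuation ring** (EGA IV 15.7.9-type): a flat separated scheme of
finite type over a DVR with nonempty proper closed fibre and geometrically connected generic fibre
is proper. -/
theorem isProper_of_dvr' (R : Type u) [CommRing R] [IsDomain R] [IsDiscreteValuationRing R]
    {X : Scheme.{u}} (f : X ⟶ Spec (CommRingCat.of R))
    [IsSeparated f] [LocallyOfFiniteType f] [QuasiCompact f]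
    (s : ↥(Spec (CommRingCat.of R))) (hs0 : s = closedPoint R)
    (hs : IsProper (f.fiberToSpecResidueField s)) (hne : (f ⁻¹' {s}).Nonempty)
    (η : ↥(Spec (CommRingCat.of R))) (hη : ∀ y : ↥(Spec (CommRingCat.of R)), η ⤳ y)
    (hdom : ∀ ξ : X, (∀ ξ' : X, ξ' ⤳ ξ → ξ' = ξ) → f ξ = η)
    (hconn : GeometricallyConnected (f.fiberToSpecResidueField η)) : IsProper f := by
  set R' := AdicCompletion (maximalIdeal R) R with hR'
  haveI : IsNoetherianRing R' := Groth.Agent.Lib.AdicNoeth.isNoetherianRing_adicCompletion _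
  obtain ⟨hdom', hdvr'⟩ :=
    (Groth.Agent.Lib.AdicDim.isDiscreteValuationRing_iff_adicCompletion R).mp ⟨inferInstance, inferInstance⟩
  haveI : HenselianLocalRing R' := hens' R'
  let ρ : R →+* R' := algebraMap R R'
  have hρinj : Function.Injective ρ := AdicCompletion.of_injective (maximalIdeal R) R
  haveI : IsLocalHom ρ := inferInstanceAs (IsLocalHom (algebraMap R R'))
  have hff : ρ.FaithfullyFlat := by
    haveI : Module.FaithfullyFlat R R' := Module.FaithfullyFlat.of_flat_of_isLocalHom
    exact RingHom.faithfullyFlat_algebraMap_iff.mpr inferInstance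
  let h : Spec (CommRingCat.of R') ⟶ Spec (CommRingCat.of R) := Spec.map (CommRingCat.ofHom ρ)
  have hh : Flat h ∧ Surjective h := (flat_and_surjective_SpecMap_iff (CommRingCat.ofHom ρ)).mpr hff
  haveI := hh.1
  haveI := hh.2
  -- the base change
  let f' : pullback f h ⟶ Spec (CommRingCat.of R') := pullback.snd f h
  -- closed and generic points upstairs
  let s' : ↥(Spec (CommRingCat.of R')) := (closedPoint R' : PrimeSpectrum R')
  let η' : ↥(Spec (CommRingCat.of R')) := (⟨⊥, Ideal.isPrime_bot⟩ : PrimeSpectrum R')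
  have hs's : h s' = s := by
    rw [hs0]; exact IsLocalRing.comap_closedPoint ρ
  have hη' : ∀ y : ↥(Spec (CommRingCat.of R')), η' ⤳ y := fun y =>
    (PrimeSpectrum.le_iff_specializes (R := R') η' y).mp (bot_le : (⊥ : Ideal R') ≤ y.asIdeal)
  have hη'η : h η' = η := by
    have h1 : h η' = (⟨⊥, Ideal.isPrime_bot⟩ : PrimeSpectrum R) := by
      apply PrimeSpectrum.ext
      change Ideal.comap ρ ⊥ = ⊥
      rw [← RingHom.ker_eq_comap_bot]
      exact (RingHom.injective_iff_ker_eq_bot ρ).mp hρinj
    have h2 : (⟨⊥, Ideal.isPrime_bot⟩ : PrimeSpectrum R) ⤳ η :=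
      (PrimeSpectrum.le_iff_specializes (R := R) ⟨⊥, Ideal.isPrime_bot⟩ η).mp
        (bot_le : (⊥ : Ideal R) ≤ η.asIdeal)
    rw [h1]
    exact (h2.antisymm (hη _)).eq
  subst hs's
  subst hη'η
  have hPBs := isPullback_fiberToSpecResidueField_of_isPullback (IsPullback.of_hasPullback f h) s'
  have hPBη := isPullback_fiberToSpecResidueField_of_isPullback (IsPullback.of_hasPullback f h) η'
  have hs' : IsProper (f'.fiberToSpecResidueField s') :=
    MorphismProperty.of_isPullback (P := @IsProper) hPBs hs
  have hconn' : GeometricallyConnected (f'.fiberToSpecResidueField η') :=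
    MorphismProperty.of_isPullback (P := @GeometricallyConnected) hPBη hconn
  have hne' : (f' ⁻¹' {s'}).Nonempty := by
    obtain ⟨c, hc⟩ := hne
    obtain ⟨z, -, hz2⟩ := Scheme.Pullback.exists_preimage_pullback (f := f) (g := h) c s' hc
    exact ⟨z, hz2⟩
  have hdom' : ∀ ξ : ↥(pullback f h), (∀ ξ' : ↥(pullback f h), ξ' ⤳ ξ → ξ' = ξ) → f' ξ = η' := by
    intro ξ hξ
    have hmax : ∀ x' : X, x' ⤳ (pullback.fst f h) ξ → x' = (pullback.fst f h) ξ := by
      intro x' hx'
      obtain ⟨ξ', hξ'sp, hξ'x'⟩ := (Flat.generalizingMap (pullback.fst f h)) hx'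
      rw [← hξ'x', hξ ξ' hξ'sp]
    have h1 : f ((pullback.fst f h) ξ) = h η' := hdom _ hmax
    have h2 : h (f' ξ) = h η' := by
      rw [← h1]
      have := congrArg (fun φ : pullback f h ⟶ Spec (CommRingCat.of R) => φ ξ)
        (pullback.condition (f := f) (g := h))
      exact this.symm
    -- the fibre of `h` over the generic point is `{η'}`
    by_contra hne''
    have hcl : f' ξ = s' := by
      by_contra hns
      apply hne''
      apply PrimeSpectrum.ext
      exact Groth.Agent.Lib.H80DvrUnivOpen.asIdeal_eq_bot_of_ne_closedPoint (A := R') (f' ξ) hns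
    rw [hcl] at h2
    have h3 : (closedPoint R : PrimeSpectrum R) = h η' := by
      rw [← h2]; exact (IsLocalRing.comap_closedPoint ρ).symm
    have h4 : maximalIdeal R = ⊥ := by
      have h5 : maximalIdeal R = Ideal.comap ρ ⊥ := congrArg PrimeSpectrum.asIdeal h3
      rw [h5, ← RingHom.ker_eq_comap_bot]
      exact (RingHom.injective_iff_ker_eq_bot ρ).mp hρinj
    exact IsDiscreteValuationRing.not_a_field R h4
  haveI hprop' : IsProper f' := isProper_of_henselian' R' f' s' rfl hs' hne' η' hη' hdom'
    (isPreconnected_preimage_of_geometricallyConnected f' η' hconn')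
  haveI : UniversallyClosed f :=
    MorphismProperty.of_pullback_snd_of_descendsAlong (P := @UniversallyClosed)
      (Q := @Surjective ⊓ @Flat ⊓ @QuasiCompact) (f := f) (g := h)
      ⟨⟨inferInstance, inferInstance⟩, inferInstance⟩ inferInstance
  exact { }



end Groth.Agent.Lib.H30PropDvr
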