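import Groth.Agent.Lib.LocProper85c
import Groth.Agent.Lib.H86FiniteCover
import Groth.Agent.Lib.H90DevAtom

/-!
# Local valuative criterion of properness, part 4 (helper85): arbitrary source
-/

set_option autoImplicit false
universe u
open CategoryTheory CategoryTheory.Limits AlgebraicGeometry TopologicalSpace IsLocalRing

namespace Groth.Agent.Lib.LocProper85

variable {X Y : Scheme.{u}}

/-- Arbitrary source, affine base. -/
theorem exists_isProper_restrict_of_isAffine [IsLocallyNoetherian Y] [IsAffine Y]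
    (f : X ⟶ Y) [IsSeparated f] [LocallyOfFiniteType f] [QuasiCompact f] (y : Y)
    (H : ∀ (κ : Type u) [Field κ] (t : Spec (.of κ) ⟶ X), DvrLiftsAt f y t) :
    ∃ U : Y.Opens, y ∈ U ∧ IsProper (f ∣_ U) := by
  classical
  have : CompactSpace X := QuasiCompact.compactSpace_of_compactSpace f
  have : IsLocallyNoetherian X := LocallyOfFiniteType.isLocallyNoetherian f
  have : IsNoetherian X := { }
  have hfin : (irreducibleComponents X).Finite :=
    TopologicalSpace.NoetherianSpace.finite_irreducibleComponents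
  have : Finite ↥(irreducibleComponents X) := hfin.to_subtype
  -- the integral closed subschemes
  let Zc : ↥(irreducibleComponents X) → Closeds X := fun Z =>
    ⟨Z.1, isClosed_of_mem_irreducibleComponents Z.1 Z.2⟩
  let I : ↥(irreducibleComponents X) → X.IdealSheafData := fun Z =>
    Scheme.IdealSheafData.vanishingIdeal (Zc Z)
  have hint : ∀ Z, IsIntegral (I Z).subscheme := fun Z =>
    Groth.Agent.Lib.H90DevAtom.isIntegral_subscheme (Zc Z) Z.2.1
  have hrange : ∀ Z, Set.range (I Z).subschemeι = Z.1 := fun Z => by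
    rw [Scheme.IdealSheafData.range_subschemeι, Scheme.IdealSheafData.coe_support_vanishingIdeal]
    rfl
  have key : ∀ Z : ↥(irreducibleComponents X), ∃ U : Y.Opens, y ∈ U ∧
      IsProper (((I Z).subschemeι ≫ f) ∣_ U) := fun Z => by
    have := hint Z
    exact exists_isProper_restrict_of_isIntegral ((I Z).subschemeι ≫ f) y
      (fun κ _ t _ => DvrLiftsAt.comp_of_universallyClosed (I Z).subschemeι f y t (H κ _))
  choose U hyU hU using key
  refine ⟨⨅ Z, U Z, ?_, ?_⟩
  · rw [← SetLike.mem_coe, Opens.coe_iInf]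
    exact Set.mem_iInter.mpr hyU
  · have huc : UniversallyClosed (f ∣_ ⨅ Z, U Z) := by
      refine Groth.Agent.Lib.H86Coprod.universallyClosed_of_finite_cover (f ∣_ ⨅ Z, U Z)
        (fun Z => (((I Z).subschemeι) ⁻¹ᵁ (f ⁻¹ᵁ ⨅ Z, U Z)).toScheme)
        (fun Z => (I Z).subschemeι ∣_ (f ⁻¹ᵁ ⨅ Z, U Z)) ?_ ?_
      · rintro ⟨x, hx⟩
        let Z : ↥(irreducibleComponents X) :=
          ⟨irreducibleComponent x, irreducibleComponent_mem_irreducibleComponents x⟩
        have hxZ : x ∈ Set.range (I Z).subschemeι := by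
          rw [hrange Z]; exact mem_irreducibleComponent
        obtain ⟨w, hw⟩ := hxZ
        have hw' : w ∈ (I Z).subschemeι ⁻¹ᵁ (f ⁻¹ᵁ ⨅ Z, U Z) := by
          change (I Z).subschemeι w ∈ f ⁻¹ᵁ ⨅ Z, U Z
          rw [hw]; exact hx
        exact ⟨Z, ⟨w, hw'⟩, Subtype.ext ((morphismRestrict_base_coe _ _ ⟨w, hw'⟩).trans hw)⟩
      · intro Z
        rw [← morphismRestrict_comp]
        exact (isProper_restrict_of_le ((I Z).subschemeι ≫ f) (iInf_le U Z)
          (hU Z)).toUniversallyClosed
    exact { }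

/-- **Local valuative criterion of properness** (EGA IV 15.7-type): `f` separated of finite type
over a locally Noetherian base; if all discrete valuation rings centred at `y` lift, then `f` is
proper over an open neighbourhood of `y`. -/
theorem exists_isProper_restrict [IsLocallyNoetherian Y]
    (f : X ⟶ Y) [IsSeparated f] [LocallyOfFiniteType f] [QuasiCompact f] (y : Y)
    (H : ∀ (κ : Type u) [Field κ] (t : Spec (.of κ) ⟶ X), DvrLiftsAt f y t) :
    ∃ U : Y.Opens, y ∈ U ∧ IsProper (f ∣_ U) := by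
  obtain ⟨Y₀, hY₀, hyY₀⟩ : ∃ Y₀ : Y.Opens, IsAffineOpen Y₀ ∧ y ∈ Y₀ := by
    obtain ⟨_, ⟨Y₀, hY₀, rfl⟩, hyY₀, -⟩ :=
      Y.isBasis_affineOpens.exists_subset_of_mem_open (Set.mem_univ y) isOpen_univ
    exact ⟨Y₀, hY₀, hyY₀⟩
  have : IsAffine Y₀.toScheme := hY₀
  obtain ⟨V₀, hyV₀, hV₀⟩ := exists_isProper_restrict_of_isAffine (f ∣_ Y₀)
    ⟨y, hyY₀⟩ (fun κ _ t₀ => DvrLiftsAt.restrict f Y₀ y hyY₀ t₀ (H κ _))
  refine ⟨Y₀.ι ''ᵁ V₀, ⟨⟨y, hyY₀⟩, hyV₀, rfl⟩, ?_⟩
  exact (MorphismProperty.arrow_mk_iso_iff @IsProper (morphismRestrictRestrict f Y₀ V₀)).mp hV₀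

/-- The hypothesis of the local valuative criterion in "fraction ring" form implies
`DvrLiftsAt`. -/
theorem dvrLiftsAt_of_forall_fractionRing (f : X ⟶ Y) (y : Y)
    (h : ∀ (A : Type u) [CommRing A] [IsDomain A] [IsDiscreteValuationRing A]
      (g : Spec (CommRingCat.of A) ⟶ Y), g (IsLocalRing.closedPoint A) = y →
      ∀ σ : Spec (CommRingCat.of (FractionRing A)) ⟶ pullback f g,
        σ ≫ pullback.snd f g = Spec.map (CommRingCat.ofHom (algebraMap A (FractionRing A))) →
        ∃ s : Spec (CommRingCat.of A) ⟶ pullback f g, s ≫ pullback.snd f g = 𝟙 _ ∧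
          Spec.map (CommRingCat.ofHom (algebraMap A (FractionRing A))) ≫ s = σ)
    {κ : Type u} [Field κ] (t : Spec (.of κ) ⟶ X) : DvrLiftsAt f y t := by
  intro A hA g hg hcomm
  let e : FractionRing A ≃ₐ[A] κ := FractionRing.algEquiv A κ
  have hsub : CommRingCat.ofHom (algebraMap A (FractionRing A)) =
      CommRingCat.ofHom A.subtype ≫ CommRingCat.ofHom (e.symm : κ →+* FractionRing A) := by
    ext a
    show algebraMap A (FractionRing A) a = e.symm (a : κ)
    exact (e.symm.commutes a).symm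
  have hee : CommRingCat.ofHom (e.symm : κ →+* FractionRing A) ≫
      CommRingCat.ofHom (e : FractionRing A →+* κ) = 𝟙 _ := by
    ext a
    show e (e.symm a) = a
    exact e.apply_symm_apply a
  have hcond : (Spec.map (CommRingCat.ofHom (e.symm : κ →+* FractionRing A)) ≫ t) ≫ f =
      Spec.map (CommRingCat.ofHom (algebraMap A (FractionRing A))) ≫ g := by
    rw [hsub, Spec.map_comp, Category.assoc, Category.assoc, hcomm]
  obtain ⟨s, hs1, hs2⟩ := h A g hg (pullback.lift _ _ hcond) (pullback.lift_snd _ _ _)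
  refine ⟨s ≫ pullback.fst f g, ?_, ?_⟩
  · have h1 : Spec.map (CommRingCat.ofHom (algebraMap A (FractionRing A))) ≫ s ≫
        pullback.fst f g = Spec.map (CommRingCat.ofHom (e.symm : κ →+* FractionRing A)) ≫ t := by
      rw [← Category.assoc, hs2, pullback.lift_fst]
    rw [hsub, Spec.map_comp, Category.assoc] at h1
    have h3 : Spec.map (CommRingCat.ofHom (e : FractionRing A →+* κ)) ≫
        Spec.map (CommRingCat.ofHom (e.symm : κ →+* FractionRing A)) = 𝟙 _ := by
      rw [← Spec.map_comp, hee, Spec.map_id]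
    calc Spec.map (CommRingCat.ofHom A.subtype) ≫ s ≫ pullback.fst f g
        = (Spec.map (CommRingCat.ofHom (e : FractionRing A →+* κ)) ≫
            Spec.map (CommRingCat.ofHom (e.symm : κ →+* FractionRing A))) ≫
            Spec.map (CommRingCat.ofHom A.subtype) ≫ s ≫ pullback.fst f g := by
          rw [h3, Category.id_comp]
      _ = Spec.map (CommRingCat.ofHom (e : FractionRing A →+* κ)) ≫
            Spec.map (CommRingCat.ofHom (e.symm : κ →+* FractionRing A)) ≫ t := by
          rw [Category.assoc, h1]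
      _ = t := by rw [← Category.assoc, h3, Category.id_comp]
  · rw [Category.assoc, pullback.condition, ← Category.assoc, hs1, Category.id_comp]

end Groth.Agent.Lib.LocProper85
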