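import Mathlib
import Groth.Agent.Lib.H30PropDvr
import Groth.Agent.S4978

set_option autoImplicit false
open CategoryTheory CategoryTheory.Limits AlgebraicGeometry TopologicalSpace IsLocalRing
universe u

namespace Groth.Agent.Lib.H30PropNbhd

open Groth.Agent.Lib.LocProper85

variable {X Y : Scheme.{u}}

/-- Local valuative criterion with lifting only required at maximal points, over a locally
Noetherian base. -/
theorem exists_isProper_restrict_of_maximal [IsLocallyNoetherian Y]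
    (f : X ⟶ Y) [IsSeparated f] [LocallyOfFiniteType f] [QuasiCompact f] (y : Y)
    (H : ∀ (κ : Type u) [Field κ] (t : Spec (.of κ) ⟶ X),
      (∀ x' : X, t (closedPoint κ) ∈ closure {x'} → x' = t (closedPoint κ)) →
      DvrLiftsAt f y t) :
    ∃ U : Y.Opens, y ∈ U ∧ IsProper (f ∣_ U) := by
  obtain ⟨Y₀, hY₀, hyY₀⟩ : ∃ Y₀ : Y.Opens, IsAffineOpen Y₀ ∧ y ∈ Y₀ := by
    obtain ⟨_, ⟨Y₀, hY₀, rfl⟩, hyY₀, -⟩ :=
      Y.isBasis_affineOpens.exists_subset_of_mem_open (Set.mem_univ y) isOpen_univ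
    exact ⟨Y₀, hY₀, hyY₀⟩
  haveI : IsAffine Y₀.toScheme := hY₀
  haveI : IsNoetherian Y₀.toScheme := { }
  obtain ⟨V₀, hyV₀, hV₀⟩ := Groth.Agent.S4978.exists_isProper_restrict_of_maximal (f ∣_ Y₀)
    ⟨y, hyY₀⟩ (fun κ _ t₀ ht₀ => DvrLiftsAt.restrict f Y₀ y hyY₀ t₀ (H κ _ (by
      intro x' hx'
      have hsp : x' ⤳ (t₀ ≫ (f ⁻¹ᵁ Y₀).ι) (closedPoint κ) := specializes_iff_mem_closure.mpr hx'
      have hmem : (t₀ ≫ (f ⁻¹ᵁ Y₀).ι) (closedPoint κ) ∈ f ⁻¹ᵁ Y₀ := (t₀ (closedPoint κ)).2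
      have hx'mem : x' ∈ f ⁻¹ᵁ Y₀ := hsp.mem_open (f ⁻¹ᵁ Y₀).isOpen hmem
      obtain ⟨x'', hx''⟩ : ∃ x'' : (f ⁻¹ᵁ Y₀).toScheme, (f ⁻¹ᵁ Y₀).ι x'' = x' :=
        ⟨⟨x', hx'mem⟩, rfl⟩
      have h0 : x'' ⤳ t₀ (closedPoint κ) := by
        rw [← (f ⁻¹ᵁ Y₀).ι.isEmbedding.isInducing.specializes_iff, hx'']
        exact hsp
      have h1 := ht₀ x'' (specializes_iff_mem_closure.mp h0)
      rw [← hx'', h1]
      rfl)))
  refine ⟨Y₀.ι ''ᵁ V₀, ⟨⟨y, hyY₀⟩, hyV₀, rfl⟩, ?_⟩
  exact (MorphismProperty.arrow_mk_iso_iff @IsProper (morphismRestrictRestrict f Y₀ V₀)).mp hV₀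

/-- If the base change of `f` to every DVR centred at `y` through `t` is universally closed, then
DVRs lift at `t`. -/
theorem dvrLiftsAt_of_forall_universallyClosed (f : X ⟶ Y) (y : Y) {κ : Type u} [Field κ]
    (t : Spec (.of κ) ⟶ X)
    (h : ∀ A : ValuationSubring κ, IsDiscreteValuationRing A → ∀ g : Spec (.of A) ⟶ Y,
      g (closedPoint A) = y → Spec.map (CommRingCat.ofHom A.subtype) ≫ g = t ≫ f →
      UniversallyClosed (pullback.snd f g)) : DvrLiftsAt f y t := by
  intro A hA g hg hcomm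
  haveI := h A hA g hg hcomm
  let σ : Spec (.of κ) ⟶ pullback f g :=
    pullback.lift t (Spec.map (CommRingCat.ofHom A.subtype)) hcomm.symm
  obtain ⟨l, hl1, hl2⟩ := exists_lift_of_universallyClosed (pullback.snd f g) A σ (𝟙 _)
    (by rw [Category.comp_id]; exact (pullback.lift_snd _ _ _).symm)
  refine ⟨l ≫ pullback.fst f g, ?_, ?_⟩
  · rw [← Category.assoc, hl1]; exact pullback.lift_fst _ _ _
  · rw [Category.assoc, pullback.condition, ← Category.assoc, hl2, Category.id_comp]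

open Groth.Agent.Lib.H30PropDvr in
/-- **EGA IV 15.7.10 (flat case).** -/
theorem exists_isProper_restrict_of_flat {X S : Scheme.{u}} [IsLocallyNoetherian S] (f : X ⟶ S)
    [Flat f] [IsSeparated f] [LocallyOfFiniteType f] [QuasiCompact f]
    (hgen : ∀ η : S, (∀ η' : S, η' ⤳ η → η' = η) → Nonempty ↥(f.fiber η) →
      GeometricallyConnected (f.fiberToSpecResidueField η))
    (s : S) (hne : (f ⁻¹' {s}).Nonempty) (hs : IsProper (f.fiberToSpecResidueField s)) :
    ∃ U : S.Opens, s ∈ U ∧ IsProper (f ∣_ U) := by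
  apply exists_isProper_restrict_of_maximal f s
  intro κ _ t htmax
  apply dvrLiftsAt_of_forall_universallyClosed
  intro A hA g hg hcomm
  haveI : IsDiscreteValuationRing A := hA
  -- opaque names for the closed and generic points of `Spec A`
  obtain ⟨sA, hsA⟩ : ∃ sA : ↥(Spec (CommRingCat.of A)), sA = closedPoint A := ⟨_, rfl⟩
  let ηA : ↥(Spec (CommRingCat.of A)) := (⟨⊥, Ideal.isPrime_bot⟩ : PrimeSpectrum A)
  have hηA : ∀ y : ↥(Spec (CommRingCat.of A)), ηA ⤳ y := fun y =>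
    (PrimeSpectrum.le_iff_specializes (R := A) ηA y).mp (bot_le : (⊥ : Ideal A) ≤ y.asIdeal)
  have hgs : g sA = s := by rw [hsA]; exact hg
  set ξ := t (closedPoint κ) with hξ
  have hgη : g ηA = f ξ := by
    have h1 : (Spec.map (CommRingCat.ofHom A.subtype)) (closedPoint κ) = ηA := by
      apply PrimeSpectrum.ext
      change Ideal.comap A.subtype (closedPoint κ).asIdeal = ⊥
      have h0 : (closedPoint κ).asIdeal = ⊥ := by
        change maximalIdeal κ = ⊥
        exact IsLocalRing.isField_iff_maximalIdeal_eq.mp (Field.toIsField _)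
      rw [h0, ← RingHom.ker_eq_comap_bot]
      exact (RingHom.injective_iff_ker_eq_bot _).mp A.subtype_injective
    have h2 : (Spec.map (CommRingCat.ofHom A.subtype) ≫ g) (closedPoint κ) =
        (t ≫ f) (closedPoint κ) := by rw [hcomm]
    have h3 : g ((Spec.map (CommRingCat.ofHom A.subtype)) (closedPoint κ)) = f ξ := h2
    rw [← h1]
    exact h3
  -- the image of `ξ` is a maximal point of `S` with nonempty fibre
  have hmaxS : ∀ η' : S, η' ⤳ f ξ → η' = f ξ := by
    intro η' hη'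
    obtain ⟨ξ', hξ'sp, hξ'η'⟩ := (Flat.generalizingMap f) hη'
    have := htmax ξ' (specializes_iff_mem_closure.mp hξ'sp)
    rw [← hξ'η', this]
  have hneξ : Nonempty ↥(f.fiber (f ξ)) := by
    have : ξ ∈ Set.range (f.fiberι (f ξ)) := by
      rw [f.range_fiberι]; rfl
    obtain ⟨z, -⟩ := this
    exact ⟨z⟩
  have hgc : GeometricallyConnected (f.fiberToSpecResidueField (g ηA)) := by
    rw [hgη]; exact hgen (f ξ) hmaxS hneξ
  subst hgs
  have hPBs := isPullback_fiberToSpecResidueField_of_isPullback (IsPullback.of_hasPullback f g) sA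
  have hPBη := isPullback_fiberToSpecResidueField_of_isPullback (IsPullback.of_hasPullback f g) ηA
  have hs' : IsProper ((pullback.snd f g).fiberToSpecResidueField sA) :=
    MorphismProperty.of_isPullback (P := @IsProper) hPBs hs
  have hconn' : GeometricallyConnected ((pullback.snd f g).fiberToSpecResidueField ηA) :=
    MorphismProperty.of_isPullback (P := @GeometricallyConnected) hPBη hgc
  have hne' : ((pullback.snd f g) ⁻¹' {sA}).Nonempty := by
    obtain ⟨c, hc⟩ := hne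
    obtain ⟨z, -, hz2⟩ := Scheme.Pullback.exists_preimage_pullback (f := f) (g := g) c sA hc
    exact ⟨z, hz2⟩
  haveI : IsProper (pullback.snd f g) :=
    isProper_of_dvr A (pullback.snd f g) sA hsA hs' hne' ηA hηA hconn'
  infer_instance

end Groth.Agent.Lib.H30PropNbhd
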