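import Mathlib
import Groth.Prelude
import Groth.Agent.Lib.H30PropDvr2
import Groth.Agent.Lib.H30FieldPt
import Groth.Agent.Lib.H71CompGeomConn
import Groth.Agent.Lib.NoethTop
import Groth.Agent.Lib.H56ConsNhds
import Groth.Agent.Lib.ConsTop2

/-!
# helper30: tools for EGA IV 15.7.9 (properness of a locally constructible subset at a point)
-/

set_option autoImplicit false
open CategoryTheory CategoryTheory.Limits AlgebraicGeometry TopologicalSpace IsLocalRing
universe u

namespace Groth.Agent.Lib.H30PropZ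

open Groth.Agent.Lib.FibreBranches96

/-- Geometric connectedness of a fibre can be checked on field-valued points of the base. -/
theorem geometricallyConnected_fiber_of_points {W S : Scheme.{u}} (h : W ⟶ S) (η : S)
    (H : ∀ (K : Type u) [Field K] (y : Spec (CommRingCat.of K) ⟶ S), (∀ pt, y pt = η) →
      ConnectedSpace ↥(pullback h y)) :
    GeometricallyConnected (h.fiberToSpecResidueField η) := by
  rw [geometricallyConnected_iff]
  intro K _ y T fst snd hPB
  have hF : IsPullback (h.fiberι η) (h.fiberToSpecResidueField η) h (S.fromSpecResidueField η) :=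
    IsPullback.of_hasPullback _ _
  have hbig : IsPullback (fst ≫ h.fiberι η) snd h (y ≫ S.fromSpecResidueField η) :=
    hPB.paste_horiz hF
  haveI : ConnectedSpace ↥(pullback h (y ≫ S.fromSpecResidueField η)) :=
    H K (y ≫ S.fromSpecResidueField η) (fun pt => by
      rw [Scheme.Hom.comp_apply]
      exact Scheme.fromSpecResidueField_apply η _)
  let e := hbig.isoPullback
  have hsurj : Function.Surjective e.inv := fun t => ⟨e.hom t, by
    rw [← Scheme.Hom.comp_apply, Iso.hom_inv_id]; rfl⟩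
  exact hsurj.connectedSpace e.inv.continuous

/-- The `FBase` form of geometric connectedness of a subset of a fibre, in terms of field-valued
points of the base. -/
theorem isPreconnected_preimage_of_fbase {X Y : Scheme.{u}} (f : X ⟶ Y) (Z : Set X) (y' : Y)
    (hK : ∀ (K : Type u) [Field K] [Algebra (IsLocalRing.ResidueField (Y.presheaf.stalk y')) K],
      _root_.IsPreconnected
        ((FBase.bcπ (f.fiberToSpecResidueField y') K ≫ f.fiberι y').base ⁻¹' Z))
    (K : Type u) [Field K] (u : Spec (CommRingCat.of K) ⟶ Y) (hu : u (closedPoint K) = y') :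
    _root_.IsPreconnected ((pullback.fst f u) ⁻¹' Z) := by
  obtain ⟨ρ, hρ⟩ := Groth.Agent.Lib.H30FieldPt.exists_rho u y' hu
  letI : Algebra (IsLocalRing.ResidueField (Y.presheaf.stalk y')) K := ρ.hom.toAlgebra
  have h0 := hK K
  have hP1 : IsPullback (FBase.bcπ (f.fiberToSpecResidueField y') K)
      (FBase.bcStr (f.fiberToSpecResidueField y') K) (f.fiberToSpecResidueField y')
      (Spec.map ρ) := IsPullback.of_hasPullback _ _
  have hF : IsPullback (f.fiberι y') (f.fiberToSpecResidueField y') f (Y.fromSpecResidueField y') :=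
    IsPullback.of_hasPullback _ _
  have hbig := hP1.paste_horiz hF
  rw [hρ] at hbig
  let e := hbig.isoPullback
  have he : e.hom ≫ pullback.fst f u =
      FBase.bcπ (f.fiberToSpecResidueField y') K ≫ f.fiberι y' :=
    hbig.isoPullback_hom_fst
  have : (pullback.fst f u) ⁻¹' Z = e.hom ''
      ((FBase.bcπ (f.fiberToSpecResidueField y') K ≫ f.fiberι y').base ⁻¹' Z) := by
    ext b
    constructor
    · intro hb
      refine ⟨e.inv b, ?_, ?_⟩
      · change (FBase.bcπ (f.fiberToSpecResidueField y') K ≫ f.fiberι y') (e.inv b) ∈ Z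
        rw [← he, ← Scheme.Hom.comp_apply, Iso.inv_hom_id_assoc]
        exact hb
      · rw [← Scheme.Hom.comp_apply, Iso.inv_hom_id]; rfl
    · rintro ⟨c, hc, rfl⟩
      change (pullback.fst f u) (e.hom c) ∈ Z
      rw [← Scheme.Hom.comp_apply, he]
      exact hc
  rw [this]
  exact h0.image _ e.hom.continuous.continuousOn

/-- In a fibre of a morphism of finite type, connected components are traces of closed and of open
subsets of the total space. -/
theorem exists_closed_open_trace {X Y : Scheme.{u}} (f : X ⟶ Y) [LocallyOfFiniteType f]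
    [QuasiCompact f] (y' : Y) (x : X) (hx : f x = y') :
    ∃ (K₀ O₁ : Set X), IsClosed K₀ ∧ IsOpen O₁ ∧
      K₀ ∩ f ⁻¹' {y'} = connectedComponentIn (f ⁻¹' {y'}) x ∧
      O₁ ∩ f ⁻¹' {y'} = connectedComponentIn (f ⁻¹' {y'}) x := by
  haveI : LocallyOfFiniteType (f.fiberToSpecResidueField y') :=
    MorphismProperty.pullback_snd _ _ inferInstance
  haveI : IsLocallyNoetherian (Spec (Y.residueField y')) :=
    isLocallyNoetherian_Spec.mpr inferInstance
  haveI : IsLocallyNoetherian (f.fiber y') :=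
    LocallyOfFiniteType.isLocallyNoetherian (f.fiberToSpecResidueField y')
  haveI : IsNoetherian (f.fiber y') := { }
  haveI : NoetherianSpace ↥(f ⁻¹' {y'}) :=
    (noetherianSpace_iff_of_homeomorph (f.fiberHomeo y')).mp inferInstance
  have hxF : x ∈ f ⁻¹' {y'} := hx
  have hcl : IsClosed (connectedComponent (⟨x, hxF⟩ : ↥(f ⁻¹' {y'}))) := isClosed_connectedComponent
  have hop : IsOpen (connectedComponent (⟨x, hxF⟩ : ↥(f ⁻¹' {y'}))) :=
    Groth.Agent.Lib.NoethTop.isOpen_connectedComponent_of_finite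
      NoetherianSpace.finite_irreducibleComponents _
  obtain ⟨K₀, hK₀, hK₀'⟩ := isClosed_induced_iff.mp hcl
  obtain ⟨O₁, hO₁, hO₁'⟩ := isOpen_induced_iff.mp hop
  refine ⟨K₀, O₁, hK₀, hO₁, ?_, ?_⟩
  · rw [connectedComponentIn_eq_image hxF, ← hK₀', Subtype.image_preimage_coe, Set.inter_comm]
  · rw [connectedComponentIn_eq_image hxF, ← hO₁', Subtype.image_preimage_coe, Set.inter_comm]

/-- Every point of the closure of a locally constructible set is a specialization of a point of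
the set. -/
theorem exists_specializes_of_mem_closure (X : Scheme.{u}) {Z : Set X}
    (hZ : Topology.IsLocallyConstructible Z) (z : X) (hz : z ∈ closure Z) : ∃ ξ ∈ Z, ξ ⤳ z := by
  by_contra hcon
  push_neg at hcon
  have h1 : Zᶜ ∈ nhds z :=
    Groth.Agent.Lib.H56ConsNhds.mem_nhds_of_isLocallyConstructible X
      (Groth.Agent.Lib.ConsTop.isLocallyConstructible_compl hZ) z
      (fun ξ hξ hξZ => hcon ξ hξZ hξ)
  rw [mem_closure_iff_nhds] at hz
  obtain ⟨w, hw1, hw2⟩ := hz _ h1
  exact hw1 hw2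

/-- The fibre of an open subscheme is the corresponding open subscheme of the fibre. -/
theorem isProper_fiber_of_opens {X Y : Scheme.{u}} (f : X ⟶ Y) (y : Y) (O : X.Opens)
    (OF : (f.fiber y).Opens) (hOF : (OF : Set ↥(f.fiber y)) = (f.fiberι y) ⁻¹' (O : Set X))
    (h : IsProper (OF.ι ≫ f.fiberToSpecResidueField y)) :
    IsProper ((O.ι ≫ f).fiberToSpecResidueField y) := by
  have hP := isPullback_fiberMap O.ι f y
  haveI : IsOpenImmersion (fiberMap O.ι f y) :=
    MorphismProperty.of_isPullback (P := @IsOpenImmersion) hP.flip inferInstance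
  have hrange : Set.range (fiberMap O.ι f y) = Set.range OF.ι := by
    rw [Scheme.Opens.range_ι, hOF]
    ext z
    constructor
    · rintro ⟨w, rfl⟩
      change (f.fiberι y) ((fiberMap O.ι f y) w) ∈ (O : Set X)
      rw [← Scheme.Hom.comp_apply, fiberMap_fiberι, Scheme.Hom.comp_apply]
      exact ((O.ι ≫ f).fiberι y w).2
    · intro hz
      obtain ⟨w, hw1, -⟩ := Scheme.exists_preimage_of_isPullback hP z ⟨_, hz⟩ rfl
      exact ⟨w, hw1⟩
  let e := IsOpenImmersion.isoOfRangeEq (fiberMap O.ι f y) OF.ι hrange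
  have he : e.hom ≫ OF.ι = fiberMap O.ι f y := IsOpenImmersion.isoOfRangeEq_hom_fac _ _ _
  have : (O.ι ≫ f).fiberToSpecResidueField y = e.hom ≫ OF.ι ≫ f.fiberToSpecResidueField y := by
    rw [← Category.assoc, he, fiberMap_snd]
  rw [this]
  infer_instance

open Groth.Agent.Lib.H30PropDvr

/-- **Main DVR lemma for EGA IV 15.7.9.** -/
theorem exists_proper_closure {X Y : Scheme.{u}} (f : X ⟶ Y) [IsSeparated f]
    [LocallyOfFiniteType f] [QuasiCompact f] (Z : Set X)
    (A : Type u) [CommRing A] [IsDomain A] [IsDiscreteValuationRing A]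
    (g : Spec (CommRingCat.of A) ⟶ Y)
    (sA : ↥(Spec (CommRingCat.of A))) (hsA : sA = closedPoint A)
    (ηA : ↥(Spec (CommRingCat.of A))) (hηbot : (ηA : PrimeSpectrum A).asIdeal = ⊥)
    -- (i) at `g ηA`
    (K₀ O₁ : Set X) (hK₀ : IsClosed K₀) (hO₁ : IsOpen O₁)
    (hK₀Z : K₀ ∩ f ⁻¹' {g ηA} = Z ∩ f ⁻¹' {g ηA})
    (hO₁Z : O₁ ∩ f ⁻¹' {g ηA} = Z ∩ f ⁻¹' {g ηA})
    (hZη : ∃ x ∈ Z, f x = g ηA)
    (hconn : ∀ (K : Type u) [Field K] (u : Spec (CommRingCat.of K) ⟶ Y),
      u (closedPoint K) = g ηA → _root_.IsPreconnected ((pullback.fst f u) ⁻¹' Z))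
    -- (ii) at `g sA`
    (O : X.Opens) (hOs : (O : Set X) ∩ f ⁻¹' {g sA} = Z ∩ f ⁻¹' {g sA})
    (hOη : Z ∩ f ⁻¹' {g ηA} ⊆ O)
    (hOprop : IsProper ((O.ι ≫ f).fiberToSpecResidueField (g sA)))
    -- (iii)
    (h3 : ¬ ∃ W₀ : Set ↥(pullback f g), IsOpen W₀ ∧
      W₀ ∩ (pullback.fst f g) ⁻¹' Z = (pullback.snd f g) ⁻¹' {sA} ∩ (pullback.fst f g) ⁻¹' Z) :
    ∃ (W : Scheme.{u}) (j : W ⟶ pullback f g), IsProper (j ≫ pullback.snd f g) ∧
      (∀ w : W, (pullback.fst f g) (j w) ∈ Z) ∧
      (∀ x : ↥(pullback f g), (pullback.fst f g) x ∈ Z → (pullback.snd f g) x = ηA →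
        x ∈ Set.range j) ∧
      (∀ (κ : Type u) [Field κ] (σ : Spec (CommRingCat.of κ) ⟶ pullback f g),
        (∀ pt, (pullback.fst f g) (σ pt) ∈ Z ∧ (pullback.snd f g) (σ pt) = ηA) →
        ∃ σW : Spec (CommRingCat.of κ) ⟶ W, σW ≫ j = σ) := by
  classical
  have hηA : ∀ y : ↥(Spec (CommRingCat.of A)), ηA ⤳ y := fun y =>
    (PrimeSpectrum.le_iff_specializes (R := A) ηA y).mp
      (show (ηA : PrimeSpectrum A).asIdeal ≤ (y : PrimeSpectrum A).asIdeal by
        rw [hηbot]; exact bot_le)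
  have hpts : ∀ z : ↥(Spec (CommRingCat.of A)), z = sA ∨ z = ηA := by
    intro z
    by_cases hz : z = sA
    · exact Or.inl hz
    · right
      have hz' : (z : PrimeSpectrum A) ≠ closedPoint A := by rw [← hsA]; exact hz
      apply PrimeSpectrum.ext
      rw [hηbot]
      exact Groth.Agent.Lib.H80DvrUnivOpen.asIdeal_eq_bot_of_ne_closedPoint (A := A) z hz'
  have hne_sη : sA ≠ ηA := by
    intro h
    have h1 : (closedPoint A).asIdeal = ⊥ := by
      rw [← hsA, h]; exact hηbot
    exact IsDiscreteValuationRing.not_a_field A h1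
  have hscl : IsClosed ({sA} : Set ↥(Spec (CommRingCat.of A))) := by
    rw [hsA]; exact IsLocalRing.isClosed_singleton_closedPoint A
  have hηopen : IsOpen ({ηA} : Set ↥(Spec (CommRingCat.of A))) := by
    have : ({ηA} : Set ↥(Spec (CommRingCat.of A))) = {sA}ᶜ := by
      ext z
      simp only [Set.mem_singleton_iff, Set.mem_compl_iff]
      constructor
      · intro h h'; exact hne_sη (h'.symm.trans h)
      · intro h
        rcases hpts z with h' | h'
        · exact absurd h' h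
        · exact h'
    rw [this]
    exact hscl.isOpen_compl
  have hPB : IsPullback (pullback.fst f g) (pullback.snd f g) f g := IsPullback.of_hasPullback f g
  have hcond : ∀ x : ↥(pullback f g), f ((pullback.fst f g) x) = g ((pullback.snd f g) x) := by
    intro x
    rw [← Scheme.Hom.comp_apply, ← Scheme.Hom.comp_apply, pullback.condition]
  -- the open subscheme `V` of the pullback
  let Xo : (pullback f g).Opens := (pullback.fst f g) ⁻¹ᵁ O
  have hPB2 : IsPullback ((pullback.fst f g) ∣_ O) (Xo.ι ≫ pullback.snd f g) (O.ι ≫ f) g :=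
    (isPullback_morphismRestrict (pullback.fst f g) O).paste_vert hPB
  have hs'' : IsProper ((Xo.ι ≫ pullback.snd f g).fiberToSpecResidueField sA) :=
    MorphismProperty.of_isPullback (P := @IsProper)
      (isPullback_fiberToSpecResidueField_of_isPullback hPB2 sA) hOprop
  haveI : IsLocallyNoetherian (pullback f g) :=
    LocallyOfFiniteType.isLocallyNoetherian (pullback.snd f g)
  haveI : IsLocallyNoetherian Xo.toScheme :=
    LocallyOfFiniteType.isLocallyNoetherian (Xo.ι ≫ pullback.snd f g)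
  haveI : CompactSpace ↥Xo.toScheme :=
    QuasiCompact.compactSpace_of_compactSpace (Xo.ι ≫ pullback.snd f g)
  haveI : IsNoetherian Xo.toScheme := { }
  -- the two maps out of `V`
  have hq : ∀ v : ↥Xo.toScheme,
      f ((Xo.ι ≫ pullback.fst f g) v) = g ((Xo.ι ≫ pullback.snd f g) v) := fun v => hcond (Xo.ι v)
  have hqO : ∀ v : ↥Xo.toScheme, (Xo.ι ≫ pullback.fst f g) v ∈ O := fun v => v.2
  -- the generic part of `Z`
  let Zη : Set ↥Xo.toScheme :=
    {v | (Xo.ι ≫ pullback.fst f g) v ∈ Z ∧ (Xo.ι ≫ pullback.snd f g) v = ηA}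
  have hZηO₁ : Zη = (Xo.ι ≫ pullback.fst f g) ⁻¹' O₁ ∩ (Xo.ι ≫ pullback.snd f g) ⁻¹' {ηA} := by
    ext v
    constructor
    · rintro ⟨h1, h2⟩
      refine ⟨?_, h2⟩
      have : (Xo.ι ≫ pullback.fst f g) v ∈ Z ∩ f ⁻¹' {g ηA} := ⟨h1, by
        change f _ = g ηA
        rw [hq v, h2]⟩
      rw [← hO₁Z] at this
      exact this.1
    · rintro ⟨h1, h2⟩
      have h2' : (Xo.ι ≫ pullback.snd f g) v = ηA := h2
      refine ⟨?_, h2'⟩
      have : (Xo.ι ≫ pullback.fst f g) v ∈ O₁ ∩ f ⁻¹' {g ηA} := ⟨h1, by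
        change f _ = g ηA
        rw [hq v, h2']⟩
      rw [hO₁Z] at this
      exact this.1
  have hZηopen : IsOpen Zη := by
    rw [hZηO₁]
    exact (hO₁.preimage (Xo.ι ≫ pullback.fst f g).continuous).inter
      (hηopen.preimage (Xo.ι ≫ pullback.snd f g).continuous)
  have hZηK₀ : Zη ⊆ (Xo.ι ≫ pullback.fst f g) ⁻¹' K₀ := by
    rintro v ⟨h1, h2⟩
    have : (Xo.ι ≫ pullback.fst f g) v ∈ Z ∩ f ⁻¹' {g ηA} := ⟨h1, by
      change f _ = g ηA
      rw [hq v, h2]⟩
    rw [← hK₀Z] at this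
    exact this.1
  have hK₀cl : IsClosed ((Xo.ι ≫ pullback.fst f g) ⁻¹' K₀) :=
    hK₀.preimage (Xo.ι ≫ pullback.fst f g).continuous
  -- components
  have hfin : (irreducibleComponents ↥Xo.toScheme).Finite :=
    NoetherianSpace.finite_irreducibleComponents
  haveI : Finite ↥(irreducibleComponents ↥Xo.toScheme) := hfin.to_subtype
  have hZcl : ∀ Zi : ↥(irreducibleComponents ↥Xo.toScheme), IsClosed Zi.1 := fun Zi =>
    isClosed_of_mem_irreducibleComponents Zi.1 Zi.2
  have hgenpt : ∀ Zi : ↥(irreducibleComponents ↥Xo.toScheme),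
      ∃ ξ : ↥Xo.toScheme, IsGenericPoint ξ Zi.1 := fun Zi =>
    ⟨Zi.2.1.genericPoint, Zi.2.1.isGenericPoint_genericPoint (hZcl Zi)⟩
  choose gp hgp using hgenpt
  have hgp_mem : ∀ Zi, gp Zi ∈ Zi.1 := fun Zi => by
    have : gp Zi ∈ closure ({gp Zi} : Set ↥Xo.toScheme) := subset_closure rfl
    rw [(hgp Zi).def] at this
    exact this
  have hgp_sp : ∀ Zi, ∀ x ∈ Zi.1, gp Zi ⤳ x := fun Zi x hx => by
    rw [specializes_iff_mem_closure, (hgp Zi).def]; exact hx
  let C : Set ↥Xo.toScheme :=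
    ⋃ Zi ∈ {Zi : ↥(irreducibleComponents ↥Xo.toScheme) | gp Zi ∈ Zη}, Zi.1
  have hCcl : IsClosed C := Set.Finite.isClosed_biUnion (Set.toFinite _) fun Zi _ => hZcl Zi
  -- (a) `Zη ⊆ C`
  have hZηC : Zη ⊆ C := by
    intro x hx
    obtain ⟨Zi, hZi, hxZi⟩ := exists_mem_irreducibleComponents_subset_of_isIrreducible {x}
      isIrreducible_singleton
    have hsp := hgp_sp ⟨Zi, hZi⟩ x (hxZi rfl)
    have h2 : gp ⟨Zi, hZi⟩ ∈ Zη := hsp.mem_open hZηopen hx
    exact Set.mem_biUnion (show (⟨Zi, hZi⟩ : ↥(irreducibleComponents ↥Xo.toScheme)) ∈ _ from h2)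
      (hxZi rfl)
  -- (a') points of `C` over `ηA` lie in `Z`
  have hCη : ∀ x ∈ C, (Xo.ι ≫ pullback.snd f g) x = ηA → (Xo.ι ≫ pullback.fst f g) x ∈ Z := by
    intro x hx hxη
    obtain ⟨Zi, hZiS, hxZi⟩ := Set.mem_iUnion₂.mp hx
    have h1 : gp Zi ∈ (Xo.ι ≫ pullback.fst f g) ⁻¹' K₀ := hZηK₀ hZiS
    have h2 : x ∈ (Xo.ι ≫ pullback.fst f g) ⁻¹' K₀ :=
      hK₀cl.stableUnderSpecialization (hgp_sp Zi x hxZi) h1
    have : (Xo.ι ≫ pullback.fst f g) x ∈ K₀ ∩ f ⁻¹' {g ηA} := ⟨h2, by
      change f _ = g ηA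
      rw [hq x, hxη]⟩
    rw [hK₀Z] at this
    exact this.1
  -- points over `sA` lie in `Z`
  have hVs : ∀ x : ↥Xo.toScheme, (Xo.ι ≫ pullback.snd f g) x = sA →
      (Xo.ι ≫ pullback.fst f g) x ∈ Z := by
    intro x hxs
    have : (Xo.ι ≫ pullback.fst f g) x ∈ (O : Set X) ∩ f ⁻¹' {g sA} := ⟨hqO x, by
      change f _ = g sA
      rw [hq x, hxs]⟩
    rw [hOs] at this
    exact this.1
  -- the closed subscheme
  let Cc : Closeds ↥Xo.toScheme := ⟨C, hCcl⟩
  let W : Scheme.{u} := (Scheme.IdealSheafData.vanishingIdeal Cc).subscheme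
  let ι : W ⟶ Xo.toScheme := (Scheme.IdealSheafData.vanishingIdeal Cc).subschemeι
  have hrange : Set.range ι = C := by
    change Set.range (Scheme.IdealSheafData.vanishingIdeal Cc).subschemeι = _
    rw [Scheme.IdealSheafData.range_subschemeι, Scheme.IdealSheafData.coe_support_vanishingIdeal]
    rfl
  haveI : IsClosedImmersion ι := inferInstanceAs
    (IsClosedImmersion (Scheme.IdealSheafData.vanishingIdeal Cc).subschemeι)
  have hιapp : ∀ w : W, (ι ≫ Xo.ι ≫ pullback.snd f g) w = (Xo.ι ≫ pullback.snd f g) (ι w) :=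
    fun w => Scheme.Hom.comp_apply _ _ _
  -- output (2)
  have hjZ : ∀ w : W, (pullback.fst f g) ((ι ≫ Xo.ι) w) ∈ Z := by
    intro w
    have hwC : ι w ∈ C := by rw [← hrange]; exact ⟨w, rfl⟩
    rcases hpts ((Xo.ι ≫ pullback.snd f g) (ι w)) with h | h
    · exact hVs (ι w) h
    · exact hCη (ι w) hwC h
  -- output (1)
  have hjη : ∀ x : ↥(pullback f g), (pullback.fst f g) x ∈ Z → (pullback.snd f g) x = ηA →
      x ∈ Set.range (ι ≫ Xo.ι) := by
    intro x hxZ hxη
    have hxO : x ∈ Xo := by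
      change (pullback.fst f g) x ∈ O
      apply hOη
      refine ⟨hxZ, ?_⟩
      change f _ = g ηA
      rw [hcond x, hxη]
    have hv : (⟨x, hxO⟩ : ↥Xo.toScheme) ∈ C := hZηC ⟨hxZ, hxη⟩
    rw [← hrange] at hv
    obtain ⟨w, hw⟩ := hv
    refine ⟨w, ?_⟩
    change Xo.ι (ι w) = x
    rw [hw]
    rfl
  -- (b) maximal points of `W` lie over `ηA`
  have hdom : ∀ ξ : W, (∀ ξ' : W, ξ' ⤳ ξ → ξ' = ξ) →
      (ι ≫ Xo.ι ≫ pullback.snd f g) ξ = ηA := by
    intro w hw
    have hwC : ι w ∈ C := by rw [← hrange]; exact ⟨w, rfl⟩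
    obtain ⟨Zi, hZiS, hwZi⟩ := Set.mem_iUnion₂.mp hwC
    have hξC : gp Zi ∈ C := Set.mem_biUnion hZiS (hgp_mem Zi)
    rw [← hrange] at hξC
    obtain ⟨w', hw'⟩ := hξC
    have hsp : ι w' ⤳ ι w := by rw [hw']; exact hgp_sp Zi _ hwZi
    have hsp' : w' ⤳ w := (ι.isEmbedding.isInducing.specializes_iff).mp hsp
    have hww := hw w' hsp'
    rw [hιapp, ← hww, hw']
    exact hZiS.2
  -- (c) the closed fibre of `W` is nonempty
  have hne : ((ι ≫ Xo.ι ≫ pullback.snd f g) ⁻¹' {sA}).Nonempty := by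
    by_contra hempty
    rw [Set.not_nonempty_iff_eq_empty] at hempty
    apply h3
    refine ⟨Xo.ι '' Cᶜ, Xo.ι.isOpenEmbedding.isOpenMap _ hCcl.isOpen_compl, ?_⟩
    ext x
    constructor
    · rintro ⟨⟨v, hvC, rfl⟩, hxZ⟩
      refine ⟨?_, hxZ⟩
      rcases hpts ((Xo.ι ≫ pullback.snd f g) v) with h | h
      · exact h
      · exact absurd (hZηC ⟨hxZ, h⟩) hvC
    · rintro ⟨hxs, hxZ⟩
      have hxs' : (pullback.snd f g) x = sA := hxs
      have hxZ' : (pullback.fst f g) x ∈ Z := hxZ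
      refine ⟨?_, hxZ⟩
      have hxO : x ∈ Xo := by
        change (pullback.fst f g) x ∈ O
        have : (pullback.fst f g) x ∈ Z ∩ f ⁻¹' {g sA} := ⟨hxZ', by
          change f _ = g sA
          rw [hcond x, hxs']⟩
        rw [← hOs] at this
        exact this.1
      refine ⟨⟨x, hxO⟩, ?_, rfl⟩
      intro hvC
      rw [← hrange] at hvC
      obtain ⟨w, hw⟩ := hvC
      have : w ∈ (ι ≫ Xo.ι ≫ pullback.snd f g) ⁻¹' {sA} := by
        change (ι ≫ Xo.ι ≫ pullback.snd f g) w = sA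
        rw [hιapp, hw]
        exact hxs'
      rw [hempty] at this
      exact this
  have hs' : IsProper ((ι ≫ Xo.ι ≫ pullback.snd f g).fiberToSpecResidueField sA) :=
    isProper_fiber_comp ι (Xo.ι ≫ pullback.snd f g) sA hs''
  -- (e) geometric connectedness of the generic fibre
  have hgc : GeometricallyConnected ((ι ≫ Xo.ι ≫ pullback.snd f g).fiberToSpecResidueField ηA) := by
    obtain ⟨hW, hhW⟩ : ∃ hW : W ⟶ Spec (CommRingCat.of A), hW = ι ≫ Xo.ι ≫ pullback.snd f g :=
      ⟨_, rfl⟩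
    rw [← hhW]
    apply geometricallyConnected_fiber_of_points
    intro K _ y hy
    have hu : (y ≫ g) (closedPoint K) = g ηA := by
      rw [Scheme.Hom.comp_apply, hy]
    have hB := hconn K (y ≫ g) hu
    -- the map `B ⟶ X'`
    let bX : pullback f (y ≫ g) ⟶ pullback f g :=
      pullback.lift (pullback.fst f (y ≫ g)) (pullback.snd f (y ≫ g) ≫ y)
        (by rw [Category.assoc]; exact pullback.condition)
    have hbX1 : bX ≫ pullback.fst f g = pullback.fst f (y ≫ g) := pullback.lift_fst _ _ _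
    have hbX2 : bX ≫ pullback.snd f g = pullback.snd f (y ≫ g) ≫ y := pullback.lift_snd _ _ _
    have hPBr : IsPullback bX (pullback.snd f (y ≫ g)) (pullback.snd f g) y :=
      IsPullback.of_right (by rw [hbX1]; exact IsPullback.of_hasPullback f (y ≫ g)) hbX2 hPB
    -- the map `T ⟶ B`
    have hTcond : pullback.fst hW y ≫ hW = pullback.snd hW y ≫ y := pullback.condition
    have hTcond' : pullback.fst hW y ≫ ι ≫ Xo.ι ≫ pullback.snd f g = pullback.snd hW y ≫ y := by
      rw [← hhW]; exact hTcond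
    let m : pullback hW y ⟶ pullback f (y ≫ g) :=
      pullback.lift (pullback.fst hW y ≫ ι ≫ Xo.ι ≫ pullback.fst f g) (pullback.snd hW y)
        (by
          have e1 : (pullback.fst hW y ≫ ι ≫ Xo.ι ≫ pullback.fst f g) ≫ f =
              (pullback.fst hW y ≫ ι ≫ Xo.ι ≫ pullback.snd f g) ≫ g := by
            simp only [Category.assoc]
            rw [pullback.condition]
          rw [e1, hTcond', Category.assoc])
    have hm1 : m ≫ pullback.fst f (y ≫ g) =
        pullback.fst hW y ≫ ι ≫ Xo.ι ≫ pullback.fst f g := pullback.lift_fst _ _ _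
    have hm2 : m ≫ pullback.snd f (y ≫ g) = pullback.snd hW y := pullback.lift_snd _ _ _
    have hmbX : m ≫ bX = pullback.fst hW y ≫ ι ≫ Xo.ι := by
      apply pullback.hom_ext
      · rw [Category.assoc, hbX1, hm1]; simp only [Category.assoc]
      · rw [Category.assoc, hbX2, ← Category.assoc, hm2]
        simp only [Category.assoc]
        exact hTcond'.symm
    have hPBl : IsPullback m (pullback.fst hW y) bX (ι ≫ Xo.ι) := by
      refine IsPullback.of_right ?_ hmbX hPBr.flip
      have e2 : (ι ≫ Xo.ι) ≫ pullback.snd f g = hW := by rw [hhW, Category.assoc]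
      rw [hm2, e2]
      exact (IsPullback.of_hasPullback hW y).flip
    haveI : IsPreimmersion m :=
      MorphismProperty.of_isPullback (P := @IsPreimmersion) hPBl.flip inferInstance
    have hrm : Set.range m = (pullback.fst f (y ≫ g)) ⁻¹' Z := by
      ext b
      constructor
      · rintro ⟨t, rfl⟩
        change (pullback.fst f (y ≫ g)) (m t) ∈ Z
        rw [← Scheme.Hom.comp_apply, hm1]
        exact hjZ (pullback.fst hW y t)
      · intro hb
        have hb' : (pullback.fst f (y ≫ g)) b ∈ Z := hb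
        have h1 : (pullback.fst f g) (bX b) ∈ Z := by
          rw [← Scheme.Hom.comp_apply, hbX1]; exact hb'
        have h2 : (pullback.snd f g) (bX b) = ηA := by
          rw [← Scheme.Hom.comp_apply, hbX2, Scheme.Hom.comp_apply]; exact hy _
        obtain ⟨w, hw⟩ := hjη (bX b) h1 h2
        obtain ⟨t, ht, -⟩ := Scheme.exists_preimage_of_isPullback hPBl b w hw.symm
        exact ⟨t, ht⟩
    haveI : Nonempty ↥(pullback hW y) := by
      obtain ⟨x₀, hx₀Z, hx₀⟩ := hZη
      obtain ⟨b, hb1, -⟩ := Scheme.Pullback.exists_preimage_pullback (f := f) (g := y ≫ g) x₀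
        (closedPoint K) (hx₀.trans hu.symm)
      have : b ∈ Set.range m := by
        rw [hrm]
        change (pullback.fst f (y ≫ g)) b ∈ Z
        rw [hb1]; exact hx₀Z
      obtain ⟨t, -⟩ := this
      exact ⟨t⟩
    have hpre : _root_.IsPreconnected (Set.univ : Set ↥(pullback hW y)) := by
      rw [← m.isEmbedding.isInducing.isPreconnected_image, Set.image_univ, hrm]
      exact hB
    exact { isPreconnected_univ := hpre, toNonempty := inferInstance }
  haveI : IsProper (ι ≫ Xo.ι ≫ pullback.snd f g) :=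
    isProper_of_dvr' A (ι ≫ Xo.ι ≫ pullback.snd f g) sA hsA hs' hne ηA hηA hdom hgc
  refine ⟨W, ι ≫ Xo.ι, ?_, hjZ, hjη, ?_⟩
  · rw [Category.assoc]; infer_instance
  · intro κ _ σ hσ
    have hσO : Set.range σ ⊆ Set.range Xo.ι := by
      rintro _ ⟨pt, rfl⟩
      rw [Scheme.Opens.range_ι]
      change (pullback.fst f g) (σ pt) ∈ O
      apply hOη
      refine ⟨(hσ pt).1, ?_⟩
      change f _ = g ηA
      rw [hcond, (hσ pt).2]
    let σ₁ : Spec (CommRingCat.of κ) ⟶ Xo.toScheme := IsOpenImmersion.lift Xo.ι σ hσO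
    have hσ₁ : σ₁ ≫ Xo.ι = σ := IsOpenImmersion.lift_fac _ _ _
    have hσ₁C : Set.range σ₁ ⊆ (Cc : Set ↥Xo.toScheme) := by
      rintro _ ⟨pt, rfl⟩
      apply hZηC
      have e : Xo.ι (σ₁ pt) = σ pt := by rw [← hσ₁]; rfl
      refine ⟨?_, ?_⟩
      · change (pullback.fst f g) (Xo.ι (σ₁ pt)) ∈ Z
        rw [e]; exact (hσ pt).1
      · change (pullback.snd f g) (Xo.ι (σ₁ pt)) = ηA
        rw [e]; exact (hσ pt).2
    obtain ⟨σW, hσW⟩ := Groth.Agent.Lib.H71CompGeomConn.exists_lift_subscheme σ₁ Cc hσ₁C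
    refine ⟨σW, ?_⟩
    rw [← Category.assoc]
    change (σW ≫ (Scheme.IdealSheafData.vanishingIdeal Cc).subschemeι) ≫ _ = _
    rw [hσW, hσ₁]

end Groth.Agent.Lib.H30PropZ
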