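import Groth.Agent.Lib.H56LocDimRing2
import Groth.Agent.Lib.H56LocDimSch
import Groth.Agent.Lib.CMQF33l
import Mathlib

/-!
helper30: quasi-finite charts `U → 𝔸^n_Y` of a morphism locally of finite type at a point, with `n`
the local fibre dimension at the point (EGA IV 13.3.1 (a) ⟹ (b), chart part).
-/

set_option autoImplicit false
universe u

open CategoryTheory AlgebraicGeometry Limits Groth.Agent.Lib.H56LocDim

namespace Groth.Agent.Lib.H30QFChart

/-- `f` has a quasi-finite chart of relative dimension `n` at `x`: an open neighbourhood `W` of `x`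
and a locally quasi-finite `Y`-morphism `W → 𝔸ⁿ_Y`. -/
def HasChart {X Y : Scheme.{u}} (f : X ⟶ Y) (x : X) (n : ℕ) : Prop :=
  ∃ (W : Scheme.{u}) (j : W ⟶ X) (_ : IsOpenImmersion j)
    (g : W ⟶ 𝔸(ULift.{u} (Fin n); Y)),
    x ∈ Set.range j ∧ g ≫ (𝔸(ULift.{u} (Fin n); Y) ↘ Y) = j ≫ f ∧ LocallyQuasiFinite g

/-- Charts transfer along squares of open immersions. -/
theorem HasChart.of_comm {X₀ Y₀ X Y : Scheme.{u}} (f₀ : X₀ ⟶ Y₀) (f : X ⟶ Y) (a : X₀ ⟶ X)
    (b : Y₀ ⟶ Y) [IsOpenImmersion a] [IsOpenImmersion b] (w : f₀ ≫ b = a ≫ f) (x₀ : X₀) (n : ℕ)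
    (h : HasChart f₀ x₀ n) : HasChart f (a x₀) n := by
  obtain ⟨W, j₀, hj₀, g₀, ⟨w₀, rfl⟩, hg₀, hqf⟩ := h
  have hb := Groth.Agent.Lib.CMQF33.isOpenImmersion_affineSpace_map (ULift.{u} (Fin n)) b
  refine ⟨W, j₀ ≫ a, inferInstance, g₀ ≫ AffineSpace.map _ b, ⟨w₀, rfl⟩, ?_, inferInstance⟩
  rw [Category.assoc, AffineSpace.map_over, reassoc_of% hg₀, w, Category.assoc]

/-- Charts for finite type algebras. -/
theorem hasChart_Spec (R S : Type u) [CommRing R] [CommRing S] [Algebra R S]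
    [Algebra.FiniteType R S] (q : Spec (.of S)) (n : ℕ)
    (h : fibLocDim (PrimeSpectrum.comap (algebraMap R S)) q = n) :
    HasChart (Spec.map (CommRingCat.ofHom (algebraMap R S))) q n := by
  obtain ⟨r, hr, φ, -, hqf⟩ := exists_away_quasiFinite_mvPolynomial (R := R) (S := S) q n h
  let φ' : MvPolynomial (ULift.{u} (Fin n)) R →ₐ[R] Localization.Away r :=
    φ.comp (MvPolynomial.renameEquiv R Equiv.ulift).toAlgHom
  have hqf' : φ'.toRingHom.QuasiFinite :=
    RingHom.QuasiFinite.respectsIso.2 _ (MvPolynomial.renameEquiv R Equiv.ulift).toRingEquiv hqf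
  have hcomp : φ'.toRingHom.comp
      (MvPolynomial.C : R →+* MvPolynomial (ULift.{u} (Fin n)) R) =
      (algebraMap S (Localization.Away r)).comp (algebraMap R S) := by
    ext x
    simp only [RingHom.comp_apply]
    rw [← IsScalarTower.algebraMap_apply R S (Localization.Away r)]
    exact φ'.commutes x
  refine ⟨Spec (.of (Localization.Away r)),
    Spec.map (CommRingCat.ofHom (algebraMap S (Localization.Away r))), inferInstance,
    Spec.map (CommRingCat.ofHom φ'.toRingHom) ≫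
      (AffineSpace.SpecIso (ULift.{u} (Fin n)) (.of R)).inv, ?_, ?_, ?_⟩
  · have h1 := PrimeSpectrum.localization_away_comap_range (Localization.Away r) r
    have h2 : q ∈ (PrimeSpectrum.basicOpen r : Set (PrimeSpectrum S)) := hr
    rw [← h1] at h2
    exact h2
  · rw [Category.assoc, AffineSpace.SpecIso_inv_over, ← Spec.map_comp, ← Spec.map_comp,
      ← CommRingCat.ofHom_comp, ← CommRingCat.ofHom_comp, hcomp]
  · have h1 : LocallyQuasiFinite (Spec.map (CommRingCat.ofHom φ'.toRingHom)) := by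
      rw [HasRingHomProperty.Spec_iff (P := @LocallyQuasiFinite)]
      exact hqf'
    infer_instance

/-- Charts for morphisms of affine schemes locally of finite type. -/
theorem hasChart_of_isAffine {X Y : Scheme.{u}} [IsAffine X] [IsAffine Y] (f : X ⟶ Y)
    [LocallyOfFiniteType f] (x : X) (n : ℕ) (hx : FlatMor.fibreDimAt f x = n) :
    HasChart f x n := by
  have w : Spec.map f.appTop ≫ Y.isoSpec.inv = X.isoSpec.inv ≫ f :=
    Scheme.isoSpec_inv_naturality f
  have hxx : X.isoSpec.inv (X.isoSpec.hom x) = x := by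
    rw [← Scheme.Hom.comp_apply, Iso.hom_inv_id]; rfl
  rw [← hxx]
  refine HasChart.of_comm _ _ X.isoSpec.inv Y.isoSpec.inv w _ n ?_
  have hx' : FlatMor.fibreDimAt (Spec.map f.appTop) (X.isoSpec.hom x) = n := by
    rw [Groth.Agent.Lib.CMQF33.fibreDimAt_of_comm (Spec.map f.appTop) f X.isoSpec.inv
      Y.isoSpec.inv w, hxx]
    exact hx
  algebraize [f.appTop.hom]
  have h2 : Algebra.FiniteType Γ(Y, ⊤) Γ(X, ⊤) :=
    (HasRingHomProperty.iff_of_isAffine (P := @LocallyOfFiniteType)).mp inferInstance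
  rw [fibreDimAt_eq_fibLocDim] at hx'
  exact hasChart_Spec Γ(Y, ⊤) Γ(X, ⊤) _ n hx'

/-- **Quasi-finite charts**: a morphism locally of finite type whose fibre has local dimension `n`
at `x` admits, on an open neighbourhood of `x`, a locally quasi-finite morphism to `𝔸ⁿ_Y` over
`Y`. -/
theorem hasChart {X Y : Scheme.{u}} (f : X ⟶ Y) [LocallyOfFiniteType f] (x : X) (n : ℕ)
    (hx : FlatMor.fibreDimAt f x = n) : HasChart f x n := by
  obtain ⟨_, ⟨U, hU, rfl⟩, hxU, -⟩ :=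
    Y.isBasis_affineOpens.exists_subset_of_mem_open (Set.mem_univ (f x)) isOpen_univ
  obtain ⟨_, ⟨V, hV, rfl⟩, hxV, hVU⟩ :=
    X.isBasis_affineOpens.exists_subset_of_mem_open hxU (U.2.preimage f.continuous)
  replace hVU : V ≤ f ⁻¹ᵁ U := hVU
  have hVaff : IsAffine (V : Scheme.{u}) := hV
  have hUaff : IsAffine (U : Scheme.{u}) := hU
  have hx' : FlatMor.fibreDimAt (f.resLE U V hVU) ⟨x, hxV⟩ = n := by
    rw [Groth.Agent.Lib.CMQF33.fibreDimAt_of_comm (f.resLE U V hVU) f (Scheme.Opens.ι V)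
      (Scheme.Opens.ι U) (f.resLE_comp_ι _) ⟨x, hxV⟩]
    exact hx
  exact HasChart.of_comm (f.resLE U V hVU) f (Scheme.Opens.ι V) (Scheme.Opens.ι U)
    (f.resLE_comp_ι _) ⟨x, hxV⟩ n (hasChart_of_isAffine _ _ n hx')

/-- Unpacking a chart in terms of an open subscheme. -/
theorem HasChart.exists_opens {X Y : Scheme.{u}} (f : X ⟶ Y) (x : X) (n : ℕ)
    (h : HasChart f x n) :
    ∃ (U : X.Opens) (_ : x ∈ U) (g : (U : Scheme.{u}) ⟶ 𝔸(ULift.{u} (Fin n); Y)),
      g ≫ (𝔸(ULift.{u} (Fin n); Y) ↘ Y) = U.ι ≫ f ∧ LocallyQuasiFinite g := by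
  obtain ⟨W, j, hj, g, hxj, hg, hqf⟩ := h
  refine ⟨j.opensRange, hxj, j.isoOpensRange.inv ≫ g, ?_, inferInstance⟩
  rw [Category.assoc, hg, ← Category.assoc, Scheme.Hom.isoOpensRange_inv_comp]

/-- charts inside a prescribed open neighbourhood -/
theorem exists_chart_le {X Y : Scheme.{u}} (f : X ⟶ Y) [LocallyOfFiniteType f] (x : X) (n : ℕ)
    (hx : FlatMor.fibreDimAt f x = n) (U₀ : X.Opens) (hxU₀ : x ∈ U₀) :
    ∃ (U : X.Opens) (_ : x ∈ U) (_ : U ≤ U₀) (g : (U : Scheme.{u}) ⟶ 𝔸(ULift.{u} (Fin n); Y)),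
      g ≫ (𝔸(ULift.{u} (Fin n); Y) ↘ Y) = U.ι ≫ f ∧ LocallyQuasiFinite g := by
  obtain ⟨U, hxU, g, hg, hqf⟩ := HasChart.exists_opens f x n (hasChart f x n hx)
  have hle : U ⊓ U₀ ≤ U := inf_le_left
  refine ⟨U ⊓ U₀, ⟨hxU, hxU₀⟩, inf_le_right, X.homOfLE hle ≫ g, ?_, inferInstance⟩
  rw [Category.assoc, hg, ← Category.assoc, Scheme.homOfLE_ι]

end Groth.Agent.Lib.H30QFChart
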