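import Groth.Agent.Lib.H71IrrFibre
import Groth.Agent.Lib.H71GeomConnCrit
import Groth.Prelude.Def_MoreMor

/-!
# H71SectionComp: section components commute with base change (helper71)

* isPreconnected_preimage_rational_point, isConnected_preimage_connectedComponent_rational_point: the connected
  component of a rational point of a k-scheme stays connected after every base field extension;
* sectionComponents_baseChange (EGA IV 15.6.x-type): MoreMor.sectionComponents f' s' = g'⁻¹(sectionComponents f s) for
  a base change square with compatible sections.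
-/

set_option autoImplicit false
universe u
open CategoryTheory CategoryTheory.Limits AlgebraicGeometry TensorProduct

namespace Groth.Agent.Lib.H71SectionComp

open Groth.Agent.Lib.FieldBC13 Groth.Agent.Lib.H71IrrFibre

/-- The fibre of `X_L → X` over a `k`-rational point is a single point, hence preconnected. -/
theorem isPreconnected_preimage_rational_point {k : Type u} [Field k] {X : Scheme.{u}}
    (f : X ⟶ Spec (CommRingCat.of k)) (x : Spec (CommRingCat.of k) ⟶ X) (hx : x ≫ f = 𝟙 _)
    (L : Type u) [Field L] [Algebra k L] :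
    _root_.IsPreconnected ((pullback.fst f (Spec.map (CommRingCat.ofHom (algebraMap k L)))) ⁻¹'
      {x (IsLocalRing.closedPoint k)}) := by
  rw [preimage_singleton_eq_range f L k x]
  haveI : IsIso (pullback.snd (x ≫ f) (Spec.map (CommRingCat.ofHom (algebraMap k L)))) := by
    rw [hx]; infer_instance
  haveI : Subsingleton ↥(pullback (x ≫ f) (Spec.map (CommRingCat.ofHom (algebraMap k L)))) :=
    (asIso (pullback.snd (x ≫ f) (Spec.map (CommRingCat.ofHom (algebraMap k L))))).hom.homeomorph.injective.subsingleton
  exact (Set.subsingleton_range _).isPreconnected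

/-- The connected component of a rational point stays connected after any base field extension. -/
theorem isConnected_preimage_connectedComponent_rational_point {k : Type u} [Field k] {X : Scheme.{u}}
    (f : X ⟶ Spec (CommRingCat.of k)) (x : Spec (CommRingCat.of k) ⟶ X) (hx : x ≫ f = 𝟙 _)
    (K : Type u) [Field K] [Algebra k K] :
    _root_.IsConnected ((pullback.fst f (Spec.map (CommRingCat.ofHom (algebraMap k K)))) ⁻¹'
      connectedComponent (x (IsLocalRing.closedPoint k))) :=
  Groth.Agent.Lib.H71GeomConnCrit.isConnected_preimage_connectedComponent_of_preconnected_preimage K f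
    {x (IsLocalRing.closedPoint k)} isPreconnected_singleton
    (fun L _ _ => isPreconnected_preimage_rational_point f x hx L) _ rfl


/-- **EGA IV 15.6.x-type**: the union of the connected components of the fibres through a section commutes with
arbitrary base change. -/
theorem sectionComponents_baseChange {X Y X' Y' : Scheme.{u}} (f : X ⟶ Y) (s : Y ⟶ X) (hs : s ≫ f = 𝟙 Y)
    (f' : X' ⟶ Y') (g' : X' ⟶ X) (g : Y' ⟶ Y) (hc : IsPullback g' f' f g)
    (s' : Y' ⟶ X') (hs' : s' ≫ f' = 𝟙 Y') (hs'g : s' ≫ g' = g ≫ s) :
    MoreMor.sectionComponents f' s' = g' ⁻¹' MoreMor.sectionComponents f s := by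
  ext x'
  have hfg : ∀ a : X', f (g' a) = g (f' a) := by
    intro a
    rw [← Scheme.Hom.comp_apply g' f, hc.w, Scheme.Hom.comp_apply]
  show x' ∈ connectedComponentIn (f' ⁻¹' {f' x'}) (s' (f' x')) ↔
    g' x' ∈ connectedComponentIn (f ⁻¹' {f (g' x')}) (s (f (g' x')))
  rw [hfg x']
  have hx'F : x' ∈ f' ⁻¹' {f' x'} := rfl
  revert hx'F
  generalize f' x' = y'
  intro hx'F
  have hsg : g' (s' y') = s (g y') := by
    rw [← Scheme.Hom.comp_apply s' g', hs'g, Scheme.Hom.comp_apply]
  have hσ'F : s' y' ∈ f' ⁻¹' {y'} := by
    rw [Set.mem_preimage, ← Scheme.Hom.comp_apply s' f', hs']; rfl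
  have hσF : s (g y') ∈ f ⁻¹' {g y'} := by
    rw [Set.mem_preimage, ← Scheme.Hom.comp_apply s f, hs]; rfl
  have hmaps : ∀ a ∈ f' ⁻¹' {y'}, g' a ∈ f ⁻¹' {g y'} := by
    intro a ha
    rw [Set.mem_preimage, hfg a, ha]; rfl
  constructor
  · intro hx
    have hpre : _root_.IsPreconnected (g' '' connectedComponentIn (f' ⁻¹' {y'}) (s' y')) :=
      isPreconnected_connectedComponentIn.image _ g'.continuous.continuousOn
    have hsub := hpre.subset_connectedComponentIn (x := s (g y')) (F := f ⁻¹' {g y'})
      ⟨s' y', mem_connectedComponentIn hσ'F, hsg⟩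
      (by rintro _ ⟨a, ha, rfl⟩; exact hmaps a (connectedComponentIn_subset _ _ ha))
    exact hsub ⟨x', hx, rfl⟩
  · intro hx
    letI : Algebra (Y.residueField (g y')) (Y'.residueField y') := (g.residueFieldMap y').hom.toAlgebra
    -- the rational point of the fibre
    let x₀ : Spec (Y.residueField (g y')) ⟶ f.fiber (g y') :=
      pullback.lift (Y.fromSpecResidueField (g y') ≫ s) (𝟙 _)
        (by rw [Category.assoc, hs, Category.comp_id, Category.id_comp])
    have hx₀ : x₀ ≫ f.fiberToSpecResidueField (g y') = 𝟙 _ := pullback.lift_snd _ _ _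
    have hx₀ι : x₀ ≫ f.fiberι (g y') = Y.fromSpecResidueField (g y') ≫ s := pullback.lift_fst _ _ _
    set a₀ := x₀ (IsLocalRing.closedPoint (Y.residueField (g y'))) with ha₀
    have hιa₀ : f.fiberι (g y') a₀ = s (g y') := by
      rw [ha₀, ← Scheme.Hom.comp_apply, hx₀ι, Scheme.Hom.comp_apply, Scheme.fromSpecResidueField_apply]
    have hconn := isConnected_preimage_connectedComponent_rational_point
      (k := (Y.residueField (g y') : Type u))
      (f.fiberToSpecResidueField (g y')) x₀ hx₀ (Y'.residueField y')
    -- the fibre base change square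
    have hpb := isPullback_fiberToSpecResidueField_of_isPullback hc y'
    set φ : f'.fiber y' ⟶ f.fiber (g y') :=
      pullback.map _ _ _ _ g' (Spec.map (g.residueFieldMap y')) g hc.w.symm (by simp) with hφ
    have hφι : φ ≫ f.fiberι (g y') = f'.fiberι y' ≫ g' := pullback.lift_fst _ _ _
    have hφι' : ∀ a, f.fiberι (g y') (φ a) = g' (f'.fiberι y' a) := by
      intro a
      rw [← Scheme.Hom.comp_apply, hφι, Scheme.Hom.comp_apply]
    let e := hpb.isoPullback
    have he : e.hom ≫ pullback.fst (f.fiberToSpecResidueField (g y')) (Spec.map (g.residueFieldMap y')) = φ :=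
      hpb.isoPullback_hom_fst
    set T : Set ↥(f'.fiber y') := φ ⁻¹' connectedComponent a₀ with hT
    have hTpre : _root_.IsPreconnected T := by
      have h1 : T = e.hom.homeomorph ⁻¹'
          ((pullback.fst (f.fiberToSpecResidueField (g y')) (Spec.map (g.residueFieldMap y'))) ⁻¹'
            connectedComponent a₀) := by
        rw [hT, ← he]
        rfl
      rw [h1]
      exact (e.hom.homeomorph.isPreconnected_preimage).mpr hconn.isPreconnected
    have hS'pre : _root_.IsPreconnected (f'.fiberι y' '' T) :=
      hTpre.image _ (f'.fiberι y').continuous.continuousOn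
    -- the section point lies in `S'`
    let x₀' : Spec (Y'.residueField y') ⟶ f'.fiber y' :=
      pullback.lift (Y'.fromSpecResidueField y' ≫ s') (𝟙 _)
        (by rw [Category.assoc, hs', Category.comp_id, Category.id_comp])
    have hx₀'ι : x₀' ≫ f'.fiberι y' = Y'.fromSpecResidueField y' ≫ s' := pullback.lift_fst _ _ _
    set a₀' := x₀' (IsLocalRing.closedPoint (Y'.residueField y')) with ha₀'
    have hιa₀' : f'.fiberι y' a₀' = s' y' := by
      rw [ha₀', ← Scheme.Hom.comp_apply, hx₀'ι, Scheme.Hom.comp_apply, Scheme.fromSpecResidueField_apply]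
    have hφa₀' : φ a₀' = a₀ := by
      apply (f.fiberι (g y')).isEmbedding.injective
      rw [hφι', hιa₀', hsg, hιa₀]
    have hσ'S : s' y' ∈ f'.fiberι y' '' T :=
      ⟨a₀', by rw [hT, Set.mem_preimage, hφa₀']; exact mem_connectedComponent, hιa₀'⟩
    have hS'F : f'.fiberι y' '' T ⊆ f' ⁻¹' {y'} := by
      rw [← f'.range_fiberι y']
      exact Set.image_subset_range _ _
    have hsub := hS'pre.subset_connectedComponentIn hσ'S hS'F
    apply hsub
    -- `x'` lies in `S'`
    have hx'R : x' ∈ Set.range (f'.fiberι y') := by
      rw [f'.range_fiberι y']; exact hx'F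
    obtain ⟨a, rfl⟩ := hx'R
    refine ⟨a, ?_, rfl⟩
    rw [hT, Set.mem_preimage]
    have hCsub : connectedComponentIn (f ⁻¹' {g y'}) (s (g y')) ⊆ Set.range (f.fiberι (g y')) := by
      rw [f.range_fiberι (g y')]; exact connectedComponentIn_subset _ _
    have hpreC : _root_.IsPreconnected ((f.fiberι (g y')) ⁻¹'
        connectedComponentIn (f ⁻¹' {g y'}) (s (g y'))) := by
      rw [← (f.fiberι (g y')).isEmbedding.isInducing.isPreconnected_image, Set.image_preimage_eq_inter_range,
        Set.inter_eq_left.mpr hCsub]
      exact isPreconnected_connectedComponentIn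
    have ha₀C : a₀ ∈ (f.fiberι (g y')) ⁻¹' connectedComponentIn (f ⁻¹' {g y'}) (s (g y')) := by
      rw [Set.mem_preimage, hιa₀]
      exact mem_connectedComponentIn hσF
    have := hpreC.subset_connectedComponent ha₀C
    apply this
    rw [Set.mem_preimage, hφι']
    exact hx

end Groth.Agent.Lib.H71SectionComp
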