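import Groth.Agent.Lib.H77GeomCountMain
import Groth.Agent.Lib.H71SectionComp

/-!
# Section components near the generic point (helper77)

For `f : X ⟶ Y` of finite type with a section `s` and `Y` irreducible, over a neighbourhood `V` of
the generic point the section components `MoreMor.sectionComponents f s` coincide with a closed
subset of `X` whose complement in `f ⁻¹' V` is also relatively closed (EGA IV 15.6.x, Stacks 055K).
-/

set_option autoImplicit false
set_option linter.style.haveILetI false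
universe u
open CategoryTheory Limits AlgebraicGeometry TopologicalSpace

namespace Groth.Agent.Lib.H77SectionComp

open Groth.Agent.Lib.H77GeomIrrSch Groth.Agent.Lib.H77GeomFiberMap Groth.Agent.Lib.H77TopDecomp
  Groth.Agent.Lib.H77GeomDecomp Groth.Agent.Lib.H69RedInduced Groth.Agent.Lib.H77GeomCount
  Groth.Agent.Lib.H77GeomCountMain

variable {X Y : Scheme.{u}}

/-- A closed subscheme of `X` whose fibre over `y` is connected and contains the value of a section
has geometrically connected fibre over `y`. -/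
theorem geomConnFiber_of_section {T : Scheme.{u}} (i : T ⟶ X) [IsClosedImmersion i] (f : X ⟶ Y)
    (s : Y ⟶ X) (hs : s ≫ f = 𝟙 Y) (y : Y)
    (hconn : _root_.IsConnected (Set.range i ∩ f ⁻¹' {y}))
    (l : Spec (Y.residueField y) ⟶ T) (hl : l ≫ i = Y.fromSpecResidueField y ≫ s) :
    GCF (i ≫ f) y := by
  haveI := connectedSpace_fiber_of_isConnected i f y hconn
  have hw : l ≫ (i ≫ f) = 𝟙 _ ≫ Y.fromSpecResidueField y := by
    rw [← Category.assoc, hl, Category.assoc, hs, Category.comp_id, Category.id_comp]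
  let x : Spec (Y.residueField y) ⟶ (i ≫ f).fiber y :=
    pullback.lift l (𝟙 _) hw
  have hx : x ≫ (i ≫ f).fiberToSpecResidueField y = 𝟙 _ := pullback.lift_snd _ _ _
  have h := @Groth.Agent.Lib.H71SectionComp.isConnected_preimage_connectedComponent_rational_point
    (Y.residueField y) _ _ ((i ≫ f).fiberToSpecResidueField y) x hx
    (SeparableClosure (Y.residueField y)) _ _
  rw [PreconnectedSpace.connectedComponent_eq_univ, Set.preimage_univ] at h
  rw [geomConnFiber_iff_connectedSpace_geomFiber]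
  exact connectedSpace_iff_univ.mpr h

variable (f : X ⟶ Y) [LocallyOfFiniteType f] [QuasiCompact f] [IrreducibleSpace Y]

theorem exists_opens_sectionComponents (s : Y ⟶ X) (hs : s ≫ f = 𝟙 Y) :
    ∃ V : Y.Opens, genericPoint Y ∈ V ∧ ∃ C₁ C₂ : Set X, IsClosed C₁ ∧ IsClosed C₂ ∧
      MoreMor.sectionComponents f s ∩ f ⁻¹' (V : Set Y) = C₁ ∩ f ⁻¹' (V : Set Y) ∧
      f ⁻¹' (V : Set Y) \ MoreMor.sectionComponents f s = C₂ ∩ f ⁻¹' (V : Set Y) := by
  classical
  have hfs : ∀ y : Y, f (s y) = y := fun y => by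
    rw [← Scheme.Hom.comp_apply, hs]; rfl
  obtain ⟨m, S, hcov, hconn, hdisj⟩ := exists_connDecomp_fiber f (genericPoint Y)
  obtain ⟨a₀, ha₀⟩ := Set.mem_iUnion.mp (hcov (hfs (genericPoint Y)))
  let i := redSubι (S a₀)
  have hr : Set.range i = (S a₀ : Set X) := range_redSubι (S a₀)
  -- the rational point
  obtain ⟨l, hl⟩ := exists_lift_redSub (Y.fromSpecResidueField (genericPoint Y) ≫ s) (S a₀) (by
    rintro _ ⟨t, rfl⟩
    rw [Scheme.Hom.comp_apply, Scheme.fromSpecResidueField_apply]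
    exact ha₀)
  have hGCFη : GCF (i ≫ f) (genericPoint Y) :=
    geomConnFiber_of_section i f s hs (genericPoint Y) (by rw [hr]; exact hconn a₀) l hl
  obtain ⟨V1, hηV1, hV1⟩ := exists_opens_cover f S hcov
  obtain ⟨V2, hηV2, hV2⟩ := exists_opens_forall_geomConnFiber (i ≫ f) hGCFη
  obtain ⟨V3, hηV3, hV3⟩ := exists_opens_forall_finite (genericPoint Y)
    (fun (p : Fin m × Fin m) y => p.1 ≠ p.2 →
      (S p.1 : Set X) ∩ (S p.2 : Set X) ∩ f ⁻¹' {y} = ∅)
    (fun p => by
      by_cases hp : p.1 = p.2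
      · exact ⟨⊤, trivial, fun y _ h => absurd hp h⟩
      · obtain ⟨V, hηV, hV⟩ := exists_opens_forall_inter_eq_empty f (S p.1 ⊓ S p.2)
          (hdisj p.1 p.2 hp)
        exact ⟨V, hηV, fun y hy _ => hV y hy⟩)
  let C₂ : Set X := ⋃ b ∈ {b : Fin m | b ≠ a₀}, (S b : Set X)
  have hC₂ : IsClosed C₂ := (Set.toFinite _).isClosed_biUnion fun b _ => (S b).isClosed
  -- the section lands in `S a₀`
  have hsS : ∀ y : Y, s y ∈ (S a₀ : Set X) := by
    intro y
    have hcl : IsClosed (s ⁻¹' (S a₀ : Set X)) := (S a₀).isClosed.preimage s.continuous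
    have h1 : closure {genericPoint Y} ⊆ s ⁻¹' (S a₀ : Set X) :=
      hcl.closure_subset_iff.mpr (Set.singleton_subset_iff.mpr ha₀)
    rw [(genericPoint_spec Y).def] at h1
    exact h1 (Set.mem_univ y)
  -- the key identification of the component of `s y`
  have key : ∀ y ∈ V1 ⊓ V2 ⊓ V3, ∀ x : X, f x = y →
      (x ∈ connectedComponentIn (f ⁻¹' {y}) (s y) ↔ x ∈ (S a₀ : Set X)) := by
    rintro y ⟨⟨hy1, hy2⟩, hy3⟩ x hxy
    have hA : _root_.IsConnected ((S a₀ : Set X) ∩ f ⁻¹' {y}) := by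
      haveI : GeometricallyConnected ((i ≫ f).fiberToSpecResidueField y) := hV2 y hy2
      haveI : ConnectedSpace ((i ≫ f).fiber y) :=
        GeometricallyConnected.connectedSpace_of_subsingleton ((i ≫ f).fiberToSpecResidueField y)
      have h1 := (isConnected_univ (α := (i ≫ f).fiber y)).image
        (fun z : (i ≫ f).fiber y => i ((i ≫ f).fiberι y z))
        (i.continuous.comp ((i ≫ f).fiberι y).continuous).continuousOn
      rwa [Set.image_univ, range_fiberι_comp, hr] at h1
    constructor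
    · intro hx
      have hpre : _root_.IsPreconnected (connectedComponentIn (f ⁻¹' {y}) (s y)) :=
        isPreconnected_connectedComponentIn
      have hsub : connectedComponentIn (f ⁻¹' {y}) (s y) ⊆ f ⁻¹' {y} :=
        connectedComponentIn_subset _ _
      have hsy : s y ∈ connectedComponentIn (f ⁻¹' {y}) (s y) :=
        mem_connectedComponentIn (hfs y)
      rcases isPreconnected_iff_subset_of_disjoint_closed.mp hpre (S a₀ : Set X) C₂
        (S a₀).isClosed hC₂ (fun z hz => by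
          obtain ⟨b, hb⟩ := Set.mem_iUnion.mp (hV1 y hy1 (hsub hz))
          by_cases hba : b = a₀
          · left; exact hba ▸ hb
          · right; exact Set.mem_biUnion (show b ∈ {b : Fin m | b ≠ a₀} from hba) hb)
        (by
          rw [Set.eq_empty_iff_forall_notMem]
          rintro z ⟨hz, hza, hzC⟩
          obtain ⟨b, hb⟩ := Set.mem_iUnion.mp hzC
          obtain ⟨hba, hzb⟩ := Set.mem_iUnion.mp hb
          have h0 := hV3 y hy3 (a₀, b) (Ne.symm hba)
          have : z ∈ (S a₀ : Set X) ∩ (S b : Set X) ∩ f ⁻¹' {y} := ⟨⟨hza, hzb⟩, hsub hz⟩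
          rw [h0] at this
          exact this) with h | h
      · exact h hx
      · exfalso
        obtain ⟨b, hb⟩ := Set.mem_iUnion.mp (h hsy)
        obtain ⟨hba, hzb⟩ := Set.mem_iUnion.mp hb
        have h0 := hV3 y hy3 (a₀, b) (Ne.symm hba)
        have : s y ∈ (S a₀ : Set X) ∩ (S b : Set X) ∩ f ⁻¹' {y} := ⟨⟨hsS y, hzb⟩, hfs y⟩
        rw [h0] at this
        exact this
    · intro hx
      exact hA.isPreconnected.subset_connectedComponentIn ⟨hsS y, hfs y⟩
        Set.inter_subset_right ⟨hx, hxy⟩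
  refine ⟨V1 ⊓ V2 ⊓ V3, ⟨⟨hηV1, hηV2⟩, hηV3⟩, (S a₀ : Set X), C₂, (S a₀).isClosed, hC₂, ?_, ?_⟩
  · ext x
    constructor
    · rintro ⟨hxE, hxV⟩
      exact ⟨(key (f x) hxV x rfl).mp hxE, hxV⟩
    · rintro ⟨hxS, hxV⟩
      exact ⟨(key (f x) hxV x rfl).mpr hxS, hxV⟩
  · ext x
    constructor
    · rintro ⟨hxV, hxE⟩
      refine ⟨?_, hxV⟩
      obtain ⟨⟨hy1, hy2⟩, hy3⟩ := hxV
      obtain ⟨b, hb⟩ := Set.mem_iUnion.mp (hV1 (f x) hy1 (show x ∈ f ⁻¹' {f x} from rfl))
      have hba : b ≠ a₀ := by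
        rintro rfl
        exact hxE ((key (f x) ⟨⟨hy1, hy2⟩, hy3⟩ x rfl).mpr hb)
      exact Set.mem_biUnion (show b ∈ {b : Fin m | b ≠ a₀} from hba) hb
    · rintro ⟨hxC, hxV⟩
      refine ⟨hxV, fun hxE => ?_⟩
      have hxS := (key (f x) hxV x rfl).mp hxE
      obtain ⟨b, hb⟩ := Set.mem_iUnion.mp hxC
      obtain ⟨hba, hxb⟩ := Set.mem_iUnion.mp hb
      have h0 := hV3 (f x) hxV.2 (a₀, b) (Ne.symm hba)
      have : x ∈ (S a₀ : Set X) ∩ (S b : Set X) ∩ f ⁻¹' {f x} := ⟨⟨hxS, hxb⟩, rfl⟩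
      rw [h0] at this
      exact this

end Groth.Agent.Lib.H77SectionComp
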