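import Groth.Agent.Lib.H77XLocus
import Groth.Agent.Lib.H77SectionComp
import Groth.Agent.Lib.DescFPMain
import Groth.Agent.Lib.DescFPModel
import Groth.Agent.Lib.FGSubalgLimitU
import Groth.Agent.Lib.ConsTop2

/-!
# The section components form a locally constructible subset (EGA IV 15.6.x, Stacks 055K) (helper77)

For `f : X ⟶ Y` of finite presentation with a section `s`, the union of the connected components of
the fibres through the section, `MoreMor.sectionComponents f s`, is locally constructible in `X`.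
-/

set_option autoImplicit false
set_option linter.style.haveILetI false
universe u
open CategoryTheory Limits AlgebraicGeometry TopologicalSpace Topology

namespace Groth.Agent.Lib.H77SectionCompCons

open Groth.Agent.Lib.H77XLocus

/-- The base change of a section. -/
noncomputable def bcSection {X Y Y' : Scheme.{u}} (f : X ⟶ Y) (s : Y ⟶ X) (hs : s ≫ f = 𝟙 Y)
    (j : Y' ⟶ Y) : Y' ⟶ pullback f j :=
  pullback.lift (j ≫ s) (𝟙 Y') (by rw [Category.assoc, hs, Category.comp_id, Category.id_comp])

theorem bcSection_snd {X Y Y' : Scheme.{u}} (f : X ⟶ Y) (s : Y ⟶ X) (hs : s ≫ f = 𝟙 Y)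
    (j : Y' ⟶ Y) : bcSection f s hs j ≫ pullback.snd f j = 𝟙 Y' := pullback.lift_snd _ _ _

theorem bcSection_fst {X Y Y' : Scheme.{u}} (f : X ⟶ Y) (s : Y ⟶ X) (hs : s ≫ f = 𝟙 Y)
    (j : Y' ⟶ Y) : bcSection f s hs j ≫ pullback.fst f j = j ≫ s := pullback.lift_fst _ _ _

theorem sectionComponents_bcSection {X Y Y' : Scheme.{u}} (f : X ⟶ Y) (s : Y ⟶ X)
    (hs : s ≫ f = 𝟙 Y) (j : Y' ⟶ Y) :
    MoreMor.sectionComponents (pullback.snd f j) (bcSection f s hs j) =
      (pullback.fst f j) ⁻¹' MoreMor.sectionComponents f s :=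
  Groth.Agent.Lib.H71SectionComp.sectionComponents_baseChange f s hs (pullback.snd f j)
    (pullback.fst f j) j (IsPullback.of_hasPullback f j) (bcSection f s hs j)
    (bcSection_snd f s hs j) (bcSection_fst f s hs j)

/-- Noetherian base. -/
theorem isConstructible_sectionComponents_of_isNoetherian {X Y : Scheme.{u}} [IsNoetherian Y]
    (f : X ⟶ Y) [LocallyOfFiniteType f] [QuasiCompact f] (s : Y ⟶ X) (hs : s ≫ f = 𝟙 Y) :
    IsConstructible (MoreMor.sectionComponents f s) := by
  refine isConstructible_of_forall_integral_base f _ (fun Z _ _ j _ => ?_)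
  obtain ⟨V, hηV, C₁, C₂, hC₁, -, h1, -⟩ :=
    Groth.Agent.Lib.H77SectionComp.exists_opens_sectionComponents (pullback.snd f j)
      (bcSection f s hs j) (bcSection_snd f s hs j)
  refine ⟨V, ⟨_, hηV⟩, ?_⟩
  rw [← sectionComponents_bcSection f s hs j]
  change IsConstructible (MoreMor.sectionComponents (pullback.snd f j) (bcSection f s hs j) ∩
    (pullback.snd f j) ⁻¹' (V : Set Z))
  rw [h1]
  haveI := Groth.Agent.Lib.H77FibClosure.noetherianSpace_of_finiteType (pullback.snd f j)
  exact (Groth.Agent.Lib.ConstrTop.isConstructible_of_isClosed hC₁).inter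
    (Groth.Agent.Lib.ConstrTop.isConstructible_of_isOpen
      (V.isOpen.preimage (pullback.snd f j).continuous))

open Groth.Agent.Lib.LimPullback Groth.Agent.Lib.LimDescent Groth.Agent.Lib.DescFP in
/-- Base a cofiltered limit of Noetherian schemes with affine transition maps. -/
theorem isConstructible_sectionComponents_of_isLimit {I : Type u} [Category.{u} I]
    [IsCofiltered I] (D : I ⥤ Scheme.{u}) (c : Cone D) (hc : IsLimit c)
    [∀ {i j} (f : i ⟶ j), IsAffineHom (D.map f)] [∀ i, IsNoetherian (D.obj i)]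
    {X : Scheme.{u}} (f : X ⟶ c.pt) [LocallyOfFinitePresentation f] [QuasiCompact f]
    [QuasiSeparated f] (s : c.pt ⟶ X) (hs : s ≫ f = 𝟙 _) :
    IsConstructible (MoreMor.sectionComponents f s) := by
  obtain ⟨i, Xi, fi, gX, hfi, hXic, hXiq, sq⟩ := hasModel_of_fp D c hc f
  -- descend the section
  let D' : Over i ⥤ Scheme.{u} := Over.forget i ⋙ D
  let c' : Cone D' := c.whisker (Over.forget i)
  have hc' : IsLimit c' := isLimitWhisker (D := D) (c := c) (i := i) hc
  haveI : ∀ {a b : Over i} (m : a ⟶ b), IsAffineHom (D'.map m) := fun m =>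
    (inferInstance : IsAffineHom (D.map m.left))
  haveI : ∀ a : Over i, CompactSpace (D'.obj a) := fun a =>
    (inferInstance : CompactSpace (D.obj a.left))
  haveI : ∀ a : Over i, QuasiSeparatedSpace (D'.obj a) := fun a =>
    (inferInstance : QuasiSeparatedSpace (D.obj a.left))
  let t : D' ⟶ (Functor.const (Over i)).obj (D.obj i) :=
    { app := fun k => D.map k.hom
      naturality := fun a b m => by
        change D.map m.left ≫ D.map b.hom = D.map a.hom ≫ 𝟙 _
        rw [Category.comp_id, ← D.map_comp, Over.w] }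
  have hsg : (s ≫ gX) ≫ fi = c.π.app i := by
    rw [Category.assoc, sq.w, reassoc_of% hs]
  have ha : c'.π ≫ t = (Functor.const _).map ((s ≫ gX : c'.pt ⟶ Xi) ≫ fi) := by
    ext k : 2
    change c.π.app k.left ≫ D.map k.hom = (s ≫ gX) ≫ fi
    rw [hsg, c.w]
  obtain ⟨k, tk', htk1', htk2'⟩ := Scheme.exists_π_app_comp_eq_of_locallyOfFinitePresentation
    D' t fi c' hc' (s ≫ gX) ha
  let tk : D.obj k.left ⟶ Xi := tk'
  have htk1 : c.π.app k.left ≫ tk = s ≫ gX := htk1'
  have htk2 : tk ≫ fi = D.map k.hom := htk2'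
  -- the model at stage `k`
  let fk : pullback fi (D.map k.hom) ⟶ D.obj k.left := pullback.snd fi (D.map k.hom)
  let sk : D.obj k.left ⟶ pullback fi (D.map k.hom) :=
    pullback.lift tk (𝟙 _) (by rw [htk2, Category.id_comp])
  have hsk : sk ≫ fk = 𝟙 _ := pullback.lift_snd _ _ _
  have hsk1 : sk ≫ pullback.fst fi (D.map k.hom) = tk := pullback.lift_fst _ _ _
  have hsk2 : sk ≫ pullback.snd fi (D.map k.hom) = 𝟙 _ := pullback.lift_snd _ _ _
  let gXk : X ⟶ pullback fi (D.map k.hom) := pbLift D c k.hom fi gX f sq.w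
  have sqk : IsPullback gXk f fk (c.π.app k.left) := isPullback_pbLift D c k.hom fi sq
  have hcomp : s ≫ gXk = c.π.app k.left ≫ sk := by
    apply pullback.hom_ext
    · rw [Category.assoc, pbLift_fst, Category.assoc, hsk1, htk1]
    · rw [Category.assoc, pbLift_snd, Category.assoc, hsk2, reassoc_of% hs,
        Category.comp_id]
  have e := Groth.Agent.Lib.H71SectionComp.sectionComponents_baseChange fk sk hsk f gXk
    (c.π.app k.left) sqk s hs hcomp
  rw [e]
  haveI : QuasiCompact fi := inferInstance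
  haveI : LocallyOfFiniteType fk := inferInstance
  haveI : QuasiCompact fk := inferInstance
  exact gXk.isConstructible_preimage
    (isConstructible_sectionComponents_of_isNoetherian fk sk hsk)

open Groth.Agent.Lib.FGSubalgLimitU in
/-- Base `Spec A`. -/
theorem isConstructible_sectionComponents_Spec (A : Type u) [CommRing A] {X : Scheme.{u}}
    (f : X ⟶ Spec (CommRingCat.of A)) [LocallyOfFinitePresentation f] [QuasiCompact f]
    [QuasiSeparated f] (s : Spec (CommRingCat.of A) ⟶ X) (hs : s ≫ f = 𝟙 _) :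
    IsConstructible (MoreMor.sectionComponents f s) := by
  haveI : ∀ {i j : (FGSub ℤ A)ᵒᵖ} (φ : i ⟶ j), IsAffineHom ((D ℤ A).map φ) :=
    fun φ => inferInstance
  haveI : ∀ i, IsNoetherian ((D ℤ A).obj i) := fun i => inferInstance
  have key : ∀ (f' : X ⟶ (cone ℤ A).pt) [LocallyOfFinitePresentation f'] [QuasiCompact f']
      [QuasiSeparated f'] (s' : (cone ℤ A).pt ⟶ X), s' ≫ f' = 𝟙 _ →
      IsConstructible (MoreMor.sectionComponents f' s') := by
    intro f' _ _ _ s' hs'
    exact isConstructible_sectionComponents_of_isLimit (D ℤ A) (cone ℤ A) (isLimitCone ℤ A) f' s' hs'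
  exact @key f ‹_› ‹_› ‹_› s hs

/-- **EGA IV 15.6.x**: the section components of a morphism of finite presentation with a section
form a locally constructible subset of the source. -/
theorem isLocallyConstructible_sectionComponents {X Y : Scheme.{u}} (f : X ⟶ Y) (s : Y ⟶ X)
    (hs : s ≫ f = 𝟙 Y) [LocallyOfFinitePresentation f] [QuasiCompact f] [QuasiSeparated f] :
    IsLocallyConstructible (MoreMor.sectionComponents f s) := by
  intro x
  obtain ⟨U, hU, hxU, -⟩ := exists_isAffineOpen_mem_and_subset (x := f x) (U := ⊤) trivial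
  refine ⟨(f ⁻¹ᵁ U : Set X), (f ⁻¹ᵁ U).isOpen.mem_nhds hxU, (f ⁻¹ᵁ U).isOpen, ?_⟩
  let j := hU.fromSpec
  have hC := isConstructible_sectionComponents_Spec Γ(Y, U) (pullback.snd f j)
    (bcSection f s hs j) (bcSection_snd f s hs j)
  rw [sectionComponents_bcSection f s hs j] at hC
  let e : (f ⁻¹ᵁ U).toScheme ⟶ pullback f j :=
    pullback.lift (f ⁻¹ᵁ U).ι ((f ∣_ U) ≫ hU.isoSpec.hom) (by
      rw [Category.assoc, hU.isoSpec_hom_fromSpec, morphismRestrict_ι])
  have he : e ≫ pullback.fst f j = (f ⁻¹ᵁ U).ι := pullback.lift_fst _ _ _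
  have h2 := e.isConstructible_preimage hC
  have h3 : e ⁻¹' ((pullback.fst f j) ⁻¹' MoreMor.sectionComponents f s) =
      (Subtype.val ⁻¹' MoreMor.sectionComponents f s : Set ↥(f ⁻¹ᵁ U : Set X)) := by
    ext w
    change pullback.fst f j (e w) ∈ MoreMor.sectionComponents f s ↔
      (f ⁻¹ᵁ U).ι w ∈ MoreMor.sectionComponents f s
    rw [← Scheme.Hom.comp_apply, he]
  rw [h3] at h2
  exact h2

end Groth.Agent.Lib.H77SectionCompCons
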