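import Mathlib
import Groth.Prelude
import Groth.Agent.S4977
import Groth.Agent.S1326
import Groth.Agent.Lib.H71SectionComp
import Groth.Agent.Lib.H77SectionCompCons
import Groth.Agent.Lib.FpqcDescent

/-!
# helper30: properness of the section components at a point (EGA IV 15.7.11-type)
-/

set_option autoImplicit false
open CategoryTheory CategoryTheory.Limits AlgebraicGeometry TopologicalSpace IsLocalRing
universe u

namespace Groth.Agent.Lib.H30SecProper

open Groth.Agent.Lib.H77SectionCompCons Groth.Agent.Lib.H30PropZ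

variable {X Y : Scheme.{u}}

/-- Geometric form of the hypothesis "the trace of `Z` on the fibre over `y` is proper". -/
def GeomProperAt (f : X ⟶ Y) (Z : Set X) (y : Y) : Prop :=
  ∃ (K : Type u) (_ : Field K) (u : Spec (CommRingCat.of K) ⟶ Y), u (closedPoint K) = y ∧
    ∃ (XK : Scheme.{u}) (pK : XK ⟶ X) (fK : XK ⟶ Spec (CommRingCat.of K)),
      IsPullback pK fK f u ∧ ∃ OK : XK.Opens, (OK : Set XK) = pK ⁻¹' Z ∧ IsProper (OK.ι ≫ fK)

theorem mem_sectionComponents_iff (f : X ⟶ Y) (g : Y ⟶ X) (x : X) (y' : Y) (hx : f x = y') :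
    x ∈ MoreMor.sectionComponents f g ↔ x ∈ connectedComponentIn (f ⁻¹' {y'}) (g y') := by
  subst hx; rfl

theorem section_mem (f : X ⟶ Y) (g : Y ⟶ X) (hg : g ≫ f = 𝟙 Y) (y' : Y) :
    g y' ∈ MoreMor.sectionComponents f g := by
  have h : f (g y') = y' := by rw [← Scheme.Hom.comp_apply, hg]; rfl
  rw [mem_sectionComponents_iff f g (g y') y' h]
  exact mem_connectedComponentIn h

theorem sectionComponents_inter_fiber (f : X ⟶ Y) (g : Y ⟶ X) (y' : Y) :
    MoreMor.sectionComponents f g ∩ f ⁻¹' {y'} = connectedComponentIn (f ⁻¹' {y'}) (g y') := by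
  ext x
  constructor
  · rintro ⟨hx, hfx⟩
    exact (mem_sectionComponents_iff f g x y' hfx).mp hx
  · intro hx
    have hfx : f x = y' := connectedComponentIn_subset (f ⁻¹' {y'}) (g y') hx
    exact ⟨(mem_sectionComponents_iff f g x y' hfx).mpr hx, hfx⟩

theorem hyp1 (f : X ⟶ Y) (g : Y ⟶ X) (hg : g ≫ f = 𝟙 Y) (y : Y) :
    Groth.Agent.S4977.Hyp1 y f (MoreMor.sectionComponents f g) := by
  intro y' _
  have hfg : f (g y') = y' := by rw [← Scheme.Hom.comp_apply, hg]; rfl
  refine ⟨⟨g y', section_mem f g hg y', hfg, sectionComponents_inter_fiber f g y'⟩, ?_⟩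
  intro K _ _
  have hP1 : IsPullback (FBase.bcπ (f.fiberToSpecResidueField y') K)
      (FBase.bcStr (f.fiberToSpecResidueField y') K) (f.fiberToSpecResidueField y')
      (Spec.map (CommRingCat.ofHom (algebraMap (IsLocalRing.ResidueField (Y.presheaf.stalk y')) K))) :=
    IsPullback.of_hasPullback _ _
  have hF : IsPullback (f.fiberι y') (f.fiberToSpecResidueField y') f (Y.fromSpecResidueField y') :=
    IsPullback.of_hasPullback _ _
  obtain ⟨j, hbig⟩ : ∃ j : Spec (CommRingCat.of K) ⟶ Y,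
      IsPullback (FBase.bcπ (f.fiberToSpecResidueField y') K ≫ f.fiberι y')
        (FBase.bcStr (f.fiberToSpecResidueField y') K) f j := ⟨_, hP1.paste_horiz hF⟩
  let s' : Spec (CommRingCat.of K) ⟶ FBase.bc (f.fiberToSpecResidueField y') K :=
    hbig.lift (j ≫ g) (𝟙 _) (by rw [Category.assoc, hg, Category.comp_id, Category.id_comp])
  have hs'1 : s' ≫ (FBase.bcπ (f.fiberToSpecResidueField y') K ≫ f.fiberι y') = j ≫ g :=
    hbig.lift_fst _ _ _
  have hs'2 : s' ≫ FBase.bcStr (f.fiberToSpecResidueField y') K = 𝟙 _ := hbig.lift_snd _ _ _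
  have e := Groth.Agent.Lib.H71SectionComp.sectionComponents_baseChange f g hg
    (FBase.bcStr (f.fiberToSpecResidueField y') K)
    (FBase.bcπ (f.fiberToSpecResidueField y') K ≫ f.fiberι y') j hbig s' hs'2 hs'1
  change _root_.IsPreconnected ((FBase.bcπ (f.fiberToSpecResidueField y') K ≫ f.fiberι y') ⁻¹'
    MoreMor.sectionComponents f g)
  rw [← e]
  obtain ⟨pt⟩ : Nonempty ↥(Spec (CommRingCat.of K)) := inferInstance
  have : MoreMor.sectionComponents (FBase.bcStr (f.fiberToSpecResidueField y') K) s' =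
      connectedComponentIn ((FBase.bcStr (f.fiberToSpecResidueField y') K) ⁻¹' {pt}) (s' pt) := by
    ext x
    exact mem_sectionComponents_iff _ s' x pt (Subsingleton.elim _ _)
  rw [this]
  exact isPreconnected_connectedComponentIn

theorem hyp3 (f : X ⟶ Y) (g : Y ⟶ X) (hg : g ≫ f = 𝟙 Y) :
    Groth.Agent.S4977.Hyp3 f (MoreMor.sectionComponents f g) := by
  rintro Y' h E hE ⟨W, hW, hWeq⟩
  refine ⟨(bcSection f g hg h) ⁻¹' W, hW.preimage (bcSection f g hg h).continuous, ?_⟩
  ext y'
  have hfst : (pullback.fst f h) (bcSection f g hg h y') ∈ MoreMor.sectionComponents f g := by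
    rw [← Scheme.Hom.comp_apply, bcSection_fst, Scheme.Hom.comp_apply]
    exact section_mem f g hg (h y')
  have hsnd : (pullback.snd f h) (bcSection f g hg h y') = y' := by
    rw [← Scheme.Hom.comp_apply, bcSection_snd]; rfl
  constructor
  · rintro ⟨hyW, -⟩
    have h1 : bcSection f g hg h y' ∈ W ∩ (pullback.fst f h).base ⁻¹' MoreMor.sectionComponents f g :=
      ⟨hyW, hfst⟩
    rw [hWeq] at h1
    have h2 : (pullback.snd f h) (bcSection f g hg h y') ∈ E := h1.1
    rwa [hsnd] at h2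
  · intro hyE
    refine ⟨?_, hE hyE⟩
    have h1 : bcSection f g hg h y' ∈
        (pullback.snd f h).base ⁻¹' E ∩ (pullback.fst f h).base ⁻¹' MoreMor.sectionComponents f g := by
      refine ⟨?_, hfst⟩
      change (pullback.snd f h) (bcSection f g hg h y') ∈ E
      rw [hsnd]; exact hyE
    rw [← hWeq] at h1
    exact h1.1


theorem flat_SpecMap_field {k K : Type u} [Field k] [Field K] (ρ : CommRingCat.of k ⟶ CommRingCat.of K) :
    Flat (Spec.map ρ) := by
  rw [HasRingHomProperty.Spec_iff (P := @Flat)]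
  algebraize [ρ.hom]
  change Module.Flat k K
  infer_instance

theorem noeth_main [IsLocallyNoetherian Y] (f : X ⟶ Y) [IsSeparated f]
    [LocallyOfFinitePresentation f] [QuasiCompact f] [QuasiSeparated f] (g : Y ⟶ X)
    (hg : g ≫ f = 𝟙 Y) (y : Y)
    (hgeom : GeomProperAt f (MoreMor.sectionComponents f g) y) :
    ∃ U : Y.Opens, y ∈ U ∧ ∃ hC : IsClosed ((f ⁻¹ᵁ U).ι.base ⁻¹' MoreMor.sectionComponents f g),
      IsProper ((Scheme.IdealSheafData.vanishingIdeal
        (⟨(f ⁻¹ᵁ U).ι.base ⁻¹' MoreMor.sectionComponents f g, hC⟩ :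
          TopologicalSpace.Closeds ↥(f ⁻¹ᵁ U))).subschemeι ≫ (f ∣_ U)) := by
  have hZ : Topology.IsLocallyConstructible (MoreMor.sectionComponents f g) :=
    Groth.Agent.S1326.result f g hg
  have hfg : f (g y) = y := by rw [← Scheme.Hom.comp_apply, hg]; rfl
  obtain ⟨K₀, O₁, hK₀, hO₁, -, hO₁'⟩ := exists_closed_open_trace f y (g y) hfg
  have hZy := sectionComponents_inter_fiber f g y
  have hfib : ∀ w : ↥(f.fiber y), f.fiberι y w ∈ f ⁻¹' {y} := fun w => by
    rw [← f.range_fiberι]; exact ⟨w, rfl⟩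
  have hpre : (f.fiberι y).base ⁻¹' MoreMor.sectionComponents f g = (f.fiberι y) ⁻¹' O₁ := by
    ext w
    constructor
    · intro h
      have : f.fiberι y w ∈ MoreMor.sectionComponents f g ∩ f ⁻¹' {y} := ⟨h, hfib w⟩
      rw [hZy, ← hO₁'] at this
      exact this.1
    · intro h
      have : f.fiberι y w ∈ O₁ ∩ f ⁻¹' {y} := ⟨h, hfib w⟩
      rw [hO₁', ← hZy] at this
      exact this.1
  have hop : IsOpen ((f.fiberι y).base ⁻¹' MoreMor.sectionComponents f g) := by
    rw [hpre]; exact hO₁.preimage (f.fiberι y).continuous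
  have h2 : IsProper (Scheme.Opens.ι (⟨(f.fiberι y).base ⁻¹' MoreMor.sectionComponents f g, hop⟩ :
      (f.fiber y).Opens) ≫ f.fiberToSpecResidueField y) := by
    obtain ⟨K, _, u, hu, XK, pK, fK, hPK, OK, hOK, hOKprop⟩ := hgeom
    obtain ⟨ρ, hρ⟩ := Groth.Agent.Lib.H30FieldPt.exists_rho u y hu
    have hPK' : IsPullback pK fK f (Spec.map ρ ≫ Y.fromSpecResidueField y) := by
      rw [hρ]; exact hPK
    have hF : IsPullback (f.fiberι y) (f.fiberToSpecResidueField y) f
        (Y.fromSpecResidueField y) := IsPullback.of_hasPullback _ _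
    let π : XK ⟶ f.fiber y := hF.lift pK (fK ≫ Spec.map ρ) (by rw [Category.assoc]; exact hPK'.w)
    have hπ1 : π ≫ f.fiberι y = pK := hF.lift_fst _ _ _
    have hπ2 : π ≫ f.fiberToSpecResidueField y = fK ≫ Spec.map ρ := hF.lift_snd _ _ _
    have hPπ : IsPullback π fK (f.fiberToSpecResidueField y) (Spec.map ρ) :=
      IsPullback.of_right (by rw [hπ1]; exact hPK') hπ2 hF
    obtain ⟨OF, hOF⟩ : ∃ OF : (f.fiber y).Opens, OF =
        (⟨(f.fiberι y).base ⁻¹' MoreMor.sectionComponents f g, hop⟩ : (f.fiber y).Opens) :=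
      ⟨_, rfl⟩
    rw [← hOF]
    have hP' : IsPullback (pullback.fst OF.ι π) (pullback.snd OF.ι π) OF.ι π :=
      IsPullback.of_hasPullback _ _
    have hbig : IsPullback (pullback.fst OF.ι π) (pullback.snd OF.ι π ≫ fK)
        (OF.ι ≫ f.fiberToSpecResidueField y) (Spec.map ρ) := hP'.paste_vert hPπ
    have hrange : Set.range (pullback.snd OF.ι π) = Set.range OK.ι := by
      rw [Scheme.Pullback.range_snd, Scheme.Opens.range_ι, Scheme.Opens.range_ι, hOK, hOF]
      ext x
      change (f.fiberι y) (π x) ∈ MoreMor.sectionComponents f g ↔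
        pK x ∈ MoreMor.sectionComponents f g
      rw [← hπ1]; rfl
    let e := IsOpenImmersion.isoOfRangeEq (pullback.snd OF.ι π) OK.ι hrange
    have he : e.hom ≫ OK.ι = pullback.snd OF.ι π := IsOpenImmersion.isoOfRangeEq_hom_fac _ _ _
    have hprop' : IsProper (pullback.snd OF.ι π ≫ fK) := by
      rw [← he, Category.assoc]; infer_instance
    haveI : Flat (Spec.map ρ) := flat_SpecMap_field ρ
    haveI : Surjective (Spec.map ρ) := ⟨fun z => ⟨closedPoint K, Subsingleton.elim _ _⟩⟩
    have hQ : (@Surjective ⊓ @Flat ⊓ @QuasiCompact : MorphismProperty Scheme.{u}) (Spec.map ρ) :=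
      ⟨⟨inferInstance, inferInstance⟩, inferInstance⟩
    exact MorphismProperty.of_isPullback_of_descendsAlong (P := @IsProper)
      (Q := @Surjective ⊓ @Flat ⊓ @QuasiCompact) hbig.flip hQ hprop'
  exact Groth.Agent.S4977.main y f (MoreMor.sectionComponents f g) hZ (hyp1 f g hg y) hop h2
    (hyp3 f g hg)

end Groth.Agent.Lib.H30SecProper
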