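import Mathlib
import Groth.Prelude
import Groth.Agent.Lib.H30SecProper

set_option autoImplicit false
open CategoryTheory CategoryTheory.Limits AlgebraicGeometry TopologicalSpace IsLocalRing
universe u

namespace Groth.Agent.Lib.H30SecProper

variable {X Y : Scheme.{u}}

/-- Flexible form of "`Z` is closed in `f⁻¹(U)` and proper over `U`". -/
def StarAt (f : X ⟶ Y) (Z : Set X) (U : Y.Opens) : Prop :=
  ∃ (T : Scheme.{u}) (i : T ⟶ (f ⁻¹ᵁ U).toScheme), UniversallyClosed (i ≫ f ∣_ U) ∧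
    Set.range i = (f ⁻¹ᵁ U).ι ⁻¹' Z

theorem star_of_conclusion (f : X ⟶ Y) (Z : Set X) (U : Y.Opens)
    (hC : IsClosed ((f ⁻¹ᵁ U).ι.base ⁻¹' Z))
    (h : IsProper ((Scheme.IdealSheafData.vanishingIdeal
      (⟨(f ⁻¹ᵁ U).ι.base ⁻¹' Z, hC⟩ : TopologicalSpace.Closeds ↥(f ⁻¹ᵁ U))).subschemeι ≫ (f ∣_ U))) :
    StarAt f Z U := by
  refine ⟨_, (Scheme.IdealSheafData.vanishingIdeal
      (⟨(f ⁻¹ᵁ U).ι.base ⁻¹' Z, hC⟩ : TopologicalSpace.Closeds ↥(f ⁻¹ᵁ U))).subschemeι,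
    inferInstance, ?_⟩
  rw [Scheme.IdealSheafData.range_subschemeι, Scheme.IdealSheafData.coe_support_vanishingIdeal]
  rfl

theorem conclusion_of_star (f : X ⟶ Y) [IsSeparated f] [LocallyOfFiniteType f] (Z : Set X)
    (U : Y.Opens) (h : StarAt f Z U) :
    ∃ hC : IsClosed ((f ⁻¹ᵁ U).ι.base ⁻¹' Z),
      IsProper ((Scheme.IdealSheafData.vanishingIdeal
        (⟨(f ⁻¹ᵁ U).ι.base ⁻¹' Z, hC⟩ : TopologicalSpace.Closeds ↥(f ⁻¹ᵁ U))).subschemeι ≫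
          (f ∣_ U)) := by
  obtain ⟨T, i, hUC, hr⟩ := h
  haveI := hUC
  haveI : UniversallyClosed i := UniversallyClosed.of_comp_of_isSeparated i (f ∣_ U)
  have hC : IsClosed ((f ⁻¹ᵁ U).ι.base ⁻¹' Z) := by
    rw [show (f ⁻¹ᵁ U).ι.base ⁻¹' Z = Set.range i from hr.symm]
    exact i.isClosedMap.isClosed_range
  refine ⟨hC, ?_⟩
  set Cc : TopologicalSpace.Closeds ↥(f ⁻¹ᵁ U) := ⟨(f ⁻¹ᵁ U).ι.base ⁻¹' Z, hC⟩ with hCc
  set ιC := (Scheme.IdealSheafData.vanishingIdeal (X := (f ⁻¹ᵁ U).toScheme) Cc).subschemeι with hιC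
  have hrange : Set.range ιC = (f ⁻¹ᵁ U).ι ⁻¹' Z := by
    rw [hιC, Scheme.IdealSheafData.range_subschemeι,
      Scheme.IdealSheafData.coe_support_vanishingIdeal]
    rfl
  haveI : Surjective (pullback.fst ιC i) := by
    constructor
    intro c
    have hc : ιC c ∈ Set.range i := by rw [hr, ← hrange]; exact ⟨c, rfl⟩
    obtain ⟨t, ht⟩ := hc
    obtain ⟨z, hz, -⟩ := Scheme.Pullback.exists_preimage_pullback (f := ιC) (g := i) c t ht.symm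
    exact ⟨z, hz⟩
  haveI : UniversallyClosed (pullback.fst ιC i ≫ ιC ≫ f ∣_ U) := by
    rw [← Category.assoc, pullback.condition, Category.assoc]
    infer_instance
  haveI : UniversallyClosed (ιC ≫ f ∣_ U) :=
    UniversallyClosed.of_comp_surjective (pullback.fst ιC i) (ιC ≫ f ∣_ U)
  exact { }

theorem star_pullback {X' Y' : Scheme.{u}} (f : X ⟶ Y) (f' : X' ⟶ Y') (p : X' ⟶ X) (h : Y' ⟶ Y)
    (hsq : IsPullback p f' f h) (Z : Set X) (U : Y.Opens) (hS : StarAt f Z U) :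
    StarAt f' (p ⁻¹' Z) (h ⁻¹ᵁ U) := by
  obtain ⟨T, i, hUC, hr⟩ := hS
  haveI := hUC
  have hfp : ∀ x' : X', f (p x') = h (f' x') := fun x' => by
    rw [← Scheme.Hom.comp_apply, hsq.w, Scheme.Hom.comp_apply]
  obtain ⟨k, hk⟩ : ∃ k : T ⟶ X, k = i ≫ (f ⁻¹ᵁ U).ι := ⟨_, rfl⟩
  have hkf : k ≫ f = (i ≫ f ∣_ U) ≫ U.ι := by
    rw [hk, Category.assoc, Category.assoc, morphismRestrict_ι]
  have hk' : ∀ t' : T, k t' = (f ⁻¹ᵁ U).ι (i t') := fun t' => by rw [hk]; rfl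
  have hpk : ∀ t : ↥(pullback k p), p (pullback.snd k p t) = k (pullback.fst k p t) := fun t => by
    rw [← Scheme.Hom.comp_apply, ← Scheme.Hom.comp_apply, pullback.condition]
  have hL : IsPullback (pullback.fst k p) (pullback.snd k p) k p := IsPullback.of_hasPullback _ _
  have houter : IsPullback (pullback.snd k p ≫ f') (pullback.fst k p) h (k ≫ f) :=
    hL.flip.paste_horiz hsq.flip
  have hrange2 : Set.range (pullback.snd k p) ⊆ Set.range (f' ⁻¹ᵁ (h ⁻¹ᵁ U)).ι := by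
    rintro _ ⟨t, rfl⟩
    rw [Scheme.Opens.range_ι]
    change h (f' (pullback.snd k p t)) ∈ U
    rw [← hfp, hpk, hk']
    exact (i (pullback.fst k p t)).2
  let i' : pullback k p ⟶ (f' ⁻¹ᵁ (h ⁻¹ᵁ U)).toScheme :=
    IsOpenImmersion.lift (f' ⁻¹ᵁ (h ⁻¹ᵁ U)).ι (pullback.snd k p) hrange2
  have hi' : i' ≫ (f' ⁻¹ᵁ (h ⁻¹ᵁ U)).ι = pullback.snd k p := IsOpenImmersion.lift_fac _ _ _
  have hb : (i' ≫ f' ∣_ (h ⁻¹ᵁ U)) ≫ (h ⁻¹ᵁ U).ι = pullback.snd k p ≫ f' := by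
    rw [Category.assoc, morphismRestrict_ι, ← Category.assoc, hi']
  have hR : IsPullback (h ∣_ U) (h ⁻¹ᵁ U).ι U.ι h := isPullback_morphismRestrict h U
  have hcomm : (i' ≫ f' ∣_ (h ⁻¹ᵁ U)) ≫ h ∣_ U = pullback.fst k p ≫ (i ≫ f ∣_ U) := by
    rw [← cancel_mono U.ι, Category.assoc, morphismRestrict_ι, ← Category.assoc, hb,
      Category.assoc, ← hsq.w, ← Category.assoc, ← pullback.condition, Category.assoc,
      Category.assoc, hkf]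
  have hleft : IsPullback (i' ≫ f' ∣_ (h ⁻¹ᵁ U)) (pullback.fst k p) (h ∣_ U) (i ≫ f ∣_ U) := by
    refine IsPullback.of_right ?_ hcomm hR.flip
    rw [hb, ← hkf]
    exact houter
  refine ⟨pullback k p, i', ?_, ?_⟩
  · exact MorphismProperty.of_isPullback (P := @UniversallyClosed) hleft.flip inferInstance
  · ext x'
    constructor
    · rintro ⟨t, rfl⟩
      change p ((f' ⁻¹ᵁ (h ⁻¹ᵁ U)).ι (i' t)) ∈ Z
      rw [← Scheme.Hom.comp_apply i', hi', hpk, hk']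
      have : i (pullback.fst k p t) ∈ Set.range i := ⟨_, rfl⟩
      rw [hr] at this
      exact this
    · intro hx'
      have hx'Z : p ((f' ⁻¹ᵁ (h ⁻¹ᵁ U)).ι x') ∈ Z := hx'
      have hx'U : p ((f' ⁻¹ᵁ (h ⁻¹ᵁ U)).ι x') ∈ f ⁻¹ᵁ U := by
        change f (p _) ∈ U
        rw [hfp]
        exact x'.2
      have : (⟨_, hx'U⟩ : ↥(f ⁻¹ᵁ U)) ∈ Set.range i := by rw [hr]; exact hx'Z
      obtain ⟨t, ht⟩ := this
      have hkt : k t = p ((f' ⁻¹ᵁ (h ⁻¹ᵁ U)).ι x') := by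
        rw [hk', ht]; rfl
      obtain ⟨z, -, hz⟩ := Scheme.Pullback.exists_preimage_pullback (f := k) (g := p) t
        ((f' ⁻¹ᵁ (h ⁻¹ᵁ U)).ι x') hkt
      refine ⟨z, ?_⟩
      apply (f' ⁻¹ᵁ (h ⁻¹ᵁ U)).ι.isOpenEmbedding.injective
      rw [← Scheme.Hom.comp_apply, hi', hz]


theorem star_of_openImmersion {Y₁ : Scheme.{u}} (f : X ⟶ Y) (j : Y₁ ⟶ Y) [IsOpenImmersion j]
    (Z : Set X) (U₁ : Y₁.Opens)
    (hS : StarAt (pullback.snd f j) ((pullback.fst f j) ⁻¹' Z) U₁) : StarAt f Z (j ''ᵁ U₁) := by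
  obtain ⟨T, i₁, hUC, hr⟩ := hS
  haveI := hUC
  have hcond : ∀ x₁ : ↥(pullback f j), f ((pullback.fst f j) x₁) = j ((pullback.snd f j) x₁) :=
    fun x₁ => by
      rw [← Scheme.Hom.comp_apply, ← Scheme.Hom.comp_apply, pullback.condition]
  obtain ⟨k, hk⟩ : ∃ k : T ⟶ X, k = i₁ ≫ ((pullback.snd f j) ⁻¹ᵁ U₁).ι ≫ pullback.fst f j :=
    ⟨_, rfl⟩
  have hk' : ∀ t : T, k t = (pullback.fst f j) (((pullback.snd f j) ⁻¹ᵁ U₁).ι (i₁ t)) :=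
    fun t => by rw [hk]; rfl
  have hkU : Set.range k ⊆ Set.range (f ⁻¹ᵁ (j ''ᵁ U₁)).ι := by
    rintro _ ⟨t, rfl⟩
    rw [Scheme.Opens.range_ι]
    change f (k t) ∈ j ''ᵁ U₁
    rw [hk', hcond]
    exact ⟨_, (i₁ t).2, rfl⟩
  let i : T ⟶ (f ⁻¹ᵁ (j ''ᵁ U₁)).toScheme := IsOpenImmersion.lift (f ⁻¹ᵁ (j ''ᵁ U₁)).ι k hkU
  have hi : i ≫ (f ⁻¹ᵁ (j ''ᵁ U₁)).ι = k := IsOpenImmersion.lift_fac _ _ _
  refine ⟨T, i, ?_, ?_⟩
  · have e : i ≫ f ∣_ (j ''ᵁ U₁) = (i₁ ≫ (pullback.snd f j) ∣_ U₁) ≫ (j.isoImage U₁).hom := by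
      rw [← cancel_mono (j ''ᵁ U₁).ι]
      simp only [Category.assoc]
      rw [morphismRestrict_ι, ← Category.assoc i, hi, Scheme.Hom.isoImage_hom_ι,
        ← Category.assoc ((pullback.snd f j) ∣_ U₁), morphismRestrict_ι, hk]
      simp only [Category.assoc]
      rw [pullback.condition]
    rw [e]
    infer_instance
  · ext x
    constructor
    · rintro ⟨t, rfl⟩
      change (f ⁻¹ᵁ (j ''ᵁ U₁)).ι (i t) ∈ Z
      rw [← Scheme.Hom.comp_apply, hi, hk']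
      have : i₁ t ∈ Set.range i₁ := ⟨t, rfl⟩
      rw [hr] at this
      exact this
    · intro hx
      have hxZ : (f ⁻¹ᵁ (j ''ᵁ U₁)).ι x ∈ Z := hx
      obtain ⟨u₁, hu₁U, hu₁⟩ : f ((f ⁻¹ᵁ (j ''ᵁ U₁)).ι x) ∈ j ''ᵁ U₁ := x.2
      obtain ⟨x₁, hx₁1, hx₁2⟩ := Scheme.Pullback.exists_preimage_pullback (f := f) (g := j)
        ((f ⁻¹ᵁ (j ''ᵁ U₁)).ι x) u₁ hu₁.symm
      have hx₁U : x₁ ∈ (pullback.snd f j) ⁻¹ᵁ U₁ := by
        change (pullback.snd f j) x₁ ∈ U₁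
        rw [hx₁2]; exact hu₁U
      have : (⟨x₁, hx₁U⟩ : ↥((pullback.snd f j) ⁻¹ᵁ U₁)) ∈ Set.range i₁ := by
        rw [hr]
        change (pullback.fst f j) x₁ ∈ Z
        rw [hx₁1]; exact hxZ
      obtain ⟨t, ht⟩ := this
      refine ⟨t, ?_⟩
      apply (f ⁻¹ᵁ (j ''ᵁ U₁)).ι.isOpenEmbedding.injective
      rw [← Scheme.Hom.comp_apply, hi, hk', ht]
      exact hx₁1

theorem GeomProperAt.map {X₀ Y₀ : Scheme.{u}} (f : X ⟶ Y) (f₀ : X₀ ⟶ Y₀) (gX : X ⟶ X₀)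
    (h : Y ⟶ Y₀) (hsq : IsPullback gX f f₀ h) (Z₀ : Set X₀) (y : Y)
    (hgeom : GeomProperAt f (gX ⁻¹' Z₀) y) : GeomProperAt f₀ Z₀ (h y) := by
  obtain ⟨K, _, u, hu, XK, pK, fK, hPK, OK, hOK, hprop⟩ := hgeom
  refine ⟨K, inferInstance, u ≫ h, by rw [Scheme.Hom.comp_apply, hu], XK, pK ≫ gX, fK,
    hPK.paste_horiz hsq, OK, ?_, hprop⟩
  rw [hOK]
  rfl

theorem GeomProperAt.of_openImmersion {Y₁ : Scheme.{u}} (f : X ⟶ Y) (j : Y₁ ⟶ Y)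
    [IsOpenImmersion j] (Z : Set X) (y₁ : Y₁) (hgeom : GeomProperAt f Z (j y₁)) :
    GeomProperAt (pullback.snd f j) ((pullback.fst f j) ⁻¹' Z) y₁ := by
  obtain ⟨K, _, u, hu, XK, pK, fK, hPK, OK, hOK, hprop⟩ := hgeom
  have hur : Set.range u ⊆ Set.range j := by
    rintro _ ⟨pt, rfl⟩
    rw [show pt = closedPoint K from Subsingleton.elim _ _, hu]
    exact ⟨y₁, rfl⟩
  let u₁ : Spec (CommRingCat.of K) ⟶ Y₁ := IsOpenImmersion.lift j u hur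
  have hu₁ : u₁ ≫ j = u := IsOpenImmersion.lift_fac _ _ _
  have hP := IsPullback.of_hasPullback f j
  let pK₁ : XK ⟶ pullback f j := hP.lift pK (fK ≫ u₁) (by rw [Category.assoc, hu₁]; exact hPK.w)
  have h1 : pK₁ ≫ pullback.fst f j = pK := hP.lift_fst _ _ _
  have h2 : pK₁ ≫ pullback.snd f j = fK ≫ u₁ := hP.lift_snd _ _ _
  refine ⟨K, inferInstance, u₁, ?_, XK, pK₁, fK, ?_, OK, ?_, hprop⟩
  · apply j.isOpenEmbedding.injective
    rw [← Scheme.Hom.comp_apply, hu₁, hu]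
  · refine IsPullback.of_right ?_ h2 hP
    rw [h1, hu₁]
    exact hPK
  · rw [hOK, ← h1]
    rfl

end Groth.Agent.Lib.H30SecProper
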