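import Mathlib
import Groth.Prelude
import Groth.Agent.Lib.H30SecProper
import Groth.Agent.Lib.H30SecProper2
import Groth.Agent.Lib.DescFPSpread
import Groth.Agent.Lib.ConsPairGeomInst

set_option autoImplicit false
open CategoryTheory CategoryTheory.Limits AlgebraicGeometry TopologicalSpace IsLocalRing
universe u

namespace Groth.Agent.Lib.H30SecProper

open Groth.Agent.Lib.LimPullback Groth.Agent.Lib.LimDescent Groth.Agent.Lib.DescFP in
/-- A separated finitely presented morphism with a section over a cofiltered limit of Noetherian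
schemes is the base change of such a morphism with a section over some stage. -/
theorem exists_model_section_of_isLimit {I : Type u} [Category.{u} I]
    [IsCofiltered I] (D : I ⥤ Scheme.{u}) (c : Cone D) (hc : IsLimit c)
    [∀ {i j} (f : i ⟶ j), IsAffineHom (D.map f)] [∀ i, IsNoetherian (D.obj i)]
    {X : Scheme.{u}} (f : X ⟶ c.pt) [IsSeparated f] [LocallyOfFinitePresentation f]
    [QuasiCompact f] [QuasiSeparated f] (s : c.pt ⟶ X) (hs : s ≫ f = 𝟙 _) :
    ∃ (Yk : Scheme.{u}) (_ : IsNoetherian Yk) (hk : c.pt ⟶ Yk) (Xk : Scheme.{u}) (fk : Xk ⟶ Yk)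
      (sk : Yk ⟶ Xk) (gX : X ⟶ Xk), IsSeparated fk ∧ LocallyOfFinitePresentation fk ∧
        QuasiCompact fk ∧ QuasiSeparated fk ∧ sk ≫ fk = 𝟙 _ ∧ IsPullback gX f fk hk ∧
        s ≫ gX = hk ≫ sk := by
  obtain ⟨i, Xi, fi, gX, hsep, hfi, hXic, hXiq, sq⟩ :=
    exists_model_with_prop D c hc @IsSeparated Groth.Agent.Lib.ConsPairGeom.descends_isSeparated f
      inferInstance
  -- descend the section
  let D' : Over i ⥤ Scheme.{u} := Over.forget i ⋙ D
  let c' : Cone D' := c.whisker (Over.forget i)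
  have hc' : IsLimit c' := isLimitWhisker (D := D) (c := c) (i := i) hc
  haveI : ∀ {a b : Over i} (m : a ⟶ b), IsAffineHom (D'.map m) := fun m =>
    (inferInstance : IsAffineHom (D.map m.left))
  haveI : ∀ a : Over i, CompactSpace (D'.obj a) := fun a =>
    (inferInstance : CompactSpace (D.obj a.left))
  haveI : ∀ a : Over i, QuasiSeparatedSpace (D'.obj a) := fun a =>
    (inferInstance : QuasiSeparatedSpace (D.obj a.left))
  let t : D' ⟶ (Functor.const (Over i)).obj (D.obj i) :=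
    { app := fun k => D.map k.hom
      naturality := fun a b m => by
        change D.map m.left ≫ D.map b.hom = D.map a.hom ≫ 𝟙 _
        rw [Category.comp_id, ← D.map_comp, Over.w] }
  have hsg : (s ≫ gX) ≫ fi = c.π.app i := by
    rw [Category.assoc, sq.w, reassoc_of% hs]
  have ha : c'.π ≫ t = (Functor.const _).map ((s ≫ gX : c'.pt ⟶ Xi) ≫ fi) := by
    ext k : 2
    change c.π.app k.left ≫ D.map k.hom = (s ≫ gX) ≫ fi
    rw [hsg, c.w]
  obtain ⟨k, tk', htk1', htk2'⟩ := Scheme.exists_π_app_comp_eq_of_locallyOfFinitePresentation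
    D' t fi c' hc' (s ≫ gX) ha
  let tk : D.obj k.left ⟶ Xi := tk'
  have htk1 : c.π.app k.left ≫ tk = s ≫ gX := htk1'
  have htk2 : tk ≫ fi = D.map k.hom := htk2'
  -- the model at stage `k`
  let fk : pullback fi (D.map k.hom) ⟶ D.obj k.left := pullback.snd fi (D.map k.hom)
  let sk : D.obj k.left ⟶ pullback fi (D.map k.hom) :=
    pullback.lift tk (𝟙 _) (by rw [htk2, Category.id_comp])
  have hsk : sk ≫ fk = 𝟙 _ := pullback.lift_snd _ _ _
  have hsk1 : sk ≫ pullback.fst fi (D.map k.hom) = tk := pullback.lift_fst _ _ _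
  have hsk2 : sk ≫ pullback.snd fi (D.map k.hom) = 𝟙 _ := pullback.lift_snd _ _ _
  let gXk : X ⟶ pullback fi (D.map k.hom) := pbLift D c k.hom fi gX f sq.w
  have sqk : IsPullback gXk f fk (c.π.app k.left) := isPullback_pbLift D c k.hom fi sq
  have hcomp : s ≫ gXk = c.π.app k.left ≫ sk := by
    apply pullback.hom_ext
    · rw [Category.assoc, pbLift_fst, Category.assoc, hsk1, htk1]
    · rw [Category.assoc, pbLift_snd, Category.assoc, hsk2, reassoc_of% hs,
        Category.comp_id]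
  haveI : IsSeparated fi := hsep
  haveI : QuasiCompact fi := inferInstance
  haveI : QuasiSeparated fi := inferInstance
  exact ⟨D.obj k.left, inferInstance, c.π.app k.left, pullback fi (D.map k.hom), fk, sk, gXk,
    inferInstance, inferInstance, inferInstance, inferInstance, hsk, sqk, hcomp⟩

open Groth.Agent.Lib.FGSubalgLimitU in
/-- Affine base. -/
theorem exists_model_section_Spec (A : Type u) [CommRing A] {X : Scheme.{u}}
    (f : X ⟶ Spec (CommRingCat.of A)) [IsSeparated f] [LocallyOfFinitePresentation f]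
    [QuasiCompact f] [QuasiSeparated f] (s : Spec (CommRingCat.of A) ⟶ X) (hs : s ≫ f = 𝟙 _) :
    ∃ (Yk : Scheme.{u}) (_ : IsNoetherian Yk) (hk : Spec (CommRingCat.of A) ⟶ Yk)
      (Xk : Scheme.{u}) (fk : Xk ⟶ Yk)
      (sk : Yk ⟶ Xk) (gX : X ⟶ Xk), IsSeparated fk ∧ LocallyOfFinitePresentation fk ∧
        QuasiCompact fk ∧ QuasiSeparated fk ∧ sk ≫ fk = 𝟙 _ ∧ IsPullback gX f fk hk ∧
        s ≫ gX = hk ≫ sk := by
  haveI : ∀ {i j : (FGSub ℤ A)ᵒᵖ} (φ : i ⟶ j), IsAffineHom ((D ℤ A).map φ) :=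
    fun φ => inferInstance
  haveI : ∀ i, IsNoetherian ((D ℤ A).obj i) := fun i => inferInstance
  have key : ∀ (f' : X ⟶ (cone ℤ A).pt) [IsSeparated f'] [LocallyOfFinitePresentation f']
      [QuasiCompact f'] [QuasiSeparated f'] (s' : (cone ℤ A).pt ⟶ X), s' ≫ f' = 𝟙 _ →
      ∃ (Yk : Scheme.{u}) (_ : IsNoetherian Yk) (hk : (cone ℤ A).pt ⟶ Yk)
      (Xk : Scheme.{u}) (fk : Xk ⟶ Yk)
      (sk : Yk ⟶ Xk) (gX : X ⟶ Xk), IsSeparated fk ∧ LocallyOfFinitePresentation fk ∧
        QuasiCompact fk ∧ QuasiSeparated fk ∧ sk ≫ fk = 𝟙 _ ∧ IsPullback gX f' fk hk ∧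
        s' ≫ gX = hk ≫ sk := by
    intro f' _ _ _ _ s' hs'
    exact exists_model_section_of_isLimit (D ℤ A) (cone ℤ A) (isLimitCone ℤ A) f' s' hs'
  exact @key f ‹_› ‹_› ‹_› ‹_› s hs

open Groth.Agent.Lib.H77SectionCompCons in
/-- **EGA IV 15.7.11-type**: the union of the section components is proper over `Y` at `y`
as soon as its trace on the fibre over `y` is (geometrically) proper. No Noetherian hypothesis. -/
theorem main {X Y : Scheme.{u}} (f : X ⟶ Y) [IsSeparated f]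
    [LocallyOfFinitePresentation f] [QuasiCompact f] [QuasiSeparated f] (g : Y ⟶ X)
    (hg : g ≫ f = 𝟙 Y) (y : Y)
    (hgeom : GeomProperAt f (MoreMor.sectionComponents f g) y) :
    ∃ U : Y.Opens, y ∈ U ∧ ∃ hC : IsClosed ((f ⁻¹ᵁ U).ι.base ⁻¹' MoreMor.sectionComponents f g),
      IsProper ((Scheme.IdealSheafData.vanishingIdeal
        (⟨(f ⁻¹ᵁ U).ι.base ⁻¹' MoreMor.sectionComponents f g, hC⟩ :
          TopologicalSpace.Closeds ↥(f ⁻¹ᵁ U))).subschemeι ≫ (f ∣_ U)) := by
  obtain ⟨_, ⟨Y₀, hY₀, rfl⟩, hyY₀, -⟩ :=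
    Y.isBasis_affineOpens.exists_subset_of_mem_open (Set.mem_univ y) isOpen_univ
  have hY₀' : IsAffineOpen Y₀ := hY₀
  obtain ⟨j, hj⟩ : ∃ j : Spec (CommRingCat.of ↑Γ(Y, Y₀)) ⟶ Y, j = hY₀'.fromSpec := ⟨_, rfl⟩
  haveI : IsOpenImmersion j := by subst hj; infer_instance
  have hjr : Set.range j = (Y₀ : Set Y) := by subst hj; exact hY₀'.range_fromSpec
  obtain ⟨y₁, hy₁⟩ : ∃ y₁, j y₁ = y := by
    have : y ∈ Set.range j := by rw [hjr]; exact hyY₀
    exact this
  set Z := MoreMor.sectionComponents f g with hZ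
  -- base change to the affine open
  have hZ₁ := sectionComponents_bcSection f g hg j
  have hgeom₁ : GeomProperAt (pullback.snd f j)
      (MoreMor.sectionComponents (pullback.snd f j) (bcSection f g hg j)) y₁ := by
    rw [hZ₁]
    exact GeomProperAt.of_openImmersion f j Z y₁ (by rw [hy₁]; exact hgeom)
  -- Noetherian model
  obtain ⟨Yk, hYk, hk, Xk, fk, sk, gX, hsep, hlfp, hqc, hqs, hsk, sq, hcomp⟩ :=
    exists_model_section_Spec ↑Γ(Y, Y₀) (pullback.snd f j) (bcSection f g hg j) (bcSection_snd f g hg j)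
  have hZk := Groth.Agent.Lib.H71SectionComp.sectionComponents_baseChange fk sk hsk
    (pullback.snd f j) gX hk sq (bcSection f g hg j) (bcSection_snd f g hg j) hcomp
  rw [hZk] at hgeom₁
  have hgeomk := GeomProperAt.map (pullback.snd f j) fk gX hk sq
    (MoreMor.sectionComponents fk sk) y₁ hgeom₁
  obtain ⟨Uk, hyUk, hC, hP⟩ := noeth_main fk sk hsk (hk y₁) hgeomk
  have hS₁ := star_pullback fk (pullback.snd f j) gX hk sq _ Uk
    (star_of_conclusion fk _ Uk hC hP)
  rw [← hZk, hZ₁] at hS₁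
  have hS := star_of_openImmersion f j Z (hk ⁻¹ᵁ Uk) hS₁
  exact ⟨j ''ᵁ (hk ⁻¹ᵁ Uk), ⟨y₁, hyUk, hy₁⟩, conclusion_of_star f Z _ hS⟩

end Groth.Agent.Lib.H30SecProper
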