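import Groth.Agent.Lib.H30LowerBound
import Groth.Agent.Lib.FibreDimAtFormula
import Groth.Agent.S3391
import Mathlib

/-!
helper30: behaviour of the local fibre dimension and of the dimension of the local rings of
fibres under composition with (pre)immersions.
-/

set_option autoImplicit false
universe u
open CategoryTheory CategoryTheory.Limits AlgebraicGeometry

namespace Groth.Agent.Lib.H30SubschemeDim

open Groth.Agent.Lib.H30DimRel Groth.Agent.Lib.H30FibRes Groth.Agent.Lib.H30DimField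
  Groth.Agent.Lib.H30IrrFib Groth.Agent.Lib.H56LocDim Groth.Agent.Lib.H30LowerBound
  TopologicalSpace

section Top

variable {A B : Type*} [TopologicalSpace A] [TopologicalSpace B]

theorem localDim_le_of_isInducing {j : A → B} (hj : Topology.IsInducing j) (a : A) :
    FlatMor.localDim A a ≤ FlatMor.localDim B (j a) := by
  unfold FlatMor.localDim
  refine le_iInf fun V => ?_
  let U : {U : Opens A // a ∈ U} := ⟨⟨j ⁻¹' V.1.1, V.1.2.preimage hj.continuous⟩, V.2⟩
  refine le_trans (iInf_le _ U) ?_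
  let r : (U.1 : Set A) → (V.1 : Set B) := fun z => ⟨j z.1, z.2⟩
  have hr : Topology.IsInducing r := by
    have h1 : Topology.IsInducing (fun z : (U.1 : Set A) => j z.1) :=
      hj.comp Topology.IsInducing.subtypeVal
    exact Topology.IsInducing.of_comp (Continuous.subtype_mk h1.continuous _)
      continuous_subtype_val h1
  exact hr.topologicalKrullDim_le

theorem fibLocDim_comp_le {C : Type*} [TopologicalSpace C] {j : A → B}
    (hj : Topology.IsInducing j) (φ : B → C) (a : A) :
    fibLocDim (φ ∘ j) a ≤ fibLocDim φ (j a) := by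
  unfold fibLocDim
  let J : ((φ ∘ j) ⁻¹' {(φ ∘ j) a}) → (φ ⁻¹' {φ (j a)}) := fun z => ⟨j z.1, z.2⟩
  have hJ : Topology.IsInducing J := by
    have h1 : Topology.IsInducing (fun z : ((φ ∘ j) ⁻¹' {(φ ∘ j) a}) => j z.1) :=
      hj.comp Topology.IsInducing.subtypeVal
    exact Topology.IsInducing.of_comp (Continuous.subtype_mk h1.continuous _)
      continuous_subtype_val h1
  exact localDim_le_of_isInducing hJ ⟨a, rfl⟩

end Top

section Sch

variable {A B C : Scheme.{u}}

theorem fibreDimAt_comp_right (f' : A ⟶ B) (ι : B ⟶ C) (hinj : Function.Injective ι) (w : A) :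
    FlatMor.fibreDimAt (f' ≫ ι) w = FlatMor.fibreDimAt f' w := by
  rw [fibreDimAt_eq_fibLocDim, fibreDimAt_eq_fibLocDim]
  exact (fibLocDim_eq_of_square (j := id) Topology.IsOpenEmbedding.id (i := fun b => ι b) hinj
    (fun a => f' a) (fun a => (f' ≫ ι) a) (fun _ => rfl) w).symm

theorem fibreDimAt_comp_le (j : A ⟶ B) (hj : Topology.IsInducing j) (f : B ⟶ C) (a : A) :
    FlatMor.fibreDimAt (j ≫ f) a ≤ FlatMor.fibreDimAt f (j a) := by
  rw [fibreDimAt_eq_fibLocDim, fibreDimAt_eq_fibLocDim]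
  exact fibLocDim_comp_le hj (fun b => f b) a

theorem exists_nat_fibreStalk_dim (f : A ⟶ B) [LocallyOfFiniteType f] (x : A) :
    ∃ c : ℕ, ringKrullDim ((f.fiber (f x)).presheaf.stalk (f.asFiber x)) = c := by
  letI := fiberOver f (f x)
  haveI := lft_fiber f (f x)
  haveI := isLocallyNoetherian (B.residueField (f x)) (f.fiber (f x))
  obtain ⟨n, hn⟩ := ENat.ne_top_iff_exists.mp
    (Ideal.height_ne_top_of_isPrime
      (I := IsLocalRing.maximalIdeal ((f.fiber (f x)).presheaf.stalk (f.asFiber x))))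
  refine ⟨n, ?_⟩
  rw [← IsLocalRing.maximalIdeal_height_eq_ringKrullDim, ← hn]
  rfl

/-- post-composition with a preimmersion does not change the dimension of the local rings of the
fibres -/
theorem fibreStalk_dim_comp_right (f' : A ⟶ B) (ι : B ⟶ C) [IsPreimmersion ι]
    [LocallyOfFiniteType ι] [LocallyOfFiniteType f'] (w : A) :
    ringKrullDim (((f' ≫ ι).fiber ((f' ≫ ι) w)).presheaf.stalk ((f' ≫ ι).asFiber w)) =
      ringKrullDim ((f'.fiber (f' w)).presheaf.stalk (f'.asFiber w)) := by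
  have h1 := Groth.Agent.Lib.FibreDimAtFormula.fibreDimAt_eq_add (f' ≫ ι) w (rt (f' ≫ ι) w)
    (trdeg_eq_rt (f' ≫ ι) w)
  have h2 := Groth.Agent.Lib.FibreDimAtFormula.fibreDimAt_eq_add f' w (rt f' w)
    (trdeg_eq_rt f' w)
  rw [fibreDimAt_comp_right f' ι ι.isEmbedding.injective w, h2, rt_comp f' ι w,
    rt_of_isPreimmersion ι (f' w), zero_add] at h1
  exact (Groth.Agent.S3391.withBot_add_nat_cancel _ h1).symm

/-- pre-composition with a preimmersion can only decrease the dimension of the local rings of the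
fibres -/
theorem fibreStalk_dim_comp_le (j : A ⟶ B) [IsPreimmersion j] [LocallyOfFiniteType j]
    (f : B ⟶ C) [LocallyOfFiniteType f] (a : A) :
    ringKrullDim (((j ≫ f).fiber ((j ≫ f) a)).presheaf.stalk ((j ≫ f).asFiber a)) ≤
      ringKrullDim ((f.fiber (f (j a))).presheaf.stalk (f.asFiber (j a))) := by
  have h1 := Groth.Agent.Lib.FibreDimAtFormula.fibreDimAt_eq_add (j ≫ f) a (rt (j ≫ f) a)
    (trdeg_eq_rt (j ≫ f) a)
  have h2 := Groth.Agent.Lib.FibreDimAtFormula.fibreDimAt_eq_add f (j a) (rt f (j a))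
    (trdeg_eq_rt f (j a))
  have h3 := fibreDimAt_comp_le j j.isEmbedding.isInducing f a
  rw [h1, h2, rt_comp_of_isPreimmersion f j a] at h3
  obtain ⟨c₁, hc₁⟩ := exists_nat_fibreStalk_dim (j ≫ f) a
  obtain ⟨c₂, hc₂⟩ := exists_nat_fibreStalk_dim f (j a)
  have hc₁' : ringKrullDim (((j ≫ f).fiber ((j ≫ f) a)).presheaf.stalk ((j ≫ f).asFiber a)) =
      c₁ := hc₁
  rw [hc₁', hc₂] at h3 ⊢
  have : c₁ + rt f (j a) ≤ c₂ + rt f (j a) := by exact_mod_cast h3
  have : c₁ ≤ c₂ := by omega
  exact_mod_cast this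

end Sch

end Groth.Agent.Lib.H30SubschemeDim
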