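import Groth.Agent.Lib.H30SubschemeDim
import Groth.Agent.S3448
import Groth.Agent.S3390
import Groth.Agent.Lib.H69RedInduced
import Mathlib

/-!
helper30: EGA IV 14.2-type comparison between a morphism `f : X ⟶ Y` and its restriction
`f' : X' ⟶ Y'` to integral closed subschemes.
-/

set_option autoImplicit false
universe u
open CategoryTheory CategoryTheory.Limits AlgebraicGeometry

namespace Groth.Agent.Lib.H30SubschemeDim

open Groth.Agent.Lib.H30DimRel Groth.Agent.Lib.H30FibRes Groth.Agent.Lib.H30DimField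
  Groth.Agent.Lib.H30IrrFib Groth.Agent.Lib.H56LocDim Groth.Agent.Lib.H30LowerBound
  TopologicalSpace

variable {X Y Xr Yr : Scheme.{u}}

theorem fibreStalk_dim_congr (g₁ g₂ : Xr ⟶ Y) (h : g₁ = g₂) (w : Xr) :
    ringKrullDim ((g₁.fiber (g₁ w)).presheaf.stalk (g₁.asFiber w)) =
      ringKrullDim ((g₂.fiber (g₂ w)).presheaf.stalk (g₂.asFiber w)) := by
  subst h; rfl

theorem fibreDimAt_congr (g₁ g₂ : Xr ⟶ Y) (h : g₁ = g₂) (w : Xr) :
    FlatMor.fibreDimAt g₁ w = FlatMor.fibreDimAt g₂ w := by
  subst h; rfl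

section Core

variable (f : X ⟶ Y) [IsLocallyNoetherian Y] [LocallyOfFiniteType f]
  (ιX : Xr ⟶ X) [IsClosedImmersion ιX] (ιY : Yr ⟶ Y) [IsClosedImmersion ιY]
  (f' : Xr ⟶ Yr) (hfac : f' ≫ ιY = ιX ≫ f) (w : Xr) (v : Yr) (hv : ιY v = f (ιX w))

include hfac in
theorem lft_f' : LocallyOfFiniteType f' := by
  haveI : LocallyOfFiniteType (f' ≫ ιY) := by rw [hfac]; infer_instance
  exact locallyOfFiniteType_of_comp f' ιY

include hfac hv in
theorem f'_eq : f' w = v := by
  apply ιY.isEmbedding.injective
  rw [hv]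
  exact congrArg (fun φ : Xr ⟶ Y => φ w) hfac

include hfac hv in
/-- (a) `dim B' ≤ dim A' + dim (B' ⊗ κ)` -/
theorem core_a :
    ringKrullDim (Xr.presheaf.stalk w) ≤ ringKrullDim (Yr.presheaf.stalk v) +
      ringKrullDim (((ιX ≫ f).fiber ((ιX ≫ f) w)).presheaf.stalk ((ιX ≫ f).asFiber w)) := by
  haveI := lft_f' f ιX ιY f' hfac
  haveI : IsLocallyNoetherian Yr := LocallyOfFiniteType.isLocallyNoetherian ιY
  have h1 := Groth.Agent.S3448.stalk_le_add f' w
  rw [← fibreStalk_dim_comp_right f' ιY w, fibreStalk_dim_congr _ _ hfac w,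
    congrArg (fun p => ringKrullDim (Yr.presheaf.stalk p)) (f'_eq f ιX ιY f' hfac w v hv)] at h1
  exact h1

include hv in
/-- (b) `dim A' ≤ dim A` -/
theorem core_b :
    ringKrullDim (Yr.presheaf.stalk v) ≤ ringKrullDim (Y.presheaf.stalk (f (ιX w))) := by
  have h1 := ringKrullDim_le_of_surjective (ιY.stalkMap v).hom (ιY.stalkMap_surjective v)
  rw [congrArg (fun p => ringKrullDim (Y.presheaf.stalk p)) hv] at h1
  exact h1

/-- (c) `dim (B' ⊗ κ) ≤ dim (B ⊗ κ)` -/
theorem core_c :
    ringKrullDim (((ιX ≫ f).fiber ((ιX ≫ f) w)).presheaf.stalk ((ιX ≫ f).asFiber w)) ≤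
      ringKrullDim ((f.fiber (f (ιX w))).presheaf.stalk (f.asFiber (ιX w))) :=
  fibreStalk_dim_comp_le ιX f w

include hfac hv in
/-- (d) the dimension formula for `X' ⟶ Y'` forces equidimensionality (via EGA IV 13.3.?) -/
theorem core_d [IrreducibleSpace Xr] [IrreducibleSpace Yr] (hdom : IsDominant f')
    (h : ringKrullDim (Xr.presheaf.stalk w) = ringKrullDim (Yr.presheaf.stalk v) +
      ringKrullDim (((ιX ≫ f).fiber ((ιX ≫ f) w)).presheaf.stalk ((ιX ≫ f).asFiber w))) :
    FlatMor.fibreDimAt (ιX ≫ f) w = topologicalKrullDim ↥(f'.fiber (genericPoint Yr)) := by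
  haveI := lft_f' f ιX ιY f' hfac
  haveI : IsLocallyNoetherian Yr := LocallyOfFiniteType.isLocallyNoetherian ιY
  rw [← fibreDimAt_congr _ _ hfac w, fibreDimAt_comp_right f' ιY ιY.isEmbedding.injective w]
  apply Groth.Agent.S3390.result f' w
  rw [← fibreStalk_dim_congr _ _ hfac w, fibreStalk_dim_comp_right f' ιY w,
    ← congrArg (fun p => ringKrullDim (Yr.presheaf.stalk p)) (f'_eq f ιX ιY f' hfac w v hv)] at h
  exact h

end Core

section Generic

variable (f : X ⟶ Y) (ιX : Xr ⟶ X) [IsClosedImmersion ιX] (ιY : Yr ⟶ Y) [IsClosedImmersion ιY]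
  (f' : Xr ⟶ Yr) (hfac : f' ≫ ιY = ιX ≫ f)

theorem map_genericPoint_eq [IrreducibleSpace Yr] (η' : Y)
    (hη' : closure ({η'} : Set Y) = Set.range ιY) : ιY (genericPoint Yr) = η' := by
  have h1 : IsGenericPoint (ιY (genericPoint Yr)) (Set.range ιY) := by
    have := (genericPoint_spec Yr).image ιY.continuous
    rw [Set.image_univ, ιY.isClosedEmbedding.isClosed_range.closure_eq] at this
    exact this
  have h2 : IsGenericPoint η' (Set.range ιY) := hη'
  exact h1.eq h2

include hfac in
/-- the generic fibre of `X' ⟶ Y'` is `X' ∩ f⁻¹(η')` -/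
theorem dim_generic_fiber_eq [IrreducibleSpace Yr] (η' : Y)
    (hη' : closure ({η'} : Set Y) = Set.range ιY) :
    topologicalKrullDim ↥(f'.fiber (genericPoint Yr)) =
      topologicalKrullDim ↥(Set.range ιX ∩ f ⁻¹' {η'}) := by
  have hgen := map_genericPoint_eq ιY η' hη'
  have hcomm : ∀ b : Xr, f (ιX b) = ιY (f' b) := fun b =>
    (congrArg (fun φ : Xr ⟶ Y => φ b) hfac).symm
  have hmem : ∀ a : f'.fiber (genericPoint Yr),
      ιX (f'.fiberι (genericPoint Yr) a) ∈ Set.range ιX ∩ f ⁻¹' {η'} := by
    intro a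
    refine ⟨⟨_, rfl⟩, ?_⟩
    have h1 : f' (f'.fiberι (genericPoint Yr) a) = genericPoint Yr := by
      have : f'.fiberι (genericPoint Yr) a ∈ Set.range (f'.fiberι (genericPoint Yr)) := ⟨a, rfl⟩
      rw [f'.range_fiberι] at this
      exact this
    show f (ιX (f'.fiberι (genericPoint Yr) a)) = η'
    rw [hcomm, h1, hgen]
  let F : f'.fiber (genericPoint Yr) → ↥(Set.range ιX ∩ f ⁻¹' {η'}) := fun a =>
    ⟨ιX (f'.fiberι (genericPoint Yr) a), hmem a⟩
  have hemb : Topology.IsEmbedding F := by
    have h1 : Topology.IsEmbedding (fun a : f'.fiber (genericPoint Yr) =>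
        ιX (f'.fiberι (genericPoint Yr) a)) :=
      ιX.isEmbedding.comp (f'.fiberι (genericPoint Yr)).isEmbedding
    exact Topology.IsEmbedding.of_comp (Continuous.subtype_mk h1.continuous _)
      continuous_subtype_val h1
  have hsurj : Function.Surjective F := by
    rintro ⟨p, ⟨b, rfl⟩, hp⟩
    have hp' : f (ιX b) = η' := hp
    rw [hcomm, ← hgen] at hp'
    have h1 : f' b = genericPoint Yr := ιY.isEmbedding.injective hp'
    obtain ⟨a, ha⟩ : b ∈ Set.range (f'.fiberι (genericPoint Yr)) := by
      rw [f'.range_fiberι]; exact h1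
    refine ⟨a, ?_⟩
    apply Subtype.ext
    show ιX (f'.fiberι (genericPoint Yr) a) = ιX b
    rw [ha]
  exact IsHomeomorph.topologicalKrullDim_eq F
    (isHomeomorph_iff_isEmbedding_surjective.mpr ⟨hemb, hsurj⟩)

end Generic

section Restriction

open Scheme.IdealSheafData

/-- the restriction of `f` to the reduced induced subschemes on an irreducible closed subset and on
the closure of its image -/
theorem exists_restriction (f : X ⟶ Y) (X' : Closeds X) (hirr : IsIrreducible (X' : Set X)) :
    ∃ f' : (vanishingIdeal X').subscheme ⟶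
        (vanishingIdeal (⟨closure (f.base '' (X' : Set X)), isClosed_closure⟩ : Closeds Y)).subscheme,
      f' ≫ (vanishingIdeal
        (⟨closure (f.base '' (X' : Set X)), isClosed_closure⟩ : Closeds Y)).subschemeι =
        (vanishingIdeal X').subschemeι ≫ f ∧
      IrreducibleSpace (vanishingIdeal X').subscheme ∧
      IrreducibleSpace (vanishingIdeal
        (⟨closure (f.base '' (X' : Set X)), isClosed_closure⟩ : Closeds Y)).subscheme ∧
      IsDominant f' := by
  have hrX : Set.range (vanishingIdeal X').subschemeι = (X' : Set X) := by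
    rw [range_subschemeι, coe_support_vanishingIdeal]
  have hrY : Set.range (vanishingIdeal
      (⟨closure (f.base '' (X' : Set X)), isClosed_closure⟩ : Closeds Y)).subschemeι =
      closure (f.base '' (X' : Set X)) := by
    rw [range_subschemeι, coe_support_vanishingIdeal]
    rfl
  have hrange : Set.range ((vanishingIdeal X').subschemeι ≫ f) = f.base '' (X' : Set X) := by
    rw [← hrX]
    ext y
    constructor
    · rintro ⟨a, rfl⟩
      exact ⟨_, ⟨a, rfl⟩, rfl⟩
    · rintro ⟨_, ⟨a, rfl⟩, rfl⟩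
      exact ⟨a, rfl⟩
  haveI : IsReduced (vanishingIdeal X').subscheme :=
    Groth.Agent.Lib.IntegralSection.isReduced_subscheme_vanishingIdeal X'
  obtain ⟨f', hf'⟩ := Groth.Agent.Lib.H69RedInduced.exists_lift_redSub
    ((vanishingIdeal X').subschemeι ≫ f)
    (⟨closure (f.base '' (X' : Set X)), isClosed_closure⟩ : Closeds Y) (by
      rw [hrange]
      exact subset_closure)
  refine ⟨f', hf', ?_, ?_, ?_⟩
  · have hemb := (vanishingIdeal X').subschemeι.isEmbedding
    have h1 : IrreducibleSpace (Set.range (vanishingIdeal X').subschemeι) := by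
      rw [hrX]
      exact Subtype.irreducibleSpace hirr
    exact (hemb.toHomeomorph.irreducibleSpace_iff).mpr h1
  · have hemb := (vanishingIdeal
      (⟨closure (f.base '' (X' : Set X)), isClosed_closure⟩ : Closeds Y)).subschemeι.isEmbedding
    have h1 : IrreducibleSpace (Set.range (vanishingIdeal
        (⟨closure (f.base '' (X' : Set X)), isClosed_closure⟩ : Closeds Y)).subschemeι) := by
      rw [hrY]
      exact Subtype.irreducibleSpace (hirr.image f f.continuous.continuousOn).closure
    exact (hemb.toHomeomorph.irreducibleSpace_iff).mpr h1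
  · constructor
    rw [DenseRange, dense_iff_closure_eq]
    have hce := (vanishingIdeal
      (⟨closure (f.base '' (X' : Set X)), isClosed_closure⟩ : Closeds Y)).subschemeι.isClosedEmbedding
    have h1 := hce.closure_image_eq (Set.range f')
    have hcomm : ∀ a, (vanishingIdeal
        (⟨closure (f.base '' (X' : Set X)), isClosed_closure⟩ : Closeds Y)).subschemeι (f' a) =
        f ((vanishingIdeal X').subschemeι a) := fun a =>
      congrArg (fun φ : (vanishingIdeal X').subscheme ⟶ Y => φ a) hf'
    have h2 : (vanishingIdeal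
        (⟨closure (f.base '' (X' : Set X)), isClosed_closure⟩ : Closeds Y)).subschemeι ''
        (Set.range f') = f.base '' (X' : Set X) := by
      ext y
      constructor
      · rintro ⟨_, ⟨a, rfl⟩, rfl⟩
        rw [hcomm]
        refine ⟨(vanishingIdeal X').subschemeι a, ?_, rfl⟩
        rw [← hrX]
        exact ⟨a, rfl⟩
      · rintro ⟨p, hp, rfl⟩
        rw [← hrX] at hp
        obtain ⟨a, rfl⟩ := hp
        exact ⟨f' a, ⟨a, rfl⟩, hcomm a⟩
    have h3 : (vanishingIdeal
        (⟨closure (f.base '' (X' : Set X)), isClosed_closure⟩ : Closeds Y)).subschemeι ''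
        closure (Set.range f') = (vanishingIdeal
        (⟨closure (f.base '' (X' : Set X)), isClosed_closure⟩ : Closeds Y)).subschemeι ''
        Set.univ :=
      h1.symm.trans ((congrArg closure h2).trans (hrY.symm.trans Set.image_univ.symm))
    exact Set.image_injective.mpr hce.injective h3

end Restriction

end Groth.Agent.Lib.H30SubschemeDim
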