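import Mathlib
import Groth.Agent.Lib.H30NormalSmooth

/-!
# Unramified over a normal domain is étale (helper30)

`etale_of_unramified_of_normal`: `R` an integrally closed domain, `S` a domain, `R → S` injective,
finite and formally unramified. Then `S` is étale over `R`.
(Milne, Étale cohomology I.3.20; Stacks 0BTF-type argument via the local structure of unramified
algebras `Algebra.IsUnramifiedAt.exists_hasStandardEtaleSurjectionOn` and ascent of normality
along étale maps.)

Also `formallyEtale_flat` (finite type suffices for formally étale + flat) and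
`finitePresentation_of_finite_flat_of_isDomain`.
-/

set_option autoImplicit false
open Groth.Agent.Lib.H30NormalSmooth

universe u

namespace Groth.Agent.Lib.H30UnramNormal

theorem algebraMap_eq_zero_of_mem_ker (R C T : Type u) [CommRing R] [IsDomain R]
    [IsIntegrallyClosed R] [CommRing C] [Algebra R C] [Algebra.Etale R C] [CommRing T] [IsDomain T]
    [Algebra R T] (hinj : Function.Injective (algebraMap R T))
    (φ : C →ₐ[R] T) (q : Ideal C) [q.IsPrime] (hq : RingHom.ker φ ≤ q)
    (c : C) (hc : φ c = 0) : algebraMap C (Localization.AtPrime q) c = 0 := by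
  obtain ⟨hdom, -⟩ := normal_localization_of_etale R C q (Localization.AtPrime q)
  set J₀ : Ideal C := RingHom.ker (algebraMap C (Localization.AtPrime q)) with hJ₀
  set I : Ideal C := RingHom.ker φ.toRingHom with hI
  have hJp : J₀.IsPrime := RingHom.ker_isPrime _
  have hIp : I.IsPrime := RingHom.ker_isPrime _
  have hle : J₀ ≤ I := by
    intro x hx
    rw [hJ₀, RingHom.mem_ker, IsLocalization.map_eq_zero_iff q.primeCompl] at hx
    obtain ⟨⟨v, hv⟩, hvx⟩ := hx
    rw [hI, RingHom.mem_ker]
    have h1 : φ v * φ x = 0 := by rw [← map_mul, hvx, map_zero]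
    rcases mul_eq_zero.mp h1 with h | h
    · exact absurd (hq (by simpa [RingHom.mem_ker] using h)) hv
    · exact h
  have hIu : I.under R = ⊥ := by
    rw [eq_bot_iff]
    intro r hr
    rw [Ideal.mem_bot]
    apply hinj
    rw [map_zero]
    have : φ (algebraMap R C r) = 0 := by simpa [hI, Ideal.under, RingHom.mem_ker] using hr
    simpa using this
  have hJu : J₀.under R = ⊥ := by
    rw [eq_bot_iff, ← hIu]
    exact Ideal.comap_mono hle
  have hEq : J₀ = I := Algebra.QuasiFinite.eq_of_le_of_under_eq (R := R) J₀ I hle (hJu.trans hIu.symm)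
  have : c ∈ J₀ := by rw [hEq, hI, RingHom.mem_ker]; exact hc
  exact this

theorem localRingHom_bijective (R C T : Type u) [CommRing R] [IsDomain R]
    [IsIntegrallyClosed R] [CommRing C] [Algebra R C] [Algebra.Etale R C] [CommRing T] [IsDomain T]
    [Algebra R T] (hinj : Function.Injective (algebraMap R T))
    (φ : C →ₐ[R] T) (hφ : Function.Surjective φ) (Q : Ideal T) [Q.IsPrime]
    (q : Ideal C) [q.IsPrime] (hqQ : q = Q.comap φ.toRingHom) :
    Function.Bijective (Localization.localRingHom q Q φ.toRingHom hqQ) := by
  have hq : RingHom.ker φ ≤ q := by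
    intro c hc
    rw [hqQ, Ideal.mem_comap]
    have : φ c = 0 := (RingHom.mem_ker).mp hc
    show φ c ∈ Q
    rw [this]
    exact Q.zero_mem
  constructor
  · rw [injective_iff_map_eq_zero]
    intro x hx
    obtain ⟨c, u, rfl⟩ := IsLocalization.exists_mk'_eq q.primeCompl x
    rw [Localization.localRingHom_mk', IsLocalization.mk'_eq_zero_iff] at hx
    obtain ⟨⟨m, hm⟩, hmc⟩ := hx
    have hc : φ c = 0 := by
      rcases mul_eq_zero.mp hmc with h | h
      · have h' : m = 0 := h
        exact absurd (h' ▸ Q.zero_mem) hm
      · exact h
    have := algebraMap_eq_zero_of_mem_ker R C T hinj φ q hq c hc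
    rw [IsLocalization.mk'_eq_zero_iff]
    rw [IsLocalization.map_eq_zero_iff q.primeCompl] at this
    exact this
  · intro y
    obtain ⟨t, v, rfl⟩ := IsLocalization.exists_mk'_eq Q.primeCompl y
    obtain ⟨c, rfl⟩ := hφ t
    obtain ⟨w, hw⟩ := hφ v.1
    have hwq : w ∈ q.primeCompl := by
      show w ∉ q
      rw [hqQ, Ideal.mem_comap]
      show φ w ∉ Q
      rw [hw]
      exact v.2
    refine ⟨IsLocalization.mk' _ c ⟨w, hwq⟩, ?_⟩
    rw [Localization.localRingHom_mk']
    congr 1
    exact Subtype.ext hw

theorem formallyEtale_flat_atPrime (R C T : Type u) [CommRing R] [IsDomain R]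
    [IsIntegrallyClosed R] [CommRing C] [Algebra R C] [Algebra.Etale R C] [CommRing T] [IsDomain T]
    [Algebra R T] (hinj : Function.Injective (algebraMap R T))
    (φ : C →ₐ[R] T) (hφ : Function.Surjective φ) (Q : Ideal T) [Q.IsPrime] :
    Algebra.FormallyEtale R (Localization.AtPrime Q) ∧ Module.Flat R (Localization.AtPrime Q) := by
  let q : Ideal C := Q.comap φ
  have hb : Function.Bijective (Localization.localAlgHom q Q φ rfl) :=
    localRingHom_bijective R C T hinj φ hφ Q q rfl
  let e : Localization.AtPrime q ≃ₐ[R] Localization.AtPrime Q := AlgEquiv.ofBijective _ hb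
  have h1 : Algebra.FormallyEtale C (Localization.AtPrime q) :=
    Algebra.FormallyEtale.of_isLocalization q.primeCompl
  have h2 : Algebra.FormallyEtale R (Localization.AtPrime q) :=
    Algebra.FormallyEtale.comp R C _
  have h3 : Module.Flat C (Localization.AtPrime q) := IsLocalization.flat _ q.primeCompl
  have h4 : Module.Flat R (Localization.AtPrime q) := Module.Flat.trans R C _
  exact ⟨Algebra.FormallyEtale.of_equiv e, Module.Flat.of_linearEquiv e.toLinearEquiv.symm⟩

theorem formallyEtale_flat_of_surjective (R C T : Type u) [CommRing R] [IsDomain R]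
    [IsIntegrallyClosed R] [CommRing C] [Algebra R C] [Algebra.Etale R C] [CommRing T] [IsDomain T]
    [Algebra R T] (hinj : Function.Injective (algebraMap R T))
    (φ : C →ₐ[R] T) (hφ : Function.Surjective φ) :
    Algebra.FormallyEtale R T ∧ Module.Flat R T := by
  constructor
  · rw [← Algebra.etaleLocus_eq_univ_iff]
    refine Set.eq_univ_of_forall fun Q => ?_
    exact (formallyEtale_flat_atPrime R C T hinj φ hφ Q.asIdeal).1
  · refine Module.flat_of_isLocalized_maximal T T (fun P _ => Localization.AtPrime P)
      (fun P _ => Algebra.linearMap T (Localization.AtPrime P)) fun P _ => ?_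
    exact (formallyEtale_flat_atPrime R C T hinj φ hφ P).2

/-- Local statement: around every prime there is a basic open which is formally étale and flat. -/
theorem exists_away_formallyEtale_flat (R S : Type u) [CommRing R] [IsDomain R]
    [IsIntegrallyClosed R] [CommRing S] [IsDomain S] [Algebra R S]
    (hinj : Function.Injective (algebraMap R S)) [Algebra.FiniteType R S]
    [Algebra.FormallyUnramified R S] (Q : Ideal S) [Q.IsPrime] :
    ∃ f ∉ Q, Algebra.FormallyEtale R (Localization.Away f) ∧
      Module.Flat R (Localization.Away f) := by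
  obtain ⟨f, hfQ, P, φ, hφ⟩ :=
    Algebra.IsUnramifiedAt.exists_hasStandardEtaleSurjectionOn (R := R) Q
  have hf0 : f ≠ 0 := fun h => hfQ (h ▸ Q.zero_mem)
  have hle : Submonoid.powers f ≤ nonZeroDivisors S :=
    powers_le_nonZeroDivisors_of_noZeroDivisors hf0
  have : IsDomain (Localization.Away f) := IsLocalization.isDomain_localization hle
  have hinj' : Function.Injective (algebraMap R (Localization.Away f)) := by
    rw [IsScalarTower.algebraMap_eq R S (Localization.Away f)]
    exact (IsLocalization.injective _ hle).comp hinj
  exact ⟨f, hfQ, formallyEtale_flat_of_surjective R P.Ring (Localization.Away f) hinj' φ hφ⟩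

theorem formallyEtale_flat (R S : Type u) [CommRing R] [IsDomain R]
    [IsIntegrallyClosed R] [CommRing S] [IsDomain S] [Algebra R S]
    (hinj : Function.Injective (algebraMap R S)) [Algebra.FiniteType R S]
    [Algebra.FormallyUnramified R S] :
    Algebra.FormallyEtale R S ∧ Module.Flat R S := by
  constructor
  · rw [← Algebra.etaleLocus_eq_univ_iff]
    refine Set.eq_univ_of_forall fun Q => ?_
    obtain ⟨f, hfQ, h1, -⟩ := exists_away_formallyEtale_flat R S hinj Q.asIdeal
    exact (Algebra.basicOpen_subset_etaleLocus_iff.mpr h1) hfQ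
  · let s : Set S := {f | Module.Flat R (Localization.Away f)}
    have hs : Ideal.span s = ⊤ := by
      by_contra hne
      obtain ⟨m, hm, hsm⟩ := Ideal.exists_le_maximal _ hne
      obtain ⟨f, hfm, -, h2⟩ := exists_away_formallyEtale_flat R S hinj m
      exact hfm (hsm (Ideal.subset_span h2))
    refine Module.flat_of_isLocalized_span S S s hs (fun r => Localization.Away r.1)
      (fun r => Algebra.linearMap S (Localization.Away r.1)) fun r => r.2

/-- A finite flat module over a domain is finitely presented. -/
theorem finitePresentation_of_finite_flat_of_isDomain (R M : Type u) [CommRing R] [IsDomain R]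
    [AddCommGroup M] [Module R M] [Module.Finite R M] [Module.Flat R M] :
    Module.FinitePresentation R M := by
  have hbot : (⊥ : Ideal R).IsPrime := Ideal.isPrime_bot
  have key : ∀ (p : Ideal R) [p.IsPrime], ∃ a ∉ p,
      Module.Free (Localization.Away a) (LocalizedModule.Away a M) := by
    intro p _
    refine Module.Free.away_of_finite_of_flat_of_rankAtStalk_constant M p fun m _ => ?_
    rw [← Module.rankAtStalk_eq_of_le_of_finite_of_flat' M (bot_le : (⊥ : Ideal R) ≤ m),
      ← Module.rankAtStalk_eq_of_le_of_finite_of_flat' M (bot_le : (⊥ : Ideal R) ≤ p)]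
  let s : Set R := {a | Module.Free (Localization.Away a) (LocalizedModule.Away a M)}
  have hs : Ideal.span s = ⊤ := by
    by_contra hne
    obtain ⟨m, hm, hsm⟩ := Ideal.exists_le_maximal _ hne
    obtain ⟨a, ham, h2⟩ := key m
    exact ham (hsm (Ideal.subset_span h2))
  refine Module.FinitePresentation.of_localizationSpan s hs fun g => ?_
  have : Module.Free (Localization.Away g.1) (LocalizedModule.Away g.1 M) := g.2
  exact Module.finitePresentation_of_projective _ _

/-- **Unramified over normal is étale**: a domain `S` finite, injective and formally unramified over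
an integrally closed domain `R` is étale over `R`. -/
theorem etale_of_unramified_of_normal (R S : Type u) [CommRing R] [IsDomain R]
    [IsIntegrallyClosed R] [CommRing S] [IsDomain S] [Algebra R S]
    (hinj : Function.Injective (algebraMap R S)) [Module.Finite R S]
    [Algebra.FormallyUnramified R S] : Algebra.Etale R S := by
  obtain ⟨h1, h2⟩ := formallyEtale_flat R S hinj
  have h3 : Module.FinitePresentation R S := finitePresentation_of_finite_flat_of_isDomain R S
  exact ⟨h1, inferInstance⟩

end Groth.Agent.Lib.H30UnramNormal
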