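import Mathlib

/-!
# Reducedness of `AdjoinRoot f` for monic separable `f` over a reduced ring (helper40)
-/

set_option autoImplicit false
universe u

open Polynomial

namespace Groth.Agent.Lib.H40AbhyA

theorem isReduced_adjoinRoot {R : Type*} [CommRing R] [IsReduced R] {f : R[X]} (hf : f.Monic)
    (hsep : f.Separable) : IsReduced (AdjoinRoot f) := by
  rcases subsingleton_or_nontrivial R with hR | hR
  · have : Subsingleton (AdjoinRoot f) := Module.subsingleton R _
    exact ⟨fun z _ => Subsingleton.elim _ _⟩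
  refine ⟨fun z hz => ?_⟩
  obtain ⟨n, hn⟩ := hz
  rcases Nat.eq_zero_or_pos n with hn0 | hn0
  · subst hn0
    rw [pow_zero] at hn
    calc z = z * 1 := (mul_one z).symm
      _ = 0 := by rw [hn, mul_zero]
  obtain ⟨g, rfl⟩ := AdjoinRoot.mk_surjective z
  have hmod : AdjoinRoot.mk f g = AdjoinRoot.mk f (g %ₘ f) := by
    rw [AdjoinRoot.mk_eq_mk]
    refine ⟨g /ₘ f, ?_⟩
    have h := Polynomial.modByMonic_add_div g f
    rw [sub_eq_iff_eq_add, add_comm]
    exact h.symm
  set r := g %ₘ f with hr_def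
  have hdeg : r.degree < f.degree := Polynomial.degree_modByMonic_lt g hf
  have hdvd : f ∣ r ^ n := by
    rw [← AdjoinRoot.mk_eq_zero, map_pow, ← hmod, hn]
  have hr : r = 0 := by
    ext i
    rw [coeff_zero]
    have hnil : r.coeff i ∈ nilradical R := by
      rw [nilradical_eq_sInf, Ideal.mem_sInf]
      intro 𝔭 h𝔭
      have : 𝔭.IsPrime := h𝔭
      let ι : R →+* FractionRing (R ⧸ 𝔭) :=
        (algebraMap (R ⧸ 𝔭) (FractionRing (R ⧸ 𝔭))).comp (Ideal.Quotient.mk 𝔭)
      have h1 : f.map ι ∣ (r.map ι) ^ n := by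
        rw [← Polynomial.map_pow]; exact Polynomial.map_dvd ι hdvd
      have hsq : Squarefree (f.map ι) := (hsep.map).squarefree
      have h2 : f.map ι ∣ r.map ι :=
        (hsq.dvd_pow_iff_dvd hn0.ne').mp h1
      have h3 : r.map ι = 0 := by
        apply Polynomial.eq_zero_of_dvd_of_degree_lt h2
        calc (r.map ι).degree ≤ r.degree := Polynomial.degree_map_le
          _ < f.degree := hdeg
          _ = (f.map ι).degree := (hf.degree_map ι).symm
      have h4 : ι (r.coeff i) = 0 := by rw [← Polynomial.coeff_map, h3, coeff_zero]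
      have h5 : Ideal.Quotient.mk 𝔭 (r.coeff i) = 0 :=
        (IsFractionRing.injective (R ⧸ 𝔭) (FractionRing (R ⧸ 𝔭))) (h4.trans (map_zero _).symm)
      exact Ideal.Quotient.eq_zero_iff_mem.mp h5
    exact (nilradical_eq_zero R ▸ hnil : r.coeff i ∈ (0 : Ideal R))
  rw [hmod, hr, map_zero]

end Groth.Agent.Lib.H40AbhyA
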