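import Mathlib

/-!
# Generic lemmas for the formally smooth case of Epp (helper40)

* `vnr_of_artinian_reduced`: reduced Artinian rings are von Neumann regular.
* `isReduced_of_surjective_of_annihilator`: a quotient of a reduced ring by an ideal all of whose
  elements are killed by an element mapping to `1` is reduced.
* `key`: a ring `T` mapping to a DVR `R` with `T/p₁` "locally a field" at the contraction of the
  maximal ideal and generating the fraction field: then `p₁` is a uniformizer of `R` and every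
  element of `R` is a fraction of images with unit denominator.
-/

set_option autoImplicit false
universe u

namespace Groth.Agent.Lib.H40FSmoothA

theorem vnr_of_artinian_reduced {R : Type*} [CommRing R] [IsArtinianRing R] [IsReduced R] (x : R) :
    ∃ y : R, x * x * y = x := by
  classical
  let e := IsArtinianRing.equivPi R
  let _ : ∀ I : MaximalSpectrum R, Field (R ⧸ I.asIdeal) := fun I =>
    haveI := I.isMaximal
    Ideal.Quotient.field I.asIdeal
  refine ⟨e.symm (fun I => (e x I)⁻¹), ?_⟩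
  apply e.injective
  rw [map_mul, map_mul, AlgEquiv.apply_symm_apply]
  funext I
  simp only [Pi.mul_apply]
  exact mul_self_mul_inv _

theorem isReduced_of_surjective_of_annihilator {R₁ R₂ : Type*} [CommRing R₁] [CommRing R₂]
    [IsReduced R₁] (ρ : R₁ →+* R₂) (hρ : Function.Surjective ρ)
    (h : ∀ r : R₁, ρ r = 0 → ∃ s : R₁, ρ s = 1 ∧ s * r = 0) : IsReduced R₂ := by
  refine ⟨fun z hz => ?_⟩
  obtain ⟨n, hn⟩ := hz
  obtain ⟨z', rfl⟩ := hρ z
  rcases Nat.eq_zero_or_pos n with hn0 | hn0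
  · subst hn0
    rw [pow_zero] at hn
    calc ρ z' = ρ z' * 1 := (mul_one _).symm
      _ = 0 := by rw [hn, mul_zero]
  have h0 : ρ (z' ^ n) = 0 := by rw [map_pow, hn]
  obtain ⟨s, hs1, hs0⟩ := h _ h0
  have h1 : (s * z') ^ n = 0 := by
    rw [mul_pow]
    obtain ⟨m, rfl⟩ : ∃ m, n = m + 1 := ⟨n - 1, by omega⟩
    rw [pow_succ s m, mul_assoc, hs0, mul_zero]
  have h2 : s * z' = 0 := IsReduced.eq_zero _ ⟨n, h1⟩
  calc ρ z' = ρ s * ρ z' := by rw [hs1, one_mul]
    _ = ρ (s * z') := (map_mul ρ s z').symm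
    _ = 0 := by rw [h2, map_zero]

section Key

open IsDiscreteValuationRing

variable {R T : Type*} [CommRing R] [IsDomain R] [IsDiscreteValuationRing R] [CommRing T]
  (φ : T →+* R) (p₁ : T)

theorem exists_addVal_eq {r : R} (hr : r ≠ 0) : ∃ k : ℕ, addVal R r = k := by
  have h : addVal R r ≠ ⊤ := fun h => hr (addVal_eq_top_iff.mp h)
  obtain ⟨k, hk⟩ := ENat.ne_top_iff_exists.mp h
  exact ⟨k, hk.symm⟩

theorem key_factor (h1 : ¬ IsUnit (φ p₁))
    (hstar : ∀ x : T, ¬ IsUnit (φ x) → ∃ s y : T, IsUnit (φ s) ∧ s * x = p₁ * y) :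
    ∀ x : T, φ x ≠ 0 →
      ∃ (n : ℕ) (s u : T), IsUnit (φ s) ∧ IsUnit (φ u) ∧ s * x = p₁ ^ n * u := by
  have main : ∀ (k : ℕ) (x : T), φ x ≠ 0 → addVal R (φ x) = k →
      ∃ (n : ℕ) (s u : T), IsUnit (φ s) ∧ IsUnit (φ u) ∧ s * x = p₁ ^ n * u := by
    intro k
    induction k using Nat.strong_induction_on with
    | _ k ih =>
      intro x hx hk
      by_cases hu : IsUnit (φ x)
      · exact ⟨0, 1, x, by rw [map_one]; exact isUnit_one, hu, by rw [pow_zero]⟩
      · obtain ⟨s, y, hs, hsy⟩ := hstar x hu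
        have hmul : φ s * φ x = φ p₁ * φ y := by rw [← map_mul, ← map_mul, hsy]
        have hy0 : φ y ≠ 0 := by
          intro h
          rw [h, mul_zero] at hmul
          exact mul_ne_zero hs.ne_zero hx hmul
        have hp0 : φ p₁ ≠ 0 := by
          intro h
          rw [h, zero_mul] at hmul
          exact mul_ne_zero hs.ne_zero hx hmul
        obtain ⟨m, hm⟩ := exists_addVal_eq hy0
        obtain ⟨d, hd⟩ := exists_addVal_eq hp0
        have hd1 : 1 ≤ d := by
          rcases Nat.eq_zero_or_pos d with h | h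
          · exfalso
            rw [h, Nat.cast_zero] at hd
            exact h1 (addVal_eq_zero_iff.mp hd)
          · exact h
        have hsum := congrArg (addVal R) hmul
        rw [addVal_mul, addVal_mul, addVal_eq_zero_iff.mpr hs, zero_add, hk, hd, hm] at hsum
        have hkm : k = d + m := by exact_mod_cast hsum
        obtain ⟨n, s', u, hs', hu', he⟩ := ih m (by omega) y hy0 hm
        refine ⟨n + 1, s * s', u, by rw [map_mul]; exact hs.mul hs', hu', ?_⟩
        calc s * s' * x = s' * (s * x) := by ring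
          _ = s' * (p₁ * y) := by rw [hsy]
          _ = p₁ * (s' * y) := by ring
          _ = p₁ * (p₁ ^ n * u) := by rw [he]
          _ = p₁ ^ (n + 1) * u := by ring
  intro x hx
  obtain ⟨k, hk⟩ := exists_addVal_eq hx
  exact main k x hx hk

theorem key_addVal {x s u : T} {n d : ℕ} (hd : addVal R (φ p₁) = d) (hs : IsUnit (φ s))
    (hu : IsUnit (φ u)) (he : s * x = p₁ ^ n * u) : addVal R (φ x) = (n * d : ℕ) := by
  have h := congrArg (fun t => addVal R (φ t)) he
  simp only [map_mul, map_pow, addVal_mul, addVal_pow, addVal_eq_zero_iff.mpr hs,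
    addVal_eq_zero_iff.mpr hu, zero_add, add_zero, hd] at h
  rw [h, nsmul_eq_mul, Nat.cast_mul]

theorem key_irreducible (h0 : φ p₁ ≠ 0) (h1 : ¬ IsUnit (φ p₁))
    (hstar : ∀ x : T, ¬ IsUnit (φ x) → ∃ s y : T, IsUnit (φ s) ∧ s * x = p₁ * y)
    (hfrac : ∀ r : R, ∃ x y : T, φ y ≠ 0 ∧ r * φ y = φ x) : Irreducible (φ p₁) := by
  obtain ⟨ϖ, hϖ⟩ := exists_irreducible R
  obtain ⟨x, y, hy0, hxy⟩ := hfrac ϖ
  have hx0 : φ x ≠ 0 := by rw [← hxy]; exact mul_ne_zero hϖ.ne_zero hy0
  obtain ⟨n, s, u, hs, hu, he⟩ := key_factor φ p₁ h1 hstar x hx0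
  obtain ⟨m, s', u', hs', hu', he'⟩ := key_factor φ p₁ h1 hstar y hy0
  obtain ⟨d, hd⟩ := exists_addVal_eq h0
  have hvx := key_addVal φ p₁ hd hs hu he
  have hvy := key_addVal φ p₁ hd hs' hu' he'
  have hsum := congrArg (addVal R) hxy
  rw [addVal_mul, addVal_uniformizer hϖ, hvx, hvy] at hsum
  have hnat : 1 + m * d = n * d := by exact_mod_cast hsum
  have hd1 : d = 1 := by
    have h2 : d ∣ 1 := by
      have h3 : d ∣ n * d := Dvd.intro_left n rfl
      have h4 : d ∣ m * d := Dvd.intro_left m rfl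
      rw [← hnat] at h3
      exact (Nat.dvd_add_left h4).mp h3
    exact Nat.dvd_one.mp h2
  rw [hd1, Nat.cast_one, ← addVal_uniformizer hϖ] at hd
  exact ((addVal_eq_iff_associated _ _).mp hd).symm.irreducible hϖ

theorem key_frac (h0 : φ p₁ ≠ 0) (h1 : ¬ IsUnit (φ p₁))
    (hstar : ∀ x : T, ¬ IsUnit (φ x) → ∃ s y : T, IsUnit (φ s) ∧ s * x = p₁ * y)
    (hfrac : ∀ r : R, ∃ x y : T, φ y ≠ 0 ∧ r * φ y = φ x) (r : R) :
    ∃ a b : T, IsUnit (φ b) ∧ r * φ b = φ a := by
  by_cases hr : r = 0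
  · exact ⟨0, 1, by rw [map_one]; exact isUnit_one, by rw [hr, zero_mul, map_zero]⟩
  have hirr := key_irreducible φ p₁ h0 h1 hstar hfrac
  obtain ⟨x, y, hy0, hxy⟩ := hfrac r
  have hx0 : φ x ≠ 0 := by rw [← hxy]; exact mul_ne_zero hr hy0
  obtain ⟨n, s, u, hs, hu, he⟩ := key_factor φ p₁ h1 hstar x hx0
  obtain ⟨m, s', u', hs', hu', he'⟩ := key_factor φ p₁ h1 hstar y hy0
  have hd : addVal R (φ p₁) = (1 : ℕ) := by rw [Nat.cast_one]; exact addVal_uniformizer hirr
  have hvx := key_addVal φ p₁ hd hs hu he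
  have hvy := key_addVal φ p₁ hd hs' hu' he'
  obtain ⟨k, hk⟩ := exists_addVal_eq hr
  have hsum := congrArg (addVal R) hxy
  rw [addVal_mul, hk, hvx, hvy] at hsum
  have hnat : k + m * 1 = n * 1 := by exact_mod_cast hsum
  have hmn : n = m + k := by omega
  refine ⟨p₁ ^ k * u * s', u' * s, by rw [map_mul]; exact hu'.mul hs, ?_⟩
  have hpm : φ p₁ ^ m ≠ 0 := pow_ne_zero _ h0
  apply mul_left_cancel₀ hpm
  have e1 : φ s * φ x = φ p₁ ^ n * φ u := by rw [← map_mul, he, map_mul, map_pow]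
  have e2 : φ s' * φ y = φ p₁ ^ m * φ u' := by rw [← map_mul, he', map_mul, map_pow]
  calc φ p₁ ^ m * (r * φ (u' * s)) = r * (φ p₁ ^ m * φ u') * φ s := by rw [map_mul]; ring
    _ = r * (φ s' * φ y) * φ s := by rw [e2]
    _ = (r * φ y) * φ s' * φ s := by ring
    _ = φ x * φ s' * φ s := by rw [hxy]
    _ = (φ s * φ x) * φ s' := by ring
    _ = φ p₁ ^ n * φ u * φ s' := by rw [e1]
    _ = φ p₁ ^ m * φ (p₁ ^ k * u * s') := by
      rw [hmn, map_mul, map_mul, map_pow, pow_add]; ring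

end Key

end Groth.Agent.Lib.H40FSmoothA
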