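import Mathlib
import Groth.Prelude.Def_EtRam
import Groth.Agent.Lib.H40FSmoothA
import Groth.Agent.Lib.GeomReducedFibres

/-!
# The formally smooth case: tensor product construction (helper40)
-/

set_option autoImplicit false
set_option linter.unusedSectionVars false
universe u

open TensorProduct IsLocalRing

namespace Groth.Agent.Lib.H40FSmoothB

section Setup

variable {A A₁ B W : Type u} [CommRing A] [IsDomain A] [IsDiscreteValuationRing A]
  [CommRing A₁] [IsDomain A₁] [IsDiscreteValuationRing A₁]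
  [CommRing B] [IsDomain B] [IsDiscreteValuationRing B]
  [CommRing W] [IsDomain W] [IsDiscreteValuationRing W]
  [Algebra A A₁] [Algebra A B] [Algebra A₁ W] [Algebra B W] [Algebra A W]
  [IsScalarTower A A₁ W] [IsScalarTower A B W]
  [IsLocalHom (algebraMap A A₁)] [IsLocalHom (algebraMap A B)] [IsLocalHom (algebraMap A₁ W)]
  [IsLocalHom (algebraMap B W)] [IsLocalHom (algebraMap A W)]

variable (A A₁ B W)

/-- the map `A₁ ⊗[A] B → W`. -/
noncomputable def phi : A₁ ⊗[A] B →ₐ[A] W :=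
  Algebra.TensorProduct.productMap (IsScalarTower.toAlgHom A A₁ W) (IsScalarTower.toAlgHom A B W)

/-- the map `A₁ ⊗[A] B → κ(A₁) ⊗[A] κ(B)`. -/
noncomputable def Phi : A₁ ⊗[A] B →ₐ[A₁] ResidueField A₁ ⊗[A] ResidueField B :=
  Algebra.TensorProduct.map (IsScalarTower.toAlgHom A₁ A₁ (ResidueField A₁))
    (IsScalarTower.toAlgHom A B (ResidueField B))

/-- the map `κ(A₁) ⊗[A] κ(B) → κ(W)`. -/
noncomputable def psi : ResidueField A₁ ⊗[A] ResidueField B →ₐ[ResidueField A₁] ResidueField W :=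
  Algebra.TensorProduct.lift (Algebra.ofId (ResidueField A₁) (ResidueField W))
    (IsScalarTower.toAlgHom A (ResidueField B) (ResidueField W)) (fun _ _ => Commute.all _ _)

variable {A A₁ B W}

theorem phi_tmul (a : A₁) (b : B) : phi A A₁ B W (a ⊗ₜ b) = algebraMap A₁ W a * algebraMap B W b := by
  simp [phi]

theorem Phi_tmul (a : A₁) (b : B) : Phi A A₁ B (a ⊗ₜ b) = residue A₁ a ⊗ₜ residue B b := by
  simp [Phi]

theorem psi_tmul (a : ResidueField A₁) (b : ResidueField B) :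
    psi A A₁ B W (a ⊗ₜ b) = algebraMap _ (ResidueField W) a * algebraMap _ (ResidueField W) b := by
  simp [psi]

theorem psi_Phi (t : A₁ ⊗[A] B) : psi A A₁ B W (Phi A A₁ B t) = residue W (phi A A₁ B W t) := by
  induction t using TensorProduct.induction_on with
  | zero => simp
  | tmul a b =>
    rw [Phi_tmul, psi_tmul, phi_tmul, map_mul]
    rfl
  | add x y hx hy => rw [map_add, map_add, map_add, map_add, hx, hy]

theorem Phi_surjective : Function.Surjective (Phi A A₁ B) :=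
  Algebra.TensorProduct.map_surjective _ _ Ideal.Quotient.mk_surjective Ideal.Quotient.mk_surjective

theorem ker_Phi (hw : EtRam.IsWeaklyUnramified A B) {π₁ : A₁}
    (hπ₁ : maximalIdeal A₁ = Ideal.span {π₁}) :
    RingHom.ker (Phi A A₁ B) = Ideal.span {(π₁ ⊗ₜ[A] (1 : B) : A₁ ⊗[A] B)} := by
  have h := Algebra.TensorProduct.map_ker (IsScalarTower.toAlgHom A₁ A₁ (ResidueField A₁))
    (IsScalarTower.toAlgHom A B (ResidueField B)) Ideal.Quotient.mk_surjective
    Ideal.Quotient.mk_surjective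
  have hk1 : RingHom.ker (IsScalarTower.toAlgHom A₁ A₁ (ResidueField A₁)) = maximalIdeal A₁ :=
    Ideal.mk_ker
  have hk2 : RingHom.ker (IsScalarTower.toAlgHom A B (ResidueField B)) = maximalIdeal B :=
    Ideal.mk_ker
  change RingHom.ker (Algebra.TensorProduct.map _ _) = _
  rw [h, hk1, hk2]
  have e1 : (maximalIdeal A₁).map (Algebra.TensorProduct.includeLeft : A₁ →ₐ[A] A₁ ⊗[A] B) =
      Ideal.span {(π₁ ⊗ₜ[A] (1 : B) : A₁ ⊗[A] B)} := by
    rw [hπ₁, Ideal.map_span, Set.image_singleton]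
    rfl
  rw [e1]
  apply le_antisymm
  · apply sup_le le_rfl
    rw [← hw, Ideal.map_le_iff_le_comap, Ideal.map_le_iff_le_comap]
    intro a ha
    rw [Ideal.mem_comap, Ideal.mem_comap]
    have hloc : algebraMap A A₁ a ∈ maximalIdeal A₁ := by
      have h3 : maximalIdeal A ≤ (maximalIdeal A₁).comap (algebraMap A A₁) :=
        ((local_hom_TFAE (algebraMap A A₁)).out 0 3).mp ‹IsLocalHom (algebraMap A A₁)›
      exact h3 ha
    rw [hπ₁, Ideal.mem_span_singleton'] at hloc
    obtain ⟨c, hc⟩ := hloc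
    rw [Ideal.mem_span_singleton']
    refine ⟨c ⊗ₜ 1, ?_⟩
    change _ = (1 : A₁) ⊗ₜ[A] (algebraMap A B a)
    rw [Algebra.TensorProduct.tmul_mul_tmul, mul_one, hc, Algebra.algebraMap_eq_smul_one,
      Algebra.algebraMap_eq_smul_one, TensorProduct.smul_tmul]
  · exact le_sup_left

section Fbar

variable (A A₁ B) in
theorem compat1 : TensorProduct.CompatibleSMul A (ResidueField A) (ResidueField A₁) (ResidueField B) :=
  TensorProduct.CompatibleSMul.of_algebraMap_surjective _ _ Ideal.Quotient.mk_surjective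

variable (A A₁ B) in
/-- `κ(A₁) ⊗[κ(A)] κ(B) ≃ κ(A₁) ⊗[A] κ(B)`. -/
noncomputable def eF : ResidueField A₁ ⊗[ResidueField A] ResidueField B ≃ₐ[ResidueField A₁]
    ResidueField A₁ ⊗[A] ResidueField B :=
  haveI := compat1 A A₁ B
  Algebra.TensorProduct.equivOfCompatibleSMul A (ResidueField A) (ResidueField A₁)
    (ResidueField A₁) (ResidueField B)

variable (A A₁ B) in
theorem isReduced_F [Algebra.IsGeometricallyReduced (ResidueField A) (ResidueField B)] :
    IsReduced (ResidueField A₁ ⊗[A] ResidueField B) := by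
  have h := Groth.Agent.Lib.GeomReducedFibres.isReduced_tensorProduct_of_isGeometricallyReduced
    (ResidueField A) (ResidueField B) (ResidueField A₁)
  exact isReduced_of_injective (eF A A₁ B).symm (eF A A₁ B).symm.injective

variable (A A₁ B) in
theorem isArtinianRing_F [Module.Finite (ResidueField A) (ResidueField A₁)] :
    IsArtinianRing (ResidueField A₁ ⊗[A] ResidueField B) := by
  have h1 : Module.Finite (ResidueField B) (ResidueField B ⊗[ResidueField A] ResidueField A₁) :=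
    inferInstance
  have h2 : IsArtinianRing (ResidueField B ⊗[ResidueField A] ResidueField A₁) :=
    IsArtinianRing.of_finite (ResidueField B) _
  let e : ResidueField B ⊗[ResidueField A] ResidueField A₁ ≃+*
      ResidueField A₁ ⊗[A] ResidueField B :=
    (Algebra.TensorProduct.comm (ResidueField A) (ResidueField B) (ResidueField A₁)).toRingEquiv.trans
      (eF A A₁ B).toRingEquiv
  exact Function.Surjective.isArtinianRing (f := e.toRingHom) e.surjective

end Fbar

section Main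

variable [Algebra.IsGeometricallyReduced (ResidueField A) (ResidueField B)]
  [Module.Finite (ResidueField A) (ResidueField A₁)]

theorem vnr_F (x : ResidueField A₁ ⊗[A] ResidueField B) : ∃ y, x * x * y = x := by
  have := isReduced_F A A₁ B
  have := isArtinianRing_F A A₁ B
  exact Groth.Agent.Lib.H40FSmoothA.vnr_of_artinian_reduced x

/-- elements in the kernel of `ψ` are killed by an element mapping to `1`. -/
theorem psi_annihilator (q : ResidueField A₁ ⊗[A] ResidueField B) (hq : psi A A₁ B W q = 0) :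
    ∃ s, psi A A₁ B W s = 1 ∧ s * q = 0 := by
  obtain ⟨y, hy⟩ := vnr_F q
  refine ⟨1 - q * y, by rw [map_sub, map_one, map_mul, hq, zero_mul, sub_zero], ?_⟩
  rw [sub_mul, one_mul, mul_comm (q * y) q, ← mul_assoc, hy, sub_self]

theorem star (hw : EtRam.IsWeaklyUnramified A B) {π₁ : A₁}
    (hπ₁ : maximalIdeal A₁ = Ideal.span {π₁}) (x : A₁ ⊗[A] B)
    (hx : ¬ IsUnit (phi A A₁ B W x)) :
    ∃ s y : A₁ ⊗[A] B, IsUnit (phi A A₁ B W s) ∧ s * x = (π₁ ⊗ₜ[A] (1 : B)) * y := by
  have h0 : psi A A₁ B W (Phi A A₁ B x) = 0 := by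
    rw [psi_Phi, residue_eq_zero_iff]
    exact (mem_maximalIdeal _).mpr hx
  obtain ⟨sb, hs1, hs0⟩ := psi_annihilator (W := W) _ h0
  obtain ⟨s, rfl⟩ := Phi_surjective sb
  have hker : s * x ∈ RingHom.ker (Phi A A₁ B) := by
    rw [RingHom.mem_ker, map_mul, hs0]
  rw [ker_Phi hw hπ₁, Ideal.mem_span_singleton'] at hker
  obtain ⟨y, hy⟩ := hker
  refine ⟨s, y, ?_, by rw [← hy, mul_comm]⟩
  rw [psi_Phi] at hs1
  rw [← residue_ne_zero_iff_isUnit, hs1]
  exact one_ne_zero

theorem phi_pi_not_isUnit {π₁ : A₁} (hπ₁ : maximalIdeal A₁ = Ideal.span {π₁}) :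
    ¬ IsUnit (phi A A₁ B W (π₁ ⊗ₜ[A] (1 : B))) := by
  rw [phi_tmul, map_one, mul_one]
  intro h
  have h1 : IsUnit π₁ := isUnit_of_map_unit (algebraMap A₁ W) π₁ h
  have h2 : π₁ ∈ maximalIdeal A₁ := by rw [hπ₁]; exact Ideal.mem_span_singleton_self π₁
  exact (mem_maximalIdeal _).mp h2 h1

theorem weaklyUnramified (hw : EtRam.IsWeaklyUnramified A B)
    (hinj : Function.Injective (algebraMap A₁ W))
    (hfrac : ∀ r : W, ∃ x y : A₁ ⊗[A] B, phi A A₁ B W y ≠ 0 ∧
      r * phi A A₁ B W y = phi A A₁ B W x) :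
    EtRam.IsWeaklyUnramified A₁ W := by
  obtain ⟨π₁, hπ₁irr⟩ := IsDiscreteValuationRing.exists_irreducible A₁
  have hπ₁ : maximalIdeal A₁ = Ideal.span {π₁} := hπ₁irr.maximalIdeal_eq
  have h0 : (phi A A₁ B W : A₁ ⊗[A] B →+* W) (π₁ ⊗ₜ[A] (1 : B)) ≠ 0 := by
    change phi A A₁ B W (π₁ ⊗ₜ[A] (1 : B)) ≠ 0
    rw [phi_tmul, map_one, mul_one]
    exact fun h => hπ₁irr.ne_zero (hinj (h.trans (map_zero _).symm))
  have hirr := Groth.Agent.Lib.H40FSmoothA.key_irreducible (phi A A₁ B W : A₁ ⊗[A] B →+* W)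
    (π₁ ⊗ₜ[A] (1 : B)) h0 (phi_pi_not_isUnit hπ₁) (star hw hπ₁) hfrac
  have hirr' : Irreducible (algebraMap A₁ W π₁) := by
    have : (phi A A₁ B W : A₁ ⊗[A] B →+* W) (π₁ ⊗ₜ[A] (1 : B)) = algebraMap A₁ W π₁ := by
      change phi A A₁ B W (π₁ ⊗ₜ[A] (1 : B)) = _
      rw [phi_tmul, map_one, mul_one]
    rw [← this]; exact hirr
  change (maximalIdeal A₁).map (algebraMap A₁ W) = maximalIdeal W
  rw [hπ₁, Ideal.map_span, Set.image_singleton, hirr'.maximalIdeal_eq]

theorem psi_surjective (hw : EtRam.IsWeaklyUnramified A B)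
    (hinj : Function.Injective (algebraMap A₁ W))
    (hfrac : ∀ r : W, ∃ x y : A₁ ⊗[A] B, phi A A₁ B W y ≠ 0 ∧
      r * phi A A₁ B W y = phi A A₁ B W x) :
    Function.Surjective (psi A A₁ B W) := by
  obtain ⟨π₁, hπ₁irr⟩ := IsDiscreteValuationRing.exists_irreducible A₁
  have hπ₁ : maximalIdeal A₁ = Ideal.span {π₁} := hπ₁irr.maximalIdeal_eq
  have h0 : (phi A A₁ B W : A₁ ⊗[A] B →+* W) (π₁ ⊗ₜ[A] (1 : B)) ≠ 0 := by
    change phi A A₁ B W (π₁ ⊗ₜ[A] (1 : B)) ≠ 0
    rw [phi_tmul, map_one, mul_one]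
    exact fun h => hπ₁irr.ne_zero (hinj (h.trans (map_zero _).symm))
  intro z
  obtain ⟨w, rfl⟩ := residue_surjective z
  obtain ⟨a, b, hb, hab⟩ := Groth.Agent.Lib.H40FSmoothA.key_frac
    (phi A A₁ B W : A₁ ⊗[A] B →+* W) (π₁ ⊗ₜ[A] (1 : B)) h0 (phi_pi_not_isUnit hπ₁)
    (star hw hπ₁) hfrac w
  change IsUnit (phi A A₁ B W b) at hb
  change w * phi A A₁ B W b = phi A A₁ B W a at hab
  obtain ⟨y, hy⟩ := vnr_F (Phi A A₁ B b)
  have hb' : psi A A₁ B W (Phi A A₁ B b) ≠ 0 := by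
    rw [psi_Phi, residue_ne_zero_iff_isUnit]; exact hb
  have hy' : psi A A₁ B W (Phi A A₁ B b) * psi A A₁ B W y = 1 := by
    have h1 := congrArg (psi A A₁ B W) hy
    rw [map_mul, map_mul, mul_assoc] at h1
    exact mul_left_cancel₀ hb' (h1.trans (mul_one _).symm)
  refine ⟨Phi A A₁ B a * y, ?_⟩
  rw [map_mul, psi_Phi, ← hab, map_mul, ← psi_Phi, mul_assoc, hy', mul_one]

theorem isReduced_base :
    IsReduced (AlgebraicClosure (ResidueField A₁) ⊗[ResidueField A₁]
      (ResidueField A₁ ⊗[A] ResidueField B)) := by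
  set Ω := AlgebraicClosure (ResidueField A₁)
  have h1 : IsReduced (Ω ⊗[ResidueField A] ResidueField B) :=
    Groth.Agent.Lib.GeomReducedFibres.isReduced_tensorProduct_of_isGeometricallyReduced
      (ResidueField A) (ResidueField B) Ω
  have hc : TensorProduct.CompatibleSMul A (ResidueField A) Ω (ResidueField B) :=
    TensorProduct.CompatibleSMul.of_algebraMap_surjective _ _ Ideal.Quotient.mk_surjective
  let e1 : Ω ⊗[ResidueField A] ResidueField B ≃ₐ[Ω] Ω ⊗[A] ResidueField B :=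
    Algebra.TensorProduct.equivOfCompatibleSMul A (ResidueField A) Ω Ω (ResidueField B)
  let e2 : Ω ⊗[ResidueField A₁] (ResidueField A₁ ⊗[A] ResidueField B) ≃ₐ[Ω]
      Ω ⊗[A] ResidueField B :=
    Algebra.TensorProduct.cancelBaseChange A (ResidueField A₁) Ω Ω (ResidueField B)
  exact isReduced_of_injective (e2.trans e1.symm) (e2.trans e1.symm).injective

theorem geomReduced (hsurj : Function.Surjective (psi A A₁ B W)) :
    Algebra.IsGeometricallyReduced (ResidueField A₁) (ResidueField W) := by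
  rw [Algebra.isGeometricallyReduced_field_iff]
  set Ω := AlgebraicClosure (ResidueField A₁)
  have hR₁ := isReduced_base (A := A) (A₁ := A₁) (B := B)
  let ρ : Ω ⊗[ResidueField A₁] (ResidueField A₁ ⊗[A] ResidueField B) →ₐ[ResidueField A₁]
      Ω ⊗[ResidueField A₁] ResidueField W :=
    Algebra.TensorProduct.map (AlgHom.id (ResidueField A₁) Ω) (psi A A₁ B W)
  have hρsurj : Function.Surjective ρ :=
    Algebra.TensorProduct.map_surjective _ _ Function.surjective_id hsurj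
  have hker : RingHom.ker ρ = (RingHom.ker (psi A A₁ B W)).map
      (Algebra.TensorProduct.includeRight : _ →ₐ[ResidueField A₁]
        Ω ⊗[ResidueField A₁] (ResidueField A₁ ⊗[A] ResidueField B)) :=
    Algebra.TensorProduct.lTensor_ker (psi A A₁ B W) hsurj
  let J : Ideal (Ω ⊗[ResidueField A₁] (ResidueField A₁ ⊗[A] ResidueField B)) :=
    { carrier := {r | ∃ s : ResidueField A₁ ⊗[A] ResidueField B, psi A A₁ B W s = 1 ∧
        ((1 : Ω) ⊗ₜ[ResidueField A₁] s) * r = 0}
      zero_mem' := ⟨1, map_one _, mul_zero _⟩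
      add_mem' := by
        rintro r₁ r₂ ⟨s₁, h1, h1'⟩ ⟨s₂, h2, h2'⟩
        refine ⟨s₁ * s₂, by rw [map_mul, h1, h2, mul_one], ?_⟩
        have e : ((1 : Ω) ⊗ₜ[ResidueField A₁] (s₁ * s₂)) =
            ((1 : Ω) ⊗ₜ[ResidueField A₁] s₁) * ((1 : Ω) ⊗ₜ[ResidueField A₁] s₂) := by
          rw [Algebra.TensorProduct.tmul_mul_tmul, mul_one]
        rw [e, mul_add, mul_comm (_ ⊗ₜ[ResidueField A₁] s₁) _, mul_assoc, h1', mul_zero, zero_add,
          mul_comm (_ ⊗ₜ[ResidueField A₁] s₂) _, mul_assoc, h2', mul_zero]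
      smul_mem' := by
        rintro c r ⟨s, h1, h1'⟩
        refine ⟨s, h1, ?_⟩
        rw [smul_eq_mul, mul_left_comm, h1', mul_zero] }
  have hle : RingHom.ker ρ ≤ J := by
    rw [hker, Ideal.map_le_iff_le_comap]
    intro q hq
    obtain ⟨s, hs1, hs0⟩ := psi_annihilator (W := W) q hq
    refine ⟨s, hs1, ?_⟩
    change ((1 : Ω) ⊗ₜ[ResidueField A₁] s) * ((1 : Ω) ⊗ₜ[ResidueField A₁] q) = 0
    rw [Algebra.TensorProduct.tmul_mul_tmul, hs0, TensorProduct.tmul_zero]
  refine Groth.Agent.Lib.H40FSmoothA.isReduced_of_surjective_of_annihilator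
    ρ.toRingHom hρsurj ?_
  intro r hr
  obtain ⟨s, hs1, hs0⟩ := hle hr
  refine ⟨(1 : Ω) ⊗ₜ[ResidueField A₁] s, ?_, hs0⟩
  change ρ ((1 : Ω) ⊗ₜ[ResidueField A₁] s) = 1
  rw [Algebra.TensorProduct.map_tmul, hs1]
  rfl

end Main

end Setup

end Groth.Agent.Lib.H40FSmoothB
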