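import Groth.Agent.Lib.H40TotRamStruct

set_option autoImplicit false
universe u

namespace Groth.Agent.Lib.H40EFBasis

open IsLocalRing
open Groth.Agent.Lib.H40TotRamCriterion (val_unit val_algebraMap_K le_map_sum_of_pairwise_ne
  algebraMap_injective')

section EF

variable {A K N : Type u} [CommRing A] [IsDomain A] [IsDiscreteValuationRing A] [Field K]
  [Algebra A K] [IsFractionRing A K] [Field N] [Algebra K N] [Algebra A N] [IsScalarTower A K N]

/-- elements of `K` of valuation `≤ 1` come from `A`. -/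
theorem mem_range_of_val_le_one {W : ValuationSubring N}
    (hW : EtRam.Dominates A (algebraMap A N) W) {c : K}
    (hc : W.valuation (algebraMap K N c) ≤ 1) : c ∈ Set.range (algebraMap A K) := by
  by_cases hc0 : c = 0
  · exact ⟨0, by rw [hc0, map_zero]⟩
  obtain ⟨π, hπirr⟩ := IsDiscreteValuationRing.exists_irreducible A
  have hπmem : π ∈ maximalIdeal A := by
    rw [hπirr.maximalIdeal_eq]; exact Ideal.mem_span_singleton_self π
  have hinj : Function.Injective (algebraMap A N) := algebraMap_injective' (K := K)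
  have hϖ1 : W.valuation (algebraMap A N π) < 1 := hW.2 π hπmem
  have hϖpos : 0 < W.valuation (algebraMap A N π) := by
    rw [zero_lt_iff, Valuation.ne_zero_iff]
    exact fun h => hπirr.ne_zero (hinj (h.trans (map_zero _).symm))
  obtain ⟨m, hm, hm'⟩ := val_algebraMap_K hπirr hW hc0
  apply hm'
  rw [hm] at hc
  exact (zpow_le_one_iff_right_of_lt_one₀ hϖpos hϖ1).mp hc

/-- valuation of a `K`-combination of elements with `κ_A`-independent residues. -/
theorem val_row {π : A} (hπ : maximalIdeal A = Ideal.span {π}) {f : ℕ}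
    {W : ValuationSubring N} (hW : EtRam.Dominates A (algebraMap A N) W)
    (z : Fin f → N) (hz : ∀ j, z j ∈ W)
    (hind : ∀ a : Fin f → A, W.valuation (∑ j, algebraMap A N (a j) * z j) < 1 →
      ∀ j, a j ∈ maximalIdeal A)
    (r : Fin f → K) (hr : r ≠ 0) :
    ∃ m : ℤ, W.valuation (∑ j, algebraMap K N (r j) * z j) = W.valuation (algebraMap A N π) ^ m := by
  classical
  have hπirr : Irreducible π := (IsDiscreteValuationRing.irreducible_iff_uniformizer π).mpr hπ
  obtain ⟨j₁, hj₁⟩ : ∃ j, r j ≠ 0 := by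
    by_contra hcon
    push Not at hcon
    exact hr (funext hcon)
  obtain ⟨j₀, -, hmax⟩ := Finset.exists_max_image Finset.univ
    (fun j => W.valuation (algebraMap K N (r j))) ⟨j₁, Finset.mem_univ _⟩
  have hj₀ : r j₀ ≠ 0 := by
    intro h0
    have h1 := hmax j₁ (Finset.mem_univ _)
    simp only [h0, map_zero, le_zero_iff, Valuation.zero_iff] at h1
    exact hj₁ ((algebraMap K N).injective (h1.trans (map_zero _).symm))
  have hj₀N : algebraMap K N (r j₀) ≠ 0 := by rwa [Ne, map_eq_zero]
  have hv0 : W.valuation (algebraMap K N (r j₀)) ≠ 0 := (Valuation.ne_zero_iff _).mpr hj₀N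
  -- the normalized coefficients
  have hex : ∀ j, ∃ a : A, algebraMap A K a = r j / r j₀ := by
    intro j
    have h1 : W.valuation (algebraMap K N (r j / r j₀)) ≤ 1 := by
      rw [map_div₀, map_div₀]
      exact div_le_one_of_le₀ (hmax j (Finset.mem_univ _)) zero_le
    exact mem_range_of_val_le_one hW h1
  choose a ha using hex
  have hsum : ∑ j, algebraMap K N (r j) * z j =
      algebraMap K N (r j₀) * ∑ j, algebraMap A N (a j) * z j := by
    rw [Finset.mul_sum]
    apply Finset.sum_congr rfl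
    intro j _
    rw [IsScalarTower.algebraMap_apply A K N, ha, map_div₀]
    field_simp
  have hone : W.valuation (∑ j, algebraMap A N (a j) * z j) = 1 := by
    apply le_antisymm
    · rw [ValuationSubring.valuation_le_one_iff]
      exact W.toSubring.sum_mem (fun j _ => W.mul_mem _ _ (hW.1 _) (hz j))
    · by_contra hcon
      push Not at hcon
      have h1 := hind a hcon j₀
      have h2 : a j₀ = 1 := by
        apply IsFractionRing.injective A K
        rw [ha, div_self hj₀, map_one]
      rw [h2] at h1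
      exact (Ideal.ne_top_iff_one _).mp (maximalIdeal.isMaximal A).ne_top h1
  obtain ⟨m, hm, -⟩ := val_algebraMap_K hπirr hW hj₀
  exact ⟨m, by rw [hsum, map_mul, hone, mul_one, hm]⟩

/-- the `e`-`f` lemma: valuations of `K`-combinations of `θ^i z_j`. -/
theorem ef_val {π : A} (hπ : maximalIdeal A = Ideal.span {π}) {e f : ℕ} (he : 0 < e)
    {θ : N} {W : ValuationSubring N} (hW : EtRam.Dominates A (algebraMap A N) W)
    (hθ : W.valuation θ ^ e = W.valuation (algebraMap A N π))
    (z : Fin f → N) (hz : ∀ j, z j ∈ W)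
    (hind : ∀ a : Fin f → A, W.valuation (∑ j, algebraMap A N (a j) * z j) < 1 →
      ∀ j, a j ∈ maximalIdeal A)
    (c : Fin e → Fin f → K) (hc : c ≠ 0) :
    ∃ k : ℤ, W.valuation (∑ i, (∑ j, algebraMap K N (c i j) * z j) * θ ^ (i : ℕ)) =
      W.valuation θ ^ k := by
  classical
  have hπirr : Irreducible π := (IsDiscreteValuationRing.irreducible_iff_uniformizer π).mpr hπ
  have hπmem : π ∈ maximalIdeal A := by rw [hπ]; exact Ideal.mem_span_singleton_self π
  have hinj : Function.Injective (algebraMap A N) := algebraMap_injective' (K := K)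
  have hϖ1 : W.valuation (algebraMap A N π) < 1 := hW.2 π hπmem
  have hϖ0 : W.valuation (algebraMap A N π) ≠ 0 := by
    rw [Valuation.ne_zero_iff]
    exact fun h => hπirr.ne_zero (hinj (h.trans (map_zero _).symm))
  have hγ0 : W.valuation θ ≠ 0 := by
    intro h
    rw [h, zero_pow he.ne'] at hθ
    exact hϖ0 hθ.symm
  have hγpos : 0 < W.valuation θ := zero_lt_iff.mpr hγ0
  have hγ1 : W.valuation θ < 1 := by
    by_contra hcon
    push Not at hcon
    have := one_le_pow₀ hcon (n := e)
    rw [hθ] at this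
    exact absurd hϖ1 (not_lt.mpr this)
  set T : Fin e → N := fun i => (∑ j, algebraMap K N (c i j) * z j) * θ ^ (i : ℕ) with hT
  -- valuation of each term
  have hterm : ∀ i, c i ≠ 0 → ∃ m : ℤ, W.valuation (T i) = W.valuation θ ^ ((e : ℤ) * m + (i : ℕ)) := by
    intro i hi
    obtain ⟨m, hm⟩ := val_row hπ hW z hz hind (c i) hi
    refine ⟨m, ?_⟩
    rw [hT]
    simp only
    rw [map_mul, map_pow, hm, ← hθ, zpow_add₀ hγ0, zpow_mul, zpow_natCast, zpow_natCast]
  have hterm0 : ∀ i, c i = 0 → T i = 0 := by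
    intro i hi
    rw [hT]
    simp only [hi, Pi.zero_apply, map_zero, zero_mul, Finset.sum_const_zero]
  have hdist : ∀ i ∈ (Finset.univ : Finset (Fin e)), ∀ j ∈ (Finset.univ : Finset (Fin e)), i ≠ j →
      W.valuation (T i) ≠ 0 → W.valuation (T i) ≠ W.valuation (T j) := by
    intro i _ j _ hij h0 heq
    have hci : c i ≠ 0 := fun h => h0 (by rw [hterm0 i h, map_zero])
    have hcj : c j ≠ 0 := fun h => h0 (by rw [heq, hterm0 j h, map_zero])
    obtain ⟨mi, hmi⟩ := hterm i hci
    obtain ⟨mj, hmj⟩ := hterm j hcj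
    rw [hmi, hmj] at heq
    have h1 := zpow_right_injective₀ hγpos hγ1.ne heq
    apply hij
    apply Fin.ext
    have h2 : ((i : ℕ) : ℤ) % e = ((j : ℕ) : ℤ) % e := by
      have := congrArg (· % (e : ℤ)) h1
      simpa [Int.add_mul_emod_self_left] using this
    rw [Int.emod_eq_of_lt (by positivity) (by exact_mod_cast i.2),
      Int.emod_eq_of_lt (by positivity) (by exact_mod_cast j.2)] at h2
    exact_mod_cast h2
  have hle : ∀ i, W.valuation (T i) ≤ W.valuation (∑ j, T j) := fun i =>
    le_map_sum_of_pairwise_ne W.valuation Finset.univ T hdist i (Finset.mem_univ i)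
  obtain ⟨i₁, hi₁⟩ : ∃ i, c i ≠ 0 := by
    by_contra hcon
    push Not at hcon
    exact hc (funext hcon)
  obtain ⟨i₀, -, hmax⟩ := Finset.exists_max_image Finset.univ (fun i => W.valuation (T i))
    ⟨i₁, Finset.mem_univ _⟩
  have hi₀ : c i₀ ≠ 0 := by
    intro h0
    have h1 := hmax i₁ (Finset.mem_univ _)
    simp only [hterm0 i₀ h0, map_zero, le_zero_iff] at h1
    obtain ⟨m, hm⟩ := hterm i₁ hi₁
    rw [hm] at h1
    exact zpow_ne_zero _ hγ0 h1
  obtain ⟨m, hm⟩ := hterm i₀ hi₀
  refine ⟨(e : ℤ) * m + (i₀ : ℕ), ?_⟩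
  rw [← hm]
  apply le_antisymm
  · exact Valuation.map_sum_le _ (fun i _ => hmax i (Finset.mem_univ _))
  · exact hle i₀

/-- linear independence of the `θ^i z_j`. -/
theorem ef_linearIndependent {π : A} (hπ : maximalIdeal A = Ideal.span {π}) {e f : ℕ} (he : 0 < e)
    {θ : N} {W : ValuationSubring N} (hW : EtRam.Dominates A (algebraMap A N) W)
    (hθ : W.valuation θ ^ e = W.valuation (algebraMap A N π))
    (z : Fin f → N) (hz : ∀ j, z j ∈ W)
    (hind : ∀ a : Fin f → A, W.valuation (∑ j, algebraMap A N (a j) * z j) < 1 →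
      ∀ j, a j ∈ maximalIdeal A) :
    LinearIndependent K (fun ij : Fin e × Fin f => z ij.2 * θ ^ (ij.1 : ℕ)) := by
  classical
  rw [Fintype.linearIndependent_iff]
  intro g hsum
  by_contra hcon
  push Not at hcon
  obtain ⟨⟨i₀, j₀⟩, hij⟩ := hcon
  set c : Fin e → Fin f → K := fun i j => g (i, j) with hc
  have hc0 : c ≠ 0 := by
    intro h
    apply hij
    have := congrFun (congrFun h i₀) j₀
    exact this
  obtain ⟨k, hk⟩ := ef_val hπ he hW hθ z hz hind c hc0
  have hγ0 : W.valuation θ ≠ 0 := by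
    intro h
    rw [h, zero_pow he.ne'] at hθ
    have hπirr : Irreducible π := (IsDiscreteValuationRing.irreducible_iff_uniformizer π).mpr hπ
    have hinj : Function.Injective (algebraMap A N) := algebraMap_injective' (K := K)
    exact hπirr.ne_zero (hinj (((Valuation.zero_iff _).mp hθ.symm).trans (map_zero _).symm))
  have h1 : ∑ i, (∑ j, algebraMap K N (c i j) * z j) * θ ^ (i : ℕ) = 0 := by
    rw [← hsum, Fintype.sum_prod_type]
    apply Finset.sum_congr rfl
    intro i _
    rw [Finset.sum_mul]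
    apply Finset.sum_congr rfl
    intro j _
    rw [Algebra.smul_def, hc, mul_assoc]
  rw [h1, map_zero] at hk
  exact zpow_ne_zero _ hγ0 hk.symm


/-- if `[N:K] = e f` then every nonzero element has valuation a power of `v(θ)`. -/
theorem ef_val_of_finrank {π : A} (hπ : maximalIdeal A = Ideal.span {π}) {e f : ℕ} (he : 0 < e)
    {θ : N} {W : ValuationSubring N} (hW : EtRam.Dominates A (algebraMap A N) W)
    (hθ : W.valuation θ ^ e = W.valuation (algebraMap A N π))
    (z : Fin f → N) (hz : ∀ j, z j ∈ W)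
    (hind : ∀ a : Fin f → A, W.valuation (∑ j, algebraMap A N (a j) * z j) < 1 →
      ∀ j, a j ∈ maximalIdeal A)
    (hfin : Module.finrank K N = e * f) (hf : 0 < f) {y : N} (hy : y ≠ 0) :
    ∃ k : ℤ, W.valuation y = W.valuation θ ^ k := by
  classical
  have hli := ef_linearIndependent (K := K) hπ he hW hθ z hz hind
  have hfd : Module.Finite K N := Module.finite_of_finrank_pos (by rw [hfin]; positivity)
  have hspan := hli.span_eq_top_of_card_eq_finrank' (by
    rw [Fintype.card_prod, Fintype.card_fin, Fintype.card_fin, hfin])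
  have h2 : y ∈ Submodule.span K (Set.range (fun ij : Fin e × Fin f => z ij.2 * θ ^ (ij.1 : ℕ))) := by
    rw [hspan]; trivial
  obtain ⟨g, hg⟩ := (Submodule.mem_span_range_iff_exists_fun K).mp h2
  set c : Fin e → Fin f → K := fun i j => g (i, j) with hc
  have h1 : ∑ i, (∑ j, algebraMap K N (c i j) * z j) * θ ^ (i : ℕ) = y := by
    rw [← hg, Fintype.sum_prod_type]
    apply Finset.sum_congr rfl
    intro i _
    rw [Finset.sum_mul]
    apply Finset.sum_congr rfl
    intro j _
    rw [Algebra.smul_def, hc, mul_assoc]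
  have hc0 : c ≠ 0 := by
    intro h
    apply hy
    rw [← h1]
    simp [h]
  obtain ⟨k, hk⟩ := ef_val hπ he hW hθ z hz hind c hc0
  exact ⟨k, by rw [← h1, hk]⟩

end EF

section WU

variable {K₁ N : Type u} [Field K₁] [Field N]

/-- weak unramifiedness of `W ∩ K₁ → W` from a uniformizing element coming from `K₁`. -/
theorem weaklyUnramified_of_bound (W : ValuationSubring N) (f : K₁ →+* N) (θ : K₁)
    (hθ1 : W.valuation (f θ) < 1)
    (hbound : ∀ y : N, W.valuation y < 1 → W.valuation y ≤ W.valuation (f θ)) :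
    letI : Algebra (W.comap f) W := (EtRam.inclOfComap W f).toAlgebra
    EtRam.IsWeaklyUnramified (W.comap f) W := by
  let _ : Algebra (W.comap f) W := (EtRam.inclOfComap W f).toAlgebra
  have hθmem : θ ∈ W.comap f := by
    rw [ValuationSubring.mem_comap]; exact (W.valuation_le_one_iff _).mp hθ1.le
  have hθmax : (⟨θ, hθmem⟩ : W.comap f) ∈ maximalIdeal (W.comap f) := by
    rw [ValuationSubring.valuation_lt_one_iff]
    exact (Groth.Agent.Lib.H40TotRamStruct.comap_val_lt_one_iff W f θ).mpr hθ1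
  change (maximalIdeal (W.comap f)).map (EtRam.inclOfComap W f) = maximalIdeal W
  apply le_antisymm
  · rw [Ideal.map_le_iff_le_comap]
    intro x hx
    rw [Ideal.mem_comap, ValuationSubring.valuation_lt_one_iff]
    rw [ValuationSubring.valuation_lt_one_iff] at hx
    exact (Groth.Agent.Lib.H40TotRamStruct.comap_val_lt_one_iff W f x.1).mp hx
  · intro y hy
    rw [ValuationSubring.valuation_lt_one_iff] at hy
    have hle := hbound y.1 hy
    by_cases hΘ0 : f θ = 0
    · rw [hΘ0, map_zero, le_zero_iff, Valuation.zero_iff] at hle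
      have : y = 0 := Subtype.ext hle
      rw [this]; exact zero_mem _
    have htW : y.1 * (f θ)⁻¹ ∈ W := by
      rw [← W.valuation_le_one_iff, map_mul, map_inv₀]
      exact mul_inv_le_one_of_le₀ hle zero_le
    have hy_eq : y = EtRam.inclOfComap W f ⟨θ, hθmem⟩ * ⟨y.1 * (f θ)⁻¹, htW⟩ := by
      apply Subtype.ext
      change y.1 = f θ * (y.1 * (f θ)⁻¹)
      field_simp
    rw [hy_eq]
    exact Ideal.mul_mem_right _ _ (Ideal.mem_map_of_mem _ hθmax)

end WU

section Tensor

open TensorProduct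

variable {K M K₁ : Type u} [Field K] [Field M] [Field K₁] [Algebra K M] [Algebra K K₁]
  [FiniteDimensional K K₁]

/-- `M ⊗_K K₁` is a field as soon as every compositum has degree `[K₁:K]` over `M`. -/
theorem isField_tensor_of_finrank
    (h : ∀ (N : Type u) [Field N] [Algebra K N] [Algebra M N] [Algebra K₁ N] [IsScalarTower K M N]
      [IsScalarTower K K₁ N], Algebra.adjoin M (Set.range (algebraMap K₁ N)) = ⊤ →
      Module.finrank M N = Module.finrank K K₁) :
    IsField (M ⊗[K] K₁) := by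
  obtain ⟨𝔪, h𝔪⟩ := Ideal.exists_maximal (M ⊗[K] K₁)
  let _ : Field ((M ⊗[K] K₁) ⧸ 𝔪) := Ideal.Quotient.field 𝔪
  let _ : Algebra K₁ ((M ⊗[K] K₁) ⧸ 𝔪) :=
    ((Ideal.Quotient.mk 𝔪).comp
      (Algebra.TensorProduct.includeRight : K₁ →ₐ[K] M ⊗[K] K₁).toRingHom).toAlgebra
  have hK₁ : ∀ x : K₁, algebraMap K₁ ((M ⊗[K] K₁) ⧸ 𝔪) x = Ideal.Quotient.mk 𝔪 (1 ⊗ₜ x) := fun x => rfl
  have hLmap : ∀ l : M, algebraMap M ((M ⊗[K] K₁) ⧸ 𝔪) l = Ideal.Quotient.mk 𝔪 (l ⊗ₜ 1) := fun l => rfl
  have : IsScalarTower K M ((M ⊗[K] K₁) ⧸ 𝔪) := inferInstance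
  have : IsScalarTower K K₁ ((M ⊗[K] K₁) ⧸ 𝔪) := by
    refine IsScalarTower.of_algebraMap_eq (fun k => ?_)
    rw [hK₁, IsScalarTower.algebraMap_apply K M ((M ⊗[K] K₁) ⧸ 𝔪), hLmap]
    congr 1
    rw [Algebra.algebraMap_eq_smul_one, Algebra.algebraMap_eq_smul_one, TensorProduct.smul_tmul]
  have hadj : Algebra.adjoin M (Set.range (algebraMap K₁ ((M ⊗[K] K₁) ⧸ 𝔪))) = ⊤ := by
    rw [eq_top_iff]
    intro y hy
    clear hy
    obtain ⟨t, rfl⟩ := Ideal.Quotient.mk_surjective y
    induction t using TensorProduct.induction_on with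
    | zero => rw [map_zero]; exact Subalgebra.zero_mem _
    | tmul l x =>
      have h1 : Ideal.Quotient.mk 𝔪 (l ⊗ₜ[K] x) = l • algebraMap K₁ ((M ⊗[K] K₁) ⧸ 𝔪) x := by
        rw [hK₁, Algebra.smul_def, hLmap, ← map_mul, Algebra.TensorProduct.tmul_mul_tmul, mul_one,
          one_mul]
      rw [h1]
      exact Subalgebra.smul_mem _ (Algebra.subset_adjoin (Set.mem_range_self x)) l
    | add a b ha hb => rw [map_add]; exact Subalgebra.add_mem _ ha hb
  have hfr := h ((M ⊗[K] K₁) ⧸ 𝔪) hadj
  have hT : Module.finrank M (M ⊗[K] K₁) = Module.finrank K K₁ := Module.finrank_baseChange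
  have hsurj : Function.Surjective (Ideal.Quotient.mkₐ M 𝔪).toLinearMap :=
    Ideal.Quotient.mk_surjective
  have hinj : Function.Injective (Ideal.Quotient.mkₐ M 𝔪).toLinearMap :=
    (LinearMap.injective_iff_surjective_of_finrank_eq_finrank (hT.trans hfr.symm)).mpr hsurj
  have hbij : Function.Bijective (Ideal.Quotient.mk 𝔪) := ⟨hinj, hsurj⟩
  exact MulEquiv.isField (Field.toIsField ((M ⊗[K] K₁) ⧸ 𝔪))
    (RingEquiv.ofBijective (Ideal.Quotient.mk 𝔪) hbij).toMulEquiv

end Tensor

end Groth.Agent.Lib.H40EFBasis
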