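import Mathlib
import Groth.Prelude.Def_EtRam
import Groth.Agent.Lib.H40FSmoothB
import Groth.Agent.Lib.H40EFBasis
import Groth.Agent.Lib.KrullAkizuki
import Groth.Agent.Lib.DvrDominating
import Groth.Agent.Lib.ValDVR76C

/-!
# The formally smooth case: application to `EtRam.IsSolution` (helper40)
-/

set_option autoImplicit false
set_option linter.unusedSectionVars false
universe u

open TensorProduct IsLocalRing

namespace Groth.Agent.Lib.H40FSmoothC

section FiniteResidue

variable {A K N : Type u} [CommRing A] [IsDomain A] [IsDiscreteValuationRing A] [Field K]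
  [Algebra A K] [IsFractionRing A K] [Field N] [Algebra K N] [Algebra A N] [IsScalarTower A K N]
  [FiniteDimensional K N]

include K in
/-- the residue field extension of a valuation ring of a finite extension dominating `A` is
finite. -/
theorem finite_residue (V : ValuationSubring N) (hV : EtRam.Dominates A (algebraMap A N) V)
    [Algebra A V] (halg : ∀ a : A, ((algebraMap A V a : V) : N) = algebraMap A N a)
    [IsLocalHom (algebraMap A V)] :
    Module.Finite (ResidueField A) (ResidueField V) := by
  classical
  obtain ⟨π, hπirr⟩ := IsDiscreteValuationRing.exists_irreducible A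
  have hπ : maximalIdeal A = Ideal.span {π} := hπirr.maximalIdeal_eq
  have hbound : Module.rank (ResidueField A) (ResidueField V) ≤ (Module.finrank K N : ℕ) := by
    apply rank_le
    intro s hs
    set f := s.card with hf
    let e : Fin f ≃ s := s.equivFin.symm
    choose lift hlift using fun x : ResidueField V => residue_surjective x
    let z : Fin f → N := fun j => ((lift (e j : ResidueField V) : V) : N)
    have hz : ∀ j, z j ∈ V := fun j => (lift (e j : ResidueField V)).2
    have hind : ∀ a : Fin f → A, V.valuation (∑ j, algebraMap A N (a j) * z j) < 1 →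
        ∀ j, a j ∈ maximalIdeal A := by
      intro a ha
      have hmem : (∑ j, algebraMap A V (a j) * lift (e j : ResidueField V) : V) ∈
          maximalIdeal V := by
        rw [ValuationSubring.valuation_lt_one_iff]
        convert ha using 2
        push_cast
        refine Finset.sum_congr rfl (fun j _ => ?_)
        rw [halg]
      have hres := (residue_eq_zero_iff _).mpr hmem
      rw [map_sum] at hres
      have hres' : ∑ j, residue A (a j) • ((e j : ResidueField V)) = 0 := by
        rw [← hres]
        refine Finset.sum_congr rfl (fun j _ => ?_)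
        rw [map_mul, hlift, Algebra.smul_def]
        rfl
      have hli : LinearIndependent (ResidueField A) (fun j : Fin f => ((e j : s) : ResidueField V)) :=
        hs.comp e e.injective
      have h0 := Fintype.linearIndependent_iff.mp hli (fun j => residue A (a j)) hres'
      intro j
      exact (residue_eq_zero_iff _).mp (h0 j)
    have hθ : V.valuation (algebraMap A N π) ^ 1 = V.valuation (algebraMap A N π) := pow_one _
    have hli := Groth.Agent.Lib.H40EFBasis.ef_linearIndependent (K := K) hπ (e := 1)
      Nat.one_pos hV hθ z hz hind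
    have hcard := hli.fintype_card_le_finrank
    rw [Fintype.card_prod, Fintype.card_fin, Fintype.card_fin, one_mul] at hcard
    exact hcard
  have hlt : Module.rank (ResidueField A) (ResidueField V) < Cardinal.aleph0 :=
    lt_of_le_of_lt hbound Cardinal.natCast_lt_aleph0
  exact Module.rank_lt_aleph0_iff.mp hlt

include K in
/-- a valuation subring of a finite extension dominating the DVR `A` is a DVR (no separability
needed; Krull–Akizuki). -/
theorem isDVR_of_dominates (V : ValuationSubring N) (hV : EtRam.Dominates A (algebraMap A N) V) :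
    IsDiscreteValuationRing V := by
  let _ : Algebra A V := (RingHom.codRestrict (algebraMap A N) V hV.1).toAlgebra
  have : IsScalarTower A V N := IsScalarTower.of_algebraMap_eq (fun _ => rfl)
  have hN : IsNoetherianRing V :=
    Groth.Agent.Lib.KrullAkizuki.isNoetherianRing_of_between (R := A) (K := K) (L := N) (A := V)
      Subtype.val_injective
  obtain ⟨π, hπirr⟩ := IsDiscreteValuationRing.exists_irreducible A
  have hinj : Function.Injective (algebraMap A N) :=
    Groth.Agent.Lib.H40TotRamCriterion.algebraMap_injective' (K := K)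
  have hne : V ≠ ⊤ := Groth.Agent.Lib.ValDVR76.ne_top_of_dominates _ V hV
    ((mem_maximalIdeal π).mpr hπirr.not_isUnit)
    (fun h0 => hπirr.ne_zero (hinj (h0.trans (map_zero _).symm)))
  exact Groth.Agent.Lib.DvrDominating.isDiscreteValuationRing_of_isNoetherianRing V hne

end FiniteResidue

section Adjoin

variable {K L K₁ M : Type u} [Field K] [Field L] [Field K₁] [Field M] [Algebra K L] [Algebra K K₁]
  [Algebra K M] [Algebra L M] [Algebra K₁ M] [IsScalarTower K L M] [IsScalarTower K K₁ M]

omit [IsScalarTower K L M] [IsScalarTower K K₁ M] [Algebra K L] [Algebra K K₁] [Algebra K M] in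
theorem span_range_eq_top (hadj : Algebra.adjoin L (Set.range (algebraMap K₁ M)) = ⊤) :
    Submodule.span L (Set.range (algebraMap K₁ M)) = ⊤ := by
  set f : K₁ →+* M := algebraMap K₁ M with hf
  have h1 : Submonoid.closure (Set.range f) = MonoidHom.mrange (f : K₁ →* M) := by
    have h0 : Set.range f = ((MonoidHom.mrange (f : K₁ →* M) : Submonoid M) : Set M) := by
      rw [MonoidHom.coe_mrange]; rfl
    rw [h0, Submonoid.closure_eq]
  have h2 := Algebra.adjoin_eq_span L (Set.range f)
  rw [hadj, h1] at h2
  rw [← Algebra.top_toSubmodule, h2]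
  rfl

theorem finiteDimensional_of_adjoin [FiniteDimensional K K₁]
    (hadj : Algebra.adjoin L (Set.range (algebraMap K₁ M)) = ⊤) : FiniteDimensional L M := by
  classical
  set n := Module.finrank K K₁
  let b := Module.finBasis K K₁
  let g : (Fin n → L) →ₗ[L] M := Fintype.linearCombination L (fun i => algebraMap K₁ M (b i))
  have hg : Function.Surjective g := by
    rw [← LinearMap.range_eq_top, eq_top_iff, ← span_range_eq_top hadj, Submodule.span_le]
    rintro _ ⟨x, rfl⟩
    refine ⟨fun i => algebraMap K L (b.repr x i), ?_⟩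
    rw [Fintype.linearCombination_apply]
    conv_rhs => rw [← b.sum_repr x]
    rw [map_sum]
    refine Finset.sum_congr rfl (fun i _ => ?_)
    rw [Algebra.smul_def, Algebra.smul_def, map_mul, ← IsScalarTower.algebraMap_apply,
      ← IsScalarTower.algebraMap_apply]
  exact Module.Finite.of_surjective g hg

end Adjoin

section Main

variable {A B K L : Type u} [CommRing A] [IsDomain A] [IsDiscreteValuationRing A]
  [CommRing B] [IsDomain B] [IsDiscreteValuationRing B] [Algebra A B] [IsLocalHom (algebraMap A B)]
  [Field K] [Field L] [Algebra A K] [IsFractionRing A K] [Algebra B L] [IsFractionRing B L]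
  [Algebra K L] [Algebra A L] [IsScalarTower A K L] [IsScalarTower A B L]

theorem main (hw : EtRam.IsWeaklyUnramified A B)
    [Algebra.IsGeometricallyReduced (ResidueField A) (ResidueField B)]
    (K₁ : Type u) [Field K₁] [Algebra K K₁] [FiniteDimensional K K₁] :
    EtRam.IsSolution B K L K₁ := by
  intro M _ _ _ _ _ _ hadj W hW
  let _ : Algebra A K₁ := ((algebraMap K K₁).comp (algebraMap A K)).toAlgebra
  have : IsScalarTower A K K₁ := IsScalarTower.of_algebraMap_eq (fun _ => rfl)
  let _ : Algebra B M := ((algebraMap L M).comp (algebraMap B L)).toAlgebra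
  have : IsScalarTower B L M := IsScalarTower.of_algebraMap_eq (fun _ => rfl)
  set f : K₁ →+* M := algebraMap K₁ M with hf
  have hW' : EtRam.Dominates B (algebraMap B M) W := hW
  have hcompat : ∀ a : A, f (algebraMap A K₁ a) = algebraMap B M (algebraMap A B a) := by
    intro a
    change algebraMap K₁ M (algebraMap K K₁ (algebraMap A K a)) =
      algebraMap L M (algebraMap B L (algebraMap A B a))
    rw [← IsScalarTower.algebraMap_apply K K₁ M, IsScalarTower.algebraMap_apply K L M,
      ← IsScalarTower.algebraMap_apply A K L, IsScalarTower.algebraMap_apply A B L]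
  have hloc3 : maximalIdeal A ≤ (maximalIdeal B).comap (algebraMap A B) :=
    ((local_hom_TFAE (algebraMap A B)).out 0 3).mp ‹IsLocalHom (algebraMap A B)›
  have hV'dom : EtRam.Dominates A (algebraMap A K₁) (W.comap f) := by
    refine ⟨fun a => ?_, fun a ha => ?_⟩
    · rw [ValuationSubring.mem_comap, hcompat]
      exact hW'.1 _
    · rw [Groth.Agent.Lib.H40TotRamStruct.comap_val_lt_one_iff, hcompat]
      exact hW'.2 _ (hloc3 ha)
  have hfdLM : FiniteDimensional L M := finiteDimensional_of_adjoin (K := K) hadj
  have hdvrW : IsDiscreteValuationRing W := isDVR_of_dominates (K := L) W hW'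
  have hdvrA₁ : IsDiscreteValuationRing (W.comap f) := isDVR_of_dominates (K := K) _ hV'dom
  -- algebra structures
  let _ : Algebra A (W.comap f) := (RingHom.codRestrict (algebraMap A K₁) (W.comap f) hV'dom.1).toAlgebra
  let _ : Algebra B W := (RingHom.codRestrict (algebraMap B M) W hW'.1).toAlgebra
  let _ : Algebra (W.comap f) W := (EtRam.inclOfComap W f).toAlgebra
  let _ : Algebra A W := ((algebraMap B W).comp (algebraMap A B)).toAlgebra
  have : IsScalarTower A B W := IsScalarTower.of_algebraMap_eq (fun _ => rfl)
  have : IsScalarTower A (W.comap f) W := IsScalarTower.of_algebraMap_eq (fun a => by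
    apply Subtype.ext
    exact (hcompat a).symm)
  have : IsLocalHom (algebraMap A (W.comap f)) :=
    Groth.Agent.Lib.ValDVR76.isLocalHom_codRestrict _ _ hV'dom
  have : IsLocalHom (algebraMap B W) := Groth.Agent.Lib.ValDVR76.isLocalHom_codRestrict _ _ hW'
  have : IsLocalHom (algebraMap (W.comap f) W) := EtRam.isLocalHom_inclOfComap W f
  have : IsLocalHom (algebraMap A W) := by
    change IsLocalHom ((algebraMap B W).comp (algebraMap A B))
    exact RingHom.isLocalHom_comp _ _
  have hfinres : Module.Finite (ResidueField A) (ResidueField (W.comap f)) :=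
    finite_residue (K := K) (W.comap f) hV'dom (fun _ => rfl)
  have hinjA₁ : Function.Injective (algebraMap (W.comap f) W) := by
    intro x y hxy
    apply Subtype.ext
    exact f.injective (congrArg Subtype.val hxy)
  -- fractions
  have hφ : ∀ (a : W.comap f) (b : B),
      ((Groth.Agent.Lib.H40FSmoothB.phi A (W.comap f) B W (a ⊗ₜ[A] b) : W) : M) =
        f (a : K₁) * algebraMap B M b := by
    intro a b
    rw [Groth.Agent.Lib.H40FSmoothB.phi_tmul]
    rfl
  have hP : ∀ m : M, ∃ x y : (W.comap f) ⊗[A] B,
      ((Groth.Agent.Lib.H40FSmoothB.phi A (W.comap f) B W y : W) : M) ≠ 0 ∧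
      m * ((Groth.Agent.Lib.H40FSmoothB.phi A (W.comap f) B W y : W) : M) =
        ((Groth.Agent.Lib.H40FSmoothB.phi A (W.comap f) B W x : W) : M) := by
    intro m
    have hm : m ∈ Submodule.span L (Set.range (algebraMap K₁ M)) := by
      rw [span_range_eq_top hadj]; trivial
    induction hm using Submodule.span_induction with
    | mem x h =>
      obtain ⟨k, rfl⟩ := h
      by_cases hk : k ∈ W.comap f
      · refine ⟨(⟨k, hk⟩ : W.comap f) ⊗ₜ[A] (1 : B), 1, ?_, ?_⟩
        · rw [map_one]; exact one_ne_zero
        · rw [map_one, hφ, map_one, mul_one]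
          simp
          rfl
      · have hk' : k⁻¹ ∈ W.comap f := ((W.comap f).mem_or_inv_mem k).resolve_left hk
        have hk0 : k ≠ 0 := fun h => hk (h ▸ (W.comap f).zero_mem)
        refine ⟨1, (⟨k⁻¹, hk'⟩ : W.comap f) ⊗ₜ[A] (1 : B), ?_, ?_⟩
        · rw [hφ, map_one, mul_one]
          exact (map_ne_zero f).mpr (inv_ne_zero hk0)
        · rw [hφ, map_one, mul_one, map_one]
          change f k * f k⁻¹ = 1
          rw [← map_mul, mul_inv_cancel₀ hk0, map_one]
    | zero =>
      refine ⟨0, 1, ?_, ?_⟩
      · rw [map_one]; exact one_ne_zero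
      · rw [zero_mul, map_zero]; rfl
    | add m₁ m₂ _ _ h₁ h₂ =>
      obtain ⟨x₁, y₁, hy₁, e₁⟩ := h₁
      obtain ⟨x₂, y₂, hy₂, e₂⟩ := h₂
      refine ⟨x₁ * y₂ + x₂ * y₁, y₁ * y₂, ?_, ?_⟩
      · rw [map_mul]
        exact mul_ne_zero hy₁ hy₂
      · rw [map_mul, map_add, map_mul, map_mul]
        push_cast
        rw [← e₁, ← e₂]
        ring
    | smul a m _ h =>
      obtain ⟨x, y, hy, e⟩ := h
      obtain ⟨b, β, hβ, rfl⟩ := IsFractionRing.div_surjective (A := B) a
      have hβ0 : algebraMap B L β ≠ 0 :=
        IsFractionRing.to_map_ne_zero_of_mem_nonZeroDivisors hβ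
      have hβM : algebraMap B M β ≠ 0 := by
        change algebraMap L M (algebraMap B L β) ≠ 0
        exact (map_ne_zero _).mpr hβ0
      have h1 : ∀ c : B, ((Groth.Agent.Lib.H40FSmoothB.phi A (W.comap f) B W
          ((1 : W.comap f) ⊗ₜ[A] c) : W) : M) = algebraMap B M c := by
        intro c
        rw [hφ]
        simp
      refine ⟨x * ((1 : W.comap f) ⊗ₜ[A] b), y * ((1 : W.comap f) ⊗ₜ[A] β), ?_, ?_⟩
      · rw [map_mul]
        push_cast
        rw [h1]
        exact mul_ne_zero hy hβM
      · rw [map_mul, map_mul]
        push_cast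
        rw [h1, h1, ← e, Algebra.smul_def, map_div₀]
        change algebraMap L M (algebraMap B L b) / algebraMap L M (algebraMap B L β) * m * _ = _
        change _ * (_ * algebraMap L M (algebraMap B L β)) = _ * algebraMap L M (algebraMap B L b)
        have hβ' : algebraMap L M (algebraMap B L β) ≠ 0 := (map_ne_zero _).mpr hβ0
        field_simp
  have hfrac : ∀ r : W, ∃ x y : (W.comap f) ⊗[A] B,
      Groth.Agent.Lib.H40FSmoothB.phi A (W.comap f) B W y ≠ 0 ∧
      r * Groth.Agent.Lib.H40FSmoothB.phi A (W.comap f) B W y =
        Groth.Agent.Lib.H40FSmoothB.phi A (W.comap f) B W x := by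
    intro r
    obtain ⟨x, y, hy, e⟩ := hP (r : M)
    refine ⟨x, y, fun h => hy (by rw [h]; rfl), Subtype.ext ?_⟩
    push_cast
    exact e
  have h1 := Groth.Agent.Lib.H40FSmoothB.weaklyUnramified hw hinjA₁ hfrac
  have h2 := Groth.Agent.Lib.H40FSmoothB.geomReduced
    (Groth.Agent.Lib.H40FSmoothB.psi_surjective hw hinjA₁ hfrac)
  refine ⟨h1, ?_⟩
  have hinst : (inferInstance : Algebra (ResidueField (W.comap f)) (ResidueField W)) =
      (IsLocalRing.ResidueField.map (EtRam.inclOfComap W f)).toAlgebra := by
    apply Algebra.algebra_ext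
    intro r
    obtain ⟨r, rfl⟩ := residue_surjective r
    rfl
  rw [← hinst]
  exact h2

end Main

end Groth.Agent.Lib.H40FSmoothC
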