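import Mathlib
import Groth.Prelude.Def_EtRam
import Groth.Agent.Lib.H40AbhyB
import Groth.Agent.Lib.H40FSmoothC
import Groth.Agent.Lib.MacLane4H44
import Groth.Agent.Lib.DVRExt

/-!
# Abhyankar's lemma: application to `EtRam.ForallLocalExt` (helper40)
-/

set_option autoImplicit false
set_option linter.unusedSectionVars false
universe u

open TensorProduct IsLocalRing

namespace Groth.Agent.Lib.H40AbhyC

open Groth.Agent.Lib.H40FSmoothC

section Main

variable {A B K L : Type u} [CommRing A] [IsDomain A] [IsDiscreteValuationRing A]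
  [CommRing B] [IsDomain B] [IsDiscreteValuationRing B] [Algebra A B] [IsLocalHom (algebraMap A B)]
  [Field K] [Field L] [Algebra A K] [IsFractionRing A K] [Algebra B L] [IsFractionRing B L]
  [Algebra K L] [Algebra A L] [IsScalarTower A K L] [IsScalarTower A B L]

theorem main (hinj : Function.Injective (algebraMap A B))
    (htame : CharZero (IsLocalRing.ResidueField A) ∨
      ∃ p : ℕ, p.Prime ∧ CharP (IsLocalRing.ResidueField A) p ∧
        ¬ p ∣ Ideal.ramificationIdx' (IsLocalRing.maximalIdeal A) (IsLocalRing.maximalIdeal B) ∧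
        Algebra.IsGeometricallyReduced (IsLocalRing.ResidueField A) (IsLocalRing.ResidueField B))
    (K₁ : Type u) [Field K₁] [Algebra K K₁] [FiniteDimensional K K₁] :
    EtRam.ForallLocalExt B K L K₁ (fun M _ W f =>
      ∀ hA : ∀ a : A, (algebraMap K K₁) (algebraMap A K a) ∈ W.comap f,
        letI : Algebra A (W.comap f) := (RingHom.codRestrict ((algebraMap K K₁).comp (algebraMap A K)) (W.comap f) hA).toAlgebra
        letI : Algebra (W.comap f) W := (EtRam.inclOfComap W f).toAlgebra
        Ideal.ramificationIdx' (IsLocalRing.maximalIdeal A) (IsLocalRing.maximalIdeal B) ∣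
          Ideal.ramificationIdx' (IsLocalRing.maximalIdeal A) (IsLocalRing.maximalIdeal (W.comap f)) →
        EtRam.IsWeaklyUnramified (W.comap f) W ∧
          @Algebra.IsGeometricallyReduced (IsLocalRing.ResidueField (W.comap f)) (IsLocalRing.ResidueField W) _ _
            (IsLocalRing.ResidueField.map (EtRam.inclOfComap W f)).toAlgebra) := by
  intro M _ _ _ _ _ _ hadj W hW hA
  let _ : Algebra A K₁ := ((algebraMap K K₁).comp (algebraMap A K)).toAlgebra
  have : IsScalarTower A K K₁ := IsScalarTower.of_algebraMap_eq (fun _ => rfl)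
  let _ : Algebra B M := ((algebraMap L M).comp (algebraMap B L)).toAlgebra
  have : IsScalarTower B L M := IsScalarTower.of_algebraMap_eq (fun _ => rfl)
  set f : K₁ →+* M := algebraMap K₁ M with hf
  have hW' : EtRam.Dominates B (algebraMap B M) W := hW
  have hcompat : ∀ a : A, f (algebraMap A K₁ a) = algebraMap B M (algebraMap A B a) := by
    intro a
    change algebraMap K₁ M (algebraMap K K₁ (algebraMap A K a)) =
      algebraMap L M (algebraMap B L (algebraMap A B a))
    rw [← IsScalarTower.algebraMap_apply K K₁ M, IsScalarTower.algebraMap_apply K L M,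
      ← IsScalarTower.algebraMap_apply A K L, IsScalarTower.algebraMap_apply A B L]
  have hloc3 : maximalIdeal A ≤ (maximalIdeal B).comap (algebraMap A B) :=
    ((local_hom_TFAE (algebraMap A B)).out 0 3).mp ‹IsLocalHom (algebraMap A B)›
  have hV'dom : EtRam.Dominates A (algebraMap A K₁) (W.comap f) := by
    refine ⟨hA, fun a ha => ?_⟩
    rw [Groth.Agent.Lib.H40TotRamStruct.comap_val_lt_one_iff, hcompat]
    exact hW'.2 _ (hloc3 ha)
  have hfdLM : FiniteDimensional L M := finiteDimensional_of_adjoin (K := K) hadj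
  have hdvrW : IsDiscreteValuationRing W := isDVR_of_dominates (K := L) W hW'
  have hdvrA₁ : IsDiscreteValuationRing (W.comap f) := isDVR_of_dominates (K := K) _ hV'dom
  -- algebra structures
  let _ : Algebra A (W.comap f) :=
    (RingHom.codRestrict ((algebraMap K K₁).comp (algebraMap A K)) (W.comap f) hA).toAlgebra
  let _ : Algebra B W := (RingHom.codRestrict (algebraMap B M) W hW'.1).toAlgebra
  let _ : Algebra (W.comap f) W := (EtRam.inclOfComap W f).toAlgebra
  let _ : Algebra A W := ((algebraMap B W).comp (algebraMap A B)).toAlgebra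
  have : IsScalarTower A B W := IsScalarTower.of_algebraMap_eq (fun _ => rfl)
  have : IsScalarTower A (W.comap f) W := IsScalarTower.of_algebraMap_eq (fun a => by
    apply Subtype.ext
    exact (hcompat a).symm)
  have : IsLocalHom (algebraMap A (W.comap f)) :=
    Groth.Agent.Lib.ValDVR76.isLocalHom_codRestrict _ _ hV'dom
  have : IsLocalHom (algebraMap B W) := Groth.Agent.Lib.ValDVR76.isLocalHom_codRestrict _ _ hW'
  have : IsLocalHom (algebraMap (W.comap f) W) := EtRam.isLocalHom_inclOfComap W f
  have : IsLocalHom (algebraMap A W) := by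
    change IsLocalHom ((algebraMap B W).comp (algebraMap A B))
    exact RingHom.isLocalHom_comp _ _
  have hfinres : Module.Finite (ResidueField A) (ResidueField (W.comap f)) :=
    finite_residue (K := K) (W.comap f) hV'dom (fun _ => rfl)
  intro hdiv
  obtain ⟨π, hπ⟩ := IsDiscreteValuationRing.exists_irreducible A
  obtain ⟨πB, hπB⟩ := IsDiscreteValuationRing.exists_irreducible B
  obtain ⟨π₁, hπ₁⟩ := IsDiscreteValuationRing.exists_irreducible (W.comap f)
  have hinjAK₁ : Function.Injective (algebraMap A K₁) :=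
    Groth.Agent.Lib.H40TotRamCriterion.algebraMap_injective' (K := K)
  have hinjA₁ : Function.Injective (algebraMap A (W.comap f)) := by
    intro a a' h
    exact hinjAK₁ (congrArg Subtype.val h)
  obtain ⟨e, b, he, hb⟩ := Groth.Agent.Lib.DVRExt.exists_map_uniformizer hinj hπ hπB
  obtain ⟨e₁, u, he₁, hu⟩ := Groth.Agent.Lib.DVRExt.exists_map_uniformizer hinjA₁ hπ hπ₁
  have hE : Ideal.ramificationIdx' (maximalIdeal A) (maximalIdeal B) = e :=
    Groth.Agent.Lib.DVRExt.ramificationIdx'_eq hπ hπB hb
  have hE₁ : Ideal.ramificationIdx' (maximalIdeal A) (maximalIdeal (W.comap f)) = e₁ :=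
    Groth.Agent.Lib.DVRExt.ramificationIdx'_eq hπ hπ₁ hu
  rw [hE, hE₁] at hdiv
  obtain ⟨c, rfl⟩ := hdiv
  have hc : 0 < c := Nat.pos_of_mul_pos_left he₁
  -- the element x
  have hπ₁0 : (π₁ : K₁) ≠ 0 := fun h => hπ₁.ne_zero (Subtype.ext h)
  set ρ : M := f ((π₁ : K₁) ^ c) with hρ
  have hρ0 : ρ ≠ 0 := (map_ne_zero f).mpr (pow_ne_zero _ hπ₁0)
  set xM : M := algebraMap B M πB / ρ with hxM
  have hbinv : algebraMap B M (b : B) * algebraMap B M ((b⁻¹ : Bˣ) : B) = 1 := by
    rw [← map_mul, ← Units.val_mul, mul_inv_cancel, Units.val_one, map_one]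
  have h1 : f ((u : K₁) * (π₁ : K₁) ^ (e * c)) = algebraMap B M ((b : B) * πB ^ e) := by
    rw [← hb, ← hcompat π]
    congr 1
    exact (congrArg Subtype.val hu).symm
  have key : (algebraMap B M πB) ^ e * algebraMap B M (b : B) = f (u : K₁) * ρ ^ e := by
    rw [map_mul, map_mul, map_pow, map_pow] at h1
    rw [hρ, map_pow, ← pow_mul, mul_comm c e, mul_comm _ (algebraMap B M (b : B)), h1]
  have hxMe : xM ^ e = f (u : K₁) * algebraMap B M ((b⁻¹ : Bˣ) : B) := by
    calc xM ^ e = (algebraMap B M πB) ^ e / ρ ^ e := div_pow _ _ _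
      _ = ((algebraMap B M πB) ^ e * algebraMap B M (b : B)) *
            algebraMap B M ((b⁻¹ : Bˣ) : B) / ρ ^ e := by rw [mul_assoc, hbinv, mul_one]
      _ = f (u : K₁) * ρ ^ e * algebraMap B M ((b⁻¹ : Bˣ) : B) / ρ ^ e := by rw [key]
      _ = f (u : K₁) * algebraMap B M ((b⁻¹ : Bˣ) : B) := by
        have := pow_ne_zero e hρ0
        field_simp
  have hxMW : xM ∈ W := by
    rw [← ValuationSubring.valuation_le_one_iff]
    by_contra hcon
    rw [not_le] at hcon
    have h2 := one_lt_pow₀ hcon he.ne'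
    rw [← map_pow, hxMe, map_mul,
      Groth.Agent.Lib.H40TotRamStruct.comap_val_eq_one_imp W f ((W.comap f).valuation_unit u),
      Groth.Agent.Lib.H40TotRamStruct.val_unit' (A := B) (L := M) hW'.1 b⁻¹, mul_one] at h2
    exact lt_irrefl _ h2
  set x : W := ⟨xM, hxMW⟩ with hx_def
  have hx : x ^ e = algebraMap (W.comap f) W u * algebraMap B W ((b⁻¹ : Bˣ) : B) :=
    Subtype.ext hxMe
  have hxπ : algebraMap B W πB = algebraMap (W.comap f) W (π₁ ^ c) * x := by
    apply Subtype.ext
    change algebraMap B M πB = f ((π₁ ^ c : W.comap f) : K₁) * xM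
    rw [hxM]
    push_cast
    rw [← hρ]
    field_simp
  have hinjA₁W : Function.Injective (algebraMap (W.comap f) W) := by
    intro x y hxy
    apply Subtype.ext
    exact f.injective (congrArg Subtype.val hxy)
  -- fractions
  have hφ : ∀ (a : W.comap f) (b : B),
      ((Groth.Agent.Lib.H40FSmoothB.phi A (W.comap f) B W (a ⊗ₜ[A] b) : W) : M) =
        f (a : K₁) * algebraMap B M b := by
    intro a b
    rw [Groth.Agent.Lib.H40FSmoothB.phi_tmul]
    rfl
  have hP : ∀ m : M, ∃ x y : (W.comap f) ⊗[A] B,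
      ((Groth.Agent.Lib.H40FSmoothB.phi A (W.comap f) B W y : W) : M) ≠ 0 ∧
      m * ((Groth.Agent.Lib.H40FSmoothB.phi A (W.comap f) B W y : W) : M) =
        ((Groth.Agent.Lib.H40FSmoothB.phi A (W.comap f) B W x : W) : M) := by
    intro m
    have hm : m ∈ Submodule.span L (Set.range (algebraMap K₁ M)) := by
      rw [span_range_eq_top hadj]; trivial
    induction hm using Submodule.span_induction with
    | mem x h =>
      obtain ⟨k, rfl⟩ := h
      by_cases hk : k ∈ W.comap f
      · refine ⟨(⟨k, hk⟩ : W.comap f) ⊗ₜ[A] (1 : B), 1, ?_, ?_⟩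
        · rw [map_one]; exact one_ne_zero
        · rw [map_one, hφ, map_one, mul_one]
          simp
          rfl
      · have hk' : k⁻¹ ∈ W.comap f := ((W.comap f).mem_or_inv_mem k).resolve_left hk
        have hk0 : k ≠ 0 := fun h => hk (h ▸ (W.comap f).zero_mem)
        refine ⟨1, (⟨k⁻¹, hk'⟩ : W.comap f) ⊗ₜ[A] (1 : B), ?_, ?_⟩
        · rw [hφ, map_one, mul_one]
          exact (map_ne_zero f).mpr (inv_ne_zero hk0)
        · rw [hφ, map_one, mul_one, map_one]
          change f k * f k⁻¹ = 1
          rw [← map_mul, mul_inv_cancel₀ hk0, map_one]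
    | zero =>
      refine ⟨0, 1, ?_, ?_⟩
      · rw [map_one]; exact one_ne_zero
      · rw [zero_mul, map_zero]; rfl
    | add m₁ m₂ _ _ h₁ h₂ =>
      obtain ⟨x₁, y₁, hy₁, e₁⟩ := h₁
      obtain ⟨x₂, y₂, hy₂, e₂⟩ := h₂
      refine ⟨x₁ * y₂ + x₂ * y₁, y₁ * y₂, ?_, ?_⟩
      · rw [map_mul]
        exact mul_ne_zero hy₁ hy₂
      · rw [map_mul, map_add, map_mul, map_mul]
        push_cast
        rw [← e₁, ← e₂]
        ring
    | smul a m _ h =>
      obtain ⟨x, y, hy, e⟩ := h
      obtain ⟨b, β, hβ, rfl⟩ := IsFractionRing.div_surjective (A := B) a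
      have hβ0 : algebraMap B L β ≠ 0 :=
        IsFractionRing.to_map_ne_zero_of_mem_nonZeroDivisors hβ
      have hβM : algebraMap B M β ≠ 0 := by
        change algebraMap L M (algebraMap B L β) ≠ 0
        exact (map_ne_zero _).mpr hβ0
      have h1 : ∀ c : B, ((Groth.Agent.Lib.H40FSmoothB.phi A (W.comap f) B W
          ((1 : W.comap f) ⊗ₜ[A] c) : W) : M) = algebraMap B M c := by
        intro c
        rw [hφ]
        simp
      refine ⟨x * ((1 : W.comap f) ⊗ₜ[A] b), y * ((1 : W.comap f) ⊗ₜ[A] β), ?_, ?_⟩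
      · rw [map_mul]
        push_cast
        rw [h1]
        exact mul_ne_zero hy hβM
      · rw [map_mul, map_mul]
        push_cast
        rw [h1, h1, ← e, Algebra.smul_def, map_div₀]
        change algebraMap L M (algebraMap B L b) / algebraMap L M (algebraMap B L β) * m * _ = _
        change _ * (_ * algebraMap L M (algebraMap B L β)) = _ * algebraMap L M (algebraMap B L b)
        have hβ' : algebraMap L M (algebraMap B L β) ≠ 0 := (map_ne_zero _).mpr hβ0
        field_simp
  have hfrac : ∀ r : W, ∃ x y : (W.comap f) ⊗[A] B,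
      Groth.Agent.Lib.H40FSmoothB.phi A (W.comap f) B W y ≠ 0 ∧
      r * Groth.Agent.Lib.H40FSmoothB.phi A (W.comap f) B W y =
        Groth.Agent.Lib.H40FSmoothB.phi A (W.comap f) B W x := by
    intro r
    obtain ⟨x, y, hy, e⟩ := hP (r : M)
    refine ⟨x, y, fun h => hy (by rw [h]; rfl), Subtype.ext ?_⟩
    push_cast
    exact e
  -- tameness
  have hgr : Algebra.IsGeometricallyReduced (ResidueField A) (ResidueField B) := by
    rcases htame with h0 | ⟨p, _, _, _, h⟩
    · exact Groth.Agent.Lib.MacLane4H44.isGeometricallyReduced_of_charZero _ _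
    · exact h
  have hek : ((e : ℕ) : ResidueField A) ≠ 0 := by
    rcases htame with h0 | ⟨p, _, hchar, hpe, _⟩
    · exact Nat.cast_ne_zero.mpr he.ne'
    · rw [hE] at hpe
      rw [Ne, CharP.cast_eq_zero_iff (ResidueField A) p e]
      exact hpe
  have heu : IsUnit ((e : ℕ) : ResidueField (W.comap f) ⊗[A] ResidueField B) := by
    have h1 : ((e : ℕ) : ResidueField (W.comap f) ⊗[A] ResidueField B) =
        algebraMap (ResidueField A) (ResidueField (W.comap f) ⊗[A] ResidueField B)
          ((e : ℕ) : ResidueField A) := (map_natCast _ e).symm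
    rw [h1]
    exact (IsUnit.mk0 _ hek).map _
  have hπBmax : maximalIdeal B = Ideal.span {πB} := hπB.maximalIdeal_eq
  have h1 := Groth.Agent.Lib.H40AbhyB.weaklyUnramified' he heu hπ₁ hπBmax hc hx hxπ hinjA₁W hfrac
  have h2 := Groth.Agent.Lib.H40AbhyB.geomReduced' he heu hx
    (Groth.Agent.Lib.H40AbhyB.psi'_surjective he heu hπ₁ hπBmax hc hx hxπ hinjA₁W hfrac)
  refine ⟨h1, ?_⟩
  have hinst : (inferInstance : Algebra (ResidueField (W.comap f)) (ResidueField W)) =
      (IsLocalRing.ResidueField.map (EtRam.inclOfComap W f)).toAlgebra := by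
    apply Algebra.algebra_ext
    intro r
    obtain ⟨r, rfl⟩ := residue_surjective r
    rfl
  rw [← hinst]
  exact h2

end Main

end Groth.Agent.Lib.H40AbhyC
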