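import Groth.Agent.Lib.H40FunFldWeil

/-!
# Function fields of one variable (`FunFld`): the strong approximation theorem.
-/

set_option autoImplicit false
open FunFld Polynomial

namespace Groth.Agent.Lib.H40FunFld

open Groth.Agent.Lib.H40QuotChain

universe u v
variable {k : Type u} {K : Type v} [Field k] [Field K] [Algebra k K]

/-- `A = A(D) + K` for all `D` of large degree. -/
theorem exists_forall_adele_eq_ADKbig (hK : FunFld.IsFunctionField k K) :
    ∃ N : ℤ, ∀ D : FunFld.Divisor k K, N ≤ D.deg → FunFld.adele k K = ADKbig D := by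
  obtain ⟨N, hN⟩ := exists_forall_delta_eq_genus hK
  exact ⟨N, fun D hD => adele_eq_ADKbig hK fun D' h => hN D' (hD.trans (deg_mono h))⟩

/-- Strong approximation, inequality form. -/
theorem strong_approx_le (hK : FunFld.IsFunctionField k K) (Pinf : FunFld.Place k K) {n : ℕ}
    (P : Fin n → FunFld.Place k K) (hP : Function.Injective P) (hinf : Pinf ∉ Set.range P)
    (x : Fin n → K) (m : Fin n → ℤ) :
    ∃ z : K, (∀ i, (P i).1 (z - x i) ≤ WithZero.exp (-(m i))) ∧
      ∀ Q : FunFld.Place k K, Q ≠ Pinf → Q ∉ Set.range P → Q.1 z ≤ 1 := by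
  classical
  obtain ⟨N, hN⟩ := exists_forall_adele_eq_ADKbig hK
  let E : FunFld.Divisor k K := ∑ i, Finsupp.single (P i) (m i)
  have hE : ∀ j, E (P j) = m j := by
    intro j
    change (∑ i, Finsupp.single (P i) (m i)) (P j) = m j
    rw [Finsupp.finsetSum_apply, Finset.sum_eq_single j]
    · rw [Finsupp.single_eq_same]
    · intro i _ hij
      rw [Finsupp.single_apply, if_neg (fun h => hij (hP h))]
    · intro h; exact absurd (Finset.mem_univ j) h
  have hE' : ∀ Q, Q ∉ Set.range P → E Q = 0 := by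
    intro Q hQ
    change (∑ i, Finsupp.single (P i) (m i)) Q = 0
    rw [Finsupp.finsetSum_apply]
    apply Finset.sum_eq_zero
    intro i _
    rw [Finsupp.single_apply, if_neg (fun h => hQ ⟨i, h⟩)]
  have hPinf : (1 : ℤ) ≤ Pinf.deg := by exact_mod_cast deg_pos hK Pinf
  set r : ℤ := ((N + E.deg).toNat : ℤ) with hr
  let D : FunFld.Divisor k K := Finsupp.single Pinf r - E
  have hDdeg : N ≤ D.deg := by
    change N ≤ FunFld.Divisor.deg (Finsupp.single Pinf r - E)
    rw [deg_sub, deg_single]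
    have h1 : N + E.deg ≤ r := Int.self_le_toNat _
    have h2 : (0 : ℤ) ≤ r := Int.natCast_nonneg _
    nlinarith
  have hDP : ∀ j, D (P j) = -(m j) := by
    intro j
    change (Finsupp.single Pinf r - E) (P j) = _
    rw [Finsupp.sub_apply, hE, Finsupp.single_apply, if_neg (fun h => hinf ⟨j, h.symm⟩), zero_sub]
  have hDQ : ∀ Q, Q ≠ Pinf → Q ∉ Set.range P → D Q = 0 := by
    intro Q hQ hQ'
    change (Finsupp.single Pinf r - E) Q = _
    rw [Finsupp.sub_apply, hE' Q hQ', Finsupp.single_apply, if_neg (Ne.symm hQ), sub_zero]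
  -- the adele with components `x i` at `P i`
  let a : FunFld.Place k K → K := fun Q => if h : ∃ i, P i = Q then x h.choose else 0
  have haP : ∀ j, a (P j) = x j := by
    intro j
    have h : ∃ i, P i = P j := ⟨j, rfl⟩
    change (if h : ∃ i, P i = P j then x h.choose else 0) = x j
    rw [dif_pos h, hP h.choose_spec]
  have haQ : ∀ Q, Q ∉ Set.range P → a Q = 0 := by
    intro Q hQ
    change (if h : ∃ i, P i = Q then x h.choose else 0) = 0
    rw [dif_neg (fun h : ∃ i, P i = Q => hQ h)]
  have ha : a ∈ FunFld.adele k K := by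
    rw [mem_adele_iff]
    refine (Set.finite_range P).subset ?_
    intro Q hQ
    by_contra hQ'
    apply hQ
    rw [haQ Q hQ', map_zero]
    exact zero_le_one
  rw [hN D hDdeg] at ha
  obtain ⟨b, hb, d, ⟨z, rfl⟩, hsum⟩ := Submodule.mem_sup.1 ha
  refine ⟨z, fun i => ?_, fun Q hQ hQ' => ?_⟩
  · have h1 := hb (P i)
    have h2 : b (P i) = x i - z := by
      have := congrFun hsum (P i)
      rw [haP] at this
      rw [← this]
      change b (P i) = b (P i) + z - z
      ring
    rw [h2, hDP, Valuation.map_sub_swap] at h1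
    exact h1
  · have h1 := hb Q
    have h2 : b Q = -z := by
      have := congrFun hsum Q
      rw [haQ Q hQ'] at this
      have h3 : b Q + z = 0 := this
      exact eq_neg_of_add_eq_zero_left h3
    rw [h2, hDQ Q hQ hQ', Valuation.map_neg, WithZero.exp_zero] at h1
    exact h1

/-- Strong approximation. -/
theorem strong_approx (hK : FunFld.IsFunctionField k K) (Pinf : FunFld.Place k K) {n : ℕ}
    (P : Fin n → FunFld.Place k K) (hP : Function.Injective P) (hinf : Pinf ∉ Set.range P)
    (x : Fin n → K) (m : Fin n → ℤ) :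
    ∃ y : K, (∀ i, (P i).1 (y - x i) = WithZero.exp (-(m i))) ∧
      ∀ Q : FunFld.Place k K, Q ≠ Pinf → Q ∉ Set.range P → Q.1 y ≤ 1 := by
  have hy : ∀ i, ∃ y : K, (P i).1 y = WithZero.exp (-(m i)) := fun i => (P i).2.2 _
  choose y₀ hy₀ using hy
  obtain ⟨z₁, h1, h1'⟩ := strong_approx_le hK Pinf P hP hinf x (fun i => m i + 1)
  obtain ⟨z₂, h2, h2'⟩ := strong_approx_le hK Pinf P hP hinf y₀ (fun i => m i + 1)
  have hlt : ∀ i, WithZero.exp (-(m i + 1)) < (WithZero.exp (-(m i)) : WithZero (Multiplicative ℤ)) := by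
    intro i; rw [WithZero.exp_lt_exp]; omega
  have hz₂ : ∀ i, (P i).1 z₂ = WithZero.exp (-(m i)) := by
    intro i
    have e : z₂ = y₀ i + (z₂ - y₀ i) := by ring
    rw [e, Valuation.map_add_eq_of_lt_left, hy₀]
    rw [hy₀]
    exact lt_of_le_of_lt (h2 i) (hlt i)
  refine ⟨z₁ + z₂, fun i => ?_, fun Q hQ hQ' => ?_⟩
  · have e : z₁ + z₂ - x i = z₂ + (z₁ - x i) := by ring
    rw [e, Valuation.map_add_eq_of_lt_left, hz₂]
    rw [hz₂]
    exact lt_of_le_of_lt (h1 i) (hlt i)
  · exact (Q.1.map_add _ _).trans (max_le (h1' Q hQ hQ') (h2' Q hQ hQ'))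

end Groth.Agent.Lib.H40FunFld
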