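import Groth.Agent.Lib.H40FunFldSInt
import Groth.Agent.Lib.H40FunFldStrongApprox
import Groth.Prelude.Def_AdFn

set_option autoImplicit false
set_option linter.style.haveILetI false
set_option linter.unusedSectionVars false
open FunFld

namespace Groth.Agent.Lib.H40FunFld

universe u

section AdFnDense

variable {k K : Type u} [Field k] [Field K] [Algebra k K]

/-- `K` is dense in `K_v`: every element of `K_v` is congruent to an element of `K` modulo `O_v`. -/
theorem exists_toKv_sub_mem_Ov (v : FunFld.Place k K) (x : AdFn.Kv v) :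
    ∃ y : K, x - AdFn.toKv v y ∈ AdFn.Ov v := by
  have hU : IsOpen {z : AdFn.Kv v | x - z ∈ AdFn.Ov v} :=
    (AdFn.isOpen_Ov v).preimage (continuous_const.sub continuous_id)
  have hx : x ∈ {z : AdFn.Kv v | x - z ∈ AdFn.Ov v} := by
    change x - x ∈ AdFn.Ov v
    rw [sub_self]; exact (AdFn.Ov v).zero_mem
  obtain ⟨a, ha⟩ := (UniformSpace.Completion.denseRange_coe (α := WithVal v.1)).exists_mem_open hU
    ⟨x, hx⟩
  exact ⟨a.ofVal, ha⟩

/-- `O_v` as a `k`-submodule of `K_v`. -/
theorem span_Ov_eq (v : FunFld.Place k K) :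
    (Submodule.span k (AdFn.Ov v : Set (AdFn.Kv v)) : Set (AdFn.Kv v)) = AdFn.Ov v := by
  apply Set.Subset.antisymm
  · intro z hz
    refine Submodule.span_induction (p := fun z _ => z ∈ AdFn.Ov v) (fun z hz => hz)
      (AdFn.Ov v).zero_mem (fun a b _ _ ha hb => (AdFn.Ov v).add_mem _ _ ha hb) ?_ hz
    intro c z _ hz
    rw [Algebra.smul_def]
    refine (AdFn.Ov v).mul_mem _ _ ?_ hz
    rw [IsScalarTower.algebraMap_apply k K (AdFn.Kv v)]
    exact (AdFn.toKv_mem_Ov v _).2 (v.2.1 c)
  · exact Submodule.subset_span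

/-- `K_P / (O_{P} + Ô_P)` is `K / (O_{P} + O_P)`. -/
theorem finrank_Kv_quot (hK : FunFld.IsFunctionField k K) (P : FunFld.Place k K) :
    FiniteDimensional k (AdFn.Kv P ⧸
        (Subalgebra.toSubmodule ((AdFn.SInt ({P} : Set (FunFld.Place k K))).map
            (IsScalarTower.toAlgHom k K (AdFn.Kv P))) ⊔
          Submodule.span k (AdFn.Ov P : Set (AdFn.Kv P)))) ∧
    Module.finrank k (AdFn.Kv P ⧸
        (Subalgebra.toSubmodule ((AdFn.SInt ({P} : Set (FunFld.Place k K))).map
            (IsScalarTower.toAlgHom k K (AdFn.Kv P))) ⊔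
          Submodule.span k (AdFn.Ov P : Set (AdFn.Kv P)))) = FunFld.genus k K := by
  set W : Submodule k (AdFn.Kv P) :=
    Subalgebra.toSubmodule ((AdFn.SInt ({P} : Set (FunFld.Place k K))).map
        (IsScalarTower.toAlgHom k K (AdFn.Kv P))) ⊔
      Submodule.span k (AdFn.Ov P : Set (AdFn.Kv P)) with hW
  have hOW : ∀ z : AdFn.Kv P, z ∈ AdFn.Ov P → z ∈ W := fun z hz =>
    (le_sup_right : _ ≤ W) (Submodule.subset_span hz)
  let g : K →ₗ[k] AdFn.Kv P ⧸ W := W.mkQ.comp (IsScalarTower.toAlgHom k K (AdFn.Kv P)).toLinearMap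
  have hg : ∀ y : K, g y = W.mkQ (AdFn.toKv P y) := fun y => rfl
  have hsurj : Function.Surjective g := by
    intro q
    obtain ⟨x, rfl⟩ := W.mkQ_surjective q
    obtain ⟨y, hy⟩ := exists_toKv_sub_mem_Ov P x
    refine ⟨y, ?_⟩
    rw [hg, eq_comm, ← sub_eq_zero, ← map_sub, Submodule.mkQ_apply, Submodule.Quotient.mk_eq_zero]
    exact hOW _ hy
  have hker : LinearMap.ker g =
      Subalgebra.toSubmodule (AdFn.SInt ({P} : Set (FunFld.Place k K))) ⊔
        Subalgebra.toSubmodule (AdFn.SInt (({P} : Set (FunFld.Place k K))ᶜ)) := by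
    apply le_antisymm
    · intro y hy
      rw [LinearMap.mem_ker, hg, Submodule.mkQ_apply, Submodule.Quotient.mk_eq_zero, hW,
        Submodule.mem_sup] at hy
      obtain ⟨a', ha', b', hb', hab⟩ := hy
      obtain ⟨a, ha, rfl⟩ := ha'
      have hb'O : b' ∈ AdFn.Ov P := by
        have : b' ∈ (Submodule.span k (AdFn.Ov P : Set (AdFn.Kv P)) : Set (AdFn.Kv P)) := hb'
        rwa [span_Ov_eq] at this
      have hb'eq : b' = AdFn.toKv P (y - a) := by
        have hab' : AdFn.toKv P a + b' = AdFn.toKv P y := hab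
        rw [map_sub, ← hab', add_sub_cancel_left]
      rw [hb'eq, AdFn.toKv_mem_Ov] at hb'O
      rw [Submodule.mem_sup]
      refine ⟨a, ha, y - a, ?_, by ring⟩
      intro v hv
      have hvP : v = P := by
        by_contra hne
        exact hv hne
      rw [hvP]; exact hb'O
    · apply sup_le
      · intro a ha
        rw [LinearMap.mem_ker, hg, Submodule.mkQ_apply, Submodule.Quotient.mk_eq_zero]
        exact (le_sup_left : _ ≤ W) ⟨a, ha, rfl⟩
      · intro b hb
        rw [LinearMap.mem_ker, hg, Submodule.mkQ_apply, Submodule.Quotient.mk_eq_zero]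
        apply hOW
        rw [AdFn.toKv_mem_Ov]
        exact hb P (fun h => h rfl)
  obtain ⟨hfin, hrank⟩ := finrank_quot_SInt hK P
  let e := (Submodule.quotEquivOfEq _ _ hker).symm.trans (g.quotKerEquivOfSurjective hsurj)
  exact ⟨LinearEquiv.finiteDimensional e, by rw [← LinearEquiv.finrank_eq e]; exact hrank⟩

end AdFnDense

end Groth.Agent.Lib.H40FunFld
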