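import Groth.Agent.Lib.H40AdFnDense

set_option autoImplicit false
set_option linter.style.haveILetI false
set_option linter.unusedSectionVars false
open FunFld

namespace Groth.Agent.Lib.H40FunFld

universe u

section AdFnSA

variable {k K : Type u} [Field k] [Field K] [Algebra k K]

/-- Strong approximation in adelic form. -/
theorem adele_strong_approx (hK : FunFld.IsFunctionField k K) [AdFn.HasFinitePoles k K]
    (S : Set (FunFld.Place k K)) (hS : S.Nonempty) (a : AdFn.AdeleRing k K) :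
    ∃ f : K, ∀ v : FunFld.Place k K, v ∉ S →
      AdFn.AdeleRing.proj v (a - AdFn.AdeleRing.diag f) ∈ AdFn.Ov v := by
  classical
  obtain ⟨Pinf, hPinf⟩ := hS
  have hfin : {v : FunFld.Place k K | a.1 v ∉ AdFn.Ov v}.Finite := by
    have := a.2
    rw [Filter.eventually_cofinite] at this
    exact this
  set T : Finset (FunFld.Place k K) := hfin.toFinset.erase Pinf with hT
  let P : Fin T.card → FunFld.Place k K := fun i => (T.equivFin.symm i).1
  have hP : Function.Injective P := fun i j h =>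
    T.equivFin.symm.injective (Subtype.ext h)
  have hPT : ∀ i, P i ∈ T := fun i => (T.equivFin.symm i).2
  have hinf : Pinf ∉ Set.range P := by
    rintro ⟨i, hi⟩
    have := hPT i
    rw [hi, hT] at this
    exact Finset.notMem_erase _ _ this
  have hy : ∀ i, ∃ y : K, a.1 (P i) - AdFn.toKv (P i) y ∈ AdFn.Ov (P i) := fun i =>
    exists_toKv_sub_mem_Ov (P i) (a.1 (P i))
  choose y hy using hy
  obtain ⟨f, hf1, hf2⟩ := strong_approx hK Pinf P hP hinf y (fun _ => 0)
  refine ⟨f, fun v hv => ?_⟩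
  have hvinf : v ≠ Pinf := fun h => hv (h ▸ hPinf)
  rw [map_sub, AdFn.AdeleRing.proj_apply, AdFn.AdeleRing.proj_diag]
  by_cases hvT : v ∈ T
  · obtain ⟨i, rfl⟩ : ∃ i, P i = v := ⟨T.equivFin ⟨v, hvT⟩, by simp [P]⟩
    have h1 : a.1 (P i) - AdFn.toKv (P i) f =
        (a.1 (P i) - AdFn.toKv (P i) (y i)) - AdFn.toKv (P i) (f - y i) := by
      rw [map_sub]; ring
    rw [h1]
    refine sub_mem (hy i) ?_
    rw [AdFn.toKv_mem_Ov, hf1 i]
    simp
  · have hvT' : a.1 v ∈ AdFn.Ov v := by
      by_contra hn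
      apply hvT
      rw [hT, Finset.mem_erase]
      exact ⟨hvinf, by rw [Set.Finite.mem_toFinset]; exact hn⟩
    refine sub_mem hvT' ?_
    rw [AdFn.toKv_mem_Ov]
    apply hf2 v hvinf
    rintro ⟨i, rfl⟩
    exact hvT (hPT i)

theorem adele_SInt_iff [AdFn.HasFinitePoles k K]
    (S : Set (FunFld.Place k K)) (b : AdFn.AdeleRing k K)
    (hb : ∀ v : FunFld.Place k K, v ∉ S → AdFn.AdeleRing.proj v b = 0) :
    (∃ f : K, ∀ v : FunFld.Place k K,
        AdFn.AdeleRing.proj v (b - AdFn.AdeleRing.diag f) ∈ AdFn.Ov v) ↔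
      ∃ f ∈ AdFn.SInt S, ∀ v ∈ S, AdFn.AdeleRing.proj v b - AdFn.toKv v f ∈ AdFn.Ov v := by
  constructor
  · rintro ⟨f, hf⟩
    refine ⟨f, fun v hv => ?_, fun v _ => ?_⟩
    · have := hf v
      rw [map_sub, hb v hv, AdFn.AdeleRing.proj_diag, zero_sub] at this
      have h2 := neg_mem this
      rw [neg_neg, AdFn.toKv_mem_Ov] at h2
      exact h2
    · have := hf v
      rwa [map_sub, AdFn.AdeleRing.proj_diag] at this
  · rintro ⟨f, hfS, hf⟩
    refine ⟨f, fun v => ?_⟩
    rw [map_sub, AdFn.AdeleRing.proj_diag]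
    by_cases hv : v ∈ S
    · exact hf v hv
    · rw [hb v hv, zero_sub]
      apply neg_mem
      rw [AdFn.toKv_mem_Ov]
      exact hfS v hv

end AdFnSA

end Groth.Agent.Lib.H40FunFld
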