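import Groth.Agent.Lib.H40FunFldPlace
import Groth.Agent.Lib.H40FunFldExt
import Mathlib.RingTheory.NoetherNormalization
import Mathlib.RingTheory.KrullDimension.Polynomial
import Mathlib.RingTheory.Ideal.GoingUp
import Mathlib.RingTheory.Ideal.HasGoingUp
import Mathlib.RingTheory.KrullDimension.Field
import Mathlib.RingTheory.EssentialFiniteness

set_option autoImplicit false
set_option linter.style.haveILetI false
set_option linter.unusedSectionVars false
open FunFld Polynomial

namespace Groth.Agent.Lib.H40AffCurveVal

open IntermediateField Groth.Agent.Lib.H40FunFld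

universe u

section Integral

variable {R S : Type*} [CommRing R] [CommRing S] [Algebra R S]

/-- An injective integral extension does not lower the dimension (as in helper8's `Lib/FTDim`). -/
theorem ringKrullDim_le_of_isIntegral_of_injective [Algebra.IsIntegral R S]
    (hinj : Function.Injective (algebraMap R S)) : ringKrullDim R ≤ ringKrullDim S := by
  rw [ringKrullDim, Order.krullDim]
  refine iSup_le fun l ↦ ?_
  obtain ⟨Q, -, hQ, hQc⟩ := Ideal.exists_ideal_over_prime_of_isIntegral
    (S := S) l.head.asIdeal ⊥ (by
      rw [← RingHom.ker_eq_comap_bot, (RingHom.injective_iff_ker_eq_bot _).mp hinj]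
      exact bot_le)
  have : Q.LiesOver l.head.asIdeal := ⟨hQc.symm⟩
  obtain ⟨L, hL, -, -⟩ := Ideal.exists_ltSeries_of_hasGoingUp l Q
  rw [← hL]
  exact Order.LTSeries.length_le_krullDim L

theorem ringKrullDim_eq_of_isIntegral_of_injective [Algebra.IsIntegral R S]
    (hinj : Function.Injective (algebraMap R S)) : ringKrullDim R = ringKrullDim S :=
  le_antisymm (ringKrullDim_le_of_isIntegral_of_injective hinj)
    (Order.krullDim_le_of_strictMono
      (fun I ↦ ⟨Ideal.comap (algebraMap R S) I.asIdeal, inferInstance⟩)
      (fun I J hIJ ↦ by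
        have : I.asIdeal < J.asIdeal := hIJ
        exact Ideal.IsIntegral.comap_lt_comap (R := R) this))

end Integral

section Main

variable (k A F : Type u) [Field k] [CommRing A] [IsDomain A] [Algebra k A]
  [Algebra.FiniteType k A] [Field F] [Algebra A F] [IsFractionRing A F] [Algebra k F]
  [IsScalarTower k A F]

/-- The fraction field of a one-dimensional finite type domain over `k` is finite over `k(t)` for
some transcendental `t`. -/
theorem exists_transcendental_finite (hA : ringKrullDim A = 1) :
    ∃ t : F, Transcendental k t ∧ FiniteDimensional k⟮t⟯ F := by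
  obtain ⟨s, g, hginj, hgint⟩ := exists_integral_inj_algHom_of_fg k A
  -- `s = 1`
  have hs : s = 1 := by
    letI := g.toRingHom.toAlgebra
    haveI : Algebra.IsIntegral (MvPolynomial (Fin s) k) A := ⟨hgint⟩
    have h1 := ringKrullDim_eq_of_isIntegral_of_injective
      (R := MvPolynomial (Fin s) k) (S := A) hginj
    rw [MvPolynomial.ringKrullDim_of_isNoetherianRing, ringKrullDim_eq_zero_of_field, hA] at h1
    simp only [Nat.card_eq_fintype_card, Fintype.card_fin, zero_add] at h1
    exact_mod_cast h1
  subst hs
  have hAF : Function.Injective (algebraMap A F) := IsFractionRing.injective A F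
  set t : F := algebraMap A F (g (MvPolynomial.X 0)) with ht
  -- the composite `k[X] → F`
  let G : MvPolynomial (Fin 1) k →ₐ[k] F := (IsScalarTower.toAlgHom k A F).comp g
  have hGinj : Function.Injective G := hAF.comp hginj
  have hGX : ∀ i : Fin 1, G (MvPolynomial.X i) = t := by
    intro i
    rw [Subsingleton.elim i 0]
    rfl
  have htr : Transcendental k t := by
    intro halg
    obtain ⟨p, hp0, hp⟩ := halg
    -- `p(X 0)` is a nonzero element of the kernel of `G`
    have h1 : G (Polynomial.aeval (MvPolynomial.X 0 : MvPolynomial (Fin 1) k) p) = 0 := by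
      rw [← Polynomial.aeval_algHom_apply, hGX]
      exact hp
    have h2 := (map_eq_zero_iff G hGinj).1 h1
    have h3 : Function.Injective
        (Polynomial.aeval (MvPolynomial.X 0 : MvPolynomial (Fin 1) k) : k[X] →ₐ[k] _) := by
      have := (MvPolynomial.algebraicIndependent_X (Fin 1) k)
      have h4 := this.comp (fun _ : Unit => (0 : Fin 1)) (fun _ _ _ => rfl)
      rw [algebraicIndependent_unique_type_iff] at h4
      exact transcendental_iff_injective.1 h4
    exact hp0 ((map_eq_zero_iff _ h3).1 h2)
  refine ⟨t, htr, ?_⟩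
  -- the map `k[X] → k(t)`
  let ψ : MvPolynomial (Fin 1) k →ₐ[k] ↥k⟮t⟯ := MvPolynomial.aeval (fun _ => AdjoinSimple.gen k t)
  have hψ : ∀ q, algebraMap ↥k⟮t⟯ F (ψ q) = G q := by
    intro q
    have : (IsScalarTower.toAlgHom k ↥k⟮t⟯ F).comp ψ = G := by
      apply MvPolynomial.algHom_ext
      intro i
      rw [hGX]
      simp [ψ]
    exact DFunLike.congr_fun this q
  -- every element of `A` is algebraic over `k(t)`
  have hAalg : ∀ a : A, IsIntegral ↥k⟮t⟯ (algebraMap A F a) := by
    intro a
    obtain ⟨p, hpm, hp⟩ := hgint a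
    refine ⟨p.map ψ.toRingHom, hpm.map _, ?_⟩
    rw [Polynomial.eval₂_map]
    have h1 : (algebraMap ↥k⟮t⟯ F).comp ψ.toRingHom = (algebraMap A F).comp g.toRingHom := by
      ext q
      · change algebraMap ↥k⟮t⟯ F (ψ (MvPolynomial.C q)) = algebraMap A F (g (MvPolynomial.C q))
        exact hψ _
      · exact hψ _
    rw [h1, ← Polynomial.hom_eval₂, hp, map_zero]
  haveI : Algebra.IsAlgebraic ↥k⟮t⟯ F := by
    refine ⟨fun x => ?_⟩
    obtain ⟨a, b, hb, rfl⟩ := IsFractionRing.div_surjective (A := A) x
    rw [div_eq_mul_inv]
    exact ((hAalg a).isAlgebraic).mul (IsAlgebraic.inv_iff.2 (hAalg b).isAlgebraic)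
  haveI : Algebra.EssFiniteType A F := Algebra.EssFiniteType.of_isLocalization F (nonZeroDivisors A)
  haveI : Algebra.EssFiniteType k F := Algebra.EssFiniteType.comp k A F
  haveI : Algebra.EssFiniteType ↥k⟮t⟯ F := Algebra.EssFiniteType.of_comp k ↥k⟮t⟯ F
  exact Algebra.finite_of_essFiniteType_of_isAlgebraic

end Main

section Finite

variable (k A F : Type u) [Field k] [CommRing A] [IsDomain A] [Algebra k A]
  [Algebra.FiniteType k A] [Field F] [Algebra A F] [IsFractionRing A F] [Algebra k F]
  [IsScalarTower k A F]

/-- Only finitely many valuation subrings of the function field of an affine curve contain `k`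
but not the coordinate ring. -/
theorem finite_valuationSubrings_not_containing (hA : ringKrullDim A = 1) :
    {O : ValuationSubring F | (algebraMap k F).range ≤ O.toSubring ∧
        ¬ (algebraMap A F).range ≤ O.toSubring}.Finite := by
  classical
  obtain ⟨t, htr, hfin⟩ := exists_transcendental_finite k A F hA
  have hF := isFunctionField_constField (k := k) (L := F) htr
  obtain ⟨S, hS⟩ := (Algebra.FiniteType.out : (⊤ : Subalgebra k A).FG)
  let T : Set (FunFld.Place ↥(constField k F) F) :=
    ⋃ a ∈ S, Function.support (fun P : FunFld.Place ↥(constField k F) F =>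
      P.ord (algebraMap A F a))
  have hT : T.Finite := Set.Finite.biUnion S.finite_toSet (fun a _ => finite_support_ord hF _)
  refine (hT.image (fun P => P.O)).subset ?_
  rintro O ⟨hk, hnA⟩
  have hkO : ∀ c : k, algebraMap k F c ∈ O := fun c => hk ⟨c, rfl⟩
  -- some generator is not in `O`
  have hex : ∃ a ∈ S, algebraMap A F a ∉ O := by
    by_contra hall
    push Not at hall
    apply hnA
    rintro _ ⟨a, rfl⟩
    have ha : a ∈ Algebra.adjoin k (S : Set A) := by rw [hS]; trivial
    change algebraMap A F a ∈ O
    induction ha using Algebra.adjoin_induction with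
    | mem x hx => exact hall x hx
    | algebraMap c => rw [← IsScalarTower.algebraMap_apply]; exact hkO c
    | add x y _ _ hx hy => rw [map_add]; exact O.add_mem _ _ hx hy
    | mul x y _ _ hx hy => rw [map_mul]; exact O.mul_mem _ _ hx hy
  obtain ⟨a, haS, haO⟩ := hex
  -- the valuation of `O` is trivial on `k`
  have htriv : TrivialOn (k := k) O.valuation := by
    intro c hc
    apply le_antisymm ((O.valuation_le_one_iff _).2 (hkO c))
    have h1 : O.valuation (algebraMap k F c⁻¹) ≤ 1 := (O.valuation_le_one_iff _).2 (hkO c⁻¹)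
    rw [map_inv₀, map_inv₀] at h1
    have h2 : O.valuation (algebraMap k F c) ≠ 0 :=
      (Valuation.ne_zero_iff _).2 ((_root_.map_ne_zero _).2 hc)
    exact (inv_le_one₀ (zero_lt_iff.2 h2)).1 h1
  have hk₀ : ∀ c : ↥(constField k F), algebraMap ↥(constField k F) F c ∈ O := by
    intro c
    by_cases hc : (c : F) = 0
    · change (c : F) ∈ O
      rw [hc]; exact O.zero_mem
    · rw [← O.valuation_le_one_iff]
      exact (gval_eq_one_of_isAlgebraic htriv hc (mem_algebraicClosure_iff.1 c.2)).le
  have ha0 : algebraMap A F a ≠ 0 := by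
    intro h0; rw [h0] at haO; exact haO O.zero_mem
  have hainv : O.valuation (algebraMap A F a)⁻¹ < 1 := by
    rw [map_inv₀]
    have h1 : 1 < O.valuation (algebraMap A F a) := by
      rw [← not_le, O.valuation_le_one_iff]; exact haO
    exact inv_lt_one_of_one_lt₀ h1
  obtain ⟨P, hP, -⟩ := exists_place_of_valuationSubring O hF hk₀ (inv_ne_zero ha0) hainv
  refine ⟨P, ?_, ?_⟩
  · refine Set.mem_biUnion haS ?_
    rw [Function.mem_support]
    intro h0
    have h1 : P.1 (algebraMap A F a) = 1 := by
      rw [val_eq_exp_neg_ord P ha0, h0, neg_zero, WithZero.exp_zero]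
    exact haO ((hP _).1 h1.le)
  · ext x
    exact hP x

end Finite

end Groth.Agent.Lib.H40AffCurveVal
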