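import Groth.Agent.Lib.H40UnramCore

set_option autoImplicit false
universe u

namespace Groth.Agent.Lib.H40ArtinSchreier

open IsLocalRing Polynomial IntermediateField

section Field

variable {p : ℕ} [Fact p.Prime] {K L : Type u} [Field K] [Field L] [Algebra K L] [CharP K p]

omit [Fact p.Prime] in
include K in
theorem charP_L : CharP L p := charP_of_injective_algebraMap (algebraMap K L).injective p

/-- the Artin–Schreier polynomial -/
noncomputable def asPoly {R : Type*} [CommRing R] (ξ : R) : R[X] := X ^ p - X - C ξ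

omit [Fact p.Prime] in
theorem asPoly_monic' {R : Type*} [CommRing R] [Nontrivial R] (hp : 1 < p) (ξ : R) :
    (asPoly (p := p) ξ).Monic := by
  rw [asPoly, sub_sub]
  apply monic_X_pow_sub
  refine lt_of_le_of_lt (degree_add_le _ _) (max_lt ?_ ?_)
  · rw [degree_X]; exact_mod_cast hp
  · refine lt_of_le_of_lt degree_C_le ?_
    exact_mod_cast (by omega : 0 < p)

omit [CharP K p] in
theorem asPoly_monic (ξ : K) : (asPoly (p := p) ξ).Monic :=
  asPoly_monic' (Fact.out : p.Prime).one_lt ξ

omit [Fact p.Prime] in
theorem asPoly_map {R S : Type*} [CommRing R] [CommRing S] (φ : R →+* S) (ξ : R) :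
    (asPoly (p := p) ξ).map φ = asPoly (p := p) (φ ξ) := by
  rw [asPoly, asPoly, Polynomial.map_sub, Polynomial.map_sub, Polynomial.map_pow, map_X, map_C]

omit [CharP K p] in
theorem asPoly_natDegree (ξ : K) : (asPoly (p := p) ξ).natDegree = p := by
  have hp : 1 < p := (Fact.out : p.Prime).one_lt
  rw [asPoly, sub_sub, natDegree_sub_eq_left_of_natDegree_lt, natDegree_X_pow]
  rw [natDegree_X_pow]
  refine lt_of_le_of_lt (natDegree_add_le _ _) (max_lt ?_ ?_)
  · rw [natDegree_X]; exact hp
  · rw [natDegree_C]; omega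

omit [Fact p.Prime] in
theorem asPoly_separable (ξ : K) : (asPoly (p := p) ξ).Separable := by
  rw [separable_def]
  have h1 : derivative (asPoly (p := p) ξ) = -1 := by
    rw [asPoly, derivative_sub, derivative_sub, derivative_X_pow, derivative_X, derivative_C,
      sub_zero]
    have : (C (p : K) : K[X]) = 0 := by rw [CharP.cast_eq_zero, map_zero]
    rw [this, zero_mul, zero_sub]
  rw [h1]
  exact isCoprime_one_right.neg_right

omit [Fact p.Prime] [CharP K p] in
theorem aeval_asPoly (ξ : K) (y : L) : aeval y (asPoly (p := p) ξ) = y ^ p - y - algebraMap K L ξ := by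
  rw [asPoly, map_sub, map_sub, map_pow, aeval_X, aeval_C]

omit [Fact p.Prime] in
theorem aeval_asPoly' {R S : Type*} [CommRing R] [CommRing S] [Algebra R S] (ξ : R) (y : S) :
    aeval y (asPoly (p := p) ξ) = y ^ p - y - algebraMap R S ξ := by
  rw [asPoly, map_sub, map_sub, map_pow, aeval_X, aeval_C]


variable (p) in
include K in
/-- roots of the Artin–Schreier polynomial: translates by naturals. -/
theorem as_root_add (ξ : K) {z : L} (hz : z ^ p - z = algebraMap K L ξ) (i : ℕ) :
    (z + (i : L)) ^ p - (z + (i : L)) = algebraMap K L ξ := by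
  have : CharP L p := charP_L (K := K)
  have h1 : ((i : L)) ^ p = (i : L) := by
    rw [← frobenius_def, map_natCast]
  rw [add_pow_char, h1, ← hz]; ring

open scoped Classical in
theorem as_roots_eq (ξ : K) {z : L} (hz : z ^ p - z = algebraMap K L ξ) :
    ((asPoly (p := p) ξ).map (algebraMap K L)).roots =
      ((Finset.range p).image (fun i : ℕ => z + (i : L))).val := by
  classical
  have hchar : CharP L p := charP_L (K := K)
  have hmonic : ((asPoly (p := p) ξ).map (algebraMap K L)).Monic := (asPoly_monic ξ).map _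
  have hdeg : ((asPoly (p := p) ξ).map (algebraMap K L)).natDegree = p := by
    rw [(asPoly_monic ξ).natDegree_map, asPoly_natDegree]
  set S : Finset L := (Finset.range p).image (fun i : ℕ => z + (i : L)) with hS
  have hcard : S.card = p := by
    rw [hS, Finset.card_image_of_injOn, Finset.card_range]
    intro i hi j hj hij
    have h1 : (i : L) = (j : L) := add_left_cancel hij
    exact CharP.natCast_injOn_Iio L p (by simpa using hi) (by simpa using hj) h1
  have hsub : S.val ≤ ((asPoly (p := p) ξ).map (algebraMap K L)).roots := by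
    rw [Multiset.le_iff_subset S.nodup]
    intro y hy
    rw [Finset.mem_val, hS, Finset.mem_image] at hy
    obtain ⟨i, -, rfl⟩ := hy
    rw [mem_roots hmonic.ne_zero, IsRoot, eval_map_algebraMap, aeval_asPoly, as_root_add p ξ hz,
      sub_self]
  refine (Multiset.eq_of_le_of_card_le hsub ?_).symm
  calc _ ≤ _ := card_roots' _
    _ = p := hdeg
    _ = S.val.card := hcard.symm

theorem as_splits (ξ : K) {z : L} (hz : z ^ p - z = algebraMap K L ξ) :
    ((asPoly (p := p) ξ).map (algebraMap K L)).Splits := by
  classical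
  have hchar : CharP L p := charP_L (K := K)
  rw [splits_iff_card_roots, as_roots_eq ξ hz, (asPoly_monic ξ).natDegree_map, asPoly_natDegree]
  change ((Finset.range p).image (fun i : ℕ => z + (i : L))).card = p
  rw [Finset.card_image_of_injOn, Finset.card_range]
  intro i hi j hj hij
  have h1 : (i : L) = (j : L) := add_left_cancel hij
  exact CharP.natCast_injOn_Iio L p (by simpa using hi) (by simpa using hj) h1

theorem as_root_eq (ξ : K) {z : L} (hz : z ^ p - z = algebraMap K L ξ) {y : L}
    (hy : y ^ p - y = algebraMap K L ξ) : ∃ i : ℕ, y = z + (i : L) := by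
  classical
  have hmonic : ((asPoly (p := p) ξ).map (algebraMap K L)).Monic := (asPoly_monic ξ).map _
  have h1 : y ∈ ((asPoly (p := p) ξ).map (algebraMap K L)).roots := by
    rw [mem_roots hmonic.ne_zero, IsRoot, eval_map_algebraMap, aeval_asPoly, hy, sub_self]
  rw [as_roots_eq ξ hz, Finset.mem_val, Finset.mem_image] at h1
  obtain ⟨i, -, hi⟩ := h1
  exact ⟨i, hi.symm⟩

theorem as_isGalois (ξ : K) {z : L} (hz : z ^ p - z = algebraMap K L ξ) (hgen : K⟮z⟯ = ⊤) :
    IsGalois K L := by
  have hzroot : aeval z (asPoly (p := p) ξ) = 0 := by rw [aeval_asPoly, hz, sub_self]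
  have hzint : IsIntegral K z := ⟨_, asPoly_monic ξ, hzroot⟩
  have hsf : (asPoly (p := p) ξ).IsSplittingField K L := by
    refine ⟨as_splits ξ hz, ?_⟩
    rw [eq_top_iff]
    have h1 : Algebra.adjoin K {z} = ⊤ := by
      rw [← IntermediateField.adjoin_simple_toSubalgebra_of_isAlgebraic hzint.isAlgebraic, hgen]
      rfl
    rw [← h1]
    apply Algebra.adjoin_mono
    rw [Set.singleton_subset_iff, mem_rootSet]
    exact ⟨(asPoly_monic ξ).ne_zero, hzroot⟩
  exact IsGalois.of_separable_splitting_field (p := asPoly (p := p) ξ) (asPoly_separable ξ)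


theorem as_finrank (ξ : K) {z : L} (hz : z ^ p - z = algebraMap K L ξ) (hgen : K⟮z⟯ = ⊤) :
    Module.finrank K L = 1 ∨ Module.finrank K L = p := by
  classical
  have hp : p.Prime := Fact.out
  have hchar : CharP L p := charP_L (K := K)
  have hgal : IsGalois K L := as_isGalois ξ hz hgen
  have hzroot : aeval z (asPoly (p := p) ξ) = 0 := by rw [aeval_asPoly, hz, sub_self]
  have hzint : IsIntegral K z := ⟨_, asPoly_monic ξ, hzroot⟩
  have hadj : Algebra.adjoin K {z} = ⊤ := by
    rw [← IntermediateField.adjoin_simple_toSubalgebra_of_isAlgebraic hzint.isAlgebraic, hgen]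
    rfl
  have hfd : FiniteDimensional K L := by
    have := IntermediateField.adjoin.finiteDimensional hzint
    rw [hgen] at this
    exact (IntermediateField.topEquiv (F := K) (E := L)).toLinearEquiv.finiteDimensional
  -- the cocycle
  have hex : ∀ σ : L ≃ₐ[K] L, ∃ c : ZMod p, ∃ i : ℕ, (i : ZMod p) = c ∧ σ z = z + (i : L) := by
    intro σ
    have h1 : (σ z) ^ p - σ z = algebraMap K L ξ := by
      rw [← map_pow, ← map_sub, hz, σ.commutes]
    obtain ⟨i, hi⟩ := as_root_eq ξ hz h1
    exact ⟨(i : ZMod p), i, rfl, hi⟩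
  choose c hc using hex
  have huniq : ∀ (σ : L ≃ₐ[K] L) (i : ℕ), σ z = z + (i : L) → (i : ZMod p) = c σ := by
    intro σ i hi
    obtain ⟨j, hj, hj'⟩ := hc σ
    rw [← hj]
    have h1 : (i : L) = (j : L) := add_left_cancel (hi.symm.trans hj')
    rw [ZMod.natCast_eq_natCast_iff]
    exact (CharP.natCast_eq_natCast L p).mp h1
  have hmul : ∀ σ τ : L ≃ₐ[K] L, c (σ * τ) = c σ + c τ := by
    intro σ τ
    obtain ⟨i, hi, hi'⟩ := hc σ
    obtain ⟨j, hj, hj'⟩ := hc τ
    rw [← hi, ← hj, ← Nat.cast_add]
    symm
    apply huniq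
    rw [AlgEquiv.mul_apply, hj', map_add, map_natCast, hi', Nat.cast_add]
    ring
  let ψ : (L ≃ₐ[K] L) →* Multiplicative (ZMod p) :=
    MonoidHom.mk' (fun σ => Multiplicative.ofAdd (c σ)) (fun σ τ => by
      rw [hmul, ofAdd_add])
  have hinj : Function.Injective ψ := by
    rw [injective_iff_map_eq_one]
    intro σ hσ
    have h1 : c σ = 0 := by
      have : Multiplicative.ofAdd (c σ) = 1 := hσ
      simpa using this
    obtain ⟨i, hi, hi'⟩ := hc σ
    rw [h1] at hi
    have h2 : (i : L) = 0 := by
      have : (i : L) = ((0 : ℕ) : L) := by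
        rw [CharP.natCast_eq_natCast L p]
        rw [← ZMod.natCast_eq_natCast_iff, hi, Nat.cast_zero]
      rw [this, Nat.cast_zero]
    rw [h2, add_zero] at hi'
    apply AlgEquiv.coe_toAlgHom_injective
    apply AlgHom.ext_of_adjoin_eq_top hadj
    intro x hx
    rw [Set.mem_singleton_iff] at hx
    rw [hx]
    exact hi'
  have h1 := Subgroup.card_dvd_of_injective ψ hinj
  rw [IsGalois.card_aut_eq_finrank, Nat.card_eq_fintype_card] at h1
  have h2 : Fintype.card (Multiplicative (ZMod p)) = p := by
    rw [Fintype.card_multiplicative, ZMod.card]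
  rw [h2] at h1
  exact (Nat.dvd_prime hp).mp h1

end Field


section DVR

variable {p : ℕ} [Fact p.Prime] {A K L : Type u} [CommRing A] [IsDomain A]
  [IsDiscreteValuationRing A] [Field K] [Algebra A K] [IsFractionRing A K] [Field L] [Algebra K L]
  [Algebra A L] [IsScalarTower A K L] [CharP K p]

omit [Fact p.Prime] [IsDiscreteValuationRing A] in
include K in
theorem charP_A : CharP A p :=
  (algebraMap A K).charP (IsFractionRing.injective A K) p

include K in
theorem charP_residue : CharP (ResidueField A) p := by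
  have hA : CharP A p := charP_A (K := K)
  rw [CharP.charP_iff_prime_eq_zero (Fact.out : p.Prime)]
  have : ((p : A) : A) = 0 := CharP.cast_eq_zero A p
  rw [← map_natCast (residue A), this, map_zero]

/-- case (A): `ξ ∈ A`. -/
theorem caseA {π : A} (hπ : maximalIdeal A = Ideal.span {π}) {ξ : K} {z : L}
    (hz : z ^ p - z = algebraMap K L ξ) (hgen : K⟮z⟯ = ⊤) (a : A) (ha : algebraMap A K a = ξ) :
    Module.finrank K L = 1 ∨
      (EtRam.IsUnramifiedExt A (algebraMap A L) ∧ Module.finrank K L = p) := by
  rcases as_finrank ξ hz hgen with h1 | h1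
  · exact Or.inl h1
  · refine Or.inr ⟨?_, h1⟩
    have hκ : CharP (ResidueField A) p := charP_residue (K := K)
    have hfz : aeval z (asPoly (p := p) a) = 0 := by
      rw [aeval_asPoly', hz, ← ha, ← IsScalarTower.algebraMap_apply, sub_self]
    apply Groth.Agent.Lib.H40UnramCore.isUnramifiedExt_of_separable (K := K) hπ hgen
      (asPoly (p := p) a) (asPoly_monic' (Fact.out : p.Prime).one_lt a) hfz
    rw [asPoly_map]
    exact asPoly_separable _


/-- valuation of `z` in case (B)/(C): `v(z)^p * v(π)^n = 1` when `ξ π^n` is a unit and `n > 0`. -/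
theorem val_z_pow {π : A} (hπ : maximalIdeal A = Ideal.span {π}) {ξ : K} {z : L}
    (hz : z ^ p - z = algebraMap K L ξ) (n : ℕ) (a : Aˣ) (hn : 0 < n)
    (hξ : ξ * algebraMap A K π ^ n = algebraMap A K a) {V : ValuationSubring L}
    (hV : EtRam.Dominates A (algebraMap A L) V) :
    V.valuation z ^ p * V.valuation (algebraMap A L π) ^ n = 1 ∧ 1 < V.valuation z := by
  have hp : p.Prime := Fact.out
  have hπmem : π ∈ maximalIdeal A := by rw [hπ]; exact Ideal.mem_span_singleton_self π
  have hϖ1 : V.valuation (algebraMap A L π) < 1 := hV.2 π hπmem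
  have h1 : V.valuation (algebraMap K L ξ) * V.valuation (algebraMap A L π) ^ n = 1 := by
    have h2 := congrArg (algebraMap K L) hξ
    rw [map_mul, map_pow, ← IsScalarTower.algebraMap_apply, ← IsScalarTower.algebraMap_apply] at h2
    have h3 := congrArg V.valuation h2
    rwa [map_mul, map_pow, Groth.Agent.Lib.H40TotRamCriterion.val_unit hV] at h3
  have hξ1 : 1 < V.valuation (algebraMap K L ξ) := by
    by_contra hcon
    push Not at hcon
    have h2 : V.valuation (algebraMap K L ξ) * V.valuation (algebraMap A L π) ^ n < 1 := by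
      calc V.valuation (algebraMap K L ξ) * V.valuation (algebraMap A L π) ^ n
          ≤ 1 * V.valuation (algebraMap A L π) ^ n := mul_le_mul_left hcon _
        _ = V.valuation (algebraMap A L π) ^ n := one_mul _
        _ < 1 := pow_lt_one₀ zero_le hϖ1 hn.ne'
    rw [h1] at h2
    exact lt_irrefl _ h2
  have hz1 : 1 < V.valuation z := by
    by_contra hcon
    push Not at hcon
    have h2 : V.valuation (z ^ p - z) ≤ 1 := by
      refine le_trans (Valuation.map_sub _ _ _) (max_le ?_ hcon)
      rw [map_pow]; exact pow_le_one₀ zero_le hcon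
    rw [hz] at h2
    exact absurd hξ1 (not_lt.mpr h2)
  refine ⟨?_, hz1⟩
  have h2 : V.valuation z < V.valuation (z ^ p) := by
    rw [map_pow]
    calc V.valuation z = V.valuation z ^ 1 := (pow_one _).symm
      _ < V.valuation z ^ p := pow_lt_pow_right₀ hz1 hp.one_lt
  have h3 : V.valuation (z ^ p - z) = V.valuation (z ^ p) := Valuation.map_sub_eq_of_lt_left _ h2
  rw [hz, map_pow] at h3
  rw [← h3]; exact h1

/-- case (B): pole order prime to `p`. -/
theorem caseB {π : A} (hπ : maximalIdeal A = Ideal.span {π}) {ξ : K} {z : L}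
    (hz : z ^ p - z = algebraMap K L ξ) (hgen : K⟮z⟯ = ⊤) (n : ℕ) (a : Aˣ) (hn : 0 < n)
    (hpn : ¬ p ∣ n) (hξ : ξ * algebraMap A K π ^ n = algebraMap A K a) :
    EtRam.IsTotallyRamified A (algebraMap A L) ∧ Module.finrank K L = p := by
  have hp : p.Prime := Fact.out
  have hπirr : Irreducible π := (IsDiscreteValuationRing.irreducible_iff_uniformizer π).mpr hπ
  have hπmem : π ∈ maximalIdeal A := by rw [hπ]; exact Ideal.mem_span_singleton_self π
  have hinj : Function.Injective (algebraMap A L) :=
    Groth.Agent.Lib.H40TotRamCriterion.algebraMap_injective' (K := K)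
  have hϖfacts : ∀ V : ValuationSubring L, EtRam.Dominates A (algebraMap A L) V →
      0 < V.valuation (algebraMap A L π) ∧ V.valuation (algebraMap A L π) < 1 := by
    intro V hV
    refine ⟨zero_lt_iff.mpr ?_, hV.2 π hπmem⟩
    rw [Valuation.ne_zero_iff]
    exact fun h => hπirr.ne_zero (hinj (h.trans (map_zero _).symm))
  -- degree
  have hfin : Module.finrank K L = p := by
    rcases as_finrank ξ hz hgen with h1 | h1
    · exfalso
      obtain ⟨V, hV⟩ := Groth.Agent.Lib.H40TotRamCriterion.exists_dominates (A := A) (L := L)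
      obtain ⟨hpos, hlt⟩ := hϖfacts V hV
      obtain ⟨hval, hz1⟩ := val_z_pow hπ hz n a hn hξ hV
      have h2 : z ∈ (⊥ : Subalgebra K L) := by
        rw [Subalgebra.bot_eq_top_of_finrank_eq_one h1]; trivial
      obtain ⟨c, hc⟩ := Algebra.mem_bot.mp h2
      have hc0 : c ≠ 0 := by
        rintro rfl
        rw [map_zero] at hc
        rw [← hc, map_zero] at hz1
        exact absurd hz1 (not_lt.mpr zero_le)
      obtain ⟨m, hm, -⟩ := Groth.Agent.Lib.H40TotRamCriterion.val_algebraMap_K hπirr hV hc0
      rw [← hc, hm, ← zpow_natCast, ← zpow_mul, ← zpow_natCast, ← zpow_add₀ hpos.ne'] at hval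
      have h3 : m * (p : ℤ) + (n : ℤ) = 0 := by
        have := zpow_right_injective₀ hpos hlt.ne (hval.trans (zpow_zero _).symm)
        exact this
      apply hpn
      have h4 : (p : ℤ) ∣ (n : ℤ) := ⟨-m, by linear_combination h3⟩
      exact Int.natCast_dvd_natCast.mp h4
    · exact h1
  refine ⟨?_, hfin⟩
  -- Bezout
  have hcop : Nat.Coprime n p := ((Nat.Prime.coprime_iff_not_dvd hp).mpr hpn).symm
  have hbez : (1 : ℤ) = n * Nat.gcdA n p + p * Nat.gcdB n p := by
    have := Nat.gcd_eq_gcd_ab n p
    rwa [hcop, Nat.cast_one] at this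
  set s := Nat.gcdA n p with hs
  set t := Nat.gcdB n p with ht
  apply Groth.Agent.Lib.H40TotRamCriterion.isTotallyRamified_of_val_pow_eq hπ hp.pos hfin
    (z ^ (-s) * (algebraMap A L π) ^ t)
  intro V hV
  obtain ⟨hpos, hlt⟩ := hϖfacts V hV
  obtain ⟨hval, hz1⟩ := val_z_pow hπ hz n a hn hξ hV
  have hγ0 : V.valuation z ≠ 0 := (lt_trans zero_lt_one hz1).ne'
  have hγp : V.valuation z ^ (p : ℤ) = V.valuation (algebraMap A L π) ^ (-(n : ℤ)) := by
    rw [zpow_natCast, zpow_neg, zpow_natCast]
    exact eq_inv_of_mul_eq_one_left hval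
  rw [map_mul, map_zpow₀, map_zpow₀, mul_pow, ← zpow_natCast, ← zpow_natCast, ← zpow_mul, ← zpow_mul,
    mul_comm (-s) (p : ℤ), zpow_mul, hγp, ← zpow_mul, ← zpow_add₀ hpos.ne']
  have h5 : -(n : ℤ) * -s + t * (p : ℤ) = 1 := by rw [hbez]; ring
  rw [h5, zpow_one]


/-- the fourth case of the tetrachotomy -/
def Case4 (p : ℕ) (A : Type u) [CommRing A] [IsLocalRing A] {L : Type u} [Field L] (g : A →+* L) :
    Prop :=
  (∃ V : ValuationSubring L, EtRam.Dominates A g V) ∧
    (∀ V V' : ValuationSubring L, EtRam.Dominates A g V → EtRam.Dominates A g V' → V = V') ∧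
    ∀ (V : ValuationSubring L) (h : EtRam.Dominates A g V),
      letI : Algebra A V := (RingHom.codRestrict g V h.1).toAlgebra
      ∀ [IsLocalHom (algebraMap A V)],
        EtRam.IsWeaklyUnramified A V ∧
          IsPurelyInseparable (IsLocalRing.ResidueField A) (IsLocalRing.ResidueField V) ∧
          Module.finrank (IsLocalRing.ResidueField A) (IsLocalRing.ResidueField V) = p

/-- case (C): pole order divisible by `p`, leading residue not a `p`-th power. -/
theorem caseC {π : A} (hπ : maximalIdeal A = Ideal.span {π}) {ξ : K} {z : L}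
    (hz : z ^ p - z = algebraMap K L ξ) (hgen : K⟮z⟯ = ⊤) (n : ℕ) (a : A) (hn : 0 < n)
    (hpn : p ∣ n) (hres : ∀ r : A, residue A a ≠ residue A r ^ p)
    (hξ : ξ * algebraMap A K π ^ n = algebraMap A K a) :
    Case4 p A (algebraMap A L) := by
  have hp : p.Prime := Fact.out
  have hκ : CharP (ResidueField A) p := charP_residue (K := K)
  have hπirr : Irreducible π := (IsDiscreteValuationRing.irreducible_iff_uniformizer π).mpr hπ
  have hπmem : π ∈ maximalIdeal A := by rw [hπ]; exact Ideal.mem_span_singleton_self π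
  have hinj : Function.Injective (algebraMap A L) :=
    Groth.Agent.Lib.H40TotRamCriterion.algebraMap_injective' (K := K)
  obtain ⟨m, rfl⟩ := hpn
  have hm : 0 < m := Nat.pos_of_mul_pos_left hn |> fun h => by
    rcases Nat.eq_zero_or_pos m with h0 | h0
    · rw [h0, mul_zero] at hn; exact absurd hn (lt_irrefl _)
    · exact h0
  have hpm : 1 ≤ p * m - m := by
    have : 2 * m ≤ p * m := Nat.mul_le_mul_right m hp.two_le
    omega
  set y : L := algebraMap A L (π ^ m) * z with hy
  set f : A[X] := X ^ p - (C (π ^ (p * m - m)) * X + C a) with hf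
  have hdeglt : degree (C (π ^ (p * m - m)) * X + C a : A[X]) < p := by
    refine lt_of_le_of_lt (degree_add_le _ _) (max_lt ?_ ?_)
    · refine lt_of_le_of_lt (degree_C_mul_X_le _) ?_
      exact_mod_cast hp.one_lt
    · refine lt_of_le_of_lt degree_C_le ?_
      exact_mod_cast hp.pos
  have hfmonic : f.Monic := monic_X_pow_sub hdeglt
  have hξL : algebraMap K L ξ * algebraMap A L π ^ (p * m) = algebraMap A L a := by
    have h2 := congrArg (algebraMap K L) hξ
    rwa [map_mul, map_pow, ← IsScalarTower.algebraMap_apply, ← IsScalarTower.algebraMap_apply] at h2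
  have hfy : aeval y f = 0 := by
    rw [hf, map_sub, map_add, map_mul, map_pow, aeval_X, aeval_C, aeval_C, hy, mul_pow, ← map_pow,
      ← pow_mul, ← mul_assoc, ← map_mul, ← pow_add, Nat.sub_add_cancel (by nlinarith [hp.two_le]),
      mul_comm m p, ← hξL, ← hz, map_pow]
    ring
  have hfmap : f.map (residue A) = X ^ p - C (residue A a) := by
    have h0 : residue A (π ^ (p * m - m)) = 0 := by
      rw [residue_eq_zero_iff]
      exact Ideal.pow_mem_of_mem _ hπmem _ hpm
    rw [hf, Polynomial.map_sub, Polynomial.map_add, Polynomial.map_mul, Polynomial.map_pow, map_X,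
      map_C, map_C, h0, map_zero, zero_mul, zero_add]
  have hirr : Irreducible (f.map (residue A)) := by
    rw [hfmap, X_pow_sub_C_irreducible_iff_of_prime hp]
    intro b hb
    obtain ⟨r, rfl⟩ := residue_surjective b
    exact hres r hb.symm
  have hgeny : K⟮y⟯ = ⊤ := by
    rw [eq_top_iff, ← hgen, adjoin_simple_le_iff]
    have hc0 : algebraMap A L (π ^ m) ≠ 0 := by
      intro h
      exact pow_ne_zero m hπirr.ne_zero (hinj (h.trans (map_zero _).symm))
    have h1 : z = (algebraMap A L (π ^ m))⁻¹ * y := by
      rw [hy, ← mul_assoc, inv_mul_cancel₀ hc0, one_mul]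
    rw [h1]
    apply mul_mem
    · apply inv_mem
      rw [IsScalarTower.algebraMap_apply A K L]
      exact IntermediateField.algebraMap_mem _ _
    · exact mem_adjoin_simple_self K y
  obtain ⟨hex, huniq⟩ := Groth.Agent.Lib.H40UnramCore.inert_of_irreducible (K := K) hπ hgeny f hfmonic
    hfy hirr
  refine ⟨hex, huniq, ?_⟩
  intro V hV
  let _ : Algebra A V := (RingHom.codRestrict (algebraMap A L) V hV.1).toAlgebra
  intro _
  obtain ⟨hwu, ⟨zb, hzb, htop⟩, -⟩ := Groth.Agent.Lib.H40UnramCore.inert_aux (K := K) hπ hgeny f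
    hfmonic hfy hirr V hV
  refine ⟨hwu, ?_, ?_⟩
  · have hzbp : zb ^ p = algebraMap (ResidueField A) (ResidueField V) (residue A a) := by
      rw [hfmap, map_sub, map_pow, aeval_X, aeval_C, sub_eq_zero] at hzb
      exact hzb
    have h1 : IsPurelyInseparable (ResidueField A) (ResidueField A)⟮zb⟯ := by
      rw [IntermediateField.isPurelyInseparable_adjoin_simple_iff_pow_mem (ResidueField A)
        (ResidueField V) p]
      exact ⟨1, by rw [pow_one, hzbp]; exact ⟨_, rfl⟩⟩
    rw [htop] at h1
    exact (IntermediateField.topEquiv (F := ResidueField A) (E := ResidueField V)).isPurelyInseparable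
  · have hmin : f.map (residue A) = minpoly (ResidueField A) zb :=
      minpoly.eq_of_irreducible_of_monic hirr hzb (hfmonic.map _)
    have hint : IsIntegral (ResidueField A) zb := ⟨_, hfmonic.map _, hzb⟩
    have h1 := IntermediateField.adjoin.finrank hint
    rw [htop, IntermediateField.finrank_top', ← hmin, hfmap, natDegree_X_pow_sub_C] at h1
    exact h1


/-- the general tetrachotomy, by induction on a bound for the pole order of `ξ`. -/
theorem general {π : A} (hπ : maximalIdeal A = Ideal.span {π}) :
    ∀ (N : ℕ) (ξ : K) (z : L), z ^ p - z = algebraMap K L ξ → K⟮z⟯ = ⊤ →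
      (∃ b : A, ξ * algebraMap A K π ^ N = algebraMap A K b) →
      Module.finrank K L = 1 ∨
        (EtRam.IsUnramifiedExt A (algebraMap A L) ∧ Module.finrank K L = p) ∨
        (EtRam.IsTotallyRamified A (algebraMap A L) ∧ Module.finrank K L = p) ∨
        Case4 p A (algebraMap A L) := by
  have hp : p.Prime := Fact.out
  have hπirr : Irreducible π := (IsDiscreteValuationRing.irreducible_iff_uniformizer π).mpr hπ
  have hϖ0 : algebraMap A K π ≠ 0 := by
    intro h
    exact hπirr.ne_zero (IsFractionRing.injective A K (h.trans (map_zero _).symm))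
  have hcharL : CharP L p := charP_L (K := K)
  intro N
  induction N with
  | zero =>
    intro ξ z hz hgen ⟨b, hb⟩
    rw [pow_zero, mul_one] at hb
    rcases caseA hπ hz hgen b hb.symm with h | h
    · exact Or.inl h
    · exact Or.inr (Or.inl h)
  | succ N ih =>
    intro ξ z hz hgen ⟨b, hb⟩
    by_cases hbm : b ∈ maximalIdeal A
    · -- pole order smaller
      rw [hπ, Ideal.mem_span_singleton] at hbm
      obtain ⟨b', rfl⟩ := hbm
      apply ih ξ z hz hgen
      refine ⟨b', ?_⟩
      rw [pow_succ, ← mul_assoc, map_mul, mul_comm (algebraMap A K π)] at hb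
      exact mul_right_cancel₀ hϖ0 hb
    · have hbu : IsUnit b := by
        simpa [mem_maximalIdeal, mem_nonunits_iff] using hbm
      by_cases hpn : p ∣ N + 1
      · by_cases hres : ∀ r : A, residue A b ≠ residue A r ^ p
        · exact Or.inr (Or.inr (Or.inr (caseC hπ hz hgen (N + 1) b (Nat.succ_pos N) hpn hres hb)))
        · push Not at hres
          obtain ⟨r, hr⟩ := hres
          obtain ⟨m, hm⟩ := hpn
          have hm0 : 0 < m := by
            rcases Nat.eq_zero_or_pos m with h0 | h0
            · rw [h0, mul_zero] at hm; exact absurd hm (Nat.succ_ne_zero N)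
            · exact h0
          have hNm : m ≤ N := by
            have : 2 * m ≤ p * m := Nat.mul_le_mul_right m hp.two_le
            omega
          -- b - r^p = π d
          have hd : b - r ^ p ∈ maximalIdeal A := by
            rw [← residue_eq_zero_iff, map_sub, map_pow, hr, sub_self]
          rw [hπ, Ideal.mem_span_singleton] at hd
          obtain ⟨d, hd⟩ := hd
          set c : K := algebraMap A K r * (algebraMap A K π ^ m)⁻¹ with hc
          have hwm : algebraMap A K π ^ m ≠ 0 := pow_ne_zero _ hϖ0
          have hz' : (z - algebraMap K L c) ^ p - (z - algebraMap K L c) =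
              algebraMap K L (ξ - c ^ p + c) := by
            rw [sub_pow_char, map_add, map_sub, map_pow, ← hz]
            ring
          have hgen' : K⟮z - algebraMap K L c⟯ = ⊤ := by
            rw [eq_top_iff, ← hgen, adjoin_simple_le_iff]
            have h1 := add_mem (mem_adjoin_simple_self K (z - algebraMap K L c))
              (IntermediateField.algebraMap_mem K⟮z - algebraMap K L c⟯ c)
            rwa [sub_add_cancel] at h1
          apply ih (ξ - c ^ p + c) (z - algebraMap K L c) hz' hgen'
          refine ⟨d + r * π ^ (N - m), ?_⟩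
          apply mul_right_cancel₀ hϖ0
          have h1 : algebraMap A K π ^ (N + 1) = (algebraMap A K π ^ m) ^ p := by
            rw [hm, pow_mul']
          have h2 : algebraMap A K π ^ N = algebraMap A K π ^ m * algebraMap A K π ^ (N - m) := by
            rw [← pow_add, Nat.add_sub_cancel' hNm]
          have h3 : algebraMap A K b = algebraMap A K r ^ p + algebraMap A K π * algebraMap A K d := by
            rw [← map_pow, ← map_mul, ← map_add, ← hd]; congr 1; ring
          have h4 : ξ * (algebraMap A K π ^ m) ^ p = algebraMap A K b := by rw [← h1]; exact hb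
          rw [map_add, map_mul, map_pow, hc]
          have h5 : (algebraMap A K r * (algebraMap A K π ^ m)⁻¹) ^ p * (algebraMap A K π ^ m) ^ p =
              algebraMap A K r ^ p := by
            rw [← mul_pow, mul_assoc, inv_mul_cancel₀ hwm, mul_one]
          have h6 : (algebraMap A K π ^ m) ^ p =
              algebraMap A K π ^ m * algebraMap A K π ^ (N - m) * algebraMap A K π := by
            rw [← h1, pow_succ, h2]
          have h7 : algebraMap A K r * (algebraMap A K π ^ m)⁻¹ * (algebraMap A K π ^ m) =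
              algebraMap A K r := by
            rw [mul_assoc, inv_mul_cancel₀ hwm, mul_one]
          rw [h2]
          linear_combination h4 - h5 + h3 -
            (ξ - (algebraMap A K r * (algebraMap A K π ^ m)⁻¹) ^ p) * h6 +
            (algebraMap A K π ^ (N - m) * algebraMap A K π) * h7
      · exact Or.inr (Or.inr (Or.inl (caseB hπ hz hgen (N + 1) hbu.unit (Nat.succ_pos N) hpn hb)))


theorem main {π : A} (hπ : maximalIdeal A = Ideal.span {π}) (ξ : K) (z : L)
    (hz : z ^ p - z = algebraMap K L ξ) (hgen : K⟮z⟯ = ⊤) :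
    IsGalois K L ∧
      (Module.finrank K L = 1 ∨
        (EtRam.IsUnramifiedExt A (algebraMap A L) ∧ Module.finrank K L = p) ∨
        (EtRam.IsTotallyRamified A (algebraMap A L) ∧ Module.finrank K L = p) ∨
        Case4 p A (algebraMap A L)) ∧
      ((∃ a : A, algebraMap A K a = ξ) →
        Module.finrank K L = 1 ∨
          (EtRam.IsUnramifiedExt A (algebraMap A L) ∧ Module.finrank K L = p)) ∧
      (∀ (n : ℕ) (a : Aˣ), 0 < n → ¬ p ∣ n → ξ * algebraMap A K π ^ n = algebraMap A K a →
        (EtRam.IsTotallyRamified A (algebraMap A L) ∧ Module.finrank K L = p)) ∧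
      (∀ (n : ℕ) (a : A), 0 < n → p ∣ n →
        (∀ r : A, IsLocalRing.residue A a ≠ IsLocalRing.residue A r ^ p) →
        ξ * algebraMap A K π ^ n = algebraMap A K a → Case4 p A (algebraMap A L)) := by
  have hπirr : Irreducible π := (IsDiscreteValuationRing.irreducible_iff_uniformizer π).mpr hπ
  refine ⟨as_isGalois ξ hz hgen, ?_, ?_, ?_, ?_⟩
  · obtain ⟨x, y, hy, rfl⟩ := IsFractionRing.div_surjective (A := A) ξ
    have hy0 : y ≠ 0 := nonZeroDivisors.ne_zero hy
    obtain ⟨N, u, rfl⟩ := IsDiscreteValuationRing.eq_unit_mul_pow_irreducible hy0 hπirr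
    apply general hπ N _ z hz hgen
    refine ⟨x * ((u⁻¹ : Aˣ) : A), ?_⟩
    have hϖ0 : algebraMap A K π ≠ 0 := by
      intro h
      exact hπirr.ne_zero (IsFractionRing.injective A K (h.trans (map_zero _).symm))
    have hu : algebraMap A K (u : A) * algebraMap A K ((u⁻¹ : Aˣ) : A) = 1 := by
      rw [← map_mul, ← Units.val_mul, mul_inv_cancel, Units.val_one, map_one]
    have hu0 : algebraMap A K (u : A) ≠ 0 := left_ne_zero_of_mul_eq_one hu
    rw [map_mul, map_mul, map_pow]
    have hN : algebraMap A K π ^ N ≠ 0 := pow_ne_zero _ hϖ0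
    field_simp
    linear_combination (-(algebraMap A K x)) * hu
  · rintro ⟨a, ha⟩
    exact caseA hπ hz hgen a ha
  · intro n a hn hpn hξ
    exact caseB hπ hz hgen n a hn hpn hξ
  · intro n a hn hpn hres hξ
    exact caseC hπ hz hgen n a hn hpn hres hξ

end DVR

end Groth.Agent.Lib.H40ArtinSchreier
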