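import Groth.Agent.Lib.H40HenselGalois

set_option autoImplicit false
universe u

namespace Groth.Agent.Lib.H40DecompHensel

open Polynomial IsLocalRing

section Setup

variable {R K Ks : Type u} [CommRing R] [IsDomain R] [Field K] [Algebra R K] [IsFractionRing R K]
  [Field Ks] [Algebra K Ks] [Algebra R Ks] [IsScalarTower R K Ks]

/-- The action of a `K`-automorphism of `Ks` on the integral closure of `R` in `Ks`. -/
noncomputable def act (σ : Ks ≃ₐ[K] Ks) : integralClosure R Ks →ₐ[R] integralClosure R Ks :=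
  ((σ.restrictScalars R : Ks ≃ₐ[R] Ks) : Ks →ₐ[R] Ks).mapIntegralClosure

omit [IsDomain R] [IsFractionRing R K] in
@[simp] theorem coe_act (σ : Ks ≃ₐ[K] Ks) (x : integralClosure R Ks) :
    ((act σ x : integralClosure R Ks) : Ks) = σ (x : Ks) := rfl

omit [IsDomain R] [IsFractionRing R K] in
theorem act_mul (σ τ : Ks ≃ₐ[K] Ks) (x : integralClosure R Ks) :
    act (σ * τ) x = act σ (act τ x) := Subtype.ext rfl

omit [IsDomain R] [IsFractionRing R K] in
theorem act_one (x : integralClosure R Ks) : act (1 : Ks ≃ₐ[K] Ks) x = x := Subtype.ext rfl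

omit [IsDomain R] [IsFractionRing R K] in
theorem act_injective (σ : Ks ≃ₐ[K] Ks) : Function.Injective (act (R := R) σ) := by
  intro x y h
  apply Subtype.ext
  have := congrArg Subtype.val h
  simpa using this

instance instTower (L : IntermediateField K Ks) : IsScalarTower R L Ks :=
  IsScalarTower.of_algebraMap_eq (fun _ => rfl)

/-- The embedding of the integral closure in an intermediate field into that in `Ks`. -/
noncomputable def emb (L : IntermediateField K Ks) :
    integralClosure R L →ₐ[R] integralClosure R Ks :=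
  (IsScalarTower.toAlgHom R L Ks).mapIntegralClosure

omit [IsDomain R] [IsFractionRing R K] in
@[simp] theorem coe_emb (L : IntermediateField K Ks) (y : integralClosure R L) :
    ((emb L y : integralClosure R Ks) : Ks) = ((y : L) : Ks) := rfl

/-- The decomposition set of `Ps`. -/
def decomp (Ps : Ideal (integralClosure R Ks)) : Set (Ks ≃ₐ[K] Ks) :=
  {σ | ∀ x ∈ Ps, act σ x ∈ Ps}

omit [IsDomain R] [IsFractionRing R K] in
theorem not_mem_of_decomp {Ps : Ideal (integralClosure R Ks)} [Ps.IsMaximal] {σ : Ks ≃ₐ[K] Ks}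
    (hσ : σ ∈ decomp Ps) {x : integralClosure R Ks} (hx : x ∉ Ps) : act σ x ∉ Ps := by
  intro h
  obtain ⟨r, i, hi, hri⟩ := Ideal.IsMaximal.exists_inv ‹Ps.IsMaximal› hx
  have h1 : act σ (r * x + i) = 1 := by rw [hri, map_one]
  rw [map_add, map_mul] at h1
  have h2 : (1 : integralClosure R Ks) ∈ Ps := by
    rw [← h1]
    exact Ps.add_mem (Ps.mul_mem_left _ h) (hσ i hi)
  exact (Ideal.ne_top_iff_one Ps).mp (Ideal.IsMaximal.ne_top ‹Ps.IsMaximal›) h2

omit [IsDomain R] [IsFractionRing R K] in
theorem one_mem_decomp (Ps : Ideal (integralClosure R Ks)) : (1 : Ks ≃ₐ[K] Ks) ∈ decomp Ps := by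
  intro x hx
  rwa [act_one]

omit [IsDomain R] [IsFractionRing R K] in
theorem mul_mem_decomp {Ps : Ideal (integralClosure R Ks)} {σ τ : Ks ≃ₐ[K] Ks}
    (hσ : σ ∈ decomp Ps) (hτ : τ ∈ decomp Ps) : σ * τ ∈ decomp Ps := by
  intro x hx
  rw [act_mul]
  exact hσ _ (hτ _ hx)

omit [IsDomain R] [IsFractionRing R K] in
/-- Uniqueness of the prime above `Q`: an ideal of `Rs` whose trace on the integral closure of `R`
in `L` lies in `Q = Ps ∩ L` is contained in `Ps`, provided `L` contains the decomposition field. -/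
theorem le_of_forall_emb_mem {Ps : Ideal (integralClosure R Ks)} [Ps.IsMaximal]
    (L : IntermediateField K Ks)
    (hL : ∀ z : Ks, (∀ σ : Ks ≃ₐ[K] Ks, σ ∈ decomp Ps → σ z = z) → z ∈ L)
    (Q : Ideal (integralClosure R L))
    (hQ : ∀ y : integralClosure R L, y ∈ Q ↔ emb L y ∈ Ps)
    (P' : Ideal (integralClosure R Ks)) (hP' : ∀ y : integralClosure R L, emb L y ∈ P' → y ∈ Q) :
    P' ≤ Ps := by
  classical
  intro y hy
  by_contra hyPs
  obtain ⟨p, hpm, hp⟩ := y.2
  set Orb : Set (integralClosure R Ks) := {w | ∃ σ : Ks ≃ₐ[K] Ks, σ ∈ decomp Ps ∧ w = act σ y} with hOrb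
  have hfin : Orb.Finite := by
    apply Set.Finite.of_finite_image (f := Subtype.val) ?_ (Subtype.val_injective.injOn)
    apply Set.Finite.subset ((p.map (algebraMap R Ks)).roots.toFinset.finite_toSet)
    rintro _ ⟨w, ⟨σ, hσ, rfl⟩, rfl⟩
    simp only [Finset.mem_coe, Multiset.mem_toFinset, mem_roots (hpm.map _).ne_zero, IsRoot.def,
      coe_act, eval_map]
    have h1 : eval₂ (algebraMap R Ks) (σ (y : Ks)) p = σ (eval₂ (algebraMap R Ks) (y : Ks) p) := by
      rw [← aeval_def, ← aeval_def]
      exact (aeval_algHom_apply ((σ.restrictScalars R : Ks ≃ₐ[R] Ks) : Ks →ₐ[R] Ks) (y : Ks) p)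
    rw [h1, hp, map_zero]
  set T := hfin.toFinset with hT
  set z : integralClosure R Ks := ∏ w ∈ T, w with hz
  have hyT : y ∈ T := by
    rw [hT, Set.Finite.mem_toFinset]
    exact ⟨1, one_mem_decomp Ps, (act_one y).symm⟩
  have hzP' : z ∈ P' := Ideal.mem_of_dvd P' (Finset.dvd_prod_of_mem _ hyT) hy
  have hzPs : z ∉ Ps := by
    rw [hz, Ideal.IsPrime.prod_mem_iff]
    rintro ⟨w, hw, hwPs⟩
    rw [hT, Set.Finite.mem_toFinset] at hw
    obtain ⟨σ, hσ, rfl⟩ := hw
    exact not_mem_of_decomp hσ hyPs hwPs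
  have hzfix : ∀ τ : Ks ≃ₐ[K] Ks, τ ∈ decomp Ps → τ (z : Ks) = z := by
    intro τ hτ
    have h1 : act τ z = z := by
      rw [hz, map_prod]
      have himg : T.image (act τ) = T := by
        apply Finset.eq_of_subset_of_card_le
        · intro w hw
          obtain ⟨w', hw', rfl⟩ := Finset.mem_image.mp hw
          rw [hT, Set.Finite.mem_toFinset] at hw' ⊢
          obtain ⟨σ, hσ, rfl⟩ := hw'
          exact ⟨τ * σ, mul_mem_decomp hτ hσ, (act_mul τ σ y).symm⟩
        · rw [Finset.card_image_of_injective _ (act_injective τ)]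
      conv_rhs => rw [← himg]
      rw [Finset.prod_image (fun a _ b _ h => act_injective τ h)]
    have := congrArg Subtype.val h1
    simpa using this
  have hzL : (z : Ks) ∈ L := hL _ hzfix
  have hzint : IsIntegral R (⟨(z : Ks), hzL⟩ : L) := by
    rw [← isIntegral_algebraMap_iff (algebraMap L Ks).injective]
    exact z.2
  let zL : integralClosure R L := ⟨⟨(z : Ks), hzL⟩, hzint⟩
  have hemb : emb L zL = z := Subtype.ext rfl
  have h2 : zL ∈ Q := hP' zL (hemb ▸ hzP')
  rw [hQ, hemb] at h2
  exact hzPs h2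

end Setup

section VM

variable {R Ks : Type u} [CommRing R] [Field Ks] [Algebra R Ks]
variable (Ps : Ideal (integralClosure R Ks)) [Ps.IsPrime]

/-- The localization of `Rs` at `Ps`, as a subring of `Ks`. -/
def V : Subring Ks where
  carrier := {x | ∃ s : integralClosure R Ks, s ∉ Ps ∧ (s : Ks) * x ∈ integralClosure R Ks}
  one_mem' := ⟨1, (Ideal.ne_top_iff_one Ps).mp (Ideal.IsPrime.ne_top inferInstance),
    by simp [one_mem]⟩
  mul_mem' := by
    rintro x y ⟨s, hs, hsx⟩ ⟨t, ht, hty⟩
    refine ⟨s * t, fun h => (Ideal.IsPrime.mem_or_mem inferInstance h).elim hs ht, ?_⟩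
    have : ((s * t : integralClosure R Ks) : Ks) * (x * y) = ((s : Ks) * x) * ((t : Ks) * y) := by
      push_cast; ring
    rw [this]; exact mul_mem hsx hty
  zero_mem' := ⟨1, (Ideal.ne_top_iff_one Ps).mp (Ideal.IsPrime.ne_top inferInstance),
    by simp [zero_mem]⟩
  add_mem' := by
    rintro x y ⟨s, hs, hsx⟩ ⟨t, ht, hty⟩
    refine ⟨s * t, fun h => (Ideal.IsPrime.mem_or_mem inferInstance h).elim hs ht, ?_⟩
    have : ((s * t : integralClosure R Ks) : Ks) * (x + y) =
        (t : Ks) * ((s : Ks) * x) + (s : Ks) * ((t : Ks) * y) := by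
      push_cast; ring
    rw [this]; exact add_mem (mul_mem t.2 hsx) (mul_mem s.2 hty)
  neg_mem' := by
    rintro x ⟨s, hs, hsx⟩
    exact ⟨s, hs, by rw [mul_neg]; exact neg_mem hsx⟩

theorem mem_V {x : Ks} : x ∈ V Ps ↔
    ∃ s : integralClosure R Ks, s ∉ Ps ∧ (s : Ks) * x ∈ integralClosure R Ks := Iff.rfl

/-- The maximal ideal of `V Ps`. -/
def M : Ideal (V Ps) where
  carrier := {x | ∃ s : integralClosure R Ks, s ∉ Ps ∧
    ∃ h : (s : Ks) * (x : Ks) ∈ integralClosure R Ks, (⟨_, h⟩ : integralClosure R Ks) ∈ Ps}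
  zero_mem' := ⟨1, (Ideal.ne_top_iff_one Ps).mp (Ideal.IsPrime.ne_top inferInstance),
    by simp [zero_mem], by
      convert Ps.zero_mem
      simp⟩
  add_mem' := by
    rintro x y ⟨s, hs, hsx, hsxP⟩ ⟨t, ht, hty, htyP⟩
    refine ⟨s * t, fun h => (Ideal.IsPrime.mem_or_mem inferInstance h).elim hs ht, ?_⟩
    have h1 : ((s * t : integralClosure R Ks) : Ks) * ((x + y : V Ps) : Ks) =
        ((t * ⟨_, hsx⟩ + s * ⟨_, hty⟩ : integralClosure R Ks) : Ks) := by
      push_cast; ring
    refine ⟨h1 ▸ SetLike.coe_mem _, ?_⟩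
    have h2 : (⟨_, h1 ▸ SetLike.coe_mem _⟩ : integralClosure R Ks) =
        t * ⟨_, hsx⟩ + s * ⟨_, hty⟩ := Subtype.ext h1
    rw [h2]
    exact Ps.add_mem (Ps.mul_mem_left _ hsxP) (Ps.mul_mem_left _ htyP)
  smul_mem' := by
    rintro c x ⟨s, hs, hsx, hsxP⟩
    obtain ⟨t, ht, htc⟩ := c.2
    refine ⟨t * s, fun h => (Ideal.IsPrime.mem_or_mem inferInstance h).elim ht hs, ?_⟩
    have h1 : ((t * s : integralClosure R Ks) : Ks) * ((c • x : V Ps) : Ks) =
        ((⟨_, htc⟩ * ⟨_, hsx⟩ : integralClosure R Ks) : Ks) := by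
      simp only [smul_eq_mul]
      push_cast; ring
    refine ⟨h1 ▸ SetLike.coe_mem _, ?_⟩
    have h2 : (⟨_, h1 ▸ SetLike.coe_mem _⟩ : integralClosure R Ks) =
        ⟨_, htc⟩ * ⟨_, hsx⟩ := Subtype.ext h1
    rw [h2]
    exact Ps.mul_mem_left _ hsxP

theorem mem_M {x : V Ps} : x ∈ M Ps ↔ ∃ s : integralClosure R Ks, s ∉ Ps ∧
    ∃ h : (s : Ks) * (x : Ks) ∈ integralClosure R Ks, (⟨_, h⟩ : integralClosure R Ks) ∈ Ps :=
  Iff.rfl

theorem mem_M_iff_of {x : V Ps} (s : integralClosure R Ks) (hs : s ∉ Ps)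
    (h : (s : Ks) * (x : Ks) ∈ integralClosure R Ks) :
    x ∈ M Ps ↔ (⟨_, h⟩ : integralClosure R Ks) ∈ Ps := by
  constructor
  · rintro ⟨t, ht, htx, htxP⟩
    have h1 : t * (⟨_, h⟩ : integralClosure R Ks) = s * ⟨_, htx⟩ := by
      apply Subtype.ext
      push_cast
      ring
    have h2 : t * (⟨_, h⟩ : integralClosure R Ks) ∈ Ps := by
      rw [h1]; exact Ps.mul_mem_left _ htxP
    exact (Ideal.IsPrime.mem_or_mem inferInstance h2).resolve_left ht
  · intro hP
    exact ⟨s, hs, h, hP⟩

instance M_isPrime : (M Ps).IsPrime := by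
  have h1 : (1 : integralClosure R Ks) ∉ Ps :=
    (Ideal.ne_top_iff_one Ps).mp (Ideal.IsPrime.ne_top inferInstance)
  constructor
  · rw [Ideal.ne_top_iff_one]
    have h : ((1 : integralClosure R Ks) : Ks) * ((1 : V Ps) : Ks) ∈ integralClosure R Ks := by
      simp [one_mem]
    rw [mem_M_iff_of Ps 1 h1 h]
    convert h1
    simp
  · intro x y hxy
    obtain ⟨t, ht, htx⟩ := x.2
    obtain ⟨t', ht', hty⟩ := y.2
    have h : ((t * t' : integralClosure R Ks) : Ks) * ((x * y : V Ps) : Ks) ∈
        integralClosure R Ks := by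
      have : ((t * t' : integralClosure R Ks) : Ks) * ((x * y : V Ps) : Ks) =
          ((t : Ks) * x) * ((t' : Ks) * y) := by push_cast; ring
      rw [this]; exact mul_mem htx hty
    rw [mem_M_iff_of Ps (t * t')
      (fun h => (Ideal.IsPrime.mem_or_mem inferInstance h).elim ht ht') h] at hxy
    have h2 : (⟨_, h⟩ : integralClosure R Ks) = ⟨_, htx⟩ * ⟨_, hty⟩ := by
      apply Subtype.ext
      push_cast
      ring
    rw [h2] at hxy
    rcases Ideal.IsPrime.mem_or_mem inferInstance hxy with h3 | h3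
    · left; exact (mem_M_iff_of Ps t ht htx).mpr h3
    · right; exact (mem_M_iff_of Ps t' ht' hty).mpr h3

end VM

section Main

variable {R K Ks : Type u} [CommRing R] [IsDomain R] [Field K] [Algebra R K] [IsFractionRing R K]
  [Field Ks] [Algebra K Ks] [IsSepClosure K Ks] [Algebra R Ks] [IsScalarTower R K Ks]

omit [IsDomain R] [IsFractionRing R K] [IsSepClosure K Ks] in
/-- `Gal(Ks/L)` stabilizes `Ps` when `L` contains the decomposition field. -/
theorem act_mem_of_mem {Ps : Ideal (integralClosure R Ks)} [Ps.IsMaximal]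
    (L : IntermediateField K Ks)
    (hL : ∀ z : Ks, (∀ σ : Ks ≃ₐ[K] Ks, σ ∈ decomp Ps → σ z = z) → z ∈ L)
    (Q : Ideal (integralClosure R L))
    (hQ : ∀ y : integralClosure R L, y ∈ Q ↔ emb L y ∈ Ps)
    (σ : Ks ≃ₐ[L] Ks) (x : integralClosure R Ks) :
    act (σ.restrictScalars K) x ∈ Ps ↔ x ∈ Ps := by
  have key : ∀ τ : Ks ≃ₐ[L] Ks, ∀ w : integralClosure R Ks,
      act (τ.restrictScalars K) w ∈ Ps → w ∈ Ps := by
    intro τ w hw
    have h1 : Ps.comap (act (R := R) (τ.restrictScalars K)) ≤ Ps := by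
      apply le_of_forall_emb_mem L hL Q hQ
      intro y hy
      rw [hQ]
      have h2 : act (τ.restrictScalars K) (emb L y) = emb L y := by
        apply Subtype.ext
        simp only [coe_act, coe_emb, AlgEquiv.restrictScalars_apply]
        exact τ.commutes (y : L)
      rw [Ideal.mem_comap, h2] at hy
      exact hy
    exact h1 (Ideal.mem_comap.mpr hw)
  constructor
  · exact key σ x
  · intro hx
    apply key σ⁻¹
    have h3 : act (σ⁻¹.restrictScalars K) (act (σ.restrictScalars K) x) = x := by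
      apply Subtype.ext
      simp only [coe_act, AlgEquiv.restrictScalars_apply]
      exact σ.symm_apply_apply _
    rw [h3]
    exact hx

/-- Abstract form of the main theorem. -/
theorem henselian_abstract {R S L Ks : Type u} [CommRing R] [CommRing S] [IsDomain S]
    [IsIntegrallyClosed S] [Field L] [Field Ks] [Algebra R Ks] [Algebra S L] [IsFractionRing S L]
    [Algebra L Ks] [IsGalois L Ks] [IsSepClosed Ks] [Algebra S Ks] [IsScalarTower S L Ks]
    [Algebra R S] [Algebra.IsIntegral R S] [IsScalarTower R S Ks]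
    (Ps : Ideal (integralClosure R Ks)) [Ps.IsPrime] (Q : Ideal S) [Q.IsPrime]
    (e : S → integralClosure R Ks) (he : ∀ y, (e y : Ks) = algebraMap S Ks y)
    (hQ : ∀ y : S, y ∈ Q ↔ e y ∈ Ps)
    (hstab : ∀ (σ : Ks ≃ₐ[L] Ks) (x : integralClosure R Ks),
      ∃ h : σ (x : Ks) ∈ integralClosure R Ks, ((⟨σ x, h⟩ : integralClosure R Ks) ∈ Ps ↔ x ∈ Ps)) :
    HenselianLocalRing (Localization.AtPrime Q) := by
  classical
  have hQle : Q.primeCompl ≤ nonZeroDivisors S := Ideal.primeCompl_le_nonZeroDivisors Q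
  have hicA : IsIntegrallyClosed (Localization.AtPrime Q) :=
    isIntegrallyClosed_of_isLocalization (Localization.AtPrime Q) Q.primeCompl hQle
  -- algebra structures
  let algAL : Algebra (Localization.AtPrime Q) L := (IsLocalization.lift (M := Q.primeCompl)
    (g := algebraMap S L)
    (fun s => IsUnit.mk0 _ ((map_ne_zero_iff _ (IsFractionRing.injective _ L)).mpr
      (nonZeroDivisors.ne_zero (hQle s.2))))).toAlgebra
  have tow1 : IsScalarTower S (Localization.AtPrime Q) L :=
    IsScalarTower.of_algebraMap_eq (fun x => by simp [RingHom.algebraMap_toAlgebra])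
  have hfrA : IsFractionRing (Localization.AtPrime Q) L :=
    IsFractionRing.isFractionRing_of_isDomain_of_isLocalization Q.primeCompl
      (Localization.AtPrime Q) L
  let algAKs : Algebra (Localization.AtPrime Q) Ks :=
    ((algebraMap L Ks).comp (algebraMap (Localization.AtPrime Q) L)).toAlgebra
  have tow2 : IsScalarTower (Localization.AtPrime Q) L Ks :=
    IsScalarTower.of_algebraMap_eq (fun x => rfl)
  have tow4 : IsScalarTower S (Localization.AtPrime Q) Ks :=
    IsScalarTower.of_algebraMap_eq (fun x => by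
      show algebraMap S Ks x =
        algebraMap L Ks (algebraMap (Localization.AtPrime Q) L (algebraMap _ _ x))
      rw [← IsScalarTower.algebraMap_apply S (Localization.AtPrime Q) L,
        ← IsScalarTower.algebraMap_apply S L Ks])
  have hint : ∀ x : Ks, IsIntegral (Localization.AtPrime Q) x → x ∈ V Ps := by
    intro x hx
    obtain ⟨m, hm⟩ := IsIntegral.exists_multiple_integral_of_isLocalization Q.primeCompl x hx
    have h1 : IsIntegral R (m • x) := isIntegral_trans _ hm
    refine ⟨e m, fun h => m.2 ((hQ _).mpr h), ?_⟩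
    rw [he]
    rw [Submonoid.smul_def, Algebra.smul_def] at h1
    exact h1
  refine Groth.Agent.Lib.H40HenselGalois.henselianLocalRing_of_galois_stable
    (A := Localization.AtPrime Q) (L := L) (Ω := Ks) (V Ps) (M Ps) hint ?_ ?_
  · -- hM
    intro a
    obtain ⟨y, t, rfl⟩ := IsLocalization.exists_mk'_eq Q.primeCompl a
    rw [IsLocalization.AtPrime.mk'_mem_maximal_iff (Localization.AtPrime Q) Q, hQ]
    have hspec : algebraMap (Localization.AtPrime Q) Ks (IsLocalization.mk' _ y t) *
        algebraMap S Ks t = algebraMap S Ks y := by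
      rw [IsScalarTower.algebraMap_apply S (Localization.AtPrime Q) Ks,
        IsScalarTower.algebraMap_apply S (Localization.AtPrime Q) Ks, ← map_mul,
        IsLocalization.mk'_spec]
    have h1 : ((e t : integralClosure R Ks) : Ks) *
        algebraMap (Localization.AtPrime Q) Ks (IsLocalization.mk' _ y t) =
          ((e y : integralClosure R Ks) : Ks) := by
      rw [he, he, mul_comm, hspec]
    have h2 : ((e t : integralClosure R Ks) : Ks) *
        algebraMap (Localization.AtPrime Q) Ks (IsLocalization.mk' _ y t) ∈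
          integralClosure R Ks := h1 ▸ SetLike.coe_mem _
    rw [mem_M_iff_of Ps (e t) (fun h => t.2 ((hQ _).mpr h)) h2]
    have h3 : (⟨_, h2⟩ : integralClosure R Ks) = e y := Subtype.ext h1
    rw [h3]
  · -- hσ
    intro σ x hx hσx
    obtain ⟨s, hs, hsx, hsxP⟩ := hx
    obtain ⟨h1, h1'⟩ := hstab σ s
    obtain ⟨h2, h2'⟩ := hstab σ ⟨_, hsx⟩
    refine ⟨⟨_, h1⟩, fun h => hs (h1'.mp h), ?_⟩
    have h3 : ((⟨σ (s : Ks), h1⟩ : integralClosure R Ks) : Ks) * σ (x : Ks) =
        σ ((s : Ks) * (x : Ks)) := by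
      rw [map_mul]
    refine ⟨h3 ▸ h2, ?_⟩
    have h4 : (⟨_, h3 ▸ h2⟩ : integralClosure R Ks) = ⟨σ ((s : Ks) * (x : Ks)), h2⟩ :=
      Subtype.ext h3
    rw [h4]
    exact h2'.mpr hsxP

set_option synthInstance.maxHeartbeats 400000 in
/-- Main theorem: the localization at `Q = Ps ∩ L` of the integral closure of `R` in a field `L`
containing the decomposition field of `Ps` is henselian. -/
theorem henselianLocalRing_localization {Ps : Ideal (integralClosure R Ks)} [Ps.IsMaximal]
    (L : IntermediateField K Ks)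
    (hL : ∀ z : Ks, (∀ σ : Ks ≃ₐ[K] Ks, σ ∈ decomp Ps → σ z = z) → z ∈ L)
    (Q : Ideal (integralClosure R L)) [Q.IsPrime]
    (hQ : ∀ y : integralClosure R L, y ∈ Q ↔ emb L y ∈ Ps) :
    HenselianLocalRing (Localization.AtPrime Q) := by
  classical
  have hsepKs : Algebra.IsSeparable K Ks := IsSepClosure.separable
  have hsc : IsSepClosed Ks := IsSepClosure.sep_closed K
  have hgal : IsGalois K Ks := inferInstance
  have : Algebra.IsAlgebraic K Ks := inferInstance
  have : Algebra.IsAlgebraic K L := inferInstance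
  have halgRL : Algebra.IsAlgebraic R L := (IsFractionRing.comap_isAlgebraic_iff (K := K)).mpr ‹_›
  have hinjRL : Function.Injective (algebraMap R L) := by
    rw [IsScalarTower.algebraMap_eq R K L]
    exact (algebraMap K L).injective.comp (IsFractionRing.injective R K)
  have hfrSL : IsFractionRing (integralClosure R L) L :=
    integralClosure.isFractionRing_of_algebraic (A := R) (L := L)
      (fun x hx => hinjRL (by rw [hx, map_zero]))
  have hicSL : IsIntegrallyClosed (integralClosure R L) :=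
    (IsIntegrallyClosed.integralClosure_eq_bot_iff L).mp integralClosure_idem
  have tow3 : IsScalarTower (integralClosure R L) L Ks :=
    IsScalarTower.of_algebraMap_eq (fun x => rfl)
  have tow5 : IsScalarTower R (integralClosure R L) Ks :=
    IsScalarTower.of_algebraMap_eq (fun x => rfl)
  have hgalL : IsGalois L Ks := inferInstance
  have hintSL : Algebra.IsIntegral R (integralClosure R L) := inferInstance
  have hprime : Ps.IsPrime := Ideal.IsMaximal.isPrime inferInstance
  exact henselian_abstract (R := R) (S := integralClosure R L) (L := L) (Ks := Ks) Ps Q (emb L)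
    (fun y => rfl) hQ
    (fun σ x => ⟨(act (σ.restrictScalars K) x).2, act_mem_of_mem L hL Q hQ σ x⟩)

end Main

end Groth.Agent.Lib.H40DecompHensel
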