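import Groth.Agent.Lib.H40TotRamCriterion

set_option autoImplicit false
universe u

namespace Groth.Agent.Lib.H40TotRamExt

open Polynomial IsLocalRing

section Poly

variable {A : Type u} [CommRing A]

/-- the Eisenstein polynomial `X^q - π^n X - π`. -/
noncomputable def poly (π : A) (n q : ℕ) : A[X] := X ^ q - (C (π ^ n) * X + C π)

theorem coeff_poly (π : A) (n q j : ℕ) :
    (poly π n q).coeff j = (if j = q then 1 else 0) - ((if j = 1 then π ^ n else 0) + (if j = 0 then π else 0)) := by
  rw [poly, coeff_sub, coeff_X_pow, coeff_add, coeff_C_mul_X, coeff_C]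

theorem deg_lt (π : A) (n : ℕ) {q : ℕ} (hq : 2 ≤ q) : degree (C (π ^ n) * X + C π : A[X]) < q := by
  refine lt_of_le_of_lt (degree_add_le _ _) (max_lt ?_ ?_)
  · refine lt_of_le_of_lt (degree_C_mul_X_le _) ?_
    exact_mod_cast (by omega : 1 < q)
  · refine lt_of_le_of_lt degree_C_le ?_
    exact_mod_cast (by omega : 0 < q)

theorem poly_monic (π : A) (n : ℕ) {q : ℕ} (hq : 2 ≤ q) : (poly π n q).Monic :=
  monic_X_pow_sub (deg_lt π n hq)

theorem poly_natDegree [Nontrivial A] (π : A) (n : ℕ) {q : ℕ} (hq : 2 ≤ q) : (poly π n q).natDegree = q := by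
  rw [poly, natDegree_sub_eq_left_of_natDegree_lt, natDegree_X_pow]
  rw [natDegree_X_pow]
  exact lt_of_le_of_lt natDegree_linear_le (by omega)

end Poly

section DVR

variable {A K : Type u} [CommRing A] [IsDomain A] [IsDiscreteValuationRing A] [Field K]
  [Algebra A K] [IsFractionRing A K]

theorem poly_irreducible {π : A} (hπ : Irreducible π) {n : ℕ} (hn : 1 ≤ n) {q : ℕ} (hq : 2 ≤ q) :
    Irreducible (poly π n q) := by
  have hmonic := poly_monic π n hq
  have hdeg := poly_natDegree π n hq
  have hmax : maximalIdeal A = Ideal.span {π} := hπ.maximalIdeal_eq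
  have hE : (poly π n q).IsEisensteinAt (maximalIdeal A) := by
    refine ⟨?_, ?_, ?_⟩
    · rw [hmonic.leadingCoeff]
      exact (Ideal.ne_top_iff_one _).mp (maximalIdeal.isMaximal A).ne_top
    · intro j hj
      rw [hdeg] at hj
      rw [coeff_poly, if_neg hj.ne, zero_sub, hmax]
      apply neg_mem
      apply add_mem
      · split_ifs
        · exact Ideal.pow_mem_of_mem _ (Ideal.mem_span_singleton_self π) n (by omega)
        · exact zero_mem _
      · split_ifs
        · exact Ideal.mem_span_singleton_self π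
        · exact zero_mem _
    · rw [coeff_poly, if_neg (by omega), if_neg (by omega), if_pos rfl, zero_sub, zero_add, hmax,
        Ideal.span_singleton_pow, Ideal.mem_span_singleton, dvd_neg]
      intro hdvd
      obtain ⟨c, hc⟩ := hdvd
      have h1 : π * (1 - π * c) = 0 := by rw [mul_sub, mul_one, ← mul_assoc, ← sq, ← hc, sub_self]
      rcases mul_eq_zero.mp h1 with h | h
      · exact hπ.ne_zero h
      · have : IsUnit π := IsUnit.of_mul_eq_one c (by linear_combination -h)
        exact hπ.not_isUnit this
  exact hE.irreducible (maximalIdeal.isMaximal A).isPrime hmonic.isPrimitive (by rw [hdeg]; omega)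


variable (K) in
/-- the polynomial over the fraction field -/
noncomputable def polyK (π : A) (n q : ℕ) : K[X] := (poly π n q).map (algebraMap A K)

theorem polyK_irreducible {π : A} (hπ : Irreducible π) {n : ℕ} (hn : 1 ≤ n) {q : ℕ} (hq : 2 ≤ q) :
    Irreducible (polyK K π n q) :=
  (Polynomial.Monic.irreducible_iff_irreducible_map_fraction_map (poly_monic π n hq)).mp
    (poly_irreducible hπ hn hq)

theorem polyK_monic (π : A) (n : ℕ) {q : ℕ} (hq : 2 ≤ q) : (polyK K π n q).Monic :=
  (poly_monic π n hq).map _

theorem polyK_natDegree (π : A) (n : ℕ) {q : ℕ} (hq : 2 ≤ q) : (polyK K π n q).natDegree = q := by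
  rw [polyK, (poly_monic π n hq).natDegree_map, poly_natDegree π n hq]

theorem polyK_separable {π : A} (hπ : Irreducible π) {n : ℕ} (hn : 1 ≤ n) {q : ℕ} (hq : 2 ≤ q) :
    (polyK K π n q).Separable := by
  rw [Polynomial.separable_iff_derivative_ne_zero (polyK_irreducible hπ hn hq)]
  intro h
  have h1 : (derivative (polyK K π n q)).coeff 0 = 0 := by rw [h, coeff_zero]
  rw [polyK, derivative_map, coeff_map, coeff_derivative, coeff_poly, if_neg (by omega), if_pos rfl,
    if_neg (by omega)] at h1
  simp only [zero_sub, add_zero, Nat.cast_zero, zero_add, mul_one, map_neg, neg_eq_zero] at h1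
  have h2 : π ^ n = 0 := IsFractionRing.injective A K (h1.trans (map_zero _).symm)
  exact hπ.ne_zero (pow_eq_zero_iff (by omega) |>.mp h2)


theorem root_pow_eq (π : A) (n q : ℕ) [Fact (Irreducible (polyK K π n q))] :
    (AdjoinRoot.root (polyK K π n q)) ^ q =
      algebraMap A (AdjoinRoot (polyK K π n q)) (π ^ n) * AdjoinRoot.root (polyK K π n q) +
        algebraMap A (AdjoinRoot (polyK K π n q)) π := by
  have h1 : aeval (AdjoinRoot.root (polyK K π n q)) (poly π n q) = 0 := by
    rw [← aeval_map_algebraMap K, ← polyK, AdjoinRoot.aeval_eq, AdjoinRoot.mk_self]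
  rw [poly, map_sub, map_add, map_mul, map_pow, aeval_X, aeval_C, aeval_C, sub_eq_zero] at h1
  exact h1

theorem exists_ext {π : A} (hπ : maximalIdeal A = Ideal.span {π}) {n : ℕ} (hn : 1 < n) {q : ℕ}
    (hq : 2 ≤ q) :
    ∃ (L : Type u) (_ : Field L) (_ : Algebra K L) (_ : Algebra A L) (_ : IsScalarTower A K L),
      Module.finrank K L = q ∧ Algebra.IsSeparable K L ∧
      EtRam.IsTotallyRamified A (algebraMap A L) ∧
      ∃ πB b b' : L, πB ∈ integralClosure A L ∧ b ∈ integralClosure A L ∧
        b' ∈ integralClosure A L ∧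
        πB ^ q = algebraMap A L π + algebraMap A L π ^ n * b ∧
        πB ^ q = algebraMap A L π + πB ^ (n * q) * b' := by
  have hπirr : Irreducible π := (IsDiscreteValuationRing.irreducible_iff_uniformizer π).mpr hπ
  have hπmem : π ∈ maximalIdeal A := by rw [hπ]; exact Ideal.mem_span_singleton_self π
  have hirr : Irreducible (polyK K π n q) := polyK_irreducible hπirr (by omega) hq
  have hfact : Fact (Irreducible (polyK K π n q)) := ⟨hirr⟩
  have hne : polyK K π n q ≠ 0 := hirr.ne_zero
  have hmonic : (polyK K π n q).Monic := polyK_monic π n hq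
  refine ⟨AdjoinRoot (polyK K π n q), inferInstance, inferInstance, inferInstance, inferInstance,
    ?_⟩
  set L := AdjoinRoot (polyK K π n q) with hL
  set θ : L := AdjoinRoot.root (polyK K π n q) with hθdef
  have hq0 : 0 < q := by omega
  have heq : θ ^ q = algebraMap A L (π ^ n) * θ + algebraMap A L π := root_pow_eq π n q
  have hfin : Module.finrank K L = q := by
    rw [(AdjoinRoot.powerBasis hne).finrank, AdjoinRoot.powerBasis_dim, polyK_natDegree π n hq]
  have hθint : IsIntegral A θ := by
    refine ⟨poly π n q, poly_monic π n hq, ?_⟩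
    rw [← aeval_def, ← aeval_map_algebraMap K, ← polyK, AdjoinRoot.aeval_eq, AdjoinRoot.mk_self]
  -- the unit
  set u : L := 1 + algebraMap A L (π ^ (n - 1)) * θ with hu
  have hequ : θ ^ q = algebraMap A L π * u := by
    rw [heq, hu, mul_add, mul_one, ← mul_assoc, ← map_mul, ← pow_succ', Nat.sub_add_cancel (by omega),
      add_comm]
  -- valuations
  have hval : ∀ V : ValuationSubring L, EtRam.Dominates A (algebraMap A L) V →
      V.valuation θ ≤ 1 ∧ V.valuation u = 1 := by
    intro V hV
    have hϖ1 : V.valuation (algebraMap A L π) < 1 := hV.2 π hπmem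
    have hpow1 : ∀ m : ℕ, 0 < m → V.valuation (algebraMap A L (π ^ m)) < 1 := by
      intro m hm
      exact hV.2 _ (Ideal.pow_mem_of_mem _ hπmem m hm)
    have hθ1 : V.valuation θ ≤ 1 := by
      by_contra hcon
      push Not at hcon
      have h1 : V.valuation θ < V.valuation θ ^ q := by
        calc V.valuation θ = V.valuation θ ^ 1 := (pow_one _).symm
          _ < V.valuation θ ^ q := pow_lt_pow_right₀ hcon (by omega)
      have h2 : V.valuation (algebraMap A L (π ^ n) * θ + algebraMap A L π) < V.valuation θ ^ q := by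
        refine lt_of_le_of_lt (Valuation.map_add _ _ _) (max_lt ?_ ?_)
        · rw [map_mul]
          refine lt_of_le_of_lt ?_ h1
          calc V.valuation (algebraMap A L (π ^ n)) * V.valuation θ ≤ 1 * V.valuation θ :=
                mul_le_mul_left (hpow1 n (by omega)).le _
            _ = V.valuation θ := one_mul _
        · exact hϖ1.trans (hcon.trans h1)
      rw [← heq, map_pow] at h2
      exact lt_irrefl _ h2
    refine ⟨hθ1, ?_⟩
    rw [hu]
    apply Valuation.map_one_add_of_lt
    rw [map_mul]
    calc V.valuation (algebraMap A L (π ^ (n - 1))) * V.valuation θ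
        ≤ V.valuation (algebraMap A L (π ^ (n - 1))) * 1 := mul_le_mul_right hθ1 _
      _ = V.valuation (algebraMap A L (π ^ (n - 1))) := mul_one _
      _ < 1 := hpow1 (n - 1) (by omega)
  have hθV : ∀ V : ValuationSubring L, EtRam.Dominates A (algebraMap A L) V →
      V.valuation θ ^ q = V.valuation (algebraMap A L π) := by
    intro V hV
    rw [← map_pow, hequ, map_mul, (hval V hV).2, mul_one]
  refine ⟨hfin, ?_, ?_, ?_⟩
  · -- separable
    have hsepθ : IsSeparable K θ := by
      rw [IsSeparable, hθdef, AdjoinRoot.minpoly_root hne, hmonic.leadingCoeff, inv_one, map_one, mul_one]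
      exact polyK_separable hπirr (by omega) hq
    have h1 : Algebra.IsSeparable K (IntermediateField.adjoin K {θ}) :=
      (IntermediateField.isSeparable_adjoin_simple_iff_isSeparable K L).mpr hsepθ
    have h2 : IntermediateField.adjoin K {θ} = ⊤ :=
      IntermediateField.adjoin_eq_top_of_algebra K _ (AdjoinRoot.adjoinRoot_eq_top)
    rw [← separableClosure.eq_top_iff, eq_top_iff, ← h2]
    exact le_separableClosure K L _
  · exact Groth.Agent.Lib.H40TotRamCriterion.isTotallyRamified_of_val_pow_eq hπ hq0 hfin θ hθV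
  · obtain ⟨V, hV⟩ := Groth.Agent.Lib.H40TotRamCriterion.exists_dominates (A := A) (L := L)
    have hu1 : V.valuation u = 1 := (hval V hV).2
    have hu0 : u ≠ 0 := by
      rw [← Valuation.ne_zero_iff V.valuation, hu1]; exact one_ne_zero
    have huinv : u⁻¹ ∈ V := by
      rw [← V.valuation_le_one_iff, map_inv₀, hu1, inv_one]
    have huint : u⁻¹ ∈ integralClosure A L :=
      Groth.Agent.Lib.H40TotRamCriterion.mem_integralClosure_of_mem hπ hq0 hfin hθint hV (hθV V hV) huinv
    refine ⟨θ, θ, u⁻¹ ^ n * θ, hθint, hθint, ?_, ?_, ?_⟩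
    · exact Subalgebra.mul_mem _ (Subalgebra.pow_mem _ huint n) hθint
    · rw [heq, map_pow]; ring
    · have h3 : algebraMap A L π = θ ^ q * u⁻¹ := by
        rw [hequ, mul_assoc, mul_inv_cancel₀ hu0, mul_one]
      rw [heq, map_pow]
      have h4 : θ ^ (n * q) = (θ ^ q) ^ n := by rw [mul_comm, pow_mul]
      rw [h4]
      have h5 : algebraMap A L π ^ n * θ = (θ ^ q) ^ n * (u⁻¹ ^ n * θ) := by
        rw [h3]; ring
      rw [h5]; ring

end DVR

end Groth.Agent.Lib.H40TotRamExt
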