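import Groth.Agent.Lib.H40InsepB
import Groth.Agent.Lib.H40TotRamExt

set_option autoImplicit false
universe u

namespace Groth.Agent.Lib.H40InsepC

open IsLocalRing Polynomial
open Groth.Agent.Lib.H40TotRamCriterion (val_unit val_algebraMap_K algebraMap_injective')
open Groth.Agent.Lib.H40InsepA Groth.Agent.Lib.H40InsepB Groth.Agent.Lib.H40EFBasis

section Val

variable {F : Type u} [Field F]

theorem val_pow_eq_of_rel (V : ValuationSubring F) {x ϖ β : F} {n p : ℕ} (hn : 2 ≤ n)
    (hϖ1 : V.valuation ϖ < 1) (hβ : V.valuation β ≤ 1) (h : x ^ p = ϖ + ϖ ^ n * β) :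
    V.valuation x ^ p = V.valuation ϖ := by
  rw [← map_pow, h]
  by_cases hϖ0 : ϖ = 0
  · rw [hϖ0, zero_pow (by omega), zero_mul, add_zero]
  have h0 : V.valuation ϖ ≠ 0 := (Valuation.ne_zero_iff _).mpr hϖ0
  apply Valuation.map_add_eq_of_lt_left
  obtain ⟨n', rfl⟩ : ∃ n', n = n' + 1 := ⟨n - 1, by omega⟩
  rw [map_mul, map_pow, pow_succ', mul_assoc]
  calc V.valuation ϖ * (V.valuation ϖ ^ n' * V.valuation β)
      < V.valuation ϖ * 1 := by
        apply mul_lt_mul_of_pos_left _ (zero_lt_iff.mpr h0)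
        calc V.valuation ϖ ^ n' * V.valuation β ≤ V.valuation ϖ ^ n' * 1 := mul_le_mul_right hβ _
          _ = V.valuation ϖ ^ n' := mul_one _
          _ < 1 := pow_lt_one₀ zero_le hϖ1 (by omega)
    _ = V.valuation ϖ := mul_one _

theorem val_pow_sub_one_lt (V : ValuationSubring F) {x : F} (h1 : V.valuation (x - 1) < 1)
    (n : ℕ) : V.valuation (x ^ n - 1) < 1 := by
  have hx : V.valuation x ≤ 1 := by
    have : x = (x - 1) + 1 := by ring
    rw [this]
    exact le_trans (Valuation.map_add _ _ _) (max_le h1.le (by rw [map_one]))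
  induction n with
  | zero => rw [pow_zero, sub_self, map_zero]; exact zero_lt_one
  | succ n ih =>
    have : x ^ (n + 1) - 1 = (x ^ n - 1) * x + (x - 1) := by ring
    rw [this]
    refine lt_of_le_of_lt (Valuation.map_add _ _ _) (max_lt ?_ h1)
    rw [map_mul]
    calc _ ≤ V.valuation (x ^ n - 1) * 1 := mul_le_mul_right hx _
      _ = _ := mul_one _
      _ < 1 := ih

theorem val_eq_one_of_sub_lt (V : ValuationSubring F) {x : F} (h1 : V.valuation (x - 1) < 1) :
    V.valuation x = 1 := by
  have : x = 1 + (x - 1) := by ring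
  rw [this]
  have h2 : V.valuation (x - 1) < V.valuation (1 : F) := by rw [map_one]; exact h1
  rw [Valuation.map_add_eq_of_lt_left _ h2, map_one]

end Val


section Comp

variable {p : ℕ} {A B C K L M K₁ : Type u}
  [CommRing A] [IsDomain A] [IsDiscreteValuationRing A]
  [CommRing B] [IsDomain B] [IsDiscreteValuationRing B]
  [CommRing C] [IsDomain C] [IsDiscreteValuationRing C]
  [Algebra A B] [Algebra B C] [IsLocalHom (algebraMap A B)] [IsLocalHom (algebraMap B C)]
  [Field K] [Field L] [Field M] [Algebra A K] [IsFractionRing A K] [Algebra B L] [IsFractionRing B L]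
  [Algebra C M] [IsFractionRing C M] [Algebra K L] [Algebra L M] [Algebra K M] [IsScalarTower K L M]
  [Algebra A L] [IsScalarTower A K L] [IsScalarTower A B L] [Algebra B M] [IsScalarTower B L M]
  [IsScalarTower B C M]
  [Field K₁] [Algebra K K₁] [Algebra A K₁] [IsScalarTower A K K₁]

omit [IsFractionRing C M] in
/-- analysis of a compositum of `M` and the Eisenstein extension `K₁` at a valuation ring dominating `C`. -/
theorem compC (hp : p.Prime) {π : A} (hπ : maximalIdeal A = Ideal.span {π})
    (hw : EtRam.IsWeaklyUnramified A B) [IsPurelyInseparable L M]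
    (hdeg : Module.finrank L M = p) (hK₁ : Module.finrank K K₁ = p)
    {k : ℕ} {ι τ : B} {c : M} (hι : ι ^ p = ι)
    (hc : c ^ p = algebraMap B M (algebraMap A B π) *
      (algebraMap B M ι + algebraMap B M (algebraMap A B π) ^ k * algebraMap B M τ))
    (hτ : ∀ r : B, residue B τ ≠ residue B r ^ p)
    {π₁ b₀ : K₁} (hπ₁ : IsIntegral A π₁) (hb₀ : IsIntegral A b₀)
    (heq : π₁ ^ p = algebraMap A K₁ π + algebraMap A K₁ π ^ (k + 2) * b₀)
    (N : Type u) [Field N] [Algebra K N] [Algebra M N] [Algebra K₁ N] [IsScalarTower K M N]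
    [IsScalarTower K K₁ N]
    (hadj : Algebra.adjoin M (Set.range (algebraMap K₁ N)) = ⊤) (W : ValuationSubring N)
    (hW : EtRam.Dominates C ((algebraMap M N).comp (algebraMap C M)) W) :
    Module.finrank M N = p ∧
      (letI : Algebra (W.comap (algebraMap K₁ N)) W :=
        (EtRam.inclOfComap W (algebraMap K₁ N)).toAlgebra
       EtRam.IsWeaklyUnramified (W.comap (algebraMap K₁ N)) W) := by
  classical
  have hfact : Fact p.Prime := ⟨hp⟩
  let _ : Algebra L N := ((algebraMap M N).comp (algebraMap L M)).toAlgebra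
  have : IsScalarTower L M N := IsScalarTower.of_algebraMap_eq (fun _ => rfl)
  let _ : Algebra B N := ((algebraMap L N).comp (algebraMap B L)).toAlgebra
  have : IsScalarTower B L N := IsScalarTower.of_algebraMap_eq (fun _ => rfl)
  set f : K₁ →+* N := algebraMap K₁ N with hf
  set πB : B := algebraMap A B π with hπBdef
  have hπB : maximalIdeal B = Ideal.span {πB} := by
    rw [← hw, hπ, Ideal.map_span, Set.image_singleton]
  have hπBirr : Irreducible πB := (IsDiscreteValuationRing.irreducible_iff_uniformizer πB).mpr hπB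
  have hπBmem : πB ∈ maximalIdeal B := by rw [hπB]; exact Ideal.mem_span_singleton_self πB
  have hπmem : π ∈ maximalIdeal A := by rw [hπ]; exact Ideal.mem_span_singleton_self π
  -- `W` dominates `B`
  have hBMN : ∀ b : B, algebraMap B N b = algebraMap M N (algebraMap B M b) := by
    intro b
    change algebraMap M N (algebraMap L M (algebraMap B L b)) = _
    rw [← IsScalarTower.algebraMap_apply B L M]
  have hBN : ∀ b : B, algebraMap B N b = algebraMap M N (algebraMap C M (algebraMap B C b)) := by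
    intro b
    rw [hBMN, IsScalarTower.algebraMap_apply B C M]
  have hWB : EtRam.Dominates B (algebraMap B N) W := by
    refine ⟨fun b => by rw [hBN]; exact hW.1 _, fun b hb => ?_⟩
    rw [hBN]
    apply hW.2
    have hloc : IsLocalHom (algebraMap B C) := inferInstance
    have h3 : maximalIdeal B ≤ (maximalIdeal C).comap (algebraMap B C) :=
      ((local_hom_TFAE (algebraMap B C)).out 0 3).mp hloc
    exact h3 hb
  have hcompat : ∀ a : A, f (algebraMap A K₁ a) = algebraMap B N (algebraMap A B a) := by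
    intro a
    change algebraMap K₁ N (algebraMap A K₁ a) =
      algebraMap M N (algebraMap L M (algebraMap B L (algebraMap A B a)))
    rw [IsScalarTower.algebraMap_apply A K K₁, ← IsScalarTower.algebraMap_apply K K₁ N,
      IsScalarTower.algebraMap_apply K M N, IsScalarTower.algebraMap_apply K L M,
      ← IsScalarTower.algebraMap_apply A K L, IsScalarTower.algebraMap_apply A B L]
  -- `V' = W ∩ K₁` dominates `A`
  set V' : ValuationSubring K₁ := W.comap f with hV'
  have hV'dom : EtRam.Dominates A (algebraMap A K₁) V' := by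
    refine ⟨fun a => ?_, fun a ha => ?_⟩
    · rw [hV', ValuationSubring.mem_comap, hcompat]
      exact hWB.1 _
    · rw [hV', Groth.Agent.Lib.H40TotRamStruct.comap_val_lt_one_iff, hcompat]
      apply hWB.2
      have hloc : IsLocalHom (algebraMap A B) := inferInstance
      have h3 : maximalIdeal A ≤ (maximalIdeal B).comap (algebraMap A B) :=
        ((local_hom_TFAE (algebraMap A B)).out 0 3).mp hloc
      exact h3 ha
  have hπ₁V' : π₁ ∈ V' := Groth.Agent.Lib.H40TotRamStruct.mem_of_isIntegral hV'dom.1 hπ₁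
  have hb₀V' : b₀ ∈ V' := Groth.Agent.Lib.H40TotRamStruct.mem_of_isIntegral hV'dom.1 hb₀
  have hθV' : V'.valuation π₁ ^ p = V'.valuation (algebraMap A K₁ π) :=
    val_pow_eq_of_rel V' (by omega) (hV'dom.2 π hπmem)
      ((ValuationSubring.valuation_le_one_iff _ _).mpr hb₀V') heq
  -- elements of `N`
  set Θ : N := f π₁ with hΘ
  set β : N := f b₀ with hβ
  set ϖ : N := algebraMap B N πB with hϖ
  have hrel : Θ ^ p = ϖ + ϖ ^ (k + 2) * β := by
    have := congrArg f heq
    rwa [map_pow, map_add, map_mul, map_pow, hcompat] at this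
  have hϖ1 : W.valuation ϖ < 1 := hWB.2 πB hπBmem
  have hinjBN : Function.Injective (algebraMap B N) := algebraMap_injective' (K := L)
  have hϖne : ϖ ≠ 0 := fun h => hπBirr.ne_zero (hinjBN (h.trans (map_zero _).symm))
  have hϖ0 : W.valuation ϖ ≠ 0 := (Valuation.ne_zero_iff _).mpr hϖne
  have hβ1 : W.valuation β ≤ 1 := (ValuationSubring.valuation_le_one_iff _ _).mpr hb₀V'
  have hθ : W.valuation Θ ^ p = W.valuation ϖ := val_pow_eq_of_rel W (by omega) hϖ1 hβ1 hrel
  have hΘne : Θ ≠ 0 := by
    intro h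
    rw [h, map_zero, zero_pow hp.ne_zero] at hθ
    exact hϖ0 hθ.symm
  have hΘpos : 0 < W.valuation Θ := zero_lt_iff.mpr ((Valuation.ne_zero_iff _).mpr hΘne)
  have hΘ1 : W.valuation Θ < 1 := by
    by_contra hcon
    push Not at hcon
    have := one_le_pow₀ hcon (n := p)
    rw [hθ] at this
    exact absurd hϖ1 (not_lt.mpr this)
  set ε : N := 1 + ϖ ^ (k + 1) * β with hε
  have hΘε : Θ ^ p = ϖ * ε := by rw [hrel, hε]; ring
  have hε1 : W.valuation (ε - 1) < 1 := by
    rw [hε, add_sub_cancel_left, map_mul, map_pow]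
    calc _ ≤ W.valuation ϖ ^ (k + 1) * 1 := mul_le_mul_right hβ1 _
      _ = _ := mul_one _
      _ < 1 := pow_lt_one₀ zero_le hϖ1 (by omega)
  have hεv : W.valuation ε = 1 := val_eq_one_of_sub_lt W hε1
  have hεne : ε ≠ 0 := by
    intro h
    rw [h, map_zero] at hεv
    exact zero_ne_one hεv
  set cN : N := algebraMap M N c with hcN
  set ι' : N := algebraMap B N ι with hι'
  set τ' : N := algebraMap B N τ with hτ'
  have hcNp : cN ^ p = ϖ * (ι' + ϖ ^ k * τ') := by
    rw [hcN, ← map_pow, hc, map_mul, map_add, map_mul, map_pow, ← hBMN, ← hBMN, ← hBMN]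
  have hι'p : ι' ^ p = ι' := by rw [hι', ← map_pow, hι]
  have hcharL : CharP L p := charP_of_finrank hp hdeg
  have hcharN : CharP N p := charP_of_injective_algebraMap (algebraMap L N).injective p
  set y : N := cN / Θ with hy
  have hyp : y ^ p * ε = ι' + ϖ ^ k * τ' := by
    rw [hy, div_pow, hcNp, hΘε]
    field_simp
  set z : N := (y - ι') / Θ ^ k with hz
  have hzp : z ^ p * ε ^ (k + 1) = τ' - ι' * ϖ * β := by
    have h1 : z ^ p * (ϖ * ε) ^ k = y ^ p - ι' := by
      rw [← hΘε, ← pow_mul, mul_comm p k, pow_mul, ← mul_pow, hz,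
        div_mul_cancel₀ _ (pow_ne_zero _ hΘne), sub_pow_char, hι'p]
    apply mul_right_cancel₀ (pow_ne_zero k hϖne)
    have h2 : z ^ p * ε ^ (k + 1) * ϖ ^ k = (z ^ p * (ϖ * ε) ^ k) * ε := by ring_nf
    rw [h2, h1, sub_mul, hyp, hε]
    ring
  have hτunit : IsUnit τ := by
    rw [← residue_ne_zero_iff_isUnit]
    intro h0
    exact hτ 0 (by rw [h0, map_zero, zero_pow hp.ne_zero])
  have hτ'v : W.valuation τ' = 1 := val_unit hWB hτunit.unit
  have hι'1 : W.valuation ι' ≤ 1 := (ValuationSubring.valuation_le_one_iff _ _).mpr (hWB.1 ι)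
  have hzτ : W.valuation (z ^ p - τ') < 1 := by
    have h1 : (z ^ p - τ') * ε ^ (k + 1) = -(τ' * (ε ^ (k + 1) - 1)) - ι' * ϖ * β := by
      rw [sub_mul, hzp]; ring
    have h2 : W.valuation ((z ^ p - τ') * ε ^ (k + 1)) = W.valuation (z ^ p - τ') := by
      rw [map_mul, map_pow, hεv, one_pow, mul_one]
    rw [← h2, h1]
    refine lt_of_le_of_lt (Valuation.map_sub _ _ _) (max_lt ?_ ?_)
    · rw [Valuation.map_neg, map_mul, hτ'v, one_mul]
      exact val_pow_sub_one_lt W hε1 (k + 1)
    · rw [map_mul, map_mul]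
      calc W.valuation ι' * W.valuation ϖ * W.valuation β
          ≤ 1 * W.valuation ϖ * W.valuation β :=
            mul_le_mul_left (mul_le_mul_left hι'1 _) _
        _ ≤ 1 * W.valuation ϖ * 1 := mul_le_mul_right hβ1 _
        _ = W.valuation ϖ := by rw [one_mul, mul_one]
        _ < 1 := hϖ1
  have hzW : z ∈ W := by
    rw [← ValuationSubring.valuation_le_one_iff]
    by_contra hcon
    push Not at hcon
    have h1 := one_lt_pow₀ hcon hp.ne_zero
    rw [← map_pow] at h1
    have h2 : W.valuation (z ^ p) ≤ 1 := by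
      have : z ^ p = (z ^ p - τ') + τ' := by ring
      rw [this]
      exact le_trans (Valuation.map_add _ _ _) (max_le hzτ.le hτ'v.le)
    exact absurd h1 (not_lt.mpr h2)
  have hind := resIndep_pow (A := B) hp hπB hWB hzW hzτ hτ
  have hzj : ∀ j : Fin p, z ^ (j : ℕ) ∈ W := fun j => pow_mem hzW _
  have hli := ef_linearIndependent (A := B) (K := L) hπB hp.pos hWB hθ
    (fun j : Fin p => z ^ (j : ℕ)) hzj hind
  -- spanning
  have hliK := Groth.Agent.Lib.H40TotRamStruct.linearIndependent_pow (A := A) (K := K) (L := K₁)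
    hπ hp.pos hV'dom hθV'
  have hfdK₁ : Module.Finite K K₁ := Module.finite_of_finrank_pos (by rw [hK₁]; exact hp.pos)
  have hspanK : Submodule.span K (Set.range (fun i : Fin p => π₁ ^ (i : ℕ))) = ⊤ :=
    hliK.span_eq_top_of_card_eq_finrank' (by rw [Fintype.card_fin, hK₁])
  have hspanM : ⊤ ≤ Submodule.span M (Set.range (fun i : Fin p => Θ ^ (i : ℕ))) := by
    have h1 : Submonoid.closure (Set.range f) = MonoidHom.mrange (f : K₁ →* N) := by
      have h0 : Set.range f = ((MonoidHom.mrange (f : K₁ →* N) : Submonoid N) : Set N) := by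
        rw [MonoidHom.coe_mrange]; rfl
      rw [h0, Submonoid.closure_eq]
    have h2 := Algebra.adjoin_eq_span M (Set.range f)
    rw [hadj, h1] at h2
    rw [← Algebra.top_toSubmodule, h2, Submodule.span_le]
    rintro _ ⟨x, rfl⟩
    have hx : x ∈ Submodule.span K (Set.range (fun i : Fin p => π₁ ^ (i : ℕ))) := by
      rw [hspanK]; trivial
    obtain ⟨g, rfl⟩ := (Submodule.mem_span_range_iff_exists_fun K).mp hx
    change f (∑ i, g i • π₁ ^ (i : ℕ)) ∈ _
    rw [map_sum]
    apply Submodule.sum_mem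
    intro i _
    have h3 : f (g i • π₁ ^ (i : ℕ)) = algebraMap K M (g i) • Θ ^ (i : ℕ) := by
      rw [Algebra.smul_def, map_mul, map_pow, Algebra.smul_def, hf,
        ← IsScalarTower.algebraMap_apply K K₁ N, IsScalarTower.algebraMap_apply K M N]
    rw [h3]
    exact Submodule.smul_mem _ _ (Submodule.subset_span ⟨i, rfl⟩)
  have hspanM' : Submodule.span M (Set.range (fun i : Fin p => Θ ^ (i : ℕ))) = ⊤ :=
    top_le_iff.mp hspanM
  have hfinMN_le : Module.finrank M N ≤ p := by
    have h2 := finrank_range_le_card (R := M) (fun i : Fin p => Θ ^ (i : ℕ))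
    rw [Set.finrank, hspanM', finrank_top, Fintype.card_fin] at h2
    exact h2
  have hfdMN : Module.Finite M N := by
    rw [Module.finite_def, ← hspanM']
    exact Submodule.fg_span (Set.finite_range _)
  have hfdLM : Module.Finite L M := Module.finite_of_finrank_pos (by rw [hdeg]; exact hp.pos)
  have hfdLN : Module.Finite L N := Module.Finite.trans M N
  have hmul := Module.finrank_mul_finrank L M N
  have hge : p * p ≤ Module.finrank L N := by
    have := hli.fintype_card_le_finrank
    rwa [Fintype.card_prod, Fintype.card_fin] at this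
  have hfinMN : Module.finrank M N = p := by
    rw [hdeg] at hmul
    have h3 : p * p ≤ p * Module.finrank M N := by rw [hmul]; exact hge
    have h4 : p ≤ Module.finrank M N := Nat.le_of_mul_le_mul_left h3 hp.pos
    omega
  have hfinLN : Module.finrank L N = p * p := by rw [← hmul, hdeg, hfinMN]
  refine ⟨hfinMN, ?_⟩
  apply weaklyUnramified_of_bound W f π₁ hΘ1
  intro y' hy'
  by_cases hy0 : y' = 0
  · rw [hy0, map_zero]; exact zero_le
  obtain ⟨m, hm⟩ := ef_val_of_finrank (A := B) (K := L) hπB hp.pos hWB hθ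
    (fun j : Fin p => z ^ (j : ℕ)) hzj hind hfinLN hp.pos hy0
  rw [hm] at hy' ⊢
  have hm1 : 1 ≤ m := by
    by_contra hcon
    push Not at hcon
    have : m ≤ 0 := by omega
    exact absurd hy' (not_lt.mpr (one_le_zpow_of_nonpos₀ hΘpos hΘ1.le this))
  calc W.valuation Θ ^ m ≤ W.valuation Θ ^ (1 : ℤ) :=
        zpow_le_zpow_right_of_le_one₀ hΘpos hΘ1.le hm1
    _ = W.valuation Θ := zpow_one _


open TensorProduct in
/-- case (3): the separable totally ramified extension of Lemma S7157 is a weak solution. -/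
theorem case3 (hp : p.Prime) {π : A} (hπ : maximalIdeal A = Ideal.span {π})
    (hw : EtRam.IsWeaklyUnramified A B) [IsPurelyInseparable L M]
    (hdeg : Module.finrank L M = p)
    {k : ℕ} {ι τ : B} {c : M} (hι : ι ^ p = ι)
    (hc : c ^ p = algebraMap B M (algebraMap A B π) *
      (algebraMap B M ι + algebraMap B M (algebraMap A B π) ^ k * algebraMap B M τ))
    (hτ : ∀ r : B, residue B τ ≠ residue B r ^ p) :
    ∃ (K₁ : Type u) (_ : Field K₁) (_ : Algebra K K₁),
      Module.finrank K K₁ = p ∧ Algebra.IsSeparable K K₁ ∧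
        EtRam.IsTotallyRamified A ((algebraMap K K₁).comp (algebraMap A K)) ∧
        IsField (L ⊗[K] K₁) ∧ IsField (M ⊗[K] K₁) ∧
        EtRam.IsWeakSolution B K L K₁ ∧ EtRam.IsWeakSolution C K M K₁ := by
  obtain ⟨K₁, instF, instKK₁, instAK₁, instTower, hfin, hsep, htot, π₁, b₀, b', hπ₁, hb₀, -, heq, -⟩ :=
    Groth.Agent.Lib.H40TotRamExt.exists_ext (K := K) hπ (n := k + 2) (by omega) hp.two_le
  have hfd : FiniteDimensional K K₁ := Module.finite_of_finrank_pos (by rw [hfin]; exact hp.pos)
  have htot' : EtRam.IsTotallyRamified A ((algebraMap K K₁).comp (algebraMap A K)) := by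
    rw [← IsScalarTower.algebraMap_eq A K K₁]; exact htot
  refine ⟨K₁, instF, instKK₁, hfin, hsep, htot',
    Groth.Agent.Lib.H40TotRamStruct.isField_tensor hw htot', ?_, ?_, ?_⟩
  · apply isField_tensor_of_finrank
    intro N _ _ _ _ _ _ hadj
    let _ : Algebra C N := ((algebraMap M N).comp (algebraMap C M)).toAlgebra
    obtain ⟨W, hW⟩ := Groth.Agent.Lib.H40TotRamCriterion.exists_dominates (A := C) (L := N)
    rw [hfin]
    exact (compC hp hπ hw hdeg hfin hι hc hτ hπ₁ hb₀ heq N hadj W hW).1
  · intro N _ _ _ _ _ _ hadj W hW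
    exact (Groth.Agent.Lib.H40TotRamStruct.core hw htot' N hadj W hW).2
  · intro N _ _ _ _ _ _ hadj W hW
    exact (compC hp hπ hw hdeg hfin hι hc hτ hπ₁ hb₀ heq N hadj W hW).2

open TensorProduct in
/-- the trichotomy. -/
theorem main (hp : p.Prime) (hBC : Function.Injective (algebraMap B C))
    [Algebra A C] [IsScalarTower A B C] {π : A} (hπ : maximalIdeal A = Ideal.span {π})
    (hB : CAlg.IsNagata B) (hw : EtRam.IsWeaklyUnramified A B) [IsPurelyInseparable L M]
    (hdeg : Module.finrank L M = p) :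
    EtRam.IsWeaklyUnramified A C ∨
      (∃ c : C, c ^ p = algebraMap A C π ∧ Algebra.adjoin B {c} = ⊤) ∨
      ∃ (K₁ : Type u) (_ : Field K₁) (_ : Algebra K K₁),
        Module.finrank K K₁ = p ∧ Algebra.IsSeparable K K₁ ∧
          EtRam.IsTotallyRamified A ((algebraMap K K₁).comp (algebraMap A K)) ∧
          IsField (L ⊗[K] K₁) ∧ IsField (M ⊗[K] K₁) ∧
          EtRam.IsWeakSolution B K L K₁ ∧ EtRam.IsWeakSolution C K M K₁ := by
  have hπB : maximalIdeal B = Ideal.span {algebraMap A B π} := by
    rw [← hw, hπ, Ideal.map_span, Set.image_singleton]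
  have hπBirr : Irreducible (algebraMap A B π) :=
    (IsDiscreteValuationRing.irreducible_iff_uniformizer _).mpr hπB
  obtain ⟨ϖ, hϖ⟩ := IsDiscreteValuationRing.exists_irreducible C
  rcases e_dichotomy (L := L) (M := M) hp hdeg hπBirr hϖ with h1 | h1
  · left
    change (maximalIdeal A).map (algebraMap A C) = maximalIdeal C
    rw [IsScalarTower.algebraMap_eq A B C, ← Ideal.map_map, hw]
    exact map_maximalIdeal_eq (M := M) hBC hπBirr hϖ h1
  · rcases alpha_or_beta hp hdeg hπBirr hϖ h1 with ⟨k, ι, τ, c, hι, hc, hτ⟩ | hQ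
    · exact Or.inr (Or.inr (case3 hp hπ hw hdeg hι hc hτ))
    · right; left
      obtain ⟨c, hc⟩ := exists_pow_eq_of_Q hp hdeg hB hπBirr hϖ h1 hQ
      obtain ⟨c₀, hc₀, hadj⟩ := case2 (L := L) (C := C) (M := M) hp hdeg hπB hc
      exact ⟨c₀, by rw [hc₀, IsScalarTower.algebraMap_apply A B C], hadj⟩

end Comp

end Groth.Agent.Lib.H40InsepC
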