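import Groth.Agent.S7150
import Groth.Agent.Lib.H40InsepC

set_option autoImplicit false
universe u

namespace Groth.Agent.Lib.H40EppA

open IsLocalRing

section Sect

variable {B : Type u} [CommRing B] [IsDomain B] [IsDiscreteValuationRing B]

/-- a set-theoretic section of the residue map of a DVR of characteristic `p` that is additive and
multiplicative modulo `π ^ n` (from the coefficient field of `B / π ^ n`). -/
theorem exists_section {p : ℕ} (hp : p.Prime) [CharP B p] {π : B}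
    (hπ : maximalIdeal B = Ideal.span {π}) (n : ℕ) (hn : 0 < n) :
    ∃ s : ResidueField B → B, (∀ x, residue B (s x) = x) ∧
      (∀ x y, π ^ n ∣ s (x + y) - s x - s y) ∧ (∀ x y, π ^ n ∣ s (x * y) - s x * s y) := by
  classical
  set I : Ideal B := Ideal.span {π ^ n} with hI
  have hIle : I ≤ maximalIdeal B := by
    rw [hI, Ideal.span_singleton_le_iff_mem, hπ]
    exact Ideal.mem_span_singleton.mpr (dvd_pow_self π hn.ne')
  have hIpow : I = maximalIdeal B ^ n := by rw [hI, hπ, Ideal.span_singleton_pow]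
  have hne : I ≠ ⊤ := fun h => (Ideal.IsPrime.ne_top inferInstance : maximalIdeal B ≠ ⊤)
    (top_le_iff.mp (h ▸ hIle))
  have hnt : Nontrivial (B ⧸ I) := Ideal.Quotient.nontrivial_iff.mpr hne
  have hloc : IsLocalRing (B ⧸ I) :=
    IsLocalRing.of_surjective' (Ideal.Quotient.mk I) Ideal.Quotient.mk_surjective
  have hlh : IsLocalHom (Ideal.Quotient.mk I) := by
    apply isLocalHom_of_le_jacobson_bot
    rw [IsLocalRing.jacobson_eq_maximalIdeal _ bot_ne_top]
    exact hIle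
  have hchar : CharP (B ⧸ I) p := by
    apply CharP.quotient' p I
    intro x hx
    have h1 : ¬ IsUnit ((x : ℕ) : B) := fun hu =>
      (Ideal.IsPrime.ne_top inferInstance : maximalIdeal B ≠ ⊤)
        (Ideal.eq_top_of_isUnit_mem _ (hIle hx) hu)
    by_contra h0
    apply h1
    have hpx : ¬ p ∣ x := fun hd => h0 ((CharP.cast_eq_zero_iff B p x).mpr hd)
    have hcop : Nat.Coprime x p := (Nat.Coprime.symm ((Nat.Prime.coprime_iff_not_dvd hp).mpr hpx))
    obtain ⟨a, b, hab⟩ : ∃ a b : ℤ, (x : ℤ) * a + (p : ℤ) * b = 1 := by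
      have := Nat.Coprime.isCoprime hcop
      obtain ⟨a, b, hab⟩ := this
      exact ⟨a, b, by linarith⟩
    have h2 : ((x : ℕ) : B) * ((a : ℤ) : B) = 1 := by
      have h3 := congrArg (Int.cast : ℤ → B) hab
      push_cast at h3
      rw [CharP.cast_eq_zero B p, zero_mul, add_zero] at h3
      exact h3
    exact IsUnit.of_mul_eq_one _ h2
  have hmax : maximalIdeal (B ⧸ I) = (maximalIdeal B).map (Ideal.Quotient.mk I) := by
    apply le_antisymm
    · intro x hx
      obtain ⟨b, rfl⟩ := Ideal.Quotient.mk_surjective x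
      apply Ideal.mem_map_of_mem
      rw [mem_maximalIdeal, mem_nonunits_iff] at hx ⊢
      exact fun hu => hx (hu.map _)
    · rw [Ideal.map_le_iff_le_comap]
      intro b hb
      rw [Ideal.mem_comap, mem_maximalIdeal, mem_nonunits_iff]
      rw [mem_maximalIdeal, mem_nonunits_iff] at hb
      exact fun hu => hb (isUnit_of_map_unit (Ideal.Quotient.mk I) b hu)
  have hnil : ∃ m : ℕ, maximalIdeal (B ⧸ I) ^ m = ⊥ :=
    ⟨n, by rw [hmax, ← Ideal.map_pow, ← hIpow, Ideal.map_quotient_self]⟩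
  obtain ⟨σ, hσ⟩ := (Groth.Agent.S7150.result p hp (B ⧸ I) hnil).1
  set φ : ResidueField B →+* ResidueField (B ⧸ I) := ResidueField.map (Ideal.Quotient.mk I) with hφ
  have hs : ∀ x : ResidueField B, ∃ b : B, Ideal.Quotient.mk I b = σ (φ x) :=
    fun x => Ideal.Quotient.mk_surjective _
  choose s hs using hs
  have hdvd : ∀ b : B, Ideal.Quotient.mk I b = 0 → π ^ n ∣ b := by
    intro b hb
    rw [Ideal.Quotient.eq_zero_iff_mem, hI, Ideal.mem_span_singleton] at hb
    exact hb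
  refine ⟨s, fun x => ?_, fun x y => ?_, fun x y => ?_⟩
  · apply φ.injective
    rw [hφ, ResidueField.map_residue, hs]
    have := congrArg (fun f => f (φ x)) hσ
    simpa using this
  · apply hdvd
    rw [map_sub, map_sub, hs, hs, hs, map_add, map_add, sub_sub, sub_self]
  · apply hdvd
    rw [map_sub, map_mul, hs, hs, hs, map_mul, map_mul, sub_self]

end Sect

section NF

variable {p : ℕ} {B K L : Type u} [CommRing B]
  [Field K] [Field L] [Algebra K L] [Algebra B L]

/-- membership in `℘(L) + K + B`. -/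
def InS (p : ℕ) (B K : Type u) {L : Type u} [CommRing B] [Field K] [Field L] [Algebra K L] [Algebra B L]
    (y : L) : Prop :=
  ∃ (x : L) (a : K) (b : B), y = x ^ p - x + algebraMap K L a + algebraMap B L b

theorem InS.zero : InS p B K (0 : L) := ⟨1, 0, 0, by simp⟩

theorem InS.of_wp (x : L) : InS p B K (x ^ p - x) := ⟨x, 0, 0, by simp⟩

theorem InS.of_K (a : K) : InS p B K (algebraMap K L a) := ⟨1, a, 0, by simp⟩

theorem InS.of_B (b : B) : InS p B K (algebraMap B L b) := ⟨1, 0, b, by simp⟩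

theorem InS.add [Fact p.Prime] [CharP L p] {y y' : L} (h : InS p B K y) (h' : InS p B K y') :
    InS p B K (y + y') := by
  obtain ⟨x, a, b, rfl⟩ := h
  obtain ⟨x', a', b', rfl⟩ := h'
  refine ⟨x + x', a + a', b + b', ?_⟩
  rw [add_pow_char, map_add, map_add]; ring

theorem InS.neg [Fact p.Prime] [CharP L p] {y : L} (h : InS p B K y) : InS p B K (-y) := by
  obtain ⟨x, a, b, rfl⟩ := h
  refine ⟨0 - x, -a, -b, ?_⟩
  rw [sub_pow_char, zero_pow (Fact.out : p.Prime).ne_zero, map_neg, map_neg]; ring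

theorem InS.sub [Fact p.Prime] [CharP L p] {y y' : L} (h : InS p B K y) (h' : InS p B K y') :
    InS p B K (y - y') := by
  rw [sub_eq_add_neg]; exact h.add h'.neg

theorem InS.congr {y y' : L} (h : InS p B K y) (e : y = y') : InS p B K y' := e ▸ h

/-- telescoping: `X^(p^d) - X ∈ ℘(L)`. -/
theorem pow_pow_sub_eq_wp [Fact p.Prime] [CharP L p] (X : L) (d : ℕ) :
    ∃ x : L, X ^ (p ^ d) - X = x ^ p - x := by
  induction d with
  | zero => exact ⟨1, by simp⟩
  | succ d ih =>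
    obtain ⟨x, hx⟩ := ih
    refine ⟨x + X ^ (p ^ d), ?_⟩
    rw [add_pow_char, ← pow_mul, ← pow_succ]
    linear_combination hx

variable [IsDomain B] [IsDiscreteValuationRing B]

/-- a term `s(ν)^(p^e) / ϖ^j`. -/
structure Term (B : Type u) [CommRing B] [IsLocalRing B] where
  ν : ResidueField B
  e : ℕ
  j : ℕ

variable (s : ResidueField B → B) (ϖ : L)

/-- value of a term. -/
noncomputable def Term.val (p : ℕ) (τ : Term B) : L :=
  algebraMap B L (s τ.ν) ^ (p ^ τ.e) / ϖ ^ τ.j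

/-- validity: the reduced position `j / p^e` lies in `(0, n]`. -/
def Term.Valid (n p : ℕ) (τ : Term B) : Prop := 1 ≤ τ.j ∧ τ.j ≤ n * p ^ τ.e

/-- same reduced position. -/
def Term.SamePos (p : ℕ) (τ σ : Term B) : Prop := τ.j * p ^ σ.e = σ.j * p ^ τ.e

variable {s ϖ}

theorem coeff_change [Fact p.Prime] [CharP B p] {πB : B} (hϖ : ϖ = algebraMap B L πB) (hϖ0 : ϖ ≠ 0)
    {n e j : ℕ} (hj : j ≤ n * p ^ e) {b b' : B} (hdiv : πB ^ n ∣ b - b') :
    ∃ c : B, algebraMap B L b ^ (p ^ e) / ϖ ^ j - algebraMap B L b' ^ (p ^ e) / ϖ ^ j =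
      algebraMap B L c := by
  obtain ⟨d, hd⟩ := hdiv
  refine ⟨πB ^ (n * p ^ e - j) * d ^ (p ^ e), ?_⟩
  have h1 : b ^ (p ^ e) - b' ^ (p ^ e) = πB ^ j * (πB ^ (n * p ^ e - j) * d ^ (p ^ e)) := by
    rw [← sub_pow_char_pow, hd, mul_pow, ← pow_mul, ← mul_assoc, ← pow_add,
      Nat.add_sub_cancel' hj]
  have h2 := congrArg (algebraMap B L) h1
  rw [map_sub, map_pow, map_pow, map_mul, map_pow, ← hϖ] at h2
  rw [← sub_div, h2, mul_div_assoc, mul_comm, div_mul_cancel₀ _ (pow_ne_zero _ hϖ0)]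


section Lemmas

variable [Fact p.Prime] [CharP B p] [CharP L p] {πB : B} {n : ℕ}

theorem s_pow (hs3 : ∀ x y, πB ^ n ∣ s (x * y) - s x * s y) (x : ResidueField B) :
    ∀ m : ℕ, 1 ≤ m → πB ^ n ∣ s (x ^ m) - s x ^ m := by
  intro m hm
  induction m, hm using Nat.le_induction with
  | base => simp
  | succ m _ ih =>
    have h1 : s (x ^ (m + 1)) - s x ^ (m + 1) =
        (s (x ^ m * x) - s (x ^ m) * s x) + (s (x ^ m) - s x ^ m) * s x := by
      rw [pow_succ, pow_succ]; ring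
    rw [h1]
    exact dvd_add (hs3 _ _) (Dvd.dvd.mul_right ih _)

omit [CharP B p] in
theorem ascend (ν : ResidueField B) (e j d : ℕ) :
    InS p B K (Term.val s ϖ p ⟨ν, e, j⟩ - Term.val s ϖ p ⟨ν, e + d, j * p ^ d⟩) := by
  obtain ⟨x, hx⟩ := pow_pow_sub_eq_wp (p := p) (Term.val s ϖ p ⟨ν, e, j⟩) d
  have h1 : Term.val s ϖ p ⟨ν, e + d, j * p ^ d⟩ = Term.val s ϖ p ⟨ν, e, j⟩ ^ (p ^ d) := by
    simp only [Term.val]
    rw [div_pow, ← pow_mul, ← pow_mul, pow_add]
  rw [h1]
  have := (InS.of_wp (p := p) (B := B) (K := K) x).neg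
  rw [← hx] at this
  exact this.congr (by ring)

theorem descend (hϖ : ϖ = algebraMap B L πB) (hϖ0 : ϖ ≠ 0)
    (hs3 : ∀ x y, πB ^ n ∣ s (x * y) - s x * s y) {ν ν' : ResidueField B} {e j t : ℕ}
    (hj : j ≤ n * p ^ e) (hν : ν = ν' ^ (p ^ t)) :
    InS p B K (Term.val s ϖ p ⟨ν, e, j⟩ - Term.val s ϖ p ⟨ν', e + t, j⟩) := by
  have hdiv : πB ^ n ∣ s ν - s ν' ^ (p ^ t) := by
    rw [hν]; exact s_pow hs3 ν' _ (Nat.one_le_pow _ _ (Fact.out : p.Prime).pos)
  obtain ⟨c, hc⟩ := coeff_change (p := p) hϖ hϖ0 hj hdiv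
  have h1 : Term.val s ϖ p ⟨ν', e + t, j⟩ = algebraMap B L (s ν' ^ (p ^ t)) ^ (p ^ e) / ϖ ^ j := by
    simp only [Term.val]
    rw [map_pow, ← pow_mul, pow_add, mul_comm]
  rw [h1]
  simp only [Term.val]
  rw [hc]
  exact InS.of_B c

theorem merge (hϖ : ϖ = algebraMap B L πB) (hϖ0 : ϖ ≠ 0)
    (hs2 : ∀ x y, πB ^ n ∣ s (x + y) - s x - s y) {τ σ : Term B}
    (hτ : τ.Valid n p) (hσ : σ.Valid n p) (hpos : τ.SamePos p σ) :
    (⟨τ.ν + σ.ν, τ.e + σ.e, τ.j * p ^ σ.e⟩ : Term B).Valid n p ∧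
      InS p B K (Term.val s ϖ p τ + Term.val s ϖ p σ -
        Term.val s ϖ p ⟨τ.ν + σ.ν, τ.e + σ.e, τ.j * p ^ σ.e⟩) := by
  have hp : p.Prime := Fact.out
  constructor
  · refine ⟨?_, ?_⟩
    · exact Nat.one_le_iff_ne_zero.mpr
        (Nat.mul_ne_zero (Nat.one_le_iff_ne_zero.mp hτ.1) (pow_ne_zero _ hp.ne_zero))
    · change τ.j * p ^ σ.e ≤ n * p ^ (τ.e + σ.e)
      rw [pow_add, ← mul_assoc]
      exact Nat.mul_le_mul_right _ hτ.2
  · have h1 := ascend (K := K) (s := s) (ϖ := ϖ) (p := p) τ.ν τ.e τ.j σ.e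
    have h2 := ascend (K := K) (s := s) (ϖ := ϖ) (p := p) σ.ν σ.e σ.j τ.e
    have h3 : (⟨σ.ν, σ.e + τ.e, σ.j * p ^ τ.e⟩ : Term B) = ⟨σ.ν, τ.e + σ.e, τ.j * p ^ σ.e⟩ := by
      rw [add_comm σ.e, ← hpos]
    rw [h3] at h2
    have hj : τ.j * p ^ σ.e ≤ n * p ^ (τ.e + σ.e) := by
      rw [pow_add, ← mul_assoc]
      exact Nat.mul_le_mul_right _ hτ.2
    have hdiv : πB ^ n ∣ (s τ.ν + s σ.ν) - s (τ.ν + σ.ν) := by
      have := hs2 τ.ν σ.ν
      rw [← dvd_neg] at this
      convert this using 1; ring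
    obtain ⟨c, hc⟩ := coeff_change (p := p) hϖ hϖ0 hj hdiv
    have h4 : Term.val s ϖ p ⟨τ.ν, τ.e + σ.e, τ.j * p ^ σ.e⟩ +
        Term.val s ϖ p ⟨σ.ν, τ.e + σ.e, τ.j * p ^ σ.e⟩ -
        Term.val s ϖ p ⟨τ.ν + σ.ν, τ.e + σ.e, τ.j * p ^ σ.e⟩ = algebraMap B L c := by
      simp only [Term.val]
      rw [← hc, map_add, add_pow_char_pow, add_div]
    have h5 := (h1.add h2).add ((InS.of_B (p := p) (K := K) (L := L) c).congr h4.symm)
    have hτe : (⟨τ.ν, τ.e, τ.j⟩ : Term B) = τ := rfl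
    have hσe : (⟨σ.ν, σ.e, σ.j⟩ : Term B) = σ := rfl
    rw [hτe, hσe] at h5
    exact h5.congr (by ring)


omit [CharP B p] [CharP L p] [Algebra B L] in
theorem exists_root_tower {ν : ResidueField B} (h : ¬ ∀ m : ℕ, ∃ y : ResidueField B, y ^ (p ^ m) = ν) :
    ∃ (t : ℕ) (ν' : ResidueField B), ν = ν' ^ (p ^ t) ∧ ∀ r : ResidueField B, ν' ≠ r ^ p := by
  classical
  push Not at h
  have hm0 : Nat.find h ≠ 0 := by
    intro h0
    have := Nat.find_spec h
    rw [h0] at this
    exact this ν (by simp)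
  obtain ⟨t, ht⟩ := Nat.exists_eq_succ_of_ne_zero hm0
  have h1 := Nat.find_min h (m := t) (by omega)
  push Not at h1
  obtain ⟨ν', hν'⟩ := h1
  refine ⟨t, ν', hν'.symm, fun r hr => ?_⟩
  have := Nat.find_spec h
  rw [ht] at this
  apply this r
  rw [← hν', hr, ← pow_mul, Nat.succ_eq_add_one, pow_succ, mul_comm]

/-- the normal form: a list of fierce terms at pairwise distinct reduced positions. -/
theorem normal_form (hϖ : ϖ = algebraMap B L πB) (hϖ0 : ϖ ≠ 0)
    (hs2 : ∀ x y, πB ^ n ∣ s (x + y) - s x - s y)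
    (hs3 : ∀ x y, πB ^ n ∣ s (x * y) - s x * s y)
    (hkK : ∀ τ : Term B, τ.Valid n p → (∀ m : ℕ, ∃ y : ResidueField B, y ^ (p ^ m) = τ.ν) →
      InS p B K (Term.val s ϖ p τ)) :
    ∀ (m : ℕ) (l : List (Term B)), l.length ≤ m → (∀ τ ∈ l, τ.Valid n p) →
      ∃ l' : List (Term B), l'.length ≤ l.length ∧
        (∀ τ ∈ l', τ.Valid n p ∧ ∀ r : ResidueField B, τ.ν ≠ r ^ p) ∧
        l'.Pairwise (fun τ σ => ¬ τ.SamePos p σ) ∧
        InS p B K ((l.map (Term.val s ϖ p)).sum - (l'.map (Term.val s ϖ p)).sum) := by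
  have hp : p.Prime := Fact.out
  intro m
  induction m with
  | zero =>
    intro l hl _
    have : l = [] := List.length_eq_zero_iff.mp (by omega)
    subst this
    exact ⟨[], le_refl _, by simp, List.Pairwise.nil, by simpa using InS.zero⟩
  | succ m ih =>
    intro l hl hval
    rcases l with _ | ⟨τ, rest⟩
    · exact ⟨[], le_refl _, by simp, List.Pairwise.nil, by simpa using InS.zero⟩
    have hrl : rest.length ≤ m := by simpa using hl
    have hτv : τ.Valid n p := hval τ (List.mem_cons_self)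
    obtain ⟨rest', hlen', hnf', hpw', hS'⟩ :=
      ih rest hrl (fun σ hσ => hval σ (List.mem_cons_of_mem _ hσ))
    by_cases hperf : ∀ m : ℕ, ∃ y : ResidueField B, y ^ (p ^ m) = τ.ν
    · refine ⟨rest', by simp; omega, hnf', hpw', ?_⟩
      have := (hkK τ hτv hperf).add hS'
      exact this.congr (by simp; ring)
    · obtain ⟨t, ν', hν, hν'⟩ := exists_root_tower hperf
      set τ' : Term B := ⟨ν', τ.e + t, τ.j⟩ with hτ'
      have hτ'v : τ'.Valid n p := by
        refine ⟨hτv.1, le_trans hτv.2 ?_⟩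
        change n * p ^ τ.e ≤ n * p ^ (τ.e + t)
        exact Nat.mul_le_mul_left _ (Nat.pow_le_pow_right hp.pos (by omega))
      have hdesc : InS p B K (Term.val s ϖ p τ - Term.val s ϖ p τ') :=
        descend (K := K) hϖ hϖ0 hs3 hτv.2 hν
      by_cases hex : ∃ σ ∈ rest', τ'.SamePos p σ
      · obtain ⟨σ, hσmem, hσpos⟩ := hex
        obtain ⟨l₁, l₂, hsplit⟩ := List.append_of_mem hσmem
        have hσv : σ.Valid n p := (hnf' σ hσmem).1
        obtain ⟨hρv, hρS⟩ := merge (K := K) hϖ hϖ0 hs2 hτ'v hσv hσpos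
        set ρ : Term B := ⟨τ'.ν + σ.ν, τ'.e + σ.e, τ'.j * p ^ σ.e⟩ with hρ
        have hlen'' : (ρ :: (l₁ ++ l₂)).length ≤ m := by
          have : rest'.length = l₁.length + l₂.length + 1 := by
            rw [hsplit]; simp; omega
          simp; omega
        have hval'' : ∀ x ∈ ρ :: (l₁ ++ l₂), x.Valid n p := by
          intro x hx
          rcases List.mem_cons.mp hx with rfl | hx
          · exact hρv
          · apply (hnf' x _).1
            rw [hsplit]
            rcases List.mem_append.mp hx with h | h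
            · exact List.mem_append_left _ h
            · exact List.mem_append_right _ (List.mem_cons_of_mem _ h)
        obtain ⟨l3, hlen3, hnf3, hpw3, hS3⟩ := ih (ρ :: (l₁ ++ l₂)) hlen'' hval''
        refine ⟨l3, ?_, hnf3, hpw3, ?_⟩
        · have : rest'.length = l₁.length + l₂.length + 1 := by
            rw [hsplit]; simp; omega
          simp at hlen3 ⊢; omega
        · have := ((hdesc.add hS').add hρS).add hS3
          refine this.congr ?_
          rw [hsplit]
          simp only [List.map_cons, List.sum_cons, List.map_append, List.sum_append]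
          ring
      · push Not at hex
        refine ⟨τ' :: rest', by simp; omega, ?_, ?_, ?_⟩
        · intro x hx
          rcases List.mem_cons.mp hx with rfl | hx
          · exact ⟨hτ'v, hν'⟩
          · exact hnf' x hx
        · exact List.Pairwise.cons hex hpw'
        · have := hdesc.add hS'
          exact this.congr (by simp; ring)

/-- `π`-adic expansion with digits `s`. -/
theorem expansion (hπB : maximalIdeal B = Ideal.span {πB}) (hϖ : ϖ = algebraMap B L πB) (hϖ0 : ϖ ≠ 0)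
    (hs1 : ∀ x, residue B (s x) = x) :
    ∀ (i : ℕ), i ≤ n → ∀ β : B, ∃ l : List (Term B), (∀ τ ∈ l, τ.Valid n p) ∧
      ∃ c : B, algebraMap B L β / ϖ ^ i - (l.map (Term.val s ϖ p)).sum = algebraMap B L c := by
  intro i
  induction i with
  | zero =>
    intro _ β
    exact ⟨[], by simp, β, by simp⟩
  | succ i ih =>
    intro hi β
    have h1 : β - s (residue B β) ∈ maximalIdeal B := by
      rw [← residue_eq_zero_iff, map_sub, hs1, sub_self]
    rw [hπB, Ideal.mem_span_singleton] at h1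
    obtain ⟨β', hβ'⟩ := h1
    obtain ⟨l, hl, c, hc⟩ := ih (by omega) β'
    refine ⟨⟨residue B β, 0, i + 1⟩ :: l, ?_, c, ?_⟩
    · intro τ hτ
      rcases List.mem_cons.mp hτ with rfl | hτ
      · exact ⟨by simp, by simpa using hi⟩
      · exact hl τ hτ
    · have h2 : algebraMap B L β = algebraMap B L (s (residue B β)) + ϖ * algebraMap B L β' := by
        rw [hϖ, ← map_mul, ← map_add, ← hβ']; congr 1; ring
      rw [List.map_cons, List.sum_cons, ← hc, h2]
      simp only [Term.val, pow_zero, pow_one]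
      rw [pow_succ]
      field_simp
      ring

end Lemmas

end NF


section WithA

variable {p : ℕ} [Fact p.Prime] {A B K L : Type u} [CommRing A] [IsDomain A]
  [IsDiscreteValuationRing A] [CommRing B] [IsDomain B] [IsDiscreteValuationRing B] [Algebra A B]
  [IsLocalHom (algebraMap A B)] [Field K] [Field L] [Algebra A K] [Algebra B L] [Algebra K L]
  [Algebra A L] [IsScalarTower A K L] [IsScalarTower A B L] [CharP B p] [CharP L p]
  [CharP (ResidueField B) p]

theorem kterm {π : A} (hπB : maximalIdeal B = Ideal.span {algebraMap A B π}) {n : ℕ}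
    {s : ResidueField B → B} (hs1 : ∀ x, residue B (s x) = x)
    (hs3 : ∀ x y, algebraMap A B π ^ n ∣ s (x * y) - s x * s y)
    (hk : ∀ x : ResidueField B, (∀ m : ℕ, ∃ y : ResidueField B, y ^ (p ^ m) = x) →
      x ∈ Set.range (algebraMap (ResidueField A) (ResidueField B)))
    {ϖ : L} (hϖ : ϖ = algebraMap B L (algebraMap A B π)) (hϖ0 : ϖ ≠ 0)
    (τ : Term B) (hτ : τ.Valid n p) (hperf : ∀ m : ℕ, ∃ y : ResidueField B, y ^ (p ^ m) = τ.ν) :
    InS p B K (Term.val s ϖ p τ) := by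
  have hp : p.Prime := Fact.out
  have hE : n ≤ p ^ n := (Nat.lt_pow_self hp.one_lt).le
  obtain ⟨y, hy⟩ := hperf n
  have hyperf : ∀ i : ℕ, ∃ w : ResidueField B, w ^ (p ^ i) = y := by
    intro i
    obtain ⟨w, hw⟩ := hperf (i + n)
    refine ⟨w, ?_⟩
    apply iterateFrobenius_inj (ResidueField B) p n
    rw [iterateFrobenius_def, iterateFrobenius_def, ← pow_mul, ← pow_add, hw, hy]
  obtain ⟨a₀, ha₀⟩ := hk y hyperf
  obtain ⟨a, rfl⟩ := residue_surjective a₀
  rw [ResidueField.algebraMap_residue] at ha₀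
  have h1 : algebraMap A B π ^ n ∣ s τ.ν - s y ^ (p ^ n) := by
    rw [← hy]; exact s_pow hs3 y _ (Nat.one_le_pow _ _ hp.pos)
  have h2 : s y - algebraMap A B a ∈ maximalIdeal B := by
    rw [← residue_eq_zero_iff, map_sub, hs1, ha₀, sub_self]
  rw [hπB, Ideal.mem_span_singleton] at h2
  obtain ⟨d, hd⟩ := h2
  have h3 : algebraMap A B π ^ n ∣ s y ^ (p ^ n) - algebraMap A B a ^ (p ^ n) := by
    rw [← sub_pow_char_pow, hd, mul_pow]
    exact Dvd.dvd.mul_right (pow_dvd_pow _ hE) _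
  have h4 : algebraMap A B π ^ n ∣ s τ.ν - algebraMap A B a ^ (p ^ n) := by
    have := dvd_add h1 h3
    rwa [sub_add_sub_cancel] at this
  obtain ⟨c, hc⟩ := coeff_change (p := p) hϖ hϖ0 hτ.2 h4
  have h5 : algebraMap B L (algebraMap A B a ^ (p ^ n)) ^ (p ^ τ.e) / ϖ ^ τ.j =
      algebraMap K L ((algebraMap A K a ^ (p ^ n)) ^ (p ^ τ.e) / algebraMap A K π ^ τ.j) := by
    rw [hϖ, map_div₀, map_pow, map_pow, map_pow, map_pow, ← IsScalarTower.algebraMap_apply A B L,
      ← IsScalarTower.algebraMap_apply A B L, ← IsScalarTower.algebraMap_apply A K L,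
      ← IsScalarTower.algebraMap_apply A K L]
  have h6 : Term.val s ϖ p τ = algebraMap K L
      ((algebraMap A K a ^ (p ^ n)) ^ (p ^ τ.e) / algebraMap A K π ^ τ.j) + algebraMap B L c := by
    rw [← h5, ← hc]; simp only [Term.val]; ring
  rw [h6]
  exact (InS.of_K _).add (InS.of_B _)

/-- normal form of an element of `L` with pole order at most `n`. -/
theorem exists_normal_form {π : A} (hπB : maximalIdeal B = Ideal.span {algebraMap A B π}) {n : ℕ}
    (hn : 0 < n)
    (hk : ∀ x : ResidueField B, (∀ m : ℕ, ∃ y : ResidueField B, y ^ (p ^ m) = x) →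
      x ∈ Set.range (algebraMap (ResidueField A) (ResidueField B)))
    {ϖ : L} (hϖ : ϖ = algebraMap B L (algebraMap A B π)) (hϖ0 : ϖ ≠ 0)
    {ξ : L} {β : B} (hξ : ξ * ϖ ^ n = algebraMap B L β) :
    ∃ s : ResidueField B → B, (∀ x, residue B (s x) = x) ∧
      ∃ l : List (Term B), (∀ τ ∈ l, τ.Valid n p ∧ ∀ r : ResidueField B, τ.ν ≠ r ^ p) ∧
        l.Pairwise (fun τ σ => ¬ τ.SamePos p σ) ∧
        InS p B K (ξ - (l.map (Term.val s ϖ p)).sum) := by
  obtain ⟨s, hs1, hs2, hs3⟩ := exists_section (Fact.out : p.Prime) hπB n hn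
  refine ⟨s, hs1, ?_⟩
  obtain ⟨l, hl, c, hc⟩ := expansion (p := p) (n := n) hπB hϖ hϖ0 hs1 n le_rfl β
  obtain ⟨l', -, hnf, hpw, hS⟩ := normal_form (K := K) hϖ hϖ0 hs2 hs3
    (fun τ hτ hperf => kterm hπB hs1 hs3 hk hϖ hϖ0 τ hτ hperf) l.length l le_rfl hl
  refine ⟨l', hnf, hpw, ?_⟩
  have h1 : ξ = algebraMap B L β / ϖ ^ n := by
    rw [← hξ, mul_div_assoc, div_self (pow_ne_zero _ hϖ0), mul_one]
  have := ((InS.of_B (p := p) (K := K) (L := L) c).congr hc.symm).add hS
  exact this.congr (by rw [h1]; ring)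

end WithA

end Groth.Agent.Lib.H40EppA
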