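import Groth.Agent.Lib.H40EppA

set_option autoImplicit false
universe u

namespace Groth.Agent.Lib.H40EppB

open IsLocalRing Polynomial
open Groth.Agent.Lib.H40TotRamCriterion (val_unit val_algebraMap_K algebraMap_injective')
open Groth.Agent.Lib.H40InsepA Groth.Agent.Lib.H40InsepB Groth.Agent.Lib.H40EFBasis
open Groth.Agent.Lib.H40InsepC

section Fierce

variable {p : ℕ} {A B C K L M K₁ : Type u}
  [CommRing A] [IsDomain A] [IsDiscreteValuationRing A]
  [CommRing B] [IsDomain B] [IsDiscreteValuationRing B]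
  [CommRing C] [IsDomain C] [IsDiscreteValuationRing C]
  [Algebra A B] [Algebra B C] [IsLocalHom (algebraMap A B)] [IsLocalHom (algebraMap B C)]
  [Field K] [Field L] [Field M] [Algebra A K] [IsFractionRing A K] [Algebra B L] [IsFractionRing B L]
  [Algebra C M] [Algebra K L] [Algebra L M] [Algebra K M] [IsScalarTower K L M]
  [Algebra A L] [IsScalarTower A K L] [IsScalarTower A B L] [Algebra B M] [IsScalarTower B L M]
  [IsScalarTower B C M]
  [Field K₁] [Algebra K K₁] [Algebra A K₁] [IsScalarTower A K K₁]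

/-- fierce criterion: in a compositum `N` of `M` and `K₁` with a valuation ring `W` dominating `C`, if
`v(π₁)^q = v(π)` with `q = [K₁:K]` and some `w ∈ N` has `w^p ≡ τ` with `τ̄ ∉ κ_B^p`, where `[M:L] = p`,
then `W ∩ K₁ → W` is weakly unramified. -/
theorem fierce_of_witness (hp : p.Prime) {π : A} (hπ : maximalIdeal A = Ideal.span {π})
    (hw : EtRam.IsWeaklyUnramified A B)
    (hdeg : Module.finrank L M = p) {q : ℕ} (hq : 0 < q) (hK₁ : Module.finrank K K₁ = q)
    {π₁ : K₁}
    (N : Type u) [Field N] [Algebra K N] [Algebra M N] [Algebra K₁ N] [IsScalarTower K M N]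
    [IsScalarTower K K₁ N]
    (hadj : Algebra.adjoin M (Set.range (algebraMap K₁ N)) = ⊤) (W : ValuationSubring N)
    (hW : EtRam.Dominates C ((algebraMap M N).comp (algebraMap C M)) W)
    (hθV' : (W.comap (algebraMap K₁ N)).valuation π₁ ^ q =
      (W.comap (algebraMap K₁ N)).valuation (algebraMap A K₁ π))
    (hθ : W.valuation (algebraMap K₁ N π₁) ^ q =
      W.valuation (algebraMap M N (algebraMap B M (algebraMap A B π))))
    {z : N} {τ : B} (hzτ : W.valuation (z ^ p - algebraMap M N (algebraMap B M τ)) < 1)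
    (hτ : ∀ r : B, residue B τ ≠ residue B r ^ p) :
    Module.finrank M N = q ∧
      (letI : Algebra (W.comap (algebraMap K₁ N)) W :=
        (EtRam.inclOfComap W (algebraMap K₁ N)).toAlgebra
       EtRam.IsWeaklyUnramified (W.comap (algebraMap K₁ N)) W) := by
  classical
  have hfact : Fact p.Prime := ⟨hp⟩
  let _ : Algebra L N := ((algebraMap M N).comp (algebraMap L M)).toAlgebra
  have : IsScalarTower L M N := IsScalarTower.of_algebraMap_eq (fun _ => rfl)
  let _ : Algebra B N := ((algebraMap L N).comp (algebraMap B L)).toAlgebra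
  have : IsScalarTower B L N := IsScalarTower.of_algebraMap_eq (fun _ => rfl)
  set f : K₁ →+* N := algebraMap K₁ N with hf
  set πB : B := algebraMap A B π with hπBdef
  have hπB : maximalIdeal B = Ideal.span {πB} := by
    rw [← hw, hπ, Ideal.map_span, Set.image_singleton]
  have hπBirr : Irreducible πB := (IsDiscreteValuationRing.irreducible_iff_uniformizer πB).mpr hπB
  have hπBmem : πB ∈ maximalIdeal B := by rw [hπB]; exact Ideal.mem_span_singleton_self πB
  have hπmem : π ∈ maximalIdeal A := by rw [hπ]; exact Ideal.mem_span_singleton_self π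
  have hBMN : ∀ b : B, algebraMap B N b = algebraMap M N (algebraMap B M b) := by
    intro b
    change algebraMap M N (algebraMap L M (algebraMap B L b)) = _
    rw [← IsScalarTower.algebraMap_apply B L M]
  have hBN : ∀ b : B, algebraMap B N b = algebraMap M N (algebraMap C M (algebraMap B C b)) := by
    intro b
    rw [hBMN, IsScalarTower.algebraMap_apply B C M]
  have hWB : EtRam.Dominates B (algebraMap B N) W := by
    refine ⟨fun b => by rw [hBN]; exact hW.1 _, fun b hb => ?_⟩
    rw [hBN]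
    apply hW.2
    have hloc : IsLocalHom (algebraMap B C) := inferInstance
    have h3 : maximalIdeal B ≤ (maximalIdeal C).comap (algebraMap B C) :=
      ((local_hom_TFAE (algebraMap B C)).out 0 3).mp hloc
    exact h3 hb
  have hcompat : ∀ a : A, f (algebraMap A K₁ a) = algebraMap B N (algebraMap A B a) := by
    intro a
    change algebraMap K₁ N (algebraMap A K₁ a) =
      algebraMap M N (algebraMap L M (algebraMap B L (algebraMap A B a)))
    rw [IsScalarTower.algebraMap_apply A K K₁, ← IsScalarTower.algebraMap_apply K K₁ N,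
      IsScalarTower.algebraMap_apply K M N, IsScalarTower.algebraMap_apply K L M,
      ← IsScalarTower.algebraMap_apply A K L, IsScalarTower.algebraMap_apply A B L]
  set V' : ValuationSubring K₁ := W.comap f with hV'
  have hV'dom : EtRam.Dominates A (algebraMap A K₁) V' := by
    refine ⟨fun a => ?_, fun a ha => ?_⟩
    · rw [hV', ValuationSubring.mem_comap, hcompat]
      exact hWB.1 _
    · rw [hV', Groth.Agent.Lib.H40TotRamStruct.comap_val_lt_one_iff, hcompat]
      apply hWB.2
      have hloc : IsLocalHom (algebraMap A B) := inferInstance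
      have h3 : maximalIdeal A ≤ (maximalIdeal B).comap (algebraMap A B) :=
        ((local_hom_TFAE (algebraMap A B)).out 0 3).mp hloc
      exact h3 ha
  set Θ : N := f π₁ with hΘ
  set ϖ : N := algebraMap B N πB with hϖ
  have hθ' : W.valuation Θ ^ q = W.valuation ϖ := by rw [hϖ, hBMN]; exact hθ
  have hϖ1 : W.valuation ϖ < 1 := hWB.2 πB hπBmem
  have hinjBN : Function.Injective (algebraMap B N) := algebraMap_injective' (K := L)
  have hϖne : ϖ ≠ 0 := fun h => hπBirr.ne_zero (hinjBN (h.trans (map_zero _).symm))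
  have hϖ0 : W.valuation ϖ ≠ 0 := (Valuation.ne_zero_iff _).mpr hϖne
  have hΘne : Θ ≠ 0 := by
    intro h
    rw [h, map_zero, zero_pow hq.ne'] at hθ'
    exact hϖ0 hθ'.symm
  have hΘpos : 0 < W.valuation Θ := zero_lt_iff.mpr ((Valuation.ne_zero_iff _).mpr hΘne)
  have hΘ1 : W.valuation Θ < 1 := by
    by_contra hcon
    push Not at hcon
    have := one_le_pow₀ hcon (n := q)
    rw [hθ'] at this
    exact absurd hϖ1 (not_lt.mpr this)
  set τ' : N := algebraMap B N τ with hτ'
  have hzτ' : W.valuation (z ^ p - τ') < 1 := by rw [hτ', hBMN]; exact hzτ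
  have hτunit : IsUnit τ := by
    rw [← residue_ne_zero_iff_isUnit]
    intro h0
    exact hτ 0 (by rw [h0, map_zero, zero_pow hp.ne_zero])
  have hτ'v : W.valuation τ' = 1 := val_unit hWB hτunit.unit
  have hzW : z ∈ W := by
    rw [← ValuationSubring.valuation_le_one_iff]
    by_contra hcon
    push Not at hcon
    have h1 := one_lt_pow₀ hcon hp.ne_zero
    rw [← map_pow] at h1
    have h2 : W.valuation (z ^ p) ≤ 1 := by
      have : z ^ p = (z ^ p - τ') + τ' := by ring
      rw [this]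
      exact le_trans (Valuation.map_add _ _ _) (max_le hzτ'.le hτ'v.le)
    exact absurd h1 (not_lt.mpr h2)
  have hind := resIndep_pow (A := B) hp hπB hWB hzW hzτ' hτ
  have hzj : ∀ j : Fin p, z ^ (j : ℕ) ∈ W := fun j => pow_mem hzW _
  have hli := ef_linearIndependent (A := B) (K := L) hπB hq hWB hθ'
    (fun j : Fin p => z ^ (j : ℕ)) hzj hind
  have hliK := Groth.Agent.Lib.H40TotRamStruct.linearIndependent_pow (A := A) (K := K) (L := K₁)
    hπ hq hV'dom hθV'
  have hfdK₁ : Module.Finite K K₁ := Module.finite_of_finrank_pos (by rw [hK₁]; exact hq)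
  have hspanK : Submodule.span K (Set.range (fun i : Fin q => π₁ ^ (i : ℕ))) = ⊤ :=
    hliK.span_eq_top_of_card_eq_finrank' (by rw [Fintype.card_fin, hK₁])
  have hspanM : ⊤ ≤ Submodule.span M (Set.range (fun i : Fin q => Θ ^ (i : ℕ))) := by
    have h1 : Submonoid.closure (Set.range f) = MonoidHom.mrange (f : K₁ →* N) := by
      have h0 : Set.range f = ((MonoidHom.mrange (f : K₁ →* N) : Submonoid N) : Set N) := by
        rw [MonoidHom.coe_mrange]; rfl
      rw [h0, Submonoid.closure_eq]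
    have h2 := Algebra.adjoin_eq_span M (Set.range f)
    rw [hadj, h1] at h2
    rw [← Algebra.top_toSubmodule, h2, Submodule.span_le]
    rintro _ ⟨x, rfl⟩
    have hx : x ∈ Submodule.span K (Set.range (fun i : Fin q => π₁ ^ (i : ℕ))) := by
      rw [hspanK]; trivial
    obtain ⟨g, rfl⟩ := (Submodule.mem_span_range_iff_exists_fun K).mp hx
    change f (∑ i, g i • π₁ ^ (i : ℕ)) ∈ _
    rw [map_sum]
    apply Submodule.sum_mem
    intro i _
    have h3 : f (g i • π₁ ^ (i : ℕ)) = algebraMap K M (g i) • Θ ^ (i : ℕ) := by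
      rw [Algebra.smul_def, map_mul, map_pow, Algebra.smul_def, hf,
        ← IsScalarTower.algebraMap_apply K K₁ N, IsScalarTower.algebraMap_apply K M N]
    rw [h3]
    exact Submodule.smul_mem _ _ (Submodule.subset_span ⟨i, rfl⟩)
  have hspanM' : Submodule.span M (Set.range (fun i : Fin q => Θ ^ (i : ℕ))) = ⊤ :=
    top_le_iff.mp hspanM
  have hfinMN_le : Module.finrank M N ≤ q := by
    have h2 := finrank_range_le_card (R := M) (fun i : Fin q => Θ ^ (i : ℕ))
    rw [Set.finrank, hspanM', finrank_top, Fintype.card_fin] at h2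
    exact h2
  have hfdMN : Module.Finite M N := by
    rw [Module.finite_def, ← hspanM']
    exact Submodule.fg_span (Set.finite_range _)
  have hfdLM : Module.Finite L M := Module.finite_of_finrank_pos (by rw [hdeg]; exact hp.pos)
  have hfdLN : Module.Finite L N := Module.Finite.trans M N
  have hmul := Module.finrank_mul_finrank L M N
  have hge : q * p ≤ Module.finrank L N := by
    have := hli.fintype_card_le_finrank
    rwa [Fintype.card_prod, Fintype.card_fin, Fintype.card_fin] at this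
  have hfinMN : Module.finrank M N = q := by
    rw [hdeg] at hmul
    have h3 : p * q ≤ p * Module.finrank M N := by rw [hmul, mul_comm]; exact hge
    have h4 : q ≤ Module.finrank M N := Nat.le_of_mul_le_mul_left h3 hp.pos
    omega
  have hfinLN : Module.finrank L N = q * p := by rw [← hmul, hdeg, hfinMN, mul_comm]
  refine ⟨hfinMN, ?_⟩
  apply weaklyUnramified_of_bound W f π₁ hΘ1
  intro y' hy'
  by_cases hy0 : y' = 0
  · rw [hy0, map_zero]; exact zero_le
  obtain ⟨m, hm⟩ := ef_val_of_finrank (A := B) (K := L) hπB hq hWB hθ'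
    (fun j : Fin p => z ^ (j : ℕ)) hzj hind hfinLN hp.pos hy0
  rw [hm] at hy' ⊢
  have hm1 : 1 ≤ m := by
    by_contra hcon
    push Not at hcon
    have : m ≤ 0 := by omega
    exact absurd hy' (not_lt.mpr (one_le_zpow_of_nonpos₀ hΘpos hΘ1.le this))
  calc W.valuation Θ ^ m ≤ W.valuation Θ ^ (1 : ℤ) :=
        zpow_le_zpow_right_of_le_one₀ hΘpos hΘ1.le hm1
    _ = W.valuation Θ := zpow_one _

end Fierce

section ASNormal

variable {p : ℕ} [Fact p.Prime] {A K : Type u} [CommRing A] [IsDomain A]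
  [IsDiscreteValuationRing A] [Field K] [Algebra A K] [IsFractionRing A K] [CharP K p]

/-- Artin–Schreier normal form over a DVR with perfect residue field: modulo `℘(K)` every element
is integral or has pole order prime to `p`. -/
theorem as_normal_form {π : A} (hπ : maximalIdeal A = Ideal.span {π})
    (hperf : ∀ x : ResidueField A, ∃ y : ResidueField A, y ^ p = x) :
    ∀ (N : ℕ) (ξ : K), (∃ b : A, ξ * algebraMap A K π ^ N = algebraMap A K b) →
      ∃ x : K, (∃ a : A, ξ - (x ^ p - x) = algebraMap A K a) ∨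
        ∃ (n : ℕ) (u : Aˣ), 0 < n ∧ ¬ p ∣ n ∧
          (ξ - (x ^ p - x)) * algebraMap A K π ^ n = algebraMap A K u := by
  have hp : p.Prime := Fact.out
  have hπirr : Irreducible π := (IsDiscreteValuationRing.irreducible_iff_uniformizer π).mpr hπ
  have hϖ0 : algebraMap A K π ≠ 0 := by
    intro h
    exact hπirr.ne_zero (IsFractionRing.injective A K (h.trans (map_zero _).symm))
  intro N
  induction N with
  | zero =>
    intro ξ ⟨b, hb⟩
    rw [pow_zero, mul_one] at hb
    exact ⟨1, Or.inl ⟨b, by rw [hb]; simp⟩⟩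
  | succ N ih =>
    intro ξ ⟨b, hb⟩
    by_cases hbm : b ∈ maximalIdeal A
    · rw [hπ, Ideal.mem_span_singleton] at hbm
      obtain ⟨b', rfl⟩ := hbm
      apply ih ξ
      refine ⟨b', ?_⟩
      rw [pow_succ, ← mul_assoc, map_mul, mul_comm (algebraMap A K π)] at hb
      exact mul_right_cancel₀ hϖ0 hb
    · have hbu : IsUnit b := by
        simpa [mem_maximalIdeal, mem_nonunits_iff] using hbm
      by_cases hpn : p ∣ N + 1
      · obtain ⟨r₀, hr₀⟩ := hperf (residue A b)
        obtain ⟨r, rfl⟩ := residue_surjective r₀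
        obtain ⟨m, hm⟩ := hpn
        have hm0 : 0 < m := by
          rcases Nat.eq_zero_or_pos m with h0 | h0
          · rw [h0, mul_zero] at hm; exact absurd hm (Nat.succ_ne_zero N)
          · exact h0
        have hNm : m ≤ N := by
          have : 2 * m ≤ p * m := Nat.mul_le_mul_right m hp.two_le
          omega
        have hd : b - r ^ p ∈ maximalIdeal A := by
          rw [← residue_eq_zero_iff, map_sub, map_pow, hr₀, sub_self]
        rw [hπ, Ideal.mem_span_singleton] at hd
        obtain ⟨d, hd⟩ := hd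
        set c : K := algebraMap A K r * (algebraMap A K π ^ m)⁻¹ with hc
        have hwm : algebraMap A K π ^ m ≠ 0 := pow_ne_zero _ hϖ0
        obtain ⟨x', hx'⟩ := ih (ξ - c ^ p + c) (by
          refine ⟨d + r * π ^ (N - m), ?_⟩
          apply mul_right_cancel₀ hϖ0
          have h1 : algebraMap A K π ^ (N + 1) = (algebraMap A K π ^ m) ^ p := by
            rw [hm, pow_mul']
          have h2 : algebraMap A K π ^ N = algebraMap A K π ^ m * algebraMap A K π ^ (N - m) := by
            rw [← pow_add, Nat.add_sub_cancel' hNm]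
          have h3 : algebraMap A K b = algebraMap A K r ^ p + algebraMap A K π * algebraMap A K d := by
            rw [← map_pow, ← map_mul, ← map_add, ← hd]; congr 1; ring
          have h4 : ξ * (algebraMap A K π ^ m) ^ p = algebraMap A K b := by rw [← h1]; exact hb
          rw [map_add, map_mul, map_pow, hc]
          have h5 : (algebraMap A K r * (algebraMap A K π ^ m)⁻¹) ^ p * (algebraMap A K π ^ m) ^ p =
              algebraMap A K r ^ p := by
            rw [← mul_pow, mul_assoc, inv_mul_cancel₀ hwm, mul_one]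
          have h6 : (algebraMap A K π ^ m) ^ p =
              algebraMap A K π ^ m * algebraMap A K π ^ (N - m) * algebraMap A K π := by
            rw [← h1, pow_succ, h2]
          have h7 : algebraMap A K r * (algebraMap A K π ^ m)⁻¹ * (algebraMap A K π ^ m) =
              algebraMap A K r := by
            rw [mul_assoc, inv_mul_cancel₀ hwm, mul_one]
          rw [h2]
          linear_combination h4 - h5 + h3 -
            (ξ - (algebraMap A K r * (algebraMap A K π ^ m)⁻¹) ^ p) * h6 +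
            (algebraMap A K π ^ (N - m) * algebraMap A K π) * h7)
        refine ⟨x' + c, ?_⟩
        have h8 : ξ - ((x' + c) ^ p - (x' + c)) = ξ - c ^ p + c - (x' ^ p - x') := by
          rw [add_pow_char]; ring
        rw [h8]
        exact hx'
      · refine ⟨1, Or.inr ⟨N + 1, hbu.unit, Nat.succ_pos N, hpn, ?_⟩⟩
        rw [one_pow, sub_self, sub_zero, hb]; rfl

end ASNormal

section Convert

variable {p : ℕ} [Fact p.Prime] {F : Type u} [Field F] [CharP F p] (W : ValuationSubring F)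
  {ϖ Θ b₁ : F} {m Nn : ℕ}

omit [Fact p.Prime] [CharP F p] in
theorem eps_facts (hrel : Θ ^ (p ^ Nn) = ϖ + ϖ ^ m * b₁) (hϖ0 : ϖ ≠ 0)
    (hϖ1 : W.valuation ϖ < 1) (hb : W.valuation b₁ ≤ 1) (hm : 2 ≤ m) :
    W.valuation Θ ^ (p ^ Nn) = W.valuation ϖ ∧
      ∀ k : ℕ, W.valuation ((Θ ^ (p ^ Nn) / ϖ) ^ k - 1) ≤ W.valuation ϖ ^ (m - 1) := by
  refine ⟨val_pow_eq_of_rel W hm hϖ1 hb hrel, fun k => ?_⟩
  set ε : F := Θ ^ (p ^ Nn) / ϖ with hε
  have hε1 : ε - 1 = ϖ ^ (m - 1) * b₁ := by
    rw [hε, hrel]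
    obtain ⟨m', rfl⟩ : ∃ m', m = m' + 1 := ⟨m - 1, by omega⟩
    rw [Nat.add_sub_cancel, pow_succ]
    field_simp
    ring
  have hv1 : W.valuation (ε - 1) ≤ W.valuation ϖ ^ (m - 1) := by
    rw [hε1, map_mul, map_pow]
    calc _ ≤ W.valuation ϖ ^ (m - 1) * 1 := mul_le_mul_right hb _
      _ = _ := mul_one _
  have hvε : W.valuation ε ≤ 1 := by
    have : ε = (ε - 1) + 1 := by ring
    rw [this]
    refine le_trans (Valuation.map_add _ _ _) (max_le (le_trans hv1 ?_) (by rw [map_one]))
    exact pow_le_one₀ zero_le hϖ1.le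
  rw [← geom_sum_mul, map_mul]
  have hsum : W.valuation (∑ i ∈ Finset.range k, ε ^ i) ≤ 1 := by
    apply Valuation.map_sum_le
    intro i _
    rw [map_pow]
    exact pow_le_one₀ zero_le hvε
  calc _ ≤ 1 * W.valuation ϖ ^ (m - 1) := by
        exact mul_le_mul' hsum hv1
    _ = _ := one_mul _

theorem term_convert (hrel : Θ ^ (p ^ Nn) = ϖ + ϖ ^ m * b₁) (hϖ0 : ϖ ≠ 0)
    (hϖ1 : W.valuation ϖ < 1) (hb : W.valuation b₁ ≤ 1) (hm : 2 ≤ m)
    {S : F} (hS : W.valuation S ≤ 1) {e j : ℕ} (he : e ≤ Nn) (hj : j + 1 ≤ m) :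
    ∃ x β : F, S ^ (p ^ e) / ϖ ^ j = x ^ p - x + S / Θ ^ (j * p ^ (Nn - e)) + β ∧
      W.valuation β ≤ 1 := by
  obtain ⟨hvΘ, hvε⟩ := eps_facts W hrel hϖ0 hϖ1 hb hm
  have hΘ0 : Θ ≠ 0 := by
    intro h
    rw [h, map_zero, zero_pow (pow_ne_zero _ (Fact.out : p.Prime).ne_zero)] at hvΘ
    exact hϖ0 ((Valuation.zero_iff _).mp hvΘ.symm)
  set ε : F := Θ ^ (p ^ Nn) / ϖ with hε
  set X : F := S / Θ ^ (j * p ^ (Nn - e)) with hX
  have hXp : X ^ (p ^ e) = S ^ (p ^ e) / (Θ ^ (p ^ Nn)) ^ j := by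
    rw [hX, div_pow, ← pow_mul, ← pow_mul, mul_assoc, ← pow_add, Nat.sub_add_cancel he, mul_comm]
  have h1 : S ^ (p ^ e) / ϖ ^ j = X ^ (p ^ e) + X ^ (p ^ e) * (ε ^ j - 1) := by
    rw [hXp, hε, div_pow]
    have : (Θ ^ (p ^ Nn)) ^ j ≠ 0 := pow_ne_zero _ (pow_ne_zero _ hΘ0)
    have : ϖ ^ j ≠ 0 := pow_ne_zero _ hϖ0
    field_simp
    ring
  obtain ⟨x, hx⟩ := Groth.Agent.Lib.H40EppA.pow_pow_sub_eq_wp (p := p) X e
  refine ⟨x, X ^ (p ^ e) * (ε ^ j - 1), ?_, ?_⟩
  · rw [h1]; linear_combination hx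
  · rw [map_mul, hXp, map_div₀, map_pow, map_pow, map_pow, hvΘ]
    have hϖv0 : W.valuation ϖ ≠ 0 := (Valuation.ne_zero_iff _).mpr hϖ0
    have h2 : W.valuation ϖ ^ (m - 1) = W.valuation ϖ ^ j * W.valuation ϖ ^ (m - 1 - j) := by
      rw [← pow_add]; congr 1; omega
    calc W.valuation S ^ (p ^ e) / W.valuation ϖ ^ j * W.valuation (ε ^ j - 1)
        ≤ W.valuation S ^ (p ^ e) / W.valuation ϖ ^ j * W.valuation ϖ ^ (m - 1) :=
          mul_le_mul_right (hvε j) _
      _ = W.valuation S ^ (p ^ e) * W.valuation ϖ ^ (m - 1 - j) := by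
          rw [h2]
          field_simp
      _ ≤ 1 * 1 := mul_le_mul' (pow_le_one₀ zero_le hS) (pow_le_one₀ zero_le hϖ1.le)
      _ = 1 := one_mul _

theorem kpart_convert (hrel : Θ ^ (p ^ Nn) = ϖ + ϖ ^ m * b₁) (hϖ0 : ϖ ≠ 0)
    (hϖ1 : W.valuation ϖ < 1) (hb : W.valuation b₁ ≤ 1) (hm : 2 ≤ m)
    {A : Type u} [CommRing A] (g : A →+* F) {π : A} (hgπ : g π = ϖ)
    (hgA : ∀ a : A, W.valuation (g a) ≤ 1)
    (hperfA : ∀ a : A, ∃ a' a'' : A, a = a' ^ (p ^ Nn) + π * a'') :
    ∀ j : ℕ, j + 1 ≤ m → ∀ a : A, ∃ x α : F, g a / ϖ ^ j = x ^ p - x + α ∧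
      W.valuation α * W.valuation Θ ^ j ≤ 1 := by
  obtain ⟨hvΘ, -⟩ := eps_facts W hrel hϖ0 hϖ1 hb hm
  have hΘ0 : Θ ≠ 0 := by
    intro h
    rw [h, map_zero, zero_pow (pow_ne_zero _ (Fact.out : p.Prime).ne_zero)] at hvΘ
    exact hϖ0 ((Valuation.zero_iff _).mp hvΘ.symm)
  have hΘ1 : W.valuation Θ ≤ 1 := by
    by_contra hcon
    push Not at hcon
    have := one_lt_pow₀ hcon (pow_ne_zero Nn (Fact.out : p.Prime).ne_zero)
    rw [hvΘ] at this
    exact absurd hϖ1 (not_lt.mpr this.le)
  intro j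
  induction j with
  | zero =>
    intro _ a
    exact ⟨1, g a, by simp, by simpa using hgA a⟩
  | succ j ih =>
    intro hj a
    obtain ⟨a', a'', rfl⟩ := hperfA a
    obtain ⟨x₂, α₂, h2, hα₂⟩ := ih (by omega) a''
    obtain ⟨x₁, β, h1, hβ⟩ := term_convert W hrel hϖ0 hϖ1 hb hm (hgA a') (le_refl Nn) hj
    rw [Nat.sub_self, pow_zero, mul_one] at h1
    refine ⟨x₁ + x₂, g a' / Θ ^ (j + 1) + β + α₂, ?_, ?_⟩
    · have h3 : g (a' ^ (p ^ Nn) + π * a'') / ϖ ^ (j + 1) =
          g a' ^ (p ^ Nn) / ϖ ^ (j + 1) + g a'' / ϖ ^ j := by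
        rw [map_add, map_mul, map_pow, hgπ, pow_succ]
        field_simp
      rw [h3, h1, h2, add_pow_char]; ring
    · have hΘj : W.valuation Θ ^ (j + 1) ≠ 0 :=
        pow_ne_zero _ ((Valuation.ne_zero_iff _).mpr hΘ0)
      have e1 : W.valuation (g a' / Θ ^ (j + 1)) * W.valuation Θ ^ (j + 1) ≤ 1 := by
        rw [map_div₀, map_pow, div_mul_cancel₀ _ hΘj]; exact hgA a'
      have e2 : W.valuation β * W.valuation Θ ^ (j + 1) ≤ 1 := by
        calc _ ≤ 1 * 1 := mul_le_mul' hβ (pow_le_one₀ zero_le hΘ1)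
          _ = 1 := one_mul _
      have e3 : W.valuation α₂ * W.valuation Θ ^ (j + 1) ≤ 1 := by
        rw [pow_succ, ← mul_assoc]
        calc _ ≤ 1 * 1 := mul_le_mul' hα₂ hΘ1
          _ = 1 := one_mul _
      calc W.valuation (g a' / Θ ^ (j + 1) + β + α₂) * W.valuation Θ ^ (j + 1)
          ≤ max (max (W.valuation (g a' / Θ ^ (j + 1))) (W.valuation β)) (W.valuation α₂) *
            W.valuation Θ ^ (j + 1) := by
            apply mul_le_mul_left
            refine le_trans (Valuation.map_add _ _ _) (max_le_max (Valuation.map_add _ _ _) le_rfl)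
        _ ≤ 1 := by
            rcases max_cases (max (W.valuation (g a' / Θ ^ (j + 1))) (W.valuation β))
              (W.valuation α₂) with ⟨h, -⟩ | ⟨h, -⟩
            · rw [h]
              rcases max_cases (W.valuation (g a' / Θ ^ (j + 1))) (W.valuation β) with
                ⟨h', -⟩ | ⟨h', -⟩
              · rw [h']; exact e1
              · rw [h']; exact e2
            · rw [h]; exact e3

end Convert

section PerfLift

variable {p : ℕ} {A : Type u} [CommRing A] [IsLocalRing A]

theorem exists_pow_add_mul {π : A} (hπ : maximalIdeal A = Ideal.span {π})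
    (hperf : ∀ x : ResidueField A, ∃ y : ResidueField A, y ^ p = x) (Nn : ℕ) (a : A) :
    ∃ a' a'' : A, a = a' ^ (p ^ Nn) + π * a'' := by
  have h1 : ∀ Nn : ℕ, ∀ x : ResidueField A, ∃ y : ResidueField A, y ^ (p ^ Nn) = x := by
    intro Nn
    induction Nn with
    | zero => exact fun x => ⟨x, by simp⟩
    | succ Nn ih =>
      intro x
      obtain ⟨y, hy⟩ := ih x
      obtain ⟨y', hy'⟩ := hperf y
      exact ⟨y', by rw [pow_succ, pow_mul', hy', hy]⟩
  obtain ⟨y₀, hy₀⟩ := h1 Nn (residue A a)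
  obtain ⟨a', rfl⟩ := residue_surjective y₀
  have h2 : a - a' ^ (p ^ Nn) ∈ maximalIdeal A := by
    rw [← residue_eq_zero_iff, map_sub, map_pow, hy₀, sub_self]
  rw [hπ, Ideal.mem_span_singleton] at h2
  obtain ⟨a'', ha''⟩ := h2
  exact ⟨a', a'', by rw [← ha'']; ring⟩

end PerfLift

section ListLemmas

open Groth.Agent.Lib.H40EppA

theorem list_bound {T : Type*} (l : List T) (f : T → ℕ) : ∃ E : ℕ, ∀ τ ∈ l, f τ ≤ E := by
  induction l with
  | nil => exact ⟨0, by simp⟩
  | cons a l ih =>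
    obtain ⟨E, hE⟩ := ih
    refine ⟨max E (f a), fun τ hτ => ?_⟩
    rcases List.mem_cons.mp hτ with rfl | hτ
    · exact le_max_right _ _
    · exact le_trans (hE τ hτ) (le_max_left _ _)

theorem list_val_bound {F : Type u} [Field F] (W : ValuationSubring F) {T : Type*} (l : List T)
    (f : T → F) (c : W.ValueGroup) (h : ∀ τ ∈ l, W.valuation (f τ) * c ≤ 1) :
    W.valuation ((l.map f).sum) * c ≤ 1 := by
  induction l with
  | nil => simp
  | cons a l ih =>
    rw [List.map_cons, List.sum_cons]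
    have h1 := h a List.mem_cons_self
    have h2 := ih (fun τ hτ => h τ (List.mem_cons_of_mem _ hτ))
    rcases le_total (W.valuation (f a)) (W.valuation (l.map f).sum) with h3 | h3
    · exact le_trans (mul_le_mul_left (le_trans (Valuation.map_add _ _ _) (max_le h3 le_rfl)) _) h2
    · exact le_trans (mul_le_mul_left (le_trans (Valuation.map_add _ _ _) (max_le le_rfl h3)) _) h1

variable {p : ℕ} [Fact p.Prime] {F : Type u} [Field F] [CharP F p] (W : ValuationSubring F)
  {ϖ Θ b₁ : F} {m Nn : ℕ}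

theorem list_convert (hrel : Θ ^ (p ^ Nn) = ϖ + ϖ ^ m * b₁) (hϖ0 : ϖ ≠ 0)
    (hϖ1 : W.valuation ϖ < 1) (hb : W.valuation b₁ ≤ 1) (hm : 2 ≤ m)
    {B : Type u} [CommRing B] [IsLocalRing B] (gB : B →+* F) (hgB : ∀ b : B, W.valuation (gB b) ≤ 1)
    (s : ResidueField B → B) (l : List (Term B)) (hl : ∀ τ ∈ l, τ.e ≤ Nn ∧ τ.j + 1 ≤ m) :
    ∃ x β : F, (l.map (fun τ => gB (s τ.ν) ^ (p ^ τ.e) / ϖ ^ τ.j)).sum =
        x ^ p - x + (l.map (fun τ => gB (s τ.ν) / Θ ^ (τ.j * p ^ (Nn - τ.e)))).sum + β ∧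
      W.valuation β ≤ 1 := by
  induction l with
  | nil => exact ⟨1, 0, by simp, by simp⟩
  | cons a l ih =>
    obtain ⟨x₂, β₂, h2, hβ₂⟩ := ih (fun τ hτ => hl τ (List.mem_cons_of_mem _ hτ))
    obtain ⟨hae, haj⟩ := hl a List.mem_cons_self
    obtain ⟨x₁, β₁', h1, hβ₁⟩ := term_convert W hrel hϖ0 hϖ1 hb hm (hgB (s a.ν)) hae haj
    refine ⟨x₁ + x₂, β₁' + β₂, ?_, ?_⟩
    · rw [List.map_cons, List.sum_cons, List.map_cons, List.sum_cons, h1, h2, add_pow_char]; ring
    · exact le_trans (Valuation.map_add _ _ _) (max_le hβ₁ hβ₂)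

end ListLemmas

end Groth.Agent.Lib.H40EppB
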