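import Groth.Agent.Lib.H40EppB
import Groth.Agent.Lib.H40TotRamExt
import Groth.Agent.Lib.H40ArtinSchreier

set_option autoImplicit false
universe u

namespace Groth.Agent.Lib.H40EppC

open IsLocalRing Polynomial
open Groth.Agent.Lib.H40TotRamCriterion (val_unit val_algebraMap_K algebraMap_injective')
open Groth.Agent.Lib.H40InsepA Groth.Agent.Lib.H40InsepB Groth.Agent.Lib.H40EFBasis
open Groth.Agent.Lib.H40InsepC Groth.Agent.Lib.H40EppA Groth.Agent.Lib.H40EppB

section TypeII

variable {p : ℕ} {A B C K L M : Type u}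
  [CommRing A] [IsDomain A] [IsDiscreteValuationRing A]
  [CommRing B] [IsDomain B] [IsDiscreteValuationRing B]
  [CommRing C] [IsDomain C] [IsDiscreteValuationRing C]
  [Algebra A B] [Algebra B C] [IsLocalHom (algebraMap A B)] [IsLocalHom (algebraMap B C)]
  [Field K] [Field L] [Field M] [Algebra A K] [IsFractionRing A K] [Algebra B L] [IsFractionRing B L]
  [Algebra C M] [Algebra K L] [Algebra L M] [Algebra K M] [IsScalarTower K L M]
  [Algebra A L] [IsScalarTower A K L] [IsScalarTower A B L] [Algebra B M] [IsScalarTower B L M]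
  [IsScalarTower B C M]

/-- type (II): there is a fierce term; a large Eisenstein-type extension `K_N` works. -/
theorem typeII (hp : p.Prime) [CharP K p] {π : A} (hπ : maximalIdeal A = Ideal.span {π})
    (hw : EtRam.IsWeaklyUnramified A B) (hdeg : Module.finrank L M = p)
    (hperf : ∀ x : ResidueField A, ∃ y : ResidueField A, y ^ p = x)
    {s : ResidueField B → B} (hs1 : ∀ x, residue B (s x) = x)
    {n : ℕ} (l : List (Term B)) (hne : l ≠ [])
    (hnf : ∀ τ ∈ l, τ.Valid n p ∧ ∀ r : ResidueField B, τ.ν ≠ r ^ p)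
    (hpw : l.Pairwise (fun τ σ => ¬ τ.SamePos p σ))
    {z : M} {ξ x₀ : L} {aK : K} {b : B} (hz : z ^ p - z = algebraMap L M ξ)
    (hξ : ξ - (l.map (Term.val s (algebraMap B L (algebraMap A B π)) p)).sum =
      x₀ ^ p - x₀ + algebraMap K L aK + algebraMap B L b)
    {nA : ℕ} {a : A} (haK : aK * algebraMap A K π ^ nA = algebraMap A K a) :
    ∃ (K₁ : Type u) (_ : Field K₁) (_ : Algebra K K₁), FiniteDimensional K K₁ ∧
      Algebra.IsSeparable K K₁ ∧
      EtRam.IsTotallyRamified A ((algebraMap K K₁).comp (algebraMap A K)) ∧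
      EtRam.IsWeakSolution C K M K₁ := by
  classical
  have hfact : Fact p.Prime := ⟨hp⟩
  obtain ⟨E, hE⟩ := list_bound l (fun τ => τ.e)
  set Nn : ℕ := E + nA + 1 with hNn
  set m : ℕ := n * p ^ E + nA + 2 with hm
  have hjm : ∀ τ ∈ l, τ.e ≤ Nn ∧ τ.j + 1 ≤ m := by
    intro τ hτ
    refine ⟨by have := hE τ hτ; omega, ?_⟩
    have h1 := (hnf τ hτ).1.2
    have h2 : n * p ^ τ.e ≤ n * p ^ E :=
      Nat.mul_le_mul_left _ (Nat.pow_le_pow_right hp.pos (hE τ hτ))
    omega
  have hq2 : 2 ≤ p ^ Nn := by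
    calc 2 ≤ p := hp.two_le
      _ = p ^ 1 := (pow_one p).symm
      _ ≤ p ^ Nn := Nat.pow_le_pow_right hp.pos (by omega)
  obtain ⟨K₁, instF, instKK₁, instAK₁, instTower, hfin, hsep, htot, π₁, b₁, b', hπ₁, hb₁, -, heq, -⟩ :=
    Groth.Agent.Lib.H40TotRamExt.exists_ext (K := K) hπ (n := m) (by omega) hq2
  have hfd : FiniteDimensional K K₁ :=
    Module.finite_of_finrank_pos (by rw [hfin]; exact pow_pos hp.pos _)
  have htot' : EtRam.IsTotallyRamified A ((algebraMap K K₁).comp (algebraMap A K)) := by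
    rw [← IsScalarTower.algebraMap_eq A K K₁]; exact htot
  refine ⟨K₁, instF, instKK₁, hfd, hsep, htot', ?_⟩
  intro N _ _ _ _ _ _ hadj W hW
  -- maps into N
  have hcharL : CharP L p := charP_of_injective_algebraMap (algebraMap K L).injective p
  have hcharM : CharP M p := charP_of_injective_algebraMap (algebraMap L M).injective p
  have hcharN : CharP N p := charP_of_injective_algebraMap (algebraMap M N).injective p
  set gL : L →+* N := (algebraMap M N).comp (algebraMap L M) with hgL
  set gB : B →+* N := (algebraMap M N).comp (algebraMap B M) with hgB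
  set f : K₁ →+* N := algebraMap K₁ N with hf
  have hgLB : ∀ b : B, gL (algebraMap B L b) = gB b := by
    intro b
    change algebraMap M N (algebraMap L M (algebraMap B L b)) = algebraMap M N (algebraMap B M b)
    rw [← IsScalarTower.algebraMap_apply B L M]
  set πB : B := algebraMap A B π with hπBdef
  have hπB : maximalIdeal B = Ideal.span {πB} := by
    rw [← hw, hπ, Ideal.map_span, Set.image_singleton]
  have hπBirr : Irreducible πB := (IsDiscreteValuationRing.irreducible_iff_uniformizer πB).mpr hπB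
  have hπBmem : πB ∈ maximalIdeal B := by rw [hπB]; exact Ideal.mem_span_singleton_self πB
  have hπmem : π ∈ maximalIdeal A := by rw [hπ]; exact Ideal.mem_span_singleton_self π
  have hgBC : ∀ b : B, gB b = algebraMap M N (algebraMap C M (algebraMap B C b)) := by
    intro b
    change algebraMap M N (algebraMap B M b) = _
    rw [IsScalarTower.algebraMap_apply B C M]
  have hgBW : ∀ b : B, gB b ∈ W := fun b => by rw [hgBC]; exact hW.1 _
  have hgBv : ∀ b : B, W.valuation (gB b) ≤ 1 := fun b =>
    (ValuationSubring.valuation_le_one_iff _ _).mpr (hgBW b)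
  have hgBm : ∀ b : B, b ∈ maximalIdeal B → W.valuation (gB b) < 1 := by
    intro b hb
    rw [hgBC]
    apply hW.2
    have hloc : IsLocalHom (algebraMap B C) := inferInstance
    have h3 : maximalIdeal B ≤ (maximalIdeal C).comap (algebraMap B C) :=
      ((local_hom_TFAE (algebraMap B C)).out 0 3).mp hloc
    exact h3 hb
  have hcompat : ∀ a : A, f (algebraMap A K₁ a) = gB (algebraMap A B a) := by
    intro a
    change algebraMap K₁ N (algebraMap A K₁ a) = algebraMap M N (algebraMap B M (algebraMap A B a))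
    rw [IsScalarTower.algebraMap_apply A K K₁, ← IsScalarTower.algebraMap_apply K K₁ N,
      IsScalarTower.algebraMap_apply K M N, IsScalarTower.algebraMap_apply K L M,
      ← IsScalarTower.algebraMap_apply A K L, IsScalarTower.algebraMap_apply A B L,
      ← IsScalarTower.algebraMap_apply B L M]
  have hgKL : ∀ c : K, gL (algebraMap K L c) = algebraMap K N c := by
    intro c
    change algebraMap M N (algebraMap L M (algebraMap K L c)) = _
    rw [← IsScalarTower.algebraMap_apply K L M, ← IsScalarTower.algebraMap_apply K M N]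
  have hgAK : ∀ a : A, algebraMap K N (algebraMap A K a) = gB (algebraMap A B a) := by
    intro a
    rw [← hcompat, IsScalarTower.algebraMap_apply A K K₁, ← IsScalarTower.algebraMap_apply K K₁ N]
  set V' : ValuationSubring K₁ := W.comap f with hV'
  have hV'dom : EtRam.Dominates A (algebraMap A K₁) V' := by
    refine ⟨fun a => ?_, fun a ha => ?_⟩
    · rw [hV', ValuationSubring.mem_comap, hcompat]
      exact hgBW _
    · rw [hV', Groth.Agent.Lib.H40TotRamStruct.comap_val_lt_one_iff, hcompat]
      apply hgBm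
      have hloc : IsLocalHom (algebraMap A B) := inferInstance
      have h3 : maximalIdeal A ≤ (maximalIdeal B).comap (algebraMap A B) :=
        ((local_hom_TFAE (algebraMap A B)).out 0 3).mp hloc
      exact h3 ha
  have hb₁V' : b₁ ∈ V' := Groth.Agent.Lib.H40TotRamStruct.mem_of_isIntegral hV'dom.1 hb₁
  have hm2 : 2 ≤ m := by omega
  have hθV' : V'.valuation π₁ ^ (p ^ Nn) = V'.valuation (algebraMap A K₁ π) :=
    val_pow_eq_of_rel V' hm2 (hV'dom.2 π hπmem)
      ((ValuationSubring.valuation_le_one_iff _ _).mpr hb₁V') heq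
  set Θ : N := f π₁ with hΘ
  set β₁ : N := f b₁ with hβ₁
  set ϖ : N := gB πB with hϖ
  have hrel : Θ ^ (p ^ Nn) = ϖ + ϖ ^ m * β₁ := by
    have := congrArg f heq
    rwa [map_pow, map_add, map_mul, map_pow, hcompat] at this
  have hϖ1 : W.valuation ϖ < 1 := hgBm πB hπBmem
  have hinjgB : Function.Injective gB :=
    (algebraMap M N).injective.comp (algebraMap_injective' (A := B) (K := L) (L := M))
  have hϖne : ϖ ≠ 0 := fun h => hπBirr.ne_zero (hinjgB (h.trans (map_zero _).symm))
  have hβ₁1 : W.valuation β₁ ≤ 1 := (ValuationSubring.valuation_le_one_iff _ _).mpr hb₁V'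
  obtain ⟨hθ, -⟩ := eps_facts W hrel hϖne hϖ1 hβ₁1 hm2
  have hΘne : Θ ≠ 0 := by
    intro h
    rw [h, map_zero, zero_pow (pow_ne_zero _ hp.ne_zero)] at hθ
    exact hϖne ((Valuation.zero_iff _).mp hθ.symm)
  have hΘpos : 0 < W.valuation Θ := zero_lt_iff.mpr ((Valuation.ne_zero_iff _).mpr hΘne)
  have hΘv0 : W.valuation Θ ≠ 0 := hΘpos.ne'
  have hΘ1 : W.valuation Θ < 1 := by
    by_contra hcon
    push Not at hcon
    have := one_le_pow₀ hcon (n := p ^ Nn)
    rw [hθ] at this
    exact absurd hϖ1 (not_lt.mpr this)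
  -- conversions
  obtain ⟨x_l, β_l, hl, hβl⟩ := list_convert W hrel hϖne hϖ1 hβ₁1 hm2 gB hgBv s l hjm
  set gA : A →+* N := gB.comp (algebraMap A B) with hgA
  obtain ⟨x_A, α, hA, hα⟩ := kpart_convert W hrel hϖne hϖ1 hβ₁1 hm2 gA (π := π) rfl
    (fun a => hgBv _) (exists_pow_add_mul hπ hperf Nn) nA (by omega) a
  -- the image of `ξ`
  have hval : ∀ τ : Term B, gL (Term.val s (algebraMap B L πB) p τ) =
      gB (s τ.ν) ^ (p ^ τ.e) / ϖ ^ τ.j := by
    intro τ
    simp only [Term.val]
    rw [map_div₀, map_pow, map_pow, hgLB, hgLB]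
  have hsum : gL ((l.map (Term.val s (algebraMap B L πB) p)).sum) =
      (l.map (fun τ => gB (s τ.ν) ^ (p ^ τ.e) / ϖ ^ τ.j)).sum := by
    rw [map_list_sum, List.map_map]
    congr 1
    apply List.map_congr_left
    intro τ _
    exact hval τ
  have hϖA : algebraMap K N (algebraMap A K π) = ϖ := hgAK π
  have haK' : algebraMap K N aK = gA a / ϖ ^ nA := by
    have h1 := congrArg (algebraMap K N) haK
    rw [map_mul, map_pow, hϖA, hgAK] at h1
    rw [eq_div_iff (pow_ne_zero _ hϖne)]
    exact h1
  have hξN : gL ξ = gL x₀ ^ p - gL x₀ + gA a / ϖ ^ nA + gB b +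
      (l.map (fun τ => gB (s τ.ν) ^ (p ^ τ.e) / ϖ ^ τ.j)).sum := by
    have h1 := congrArg gL hξ
    rw [map_sub, hsum, map_add, map_add, map_sub, map_pow, hgKL, hgLB, haK'] at h1
    linear_combination h1
  -- the dominant term
  set P : Term B → ℕ := fun τ => τ.j * p ^ (Nn - τ.e) with hP
  have hlne : l.toFinset.Nonempty := by
    obtain ⟨τ, hτ⟩ := List.exists_mem_of_ne_nil l hne
    exact ⟨τ, List.mem_toFinset.mpr hτ⟩
  obtain ⟨τs, hτs, hmax⟩ := Finset.exists_max_image l.toFinset P hlne
  rw [List.mem_toFinset] at hτs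
  obtain ⟨l₁, l₂, hsplit⟩ := List.append_of_mem hτs
  have hlt : ∀ τ ∈ l₁ ++ l₂, P τ + 1 ≤ P τs := by
    intro τ hτ
    have hτl : τ ∈ l := by
      rw [hsplit]
      rcases List.mem_append.mp hτ with h | h
      · exact List.mem_append_left _ h
      · exact List.mem_append_right _ (List.mem_cons_of_mem _ h)
    have hle := hmax τ (List.mem_toFinset.mpr hτl)
    have hne' : ¬ τ.SamePos p τs ∧ ¬ τs.SamePos p τ := by
      rw [hsplit, List.pairwise_append] at hpw
      obtain ⟨-, h2, h3⟩ := hpw
      rw [List.pairwise_cons] at h2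
      rcases List.mem_append.mp hτ with h | h
      · have := h3 τ h τs List.mem_cons_self
        exact ⟨this, fun h' => this h'.symm⟩
      · have := h2.1 τ h
        exact ⟨fun h' => this h'.symm, this⟩
    have hneq : P τ ≠ P τs := by
      intro heq'
      apply hne'.1
      change τ.j * p ^ τs.e = τs.j * p ^ τ.e
      have hτe := (hjm τ hτl).1
      have hτse := (hjm τs hτs).1
      have h1 : τ.j * p ^ (Nn - τ.e) = τs.j * p ^ (Nn - τs.e) := heq'
      have h2 : p ^ Nn = p ^ (Nn - τ.e) * p ^ τ.e := by rw [← pow_add, Nat.sub_add_cancel hτe]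
      have h3 : p ^ Nn = p ^ (Nn - τs.e) * p ^ τs.e := by rw [← pow_add, Nat.sub_add_cancel hτse]
      have h4 : (τ.j * p ^ τs.e) * p ^ Nn = (τs.j * p ^ τ.e) * p ^ Nn := by
        calc (τ.j * p ^ τs.e) * p ^ Nn = (τ.j * p ^ (Nn - τ.e)) * (p ^ τ.e * p ^ τs.e) := by
              rw [h2]; ring
          _ = (τs.j * p ^ (Nn - τs.e)) * (p ^ τ.e * p ^ τs.e) := by rw [h1]
          _ = (τs.j * p ^ τ.e) * p ^ Nn := by rw [h3]; ring
      exact Nat.eq_of_mul_eq_mul_right (pow_pos hp.pos Nn) h4
    omega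
  have hτse := (hjm τs hτs).1
  have hτsE := hE τs hτs
  have hj1 := (hnf τs hτs).1.1
  set P' : ℕ := τs.j * p ^ (Nn - τs.e - 1) with hP'
  have hPp : P τs = p * P' := by
    change τs.j * p ^ (Nn - τs.e) = p * (τs.j * p ^ (Nn - τs.e - 1))
    have : Nn - τs.e = (Nn - τs.e - 1) + 1 := by omega
    rw [this, pow_succ, Nat.add_sub_cancel]; ring
  have hP'pos : 1 ≤ P' := Nat.one_le_iff_ne_zero.mpr
    (Nat.mul_ne_zero (Nat.one_le_iff_ne_zero.mp hj1) (pow_ne_zero _ hp.ne_zero))
  have hPnA : nA + 1 ≤ P τs := by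
    have h1 : nA + 1 < p ^ (nA + 1) := Nat.lt_pow_self hp.one_lt
    have h2 : p ^ (nA + 1) ≤ p ^ (Nn - τs.e) := Nat.pow_le_pow_right hp.pos (by omega)
    have h3 : p ^ (Nn - τs.e) ≤ τs.j * p ^ (Nn - τs.e) := Nat.le_mul_of_pos_left _ hj1
    change nA + 1 ≤ τs.j * p ^ (Nn - τs.e)
    omega
  have hPP' : P' + 1 ≤ P τs := by
    rw [hPp]
    have : 2 * P' ≤ p * P' := Nat.mul_le_mul_right _ hp.two_le
    omega
  set c : W.ValueGroup := W.valuation Θ ^ (P τs - 1) with hc
  have hc1 : c ≤ 1 := pow_le_one₀ zero_le hΘ1.le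
  set R : N := ((l₁ ++ l₂).map (fun τ => gB (s τ.ν) / Θ ^ (τ.j * p ^ (Nn - τ.e)))).sum with hR
  have hRb : W.valuation R * c ≤ 1 := by
    apply list_val_bound W
    intro τ hτ
    have h1 : P τ + 1 ≤ P τs := hlt τ hτ
    have h2 : P τs - 1 = P τ + (P τs - 1 - P τ) := by omega
    rw [hc, h2, pow_add, map_div₀, map_pow]
    change W.valuation (gB (s τ.ν)) / W.valuation Θ ^ P τ *
      (W.valuation Θ ^ P τ * W.valuation Θ ^ (P τs - 1 - P τ)) ≤ 1
    rw [← mul_assoc, div_mul_cancel₀ _ (pow_ne_zero _ hΘv0)]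
    calc _ ≤ 1 * 1 := mul_le_mul' (hgBv _) (pow_le_one₀ zero_le hΘ1.le)
      _ = 1 := one_mul _
  have hsum2 : (l.map (fun τ => gB (s τ.ν) / Θ ^ (τ.j * p ^ (Nn - τ.e)))).sum =
      gB (s τs.ν) / Θ ^ P τs + R := by
    rw [hR, hsplit]
    simp only [List.map_append, List.sum_append, List.map_cons, List.sum_cons]
    ring
  set zN : N := algebraMap M N z with hzNdef
  have hzN : zN ^ p - zN = gL ξ := by
    rw [hzNdef, ← map_pow, ← map_sub, hz]; rfl
  set z₂ : N := zN - gL x₀ - x_l - x_A with hz₂def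
  set R' : N := R + β_l + α + gB b with hR'
  have hz₂ : z₂ ^ p - z₂ = gB (s τs.ν) / Θ ^ P τs + R' := by
    rw [hz₂def, sub_pow_char, sub_pow_char, sub_pow_char, hR']
    rw [hl, hsum2] at hξN
    linear_combination hzN + hξN + hA
  have key : ∀ x y : N, W.valuation x * c ≤ 1 → W.valuation y * c ≤ 1 →
      W.valuation (x + y) * c ≤ 1 := by
    intro x y hx hy
    rcases le_total (W.valuation x) (W.valuation y) with h3 | h3
    · exact le_trans (mul_le_mul_left (le_trans (Valuation.map_add _ _ _) (max_le h3 le_rfl)) _) hy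
    · exact le_trans (mul_le_mul_left (le_trans (Valuation.map_add _ _ _) (max_le le_rfl h3)) _) hx
  have hR'b : W.valuation R' * c ≤ 1 := by
    rw [hR']
    refine key _ _ (key _ _ (key _ _ hRb ?_) ?_) ?_
    · calc _ ≤ 1 * 1 := mul_le_mul' hβl hc1
        _ = 1 := one_mul _
    · refine le_trans (mul_le_mul_right ?_ _) hα
      rw [hc]
      exact pow_le_pow_of_le_one zero_le hΘ1.le (by omega)
    · calc _ ≤ 1 * 1 := mul_le_mul' (hgBv b) hc1
        _ = 1 := one_mul _
  set w : N := z₂ * Θ ^ P' with hwdef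
  have hwp : w ^ p = gB (s τs.ν) + R' * Θ ^ P τs + w * Θ ^ (P τs - P') := by
    have h1 : z₂ ^ p = z₂ + gB (s τs.ν) / Θ ^ P τs + R' := by linear_combination hz₂
    have h2 : Θ ^ P τs = Θ ^ P' * Θ ^ (P τs - P') := by
      rw [← pow_add]; congr 1; omega
    have h3 : (Θ ^ P') ^ p = Θ ^ P τs := by rw [← pow_mul, hPp, mul_comm]
    rw [hwdef, mul_pow, h1, h3]
    have : Θ ^ P τs ≠ 0 := pow_ne_zero _ hΘne
    field_simp
    rw [h2]; ring
  have hRΘ : W.valuation (R' * Θ ^ P τs) ≤ W.valuation Θ := by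
    have h1 : Θ ^ P τs = Θ ^ (P τs - 1) * Θ := by
      rw [← pow_succ]; congr 1; omega
    rw [h1, ← mul_assoc, map_mul, map_mul, map_pow]
    calc _ ≤ 1 * W.valuation Θ := mul_le_mul_left hR'b _
      _ = _ := one_mul _
  have hSv : W.valuation (gB (s τs.ν)) ≤ 1 := hgBv _
  have hΘk : W.valuation Θ ^ (P τs - P') < 1 := pow_lt_one₀ zero_le hΘ1 (by omega)
  have hwle : W.valuation w ≤ 1 := by
    by_contra hcon
    push Not at hcon
    have h1 : W.valuation w < W.valuation w ^ p := by
      calc W.valuation w = W.valuation w ^ 1 := (pow_one _).symm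
        _ < W.valuation w ^ p := pow_lt_pow_right₀ hcon hp.one_lt
    have h2 : W.valuation (w ^ p) ≤ W.valuation w := by
      rw [hwp]
      refine le_trans (Valuation.map_add _ _ _) (max_le (le_trans (Valuation.map_add _ _ _)
        (max_le (le_trans hSv hcon.le) (le_trans hRΘ (le_trans hΘ1.le hcon.le)))) ?_)
      rw [map_mul, map_pow]
      calc _ ≤ W.valuation w * 1 := mul_le_mul_right hΘk.le _
        _ = _ := mul_one _
    rw [map_pow] at h2
    exact absurd h1 (not_lt.mpr h2)
  have hwτ : W.valuation (w ^ p - algebraMap M N (algebraMap B M (s τs.ν))) < 1 := by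
    have h1 : w ^ p - algebraMap M N (algebraMap B M (s τs.ν)) =
        R' * Θ ^ P τs + w * Θ ^ (P τs - P') := by
      rw [hwp]; change gB (s τs.ν) + _ + _ - gB (s τs.ν) = _; ring
    rw [h1]
    refine lt_of_le_of_lt (Valuation.map_add _ _ _) (max_lt (lt_of_le_of_lt hRΘ hΘ1) ?_)
    rw [map_mul, map_pow]
    calc _ ≤ 1 * W.valuation Θ ^ (P τs - P') := mul_le_mul_left hwle _
      _ = _ := one_mul _
      _ < 1 := hΘk
  have hτ : ∀ r : B, residue B (s τs.ν) ≠ residue B r ^ p := by
    intro r
    rw [hs1]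
    exact (hnf τs hτs).2 (residue B r)
  exact (fierce_of_witness hp hπ hw hdeg (pow_pos hp.pos Nn) hfin N hadj W hW hθV' hθ hwτ hτ).2

end TypeII

section TypeI

open Groth.Agent.Lib.H40ArtinSchreier IntermediateField

theorem exists_pole_bound {A K : Type u} [CommRing A] [IsDomain A] [IsDiscreteValuationRing A]
    [Field K] [Algebra A K] [IsFractionRing A K] {π : A} (hπirr : Irreducible π) (ξ : K) :
    ∃ (N : ℕ) (b : A), ξ * algebraMap A K π ^ N = algebraMap A K b := by
  obtain ⟨x, y, hy, rfl⟩ := IsFractionRing.div_surjective (A := A) ξ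
  have hy0 : y ≠ 0 := nonZeroDivisors.ne_zero hy
  obtain ⟨N, u, rfl⟩ := IsDiscreteValuationRing.eq_unit_mul_pow_irreducible hy0 hπirr
  refine ⟨N, x * ((u⁻¹ : Aˣ) : A), ?_⟩
  have hϖ0 : algebraMap A K π ≠ 0 := by
    intro h
    exact hπirr.ne_zero (IsFractionRing.injective A K (h.trans (map_zero _).symm))
  have hu : algebraMap A K (u : A) * algebraMap A K ((u⁻¹ : Aˣ) : A) = 1 := by
    rw [← map_mul, ← Units.val_mul, mul_inv_cancel, Units.val_one, map_one]
  have hu0 : algebraMap A K (u : A) ≠ 0 := left_ne_zero_of_mul_eq_one hu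
  rw [map_mul, map_mul, map_pow]
  have hN : algebraMap A K π ^ N ≠ 0 := pow_ne_zero _ hϖ0
  field_simp
  linear_combination (-(algebraMap A K x)) * hu

variable {p : ℕ} {A B C K L M : Type u}
  [CommRing A] [IsDomain A] [IsDiscreteValuationRing A]
  [CommRing B] [IsDomain B] [IsDiscreteValuationRing B]
  [CommRing C] [IsDomain C] [IsDiscreteValuationRing C]
  [Algebra A B] [Algebra B C] [Algebra A C] [IsScalarTower A B C]
  [IsLocalHom (algebraMap A B)] [IsLocalHom (algebraMap B C)]
  [Field K] [Field L] [Field M] [Algebra A K] [IsFractionRing A K] [Algebra B L] [IsFractionRing B L]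
  [Algebra C M] [IsFractionRing C M] [Algebra K L] [Algebra L M] [Algebra K M] [IsScalarTower K L M]
  [Algebra A L] [IsScalarTower A K L] [IsScalarTower A B L] [Algebra B M] [IsScalarTower B L M]
  [IsScalarTower B C M] [Algebra A M] [IsScalarTower A K M] [IsScalarTower A C M]

omit [Algebra A B] [Algebra B C] [IsScalarTower A B C] [IsLocalHom (algebraMap A B)]
  [IsLocalHom (algebraMap B C)] [CommRing B] [IsDomain B] [IsDiscreteValuationRing B] [Field L]
  [Algebra B L] [IsFractionRing B L] [Algebra K L] [Algebra L M] [IsScalarTower K L M]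
  [Algebra A L] [IsScalarTower A K L] [IsScalarTower A B L] [Algebra B M] [IsScalarTower B L M]
  [IsScalarTower B C M] in
/-- if `A → C` is weakly unramified, any totally ramified separable extension is a weak solution. -/
theorem sol_of_weaklyUnramified [IsLocalHom (algebraMap A C)] {π : A}
    (hπ : maximalIdeal A = Ideal.span {π}) (hwAC : EtRam.IsWeaklyUnramified A C) :
    ∃ (K₁ : Type u) (_ : Field K₁) (_ : Algebra K K₁), FiniteDimensional K K₁ ∧
      Algebra.IsSeparable K K₁ ∧
      EtRam.IsTotallyRamified A ((algebraMap K K₁).comp (algebraMap A K)) ∧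
      EtRam.IsWeakSolution C K M K₁ := by
  obtain ⟨K₁, instF, instKK₁, instAK₁, instTower, hfin, hsep, htot, -⟩ :=
    Groth.Agent.Lib.H40TotRamExt.exists_ext (K := K) hπ (n := 2) (by omega) (q := 2) le_rfl
  have hfd : FiniteDimensional K K₁ := Module.finite_of_finrank_pos (by rw [hfin]; omega)
  have htot' : EtRam.IsTotallyRamified A ((algebraMap K K₁).comp (algebraMap A K)) := by
    rw [← IsScalarTower.algebraMap_eq A K K₁]; exact htot
  refine ⟨K₁, instF, instKK₁, hfd, hsep, htot', ?_⟩
  intro N _ _ _ _ _ _ hadj W hW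
  exact (Groth.Agent.Lib.H40TotRamStruct.core hwAC htot' N hadj W hW).2


omit [IsFractionRing A K] [Algebra A M] [IsScalarTower A K M] [IsScalarTower A C M] [Algebra K M]
  [IsScalarTower K L M] [IsScalarTower A K L] in
/-- type (I.a): `ξ ∈ ℘(L) + B` makes `A → C` weakly unramified. -/
theorem typeIa (hp : p.Prime) [CharP L p] {π : A} (hπ : maximalIdeal A = Ideal.span {π})
    (hw : EtRam.IsWeaklyUnramified A B) (hBC : Function.Injective (algebraMap B C))
    (hdeg : Module.finrank L M = p) {z : M} (hgen : L⟮z⟯ = ⊤) {ξ x₁ : L} {b' : B}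
    (hz : z ^ p - z = algebraMap L M ξ) (hξ : ξ = x₁ ^ p - x₁ + algebraMap B L b') :
    EtRam.IsWeaklyUnramified A C := by
  have hfact : Fact p.Prime := ⟨hp⟩
  have hcharM : CharP M p := charP_of_injective_algebraMap (algebraMap L M).injective p
  set πB : B := algebraMap A B π with hπBdef
  have hπB : maximalIdeal B = Ideal.span {πB} := by
    rw [← hw, hπ, Ideal.map_span, Set.image_singleton]
  have hπBirr : Irreducible πB := (IsDiscreteValuationRing.irreducible_iff_uniformizer πB).mpr hπB
  have hπBmem : πB ∈ maximalIdeal B := by rw [hπB]; exact Ideal.mem_span_singleton_self πB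
  set z₁ : M := z - algebraMap L M x₁ with hz₁def
  have hz₁ : z₁ ^ p - z₁ = algebraMap L M (algebraMap B L b') := by
    rw [hz₁def, sub_pow_char, ← map_pow]
    have := congrArg (algebraMap L M) hξ
    rw [map_add, map_sub, map_pow] at this
    rw [map_pow]
    linear_combination hz + this
  have hgen₁ : L⟮z₁⟯ = ⊤ := by
    rw [eq_top_iff, ← hgen, adjoin_simple_le_iff]
    have h1 := add_mem (mem_adjoin_simple_self L z₁)
      (IntermediateField.algebraMap_mem L⟮z₁⟯ x₁)
    rwa [hz₁def, sub_add_cancel] at h1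
  rcases caseA (A := B) (K := L) (L := M) hπB hz₁ hgen₁ b' rfl with h1 | ⟨hunr, -⟩
  · rw [hdeg] at h1
    exact absurd h1 hp.one_lt.ne'
  · have hV : EtRam.Dominates B (algebraMap B M) (VC C M) := VC_dominates_B
    letI : Algebra B (VC C M) := (RingHom.codRestrict (algebraMap B M) (VC C M) hV.1).toAlgebra
    haveI : IsLocalHom (algebraMap B (VC C M)) :=
      Groth.Agent.Lib.H40UnramCore.isLocalHom_of_dominates hV
    have hwu : EtRam.IsWeaklyUnramified B (VC C M) := (hunr (VC C M) hV).1
    obtain ⟨ϖ, hϖ⟩ := IsDiscreteValuationRing.exists_irreducible C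
    have hval : (VC C M).valuation (algebraMap B M πB) =
        (VC C M).valuation (algebraMap C M ϖ) := by
      apply le_antisymm
      · have hloc : IsLocalHom (algebraMap B C) := inferInstance
        have h3 : maximalIdeal B ≤ (maximalIdeal C).comap (algebraMap B C) :=
          ((local_hom_TFAE (algebraMap B C)).out 0 3).mp hloc
        have h4 : algebraMap B C πB ∈ maximalIdeal C := h3 hπBmem
        rw [hϖ.maximalIdeal_eq, Ideal.mem_span_singleton] at h4
        obtain ⟨c, hc⟩ := h4
        rw [IsScalarTower.algebraMap_apply B C M, hc, map_mul, map_mul]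
        calc _ ≤ (VC C M).valuation (algebraMap C M ϖ) * 1 :=
              mul_le_mul_right ((ValuationSubring.valuation_le_one_iff _ _).mpr
                (VC_dominates.1 c)) _
          _ = _ := mul_one _
      · have hϖm : (⟨algebraMap C M ϖ, VC_dominates.1 ϖ⟩ : VC C M) ∈ maximalIdeal (VC C M) := by
          rw [ValuationSubring.valuation_lt_one_iff]
          exact VC_dominates.2 ϖ ((mem_maximalIdeal ϖ).mpr hϖ.not_isUnit)
        rw [← hwu, hπB, Ideal.map_span, Set.image_singleton, Ideal.mem_span_singleton] at hϖm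
        obtain ⟨y, hy⟩ := hϖm
        have hy' : algebraMap C M ϖ = algebraMap B M πB * (y : M) := congrArg Subtype.val hy
        rw [hy', map_mul]
        calc _ ≤ (VC C M).valuation (algebraMap B M πB) * 1 :=
              mul_le_mul_right ((ValuationSubring.valuation_le_one_iff _ _).mpr y.2) _
          _ = _ := mul_one _
    change (maximalIdeal A).map (algebraMap A C) = maximalIdeal C
    rw [IsScalarTower.algebraMap_eq A B C, ← Ideal.map_map, hw]
    exact map_maximalIdeal_eq (M := M) hBC hπBirr hϖ hval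


omit [Algebra A C] [IsScalarTower A B C] [Algebra A M] [IsScalarTower A K M] [IsScalarTower A C M] in
/-- type (I.b): `ξ ∈ ℘(L) + ξ_A + B` with `ξ_A ∈ K` of pole order prime to `p`: the Artin–Schreier
extension `K(℘⁻¹ ξ_A)` is a weak solution. -/
theorem typeIb (hp : p.Prime) [CharP K p] {π : A} (hπ : maximalIdeal A = Ideal.span {π})
    (hw : EtRam.IsWeaklyUnramified A B) (hBC : Function.Injective (algebraMap B C))
    (hdeg : Module.finrank L M = p) {z : M} {ξ x₁ : L} {ξA : K} {b' : B}
    (hz : z ^ p - z = algebraMap L M ξ)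
    (hξ : ξ = x₁ ^ p - x₁ + algebraMap K L ξA + algebraMap B L b')
    {n' : ℕ} {u : Aˣ} (hn' : 0 < n') (hpn' : ¬ p ∣ n')
    (hξA : ξA * algebraMap A K π ^ n' = algebraMap A K u) :
    ∃ (K₁ : Type u) (_ : Field K₁) (_ : Algebra K K₁), FiniteDimensional K K₁ ∧
      Algebra.IsSeparable K K₁ ∧
      EtRam.IsTotallyRamified A ((algebraMap K K₁).comp (algebraMap A K)) ∧
      EtRam.IsWeakSolution C K M K₁ := by
  classical
  have hfact : Fact p.Prime := ⟨hp⟩
  have hcharL : CharP L p := charP_of_injective_algebraMap (algebraMap K L).injective p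
  have hcharM : CharP M p := charP_of_injective_algebraMap (algebraMap L M).injective p
  -- the Artin–Schreier extension of `K`
  have hmonic : (asPoly (p := p) ξA).Monic := asPoly_monic ξA
  have hdegP : (asPoly (p := p) ξA).natDegree = p := asPoly_natDegree ξA
  have hnu : ¬ IsUnit (asPoly (p := p) ξA) := by
    intro h
    have := Polynomial.natDegree_eq_zero_of_isUnit h
    rw [hdegP] at this
    exact hp.ne_zero this
  obtain ⟨g, hgirr, hgdvd⟩ := WfDvdMonoid.exists_irreducible_factor hnu hmonic.ne_zero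
  have hgfact : Fact (Irreducible g) := ⟨hgirr⟩
  set K₂ := AdjoinRoot g with hK₂
  set y : K₂ := AdjoinRoot.root g with hy
  have hyroot : aeval y (asPoly (p := p) ξA) = 0 := by
    obtain ⟨h, hh⟩ := hgdvd
    rw [hh, map_mul, AdjoinRoot.aeval_eq, AdjoinRoot.mk_self, zero_mul]
  have hyeq : y ^ p - y = algebraMap K K₂ ξA := by
    rw [aeval_asPoly] at hyroot
    exact sub_eq_zero.mp hyroot
  have hgen₂ : K⟮y⟯ = ⊤ := IntermediateField.adjoin_eq_top_of_algebra K _ AdjoinRoot.adjoinRoot_eq_top
  have hAK₂ : IsScalarTower A K K₂ := inferInstance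
  obtain ⟨htot, hfin⟩ := caseB (A := A) (K := K) (L := K₂) hπ hyeq hgen₂ n' u hn' hpn' hξA
  have hgal : IsGalois K K₂ := as_isGalois ξA hyeq hgen₂
  have hfd : FiniteDimensional K K₂ := Module.finite_of_finrank_pos (by rw [hfin]; exact hp.pos)
  have hsep : Algebra.IsSeparable K K₂ := IsGalois.to_isSeparable
  obtain ⟨θ, hθ⟩ := Groth.Agent.Lib.H40TotRamStruct.exists_theta (K := K) (L := K₂) hπ htot
  rw [hfin] at hθ
  refine ⟨K₂, inferInstance, inferInstance, hfd, hsep, htot, ?_⟩
  intro N _ _ _ _ _ _ hadj W hW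
  have hcharN : CharP N p := charP_of_injective_algebraMap (algebraMap M N).injective p
  let _ : Algebra C N := ((algebraMap M N).comp (algebraMap C M)).toAlgebra
  have : IsScalarTower C M N := IsScalarTower.of_algebraMap_eq (fun _ => rfl)
  have hWC : EtRam.Dominates C (algebraMap C N) W := hW
  set gB : B →+* N := (algebraMap M N).comp (algebraMap B M) with hgB
  set f : K₂ →+* N := algebraMap K₂ N with hf
  set πB : B := algebraMap A B π with hπBdef
  have hπB : maximalIdeal B = Ideal.span {πB} := by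
    rw [← hw, hπ, Ideal.map_span, Set.image_singleton]
  have hπBirr : Irreducible πB := (IsDiscreteValuationRing.irreducible_iff_uniformizer πB).mpr hπB
  have hπBmem : πB ∈ maximalIdeal B := by rw [hπB]; exact Ideal.mem_span_singleton_self πB
  have hπmem : π ∈ maximalIdeal A := by rw [hπ]; exact Ideal.mem_span_singleton_self π
  have hgBC : ∀ b : B, gB b = algebraMap C N (algebraMap B C b) := by
    intro b
    change algebraMap M N (algebraMap B M b) = algebraMap M N (algebraMap C M (algebraMap B C b))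
    rw [IsScalarTower.algebraMap_apply B C M]
  have hlocBC : maximalIdeal B ≤ (maximalIdeal C).comap (algebraMap B C) :=
    ((local_hom_TFAE (algebraMap B C)).out 0 3).mp (inferInstance : IsLocalHom (algebraMap B C))
  have hlocAB : maximalIdeal A ≤ (maximalIdeal B).comap (algebraMap A B) :=
    ((local_hom_TFAE (algebraMap A B)).out 0 3).mp (inferInstance : IsLocalHom (algebraMap A B))
  have hgBW : ∀ b : B, gB b ∈ W := fun b => by rw [hgBC]; exact hWC.1 _
  have hgBm : ∀ b : B, b ∈ maximalIdeal B → W.valuation (gB b) < 1 := by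
    intro b hb
    rw [hgBC]
    exact hWC.2 _ (hlocBC hb)
  have hcompat : ∀ a : A, f (algebraMap A K₂ a) = gB (algebraMap A B a) := by
    intro a
    change algebraMap K₂ N (algebraMap K K₂ (algebraMap A K a)) =
      algebraMap M N (algebraMap B M (algebraMap A B a))
    rw [← IsScalarTower.algebraMap_apply K K₂ N,
      IsScalarTower.algebraMap_apply K M N, IsScalarTower.algebraMap_apply K L M,
      ← IsScalarTower.algebraMap_apply A K L, IsScalarTower.algebraMap_apply A B L,
      ← IsScalarTower.algebraMap_apply B L M]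
  set V' : ValuationSubring K₂ := W.comap f with hV'
  have hV'dom : EtRam.Dominates A (algebraMap A K₂) V' := by
    refine ⟨fun a => ?_, fun a ha => ?_⟩
    · rw [hV', ValuationSubring.mem_comap, hcompat]
      exact hgBW _
    · rw [hV', Groth.Agent.Lib.H40TotRamStruct.comap_val_lt_one_iff, hcompat]
      exact hgBm _ (hlocAB ha)
  have hθV' := hθ V' hV'dom
  have hπirr : Irreducible π := (IsDiscreteValuationRing.irreducible_iff_uniformizer π).mpr hπ
  have hinjA : Function.Injective (algebraMap A K₂) :=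
    Groth.Agent.Lib.H40TotRamCriterion.algebraMap_injective' (K := K)
  have hgπ0 : algebraMap A K₂ π ≠ 0 := fun h => hπirr.ne_zero (hinjA (h.trans (map_zero _).symm))
  set Θ : N := f θ with hΘ
  set ϖ : N := gB πB with hϖ
  have hϖv0 : W.valuation ϖ ≠ 0 := by
    rw [hϖ, ← hcompat, Valuation.ne_zero_iff]
    exact fun h => hgπ0 (f.injective (h.trans (map_zero f).symm))
  have hΘpow : W.valuation Θ ^ p = W.valuation ϖ := by
    have h1 : V'.valuation (θ ^ p * (algebraMap A K₂ π)⁻¹) = 1 := by
      rw [map_mul, map_pow, map_inv₀, hθV', mul_inv_cancel₀]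
      exact (Valuation.ne_zero_iff _).mpr hgπ0
    have h2 := Groth.Agent.Lib.H40TotRamStruct.comap_val_eq_one_imp W f h1
    rw [map_mul, map_pow, map_inv₀, hcompat, map_mul, map_pow, map_inv₀] at h2
    rw [← hΘ] at h2
    calc W.valuation Θ ^ p = W.valuation Θ ^ p * (W.valuation ϖ)⁻¹ * W.valuation ϖ := by
          rw [mul_assoc, inv_mul_cancel₀ hϖv0, mul_one]
      _ = _ := by rw [h2, one_mul]
  have hϖ1 : W.valuation ϖ < 1 := hgBm πB hπBmem
  have hΘ1 : W.valuation Θ < 1 := by
    by_contra hcon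
    push Not at hcon
    have := one_le_pow₀ hcon (n := p)
    rw [hΘpow] at this
    exact absurd hϖ1 (not_lt.mpr this)
  have hΘv0 : W.valuation Θ ≠ 0 := by
    intro h
    rw [h, zero_pow hp.ne_zero] at hΘpow
    exact hϖv0 hΘpow.symm
  -- the uniformizer of `C`
  obtain ⟨ϖC, hϖC⟩ := IsDiscreteValuationRing.exists_irreducible C
  set γ : W.ValueGroup := W.valuation (algebraMap C N ϖC) with hγ
  have hγ1 : γ < 1 := hWC.2 ϖC ((mem_maximalIdeal ϖC).mpr hϖC.not_isUnit)
  have hπC0 : algebraMap B C πB ≠ 0 := fun h0 => hπBirr.ne_zero (hBC (h0.trans (map_zero _).symm))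
  obtain ⟨e, uC, hu⟩ := IsDiscreteValuationRing.eq_unit_mul_pow_irreducible hπC0 hϖC
  have he0 : 0 < e := by
    rcases Nat.eq_zero_or_pos e with h0 | h0
    · exfalso
      rw [h0, pow_zero, mul_one] at hu
      have h1 : algebraMap B C πB ∈ maximalIdeal C := hlocBC hπBmem
      rw [hu] at h1
      exact (mem_maximalIdeal _).mp h1 uC.isUnit
    · exact h0
  have hγe : γ ^ e = W.valuation ϖ := by
    rw [hϖ, hgBC, hu, map_mul, map_pow, map_mul, map_pow, val_unit hWC, one_mul]
  have hep : e ≤ p := by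
    have hV : EtRam.Dominates B (algebraMap B M) (VC C M) := VC_dominates_B
    have hθV : (VC C M).valuation (algebraMap C M ϖC) ^ e =
        (VC C M).valuation (algebraMap B M πB) := by
      rw [IsScalarTower.algebraMap_apply B C M, hu, map_mul, map_pow, map_mul, map_pow,
        val_unit VC_dominates, one_mul]
    have hli := Groth.Agent.Lib.H40TotRamStruct.linearIndependent_pow (A := B) (K := L) (L := M)
      hπB he0 hV hθV
    have hfdLM : Module.Finite L M := Module.finite_of_finrank_pos (by rw [hdeg]; exact hp.pos)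
    have := hli.fintype_card_le_finrank
    rwa [Fintype.card_fin, hdeg] at this
  have hγΘ : γ ≤ W.valuation Θ := by
    by_contra hcon
    push Not at hcon
    have h1 : W.valuation Θ ^ e < γ ^ e := pow_lt_pow_left₀ hcon zero_le he0.ne'
    have h2 : W.valuation Θ ^ p ≤ W.valuation Θ ^ e := pow_le_pow_of_le_one zero_le hΘ1.le hep
    rw [hγe, ← hΘpow] at h1
    exact absurd h1 (not_lt.mpr h2)
  have hM : ∀ c : M, W.valuation (algebraMap M N c) < 1 →
      W.valuation (algebraMap M N c) ≤ W.valuation Θ := by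
    intro c hc
    by_cases hc0 : c = 0
    · rw [hc0, map_zero]; exact zero_le
    obtain ⟨c₁, c₂, hc₂, rfl⟩ := IsFractionRing.div_surjective (A := C) c
    have hc₂0 : c₂ ≠ 0 := nonZeroDivisors.ne_zero hc₂
    have hc₁0 : c₁ ≠ 0 := by
      rintro rfl
      exact hc0 (by rw [map_zero, zero_div])
    obtain ⟨k₁, u₁, rfl⟩ := IsDiscreteValuationRing.eq_unit_mul_pow_irreducible hc₁0 hϖC
    obtain ⟨k₂, u₂, rfl⟩ := IsDiscreteValuationRing.eq_unit_mul_pow_irreducible hc₂0 hϖC
    have hγ0 : γ ≠ 0 := by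
      intro h
      rw [h, zero_pow he0.ne'] at hγe
      exact hϖv0 hγe.symm
    have hv : W.valuation (algebraMap M N (algebraMap C M (↑u₁ * ϖC ^ k₁) /
        algebraMap C M (↑u₂ * ϖC ^ k₂))) = γ ^ k₁ / γ ^ k₂ := by
      rw [map_div₀, ← IsScalarTower.algebraMap_apply C M N, ← IsScalarTower.algebraMap_apply C M N,
        map_div₀, map_mul, map_mul, map_pow, map_pow, map_mul, map_mul, map_pow, map_pow,
        val_unit hWC, val_unit hWC, one_mul, one_mul]
    rw [hv] at hc ⊢
    have hk : k₂ < k₁ := by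
      by_contra hcon
      push Not at hcon
      have h1 : γ ^ k₂ ≤ γ ^ k₁ := pow_le_pow_of_le_one zero_le hγ1.le hcon
      have h2 : 1 ≤ γ ^ k₁ / γ ^ k₂ := by
        rw [le_div_iff₀ (zero_lt_iff.mpr (pow_ne_zero _ hγ0)), one_mul]; exact h1
      exact absurd hc (not_lt.mpr h2)
    have h3 : γ ^ k₁ / γ ^ k₂ = γ ^ (k₁ - k₂) := by
      rw [div_eq_iff (pow_ne_zero _ hγ0), ← pow_add]; congr 1; omega
    rw [h3]
    calc γ ^ (k₁ - k₂) ≤ γ ^ 1 := pow_le_pow_of_le_one zero_le hγ1.le (by omega)
      _ = γ := pow_one _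
      _ ≤ _ := hγΘ
  -- the unramified generator
  set yN : N := f y with hyN
  set zN : N := algebraMap M N z with hzN
  set xN : N := algebraMap M N (algebraMap L M x₁) with hxN
  set z' : N := zN - xN - yN with hz'def
  have hyNeq : yN ^ p - yN = algebraMap M N (algebraMap L M (algebraMap K L ξA)) := by
    rw [hyN, ← map_pow, ← map_sub, hyeq, hf, ← IsScalarTower.algebraMap_apply K K₂ N,
      IsScalarTower.algebraMap_apply K M N, IsScalarTower.algebraMap_apply K L M]
  have hz' : z' ^ p - z' = algebraMap M N (algebraMap C M (algebraMap B C b')) := by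
    have h1 : zN ^ p - zN = algebraMap M N (algebraMap L M ξ) := by
      rw [hzN, ← map_pow, ← map_sub, hz]
    have h2 := congrArg (fun t => algebraMap M N (algebraMap L M t)) hξ
    simp only [map_add, map_sub, map_pow] at h2
    rw [hz'def, sub_pow_char, sub_pow_char, ← IsScalarTower.algebraMap_apply B C M,
      IsScalarTower.algebraMap_apply B L M]
    linear_combination h1 + h2 - hyNeq
  have hgen' : M⟮z'⟯ = ⊤ := by
    have hyz : yN ∈ M⟮z'⟯ := by
      have h1 : yN = algebraMap M N z - algebraMap M N (algebraMap L M x₁) - z' := by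
        rw [hz'def]; ring
      rw [h1]
      exact sub_mem (sub_mem (IntermediateField.algebraMap_mem _ _)
        (IntermediateField.algebraMap_mem _ _)) (mem_adjoin_simple_self M z')
    have hrange : Set.range f ⊆ (M⟮z'⟯.toSubalgebra : Set N) := by
      rintro _ ⟨x, rfl⟩
      obtain ⟨q, rfl⟩ := AdjoinRoot.mk_surjective x
      rw [← AdjoinRoot.aeval_eq]
      have h1 : f (aeval y q) = aeval yN q := by
        have := Polynomial.aeval_algHom_apply (IsScalarTower.toAlgHom K K₂ N) y q
        exact this.symm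
      rw [h1]
      have h2 : aeval yN q ∈ Algebra.adjoin K {yN} := aeval_mem_adjoin_singleton K yN
      have h3 : Algebra.adjoin K {yN} ≤ M⟮z'⟯.toSubalgebra.restrictScalars K := by
        apply Algebra.adjoin_le
        rintro _ rfl
        exact hyz
      exact h3 h2
    have h4 := Algebra.adjoin_le hrange
    rw [hadj] at h4
    rw [eq_top_iff]
    intro t _
    exact h4 Algebra.mem_top
  have hϖCmax : maximalIdeal C = Ideal.span {ϖC} := hϖC.maximalIdeal_eq
  have hz'' : z' ^ p - z' = algebraMap M N (algebraMap C M (algebraMap B C b')) := hz'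
  apply weaklyUnramified_of_bound W f θ hΘ1
  intro y' hy'
  rcases caseA (A := C) (K := M) (L := N) hϖCmax hz'' hgen' (algebraMap B C b') rfl with
    h1 | ⟨hunr, -⟩
  · obtain ⟨c, hc⟩ := (finrank_eq_one_iff_of_nonzero' (1 : N) one_ne_zero).mp h1 y'
    have hy'c : y' = algebraMap M N c := by rw [← hc, Algebra.smul_def, mul_one]
    rw [hy'c] at hy' ⊢
    exact hM c hy'
  · letI : Algebra C W := (RingHom.codRestrict (algebraMap C N) W hWC.1).toAlgebra
    haveI : IsLocalHom (algebraMap C W) :=
      Groth.Agent.Lib.H40UnramCore.isLocalHom_of_dominates hWC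
    have hwu : EtRam.IsWeaklyUnramified C W := (hunr W hWC).1
    have hy'W : y' ∈ W := (ValuationSubring.valuation_le_one_iff _ _).mp hy'.le
    have hy'm : (⟨y', hy'W⟩ : W) ∈ maximalIdeal W := by
      rw [ValuationSubring.valuation_lt_one_iff]; exact hy'
    rw [← hwu, hϖCmax, Ideal.map_span, Set.image_singleton, Ideal.mem_span_singleton] at hy'm
    obtain ⟨t, ht⟩ := hy'm
    have ht' : y' = algebraMap C N ϖC * (t : N) := congrArg Subtype.val ht
    rw [ht', map_mul]
    calc _ ≤ γ * 1 := mul_le_mul_right ((ValuationSubring.valuation_le_one_iff _ _).mpr t.2) _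
      _ = γ := mul_one _
      _ ≤ _ := hγΘ

end TypeI

end Groth.Agent.Lib.H40EppC
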