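import Groth.Agent.Lib.H40EppC

set_option autoImplicit false
universe u

namespace Groth.Agent.Lib.H40EppD

open IsLocalRing Polynomial IntermediateField
open Groth.Agent.Lib.H40EppA Groth.Agent.Lib.H40EppB Groth.Agent.Lib.H40EppC

section AS

variable {p : ℕ} {L M : Type u} [Field L] [Field M] [Algebra L M]

/-- a Galois extension of prime degree `p` in characteristic `p` is Artin–Schreier. -/
theorem exists_as_generator (hp : p.Prime) [CharP L p] [IsGalois L M]
    (hdeg : Module.finrank L M = p) :
    ∃ (z : M) (ξ : L), z ^ p - z = algebraMap L M ξ ∧ L⟮z⟯ = ⊤ := by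
  classical
  have hfact : Fact p.Prime := ⟨hp⟩
  have hcharM : CharP M p := charP_of_injective_algebraMap (algebraMap L M).injective p
  have hfd : FiniteDimensional L M := Module.finite_of_finrank_pos (by rw [hdeg]; exact hp.pos)
  have hcard : Nat.card (M ≃ₐ[L] M) = p := by rw [IsGalois.card_aut_eq_finrank, hdeg]
  have hcyc : IsCyclic (M ≃ₐ[L] M) := isCyclic_of_prime_card hcard
  obtain ⟨σ, hσ⟩ := hcyc.exists_generator
  have hord : orderOf σ = p := by rw [orderOf_eq_card_of_forall_mem_zpowers hσ, hcard]
  have hσp : σ ^ p = 1 := by rw [← hord]; exact pow_orderOf_eq_one σ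
  obtain ⟨θ, hθ⟩ := Algebra.trace_surjective L M 1
  set a : ℕ → M := fun i => (σ ^ i) θ with ha
  have hap : a p = a 0 := by simp only [ha, hσp, pow_zero]
  have hT : ∑ i ∈ Finset.range p, a i = 1 := by
    have h1 := trace_eq_sum_automorphisms (K := L) (L := M) θ
    rw [hθ, map_one] at h1
    rw [h1, ← IsCyclic.image_range_orderOf hσ, hord, Finset.sum_image]
    intro i hi j hj hij
    rw [← hord] at hi hj
    exact pow_injOn_Iio_orderOf (by simpa using hi) (by simpa using hj) hij
  set z : M := -∑ i ∈ Finset.range p, (i : M) * a i with hz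
  have hσa : ∀ i, σ (a i) = a (i + 1) := by
    intro i
    simp only [ha, pow_succ']
    rfl
  have hσz : σ z = z + 1 := by
    have h1 : σ z = -∑ i ∈ Finset.range p, (i : M) * a (i + 1) := by
      rw [hz, map_neg, map_sum]
      congr 1
      apply Finset.sum_congr rfl
      intro i _
      rw [map_mul, map_natCast, hσa]
    have h2 : ∑ i ∈ Finset.range p, ((i : M) + 1) * a (i + 1) =
        ∑ i ∈ Finset.range p, (i : M) * a i + (p : M) * a p := by
      have := Finset.sum_range_succ' (fun i => (i : M) * a i) p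
      simp only [Nat.cast_zero, zero_mul, add_zero, Nat.cast_succ] at this
      rw [← this, Finset.sum_range_succ]
    have h3 : ∑ i ∈ Finset.range p, a (i + 1) = ∑ i ∈ Finset.range p, a i + a p - a 0 := by
      have := Finset.sum_range_succ' a p
      rw [Finset.sum_range_succ] at this
      linear_combination -this
    have h4 : ∑ i ∈ Finset.range p, ((i : M) + 1) * a (i + 1) =
        ∑ i ∈ Finset.range p, (i : M) * a (i + 1) + ∑ i ∈ Finset.range p, a (i + 1) := by
      rw [← Finset.sum_add_distrib]
      apply Finset.sum_congr rfl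
      intro i _
      ring
    have hp0 : (p : M) = 0 := CharP.cast_eq_zero M p
    rw [h1, hz]
    rw [h4, h3, hT, hap, hp0, zero_mul, add_zero] at h2
    linear_combination (-1 : M) * h2
  have hfix : ∀ τ : M ≃ₐ[L] M, τ (z ^ p - z) = z ^ p - z := by
    intro τ
    have h1 : σ ∈ MulAction.stabilizer (M ≃ₐ[L] M) (z ^ p - z) := by
      rw [MulAction.mem_stabilizer_iff]
      change σ (z ^ p - z) = z ^ p - z
      rw [map_sub, map_pow, hσz, add_pow_char, one_pow]; ring
    have h2 : Subgroup.zpowers σ ≤ MulAction.stabilizer (M ≃ₐ[L] M) (z ^ p - z) :=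
      (Subgroup.zpowers_le).mpr h1
    exact MulAction.mem_stabilizer_iff.mp (h2 (hσ τ))
  have hmem : z ^ p - z ∈ (⊥ : IntermediateField L M) :=
    (IsGalois.mem_bot_iff_fixed _).mpr hfix
  rw [IntermediateField.mem_bot] at hmem
  obtain ⟨ξ, hξ⟩ := hmem
  refine ⟨z, ξ, hξ.symm, ?_⟩
  have hsimple : IsSimpleOrder (IntermediateField L M) :=
    IntermediateField.isSimpleOrder_of_finrank_prime L M (by rw [hdeg]; exact hp)
  rcases eq_bot_or_eq_top L⟮z⟯ with h | h
  · exfalso
    have hz' : z ∈ (⊥ : IntermediateField L M) := h ▸ mem_adjoin_simple_self L z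
    rw [IntermediateField.mem_bot] at hz'
    obtain ⟨c, hc⟩ := hz'
    have : σ z = z := by rw [← hc, AlgEquiv.commutes]
    rw [hσz] at this
    exact one_ne_zero (add_left_cancel (a := z) (by rw [this, add_zero]))
  · exact h

end AS

section Main

variable {p : ℕ} {A B C K L M : Type u}
  [CommRing A] [IsDomain A] [IsDiscreteValuationRing A]
  [CommRing B] [IsDomain B] [IsDiscreteValuationRing B]
  [CommRing C] [IsDomain C] [IsDiscreteValuationRing C]
  [Algebra A B] [Algebra B C] [Algebra A C] [IsScalarTower A B C]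
  [IsLocalHom (algebraMap A B)] [IsLocalHom (algebraMap B C)]
  [Field K] [Field L] [Field M] [Algebra A K] [IsFractionRing A K] [Algebra B L] [IsFractionRing B L]
  [Algebra C M] [IsFractionRing C M] [Algebra K L] [Algebra L M] [Algebra K M] [IsScalarTower K L M]
  [Algebra A L] [IsScalarTower A K L] [IsScalarTower A B L] [Algebra B M] [IsScalarTower B L M]
  [IsScalarTower B C M] [Algebra A M] [IsScalarTower A K M] [IsScalarTower A C M]

theorem main (hp : p.Prime) (hBC : Function.Injective (algebraMap B C))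
    (hw : EtRam.IsWeaklyUnramified A B) [CharP K p] [IsGalois L M]
    (hdeg : Module.finrank L M = p)
    (hk : ∀ x : ResidueField B, (∀ n : ℕ, ∃ y : ResidueField B, y ^ (p ^ n) = x) ↔
      x ∈ Set.range (algebraMap (ResidueField A) (ResidueField B))) :
    ∃ (K₁ : Type u) (_ : Field K₁) (_ : Algebra K K₁), FiniteDimensional K K₁ ∧
      Algebra.IsSeparable K K₁ ∧
      EtRam.IsTotallyRamified A ((algebraMap K K₁).comp (algebraMap A K)) ∧
      EtRam.IsWeakSolution C K M K₁ := by
  classical
  have hfact : Fact p.Prime := ⟨hp⟩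
  have hcharL : CharP L p := charP_of_injective_algebraMap (algebraMap K L).injective p
  have hcharB : CharP B p := (algebraMap B L).charP (IsFractionRing.injective B L) p
  have hcharκ : CharP (ResidueField B) p :=
    Groth.Agent.Lib.H40ArtinSchreier.charP_residue (A := B) (K := L)
  obtain ⟨π, hπirr⟩ := IsDiscreteValuationRing.exists_irreducible A
  have hπ : maximalIdeal A = Ideal.span {π} := hπirr.maximalIdeal_eq
  set πB : B := algebraMap A B π with hπBdef
  have hπB : maximalIdeal B = Ideal.span {πB} := by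
    rw [← hw, hπ, Ideal.map_span, Set.image_singleton]
  have hπBirr : Irreducible πB := (IsDiscreteValuationRing.irreducible_iff_uniformizer πB).mpr hπB
  have hϖ0 : algebraMap B L πB ≠ 0 := fun h =>
    hπBirr.ne_zero (IsFractionRing.injective B L (h.trans (map_zero _).symm))
  -- perfectness of the residue field of `A`
  have hroot_mem : ∀ x : ResidueField B, (∀ n : ℕ, ∃ y : ResidueField B, y ^ (p ^ n) = x) →
      ∀ y : ResidueField B, y ^ p = x → ∀ n : ℕ, ∃ w : ResidueField B, w ^ (p ^ n) = y := by
    intro x hx y hy n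
    obtain ⟨w, hw'⟩ := hx (n + 1)
    refine ⟨w, ?_⟩
    apply frobenius_inj (ResidueField B) p
    rw [frobenius_def, frobenius_def, ← pow_mul, ← pow_succ, hw', hy]
  have hperf : ∀ x : ResidueField A, ∃ y : ResidueField A, y ^ p = x := by
    intro x
    have hx := (hk (algebraMap (ResidueField A) (ResidueField B) x)).mpr ⟨x, rfl⟩
    obtain ⟨y, hy⟩ := hx 1
    rw [pow_one] at hy
    obtain ⟨y₀, rfl⟩ := (hk y).mp (hroot_mem _ hx y hy)
    refine ⟨y₀, ?_⟩
    apply (algebraMap (ResidueField A) (ResidueField B)).injective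
    rw [map_pow, hy]
  have hk' : ∀ x : ResidueField B, (∀ m : ℕ, ∃ y : ResidueField B, y ^ (p ^ m) = x) →
      x ∈ Set.range (algebraMap (ResidueField A) (ResidueField B)) := fun x => (hk x).mp
  -- the Artin–Schreier generator
  obtain ⟨z, ξ, hz, hgen⟩ := exists_as_generator (L := L) (M := M) hp hdeg
  obtain ⟨n₀, β₀, hβ₀⟩ := exists_pole_bound (A := B) (K := L) hπBirr ξ
  have hβ : ξ * algebraMap B L πB ^ (n₀ + 1) = algebraMap B L (β₀ * πB) := by
    rw [pow_succ, ← mul_assoc, hβ₀, map_mul]
  obtain ⟨s, hs1, l, hnf, hpw, x₀, aK, b, hS⟩ :=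
    exists_normal_form (p := p) (K := K) hπB (Nat.succ_pos n₀) hk' (ϖ := algebraMap B L πB) rfl
      hϖ0 hβ
  obtain ⟨nA, a, ha⟩ := exists_pole_bound (A := A) (K := K) hπirr aK
  by_cases hl : l = []
  · subst hl
    rw [List.map_nil, List.sum_nil, sub_zero] at hS
    obtain ⟨xK, hxK⟩ := as_normal_form (p := p) hπ hperf nA aK ⟨a, ha⟩
    rcases hxK with ⟨a', ha'⟩ | ⟨n', u, hn', hpn', hu⟩
    · have hξ' : ξ = (x₀ + algebraMap K L xK) ^ p - (x₀ + algebraMap K L xK) +
          algebraMap B L (algebraMap A B a' + b) := by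
        have h1 := congrArg (algebraMap K L) ha'
        rw [map_sub, map_sub, map_pow, ← IsScalarTower.algebraMap_apply A K L,
          IsScalarTower.algebraMap_apply A B L] at h1
        rw [hS, add_pow_char, map_add]
        linear_combination h1
      have hwAC : EtRam.IsWeaklyUnramified A C :=
        typeIa hp hπ hw hBC hdeg hgen hz hξ'
      have hlocAC : IsLocalHom (algebraMap A C) := by
        rw [IsScalarTower.algebraMap_eq A B C]
        infer_instance
      exact sol_of_weaklyUnramified (K := K) (M := M) hπ hwAC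
    · have hξ' : ξ = (x₀ + algebraMap K L xK) ^ p - (x₀ + algebraMap K L xK) +
          algebraMap K L (aK - (xK ^ p - xK)) + algebraMap B L b := by
        rw [hS, add_pow_char, map_sub, map_sub, map_pow]
        ring
      exact typeIb hp hπ hw hBC hdeg hz hξ' hn' hpn' hu
  · exact typeII hp hπ hw hdeg hperf hs1 l hl hnf hpw hz hS ha

end Main

end Groth.Agent.Lib.H40EppD
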