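import Groth.Agent.Lib.H40FunFldKummer

set_option autoImplicit false
set_option linter.style.haveILetI false
open FunFld Polynomial

namespace Groth.Agent.Lib.H40FunFld

open Groth.Agent.Lib.H40QuotChain IntermediateField

universe u v w
variable {k : Type u} [Field k]

section ArtinSchreier

variable {K : Type v} [Field K] [Algebra k K] {K' : Type w} [Field K'] [Algebra K K']
  [Algebra k K']

/-- Generic parity obstruction in a quadratic extension `K' = K(z)`: if `e` is even and all
`z - c` (`c ∈ K`) have even order at `Q`, we contradict the surjectivity of `ord_Q`. -/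
theorem false_of_forall_even_ord_sub (hdeg : Module.finrank K K' = 2)
    {Q : FunFld.Place k K'} {P : FunFld.Place k K} {e : ℕ}
    (h : FunFld.IsOverWith Q P e) (he : Even e) {z : K'}
    (hzK : z ∉ Set.range (algebraMap K K'))
    (hc : ∀ c : K, Even (Q.ord (z - algebraMap K K' c))) : False := by
  haveI : FiniteDimensional K K' := Module.finite_of_finrank_pos (by rw [hdeg]; norm_num)
  have hmap : ∀ a : K, Even (Q.ord (algebraMap K K' a)) := by
    intro a
    rw [ord_algebraMap_of_isOverWith h]
    exact (Int.even_coe_nat e |>.2 he).mul_right _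
  have hli : LinearIndependent K ![(1 : K'), z] := by
    rw [LinearIndependent.pair_iff]
    intro s t hst
    have ht : t = 0 := by
      by_contra ht
      apply hzK
      refine ⟨-s / t, ?_⟩
      have h1 : t • z = -(s • (1 : K')) := by
        rw [eq_neg_iff_add_eq_zero, add_comm]; exact hst
      rw [Algebra.smul_def, Algebra.smul_def, mul_one] at h1
      rw [map_div₀, map_neg, ← h1]
      field_simp [(_root_.map_ne_zero (algebraMap K K')).2 ht]
    subst ht
    rw [zero_smul, add_zero, Algebra.smul_def, mul_one] at hst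
    exact ⟨(_root_.map_eq_zero (algebraMap K K')).1 hst, rfl⟩
  have hspan : Submodule.span K (Set.range ![(1 : K'), z]) = ⊤ :=
    hli.span_eq_top_of_card_eq_finrank' (by rw [hdeg]; rfl)
  have hall : ∀ α : K', α ≠ 0 → Even (Q.ord α) := by
    intro α hα
    have hmem : α ∈ Submodule.span K (Set.range ![(1 : K'), z]) := by rw [hspan]; trivial
    rw [Matrix.range_cons, Matrix.range_cons, Matrix.range_empty, Set.union_empty,
      Set.singleton_union] at hmem
    obtain ⟨a, b, hab⟩ := Submodule.mem_span_pair.1 hmem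
    rw [Algebra.smul_def, Algebra.smul_def, mul_one] at hab
    by_cases hb : b = 0
    · subst hb
      rw [map_zero, zero_mul, add_zero] at hab
      rw [← hab]; exact hmap a
    · have hb' : algebraMap K K' b ≠ 0 := (_root_.map_ne_zero (algebraMap K K')).2 hb
      have h1 : α = algebraMap K K' b * (z - algebraMap K K' (-a / b)) := by
        rw [← hab, map_div₀, map_neg]
        field_simp
        ring
      have h3 : z - algebraMap K K' (-a / b) ≠ 0 := by
        intro h0
        exact hzK ⟨-a / b, (sub_eq_zero.1 h0).symm⟩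
      rw [h1, ord_mul Q hb' h3]
      exact (hmap b).add (hc _)
  obtain ⟨π, hπ⟩ := exists_uniformizer Q
  have hπ0 : π ≠ 0 := by
    rintro rfl
    rw [map_zero] at hπ
    exact WithZero.exp_ne_zero hπ.symm
  have h1 : Q.ord π = 1 := by
    unfold FunFld.Place.ord
    rw [hπ, WithZero.log_exp]; ring
  have := hall π hπ0
  rw [h1] at this
  exact Int.not_even_one this

/-- Artin–Schreier, pole case: `2 ord_Q y = e ord_P f` if `y² + y = f` and `f` has a pole. -/
theorem two_mul_ord_eq_of_as {Q : FunFld.Place k K'} {P : FunFld.Place k K} {e : ℕ}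
    (h : FunFld.IsOverWith Q P e) {y : K'} {f : K} (hy : y ^ 2 + y = algebraMap K K' f)
    (hf : P.ord f < 0) : 2 * Q.ord y = e * P.ord f := by
  have hf1 : 1 < P.1 f := by
    by_contra hle
    push Not at hle
    have := (ord_nonneg_iff P f).2 hle
    omega
  have h1 : 1 < Q.1 (algebraMap K K' f) := by
    rw [h f]
    exact one_lt_pow₀ hf1 (isOverWith_pos h).ne'
  have hy1 : 1 < Q.1 y := by
    by_contra hle
    push Not at hle
    have h2 : Q.1 (y ^ 2 + y) ≤ 1 := by
      refine (Q.1.map_add _ _).trans (max_le ?_ hle)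
      rw [map_pow]
      exact pow_le_one₀ zero_le hle
    rw [hy] at h2
    exact absurd h1 (not_lt.2 h2)
  have h3 : Q.1 y < Q.1 (y ^ 2) := by
    rw [map_pow, pow_two]
    have hpos : 0 < Q.1 y := lt_trans zero_lt_one hy1
    calc Q.1 y = Q.1 y * 1 := (mul_one _).symm
      _ < Q.1 y * Q.1 y := by
        exact mul_lt_mul_of_pos_left hy1 hpos
  have h4 : Q.1 (y ^ 2 + y) = Q.1 (y ^ 2) := Valuation.map_add_eq_of_lt_left _ h3
  have h5 : Q.ord (algebraMap K K' f) = Q.ord (y ^ 2) := by
    unfold FunFld.Place.ord
    rw [← hy, h4]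
  rw [ord_algebraMap_of_isOverWith h, ord_pow'] at h5
  rw [h5]; norm_num

/-- Artin–Schreier, integral case in characteristic `2`: all `y - c` have even order when `e`
is even. -/
theorem even_ord_sub_of_as {Q : FunFld.Place k K'} {P : FunFld.Place k K} {e : ℕ}
    (h : FunFld.IsOverWith Q P e) (he : Even e) (h2 : (2 : K') = 0) {y : K'} {f : K}
    (hy : y ^ 2 + y = algebraMap K K' f) (hf : P.1 f ≤ 1) (c : K) :
    Even (Q.ord (y - algebraMap K K' c)) := by
  have hmap : ∀ a : K, Even (Q.ord (algebraMap K K' a)) := by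
    intro a
    rw [ord_algebraMap_of_isOverWith h]
    exact (Int.even_coe_nat e |>.2 he).mul_right _
  have hQy : Q.1 y ≤ 1 := by
    by_contra hlt
    push Not at hlt
    have h3 : Q.1 y < Q.1 (y ^ 2) := by
      rw [map_pow, pow_two]
      have hpos : 0 < Q.1 y := lt_trans zero_lt_one hlt
      calc Q.1 y = Q.1 y * 1 := (mul_one _).symm
        _ < Q.1 y * Q.1 y := mul_lt_mul_of_pos_left hlt hpos
    have h4 : Q.1 (y ^ 2 + y) = Q.1 (y ^ 2) := Valuation.map_add_eq_of_lt_left _ h3
    rw [hy, h f, map_pow] at h4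
    have h5 : Q.1 y ^ 2 ≤ 1 := by rw [← h4]; exact pow_le_one₀ zero_le hf
    exact absurd (one_lt_pow₀ hlt two_ne_zero) (not_lt.2 h5)
  have hord0 : ∀ a : K', Q.1 a = 1 → Q.ord a = 0 := by
    intro a ha
    unfold FunFld.Place.ord
    rw [ha, WithZero.log_one, neg_zero]
  rcases le_or_gt (P.1 c) 1 with hc | hc
  · have hQc : Q.1 (algebraMap K K' c) ≤ 1 := (isOverWith_le_one_iff h c).2 hc
    have hle : Q.1 (y - algebraMap K K' c) ≤ 1 :=
      (Valuation.map_sub _ _ _).trans (max_le hQy hQc)
    rcases hle.lt_or_eq with hlt | heq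
    · set w := y - algebraMap K K' c with hw
      have h3 : Q.1 (w + 1) = 1 := by
        rw [Valuation.map_add_eq_of_lt_right _ (by rw [map_one]; exact hlt), map_one]
      have h4 : w * (w + 1) = algebraMap K K' (f + c ^ 2 - c) := by
        rw [map_sub, map_add, map_pow, ← hy, hw]
        have : (y - algebraMap K K' c) * (y - algebraMap K K' c + 1) =
            y ^ 2 + y + (algebraMap K K' c) ^ 2 - algebraMap K K' c -
              2 * (y * algebraMap K K' c) := by ring
        rw [this, h2, zero_mul, sub_zero]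
      have h5 : Q.1 w = Q.1 (algebraMap K K' (f + c ^ 2 - c)) := by
        rw [← h4, map_mul, h3, mul_one]
      have h6 : Q.ord w = Q.ord (algebraMap K K' (f + c ^ 2 - c)) := by
        unfold FunFld.Place.ord
        rw [h5]
      rw [h6]
      exact hmap _
    · rw [hord0 _ heq]
      exact Even.zero
  · have h1 : 1 < Q.1 (algebraMap K K' c) := by
      rw [h c]
      exact one_lt_pow₀ hc (isOverWith_pos h).ne'
    have h3 : Q.1 (y - algebraMap K K' c) = Q.1 (algebraMap K K' c) :=
      Valuation.map_sub_eq_of_lt_right _ (lt_of_le_of_lt hQy h1)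
    have h6 : Q.ord (y - algebraMap K K' c) = Q.ord (algebraMap K K' c) := by
      unfold FunFld.Place.ord
      rw [h3]
    rw [h6]
    exact hmap _

variable [IsScalarTower k K K']

/-- Artin–Schreier extensions `y² + y = f` in characteristic `2`: places where `f` has a pole of
odd order are totally ramified, places where `f` is integral are unramified. -/
theorem as_ramification (hK : FunFld.IsFunctionField k K) (h2 : ringChar k = 2)
    (hdeg : Module.finrank K K' = 2) (y : K') (hyK : y ∉ Set.range (algebraMap K K'))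
    (f : K) (heq : y ^ 2 + y = algebraMap K K' f) (P₀ : FunFld.Place k K) :
    ((P₀.ord f < 0 ∧ Odd (P₀.ord f)) → (∃! P : FunFld.Place k K', FunFld.IsOver P P₀) ∧
      ∀ P : FunFld.Place k K', FunFld.IsOver P P₀ → FunFld.IsOverWith P P₀ 2 ∧ P.deg = P₀.deg) ∧
    (0 ≤ P₀.ord f → ∀ P : FunFld.Place k K', FunFld.IsOver P P₀ → FunFld.IsOverWith P P₀ 1) := by
  haveI : FiniteDimensional K K' := Module.finite_of_finrank_pos (by rw [hdeg]; norm_num)
  have h2' : (2 : K') = 0 := by
    haveI : CharP k 2 := ringChar.of_eq h2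
    have h3 : ((2 : ℕ) : k) = 0 := CharP.cast_eq_zero k 2
    have h4 : (2 : K') = algebraMap k K' ((2 : ℕ) : k) := by
      rw [Nat.cast_ofNat, map_ofNat]
    rw [h4, h3, map_zero]
  constructor
  · rintro ⟨hneg, hodd⟩
    have key : ∀ P : FunFld.Place k K', FunFld.IsOver P P₀ → FunFld.IsOverWith P P₀ 2 := by
      rintro P ⟨e, he⟩
      have h1 := two_mul_ord_eq_of_as he heq hneg
      have h3 := ramIdx_le_finrank hK he
      rw [hdeg] at h3
      have h4 := isOverWith_pos he
      obtain ⟨j, hj⟩ := hodd
      have : e = 2 := by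
        by_contra hne
        have he1 : e = 1 := by omega
        rw [he1, hj] at h1
        omega
      rw [← this]; exact he
    have key2 : ∀ P : FunFld.Place k K', FunFld.IsOver P P₀ →
        P.deg = P₀.deg ∧ ∀ Q' : FunFld.Place k K', FunFld.IsOver Q' P₀ → Q' = P := by
      intro P hP
      have h := key P hP
      rw [← hdeg] at h
      exact deg_eq_and_unique_of_ramIdx_eq_finrank hK h
    obtain ⟨P, hP⟩ := exists_isOver (K' := K') hK P₀
    exact ⟨⟨P, hP, fun Q' hQ' => (key2 P hP).2 Q' hQ'⟩,
      fun P' hP' => ⟨key P' hP', (key2 P' hP').1⟩⟩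
  · rintro hnn P ⟨e, he⟩
    have hf1 : P₀.1 f ≤ 1 := (ord_nonneg_iff P₀ f).1 hnn
    have hodd : Odd e := by
      rw [← Nat.not_even_iff_odd]
      intro hev
      exact false_of_forall_even_ord_sub hdeg he hev hyK
        (fun c => even_ord_sub_of_as he hev h2' heq hf1 c)
    have h3 := ramIdx_le_finrank hK he
    rw [hdeg] at h3
    obtain ⟨j, hj⟩ := hodd
    have : e = 1 := by omega
    rw [← this]; exact he

end ArtinSchreier

end Groth.Agent.Lib.H40FunFld
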