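import Groth.Agent.Lib.H40FunFldASGenus
import Groth.Agent.Lib.H40FunFldADK

set_option autoImplicit false
set_option linter.style.haveILetI false
set_option linter.unusedSectionVars false
open FunFld Polynomial

namespace Groth.Agent.Lib.H40FunFld

open IntermediateField

universe u v w
variable {k : Type u} [Field k]

/-- Genus zero: every repartition of `k(X)` is integral plus principal. -/
theorem adele_ratFunc_eq :
    FunFld.adele k (RatFunc k) = ADKbig (0 : FunFld.Divisor k (RatFunc k)) := by
  have hKF := isFunctionField_ratFunc k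
  have hg0 : FunFld.genus k (RatFunc k) = 0 :=
    genus_eq_zero_of_adjoin_eq_top hKF (x := RatFunc.X) RatFunc.adjoin_X
  apply adele_eq_ADKbig hKF
  intro D' hD'
  rw [hg0]
  unfold delta
  have h0 := deg_nonneg hD'
  have h1 := ell_eq_of_deg_ge hKF D' (by rw [hg0]; push_cast; linarith)
  rw [h1, hg0]; push_cast; ring

section Lift

variable {K : Type v} [Field K] [Algebra k K] {K' : Type w} [Field K'] [Algebra K K']
  [Algebra k K'] [IsScalarTower k K K']

/-- If the repartitions of `K` are integral plus principal, a repartition of `K'` supported at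
the unique place over `P`, with value in `K`, is integral plus principal. -/
theorem single_algebraMap_mem_ADKbig [DecidableEq (FunFld.Place k K')]
    (hK : FunFld.IsFunctionField k K)
    (hadele : FunFld.adele k K = ADKbig (0 : FunFld.Divisor k K)) [FiniteDimensional K K']
    {Q : FunFld.Place k K'} {P : FunFld.Place k K} {e : ℕ} (he : FunFld.IsOverWith Q P e)
    (huniq : ∀ Q' : FunFld.Place k K', FunFld.IsOver Q' P → Q' = Q) (u : K) :
    (Pi.single Q (algebraMap K K' u) : FunFld.Place k K' → K') ∈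
      ADKbig (0 : FunFld.Divisor k K') := by
  classical
  have hmem : (Pi.single P u : FunFld.Place k K → K) ∈ FunFld.adele k K := by
    rw [mem_adele_iff]
    refine (Set.finite_singleton P).subset ?_
    intro P' hP'
    by_contra hne
    apply hP'
    rw [Set.mem_singleton_iff] at hne
    rw [Pi.single_eq_of_ne hne, map_zero]
    exact zero_le_one
  rw [hadele] at hmem
  obtain ⟨a₀, ha₀, _, ⟨w, rfl⟩, hsum⟩ := Submodule.mem_sup.1 hmem
  have ha₀' : ∀ P' : FunFld.Place k K, a₀ P' = (Pi.single P u : FunFld.Place k K → K) P' - w := by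
    intro P'
    rw [← hsum]
    simp [FunFld.diag]
  have hint : ∀ P' : FunFld.Place k K, P'.1 (a₀ P') ≤ 1 := by
    intro P'
    have := ha₀ P'
    rwa [Finsupp.zero_apply, WithZero.exp_zero] at this
  have hdecomp : (Pi.single Q (algebraMap K K' u) : FunFld.Place k K' → K') =
      ((Pi.single Q (algebraMap K K' u) : FunFld.Place k K' → K') -
        FunFld.diag k K' (algebraMap K K' w)) + FunFld.diag k K' (algebraMap K K' w) := by
    rw [sub_add_cancel]
  rw [hdecomp]
  refine Submodule.add_mem _ (Submodule.mem_sup_left ?_) (Submodule.mem_sup_right ⟨_, rfl⟩)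
  intro Q'
  rw [Finsupp.zero_apply, WithZero.exp_zero]
  have hval : ((Pi.single Q (algebraMap K K' u) : FunFld.Place k K' → K') -
      FunFld.diag k K' (algebraMap K K' w)) Q' =
      (Pi.single Q (algebraMap K K' u) : FunFld.Place k K' → K') Q' - algebraMap K K' w := by
    simp [FunFld.diag]
  rw [hval]
  by_cases hQ : Q' = Q
  · subst hQ
    rw [Pi.single_eq_same, ← map_sub]
    have h1 := ha₀' P
    rw [Pi.single_eq_same] at h1
    rw [← h1, he (a₀ P)]
    exact pow_le_one₀ zero_le (hint P)
  · rw [Pi.single_eq_of_ne hQ, zero_sub, Valuation.map_neg]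
    obtain ⟨P', e', he'⟩ := exists_isOverWith hK Q'
    have hP' : P' ≠ P := by
      rintro rfl
      exact hQ (huniq Q' ⟨e', he'⟩)
    have h1 := ha₀' P'
    rw [Pi.single_eq_of_ne hP', zero_sub] at h1
    have h2 := hint P'
    rw [h1, Valuation.map_neg] at h2
    rw [he' w]
    exact pow_le_one₀ zero_le h2

end Lift

section ASRoot

variable {K : Type v} [Field K] [Algebra k K] [Algebra (RatFunc k) K]
  [IsScalarTower k (RatFunc k) K]

theorem algebraMap_X_sub_C (β : k) :
    algebraMap (RatFunc k) K RatFunc.X - algebraMap k K β =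
      algebraMap (RatFunc k) K (algebraMap k[X] (RatFunc k) (X - C β)) := by
  rw [map_sub, RatFunc.algebraMap_X, RatFunc.algebraMap_C, map_sub,
    IsScalarTower.algebraMap_apply k (RatFunc k) K β, RatFunc.algebraMap_eq_C]

/-- Local data of an Artin–Schreier cover above a rational point where `f` has an odd pole. -/
theorem as_at_root (h2 : ringChar k = 2) (hdeg : Module.finrank (RatFunc k) K = 2) {y : K}
    (hy : y ∉ Set.range (algebraMap (RatFunc k) K)) {f : RatFunc k}
    (heq : y ^ 2 + y = algebraMap (RatFunc k) K f) {β : k} {dβ : ℕ} (hodd : Odd dβ)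
    (hpole : ∀ p : FunFld.Place k (RatFunc k),
      p.1 ((RatFunc.X : RatFunc k) - RatFunc.C β) < 1 → p.ord f = -(dβ : ℤ))
    {P : FunFld.Place k K}
    (hP : P.1 (algebraMap (RatFunc k) K RatFunc.X - algebraMap k K β) < 1) :
    ∃ p : FunFld.Place k (RatFunc k), FunFld.IsOverWith P p 2 ∧
      p.1 ((RatFunc.X : RatFunc k) - RatFunc.C β) < 1 ∧
      (∀ Q' : FunFld.Place k K, FunFld.IsOver Q' p → Q' = P) ∧ P.ord y = -(dβ : ℤ) ∧
      P.ord (algebraMap (RatFunc k) K RatFunc.X - algebraMap k K β) = 2 := by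
  have hKF := isFunctionField_ratFunc k
  haveI : FiniteDimensional (RatFunc k) K :=
    Module.finite_of_finrank_pos (by rw [hdeg]; norm_num)
  obtain ⟨p, e, he⟩ := exists_isOverWith hKF P
  have hXC : (RatFunc.X : RatFunc k) - RatFunc.C β = algebraMap k[X] (RatFunc k) (X - C β) := by
    rw [map_sub, RatFunc.algebraMap_X, RatFunc.algebraMap_C]
  have hp : p.1 ((RatFunc.X : RatFunc k) - RatFunc.C β) < 1 := by
    rw [← isOverWith_lt_one_iff he, hXC, ← algebraMap_X_sub_C]
    exact hP
  have hf := hpole p hp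
  have hdpos : 0 < dβ := hodd.pos
  have hneg : p.ord f < 0 := by rw [hf]; omega
  have hoddf : Odd (p.ord f) := by
    rw [hf]; exact ((Int.odd_coe_nat _).2 hodd).neg
  obtain ⟨⟨P₁, hP₁, huniq⟩, hall⟩ := (as_ramification hKF h2 hdeg y hy f heq p).1 ⟨hneg, hoddf⟩
  have he2 := (hall P ⟨e, he⟩).1
  have huniq' : ∀ Q' : FunFld.Place k K, FunFld.IsOver Q' p → Q' = P := by
    intro Q' hQ'
    rw [huniq Q' hQ', huniq P ⟨e, he⟩]
  have hy2 := two_mul_ord_eq_of_as he2 heq hneg
  have hordy : P.ord y = -(dβ : ℤ) := by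
    rw [hf] at hy2; push_cast at hy2; linarith
  refine ⟨p, he2, hp, huniq', hordy, ?_⟩
  rw [algebraMap_X_sub_C, ord_algebraMap_of_isOverWith he2,
    ratFunc_ord_irreducible (irreducible_X_sub_C β) (by rw [← hXC]; exact hp)]
  norm_num

/-- Frobenius on adele classes for an Artin–Schreier cover in characteristic two. -/
theorem as_frobenius_adele [DecidableEq (FunFld.Place k K)]
    (h2 : ringChar k = 2) (hdeg : Module.finrank (RatFunc k) K = 2) {y : K}
    (hy : y ∉ Set.range (algebraMap (RatFunc k) K)) {f : RatFunc k}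
    (heq : y ^ 2 + y = algebraMap (RatFunc k) K f) {α : k} {dα : ℕ} (hodd : Odd dα)
    (hpole : ∀ p : FunFld.Place k (RatFunc k),
      p.1 ((RatFunc.X : RatFunc k) - RatFunc.C α) < 1 → p.ord f = -(dα : ℤ))
    {P : FunFld.Place k K}
    (hP : P.1 (algebraMap (RatFunc k) K RatFunc.X - algebraMap k K α) < 1) (j : ℕ) :
    ((Pi.single P ((y * (algebraMap (RatFunc k) K RatFunc.X - algebraMap k K α) ^ j) ^ 2) :
        FunFld.Place k K → K) -
      (Pi.single P (y * (algebraMap (RatFunc k) K RatFunc.X - algebraMap k K α) ^ (2 * j)) :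
        FunFld.Place k K → K) ∈ ADKbig (0 : FunFld.Divisor k K)) ∧
    (dα < 4 * j + 1 →
      (Pi.single P ((y * (algebraMap (RatFunc k) K RatFunc.X - algebraMap k K α) ^ j) ^ 2) :
        FunFld.Place k K → K) ∈ ADKbig (0 : FunFld.Divisor k K)) := by
  have hKF := isFunctionField_ratFunc k
  haveI : FiniteDimensional (RatFunc k) K :=
    Module.finite_of_finrank_pos (by rw [hdeg]; norm_num)
  obtain ⟨p, he2, hp, huniq, hordy, hordt⟩ := as_at_root h2 hdeg hy heq hodd hpole hP
  set t := algebraMap (RatFunc k) K RatFunc.X - algebraMap k K α with ht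
  have h2K : (2 : K) = 0 := two_eq_zero_of_ringChar (K' := K) h2
  have hdiff : (y * t ^ j) ^ 2 - y * t ^ (2 * j) =
      algebraMap (RatFunc k) K (f * (algebraMap k[X] (RatFunc k) (X - C α)) ^ (2 * j)) := by
    rw [map_mul, map_pow, ← algebraMap_X_sub_C, ← ht, ← heq]
    linear_combination (-(y * t ^ (2 * j))) * h2K
  have hmem1 : (Pi.single P ((y * t ^ j) ^ 2) : FunFld.Place k K → K) -
      (Pi.single P (y * t ^ (2 * j)) : FunFld.Place k K → K) ∈
        ADKbig (0 : FunFld.Divisor k K) := by
    rw [← Pi.single_sub, hdiff]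
    exact single_algebraMap_mem_ADKbig hKF adele_ratFunc_eq he2 huniq _
  refine ⟨hmem1, fun hlt => ?_⟩
  have hmem2 : (Pi.single P (y * t ^ (2 * j)) : FunFld.Place k K → K) ∈
      ADKbig (0 : FunFld.Divisor k K) := by
    apply Submodule.mem_sup_left
    intro Q'
    rw [Finsupp.zero_apply, WithZero.exp_zero]
    by_cases hQ : Q' = P
    · subst hQ
      rw [Pi.single_eq_same, ← ord_nonneg_iff]
      have hy0 : y ≠ 0 := as_y_ne_zero hy
      have ht0 : t ≠ 0 := by
        intro h0
        rw [h0, FunFld.Place.ord, map_zero, WithZero.log_zero] at hordt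
        norm_num at hordt
      rw [ord_mul _ hy0 (pow_ne_zero _ ht0), ord_pow', hordy, hordt]
      push_cast
      omega
    · rw [Pi.single_eq_of_ne hQ, map_zero]
      exact zero_le_one
  have h3 : (Pi.single P ((y * t ^ j) ^ 2) : FunFld.Place k K → K) =
      ((Pi.single P ((y * t ^ j) ^ 2) : FunFld.Place k K → K) -
        (Pi.single P (y * t ^ (2 * j)) : FunFld.Place k K → K)) +
        (Pi.single P (y * t ^ (2 * j)) : FunFld.Place k K → K) := by
    rw [sub_add_cancel]
  rw [h3]
  exact Submodule.add_mem _ hmem1 hmem2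

end ASRoot

end Groth.Agent.Lib.H40FunFld
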