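import Groth.Agent.Lib.H40FunFldASOrd

set_option autoImplicit false
set_option linter.style.haveILetI false
set_option linter.unusedSectionVars false
open FunFld Polynomial

namespace Groth.Agent.Lib.H40FunFld

open Groth.Agent.Lib.H40QuotChain IntermediateField

universe u v
variable {k : Type u} [Field k]

section RF

local notation "ι" => algebraMap k[X] (RatFunc k)

theorem ratFunc_X_sub_C (α : k) :
    (RatFunc.X : RatFunc k) - RatFunc.C α = ι (X - C α) := by
  rw [map_sub, RatFunc.algebraMap_X, RatFunc.algebraMap_C]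

/-- The order of a polynomial at the place `x = α` is the root multiplicity. -/
theorem ratFunc_ord_eq_rootMultiplicity {p : FunFld.Place k (RatFunc k)} {α : k}
    (hp : p.1 (ι (X - C α)) < 1) {q : k[X]} (hq : q ≠ 0) :
    p.ord (ι q) = q.rootMultiplicity α := by
  obtain ⟨w, hw, hnd⟩ := Polynomial.exists_eq_pow_rootMultiplicity_mul_and_not_dvd q hq α
  have hirr : Irreducible (X - C α : k[X]) := irreducible_X_sub_C α
  have hX := ratFunc_val_X_le_one (X_sub_C_ne_zero α) hp
  have hw0 : w ≠ 0 := by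
    rintro rfl
    exact hnd (dvd_zero _)
  have hcop : IsCoprime (X - C α : k[X]) w := (hirr.coprime_iff_not_dvd).2 hnd
  have h1 : p.1 (ι w) = 1 := ratFunc_val_eq_one_of_isCoprime hX hp hcop
  have h2 : p.ord (ι w) = 0 := by
    rw [FunFld.Place.ord, h1, WithZero.log_one, neg_zero]
  have h3 : p.ord (ι (X - C α)) = 1 := ratFunc_ord_irreducible hirr hp
  conv_lhs => rw [hw]
  rw [map_mul, map_pow, ord_mul p (pow_ne_zero _ (ratFunc_map_ne_zero (X_sub_C_ne_zero α)))
    (ratFunc_map_ne_zero hw0), ord_pow, h2, h3]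
  ring

theorem ratFunc_ord_eq_of_X_sub_C {p p' : FunFld.Place k (RatFunc k)} {α : k}
    (hp : p.1 (ι (X - C α)) < 1) (hp' : p'.1 (ι (X - C α)) < 1) (a : RatFunc k) :
    p.ord a = p'.ord a := by
  by_cases ha0 : a = 0
  · rw [ha0, ord_zero, ord_zero]
  have hn0 : a.num ≠ 0 := RatFunc.num_ne_zero ha0
  have hd0 : a.denom ≠ 0 := RatFunc.denom_ne_zero a
  have hr : a = ι a.num / ι a.denom := (RatFunc.num_div_denom a).symm
  have key : ∀ R : FunFld.Place k (RatFunc k), R.1 (ι (X - C α)) < 1 →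
      R.ord a = (a.num.rootMultiplicity α : ℤ) - a.denom.rootMultiplicity α := by
    intro R hR
    have h1 : a * ι a.denom = ι a.num := by
      have h3 : ι a.num / ι a.denom * ι a.denom = ι a.num :=
        div_mul_cancel₀ _ (ratFunc_map_ne_zero hd0)
      rwa [← hr] at h3
    have h2 := ord_mul R ha0 (ratFunc_map_ne_zero hd0)
    rw [h1, ratFunc_ord_eq_rootMultiplicity hR hn0, ratFunc_ord_eq_rootMultiplicity hR hd0] at h2
    linarith
  rw [key p hp, key p' hp']

/-- The place `x = α` of `k(X)` is unique. -/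
theorem ratFunc_place_unique {p p' : FunFld.Place k (RatFunc k)} {α : k}
    (hp : p.1 (ι (X - C α)) < 1) (hp' : p'.1 (ι (X - C α)) < 1) : p = p' := by
  apply eq_of_forall_le_one
  intro a ha
  rw [← ord_nonneg_iff] at ha ⊢
  rwa [← ratFunc_ord_eq_of_X_sub_C hp hp' a]

end RF

section ASBasis

local notation "ι" => algebraMap k[X] (RatFunc k)

variable {K : Type v} [Field K] [Algebra k K] [Algebra (RatFunc k) K]
  [IsScalarTower k (RatFunc k) K]

/-- Parity argument at a ramified place: if `a + u y` is integral there then `u` vanishes to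
order at least `(d + 1) / 2`. -/
theorem as_two_mul_ord_ge {y : K} {dα : ℕ} (hodd : Odd dα) {P : FunFld.Place k K}
    {p : FunFld.Place k (RatFunc k)} (hover : FunFld.IsOverWith P p 2)
    (hordy : P.ord y = -(dα : ℤ)) {a u : RatFunc k} (hu : u ≠ 0)
    (h : P.1 (algebraMap (RatFunc k) K a + algebraMap (RatFunc k) K u * y) ≤ 1) :
    (dα : ℤ) + 1 ≤ 2 * p.ord u := by
  obtain ⟨m, hm⟩ := hodd
  have hy0 : y ≠ 0 := by
    rintro rfl
    rw [ord_zero] at hordy
    omega
  have huK : algebraMap (RatFunc k) K u ≠ 0 := (_root_.map_ne_zero _).2 hu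
  have hU0 : algebraMap (RatFunc k) K u * y ≠ 0 := mul_ne_zero huK hy0
  have hordU : P.ord (algebraMap (RatFunc k) K u * y) = 2 * p.ord u - dα := by
    rw [ord_mul P huK hy0, ord_algebraMap_of_isOverWith hover, hordy]; push_cast; ring
  have key : P.1 (algebraMap (RatFunc k) K u * y) ≤ 1 → (dα : ℤ) + 1 ≤ 2 * p.ord u := by
    intro h1
    rw [← ord_nonneg_iff, hordU] at h1
    omega
  by_cases ha : a = 0
  · rw [ha, map_zero, zero_add] at h
    exact key h
  have haK : algebraMap (RatFunc k) K a ≠ 0 := (_root_.map_ne_zero _).2 ha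
  have hordA : P.ord (algebraMap (RatFunc k) K a) = 2 * p.ord a := by
    rw [ord_algebraMap_of_isOverWith hover]; push_cast; ring
  have hne : P.1 (algebraMap (RatFunc k) K a) ≠ P.1 (algebraMap (RatFunc k) K u * y) := by
    rw [val_eq_exp_neg_ord P haK, val_eq_exp_neg_ord P hU0, hordA, hordU]
    intro heq
    have := WithZero.exp_injective heq
    omega
  rw [Valuation.map_add_of_distinct_val _ hne] at h
  exact key ((le_max_right _ _).trans h)

theorem as_coeff_mem_const (h2 : ringChar k = 2)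
    (hdeg : Module.finrank (RatFunc k) K = 2) {y : K}
    (hy : y ∉ Set.range (algebraMap (RatFunc k) K)) {f : RatFunc k}
    (heq : y ^ 2 + y = algebraMap (RatFunc k) K f)
    (hodd : ∀ P : FunFld.Place k (RatFunc k), P.ord f < 0 → Odd (P.ord f)) {a b : RatFunc k}
    (hz : algebraMap (RatFunc k) K a + algebraMap (RatFunc k) K b * y ∈
      FunFld.L (FunFld.conorm K (poleHalf (k := k) f))) :
    ∃ c : k, b = algebraMap k (RatFunc k) c := by
  have hKF := isFunctionField_ratFunc k
  haveI : FiniteDimensional (RatFunc k) K :=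
    Module.finite_of_finrank_pos (by rw [hdeg]; norm_num)
  have h1 := (as_mem_of_mem_L_conorm hKF h2 hdeg hy heq hodd hz).2
  rw [sub_self, L_zero_eq_one hKF, Submodule.mem_one] at h1
  obtain ⟨c, hc⟩ := h1
  exact ⟨c, hc.symm⟩

/-- Core of the linear independence: if a repartition with components `y q_α(x - α)` at `P_α`
(`deg q_α < d_α / 2`) is integral modulo a principal one, then all `q_α` are one constant. -/
theorem as_indep_aux (h2 : ringChar k = 2)
    (hdeg : Module.finrank (RatFunc k) K = 2) {y : K}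
    (hy : y ∉ Set.range (algebraMap (RatFunc k) K)) {f : RatFunc k}
    (heq : y ^ 2 + y = algebraMap (RatFunc k) K f)
    (B : Finset k) (d : k → ℕ) (hd : ∀ β ∈ B, Odd (d β))
    (hpole : ∀ (p : FunFld.Place k (RatFunc k)) (β : k), β ∈ B →
      p.1 ((RatFunc.X : RatFunc k) - RatFunc.C β) < 1 → p.ord f = -(d β : ℤ))
    (hint : ∀ p : FunFld.Place k (RatFunc k),
      (∀ β ∈ B, 1 ≤ p.1 ((RatFunc.X : RatFunc k) - RatFunc.C β)) → p.1 f ≤ 1)
    (Pl : k → FunFld.Place k K)
    (hPl : ∀ β ∈ B, (Pl β).1 (algebraMap (RatFunc k) K RatFunc.X - algebraMap k K β) < 1)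
    (q : k → k[X]) (hqdeg : ∀ α ∈ B, 2 * (q α).natDegree + 1 ≤ d α)
    (z : K) (hz1 : ∀ P : FunFld.Place k K, (∀ α ∈ B, P ≠ Pl α) → P.1 z ≤ 1)
    (hz2 : ∀ α ∈ B,
      (Pl α).1 (y * algebraMap (RatFunc k) K (ι ((q α).comp (X - C α))) - z) ≤ 1) :
    ∃ b₀ : k, ∀ α ∈ B, q α = C b₀ := by
  classical
  have hKF := isFunctionField_ratFunc k
  haveI : FiniteDimensional (RatFunc k) K :=
    Module.finite_of_finrank_pos (by rw [hdeg]; norm_num)
  have hy0 : y ≠ 0 := as_y_ne_zero hy
  have hloc : ∀ α ∈ B, ∃ p : FunFld.Place k (RatFunc k), FunFld.IsOverWith (Pl α) p 2 ∧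
      p.1 (ι (X - C α)) < 1 ∧ (Pl α).ord y = -(d α : ℤ) := by
    intro α hα
    obtain ⟨p, h1, h2', -, h4, -⟩ := as_at_root h2 hdeg hy heq (hd α hα)
      (fun p hp => hpole p α hα hp) (hPl α hα)
    exact ⟨p, h1, by rwa [← ratFunc_X_sub_C], h4⟩
  have hodd' : ∀ p : FunFld.Place k (RatFunc k), p.ord f < 0 → Odd (p.ord f) := by
    intro p hp
    have h1 : ¬ p.1 f ≤ 1 := by rw [← ord_nonneg_iff]; omega
    have h3 : ¬ ∀ β ∈ B, 1 ≤ p.1 ((RatFunc.X : RatFunc k) - RatFunc.C β) := fun h => h1 (hint p h)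
    push Not at h3
    obtain ⟨β, hβ, hlt⟩ := h3
    rw [hpole p β hβ hlt]
    exact (hd β hβ).natCast.neg
  obtain ⟨a, b, hzab⟩ := Groth.Agent.Lib.H40Quad.exists_add_mul_eq' hdeg hy z
  have hzL : algebraMap (RatFunc k) K a + algebraMap (RatFunc k) K b * y ∈
      FunFld.L (FunFld.conorm K (poleHalf (k := k) f)) := by
    rw [← hzab]
    intro Q
    obtain ⟨p, e, he⟩ := exists_isOverWith hKF Q
    rw [conorm_apply hKF _ he]
    by_cases hQ : ∃ α ∈ B, Q = Pl α
    · obtain ⟨α, hα, rfl⟩ := hQ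
      obtain ⟨p', hov, hp', hordy⟩ := hloc α hα
      obtain ⟨rfl, rfl⟩ := isOverWith_unique he hov
      have hpf : p.ord f = -(d α : ℤ) := hpole p α hα (by rwa [ratFunc_X_sub_C])
      obtain ⟨m, hm⟩ := hd α hα
      rw [poleHalf_apply hKF, if_pos (by rw [hpf]; omega), hpf]
      have hH : (Pl α).1 (algebraMap (RatFunc k) K (ι ((q α).comp (X - C α)))) ≤ 1 := by
        rw [hov]
        exact pow_le_one' (ratFunc_val_poly_le_one
          (ratFunc_val_X_le_one (X_sub_C_ne_zero α) hp') _) 2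
      have hyv : (Pl α).1 y = WithZero.exp (d α : ℤ) := by
        rw [val_eq_exp_neg_ord _ hy0, hordy, neg_neg]
      have hz' : z = y * algebraMap (RatFunc k) K (ι ((q α).comp (X - C α))) -
          (y * algebraMap (RatFunc k) K (ι ((q α).comp (X - C α))) - z) := by ring
      rw [hz']
      refine (Valuation.map_sub _ _ _).trans (max_le ?_ ?_)
      · rw [map_mul, hyv]
        calc WithZero.exp (d α : ℤ) * (Pl α).1 (algebraMap (RatFunc k) K (ι ((q α).comp (X - C α))))
            ≤ WithZero.exp (d α : ℤ) * 1 := by gcongr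
          _ ≤ _ := by
            rw [mul_one, WithZero.exp_le_exp]
            push_cast
            omega
      · refine (hz2 α hα).trans ?_
        rw [← WithZero.exp_zero, WithZero.exp_le_exp]
        push_cast
        omega
    · push Not at hQ
      refine (hz1 Q (fun α hα => hQ α hα)).trans ?_
      rw [← WithZero.exp_zero, WithZero.exp_le_exp]
      exact mul_nonneg (Int.natCast_nonneg e) (poleHalf_nonneg hKF f p)
  obtain ⟨b₀, hb₀⟩ := as_coeff_mem_const h2 hdeg hy heq hodd' hzL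
  refine ⟨b₀, fun α hα => ?_⟩
  obtain ⟨p, hov, hp, hordy⟩ := hloc α hα
  set Q' : k[X] := (C b₀ - q α).comp (X - C α) with hQ'
  have hbh : b - ι ((q α).comp (X - C α)) = ι Q' := by
    rw [hQ', sub_comp, C_comp, map_sub, hb₀, RatFunc.algebraMap_eq_C, RatFunc.algebraMap_C]
  have hint' : (Pl α).1 (algebraMap (RatFunc k) K a + algebraMap (RatFunc k) K (ι Q') * y) ≤ 1 := by
    have h1 := hz2 α hα
    rw [hzab] at h1
    have e1 : y * algebraMap (RatFunc k) K (ι ((q α).comp (X - C α))) -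
        (algebraMap (RatFunc k) K a + algebraMap (RatFunc k) K b * y) =
        -(algebraMap (RatFunc k) K a + algebraMap (RatFunc k) K (ι Q') * y) := by
      rw [← hbh, map_sub]; ring
    rw [e1, Valuation.map_neg] at h1
    exact h1
  by_contra hne
  have hQ0 : Q' ≠ 0 := by
    intro h0
    apply hne
    have h1 := congrArg (fun r : k[X] => r.comp (X + C α)) h0
    simp only [hQ', comp_assoc, sub_comp, X_comp, C_comp, add_sub_cancel_right, comp_X,
      zero_comp] at h1
    exact (sub_eq_zero.1 h1).symm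
  have h1 := as_two_mul_ord_ge (hd α hα) hov hordy (ratFunc_map_ne_zero hQ0) hint'
  rw [ratFunc_ord_eq_rootMultiplicity hp hQ0] at h1
  have h2' : Q'.rootMultiplicity α ≤ Q'.natDegree := by
    have hdvd := Polynomial.pow_rootMultiplicity_dvd Q' α
    have h3 := Polynomial.natDegree_le_of_dvd hdvd hQ0
    rwa [natDegree_pow, natDegree_X_sub_C, mul_one] at h3
  have h3 : Q'.natDegree ≤ (q α).natDegree := by
    rw [hQ', natDegree_comp, natDegree_X_sub_C, mul_one]
    refine (natDegree_sub_le _ _).trans ?_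
    rw [natDegree_C]
    exact max_le (Nat.zero_le _) le_rfl
  have h4 := hqdeg α hα
  omega

/-- Two places `x = β`, `x = β'` of a function field over `k(X)` coincide only if `β = β'`. -/
theorem eq_of_val_X_sub_lt_one {p : FunFld.Place k (RatFunc k)} {β β' : k}
    (h1 : p.1 (ι (X - C β)) < 1) (h2 : p.1 (ι (X - C β')) < 1) : β = β' := by
  by_contra hne
  have h3 : ι (X - C β) - ι (X - C β') = algebraMap k (RatFunc k) (β' - β) := by
    rw [← map_sub, RatFunc.algebraMap_eq_C, ← RatFunc.algebraMap_C]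
    congr 1
    rw [map_sub]; ring
  have h4 : p.1 (ι (X - C β) - ι (X - C β')) < 1 :=
    (Valuation.map_sub _ _ _).trans_lt (max_lt h1 h2)
  rw [h3, val_algebraMap p (sub_ne_zero.2 (Ne.symm hne))] at h4
  exact lt_irrefl _ h4

/-- The genus of the Artin–Schreier curve with odd poles `d_β` at `x = β`, `β ∈ B`. -/
theorem as_genus_eq_sum [IsAlgClosed k] (hK : FunFld.IsFunctionField k K) (h2 : ringChar k = 2)
    (hdeg : Module.finrank (RatFunc k) K = 2) {y : K}
    (hy : y ∉ Set.range (algebraMap (RatFunc k) K)) {f : RatFunc k}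
    (heq : y ^ 2 + y = algebraMap (RatFunc k) K f)
    (B : Finset k) (d : k → ℕ) (hd : ∀ β ∈ B, Odd (d β))
    (hpole : ∀ (p : FunFld.Place k (RatFunc k)) (β : k), β ∈ B →
      p.1 ((RatFunc.X : RatFunc k) - RatFunc.C β) < 1 → p.ord f = -(d β : ℤ))
    (hint : ∀ p : FunFld.Place k (RatFunc k),
      (∀ β ∈ B, 1 ≤ p.1 ((RatFunc.X : RatFunc k) - RatFunc.C β)) → p.1 f ≤ 1)
    (Pl : k → FunFld.Place k K)
    (hPl : ∀ β ∈ B, (Pl β).1 (algebraMap (RatFunc k) K RatFunc.X - algebraMap k K β) < 1) :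
    (FunFld.genus k K : ℤ) = -1 + ∑ β ∈ B, (((d β : ℤ) - 1) / 2 + 1) := by
  classical
  have hKF := isFunctionField_ratFunc k
  haveI : FiniteDimensional (RatFunc k) K :=
    Module.finite_of_finrank_pos (by rw [hdeg]; norm_num)
  have hloc : ∀ α : ↥B, ∃ p : FunFld.Place k (RatFunc k), p.1 (ι (X - C (α : k))) < 1 := by
    intro α
    obtain ⟨p, -, h2', -, -, -⟩ := as_at_root h2 hdeg hy heq (hd α α.2)
      (fun p hp => hpole p α α.2 hp) (hPl α α.2)
    exact ⟨p, by rwa [← ratFunc_X_sub_C]⟩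
  choose pl hpl using hloc
  have hplf : ∀ α : ↥B, (pl α).ord f = -(d α : ℤ) := fun α =>
    hpole (pl α) α α.2 (by rw [ratFunc_X_sub_C]; exact hpl α)
  have hpole' : ∀ p : FunFld.Place k (RatFunc k), p.ord f < 0 →
      ∃ β : ↥B, p.1 (ι (X - C (β : k))) < 1 := by
    intro p hp
    have h1 : ¬ p.1 f ≤ 1 := by rw [← ord_nonneg_iff]; omega
    have h3 : ¬ ∀ β ∈ B, 1 ≤ p.1 ((RatFunc.X : RatFunc k) - RatFunc.C β) := fun h => h1 (hint p h)
    push Not at h3
    obtain ⟨β, hβ, hlt⟩ := h3
    exact ⟨⟨β, hβ⟩, by rwa [← ratFunc_X_sub_C]⟩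
  have hodd : ∀ P : FunFld.Place k (RatFunc k), FunFld.div k f P < 0 →
      Odd (FunFld.div k f P) := by
    intro P hP
    rw [div_apply hKF] at hP ⊢
    obtain ⟨β, hβ⟩ := hpole' P hP
    rw [hpole P β β.2 (by rwa [ratFunc_X_sub_C])]
    exact (hd β β.2).natCast.neg
  rw [as_genus_ratFunc h2 hK hdeg y hy f heq hodd]
  congr 1
  have hZ : ((FunFld.div k f).support.filter fun P => FunFld.div k f P < 0) =
      Finset.univ.image pl := by
    ext P
    rw [Finset.mem_filter, Finsupp.mem_support_iff, Finset.mem_image]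
    constructor
    · rintro ⟨-, hP⟩
      rw [div_apply hKF] at hP
      obtain ⟨β, hβ⟩ := hpole' P hP
      exact ⟨β, Finset.mem_univ _, ratFunc_place_unique (hpl β) hβ⟩
    · rintro ⟨β, -, rfl⟩
      rw [div_apply hKF, hplf β]
      have := (hd β β.2).pos
      constructor <;> omega
  have hinj : Function.Injective pl := by
    intro β β' h
    apply Subtype.ext
    exact eq_of_val_X_sub_lt_one (hpl β) (h ▸ hpl β')
  rw [hZ, Finset.sum_image (fun a _ b _ h => hinj h), ← Finset.sum_coe_sort B]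
  refine Finset.sum_congr rfl fun β _ => ?_
  rw [div_apply hKF, hplf β, deg_eq_one_of_isAlgClosed hKF]
  obtain ⟨m, hm⟩ := hd β β.2
  push_cast
  omega

end ASBasis

end Groth.Agent.Lib.H40FunFld
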