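import Groth.Agent.Lib.H40FunFldASBasis

set_option autoImplicit false
set_option linter.style.haveILetI false
set_option linter.unusedSectionVars false
open FunFld Polynomial

namespace Groth.Agent.Lib.H40FunFld

open Groth.Agent.Lib.H40QuotChain IntermediateField

universe u v
variable {k : Type u} [Field k]

section Index

variable (B : Finset k) (d : k → ℕ)

/-- The index set `{(β, j) : 1 ≤ j ≤ (d_β - 1)/2}` as a sigma type. -/
def asIndexEquiv :
    {a : ↥B × ℕ // 1 ≤ a.2 ∧ 2 * a.2 + 1 ≤ d (a.1 : k)} ≃ Σ β : ↥B, Fin ((d (β : k) - 1) / 2) where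
  toFun a := ⟨a.1.1, ⟨a.1.2 - 1, by have := a.2; omega⟩⟩
  invFun s := ⟨(s.1, s.2.1 + 1), by
    have := s.2.2
    refine ⟨?_, ?_⟩
    · dsimp only; omega
    · dsimp only; omega⟩
  left_inv a := by
    apply Subtype.ext
    apply Prod.ext
    · rfl
    · have := a.2
      change a.1.2 - 1 + 1 = a.1.2
      omega
  right_inv s := by
    obtain ⟨β, j⟩ := s
    rfl

theorem card_asIndex [Fintype {a : ↥B × ℕ // 1 ≤ a.2 ∧ 2 * a.2 + 1 ≤ d (a.1 : k)}] :
    Fintype.card {a : ↥B × ℕ // 1 ≤ a.2 ∧ 2 * a.2 + 1 ≤ d (a.1 : k)} =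
      ∑ β ∈ B, (d β - 1) / 2 := by
  rw [Fintype.card_congr (asIndexEquiv B d), Fintype.card_sigma]
  simp only [Fintype.card_fin]
  exact Finset.sum_coe_sort B (fun β => (d β - 1) / 2)

theorem card_asIndex2 (h0 : (0 : k) ∈ B) [Fintype {b : ↥B // (b : k) ≠ 0}] :
    Fintype.card {b : ↥B // (b : k) ≠ 0} + 1 = B.card := by
  classical
  have h1 := Fintype.card_subtype_compl (fun b : ↥B => (b : k) = 0)
  have h2 : Fintype.card {b : ↥B // (b : k) = 0} = 1 := by
    rw [Fintype.card_eq_one_iff]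
    refine ⟨⟨⟨0, h0⟩, rfl⟩, fun b => ?_⟩
    apply Subtype.ext
    apply Subtype.ext
    exact b.2
  rw [h2, Fintype.card_coe] at h1
  have h3 : 0 < B.card := Finset.card_pos.2 ⟨0, h0⟩
  have h4 : Fintype.card {b : ↥B // (b : k) ≠ 0} = Fintype.card {b : ↥B // ¬ (b : k) = 0} :=
    Fintype.card_congr (Equiv.refl _)
  omega

end Index

section Main

local notation "ι" => algebraMap k[X] (RatFunc k)

variable {K : Type v} [Field K] [Algebra k K] [Algebra (RatFunc k) K]
  [IsScalarTower k (RatFunc k) K]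

theorem single_mem_adele [DecidableEq (FunFld.Place k K)] (P : FunFld.Place k K) (v : K) :
    (Pi.single P v : FunFld.Place k K → K) ∈ FunFld.adele k K := by
  rw [mem_adele_iff]
  refine (Set.finite_singleton P).subset ?_
  intro P' hP'
  by_contra hne
  apply hP'
  rw [Set.mem_singleton_iff] at hne
  rw [Pi.single_eq_of_ne hne, map_zero]
  exact zero_le_one

/-- Places above distinct points are distinct. -/
theorem as_Pl_injOn (B : Finset k) (Pl : k → FunFld.Place k K)
    (hPl : ∀ β ∈ B, (Pl β).1 (algebraMap (RatFunc k) K RatFunc.X - algebraMap k K β) < 1)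
    {α β : k} (hα : α ∈ B) (hβ : β ∈ B) (h : Pl α = Pl β) : α = β := by
  by_contra hne
  have h1 := hPl α hα
  have h2 := hPl β hβ
  rw [← h] at h2
  have h3 : (algebraMap (RatFunc k) K RatFunc.X - algebraMap k K α) -
      (algebraMap (RatFunc k) K RatFunc.X - algebraMap k K β) = algebraMap k K (β - α) := by
    rw [map_sub]; ring
  have h4 : (Pl α).1 ((algebraMap (RatFunc k) K RatFunc.X - algebraMap k K α) -
      (algebraMap (RatFunc k) K RatFunc.X - algebraMap k K β)) < 1 :=
    (Valuation.map_sub _ _ _).trans_lt (max_lt h1 h2)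
  rw [h3, val_algebraMap (Pl α) (sub_ne_zero.2 (Ne.symm hne))] at h4
  exact lt_irrefl _ h4

/-- Linear independence of the classes of the repartitions `y (x - α)^j` at `P_α` and `y` at
`P_β` (`β ≠ 0`) modulo `A(0) + K`. -/
theorem as_H1_linearIndependent [DecidableEq (FunFld.Place k K)] (h2 : ringChar k = 2)
    (hdeg : Module.finrank (RatFunc k) K = 2) {y : K}
    (hy : y ∉ Set.range (algebraMap (RatFunc k) K)) {f : RatFunc k}
    (heq : y ^ 2 + y = algebraMap (RatFunc k) K f)
    (B : Finset k) (h0 : (0 : k) ∈ B) (d : k → ℕ) (hd : ∀ β ∈ B, Odd (d β))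
    (hpole : ∀ (p : FunFld.Place k (RatFunc k)) (β : k), β ∈ B →
      p.1 ((RatFunc.X : RatFunc k) - RatFunc.C β) < 1 → p.ord f = -(d β : ℤ))
    (hint : ∀ p : FunFld.Place k (RatFunc k),
      (∀ β ∈ B, 1 ≤ p.1 ((RatFunc.X : RatFunc k) - RatFunc.C β)) → p.1 f ≤ 1)
    (Pl : k → FunFld.Place k K)
    (hPl : ∀ β ∈ B, (Pl β).1 (algebraMap (RatFunc k) K RatFunc.X - algebraMap k K β) < 1) :
    LinearIndependent k (fun i => Submodule.mkQ
      (FunFld.AD (0 : FunFld.Divisor k K) ⊔ LinearMap.range (FunFld.diag k K)) ((Sum.elim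
        (fun a : {a : ↥B × ℕ // 1 ≤ a.2 ∧ 2 * a.2 + 1 ≤ d (a.1 : k)} =>
          (Pi.single (Pl (a.1.1 : k)) (y * ((algebraMap (RatFunc k) K RatFunc.X) -
            (algebraMap k K (a.1.1 : k))) ^ a.1.2) : FunFld.Place k K → K))
        (fun b : {b : ↥B // (b : k) ≠ 0} =>
          (Pi.single (Pl (b.1 : k)) y : FunFld.Place k K → K))) i)) := by
  classical
  letI : Fintype {a : ↥B × ℕ // 1 ≤ a.2 ∧ 2 * a.2 + 1 ≤ d (a.1 : k)} :=
    Fintype.ofEquiv _ (asIndexEquiv B d).symm
  rw [Fintype.linearIndependent_iff]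
  intro g hg
  set x : k → K := fun α => algebraMap (RatFunc k) K RatFunc.X - algebraMap k K α with hx
  set E : {a : ↥B × ℕ // 1 ≤ a.2 ∧ 2 * a.2 + 1 ≤ d (a.1 : k)} ⊕ {b : ↥B // (b : k) ≠ 0} →
      (FunFld.Place k K → K) := Sum.elim
        (fun a : {a : ↥B × ℕ // 1 ≤ a.2 ∧ 2 * a.2 + 1 ≤ d (a.1 : k)} =>
          (Pi.single (Pl (a.1.1 : k)) (y * (x (a.1.1 : k)) ^ a.1.2) : FunFld.Place k K → K))
        (fun b : {b : ↥B // (b : k) ≠ 0} =>
          (Pi.single (Pl (b.1 : k)) y : FunFld.Place k K → K)) with hE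
  set r : FunFld.Place k K → K := ∑ i, g i • E i with hr
  have hrW : r ∈ FunFld.AD (0 : FunFld.Divisor k K) ⊔ LinearMap.range (FunFld.diag k K) := by
    have h1 : (FunFld.AD (0 : FunFld.Divisor k K) ⊔ LinearMap.range (FunFld.diag k K)).mkQ r
        = 0 := by
      rw [hr, map_sum]
      simpa only [map_smul] using hg
    rwa [Submodule.mkQ_apply, Submodule.Quotient.mk_eq_zero] at h1
  obtain ⟨a₀, ha₀, c, ⟨z, rfl⟩, hsum⟩ := Submodule.mem_sup.1 hrW
  have hrz : ∀ P : FunFld.Place k K, P.1 (r P - z) ≤ 1 := by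
    intro P
    have h1 := ha₀ P
    have h3 : a₀ P = r P - z := by
      rw [← hsum]
      simp [FunFld.diag]
    rw [h3] at h1
    simpa using h1
  -- the value of `r` at a place
  have hrP : ∀ P : FunFld.Place k K, r P =
      ∑ a : {a : ↥B × ℕ // 1 ≤ a.2 ∧ 2 * a.2 + 1 ≤ d (a.1 : k)},
        (if P = Pl (a.1.1 : k) then g (Sum.inl a) • (y * x (a.1.1 : k) ^ a.1.2) else 0) +
      ∑ b : {b : ↥B // (b : k) ≠ 0}, (if P = Pl (b.1 : k) then g (Sum.inr b) • y else 0) := by
    intro P
    rw [hr, Fintype.sum_sum_type, Pi.add_apply, Finset.sum_apply, Finset.sum_apply]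
    congr 1
    · refine Finset.sum_congr rfl fun a _ => ?_
      rw [Pi.smul_apply, hE, Sum.elim_inl, Pi.single_apply]
      split_ifs
      · rfl
      · rw [smul_zero]
    · refine Finset.sum_congr rfl fun b _ => ?_
      rw [Pi.smul_apply, hE, Sum.elim_inr, Pi.single_apply]
      split_ifs
      · rfl
      · rw [smul_zero]
  set q : k → k[X] := fun α =>
    ∑ a : {a : ↥B × ℕ // 1 ≤ a.2 ∧ 2 * a.2 + 1 ≤ d (a.1 : k)},
      (if (a.1.1 : k) = α then C (g (Sum.inl a)) * X ^ a.1.2 else 0) +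
    ∑ b : {b : ↥B // (b : k) ≠ 0}, (if (b.1 : k) = α then C (g (Sum.inr b)) else 0) with hq
  have hqdeg : ∀ α ∈ B, 2 * (q α).natDegree + 1 ≤ d α := by
    intro α hα
    have hd1 : 1 ≤ d α := (hd α hα).pos
    have h1 : (q α).natDegree ≤ (d α - 1) / 2 := by
      refine (natDegree_add_le _ _).trans (max_le ?_ ?_)
      · refine natDegree_sum_le_of_forall_le _ _ fun a _ => ?_
        split_ifs with h
        · refine (natDegree_C_mul_X_pow_le _ _).trans ?_
          have := a.2.2
          rw [h] at this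
          omega
        · simp
      · refine natDegree_sum_le_of_forall_le _ _ fun b _ => ?_
        split_ifs <;> simp
    omega
  have hcomp : ∀ α : k, algebraMap (RatFunc k) K (ι ((q α).comp (X - C α))) =
      ∑ a : {a : ↥B × ℕ // 1 ≤ a.2 ∧ 2 * a.2 + 1 ≤ d (a.1 : k)},
        (if (a.1.1 : k) = α then algebraMap k K (g (Sum.inl a)) * x α ^ a.1.2 else 0) +
      ∑ b : {b : ↥B // (b : k) ≠ 0},
        (if (b.1 : k) = α then algebraMap k K (g (Sum.inr b)) else 0) := by
    intro α
    let φ : k[X] →+* K :=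
      ((algebraMap (RatFunc k) K).comp ι).comp (Polynomial.compRingHom (X - C α))
    have hφC : ∀ c : k, φ (C c) = algebraMap k K c := by
      intro c
      change algebraMap (RatFunc k) K (ι ((C c).comp (X - C α))) = _
      rw [C_comp, IsScalarTower.algebraMap_apply k (RatFunc k) K, RatFunc.algebraMap_eq_C,
        RatFunc.algebraMap_C]
    have hφX : φ X = x α := by
      change algebraMap (RatFunc k) K (ι ((X : k[X]).comp (X - C α))) = _
      rw [X_comp]
      exact (algebraMap_X_sub_C α).symm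
    change φ (q α) = _
    simp only [hq, map_add, map_sum, apply_ite φ, map_mul, map_pow, map_zero, hφC, hφX]
  have hrPl : ∀ α ∈ B, r (Pl α) =
      y * algebraMap (RatFunc k) K (ι ((q α).comp (X - C α))) := by
    intro α hα
    rw [hrP, hcomp, mul_add, Finset.mul_sum, Finset.mul_sum]
    congr 1
    · refine Finset.sum_congr rfl fun a _ => ?_
      by_cases h : (a.1.1 : k) = α
      · rw [if_pos h, if_pos (by rw [h]), Algebra.smul_def, h]; ring
      · rw [if_neg h, if_neg, mul_zero]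
        intro h'
        exact h (as_Pl_injOn B Pl hPl hα a.1.1.2 h').symm
    · refine Finset.sum_congr rfl fun b _ => ?_
      by_cases h : (b.1 : k) = α
      · rw [if_pos h, if_pos (by rw [h]), Algebra.smul_def]; ring
      · rw [if_neg h, if_neg, mul_zero]
        intro h'
        exact h (as_Pl_injOn B Pl hPl hα b.1.2 h').symm
  obtain ⟨b₀, hb₀⟩ := as_indep_aux h2 hdeg hy heq B d hd hpole hint Pl hPl q hqdeg z (by
    intro P hP
    have h1 : r P = 0 := by
      rw [hrP, Finset.sum_eq_zero, Finset.sum_eq_zero, add_zero]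
      · intro b _
        rw [if_neg (hP _ b.1.2)]
      · intro a _
        rw [if_neg (hP _ a.1.1.2)]
    have h3 := hrz P
    rwa [h1, zero_sub, Valuation.map_neg] at h3) (by
    intro α hα
    rw [← hrPl α hα]
    exact hrz (Pl α))
  -- coefficient extraction
  have hcoeff1 : ∀ a₀ : {a : ↥B × ℕ // 1 ≤ a.2 ∧ 2 * a.2 + 1 ≤ d (a.1 : k)},
      (q (a₀.1.1 : k)).coeff a₀.1.2 = g (Sum.inl a₀) := by
    intro a₀
    simp only [hq, coeff_add, finsetSum_coeff]
    rw [Finset.sum_eq_single a₀, if_pos rfl, coeff_C_mul, coeff_X_pow, if_pos rfl, mul_one,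
      Finset.sum_eq_zero, add_zero]
    · intro b _
      split_ifs
      · rw [coeff_C, if_neg]
        have := a₀.2.1
        omega
      · rw [coeff_zero]
    · intro a _ hne
      split_ifs with h
      · rw [coeff_C_mul, coeff_X_pow, if_neg, mul_zero]
        intro h'
        apply hne
        apply Subtype.ext
        apply Prod.ext
        · exact Subtype.ext h
        · exact h'.symm
      · rw [coeff_zero]
    · intro h
      exact absurd (Finset.mem_univ _) h
  have hcoeff0 : ∀ α : k, (q α).coeff 0 =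
      ∑ b : {b : ↥B // (b : k) ≠ 0}, (if (b.1 : k) = α then g (Sum.inr b) else 0) := by
    intro α
    simp only [hq, coeff_add, finsetSum_coeff]
    rw [Finset.sum_eq_zero, zero_add]
    · refine Finset.sum_congr rfl fun b _ => ?_
      split_ifs
      · rw [coeff_C_zero]
      · rw [coeff_zero]
    · intro a _
      split_ifs
      · rw [coeff_C_mul, coeff_X_pow, if_neg, mul_zero]
        have := a.2.1
        omega
      · rw [coeff_zero]
  have hb00 : b₀ = 0 := by
    have h1 := hcoeff0 0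
    rw [hb₀ 0 h0, coeff_C_zero, Finset.sum_eq_zero] at h1
    · exact h1
    · intro b _
      rw [if_neg b.2]
  intro i
  rcases i with a₀ | b₁
  · rw [← hcoeff1 a₀, hb₀ _ a₀.1.1.2, coeff_C, if_neg]
    have := a₀.2.1
    omega
  · have h1 := hcoeff0 (b₁.1 : k)
    rw [hb₀ _ b₁.1.2, coeff_C_zero, hb00, Finset.sum_eq_single b₁, if_pos rfl] at h1
    · exact h1.symm
    · intro b _ hne
      rw [if_neg]
      intro h
      exact hne (Subtype.ext (Subtype.ext h))
    · intro h
      exact absurd (Finset.mem_univ _) h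

/-- Basis of `H¹` of the Artin–Schreier curve by repartition classes. -/
theorem as_H1_basis [IsAlgClosed k] [DecidableEq (FunFld.Place k K)]
    (hK : FunFld.IsFunctionField k K) (h2 : ringChar k = 2)
    (hdeg : Module.finrank (RatFunc k) K = 2) {y : K}
    (hy : y ∉ Set.range (algebraMap (RatFunc k) K)) {f : RatFunc k}
    (heq : y ^ 2 + y = algebraMap (RatFunc k) K f)
    (B : Finset k) (h0 : (0 : k) ∈ B) (d : k → ℕ) (hd : ∀ β ∈ B, Odd (d β))
    (hpole : ∀ (p : FunFld.Place k (RatFunc k)) (β : k), β ∈ B →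
      p.1 ((RatFunc.X : RatFunc k) - RatFunc.C β) < 1 → p.ord f = -(d β : ℤ))
    (hint : ∀ p : FunFld.Place k (RatFunc k),
      (∀ β ∈ B, 1 ≤ p.1 ((RatFunc.X : RatFunc k) - RatFunc.C β)) → p.1 f ≤ 1)
    (Pl : k → FunFld.Place k K)
    (hPl : ∀ β ∈ B, (Pl β).1 (algebraMap (RatFunc k) K RatFunc.X - algebraMap k K β) < 1) :
    (∀ i, (Sum.elim
        (fun a : {a : ↥B × ℕ // 1 ≤ a.2 ∧ 2 * a.2 + 1 ≤ d (a.1 : k)} =>
          (Pi.single (Pl (a.1.1 : k)) (y * ((algebraMap (RatFunc k) K RatFunc.X) -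
            (algebraMap k K (a.1.1 : k))) ^ a.1.2) : FunFld.Place k K → K))
        (fun b : {b : ↥B // (b : k) ≠ 0} =>
          (Pi.single (Pl (b.1 : k)) y : FunFld.Place k K → K))) i ∈ FunFld.adele k K) ∧
    LinearIndependent k (fun i => Submodule.mkQ
      (FunFld.AD (0 : FunFld.Divisor k K) ⊔ LinearMap.range (FunFld.diag k K)) ((Sum.elim
        (fun a : {a : ↥B × ℕ // 1 ≤ a.2 ∧ 2 * a.2 + 1 ≤ d (a.1 : k)} =>
          (Pi.single (Pl (a.1.1 : k)) (y * ((algebraMap (RatFunc k) K RatFunc.X) -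
            (algebraMap k K (a.1.1 : k))) ^ a.1.2) : FunFld.Place k K → K))
        (fun b : {b : ↥B // (b : k) ≠ 0} =>
          (Pi.single (Pl (b.1 : k)) y : FunFld.Place k K → K))) i)) ∧
    ∀ a : FunFld.Place k K → K, a ∈ FunFld.adele k K →
      a ∈ (FunFld.AD (0 : FunFld.Divisor k K) ⊔ LinearMap.range (FunFld.diag k K)) ⊔
        Submodule.span k (Set.range (Sum.elim
        (fun a : {a : ↥B × ℕ // 1 ≤ a.2 ∧ 2 * a.2 + 1 ≤ d (a.1 : k)} =>
          (Pi.single (Pl (a.1.1 : k)) (y * ((algebraMap (RatFunc k) K RatFunc.X) -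
            (algebraMap k K (a.1.1 : k))) ^ a.1.2) : FunFld.Place k K → K))
        (fun b : {b : ↥B // (b : k) ≠ 0} =>
          (Pi.single (Pl (b.1 : k)) y : FunFld.Place k K → K)))) := by
  classical
  letI : Fintype {a : ↥B × ℕ // 1 ≤ a.2 ∧ 2 * a.2 + 1 ≤ d (a.1 : k)} :=
    Fintype.ofEquiv _ (asIndexEquiv B d).symm
  have hli := as_H1_linearIndependent h2 hdeg hy heq B h0 d hd hpole hint Pl hPl
  set E : {a : ↥B × ℕ // 1 ≤ a.2 ∧ 2 * a.2 + 1 ≤ d (a.1 : k)} ⊕ {b : ↥B // (b : k) ≠ 0} →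
      (FunFld.Place k K → K) := Sum.elim
        (fun a : {a : ↥B × ℕ // 1 ≤ a.2 ∧ 2 * a.2 + 1 ≤ d (a.1 : k)} =>
          (Pi.single (Pl (a.1.1 : k)) (y * ((algebraMap (RatFunc k) K RatFunc.X) -
            (algebraMap k K (a.1.1 : k))) ^ a.1.2) : FunFld.Place k K → K))
        (fun b : {b : ↥B // (b : k) ≠ 0} =>
          (Pi.single (Pl (b.1 : k)) y : FunFld.Place k K → K)) with hE
  set W : Submodule k (FunFld.Place k K → K) :=
    FunFld.AD (0 : FunFld.Divisor k K) ⊔ LinearMap.range (FunFld.diag k K) with hW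
  have hEad : ∀ i, E i ∈ FunFld.adele k K := by
    intro i
    rcases i with a | b
    · exact single_mem_adele _ _
    · exact single_mem_adele _ _
  refine ⟨hEad, hli, ?_⟩
  -- dimension count
  have hWad : W ≤ FunFld.adele k K := ADKbig_le_adele hK 0
  obtain ⟨hfin, hrank⟩ := finrank_adele_quot hK (0 : FunFld.Divisor k K)
  rw [delta_zero hK, sub_zero] at hrank
  have hgen := as_genus_eq_sum hK h2 hdeg hy heq B d hd hpole hint Pl hPl
  -- the image of the adeles in the quotient
  let ψ : ↥(FunFld.adele k K) →ₗ[k] ((FunFld.Place k K → K) ⧸ W) :=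
    W.mkQ.comp (FunFld.adele k K).subtype
  have hker : LinearMap.ker ψ = Submodule.comap (FunFld.adele k K).subtype W := by
    rw [LinearMap.ker_comp, Submodule.ker_mkQ]
  have hrange : LinearMap.range ψ = (FunFld.adele k K).map W.mkQ := by
    rw [LinearMap.range_comp, Submodule.range_subtype]
  let e : RelQuot W (FunFld.adele k K) ≃ₗ[k] ↥((FunFld.adele k K).map W.mkQ) :=
    ((Submodule.quotEquivOfEq _ _ hker.symm).trans ψ.quotKerEquivRange).trans
      (LinearEquiv.ofEq _ _ hrange)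
  haveI hfin1 : FiniteDimensional k ↥((FunFld.adele k K).map W.mkQ) :=
    LinearEquiv.finiteDimensional e
  have hr1 : (Module.finrank k ↥((FunFld.adele k K).map W.mkQ) : ℤ) = FunFld.genus k K := by
    rw [← LinearEquiv.finrank_eq e]
    exact hrank
  have hle : Submodule.span k (Set.range fun i => W.mkQ (E i)) ≤ (FunFld.adele k K).map W.mkQ := by
    rw [Submodule.span_le]
    rintro _ ⟨i, rfl⟩
    exact Submodule.mem_map_of_mem (hEad i)
  have hr2 : Module.finrank k ↥(Submodule.span k (Set.range fun i => W.mkQ (E i))) =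
      Fintype.card ({a : ↥B × ℕ // 1 ≤ a.2 ∧ 2 * a.2 + 1 ≤ d (a.1 : k)} ⊕
        {b : ↥B // (b : k) ≠ 0}) := finrank_span_eq_card hli
  have hcard : (Fintype.card ({a : ↥B × ℕ // 1 ≤ a.2 ∧ 2 * a.2 + 1 ≤ d (a.1 : k)} ⊕
        {b : ↥B // (b : k) ≠ 0}) : ℤ) = FunFld.genus k K := by
    rw [Fintype.card_sum, card_asIndex, hgen, Finset.sum_add_distrib, Finset.sum_const,
      ← card_asIndex2 B h0]
    have h3 : ∀ β ∈ B, (((d β - 1) / 2 : ℕ) : ℤ) = ((d β : ℤ) - 1) / 2 := by
      intro β hβ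
      have := (hd β hβ).pos
      omega
    rw [Nat.cast_add, Nat.cast_sum, Finset.sum_congr rfl h3]
    simp only [nsmul_eq_mul, mul_one]
    push_cast
    ring
  have heqS : Submodule.span k (Set.range fun i => W.mkQ (E i)) = (FunFld.adele k K).map W.mkQ := by
    apply Submodule.eq_of_le_of_finrank_eq hle
    have : (Module.finrank k ↥(Submodule.span k (Set.range fun i => W.mkQ (E i))) : ℤ) =
        Module.finrank k ↥((FunFld.adele k K).map W.mkQ) := by
      rw [hr2, hcard, hr1]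
    exact_mod_cast this
  intro a ha
  have h1 : W.mkQ a ∈ Submodule.span k (Set.range fun i => W.mkQ (E i)) := by
    rw [heqS]
    exact Submodule.mem_map_of_mem ha
  have h3 : (Set.range fun i => W.mkQ (E i)) = W.mkQ '' Set.range E := by
    rw [← Set.range_comp]; rfl
  rw [h3, ← Submodule.map_span] at h1
  obtain ⟨t, ht, hta⟩ := h1
  have h4 : a - t ∈ W := by
    rw [← Submodule.Quotient.mk_eq_zero, Submodule.Quotient.mk_sub]
    rw [Submodule.mkQ_apply, Submodule.mkQ_apply] at hta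
    rw [hta, sub_self]
  have h5 : a = (a - t) + t := by ring
  rw [h5]
  exact Submodule.add_mem_sup h4 ht

end Main

end Groth.Agent.Lib.H40FunFld
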