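import Groth.Agent.Lib.H40FunFldDiffExp
import Groth.Agent.Lib.H40FunFldAS
import Groth.Agent.Lib.H40FunFldRatPlaces
import Mathlib.FieldTheory.RatFunc.IntermediateField

set_option autoImplicit false
set_option linter.style.haveILetI false
set_option linter.unusedSectionVars false
open FunFld Polynomial

namespace Groth.Agent.Lib.H40FunFld

open IntermediateField

universe u v w u' w'

section ASDiffExp

variable {k : Type u} [Field k] {K : Type u'} [Field K] [Algebra k K] {K' : Type v} [Field K']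
  [Algebra K K'] [Algebra k K'] [IsScalarTower k K K'] {F : Type w} [Field F] [Algebra k F]
  {F' : Type w'} [Field F'] [Algebra k F']

/-- Universe-polymorphic version of `vDiff_one_eq'`. -/
theorem vDiff_one_eq'' {P : FunFld.Place k K} {Q : FunFld.Place k K'} {e : ℕ}
    (he : FunFld.IsOverWith Q P e)
    (ψ : K' →ₐ[k] LaurentSeries F') (hψ : LocRes.IsExpansionAt Q.1 ψ) {x x₀ a : K}
    (h : KaehlerDifferential.D k K x = a • KaehlerDifferential.D k K x₀) :
    LocRes.vDiff ψ 1 (algebraMap K K' x) =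
      P.1 a ^ e * Valued.v (LocRes.D F' (ψ (algebraMap K K' x₀))) := by
  unfold LocRes.vDiff
  have := D_expansion_eq (ψ.comp (IsScalarTower.toAlgHom k K K')) h
  change LocRes.D F' (ψ (algebraMap K K' x)) =
    ψ (algebraMap K K' a) * LocRes.D F' (ψ (algebraMap K K' x₀)) at this
  rw [map_one, one_mul, this, map_mul, hψ.1, he a]

/-- Universe-polymorphic version of `diffExp_eq_of_D_eq_smul`. -/
theorem diffExp_eq_of_D_eq_smul' {P : FunFld.Place k K} {Q : FunFld.Place k K'} {e : ℕ}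
    (he : FunFld.IsOverWith Q P e)
    (φ : K →ₐ[k] LaurentSeries F) (hφ : LocRes.IsExpansionAt P.1 φ)
    (ψ : K' →ₐ[k] LaurentSeries F') (hψ : LocRes.IsExpansionAt Q.1 ψ) {x x₀ a : K}
    (h : KaehlerDifferential.D k K x = a • KaehlerDifferential.D k K x₀)
    (hx : LocRes.vDiff φ 1 x ≠ 0) (hx' : LocRes.vDiff ψ 1 (algebraMap K K' x) ≠ 0) :
    LocRes.diffExp φ ψ e x =
      -WithZero.log (Valued.v (LocRes.D F' (ψ (algebraMap K K' x₀)))) +
        e * WithZero.log (Valued.v (LocRes.D F (φ x₀))) := by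
  have h1 := vDiff_one_eq φ hφ h
  have h2 := vDiff_one_eq'' he ψ hψ h
  rw [h1] at hx
  rw [h2] at hx'
  have ha : P.1 a ≠ 0 := left_ne_zero_of_mul hx
  have hc : Valued.v (LocRes.D F (φ x₀)) ≠ 0 := right_ne_zero_of_mul hx
  have hc' : Valued.v (LocRes.D F' (ψ (algebraMap K K' x₀))) ≠ 0 := right_ne_zero_of_mul hx'
  unfold LocRes.diffExp LocRes.ordDiff
  rw [h1, h2, WithZero.log_mul ha hc, WithZero.log_mul (pow_ne_zero _ ha) hc', WithZero.log_pow]
  simp only [nsmul_eq_mul]
  ring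

end ASDiffExp

section RatFuncRankOne

variable {k : Type u} [Field k]

theorem ratFunc_exists_eq_smul_D (g : RatFunc k) :
    ∃ a : RatFunc k, KaehlerDifferential.D k (RatFunc k) g =
      a • KaehlerDifferential.D k (RatFunc k) (RatFunc.X : RatFunc k) := by
  have htop : k⟮(RatFunc.X : RatFunc k)⟯ = ⊤ := RatFunc.adjoin_X
  haveI : Algebra.IsSeparable ↥k⟮(RatFunc.X : RatFunc k)⟯ (RatFunc k) := by
    refine ⟨fun x => ?_⟩
    have hx : x ∈ k⟮(RatFunc.X : RatFunc k)⟯ := by rw [htop]; trivial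
    exact isSeparable_algebraMap (⟨x, hx⟩ : k⟮(RatFunc.X : RatFunc k)⟯)
  exact exists_eq_smul_D_of_isSeparable_adjoin RatFunc.transcendental_X _

end RatFuncRankOne

section ASMain

theorem as_diffExp (k : Type u) (K : Type v) [Field k] [Field K] [Algebra k K]
    [Algebra (RatFunc k) K] [IsScalarTower k (RatFunc k) K]
    (hdeg : Module.finrank (RatFunc k) K = 2) (h2 : ringChar k = 2)
    (y : K) (hy : y ∉ Set.range (algebraMap (RatFunc k) K)) (f : RatFunc k)
    (heq : y ^ 2 + y = algebraMap (RatFunc k) K f)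
    (p : FunFld.Place k (RatFunc k)) (hp : 1 < p.1 f) (hodd : Odd (p.ord f))
    (P : FunFld.Place k K) (e : ℕ) (he : FunFld.IsOverWith P p e)
    (F F' : Type w) [Field F] [Algebra k F] [Field F'] [Algebra k F']
    (φ : RatFunc k →ₐ[k] LaurentSeries F) (hφ : LocRes.IsExpansionAt p.1 φ)
    (ψ : K →ₐ[k] LaurentSeries F') (hψ : LocRes.IsExpansionAt P.1 ψ)
    (z : RatFunc k) (hz : LocRes.vDiff φ 1 z ≠ 0)
    (hz' : LocRes.vDiff ψ 1 (algebraMap (RatFunc k) K z) ≠ 0) :
    LocRes.diffExp φ ψ e z = 1 - p.ord f := by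
  classical
  have hKR : FunFld.IsFunctionField k (RatFunc k) := isFunctionField_ratFunc k
  have hf0 : f ≠ 0 := by
    rintro rfl; rw [map_zero] at hp; exact not_lt_of_ge zero_le_one hp
  have hneg : p.ord f < 0 := by
    by_contra hge
    push Not at hge
    exact absurd ((ord_nonneg_iff p f).1 hge) (not_le.2 hp)
  -- e = 2
  have h2e := ((as_ramification hKR h2 hdeg y hy f heq p).1 ⟨hneg, hodd⟩).2 P ⟨e, he⟩
  obtain ⟨-, rfl⟩ := isOverWith_unique he h2e.1
  have hordy : P.ord y = p.ord f := by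
    have := two_mul_ord_eq_of_as he heq hneg
    push_cast at this
    omega
  have hy0 : y ≠ 0 := by
    rintro rfl
    rw [ord_zero] at hordy
    omega
  set m : ℤ := -p.ord f with hm
  -- characteristic 2
  haveI : CharP k 2 := ringChar.of_eq h2
  have h2k : (2 : k) = 0 := by
    have h3 : ((2 : ℕ) : k) = 0 := CharP.cast_eq_zero k 2
    exact_mod_cast h3
  have h2F : (2 : F) = 0 := by
    have := congrArg (algebraMap k F) h2k
    rwa [map_ofNat, map_zero] at this
  have h2F' : (2 : F') = 0 := by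
    have := congrArg (algebraMap k F') h2k
    rwa [map_ofNat, map_zero] at this
  have hoddm : Odd (-m) := by rw [hm, neg_neg]; exact hodd
  have hmF : ((-m : ℤ) : F) ≠ 0 := by
    obtain ⟨j, hj⟩ := hoddm
    rw [hj]
    push_cast
    rw [h2F, zero_mul, zero_add]
    exact one_ne_zero
  have hmF' : ((-m : ℤ) : F') ≠ 0 := by
    obtain ⟨j, hj⟩ := hoddm
    rw [hj]
    push_cast
    rw [h2F', zero_mul, zero_add]
    exact one_ne_zero
  -- rank one
  obtain ⟨a, ha⟩ := ratFunc_exists_eq_smul_D z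
  obtain ⟨b, hb⟩ := ratFunc_exists_eq_smul_D f
  rw [diffExp_eq_of_D_eq_smul' he φ hφ ψ hψ ha hz hz']
  set cφ := LocRes.D F (φ RatFunc.X) with hcφ
  set cψ := LocRes.D F' (ψ (algebraMap (RatFunc k) K RatFunc.X)) with hcψ
  have hcφ0 : Valued.v cφ ≠ 0 := by
    rw [vDiff_one_eq φ hφ ha] at hz
    exact right_ne_zero_of_mul hz
  have hcψ0 : Valued.v cψ ≠ 0 := by
    rw [vDiff_one_eq'' he ψ hψ ha] at hz'
    exact right_ne_zero_of_mul hz'
  -- below
  have hvf : Valued.v (φ f) = WithZero.exp (-(-m)) := by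
    rw [hφ.1, val_eq_exp_neg_ord p hf0, hm, neg_neg]
  have h1 : Valued.v (LocRes.D F (φ f)) = WithZero.exp (-(-m - 1)) :=
    valuation_D_of_cast_ne_zero hvf hmF
  have h1' : Valued.v (LocRes.D F (φ f)) = p.1 b * Valued.v cφ := by
    rw [D_expansion_eq φ hb, map_mul, hφ.1]
  -- above
  have hvy : Valued.v (ψ y) = WithZero.exp (-(-m)) := by
    rw [hψ.1, val_eq_exp_neg_ord P hy0, hordy, hm, neg_neg]
  have h3 : Valued.v (LocRes.D F' (ψ y)) = WithZero.exp (-(-m - 1)) :=
    valuation_D_of_cast_ne_zero hvy hmF'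
  have h2L : (2 : LaurentSeries F') = 0 := by
    have := congrArg (algebraMap F' (LaurentSeries F')) h2F'
    rwa [map_ofNat, map_zero] at this
  have h4 : LocRes.D F' (ψ (algebraMap (RatFunc k) K f)) = LocRes.D F' (ψ y) := by
    rw [← heq, map_add, map_pow, map_add, pow_two, Derivation.leibniz, smul_eq_mul]
    have : ψ y * LocRes.D F' (ψ y) + ψ y * LocRes.D F' (ψ y) =
        2 * (ψ y * LocRes.D F' (ψ y)) := by ring
    rw [this, h2L, zero_mul, zero_add]
  have h3' : Valued.v (LocRes.D F' (ψ (algebraMap (RatFunc k) K f))) =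
      p.1 b ^ 2 * Valued.v cψ := by
    have := D_expansion_eq (ψ.comp (IsScalarTower.toAlgHom k (RatFunc k) K)) hb
    change LocRes.D F' (ψ (algebraMap (RatFunc k) K f)) =
      ψ (algebraMap (RatFunc k) K b) * LocRes.D F' (ψ (algebraMap (RatFunc k) K RatFunc.X)) at this
    rw [this, map_mul, hψ.1, he b]
  rw [h4, h3] at h3'
  rw [h1] at h1'
  have hb0 : p.1 b ≠ 0 := by
    intro h0
    rw [h0, zero_mul] at h1'
    exact WithZero.exp_ne_zero h1'
  have e1 := congrArg WithZero.log h1'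
  have e2 := congrArg WithZero.log h3'
  rw [WithZero.log_exp, WithZero.log_mul hb0 hcφ0] at e1
  rw [WithZero.log_exp, WithZero.log_mul (pow_ne_zero _ hb0) hcψ0, WithZero.log_pow] at e2
  simp only [nsmul_eq_mul] at e2
  push_cast at e2 ⊢
  rw [hm] at e1 e2
  linarith

end ASMain

end Groth.Agent.Lib.H40FunFld
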