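import Groth.Agent.Lib.H40FunFldRegDiff1
import Groth.Agent.Lib.H40FunFldASBasis2

set_option autoImplicit false
set_option linter.style.haveILetI false
set_option linter.unusedSectionVars false
open FunFld Polynomial

namespace Groth.Agent.Lib.H40FunFld

open IntermediateField

universe u v w

section InfPlace

variable {k : Type u} [Field k]

local notation "ι" => algebraMap k[X] (RatFunc k)

/-- The order at an infinite place is determined. -/
theorem ratFunc_ord_eq_of_inf {p p' : FunFld.Place k (RatFunc k)}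
    (hp : p.ord (RatFunc.X : RatFunc k) < 0) (hp' : p'.ord (RatFunc.X : RatFunc k) < 0)
    (a : RatFunc k) : p.ord a = p'.ord a := by
  by_cases ha0 : a = 0
  · rw [ha0, ord_zero, ord_zero]
  have hn0 : a.num ≠ 0 := RatFunc.num_ne_zero ha0
  have hd0 : a.denom ≠ 0 := RatFunc.denom_ne_zero a
  have key : ∀ R : FunFld.Place k (RatFunc k), R.ord (RatFunc.X : RatFunc k) < 0 →
      R.ord a = -(a.num.natDegree : ℤ) + a.denom.natDegree := by
    intro R hR
    have h1 : a * ι a.denom = ι a.num := by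
      have h3 : ι a.num / ι a.denom * ι a.denom = ι a.num :=
        div_mul_cancel₀ _ (ratFunc_map_ne_zero hd0)
      rwa [RatFunc.num_div_denom] at h3
    have h2 := congrArg R.ord h1
    rw [ord_mul R ha0 (ratFunc_map_ne_zero hd0), ratFunc_inf_ord_poly hR hn0,
      ratFunc_inf_ord_poly hR hd0] at h2
    linarith
  rw [key p hp, key p' hp']

theorem ratFunc_inf_place_unique {p p' : FunFld.Place k (RatFunc k)}
    (hp : p.ord (RatFunc.X : RatFunc k) < 0) (hp' : p'.ord (RatFunc.X : RatFunc k) < 0) :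
    p = p' := by
  apply eq_of_forall_le_one
  intro a ha
  rw [← ord_nonneg_iff] at ha ⊢
  rwa [← ratFunc_ord_eq_of_inf hp hp' a]

theorem ord_neg_iff_one_lt {K : Type v} [Field K] [Algebra k K] (P : FunFld.Place k K) (a : K) :
    P.ord a < 0 ↔ 1 < P.1 a := by
  rw [← not_le, ← not_le, not_iff_not]
  exact ord_nonneg_iff P a

end InfPlace

section LocalDX

variable {k : Type u} [Field k] {K : Type v} [Field K] [Algebra k K] [Algebra (RatFunc k) K]
  [IsScalarTower k (RatFunc k) K] {F : Type w} [Field F] [Algebra k F]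

local notation "ι" => algebraMap k[X] (RatFunc k)

theorem two_eq_zero_of_ringChar' (h2 : ringChar k = 2) : (2 : F) = 0 := by
  haveI : CharP k 2 := ringChar.of_eq h2
  have h3 : ((2 : ℕ) : k) = 0 := CharP.cast_eq_zero k 2
  have h2k : (2 : k) = 0 := by exact_mod_cast h3
  have := congrArg (algebraMap k F) h2k
  rwa [map_ofNat, map_zero] at this

theorem cast_odd_ne_zero (h2 : ringChar k = 2) {n : ℤ} (hn : Odd n) : ((n : ℤ) : F) ≠ 0 := by
  obtain ⟨j, hj⟩ := hn
  rw [hj]
  push_cast
  rw [two_eq_zero_of_ringChar' (F := F) h2, zero_mul, zero_add]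
  exact one_ne_zero

/-- `ord_P(dx) = d + 1` at the place above a pole of odd order `d` of `f` at `x = β`. -/
theorem as_valuation_DX_at_root (h2 : ringChar k = 2) (hdeg : Module.finrank (RatFunc k) K = 2)
    {y : K} (hy : y ∉ Set.range (algebraMap (RatFunc k) K)) {f : RatFunc k}
    (heq : y ^ 2 + y = algebraMap (RatFunc k) K f) {β : k} {dβ : ℕ} (hodd : Odd dβ)
    (hpole : ∀ p : FunFld.Place k (RatFunc k),
      p.1 ((RatFunc.X : RatFunc k) - RatFunc.C β) < 1 → p.ord f = -(dβ : ℤ))
    {P : FunFld.Place k K}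
    (hP : P.1 (algebraMap (RatFunc k) K RatFunc.X - algebraMap k K β) < 1)
    (ψ : K →ₐ[k] LaurentSeries F) (hψ : LocRes.IsExpansionAt P.1 ψ) :
    Valued.v (LocRes.D F (ψ (algebraMap (RatFunc k) K RatFunc.X))) =
      WithZero.exp (-((dβ : ℤ) + 1)) := by
  obtain ⟨p, he, hp, -, hordy, -⟩ := as_at_root h2 hdeg hy heq hodd hpole hP
  obtain ⟨δ, hδ⟩ := exists_derivation (K := RatFunc k) RatFunc.transcendental_X RatFunc.adjoin_X
  have hpf := hpole p hp
  have hdpos : 0 < dβ := hodd.pos
  have hf0 : f ≠ 0 := by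
    rintro rfl; rw [ord_zero] at hpf; omega
  have hy0 : y ≠ 0 := by
    rintro rfl; rw [ord_zero] at hordy; omega
  have hp1 : p.1 ((RatFunc.X : RatFunc k) - algebraMap k (RatFunc k) β) =
      WithZero.exp (-1 : ℤ) := by
    have h1 : p.ord (ι (X - C β)) = 1 :=
      ratFunc_ord_irreducible (irreducible_X_sub_C β) (by rwa [← ratFunc_X_sub_C])
    have h0 : ι (X - C β) ≠ 0 := ratFunc_map_ne_zero (X_sub_C_ne_zero β)
    have hC : algebraMap k (RatFunc k) β = RatFunc.C β :=
      DFunLike.congr_fun RatFunc.algebraMap_eq_C β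
    rw [hC, ratFunc_X_sub_C, val_eq_exp_neg_ord p h0, h1]
  have hoddZ : Odd (-(dβ : ℤ)) := hodd.natCast.neg
  have hδf := (ord_deriv_of_cast_ne_zero RatFunc.transcendental_X RatFunc.adjoin_X δ hδ hp1 hf0
    (by rw [hpf]; exact cast_odd_ne_zero h2 hoddZ))
  have hδfv : p.1 (δ f) = WithZero.exp ((dβ : ℤ) + 1) := by
    rw [val_eq_exp_neg_ord p hδf.1, hδf.2, hpf]
    congr 1; ring
  have h1 := valuation_D_algebraMap_eq δ hδ he ψ hψ f
  -- the left side through `y`
  have h2L : (2 : LaurentSeries F) = 0 := by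
    have := congrArg (algebraMap F (LaurentSeries F)) (two_eq_zero_of_ringChar' (F := F) h2)
    rwa [map_ofNat, map_zero] at this
  have h4 : LocRes.D F (ψ (algebraMap (RatFunc k) K f)) = LocRes.D F (ψ y) := by
    rw [← heq, map_add, map_pow, map_add, pow_two, Derivation.leibniz, smul_eq_mul]
    have : ψ y * LocRes.D F (ψ y) + ψ y * LocRes.D F (ψ y) =
        2 * (ψ y * LocRes.D F (ψ y)) := by ring
    rw [this, h2L, zero_mul, zero_add]
  have hvy : Valued.v (ψ y) = WithZero.exp (-(-(dβ : ℤ))) := by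
    rw [hψ.1, val_eq_exp_neg_ord P hy0, hordy]
  have h3 : Valued.v (LocRes.D F (ψ y)) = WithZero.exp (-(-(dβ : ℤ) - 1)) :=
    valuation_D_of_cast_ne_zero hvy (cast_odd_ne_zero h2 hoddZ)
  rw [h4, h3, hδfv] at h1
  set c := Valued.v (LocRes.D F (ψ (algebraMap (RatFunc k) K RatFunc.X))) with hc
  have hc0 : c ≠ 0 := by
    intro h0
    rw [h0, mul_zero] at h1
    exact WithZero.exp_ne_zero h1
  have e1 := congrArg WithZero.log h1
  rw [WithZero.log_exp, WithZero.log_mul (pow_ne_zero _ WithZero.exp_ne_zero) hc0,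
    WithZero.log_pow, WithZero.log_exp] at e1
  simp only [nsmul_eq_mul] at e1
  push_cast at e1
  rw [← WithZero.exp_log hc0]
  congr 1
  linarith

/-- `ord_P(dx) = -2` at a place above infinity where `f` is integral. -/
theorem as_valuation_DX_at_inf (h2 : ringChar k = 2) (hdeg : Module.finrank (RatFunc k) K = 2)
    {y : K} (hy : y ∉ Set.range (algebraMap (RatFunc k) K)) {f : RatFunc k}
    (heq : y ^ 2 + y = algebraMap (RatFunc k) K f)
    (hfinf : ∀ p : FunFld.Place k (RatFunc k), 1 < p.1 (RatFunc.X : RatFunc k) → p.1 f ≤ 1)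
    {P : FunFld.Place k K} (hP : 1 < P.1 (algebraMap (RatFunc k) K RatFunc.X))
    (ψ : K →ₐ[k] LaurentSeries F) (hψ : LocRes.IsExpansionAt P.1 ψ) :
    Valued.v (LocRes.D F (ψ (algebraMap (RatFunc k) K RatFunc.X))) = WithZero.exp (2 : ℤ) := by
  have h1 := (as_at_inf h2 hdeg hy heq hfinf hP 0).2
  rw [map_zero, sub_zero] at h1
  have hx0 : algebraMap (RatFunc k) K RatFunc.X ≠ 0 := by
    intro h0; rw [h0, ord_zero] at h1; omega
  have hv : Valued.v (ψ (algebraMap (RatFunc k) K RatFunc.X)) = WithZero.exp (-(-1 : ℤ)) := by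
    rw [hψ.1, val_eq_exp_neg_ord P hx0, h1]
  have := valuation_D_of_cast_ne_zero hv (by simp)
  rw [this]
  congr 1

/-- `ord_P(dx) = 0` at a place above `x = β` where `f` is integral. -/
theorem as_valuation_DX_at_unram (h2 : ringChar k = 2)
    (hdeg : Module.finrank (RatFunc k) K = 2)
    {y : K} (hy : y ∉ Set.range (algebraMap (RatFunc k) K)) {f : RatFunc k}
    (heq : y ^ 2 + y = algebraMap (RatFunc k) K f) {β : k}
    (hfβ : ∀ p : FunFld.Place k (RatFunc k),
      p.1 ((RatFunc.X : RatFunc k) - RatFunc.C β) < 1 → p.1 f ≤ 1)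
    {P : FunFld.Place k K}
    (hP : P.1 (algebraMap (RatFunc k) K RatFunc.X - algebraMap k K β) < 1)
    (ψ : K →ₐ[k] LaurentSeries F) (hψ : LocRes.IsExpansionAt P.1 ψ) :
    Valued.v (LocRes.D F (ψ (algebraMap (RatFunc k) K RatFunc.X))) = 1 := by
  have hKF := isFunctionField_ratFunc k
  haveI : FiniteDimensional (RatFunc k) K :=
    Module.finite_of_finrank_pos (by rw [hdeg]; norm_num)
  obtain ⟨p, e, he⟩ := exists_isOverWith hKF P
  have hp : p.1 ((RatFunc.X : RatFunc k) - RatFunc.C β) < 1 := by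
    rw [← isOverWith_lt_one_iff he, ratFunc_X_sub_C, ← algebraMap_X_sub_C]
    exact hP
  have hf0 : 0 ≤ p.ord f := (ord_nonneg_iff p f).2 (hfβ p hp)
  have he1 := (as_ramification hKF h2 hdeg y hy f heq p).2 hf0 P ⟨e, he⟩
  have h1 : p.ord (ι (X - C β)) = 1 :=
    ratFunc_ord_irreducible (irreducible_X_sub_C β) (by rwa [← ratFunc_X_sub_C])
  have h2' : P.ord (algebraMap (RatFunc k) K RatFunc.X - algebraMap k K β) = 1 := by
    rw [algebraMap_X_sub_C, ord_algebraMap_of_isOverWith he1, h1]; norm_num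
  have hv : Valued.v (ψ (algebraMap (RatFunc k) K RatFunc.X - algebraMap k K β)) =
      WithZero.exp (-(1 : ℤ)) := by
    rw [hψ.1, val_eq_exp_neg_ord P (algebraMap_X_sub_ne_zero β), h2']
  have h3 := valuation_D_of_cast_ne_zero hv (by simp)
  rw [map_sub, map_sub, LocRes.map_algebraMap, LocRes.D_apply F (HahnSeries.C _),
    LocRes.derivative_C, sub_zero] at h3
  rw [h3]; simp

end LocalDX

section ASReg

variable {k : Type u} [Field k] {K : Type v} [Field K] [Algebra k K] [Algebra (RatFunc k) K]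
  [IsScalarTower k (RatFunc k) K]

local notation "ι" => algebraMap k[X] (RatFunc k)

/-- The divisor `(poleHalf f) - 2 p_∞` of `k(x)` whose conorm is the divisor of `dx` on the
Artin–Schreier curve. -/
noncomputable def asB0 (f : RatFunc k) (pinf : FunFld.Place k (RatFunc k)) :
    FunFld.Divisor k (RatFunc k) :=
  poleHalf (k := k) f - Finsupp.single pinf 2

open Classical in
theorem asB0_apply (f : RatFunc k) (pinf p : FunFld.Place k (RatFunc k)) :
    asB0 f pinf p = (if p.ord f < 0 then (1 - p.ord f) / 2 else 0) - if p = pinf then 2 else 0 := by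
  rw [asB0, Finsupp.sub_apply, poleHalf_apply (isFunctionField_ratFunc k), Finsupp.single_apply]
  congr 1
  by_cases h : p = pinf
  · rw [if_pos h, if_pos h.symm]
  · rw [if_neg h, if_neg (Ne.symm h)]

theorem val_X_sub_C_of_inf {p : FunFld.Place k (RatFunc k)}
    (hp : 1 < p.1 (RatFunc.X : RatFunc k)) (β : k) :
    1 < p.1 ((RatFunc.X : RatFunc k) - RatFunc.C β) := by
  have hC : p.1 (RatFunc.C β) ≤ 1 := by
    have : RatFunc.C β = algebraMap k (RatFunc k) β :=
      (DFunLike.congr_fun RatFunc.algebraMap_eq_C β).symm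
    rw [this]; exact p.2.1 β
  rw [Valuation.map_sub_eq_of_lt_left _ (lt_of_le_of_lt hC hp)]
  exact hp

variable [IsAlgClosed k] (h2 : ringChar k = 2)
  (hdeg : Module.finrank (RatFunc k) K = 2) {y : K}
  (hy : y ∉ Set.range (algebraMap (RatFunc k) K)) {f : RatFunc k}
  (heq : y ^ 2 + y = algebraMap (RatFunc k) K f)
  (B : Finset k) (d : k → ℕ) (hd : ∀ β ∈ B, Odd (d β))
  (hpole : ∀ (p : FunFld.Place k (RatFunc k)) (β : k), β ∈ B →
    p.1 ((RatFunc.X : RatFunc k) - RatFunc.C β) < 1 → p.ord f = -(d β : ℤ))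
  (hint : ∀ p : FunFld.Place k (RatFunc k),
    (∀ β ∈ B, 1 ≤ p.1 ((RatFunc.X : RatFunc k) - RatFunc.C β)) → p.1 f ≤ 1)

include h2 hdeg hy heq hd hpole hint in
/-- The order of `dx` at every place of the Artin–Schreier curve, read through any expansion. -/
theorem as_valuation_DX {pinf : FunFld.Place k (RatFunc k)}
    (hpinf : pinf.ord (RatFunc.X : RatFunc k) < 0) (P : FunFld.Place k K)
    {F : Type w} [Field F] [Algebra k F]
    (ψ : K →ₐ[k] LaurentSeries F) (hψ : LocRes.IsExpansionAt P.1 ψ) :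
    Valued.v (LocRes.D F (ψ (algebraMap (RatFunc k) K RatFunc.X))) =
      WithZero.exp (-(FunFld.conorm K (asB0 f pinf) P)) := by
  have hKF := isFunctionField_ratFunc k
  haveI : FiniteDimensional (RatFunc k) K :=
    Module.finite_of_finrank_pos (by rw [hdeg]; norm_num)
  obtain ⟨p, e, he⟩ := exists_isOverWith hKF P
  rw [conorm_apply hKF _ he, asB0_apply]
  have hfinf : ∀ p : FunFld.Place k (RatFunc k), 1 < p.1 (RatFunc.X : RatFunc k) → p.1 f ≤ 1 :=
    fun p hp => hint p (fun β _ => (val_X_sub_C_of_inf hp β).le)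
  rcases lt_or_ge 1 (p.1 (RatFunc.X : RatFunc k)) with hX | hX
  · -- infinity
    have hpp : p = pinf := ratFunc_inf_place_unique ((ord_neg_iff_one_lt p _).2 hX) hpinf
    have hf0 : 0 ≤ p.ord f := (ord_nonneg_iff p f).2 (hfinf p hX)
    have he1 := (as_ramification hKF h2 hdeg y hy f heq p).2 hf0 P ⟨e, he⟩
    obtain ⟨-, rfl⟩ := isOverWith_unique he he1
    have hPX : 1 < P.1 (algebraMap (RatFunc k) K RatFunc.X) := by
      rw [he]; simpa using hX
    rw [as_valuation_DX_at_inf h2 hdeg hy heq hfinf hPX ψ hψ, if_neg (by omega), if_pos hpp]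
    congr 1
  · -- finite
    have hne : p ≠ pinf := by
      rintro rfl
      exact absurd ((ord_neg_iff_one_lt p _).1 hpinf) (not_lt.2 hX)
    obtain ⟨β, hβ⟩ := exists_const_val_sub_lt_one (deg_eq_one_of_isAlgClosed hKF p) hX
    have hC : algebraMap k (RatFunc k) β = RatFunc.C β :=
      DFunLike.congr_fun RatFunc.algebraMap_eq_C β
    rw [hC] at hβ
    have hPβ : P.1 (algebraMap (RatFunc k) K RatFunc.X - algebraMap k K β) < 1 := by
      rw [algebraMap_X_sub_C, ← ratFunc_X_sub_C, isOverWith_lt_one_iff he]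
      exact hβ
    rw [if_neg hne, sub_zero]
    by_cases hβB : β ∈ B
    · have hpf := hpole p β hβB hβ
      have hdpos := (hd β hβB).pos
      obtain ⟨p', he', hp', -, -, -⟩ := as_at_root h2 hdeg hy heq (hd β hβB)
        (fun p hp => hpole p β hβB hp) hPβ
      obtain ⟨-, rfl⟩ := isOverWith_unique he he'
      rw [as_valuation_DX_at_root h2 hdeg hy heq (hd β hβB) (fun p hp => hpole p β hβB hp) hPβ
        ψ hψ, if_pos (by rw [hpf]; omega), hpf]
      congr 1
      obtain ⟨m, hm⟩ := hd β hβB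
      push_cast
      omega
    · have hall : ∀ α ∈ B, 1 ≤ p.1 ((RatFunc.X : RatFunc k) - RatFunc.C α) := by
        intro α hα
        by_contra hlt
        push Not at hlt
        rw [ratFunc_X_sub_C] at hlt hβ
        exact hβB (eq_of_val_X_sub_lt_one hlt hβ ▸ hα)
      have hf1 := hint p hall
      have hf0 : 0 ≤ p.ord f := (ord_nonneg_iff p f).2 hf1
      have hfβ : ∀ p' : FunFld.Place k (RatFunc k),
          p'.1 ((RatFunc.X : RatFunc k) - RatFunc.C β) < 1 → p'.1 f ≤ 1 := by
        intro p' hp'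
        have : p' = p := by
          rw [ratFunc_X_sub_C] at hp' hβ
          exact ratFunc_place_unique hp' hβ
        rw [this]; exact hf1
      rw [as_valuation_DX_at_unram h2 hdeg hy heq hfβ hPβ ψ hψ, if_neg (by omega), mul_zero,
        neg_zero, WithZero.exp_zero]

include h2 hdeg hy heq hd hpole hint in
/-- Regularity of `z dx` at all places is membership in `L` of the conorm divisor. -/
theorem as_regular_iff {pinf : FunFld.Place k (RatFunc k)}
    (hpinf : pinf.ord (RatFunc.X : RatFunc k) < 0)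
    (F : FunFld.Place k K → Type w) [∀ P, Field (F P)] [∀ P, Algebra k (F P)]
    (φ : ∀ P, K →ₐ[k] LaurentSeries (F P)) (hφ : ∀ P, LocRes.IsExpansionAt P.1 (φ P)) (z : K) :
    (∀ P, LocRes.vDiff (φ P) z (algebraMap (RatFunc k) K RatFunc.X) ≤ 1) ↔
      z ∈ FunFld.L (FunFld.conorm K (asB0 f pinf)) := by
  refine forall_congr' fun P => ?_
  unfold LocRes.vDiff
  rw [map_mul, (hφ P).1, as_valuation_DX h2 hdeg hy heq B d hd hpole hint hpinf P (φ P) (hφ P),
    WithZero.exp_neg, mul_inv_le_iff₀ (zero_lt_iff.2 WithZero.exp_ne_zero), one_mul]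

end ASReg

end Groth.Agent.Lib.H40FunFld
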