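import Groth.Agent.Lib.H40FunFldHyperGenus
import Groth.Agent.Lib.H40FunFldRegDiff2

set_option autoImplicit false
set_option linter.style.haveILetI false
set_option linter.unusedSectionVars false
open FunFld Polynomial

namespace Groth.Agent.Lib.H40FunFld

open IntermediateField

universe u v w

section HyperDX

variable {k : Type u} [Field k] {K : Type v} [Field K] [Algebra k K] [Algebra (RatFunc k) K]
  [IsScalarTower k (RatFunc k) K] {F : Type w} [Field F] [Algebra k F]

local notation "ι" => algebraMap k[X] (RatFunc k)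

theorem two_ne_zero_of_ringChar_ne (h2 : ringChar k ≠ 2) : (2 : F) ≠ 0 := by
  have h2' : (2 : k) ≠ 0 := Ring.two_ne_zero h2
  have := (algebraMap k F).injective.ne h2'
  rwa [map_ofNat, map_zero] at this

/-- A derivation of `k(X)` with `δ X = 1` restricts to the formal derivative on polynomials. -/
theorem ratFunc_deriv_poly (δ : Derivation k (RatFunc k) (RatFunc k))
    (hδ : δ (RatFunc.X : RatFunc k) = 1) (q : k[X]) : δ (ι q) = ι (derivative q) := by
  induction q using Polynomial.induction_on' with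
  | add p q hp hq => rw [map_add, map_add, hp, hq, derivative_add, map_add]
  | monomial n a =>
    rw [← C_mul_X_pow_eq_monomial, map_mul, map_pow, Derivation.leibniz, Derivation.leibniz_pow,
      RatFunc.algebraMap_X, hδ, RatFunc.algebraMap_C, ← RatFunc.algebraMap_eq_C,
      Derivation.map_algebraMap, derivative_C_mul_X_pow]
    simp only [smul_eq_mul, mul_zero, add_zero, nsmul_eq_mul, mul_one, map_mul, map_pow,
      RatFunc.algebraMap_X, map_natCast]
    rw [RatFunc.algebraMap_eq_C, RatFunc.algebraMap_C]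
    ring

/-- The ramification index in `k(x, y)`, `y² = f`, is decided by the parity of `ord_p f`. -/
theorem hyper_ramIdx (h2 : ringChar k ≠ 2) (hdeg : Module.finrank (RatFunc k) K = 2)
    {y : K} {f : k[X]} (hf : Squarefree f) (hd : 1 ≤ f.natDegree)
    (heq : y ^ 2 = algebraMap (RatFunc k) K (ι f)) {P : FunFld.Place k K} {p : FunFld.Place k (RatFunc k)} {e : ℕ}
    (he : FunFld.IsOverWith P p e) :
    (Odd (p.ord (ι f)) → e = 2) ∧ (Even (p.ord (ι f)) → e = 1) := by
  have hKF := isFunctionField_ratFunc k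
  have hf0 : f ≠ 0 := hf.ne_zero
  have hιf0 : ι f ≠ 0 := ratFunc_map_ne_zero hf0
  have h2' : (2 : k) ≠ 0 := Ring.two_ne_zero h2
  constructor
  · intro hodd
    have he2 := isOverWith_two_of_sq_eq_odd hKF hdeg he heq hodd
    exact (isOverWith_unique he he2).2
  · intro heven
    have he1 := isOverWith_one_of_sq_eq_even hKF hdeg he h2' heq
      (not_mem_range_of_sq_eq hf hd heq) hιf0 heven
    exact (isOverWith_unique he he1).2

theorem hyper_y_ne_zero {y : K} {f : k[X]} (hf : Squarefree f)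
    (heq : y ^ 2 = algebraMap (RatFunc k) K (ι f)) : y ≠ 0 := by
  intro h0
  rw [h0, zero_pow two_ne_zero] at heq
  have hfK : algebraMap (RatFunc k) K (ι f) ≠ 0 :=
    (_root_.map_ne_zero _).2 (ratFunc_map_ne_zero hf.ne_zero)
  exact hfK heq.symm

/-- `ord_P(dx) = ord_P(y)` at every finite place. -/
theorem hyper_valuation_DX_finite (h2 : ringChar k ≠ 2) (hdeg : Module.finrank (RatFunc k) K = 2)
    {y : K} {f : k[X]} (hf : Squarefree f) (hd : 1 ≤ f.natDegree)
    (heq : y ^ 2 = algebraMap (RatFunc k) K (ι f)) {P : FunFld.Place k K} {p : FunFld.Place k (RatFunc k)} {e : ℕ}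
    (he : FunFld.IsOverWith P p e) (hX : p.1 (RatFunc.X : RatFunc k) ≤ 1)
    (ψ : K →ₐ[k] LaurentSeries F) (hψ : LocRes.IsExpansionAt P.1 ψ) :
    Valued.v (LocRes.D F (ψ (algebraMap (RatFunc k) K RatFunc.X))) = P.1 y := by
  have hKF := isFunctionField_ratFunc k
  have hf0 : f ≠ 0 := hf.ne_zero
  have hιf0 : ι f ≠ 0 := ratFunc_map_ne_zero hf0
  have hy0 : y ≠ 0 := hyper_y_ne_zero hf heq
  obtain ⟨δ, hδ⟩ := exists_derivation (K := RatFunc k) RatFunc.transcendental_X RatFunc.adjoin_X
  -- an irreducible polynomial vanishing at `p`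
  obtain ⟨r, hr⟩ := p.2.2 (WithZero.exp (-1 : ℤ))
  have hr0 : r ≠ 0 := by
    rintro rfl
    rw [map_zero] at hr
    exact WithZero.exp_ne_zero hr.symm
  have hnum0 : r.num ≠ 0 := RatFunc.num_ne_zero hr0
  have hden0 : r.denom ≠ 0 := RatFunc.denom_ne_zero r
  have hnumlt : p.1 (ι r.num) < 1 := by
    by_contra hnot
    have h1 : p.1 (ι r.num) = 1 :=
      le_antisymm (ratFunc_val_poly_le_one hX _) (not_lt.1 hnot)
    have h3 : p.1 r = (p.1 (ι r.denom))⁻¹ := by
      conv_lhs => rw [← RatFunc.num_div_denom r]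
      rw [map_div₀, h1, one_div]
    have h4 : p.1 (ι r.denom) ≠ 0 := (Valuation.ne_zero_iff _).2 (ratFunc_map_ne_zero hden0)
    have h5 : 1 ≤ (p.1 (ι r.denom))⁻¹ :=
      (one_le_inv₀ (zero_lt_iff.2 h4)).2 (ratFunc_val_poly_le_one hX _)
    rw [← h3, hr, ← WithZero.exp_zero, WithZero.exp_le_exp] at h5
    omega
  obtain ⟨π, hπ, -, hπlt⟩ := ratFunc_exists_irreducible_of_val_lt_one hX r.num hnum0 hnumlt
  have hordπ := ratFunc_ord_irreducible hπ hπlt
  have hιπ0 : ι π ≠ 0 := ratFunc_map_ne_zero hπ.ne_zero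
  -- ramification index and order of `y`
  have hy2 := two_mul_ord_eq_of_sq_eq he heq
  have hcases : (e = 2 ∧ P.ord y = 1) ∨ (e = 1 ∧ P.ord y = 0) := by
    by_cases hπf : π ∣ f
    · have hordf := ratFunc_ord_of_squarefree hπ hπlt hf hπf
      have he2 := (hyper_ramIdx h2 hdeg hf hd heq he).1 (by rw [hordf]; exact odd_one)
      left
      refine ⟨he2, ?_⟩
      rw [he2, hordf] at hy2
      push_cast at hy2
      omega
    · have hcop : IsCoprime π f := (Irreducible.coprime_iff_not_dvd hπ).2 hπf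
      have hvf : p.1 (ι f) = 1 := ratFunc_val_eq_one_of_isCoprime hX hπlt hcop
      have hordf : p.ord (ι f) = 0 := by
        unfold FunFld.Place.ord
        rw [hvf]; simp
      have he1 := (hyper_ramIdx h2 hdeg hf hd heq he).2 (by rw [hordf]; exact Even.zero)
      right
      refine ⟨he1, ?_⟩
      rw [he1, hordf] at hy2
      omega
  -- the derivative of the expansion of `π(x)`
  have hπK0 : algebraMap (RatFunc k) K (ι π) ≠ 0 := (_root_.map_ne_zero _).2 hιπ0
  have hvπ : Valued.v (ψ (algebraMap (RatFunc k) K (ι π))) = WithZero.exp (-((e : ℕ) : ℤ)) := by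
    rw [hψ.1, val_eq_exp_neg_ord P hπK0, ord_algebraMap_of_isOverWith he, hordπ, mul_one]
  have hecast : (((e : ℕ) : ℤ) : F) ≠ 0 := by
    rcases hcases with ⟨rfl, -⟩ | ⟨rfl, -⟩
    · push_cast; exact two_ne_zero_of_ringChar_ne h2
    · push_cast; exact one_ne_zero
  have hD := valuation_D_of_cast_ne_zero hvπ hecast
  have h1 := valuation_D_algebraMap_eq δ hδ he ψ hψ (ι π)
  rw [ratFunc_deriv_poly δ hδ, hD] at h1
  -- `π'` is a unit at `p`
  have hπ'0 : derivative π ≠ 0 := by
    intro h0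
    rw [h0, map_zero, map_zero, zero_pow (isOverWith_pos he).ne', zero_mul] at h1
    exact WithZero.exp_ne_zero h1
  have hπdeg : π.natDegree ≠ 0 := by
    intro h0
    rw [Polynomial.eq_C_of_natDegree_eq_zero h0, derivative_C] at hπ'0
    exact hπ'0 rfl
  have hndvd : ¬ π ∣ derivative π := by
    intro hdvd
    have := Polynomial.natDegree_le_of_dvd hdvd hπ'0
    have := Polynomial.natDegree_derivative_lt hπdeg
    omega
  have hcop' : IsCoprime π (derivative π) := (Irreducible.coprime_iff_not_dvd hπ).2 hndvd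
  have hvπ' : p.1 (ι (derivative π)) = 1 := ratFunc_val_eq_one_of_isCoprime hX hπlt hcop'
  rw [hvπ', one_pow, one_mul] at h1
  rw [← h1, val_eq_exp_neg_ord P hy0]
  rcases hcases with ⟨rfl, hy1⟩ | ⟨rfl, hy1⟩
  · rw [hy1]; norm_num
  · rw [hy1]; norm_num

/-- `ord_P(dx) - ord_P(y) = e (g - 1)` at the places above infinity. -/
theorem hyper_valuation_DX_inf (h2 : ringChar k ≠ 2) (hdeg : Module.finrank (RatFunc k) K = 2)
    {y : K} {f : k[X]} (hf : Squarefree f) (hd : 1 ≤ f.natDegree)
    (heq : y ^ 2 = algebraMap (RatFunc k) K (ι f)) {P : FunFld.Place k K}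
    {p : FunFld.Place k (RatFunc k)} {e : ℕ}
    (he : FunFld.IsOverWith P p e) (hX : p.ord (RatFunc.X : RatFunc k) < 0)
    (ψ : K →ₐ[k] LaurentSeries F) (hψ : LocRes.IsExpansionAt P.1 ψ) :
    Valued.v (LocRes.D F (ψ (algebraMap (RatFunc k) K RatFunc.X))) =
      P.1 y * WithZero.exp (-((e : ℤ) * ((((f.natDegree - 1) / 2 : ℕ) : ℤ) - 1))) := by
  have hKF := isFunctionField_ratFunc k
  have hf0 : f ≠ 0 := hf.ne_zero
  have hy0 : y ≠ 0 := hyper_y_ne_zero hf heq
  have hordf := ratFunc_inf_ord_poly hX hf0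
  have hordX := ratFunc_inf_ord_X hX
  have hy2 := two_mul_ord_eq_of_sq_eq he heq
  rw [hordf] at hy2
  have hx0 : algebraMap (RatFunc k) K (RatFunc.X : RatFunc k) ≠ 0 :=
    (_root_.map_ne_zero _).2 RatFunc.X_ne_zero
  have hvx : Valued.v (ψ (algebraMap (RatFunc k) K RatFunc.X)) =
      WithZero.exp (-(-((e : ℕ) : ℤ))) := by
    rw [hψ.1, val_eq_exp_neg_ord P hx0, ord_algebraMap_of_isOverWith he, hordX]
    congr 1; ring
  have hram := hyper_ramIdx h2 hdeg hf hd heq he
  rw [hordf] at hram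
  have h2F : (2 : F) ≠ 0 := two_ne_zero_of_ringChar_ne h2
  rcases Nat.even_or_odd f.natDegree with hev | hodd
  · have he1 : e = 1 := hram.2 ((Int.even_coe_nat _).2 hev).neg
    subst he1
    have hcast : ((-((1 : ℕ) : ℤ) : ℤ) : F) ≠ 0 := by
      push_cast; exact neg_ne_zero.2 one_ne_zero
    rw [valuation_D_of_cast_ne_zero hvx hcast, val_eq_exp_neg_ord P hy0, ← WithZero.exp_add]
    congr 1
    obtain ⟨j, hj⟩ := hev
    have hj1 : 1 ≤ j := by omega
    have h3 : (f.natDegree - 1) / 2 = j - 1 := by omega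
    rw [h3]
    rw [hj] at hy2
    push_cast at hy2 ⊢
    have : ((j - 1 : ℕ) : ℤ) = (j : ℤ) - 1 := by omega
    rw [this]
    linarith
  · have he2 : e = 2 := hram.1 ((Int.odd_coe_nat _).2 hodd).neg
    subst he2
    have hcast : ((-((2 : ℕ) : ℤ) : ℤ) : F) ≠ 0 := by
      push_cast; exact neg_ne_zero.2 h2F
    rw [valuation_D_of_cast_ne_zero hvx hcast, val_eq_exp_neg_ord P hy0, ← WithZero.exp_add]
    congr 1
    obtain ⟨j, hj⟩ := hodd
    have h3 : (f.natDegree - 1) / 2 = j := by omega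
    rw [h3]
    rw [hj] at hy2
    push_cast at hy2 ⊢
    linarith

/-- The divisor of `dx / y` is `(g - 1) · conorm(∞)`, read through any expansion. -/
theorem hyper_valuation_DX [FiniteDimensional (RatFunc k) K] (h2 : ringChar k ≠ 2)
    (hdeg : Module.finrank (RatFunc k) K = 2)
    {y : K} {f : k[X]} (hf : Squarefree f) (hd : 1 ≤ f.natDegree)
    (heq : y ^ 2 = algebraMap (RatFunc k) K (ι f))
    {Pinf : FunFld.Place k (RatFunc k)} (hinf : Pinf.ord (RatFunc.X : RatFunc k) < 0)
    (P : FunFld.Place k K)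
    (ψ : K →ₐ[k] LaurentSeries F) (hψ : LocRes.IsExpansionAt P.1 ψ) :
    Valued.v (LocRes.D F (ψ (algebraMap (RatFunc k) K RatFunc.X))) =
      P.1 y * WithZero.exp (-(FunFld.conorm K
        (Finsupp.single Pinf ((((f.natDegree - 1) / 2 : ℕ) : ℤ) - 1)) P)) := by
  have hKF := isFunctionField_ratFunc k
  obtain ⟨p, e, he⟩ := exists_isOverWith hKF P
  rw [conorm_apply hKF _ he]
  by_cases hX : p.1 (RatFunc.X : RatFunc k) ≤ 1
  · have hne : p ≠ Pinf := by
      rintro rfl
      rw [← ord_nonneg_iff] at hX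
      omega
    rw [Finsupp.single_eq_of_ne' (Ne.symm hne), mul_zero, neg_zero, WithZero.exp_zero, mul_one]
    exact hyper_valuation_DX_finite h2 hdeg hf hd heq he hX ψ hψ
  · have hX' : p.ord (RatFunc.X : RatFunc k) < 0 := by
      rw [← ord_nonneg_iff] at hX
      omega
    have hp : p = Pinf := ratFunc_inf_unique hX' hinf
    subst hp
    rw [Finsupp.single_eq_same]
    exact hyper_valuation_DX_inf h2 hdeg hf hd heq he hX' ψ hψ

/-- Regularity of `z dx` on a hyperelliptic curve. -/
theorem hyper_regular_iff [FiniteDimensional (RatFunc k) K] (h2 : ringChar k ≠ 2)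
    (hdeg : Module.finrank (RatFunc k) K = 2)
    {y : K} {f : k[X]} (hf : Squarefree f) (hd : 1 ≤ f.natDegree)
    (heq : y ^ 2 = algebraMap (RatFunc k) K (ι f))
    {Pinf : FunFld.Place k (RatFunc k)} (hinf : Pinf.ord (RatFunc.X : RatFunc k) < 0)
    (P : FunFld.Place k K)
    (ψ : K →ₐ[k] LaurentSeries F) (hψ : LocRes.IsExpansionAt P.1 ψ) (z : K) :
    LocRes.vDiff ψ z (algebraMap (RatFunc k) K RatFunc.X) ≤ 1 ↔
      P.1 (z * y) ≤ WithZero.exp (FunFld.conorm K
        (Finsupp.single Pinf ((((f.natDegree - 1) / 2 : ℕ) : ℤ) - 1)) P) := by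
  unfold LocRes.vDiff
  rw [map_mul, hψ.1, hyper_valuation_DX h2 hdeg hf hd heq hinf P ψ hψ, ← mul_assoc, ← map_mul]
  set c := FunFld.conorm K
    (Finsupp.single Pinf ((((f.natDegree - 1) / 2 : ℕ) : ℤ) - 1)) P with hc
  constructor
  · intro h
    have := mul_le_mul_left h (WithZero.exp c)
    rwa [mul_assoc, ← WithZero.exp_add, neg_add_cancel, WithZero.exp_zero, mul_one, one_mul]
      at this
  · intro h
    have := mul_le_mul_left h (WithZero.exp (-c))
    rwa [← WithZero.exp_add, add_neg_cancel, WithZero.exp_zero] at this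

/-- Elements of `L(n · conorm ∞)` in a hyperelliptic field are `a(x) + b(x) y` with bounded
degrees. -/
theorem exists_polys_of_mem_L_conorm_inf' [FiniteDimensional (RatFunc k) K]
    (h2 : ringChar k ≠ 2) (hdeg : Module.finrank (RatFunc k) K = 2)
    {Pinf : FunFld.Place k (RatFunc k)} (hinf : Pinf.ord (RatFunc.X : RatFunc k) < 0)
    {y : K} {f : k[X]} (hf : Squarefree f) (hd : 1 ≤ f.natDegree)
    (heq : y ^ 2 = algebraMap (RatFunc k) K (ι f))
    (n : ℕ) {z : K}
    (hz : z ∈ FunFld.L (FunFld.conorm K (Finsupp.single Pinf (n : ℤ)))) :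
    ∃ a ∈ Polynomial.degreeLT k (n + 1),
      ∃ b : k[X], (b = 0 ∨ 2 * b.natDegree + f.natDegree ≤ 2 * n) ∧
        z = algebraMap (RatFunc k) K (ι a) + algebraMap (RatFunc k) K (ι b) * y := by
  classical
  have hKF := isFunctionField_ratFunc k
  have hf0 : f ≠ 0 := hf.ne_zero
  have hyF := not_mem_range_of_sq_eq hf hd heq
  obtain ⟨α, β, rfl⟩ := Groth.Agent.Lib.H40Quad.exists_add_mul_eq hdeg heq hyF z
  obtain ⟨σ, hσ⟩ := Groth.Agent.Lib.H40Quad.exists_algEquiv_neg hdeg heq hyF
  have hσz := map_mem_L_conorm σ _ hz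
  rw [map_add, map_mul, σ.commutes, σ.commutes, hσ] at hσz
  have h2' : (2 : k) ≠ 0 := Ring.two_ne_zero h2
  have hK2 : (2 : K) ≠ 0 := by
    have := (algebraMap k K).injective.ne h2'
    rwa [map_ofNat, map_zero] at this
  have hinv : algebraMap k K (2⁻¹) = (2 : K)⁻¹ := by rw [map_inv₀, map_ofNat]
  have hα : algebraMap (RatFunc k) K α ∈
      FunFld.L (FunFld.conorm K (Finsupp.single Pinf (n : ℤ))) := by
    have h3 : algebraMap (RatFunc k) K α = (2⁻¹ : k) •
        ((algebraMap (RatFunc k) K α + algebraMap (RatFunc k) K β * y) +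
          (algebraMap (RatFunc k) K α + algebraMap (RatFunc k) K β * -y)) := by
      rw [Algebra.smul_def, hinv]
      field_simp
      ring
    rw [h3]
    exact Submodule.smul_mem _ _ (Submodule.add_mem _ hz hσz)
  have hβ : algebraMap (RatFunc k) K β * y ∈
      FunFld.L (FunFld.conorm K (Finsupp.single Pinf (n : ℤ))) := by
    have h3 : algebraMap (RatFunc k) K β * y = (2⁻¹ : k) •
        ((algebraMap (RatFunc k) K α + algebraMap (RatFunc k) K β * y) -
          (algebraMap (RatFunc k) K α + algebraMap (RatFunc k) K β * -y)) := by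
      rw [Algebra.smul_def, hinv]
      field_simp
      ring
    rw [h3]
    exact Submodule.smul_mem _ _ (Submodule.sub_mem _ hz hσz)
  obtain ⟨a, rfl, ha⟩ := exists_poly_of_mem_L_conorm_inf hinf n hα
  -- the square of `β y`
  have hγ : algebraMap (RatFunc k) K (β ^ 2 * ι f) ∈
      FunFld.L (FunFld.conorm K (Finsupp.single Pinf ((2 * n : ℕ) : ℤ))) := by
    have h3 : algebraMap (RatFunc k) K (β ^ 2 * ι f) = (algebraMap (RatFunc k) K β * y) ^ 2 := by
      rw [mul_pow, heq, map_mul, map_pow]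
    rw [h3]
    have h4 : Finsupp.single Pinf ((2 * n : ℕ) : ℤ) = (2 : ℤ) • Finsupp.single Pinf (n : ℤ) := by
      rw [Finsupp.smul_single]; push_cast; simp
    intro Q
    obtain ⟨P₀, e, he⟩ := exists_isOverWith hKF Q
    have h5 := hβ Q
    rw [conorm_apply hKF _ he] at h5 ⊢
    rw [map_pow, h4, Finsupp.smul_apply, smul_eq_mul]
    calc Q.1 (algebraMap (RatFunc k) K β * y) ^ 2
        ≤ WithZero.exp ((e : ℤ) * (Finsupp.single Pinf (n : ℤ)) P₀) ^ 2 :=
          pow_le_pow_left₀ zero_le h5 2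
      _ = WithZero.exp ((e : ℤ) * (2 * (Finsupp.single Pinf (n : ℤ)) P₀)) := by
          rw [← WithZero.exp_nsmul]; congr 1; simp; ring
  obtain ⟨c, hc, hcdeg⟩ := exists_poly_of_mem_L_conorm_inf hinf (2 * n) hγ
  -- `β` is a polynomial
  obtain ⟨b, rfl⟩ := ratFunc_eq_poly_of_forall_finite β (by
    intro P₀ hP₀
    by_cases hβ0 : β = 0
    · rw [hβ0, map_zero]; exact zero_le_one
    have hc0 : c ≠ 0 := by
      rintro rfl
      rw [map_zero] at hc
      exact (mul_ne_zero (pow_ne_zero 2 hβ0) (ratFunc_map_ne_zero hf0)) hc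
    have h3 : P₀.ord (β ^ 2 * ι f) = 2 * P₀.ord β + P₀.ord (ι f) := by
      rw [ord_mul P₀ (pow_ne_zero 2 hβ0) (ratFunc_map_ne_zero hf0), ord_pow]
      norm_num
    have h4 : 0 ≤ P₀.ord (ι c) := by
      rw [ord_nonneg_iff]; exact ratFunc_val_poly_le_one hP₀ c
    rw [hc] at h3
    rw [← ord_nonneg_iff]
    rcases ratFunc_ord_squarefree_le_one hP₀ hf with h5 | h5 <;> omega)
  refine ⟨a, ha, b, ?_, rfl⟩
  have hbc : b ^ 2 * f = c := by
    apply IsFractionRing.injective k[X] (RatFunc k)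
    rw [map_mul, map_pow]
    exact hc
  by_cases hb0 : b = 0
  · exact Or.inl hb0
  right
  have hc0 : c ≠ 0 := by
    rw [← hbc]; exact mul_ne_zero (pow_ne_zero 2 hb0) hf0
  rw [Polynomial.mem_degreeLT, degree_eq_natDegree hc0] at hcdeg
  have h6 : c.natDegree < 2 * n + 1 := by exact_mod_cast hcdeg
  have h7 : c.natDegree = 2 * b.natDegree + f.natDegree := by
    rw [← hbc, natDegree_mul (pow_ne_zero 2 hb0) hf0, natDegree_pow]
  omega


end HyperDX

/-- Basis of the regular differentials of a hyperelliptic function field, `char ≠ 2`. -/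
theorem hyper_regularDifferentials_basis {k : Type u} {K : Type v} [Field k] [Field K]
    [Algebra k K] [Algebra (RatFunc k) K] [IsScalarTower k (RatFunc k) K]
    (hK : FunFld.IsFunctionField k K) (hdeg : Module.finrank (RatFunc k) K = 2)
    (h2 : ringChar k ≠ 2)
    (y : K) (f : Polynomial k) (hf : Squarefree f) (hd : 1 ≤ f.natDegree)
    (heq : y ^ 2 = algebraMap (RatFunc k) K (algebraMap (Polynomial k) (RatFunc k) f))
    (F : FunFld.Place k K → Type w) [∀ P, Field (F P)] [∀ P, Algebra k (F P)]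
    (φ : ∀ P, K →ₐ[k] LaurentSeries (F P)) (hφ : ∀ P, LocRes.IsExpansionAt P.1 (φ P)) :
    (∀ i : ℕ, i < FunFld.genus k K → ∀ P,
      LocRes.vDiff (φ P) (algebraMap (RatFunc k) K RatFunc.X ^ i / y)
        (algebraMap (RatFunc k) K RatFunc.X) ≤ 1) ∧
    ∀ z : K, (∀ P, LocRes.vDiff (φ P) z (algebraMap (RatFunc k) K RatFunc.X) ≤ 1) →
      ∃ a : Polynomial k, a.degree < (FunFld.genus k K : WithBot ℕ) ∧
        z = algebraMap (RatFunc k) K (algebraMap (Polynomial k) (RatFunc k) a) / y := by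
  classical
  have hKF := isFunctionField_ratFunc k
  haveI : FiniteDimensional (RatFunc k) K :=
    Module.finite_of_finrank_pos (by rw [hdeg]; norm_num)
  have hXc : (RatFunc.X : RatFunc k) ∉ Set.range (algebraMap k (RatFunc k)) := by
    rintro ⟨c, hc⟩
    exact (RatFunc.transcendental_X (K := k)) (hc ▸ isAlgebraic_algebraMap c)
  obtain ⟨-, Pinf, hinf⟩ := exists_zero_and_exists_pole hKF _ hXc
  have hg := hyper_genus_ratFunc hK h2 hdeg hf hd heq
  have hy0 : y ≠ 0 := hyper_y_ne_zero hf heq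
  rw [hg]
  set g := (f.natDegree - 1) / 2 with hgdef
  constructor
  · intro i hi P
    rw [hyper_regular_iff h2 hdeg hf hd heq hinf P (φ P) (hφ P), div_mul_cancel₀ _ hy0]
    have hmem : (X : k[X]) ^ i ∈ Polynomial.degreeLT k (g - 1 + 1) := by
      rw [Polynomial.mem_degreeLT]
      refine lt_of_le_of_lt (Polynomial.degree_X_pow_le i) ?_
      exact_mod_cast (by omega : i < g - 1 + 1)
    have h1 := poly_mem_L_conorm_inf (K := K) hinf (g - 1) hmem P
    rw [map_pow, RatFunc.algebraMap_X, map_pow] at h1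
    have hcast : ((g - 1 : ℕ) : ℤ) = (g : ℤ) - 1 := by omega
    rw [hcast] at h1
    exact h1
  · intro z hz
    have hw : z * y ∈ FunFld.L (FunFld.conorm K (Finsupp.single Pinf ((g : ℤ) - 1))) := by
      intro P
      exact (hyper_regular_iff h2 hdeg hf hd heq hinf P (φ P) (hφ P) z).1 (hz P)
    by_cases hg0 : g = 0
    · -- genus zero: no regular differentials
      have hdegneg : (FunFld.conorm K (Finsupp.single Pinf ((g : ℤ) - 1))).deg < 0 := by
        rw [deg_conorm hKF, hdeg, deg_single, ratFunc_inf_deg hinf, hg0]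
        norm_num
      rw [L_eq_bot_of_deg_neg hK _ hdegneg, Submodule.mem_bot] at hw
      have hz0 : z = 0 := by
        rcases mul_eq_zero.1 hw with h | h
        · exact h
        · exact absurd h hy0
      refine ⟨0, ?_, ?_⟩
      · rw [Polynomial.degree_zero]
        exact WithBot.bot_lt_coe _
      · rw [hz0, map_zero, map_zero, zero_div]
    · have hcast : ((g - 1 : ℕ) : ℤ) = (g : ℤ) - 1 := by omega
      rw [← hcast] at hw
      obtain ⟨a, ha, b, hb, hzy⟩ :=
        exists_polys_of_mem_L_conorm_inf' h2 hdeg hinf hf hd heq (g - 1) hw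
      have hb0 : b = 0 := by
        rcases hb with hb | hb
        · exact hb
        · exfalso; omega
      rw [hb0, map_zero, map_zero, zero_mul, add_zero] at hzy
      refine ⟨a, ?_, ?_⟩
      · rw [Polynomial.mem_degreeLT] at ha
        have : g - 1 + 1 = g := by omega
        rwa [this] at ha
      · rw [← hzy, mul_div_cancel_right₀ _ hy0]

end Groth.Agent.Lib.H40FunFld
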