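import Groth.Agent.Lib.H40FunFldRegDiff5
import Groth.Agent.Lib.H40FunFldHyperDiff

set_option autoImplicit false
set_option linter.style.haveILetI false
set_option linter.unusedSectionVars false
open FunFld Polynomial

namespace Groth.Agent.Lib.H40FunFld

open IntermediateField

universe u v w

section RatDerivOrd

variable {k : Type u} [Field k]

local notation "ι" => algebraMap k[X] (RatFunc k)

/-- `d/dX` preserves the local ring at every finite place of `k(X)`. -/
theorem ratFunc_val_deriv_le_one (δ : Derivation k (RatFunc k) (RatFunc k))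
    (hδ : δ (RatFunc.X : RatFunc k) = 1) {p : FunFld.Place k (RatFunc k)}
    (hX : p.1 (RatFunc.X : RatFunc k) ≤ 1) {g : RatFunc k} (hg : p.1 g ≤ 1) :
    p.1 (δ g) ≤ 1 := by
  have hden0 : g.denom ≠ 0 := RatFunc.denom_ne_zero g
  have hιden0 : ι g.denom ≠ 0 := ratFunc_map_ne_zero hden0
  have hden1 : p.1 (ι g.denom) = 1 := by
    refine le_antisymm (ratFunc_val_poly_le_one hX _) ?_
    by_contra hlt
    push Not at hlt
    have hnum1 : p.1 (ι g.num) = 1 :=
      ratFunc_val_eq_one_of_isCoprime hX hlt (RatFunc.isCoprime_num_denom g).symm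
    have h3 : p.1 g = (p.1 (ι g.denom))⁻¹ := by
      conv_lhs => rw [← RatFunc.num_div_denom g]
      rw [map_div₀, hnum1, one_div]
    have h4 : p.1 (ι g.denom) ≠ 0 := (Valuation.ne_zero_iff _).2 hιden0
    have h5 : 1 < (p.1 (ι g.denom))⁻¹ := (one_lt_inv₀ (zero_lt_iff.2 h4)).2 hlt
    rw [← h3] at h5
    exact absurd hg (not_le.2 h5)
  conv_lhs => rw [← RatFunc.num_div_denom g]
  rw [Derivation.leibniz_div, ratFunc_deriv_poly δ hδ, ratFunc_deriv_poly δ hδ]
  simp only [smul_eq_mul, map_mul, map_pow, map_inv₀, hden1, inv_one, one_pow, one_mul]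
  refine le_trans (Valuation.map_sub _ _ _) (max_le ?_ ?_)
  · rw [map_mul, hden1, one_mul]; exact ratFunc_val_poly_le_one hX _
  · rw [map_mul]
    calc p.1 (ι g.num) * p.1 (ι (derivative g.denom)) ≤ 1 * 1 :=
          mul_le_mul' (ratFunc_val_poly_le_one hX _) (ratFunc_val_poly_le_one hX _)
      _ = 1 := one_mul _

/-- `d/dX` lowers the order at a finite place with separable uniformizer `π` by exactly one when
the order is nonzero in `k`. -/
theorem ratFunc_ord_deriv_of_cast_ne_zero (δ : Derivation k (RatFunc k) (RatFunc k))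
    (hδ : δ (RatFunc.X : RatFunc k) = 1) {p : FunFld.Place k (RatFunc k)} {π : k[X]}
    (hπ : Irreducible π) (hπsep : π.Separable) (hπlt : p.1 (ι π) < 1)
    {g : RatFunc k} (hg0 : g ≠ 0) (hord : ((p.ord g : ℤ) : k) ≠ 0) :
    δ g ≠ 0 ∧ p.ord (δ g) = p.ord g - 1 := by
  have hX := ratFunc_val_X_le_one hπ.ne_zero hπlt
  set u : RatFunc k := ι π with hu
  have hu0 : u ≠ 0 := ratFunc_map_ne_zero hπ.ne_zero
  have ha : p.1 u = WithZero.exp (-1 : ℤ) := by
    rw [val_eq_exp_neg_ord p hu0, ratFunc_ord_irreducible hπ hπlt]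
  have hδu : p.1 (δ u) = 1 := by
    rw [hu, ratFunc_deriv_poly δ hδ]
    exact ratFunc_val_eq_one_of_isCoprime hX hπlt hπsep
  set n := p.ord g with hn
  set g₁ := g * u ^ (-n) with hg₁
  have hfv : p.1 g = WithZero.exp (-n) := val_eq_exp_neg_ord p hg0
  have hgv : p.1 g₁ = 1 := by
    rw [hg₁, map_mul, map_zpow₀, ha, hfv, ← WithZero.exp_zsmul, ← WithZero.exp_add]
    simp
  have hfg : g = u ^ n * g₁ := by
    rw [hg₁, mul_comm g, ← mul_assoc, ← zpow_add₀ hu0]; simp
  have hδg := ratFunc_val_deriv_le_one δ hδ hX hgv.le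
  have hnK : p.1 ((n : ℤ) : RatFunc k) = 1 := by
    have : ((n : ℤ) : RatFunc k) = algebraMap k (RatFunc k) ((n : ℤ) : k) := by simp
    rw [this]
    exact val_const p hord
  have hδf : δ g = (n : RatFunc k) * u ^ (n - 1) * δ u * g₁ + u ^ n * δ g₁ := by
    conv_lhs => rw [hfg]
    rw [Derivation.leibniz, deriv_zpow δ hu0]
    simp only [smul_eq_mul]
    ring
  have h1 : p.1 ((n : RatFunc k) * u ^ (n - 1) * δ u * g₁) = WithZero.exp (-(n - 1)) := by
    rw [map_mul, map_mul, map_mul, hnK, hgv, hδu, map_zpow₀, ha, ← WithZero.exp_zsmul]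
    simp
  have h2 : p.1 (u ^ n * δ g₁) < WithZero.exp (-(n - 1)) := by
    rw [map_mul, map_zpow₀, ha, ← WithZero.exp_zsmul]
    calc WithZero.exp (n • (-1 : ℤ)) * p.1 (δ g₁) ≤ WithZero.exp (n • (-1 : ℤ)) * 1 :=
          mul_le_mul' le_rfl hδg
      _ = WithZero.exp (n • (-1 : ℤ)) := mul_one _
      _ < WithZero.exp (-(n - 1)) := by
          rw [WithZero.exp_lt_exp]; simp
  have h3 : p.1 (δ g) = WithZero.exp (-(n - 1)) := by
    rw [hδf, Valuation.map_add_eq_of_lt_left, h1]
    rw [h1]; exact h2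
  have h4 : δ g ≠ 0 := by
    intro h0; rw [h0, map_zero] at h3; exact WithZero.exp_ne_zero h3.symm
  refine ⟨h4, ?_⟩
  rw [FunFld.Place.ord, h3, WithZero.log_exp]
  ring

/-- At infinity `d/dX` raises the order by exactly one when the order is nonzero in `k`. -/
theorem ratFunc_ord_deriv_inf_of_cast_ne_zero (δ : Derivation k (RatFunc k) (RatFunc k))
    (hδ : δ (RatFunc.X : RatFunc k) = 1) {p : FunFld.Place k (RatFunc k)}
    (hX : p.ord (RatFunc.X : RatFunc k) < 0)
    {g : RatFunc k} (hg0 : g ≠ 0) (hord : ((p.ord g : ℤ) : k) ≠ 0) :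
    δ g ≠ 0 ∧ p.ord (δ g) = p.ord g + 1 := by
  have hX0 : (RatFunc.X : RatFunc k) ≠ 0 := RatFunc.X_ne_zero
  set t : RatFunc k := (RatFunc.X : RatFunc k)⁻¹ with ht
  have htr : Transcendental k t := fun h =>
    (RatFunc.transcendental_X (K := k)) (by simpa [ht] using h.inv)
  have htop : k⟮t⟯ = ⊤ := by rw [ht, adjoin_inv_eq]; exact RatFunc.adjoin_X
  set δ' : Derivation k (RatFunc k) (RatFunc k) := (-(RatFunc.X : RatFunc k) ^ 2) • δ with hδ'
  have hδ't : δ' t = 1 := by
    rw [hδ', Derivation.smul_apply, ht, Derivation.leibniz_inv, hδ, smul_eq_mul, smul_eq_mul]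
    field_simp
  have hordX := ratFunc_inf_ord_X hX
  have hat : p.1 (t - algebraMap k (RatFunc k) 0) = WithZero.exp (-1 : ℤ) := by
    rw [map_zero, sub_zero, ht, map_inv₀, val_eq_exp_neg_ord p hX0, hordX, ← WithZero.exp_neg]
    congr 1
  obtain ⟨h1, h2⟩ := ord_deriv_of_cast_ne_zero htr htop δ' hδ't hat hg0 hord
  have h3 : δ' g = -(RatFunc.X : RatFunc k) ^ 2 * δ g := by
    rw [hδ', Derivation.smul_apply, smul_eq_mul]
  have hδg0 : δ g ≠ 0 := by
    intro h0
    rw [h3, h0, mul_zero] at h1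
    exact h1 rfl
  refine ⟨hδg0, ?_⟩
  have hX2 : -(RatFunc.X : RatFunc k) ^ 2 ≠ 0 := neg_ne_zero.2 (pow_ne_zero 2 hX0)
  rw [h3, ord_mul p hX2 hδg0] at h2
  have h4 : p.ord (-(RatFunc.X : RatFunc k) ^ 2) = -2 := by
    unfold FunFld.Place.ord
    rw [Valuation.map_neg, map_pow, val_eq_exp_neg_ord p hX0, hordX, ← WithZero.exp_nsmul,
      WithZero.log_exp]
    simp
  rw [h4] at h2
  linarith

end RatDerivOrd

section ASLocalPerf

variable {k : Type u} [Field k] {K : Type v} [Field K] [Algebra k K] [Algebra (RatFunc k) K]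
  [IsScalarTower k (RatFunc k) K] {F : Type w} [Field F] [Algebra k F]

local notation "ι" => algebraMap k[X] (RatFunc k)

/-- Above a pole of odd order of `f`: `e = 2` and `v(dx) · v_p(f')² = exp(-(ord_p f - 1))`. -/
theorem as_valuation_DX_of_pole (h2 : ringChar k = 2) (hdeg : Module.finrank (RatFunc k) K = 2)
    {y : K} (hy : y ∉ Set.range (algebraMap (RatFunc k) K)) {f : RatFunc k}
    (heq : y ^ 2 + y = algebraMap (RatFunc k) K f)
    (hodd : ∀ p : FunFld.Place k (RatFunc k), p.ord f < 0 → Odd (p.ord f))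
    {P : FunFld.Place k K} {p : FunFld.Place k (RatFunc k)} {e : ℕ}
    (he : FunFld.IsOverWith P p e) (hpole : p.ord f < 0)
    (δ : Derivation k (RatFunc k) (RatFunc k)) (hδ : δ (RatFunc.X : RatFunc k) = 1)
    (ψ : K →ₐ[k] LaurentSeries F) (hψ : LocRes.IsExpansionAt P.1 ψ) :
    e = 2 ∧ p.1 (δ f) ^ 2 * Valued.v (LocRes.D F (ψ (algebraMap (RatFunc k) K RatFunc.X))) =
      WithZero.exp (-(p.ord f - 1)) := by
  have hKF := isFunctionField_ratFunc k
  obtain ⟨he2, hordy⟩ := as_pole hKF h2 hdeg hy heq hodd he hpole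
  refine ⟨he2, ?_⟩
  subst he2
  have hy0 : y ≠ 0 := by
    rintro rfl; rw [ord_zero] at hordy; omega
  have h1 := valuation_D_algebraMap_eq δ hδ he ψ hψ f
  have h2L : (2 : LaurentSeries F) = 0 := by
    have := congrArg (algebraMap F (LaurentSeries F)) (two_eq_zero_of_ringChar' (F := F) h2)
    rwa [map_ofNat, map_zero] at this
  have h4 : LocRes.D F (ψ (algebraMap (RatFunc k) K f)) = LocRes.D F (ψ y) := by
    rw [← heq, map_add, map_pow, map_add, pow_two, Derivation.leibniz, smul_eq_mul]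
    have : ψ y * LocRes.D F (ψ y) + ψ y * LocRes.D F (ψ y) =
        2 * (ψ y * LocRes.D F (ψ y)) := by ring
    rw [this, h2L, zero_mul, zero_add]
  have hvy : Valued.v (ψ y) = WithZero.exp (-(p.ord f)) := by
    rw [hψ.1, val_eq_exp_neg_ord P hy0, hordy]
  have h3 : Valued.v (LocRes.D F (ψ y)) = WithZero.exp (-(p.ord f - 1)) :=
    valuation_D_of_cast_ne_zero hvy (cast_odd_ne_zero h2 (hodd p hpole))
  rw [h4, h3] at h1
  exact h1.symm

/-- The order of `dx` at every place of an Artin–Schreier curve in characteristic two over a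
perfect field, read through any expansion. -/
theorem as_valuation_DX_perfect [PerfectField k] (h2 : ringChar k = 2)
    (hdeg : Module.finrank (RatFunc k) K = 2)
    {y : K} (hy : y ∉ Set.range (algebraMap (RatFunc k) K)) {f : RatFunc k}
    (heq : y ^ 2 + y = algebraMap (RatFunc k) K f)
    (hodd : ∀ p : FunFld.Place k (RatFunc k), p.ord f < 0 → Odd (p.ord f))
    {pinf : FunFld.Place k (RatFunc k)}
    (hpinf : pinf.ord (RatFunc.X : RatFunc k) < 0) (P : FunFld.Place k K)
    (ψ : K →ₐ[k] LaurentSeries F) (hψ : LocRes.IsExpansionAt P.1 ψ) :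
    Valued.v (LocRes.D F (ψ (algebraMap (RatFunc k) K RatFunc.X))) =
      WithZero.exp (-(FunFld.conorm K (asB0 f pinf) P)) := by
  have hKF := isFunctionField_ratFunc k
  haveI : FiniteDimensional (RatFunc k) K :=
    Module.finite_of_finrank_pos (by rw [hdeg]; norm_num)
  obtain ⟨δ, hδ⟩ := exists_derivation (K := RatFunc k) RatFunc.transcendental_X RatFunc.adjoin_X
  obtain ⟨p, e, he⟩ := exists_isOverWith hKF P
  rw [conorm_apply hKF _ he, asB0_apply]
  set c := Valued.v (LocRes.D F (ψ (algebraMap (RatFunc k) K RatFunc.X))) with hc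
  rcases lt_or_ge 1 (p.1 (RatFunc.X : RatFunc k)) with hX | hX
  · -- infinity
    have hXord : p.ord (RatFunc.X : RatFunc k) < 0 := (ord_neg_iff_one_lt p _).2 hX
    have hpp : p = pinf := ratFunc_inf_place_unique hXord hpinf
    rw [if_pos hpp]
    by_cases hpole : p.ord f < 0
    · rw [if_pos hpole]
      have hf0 : f ≠ 0 := by
        rintro rfl; rw [ord_zero] at hpole; omega
      obtain ⟨he2, h1⟩ := as_valuation_DX_of_pole h2 hdeg hy heq hodd he hpole δ hδ ψ hψ
      have hcast : ((p.ord f : ℤ) : k) ≠ 0 := cast_odd_ne_zero h2 (hodd p hpole)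
      obtain ⟨hδf0, hδford⟩ := ratFunc_ord_deriv_inf_of_cast_ne_zero δ hδ hXord hf0 hcast
      rw [val_eq_exp_neg_ord p hδf0, hδford, ← WithZero.exp_nsmul, ← hc] at h1
      have hc0 : c ≠ 0 := by
        intro h0
        rw [h0, mul_zero] at h1
        exact WithZero.exp_ne_zero h1.symm
      have e1 := congrArg WithZero.log h1
      rw [WithZero.log_mul WithZero.exp_ne_zero hc0, WithZero.log_exp, WithZero.log_exp] at e1
      rw [← WithZero.exp_log hc0, he2]
      congr 1
      obtain ⟨m, hm⟩ := hodd p hpole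
      simp only [nsmul_eq_mul] at e1
      push_cast at e1 ⊢
      rw [hm] at e1 ⊢
      have : (1 - (2 * m + 1)) / 2 = -m := by omega
      rw [this]
      linarith
    · rw [if_neg hpole]
      have hf0 : 0 ≤ p.ord f := not_lt.1 hpole
      have hfinf : ∀ p' : FunFld.Place k (RatFunc k), 1 < p'.1 (RatFunc.X : RatFunc k) →
          p'.1 f ≤ 1 := by
        intro p' hp'
        have : p' = p :=
          ratFunc_inf_place_unique ((ord_neg_iff_one_lt p' _).2 hp') hXord
        rw [this]
        exact (ord_nonneg_iff p f).1 hf0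
      have he1 := (as_ramification hKF h2 hdeg y hy f heq p).2 hf0 P ⟨e, he⟩
      obtain ⟨-, rfl⟩ := isOverWith_unique he he1
      have hPX : 1 < P.1 (algebraMap (RatFunc k) K RatFunc.X) := by
        rw [he]; simpa using hX
      rw [hc, as_valuation_DX_at_inf h2 hdeg hy heq hfinf hPX ψ hψ]
      congr 1
  · -- finite
    have hne : p ≠ pinf := by
      rintro rfl
      exact absurd ((ord_neg_iff_one_lt p _).1 hpinf) (not_lt.2 hX)
    rw [if_neg hne, sub_zero]
    -- an irreducible polynomial vanishing at `p`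
    obtain ⟨r, hr⟩ := p.2.2 (WithZero.exp (-1 : ℤ))
    have hr0 : r ≠ 0 := by
      rintro rfl
      rw [map_zero] at hr
      exact WithZero.exp_ne_zero hr.symm
    have hnum0 : r.num ≠ 0 := RatFunc.num_ne_zero hr0
    have hden0 : r.denom ≠ 0 := RatFunc.denom_ne_zero r
    have hnumlt : p.1 (ι r.num) < 1 := by
      by_contra hnot
      have h1 : p.1 (ι r.num) = 1 :=
        le_antisymm (ratFunc_val_poly_le_one hX _) (not_lt.1 hnot)
      have h3 : p.1 r = (p.1 (ι r.denom))⁻¹ := by
        conv_lhs => rw [← RatFunc.num_div_denom r]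
        rw [map_div₀, h1, one_div]
      have h4 : p.1 (ι r.denom) ≠ 0 := (Valuation.ne_zero_iff _).2 (ratFunc_map_ne_zero hden0)
      have h5 : 1 ≤ (p.1 (ι r.denom))⁻¹ :=
        (one_le_inv₀ (zero_lt_iff.2 h4)).2 (ratFunc_val_poly_le_one hX _)
      rw [← h3, hr, ← WithZero.exp_zero, WithZero.exp_le_exp] at h5
      omega
    obtain ⟨π, hπ, -, hπlt⟩ := ratFunc_exists_irreducible_of_val_lt_one hX r.num hnum0 hnumlt
    have hπsep : π.Separable := PerfectField.separable_of_irreducible hπ
    have hordπ := ratFunc_ord_irreducible hπ hπlt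
    have hιπ0 : ι π ≠ 0 := ratFunc_map_ne_zero hπ.ne_zero
    by_cases hpole : p.ord f < 0
    · rw [if_pos hpole]
      have hf0 : f ≠ 0 := by
        rintro rfl; rw [ord_zero] at hpole; omega
      obtain ⟨he2, h1⟩ := as_valuation_DX_of_pole h2 hdeg hy heq hodd he hpole δ hδ ψ hψ
      have hcast : ((p.ord f : ℤ) : k) ≠ 0 := cast_odd_ne_zero h2 (hodd p hpole)
      obtain ⟨hδf0, hδford⟩ := ratFunc_ord_deriv_of_cast_ne_zero δ hδ hπ hπsep hπlt hf0 hcast
      rw [val_eq_exp_neg_ord p hδf0, hδford, ← WithZero.exp_nsmul, ← hc] at h1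
      have hc0 : c ≠ 0 := by
        intro h0
        rw [h0, mul_zero] at h1
        exact WithZero.exp_ne_zero h1.symm
      have e1 := congrArg WithZero.log h1
      rw [WithZero.log_mul WithZero.exp_ne_zero hc0, WithZero.log_exp, WithZero.log_exp] at e1
      rw [← WithZero.exp_log hc0, he2]
      congr 1
      obtain ⟨m, hm⟩ := hodd p hpole
      simp only [nsmul_eq_mul] at e1
      push_cast at e1 ⊢
      rw [hm] at e1 ⊢
      have : (1 - (2 * m + 1)) / 2 = -m := by omega
      rw [this]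
      linarith
    · rw [if_neg hpole, mul_zero, neg_zero, WithZero.exp_zero]
      have hf0 : 0 ≤ p.ord f := not_lt.1 hpole
      have he1 := (as_ramification hKF h2 hdeg y hy f heq p).2 hf0 P ⟨e, he⟩
      obtain ⟨-, rfl⟩ := isOverWith_unique he he1
      have hπK0 : algebraMap (RatFunc k) K (ι π) ≠ 0 := (_root_.map_ne_zero _).2 hιπ0
      have hvπ : Valued.v (ψ (algebraMap (RatFunc k) K (ι π))) = WithZero.exp (-(1 : ℤ)) := by
        rw [hψ.1, val_eq_exp_neg_ord P hπK0, ord_algebraMap_of_isOverWith he, hordπ]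
        norm_num
      have hD := valuation_D_of_cast_ne_zero hvπ (by simp)
      have h1 := valuation_D_algebraMap_eq δ hδ he ψ hψ (ι π)
      rw [ratFunc_deriv_poly δ hδ, hD, ratFunc_val_eq_one_of_isCoprime hX hπlt hπsep,
        one_pow, one_mul] at h1
      rw [hc, ← h1]
      norm_num

/-- Regularity of `z dx` at all places is membership in `L` of the conorm divisor (perfect `k`). -/
theorem as_regular_iff_perfect [PerfectField k] (h2 : ringChar k = 2)
    (hdeg : Module.finrank (RatFunc k) K = 2)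
    {y : K} (hy : y ∉ Set.range (algebraMap (RatFunc k) K)) {f : RatFunc k}
    (heq : y ^ 2 + y = algebraMap (RatFunc k) K f)
    (hodd : ∀ p : FunFld.Place k (RatFunc k), p.ord f < 0 → Odd (p.ord f))
    {pinf : FunFld.Place k (RatFunc k)}
    (hpinf : pinf.ord (RatFunc.X : RatFunc k) < 0)
    (F : FunFld.Place k K → Type w) [∀ P, Field (F P)] [∀ P, Algebra k (F P)]
    (φ : ∀ P, K →ₐ[k] LaurentSeries (F P)) (hφ : ∀ P, LocRes.IsExpansionAt P.1 (φ P)) (z : K) :
    (∀ P, LocRes.vDiff (φ P) z (algebraMap (RatFunc k) K RatFunc.X) ≤ 1) ↔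
      z ∈ FunFld.L (FunFld.conorm K (asB0 f pinf)) := by
  refine forall_congr' fun P => ?_
  unfold LocRes.vDiff
  rw [map_mul, (hφ P).1, as_valuation_DX_perfect h2 hdeg hy heq hodd hpinf P (φ P) (hφ P),
    WithZero.exp_neg, mul_inv_le_iff₀ (zero_lt_iff.2 WithZero.exp_ne_zero), one_mul]

end ASLocalPerf

section ASFinalPerf

local notation "ι" => algebraMap _ (RatFunc _)

/-- Basis of the regular differentials of an Artin–Schreier curve in characteristic two over a
perfect field. -/
theorem as_regularDifferentials_basis_perfect {k : Type u} {K : Type v} [Field k] [Field K]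
    [Algebra k K] [Algebra (RatFunc k) K] [IsScalarTower k (RatFunc k) K]
    (hK : FunFld.IsFunctionField k K) (hdeg : Module.finrank (RatFunc k) K = 2)
    [PerfectField k] (h2 : ringChar k = 2)
    (y : K) (hy : y ∉ Set.range (algebraMap (RatFunc k) K)) (f : RatFunc k)
    (heq : y ^ 2 + y = algebraMap (RatFunc k) K f)
    (hodd : ∀ p : FunFld.Place k (RatFunc k), 1 < p.1 f → Odd (p.ord f))
    (q : Polynomial k) (hq0 : q ≠ 0)
    (hq : ∀ p : FunFld.Place k (RatFunc k), p.1 RatFunc.X ≤ 1 →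
      p.ord (algebraMap (Polynomial k) (RatFunc k) q) =
        if 1 < p.1 f then (1 - p.ord f) / 2 else 0)
    (F : FunFld.Place k K → Type w) [∀ P, Field (F P)] [∀ P, Algebra k (F P)]
    (φ : ∀ P, K →ₐ[k] LaurentSeries (F P)) (hφ : ∀ P, LocRes.IsExpansionAt P.1 (φ P)) :
    (∀ i : ℕ, i < FunFld.genus k K → ∀ P,
      LocRes.vDiff (φ P)
        (algebraMap (RatFunc k) K (RatFunc.X ^ i / algebraMap (Polynomial k) (RatFunc k) q))
        (algebraMap (RatFunc k) K RatFunc.X) ≤ 1) ∧
    ∀ z : K, (∀ P, LocRes.vDiff (φ P) z (algebraMap (RatFunc k) K RatFunc.X) ≤ 1) →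
      ∃ a : Polynomial k, a.degree < (FunFld.genus k K : WithBot ℕ) ∧
        z = algebraMap (RatFunc k) K
          (algebraMap (Polynomial k) (RatFunc k) a / algebraMap (Polynomial k) (RatFunc k) q) := by
  classical
  have hKF := isFunctionField_ratFunc k
  haveI : FiniteDimensional (RatFunc k) K :=
    Module.finite_of_finrank_pos (by rw [hdeg]; norm_num)
  have hXc : (RatFunc.X : RatFunc k) ∉ Set.range (algebraMap k (RatFunc k)) := by
    rintro ⟨c, hc⟩
    exact (RatFunc.transcendental_X (K := k)) (hc ▸ isAlgebraic_algebraMap c)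
  obtain ⟨-, pinf, hpinf⟩ := exists_zero_and_exists_pole hKF _ hXc
  have hodd' : ∀ p : FunFld.Place k (RatFunc k), p.ord f < 0 → Odd (p.ord f) :=
    fun p hp => hodd p ((ord_neg_iff_one_lt p f).1 hp)
  set D := poleHalf (k := k) f with hDdef
  have hD : ∀ p : FunFld.Place k (RatFunc k),
      D p = if p.ord f < 0 then (1 - p.ord f) / 2 else 0 := fun p => poleHalf_apply hKF f p
  have hιq0 : algebraMap k[X] (RatFunc k) q ≠ 0 := ratFunc_map_ne_zero hq0
  have hqD : ∀ p : FunFld.Place k (RatFunc k), p ≠ pinf →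
      p.ord (algebraMap k[X] (RatFunc k) q) = D p := by
    intro p hne
    rw [hq p (ratFunc_finite_of_ne_inf hpinf hne), hD]
    by_cases h : p.ord f < 0
    · rw [if_pos h, if_pos ((ord_neg_iff_one_lt p f).1 h)]
    · rw [if_neg h, if_neg (fun h' => h ((ord_neg_iff_one_lt p f).2 h'))]
  have hqinf : pinf.ord (algebraMap k[X] (RatFunc k) q) = -(q.natDegree : ℤ) :=
    ratFunc_inf_ord_poly hpinf hq0
  have hN0 : 0 ≤ D pinf := poleHalf_nonneg hKF f pinf
  -- the genus
  have hDeq : D = FunFld.div k (algebraMap k[X] (RatFunc k) q) +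
      Finsupp.single pinf ((q.natDegree : ℤ) + D pinf) := by
    ext p
    rw [Finsupp.add_apply, div_apply hKF]
    by_cases hp : p = pinf
    · subst hp
      rw [Finsupp.single_eq_same, hqinf]; ring
    · rw [Finsupp.single_eq_of_ne' (Ne.symm hp), add_zero, hqD p hp]
  have hDdeg : D.deg = (q.natDegree : ℤ) + D pinf := by
    conv_lhs => rw [hDeq]
    rw [deg_add, deg_div_eq_zero hKF, deg_single, ratFunc_inf_deg hpinf]
    simp
  have hg : (FunFld.genus k K : ℤ) = (q.natDegree : ℤ) + D pinf - 1 := by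
    have h1 := as_genus hKF h2 hdeg hy heq hK hodd'
    have hg0 : FunFld.genus k (RatFunc k) = 0 :=
      genus_eq_zero_of_adjoin_eq_top hKF (x := RatFunc.X) RatFunc.adjoin_X
    rw [hg0, ← hDdef, hDdeg] at h1
    rw [h1]; push_cast; ring
  set g := FunFld.genus k K with hgdef
  have hB0 : ∀ p : FunFld.Place k (RatFunc k),
      asB0 f pinf p = D p - if p = pinf then 2 else 0 := by
    intro p
    rw [asB0, Finsupp.sub_apply, Finsupp.single_apply]
    congr 1
    by_cases h : p = pinf
    · rw [if_pos h, if_pos h.symm]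
    · rw [if_neg h, if_neg (Ne.symm h)]
  have hreg := fun z => as_regular_iff_perfect h2 hdeg hy heq hodd' hpinf F φ hφ z
  -- polynomials of degree `< g` over `q` lie in `L(B₀)`
  have hmem : ∀ c : k[X], c.degree < (g : WithBot ℕ) →
      algebraMap k[X] (RatFunc k) c / algebraMap k[X] (RatFunc k) q ∈
        FunFld.L (asB0 f pinf) := by
    intro c hc
    by_cases hc0 : c = 0
    · rw [hc0, map_zero, zero_div]; exact Submodule.zero_mem _
    have hιc0 : algebraMap k[X] (RatFunc k) c ≠ 0 := ratFunc_map_ne_zero hc0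
    rw [Polynomial.degree_eq_natDegree hc0] at hc
    have hcg : c.natDegree < g := by exact_mod_cast hc
    intro p
    rw [hB0, map_div₀]
    by_cases hp : p = pinf
    · subst hp
      rw [if_pos rfl, val_eq_exp_neg_ord p hιc0, val_eq_exp_neg_ord p hιq0, hqinf,
        ratFunc_inf_ord_poly hpinf hc0, ← WithZero.exp_sub, WithZero.exp_le_exp]
      have : (c.natDegree : ℤ) < g := by exact_mod_cast hcg
      linarith
    · rw [if_neg hp, sub_zero, val_eq_exp_neg_ord p hιq0, hqD p hp,
        div_eq_mul_inv, ← WithZero.exp_neg, neg_neg]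
      calc p.1 (algebraMap k[X] (RatFunc k) c) * WithZero.exp (D p)
          ≤ 1 * WithZero.exp (D p) :=
            mul_le_mul' (ratFunc_val_poly_le_one (ratFunc_finite_of_ne_inf hpinf hp) c) le_rfl
        _ = WithZero.exp (D p) := one_mul _
  constructor
  · intro i hi P
    revert P
    rw [hreg]
    apply algebraMap_mem_L_conorm hKF
    have h1 := hmem (X ^ i) (by
      refine lt_of_le_of_lt (Polynomial.degree_X_pow_le i) ?_
      exact_mod_cast hi)
    rwa [map_pow, RatFunc.algebraMap_X] at h1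
  · intro z hz
    rw [hreg] at hz
    obtain ⟨a, b, rfl⟩ := Groth.Agent.Lib.H40Quad.exists_add_mul_eq' hdeg hy z
    obtain ⟨ha, hb⟩ := as_mem_of_mem_L_conorm hKF h2 hdeg hy heq hodd' hz
    have hb0 : b = 0 := by
      have hsub : asB0 f pinf - poleHalf (k := k) f = -Finsupp.single pinf 2 := by
        rw [asB0]; abel
      have hneg : (asB0 f pinf - poleHalf (k := k) f).deg < 0 := by
        rw [hsub, deg_neg, deg_single, ratFunc_inf_deg hpinf]
        norm_num
      rw [L_eq_bot_of_deg_neg hKF _ hneg, Submodule.mem_bot] at hb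
      exact hb
    rw [hb0, map_zero, zero_mul, add_zero]
    -- `a q` is a polynomial of degree `< g`
    obtain ⟨c, hc⟩ := ratFunc_eq_poly_of_forall_finite (a * algebraMap k[X] (RatFunc k) q) (by
      intro p hpX
      have hp : p ≠ pinf := by
        rintro rfl
        exact absurd ((ord_neg_iff_one_lt p _).1 hpinf) (not_lt.2 hpX)
      have h1 := ha p
      rw [hB0, if_neg hp, sub_zero] at h1
      rw [map_mul, val_eq_exp_neg_ord p hιq0, hqD p hp]
      calc p.1 a * WithZero.exp (-D p) ≤ WithZero.exp (D p) * WithZero.exp (-D p) :=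
            mul_le_mul' h1 le_rfl
        _ = 1 := by rw [← WithZero.exp_add, add_neg_cancel, WithZero.exp_zero])
    have hac : a = algebraMap k[X] (RatFunc k) c / algebraMap k[X] (RatFunc k) q := by
      rw [← hc, mul_div_cancel_right₀ _ hιq0]
    refine ⟨c, ?_, by rw [hac]⟩
    by_cases hc0 : c = 0
    · rw [hc0, Polynomial.degree_zero]
      exact WithBot.bot_lt_coe _
    rw [Polynomial.degree_eq_natDegree hc0]
    have hιc0 : algebraMap k[X] (RatFunc k) c ≠ 0 := ratFunc_map_ne_zero hc0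
    have h1 := ha pinf
    rw [hB0, if_pos rfl] at h1
    have h3 : pinf.1 (algebraMap k[X] (RatFunc k) c) ≤
        WithZero.exp (D pinf - 2) * WithZero.exp (q.natDegree : ℤ) := by
      rw [← hc, map_mul]
      refine mul_le_mul' h1 (le_of_eq ?_)
      rw [val_eq_exp_neg_ord pinf hιq0, hqinf, neg_neg]
    rw [val_eq_exp_neg_ord pinf hιc0, ratFunc_inf_ord_poly hpinf hc0, neg_neg, ← WithZero.exp_add,
      WithZero.exp_le_exp] at h3
    have : (c.natDegree : ℤ) < g := by linarith
    exact_mod_cast this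

end ASFinalPerf

end Groth.Agent.Lib.H40FunFld
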