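import Groth.Agent.Lib.H40FunFldConorm2
import Mathlib.FieldTheory.Galois.Basic
import Mathlib.RingTheory.Norm.Transitivity
import Mathlib.RingTheory.Valuation.RamificationGroup

set_option autoImplicit false
open FunFld Polynomial

namespace Groth.Agent.Lib.H40FunFld

open Groth.Agent.Lib.H40QuotChain IntermediateField

universe u v w
variable {k : Type u} [Field k] {K : Type v} [Field K] [Algebra k K] {K' : Type w} [Field K']
  [Algebra K K'] [Algebra k K'] [IsScalarTower k K K']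

/-- The (left) action of `Gal(K'/K)` on the places of `K'`: `(σ • Q)(x) = Q(σ⁻¹ x)`. -/
def galPlace (σ : K' ≃ₐ[K] K') (Q : FunFld.Place k K') : FunFld.Place k K' :=
  ⟨Q.1.comap ((σ.symm : K' ≃ₐ[K] K') : K' →+* K'), fun c => by
      rw [Valuation.comap_apply]
      have h1 : algebraMap k K' c = algebraMap K K' (algebraMap k K c) :=
        IsScalarTower.algebraMap_apply k K K' c
      have h2 : ((σ.symm : K' ≃ₐ[K] K') : K' →+* K') (algebraMap k K' c) = algebraMap k K' c := by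
        rw [h1]; exact σ.symm.commutes _
      rw [h2]; exact Q.2.1 c,
    fun γ => by
      obtain ⟨x, hx⟩ := Q.2.2 γ
      refine ⟨σ x, ?_⟩
      rw [Valuation.comap_apply]
      have : ((σ.symm : K' ≃ₐ[K] K') : K' →+* K') (σ x) = x := σ.symm_apply_apply x
      rw [this, hx]⟩

theorem galPlace_apply (σ : K' ≃ₐ[K] K') (Q : FunFld.Place k K') (x : K') :
    (galPlace σ Q).1 x = Q.1 (σ.symm x) := rfl

theorem galPlace_one (Q : FunFld.Place k K') : galPlace (1 : K' ≃ₐ[K] K') Q = Q := by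
  apply Subtype.ext
  apply Valuation.ext
  intro x
  rfl

theorem galPlace_mul (σ τ : K' ≃ₐ[K] K') (Q : FunFld.Place k K') :
    galPlace (σ * τ) Q = galPlace σ (galPlace τ Q) := by
  apply Subtype.ext
  apply Valuation.ext
  intro x
  rfl

theorem galPlace_isOverWith (σ : K' ≃ₐ[K] K') {Q : FunFld.Place k K'} {P : FunFld.Place k K}
    {e : ℕ} (h : FunFld.IsOverWith Q P e) : FunFld.IsOverWith (galPlace σ Q) P e := by
  intro x
  rw [galPlace_apply, σ.symm.commutes]
  exact h x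

section Transitive

variable [FiniteDimensional K K'] [IsGalois K K']

/-- The Galois group acts transitively on the places above a given place. -/
theorem exists_galPlace_eq {Q₁ Q₂ : FunFld.Place k K'} {P : FunFld.Place k K} {e₁ e₂ : ℕ}
    (h₁ : FunFld.IsOverWith Q₁ P e₁) (h₂ : FunFld.IsOverWith Q₂ P e₂) :
    ∃ σ : K' ≃ₐ[K] K', galPlace σ Q₁ = Q₂ := by
  classical
  by_contra hcon
  push Not at hcon
  set T₁ : Finset (FunFld.Place k K') :=
    Finset.univ.image (fun σ : K' ≃ₐ[K] K' => galPlace σ Q₁) with hT₁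
  set T₂ : Finset (FunFld.Place k K') :=
    Finset.univ.image (fun σ : K' ≃ₐ[K] K' => galPlace σ Q₂) with hT₂
  have hdisj : ∀ R ∈ T₁, R ∉ T₂ := by
    intro R hR1 hR2
    rw [hT₁, Finset.mem_image] at hR1
    rw [hT₂, Finset.mem_image] at hR2
    obtain ⟨σ, -, hσ⟩ := hR1
    obtain ⟨τ, -, hτ⟩ := hR2
    apply hcon (τ⁻¹ * σ)
    rw [galPlace_mul, hσ, ← hτ, ← galPlace_mul, inv_mul_cancel, galPlace_one]
  obtain ⟨z, hz⟩ := exists_approx (T₁ ∪ T₂) (fun R => if R ∈ T₂ then (0 : K') else 1) 1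
  have hz2 : ∀ R ∈ T₂, R.1 z < 1 := by
    intro R hR
    have := hz R (Finset.mem_union_right _ hR)
    rw [if_pos hR, sub_zero] at this
    exact lt_one_iff_le_exp_neg_one.2 this
  have hz1 : ∀ R ∈ T₁, R.1 z = 1 := by
    intro R hR
    have := hz R (Finset.mem_union_left _ hR)
    rw [if_neg (hdisj R hR)] at this
    have hlt : R.1 (z - 1) < 1 := lt_one_iff_le_exp_neg_one.2 this
    have e : z = 1 + (z - 1) := by ring
    rw [e, Valuation.map_add_eq_of_lt_left _ (by rw [map_one]; exact hlt), map_one]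
  have hnorm := Algebra.norm_eq_prod_automorphisms K z
  have hQ1 : Q₁.1 (algebraMap K K' (Algebra.norm K z)) = 1 := by
    rw [hnorm, map_prod]
    apply Finset.prod_eq_one
    intro σ _
    have h3 : Q₁.1 (σ z) = (galPlace σ⁻¹ Q₁).1 z := by
      rw [galPlace_apply]; rfl
    rw [h3]
    apply hz1
    rw [hT₁, Finset.mem_image]
    exact ⟨σ⁻¹, Finset.mem_univ _, rfl⟩
  have hQ2 : Q₂.1 (algebraMap K K' (Algebra.norm K z)) < 1 := by
    rw [hnorm, map_prod, ← Finset.mul_prod_erase Finset.univ _ (Finset.mem_univ (1 : K' ≃ₐ[K] K'))]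
    have hf : ∀ σ : K' ≃ₐ[K] K', Q₂.1 (σ z) < 1 := by
      intro σ
      have h3 : Q₂.1 (σ z) = (galPlace σ⁻¹ Q₂).1 z := by
        rw [galPlace_apply]; rfl
      rw [h3]
      apply hz2
      rw [hT₂, Finset.mem_image]
      exact ⟨σ⁻¹, Finset.mem_univ _, rfl⟩
    calc Q₂.1 ((1 : K' ≃ₐ[K] K') z) * ∏ σ ∈ Finset.univ.erase (1 : K' ≃ₐ[K] K'), Q₂.1 (σ z)
        ≤ Q₂.1 ((1 : K' ≃ₐ[K] K') z) * 1 :=
          mul_le_mul' le_rfl (Finset.prod_le_one' fun σ _ => (hf σ).le)
      _ = Q₂.1 ((1 : K' ≃ₐ[K] K') z) := mul_one _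
      _ < 1 := hf 1
  rw [isOverWith_lt_one_iff h₂, ← isOverWith_lt_one_iff h₁, hQ1] at hQ2
  exact lt_irrefl _ hQ2

end Transitive

section S11013

variable [FiniteDimensional K K'] [IsGalois K K']

theorem exists_algEquiv_comap_place (hK : FunFld.IsFunctionField k K) (Q₁ Q₂ : FunFld.Place k K')
    (h : (Q₁.1.comap (algebraMap K K')).IsEquiv (Q₂.1.comap (algebraMap K K'))) :
    ∃ σ : K' ≃ₐ[K] K', Q₁.1.comap (σ : K' →+* K') = Q₂.1 := by
  obtain ⟨P₁, e₁, h₁⟩ := exists_isOverWith hK Q₁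
  obtain ⟨P₂, e₂, h₂⟩ := exists_isOverWith hK Q₂
  have hP : P₁ = P₂ := by
    apply eq_of_forall_le_one
    intro a ha
    rw [← isOverWith_le_one_iff h₂]
    rw [← isOverWith_le_one_iff h₁] at ha
    have := h a 1
    simp only [Valuation.comap_apply, map_one] at this
    exact this.1 ha
  subst hP
  obtain ⟨σ, hσ⟩ := exists_galPlace_eq h₁ h₂
  refine ⟨σ.symm, ?_⟩
  apply Valuation.ext
  intro x
  rw [← hσ]
  rfl

end S11013

end Groth.Agent.Lib.H40FunFld
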