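import Groth.Agent.Lib.H40FunFldKummer
import Mathlib.RingTheory.Polynomial.IsIntegral

set_option autoImplicit false
set_option linter.style.haveILetI false
set_option linter.unusedSectionVars false
open FunFld Polynomial

namespace Groth.Agent.Lib.H40FunFld

open Groth.Agent.Lib.H40QuotChain IntermediateField

universe u v
variable {k : Type u} [Field k] {K : Type v} [Field K] [Algebra k K]

section HyperFF

local notation "ι" => algebraMap k[X] (RatFunc k)

/-- The embedding `k(X) → K` sending `X` to a transcendental element. -/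
noncomputable def ratFuncHom {x : K} (hx : Transcendental k x) : RatFunc k →ₐ[k] K :=
  (k⟮x⟯.val).comp (RatFunc.algEquivOfTranscendental x hx).toAlgHom

theorem ratFuncHom_algebraMap {x : K} (hx : Transcendental k x) (g : k[X]) :
    ratFuncHom hx (ι g) = aeval x g := by
  change ((RatFunc.algEquivOfTranscendental x hx (ι g) : k⟮x⟯) : K) = _
  rw [RatFunc.algEquivOfTranscendental_algebraMap]
  exact (Polynomial.aeval_algHom_apply (k⟮x⟯.val) (AdjoinSimple.gen k x) g).symm

theorem ratFuncHom_X {x : K} (hx : Transcendental k x) :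
    ratFuncHom hx (RatFunc.X : RatFunc k) = x := by
  change ((RatFunc.algEquivOfTranscendental x hx RatFunc.X : k⟮x⟯) : K) = _
  rw [RatFunc.algEquivOfTranscendental_X]

/-- Constants of a quadratic extension of `k(X)` in which some place of `k(X)` is totally
ramified... here: the hyperelliptic case. -/
theorem hyper_constants [Algebra (RatFunc k) K] [IsScalarTower k (RatFunc k) K]
    (h2 : ringChar k ≠ 2) [FiniteDimensional (RatFunc k) K]
    (hdeg : Module.finrank (RatFunc k) K ≤ 2) (y : K) (f : k[X]) (hf : Squarefree f)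
    (hd : 1 ≤ f.natDegree) (heq : y ^ 2 = algebraMap (RatFunc k) K (ι f))
    (α : K) (hα : IsAlgebraic k α) : α ∈ Set.range (algebraMap k K) := by
  have hK := isFunctionField_ratFunc k
  have h2' : (2 : k) ≠ 0 := Ring.two_ne_zero h2
  have hint : IsIntegral (RatFunc k) α := Algebra.IsIntegral.isIntegral α
  set q := minpoly (RatFunc k) α with hq
  have hqmonic : q.Monic := minpoly.monic hint
  have hdvd : q ∣ (minpoly k α).map (algebraMap k (RatFunc k)) :=
    minpoly.dvd_map_of_isScalarTower k (RatFunc k) α
  have hcoeff : ∀ i, q.coeff i ∈ Set.range (algebraMap k (RatFunc k)) := by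
    intro i
    have h1 : IsIntegral k (q.coeff i) :=
      Polynomial.isIntegral_coeff_of_dvd (minpoly k α) q (minpoly.monic hα.isIntegral) hqmonic
        hdvd i
    exact hK.2 _ h1.isAlgebraic
  have hqpos : 0 < q.natDegree := minpoly.natDegree_pos hint
  have hqle : q.natDegree ≤ Module.finrank (RatFunc k) K := by
    rw [hq, ← IntermediateField.adjoin.finrank hint]
    exact Submodule.finrank_le ((RatFunc k)⟮α⟯.toSubalgebra.toSubmodule)
  by_cases h1 : q.natDegree = 1
  · obtain ⟨r, hr⟩ := (minpoly.natDegree_eq_one_iff).1 h1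
    have hralg : IsAlgebraic k r := by
      rw [← hr] at hα
      exact (isAlgebraic_algebraMap_iff (algebraMap (RatFunc k) K).injective).1 hα
    obtain ⟨c, hc⟩ := hK.2 r hralg
    refine ⟨c, ?_⟩
    rw [IsScalarTower.algebraMap_apply k (RatFunc k) K, hc, ← hr]
  · exfalso
    have hq2 : q.natDegree = 2 := by omega
    have hdeg2 : Module.finrank (RatFunc k) K = 2 := by omega
    obtain ⟨a₀, ha₀⟩ := hcoeff 1
    obtain ⟨b₀, hb₀⟩ := hcoeff 0
    have hroot : aeval α q = 0 := minpoly.aeval _ _
    rw [Polynomial.aeval_eq_sum_range, hq2, Finset.sum_range_succ, Finset.sum_range_succ,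
      Finset.sum_range_one] at hroot
    have hlead : q.coeff 2 = 1 := by
      have := hqmonic.coeff_natDegree
      rwa [hq2] at this
    rw [hlead, ← ha₀, ← hb₀, pow_zero, pow_one, one_smul, Algebra.smul_def, Algebra.smul_def,
      mul_one, ← IsScalarTower.algebraMap_apply, ← IsScalarTower.algebraMap_apply] at hroot
    -- complete the square
    set a' := algebraMap k K a₀ with ha'
    set b' := algebraMap k K b₀ with hb'
    have h2K : (2 : K) ≠ 0 := by
      have : (2 : K) = algebraMap k K 2 := by rw [map_ofNat]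
      rw [this]
      exact (_root_.map_ne_zero _).2 h2'
    set β := α + a' / 2 with hβ
    set d₀ := (a₀ / 2) ^ 2 - b₀ with hd₀
    have hhalf : algebraMap k K (a₀ / 2) = a' / 2 := by
      rw [map_div₀, map_ofNat]
    have hβsq : β ^ 2 = algebraMap (RatFunc k) K (RatFunc.C d₀) := by
      rw [← RatFunc.algebraMap_eq_C, ← IsScalarTower.algebraMap_apply, hd₀, map_sub,
        map_pow, hhalf, ← hb', hβ]
      field_simp
      linear_combination 4 * hroot
    have hβK : β ∉ Set.range (algebraMap (RatFunc k) K) := by
      rintro ⟨r, hr⟩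
      apply h1
      rw [minpoly.natDegree_eq_one_iff]
      refine ⟨r - RatFunc.C (a₀ / 2), ?_⟩
      rw [map_sub, hr, ← RatFunc.algebraMap_eq_C, ← IsScalarTower.algebraMap_apply, hhalf, hβ]
      ring
    have hd₀0 : d₀ ≠ 0 := by
      intro h0
      rw [h0, map_zero, map_zero] at hβsq
      have hβ0 : β = 0 := by
        rcases pow_eq_zero_iff (two_ne_zero) |>.1 hβsq with h
        exact h
      exact hβK ⟨0, by rw [map_zero, hβ0]⟩
    obtain ⟨p, P₀, hp, hpf, hP₀⟩ := exists_irreducible_place hd
    obtain ⟨⟨P, hP, -⟩, hall⟩ := hyper_finite hdeg2 y f hf heq p hp hpf P₀ hP₀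
    have hram := (hall P hP).1
    have hunit : P₀.1 (RatFunc.C d₀) = 1 := by
      rw [← RatFunc.algebraMap_eq_C]
      exact val_algebraMap P₀ hd₀0
    have hodd := odd_ramIdx_of_sq_eq_unit hdeg2 hram h2' hβsq hβK hunit
    exact absurd hodd (by decide)

/-- `K = k(x, y)`, `y² = f(x)` with `f` squarefree of positive degree, `char ≠ 2`, is a function
field of one variable with exact constant field `k`. -/
theorem hyper_isFunctionField (h2 : ringChar k ≠ 2) (x y : K) (hx : Transcendental k x)
    (hxy : IntermediateField.adjoin k ({x, y} : Set K) = ⊤)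
    (f : k[X]) (hf : Squarefree f) (hd : 1 ≤ f.natDegree)
    (heq : y ^ 2 = Polynomial.aeval x f) : FunFld.IsFunctionField k K := by
  letI alg : Algebra (RatFunc k) K := (ratFuncHom hx).toRingHom.toAlgebra
  haveI tower : IsScalarTower k (RatFunc k) K :=
    IsScalarTower.of_algebraMap_eq (fun c => ((ratFuncHom hx).commutes c).symm)
  have halg : ∀ r : RatFunc k, algebraMap (RatFunc k) K r = ratFuncHom hx r := fun _ => rfl
  have heq' : y ^ 2 = algebraMap (RatFunc k) K (ι f) := by
    rw [heq, halg, ratFuncHom_algebraMap]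
  have hyint : IsIntegral (RatFunc k) y := by
    refine ⟨X ^ 2 - C (ι f), monic_X_pow_sub_C _ two_ne_zero, ?_⟩
    rw [eval₂_sub, eval₂_pow, eval₂_X, eval₂_C, heq', sub_self]
  have htop : (RatFunc k)⟮y⟯ = ⊤ := by
    rw [eq_top_iff]
    intro z _
    have hz : z ∈ IntermediateField.adjoin k ({x, y} : Set K) := by rw [hxy]; trivial
    have hle : IntermediateField.adjoin k ({x, y} : Set K) ≤
        ((RatFunc k)⟮y⟯).restrictScalars k := by
      rw [IntermediateField.adjoin_le_iff]
      rintro w (rfl | rfl)
      · have : w = algebraMap (RatFunc k) K RatFunc.X := by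
          rw [halg, ratFuncHom_X]
        rw [this]
        exact ((RatFunc k)⟮y⟯).algebraMap_mem _
      · exact mem_adjoin_simple_self (RatFunc k) w
    exact hle hz
  haveI hfin : FiniteDimensional (RatFunc k) K := by
    haveI := IntermediateField.adjoin.finiteDimensional hyint
    rw [htop] at this
    exact (IntermediateField.topEquiv (F := RatFunc k) (E := K)).toLinearEquiv.finiteDimensional
  have hdeg : Module.finrank (RatFunc k) K ≤ 2 := by
    have h1 := IntermediateField.adjoin.finrank hyint
    rw [htop, IntermediateField.finrank_top'] at h1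
    rw [h1]
    have hdvd : minpoly (RatFunc k) y ∣ X ^ 2 - C (ι f) := by
      apply minpoly.dvd
      rw [map_sub, map_pow, aeval_X, aeval_C, heq', sub_self]
    have hne : (X ^ 2 - C (ι f) : (RatFunc k)[X]) ≠ 0 :=
      (monic_X_pow_sub_C _ two_ne_zero).ne_zero
    have := Polynomial.natDegree_le_of_dvd hdvd hne
    rwa [natDegree_X_pow_sub_C] at this
  refine ⟨⟨x, hx, ?_⟩, fun α hα => hyper_constants h2 hdeg y f hf hd heq' α hα⟩
  -- transfer finiteness from `RatFunc k` to `k(x)`
  let e₁ : RatFunc k ≃+* ↥k⟮x⟯ := (RatFunc.algEquivOfTranscendental x hx).toRingEquiv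
  refine Module.Finite.of_equiv_equiv e₁ (RingEquiv.refl K) ?_
  ext r
  rfl

end HyperFF

end Groth.Agent.Lib.H40FunFld
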