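import Mathlib.FieldTheory.PrimitiveElement
import Mathlib.RingTheory.PowerBasis
import Mathlib.Algebra.Polynomial.Degree.SmallDegree

set_option autoImplicit false
set_option linter.style.haveILetI false
set_option linter.unusedSectionVars false
open Polynomial

namespace Groth.Agent.Lib.H40Quad

open IntermediateField

universe u v
variable {F : Type u} {K : Type v} [Field F] [Field K] [Algebra F K]

/-- The minimal polynomial of a square root outside the base field. -/
theorem minpoly_eq_of_sq_eq {y : K} {g : F} (hy : y ^ 2 = algebraMap F K g)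
    (hyF : y ∉ Set.range (algebraMap F K)) : minpoly F y = X ^ 2 - C g := by
  have hint : IsIntegral F y := by
    refine ⟨X ^ 2 - C g, monic_X_pow_sub_C _ two_ne_zero, ?_⟩
    rw [eval₂_sub, eval₂_pow, eval₂_X, eval₂_C, hy, sub_self]
  have hdvd : minpoly F y ∣ X ^ 2 - C g := by
    apply minpoly.dvd
    rw [map_sub, map_pow, aeval_X, aeval_C, hy, sub_self]
  have h2 : 2 ≤ (minpoly F y).natDegree := by
    rw [minpoly.two_le_natDegree_iff hint]
    exact hyF
  refine (Polynomial.eq_of_monic_of_dvd_of_natDegree_le (minpoly.monic hint)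
    (monic_X_pow_sub_C _ two_ne_zero) hdvd ?_).symm
  rw [natDegree_X_pow_sub_C]
  exact h2

/-- A power basis `1, y` of a quadratic extension generated by a square root. -/
noncomputable def powerBasisOfSq (hdeg : Module.finrank F K = 2) {y : K} {g : F}
    (hy : y ^ 2 = algebraMap F K g) (hyF : y ∉ Set.range (algebraMap F K)) : PowerBasis F K :=
  haveI : FiniteDimensional F K := Module.finite_of_finrank_pos (by rw [hdeg]; norm_num)
  have hint : IsIntegral F y := IsIntegral.of_finite F y
  have htop : F⟮y⟯ = ⊤ := by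
    rw [Field.primitive_element_iff_minpoly_natDegree_eq, minpoly_eq_of_sq_eq hy hyF,
      natDegree_X_pow_sub_C, hdeg]
  (IntermediateField.adjoin.powerBasis hint).map
    ((IntermediateField.equivOfEq htop).trans IntermediateField.topEquiv)

theorem powerBasisOfSq_gen (hdeg : Module.finrank F K = 2) {y : K} {g : F}
    (hy : y ^ 2 = algebraMap F K g) (hyF : y ∉ Set.range (algebraMap F K)) :
    (powerBasisOfSq hdeg hy hyF).gen = y := rfl

theorem powerBasisOfSq_dim (hdeg : Module.finrank F K = 2) {y : K} {g : F}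
    (hy : y ^ 2 = algebraMap F K g) (hyF : y ∉ Set.range (algebraMap F K)) :
    (powerBasisOfSq hdeg hy hyF).dim = 2 := by
  have h1 := (powerBasisOfSq hdeg hy hyF).finrank
  rw [hdeg] at h1
  exact h1.symm

/-- Every element of a quadratic extension `F(y)`, `y² ∈ F`, is `α + β y`. -/
theorem exists_add_mul_eq (hdeg : Module.finrank F K = 2) {y : K} {g : F}
    (hy : y ^ 2 = algebraMap F K g) (hyF : y ∉ Set.range (algebraMap F K)) (z : K) :
    ∃ α β : F, z = algebraMap F K α + algebraMap F K β * y := by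
  obtain ⟨f, hf, hz⟩ := (powerBasisOfSq hdeg hy hyF).exists_eq_aeval z
  rw [powerBasisOfSq_dim] at hf
  rw [powerBasisOfSq_gen] at hz
  obtain ⟨a, b, rfl⟩ := Polynomial.exists_eq_X_add_C_of_natDegree_le_one (by omega : f.natDegree ≤ 1)
  refine ⟨b, a, ?_⟩
  rw [hz]
  simp only [map_add, map_mul, aeval_C, aeval_X]
  ring

/-- The conjugation `y ↦ -y` of a quadratic extension generated by a square root. -/
theorem exists_algEquiv_neg (hdeg : Module.finrank F K = 2) {y : K} {g : F}
    (hy : y ^ 2 = algebraMap F K g) (hyF : y ∉ Set.range (algebraMap F K)) :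
    ∃ σ : K ≃ₐ[F] K, σ y = -y := by
  have hy' : (-y) ^ 2 = algebraMap F K g := by rw [neg_sq, hy]
  have hyF' : -y ∉ Set.range (algebraMap F K) := by
    rintro ⟨a, ha⟩
    exact hyF ⟨-a, by rw [map_neg, ha, neg_neg]⟩
  refine ⟨(powerBasisOfSq hdeg hy hyF).equivOfMinpoly (powerBasisOfSq hdeg hy' hyF') ?_, ?_⟩
  · rw [powerBasisOfSq_gen, powerBasisOfSq_gen, minpoly_eq_of_sq_eq hy hyF,
      minpoly_eq_of_sq_eq hy' hyF']
  · exact (powerBasisOfSq hdeg hy hyF).equivOfMinpoly_gen (powerBasisOfSq hdeg hy' hyF')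
      (by rw [powerBasisOfSq_gen, powerBasisOfSq_gen, minpoly_eq_of_sq_eq hy hyF,
        minpoly_eq_of_sq_eq hy' hyF'])

end Groth.Agent.Lib.H40Quad
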