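import Groth.Agent.Lib.H40FunFldKummer
import Groth.Agent.Lib.H40FunFldHyper
import Groth.Agent.Lib.H40FunFldWeil
import Groth.Agent.Lib.H40FunFldGalois
import Groth.Agent.Lib.H40FunFldGenusOne
import Groth.Agent.Lib.H40FunFldRiemannIneq
import Groth.Agent.Lib.H40Quad

set_option autoImplicit false
set_option linter.style.haveILetI false
set_option linter.unusedSectionVars false
open FunFld Polynomial

namespace Groth.Agent.Lib.H40FunFld

open IntermediateField

universe u v
variable {k : Type u} [Field k]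

section RF

local notation "ι" => algebraMap k[X] (RatFunc k)

/-- A rational function integral at all finite places is a polynomial. -/
theorem ratFunc_eq_poly_of_forall_finite (r : RatFunc k)
    (h : ∀ P₀ : FunFld.Place k (RatFunc k), P₀.1 RatFunc.X ≤ 1 → P₀.1 r ≤ 1) :
    ∃ p : k[X], r = ι p := by
  by_cases hd : 1 ≤ r.denom.natDegree
  · exfalso
    obtain ⟨p, P₀, hp, hpd, hP₀⟩ := exists_irreducible_place hd
    have hX := ratFunc_val_X_le_one hp.ne_zero hP₀
    have hden : P₀.1 (ι r.denom) < 1 := by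
      obtain ⟨a, ha⟩ := hpd
      rw [ha, map_mul, map_mul]
      exact (mul_le_mul' le_rfl (ratFunc_val_poly_le_one hX a)).trans_lt (by rwa [mul_one])
    have hcop : IsCoprime r.denom r.num := (RatFunc.isCoprime_num_denom r).symm
    have hcop' : IsCoprime p r.num := IsCoprime.of_isCoprime_of_dvd_left hcop hpd
    have hnum : P₀.1 (ι r.num) = 1 := ratFunc_val_eq_one_of_isCoprime hX hP₀ hcop'
    have hr : r = ι r.num / ι r.denom := (RatFunc.num_div_denom r).symm
    have h1 := h P₀ hX
    rw [hr, map_div₀, hnum] at h1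
    have hden0 : P₀.1 (ι r.denom) ≠ 0 :=
      (Valuation.ne_zero_iff _).2 (ratFunc_map_ne_zero (RatFunc.denom_ne_zero r))
    rw [one_div, inv_le_one₀ (zero_lt_iff.2 hden0)] at h1
    exact absurd hden (not_lt.2 h1)
  · have h0 : r.denom.natDegree = 0 := by omega
    have h1 : r.denom = 1 := (RatFunc.monic_denom r).natDegree_eq_zero.1 h0
    refine ⟨r.num, ?_⟩
    conv_lhs => rw [← RatFunc.num_div_denom r, h1, map_one, div_one]

/-- The infinite place of `k(X)` is unique. -/
theorem ratFunc_inf_unique {P Q : FunFld.Place k (RatFunc k)}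
    (hP : P.ord (RatFunc.X : RatFunc k) < 0) (hQ : Q.ord (RatFunc.X : RatFunc k) < 0) : P = Q := by
  apply eq_of_forall_le_one
  intro a ha
  by_cases ha0 : a = 0
  · rw [ha0, map_zero]; exact zero_le_one
  have hn0 : a.num ≠ 0 := RatFunc.num_ne_zero ha0
  have hd0 : a.denom ≠ 0 := RatFunc.denom_ne_zero a
  have hr : a = ι a.num / ι a.denom := (RatFunc.num_div_denom a).symm
  have key : ∀ R : FunFld.Place k (RatFunc k), R.ord (RatFunc.X : RatFunc k) < 0 →
      R.ord a = -(a.num.natDegree : ℤ) + a.denom.natDegree := by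
    intro R hR
    have h1 : a * ι a.denom = ι a.num := by
      have h3 : ι a.num / ι a.denom * ι a.denom = ι a.num :=
        div_mul_cancel₀ _ (ratFunc_map_ne_zero hd0)
      rwa [← hr] at h3
    have h2 := ord_mul R ha0 (ratFunc_map_ne_zero hd0)
    rw [h1, ratFunc_inf_ord_poly hR hn0, ratFunc_inf_ord_poly hR hd0] at h2
    linarith
  rw [← ord_nonneg_iff] at ha ⊢
  rw [key Q hQ, ← key P hP]
  exact ha

/-- At a finite place a squarefree polynomial has order `0` or `1`. -/
theorem ratFunc_ord_squarefree_le_one {P₀ : FunFld.Place k (RatFunc k)}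
    (hX : P₀.1 RatFunc.X ≤ 1) {f : k[X]} (hf : Squarefree f) :
    P₀.ord (ι f) = 0 ∨ P₀.ord (ι f) = 1 := by
  have hf0 : f ≠ 0 := hf.ne_zero
  have hle := ratFunc_val_poly_le_one hX f
  rcases hle.lt_or_eq with hlt | heq
  · right
    obtain ⟨p, hp, hpf, hpl⟩ := ratFunc_exists_irreducible_of_val_lt_one hX f hf0 hlt
    exact ratFunc_ord_of_squarefree hp hpl hf hpf
  · left
    rw [FunFld.Place.ord, heq, WithZero.log_one, neg_zero]

end RF

section HG

local notation "ι" => algebraMap k[X] (RatFunc k)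

variable {K : Type v} [Field K] [Algebra (RatFunc k) K] [Algebra k K]
  [IsScalarTower k (RatFunc k) K]

theorem val_le_exp_iff_ord (P : FunFld.Place k K) {x : K} (hx : x ≠ 0) (m : ℤ) :
    P.1 x ≤ WithZero.exp m ↔ -m ≤ P.ord x := by
  rw [val_eq_exp_neg_ord P hx, WithZero.exp_le_exp]
  constructor <;> intro h <;> linarith

/-- `L` of a conorm divisor is stable under the automorphisms of the extension. -/
theorem map_mem_L_conorm [FiniteDimensional (RatFunc k) K] (σ : K ≃ₐ[RatFunc k] K)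
    (D : FunFld.Divisor k (RatFunc k)) {z : K} (hz : z ∈ FunFld.L (FunFld.conorm K D)) :
    σ z ∈ FunFld.L (FunFld.conorm K D) := by
  have hKF := isFunctionField_ratFunc k
  intro Q
  obtain ⟨P₀, e, he⟩ := exists_isOverWith hKF Q
  have he' := galPlace_isOverWith σ.symm he
  have h1 := hz (galPlace σ.symm Q)
  rw [galPlace_apply, AlgEquiv.symm_symm, conorm_apply hKF D he'] at h1
  rw [conorm_apply hKF D he]
  exact h1

/-- Elements of `k(X)` in `L` of a multiple of the conorm of the infinite place are polynomials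
of bounded degree. -/
theorem exists_poly_of_mem_L_conorm_inf [FiniteDimensional (RatFunc k) K]
    {Pinf : FunFld.Place k (RatFunc k)} (hinf : Pinf.ord (RatFunc.X : RatFunc k) < 0)
    (N : ℕ) {r : RatFunc k}
    (hr : algebraMap (RatFunc k) K r ∈
      FunFld.L (FunFld.conorm K (Finsupp.single Pinf (N : ℤ)))) :
    ∃ p : k[X], r = ι p ∧ p ∈ Polynomial.degreeLT k (N + 1) := by
  have hKF := isFunctionField_ratFunc k
  have hinfX : ¬ Pinf.1 (RatFunc.X : RatFunc k) ≤ 1 := by
    rw [← ord_nonneg_iff]; omega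
  obtain ⟨p, rfl⟩ := ratFunc_eq_poly_of_forall_finite r (by
    intro P₀ hP₀
    obtain ⟨Q, e, he⟩ := exists_isOver (K' := K) hKF P₀
    have h1 := hr Q
    have hne : Pinf ≠ P₀ := by
      rintro rfl
      exact hinfX hP₀
    rw [conorm_apply hKF _ he, Finsupp.single_eq_of_ne' hne, mul_zero, WithZero.exp_zero] at h1
    exact (isOverWith_le_one_iff he _).1 h1)
  refine ⟨p, rfl, ?_⟩
  rw [Polynomial.mem_degreeLT]
  by_cases hp0 : p = 0
  · rw [hp0, degree_zero]; exact WithBot.bot_lt_coe _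
  obtain ⟨Q, e, he⟩ := exists_isOver (K' := K) hKF Pinf
  have h1 := hr Q
  have hpK : algebraMap (RatFunc k) K (ι p) ≠ 0 :=
    (_root_.map_ne_zero _).2 (ratFunc_map_ne_zero hp0)
  rw [conorm_apply hKF _ he, Finsupp.single_eq_same, val_le_exp_iff_ord Q hpK,
    ord_algebraMap_of_isOverWith he, ratFunc_inf_ord_poly hinf hp0] at h1
  have he0 : (0 : ℤ) < e := by exact_mod_cast isOverWith_pos he
  have h2 : (p.natDegree : ℤ) ≤ N := by nlinarith
  rw [degree_eq_natDegree hp0]
  have h3 : p.natDegree < N + 1 := by omega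
  exact_mod_cast h3

theorem ratFunc_finite_of_ne_inf {Pinf P₀ : FunFld.Place k (RatFunc k)}
    (hinf : Pinf.ord (RatFunc.X : RatFunc k) < 0) (hne : P₀ ≠ Pinf) :
    P₀.1 (RatFunc.X : RatFunc k) ≤ 1 := by
  by_contra hcon
  apply hne
  apply ratFunc_inf_unique _ hinf
  rw [← ord_nonneg_iff] at hcon
  omega

theorem ratFunc_ord_poly_nonneg {Pinf P₀ : FunFld.Place k (RatFunc k)}
    (hinf : Pinf.ord (RatFunc.X : RatFunc k) < 0) (hne : P₀ ≠ Pinf) (q : k[X]) :
    0 ≤ P₀.ord (ι q) := by
  rw [ord_nonneg_iff]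
  exact ratFunc_val_poly_le_one (ratFunc_finite_of_ne_inf hinf hne) q

/-- Polynomials of degree `≤ n` lie in `L(n · conorm ∞)`. -/
theorem poly_mem_L_conorm_inf [FiniteDimensional (RatFunc k) K]
    {Pinf : FunFld.Place k (RatFunc k)} (hinf : Pinf.ord (RatFunc.X : RatFunc k) < 0)
    (n : ℕ) {a : k[X]} (ha : a ∈ Polynomial.degreeLT k (n + 1)) :
    algebraMap (RatFunc k) K (ι a) ∈
      FunFld.L (FunFld.conorm K (Finsupp.single Pinf (n : ℤ))) := by
  classical
  have hKF := isFunctionField_ratFunc k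
  by_cases ha0 : a = 0
  · rw [ha0, map_zero, map_zero]; exact Submodule.zero_mem _
  rw [Polynomial.mem_degreeLT, degree_eq_natDegree ha0] at ha
  have hdeg : a.natDegree ≤ n := by
    have : a.natDegree < n + 1 := by exact_mod_cast ha
    omega
  have haK : algebraMap (RatFunc k) K (ι a) ≠ 0 :=
    (_root_.map_ne_zero _).2 (ratFunc_map_ne_zero ha0)
  intro Q
  obtain ⟨P₀, e, he⟩ := exists_isOverWith hKF Q
  rw [conorm_apply hKF _ he, val_le_exp_iff_ord Q haK, ord_algebraMap_of_isOverWith he]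
  have he0 : (0 : ℤ) ≤ e := Int.natCast_nonneg e
  by_cases hP : P₀ = Pinf
  · subst hP
    rw [Finsupp.single_eq_same, ratFunc_inf_ord_poly hinf ha0]
    have : (a.natDegree : ℤ) ≤ n := by exact_mod_cast hdeg
    nlinarith
  · rw [Finsupp.single_eq_of_ne' (Ne.symm hP), mul_zero, neg_zero]
    exact mul_nonneg he0 (ratFunc_ord_poly_nonneg hinf hP a)

/-- `b(x) y` lies in `L(n · conorm ∞)` when `2 deg b + deg f ≤ 2n`. -/
theorem poly_mul_mem_L_conorm_inf [FiniteDimensional (RatFunc k) K]
    {Pinf : FunFld.Place k (RatFunc k)} (hinf : Pinf.ord (RatFunc.X : RatFunc k) < 0)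
    {y : K} {f : k[X]} (hf0 : f ≠ 0) (heq : y ^ 2 = algebraMap (RatFunc k) K (ι f))
    (n m : ℕ) (hm : 2 * m + f.natDegree ≤ 2 * n) {b : k[X]}
    (hb : b ∈ Polynomial.degreeLT k (m + 1)) :
    algebraMap (RatFunc k) K (ι b) * y ∈
      FunFld.L (FunFld.conorm K (Finsupp.single Pinf (n : ℤ))) := by
  classical
  have hKF := isFunctionField_ratFunc k
  by_cases hb0 : b = 0
  · rw [hb0, map_zero, map_zero, zero_mul]; exact Submodule.zero_mem _
  rw [Polynomial.mem_degreeLT, degree_eq_natDegree hb0] at hb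
  have hdeg : b.natDegree ≤ m := by
    have : b.natDegree < m + 1 := by exact_mod_cast hb
    omega
  have hbK : algebraMap (RatFunc k) K (ι b) ≠ 0 :=
    (_root_.map_ne_zero _).2 (ratFunc_map_ne_zero hb0)
  have hfK : algebraMap (RatFunc k) K (ι f) ≠ 0 :=
    (_root_.map_ne_zero _).2 (ratFunc_map_ne_zero hf0)
  have hy0 : y ≠ 0 := by
    intro h0
    rw [h0, zero_pow two_ne_zero] at heq
    exact hfK heq.symm
  intro Q
  obtain ⟨P₀, e, he⟩ := exists_isOverWith hKF Q
  rw [conorm_apply hKF _ he, val_le_exp_iff_ord Q (mul_ne_zero hbK hy0), ord_mul Q hbK hy0,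
    ord_algebraMap_of_isOverWith he]
  have hy2 := two_mul_ord_eq_of_sq_eq he heq
  have he0 : (0 : ℤ) ≤ e := Int.natCast_nonneg e
  by_cases hP : P₀ = Pinf
  · subst hP
    rw [Finsupp.single_eq_same, ratFunc_inf_ord_poly hinf hb0]
    rw [ratFunc_inf_ord_poly hinf hf0] at hy2
    have h1 : (b.natDegree : ℤ) ≤ m := by exact_mod_cast hdeg
    have h2 : (2 * m + f.natDegree : ℤ) ≤ 2 * n := by exact_mod_cast hm
    nlinarith
  · rw [Finsupp.single_eq_of_ne' (Ne.symm hP), mul_zero, neg_zero]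
    have h1 := mul_nonneg he0 (ratFunc_ord_poly_nonneg hinf hP b)
    have h2 := mul_nonneg he0 (ratFunc_ord_poly_nonneg hinf hP f)
    linarith

/-- Elements of `L(n · conorm ∞)` in a hyperelliptic field are `a(x) + b(x) y` with bounded
degrees. -/
theorem exists_polys_of_mem_L_conorm_inf [FiniteDimensional (RatFunc k) K]
    (h2 : ringChar k ≠ 2) (hdeg : Module.finrank (RatFunc k) K = 2)
    {Pinf : FunFld.Place k (RatFunc k)} (hinf : Pinf.ord (RatFunc.X : RatFunc k) < 0)
    {y : K} {f : k[X]} (hf : Squarefree f) (hd : 1 ≤ f.natDegree)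
    (heq : y ^ 2 = algebraMap (RatFunc k) K (ι f))
    (n : ℕ) {z : K}
    (hz : z ∈ FunFld.L (FunFld.conorm K (Finsupp.single Pinf (n : ℤ)))) :
    ∃ a ∈ Polynomial.degreeLT k (n + 1),
      ∃ b ∈ Polynomial.degreeLT k ((2 * n - f.natDegree) / 2 + 1),
        z = algebraMap (RatFunc k) K (ι a) + algebraMap (RatFunc k) K (ι b) * y := by
  classical
  have hKF := isFunctionField_ratFunc k
  have hf0 : f ≠ 0 := hf.ne_zero
  have hyF := not_mem_range_of_sq_eq hf hd heq
  obtain ⟨α, β, rfl⟩ := Groth.Agent.Lib.H40Quad.exists_add_mul_eq hdeg heq hyF z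
  obtain ⟨σ, hσ⟩ := Groth.Agent.Lib.H40Quad.exists_algEquiv_neg hdeg heq hyF
  have hσz := map_mem_L_conorm σ _ hz
  rw [map_add, map_mul, σ.commutes, σ.commutes, hσ] at hσz
  have h2' : (2 : k) ≠ 0 := Ring.two_ne_zero h2
  have hK2 : (2 : K) ≠ 0 := by
    have := (algebraMap k K).injective.ne h2'
    rwa [map_ofNat, map_zero] at this
  have hinv : algebraMap k K (2⁻¹) = (2 : K)⁻¹ := by rw [map_inv₀, map_ofNat]
  have hα : algebraMap (RatFunc k) K α ∈
      FunFld.L (FunFld.conorm K (Finsupp.single Pinf (n : ℤ))) := by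
    have h3 : algebraMap (RatFunc k) K α = (2⁻¹ : k) •
        ((algebraMap (RatFunc k) K α + algebraMap (RatFunc k) K β * y) +
          (algebraMap (RatFunc k) K α + algebraMap (RatFunc k) K β * -y)) := by
      rw [Algebra.smul_def, hinv]
      field_simp
      ring
    rw [h3]
    exact Submodule.smul_mem _ _ (Submodule.add_mem _ hz hσz)
  have hβ : algebraMap (RatFunc k) K β * y ∈
      FunFld.L (FunFld.conorm K (Finsupp.single Pinf (n : ℤ))) := by
    have h3 : algebraMap (RatFunc k) K β * y = (2⁻¹ : k) •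
        ((algebraMap (RatFunc k) K α + algebraMap (RatFunc k) K β * y) -
          (algebraMap (RatFunc k) K α + algebraMap (RatFunc k) K β * -y)) := by
      rw [Algebra.smul_def, hinv]
      field_simp
      ring
    rw [h3]
    exact Submodule.smul_mem _ _ (Submodule.sub_mem _ hz hσz)
  obtain ⟨a, rfl, ha⟩ := exists_poly_of_mem_L_conorm_inf hinf n hα
  -- the square of `β y`
  have hγ : algebraMap (RatFunc k) K (β ^ 2 * ι f) ∈
      FunFld.L (FunFld.conorm K (Finsupp.single Pinf ((2 * n : ℕ) : ℤ))) := by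
    have h3 : algebraMap (RatFunc k) K (β ^ 2 * ι f) = (algebraMap (RatFunc k) K β * y) ^ 2 := by
      rw [mul_pow, heq, map_mul, map_pow]
    rw [h3]
    have h4 : Finsupp.single Pinf ((2 * n : ℕ) : ℤ) = (2 : ℤ) • Finsupp.single Pinf (n : ℤ) := by
      rw [Finsupp.smul_single]; push_cast; simp
    intro Q
    obtain ⟨P₀, e, he⟩ := exists_isOverWith hKF Q
    have h5 := hβ Q
    rw [conorm_apply hKF _ he] at h5 ⊢
    rw [map_pow, h4, Finsupp.smul_apply, smul_eq_mul]
    calc Q.1 (algebraMap (RatFunc k) K β * y) ^ 2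
        ≤ WithZero.exp ((e : ℤ) * (Finsupp.single Pinf (n : ℤ)) P₀) ^ 2 :=
          pow_le_pow_left₀ zero_le h5 2
      _ = WithZero.exp ((e : ℤ) * (2 * (Finsupp.single Pinf (n : ℤ)) P₀)) := by
          rw [← WithZero.exp_nsmul]; congr 1; simp; ring
  obtain ⟨c, hc, hcdeg⟩ := exists_poly_of_mem_L_conorm_inf hinf (2 * n) hγ
  -- `β` is a polynomial
  obtain ⟨b, rfl⟩ := ratFunc_eq_poly_of_forall_finite β (by
    intro P₀ hP₀
    by_cases hβ0 : β = 0
    · rw [hβ0, map_zero]; exact zero_le_one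
    have hc0 : c ≠ 0 := by
      rintro rfl
      rw [map_zero] at hc
      exact (mul_ne_zero (pow_ne_zero 2 hβ0) (ratFunc_map_ne_zero hf0)) hc
    have h3 : P₀.ord (β ^ 2 * ι f) = 2 * P₀.ord β + P₀.ord (ι f) := by
      rw [ord_mul P₀ (pow_ne_zero 2 hβ0) (ratFunc_map_ne_zero hf0), ord_pow]
      norm_num
    have h4 : 0 ≤ P₀.ord (ι c) := by
      rw [ord_nonneg_iff]; exact ratFunc_val_poly_le_one hP₀ c
    rw [hc] at h3
    rw [← ord_nonneg_iff]
    rcases ratFunc_ord_squarefree_le_one hP₀ hf with h5 | h5 <;> omega)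
  refine ⟨a, ha, b, ?_, rfl⟩
  have hbc : b ^ 2 * f = c := by
    apply IsFractionRing.injective k[X] (RatFunc k)
    rw [map_mul, map_pow]
    exact hc
  by_cases hb0 : b = 0
  · rw [hb0]; exact Submodule.zero_mem _
  rw [Polynomial.mem_degreeLT, degree_eq_natDegree hb0]
  have hc0 : c ≠ 0 := by
    rw [← hbc]; exact mul_ne_zero (pow_ne_zero 2 hb0) hf0
  rw [Polynomial.mem_degreeLT, degree_eq_natDegree hc0] at hcdeg
  have h6 : c.natDegree < 2 * n + 1 := by exact_mod_cast hcdeg
  have h7 : c.natDegree = 2 * b.natDegree + f.natDegree := by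
    rw [← hbc, natDegree_mul (pow_ne_zero 2 hb0) hf0, natDegree_pow]
  have h8 : b.natDegree < (2 * n - f.natDegree) / 2 + 1 := by omega
  exact_mod_cast h8

/-- The dimension of `L(n · conorm ∞)` in a hyperelliptic function field. -/
theorem ell_conorm_inf [FiniteDimensional (RatFunc k) K]
    (h2 : ringChar k ≠ 2) (hdeg : Module.finrank (RatFunc k) K = 2)
    {Pinf : FunFld.Place k (RatFunc k)} (hinf : Pinf.ord (RatFunc.X : RatFunc k) < 0)
    {y : K} {f : k[X]} (hf : Squarefree f) (hd : 1 ≤ f.natDegree)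
    (heq : y ^ 2 = algebraMap (RatFunc k) K (ι f))
    (n : ℕ) (hn : f.natDegree ≤ 2 * n) :
    FunFld.ell (FunFld.conorm K (Finsupp.single Pinf (n : ℤ))) =
      (n + 1) + ((2 * n - f.natDegree) / 2 + 1) := by
  classical
  have hf0 : f ≠ 0 := hf.ne_zero
  have hyF := not_mem_range_of_sq_eq hf hd heq
  set m := (2 * n - f.natDegree) / 2 with hm
  set E := FunFld.conorm K (Finsupp.single Pinf (n : ℤ)) with hE
  let V1 := Polynomial.degreeLT k (n + 1)
  let V2 := Polynomial.degreeLT k (m + 1)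
  let j : k[X] →ₗ[k] K := ((IsScalarTower.toAlgHom k (RatFunc k) K).comp
    (IsScalarTower.toAlgHom k k[X] (RatFunc k))).toLinearMap
  have hj : ∀ p : k[X], j p = algebraMap (RatFunc k) K (ι p) := fun p => rfl
  have hjinj : ∀ p : k[X], j p = 0 → p = 0 := by
    intro p hp
    rw [hj] at hp
    have h1 : ι p = 0 := (_root_.map_eq_zero _).1 hp
    exact (_root_.map_eq_zero_iff _ (IsFractionRing.injective k[X] (RatFunc k))).1 h1
  let φ : (V1 × V2) →ₗ[k] K :=
    (j ∘ₗ V1.subtype) ∘ₗ LinearMap.fst k V1 V2 +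
      (LinearMap.mulRight k y ∘ₗ j ∘ₗ V2.subtype) ∘ₗ LinearMap.snd k V1 V2
  have hφ : ∀ v : V1 × V2, φ v = algebraMap (RatFunc k) K (ι (v.1 : k[X])) +
      algebraMap (RatFunc k) K (ι (v.2 : k[X])) * y := fun v => rfl
  have hmem : ∀ v : V1 × V2, φ v ∈ FunFld.L E := by
    intro v
    rw [hφ]
    exact Submodule.add_mem _ (poly_mem_L_conorm_inf hinf n v.1.2)
      (poly_mul_mem_L_conorm_inf hinf hf0 heq n m (by omega) v.2.2)
  let ψ := φ.codRestrict (FunFld.L E) hmem
  have hinj : Function.Injective ψ := by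
    rw [← LinearMap.ker_eq_bot, LinearMap.ker_eq_bot']
    intro v hv
    have hv' : φ v = 0 := congrArg Subtype.val hv
    rw [hφ] at hv'
    have hq : (v.2 : k[X]) = 0 := by
      by_contra hq0
      have h1 : algebraMap (RatFunc k) K (ι (v.2 : k[X])) ≠ 0 :=
        (_root_.map_ne_zero _).2 (ratFunc_map_ne_zero hq0)
      apply hyF
      refine ⟨-(ι (v.1 : k[X])) / ι (v.2 : k[X]), ?_⟩
      rw [map_div₀, map_neg, div_eq_iff h1]
      linear_combination (-1 : K) * hv'
    have hp : (v.1 : k[X]) = 0 := by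
      rw [hq, map_zero, map_zero, zero_mul, add_zero] at hv'
      exact hjinj _ hv'
    exact Prod.ext (Subtype.ext hp) (Subtype.ext hq)
  have hsurj : Function.Surjective ψ := by
    rintro ⟨z, hz⟩
    obtain ⟨a, ha, b, hb, rfl⟩ := exists_polys_of_mem_L_conorm_inf h2 hdeg hinf hf hd heq n hz
    exact ⟨(⟨a, ha⟩, ⟨b, hb⟩), Subtype.ext rfl⟩
  have hequiv := (LinearEquiv.ofBijective ψ ⟨hinj, hsurj⟩).finrank_eq
  haveI : Module.Finite k V1 := Module.Finite.equiv (Polynomial.degreeLTEquiv k (n + 1)).symm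
  haveI : Module.Finite k V2 := Module.Finite.equiv (Polynomial.degreeLTEquiv k (m + 1)).symm
  have hV1 : Module.finrank k V1 = n + 1 := by
    rw [(Polynomial.degreeLTEquiv k (n + 1)).finrank_eq, Module.finrank_fin_fun]
  have hV2 : Module.finrank k V2 = m + 1 := by
    rw [(Polynomial.degreeLTEquiv k (m + 1)).finrank_eq, Module.finrank_fin_fun]
  rw [Module.finrank_prod, hV1, hV2] at hequiv
  exact hequiv.symm

/-- The genus of a hyperelliptic function field (over `RatFunc k`). -/
theorem hyper_genus_ratFunc (hK : FunFld.IsFunctionField k K)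
    (h2 : ringChar k ≠ 2) (hdeg : Module.finrank (RatFunc k) K = 2)
    {y : K} {f : k[X]} (hf : Squarefree f) (hd : 1 ≤ f.natDegree)
    (heq : y ^ 2 = algebraMap (RatFunc k) K (ι f)) :
    FunFld.genus k K = (f.natDegree - 1) / 2 := by
  have hKF := isFunctionField_ratFunc k
  haveI : FiniteDimensional (RatFunc k) K :=
    Module.finite_of_finrank_pos (by rw [hdeg]; norm_num)
  have hX : (RatFunc.X : RatFunc k) ∉ Set.range (algebraMap k (RatFunc k)) := by
    rintro ⟨c, hc⟩
    exact (RatFunc.transcendental_X (K := k)) (hc ▸ isAlgebraic_algebraMap c)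
  obtain ⟨-, Pinf, hinf⟩ := exists_zero_and_exists_pole hKF _ hX
  set g := FunFld.genus k K with hg
  set n := g + f.natDegree with hn
  have h1 := ell_conorm_inf h2 hdeg hinf hf hd heq n (by omega)
  have hdegE : (FunFld.conorm K (Finsupp.single Pinf (n : ℤ))).deg = 2 * n := by
    rw [deg_conorm hKF, hdeg, deg_single, ratFunc_inf_deg hinf]
    push_cast; ring
  have h3 := ell_eq_of_deg_ge hK (FunFld.conorm K (Finsupp.single Pinf (n : ℤ)))
    (by rw [hdegE, hn]; push_cast; omega)
  rw [h1, hdegE] at h3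
  push_cast at h3
  omega

end HG

section Bridge

variable {K : Type v} [Field K] [Algebra k K]

/-- The genus of a hyperelliptic function field `k(x, y)`, `y² = f(x)`. -/
theorem hyper_genus (hK : FunFld.IsFunctionField k K)
    (h2 : ringChar k ≠ 2) (x y : K) (hx : Transcendental k x)
    (hxy : IntermediateField.adjoin k ({x, y} : Set K) = ⊤)
    (f : k[X]) (hf : Squarefree f) (hd : 1 ≤ f.natDegree)
    (heq : y ^ 2 = Polynomial.aeval x f) :
    FunFld.genus k K = (f.natDegree - 1) / 2 := by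
  letI alg : Algebra (RatFunc k) K := (ratFuncHom hx).toRingHom.toAlgebra
  haveI tower : IsScalarTower k (RatFunc k) K :=
    IsScalarTower.of_algebraMap_eq (fun c => ((ratFuncHom hx).commutes c).symm)
  have halg : ∀ r : RatFunc k, algebraMap (RatFunc k) K r = ratFuncHom hx r := fun _ => rfl
  have heq' : y ^ 2 = algebraMap (RatFunc k) K (algebraMap k[X] (RatFunc k) f) := by
    rw [heq, halg, ratFuncHom_algebraMap]
  have hyF := not_mem_range_of_sq_eq hf hd heq'
  have hyint : IsIntegral (RatFunc k) y := by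
    refine ⟨X ^ 2 - C (algebraMap k[X] (RatFunc k) f), monic_X_pow_sub_C _ two_ne_zero, ?_⟩
    rw [eval₂_sub, eval₂_pow, eval₂_X, eval₂_C, heq', sub_self]
  have htop : (RatFunc k)⟮y⟯ = ⊤ := by
    rw [eq_top_iff]
    intro z _
    have hz : z ∈ IntermediateField.adjoin k ({x, y} : Set K) := by rw [hxy]; trivial
    have hle : IntermediateField.adjoin k ({x, y} : Set K) ≤
        ((RatFunc k)⟮y⟯).restrictScalars k := by
      rw [IntermediateField.adjoin_le_iff]
      rintro w (rfl | rfl)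
      · have : w = algebraMap (RatFunc k) K RatFunc.X := by
          rw [halg, ratFuncHom_X]
        rw [this]
        exact ((RatFunc k)⟮y⟯).algebraMap_mem _
      · exact mem_adjoin_simple_self (RatFunc k) w
    exact hle hz
  have hdeg : Module.finrank (RatFunc k) K = 2 := by
    have h1 := IntermediateField.adjoin.finrank hyint
    rw [htop, IntermediateField.finrank_top', Groth.Agent.Lib.H40Quad.minpoly_eq_of_sq_eq heq' hyF,
      natDegree_X_pow_sub_C] at h1
    exact h1
  exact hyper_genus_ratFunc hK h2 hdeg hf hd heq'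

end Bridge

end Groth.Agent.Lib.H40FunFld
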