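import Groth.Agent.Lib.H40Quad
import Mathlib.FieldTheory.Minpoly.Finite

set_option autoImplicit false
set_option linter.style.haveILetI false
set_option linter.unusedSectionVars false
open Polynomial

namespace Groth.Agent.Lib.H40Quad

open IntermediateField

universe u v
variable {F : Type u} {K : Type v} [Field F] [Field K] [Algebra F K]

theorem natDegree_minpoly_eq_two (hdeg : Module.finrank F K = 2) {y : K}
    (hyF : y ∉ Set.range (algebraMap F K)) : (minpoly F y).natDegree = 2 := by
  haveI : FiniteDimensional F K := Module.finite_of_finrank_pos (by rw [hdeg]; norm_num)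
  have hint : IsIntegral F y := IsIntegral.of_finite F y
  have h2 : 2 ≤ (minpoly F y).natDegree := by
    rw [minpoly.two_le_natDegree_iff hint]
    exact hyF
  have h3 := minpoly.natDegree_le (A := F) y
  omega

/-- A power basis `1, y` of a quadratic extension generated by any element outside the base. -/
noncomputable def powerBasisOfNotMem (hdeg : Module.finrank F K = 2) {y : K}
    (hyF : y ∉ Set.range (algebraMap F K)) : PowerBasis F K :=
  haveI : FiniteDimensional F K := Module.finite_of_finrank_pos (by rw [hdeg]; norm_num)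
  have hint : IsIntegral F y := IsIntegral.of_finite F y
  have htop : F⟮y⟯ = ⊤ := by
    rw [Field.primitive_element_iff_minpoly_natDegree_eq, natDegree_minpoly_eq_two hdeg hyF, hdeg]
  (IntermediateField.adjoin.powerBasis hint).map
    ((IntermediateField.equivOfEq htop).trans IntermediateField.topEquiv)

theorem powerBasisOfNotMem_gen (hdeg : Module.finrank F K = 2) {y : K}
    (hyF : y ∉ Set.range (algebraMap F K)) : (powerBasisOfNotMem hdeg hyF).gen = y := rfl

theorem powerBasisOfNotMem_dim (hdeg : Module.finrank F K = 2) {y : K}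
    (hyF : y ∉ Set.range (algebraMap F K)) : (powerBasisOfNotMem hdeg hyF).dim = 2 := by
  have h1 := (powerBasisOfNotMem hdeg hyF).finrank
  rw [hdeg] at h1
  exact h1.symm

/-- Every element of a quadratic extension is `α + β y` for any `y` outside the base. -/
theorem exists_add_mul_eq' (hdeg : Module.finrank F K = 2) {y : K}
    (hyF : y ∉ Set.range (algebraMap F K)) (z : K) :
    ∃ α β : F, z = algebraMap F K α + algebraMap F K β * y := by
  obtain ⟨f, hf, hz⟩ := (powerBasisOfNotMem hdeg hyF).exists_eq_aeval z
  rw [powerBasisOfNotMem_dim] at hf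
  rw [powerBasisOfNotMem_gen] at hz
  obtain ⟨a, b, rfl⟩ := Polynomial.exists_eq_X_add_C_of_natDegree_le_one (by omega : f.natDegree ≤ 1)
  refine ⟨b, a, ?_⟩
  rw [hz]
  simp only [map_add, map_mul, aeval_C, aeval_X]
  ring

/-- Conjugation in a quadratic extension: two elements outside the base with the same minimal
polynomial are exchanged by an automorphism. -/
theorem exists_algEquiv_of_minpoly_eq (hdeg : Module.finrank F K = 2) {y y' : K}
    (hyF : y ∉ Set.range (algebraMap F K)) (hyF' : y' ∉ Set.range (algebraMap F K))
    (h : minpoly F y = minpoly F y') : ∃ σ : K ≃ₐ[F] K, σ y = y' :=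
  ⟨(powerBasisOfNotMem hdeg hyF).equivOfMinpoly (powerBasisOfNotMem hdeg hyF') h,
    (powerBasisOfNotMem hdeg hyF).equivOfMinpoly_gen (powerBasisOfNotMem hdeg hyF') h⟩

/-- The Artin–Schreier conjugation `y ↦ y + 1` in characteristic two. -/
theorem exists_algEquiv_add_one (hdeg : Module.finrank F K = 2) (h2 : (2 : K) = 0) {y : K} {g : F}
    (hy : y ^ 2 + y = algebraMap F K g) (hyF : y ∉ Set.range (algebraMap F K)) :
    ∃ σ : K ≃ₐ[F] K, σ y = y + 1 := by
  haveI : FiniteDimensional F K := Module.finite_of_finrank_pos (by rw [hdeg]; norm_num)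
  have hyF' : y + 1 ∉ Set.range (algebraMap F K) := by
    rintro ⟨a, ha⟩
    exact hyF ⟨a - 1, by rw [map_sub, ha, map_one, add_sub_cancel_right]⟩
  have hy' : (y + 1) ^ 2 + (y + 1) = algebraMap F K g := by
    rw [← hy]
    linear_combination (y + 1) * h2
  have key : ∀ w : K, w ∉ Set.range (algebraMap F K) → w ^ 2 + w = algebraMap F K g →
      minpoly F w = X ^ 2 + X - C g := by
    intro w hw hwg
    have hint : IsIntegral F w := IsIntegral.of_finite F w
    have hmon : (X ^ 2 + X - C g : F[X]).Monic := by
      have h1 : (X ^ 2 + X - C g : F[X]) = X ^ 2 + (X - C g) := by ring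
      rw [h1]
      apply monic_X_pow_add
      rw [degree_X_sub_C]
      norm_num
    have hnd : (X ^ 2 + X - C g : F[X]).natDegree = 2 := by
      have h1 : (X ^ 2 + X - C g : F[X]) = X ^ 2 + (X - C g) := by ring
      rw [h1, natDegree_add_eq_left_of_degree_lt, natDegree_X_pow]
      rw [degree_X_sub_C, degree_X_pow]
      norm_num
    have hdvd : minpoly F w ∣ X ^ 2 + X - C g := by
      apply minpoly.dvd
      rw [map_sub, map_add, map_pow, aeval_X, aeval_C, hwg, sub_self]
    refine (Polynomial.eq_of_monic_of_dvd_of_natDegree_le (minpoly.monic hint) hmon hdvd ?_).symm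
    rw [hnd, natDegree_minpoly_eq_two hdeg hw]
  exact exists_algEquiv_of_minpoly_eq hdeg hyF hyF' (by rw [key y hyF hy, key (y + 1) hyF' hy'])

end Groth.Agent.Lib.H40Quad
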