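import Groth.Agent.Lib.H40FunFldAS
import Groth.Agent.Lib.H40FunFldHyperGenus
import Groth.Agent.Lib.H40Quad2

set_option autoImplicit false
set_option linter.style.haveILetI false
set_option linter.unusedSectionVars false
open FunFld Polynomial

namespace Groth.Agent.Lib.H40FunFld

open IntermediateField

universe u v w
variable {k : Type u} [Field k]

section ASG

variable {K : Type v} [Field K] [Algebra k K] {K' : Type w} [Field K'] [Algebra K K']
  [Algebra k K'] [IsScalarTower k K K']

theorem val_le_exp_iff_neg_le_ord (P : FunFld.Place k K) {x : K} (hx : x ≠ 0) (m : ℤ) :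
    P.1 x ≤ WithZero.exp m ↔ -m ≤ P.ord x := by
  rw [val_eq_exp_neg_ord P hx, WithZero.exp_le_exp]
  constructor <;> intro h <;> linarith

/-- `L` of a conorm divisor is stable under the automorphisms of the extension. -/
theorem map_mem_L_conorm' (hK : FunFld.IsFunctionField k K) [FiniteDimensional K K']
    (σ : K' ≃ₐ[K] K') (D : FunFld.Divisor k K) {z : K'}
    (hz : z ∈ FunFld.L (FunFld.conorm K' D)) : σ z ∈ FunFld.L (FunFld.conorm K' D) := by
  intro Q
  obtain ⟨P₀, e, he⟩ := exists_isOverWith hK Q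
  have he' := galPlace_isOverWith σ.symm he
  have h1 := hz (galPlace σ.symm Q)
  rw [galPlace_apply, AlgEquiv.symm_symm, conorm_apply hK D he'] at h1
  rw [conorm_apply hK D he]
  exact h1

theorem exp_natCast_mul (e : ℕ) (m : ℤ) :
    (WithZero.exp ((e : ℤ) * m) : WithZero (Multiplicative ℤ)) = WithZero.exp m ^ e := by
  rw [← WithZero.exp_nsmul]; simp

theorem algebraMap_mem_L_conorm (hK : FunFld.IsFunctionField k K) [FiniteDimensional K K']
    {B : FunFld.Divisor k K} {a : K} (ha : a ∈ FunFld.L B) :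
    algebraMap K K' a ∈ FunFld.L (FunFld.conorm K' B) := by
  intro Q
  obtain ⟨P, e, he⟩ := exists_isOverWith hK Q
  rw [conorm_apply hK B he, he a, exp_natCast_mul]
  exact pow_le_pow_left₀ zero_le (ha P) e

theorem mem_L_of_algebraMap_mem_L_conorm (hK : FunFld.IsFunctionField k K)
    [FiniteDimensional K K'] {B : FunFld.Divisor k K} {a : K}
    (ha : algebraMap K K' a ∈ FunFld.L (FunFld.conorm K' B)) : a ∈ FunFld.L B := by
  intro P
  obtain ⟨Q, e, he⟩ := exists_isOver (K' := K') hK P
  have h1 := ha Q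
  rw [conorm_apply hK B he, he a, exp_natCast_mul] at h1
  exact (pow_le_pow_iff_left₀ zero_le zero_le (isOverWith_pos he).ne').1 h1

/-- Half the pole divisor, rounded up: `∑ ((1 - ord_P f)/2) P` over the poles of `f`. -/
noncomputable def poleHalf (f : K) : FunFld.Divisor k K :=
  (FunFld.div k f).mapRange (fun n => if n < 0 then (1 - n) / 2 else 0) (by simp)

theorem poleHalf_apply (hK : FunFld.IsFunctionField k K) (f : K) (P : FunFld.Place k K) :
    poleHalf (k := k) f P = if P.ord f < 0 then (1 - P.ord f) / 2 else 0 := by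
  rw [poleHalf, Finsupp.mapRange_apply, div_apply hK]

theorem poleHalf_nonneg (hK : FunFld.IsFunctionField k K) (f : K) : 0 ≤ poleHalf (k := k) f := by
  intro P
  rw [poleHalf_apply hK]
  split_ifs with h
  · simp only [Finsupp.coe_zero, Pi.zero_apply]; omega
  · exact le_rfl

theorem deg_poleHalf (f : K) :
    (poleHalf (k := k) f).deg = ∑ P ∈ (FunFld.div k f).support with FunFld.div k f P < 0,
      (1 - FunFld.div k f P) / 2 * (P.deg : ℤ) := by
  classical
  rw [FunFld.Divisor.deg, poleHalf, Finsupp.sum_mapRange_index (by intro P; simp), Finsupp.sum,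
    Finset.sum_filter]
  refine Finset.sum_congr rfl fun P _ => ?_
  split_ifs <;> simp

section AS2

variable (hK : FunFld.IsFunctionField k K) (h2 : ringChar k = 2)
  (hdeg : Module.finrank K K' = 2) {y : K'} (hyK : y ∉ Set.range (algebraMap K K'))
  {f : K} (heq : y ^ 2 + y = algebraMap K K' f)

include heq in
theorem as_val_y_le_one {Q : FunFld.Place k K'} {P : FunFld.Place k K} {e : ℕ}
    (he : FunFld.IsOverWith Q P e) (hf : 0 ≤ P.ord f) : Q.1 y ≤ 1 := by
  by_contra hy1
  push Not at hy1
  have hf1 : Q.1 (algebraMap K K' f) ≤ 1 :=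
    (isOverWith_le_one_iff he f).2 ((ord_nonneg_iff P f).1 hf)
  have h3 : Q.1 y < Q.1 (y ^ 2) := by
    rw [map_pow, pow_two]
    have hpos : 0 < Q.1 y := lt_trans zero_lt_one hy1
    calc Q.1 y = Q.1 y * 1 := (mul_one _).symm
      _ < Q.1 y * Q.1 y := mul_lt_mul_of_pos_left hy1 hpos
  have h4 : Q.1 (y ^ 2 + y) = Q.1 (y ^ 2) := Valuation.map_add_eq_of_lt_left _ h3
  rw [heq] at h4
  rw [h4] at hf1
  exact absurd (lt_trans hy1 h3) (not_lt.2 hf1)

include hK h2 hdeg hyK heq in
theorem as_pole (hodd : ∀ P : FunFld.Place k K, P.ord f < 0 → Odd (P.ord f))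
    {Q : FunFld.Place k K'} {P : FunFld.Place k K} {e : ℕ}
    (he : FunFld.IsOverWith Q P e) (hf : P.ord f < 0) : e = 2 ∧ Q.ord y = P.ord f := by
  have h1 := ((as_ramification hK h2 hdeg y hyK f heq P).1 ⟨hf, hodd P hf⟩).2 Q ⟨e, he⟩
  have he2 : e = 2 := (isOverWith_unique he h1.1).2
  refine ⟨he2, ?_⟩
  have h3 := two_mul_ord_eq_of_as he heq hf
  rw [he2] at h3
  push_cast at h3
  linarith

include hyK in
theorem as_y_ne_zero : y ≠ 0 := by
  rintro rfl
  exact hyK ⟨0, map_zero _⟩

include hK h2 hdeg hyK heq in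
/-- `b y ∈ L(conorm B)` when `b ∈ L(B - D)`, `D` the half pole divisor of `f`. -/
theorem as_mul_mem_L_conorm [FiniteDimensional K K']
    (hodd : ∀ P : FunFld.Place k K, P.ord f < 0 → Odd (P.ord f))
    {B : FunFld.Divisor k K} {b : K} (hb : b ∈ FunFld.L (B - poleHalf (k := k) f)) :
    algebraMap K K' b * y ∈ FunFld.L (FunFld.conorm K' B) := by
  by_cases hb0 : b = 0
  · rw [hb0, map_zero, zero_mul]; exact Submodule.zero_mem _
  have hbK : algebraMap K K' b ≠ 0 := (_root_.map_ne_zero _).2 hb0
  have hy0 := as_y_ne_zero hyK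
  intro Q
  obtain ⟨P, e, he⟩ := exists_isOverWith hK Q
  rw [conorm_apply hK B he]
  have hbP := hb P
  rw [Finsupp.sub_apply, poleHalf_apply hK] at hbP
  by_cases hf : P.ord f < 0
  · obtain ⟨he2, hy⟩ := as_pole hK h2 hdeg hyK heq hodd he hf
    rw [if_pos hf, val_le_exp_iff_neg_le_ord P hb0] at hbP
    rw [val_le_exp_iff_neg_le_ord Q (mul_ne_zero hbK hy0), ord_mul Q hbK hy0,
      ord_algebraMap_of_isOverWith he, hy, he2]
    obtain ⟨j, hj⟩ := hodd P hf
    push_cast
    omega
  · rw [if_neg hf, sub_zero] at hbP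
    push Not at hf
    rw [map_mul, he b, exp_natCast_mul]
    calc P.1 b ^ e * Q.1 y ≤ WithZero.exp (B P) ^ e * 1 :=
          mul_le_mul' (pow_le_pow_left₀ zero_le hbP e) (as_val_y_le_one heq he hf)
      _ = WithZero.exp (B P) ^ e := mul_one _

include h2 in
theorem two_eq_zero_of_ringChar : (2 : K') = 0 := by
  haveI : CharP k 2 := ringChar.of_eq h2
  have h3 : ((2 : ℕ) : k) = 0 := CharP.cast_eq_zero k 2
  have h4 : (2 : K') = algebraMap k K' ((2 : ℕ) : k) := by
    rw [Nat.cast_ofNat, map_ofNat]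
  rw [h4, h3, map_zero]

include hK h2 hdeg hyK heq in
/-- If `a + b y ∈ L(conorm B)` then `a ∈ L(B)` and `b ∈ L(B - D)`. -/
theorem as_mem_of_mem_L_conorm [FiniteDimensional K K']
    (hodd : ∀ P : FunFld.Place k K, P.ord f < 0 → Odd (P.ord f))
    {B : FunFld.Divisor k K} {a b : K}
    (hz : algebraMap K K' a + algebraMap K K' b * y ∈ FunFld.L (FunFld.conorm K' B)) :
    a ∈ FunFld.L B ∧ b ∈ FunFld.L (B - poleHalf (k := k) f) := by
  have h2K : (2 : K') = 0 := two_eq_zero_of_ringChar (K' := K') h2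
  obtain ⟨σ, hσ⟩ := Groth.Agent.Lib.H40Quad.exists_algEquiv_add_one hdeg h2K heq hyK
  have hσz := map_mem_L_conorm' hK σ B hz
  rw [map_add, map_mul, σ.commutes, σ.commutes, hσ] at hσz
  have hbB : b ∈ FunFld.L B := by
    apply mem_L_of_algebraMap_mem_L_conorm (K' := K') hK
    have h3 : algebraMap K K' b = (algebraMap K K' a + algebraMap K K' b * (y + 1)) -
        (algebraMap K K' a + algebraMap K K' b * y) := by ring
    rw [h3]
    exact Submodule.sub_mem _ hσz hz
  have hy0 := as_y_ne_zero hyK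
  have key : ∀ P : FunFld.Place k K,
      P.1 a ≤ WithZero.exp (B P) ∧ P.1 b ≤ WithZero.exp ((B - poleHalf (k := k) f) P) := by
    intro P
    obtain ⟨Q, e, he⟩ := exists_isOver (K' := K') hK P
    have hzQ := hz Q
    rw [conorm_apply hK B he] at hzQ
    rw [Finsupp.sub_apply, poleHalf_apply hK]
    by_cases hf : P.ord f < 0
    · obtain ⟨he2, hy⟩ := as_pole hK h2 hdeg hyK heq hodd he hf
      obtain ⟨j, hj⟩ := hodd P hf
      rw [if_pos hf]
      rw [he2] at hzQ
      -- the two summands have different valuations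
      have hsplit : Q.1 (algebraMap K K' a) ≤ WithZero.exp ((2 : ℕ) * B P) ∧
          Q.1 (algebraMap K K' b * y) ≤ WithZero.exp ((2 : ℕ) * B P) := by
        by_cases ha0 : a = 0
        · rw [ha0, map_zero, zero_add] at hzQ
          rw [ha0, map_zero, map_zero]
          exact ⟨zero_le, hzQ⟩
        by_cases hb0 : b = 0
        · rw [hb0, map_zero, zero_mul, add_zero] at hzQ
          rw [hb0, map_zero, zero_mul, map_zero]
          exact ⟨hzQ, zero_le⟩
        have haK : algebraMap K K' a ≠ 0 := (_root_.map_ne_zero _).2 ha0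
        have hbK : algebraMap K K' b ≠ 0 := (_root_.map_ne_zero _).2 hb0
        have hne : Q.1 (algebraMap K K' a) ≠ Q.1 (algebraMap K K' b * y) := by
          intro heqv
          have h5 : Q.ord (algebraMap K K' a) = Q.ord (algebraMap K K' b * y) := by
            unfold FunFld.Place.ord
            rw [heqv]
          rw [ord_mul Q hbK hy0, ord_algebraMap_of_isOverWith he, ord_algebraMap_of_isOverWith he,
            hy, he2] at h5
          push_cast at h5
          omega
        rw [Valuation.map_add_of_distinct_val _ hne] at hzQ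
        exact ⟨(le_max_left _ _).trans hzQ, (le_max_right _ _).trans hzQ⟩
      constructor
      · have h5 := hsplit.1
        rw [he a, he2, exp_natCast_mul] at h5
        exact (pow_le_pow_iff_left₀ zero_le zero_le two_ne_zero).1 h5
      · by_cases hb0 : b = 0
        · rw [hb0, map_zero]; exact zero_le
        have hbK : algebraMap K K' b ≠ 0 := (_root_.map_ne_zero _).2 hb0
        have h5 := hsplit.2
        rw [val_le_exp_iff_neg_le_ord Q (mul_ne_zero hbK hy0), ord_mul Q hbK hy0,
          ord_algebraMap_of_isOverWith he, hy, he2] at h5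
        rw [val_le_exp_iff_neg_le_ord P hb0]
        push_cast at h5
        omega
    · rw [if_neg hf, sub_zero]
      push Not at hf
      refine ⟨?_, hbB P⟩
      have hyQ := as_val_y_le_one heq he hf
      have h5 : algebraMap K K' a = (algebraMap K K' a + algebraMap K K' b * y) -
          algebraMap K K' b * y := by ring
      have h6 : Q.1 (algebraMap K K' b * y) ≤ WithZero.exp ((e : ℤ) * B P) := by
        rw [map_mul, he b, exp_natCast_mul]
        calc P.1 b ^ e * Q.1 y ≤ WithZero.exp (B P) ^ e * 1 :=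
              mul_le_mul' (pow_le_pow_left₀ zero_le (hbB P) e) hyQ
          _ = WithZero.exp (B P) ^ e := mul_one _
      have h7 : Q.1 (algebraMap K K' a) ≤ WithZero.exp ((e : ℤ) * B P) := by
        rw [h5]
        exact Valuation.map_sub_le _ hzQ h6
      rw [he a, exp_natCast_mul] at h7
      exact (pow_le_pow_iff_left₀ zero_le zero_le (isOverWith_pos he).ne').1 h7
  exact ⟨fun P => (key P).1, fun P => (key P).2⟩

include hK h2 hdeg hyK heq in
/-- `ℓ(conorm B) = ℓ(B) + ℓ(B - D)` for an Artin–Schreier extension in characteristic two. -/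
theorem as_ell_conorm [FiniteDimensional K K']
    (hodd : ∀ P : FunFld.Place k K, P.ord f < 0 → Odd (P.ord f)) (B : FunFld.Divisor k K) :
    FunFld.ell (FunFld.conorm K' B) = FunFld.ell B + FunFld.ell (B - poleHalf (k := k) f) := by
  classical
  set D := poleHalf (k := k) f with hD
  let V1 := FunFld.L B
  let V2 := FunFld.L (B - D)
  let j : K →ₗ[k] K' := (IsScalarTower.toAlgHom k K K').toLinearMap
  have hj : ∀ p : K, j p = algebraMap K K' p := fun p => rfl
  let φ : (V1 × V2) →ₗ[k] K' :=
    (j ∘ₗ V1.subtype) ∘ₗ LinearMap.fst k V1 V2 +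
      (LinearMap.mulRight k y ∘ₗ j ∘ₗ V2.subtype) ∘ₗ LinearMap.snd k V1 V2
  have hφ : ∀ v : V1 × V2, φ v = algebraMap K K' (v.1 : K) + algebraMap K K' (v.2 : K) * y :=
    fun v => rfl
  have hmem : ∀ v : V1 × V2, φ v ∈ FunFld.L (FunFld.conorm K' B) := by
    intro v
    rw [hφ]
    exact Submodule.add_mem _ (algebraMap_mem_L_conorm hK v.1.2)
      (as_mul_mem_L_conorm hK h2 hdeg hyK heq hodd v.2.2)
  let ψ := φ.codRestrict (FunFld.L (FunFld.conorm K' B)) hmem
  have hinj : Function.Injective ψ := by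
    rw [← LinearMap.ker_eq_bot, LinearMap.ker_eq_bot']
    intro v hv
    have hv' : φ v = 0 := congrArg Subtype.val hv
    rw [hφ] at hv'
    have hq : (v.2 : K) = 0 := by
      by_contra hq0
      have h1 : algebraMap K K' (v.2 : K) ≠ 0 := (_root_.map_ne_zero _).2 hq0
      apply hyK
      refine ⟨-(v.1 : K) / (v.2 : K), ?_⟩
      rw [map_div₀, map_neg, div_eq_iff h1]
      linear_combination (-1 : K') * hv'
    have hp : (v.1 : K) = 0 := by
      rw [hq, map_zero, zero_mul, add_zero] at hv'
      exact (_root_.map_eq_zero _).1 hv'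
    exact Prod.ext (Subtype.ext hp) (Subtype.ext hq)
  have hsurj : Function.Surjective ψ := by
    rintro ⟨z, hz⟩
    obtain ⟨a, b, rfl⟩ := Groth.Agent.Lib.H40Quad.exists_add_mul_eq' hdeg hyK z
    obtain ⟨ha, hb⟩ := as_mem_of_mem_L_conorm hK h2 hdeg hyK heq hodd hz
    exact ⟨(⟨a, ha⟩, ⟨b, hb⟩), Subtype.ext rfl⟩
  have hequiv := (LinearEquiv.ofBijective ψ ⟨hinj, hsurj⟩).finrank_eq
  haveI : Module.Finite k V1 := finiteDimensional_L hK B
  haveI : Module.Finite k V2 := finiteDimensional_L hK (B - D)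
  rw [Module.finrank_prod] at hequiv
  exact hequiv.symm

include hK h2 hdeg hyK heq in
/-- Genus of an Artin–Schreier extension `y² + y = f` in characteristic two, all poles of `f`
of odd order: `g' = 2g - 1 + deg D`. -/
theorem as_genus (hK' : FunFld.IsFunctionField k K')
    (hodd : ∀ P : FunFld.Place k K, P.ord f < 0 → Odd (P.ord f)) :
    (FunFld.genus k K' : ℤ) = 2 * (FunFld.genus k K : ℤ) - 1 + (poleHalf (k := k) f).deg := by
  haveI : FiniteDimensional K K' := Module.finite_of_finrank_pos (by rw [hdeg]; norm_num)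
  set D := poleHalf (k := k) f with hD
  have hD0 : 0 ≤ D.deg := deg_nonneg (poleHalf_nonneg hK f)
  obtain ⟨t, ht, -⟩ := hK.1
  obtain ⟨P₁, -⟩ := exists_place_val_lt_one hK ht
  have hP₁ : (1 : ℤ) ≤ P₁.deg := by exact_mod_cast deg_pos hK P₁
  set N : ℕ := 2 * FunFld.genus k K + 2 * FunFld.genus k K' + D.deg.toNat + 2 with hN
  set B : FunFld.Divisor k K := Finsupp.single P₁ (N : ℤ) with hB
  have hdegB : B.deg = N * P₁.deg := deg_single P₁ N
  have hNle : (N : ℤ) ≤ B.deg := by rw [hdegB]; nlinarith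
  have hNval : (N : ℤ) = 2 * FunFld.genus k K + 2 * FunFld.genus k K' + D.deg + 2 := by
    rw [hN]; push_cast; rw [Int.toNat_of_nonneg hD0]
  have h1 := ell_eq_of_deg_ge hK B (by linarith)
  have h3 := ell_eq_of_deg_ge hK (B - D) (by rw [deg_sub]; linarith)
  have hdegC : (FunFld.conorm K' B).deg = 2 * B.deg := by
    rw [deg_conorm hK, hdeg]; push_cast; ring
  have h4 := ell_eq_of_deg_ge hK' (FunFld.conorm K' B) (by rw [hdegC]; linarith)
  have h5 := as_ell_conorm hK h2 hdeg hyK heq hodd B
  rw [h5] at h4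
  push_cast at h4
  rw [h1, h3, hdegC, deg_sub] at h4
  linarith

end AS2

section ASRat

variable {K : Type v} [Field K] [Algebra k K] [Algebra (RatFunc k) K]
  [IsScalarTower k (RatFunc k) K]

/-- Genus of an Artin–Schreier cover of the line in characteristic two. -/
theorem as_genus_ratFunc (h2 : ringChar k = 2) (hK : FunFld.IsFunctionField k K)
    (hdeg : Module.finrank (RatFunc k) K = 2) (y : K)
    (hy : y ∉ Set.range (algebraMap (RatFunc k) K))
    (f : RatFunc k) (heq : y ^ 2 + y = algebraMap (RatFunc k) K f)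
    (hodd : ∀ P : FunFld.Place k (RatFunc k), FunFld.div k f P < 0 → Odd (FunFld.div k f P)) :
    (FunFld.genus k K : ℤ) = -1 + ∑ P ∈ (FunFld.div k f).support with FunFld.div k f P < 0,
      (1 - FunFld.div k f P) / 2 * (P.deg : ℤ) := by
  have hKF := isFunctionField_ratFunc k
  have hodd' : ∀ P : FunFld.Place k (RatFunc k), P.ord f < 0 → Odd (P.ord f) := by
    intro P hP
    have := hodd P (by rw [div_apply hKF]; exact hP)
    rwa [div_apply hKF] at this
  have h1 := as_genus hKF h2 hdeg hy heq hK hodd'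
  have hg0 : FunFld.genus k (RatFunc k) = 0 :=
    genus_eq_zero_of_adjoin_eq_top hKF (x := RatFunc.X) RatFunc.adjoin_X
  rw [hg0, deg_poleHalf] at h1
  rw [h1]; push_cast; ring

end ASRat

end ASG

end Groth.Agent.Lib.H40FunFld
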