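import Groth.Agent.Lib.H40FunFldASAdele

set_option autoImplicit false
set_option linter.style.haveILetI false
set_option linter.unusedSectionVars false
open FunFld Polynomial

namespace Groth.Agent.Lib.H40FunFld

open IntermediateField

universe u v w
variable {k : Type u} [Field k]

section ASOrd

variable {K : Type v} [Field K] [Algebra k K] [Algebra (RatFunc k) K]
  [IsScalarTower k (RatFunc k) K]

theorem ord_zpow' (P : FunFld.Place k K) (a : K) (j : ℤ) : P.ord (a ^ j) = j * P.ord a := by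
  unfold FunFld.Place.ord
  rw [log_val_zpow]; ring

theorem algebraMap_X_sub_ne_zero (β : k) :
    algebraMap (RatFunc k) K RatFunc.X - algebraMap k K β ≠ 0 := by
  rw [algebraMap_X_sub_C]
  exact (_root_.map_ne_zero _).2 (ratFunc_map_ne_zero (X_sub_C_ne_zero β))

variable (h2 : ringChar k = 2) (hdeg : Module.finrank (RatFunc k) K = 2) {y : K}
  (hy : y ∉ Set.range (algebraMap (RatFunc k) K)) {f : RatFunc k}
  (heq : y ^ 2 + y = algebraMap (RatFunc k) K f)

include h2 hdeg hy heq in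
/-- Above infinity, when `f` is integral at infinity: `y` is integral, the place is unramified. -/
theorem as_at_inf
    (hfinf : ∀ p : FunFld.Place k (RatFunc k), 1 < p.1 (RatFunc.X : RatFunc k) → p.1 f ≤ 1)
    {P : FunFld.Place k K} (hP : 1 < P.1 (algebraMap (RatFunc k) K RatFunc.X)) (α : k) :
    0 ≤ P.ord y ∧ P.ord (algebraMap (RatFunc k) K RatFunc.X - algebraMap k K α) = -1 := by
  have hKF := isFunctionField_ratFunc k
  haveI : FiniteDimensional (RatFunc k) K :=
    Module.finite_of_finrank_pos (by rw [hdeg]; norm_num)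
  obtain ⟨p, e, he⟩ := exists_isOverWith hKF P
  have hpX : 1 < p.1 (RatFunc.X : RatFunc k) := by
    by_contra hle
    push Not at hle
    exact absurd hP (not_lt.2 ((isOverWith_le_one_iff he _).2 hle))
  have hf1 := hfinf p hpX
  have hf0 : 0 ≤ p.ord f := (ord_nonneg_iff p f).2 hf1
  have he1 := (as_ramification hKF h2 hdeg y hy f heq p).2 hf0 P ⟨e, he⟩
  have hinf : p.ord (RatFunc.X : RatFunc k) < 0 := by
    by_contra hnn
    push Not at hnn
    exact absurd hpX (not_lt.2 ((ord_nonneg_iff p _).1 hnn))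
  refine ⟨(ord_nonneg_iff P y).2 (as_val_y_le_one heq he hf0), ?_⟩
  rw [algebraMap_X_sub_C, ord_algebraMap_of_isOverWith he1,
    ratFunc_inf_ord_poly hinf (X_sub_C_ne_zero α), natDegree_X_sub_C]
  norm_num

include h2 hdeg hy heq in
theorem as_exists_unit_at_inf
    (hfinf : ∀ p : FunFld.Place k (RatFunc k), 1 < p.1 (RatFunc.X : RatFunc k) → p.1 f ≤ 1) :
    ∃ P : FunFld.Place k K, 1 < P.1 (algebraMap (RatFunc k) K RatFunc.X) ∧ P.ord y = 0 := by
  have hKF := isFunctionField_ratFunc k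
  haveI : FiniteDimensional (RatFunc k) K :=
    Module.finite_of_finrank_pos (by rw [hdeg]; norm_num)
  have hX : (RatFunc.X : RatFunc k) ∉ Set.range (algebraMap k (RatFunc k)) := by
    rintro ⟨c, hc⟩
    exact (RatFunc.transcendental_X (K := k)) (hc ▸ isAlgebraic_algebraMap c)
  obtain ⟨-, pinf, hinf⟩ := exists_zero_and_exists_pole hKF _ hX
  obtain ⟨P, e, he⟩ := exists_isOver (K' := K) hKF pinf
  have hpX : 1 < pinf.1 (RatFunc.X : RatFunc k) := by
    by_contra hle
    push Not at hle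
    have := (ord_nonneg_iff pinf _).2 hle
    omega
  have hPX : 1 < P.1 (algebraMap (RatFunc k) K RatFunc.X) := by
    rw [he]
    exact one_lt_pow₀ hpX (isOverWith_pos he).ne'
  obtain ⟨hy0, -⟩ := as_at_inf h2 hdeg hy heq hfinf hPX 0
  by_cases hzero : P.ord y = 0
  · exact ⟨P, hPX, hzero⟩
  have hpos : 0 < P.ord y := lt_of_le_of_ne hy0 (Ne.symm hzero)
  have hyne : y ≠ 0 := as_y_ne_zero hy
  have hylt : P.1 y < 1 := (ord_pos_iff P hyne).1 hpos
  have h2K : (2 : K) = 0 := two_eq_zero_of_ringChar (K' := K) h2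
  obtain ⟨σ, hσ⟩ := Groth.Agent.Lib.H40Quad.exists_algEquiv_add_one hdeg h2K heq hy
  have hσsymm : σ.symm y = y + 1 := by
    rw [AlgEquiv.symm_apply_eq, map_add, map_one, hσ]
    linear_combination (-1 : K) * h2K
  refine ⟨galPlace σ P, ?_, ?_⟩
  · rw [galPlace_apply, σ.symm.commutes]
    exact hPX
  · have h3 : (galPlace σ P).1 y = 1 := by
      rw [galPlace_apply, hσsymm, add_comm]
      have : P.1 y < P.1 (1 : K) := by rwa [map_one]
      rw [Valuation.map_add_eq_of_lt_left _ this, map_one]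
    rw [FunFld.Place.ord, h3, WithZero.log_one, neg_zero]

include h2 hdeg hy heq in
theorem as_ord_mul_zpow_at_root {α : k} {dα : ℕ} (hodd : Odd dα)
    (hpole : ∀ p : FunFld.Place k (RatFunc k),
      p.1 ((RatFunc.X : RatFunc k) - RatFunc.C α) < 1 → p.ord f = -(dα : ℤ))
    {P : FunFld.Place k K}
    (hP : P.1 (algebraMap (RatFunc k) K RatFunc.X - algebraMap k K α) < 1) (j : ℤ) :
    P.ord (y * (algebraMap (RatFunc k) K RatFunc.X - algebraMap k K α) ^ j) =
      -(dα : ℤ) + 2 * j := by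
  obtain ⟨p, -, -, -, hordy, hordt⟩ := as_at_root h2 hdeg hy heq hodd hpole hP
  rw [ord_mul P (as_y_ne_zero hy) (zpow_ne_zero _ (algebraMap_X_sub_ne_zero α)), ord_zpow',
    hordy, hordt]
  ring

include h2 hdeg hy heq in
theorem as_ord_mul_zpow_at_other {α β : k} (hne : β ≠ α) {dβ : ℕ} (hodd : Odd dβ)
    (hpole : ∀ p : FunFld.Place k (RatFunc k),
      p.1 ((RatFunc.X : RatFunc k) - RatFunc.C β) < 1 → p.ord f = -(dβ : ℤ))
    {P : FunFld.Place k K}
    (hP : P.1 (algebraMap (RatFunc k) K RatFunc.X - algebraMap k K β) < 1) (j : ℤ) :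
    P.ord (y * (algebraMap (RatFunc k) K RatFunc.X - algebraMap k K α) ^ j) = -(dβ : ℤ) := by
  obtain ⟨p, -, -, -, hordy, -⟩ := as_at_root h2 hdeg hy heq hodd hpole hP
  have hval : P.1 (algebraMap (RatFunc k) K RatFunc.X - algebraMap k K α) = 1 := by
    have h3 : algebraMap (RatFunc k) K RatFunc.X - algebraMap k K α =
        (algebraMap (RatFunc k) K RatFunc.X - algebraMap k K β) + algebraMap k K (β - α) := by
      rw [map_sub]; ring
    have h4 : P.1 (algebraMap k K (β - α)) = 1 := val_algebraMap P (sub_ne_zero.2 hne)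
    rw [h3, Valuation.map_add_eq_of_lt_right _ (by rw [h4]; exact hP), h4]
  have hordt : P.ord (algebraMap (RatFunc k) K RatFunc.X - algebraMap k K α) = 0 := by
    rw [FunFld.Place.ord, hval, WithZero.log_one, neg_zero]
  rw [ord_mul P (as_y_ne_zero hy) (zpow_ne_zero _ (algebraMap_X_sub_ne_zero α)), ord_zpow',
    hordy, hordt]
  ring

include h2 hdeg hy heq in
theorem as_ord_mul_zpow_at_inf
    (hfinf : ∀ p : FunFld.Place k (RatFunc k), 1 < p.1 (RatFunc.X : RatFunc k) → p.1 f ≤ 1)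
    {P : FunFld.Place k K} (hP : 1 < P.1 (algebraMap (RatFunc k) K RatFunc.X)) (α : k) (j : ℤ) :
    P.ord (y * (algebraMap (RatFunc k) K RatFunc.X - algebraMap k K α) ^ j) = P.ord y - j := by
  obtain ⟨-, hordt⟩ := as_at_inf h2 hdeg hy heq hfinf hP α
  rw [ord_mul P (as_y_ne_zero hy) (zpow_ne_zero _ (algebraMap_X_sub_ne_zero α)), ord_zpow', hordt]
  ring

include hdeg hy heq in
theorem as_ord_mul_zpow_nonneg
    {P : FunFld.Place k K} (hPX : P.1 (algebraMap (RatFunc k) K RatFunc.X) ≤ 1) {α : k}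
    (hα : 1 ≤ P.1 (algebraMap (RatFunc k) K RatFunc.X - algebraMap k K α))
    (hf : ∀ p : FunFld.Place k (RatFunc k), (∃ e, FunFld.IsOverWith P p e) → p.1 f ≤ 1) (j : ℤ) :
    0 ≤ P.ord (y * (algebraMap (RatFunc k) K RatFunc.X - algebraMap k K α) ^ j) := by
  have hKF := isFunctionField_ratFunc k
  haveI : FiniteDimensional (RatFunc k) K :=
    Module.finite_of_finrank_pos (by rw [hdeg]; norm_num)
  obtain ⟨p, e, he⟩ := exists_isOverWith hKF P
  have hf1 := hf p ⟨e, he⟩
  have hf0 : 0 ≤ p.ord f := (ord_nonneg_iff p f).2 hf1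
  have hy0 : 0 ≤ P.ord y := (ord_nonneg_iff P y).2 (as_val_y_le_one heq he hf0)
  have hval : P.1 (algebraMap (RatFunc k) K RatFunc.X - algebraMap k K α) = 1 :=
    le_antisymm (Valuation.map_sub_le _ hPX (P.2.1 α)) hα
  have hordt : P.ord (algebraMap (RatFunc k) K RatFunc.X - algebraMap k K α) = 0 := by
    rw [FunFld.Place.ord, hval, WithZero.log_one, neg_zero]
  rw [ord_mul P (as_y_ne_zero hy) (zpow_ne_zero _ (algebraMap_X_sub_ne_zero α)), ord_zpow', hordt]
  linarith

end ASOrd

end Groth.Agent.Lib.H40FunFld
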