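import Groth.Agent.Lib.H40FunFldIntClosure

set_option autoImplicit false
set_option linter.style.haveILetI false
set_option linter.unusedSectionVars false
open FunFld Polynomial

namespace Groth.Agent.Lib.H40FunFld

open Groth.Agent.Lib.H40QuotChain IntermediateField

universe u v w
variable {k : Type u} [Field k] {K : Type v} [Field K] [Algebra k K]

section Approx

attribute [-instance] FunFld.Place.algRes

theorem exists_pow_mul_le_one (P : FunFld.Place k K) {π : K} (hπ : P.1 π = WithZero.exp (-1 : ℤ))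
    (T : Finset K) : ∃ N : ℕ, ∀ x ∈ T, P.1 (π ^ N * x) ≤ 1 := by
  classical
  refine ⟨T.sup (fun x => (WithZero.log (P.1 x)).toNat), fun x hx => ?_⟩
  set N := T.sup (fun x => (WithZero.log (P.1 x)).toNat) with hN
  by_cases hx0 : x = 0
  · rw [hx0, mul_zero, map_zero]; exact zero_le_one
  have hvx : P.1 x ≠ 0 := (Valuation.ne_zero_iff _).2 hx0
  have h1 : (WithZero.log (P.1 x)).toNat ≤ N :=
    Finset.le_sup (f := fun x => (WithZero.log (P.1 x)).toNat) hx
  have h2 : WithZero.log (P.1 x) ≤ (N : ℤ) :=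
    (Int.self_le_toNat _).trans (by exact_mod_cast h1)
  have h3 : P.1 x ≤ WithZero.exp (N : ℤ) := by
    rw [← WithZero.exp_log hvx]
    exact WithZero.exp_le_exp.2 h2
  rw [map_mul, map_pow, hπ, ← WithZero.exp_nsmul]
  calc WithZero.exp (N • (-1 : ℤ)) * P.1 x ≤ WithZero.exp (N • (-1 : ℤ)) * WithZero.exp (N : ℤ) := by
        gcongr
    _ = 1 := by rw [← WithZero.exp_add]; simp

/-- `O_P / π^N O_P` is finite-dimensional over `k`, in approximation form. -/
theorem exists_fd_approx (hK : FunFld.IsFunctionField k K) (P : FunFld.Place k K) {π : K}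
    (hπ : P.1 π = WithZero.exp (-1 : ℤ)) (N : ℕ) :
    ∃ U : Submodule k K, FiniteDimensional k U ∧
      ∀ b : K, P.1 b ≤ 1 → ∃ u ∈ U, P.1 (b - u) ≤ WithZero.exp (-(N : ℤ)) := by
  classical
  have hπ0 : π ≠ 0 := by
    intro h0; rw [h0, map_zero] at hπ; exact WithZero.exp_ne_zero hπ.symm
  haveI := finiteDimensional_residueField hK P
  let β := Module.finBasis k (IsLocalRing.ResidueField P.O)
  have hsurj := IsLocalRing.residue_surjective (R := P.O)
  choose w hw using fun l => hsurj (β l)
  let W : Submodule k K := Submodule.span k (Set.range fun l => ((w l : P.O) : K))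
  induction N with
  | zero =>
    refine ⟨⊥, inferInstance, fun b hb => ⟨0, Submodule.zero_mem _, ?_⟩⟩
    simpa using hb
  | succ N ih =>
    obtain ⟨U, hU, hUa⟩ := ih
    refine ⟨U ⊔ W.map (LinearMap.mulLeft k (π ^ N)), ?_, fun b hb => ?_⟩
    · haveI : FiniteDimensional k W := FiniteDimensional.span_of_finite k (Set.finite_range _)
      infer_instance
    obtain ⟨u, hu, hbu⟩ := hUa b hb
    -- `b' = (b - u) / π^N` is integral
    set b' : K := (π ^ N)⁻¹ * (b - u) with hb'
    have hb'v : P.1 b' ≤ 1 := by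
      rw [hb', map_mul, map_inv₀, map_pow, hπ, ← WithZero.exp_nsmul, ← WithZero.exp_neg]
      calc WithZero.exp (-(N • (-1 : ℤ))) * P.1 (b - u)
          ≤ WithZero.exp (-(N • (-1 : ℤ))) * WithZero.exp (-(N : ℤ)) := by gcongr
        _ = 1 := by rw [← WithZero.exp_add]; simp
    -- expand the residue of `b'` in the basis
    set z : P.O := ∑ l, β.repr (IsLocalRing.residue P.O ⟨b', hb'v⟩) l • w l with hz
    have hres : IsLocalRing.residue P.O (⟨b', hb'v⟩ - z) = 0 := by
      rw [map_sub, sub_eq_zero]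
      conv_lhs => rw [← β.sum_repr (IsLocalRing.residue P.O ⟨b', hb'v⟩)]
      rw [hz, map_sum]
      refine Finset.sum_congr rfl fun l _ => ?_
      rw [← hw l]
      rfl
    rw [residue_eq_zero_iff, lt_one_iff_le_exp_neg_one] at hres
    have hzW : ((z : P.O) : K) ∈ W := by
      rw [hz]
      have : ((∑ l, β.repr (IsLocalRing.residue P.O ⟨b', hb'v⟩) l • w l : P.O) : K) =
          ∑ l, β.repr (IsLocalRing.residue P.O ⟨b', hb'v⟩) l • ((w l : P.O) : K) := by
        rw [← Subring.coe_subtype, map_sum]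
        refine Finset.sum_congr rfl fun l _ => ?_
        rw [Algebra.smul_def, Algebra.smul_def]
        rfl
      rw [this]
      exact Submodule.sum_mem _ fun l _ =>
        Submodule.smul_mem _ _ (Submodule.subset_span ⟨l, rfl⟩)
    refine ⟨u + π ^ N * (z : K), Submodule.add_mem_sup hu
      (Submodule.mem_map.2 ⟨_, hzW, rfl⟩), ?_⟩
    have heq : b - (u + π ^ N * (z : K)) = π ^ N * (b' - (z : K)) := by
      rw [hb']; field_simp; ring
    rw [heq, map_mul, map_pow, hπ, ← WithZero.exp_nsmul]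
    calc WithZero.exp (N • (-1 : ℤ)) * P.1 (b' - (z : K))
        ≤ WithZero.exp (N • (-1 : ℤ)) * WithZero.exp (-1 : ℤ) := by
          gcongr
          exact hres
      _ = WithZero.exp (-((N + 1 : ℕ) : ℤ)) := by
          rw [← WithZero.exp_add]; congr 1; push_cast; simp; ring

end Approx

section Conductor

variable {K' : Type w} [Field K'] [Algebra K K'] [Algebra k K'] [IsScalarTower k K K']
  (P : FunFld.Place k K) [Algebra P.O K'] [IsScalarTower P.O K K']

/-- If `K'` is spanned over `K` by a finite family lying in a subalgebra `A` over `O_P`, then the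
integral closure of `O_P` is `A` up to a finite-dimensional `k`-space, and `A` contains a nonzero
ideal of the integral closure. -/
theorem conductor_aux (hK : FunFld.IsFunctionField k K) {ι : Type*} [Fintype ι] (ω : ι → K')
    (hspan : ∀ y : K', ∃ a : ι → K, y = ∑ j, algebraMap K K' (a j) * ω j)
    (A : Subalgebra P.O K') (hω : ∀ j, ω j ∈ A) :
    (∃ V : Submodule k K', FiniteDimensional k V ∧
      ∀ r ∈ integralClosure P.O K', ∃ s ∈ A, r - s ∈ V) ∧
    (∃ c ∈ integralClosure P.O K', c ≠ 0 ∧ ∀ r ∈ integralClosure P.O K', c * r ∈ A) := by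
  classical
  haveI : FiniteDimensional K K' := by
    rw [FiniteDimensional, Module.finite_def]
    have : (⊤ : Submodule K K') = Submodule.span K (Set.range ω) := by
      symm
      rw [eq_top_iff]
      intro y _
      obtain ⟨a, rfl⟩ := hspan y
      refine Submodule.sum_mem _ fun j _ => ?_
      rw [← Algebra.smul_def]
      exact Submodule.smul_mem _ _ (Submodule.subset_span ⟨j, rfl⟩)
    rw [this]
    exact Submodule.fg_span (Set.finite_range _)
  obtain ⟨S, hS⟩ := integralClosure_fg (K' := K') P hK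
  choose a ha using hspan
  obtain ⟨π, hπ⟩ := exists_uniformizer P
  have hπ0 : π ≠ 0 := by
    intro h0; rw [h0, map_zero] at hπ; exact WithZero.exp_ne_zero hπ.symm
  obtain ⟨N, hN⟩ := exists_pow_mul_le_one P hπ
    ((S ×ˢ Finset.univ).image (fun p : K' × ι => a p.1 p.2))
  set c : K' := algebraMap K K' (π ^ N) with hc
  have hπN : P.1 (π ^ N) ≤ 1 := by
    rw [map_pow, hπ]
    refine pow_le_one' ?_ N
    rw [← WithZero.exp_zero, WithZero.exp_le_exp]; norm_num
  have hcR : c ∈ integralClosure P.O K' := by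
    have : c = algebraMap P.O K' ⟨π ^ N, hπN⟩ :=
      (algebraMap_O_apply (K' := K') P ⟨π ^ N, hπN⟩).symm
    rw [this]
    exact Subalgebra.algebraMap_mem _ _
  have hc0 : c ≠ 0 := by
    rw [hc]
    exact (_root_.map_ne_zero _).2 (pow_ne_zero N hπ0)
  have hmemA : ∀ x : K, P.1 x ≤ 1 → algebraMap K K' x ∈ A := fun x hx => by
    have : algebraMap K K' x = algebraMap P.O K' ⟨x, hx⟩ :=
      (algebraMap_O_apply (K' := K') P ⟨x, hx⟩).symm
    rw [this]
    exact Subalgebra.algebraMap_mem _ _
  have hgen : ∀ r ∈ S, c * r ∈ A := by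
    intro r hr
    have h1 : c * r = ∑ j, algebraMap K K' (π ^ N * a r j) * ω j := by
      conv_lhs => rw [ha r]
      rw [Finset.mul_sum]
      refine Finset.sum_congr rfl fun j _ => ?_
      rw [hc, map_mul]; ring
    rw [h1]
    refine Subalgebra.sum_mem _ fun j _ => Subalgebra.mul_mem _ (hmemA _ (hN _ ?_)) (hω j)
    exact Finset.mem_image.2 ⟨(r, j), Finset.mk_mem_product hr (Finset.mem_univ j), rfl⟩
  have hcond : ∀ r ∈ integralClosure P.O K', c * r ∈ A := by
    intro r hr
    have hr' : r ∈ Submodule.span P.O (S : Set K') := by rw [hS]; exact hr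
    refine Submodule.span_induction (p := fun r _ => c * r ∈ A) ?_ ?_ ?_ ?_ hr'
    · intro x hx; exact hgen x hx
    · rw [mul_zero]; exact A.zero_mem
    · intro x y _ _ hx hy; rw [mul_add]; exact A.add_mem hx hy
    · intro b x _ hx; rw [mul_smul_comm]; exact A.smul_mem hx b
  refine ⟨?_, c, hcR, hc0, hcond⟩
  obtain ⟨U, hU, hUa⟩ := exists_fd_approx hK P hπ N
  let Λ : K' → K →ₗ[k] K' := fun r =>
    (LinearMap.mulRight k r).comp ((Algebra.linearMap K K').restrictScalars k)
  have hΛ : ∀ r u, Λ r u = algebraMap K K' u * r := fun r u => rfl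
  let V : Submodule k K' := S.sup (fun r => U.map (Λ r))
  refine ⟨V, Submodule.finiteDimensional_finset_sup _ _, fun r₀ hr₀ => ?_⟩
  have hr' : r₀ ∈ Submodule.span P.O (S : Set K') := by rw [hS]; exact hr₀
  obtain ⟨f, -, hf⟩ := Submodule.mem_span_finset.1 hr'
  have hdec : ∀ r : K', ∃ u ∈ U, ∃ b' : P.O, ((f r : P.O) : K) = u + π ^ N * (b' : K) := by
    intro r
    obtain ⟨u, hu, hbu⟩ := hUa (f r : K) (f r).2
    refine ⟨u, hu, ⟨(π ^ N)⁻¹ * ((f r : K) - u), ?_⟩, ?_⟩
    · change P.1 ((π ^ N)⁻¹ * ((f r : K) - u)) ≤ 1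
      rw [map_mul, map_inv₀, map_pow, hπ, ← WithZero.exp_nsmul, ← WithZero.exp_neg]
      calc WithZero.exp (-(N • (-1 : ℤ))) * P.1 ((f r : K) - u)
          ≤ WithZero.exp (-(N • (-1 : ℤ))) * WithZero.exp (-(N : ℤ)) := by gcongr
        _ = 1 := by rw [← WithZero.exp_add]; simp
    · change _ = u + π ^ N * ((π ^ N)⁻¹ * ((f r : K) - u))
      field_simp; ring
  choose u hu b' hb' using hdec
  have hmemR : ∑ r ∈ S, b' r • r ∈ integralClosure P.O K' := by
    refine Subalgebra.sum_mem _ fun r hr => Subalgebra.smul_mem _ ?_ _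
    have : r ∈ (integralClosure P.O K').toSubmodule := by
      rw [← hS]; exact Submodule.subset_span hr
    exact this
  refine ⟨c * ∑ r ∈ S, b' r • r, hcond _ hmemR, ?_⟩
  have hsub : r₀ - c * ∑ r ∈ S, b' r • r = ∑ r ∈ S, Λ r (u r) := by
    rw [← hf, Finset.mul_sum, ← Finset.sum_sub_distrib]
    refine Finset.sum_congr rfl fun r _ => ?_
    rw [hΛ, O_smul_def, O_smul_def, hb' r, hc, map_add, map_mul]
    ring
  rw [hsub]
  refine Submodule.sum_mem _ fun r hr => ?_
  have hle : U.map (Λ r) ≤ V := Finset.le_sup (f := fun r => U.map (Λ r)) hr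
  exact hle (Submodule.mem_map.2 ⟨u r, hu r, rfl⟩)

end Conductor

end Groth.Agent.Lib.H40FunFld
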