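import Groth.Agent.Lib.H40FunFldConorm

set_option autoImplicit false
open FunFld Polynomial

namespace Groth.Agent.Lib.H40FunFld

open Groth.Agent.Lib.H40QuotChain IntermediateField

universe u v w w'
variable {k : Type u} [Field k]

section Weak

variable {K' : Type v} [Field K'] [Algebra k K'] {K'' : Type w} [Field K''] [Algebra K' K'']
  [Algebra k K''] [IsScalarTower k K' K'']

/-- Restriction of places to a subfield which is finitely generated of transcendence degree one
over `k` (but in which `k` need not be algebraically closed). -/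
theorem exists_isOverWith_weak {t : K'} (ht : Transcendental k t) [FiniteDimensional k⟮t⟯ K']
    [Algebra.IsAlgebraic K' K''] (Q : FunFld.Place k K'') :
    ∃ (P : FunFld.Place k K') (e : ℕ), FunFld.IsOverWith Q P e := by
  have hA := isFunctionField_constField ht
  have htriv : TrivialOn (k := k) Q.1 := fun a ha => val_algebraMap Q ha
  let QA : FunFld.Place ↥(constField k K') K'' :=
    ⟨Q.1, fun c => by
      change Q.1 (algebraMap K' K'' (c : K')) ≤ 1
      by_cases hc : (c : K') = 0
      · rw [hc, map_zero, map_zero]; exact zero_le_one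
      · have h1 : IsAlgebraic k (c : K') := mem_algebraicClosure_iff.1 c.2
        have h2 : IsAlgebraic k (algebraMap K' K'' (c : K')) := h1.algebraMap
        have h3 : algebraMap K' K'' (c : K') ≠ 0 := (_root_.map_ne_zero _).2 hc
        exact (gval_eq_one_of_isAlgebraic htriv h3 h2).le, Q.2.2⟩
  obtain ⟨PA, e, he⟩ := exists_isOverWith hA QA
  exact ⟨placeDown PA, e, fun x => he x⟩

end Weak

section Tower

variable {K : Type v} [Field K] [Algebra k K] {K' : Type w} [Field K'] [Algebra K K']
  [Algebra k K'] {K'' : Type w'} [Field K''] [Algebra K' K''] [Algebra k K''] [Algebra K K'']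

/-- Ramification indices multiply in towers. -/
theorem isOverWith_trans [IsScalarTower K K' K''] {Q'' : FunFld.Place k K''}
    {Q' : FunFld.Place k K'} {P : FunFld.Place k K} {e' e'' : ℕ}
    (h'' : FunFld.IsOverWith Q'' Q' e'') (h' : FunFld.IsOverWith Q' P e') :
    FunFld.IsOverWith Q'' P (e' * e'') := by
  intro x
  rw [IsScalarTower.algebraMap_apply K K' K'', h'', h', pow_mul]

open scoped Classical in
theorem conormP_apply' {P : FunFld.Place k K}
    (hfin : {Q : FunFld.Place k K' | FunFld.IsOver Q P}.Finite) (Q : FunFld.Place k K') :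
    conormP K' P Q = if FunFld.IsOver Q P then (FunFld.ramIdx Q P : ℤ) else 0 := by
  unfold conormP
  rw [dif_pos hfin, Finsupp.finsetSum_apply]
  simp only [Finsupp.smul_apply, Finsupp.single_apply, smul_eq_mul, mul_ite, mul_one, mul_zero]
  rw [Finset.sum_ite_eq']
  simp only [Set.Finite.mem_toFinset, Set.mem_ofPred_eq]

/-- The coefficient of the conorm at a place `Q` over `P`, under a finiteness hypothesis. -/
theorem conorm_apply' (D : FunFld.Divisor k K)
    (hfin : ∀ P ∈ D.support, {Q : FunFld.Place k K' | FunFld.IsOver Q P}.Finite)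
    {Q : FunFld.Place k K'} {P : FunFld.Place k K} {e : ℕ} (h : FunFld.IsOverWith Q P e) :
    FunFld.conorm K' D Q = e * D P := by
  classical
  rw [conorm_eq_sum, Finsupp.sum, Finsupp.finsetSum_apply]
  have h1 : ∀ P' ∈ D.support, (D P' • conormP K' P') Q = if P' = P then (e : ℤ) * D P else 0 := by
    intro P' hP'
    rw [Finsupp.smul_apply, conormP_apply' (hfin P' hP'), smul_eq_mul]
    by_cases hP : P' = P
    · subst hP
      rw [if_pos ⟨e, h⟩, if_pos rfl, ramIdx_eq h]; ring
    · rw [if_neg hP, if_neg, mul_zero]
      rintro ⟨e', he'⟩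
      exact hP (isOverWith_unique he' h).1
  rw [Finset.sum_congr rfl h1, Finset.sum_ite_eq']
  split_ifs with h2
  · rfl
  · rw [Finsupp.notMem_support_iff.1 h2, mul_zero]

variable [IsScalarTower k K K'] [IsScalarTower k K' K''] [IsScalarTower k K K'']
  [IsScalarTower K K' K''] [FiniteDimensional K K'] [FiniteDimensional K' K'']

/-- Transitivity of the conorm. -/
theorem conorm_conorm (hK : FunFld.IsFunctionField k K) (D : FunFld.Divisor k K) :
    FunFld.conorm K'' (FunFld.conorm K' D) = FunFld.conorm K'' D := by
  classical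
  have hfinKK'' : FiniteDimensional K K'' := Module.Finite.trans K' K''
  obtain ⟨t, htr, -⟩ := hK.1
  have htr' : Transcendental k (algebraMap K K' t) := by
    intro halg
    exact htr ((isAlgebraic_algebraMap_iff (algebraMap K K').injective).1 halg)
  obtain ⟨hfin', -⟩ := finrank_adjoin_algebraMap (K' := K') hK htr
  -- finiteness of the places of `K''` over a place of `K'`
  have hfinQ : ∀ Q' : FunFld.Place k K',
      {Q'' : FunFld.Place k K'' | FunFld.IsOver Q'' Q'}.Finite := by
    intro Q'
    obtain ⟨P, e', he'⟩ := exists_isOverWith hK Q'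
    refine ((finite_isOver_and_sum_ramIdx_mul_deg (K' := K'') hK P).1).subset ?_
    rintro Q'' ⟨e'', he''⟩
    exact ⟨e' * e'', isOverWith_trans he'' he'⟩
  ext Q''
  obtain ⟨Q', e'', he''⟩ := exists_isOverWith_weak htr' Q''
  obtain ⟨P, e', he'⟩ := exists_isOverWith hK Q'
  rw [conorm_apply' _ (fun Q' _ => hfinQ Q') he'', conorm_apply hK D he',
    conorm_apply hK D (isOverWith_trans he'' he')]
  push_cast
  ring

end Tower

end Groth.Agent.Lib.H40FunFld
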