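import Groth.Agent.Lib.H40FunFldGalois
import Mathlib.GroupTheory.GroupAction.Quotient

set_option autoImplicit false
open FunFld Polynomial

namespace Groth.Agent.Lib.H40FunFld

open Groth.Agent.Lib.H40QuotChain IntermediateField
open scoped Pointwise

universe u v w
variable {k : Type u} [Field k] {K : Type v} [Field K] [Algebra k K] {K' : Type w} [Field K']
  [Algebra K K'] [Algebra k K'] [IsScalarTower k K K']

theorem place_ext_of_O_eq {Q Q' : FunFld.Place k K'} (h : Q.O = Q'.O) : Q = Q' := by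
  apply eq_of_forall_le_one
  intro a ha
  have : a ∈ Q.O := ha
  rw [h] at this
  exact this

theorem galPlace_O (σ : K' ≃ₐ[K] K') (Q : FunFld.Place k K') : (galPlace σ Q).O = σ • Q.O := by
  ext x
  rw [ValuationSubring.mem_pointwise_smul_iff_inv_smul_mem]
  rfl

/-- The residue fields of conjugate places have the same degree. -/
theorem galPlace_deg (σ : K' ≃ₐ[K] K') (Q : FunFld.Place k K') : (galPlace σ Q).deg = Q.deg := by
  unfold FunFld.Place.deg
  let f : ↥(galPlace σ Q).O ≃+* ↥Q.O :=
    { toFun := fun x => ⟨σ.symm x.1, x.2⟩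
      invFun := fun y => ⟨σ y.1, by
        change Q.1 (σ.symm (σ y.1)) ≤ 1
        rw [σ.symm_apply_apply]; exact y.2⟩
      left_inv := fun x => Subtype.ext (σ.apply_symm_apply x.1)
      right_inv := fun y => Subtype.ext (σ.symm_apply_apply y.1)
      map_mul' := fun x y => Subtype.ext (map_mul σ.symm x.1 y.1)
      map_add' := fun x y => Subtype.ext (map_add σ.symm x.1 y.1) }
  let g := IsLocalRing.ResidueField.mapEquiv f
  have hcomm : ∀ c : k, g (algebraMap k (IsLocalRing.ResidueField ↥(galPlace σ Q).O) c) =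
      algebraMap k (IsLocalRing.ResidueField ↥Q.O) c := by
    intro c
    change IsLocalRing.ResidueField.map (f : ↥(galPlace σ Q).O →+* ↥Q.O)
      (IsLocalRing.residue _ (algebraMap k ↥(galPlace σ Q).O c)) = _
    rw [IsLocalRing.ResidueField.map_residue]
    change IsLocalRing.residue _ _ = IsLocalRing.residue _ (algebraMap k ↥Q.O c)
    congr 1
    apply Subtype.ext
    change σ.symm (algebraMap k K' c) = algebraMap k K' c
    rw [IsScalarTower.algebraMap_apply k K K', σ.symm.commutes]
  let e : IsLocalRing.ResidueField ↥(galPlace σ Q).O ≃ₐ[k] IsLocalRing.ResidueField ↥Q.O :=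
    AlgEquiv.ofRingEquiv (f := g) hcomm
  exact e.toLinearEquiv.finrank_eq

section Count

variable [FiniteDimensional K K'] [IsGalois K K']

/-- Orbit–stabilizer for the places above `P`. -/
theorem card_isOver_mul_card_decomposition {Q : FunFld.Place k K'} {P : FunFld.Place k K}
    {e : ℕ} (he : FunFld.IsOverWith Q P e) :
    Nat.card {Q' : FunFld.Place k K' // FunFld.IsOver Q' P} *
        Nat.card ((Q.O).decompositionSubgroup K) = Module.finrank K K' := by
  have h1 := Nat.card_congr (MulAction.orbitProdStabilizerEquivGroup (K' ≃ₐ[K] K') Q.O)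
  rw [Nat.card_prod, IsGalois.card_aut_eq_finrank] at h1
  rw [← h1]
  congr 1
  refine Nat.card_congr ?_
  refine Equiv.ofBijective (fun Q' => ⟨Q'.1.O, ?_⟩) ⟨?_, ?_⟩
  · obtain ⟨e', he'⟩ := Q'.2
    obtain ⟨σ, hσ⟩ := exists_galPlace_eq he he'
    rw [← hσ, galPlace_O]
    exact MulAction.mem_orbit _ _
  · intro Q₁ Q₂ h
    have := congrArg Subtype.val h
    exact Subtype.ext (place_ext_of_O_eq this)
  · rintro ⟨A, σ, rfl⟩
    refine ⟨⟨galPlace σ Q, e, galPlace_isOverWith σ he⟩, ?_⟩
    apply Subtype.ext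
    exact galPlace_O σ Q

theorem isOverWith_and_deg_eq_of_isOver {Q : FunFld.Place k K'} {P : FunFld.Place k K}
    {e : ℕ} (he : FunFld.IsOverWith Q P e) (Q' : FunFld.Place k K') (h : FunFld.IsOver Q' P) :
    FunFld.IsOverWith Q' P e ∧ Q'.deg = Q.deg := by
  obtain ⟨e', he'⟩ := h
  obtain ⟨σ, hσ⟩ := exists_galPlace_eq he he'
  rw [← hσ]
  exact ⟨galPlace_isOverWith σ he, galPlace_deg σ Q⟩

/-- `|G₀| deg P = e deg Q`. -/
theorem card_decomposition_mul_deg (hK : FunFld.IsFunctionField k K) {Q : FunFld.Place k K'}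
    {P : FunFld.Place k K} {e : ℕ} (he : FunFld.IsOverWith Q P e) :
    Nat.card ((Q.O).decompositionSubgroup K) * P.deg = e * Q.deg := by
  classical
  obtain ⟨hfin, hsum⟩ := finite_isOver_and_sum_ramIdx_mul_deg (K' := K') hK P
  have h1 := hsum hfin.toFinset (fun Q' => by simp)
  have h2 : ∀ Q' ∈ hfin.toFinset, FunFld.ramIdx Q' P * Q'.deg = e * Q.deg := by
    intro Q' hQ'
    have hover : FunFld.IsOver Q' P := hfin.mem_toFinset.1 hQ'
    obtain ⟨h3, h4⟩ := isOverWith_and_deg_eq_of_isOver he Q' hover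
    rw [ramIdx_eq h3, h4]
  rw [Finset.sum_congr rfl h2, Finset.sum_const, smul_eq_mul] at h1
  have h3 := card_isOver_mul_card_decomposition he
  have hcard : Nat.card {Q' : FunFld.Place k K' // FunFld.IsOver Q' P} = hfin.toFinset.card := by
    rw [← Set.ncard_eq_toFinset_card _ hfin]
    rfl
  rw [hcard] at h3
  have hpos : 0 < hfin.toFinset.card := by
    apply Finset.card_pos.2
    exact ⟨Q, hfin.mem_toFinset.2 ⟨e, he⟩⟩
  rw [← h3] at h1
  have h4 : hfin.toFinset.card * (e * Q.deg) =
      hfin.toFinset.card * (Nat.card ((Q.O).decompositionSubgroup K) * P.deg) := by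
    rw [h1]; ring
  exact (Nat.eq_of_mul_eq_mul_left hpos h4).symm

end Count

end Groth.Agent.Lib.H40FunFld
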