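import Groth.Agent.Lib.H40FunFldInertia2
import Groth.Agent.Lib.H40FunFldResDeg

set_option autoImplicit false
set_option linter.style.haveILetI false
set_option linter.unusedSectionVars false
open FunFld Polynomial

namespace Groth.Agent.Lib.H40FunFld

open Groth.Agent.Lib.H40QuotChain IntermediateField

universe u v w
variable {k : Type u} [Field k] {K : Type v} [Field K] [Algebra k K] {K' : Type w} [Field K']
  [Algebra K K'] [Algebra k K'] [IsScalarTower k K K']

section ResidueMap

variable {Q : FunFld.Place k K'} {P : FunFld.Place k K} {e : ℕ}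

/-- The inclusion of valuation rings for a place over another. -/
def valRingMap (h : FunFld.IsOverWith Q P e) : ↥P.O →+* ↥Q.O where
  toFun := fun x => ⟨algebraMap K K' x.1, (isOverWith_le_one_iff h x.1).2 x.2⟩
  map_one' := Subtype.ext (map_one _)
  map_mul' := fun x y => Subtype.ext (map_mul _ x.1 y.1)
  map_zero' := Subtype.ext (map_zero _)
  map_add' := fun x y => Subtype.ext (map_add _ x.1 y.1)

/-- The residue field extension. -/
noncomputable def residueMap (h : FunFld.IsOverWith Q P e) :
    IsLocalRing.ResidueField ↥P.O →+* IsLocalRing.ResidueField ↥Q.O :=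
  Ideal.Quotient.lift _ ((IsLocalRing.residue ↥Q.O).comp (valRingMap h)) (by
    intro a ha
    have h1 : IsLocalRing.residue ↥P.O a = 0 := (IsLocalRing.residue_eq_zero_iff a).2 ha
    rw [residue_eq_zero_iff] at h1
    change IsLocalRing.residue ↥Q.O (valRingMap h a) = 0
    rw [residue_eq_zero_iff]
    exact (isOverWith_lt_one_iff h a.1).2 h1)

theorem residueMap_residue (h : FunFld.IsOverWith Q P e) (a : ↥P.O) :
    residueMap h (IsLocalRing.residue ↥P.O a) = IsLocalRing.residue ↥Q.O (valRingMap h a) := rfl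

/-- The residue field extension as a `k`-linear map. -/
noncomputable def residueMapₗ (h : FunFld.IsOverWith Q P e) :
    IsLocalRing.ResidueField ↥P.O →ₗ[k] IsLocalRing.ResidueField ↥Q.O where
  toFun := residueMap h
  map_add' := map_add _
  map_smul' := fun c x => by
    change residueMap h (c • x) = c • residueMap h x
    rw [Algebra.smul_def, Algebra.smul_def, map_mul]
    congr 1
    change IsLocalRing.residue ↥Q.O (valRingMap h (algebraMap k ↥P.O c)) =
      IsLocalRing.residue _ (algebraMap k ↥Q.O c)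
    congr 1
    apply Subtype.ext
    change algebraMap K K' (algebraMap k K c) = algebraMap k K' c
    rw [← IsScalarTower.algebraMap_apply]

/-- If every element of `O_Q` is congruent to an element of `K`, the residue degrees agree. -/
theorem deg_le_of_forall_exists (hK : FunFld.IsFunctionField k K)
    (h : FunFld.IsOverWith Q P e)
    (hs : ∀ x : K', Q.1 x ≤ 1 → ∃ a : K, Q.1 (x - algebraMap K K' a) < 1) :
    Q.deg ≤ P.deg := by
  have hfin := finiteDimensional_residueField hK P
  unfold FunFld.Place.deg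
  have hsurj : Function.Surjective (residueMapₗ h) := by
    intro r
    obtain ⟨x, rfl⟩ := IsLocalRing.residue_surjective r
    obtain ⟨a, ha⟩ := hs x.1 x.2
    have ha1 : Q.1 (algebraMap K K' a) ≤ 1 := by
      have : algebraMap K K' a = x.1 - (x.1 - algebraMap K K' a) := by ring
      rw [this]
      exact (Valuation.map_sub _ _ _).trans (max_le x.2 ha.le)
    have haP : P.1 a ≤ 1 := (isOverWith_le_one_iff h a).1 ha1
    refine ⟨IsLocalRing.residue ↥P.O ⟨a, haP⟩, ?_⟩
    change residueMap h (IsLocalRing.residue ↥P.O ⟨a, haP⟩) = _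
    rw [residueMap_residue, eq_comm, ← sub_eq_zero, ← map_sub, residue_eq_zero_iff]
    exact ha
  exact LinearMap.finrank_le_finrank_of_surjective hsurj  

end ResidueMap

section FixedField

open scoped Pointwise

variable [FiniteDimensional K K'] [IsGalois K K'] (H : Subgroup (K' ≃ₐ[K] K'))

local notation "K₁" => IntermediateField.fixedField H

/-- For a subgroup `H` of the inertia group of `Q` (residue field separable over `k`), `K'` is
totally ramified at `Q` over the fixed field of `H`. -/
theorem exists_isOverWith_fixedField (hK : FunFld.IsFunctionField k K) (Q : FunFld.Place k K')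
    [Algebra.IsSeparable k (IsLocalRing.ResidueField ↥Q.O)]
    (hH : ∀ σ ∈ H, InRam Q 1 σ) :
    ∃ Q₁ : FunFld.Place k ↥(IntermediateField.fixedField H),
      FunFld.IsOverWith Q Q₁ (Nat.card ↥H) := by
  haveI : IsScalarTower k ↥K₁ K' := IsScalarTower.of_algebraMap_eq (fun c => rfl)
  obtain ⟨t, htr, -⟩ := hK.1
  have htr₁ : Transcendental k (algebraMap K ↥K₁ t) := by
    intro halg
    exact htr ((isAlgebraic_algebraMap_iff (algebraMap K ↥K₁).injective).1 halg)
  obtain ⟨hfin₁, -⟩ := finrank_adjoin_algebraMap (K' := ↥K₁) hK htr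
  obtain ⟨Q₁, e₁, he₁⟩ := exists_isOverWith_weak (K' := ↥K₁) (K'' := K') htr₁ Q
  have hA := isFunctionField_constField htr₁
  have htriv : TrivialOn (k := k) Q.1 := fun a ha => val_algebraMap Q ha
  let QA : FunFld.Place ↥(constField k ↥K₁) K' :=
    ⟨Q.1, fun c => by
      change Q.1 (algebraMap ↥K₁ K' (c : ↥K₁)) ≤ 1
      by_cases hc : (c : ↥K₁) = 0
      · rw [hc, map_zero, map_zero]; exact zero_le_one
      · have h1 : IsAlgebraic k (c : ↥K₁) := mem_algebraicClosure_iff.1 c.2
        have h2 : IsAlgebraic k (algebraMap ↥K₁ K' (c : ↥K₁)) := h1.algebraMap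
        have h3 : algebraMap ↥K₁ K' (c : ↥K₁) ≠ 0 := (_root_.map_ne_zero _).2 hc
        exact (gval_eq_one_of_isAlgebraic htriv h3 h2).le, Q.2.2⟩
  have heA : FunFld.IsOverWith QA (placeUp Q₁) e₁ := fun x => he₁ x
  have h1 := card_decomposition_mul_deg hA heA
  -- the decomposition group is everything
  have hmemH : ∀ τ : K' ≃ₐ[↥K₁] K', τ.restrictScalars K ∈ H := by
    intro τ
    have h2 : τ.restrictScalars K ∈ (IntermediateField.fixedField H).fixingSubgroup := by
      rw [IntermediateField.mem_fixingSubgroup_iff]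
      intro x hx
      exact τ.commutes ⟨x, hx⟩
    rwa [IntermediateField.fixingSubgroup_fixedField] at h2
  have htop : (QA.O).decompositionSubgroup ↥K₁ = ⊤ := by
    rw [eq_top_iff]
    intro τ _
    rw [MulAction.mem_stabilizer_iff, ← galPlace_O]
    congr 1
    symm
    apply eq_of_forall_le_one
    intro a ha
    rw [galPlace_apply]
    have hin : InRam Q 1 ((τ.restrictScalars K)⁻¹) :=
      (hH _ (hmemH τ)).inv zero_le_one
    have := hin.map_le_one zero_le_one (x := a) ha
    exact this
  rw [htop, Subgroup.card_top, IsGalois.card_aut_eq_finrank] at h1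
  -- residue degrees agree
  have hdeg : QA.deg = (placeUp Q₁).deg := by
    apply le_antisymm
    · apply deg_le_of_forall_exists hA heA
      intro x hx
      obtain ⟨y, hy, hyr⟩ := fixedResidue_eq_top hH (IsLocalRing.residue ↥Q.O ⟨x, hx⟩)
      have hyK₁ : y.1 ∈ K₁ := by
        rw [IntermediateField.mem_fixedField_iff]
        exact hy
      refine ⟨⟨y.1, hyK₁⟩, ?_⟩
      have h2 : IsLocalRing.residue ↥Q.O (⟨x, hx⟩ - y) = 0 := by
        rw [map_sub, hyr, sub_self]
      rw [residue_eq_zero_iff] at h2
      exact h2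
    · exact deg_le_deg_of_isOverWith hA heA
  have hpos : 0 < QA.deg := deg_pos_ext hA QA
  rw [← hdeg] at h1
  have he₁' : e₁ = Module.finrank ↥K₁ K' := (Nat.eq_of_mul_eq_mul_right hpos h1).symm
  rw [IntermediateField.finrank_fixedField_eq_card] at he₁'
  exact ⟨Q₁, he₁' ▸ he₁⟩

end FixedField

section Lower

open scoped Pointwise

variable [FiniteDimensional K K'] [IsGalois K K']

theorem ramGroup_le_decomposition (Q : FunFld.Place k K') {σ : K' ≃ₐ[K] K'}
    (hσ : InRam Q 1 σ) : σ ∈ (Q.O).decompositionSubgroup K := by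
  rw [MulAction.mem_stabilizer_iff, ← galPlace_O]
  congr 1
  symm
  apply eq_of_forall_le_one
  intro a ha
  rw [galPlace_apply]
  exact (hσ.inv zero_le_one).map_le_one zero_le_one ha

theorem coe_decomposition_smul (Q : FunFld.Place k K')
    (σ : ↥((Q.O).decompositionSubgroup K)) (x : ↥Q.O) : ((σ • x : ↥Q.O) : K') = σ.1 x.1 := rfl

/-- Elements of the decomposition group acting trivially on the residue field are in the
inertia group `G_1`. -/
theorem inRam_one_of_forall_smul_eq (Q : FunFld.Place k K')
    (σ : ↥((Q.O).decompositionSubgroup K))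
    (h : ∀ r : IsLocalRing.ResidueField ↥Q.O, σ • r = r) : InRam Q 1 σ.1 := by
  intro x hx
  have h1 := h (IsLocalRing.residue ↥Q.O ⟨x, hx⟩)
  rw [← IsLocalRing.ResidueField.residue_smul, ← sub_eq_zero, ← map_sub,
    residue_eq_zero_iff] at h1
  rw [← lt_one_iff_le_exp_neg_one]
  exact h1

/-- `|G₀| deg P ≤ |G₁| deg Q`. -/
theorem card_decomposition_mul_deg_le (hK : FunFld.IsFunctionField k K)
    {Q : FunFld.Place k K'} {P : FunFld.Place k K} {e : ℕ} (he : FunFld.IsOverWith Q P e) :
    Nat.card ((Q.O).decompositionSubgroup K) * P.deg ≤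
      Nat.card ↥(ramGroup (K := K) Q 1) * Q.deg := by
  classical
  set G₀ := (Q.O).decompositionSubgroup K with hG₀
  letI algPQ : Algebra (IsLocalRing.ResidueField ↥P.O) (IsLocalRing.ResidueField ↥Q.O) :=
    (residueMap he).toAlgebra
  haveI tower : IsScalarTower k (IsLocalRing.ResidueField ↥P.O) (IsLocalRing.ResidueField ↥Q.O) :=
    IsScalarTower.of_algebraMap_eq (fun c => by
      change IsLocalRing.residue ↥Q.O (algebraMap k ↥Q.O c) =
        IsLocalRing.residue ↥Q.O (valRingMap he (algebraMap k ↥P.O c))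
      congr 1
      apply Subtype.ext
      change algebraMap k K' c = algebraMap K K' (algebraMap k K c)
      rw [← IsScalarTower.algebraMap_apply])
  have hposQ := deg_pos_ext hK Q
  haveI finQ : Module.Finite k (IsLocalRing.ResidueField ↥Q.O) :=
    Module.finite_of_finrank_pos hposQ
  haveI finPQ : Module.Finite (IsLocalRing.ResidueField ↥P.O) (IsLocalRing.ResidueField ↥Q.O) :=
    @Module.Finite.of_restrictScalars_finite k (IsLocalRing.ResidueField ↥P.O)
      (IsLocalRing.ResidueField ↥Q.O) _ _ _ _ _ _ tower finQ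
  -- the map to algebra homs
  let Φ : ↥G₀ → (IsLocalRing.ResidueField ↥Q.O →ₐ[IsLocalRing.ResidueField ↥P.O]
      IsLocalRing.ResidueField ↥Q.O) := fun σ =>
    { MulSemiringAction.toRingHom ↥G₀ (IsLocalRing.ResidueField ↥Q.O) σ with
      commutes' := fun r => by
        obtain ⟨a, rfl⟩ := IsLocalRing.residue_surjective r
        change σ • residueMap he (IsLocalRing.residue ↥P.O a) =
          residueMap he (IsLocalRing.residue ↥P.O a)
        rw [residueMap_residue, ← IsLocalRing.ResidueField.residue_smul]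
        congr 1
        apply Subtype.ext
        rw [coe_decomposition_smul]
        exact σ.1.commutes a.1 }
  have hΦ : ∀ σ τ : ↥G₀, Φ σ = Φ τ → InRam Q 1 (τ⁻¹ * σ).1 := by
    intro σ τ hστ
    apply inRam_one_of_forall_smul_eq
    intro r
    have h1 : σ • r = τ • r := DFunLike.congr_fun hστ r
    rw [mul_smul, h1, inv_smul_smul]
  haveI : Fintype ↥G₀ := Fintype.ofFinite _
  haveI : Fintype (IsLocalRing.ResidueField ↥Q.O →ₐ[IsLocalRing.ResidueField ↥P.O]
      IsLocalRing.ResidueField ↥Q.O) := Fintype.ofFinite _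
  haveI : Fintype ↥(ramGroup (K := K) Q 1) := Fintype.ofFinite _
  have hcount : Fintype.card ↥G₀ ≤ Fintype.card ↥(ramGroup (K := K) Q 1) *
      (Finset.univ.image Φ).card := by
    rw [← Finset.card_univ]
    apply Finset.card_le_mul_card_image
    intro a ha
    obtain ⟨σ₀, -, rfl⟩ := Finset.mem_image.1 ha
    rw [← Finset.card_univ (α := ↥(ramGroup (K := K) Q 1))]
    let ψ : ↥G₀ → ↥(ramGroup (K := K) Q 1) := fun x =>
      if h : Φ x = Φ σ₀ then ⟨(σ₀⁻¹ * x).1, hΦ x σ₀ h⟩ else 1
    refine Finset.card_le_card_of_injOn ψ (fun _ _ => Finset.mem_univ _) ?_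
    intro x hx y hy hxy
    have hx' : Φ x = Φ σ₀ := (Finset.mem_filter.1 hx).2
    have hy' : Φ y = Φ σ₀ := (Finset.mem_filter.1 hy).2
    simp only [ψ, dif_pos hx', dif_pos hy'] at hxy
    have h1 : (σ₀⁻¹ * x).1 = (σ₀⁻¹ * y).1 := Subtype.mk.inj hxy
    have h2 : σ₀⁻¹ * x = σ₀⁻¹ * y := Subtype.ext h1
    exact mul_left_cancel h2
  have hcard : (Finset.univ.image Φ).card ≤
      Module.finrank (IsLocalRing.ResidueField ↥P.O) (IsLocalRing.ResidueField ↥Q.O) := by
    refine (Finset.card_le_univ _).trans ?_
    rw [← Nat.card_eq_fintype_card]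
    exact card_algHom_le_finrank _ _ _
  have htow := @Module.finrank_mul_finrank k (IsLocalRing.ResidueField ↥P.O)
    (IsLocalRing.ResidueField ↥Q.O) _ _ _ _ _ _ tower _ _
  rw [Nat.card_eq_fintype_card, Nat.card_eq_fintype_card]
  unfold FunFld.Place.deg
  calc Fintype.card ↥G₀ * Module.finrank k (IsLocalRing.ResidueField ↥P.O)
      ≤ (Fintype.card ↥(ramGroup (K := K) Q 1) *
          Module.finrank (IsLocalRing.ResidueField ↥P.O) (IsLocalRing.ResidueField ↥Q.O)) *
          Module.finrank k (IsLocalRing.ResidueField ↥P.O) :=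
        Nat.mul_le_mul_right _ (hcount.trans (Nat.mul_le_mul_left _ hcard))
    _ = Fintype.card ↥(ramGroup (K := K) Q 1) *
          Module.finrank k (IsLocalRing.ResidueField ↥Q.O) := by
        rw [← htow]; ring

/-- Hilbert's formula for the inertia group: `|G₁| = e(Q|P)` when the residue field of `Q` is
separable over `k`. -/
theorem card_ramGroup_one (hK : FunFld.IsFunctionField k K)
    {Q : FunFld.Place k K'} {P : FunFld.Place k K} {e : ℕ} (he : FunFld.IsOverWith Q P e)
    [Algebra.IsSeparable k (IsLocalRing.ResidueField ↥Q.O)] :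
    Nat.card ↥(ramGroup (K := K) Q 1) = e := by
  apply le_antisymm
  · obtain ⟨Q₁, hQ₁⟩ := exists_isOverWith_fixedField (ramGroup (K := K) Q 1) hK Q (fun σ h => h)
    obtain ⟨π, hπ⟩ := exists_uniformizer P
    have hπ0 : π ≠ 0 := by
      rintro rfl
      rw [map_zero] at hπ
      exact WithZero.exp_ne_zero hπ.symm
    have h1 := he π
    have h2 := hQ₁ (algebraMap K ↥(IntermediateField.fixedField (ramGroup (K := K) Q 1)) π)
    have h3 : algebraMap ↥(IntermediateField.fixedField (ramGroup (K := K) Q 1)) K'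
        (algebraMap K ↥(IntermediateField.fixedField (ramGroup (K := K) Q 1)) π) =
        algebraMap K K' π := rfl
    rw [h3, h1, hπ] at h2
    have hne : algebraMap K ↥(IntermediateField.fixedField (ramGroup (K := K) Q 1)) π ≠ 0 :=
      (_root_.map_ne_zero _).2 hπ0
    rw [val_eq_exp_log Q₁ hne, ← WithZero.exp_nsmul, ← WithZero.exp_nsmul, WithZero.exp_inj] at h2
    simp only [nsmul_eq_mul, mul_neg, mul_one] at h2
    have hdvd : (Nat.card ↥(ramGroup (K := K) Q 1) : ℤ) ∣ (e : ℤ) :=
      ⟨-WithZero.log (Q₁.1 _), by rw [mul_neg, ← h2, neg_neg]⟩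
    exact Nat.le_of_dvd (isOverWith_pos he) (Int.natCast_dvd_natCast.1 hdvd)
  · have h1 := card_decomposition_mul_deg hK he
    have h2 := card_decomposition_mul_deg_le hK he
    rw [h1] at h2
    exact Nat.le_of_mul_le_mul_right h2 (deg_pos_ext hK Q)

/-- Mathlib's inertia subgroup is the ramification group `G₁`. -/
theorem map_inertiaSubgroup_eq (Q : FunFld.Place k K') :
    ((Q.O).inertiaSubgroup K).map ((Q.O).decompositionSubgroup K).subtype =
      ramGroup (K := K) Q 1 := by
  ext σ
  constructor
  · rintro ⟨τ, hτ, rfl⟩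
    apply inRam_one_of_forall_smul_eq
    intro r
    have h1 : MulSemiringAction.toRingAut _ (IsLocalRing.ResidueField ↥Q.O) τ = 1 :=
      MonoidHom.mem_ker.1 hτ
    have h2 := DFunLike.congr_fun h1 r
    exact h2
  · intro hσ
    refine ⟨⟨σ, ramGroup_le_decomposition Q hσ⟩, ?_, rfl⟩
    apply MonoidHom.mem_ker.2
    ext r
    obtain ⟨x, rfl⟩ := IsLocalRing.residue_surjective r
    change (⟨σ, ramGroup_le_decomposition Q hσ⟩ : ↥((Q.O).decompositionSubgroup K)) •
      IsLocalRing.residue ↥Q.O x = IsLocalRing.residue ↥Q.O x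
    rw [← IsLocalRing.ResidueField.residue_smul, ← sub_eq_zero, ← map_sub, residue_eq_zero_iff,
      lt_one_iff_le_exp_neg_one]
    exact hσ x.1 x.2

theorem card_inertiaSubgroup (hK : FunFld.IsFunctionField k K)
    {Q : FunFld.Place k K'} {P : FunFld.Place k K} {e : ℕ} (he : FunFld.IsOverWith Q P e)
    [Algebra.IsSeparable k (IsLocalRing.ResidueField ↥Q.O)] :
    Nat.card ((Q.O).inertiaSubgroup K) = e := by
  rw [← card_ramGroup_one hK he, ← map_inertiaSubgroup_eq]
  exact (Nat.card_congr (Subgroup.equivMapOfInjective _ _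
    (Subgroup.subtype_injective _)).toEquiv)

/-- `K'` is totally ramified at `Q` over the inertia field. -/
theorem exists_isOverWith_inertiaField (hK : FunFld.IsFunctionField k K)
    (Q : FunFld.Place k K') [Algebra.IsSeparable k (IsLocalRing.ResidueField ↥Q.O)] :
    ∃ Q₁ : FunFld.Place k ↥(IntermediateField.fixedField
        (((Q.O).inertiaSubgroup K).map ((Q.O).decompositionSubgroup K).subtype)),
      FunFld.IsOverWith Q Q₁ (Module.finrank ↥(IntermediateField.fixedField
        (((Q.O).inertiaSubgroup K).map ((Q.O).decompositionSubgroup K).subtype)) K') := by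
  rw [IntermediateField.finrank_fixedField_eq_card]
  exact exists_isOverWith_fixedField _ hK Q (fun σ h => by
    rw [map_inertiaSubgroup_eq] at h
    exact h)

end Lower

end Groth.Agent.Lib.H40FunFld
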