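import Groth.Agent.Lib.H40FunFldPurelyInsep
import Mathlib.RingTheory.Discriminant
import Mathlib.FieldTheory.PrimitiveElement
import Mathlib.RingTheory.Adjoin.PowerBasis
import Groth.Agent.Lib.H40FunFldUnram

set_option autoImplicit false
set_option linter.style.haveILetI false
set_option linter.unusedSectionVars false
open FunFld Polynomial

namespace Groth.Agent.Lib.H40FunFld

open Groth.Agent.Lib.H40QuotChain IntermediateField

universe u v w

section SepConst

open scoped TensorProduct

variable {k k' : Type u} {K K' : Type v} [Field k] [Field k'] [Field K] [Field K']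
  [Algebra k k'] [FiniteDimensional k k'] [Algebra k K] [Algebra K K'] [Algebra k' K'] [Algebra k K']
  [IsScalarTower k k' K'] [IsScalarTower k K K']

/-- If `α` generates `k'/k` as an algebra, its image generates `K'/K`. -/
theorem adjoin_singleton_eq_top_of_constExt
    (h : Function.Surjective (Algebra.TensorProduct.productMap
      (IsScalarTower.toAlgHom k k' K') (IsScalarTower.toAlgHom k K K')))
    {α : k'} (hα : Algebra.adjoin k {α} = ⊤) :
    Algebra.adjoin K {algebraMap k' K' α} = ⊤ := by
  have hmem : ∀ c : k', algebraMap k' K' c ∈ Algebra.adjoin K {algebraMap k' K' α} := by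
    intro c
    have hc : c ∈ Algebra.adjoin k {α} := by rw [hα]; trivial
    induction hc using Algebra.adjoin_induction with
    | mem x hx =>
      rw [Set.mem_singleton_iff] at hx
      rw [hx]
      exact Algebra.subset_adjoin rfl
    | algebraMap r =>
      rw [← IsScalarTower.algebraMap_apply k k' K', IsScalarTower.algebraMap_apply k K K']
      exact Subalgebra.algebraMap_mem _ _
    | add x y _ _ hx hy => rw [map_add]; exact Subalgebra.add_mem _ hx hy
    | mul x y _ _ hx hy => rw [map_mul]; exact Subalgebra.mul_mem _ hx hy
  rw [eq_top_iff]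
  intro z _
  have hz : z ∈ Submodule.span K (Set.range (algebraMap k' K')) := by
    rw [span_range_eq_top h]; trivial
  have hle : Submodule.span K (Set.range (algebraMap k' K')) ≤
      (Algebra.adjoin K {algebraMap k' K' α}).toSubmodule :=
    Submodule.span_le.2 (by rintro _ ⟨c, rfl⟩; exact hmem c)
  exact hle hz

/-- A separable constant extension is a separable extension. -/
theorem isSeparable_of_constExt
    (h : Function.Surjective (Algebra.TensorProduct.productMap
      (IsScalarTower.toAlgHom k k' K') (IsScalarTower.toAlgHom k K K')))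
    [Algebra.IsSeparable k k'] : Algebra.IsSeparable K K' := by
  have h1 : Algebra.IsSeparable K ↥(IntermediateField.adjoin K (Set.range (algebraMap k' K'))) := by
    rw [IntermediateField.isSeparable_adjoin_iff_isSeparable]
    rintro _ ⟨c, rfl⟩
    have hc : IsSeparable k c := Algebra.IsSeparable.isSeparable k c
    have hc' : IsSeparable k (algebraMap k' K' c) := by
      unfold IsSeparable at hc ⊢
      have := minpoly.algHom_eq (IsScalarTower.toAlgHom k k' K')
        (IsScalarTower.toAlgHom k k' K').toRingHom.injective c
      rw [IsScalarTower.coe_toAlgHom'] at this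
      rw [this]
      exact hc
    exact IsSeparable.tower_top K hc'
  rw [adjoin_range_eq_top h] at h1
  exact AlgEquiv.Algebra.isSeparable (IntermediateField.topEquiv (F := K) (E := K'))

/-- Under a separable constant extension, the integral closure of `O_P` is `O_P[k']`. -/
theorem integralClosure_eq_adjoin_of_isSeparable_const
    (h : Function.Surjective (Algebra.TensorProduct.productMap
      (IsScalarTower.toAlgHom k k' K') (IsScalarTower.toAlgHom k K K')))
    [Algebra.IsSeparable k k'] (P : FunFld.Place k K) [Algebra ↥P.O K'] [IsScalarTower ↥P.O K K'] :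
    integralClosure ↥P.O K' = Algebra.adjoin ↥P.O (Set.range (algebraMap k' K')) := by
  haveI := finiteDimensional_of_constExt h
  haveI := isSeparable_of_constExt h
  haveI tow : IsScalarTower k ↥P.O K' := IsScalarTower.of_algebraMap_eq (fun c => by
    rw [IsScalarTower.algebraMap_apply ↥P.O K K', IsScalarTower.algebraMap_apply k K K']; rfl)
  have hint : ∀ c : k', IsIntegral ↥P.O (algebraMap k' K' c) := by
    intro c
    have h1 : IsIntegral k c := Algebra.IsIntegral.isIntegral c
    have h2 : IsIntegral k (algebraMap k' K' c) := h1.map (IsScalarTower.toAlgHom k k' K')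
    exact h2.tower_top
  apply le_antisymm
  · intro z hz
    obtain ⟨α, hα⟩ := Field.exists_primitive_element k k'
    have hα' : Algebra.adjoin k {α} = ⊤ := by
      rw [← IntermediateField.adjoin_simple_toSubalgebra_of_isAlgebraic
        (Algebra.IsAlgebraic.isAlgebraic α), hα, IntermediateField.top_toSubalgebra]
    have htop := adjoin_singleton_eq_top_of_constExt h hα'
    have hintK : IsIntegral K (algebraMap k' K' α) := Algebra.IsIntegral.isIntegral _
    let B : PowerBasis K K' := PowerBasis.ofAdjoinEqTop hintK htop
    have hBgen : B.gen = algebraMap k' K' α := PowerBasis.ofAdjoinEqTop_gen hintK htop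
    have hmem := Algebra.discr_mul_isIntegral_mem_adjoin (R := ↥P.O) (K := K) (B := B)
      (hBgen ▸ hint α) hz
    have hd0 : Algebra.discr K B.basis ≠ 0 := Algebra.discr_not_zero_of_basis K B.basis
    have hdint : IsIntegral k (Algebra.discr K B.basis) := Algebra.discr_isIntegral K (fun i => by
      rw [PowerBasis.coe_basis, hBgen]
      exact ((Algebra.IsIntegral.isIntegral α).map (IsScalarTower.toAlgHom k k' K')).pow _)
    have hdval : P.1 (Algebra.discr K B.basis) = 1 :=
      gval_eq_one_of_isAlgebraic (fun a ha => val_algebraMap P ha) hd0 hdint.isAlgebraic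
    have hdinv : (Algebra.discr K B.basis)⁻¹ ∈ P.O := by
      change P.1 _ ≤ 1
      rw [map_inv₀, hdval, inv_one]
    have h3 := Subalgebra.smul_mem _ hmem (⟨_, hdinv⟩ : ↥P.O)
    have h4 : (⟨_, hdinv⟩ : ↥P.O) • (Algebra.discr K B.basis • z) = z := by
      rw [Algebra.smul_def, Algebra.smul_def, IsScalarTower.algebraMap_apply ↥P.O K K', ← mul_assoc,
        ← map_mul]
      change algebraMap K K' ((Algebra.discr K B.basis)⁻¹ * Algebra.discr K B.basis) * z = z
      rw [inv_mul_cancel₀ hd0, map_one, one_mul]
    rw [h4] at h3
    have hsub : ({B.gen} : Set K') ⊆ Set.range (algebraMap k' K') :=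
      Set.singleton_subset_iff.2 ⟨α, hBgen.symm⟩
    exact Algebra.adjoin_mono hsub h3
  · apply Algebra.adjoin_le
    rintro _ ⟨c, rfl⟩
    exact hint c

end SepConst

section AlgGen

variable {k : Type u} [Field k] {K : Type v} [Field K] [Algebra k K]

section Galois

variable {N : Type w} [Field N] [Algebra K N] [Algebra k N] [IsScalarTower k K N]

/-- An element of the inertia group `G₁` fixes every element algebraic over `k`. -/
theorem ramGroup_one_fixes_algebraic {Q : FunFld.Place k N} {σ : N ≃ₐ[K] N}
    (hσ : InRam Q 1 σ) {y : N} (hy : IsAlgebraic k y) : σ y = y := by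
  have htriv : TrivialOn (k := k) Q.1 := fun a ha => val_algebraMap Q ha
  by_contra hne
  have hy1 : Q.1 y ≤ 1 := by
    by_cases hy0 : y = 0
    · rw [hy0, map_zero]; exact zero_le_one
    · exact (gval_eq_one_of_isAlgebraic htriv hy0 hy).le
  have h1 := hσ y hy1
  have hσy : IsAlgebraic k (σ y) := by
    have := hy.algHom ((σ : N →ₐ[K] N).restrictScalars k)
    exact this
  have h2 : Q.1 (σ y - y) = 1 :=
    gval_eq_one_of_isAlgebraic htriv (sub_ne_zero.2 hne) (hσy.sub hy)
  rw [h2, ← lt_one_iff_le_exp_neg_one] at h1
  exact lt_irrefl _ h1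

end Galois

section NormalClosure

variable {K' : Type w} [Field K'] [Algebra K K'] [Algebra k K'] [IsScalarTower k K K']
  [FiniteDimensional K K'] [Algebra.IsSeparable K K']

/-- If `K'/K` is generated by `k`-algebraic elements, so is its normal closure. -/
theorem normalClosure_adjoin_algebraic_eq_top {S : Set K'} (hS : ∀ s ∈ S, IsAlgebraic k s)
    (hgen : IntermediateField.adjoin K S = ⊤) :
    IntermediateField.adjoin K
      {y : ↥(normalClosure K K' (AlgebraicClosure K')) | IsAlgebraic k y} = ⊤ := by
  haveI : IsScalarTower k K ↥(normalClosure K K' (AlgebraicClosure K')) :=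
    IsScalarTower.of_algebraMap_eq (fun c => by
      apply Subtype.ext
      exact IsScalarTower.algebraMap_apply k K (AlgebraicClosure K') c)
  have hle : normalClosure K K' (AlgebraicClosure K') ≤ IntermediateField.lift
      (IntermediateField.adjoin K
        {y : ↥(normalClosure K K' (AlgebraicClosure K')) | IsAlgebraic k y}) := by
    rw [normalClosure_def, iSup_le_iff]
    intro f
    rintro _ ⟨z, rfl⟩
    have hz : z ∈ IntermediateField.adjoin K S := by rw [hgen]; trivial
    change f z ∈ _
    induction hz using IntermediateField.adjoin_induction with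
    | mem s hs =>
      have hfs : f s ∈ normalClosure K K' (AlgebraicClosure K') :=
        f.fieldRange_le_normalClosure ⟨s, rfl⟩
      have h1 : IsAlgebraic k (f s) := (hS s hs).algHom (f.restrictScalars k)
      have h2 : IsAlgebraic k
          (⟨f s, hfs⟩ : ↥(normalClosure K K' (AlgebraicClosure K'))) := by
        obtain ⟨p, hp0, hp⟩ := h1
        refine ⟨p, hp0, Subtype.ext ?_⟩
        have := Polynomial.aeval_algHom_apply
          ((normalClosure K K' (AlgebraicClosure K')).val.restrictScalars k)
          (⟨f s, hfs⟩ : ↥(normalClosure K K' (AlgebraicClosure K'))) p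
        exact this.symm.trans hp
      have h3 : (⟨f s, hfs⟩ : ↥(normalClosure K K' (AlgebraicClosure K'))) ∈
          IntermediateField.adjoin K
            {y : ↥(normalClosure K K' (AlgebraicClosure K')) | IsAlgebraic k y} :=
        IntermediateField.subset_adjoin K _ h2
      exact (IntermediateField.mem_lift
        (⟨f s, hfs⟩ : ↥(normalClosure K K' (AlgebraicClosure K')))).2 h3
    | algebraMap a => rw [f.commutes]; exact IntermediateField.algebraMap_mem _ a
    | add a b _ _ ha hb => rw [map_add]; exact add_mem ha hb
    | inv a _ ha => rw [map_inv₀]; exact inv_mem ha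
    | mul a b _ _ ha hb => rw [map_mul]; exact mul_mem ha hb
  rw [eq_top_iff]
  intro y _
  exact (IntermediateField.mem_lift y).1 (hle y.2)

/-- A finite separable extension generated by `k`-algebraic elements is unramified everywhere. -/
theorem isOverWith_one_of_adjoin_algebraic (hK : FunFld.IsFunctionField k K) {S : Set K'}
    (hS : ∀ s ∈ S, IsAlgebraic k s) (hgen : IntermediateField.adjoin K S = ⊤)
    {Q : FunFld.Place k K'} {P : FunFld.Place k K} {e : ℕ} (he : FunFld.IsOverWith Q P e) :
    e = 1 := by
  classical
  haveI : Normal K (AlgebraicClosure K') := IsAlgClosure.normal K (AlgebraicClosure K')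
  haveI hsepN : Algebra.IsSeparable K ↥(normalClosure K K' (AlgebraicClosure K')) := by
    haveI : ∀ f : K' →ₐ[K] AlgebraicClosure K', Algebra.IsSeparable K ↥f.fieldRange := fun f =>
      AlgEquiv.Algebra.isSeparable (AlgEquiv.ofInjectiveField f)
    rw [normalClosure_def]
    infer_instance
  haveI : IsGalois K ↥(normalClosure K K' (AlgebraicClosure K')) := ⟨⟩
  haveI : IsScalarTower k K ↥(normalClosure K K' (AlgebraicClosure K')) :=
    IsScalarTower.of_algebraMap_eq (fun c => by
      apply Subtype.ext
      exact IsScalarTower.algebraMap_apply k K (AlgebraicClosure K') c)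
  haveI : IsScalarTower k K' ↥(normalClosure K K' (AlgebraicClosure K')) :=
    IsScalarTower.of_algebraMap_eq (fun c => by
      apply Subtype.ext
      exact IsScalarTower.algebraMap_apply k K' (AlgebraicClosure K') c)
  haveI : FiniteDimensional K' ↥(normalClosure K K' (AlgebraicClosure K')) :=
    Module.Finite.of_restrictScalars_finite K K' _
  obtain ⟨t, htr, -⟩ := hK.1
  have htr' : Transcendental k (algebraMap K K' t) := by
    intro halg
    exact htr ((isAlgebraic_algebraMap_iff (algebraMap K K').injective).1 halg)
  obtain ⟨hfin', -⟩ := finrank_adjoin_algebraMap (K' := K') hK htr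
  obtain ⟨Q', e', he'⟩ := exists_isOver_weak
    (N := ↥(normalClosure K K' (AlgebraicClosure K'))) htr' Q
  have hQ'P := isOverWith_trans he' he
  have hle := le_card_ramGroup_one hK hQ'P
  have hbot : ramGroup (K := K) Q' 1 = ⊥ := by
    rw [eq_bot_iff]
    intro σ hσ
    rw [Subgroup.mem_bot]
    have hfix : ∀ y ∈ IntermediateField.adjoin K
        {y : ↥(normalClosure K K' (AlgebraicClosure K')) | IsAlgebraic k y}, σ y = y := by
      intro y hy
      induction hy using IntermediateField.adjoin_induction with
      | mem s hs => exact ramGroup_one_fixes_algebraic hσ hs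
      | algebraMap a => exact σ.commutes a
      | add a b _ _ ha hb => rw [map_add, ha, hb]
      | inv a _ ha => rw [map_inv₀, ha]
      | mul a b _ _ ha hb => rw [map_mul, ha, hb]
    apply AlgEquiv.ext
    intro y
    exact hfix y (by rw [normalClosure_adjoin_algebraic_eq_top hS hgen]; trivial)
  rw [hbot, Subgroup.card_bot] at hle
  have h1 := isOverWith_pos he
  have h2 := isOverWith_pos he'
  nlinarith

end NormalClosure

end AlgGen

section Final

open scoped TensorProduct

variable {k k' : Type u} {K K' : Type v} [Field k] [Field k'] [Field K] [Field K']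
  [Algebra k k'] [FiniteDimensional k k'] [Algebra k K] [Algebra K K'] [Algebra k' K'] [Algebra k K']
  [IsScalarTower k k' K'] [IsScalarTower k K K']

/-- Separable constant extensions are unramified. -/
theorem isOverWith_one_of_isSeparable_const (hK : FunFld.IsFunctionField k K)
    (h : Function.Surjective (Algebra.TensorProduct.productMap
      (IsScalarTower.toAlgHom k k' K') (IsScalarTower.toAlgHom k K K')))
    [Algebra.IsSeparable k k'] {P : FunFld.Place k K} {Q : FunFld.Place k K'}
    (hQ : FunFld.IsOver Q P) : FunFld.IsOverWith Q P 1 := by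
  haveI := finiteDimensional_of_constExt h
  haveI := isSeparable_of_constExt h
  obtain ⟨e, he⟩ := hQ
  have hS : ∀ s ∈ Set.range (algebraMap k' K'), IsAlgebraic k s := by
    rintro _ ⟨c, rfl⟩
    exact (Algebra.IsAlgebraic.isAlgebraic c).algHom (IsScalarTower.toAlgHom k k' K')
  have he1 := isOverWith_one_of_adjoin_algebraic hK hS (adjoin_range_eq_top h) he
  exact he1 ▸ he

end Final

end Groth.Agent.Lib.H40FunFld
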