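import Groth.Agent.Lib.H40FunFldZeta2
import Groth.Agent.Lib.H40FunFldInertia3
import Groth.Agent.Lib.H40FunFldSepConst
import Groth.Agent.Lib.H40FunFldGalois2
import Mathlib.FieldTheory.Finite.GaloisField

/-!
# F. K. Schmidt's theorem: a function field over a finite field has a divisor of degree one.

Constant-field extensions `K' = K(α)` (`α` algebraic over the finite field `k`) are Galois and
unramified, and a place whose degree is divisible by `[k(α):k]` splits completely. Counting pairs
of effective divisors of `K` inside the effective divisors of `K'` then contradicts the growth of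
the number of effective divisors unless the gcd of all degrees is `1`.
-/

set_option autoImplicit false
set_option linter.style.haveILetI false
set_option linter.unusedSectionVars false
open FunFld Polynomial

namespace Groth.Agent.Lib.H40FunFld

open Groth.Agent.Lib.H40QuotChain IntermediateField

universe u v w
variable {k : Type u} [Field k] {K : Type v} [Field K] [Algebra k K] {K' : Type w} [Field K']
  [Algebra K K'] [Algebra k K'] [IsScalarTower k K K']

section ConstExt

theorem val_le_one_of_isIntegral (Q : FunFld.Place k K') {α : K'} (hα : IsIntegral k α) :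
    Q.1 α ≤ 1 := by
  by_cases h0 : α = 0
  · rw [h0, map_zero]; exact zero_le_one
  · exact (gval_eq_one_of_isAlgebraic (fun _ ha => val_algebraMap Q ha) h0 hα.isAlgebraic).le

theorem val_eq_one_of_isIntegral (Q : FunFld.Place k K') {α : K'} (hα : IsIntegral k α)
    (h0 : α ≠ 0) : Q.1 α = 1 :=
  gval_eq_one_of_isAlgebraic (fun _ ha => val_algebraMap Q ha) h0 hα.isAlgebraic

/-- If the degree of `α` over the finite field `k` divides `deg P`, then at any place `Q` over `P`
the constant `α` is congruent to an element of `O_P`. -/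
theorem exists_sub_lt_one_of_dvd [Finite k] (hK : FunFld.IsFunctionField k K) {α : K'}
    (hα : IsIntegral k α) {P : FunFld.Place k K} (hdvd : (minpoly k α).natDegree ∣ P.deg)
    {Q : FunFld.Place k K'} {e : ℕ} (he : FunFld.IsOverWith Q P e) :
    ∃ a : K, P.1 a ≤ 1 ∧ Q.1 (α - algebraMap K K' a) < 1 := by
  have hfin := finiteDimensional_residueField hK P
  have hfinP : Finite (IsLocalRing.ResidueField P.O) := Module.finite_of_finite k
  have hFfin : FiniteDimensional k k⟮α⟯ := adjoin.finiteDimensional hα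
  have hFrank : Module.finrank k k⟮α⟯ = (minpoly k α).natDegree := adjoin.finrank hα
  have hFf : Finite k⟮α⟯ := Module.finite_of_finite k
  obtain ⟨φ⟩ := FiniteField.nonempty_algHom_of_finrank_dvd (F := k) (K := k⟮α⟯)
    (L := IsLocalRing.ResidueField P.O) (by rw [hFrank]; exact hdvd)
  have hsplF : ((minpoly k α).map (algebraMap k k⟮α⟯)).Splits := by
    have := Normal.splits (F := k) (K := k⟮α⟯) inferInstance (AdjoinSimple.gen k α)
    rwa [minpoly_gen] at this
  have hsplP : ((minpoly k α).map (algebraMap k (IsLocalRing.ResidueField P.O))).Splits := by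
    have := hsplF.map φ.toRingHom
    rwa [Polynomial.map_map, AlgHom.toRingHom_eq_coe, φ.comp_algebraMap] at this
  have hαQ : Q.1 α ≤ 1 := val_le_one_of_isIntegral Q hα
  -- the residue of α is a root
  have hcomp : (residueMap he).comp (algebraMap k (IsLocalRing.ResidueField P.O)) =
      algebraMap k (IsLocalRing.ResidueField Q.O) := by
    ext c
    change residueMap he (IsLocalRing.residue ↥P.O (algebraMap k ↥P.O c)) =
      IsLocalRing.residue _ (algebraMap k ↥Q.O c)
    rw [residueMap_residue]
    congr 1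
    apply Subtype.ext
    change algebraMap K K' (algebraMap k K c) = algebraMap k K' c
    rw [← IsScalarTower.algebraMap_apply]
  have hroot : (((minpoly k α).map (algebraMap k (IsLocalRing.ResidueField P.O))).map
      (residueMap he)).IsRoot (IsLocalRing.residue Q.O ⟨α, hαQ⟩) := by
    rw [Polynomial.map_map, hcomp, IsRoot.def, eval_map]
    have h1 : eval₂ (algebraMap k (IsLocalRing.ResidueField Q.O))
        (IsLocalRing.residue Q.O ⟨α, hαQ⟩) (minpoly k α) =
        IsLocalRing.residue Q.O (eval₂ (algebraMap k ↥Q.O) ⟨α, hαQ⟩ (minpoly k α)) := by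
      rw [Polynomial.hom_eval₂]; rfl
    rw [h1]
    have h2 : eval₂ (algebraMap k ↥Q.O) ⟨α, hαQ⟩ (minpoly k α) = 0 := by
      apply Subtype.ext
      have h3 := Polynomial.hom_eval₂ (minpoly k α) (algebraMap k ↥Q.O) Q.O.subtype ⟨α, hαQ⟩
      exact h3.trans (minpoly.aeval k α)
    rw [h2, map_zero]
  have hne : (minpoly k α).map (algebraMap k (IsLocalRing.ResidueField P.O)) ≠ 0 :=
    (Polynomial.map_ne_zero_iff (algebraMap k _).injective).2 (minpoly.ne_zero hα)
  obtain ⟨c, hc⟩ := hsplP.mem_range_of_isRoot hne hroot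
  obtain ⟨a, rfl⟩ := IsLocalRing.residue_surjective c
  refine ⟨a.1, a.2, ?_⟩
  rw [residueMap_residue] at hc
  have h4 : IsLocalRing.residue Q.O (⟨α, hαQ⟩ - valRingMap he a) = 0 := by
    rw [map_sub, hc, sub_self]
  exact (residue_eq_zero_iff Q _).1 h4

theorem algebra_adjoin_eq_top_of_adjoin_eq_top {α : K'} (hα : IsIntegral k α)
    (hgen : IntermediateField.adjoin K {α} = ⊤) : Algebra.adjoin K {α} = ⊤ := by
  have hαK : IsIntegral K α := hα.tower_top
  rw [← IntermediateField.adjoin_simple_toSubalgebra_of_isAlgebraic hαK.isAlgebraic, hgen,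
    IntermediateField.top_toSubalgebra]

theorem finiteDimensional_of_adjoin_eq_top {α : K'} (hα : IsIntegral k α)
    (hgen : IntermediateField.adjoin K {α} = ⊤) : FiniteDimensional K K' := by
  have hαK : IsIntegral K α := hα.tower_top
  have := adjoin.finiteDimensional hαK
  rw [hgen] at this
  exact (IntermediateField.topEquiv (F := K) (E := K')).toLinearEquiv.finiteDimensional

/-- A constant-field extension of a function field over a finite field is Galois. -/
theorem isGalois_of_adjoin_integral [Finite k] {α : K'} (hα : IsIntegral k α)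
    (hgen : IntermediateField.adjoin K {α} = ⊤) : IsGalois K K' := by
  have hFfin : FiniteDimensional k k⟮α⟯ := adjoin.finiteDimensional hα
  have hFf : Finite k⟮α⟯ := Module.finite_of_finite k
  have hsplF : ((minpoly k α).map (algebraMap k k⟮α⟯)).Splits := by
    have := Normal.splits (F := k) (K := k⟮α⟯) inferInstance (AdjoinSimple.gen k α)
    rwa [minpoly_gen] at this
  have hspl : (((minpoly k α).map (algebraMap k K)).map (algebraMap K K')).Splits := by
    have := hsplF.map (algebraMap k⟮α⟯ K')
    rwa [Polynomial.map_map, ← IsScalarTower.algebraMap_eq, IsScalarTower.algebraMap_eq k K K',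
      ← Polynomial.map_map] at this
  have hsep : ((minpoly k α).map (algebraMap k K)).Separable :=
    (PerfectField.separable_of_irreducible (minpoly.irreducible hα)).map
  have hne : (minpoly k α).map (algebraMap k K) ≠ 0 :=
    (Polynomial.map_ne_zero_iff (algebraMap k K).injective).2 (minpoly.ne_zero hα)
  haveI : ((minpoly k α).map (algebraMap k K)).IsSplittingField K K' := by
    refine ⟨hspl, ?_⟩
    rw [eq_top_iff, ← algebra_adjoin_eq_top_of_adjoin_eq_top hα hgen]
    apply Algebra.adjoin_mono
    rw [Set.singleton_subset_iff, mem_rootSet]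
    refine ⟨hne, ?_⟩
    rw [aeval_map_algebraMap]
    exact minpoly.aeval k α
  exact IsGalois.of_separable_splitting_field hsep

/-- In a constant-field extension `K' = K(α)` over a finite field, a place `P` of degree divisible
by `[k(α) : k]` splits completely: there are `[K' : K]` places above it, all of the same degree. -/
theorem card_isOver_and_deg_eq [Finite k] (hK : FunFld.IsFunctionField k K) {α : K'}
    (hα : IsIntegral k α) (hgen : IntermediateField.adjoin K {α} = ⊤)
    {P : FunFld.Place k K} (hdvd : (minpoly k α).natDegree ∣ P.deg) :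
    Nat.card {Q : FunFld.Place k K' // FunFld.IsOver Q P} = Module.finrank K K' ∧
      ∀ Q : FunFld.Place k K', FunFld.IsOver Q P → Q.deg = P.deg := by
  haveI := finiteDimensional_of_adjoin_eq_top hα hgen
  haveI := isGalois_of_adjoin_integral hα hgen
  obtain ⟨Q, e, he⟩ := exists_isOver (K' := K') hK P
  have he1 : e = 1 := isOverWith_one_of_adjoin_algebraic hK (S := {α})
    (fun s hs => by rw [Set.mem_singleton_iff] at hs; rw [hs]; exact hα.isAlgebraic) hgen he
  subst he1
  have hbot : (Q.O).decompositionSubgroup K = ⊥ := by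
    rw [eq_bot_iff]
    intro σ hσ
    rw [Subgroup.mem_bot]
    have h1 : galPlace σ Q = Q := by
      apply place_ext_of_O_eq
      rw [galPlace_O]
      exact hσ
    obtain ⟨a, -, ha⟩ := exists_sub_lt_one_of_dvd hK hα hdvd he
    have h2 : Q.1 (σ.symm (α - algebraMap K K' a)) < 1 := by
      rw [← galPlace_apply, h1]; exact ha
    rw [map_sub, σ.symm.commutes] at h2
    have h3 : Q.1 (σ.symm α - α) < 1 := by
      have : σ.symm α - α = (σ.symm α - algebraMap K K' a) - (α - algebraMap K K' a) := by ring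
      rw [this]
      exact (Valuation.map_sub _ _ _).trans_lt (max_lt h2 ha)
    have h4 : σ.symm α = α := by
      by_contra hne
      have hint : IsIntegral k (σ.symm α - α) :=
        (hα.map ((σ.symm : K' ≃ₐ[K] K').toAlgHom.restrictScalars k)).sub hα
      have := val_eq_one_of_isIntegral Q hint (sub_ne_zero.2 hne)
      rw [this] at h3
      exact lt_irrefl _ h3
    have h5 : σ α = α := by
      rw [← h4, AlgEquiv.apply_symm_apply, h4]
    have h6 : (σ : K' →ₐ[K] K') = AlgHom.id K K' :=
      AlgHom.ext_of_adjoin_eq_top (algebra_adjoin_eq_top_of_adjoin_eq_top hα hgen) (by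
        intro x hx
        rw [Set.mem_singleton_iff] at hx
        rw [hx]
        exact h5)
    ext x
    exact DFunLike.congr_fun h6 x
  have hc1 := card_isOver_mul_card_decomposition he
  have hc2 := card_decomposition_mul_deg hK he
  rw [hbot, Subgroup.card_bot] at hc1 hc2
  rw [mul_one] at hc1
  rw [one_mul, one_mul] at hc2
  refine ⟨hc1, fun Q' hQ' => ?_⟩
  rw [(isOverWith_and_deg_eq_of_isOver he Q' hQ').2, hc2]

end ConstExt

section ConstExt2

/-- A finite extension of a function field is a function field over its exact constant field,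
which is finite over `k`. -/
theorem isFunctionField_constField_of_finite (hK : FunFld.IsFunctionField k K)
    [FiniteDimensional K K'] :
    FunFld.IsFunctionField ↥(constField k K') K' ∧ 0 < Module.finrank k ↥(constField k K') := by
  obtain ⟨t, htr, -⟩ := hK.1
  have htr' : Transcendental k (algebraMap K K' t) := by
    intro halg
    exact htr ((isAlgebraic_algebraMap_iff (algebraMap K K').injective).1 halg)
  obtain ⟨hfin', -⟩ := finrank_adjoin_algebraMap (K' := K') hK htr
  refine ⟨isFunctionField_constField htr', ?_⟩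
  have h1 := finrank_adjoin_eq_mul (k := k) (L := K') htr'
  have h2 : 0 < Module.finrank ↥k⟮algebraMap K K' t⟯ K' := Module.finrank_pos
  rw [h1] at h2
  exact Nat.pos_of_mul_pos_right h2

end ConstExt2

section TwoLift

variable (Q1 Q2 : FunFld.Place k K → FunFld.Place k K')

/-- Lift a pair of divisors of `K` to a divisor of `K'` (over its exact constant field) along two
sections `Q1`, `Q2` of the restriction map on places. -/
noncomputable def twoLift (E : FunFld.Divisor k K × FunFld.Divisor k K) :
    FunFld.Divisor ↥(constField k K') K' :=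
  Finsupp.mapDomain (fun P => placeUp (Q1 P)) E.1 + Finsupp.mapDomain (fun P => placeUp (Q2 P)) E.2

variable {Q1 Q2}

theorem section_injective (h1 : ∀ P, FunFld.IsOver (Q1 P) P) :
    Function.Injective fun P => placeUp (Q1 P) := by
  intro P P' h
  have h' : Q1 P = Q1 P' := placeUp_injective h
  obtain ⟨e, he⟩ := h1 P
  obtain ⟨e', he'⟩ := h1 P'
  rw [h'] at he
  exact (isOverWith_unique he he').1

theorem section_ne (h1 : ∀ P, FunFld.IsOver (Q1 P) P) (h2 : ∀ P, FunFld.IsOver (Q2 P) P)
    (hne : ∀ P, Q1 P ≠ Q2 P) (P P' : FunFld.Place k K) :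
    placeUp (Q1 P) ≠ placeUp (Q2 P') := by
  intro h
  have h' : Q1 P = Q2 P' := placeUp_injective h
  obtain ⟨e, he⟩ := h1 P
  obtain ⟨e', he'⟩ := h2 P'
  rw [h'] at he
  have hPP := (isOverWith_unique he he').1
  subst hPP
  exact hne P h'

theorem twoLift_apply_left (h1 : ∀ P, FunFld.IsOver (Q1 P) P) (h2 : ∀ P, FunFld.IsOver (Q2 P) P)
    (hne : ∀ P, Q1 P ≠ Q2 P) (E : FunFld.Divisor k K × FunFld.Divisor k K) (P : FunFld.Place k K) :
    twoLift Q1 Q2 E (placeUp (Q1 P)) = E.1 P := by
  rw [twoLift, Finsupp.add_apply,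
    Finsupp.mapDomain_apply (f := fun P => placeUp (Q1 P)) (section_injective h1),
    Finsupp.mapDomain_of_notMem_range, add_zero]
  rintro ⟨P', hP'⟩
  exact section_ne h1 h2 hne P P' hP'.symm

theorem twoLift_apply_right (h1 : ∀ P, FunFld.IsOver (Q1 P) P) (h2 : ∀ P, FunFld.IsOver (Q2 P) P)
    (hne : ∀ P, Q1 P ≠ Q2 P) (E : FunFld.Divisor k K × FunFld.Divisor k K) (P : FunFld.Place k K) :
    twoLift Q1 Q2 E (placeUp (Q2 P)) = E.2 P := by
  rw [twoLift, Finsupp.add_apply,
    Finsupp.mapDomain_apply (f := fun P => placeUp (Q2 P)) (section_injective h2),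
    Finsupp.mapDomain_of_notMem_range, zero_add]
  rintro ⟨P', hP'⟩
  exact section_ne h1 h2 hne P' P hP'

theorem twoLift_injective (h1 : ∀ P, FunFld.IsOver (Q1 P) P) (h2 : ∀ P, FunFld.IsOver (Q2 P) P)
    (hne : ∀ P, Q1 P ≠ Q2 P) : Function.Injective (twoLift Q1 Q2) := by
  intro E E' h
  apply Prod.ext
  · ext P
    rw [← twoLift_apply_left h1 h2 hne E P, h, twoLift_apply_left h1 h2 hne]
  · ext P
    rw [← twoLift_apply_right h1 h2 hne E P, h, twoLift_apply_right h1 h2 hne]

theorem mapDomain_nonneg_of_injective {α β : Type*} {f : α → β} (hf : Function.Injective f)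
    {E : α →₀ ℤ} (hE : 0 ≤ E) : 0 ≤ Finsupp.mapDomain f E := by
  rw [Finsupp.le_def]
  intro b
  by_cases hb : b ∈ Set.range f
  · obtain ⟨a, rfl⟩ := hb
    rw [Finsupp.mapDomain_apply hf]
    exact hE a
  · rw [Finsupp.mapDomain_of_notMem_range _ _ hb]; rfl

theorem twoLift_nonneg (h1 : ∀ P, FunFld.IsOver (Q1 P) P) (h2 : ∀ P, FunFld.IsOver (Q2 P) P)
    {E : FunFld.Divisor k K × FunFld.Divisor k K} (hE1 : 0 ≤ E.1) (hE2 : 0 ≤ E.2) :
    0 ≤ twoLift Q1 Q2 E :=
  add_nonneg (mapDomain_nonneg_of_injective (section_injective h1) hE1)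
    (mapDomain_nonneg_of_injective (section_injective h2) hE2)

theorem deg_mapDomain_placeUp (hd1 : ∀ P, (Q1 P).deg = P.deg) (E : FunFld.Divisor k K) :
    (Module.finrank k ↥(constField k K') : ℤ) *
      FunFld.Divisor.deg (Finsupp.mapDomain (fun P => placeUp (Q1 P)) E) = E.deg := by
  rw [FunFld.Divisor.deg, Finsupp.sum_mapDomain_index (by intro b; simp)
    (by intro b m₁ m₂; ring), FunFld.Divisor.deg, Finsupp.sum, Finsupp.sum, Finset.mul_sum]
  refine Finset.sum_congr rfl fun P _ => ?_
  have := deg_eq_mul_deg_placeUp (Q1 P)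
  rw [hd1 P] at this
  rw [this]
  push_cast
  ring

theorem deg_twoLift (hd1 : ∀ P, (Q1 P).deg = P.deg) (hd2 : ∀ P, (Q2 P).deg = P.deg)
    (E : FunFld.Divisor k K × FunFld.Divisor k K) :
    (Module.finrank k ↥(constField k K') : ℤ) * (twoLift Q1 Q2 E).deg = E.1.deg + E.2.deg := by
  rw [twoLift, deg_add, mul_add, deg_mapDomain_placeUp hd1, deg_mapDomain_placeUp hd2]

/-- Counting inequality: pairs of effective divisors of `K` inject into effective divisors of
`K'` (over its exact constant field). -/
theorem sum_effDivCount_mul_le [Finite k] (hK : FunFld.IsFunctionField k K)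
    [FiniteDimensional K K']
    (h1 : ∀ P, FunFld.IsOver (Q1 P) P) (h2 : ∀ P, FunFld.IsOver (Q2 P) P)
    (hne : ∀ P, Q1 P ≠ Q2 P)
    (hd1 : ∀ P, (Q1 P).deg = P.deg) (hd2 : ∀ P, (Q2 P).deg = P.deg)
    (J : Finset (ℕ × ℕ)) (M : ℕ)
    (hJ : ∀ p ∈ J, p.1 + p.2 = Module.finrank k ↥(constField k K') * M) :
    ∑ p ∈ J, FunFld.effDivCount k K p.1 * FunFld.effDivCount k K p.2 ≤
      FunFld.effDivCount ↥(constField k K') K' M := by
  classical
  obtain ⟨hL, hm⟩ := isFunctionField_constField_of_finite (K' := K') hK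
  have hfd : Module.Finite k ↥(constField k K') := Module.finite_of_finrank_pos hm
  have hfin : Finite ↥(constField k K') := Module.finite_of_finite k
  have hfinT : Finite {D : FunFld.Divisor ↥(constField k K') K' // 0 ≤ D ∧ D.deg = (M : ℤ)} :=
    (finite_effDiv hL M).to_subtype
  have hfinS : ∀ n : ℕ, Finite {D : FunFld.Divisor k K // 0 ≤ D ∧ D.deg = (n : ℤ)} :=
    fun n => (finite_effDiv hK n).to_subtype
  let Ψ : (Σ p : ↥J, {D : FunFld.Divisor k K // 0 ≤ D ∧ D.deg = (p.1.1 : ℤ)} ×
      {D : FunFld.Divisor k K // 0 ≤ D ∧ D.deg = (p.1.2 : ℤ)}) →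
      {D : FunFld.Divisor ↥(constField k K') K' // 0 ≤ D ∧ D.deg = (M : ℤ)} :=
    fun x => ⟨twoLift Q1 Q2 (x.2.1.1, x.2.2.1), twoLift_nonneg h1 h2 x.2.1.2.1 x.2.2.2.1, by
      have h3 := deg_twoLift hd1 hd2 (x.2.1.1, x.2.2.1)
      rw [x.2.1.2.2, x.2.2.2.2] at h3
      have h4 : ((x.1.1.1 : ℤ) + (x.1.1.2 : ℤ)) =
          (Module.finrank k ↥(constField k K') : ℤ) * M := by
        exact_mod_cast hJ x.1.1 x.1.2
      rw [h4] at h3
      have h5 : (Module.finrank k ↥(constField k K') : ℤ) ≠ 0 := by exact_mod_cast hm.ne'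
      exact mul_left_cancel₀ h5 h3⟩
  have hΨ : Function.Injective Ψ := by
    rintro ⟨⟨p, hp⟩, ⟨E1, hE1⟩, ⟨E2, hE2⟩⟩ ⟨⟨p', hp'⟩, ⟨E1', hE1'⟩, ⟨E2', hE2'⟩⟩ h
    have h3 := twoLift_injective h1 h2 hne (congrArg Subtype.val h)
    simp only [Prod.mk.injEq] at h3
    obtain ⟨rfl, rfl⟩ := h3
    have h4 : p = p' := by
      apply Prod.ext
      · have := hE1.2.symm.trans hE1'.2
        exact_mod_cast this
      · have := hE2.2.symm.trans hE2'.2
        exact_mod_cast this
    subst h4
    rfl
  have hcard := Nat.card_le_card_of_injective Ψ hΨ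
  rw [Nat.card_sigma] at hcard
  simp only [Nat.card_prod] at hcard
  rw [← Finset.sum_coe_sort J
    (fun p => FunFld.effDivCount k K p.1 * FunFld.effDivCount k K p.2)]
  exact hcard

end TwoLift

section Bounds

theorem effDivCount_ge [Finite k] (hK : FunFld.IsFunctionField k K) {d : ℕ}
    (hd : ∀ m : ℤ, (∃ D : FunFld.Divisor k K, D.deg = m) ↔ (d : ℤ) ∣ m) {n : ℕ}
    (hn : 2 * FunFld.genus k K ≤ n + 1) (hgn : FunFld.genus k K ≤ n) (hdn : d ∣ n) :
    Nat.card k ^ (n - FunFld.genus k K) ≤ FunFld.effDivCount k K n := by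
  have h1 := effDivCount_of_dvd hK hd hn hdn
  have h2 : n + 1 - FunFld.genus k K = (n - FunFld.genus k K) + 1 := by omega
  rw [h2, pow_succ] at h1
  have hq : Nat.card k = Nat.card kˣ + 1 := Nat.card_eq_card_units_add_one k
  have hu : 1 ≤ Nat.card kˣ := by
    have : 2 ≤ Nat.card k := Finite.one_lt_card
    omega
  have hh := classNum_pos hK
  set a := FunFld.effDivCount k K n
  set X := Nat.card k ^ (n - FunFld.genus k K) with hX
  have hX1 : 1 ≤ X := Nat.one_le_pow _ _ (by omega)
  rw [hq] at h1
  by_contra hlt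
  push Not at hlt
  have h3 : a + 1 ≤ X := hlt
  have h4 : (a + 1) * Nat.card kˣ ≤ X * Nat.card kˣ := Nat.mul_le_mul_right _ h3
  have h5 : X * Nat.card kˣ ≤ FunFld.classNum k K * (X * Nat.card kˣ) :=
    Nat.le_mul_of_pos_left _ hh
  have h6 : FunFld.classNum k K ≤ FunFld.classNum k K * X := Nat.le_mul_of_pos_right _ hX1
  nlinarith

theorem effDivCount_le [Finite k] (hK : FunFld.IsFunctionField k K) {n : ℕ}
    (hn : 2 * FunFld.genus k K ≤ n + 1) :
    FunFld.effDivCount k K n ≤ FunFld.classNum k K * Nat.card k ^ (n + 1) := by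
  obtain ⟨d, hd0, hd⟩ := exists_degGen hK
  by_cases hdn : d ∣ n
  · have h1 := effDivCount_of_dvd hK hd hn hdn
    have hu : 1 ≤ Nat.card kˣ := by
      have : 2 ≤ Nat.card k := Finite.one_lt_card
      have hq : Nat.card k = Nat.card kˣ + 1 := Nat.card_eq_card_units_add_one k
      omega
    calc FunFld.effDivCount k K n ≤ FunFld.effDivCount k K n * Nat.card kˣ :=
          Nat.le_mul_of_pos_right _ hu
      _ ≤ FunFld.classNum k K * Nat.card k ^ (n + 1 - FunFld.genus k K) := by omega
      _ ≤ FunFld.classNum k K * Nat.card k ^ (n + 1) := by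
          apply Nat.mul_le_mul_left
          exact Nat.pow_le_pow_right Nat.card_pos (Nat.sub_le _ _)
  · rw [effDivCount_of_not_dvd hK hd hdn]
    exact Nat.zero_le _

end Bounds

section Main

/-- F. K. Schmidt's theorem, abstract form: if all degrees of divisors of `K/k` (`k` finite) are
multiples of `d`, and `K' = K(α)` with `α` of degree `d` over `k`, then `d = 1`. -/
theorem degGen_eq_one_of_ext [Finite k] (hK : FunFld.IsFunctionField k K) {d : ℕ} (hd0 : 0 < d)
    (hd : ∀ m : ℤ, (∃ D : FunFld.Divisor k K, D.deg = m) ↔ (d : ℤ) ∣ m)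
    {α : K'} (hα : IsIntegral k α) (hgen : IntermediateField.adjoin K {α} = ⊤)
    (hdeg : (minpoly k α).natDegree = d) : d = 1 := by
  classical
  by_contra hd1
  have hd2 : 2 ≤ d := by omega
  haveI := finiteDimensional_of_adjoin_eq_top hα hgen
  have hdvdP : ∀ P : FunFld.Place k K, (minpoly k α).natDegree ∣ P.deg := by
    intro P
    rw [hdeg]
    have := (hd P.deg).1 ⟨Finsupp.single P 1, by rw [deg_single, one_mul]⟩
    exact_mod_cast this
  have hrank : 2 ≤ Module.finrank K K' := by
    have hpos : 0 < Module.finrank K K' := Module.finrank_pos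
    by_contra hlt
    have h1 : Module.finrank K K' = 1 := by omega
    have h2 : (⊥ : Subalgebra K K') = ⊤ := Subalgebra.bot_eq_top_of_finrank_eq_one h1
    have h3 : α ∈ (⊥ : Subalgebra K K') := by rw [h2]; trivial
    obtain ⟨a, ha⟩ := Algebra.mem_bot.1 h3
    have h4 : IsAlgebraic k a := by
      have : IsAlgebraic k (algebraMap K K' a) := ha ▸ hα.isAlgebraic
      exact (isAlgebraic_algebraMap_iff (algebraMap K K').injective).1 this
    obtain ⟨c, hc⟩ := hK.2 a h4
    have h5 : α = algebraMap k K' c := by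
      rw [← ha, ← hc, ← IsScalarTower.algebraMap_apply]
    rw [h5, minpoly.eq_X_sub_C, natDegree_X_sub_C] at hdeg
    omega
  have hex : ∀ P : FunFld.Place k K, ∃ Q1 Q2 : FunFld.Place k K',
      FunFld.IsOver Q1 P ∧ FunFld.IsOver Q2 P ∧ Q1 ≠ Q2 := by
    intro P
    have hc := (card_isOver_and_deg_eq hK hα hgen (hdvdP P)).1
    have hfin : Finite {Q : FunFld.Place k K' // FunFld.IsOver Q P} :=
      Nat.finite_of_card_ne_zero (by omega)
    have hnt : Nontrivial {Q : FunFld.Place k K' // FunFld.IsOver Q P} :=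
      Finite.one_lt_card_iff_nontrivial.1 (by omega)
    obtain ⟨a, b, hab⟩ := exists_pair_ne {Q : FunFld.Place k K' // FunFld.IsOver Q P}
    exact ⟨a.1, b.1, a.2, b.2, fun h => hab (Subtype.ext h)⟩
  choose Q1 Q2 h1 h2 hne using hex
  have hd1' : ∀ P, (Q1 P).deg = P.deg := fun P =>
    (card_isOver_and_deg_eq hK hα hgen (hdvdP P)).2 _ (h1 P)
  have hd2' : ∀ P, (Q2 P).deg = P.deg := fun P =>
    (card_isOver_and_deg_eq hK hα hgen (hdvdP P)).2 _ (h2 P)
  obtain ⟨hL, hm⟩ := isFunctionField_constField_of_finite (K' := K') hK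
  have hfd : Module.Finite k ↥(constField k K') := Module.finite_of_finrank_pos hm
  haveI hfin : Finite ↥(constField k K') := Module.finite_of_finite k
  have hcardL : Nat.card ↥(constField k K') =
      Nat.card k ^ Module.finrank k ↥(constField k K') := Module.natCard_eq_pow_finrank (K := k)
  have hq : 2 ≤ Nat.card k := Finite.one_lt_card
  -- parameters
  set g := FunFld.genus k K with hg
  set g' := FunFld.genus ↥(constField k K') K' with hg'
  set m' := Module.finrank k ↥(constField k K') with hm'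
  set q := Nat.card k with hqdef
  set h' := FunFld.classNum ↥(constField k K') K' with hh'
  set j0 := 2 * g + 1 with hj0
  set A := h' * q ^ (m' + 2 * g) with hA
  set T := A + 2 * j0 + 2 * g' + 1 with hT
  set M := d * T with hM
  set Jn := m' * T with hJn
  have hJnT : T ≤ Jn := Nat.le_mul_of_pos_left _ hm
  have hMT : T ≤ M := Nat.le_mul_of_pos_left _ hd0
  have hmM : m' * M = d * Jn := by rw [hM, hJn]; ring
  have hmMge : M ≤ m' * M := Nat.le_mul_of_pos_left _ hm
  let J : Finset (ℕ × ℕ) := (Finset.Icc j0 (Jn - j0)).image (fun j => (d * j, d * (Jn - j)))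
  have hJ : ∀ p ∈ J, p.1 + p.2 = m' * M := by
    intro p hp
    obtain ⟨j, hj, rfl⟩ := Finset.mem_image.1 hp
    rw [Finset.mem_Icc] at hj
    simp only
    rw [← Nat.mul_add, Nat.add_sub_cancel' (by omega), hmM]
  have hle := sum_effDivCount_mul_le hK h1 h2 hne hd1' hd2' J M hJ
  have hinj : Set.InjOn (fun j => (d * j, d * (Jn - j))) (Finset.Icc j0 (Jn - j0) : Set ℕ) := by
    intro j _ j' _ h
    simp only [Prod.mk.injEq] at h
    exact Nat.eq_of_mul_eq_mul_left hd0 h.1
  rw [Finset.sum_image hinj] at hle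
  have hterm : ∀ j ∈ Finset.Icc j0 (Jn - j0), q ^ (m' * M - 2 * g) ≤
      FunFld.effDivCount k K (d * j) * FunFld.effDivCount k K (d * (Jn - j)) := by
    intro j hj
    rw [Finset.mem_Icc] at hj
    have hdj : j ≤ d * j := Nat.le_mul_of_pos_left _ hd0
    have hdj' : Jn - j ≤ d * (Jn - j) := Nat.le_mul_of_pos_left _ hd0
    have e1 := effDivCount_ge hK hd (n := d * j) (by omega) (by omega) (dvd_mul_right d j)
    have e2 := effDivCount_ge hK hd (n := d * (Jn - j)) (by omega) (by omega)
      (dvd_mul_right d _)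
    have hsum : d * j + d * (Jn - j) = d * Jn := by
      rw [← Nat.mul_add, Nat.add_sub_cancel' (by omega)]
    have hexp : m' * M - 2 * g = (d * j - g) + (d * (Jn - j) - g) := by omega
    rw [hexp, pow_add]
    exact Nat.mul_le_mul e1 e2
  have hsum : (Jn - 2 * j0 + 1) * q ^ (m' * M - 2 * g) ≤
      ∑ j ∈ Finset.Icc j0 (Jn - j0),
        FunFld.effDivCount k K (d * j) * FunFld.effDivCount k K (d * (Jn - j)) := by
    calc (Jn - 2 * j0 + 1) * q ^ (m' * M - 2 * g)
        = ∑ _j ∈ Finset.Icc j0 (Jn - j0), q ^ (m' * M - 2 * g) := by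
          rw [Finset.sum_const, Nat.card_Icc, smul_eq_mul]
          congr 1
          omega
      _ ≤ _ := Finset.sum_le_sum hterm
  have hup := effDivCount_le hL (n := M) (by omega)
  rw [hcardL, ← pow_mul] at hup
  have hexp2 : m' * (M + 1) = (m' + 2 * g) + (m' * M - 2 * g) := by
    have : 2 * g ≤ m' * M := by omega
    rw [Nat.mul_add, mul_one]
    omega
  rw [hexp2, pow_add, ← mul_assoc] at hup
  have hfinal : (Jn - 2 * j0 + 1) * q ^ (m' * M - 2 * g) ≤ A * q ^ (m' * M - 2 * g) :=
    (hsum.trans hle).trans hup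
  have hXpos : 0 < q ^ (m' * M - 2 * g) := Nat.pow_pos (by omega)
  have := Nat.le_of_mul_le_mul_right hfinal hXpos
  omega

end Main

end Groth.Agent.Lib.H40FunFld
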