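import Groth.Agent.Lib.H40FunFldSeries
import Groth.Agent.S18175

set_option autoImplicit false
open FunFld Polynomial

namespace Groth.Agent.Lib.H40FunFld

open Groth.Agent.Lib.H40QuotChain IntermediateField

universe u v w
variable {k : Type u} {K : Type v} [Field k] [Field K] [Algebra k K]

theorem div_algebraMap_mul (hK : FunFld.IsFunctionField k K) {c : k} (hc : c ≠ 0) {x : K}
    (hx : x ≠ 0) : FunFld.div k (algebraMap k K c * x) = FunFld.div k x := by
  have hc' : algebraMap k K c ≠ 0 := by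
    rw [Ne, map_eq_zero_iff _ (algebraMap k K).injective]; exact hc
  rw [div_mul hK hc' hx, div_eq_zero_of_isAlgebraic hK (isAlgebraic_algebraMap c), zero_add]

/-- On a rational curve with a cusp at `Q`, two members of `V` whose divisors are supported on
`{A, B}` (`A, B ≠ Q`) have the same divisor. -/
theorem eq_of_sections_of_cusp [IsAlgClosed k] [CharZero k] (hK : FunFld.IsFunctionField k K)
    (hg0 : FunFld.genus k K = 0) {d r : ℕ} {D : FunFld.Divisor k K} (hD : D.deg = d)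
    {V : Submodule k K} (hV : V ≤ FunFld.L D) (hVr : Module.finrank k ↥V = r + 1)
    {Q A B : FunFld.Place k K} (hAB : A ≠ B) (hAQ : A ≠ Q) (hBQ : B ≠ Q)
    (hcusp : r ≤ Module.finrank k ↥(V ⊓ FunFld.L (D - Finsupp.single Q ((2 : ℤ)))))
    {s₁ s₂ : K} (hs₁ : s₁ ∈ V) (hs₂ : s₂ ∈ V) (h₁0 : s₁ ≠ 0) (h₂0 : s₂ ≠ 0) {n₁ n₂ m₁ m₂ : ℤ}
    (h₁ : FunFld.div k s₁ + D = Finsupp.single A n₁ + Finsupp.single B m₁)
    (h₂ : FunFld.div k s₂ + D = Finsupp.single A n₂ + Finsupp.single B m₂) : n₁ = n₂ := by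
  classical
  have hsupp : ∀ (n m : ℤ) (R : FunFld.Place k K), R ≠ A → R ≠ B →
      (Finsupp.single A n + Finsupp.single B m : FunFld.Divisor k K) R = 0 := by
    intro n m R hRA hRB
    rw [Finsupp.add_apply, Finsupp.single_apply, Finsupp.single_apply, if_neg (Ne.symm hRA),
      if_neg (Ne.symm hRB), add_zero]
  obtain ⟨c, hc⟩ := Groth.Agent.S18175.result k K hK hg0 d r D hD V hV hVr Q hcusp A B hAQ hBQ
    s₁ s₂ hs₁ hs₂ h₁0 h₂0 (fun R h1 h2 => by rw [h₁]; exact hsupp _ _ R h1 h2)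
    (fun R h1 h2 => by rw [h₂]; exact hsupp _ _ R h1 h2)
  have hc0 : c ≠ 0 := by
    rintro rfl
    rw [zero_smul] at hc
    exact h₂0 hc
  rw [hc, Algebra.smul_def, div_algebraMap_mul hK hc0 h₁0, h₁] at h₂
  have := DFunLike.congr_fun h₂ A
  simp only [Finsupp.add_apply, Finsupp.single_apply, if_neg (Ne.symm hAB),
    add_zero] at this
  exact this

/-- The three-point inequality on a rational curve: if `V` has a cusp at `Q`, then the shifted
weights at two further places `A ≠ B` satisfy `wsum A + wsum B + r ≤ (r + 1) d`. -/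
theorem wsum_add_wsum_add_le_of_cusp [IsAlgClosed k] [CharZero k]
    (hK : FunFld.IsFunctionField k K)
    (hg0 : FunFld.genus k K = 0) {d r : ℕ} {D : FunFld.Divisor k K} (hD : D.deg = d)
    {V : Submodule k K} (hV : V ≤ FunFld.L D) (hVr : Module.finrank k ↥V = r + 1)
    {Q A B : FunFld.Place k K} (hAB : A ≠ B) (hAQ : A ≠ Q) (hBQ : B ≠ Q)
    (hcusp : r ≤ Module.finrank k ↥(V ⊓ FunFld.L (D - Finsupp.single Q ((2 : ℤ))))) :
    wsum V D d A + wsum V D d B + r ≤ (r + 1) * d := by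
  by_contra hcon
  push Not at hcon
  have hfin : FiniteDimensional k ↥V := Module.finite_of_finrank_pos (by omega)
  have hdegB := deg_eq_one_of_isAlgClosed hK B
  set a : ℕ → ℕ := vdim V D A with ha
  set b : ℕ → ℕ := vdim V D B with hb
  have ha0 : a 0 = r + 1 := by rw [ha, vdim_zero hV, hVr]
  have hb0 : b 0 = r + 1 := by rw [hb, vdim_zero hV, hVr]
  have hbstep : ∀ n, b n ≤ b (n + 1) + 1 := fun n => vdim_le_succ_add_one hK V D hdegB n
  have hab : ∀ n, n ≤ d + 1 → a n + b (d + 1 - n) ≤ r + 1 := by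
    intro n hn
    have h1 := finrank_vanishing_add_le hK D hD V hAB hn
    rw [hVr] at h1
    have e : (d : ℤ) + 1 - n = ((d + 1 - n : ℕ) : ℤ) := by omega
    rw [e] at h1
    exact h1
  have hw' : (r + 1) * d + 1 ≤
      (∑ n ∈ Finset.range d, a (n + 1)) + (∑ n ∈ Finset.range d, b (n + 1)) + r := by
    have e1 : ∀ n : ℕ, a (n + 1) =
        Module.finrank k ↥(V ⊓ FunFld.L (D - Finsupp.single A ((n : ℤ) + 1))) := by
      intro n
      rw [ha]; unfold vdim
      have : ((n + 1 : ℕ) : ℤ) = (n : ℤ) + 1 := by push_cast; ring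
      rw [this]
    have e2 : ∀ n : ℕ, b (n + 1) =
        Module.finrank k ↥(V ⊓ FunFld.L (D - Finsupp.single B ((n : ℤ) + 1))) := by
      intro n
      rw [hb]; unfold vdim
      have : ((n + 1 : ℕ) : ℤ) = (n : ℤ) + 1 := by push_cast; ring
      rw [this]
    simp only [e1, e2]
    unfold wsum at hcon
    omega
  obtain ⟨n₁, n₂, hlt, hn₂, h1, h2⟩ := exists_two_of_sum_large ha0 hb0 hbstep hab hw'
  obtain ⟨s₁, hs₁V, hs₁0, hs₁⟩ := exists_section_of_vdim hK hD V hAB
    (n := n₁) (by omega) (by rw [hVr]; exact h1)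
  obtain ⟨s₂, hs₂V, hs₂0, hs₂⟩ := exists_section_of_vdim hK hD V hAB
    (n := n₂) hn₂ (by rw [hVr]; exact h2)
  have := eq_of_sections_of_cusp hK hg0 hD hV hVr hAB hAQ hBQ hcusp hs₁V hs₂V hs₁0 hs₂0 hs₁ hs₂
  omega


/-- A sequence that drops by at most one at each step and starts at `≥ r` has its first `r` terms
summing to at least `r (r + 1) / 2`. -/
theorem gauss_le_two_mul_sum : ∀ (r : ℕ) (a : ℕ → ℕ), (∀ n, a n ≤ a (n + 1) + 1) → r ≤ a 0 →
    r * (r + 1) ≤ 2 * ∑ j ∈ Finset.range r, a j := by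
  intro r
  induction r with
  | zero => intro a _ _; simp
  | succ r ih =>
    intro a hstep h0
    have h1 := ih (fun n => a (n + 1)) (fun n => hstep (n + 1)) (by have := hstep 0; omega)
    rw [Finset.sum_range_succ']
    nlinarith

theorem wsum_eq_sum_vdim (V : Submodule k K) (D : FunFld.Divisor k K) (d : ℕ)
    (P : FunFld.Place k K) : wsum V D d P = ∑ j ∈ Finset.range d, vdim V D P (j + 1) := by
  unfold wsum vdim
  apply Finset.sum_congr rfl
  intro j _
  have : ((j + 1 : ℕ) : ℤ) = (j : ℤ) + 1 := by push_cast; ring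
  rw [this]

/-- The dimension of a `g^r_d` is at most `d + 1`. -/
theorem le_deg_of_finrank (hK : FunFld.IsFunctionField k K) {d r : ℕ} {D : FunFld.Divisor k K}
    (hD : D.deg = d) {V : Submodule k K} (hV : V ≤ FunFld.L D)
    (hVr : Module.finrank k ↥V = r + 1) : r ≤ d := by
  have := finiteDimensional_L hK D
  have h1 : Module.finrank k ↥V ≤ FunFld.ell D := Submodule.finrank_mono hV
  have h2 := ell_le_deg_add_one hK D (by omega)
  rw [hD] at h2
  omega

/-- Weights are nonnegative: `r (r + 1) / 2 ≤ ∑_{n=1}^{d} dim V(-nP)`. -/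
theorem le_two_mul_wsum (hK : FunFld.IsFunctionField k K) {d r : ℕ} {D : FunFld.Divisor k K}
    (hD : D.deg = d) {V : Submodule k K} (hV : V ≤ FunFld.L D)
    (hVr : Module.finrank k ↥V = r + 1) {P : FunFld.Place k K} (hP : P.deg = 1) :
    r * (r + 1) ≤ 2 * wsum V D d P := by
  have hrd := le_deg_of_finrank hK hD hV hVr
  have h0 := vdim_le_succ_add_one hK V D hP 0
  rw [vdim_zero hV, hVr] at h0
  have h1 := gauss_le_two_mul_sum r (fun n => vdim V D P (n + 1))
    (fun n => vdim_le_succ_add_one hK V D hP (n + 1)) (by simpa using h0)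
  rw [wsum_eq_sum_vdim]
  have h2 : ∑ j ∈ Finset.range r, vdim V D P (j + 1) ≤ ∑ j ∈ Finset.range d, vdim V D P (j + 1) :=
    Finset.sum_le_sum_of_subset (Finset.range_mono hrd)
  omega

/-- A cusp has weight at least `r`. -/
theorem cusp_le_two_mul_wsum (hK : FunFld.IsFunctionField k K) {d r : ℕ}
    {D : FunFld.Divisor k K} (hD : D.deg = d) (V : Submodule k K)
    {Q : FunFld.Place k K} (hQ : Q.deg = 1)
    (hcusp : r ≤ Module.finrank k ↥(V ⊓ FunFld.L (D - Finsupp.single Q ((2 : ℤ))))) :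
    r * (r + 1) + 2 * r ≤ 2 * wsum V D d Q := by
  rcases Nat.eq_zero_or_pos r with hr | hr
  · subst hr; simp
  have hc2 : r ≤ vdim V D Q 2 := hcusp
  have hrd : r + 1 ≤ d := by
    have h1 := finrank_inf_L_le_ell hK V (D - Finsupp.single Q ((2 : ℤ)))
    have h2 := ell_le_deg_add_one hK (D - Finsupp.single Q ((2 : ℤ))) (by omega)
    rw [deg_sub, deg_single, hQ, hD] at h2
    omega
  obtain ⟨e, rfl⟩ : ∃ e, d = e + 1 := ⟨d - 1, by omega⟩
  rw [wsum_eq_sum_vdim, Finset.sum_range_succ']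
  have h1 := gauss_le_two_mul_sum r (fun n => vdim V D Q (n + 2))
    (fun n => vdim_le_succ_add_one hK V D hQ (n + 2)) hc2
  have h2 : ∑ j ∈ Finset.range r, vdim V D Q (j + 2) ≤ ∑ j ∈ Finset.range e, vdim V D Q (j + 2) :=
    Finset.sum_le_sum_of_subset (Finset.range_mono (by omega))
  have h3 : vdim V D Q 2 ≤ vdim V D Q 1 := vdim_succ_le hK V D Q 1
  have h4 : ∀ j, vdim V D Q (j + 1 + 1) = vdim V D Q (j + 2) := fun j => rfl
  have h5 : vdim V D Q (0 + 1) = vdim V D Q 1 := rfl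
  simp only [h4, h5]
  omega

theorem exists_place_ne (hK : FunFld.IsFunctionField k K) (P : FunFld.Place k K) :
    ∃ P' : FunFld.Place k K, P' ≠ P := by
  obtain ⟨x, hx, -⟩ := hK.1
  have hx' : Transcendental k x⁻¹ := fun h => hx (inv_inv x ▸ h.inv)
  obtain ⟨P₁, h1⟩ := exists_place_val_lt_one hK hx
  obtain ⟨P₂, h2⟩ := exists_place_val_lt_one hK hx'
  by_cases h : P₁ = P
  · refine ⟨P₂, ?_⟩
    rintro rfl
    subst h
    rw [map_inv₀] at h2
    have hx0 : P₁.1 x ≠ 0 := (Valuation.ne_zero_iff _).2 (fun h => hx (h ▸ isAlgebraic_zero))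
    have : 1 < P₁.1 x := by
      rwa [inv_lt_one₀ (zero_lt_iff.2 hx0)] at h2
    exact lt_irrefl _ (lt_trans h1 this)
  · exact ⟨P₁, h⟩

/-- One-point bound: the weight at any place is at most `(r + 1) (d - r)`. -/
theorem two_mul_wsum_le (hK : FunFld.IsFunctionField k K) [IsAlgClosed k] {d r : ℕ}
    {D : FunFld.Divisor k K} (hD : D.deg = d) {V : Submodule k K} (hV : V ≤ FunFld.L D)
    (hVr : Module.finrank k ↥V = r + 1) (P : FunFld.Place k K) :
    2 * wsum V D d P + r * (r + 1) ≤ 2 * ((r + 1) * d) := by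
  obtain ⟨P', hP'⟩ := exists_place_ne hK P
  have h1 := wsum_add_wsum_le hK D hD V hVr hP'
  have h2 := le_two_mul_wsum hK hD hV hVr (deg_eq_one_of_isAlgClosed hK P')
  omega

/-- One-point bound in the presence of a cusp elsewhere. -/
theorem two_mul_wsum_le_of_cusp (hK : FunFld.IsFunctionField k K) [IsAlgClosed k] {d r : ℕ}
    {D : FunFld.Divisor k K} (hD : D.deg = d) {V : Submodule k K}
    (hVr : Module.finrank k ↥V = r + 1) {P Q : FunFld.Place k K} (hQP : Q ≠ P)
    (hcusp : r ≤ Module.finrank k ↥(V ⊓ FunFld.L (D - Finsupp.single Q ((2 : ℤ))))) :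
    2 * wsum V D d P + r * (r + 1) + 2 * r ≤ 2 * ((r + 1) * d) := by
  have h1 := wsum_add_wsum_le hK D hD V hVr hQP
  have h2 := cusp_le_two_mul_wsum hK hD V (deg_eq_one_of_isAlgClosed hK Q) hcusp
  omega


section Chain

/-- Indicator function (on `ℕ`) of a finite set of indices. -/
def chi {N : ℕ} (T : Finset (Fin (N + 1))) (j : ℕ) : ℕ :=
  if h : j < N + 1 then (if (⟨j, h⟩ : Fin (N + 1)) ∈ T then 1 else 0) else 0

theorem chi_coe {N : ℕ} (T : Finset (Fin (N + 1))) (i : Fin (N + 1)) :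
    chi T (i : ℕ) = if i ∈ T then 1 else 0 := by
  unfold chi
  rw [dif_pos i.2]

theorem card_eq_sum_chi {N : ℕ} (T : Finset (Fin (N + 1))) :
    T.card = ∑ j ∈ Finset.range (N + 1), chi T j := by
  rw [← Fin.sum_univ_eq_sum_range (fun j => chi T j) (N + 1)]
  simp only [chi_coe]
  simp

theorem card_erase_eq_sum_chi {N : ℕ} (T : Finset (Fin (N + 1))) (i : Fin (N + 1)) :
    (T.erase i).card = (∑ j ∈ Finset.range (i : ℕ), chi T j) +
      ∑ j ∈ Finset.Ico ((i : ℕ) + 1) (N + 1), chi T j := by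
  have h1 := card_eq_sum_chi T
  have hi := i.2
  rw [← Finset.sum_range_add_sum_Ico _ (show (i : ℕ) ≤ N + 1 by omega),
    Finset.sum_eq_sum_Ico_succ_bot hi, chi_coe] at h1
  rw [Finset.card_erase_eq_ite]
  split_ifs with h
  · rw [if_pos h] at h1; omega
  · rw [if_neg h] at h1; omega

variable [IsAlgClosed k] [CharZero k]
  {N : ℕ} {Z : Fin (N + 1) → Type v} [∀ i, Field (Z i)] [∀ i, Algebra k (Z i)]

omit [CharZero k] in
/-- Bound at an end component: one-point bound, improved by `r` if there is a cusp. -/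
theorem chain_end_bound (hZ : ∀ i, FunFld.IsFunctionField k (Z i)) {d r : ℕ}
    (D : ∀ i, FunFld.Divisor k (Z i)) (hD : ∀ i, (D i).deg = d)
    (V : ∀ i, Submodule k (Z i)) (hV : ∀ i, V i ≤ FunFld.L (D i))
    (hVr : ∀ i, Module.finrank k ↥(V i) = r + 1)
    (T : Finset (Fin (N + 1))) (Q : ∀ i, FunFld.Place k (Z i))
    (hcusp : ∀ i ∈ T, r ≤ Module.finrank k
      ↥((V i) ⊓ FunFld.L ((D i) - Finsupp.single (Q i) ((2 : ℤ)))))
    (i : Fin (N + 1)) (P : FunFld.Place k (Z i)) (hQP : i ∈ T → Q i ≠ P) :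
    2 * wsum (V i) (D i) d P + r * (r + 1) + 2 * r * chi T (i : ℕ) ≤ 2 * ((r + 1) * d) := by
  rw [chi_coe]
  split_ifs with h
  · have := two_mul_wsum_le_of_cusp (hZ i) (hD i) (hVr i) (hQP h) (hcusp i h)
    omega
  · have := two_mul_wsum_le (hZ i) (hD i) (hV i) (hVr i) P
    omega

/-- Bound at an inner component: two-point bound, improved by `r` if there is a cusp. -/
theorem chain_inner_bound (hZ : ∀ i, FunFld.IsFunctionField k (Z i))
    (hrat : ∀ i, FunFld.genus k (Z i) = 0) {d r : ℕ}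
    (D : ∀ i, FunFld.Divisor k (Z i)) (hD : ∀ i, (D i).deg = d)
    (V : ∀ i, Submodule k (Z i)) (hV : ∀ i, V i ≤ FunFld.L (D i))
    (hVr : ∀ i, Module.finrank k ↥(V i) = r + 1)
    (T : Finset (Fin (N + 1))) (Q : ∀ i, FunFld.Place k (Z i))
    (hcusp : ∀ i ∈ T, r ≤ Module.finrank k
      ↥((V i) ⊓ FunFld.L ((D i) - Finsupp.single (Q i) ((2 : ℤ)))))
    (i : Fin (N + 1)) (P P' : FunFld.Place k (Z i)) (hPP' : P ≠ P') (hQP : i ∈ T → Q i ≠ P)
    (hQP' : i ∈ T → Q i ≠ P') :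
    wsum (V i) (D i) d P + wsum (V i) (D i) d P' + r * chi T (i : ℕ) ≤ (r + 1) * d := by
  rw [chi_coe]
  split_ifs with h
  · have := wsum_add_wsum_add_le_of_cusp (hZ i) (hrat i) (hD i) (hV i) (hVr i) hPP'
      (Ne.symm (hQP h)) (Ne.symm (hQP' h)) (hcusp i h)
    omega
  · have := wsum_add_wsum_le (hZ i) (D i) (hD i) (V i) (hVr i) hPP'
    omega

/-- Forward induction along a chain of rational curves with cusps. -/
theorem chain_forward (hZ : ∀ i, FunFld.IsFunctionField k (Z i))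
    (hrat : ∀ i, FunFld.genus k (Z i) = 0) {d r : ℕ}
    (D : ∀ i, FunFld.Divisor k (Z i)) (hD : ∀ i, (D i).deg = d)
    (V : ∀ i, Submodule k (Z i)) (hV : ∀ i, V i ≤ FunFld.L (D i))
    (hVr : ∀ i, Module.finrank k ↥(V i) = r + 1)
    (A B : ∀ i, FunFld.Place k (Z i))
    (hAB : ∀ i : Fin (N + 1), 0 < (i : ℕ) → (i : ℕ) < N → A i ≠ B i)
    (hcomp : ∀ (l : Fin N) (m : ℕ), m ≤ d + 1 →
      Module.finrank k ↥((V l.castSucc) ⊓ FunFld.L ((D l.castSucc) -
        Finsupp.single (B l.castSucc) ((m : ℤ)))) +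
      Module.finrank k ↥((V l.succ) ⊓ FunFld.L ((D l.succ) -
        Finsupp.single (A l.succ) ((d : ℤ) + 1 - m))) = r + 1)
    (T : Finset (Fin (N + 1))) (Q : ∀ i, FunFld.Place k (Z i))
    (hQA : ∀ i ∈ T, 0 < (i : ℕ) → Q i ≠ A i) (hQB : ∀ i ∈ T, (i : ℕ) < N → Q i ≠ B i)
    (hcusp : ∀ i ∈ T, r ≤ Module.finrank k
      ↥((V i) ⊓ FunFld.L ((D i) - Finsupp.single (Q i) ((2 : ℤ))))) :
    ∀ (m : ℕ) (i : Fin (N + 1)), (i : ℕ) = m + 1 →
      r * (r + 1) + 2 * r * (∑ j ∈ Finset.range (m + 1), chi T j) ≤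
        2 * wsum (V i) (D i) d (A i) := by
  intro m
  induction m with
  | zero =>
    intro i hi
    have hi2 := i.2
    let l : Fin N := ⟨0, by omega⟩
    have e1 : l.succ = i := Fin.ext (by simp [l, hi])
    have e2 : (l.castSucc : ℕ) = 0 := by simp [l]
    have h1 := wsum_add_wsum_of_compatible (V l.castSucc) (D l.castSucc)
      (V l.succ) (D l.succ) d r (B l.castSucc) (A l.succ) (hcomp l)
    have h2 := chain_end_bound hZ D hD V hV hVr T Q hcusp l.castSucc (B l.castSucc)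
      (fun h => hQB _ h (by rw [e2]; omega))
    rw [e2] at h2
    rw [← e1, Finset.sum_range_one]
    omega
  | succ m ih =>
    intro i hi
    have hi2 := i.2
    let l : Fin N := ⟨m + 1, by omega⟩
    have e1 : l.succ = i := Fin.ext (by simp [l, hi])
    have e2 : (l.castSucc : ℕ) = m + 1 := by simp [l]
    have h0 := ih l.castSucc e2
    have h1 := wsum_add_wsum_of_compatible (V l.castSucc) (D l.castSucc)
      (V l.succ) (D l.succ) d r (B l.castSucc) (A l.succ) (hcomp l)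
    have h2 := chain_inner_bound hZ hrat D hD V hV hVr T Q hcusp l.castSucc (A l.castSucc)
      (B l.castSucc) (hAB _ (by rw [e2]; omega) (by rw [e2]; omega))
      (fun h => hQA _ h (by rw [e2]; omega)) (fun h => hQB _ h (by rw [e2]; omega))
    rw [e2] at h2
    rw [← e1, Finset.sum_range_succ _ (m + 1), mul_add (2 * r)]
    have e3 : 2 * r * chi T (m + 1) = 2 * (r * chi T (m + 1)) := by ring
    omega

/-- Backward induction along a chain of rational curves with cusps. -/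
theorem chain_backward (hZ : ∀ i, FunFld.IsFunctionField k (Z i))
    (hrat : ∀ i, FunFld.genus k (Z i) = 0) {d r : ℕ}
    (D : ∀ i, FunFld.Divisor k (Z i)) (hD : ∀ i, (D i).deg = d)
    (V : ∀ i, Submodule k (Z i)) (hV : ∀ i, V i ≤ FunFld.L (D i))
    (hVr : ∀ i, Module.finrank k ↥(V i) = r + 1)
    (A B : ∀ i, FunFld.Place k (Z i))
    (hAB : ∀ i : Fin (N + 1), 0 < (i : ℕ) → (i : ℕ) < N → A i ≠ B i)
    (hcomp : ∀ (l : Fin N) (m : ℕ), m ≤ d + 1 →
      Module.finrank k ↥((V l.castSucc) ⊓ FunFld.L ((D l.castSucc) -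
        Finsupp.single (B l.castSucc) ((m : ℤ)))) +
      Module.finrank k ↥((V l.succ) ⊓ FunFld.L ((D l.succ) -
        Finsupp.single (A l.succ) ((d : ℤ) + 1 - m))) = r + 1)
    (T : Finset (Fin (N + 1))) (Q : ∀ i, FunFld.Place k (Z i))
    (hQA : ∀ i ∈ T, 0 < (i : ℕ) → Q i ≠ A i) (hQB : ∀ i ∈ T, (i : ℕ) < N → Q i ≠ B i)
    (hcusp : ∀ i ∈ T, r ≤ Module.finrank k
      ↥((V i) ⊓ FunFld.L ((D i) - Finsupp.single (Q i) ((2 : ℤ))))) :
    ∀ (m : ℕ) (i : Fin (N + 1)), (i : ℕ) + m + 1 = N →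
      r * (r + 1) + 2 * r * (∑ j ∈ Finset.Ico ((i : ℕ) + 1) (N + 1), chi T j) ≤
        2 * wsum (V i) (D i) d (B i) := by
  intro m
  induction m with
  | zero =>
    intro i hi
    let l : Fin N := ⟨(i : ℕ), by omega⟩
    have e1 : l.castSucc = i := Fin.ext (by simp [l])
    have e2 : (l.succ : ℕ) = N := by simp [l]; omega
    have h1 := wsum_add_wsum_of_compatible (V l.castSucc) (D l.castSucc)
      (V l.succ) (D l.succ) d r (B l.castSucc) (A l.succ) (hcomp l)
    have h2 := chain_end_bound hZ D hD V hV hVr T Q hcusp l.succ (A l.succ)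
      (fun h => hQA _ h (by rw [e2]; omega))
    rw [e2] at h2
    have e3 : (i : ℕ) + 1 = N := by omega
    rw [← e1] at e3 ⊢
    rw [e3, Nat.Ico_succ_singleton, Finset.sum_singleton]
    omega
  | succ m ih =>
    intro i hi
    let l : Fin N := ⟨(i : ℕ), by omega⟩
    have e1 : l.castSucc = i := Fin.ext (by simp [l])
    have e2 : (l.succ : ℕ) = (i : ℕ) + 1 := by simp [l]
    have h0 := ih l.succ (by rw [e2]; omega)
    have h1 := wsum_add_wsum_of_compatible (V l.castSucc) (D l.castSucc)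
      (V l.succ) (D l.succ) d r (B l.castSucc) (A l.succ) (hcomp l)
    have h2 := chain_inner_bound hZ hrat D hD V hV hVr T Q hcusp l.succ (A l.succ)
      (B l.succ) (hAB _ (by rw [e2]; omega) (by rw [e2]; omega))
      (fun h => hQA _ h (by rw [e2]; omega)) (fun h => hQB _ h (by rw [e2]; omega))
    rw [e2] at h2 h0
    have e3 : (l.castSucc : ℕ) = (i : ℕ) := by simp [l]
    rw [← e1, e3, Finset.sum_eq_sum_Ico_succ_bot (show (i : ℕ) + 1 < N + 1 by omega),
      mul_add (2 * r)]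
    have e4 : 2 * r * chi T ((i : ℕ) + 1) = 2 * (r * chi T ((i : ℕ) + 1)) := by ring
    omega

end Chain

end Groth.Agent.Lib.H40FunFld
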