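import Groth.Agent.Lib.H40FunFldCusp
import Mathlib.FieldTheory.RatFunc.AsPolynomial
import Mathlib.Algebra.TrivSqZeroExt.Basic
import Mathlib.RingTheory.Derivation.Basic

set_option autoImplicit false
open FunFld Polynomial

namespace Groth.Agent.Lib.H40FunFld

open Groth.Agent.Lib.H40QuotChain IntermediateField

universe u v w
variable {k : Type u} {K : Type v} [Field k] [Field K] [Algebra k K]

/-- The identification of `k(X)` with a rational function field `K = k(t)`. -/
noncomputable def ratEquiv {t : K} (htr : Transcendental k t) (htop : k⟮t⟯ = ⊤) :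
    RatFunc k ≃ₐ[k] K :=
  (RatFunc.algEquivOfTranscendental t htr).trans
    ((IntermediateField.equivOfEq htop).trans IntermediateField.topEquiv)

theorem ratEquiv_algebraMap {t : K} (htr : Transcendental k t) (htop : k⟮t⟯ = ⊤) (p : k[X]) :
    ratEquiv htr htop (algebraMap k[X] (RatFunc k) p) = aeval t p := by
  simp [ratEquiv]

theorem ratEquiv_apply {t : K} (htr : Transcendental k t) (htop : k⟮t⟯ = ⊤) (u : RatFunc k) :
    ratEquiv htr htop u = aeval t u.num / aeval t u.denom := by
  conv_lhs => rw [← RatFunc.num_div_denom u]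
  rw [map_div₀, ratEquiv_algebraMap, ratEquiv_algebraMap]

/-- On a rational function field `K = k(t)` there is a `k`-derivation with `δ t = 1`. -/
theorem exists_derivation {t : K} (htr : Transcendental k t) (htop : k⟮t⟯ = ⊤) :
    ∃ δ : Derivation k K K, δ t = 1 := by
  let e : RatFunc k ≃ₐ[k] K := ratEquiv htr htop
  have he : ∀ p : k[X], e (algebraMap k[X] (RatFunc k) p) = aeval t p :=
    ratEquiv_algebraMap htr htop
  let g : k[X] →ₐ[k] TrivSqZeroExt K K :=
    aeval (TrivSqZeroExt.inl t + TrivSqZeroExt.inr (1 : K))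
  have hfst : ∀ p : k[X], (g p).fst = aeval t p := by
    intro p
    have := Polynomial.aeval_algHom_apply (TrivSqZeroExt.fstHom k K K)
      (TrivSqZeroExt.inl t + TrivSqZeroExt.inr (1 : K)) p
    simpa [g] using this.symm
  have hunit : ∀ y : nonZeroDivisors k[X], IsUnit (g.toRingHom y) := by
    intro y
    change IsUnit (g y)
    rw [TrivSqZeroExt.isUnit_iff_isUnit_fst, hfst, isUnit_iff_ne_zero]
    intro h
    exact nonZeroDivisors.ne_zero y.2 (transcendental_iff.1 htr _ h)
  let φ : RatFunc k →+* TrivSqZeroExt K K :=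
    IsLocalization.lift (M := nonZeroDivisors k[X]) (g := g.toRingHom) hunit
  have hφ : ∀ p : k[X], φ (algebraMap k[X] (RatFunc k) p) = g p := fun p =>
    IsLocalization.lift_eq hunit p
  have hfstφ : ∀ u : RatFunc k, (φ u).fst = e u := by
    have : ((TrivSqZeroExt.fstHom k K K).toRingHom.comp φ) = e.toAlgHom.toRingHom := by
      apply IsLocalization.ringHom_ext (nonZeroDivisors k[X])
      refine RingHom.ext fun p => ?_
      change (φ (algebraMap k[X] (RatFunc k) p)).fst = e (algebraMap k[X] (RatFunc k) p)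
      rw [hφ, hfst, he]
    intro u
    exact congrArg (fun f => f u) this
  -- the ring hom `K → K[ε]`
  let Φ : K →+* TrivSqZeroExt K K := φ.comp e.symm.toAlgHom.toRingHom
  have hΦfst : ∀ x : K, (Φ x).fst = x := by
    intro x
    change (φ (e.symm x)).fst = x
    rw [hfstφ, AlgEquiv.apply_symm_apply]
  have hΦc : ∀ c : k, Φ (algebraMap k K c) = TrivSqZeroExt.inl (algebraMap k K c) := by
    intro c
    change φ (e.symm (algebraMap k K c)) = _
    rw [AlgEquiv.commutes]
    have : algebraMap k (RatFunc k) c = algebraMap k[X] (RatFunc k) (C c) := by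
      rw [RatFunc.algebraMap_C]; rfl
    rw [this, hφ]
    simp [g]
    rfl
  have hΦt : Φ t = TrivSqZeroExt.inl t + TrivSqZeroExt.inr (1 : K) := by
    change φ (e.symm t) = _
    have : e.symm t = algebraMap k[X] (RatFunc k) X := by
      rw [AlgEquiv.symm_apply_eq, he, aeval_X]
    rw [this, hφ]
    simp [g]
  let δ₀ : K →ₗ[k] K :=
    { toFun := fun x => (Φ x).snd
      map_add' := fun x y => by simp
      map_smul' := fun c x => by
        simp only [Algebra.smul_def, map_mul, hΦc, RingHom.id_apply]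
        simp [hΦfst] }
  refine ⟨Derivation.mk' δ₀ ?_, ?_⟩
  · intro a b
    change (Φ (a * b)).snd = a • (Φ b).snd + b • (Φ a).snd
    rw [map_mul, TrivSqZeroExt.snd_mul, hΦfst, hΦfst]
    simp [mul_comm]
  · change (Φ t).snd = 1
    rw [hΦt]
    simp

/-- `p(t) ≡ p(a)` modulo the maximal ideal at a place where `t ≡ a`. -/
theorem val_aeval_sub_eval_lt_one (P : FunFld.Place k K) {t : K} {a : k}
    (ha : P.1 (t - algebraMap k K a) < 1) (p : k[X]) :
    P.1 (aeval t p - algebraMap k K (p.eval a)) < 1 := by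
  obtain ⟨q, hq⟩ := Polynomial.X_sub_C_dvd_sub_C_eval (a := a) (p := p)
  have ht : P.1 t ≤ 1 := by
    have e : t = (t - algebraMap k K a) + algebraMap k K a := by ring
    rw [e]
    exact le_trans (Valuation.map_add _ _ _) (max_le ha.le (val_algebraMap_le P a))
  have h1 : aeval t p - algebraMap k K (p.eval a) = (t - algebraMap k K a) * aeval t q := by
    have := congrArg (aeval t) hq
    simpa using this
  rw [h1, map_mul]
  calc P.1 (t - algebraMap k K a) * P.1 (aeval t q)
      ≤ P.1 (t - algebraMap k K a) * 1 := mul_le_mul' le_rfl (val_aeval_le_one P ht q)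
    _ = P.1 (t - algebraMap k K a) := mul_one _
    _ < 1 := ha

theorem val_aeval_eq_one_of_eval_ne_zero (P : FunFld.Place k K) {t : K} {a : k}
    (ha : P.1 (t - algebraMap k K a) < 1) {p : k[X]} (hp : p.eval a ≠ 0) :
    P.1 (aeval t p) = 1 := by
  have e : aeval t p = algebraMap k K (p.eval a) + (aeval t p - algebraMap k K (p.eval a)) := by
    ring
  rw [e, Valuation.map_add_eq_of_lt_left, val_const P hp]
  rw [val_const P hp]
  exact val_aeval_sub_eval_lt_one P ha p

theorem val_aeval_lt_one_of_eval_eq_zero (P : FunFld.Place k K) {t : K} {a : k}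
    (ha : P.1 (t - algebraMap k K a) < 1) {p : k[X]} (hp : p.eval a = 0) :
    P.1 (aeval t p) < 1 := by
  have := val_aeval_sub_eval_lt_one P ha p
  rwa [hp, map_zero, sub_zero] at this

/-- Elements of the local ring at the place `t = a` of `k(t)` are fractions whose denominator
does not vanish at `a`. -/
theorem exists_num_denom_of_val_le_one {t : K} (htr : Transcendental k t) (htop : k⟮t⟯ = ⊤)
    {P : FunFld.Place k K} {a : k} (ha : P.1 (t - algebraMap k K a) < 1) {f : K}
    (hf : P.1 f ≤ 1) : ∃ p q : k[X], q.eval a ≠ 0 ∧ f = aeval t p / aeval t q := by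
  set u := (ratEquiv htr htop).symm f with hu
  have hfu : f = aeval t u.num / aeval t u.denom := by
    rw [← ratEquiv_apply htr htop u, hu, AlgEquiv.apply_symm_apply]
  refine ⟨u.num, u.denom, ?_, hfu⟩
  intro hden
  obtain ⟨A, B, hAB⟩ := RatFunc.isCoprime_num_denom u
  have hnum : u.num.eval a ≠ 0 := by
    intro hnum
    have := congrArg (Polynomial.eval a) hAB
    simp [hden, hnum] at this
  have h1 := val_aeval_eq_one_of_eval_ne_zero P ha hnum
  have h2 := val_aeval_lt_one_of_eval_eq_zero P ha hden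
  have h3 : aeval t u.denom ≠ 0 := fun h => RatFunc.denom_ne_zero u (transcendental_iff.1 htr _ h)
  have h4 : P.1 (aeval t u.denom) ≠ 0 := (Valuation.ne_zero_iff _).2 h3
  rw [hfu, map_div₀, h1, one_div] at hf
  have h5 : 1 < (P.1 (aeval t u.denom))⁻¹ := (one_lt_inv₀ (zero_lt_iff.2 h4)).2 h2
  exact absurd hf (not_le.2 h5)


/-- The derivation `d/dt` of `k(t)` preserves the local ring at the place `t = a`. -/
theorem val_deriv_le_one {t : K} (htr : Transcendental k t) (htop : k⟮t⟯ = ⊤)
    (δ : Derivation k K K) (hδ : δ t = 1)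
    {P : FunFld.Place k K} {a : k} (ha : P.1 (t - algebraMap k K a) < 1) {f : K}
    (hf : P.1 f ≤ 1) : P.1 (δ f) ≤ 1 := by
  obtain ⟨p, q, hq, rfl⟩ := exists_num_denom_of_val_le_one htr htop ha hf
  have ht : P.1 t ≤ 1 := by
    have e : t = (t - algebraMap k K a) + algebraMap k K a := by ring
    rw [e]
    exact le_trans (Valuation.map_add _ _ _) (max_le ha.le (val_algebraMap_le P a))
  have hq1 := val_aeval_eq_one_of_eval_ne_zero P ha hq
  rw [Derivation.leibniz_div, Derivation.map_aeval, Derivation.map_aeval, hδ]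
  simp only [smul_eq_mul, mul_one, map_mul, map_pow, map_inv₀, hq1, inv_one, one_pow, one_mul]
  refine le_trans (Valuation.map_sub _ _ _) (max_le ?_ ?_)
  · rw [map_mul, hq1, one_mul]; exact val_aeval_le_one P ht _
  · rw [map_mul]
    calc P.1 (aeval t p) * P.1 (aeval t (derivative q)) ≤ 1 * 1 :=
          mul_le_mul' (val_aeval_le_one P ht _) (val_aeval_le_one P ht _)
      _ = 1 := one_mul _

theorem deriv_zpow (δ : Derivation k K K) {u : K} (hu : u ≠ 0) (n : ℤ) :
    δ (u ^ n) = (n : K) * u ^ (n - 1) * δ u := by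
  cases n with
  | ofNat m =>
    rw [Int.ofNat_eq_natCast, zpow_natCast, Derivation.leibniz_pow]
    rcases Nat.eq_zero_or_pos m with rfl | hm
    · simp
    · have : ((m : ℤ) - 1) = ((m - 1 : ℕ) : ℤ) := by omega
      rw [this, zpow_natCast]
      simp [nsmul_eq_mul, mul_assoc]
  | negSucc m =>
    rw [zpow_negSucc, Derivation.leibniz_inv, Derivation.leibniz_pow]
    have h1 : (Int.negSucc m : ℤ) - 1 = -((m + 2 : ℕ) : ℤ) := by
      rw [Int.negSucc_eq]; push_cast; ring
    rw [h1, zpow_neg, zpow_natCast]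
    simp only [Nat.add_sub_cancel, nsmul_eq_mul, smul_eq_mul, Int.cast_negSucc]
    field_simp
    push_cast
    ring

/-- In characteristic zero, `d/dt` lowers a nonzero order at the place `t = a` by exactly one. -/
theorem ord_deriv [CharZero k] {t : K} (htr : Transcendental k t) (htop : k⟮t⟯ = ⊤)
    (δ : Derivation k K K) (hδ : δ t = 1)
    {P : FunFld.Place k K} {a : k} (ha : P.1 (t - algebraMap k K a) = WithZero.exp (-1 : ℤ))
    {f : K} (hf0 : f ≠ 0) (hord : P.ord f ≠ 0) : δ f ≠ 0 ∧ P.ord (δ f) = P.ord f - 1 := by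
  have halt : P.1 (t - algebraMap k K a) < 1 := by
    rw [ha, ← WithZero.exp_zero, WithZero.exp_lt_exp]; norm_num
  set u := t - algebraMap k K a with hu
  have hu0 : u ≠ 0 := by
    intro h0; rw [h0, map_zero] at ha; exact WithZero.exp_ne_zero ha.symm
  have hδu : δ u = 1 := by rw [hu, map_sub, hδ, Derivation.map_algebraMap, sub_zero]
  set n := P.ord f with hn
  set g := f * u ^ (-n) with hg
  have hfv : P.1 f = WithZero.exp (-n) := val_eq_exp_neg_ord P hf0
  have hgv : P.1 g = 1 := by
    rw [hg, map_mul, map_zpow₀, ha, hfv, ← WithZero.exp_zsmul, ← WithZero.exp_add]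
    simp
  have hfg : f = u ^ n * g := by
    rw [hg, mul_comm f, ← mul_assoc, ← zpow_add₀ hu0]; simp
  have hδg := val_deriv_le_one htr htop δ hδ halt hgv.le
  have hnK : P.1 ((n : ℤ) : K) = 1 := by
    have : ((n : ℤ) : K) = algebraMap k K ((n : ℤ) : k) := by simp
    rw [this]
    exact val_const P (by exact_mod_cast hord)
  have hδf : δ f = (n : K) * u ^ (n - 1) * g + u ^ n * δ g := by
    rw [hfg, Derivation.leibniz, deriv_zpow δ hu0, hδu]
    simp only [smul_eq_mul]
    ring
  have h1 : P.1 ((n : K) * u ^ (n - 1) * g) = WithZero.exp (-(n - 1)) := by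
    rw [map_mul, map_mul, hnK, hgv, map_zpow₀, ha, ← WithZero.exp_zsmul]
    simp
  have h2 : P.1 (u ^ n * δ g) < WithZero.exp (-(n - 1)) := by
    rw [map_mul, map_zpow₀, ha, ← WithZero.exp_zsmul]
    calc WithZero.exp (n • (-1 : ℤ)) * P.1 (δ g) ≤ WithZero.exp (n • (-1 : ℤ)) * 1 :=
          mul_le_mul' le_rfl hδg
      _ = WithZero.exp (n • (-1 : ℤ)) := mul_one _
      _ < WithZero.exp (-(n - 1)) := by
          rw [WithZero.exp_lt_exp]; simp
  have h3 : P.1 (δ f) = WithZero.exp (-(n - 1)) := by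
    rw [hδf, Valuation.map_add_eq_of_lt_left, h1]
    rw [h1]; exact h2
  have h4 : δ f ≠ 0 := by
    intro h0; rw [h0, map_zero] at h3; exact WithZero.exp_ne_zero h3.symm
  refine ⟨h4, ?_⟩
  rw [FunFld.Place.ord, h3, WithZero.log_exp]
  ring


/-- A coordinate on a rational curve: a function `t` with a single simple pole, at `B`. -/
structure IsCoord (t : K) (B : FunFld.Place k K) : Prop where
  ordB : B.ord t = -1
  ordR : ∀ R : FunFld.Place k K, R ≠ B → 0 ≤ R.ord t

theorem IsCoord.transcendental (hK : FunFld.IsFunctionField k K) {t : K} {B : FunFld.Place k K}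
    (hc : IsCoord t B) : Transcendental k t :=
  transcendental_of_ord_ne_zero hK (P := B) (by rw [hc.ordB]; omega)

theorem IsCoord.adjoin_eq_top [IsAlgClosed k] (hK : FunFld.IsFunctionField k K) {t : K}
    {B : FunFld.Place k K} (hc : IsCoord t B) : k⟮t⟯ = ⊤ :=
  adjoin_eq_top_of_simple_pole hK (deg_eq_one_of_isAlgClosed hK B) hc.ordB hc.ordR

theorem IsCoord.ne_zero {t : K} {B : FunFld.Place k K} (hc : IsCoord t B) : t ≠ 0 := by
  rintro rfl
  have := hc.ordB
  rw [ord_zero] at this; omega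

theorem IsCoord.sub_const {t : K} {B : FunFld.Place k K} (hc : IsCoord t B) (a : k) :
    IsCoord (t - algebraMap k K a) B := by
  have ht0 := hc.ne_zero
  have hBt : B.1 t = WithZero.exp (1 : ℤ) := by
    rw [val_eq_exp_neg_ord B ht0, hc.ordB]; rfl
  have hBlt : B.1 (algebraMap k K a) < B.1 t := by
    rw [hBt]
    refine lt_of_le_of_lt (val_algebraMap_le B a) ?_
    rw [← WithZero.exp_zero, WithZero.exp_lt_exp]; norm_num
  refine ⟨?_, ?_⟩
  · rw [FunFld.Place.ord, Valuation.map_sub_eq_of_lt_left _ hBlt, ← FunFld.Place.ord, hc.ordB]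
  · intro R hR
    rw [ord_nonneg_iff]
    refine le_trans (Valuation.map_sub _ _ _) (max_le ?_ (val_algebraMap_le R a))
    rw [← ord_nonneg_iff]; exact hc.ordR R hR

/-- At every place other than the pole, `t - a` is a uniformizer for a suitable constant `a`. -/
theorem IsCoord.exists_val_sub_const_eq [IsAlgClosed k] (hK : FunFld.IsFunctionField k K)
    {t : K} {B : FunFld.Place k K} (hc : IsCoord t B) {P : FunFld.Place k K} (hP : P ≠ B) :
    ∃ a : k, P.1 (t - algebraMap k K a) = WithZero.exp (-1 : ℤ) := by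
  have h1 : P.1 t ≤ 1 := (ord_nonneg_iff P t).1 (hc.ordR P hP)
  obtain ⟨a, ha⟩ := exists_const_val_sub_lt_one (deg_eq_one_of_isAlgClosed hK P) h1
  refine ⟨a, ?_⟩
  have hc' := hc.sub_const a
  exact val_eq_exp_neg_one_of_simple_pole hK (deg_eq_one_of_isAlgClosed hK B) hc'.ordB hc'.ordR ha

section Deriv

variable [IsAlgClosed k] [CharZero k] (hK : FunFld.IsFunctionField k K) {t : K}
  {B : FunFld.Place k K} (hc : IsCoord t B) (δ : Derivation k K K) (hδ : δ t = 1)

include hK hc hδ

omit [CharZero k] in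
theorem IsCoord.val_deriv_le_one {P : FunFld.Place k K} (hP : P ≠ B) {f : K} (hf : P.1 f ≤ 1) :
    P.1 (δ f) ≤ 1 := by
  obtain ⟨a, ha⟩ := hc.exists_val_sub_const_eq hK hP
  have halt : P.1 (t - algebraMap k K a) < 1 := by
    rw [ha, ← WithZero.exp_zero, WithZero.exp_lt_exp]; norm_num
  exact Groth.Agent.Lib.H40FunFld.val_deriv_le_one (hc.transcendental hK) (hc.adjoin_eq_top hK)
    δ hδ halt hf

theorem IsCoord.ord_deriv {P : FunFld.Place k K} (hP : P ≠ B) {f : K} (hf0 : f ≠ 0)
    (hord : P.ord f ≠ 0) : δ f ≠ 0 ∧ P.ord (δ f) = P.ord f - 1 := by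
  obtain ⟨a, ha⟩ := hc.exists_val_sub_const_eq hK hP
  exact Groth.Agent.Lib.H40FunFld.ord_deriv (hc.transcendental hK) (hc.adjoin_eq_top hK)
    δ hδ ha hf0 hord

/-- `ord_P (δ f) ≥ ord_P f - 1`, in valuation form. -/
theorem IsCoord.val_deriv_le {P : FunFld.Place k K} (hP : P ≠ B) (f : K) :
    P.1 (δ f) ≤ P.1 f * WithZero.exp (1 : ℤ) := by
  by_cases hf0 : f = 0
  · rw [hf0, map_zero, map_zero, zero_mul]
  by_cases hord : P.ord f = 0
  · have h1 : P.1 f = 1 := by rw [val_eq_exp_neg_ord P hf0, hord, neg_zero, WithZero.exp_zero]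
    rw [h1, one_mul]
    refine le_trans (hc.val_deriv_le_one hK δ hδ hP h1.le) ?_
    rw [← WithZero.exp_zero, WithZero.exp_le_exp]; norm_num
  · obtain ⟨h1, h2⟩ := hc.ord_deriv hK δ hδ hP hf0 hord
    rw [val_eq_exp_neg_ord P h1, val_eq_exp_neg_ord P hf0, h2, ← WithZero.exp_add]
    apply le_of_eq; congr 1; ring

omit [CharZero k] in
/-- At the pole of `t`, the derivative of a regular function vanishes to order at least two. -/
theorem IsCoord.val_deriv_le_at_pole {f : K} (hf : B.1 f ≤ 1) :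
    B.1 (δ f) ≤ WithZero.exp (-2 : ℤ) := by
  have ht0 := hc.ne_zero
  have hBt : B.1 t = WithZero.exp (1 : ℤ) := by
    rw [val_eq_exp_neg_ord B ht0, hc.ordB]; rfl
  have htr := hc.transcendental hK
  have htr' : Transcendental k t⁻¹ := fun h => htr (inv_inv t ▸ h.inv)
  have htop' : k⟮t⁻¹⟯ = ⊤ := by rw [adjoin_inv_eq, hc.adjoin_eq_top hK]
  set δ' : Derivation k K K := (-t ^ 2) • δ with hδ'
  have hδ's : δ' t⁻¹ = 1 := by
    rw [hδ', Derivation.smul_apply, Derivation.leibniz_inv, hδ]
    simp only [smul_eq_mul]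
    field_simp
  have h0 : B.1 (t⁻¹ - algebraMap k K 0) < 1 := by
    rw [map_zero, sub_zero, map_inv₀, hBt, ← WithZero.exp_neg, ← WithZero.exp_zero,
      WithZero.exp_lt_exp]
    norm_num
  have h1 := Groth.Agent.Lib.H40FunFld.val_deriv_le_one htr' htop' δ' hδ's h0 hf
  rw [hδ', Derivation.smul_apply, smul_eq_mul, map_mul, Valuation.map_neg, map_pow, hBt] at h1
  have h2 : B.1 (δ f) = WithZero.exp (-2 : ℤ) * (WithZero.exp (1 : ℤ) ^ 2 * B.1 (δ f)) := by
    rw [← mul_assoc, ← WithZero.exp_nsmul, ← WithZero.exp_add]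
    simp
  rw [h2]
  calc WithZero.exp (-2 : ℤ) * (WithZero.exp (1 : ℤ) ^ 2 * B.1 (δ f))
      ≤ WithZero.exp (-2 : ℤ) * 1 := mul_le_mul' le_rfl h1
    _ = WithZero.exp (-2 : ℤ) := mul_one _

/-- The constants of `d/dt` are exactly `k`. -/
theorem IsCoord.exists_const_of_deriv_eq_zero {f : K} (hf : δ f = 0) :
    ∃ c : k, f = algebraMap k K c := by
  by_contra hcon
  have htr : Transcendental k f := by
    intro halg
    obtain ⟨c, hc'⟩ := hK.2 f halg
    exact hcon ⟨c, hc'.symm⟩
  have hf0 : f ≠ 0 := fun h => htr (h ▸ isAlgebraic_zero)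
  have htr' : Transcendental k f⁻¹ := fun h => htr (inv_inv f ▸ h.inv)
  obtain ⟨P₁, h1⟩ := exists_place_val_lt_one hK htr
  obtain ⟨P₂, h2⟩ := exists_place_val_lt_one hK htr'
  have key : ∀ P : FunFld.Place k K, P ≠ B → P.ord f ≠ 0 → False := fun P hP hord =>
    (hc.ord_deriv hK δ hδ hP hf0 hord).1 hf
  have hord1 : P₁.ord f ≠ 0 := by
    rw [ord_ne_zero_iff P₁ hf0]; exact h1.ne
  have hord2 : P₂.ord f ≠ 0 := by
    rw [ord_ne_zero_iff P₂ hf0]
    rw [map_inv₀] at h2
    intro h
    rw [h, inv_one] at h2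
    exact lt_irrefl _ h2
  by_cases hP1 : P₁ = B
  · apply key P₂ _ hord2
    intro hP2
    rw [hP1] at h1
    rw [hP2, map_inv₀] at h2
    have hx0 : B.1 f ≠ 0 := (Valuation.ne_zero_iff _).2 hf0
    have : 1 < B.1 f := by rwa [inv_lt_one₀ (zero_lt_iff.2 hx0)] at h2
    exact lt_irrefl _ (lt_trans h1 this)
  · exact key P₁ hP1 hord1

end Deriv

end Groth.Agent.Lib.H40FunFld
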