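import Groth.Agent.Lib.H40FunFldSepGen
import Mathlib.RingTheory.LaurentSeries
import Mathlib.Algebra.CharP.Algebra

set_option autoImplicit false
set_option linter.style.haveILetI false
set_option linter.unusedSectionVars false
open FunFld Polynomial

namespace Groth.Agent.Lib.H40FunFld

open Groth.Agent.Lib.H40QuotChain IntermediateField

universe u v w

section Laurent

variable {F : Type w} [Field F]

open LaurentSeries

theorem laurent_coeff_of_valuation_eq {g : LaurentSeries F} {m : ℤ}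
    (h : Valued.v g = WithZero.exp (-m)) : (∀ n < m, g.coeff n = 0) ∧ g.coeff m ≠ 0 := by
  have h1 := (LaurentSeries.valuation_le_iff_coeff_lt_eq_zero F (D := m) (f := g)).1 h.le
  refine ⟨h1, fun h0 => ?_⟩
  have h2 : Valued.v g ≤ WithZero.exp (-(m + 1)) := by
    rw [LaurentSeries.valuation_le_iff_coeff_lt_eq_zero]
    intro n hn
    rcases (Int.lt_add_one_iff.1 hn).lt_or_eq with hlt | rfl
    · exact h1 n hlt
    · exact h0
  rw [h, WithZero.exp_le_exp] at h2
  omega

theorem laurent_valuation_eq_of_coeff {g : LaurentSeries F} {m : ℤ}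
    (h1 : ∀ n < m, g.coeff n = 0) (h2 : g.coeff m ≠ 0) : Valued.v g = WithZero.exp (-m) := by
  apply le_antisymm ((LaurentSeries.valuation_le_iff_coeff_lt_eq_zero F).2 h1)
  by_contra hlt
  rw [not_le] at hlt
  have h3 : Valued.v g ≤ WithZero.exp (-(m + 1)) := by
    rw [show -m = -(m + 1) + 1 by ring, lt_exp_add_one_iff] at hlt
    exact hlt
  exact h2 (LaurentSeries.coeff_zero_of_lt_valuation F h3 (by omega))

/-- Valuation of the derivative of a Laurent series of order `m` with `m ≠ 0` in `F`. -/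
theorem valuation_D_of_cast_ne_zero {g : LaurentSeries F} {m : ℤ}
    (h : Valued.v g = WithZero.exp (-m)) (hm : (m : F) ≠ 0) :
    Valued.v (LocRes.D F g) = WithZero.exp (-(m - 1)) := by
  obtain ⟨h1, h2⟩ := laurent_coeff_of_valuation_eq h
  apply laurent_valuation_eq_of_coeff
  · intro n hn
    rw [LocRes.D_coeff, h1 (n + 1) (by omega), smul_zero]
  · rw [LocRes.D_coeff, sub_add_cancel, zsmul_eq_mul]
    exact mul_ne_zero hm h2

/-- Valuation of the derivative of a Laurent series of order `m` with `m = 0` in `F`. -/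
theorem valuation_D_of_cast_eq_zero {g : LaurentSeries F} {m : ℤ}
    (h : Valued.v g = WithZero.exp (-m)) (hm : (m : F) = 0) :
    Valued.v (LocRes.D F g) ≤ WithZero.exp (-m) := by
  obtain ⟨h1, h2⟩ := laurent_coeff_of_valuation_eq h
  rw [LaurentSeries.valuation_le_iff_coeff_lt_eq_zero]
  intro n hn
  rw [LocRes.D_coeff]
  rcases (Int.add_one_le_iff.2 hn).lt_or_eq with hlt | heq
  · rw [h1 (n + 1) hlt, smul_zero]
  · rw [heq, zsmul_eq_mul, ← heq, heq, hm, zero_mul]

end Laurent

section DiffExp2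

variable {k : Type u} {K : Type v} [Field k] [Field K] [Algebra k K] {F : Type w} [Field F]
  [Algebra k F] {K' : Type v} [Field K'] [Algebra K K'] [Algebra k K'] [IsScalarTower k K K']
  {F' : Type w} [Field F'] [Algebra k F']

theorem vDiff_one_eq' {P : FunFld.Place k K} {Q : FunFld.Place k K'} {e : ℕ}
    (he : FunFld.IsOverWith Q P e)
    (ψ : K' →ₐ[k] LaurentSeries F') (hψ : LocRes.IsExpansionAt Q.1 ψ) {x x₀ a : K}
    (h : KaehlerDifferential.D k K x = a • KaehlerDifferential.D k K x₀) :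
    LocRes.vDiff ψ 1 (algebraMap K K' x) =
      P.1 a ^ e * Valued.v (LocRes.D F' (ψ (algebraMap K K' x₀))) := by
  unfold LocRes.vDiff
  have := D_expansion_eq (ψ.comp (IsScalarTower.toAlgHom k K K')) h
  change LocRes.D F' (ψ (algebraMap K K' x)) =
    ψ (algebraMap K K' a) * LocRes.D F' (ψ (algebraMap K K' x₀)) at this
  rw [map_one, one_mul, this, map_mul, hψ.1, he a]

/-- If `dx` has finite order above and below and `dt` has finite order below, then `dt` has
finite order above. -/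
theorem vDiff_ne_zero_of_vDiff_ne_zero (hK : FunFld.IsFunctionField k K)
    (hg : FunFld.IsGeometric k K)
    {P : FunFld.Place k K} {Q : FunFld.Place k K'} {e : ℕ} (he : FunFld.IsOverWith Q P e)
    (φ : K →ₐ[k] LaurentSeries F) (hφ : LocRes.IsExpansionAt P.1 φ)
    (ψ : K' →ₐ[k] LaurentSeries F') (hψ : LocRes.IsExpansionAt Q.1 ψ) {x t : K}
    (hx' : LocRes.vDiff ψ 1 (algebraMap K K' x) ≠ 0)
    (ht : LocRes.vDiff φ 1 t ≠ 0) : LocRes.vDiff ψ 1 (algebraMap K K' t) ≠ 0 := by
  obtain ⟨x₀, htr, hsep⟩ := exists_separating_of_isGeometric hK hg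
  obtain ⟨a, ha⟩ := exists_eq_smul_D_of_isSeparable_adjoin htr (KaehlerDifferential.D k K x)
  obtain ⟨b, hb⟩ := exists_eq_smul_D_of_isSeparable_adjoin htr (KaehlerDifferential.D k K t)
  rw [vDiff_one_eq φ hφ hb] at ht
  rw [vDiff_one_eq' he ψ hψ ha] at hx'
  rw [vDiff_one_eq' he ψ hψ hb]
  exact mul_ne_zero (pow_ne_zero _ (left_ne_zero_of_mul ht)) (right_ne_zero_of_mul hx')

/-- Dedekind's different theorem for the different exponent computed through expansions. -/
theorem diffExp_eq_or_le (hK : FunFld.IsFunctionField k K) (hg : FunFld.IsGeometric k K)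
    {P : FunFld.Place k K} {Q : FunFld.Place k K'} {e : ℕ} (he : FunFld.IsOverWith Q P e)
    (φ : K →ₐ[k] LaurentSeries F) (hφ : LocRes.IsExpansionAt P.1 φ)
    (ψ : K' →ₐ[k] LaurentSeries F') (hψ : LocRes.IsExpansionAt Q.1 ψ) (x : K)
    (hx : LocRes.vDiff φ 1 x ≠ 0) (hx' : LocRes.vDiff ψ 1 (algebraMap K K' x) ≠ 0) :
    (¬ (ringChar K ∣ e) → LocRes.diffExp φ ψ e x = (e : ℤ) - 1) ∧
    (ringChar K ∣ e → (e : ℤ) ≤ LocRes.diffExp φ ψ e x) := by
  obtain ⟨t, ht⟩ := hφ.2.2
  have hvφ : Valued.v (φ t) = WithZero.exp (-(1 : ℤ)) := by rw [hφ.1, ht]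
  have hvψ : Valued.v (ψ (algebraMap K K' t)) = WithZero.exp (-(e : ℤ)) := by
    rw [hψ.1, he t, ht, ← WithZero.exp_nsmul]
    simp
  have hDφ : Valued.v (LocRes.D F (φ t)) = 1 := by
    have := valuation_D_of_cast_ne_zero hvφ (by simp)
    simpa using this
  have ht1 : LocRes.vDiff φ 1 t ≠ 0 := by
    unfold LocRes.vDiff
    rw [map_one, one_mul, hDφ]
    exact one_ne_zero
  have ht2 := vDiff_ne_zero_of_vDiff_ne_zero hK hg he φ hφ ψ hψ hx' ht1
  rw [diffExp_eq_diffExp hK hg he φ hφ ψ hψ x hx hx' t ht1 ht2]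
  have hord : LocRes.ordDiff φ 1 t = 0 := by
    unfold LocRes.ordDiff LocRes.vDiff
    rw [map_one, one_mul, hDφ, WithZero.log_one, neg_zero]
  have hchar : ringChar K = ringChar F' :=
    (Algebra.ringChar_eq k K).symm.trans (Algebra.ringChar_eq k F')
  unfold LocRes.diffExp
  rw [hord, mul_zero, sub_zero]
  unfold LocRes.vDiff at ht2
  rw [map_one, one_mul] at ht2
  unfold LocRes.ordDiff LocRes.vDiff
  rw [map_one, one_mul]
  constructor
  · intro hnd
    have hne : (((e : ℕ) : ℤ) : F') ≠ 0 := by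
      rw [Int.cast_natCast]
      intro h0
      exact hnd (hchar ▸ (ringChar.spec F' e).1 h0)
    rw [valuation_D_of_cast_ne_zero hvψ hne, WithZero.log_exp]
    ring
  · intro hd
    have h0 : (((e : ℕ) : ℤ) : F') = 0 := by
      rw [Int.cast_natCast]
      exact (ringChar.spec F' e).2 (hchar ▸ hd)
    have hle := valuation_D_of_cast_eq_zero hvψ h0
    have := (WithZero.log_le_iff_le_exp ht2).2 hle
    omega

end DiffExp2

end Groth.Agent.Lib.H40FunFld
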