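import Groth.Agent.Lib.H40FunFldWeakRR

set_option autoImplicit false
set_option linter.style.haveILetI false
set_option linter.unusedSectionVars false
open FunFld Polynomial

namespace Groth.Agent.Lib.H40FunFld

open Groth.Agent.Lib.H40QuotChain IntermediateField

universe u v w
variable {k : Type u} [Field k]

section IntClosure

variable {K : Type v} [Field K] [Algebra k K] {K' : Type w} [Field K'] [Algebra K K']
variable (P : FunFld.Place k K) [Algebra P.O K'] [IsScalarTower P.O K K']

theorem algebraMap_O_apply (a : P.O) : algebraMap P.O K' a = algebraMap K K' (a : K) := by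
  rw [IsScalarTower.algebraMap_apply P.O K K']; rfl

theorem O_smul_def (a : P.O) (y : K') : a • y = algebraMap K K' (a : K) * y := by
  rw [Algebra.smul_def, algebraMap_O_apply]

/-- The reduction `M / 𝔪 M` of an `O_P`-submodule of `K'`. -/
abbrev RedQuot (M : Submodule P.O K') : Type w :=
  ↥M ⧸ (IsLocalRing.maximalIdeal P.O • ⊤ : Submodule P.O ↥M)

noncomputable instance (M : Submodule P.O K') :
    Module (IsLocalRing.ResidueField P.O) (RedQuot P M) :=
  inferInstanceAs (Module (P.O ⧸ IsLocalRing.maximalIdeal P.O) (RedQuot P M))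

theorem residue_smul_mk (M : Submodule P.O K') (a : P.O) (m : M) :
    IsLocalRing.residue P.O a • (Submodule.Quotient.mk m : RedQuot P M) =
      Submodule.Quotient.mk (a • m) := rfl

/-- Key scaling lemma: a `K`-combination of lifts of a residually independent family that lies in
`M` has integral coefficients. -/
theorem val_le_one_of_sum_mem {ι : Type*} [Fintype ι] (M : Submodule P.O K') (b : ι → M)
    (hb : LinearIndependent (IsLocalRing.ResidueField P.O)
      (fun i => (Submodule.Quotient.mk (b i) : RedQuot P M)))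
    (a : ι → K) (h : ∑ i, a i • ((b i : M) : K') ∈ M) : ∀ i, P.1 (a i) ≤ 1 := by
  classical
  by_contra hcon
  push Not at hcon
  obtain ⟨j, hj⟩ := hcon
  obtain ⟨i₀, -, hmax⟩ := Finset.exists_max_image Finset.univ (fun i => P.1 (a i))
    ⟨j, Finset.mem_univ j⟩
  have h1 : 1 < P.1 (a i₀) := hj.trans_le (hmax j (Finset.mem_univ j))
  have h0 : P.1 (a i₀) ≠ 0 := (zero_lt_one.trans h1).ne'
  have ha0 : a i₀ ≠ 0 := (Valuation.ne_zero_iff _).1 h0
  set c : K := (a i₀)⁻¹ with hc
  have hcv : P.1 c < 1 := by
    rw [hc, map_inv₀]; exact inv_lt_one_of_one_lt₀ h1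
  have hca : ∀ i, P.1 (c * a i) ≤ 1 := by
    intro i
    rw [map_mul, hc, map_inv₀, inv_mul_le_iff₀ (zero_lt_iff.2 h0), mul_one]
    exact hmax i (Finset.mem_univ i)
  let a' : ι → P.O := fun i => ⟨c * a i, hca i⟩
  let c' : P.O := ⟨c, hcv.le⟩
  have hc'm : c' ∈ IsLocalRing.maximalIdeal P.O := by
    rw [← IsLocalRing.residue_eq_zero_iff, residue_eq_zero_iff]; exact hcv
  have hsum : ∑ i, a' i • b i = c' • (⟨_, h⟩ : M) := by
    apply Subtype.ext
    rw [Submodule.coe_sum, Submodule.coe_smul, O_smul_def, Finset.mul_sum]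
    refine Finset.sum_congr rfl fun i _ => ?_
    rw [Submodule.coe_smul, O_smul_def, Algebra.smul_def, ← mul_assoc, ← map_mul]
  have hzero : ∑ i, IsLocalRing.residue P.O (a' i) •
      (Submodule.Quotient.mk (b i) : RedQuot P M) = 0 := by
    simp only [residue_smul_mk]
    change ∑ i, (IsLocalRing.maximalIdeal P.O • ⊤ : Submodule P.O ↥M).mkQ (a' i • b i) = 0
    rw [← map_sum, hsum, Submodule.mkQ_apply, Submodule.Quotient.mk_eq_zero]
    exact Submodule.smul_mem_smul hc'm Submodule.mem_top
  have h2 := Fintype.linearIndependent_iff.1 hb _ hzero i₀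
  rw [residue_eq_zero_iff] at h2
  have h3 : ((a' i₀ : P.O) : K) = 1 := inv_mul_cancel₀ ha0
  rw [h3, map_one] at h2
  exact lt_irrefl _ h2

theorem linearIndependent_of_redQuot {ι : Type*} [Fintype ι] (M : Submodule P.O K') (b : ι → M)
    (hb : LinearIndependent (IsLocalRing.ResidueField P.O)
      (fun i => (Submodule.Quotient.mk (b i) : RedQuot P M))) :
    LinearIndependent K (fun i => ((b i : M) : K')) := by
  rw [Fintype.linearIndependent_iff]
  intro a ha i
  by_contra hai
  obtain ⟨π, hπ⟩ := exists_uniformizer P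
  have hπ0 : π ≠ 0 := by
    intro h0; rw [h0, map_zero] at hπ; exact WithZero.exp_ne_zero hπ.symm
  set l : K := (a i)⁻¹ * π⁻¹ with hl
  have hsum : ∑ j, (l * a j) • ((b j : M) : K') = 0 := by
    simp only [mul_smul]
    rw [← Finset.smul_sum, ha, smul_zero]
  have h1 := val_le_one_of_sum_mem P M b hb (fun j => l * a j) (by rw [hsum]; exact M.zero_mem) i
  have h2 : l * a i = π⁻¹ := by
    rw [hl]; field_simp
  rw [h2, map_inv₀, hπ, ← WithZero.exp_neg, neg_neg] at h1
  have h3 : (1 : WithZero (Multiplicative ℤ)) < WithZero.exp (1 : ℤ) := by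
    rw [← WithZero.exp_zero, WithZero.exp_lt_exp]; exact zero_lt_one
  exact absurd h1 (not_le.2 h3)

theorem rank_redQuot_le [FiniteDimensional K K'] (M : Submodule P.O K') :
    Module.rank (IsLocalRing.ResidueField P.O) (RedQuot P M) ≤ (Module.finrank K K' : ℕ) := by
  classical
  apply rank_le
  intro s hs
  have hsurj : ∀ x : RedQuot P M, ∃ m : M, Submodule.Quotient.mk m = x :=
    Submodule.Quotient.mk_surjective _
  choose lift hlift using hsurj
  have hb : LinearIndependent (IsLocalRing.ResidueField P.O)
      (fun i : s => (Submodule.Quotient.mk (lift i.1) : RedQuot P M)) := by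
    simp only [hlift]
    exact hs
  have := (linearIndependent_of_redQuot P M (fun i : s => lift i.1) hb).fintype_card_le_finrank
  simpa using this

theorem finiteDimensional_redQuot [FiniteDimensional K K'] (M : Submodule P.O K') :
    FiniteDimensional (IsLocalRing.ResidueField P.O) (RedQuot P M) := by
  rw [FiniteDimensional, ← Module.rank_lt_aleph0_iff]
  exact (rank_redQuot_le P M).trans_lt Cardinal.natCast_lt_aleph0

/-- If the reduction of `M` has full rank, then `M` is a finitely generated `O_P`-module. -/
theorem fg_of_finrank_redQuot [FiniteDimensional K K'] (M : Submodule P.O K')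
    (h : Module.finrank K K' ≤ Module.finrank (IsLocalRing.ResidueField P.O) (RedQuot P M)) :
    M.FG := by
  classical
  have hfd := finiteDimensional_redQuot P M
  have hle : Module.finrank (IsLocalRing.ResidueField P.O) (RedQuot P M) ≤ Module.finrank K K' := by
    have h1 := rank_redQuot_le P M
    rw [← Module.finrank_eq_rank] at h1
    exact_mod_cast h1
  have heq : Module.finrank (IsLocalRing.ResidueField P.O) (RedQuot P M) = Module.finrank K K' :=
    le_antisymm hle h
  let β := Module.finBasisOfFinrankEq (IsLocalRing.ResidueField P.O) (RedQuot P M) heq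
  have hsurj : ∀ x : RedQuot P M, ∃ m : M, Submodule.Quotient.mk m = x :=
    Submodule.Quotient.mk_surjective _
  choose lift hlift using hsurj
  let b : Fin (Module.finrank K K') → M := fun i => lift (β i)
  have hb : LinearIndependent (IsLocalRing.ResidueField P.O)
      (fun i => (Submodule.Quotient.mk (b i) : RedQuot P M)) := by
    simp only [b, hlift]
    exact β.linearIndependent
  have hbK := linearIndependent_of_redQuot P M b hb
  haveI : Nonempty (Fin (Module.finrank K K')) := Fin.pos_iff_nonempty.1 Module.finrank_pos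
  let B : Module.Basis (Fin (Module.finrank K K')) K K' :=
    basisOfLinearIndependentOfCardEqFinrank hbK (by simp)
  have hB : ∀ i, B i = ((b i : M) : K') := fun i => by
    simp [B]
  refine ⟨Finset.univ.image (fun i => ((b i : M) : K')), ?_⟩
  apply le_antisymm
  · rw [Submodule.span_le]
    intro y hy
    simp only [Finset.coe_image, Finset.coe_univ, Set.image_univ, Set.mem_range] at hy
    obtain ⟨i, rfl⟩ := hy
    exact (b i).2
  · intro r hr
    have hrepr : r = ∑ i, B.repr r i • ((b i : M) : K') := by
      conv_lhs => rw [← B.sum_repr r]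
      simp only [hB]
    have hval := val_le_one_of_sum_mem P M b hb (fun i => B.repr r i) (by rw [← hrepr]; exact hr)
    rw [hrepr]
    refine Submodule.sum_mem _ fun i _ => ?_
    have h1 : B.repr r i • ((b i : M) : K') = (⟨B.repr r i, hval i⟩ : P.O) • ((b i : M) : K') := by
      rw [O_smul_def, Algebra.smul_def]
    rw [h1]
    refine Submodule.smul_mem _ _ (Submodule.subset_span ?_)
    simp

variable [Algebra k K'] [IsScalarTower k K K']

/-- The ring of elements of `K'` integral at every place above `P`. -/
def intAbove : Subalgebra P.O K' where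
  carrier := {y | ∀ Q : FunFld.Place k K', FunFld.IsOver Q P → Q.1 y ≤ 1}
  mul_mem' hx hy Q hQ := by rw [map_mul]; exact mul_le_one' (hx Q hQ) (hy Q hQ)
  add_mem' hx hy Q hQ := (Q.1.map_add _ _).trans (max_le (hx Q hQ) (hy Q hQ))
  algebraMap_mem' a Q hQ := by
    obtain ⟨e, he⟩ := hQ
    rw [algebraMap_O_apply, he]
    exact pow_le_one' a.2 e

theorem mem_intAbove_iff (y : K') :
    y ∈ intAbove (K' := K') P ↔ ∀ Q : FunFld.Place k K', FunFld.IsOver Q P → Q.1 y ≤ 1 := Iff.rfl

theorem val_le_of_mem_smul_top {Q : FunFld.Place k K'} {e : ℕ} (he : FunFld.IsOverWith Q P e)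
    (M : Submodule P.O K') (hM : ∀ y ∈ M, Q.1 y ≤ 1) (m : M)
    (hm : m ∈ (IsLocalRing.maximalIdeal P.O • ⊤ : Submodule P.O ↥M)) :
    Q.1 (m : K') ≤ WithZero.exp (-(e : ℤ)) := by
  refine Submodule.smul_induction_on (p := fun m : M => Q.1 (m : K') ≤ WithZero.exp (-(e : ℤ))) hm
    (fun a ha x _ => ?_) (fun x y hx hy => ?_)
  · change Q.1 ((a • x : M) : K') ≤ _
    rw [Submodule.coe_smul, O_smul_def, map_mul, he]
    have h1 : P.1 (a : K) ≤ WithZero.exp (-1 : ℤ) := by
      rw [← lt_one_iff_le_exp_neg_one, ← residue_eq_zero_iff, IsLocalRing.residue_eq_zero_iff]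
      exact ha
    calc P.1 (a : K) ^ e * Q.1 (x : K') ≤ WithZero.exp (-1 : ℤ) ^ e * 1 := by
          gcongr
          exact hM _ x.2
      _ = WithZero.exp (-(e : ℤ)) := by
          rw [mul_one, ← WithZero.exp_nsmul]; simp
  · change Q.1 ((x + y : M) : K') ≤ _
    rw [Submodule.coe_add]
    exact (Q.1.map_add _ _).trans (max_le hx hy)

attribute [-instance] FunFld.Place.algRes

/-- The `k`-structure on the reduction, through the residue field. -/
@[instance_reducible]
noncomputable def redQuotModule (M : Submodule P.O K') : Module k (RedQuot P M) :=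
  Module.compHom (RedQuot P M) (algebraMap k (IsLocalRing.ResidueField P.O))

attribute [local instance] redQuotModule

theorem redQuot_smul_def (M : Submodule P.O K') (c : k) (x : RedQuot P M) :
    c • x = algebraMap k (IsLocalRing.ResidueField P.O) c • x := rfl

theorem redQuot_isScalarTower (M : Submodule P.O K') :
    IsScalarTower k (IsLocalRing.ResidueField P.O) (RedQuot P M) :=
  ⟨fun c x y => by
    rw [redQuot_smul_def P M c (x • y), Algebra.smul_def c x, mul_smul]⟩

attribute [local instance] redQuot_isScalarTower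

/-- The reduction of the ring of elements integral above `P` has full rank. -/
theorem finrank_le_finrank_redQuot_intAbove (hK : FunFld.IsFunctionField k K)
    [FiniteDimensional K K'] :
    Module.finrank K K' ≤ Module.finrank (IsLocalRing.ResidueField P.O)
      (RedQuot P (intAbove (K' := K') P).toSubmodule) := by
  classical
  set M : Submodule P.O K' := (intAbove (K' := K') P).toSubmodule with hM
  obtain ⟨P₁, hP₁⟩ := exists_place_ne hK P
  obtain ⟨hL, hc⟩ := isFunctionField_constField_of_finite (K' := K') hK
  haveI hfd : Module.Finite k ↥(constField k K') := Module.finite_of_finrank_pos hc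
  obtain ⟨N, hN⟩ := exists_forall_finrank_L_sub hL
  set n := Module.finrank K K' with hn
  have hn0 : 0 < n := Module.finrank_pos
  set f := P.deg with hf
  set f₁ := P₁.deg with hf₁
  have hf0 : 0 < f := deg_pos hK P
  have hf₁0 : 0 < f₁ := deg_pos hK P₁
  set m : ℕ := N.toNat + f with hm
  set E : FunFld.Divisor k K := Finsupp.single P₁ (m : ℤ) with hE
  set E' : FunFld.Divisor k K := E - Finsupp.single P 1 with hE'
  set A : FunFld.Divisor k K' := FunFld.conorm K' E with hA
  set B : FunFld.Divisor k K' := FunFld.conorm K' E' with hB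
  have hdegE : E.deg = m * f₁ := by rw [hE, deg_single]
  have hdegE' : E'.deg = m * f₁ - f := by rw [hE', deg_sub, hdegE, deg_single]; ring
  have hdegA : A.deg = n * (m * f₁) := by rw [hA, deg_conorm hK, hdegE]
  have hdegB : A.deg - B.deg = n * f := by
    rw [hdegA, hB, deg_conorm hK, hdegE']; ring
  have hNB : N ≤ B.deg := by
    rw [hB, deg_conorm hK, hdegE']
    have h1 : (N : ℤ) ≤ N.toNat := Int.self_le_toNat N
    have h2 : (m : ℤ) = N.toNat + f := by rw [hm]; push_cast; ring
    have h3 : (1 : ℤ) ≤ f₁ := by exact_mod_cast hf₁0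
    have h4 : (1 : ℤ) ≤ n := by exact_mod_cast hn0
    have h5 : (0 : ℤ) ≤ N.toNat := Int.natCast_nonneg _
    have h6 : (0 : ℤ) ≤ f := Int.natCast_nonneg _
    have h7 : (N.toNat : ℤ) ≤ m * f₁ - f := by
      rw [h2]; nlinarith
    nlinarith
  have hNA : N ≤ A.deg := by
    have : (0 : ℤ) ≤ n * f := by positivity
    linarith
  have hrr := hN A B hNA hNB
  rw [hdegB] at hrr
  haveI hfdA : FiniteDimensional k ↥(FunFld.L A) := finiteDimensional_L_of_constField hL A
  haveI hfdB : FiniteDimensional k ↥(FunFld.L B) := finiteDimensional_L_of_constField hL B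
  -- values of `A` and `B` at places above `P`
  have hEP : E P = 0 := by
    rw [hE, Finsupp.single_apply, if_neg hP₁]
  have hAQ : ∀ (Q : FunFld.Place k K') (e : ℕ), FunFld.IsOverWith Q P e → A Q = 0 := by
    intro Q e he
    rw [hA, conorm_apply hK E he, hEP, mul_zero]
  have hBQ : ∀ (Q : FunFld.Place k K') (e : ℕ), FunFld.IsOverWith Q P e → B Q = -(e : ℤ) := by
    intro Q e he
    rw [hB, conorm_apply hK E' he, hE', Finsupp.sub_apply, hEP, Finsupp.single_eq_same]; ring
  have hBQ' : ∀ (Q : FunFld.Place k K'), ¬ FunFld.IsOver Q P → B Q = A Q := by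
    intro Q hQ
    haveI : Algebra.IsAlgebraic K K' := Algebra.IsAlgebraic.of_finite K K'
    obtain ⟨P', e', he'⟩ := exists_isOverWith hK Q
    have hne : P ≠ P' := by
      rintro rfl
      exact hQ ⟨e', he'⟩
    rw [hB, hA, conorm_apply hK E' he', conorm_apply hK E he', hE', Finsupp.sub_apply,
      Finsupp.single_eq_of_ne' hne, sub_zero]
  -- `L(A) ⊆ M`
  have hLA : ∀ v ∈ FunFld.L A, v ∈ M := by
    intro v hv Q hQ
    obtain ⟨e, he⟩ := hQ
    have := hv Q
    rwa [hAQ Q e he, WithZero.exp_zero] at this
  -- the `k`-structure on the reduction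
  haveI := finiteDimensional_residueField hK P
  haveI := finiteDimensional_redQuot P M
  haveI : Module.Finite k (RedQuot P M) :=
    Module.Finite.trans (IsLocalRing.ResidueField P.O) (RedQuot P M)
  have htower := Module.finrank_mul_finrank k (IsLocalRing.ResidueField P.O) (RedQuot P M)
  let φ : ↥(FunFld.L A) →ₗ[k] RedQuot P M :=
    { toFun := fun v => Submodule.Quotient.mk ⟨v.1, hLA v.1 v.2⟩
      map_add' := fun _ _ => rfl
      map_smul' := fun c v => by
        rw [RingHom.id_apply, redQuot_smul_def]
        change _ = IsLocalRing.residue P.O (algebraMap k P.O c) • _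
        rw [residue_smul_mk]
        congr 1
        apply Subtype.ext
        change c • (v : K') = algebraMap k P.O c • (v : K')
        rw [O_smul_def, Algebra.smul_def, IsScalarTower.algebraMap_apply k K K']
        rfl }
  have hker : ∀ v : ↥(FunFld.L A), φ v = 0 → (v : K') ∈ FunFld.L B := by
    intro v hv Q
    have hv' : (⟨v.1, hLA v.1 v.2⟩ : M) ∈
        (IsLocalRing.maximalIdeal P.O • ⊤ : Submodule P.O ↥M) :=
      (Submodule.Quotient.mk_eq_zero _).1 hv
    by_cases hQ : FunFld.IsOver Q P
    · obtain ⟨e, he⟩ := hQ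
      rw [hBQ Q e he]
      exact val_le_of_mem_smul_top P he M (fun y hy => hy Q ⟨e, he⟩) _ hv'
    · rw [hBQ' Q hQ]
      exact v.2 Q
  let ψ : ↥(LinearMap.ker φ) →ₗ[k] ↥(FunFld.L B) :=
    { toFun := fun v => ⟨(v.1 : K'), hker v.1 v.2⟩
      map_add' := fun _ _ => rfl
      map_smul' := fun _ _ => rfl }
  have hψ : Function.Injective ψ := by
    intro v w hvw
    apply Subtype.ext
    apply Subtype.ext
    exact congrArg (fun z : ↥(FunFld.L B) => (z : K')) hvw
  have h1 : Module.finrank k ↥(LinearMap.ker φ) ≤ Module.finrank k ↥(FunFld.L B) :=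
    LinearMap.finrank_le_finrank_of_injective hψ
  have h2 := LinearMap.finrank_range_add_finrank_ker φ
  have h3 : Module.finrank k ↥(LinearMap.range φ) ≤ Module.finrank k (RedQuot P M) :=
    Submodule.finrank_le _
  have h4 : (n * f : ℤ) ≤ (Module.finrank k (RedQuot P M) : ℤ) := by
    have h1' : (Module.finrank k ↥(LinearMap.ker φ) : ℤ) ≤ Module.finrank k ↥(FunFld.L B) := by
      exact_mod_cast h1
    have h2' : (Module.finrank k ↥(LinearMap.range φ) : ℤ) +
        Module.finrank k ↥(LinearMap.ker φ) = Module.finrank k ↥(FunFld.L A) := by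
      exact_mod_cast h2
    have h3' : (Module.finrank k ↥(LinearMap.range φ) : ℤ) ≤ Module.finrank k (RedQuot P M) := by
      exact_mod_cast h3
    linarith
  rw [← htower] at h4
  have h5 : n * f ≤ f * Module.finrank (IsLocalRing.ResidueField P.O) (RedQuot P M) := by
    exact_mod_cast h4
  rw [mul_comm n f] at h5
  exact Nat.le_of_mul_le_mul_left h5 hf0

/-- The ring of elements integral at all places above `P` is a finitely generated `O_P`-module. -/
theorem intAbove_fg (hK : FunFld.IsFunctionField k K) [FiniteDimensional K K'] :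
    (intAbove (K' := K') P).toSubmodule.FG :=
  fg_of_finrank_redQuot P _ (finrank_le_finrank_redQuot_intAbove P hK)

theorem val_le_one_of_isIntegral_of_forall {R : Type*} [CommRing R] [Algebra R K']
    {Γ₀ : Type*} [LinearOrderedCommGroupWithZero Γ₀] (v : Valuation K' Γ₀)
    (hR : ∀ a : R, v (algebraMap R K' a) ≤ 1) {y : K'} (hy : IsIntegral R y) : v y ≤ 1 := by
  obtain ⟨f, hm, hf⟩ := hy
  by_cases hn : f.natDegree = 0
  · rw [Polynomial.natDegree_eq_zero] at hn
    obtain ⟨c, rfl⟩ := hn
    have hc : c = 1 := by simpa using hm.leadingCoeff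
    rw [hc] at hf
    simp at hf
  simp only [Polynomial.eval₂_eq_sum_range, Finset.sum_range_succ, hm.coeff_natDegree, map_one,
    one_mul, add_eq_zero_iff_eq_neg] at hf
  apply_fun v at hf
  simp only [Valuation.map_neg, map_pow] at hf
  contrapose! hf
  refine ne_of_lt (v.map_sum_lt ?_ ?_)
  · simp [hn, (hf.trans' (zero_lt_one)).ne']
  · simp only [Finset.mem_range, map_mul, map_pow]
    intro _ hi
    exact mul_lt_of_le_one_of_lt (hR _) <| pow_lt_pow_right₀ hf hi

/-- The integral closure of `O_P` in `K'` is the ring of elements integral above `P`. -/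
theorem integralClosure_eq_intAbove (hK : FunFld.IsFunctionField k K) [FiniteDimensional K K'] :
    integralClosure P.O K' = intAbove (K' := K') P := by
  apply le_antisymm
  · intro y hy Q hQ
    obtain ⟨e, he⟩ := hQ
    refine val_le_one_of_isIntegral_of_forall (R := P.O) Q.1 (fun a => ?_) hy
    rw [algebraMap_O_apply, he]
    exact pow_le_one' a.2 e
  · intro y hy
    exact IsIntegral.of_mem_of_fg (intAbove (K' := K') P) (intAbove_fg P hK) y hy

/-- The integral closure of `O_P` in a finite extension is a finitely generated `O_P`-module. -/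
theorem integralClosure_fg (hK : FunFld.IsFunctionField k K) [FiniteDimensional K K'] :
    (integralClosure P.O K').toSubmodule.FG := by
  rw [integralClosure_eq_intAbove P hK]
  exact intAbove_fg P hK

end IntClosure

end Groth.Agent.Lib.H40FunFld
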