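/-
Semilocal rings of function fields over an arbitrary constant field: the dimension count
`dim_k Õ/zÕ = ∑ deg Q · ord_Q z` (general-`k` version of helper70's `FunFldSemilocal`).
-/
import Groth.Agent.Lib.FunFldSemilocal
import Groth.Agent.Lib.H40FunFldRes

set_option autoImplicit false

namespace Groth.Agent.Lib.H40FunFldSemilocalDeg

open FunFld Groth.Agent.Lib.H40FunFld Groth.Agent.Lib.H40QuotChain
  Groth.Agent.Lib.FunFldSemilocal

universe u v
variable {k : Type u} {K : Type v} [Field k] [Field K] [Algebra k K]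

section Step

variable [DecidableEq (Place k K)] (F : Finset (Place k K)) (D : Place k K → ℤ)
  {Q₀ : Place k K} (hQ₀ : Q₀ ∈ F) {z₀ : K} (hz₀ : z₀ ∈ Bd F D)
  (hvz₀ : Q₀.1 z₀ = WithZero.exp (-(D Q₀)))

omit [DecidableEq (Place k K)] in
include hQ₀ hvz₀ in
theorem div_mem_O {z : K} (hz : z ∈ Bd F D) : Q₀.1 (z / z₀) ≤ 1 := by
  rw [map_div₀, hvz₀]
  exact div_le_one_of_le₀ (hz Q₀ hQ₀) zero_le

/-- The map `z ↦ residue (z / z₀)` on `Bd F D`. -/
noncomputable def stepMap : ↥(Bd F D) →ₗ[k] IsLocalRing.ResidueField Q₀.O where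
  toFun z := IsLocalRing.residue Q₀.O ⟨z.1 / z₀, div_mem_O F D hQ₀ hvz₀ z.2⟩
  map_add' a b := by
    rw [← map_add]
    congr 1
    apply Subtype.ext
    change (a.1 + b.1) / z₀ = a.1 / z₀ + b.1 / z₀
    ring
  map_smul' c a := by
    refine Eq.trans ?_ (Algebra.smul_def c _).symm
    rw [algebraMap_residue, ← map_mul]
    congr 1
    apply Subtype.ext
    change (c • a.1) / z₀ = algebraMap k K c * (a.1 / z₀)
    rw [Algebra.smul_def]; ring

theorem stepMap_apply (z : ↥(Bd F D)) :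
    stepMap F D hQ₀ hvz₀ z =
      IsLocalRing.residue Q₀.O ⟨z.1 / z₀, div_mem_O F D hQ₀ hvz₀ z.2⟩ := rfl

theorem ker_stepMap :
    LinearMap.ker (stepMap F D hQ₀ hvz₀) =
      Submodule.comap (Bd F D).subtype (Bd F (Function.update D Q₀ (D Q₀ + 1))) := by
  ext z
  rw [LinearMap.mem_ker, stepMap_apply, residue_eq_zero_iff, Submodule.mem_comap]
  change Q₀.1 (z.1 / z₀) < 1 ↔ z.1 ∈ Bd F (Function.update D Q₀ (D Q₀ + 1))
  have key : Q₀.1 (z.1 / z₀) < 1 ↔ Q₀.1 z.1 ≤ WithZero.exp (-(D Q₀ + 1)) := by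
    rw [lt_one_iff_le_exp_neg_one, map_div₀, hvz₀, div_le_iff₀ WithZero.exp_pos,
      ← WithZero.exp_add]
    have : (-1 : ℤ) + -(D Q₀) = -(D Q₀ + 1) := by ring
    rw [this]
  rw [key, mem_Bd]
  constructor
  · intro h Q hQ
    by_cases hQQ : Q = Q₀
    · subst hQQ; rw [Function.update_self]; exact h
    · rw [Function.update_of_ne hQQ]; exact z.2 Q hQ
  · intro h
    have := h Q₀ hQ₀
    rwa [Function.update_self] at this

include hz₀ in
theorem stepMap_surjective : Function.Surjective (stepMap F D hQ₀ hvz₀) := by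
  intro r
  obtain ⟨b, rfl⟩ := IsLocalRing.residue_surjective r
  obtain ⟨c, hc⟩ := exists_approx F (fun Q => if Q = Q₀ then (b : K) else 0) 1
  have hcQ : ∀ Q ∈ F, Q.1 c ≤ 1 := by
    intro Q hQ
    have h1 := hc Q hQ
    by_cases hQQ : Q = Q₀
    · subst hQQ
      rw [if_pos rfl] at h1
      have h2 : c = (c - (b : K)) + b := by ring
      rw [h2]
      refine (Q.1.map_add _ _).trans (max_le (h1.trans ?_) b.2)
      rw [← WithZero.exp_zero, WithZero.exp_le_exp]; omega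
    · rw [if_neg hQQ, sub_zero] at h1
      refine h1.trans ?_
      rw [← WithZero.exp_zero, WithZero.exp_le_exp]; omega
  have hz₀0 : z₀ ≠ 0 := by
    intro h; rw [h, map_zero] at hvz₀; exact WithZero.exp_ne_zero hvz₀.symm
  have hmem : z₀ * c ∈ Bd F D := by
    intro Q hQ
    rw [map_mul]
    exact (mul_le_mul' (hz₀ Q hQ) (hcQ Q hQ)).trans_eq (mul_one _)
  refine ⟨⟨z₀ * c, hmem⟩, ?_⟩
  rw [stepMap_apply, eq_comm, ← sub_eq_zero, ← map_sub, residue_eq_zero_iff]
  change Q₀.1 ((b : K) - z₀ * c / z₀) < 1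
  rw [mul_div_cancel_left₀ _ hz₀0, ← Valuation.map_neg, neg_sub, lt_one_iff_le_exp_neg_one]
  have h1 := hc Q₀ hQ₀
  rw [if_pos rfl] at h1
  exact h1

end Step

/-- one step in the filtration has dimension `deg Q₀` -/
theorem finrank_step_deg [DecidableEq (Place k K)]
    (F : Finset (Place k K)) (hfin : ∀ Q ∈ F, FiniteDimensional k (IsLocalRing.ResidueField Q.O))
    (D : Place k K → ℤ) {Q₀ : Place k K} (hQ₀ : Q₀ ∈ F) :
    FiniteDimensional k (RelQuot (Bd F (Function.update D Q₀ (D Q₀ + 1))) (Bd F D)) ∧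
      Module.finrank k (RelQuot (Bd F (Function.update D Q₀ (D Q₀ + 1))) (Bd F D)) = Q₀.deg := by
  obtain ⟨z₀, hz₀, hvz₀⟩ := exists_mem_Bd_val_eq F D hQ₀
  have := hfin Q₀ hQ₀
  let e : RelQuot (Bd F (Function.update D Q₀ (D Q₀ + 1))) (Bd F D) ≃ₗ[k]
      IsLocalRing.ResidueField Q₀.O :=
    (Submodule.quotEquivOfEq _ _ (ker_stepMap F D hQ₀ hvz₀).symm).trans
      ((stepMap F D hQ₀ hvz₀).quotKerEquivOfSurjective (stepMap_surjective F D hQ₀ hz₀ hvz₀))
  exact ⟨LinearEquiv.finiteDimensional e.symm, LinearEquiv.finrank_eq e⟩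

/-- the dimension of a quotient in the filtration -/
theorem finrank_Bd_deg (F : Finset (Place k K))
    (hfin : ∀ Q ∈ F, FiniteDimensional k (IsLocalRing.ResidueField Q.O)) (D' : Place k K → ℤ) :
    ∀ (n : ℕ) (D : Place k K → ℤ), (∀ Q ∈ F, D Q ≤ D' Q) → ∑ Q ∈ F, (D' Q - D Q) = n →
      FiniteDimensional k (RelQuot (Bd F D') (Bd F D)) ∧
        (Module.finrank k (RelQuot (Bd F D') (Bd F D)) : ℤ) =
          ∑ Q ∈ F, (D' Q - D Q) * (Q.deg : ℤ) := by
  classical
  intro n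
  induction n with
  | zero =>
    intro D hD hsum
    have heq : ∀ Q ∈ F, D Q = D' Q := by
      intro Q hQ
      have h1 := (Finset.sum_eq_zero_iff_of_nonneg (fun Q hQ => by
        show 0 ≤ D' Q - D Q
        have := hD Q hQ; omega)).1 (by exact_mod_cast hsum) Q hQ
      have h2 : D' Q - D Q = 0 := h1
      omega
    have h2 : Bd F D = Bd F D' := Bd_congr heq
    have hs : Subsingleton (RelQuot (Bd F D') (Bd F D)) := by
      apply Submodule.Quotient.subsingleton_iff.2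
      rw [h2]
      exact Submodule.comap_subtype_self _
    refine ⟨inferInstance, ?_⟩
    rw [Module.finrank_zero_of_subsingleton, Nat.cast_zero, eq_comm]
    apply Finset.sum_eq_zero
    intro Q hQ
    rw [heq Q hQ, sub_self, zero_mul]
  | succ n ih =>
    intro D hD hsum
    have hex : ∃ Q₀ ∈ F, D Q₀ < D' Q₀ := by
      by_contra hne
      push Not at hne
      have : ∑ Q ∈ F, (D' Q - D Q) = 0 := by
        apply Finset.sum_eq_zero
        intro Q hQ
        have h1 := hD Q hQ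
        have h2 := hne Q hQ
        omega
      rw [this] at hsum
      omega
    obtain ⟨Q₀, hQ₀, hlt⟩ := hex
    set D₁ := Function.update D Q₀ (D Q₀ + 1) with hD₁
    have hD₁le : ∀ Q ∈ F, D₁ Q ≤ D' Q := by
      intro Q hQ
      by_cases hQQ : Q = Q₀
      · subst hQQ; rw [hD₁, Function.update_self]; omega
      · rw [hD₁, Function.update_of_ne hQQ]; exact hD Q hQ
    have hDD₁ : ∀ Q ∈ F, D Q ≤ D₁ Q := by
      intro Q hQ
      by_cases hQQ : Q = Q₀
      · subst hQQ; rw [hD₁, Function.update_self]; omega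
      · rw [hD₁, Function.update_of_ne hQQ]
    have hterm : ∀ Q ∈ F, (D' Q - D₁ Q) = ((D' Q - D Q) - if Q = Q₀ then 1 else 0) := by
      intro Q hQ
      by_cases hQQ : Q = Q₀
      · subst hQQ; rw [hD₁, Function.update_self, if_pos rfl]; ring
      · rw [hD₁, Function.update_of_ne hQQ, if_neg hQQ]; ring
    have hsum₁ : ∑ Q ∈ F, (D' Q - D₁ Q) = n := by
      rw [Finset.sum_congr rfl hterm, Finset.sum_sub_distrib, hsum, Finset.sum_ite_eq' F Q₀,
        if_pos hQ₀]
      push_cast; ring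
    obtain ⟨f1, e1⟩ := ih D₁ hD₁le hsum₁
    obtain ⟨f2, e2⟩ := finrank_step_deg F hfin D hQ₀
    have := f1
    have := f2
    obtain ⟨f3, e3⟩ := finrank_relQuot_chain (A := Bd F D') (B := Bd F D₁) (C := Bd F D)
      (Bd_anti hD₁le) (Bd_anti hDD₁)
    refine ⟨f3, ?_⟩
    rw [e3, Nat.cast_add, e1, e2]
    have h3 : ∑ Q ∈ F, (D' Q - D₁ Q) * (Q.deg : ℤ) =
        ∑ Q ∈ F, ((D' Q - D Q) * (Q.deg : ℤ) - if Q = Q₀ then (Q₀.deg : ℤ) else 0) := by
      apply Finset.sum_congr rfl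
      intro Q hQ
      rw [hterm Q hQ]
      by_cases hQQ : Q = Q₀
      · subst hQQ; rw [if_pos rfl, if_pos rfl]; ring
      · rw [if_neg hQQ, if_neg hQQ]; ring
    rw [h3, Finset.sum_sub_distrib, Finset.sum_ite_eq' F Q₀, if_pos hQ₀]
    ring

theorem mem_Ot' {F : Finset (Place k K)} {z : K} : z ∈ Ot F ↔ ∀ Q ∈ F, Q.1 z ≤ 1 := Iff.rfl

theorem mem_Bd_zero' {F : Finset (Place k K)} {z : K} : z ∈ Bd F 0 ↔ z ∈ Ot F := by
  simp [mem_Bd, mem_Ot']

/-- the dimension of the quotient of the semilocal ring by a principal ideal, over an arbitrary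
constant field -/
theorem finrank_Ot_quot_deg (F : Finset (Place k K))
    (hfin : ∀ Q ∈ F, FiniteDimensional k (IsLocalRing.ResidueField Q.O)) (z : Ot F)
    (hz : (z : K) ≠ 0) :
    Module.Finite k (Ot F ⧸ Ideal.span {z}) ∧
      (Module.finrank k (Ot F ⧸ Ideal.span {z}) : ℤ) = ∑ Q ∈ F, Q.ord (z : K) * (Q.deg : ℤ) := by
  classical
  set D' : Place k K → ℤ := fun Q => Q.ord (z : K) with hD'
  have hval : ∀ Q : Place k K, Q.1 (z : K) = WithZero.exp (-(D' Q)) :=
    fun Q => val_eq_exp_neg_ord Q hz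
  have hnn : ∀ Q ∈ F, (0 : Place k K → ℤ) Q ≤ D' Q := by
    intro Q hQ
    have h1 := z.2 Q hQ
    rw [hval, ← WithZero.exp_zero, WithZero.exp_le_exp] at h1
    show (0 : ℤ) ≤ D' Q
    omega
  have hsum_nn : 0 ≤ ∑ Q ∈ F, D' Q := Finset.sum_nonneg hnn
  obtain ⟨f1, e1⟩ := finrank_Bd_deg F hfin D' (∑ Q ∈ F, D' Q).toNat 0 hnn (by
    rw [Int.toNat_of_nonneg hsum_nn]
    apply Finset.sum_congr rfl
    intro Q _
    show D' Q - 0 = D' Q
    ring)
  -- the comparison map
  let ι : Ot F →ₗ[k] Bd F 0 :=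
    (Ot F).val.toLinearMap.codRestrict (Bd F 0) (fun w => mem_Bd_zero'.2 w.2)
  let Φ : Ot F →ₗ[k] RelQuot (Bd F D') (Bd F 0) := (Submodule.mkQ _).comp ι
  have hΦsurj : Function.Surjective Φ := by
    intro w
    obtain ⟨⟨b, hb⟩, rfl⟩ := Submodule.Quotient.mk_surjective _ w
    exact ⟨⟨b, mem_Bd_zero'.1 hb⟩, rfl⟩
  have hker : LinearMap.ker Φ = (Ideal.span {z}).restrictScalars k := by
    ext w
    rw [LinearMap.mem_ker, Submodule.restrictScalars_mem, Ideal.mem_span_singleton']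
    have h1 : Φ w = 0 ↔ (w : K) ∈ Bd F D' := by
      show (Submodule.Quotient.mk (ι w) : RelQuot (Bd F D') (Bd F 0)) = 0 ↔ _
      rw [Submodule.Quotient.mk_eq_zero]
      rfl
    rw [h1, mem_Bd]
    constructor
    · intro h
      refine ⟨⟨(w : K) / z, fun Q hQ => ?_⟩, Subtype.ext ?_⟩
      · rw [map_div₀]
        have := h Q hQ
        rw [← hval] at this
        exact div_le_one_of_le₀ this zero_le
      · show (w : K) / z * z = w
        rw [div_mul_cancel₀ _ hz]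
    · rintro ⟨a, rfl⟩ Q hQ
      show Q.1 ((a : K) * z) ≤ _
      rw [map_mul, ← hval]
      exact mul_le_of_le_one_left' (a.2 Q hQ)
  let e : (Ot F ⧸ Ideal.span {z}) ≃ₗ[k] RelQuot (Bd F D') (Bd F 0) :=
    (Submodule.Quotient.restrictScalarsEquiv k (Ideal.span {z})).symm.trans
      ((Submodule.quotEquivOfEq _ _ hker.symm).trans (Φ.quotKerEquivOfSurjective hΦsurj))
  refine ⟨Module.Finite.equiv e.symm, ?_⟩
  rw [e.finrank_eq, e1]
  apply Finset.sum_congr rfl
  intro Q _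
  show (D' Q - 0) * _ = _
  rw [sub_zero]

end Groth.Agent.Lib.H40FunFldSemilocalDeg
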