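/-
The norm formula for function fields: `deg P · v_P(N x) = ∑_{Q|P} deg Q · v_Q(x)`.
-/
import Groth.Agent.Lib.H40FunFldSemilocalDeg
import Groth.Agent.Lib.H40FunFldIntClosure
import Groth.Agent.Lib.H40FunFldPlace
import Groth.Agent.Lib.H40FunFldGenusOne
import Groth.Agent.Lib.H40FunFldResDeg
import Groth.Agent.Lib.H40FunFldRes
import Mathlib.LinearAlgebra.FreeModule.Norm
import Mathlib.RingTheory.Localization.NormTrace

set_option autoImplicit false

namespace Groth.Agent.Lib.H40FunFldNorm

open FunFld Groth.Agent.Lib.H40FunFld Groth.Agent.Lib.H40QuotChain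
  Groth.Agent.Lib.FunFldSemilocal Groth.Agent.Lib.H40FunFldSemilocalDeg

universe u v w
variable {k : Type u} [Field k]

section Transfer

variable {K : Type v} [Field K] [Algebra k K]

/-- Transfer of the semilocal dimension count to any `k`-algebra identified with `Ot F`. -/
theorem finrank_quot_of_range_eq (F : Finset (Place k K))
    (hfin : ∀ Q ∈ F, FiniteDimensional k (IsLocalRing.ResidueField Q.O))
    {R : Type*} [CommRing R] [Algebra k R] (j : R →ₐ[k] K) (hj : Function.Injective j)
    (hrange : ∀ z : K, z ∈ Set.range j ↔ ∀ Q ∈ F, Q.1 z ≤ 1) (r : R) (hr : r ≠ 0) :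
    Module.Finite k (R ⧸ Ideal.span {r}) ∧
      (Module.finrank k (R ⧸ Ideal.span {r}) : ℤ) = ∑ Q ∈ F, Q.ord (j r) * (Q.deg : ℤ) := by
  classical
  let j' : R →ₐ[k] Ot F := j.codRestrict (Ot F) (fun x => (hrange (j x)).mp ⟨x, rfl⟩)
  have hj'bij : Function.Bijective j' := by
    constructor
    · intro a b hab
      apply hj
      exact congrArg Subtype.val hab
    · intro z
      obtain ⟨x, hx⟩ := (hrange (z : K)).mpr z.2
      exact ⟨x, Subtype.ext hx⟩
  let e : R ≃ₐ[k] Ot F := AlgEquiv.ofBijective j' hj'bij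
  have hmap : (Ideal.span {r}).map (e : R →+* Ot F) = Ideal.span {e r} := by
    rw [Ideal.map_span, Set.image_singleton]
    rfl
  have hz0 : ((e r : Ot F) : K) ≠ 0 := by
    show j r ≠ 0
    exact (map_ne_zero_iff j hj).mpr hr
  obtain ⟨f1, e1⟩ := finrank_Ot_quot_deg F hfin (e r) hz0
  let E : (R ⧸ Ideal.span {r}) ≃ₐ[k] (Ot F ⧸ Ideal.span {e r}) :=
    Ideal.quotientEquivAlg (Ideal.span {r}) (Ideal.span {e r}) e hmap.symm
  refine ⟨Module.Finite.equiv E.symm.toLinearEquiv, ?_⟩
  rw [E.toLinearEquiv.finrank_eq, e1]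
  rfl

end Transfer


section Norm

variable {K : Type v} [Field K] [Algebra k K] {K' : Type w} [Field K'] [Algebra K K']
  [Algebra k K'] [IsScalarTower k K K'] [FiniteDimensional K K']

theorem val_unit_eq_one (P : Place k K) (u : (P.O)ˣ) : P.1 ((u : P.O) : K) = 1 := by
  have h1 : P.1 ((u : P.O) : K) ≤ 1 := (u : P.O).2
  have h2 : P.1 (((u⁻¹ : (P.O)ˣ) : P.O) : K) ≤ 1 := ((u⁻¹ : (P.O)ˣ) : P.O).2
  have h3 : P.1 ((u : P.O) : K) * P.1 (((u⁻¹ : (P.O)ˣ) : P.O) : K) = 1 := by
    rw [← map_mul, ← MulMemClass.coe_mul, ← Units.val_mul, mul_inv_cancel]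
    simp
  rcases lt_or_eq_of_le h1 with h | h
  · exfalso
    have : P.1 ((u : P.O) : K) * P.1 (((u⁻¹ : (P.O)ˣ) : P.O) : K) < 1 :=
      mul_lt_one_of_lt_of_le h h2
    rw [h3] at this
    exact lt_irrefl _ this
  · exact h

theorem ord_eq_of_associated (P : Place k K) {a b : P.O} (h : Associated a b) :
    P.ord (a : K) = P.ord (b : K) := by
  obtain ⟨u, rfl⟩ := h
  unfold Place.ord
  rw [MulMemClass.coe_mul, map_mul, val_unit_eq_one, mul_one]

theorem ord_prod (P : Place k K) {ι : Type*} (s : Finset ι) (g : ι → K) (hg : ∀ i ∈ s, g i ≠ 0) :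
    P.ord (∏ i ∈ s, g i) = ∑ i ∈ s, P.ord (g i) := by
  classical
  induction s using Finset.induction_on with
  | empty => simp [Place.ord]
  | insert a s ha ih =>
    rw [Finset.prod_insert ha, Finset.sum_insert ha,
      ord_mul P (hg a (Finset.mem_insert_self a s))
        (Finset.prod_ne_zero_iff.mpr (fun i hi => hg i (Finset.mem_insert_of_mem hi))),
      ih (fun i hi => hg i (Finset.mem_insert_of_mem hi))]


theorem finrank_O_quot (hK : IsFunctionField k K) (P : Place k K) (a : P.O) (ha : a ≠ 0) :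
    Module.Finite k (P.O ⧸ Ideal.span {a}) ∧
      (Module.finrank k (P.O ⧸ Ideal.span {a}) : ℤ) = P.ord (a : K) * (P.deg : ℤ) := by
  classical
  let j : P.O →ₐ[k] K := { P.O.subtype with commutes' := fun c => rfl }
  have hj : Function.Injective j := Subtype.val_injective
  have h := finrank_quot_of_range_eq ({P} : Finset (Place k K))
    (fun Q hQ => by
      rw [Finset.mem_singleton] at hQ; subst hQ; exact finiteDimensional_residueField hK Q)
    j hj (fun z => by
      simp only [Finset.mem_singleton, forall_eq]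
      constructor
      · rintro ⟨y, rfl⟩
        exact y.2
      · intro hz
        exact ⟨⟨z, hz⟩, rfl⟩) a ha
  rw [Finset.sum_singleton] at h
  exact h


theorem finrank_intClosure_quot (hK : IsFunctionField k K) (P : Place k K)
    [Algebra P.O K'] [IsScalarTower P.O K K'] [IsScalarTower k P.O K']
    (Qs : Finset (Place k K')) (hQs : ∀ Q, Q ∈ Qs ↔ IsOver Q P)
    (f : integralClosure P.O K') (hf : f ≠ 0) :
    Module.Finite k (integralClosure P.O K' ⧸ Ideal.span {f}) ∧
      (Module.finrank k (integralClosure P.O K' ⧸ Ideal.span {f}) : ℤ) =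
        ∑ Q ∈ Qs, Q.ord (f : K') * (Q.deg : ℤ) := by
  classical
  let j : integralClosure P.O K' →ₐ[k] K' := (integralClosure P.O K').val.restrictScalars k
  have hj : Function.Injective j := Subtype.val_injective
  exact finrank_quot_of_range_eq Qs
    (fun Q _ => Module.finite_of_finrank_pos (deg_pos_ext hK Q))
    j hj (fun z => by
      constructor
      · rintro ⟨y, rfl⟩
        have hy : ∀ w : K', w ∈ integralClosure P.O K' →
            ∀ Q : Place k K', IsOver Q P → Q.1 w ≤ 1 := by
          intro w hw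
          rw [integralClosure_eq_intAbove P hK, mem_intAbove_iff] at hw
          exact hw
        exact fun Q hQ => hy _ y.2 Q ((hQs Q).mp hQ)
      · intro hz
        have hz' : z ∈ integralClosure P.O K' := by
          rw [integralClosure_eq_intAbove P hK, mem_intAbove_iff]
          exact fun Q hQ => hz Q ((hQs Q).mpr hQ)
        exact ⟨⟨z, hz'⟩, rfl⟩) f hf


theorem norm_formula_integral (hK : IsFunctionField k K) (P : Place k K)
    [Algebra P.O K'] [IsScalarTower P.O K K'] [IsScalarTower k P.O K']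
    (Qs : Finset (Place k K')) (hQs : ∀ Q, Q ∈ Qs ↔ IsOver Q P)
    (f : integralClosure P.O K') (hf : f ≠ 0) :
    (P.deg : ℤ) * P.ord (Algebra.norm K (f : K')) = ∑ Q ∈ Qs, (Q.deg : ℤ) * Q.ord (f : K') := by
  classical
  have tow2 : IsScalarTower k P.O (integralClosure P.O K') :=
    IsScalarTower.of_algebraMap_eq (fun c => Subtype.ext
      ((show ((algebraMap k (integralClosure P.O K') c : integralClosure P.O K') : K') =
        algebraMap k K' c from rfl).trans (IsScalarTower.algebraMap_apply k P.O K' c)))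
  have hpid : IsPrincipalIdealRing P.O := isPrincipalIdealRing_of_le P.O hK P.2.1
  have hfin : Module.Finite P.O (integralClosure P.O K') :=
    Module.Finite.iff_fg.mpr (integralClosure_fg P hK)
  have hinj : Function.Injective (algebraMap P.O K') := by
    intro a b hab
    rw [algebraMap_O_apply, algebraMap_O_apply] at hab
    exact Subtype.ext ((algebraMap K K').injective hab)
  have : Module.IsTorsionFree P.O K' := Module.isTorsionFree_iff_algebraMap_injective.mpr hinj
  have : Module.IsTorsionFree P.O (integralClosure P.O K') := inferInstance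
  have : Module.Free P.O (integralClosure P.O K') := Module.free_iff_isTorsionFree.mpr inferInstance
  have hloc : IsLocalization
      (Algebra.algebraMapSubmonoid (integralClosure P.O K') (nonZeroDivisors P.O)) K' :=
    IsIntegralClosure.isLocalization P.O K K' (integralClosure P.O K')
  let b := Module.Free.chooseBasis P.O (integralClosure P.O K')
  have hI : Ideal.span {f} ≠ ⊥ := Ideal.span_singleton_eq_bot.not.2 hf
  have hass := associated_norm_prod_smith b hf
  have hsm : ∀ i, (Ideal.span {f}).smithCoeffs b hI i ≠ 0 :=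
    fun i => Ideal.smithCoeffs_ne_zero b _ hI i
  have : ∀ i, Module.Finite k (P.O ⧸ Ideal.span {(Ideal.span {f}).smithCoeffs b hI i}) :=
    fun i => (finrank_O_quot hK P _ (hsm i)).1
  have h1 := Ideal.finrank_quotient_eq_sum k hI b
  have h2 := (finrank_intClosure_quot hK P Qs hQs f hf).2
  have h3 : Algebra.norm K (f : K') = algebraMap P.O K (Algebra.norm P.O f) :=
    Algebra.norm_localization P.O (nonZeroDivisors P.O) (Rₘ := K) (Sₘ := K') f
  rw [h3]
  have h4 : P.ord (algebraMap P.O K (Algebra.norm P.O f)) =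
      ∑ i, P.ord (((Ideal.span {f}).smithCoeffs b hI i : P.O) : K) := by
    rw [show algebraMap P.O K (Algebra.norm P.O f) = ((Algebra.norm P.O f : P.O) : K) from rfl,
      ord_eq_of_associated P hass]
    rw [show ((∏ i, (Ideal.span {f}).smithCoeffs b hI i : P.O) : K) =
      ∏ i, (((Ideal.span {f}).smithCoeffs b hI i : P.O) : K) from by
        simp]
    refine ord_prod P _ _ (fun i _ => ?_)
    intro h0
    exact hsm i (Subtype.ext h0)
  rw [h4, Finset.mul_sum]
  have h5 : ∀ i, (Module.finrank k (P.O ⧸ Ideal.span {(Ideal.span {f}).smithCoeffs b hI i}) : ℤ) =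
      P.ord (((Ideal.span {f}).smithCoeffs b hI i : P.O) : K) * (P.deg : ℤ) :=
    fun i => (finrank_O_quot hK P _ (hsm i)).2
  have h6 : (Module.finrank k (integralClosure P.O K' ⧸ Ideal.span {f}) : ℤ) =
      ∑ i, (Module.finrank k (P.O ⧸ Ideal.span {(Ideal.span {f}).smithCoeffs b hI i}) : ℤ) := by
    rw [h1]; push_cast; rfl
  rw [h6] at h2
  rw [show ∑ Q ∈ Qs, (Q.deg : ℤ) * Q.ord (f : K') = ∑ Q ∈ Qs, Q.ord (f : K') * (Q.deg : ℤ) from
    Finset.sum_congr rfl (fun Q _ => mul_comm _ _), ← h2]
  refine Finset.sum_congr rfl (fun i _ => ?_)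
  rw [h5 i, mul_comm]


theorem ord_zero' (P : Place k K) : P.ord 0 = 0 := by
  simp [Place.ord]

/-- The norm formula `deg P · v_P(N x) = ∑_{Q | P} deg Q · v_Q(x)`. -/
theorem norm_formula (hK : IsFunctionField k K) (P : Place k K)
    [Algebra P.O K'] [IsScalarTower P.O K K'] [IsScalarTower k P.O K']
    (Qs : Finset (Place k K')) (hQs : ∀ Q, Q ∈ Qs ↔ IsOver Q P) (x : K') :
    (P.deg : ℤ) * P.ord (Algebra.norm K x) = ∑ Q ∈ Qs, (Q.deg : ℤ) * Q.ord x := by
  classical
  by_cases hx : x = 0
  · subst hx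
    rw [Algebra.norm_zero, ord_zero']
    simp [ord_zero']
  have halg : IsAlgebraic P.O x :=
    (IsFractionRing.isAlgebraic_iff P.O K K').mpr (Algebra.IsAlgebraic.isAlgebraic x)
  obtain ⟨a, ha0, haint⟩ := IsAlgebraic.exists_integral_multiple halg
  have hinj : Function.Injective (algebraMap P.O K') := by
    intro a b hab
    rw [algebraMap_O_apply, algebraMap_O_apply] at hab
    exact Subtype.ext ((algebraMap K K').injective hab)
  have ha' : algebraMap P.O K' a ≠ 0 := (map_ne_zero_iff _ hinj).mpr ha0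
  have hax : a • x = algebraMap P.O K' a * x := Algebra.smul_def a x
  have e1 := norm_formula_integral hK P Qs hQs ⟨a • x, haint⟩
    (fun h => by
      have h' : a • x = 0 := congrArg Subtype.val h
      rw [hax] at h'
      exact (mul_ne_zero ha' hx) h')
  have e2 := norm_formula_integral hK P Qs hQs
    ⟨algebraMap P.O K' a, isIntegral_algebraMap⟩
    (fun h => ha' (congrArg Subtype.val h))
  simp only at e1 e2
  have hn1 : Algebra.norm K (algebraMap P.O K' a) ≠ 0 := Algebra.norm_ne_zero_iff.mpr ha'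
  have hn2 : Algebra.norm K x ≠ 0 := Algebra.norm_ne_zero_iff.mpr hx
  rw [hax, map_mul, ord_mul P hn1 hn2] at e1
  have e3 : ∑ Q ∈ Qs, (Q.deg : ℤ) * Q.ord (algebraMap P.O K' a * x) =
      ∑ Q ∈ Qs, (Q.deg : ℤ) * Q.ord (algebraMap P.O K' a) + ∑ Q ∈ Qs, (Q.deg : ℤ) * Q.ord x := by
    rw [← Finset.sum_add_distrib]
    refine Finset.sum_congr rfl (fun Q _ => ?_)
    rw [ord_mul Q ha' hx, mul_add]
  rw [e3, ← e2] at e1
  linarith

end Norm

end Groth.Agent.Lib.H40FunFldNorm
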