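import Groth.Agent.Lib.H40FunFldNonsingST5
import Mathlib.RingTheory.Valuation.Extension

set_option autoImplicit false
set_option linter.style.haveILetI false
set_option linter.unusedSectionVars false
open FunFld Polynomial

namespace Groth.Agent.Lib.H40FunFld

open IntermediateField TensorProduct

universe u v w

section ResFieldNonsing

theorem isOver_of_hasExtension {k : Type u} {K : Type v} {K' : Type w} [Field k] [Field K]
    [Field K'] [Algebra k K] [Algebra K K'] [Algebra k K'] [IsScalarTower k K K']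
    [Algebra.IsAlgebraic K K'] (hK : FunFld.IsFunctionField k K)
    (P : FunFld.Place k K) (Q : FunFld.Place k K') [P.1.HasExtension Q.1] :
    FunFld.IsOver Q P := by
  obtain ⟨P', e, he⟩ := exists_isOverWith (K := K) hK Q
  have hPP : P = P' := by
    apply eq_of_forall_le_one
    intro a ha
    rw [← isOverWith_le_one_iff he]
    exact (Valuation.HasExtension.val_map_le_one_iff P.1 Q.1 a).2 ha
  exact ⟨e, hPP ▸ he⟩

theorem residueField_eq_adjoin_of_nonsingular (k k' : Type u) (K K' : Type v) [Field k] [Field k']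
    [Field K] [Field K']
    [Algebra k k'] [FiniteDimensional k k'] [Algebra k K] [Algebra K K'] [Algebra k' K']
    [Algebra k K']
    [IsScalarTower k k' K'] [IsScalarTower k K K']
    (h : Function.Bijective (Algebra.TensorProduct.productMap
      (IsScalarTower.toAlgHom k k' K') (IsScalarTower.toAlgHom k K K')))
    (hK : FunFld.IsFunctionField k K)
    (P : FunFld.Place k K) [Algebra P.O K'] [IsScalarTower P.O K K']
    (hns : (integralClosure P.O K').toSubring =
      (Algebra.adjoin P.O (Set.range (algebraMap k' K'))).toSubring)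
    (Q : FunFld.Place k K') [P.1.HasExtension Q.1] (hk' : ∀ c : k', Q.1 (algebraMap k' K' c) ≤ 1) :
    Algebra.adjoin (IsLocalRing.ResidueField P.O)
      (Set.range fun c : k' => IsLocalRing.residue Q.O ⟨algebraMap k' K' c, hk' c⟩) = ⊤ := by
  classical
  haveI : FiniteDimensional K K' := finite_of_productMap_surjective h.2
  have hQP : FunFld.IsOver Q P := isOver_of_hasExtension hK P Q
  rw [eq_top_iff]
  rintro ξ -
  obtain ⟨z, rfl⟩ := IsLocalRing.residue_surjective ξ
  have hfin := (finite_isOver_and_sum_ramIdx_mul_deg (K' := K') hK P).1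
  obtain ⟨w, hw⟩ := exists_approx hfin.toFinset (fun Q' => if Q' = Q then (z : K') else 0) 1
  have hexp : WithZero.exp (-((1 : ℕ) : ℤ)) < (1 : WithZero (Multiplicative ℤ)) := by
    rw [← WithZero.exp_zero, WithZero.exp_lt_exp]; norm_num
  have hwQ : Q.1 (w - z) < 1 := by
    have := hw Q (by rw [Set.Finite.mem_toFinset]; exact hQP)
    rw [if_pos rfl] at this
    exact lt_of_le_of_lt this hexp
  have hwI : w ∈ intAbove (K' := K') P := by
    intro Q' hQ'
    by_cases hQQ : Q' = Q
    · subst hQQ
      have : w = (w - z) + z := by ring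
      rw [this]
      exact (Q'.1.map_add _ _).trans (max_le hwQ.le z.2)
    · have := hw Q' (by rw [Set.Finite.mem_toFinset]; exact hQ')
      rw [if_neg hQQ, sub_zero] at this
      exact this.trans hexp.le
  have hwA : w ∈ Algebra.adjoin P.O (Set.range (algebraMap k' K')) := by
    have h1 : w ∈ integralClosure P.O K' := by
      rw [integralClosure_eq_intAbove P hK]; exact hwI
    have h2 : w ∈ (integralClosure P.O K').toSubring := h1
    rw [hns] at h2
    exact h2
  have hwQ1 : Q.1 w ≤ 1 := hwI Q hQP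
  have hres : IsLocalRing.residue Q.O z = IsLocalRing.residue Q.O ⟨w, hwQ1⟩ := by
    rw [← sub_eq_zero, ← map_sub, residue_eq_zero_iff]
    change Q.1 ((z : K') - w) < 1
    rw [← Valuation.map_neg, neg_sub]
    exact hwQ
  rw [hres]
  set T := Algebra.adjoin (IsLocalRing.ResidueField P.O)
      (Set.range fun c : k' => IsLocalRing.residue Q.O ⟨algebraMap k' K' c, hk' c⟩) with hT
  have key : ∀ w : K', w ∈ Algebra.adjoin P.O (Set.range (algebraMap k' K')) →
      ∃ hw : Q.1 w ≤ 1, IsLocalRing.residue Q.O ⟨w, hw⟩ ∈ T := by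
    intro w hw
    refine Algebra.adjoin_induction
      (p := fun w _ => ∃ hw : Q.1 w ≤ 1, IsLocalRing.residue Q.O ⟨w, hw⟩ ∈ T) ?_ ?_ ?_ ?_ hw
    · rintro _ ⟨c, rfl⟩
      exact ⟨hk' c, Algebra.subset_adjoin ⟨c, rfl⟩⟩
    · intro r
      have h1 : algebraMap P.O K' r = algebraMap K K' (r : K) := by
        rw [IsScalarTower.algebraMap_apply P.O K K']; rfl
      have h2 : Q.1 (algebraMap P.O K' r) ≤ 1 := by
        rw [h1]; exact (Valuation.HasExtension.val_map_le_one_iff P.1 Q.1 _).2 r.2
      refine ⟨h2, ?_⟩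
      have h3 : (⟨algebraMap P.O K' r, h2⟩ : Q.O) = algebraMap P.O Q.O r := by
        apply Subtype.ext
        rw [Valuation.HasExtension.coe_algebraMap_valuationSubring_eq]
        exact h1
      rw [h3, ← Valuation.HasExtension.algebraMap_residue_eq_residue_algebraMap]
      exact Subalgebra.algebraMap_mem _ _
    · rintro x y _ _ ⟨hx, hx'⟩ ⟨hy, hy'⟩
      refine ⟨(Q.1.map_add _ _).trans (max_le hx hy), ?_⟩
      have : (⟨x + y, (Q.1.map_add _ _).trans (max_le hx hy)⟩ : Q.O) = ⟨x, hx⟩ + ⟨y, hy⟩ := rfl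
      rw [this, map_add]
      exact T.add_mem hx' hy'
    · rintro x y _ _ ⟨hx, hx'⟩ ⟨hy, hy'⟩
      have hxy : Q.1 (x * y) ≤ 1 := by rw [map_mul]; exact mul_le_one' hx hy
      refine ⟨hxy, ?_⟩
      have : (⟨x * y, hxy⟩ : Q.O) = ⟨x, hx⟩ * ⟨y, hy⟩ := rfl
      rw [this, map_mul]
      exact T.mul_mem hx' hy'
  obtain ⟨_, hmem⟩ := key w hwA
  exact hmem

end ResFieldNonsing

end Groth.Agent.Lib.H40FunFld
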