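/-
`v_Q(f'(s)) = d(Q|P)` when the minimal polynomial `f` of a local parameter `s` at `Q` is integral at
`P` with constant term a local parameter at `P`; application to places of residue degree one.
-/
import Groth.Agent.Lib.H40FunFldTotRam
import Groth.Agent.Lib.H40FunFldNorm
import Groth.Agent.Lib.H40FunFldKummer
import Groth.Agent.Lib.H40FunFldResFieldNonsing
import Mathlib.RingTheory.Norm.Transitivity
import Mathlib.FieldTheory.Minpoly.IsIntegrallyClosed

set_option autoImplicit false
set_option linter.style.haveILetI false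
set_option linter.unusedSectionVars false
open FunFld Polynomial

namespace Groth.Agent.Lib.H40FunFldDiffMinpoly

open Groth.Agent.Lib.H40QuotChain IntermediateField Groth.Agent.Lib.H40FunFld
  Groth.Agent.Lib.H40FunFldNorm

universe u v w

section Deriv

variable {k : Type u} [Field k] {K : Type v} [Field K] [Algebra k K]
  {K' : Type v} [Field K'] [Algebra K K'] [Algebra k K'] [IsScalarTower k K K']
  {F : Type w} [Field F] [Algebra k F] {F' : Type w} [Field F'] [Algebra k F']

/-- `v_Q(f'(s)) = d(Q|P)` for a local parameter `s` at `Q` whose minimal polynomial `f` over `K` has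
coefficients integral at `P` and constant term a local parameter at `P`. -/
theorem ord_derivative_minpoly_eq_diffExp_of_coeff [FiniteDimensional K K']
    (hK : FunFld.IsFunctionField k K) (hg : FunFld.IsGeometric k K)
    {P : FunFld.Place k K} {Q : FunFld.Place k K'} {e : ℕ} (he : FunFld.IsOverWith Q P e)
    (φ : K →ₐ[k] LaurentSeries F) (hφ : LocRes.IsExpansionAt P.1 φ)
    (ψ : K' →ₐ[k] LaurentSeries F') (hψ : LocRes.IsExpansionAt Q.1 ψ) (x : K)
    (hx : LocRes.vDiff φ 1 x ≠ 0) (hx' : LocRes.vDiff ψ 1 (algebraMap K K' x) ≠ 0)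
    {s : K'} (hs : Q.1 s = WithZero.exp (-1 : ℤ))
    (hc0 : P.1 ((minpoly K s).coeff 0) = WithZero.exp (-1 : ℤ))
    (hcint : ∀ i, P.1 ((minpoly K s).coeff i) ≤ 1) :
    Q.ord (aeval s (derivative (minpoly K s))) = LocRes.diffExp φ ψ e x := by
  classical
  obtain ⟨t, ht⟩ := hφ.2.2
  obtain ⟨hDφ, hDT0, hdiff⟩ := diffExp_eq_neg_log_of_uniformizer hK hg he φ hφ ψ hψ x hx hx' ht
  rw [hdiff]
  have hint : IsIntegral K s := Algebra.IsIntegral.isIntegral s
  have hroot := minpoly.aeval K s
  have hDt : KaehlerDifferential.D k K t ≠ 0 := by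
    intro h0
    have h1 := D_expansion_eq φ (x := t) (x₀ := t) (a := 0) (by rw [h0, zero_smul])
    rw [map_zero, zero_mul] at h1
    rw [h1, map_zero] at hDφ
    exact zero_ne_one hDφ
  obtain ⟨htr, hsep⟩ := isSeparable_adjoin_of_D_ne_zero hK hg hDt
  choose da hda using fun a : K =>
    exists_eq_smul_D_of_isSeparable_adjoin htr (KaehlerDifferential.D k K a)
  have hda_int : ∀ a : K, P.1 a ≤ 1 → P.1 (da a) ≤ 1 := by
    intro a ha
    have h1 := D_expansion_eq φ (hda a)
    have h2 : Valued.v (LocRes.D F (φ a)) ≤ 1 := valuation_D_le_one (by rw [hφ.1]; exact ha)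
    rw [h1, map_mul, hDφ, mul_one, hφ.1] at h2
    exact h2
  have hda0 : P.1 (da ((minpoly K s).coeff 0)) = 1 := by
    have h1 := D_expansion_eq φ (hda ((minpoly K s).coeff 0))
    have h2 : Valued.v (LocRes.D F (φ ((minpoly K s).coeff 0))) = 1 := by
      have h3 : Valued.v (φ ((minpoly K s).coeff 0)) = WithZero.exp (-(1 : ℤ)) := by
        rw [hφ.1, hc0]
      have := valuation_D_of_cast_ne_zero h3 (by simp)
      simpa using this
    rw [h1, map_mul, hDφ, mul_one, hφ.1] at h2
    exact h2
  -- the derivative identity in `F'((X))`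
  have hid := derivation_eval₂ (fun a => LocRes.D F' a) (fun a b => map_add _ a b)
    (fun a b => by simp only [Derivation.leibniz, smul_eq_mul])
    ((ψ : K' →+* LaurentSeries F').comp (algebraMap K K')) (ψ s) (minpoly K s)
  have hev : ∀ p : K[X],
      p.eval₂ ((ψ : K' →+* LaurentSeries F').comp (algebraMap K K')) (ψ s) = ψ (aeval s p) := by
    intro p
    rw [aeval_def]
    exact (Polynomial.hom_eval₂ p (algebraMap K K') (ψ : K' →+* LaurentSeries F') s).symm
  rw [hev, hev, hroot, map_zero, map_zero] at hid
  have hδg : ∀ a : K, LocRes.D F' (ψ (algebraMap K K' a)) =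
      ψ (algebraMap K K' (da a)) * LocRes.D F' (ψ (algebraMap K K' t)) := by
    intro a
    exact D_expansion_eq (ψ.comp (IsScalarTower.toAlgHom k K K')) (hda a)
  have hsum : ((minpoly K s).sum fun i a =>
      LocRes.D F' (((ψ : K' →+* LaurentSeries F').comp (algebraMap K K')) a) * ψ s ^ i) =
      LocRes.D F' (ψ (algebraMap K K' t)) *
        ψ ((minpoly K s).sum fun i a => algebraMap K K' (da a) * s ^ i) := by
    rw [Polynomial.sum_def, Polynomial.sum_def, map_sum, Finset.mul_sum]
    refine Finset.sum_congr rfl fun i _ => ?_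
    change LocRes.D F' (ψ (algebraMap K K' _)) * ψ s ^ i = _
    rw [hδg, map_mul, map_pow]
    ring
  rw [hsum] at hid
  -- valuations
  have hvS : Valued.v (LocRes.D F' (ψ s)) = 1 := by
    have h3 : Valued.v (ψ s) = WithZero.exp (-(1 : ℤ)) := by rw [hψ.1, hs]
    have := valuation_D_of_cast_ne_zero h3 (by simp)
    simpa using this
  have hG : Q.1 ((minpoly K s).sum fun i a => algebraMap K K' (da a) * s ^ i) = 1 := by
    rw [Polynomial.sum_def]
    have hc0ne : (minpoly K s).coeff 0 ≠ 0 := by
      intro h
      rw [h, map_zero] at hc0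
      exact WithZero.exp_ne_zero hc0.symm
    have h0mem : 0 ∈ (minpoly K s).support := Polynomial.mem_support_iff.2 hc0ne
    rw [← Finset.add_sum_erase _ _ h0mem]
    have hterm0 : Q.1 (algebraMap K K' (da ((minpoly K s).coeff 0)) * s ^ 0) = 1 := by
      rw [pow_zero, mul_one, he, hda0, one_pow]
    rw [Valuation.map_add_eq_of_lt_left, hterm0]
    rw [hterm0]
    apply Valuation.map_sum_lt _ one_ne_zero
    intro i hi
    have hi0 : i ≠ 0 := Finset.ne_of_mem_erase hi
    rw [map_mul, map_pow, he, hs]
    calc P.1 (da ((minpoly K s).coeff i)) ^ e * WithZero.exp (-1 : ℤ) ^ i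
        ≤ 1 * WithZero.exp (-1 : ℤ) ^ i :=
          mul_le_mul' (pow_le_one' (hda_int _ (hcint i)) e) le_rfl
      _ < 1 := by
          rw [one_mul, ← WithZero.exp_nsmul, ← WithZero.exp_zero, WithZero.exp_lt_exp]
          simp only [nsmul_eq_mul]
          have : (1 : ℤ) ≤ i := by omega
          linarith
  have hval : Valued.v (ψ (aeval s (derivative (minpoly K s)))) * Valued.v (LocRes.D F' (ψ s)) =
      Valued.v (LocRes.D F' (ψ (algebraMap K K' t))) *
        Valued.v (ψ ((minpoly K s).sum fun i a => algebraMap K K' (da a) * s ^ i)) := by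
    rw [← map_mul, ← map_mul]
    have h5 : ψ (aeval s (derivative (minpoly K s))) * LocRes.D F' (ψ s) =
        -(LocRes.D F' (ψ (algebraMap K K' t)) *
          ψ ((minpoly K s).sum fun i a => algebraMap K K' (da a) * s ^ i)) := by
      exact eq_neg_of_add_eq_zero_right hid.symm
    rw [h5, Valuation.map_neg]
  rw [hvS, mul_one, hψ.1, hψ.1, hG, mul_one] at hval
  unfold FunFld.Place.ord
  rw [hval]

end Deriv


section ResDegOne

variable {k : Type u} [Field k] {K : Type v} [Field K] [Algebra k K]
  {K' : Type w} [Field K'] [Algebra K K'] [Algebra k K'] [IsScalarTower k K K']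

/-- Residue degree one: the degrees over `k` agree. -/
theorem deg_eq_of_residue_surjective (P : FunFld.Place k K) (Q : FunFld.Place k K')
    [P.1.HasExtension Q.1]
    (hf : Function.Surjective
      (algebraMap (IsLocalRing.ResidueField P.O) (IsLocalRing.ResidueField Q.O))) :
    Q.deg = P.deg := by
  have hbij : Function.Bijective
      (algebraMap (IsLocalRing.ResidueField P.O) (IsLocalRing.ResidueField Q.O)) :=
    ⟨(algebraMap (IsLocalRing.ResidueField P.O) (IsLocalRing.ResidueField Q.O)).injective, hf⟩
  have e3 : ∀ c : k, algebraMap (IsLocalRing.ResidueField P.O) (IsLocalRing.ResidueField Q.O)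
      (algebraMap k (IsLocalRing.ResidueField P.O) c) =
      algebraMap k (IsLocalRing.ResidueField Q.O) c := by
    intro c
    change algebraMap (IsLocalRing.ResidueField P.O) (IsLocalRing.ResidueField Q.O)
      (IsLocalRing.residue P.O (algebraMap k P.O c)) =
      IsLocalRing.residue Q.O (algebraMap k Q.O c)
    rw [Valuation.HasExtension.algebraMap_residue_eq_residue_algebraMap]
    congr 1
    apply Subtype.ext
    rw [Valuation.HasExtension.coe_algebraMap_valuationSubring_eq]
    exact (IsScalarTower.algebraMap_apply k K K' c).symm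
  let g : IsLocalRing.ResidueField P.O →ₗ[k] IsLocalRing.ResidueField Q.O :=
    { toFun := algebraMap (IsLocalRing.ResidueField P.O) (IsLocalRing.ResidueField Q.O)
      map_add' := map_add _
      map_smul' := fun c y => by
        have e1 : c • y = algebraMap k (IsLocalRing.ResidueField P.O) c * y := Algebra.smul_def c y
        have e2 : ∀ z : IsLocalRing.ResidueField Q.O,
            c • z = algebraMap k (IsLocalRing.ResidueField Q.O) c * z :=
          fun z => Algebra.smul_def c z
        exact (congrArg _ e1).trans ((map_mul _ _ _).trans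
          ((congrArg (· * _) (e3 c)).trans (e2 _).symm)) }
  exact (LinearEquiv.ofBijective g hbij).finrank_eq.symm


/-- The minimal polynomial over `K` of an element integral at all places above `P` has coefficients
integral at `P`. -/
theorem coeff_minpoly_le_one [FiniteDimensional K K'] (hK : FunFld.IsFunctionField k K)
    (P : FunFld.Place k K) (s : K')
    (hs : ∀ Q' : FunFld.Place k K', FunFld.IsOver Q' P → Q'.1 s ≤ 1) (i : ℕ) :
    P.1 ((minpoly K s).coeff i) ≤ 1 := by
  letI : Algebra P.O K' := ((algebraMap K K').comp (algebraMap P.O K)).toAlgebra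
  haveI : IsScalarTower P.O K K' := IsScalarTower.of_algebraMap_eq (fun _ => rfl)
  have hmem : s ∈ integralClosure P.O K' := by
    rw [integralClosure_eq_intAbove P hK, mem_intAbove_iff]; exact hs
  have hint : IsIntegral P.O s := hmem
  have h := minpoly.isIntegrallyClosed_eq_field_fractions' K hint
  rw [h, Polynomial.coeff_map]
  exact ((minpoly P.O s).coeff i).2

theorem ord_eq_of_val_eq (P : FunFld.Place k K) {x y : K} (h : P.1 x = P.1 y) :
    P.ord x = P.ord y := by
  unfold FunFld.Place.ord; rw [h]

/-- A local parameter at a place `Q | P` of residue degree one that is a unit at the other places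
above `P` has minimal polynomial of full degree with constant term a local parameter at `P`. -/
theorem natDegree_minpoly_and_coeff_zero [FiniteDimensional K K'] (hK : FunFld.IsFunctionField k K)
    (P : FunFld.Place k K) (Q : FunFld.Place k K') [P.1.HasExtension Q.1]
    (hf : Function.Surjective
      (algebraMap (IsLocalRing.ResidueField P.O) (IsLocalRing.ResidueField Q.O)))
    (s : K') (hs : Q.1 s = WithZero.exp (-1 : ℤ))
    (hs' : ∀ Q' : FunFld.Place k K', FunFld.IsOver Q' P → Q' ≠ Q → Q'.1 s = 1) :
    (minpoly K s).natDegree = Module.finrank K K' ∧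
      P.1 ((minpoly K s).coeff 0) = WithZero.exp (-1 : ℤ) := by
  classical
  have hQP : FunFld.IsOver Q P := isOver_of_hasExtension hK P Q
  have hfin := (finite_isOver_and_sum_ramIdx_mul_deg (K' := K') hK P).1
  have hQs : ∀ Q', Q' ∈ hfin.toFinset ↔ FunFld.IsOver Q' P := fun Q' => by
    rw [Set.Finite.mem_toFinset]; rfl
  have hs0 : s ≠ 0 := by
    intro h0
    rw [h0, map_zero] at hs
    exact WithZero.exp_ne_zero hs.symm
  have hN : (P.deg : ℤ) * P.ord (Algebra.norm K s) =
      ∑ Q' ∈ hfin.toFinset, (Q'.deg : ℤ) * Q'.ord s := by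
    letI : Algebra P.O K' := ((algebraMap K K').comp (algebraMap P.O K)).toAlgebra
    haveI : IsScalarTower P.O K K' := IsScalarTower.of_algebraMap_eq (fun _ => rfl)
    haveI : IsScalarTower k P.O K' := IsScalarTower.of_algebraMap_eq (fun c => by
      rw [algebraMap_O_apply, IsScalarTower.algebraMap_apply k K K']; rfl)
    exact norm_formula hK P hfin.toFinset hQs s
  have hsum : ∑ Q' ∈ hfin.toFinset, (Q'.deg : ℤ) * Q'.ord s = (Q.deg : ℤ) := by
    rw [Finset.sum_eq_single Q]
    · have : Q.ord s = 1 := by
        unfold FunFld.Place.ord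
        rw [hs, WithZero.log_exp]; simp
      rw [this, mul_one]
    · intro Q' hQ' hne
      have h1 := hs' Q' ((hQs Q').mp hQ') hne
      have : Q'.ord s = 0 := by
        unfold FunFld.Place.ord
        rw [h1, WithZero.log_one, neg_zero]
      rw [this, mul_zero]
    · intro hQ
      exact absurd ((hQs Q).mpr hQP) hQ
  rw [hsum, deg_eq_of_residue_surjective P Q hf] at hN
  have hdegpos : (0 : ℤ) < P.deg := by exact_mod_cast deg_pos hK P
  have hordN : P.ord (Algebra.norm K s) = 1 := by
    have : (P.deg : ℤ) * P.ord (Algebra.norm K s) = (P.deg : ℤ) * 1 := by rw [hN, mul_one]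
    exact mul_left_cancel₀ hdegpos.ne' this
  -- the norm through the minimal polynomial
  have hint : IsIntegral K s := Algebra.IsIntegral.isIntegral s
  have hnorm := Algebra.norm_eq_norm_adjoin K s
  have hgen : Algebra.norm K (AdjoinSimple.gen K s) =
      (-1) ^ (adjoin.powerBasis hint).dim * (minpoly K s).coeff 0 := by
    have := Algebra.PowerBasis.norm_gen_eq_coeff_zero_minpoly (adjoin.powerBasis hint)
    rw [adjoin.powerBasis_gen hint, minpoly_gen K s] at this
    exact this
  rw [hnorm, hgen, ord_pow'] at hordN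
  have hval : P.1 ((-1) ^ (adjoin.powerBasis hint).dim * (minpoly K s).coeff 0) =
      P.1 ((minpoly K s).coeff 0) := by
    rw [map_mul, map_pow, Valuation.map_neg, map_one, one_pow, one_mul]
  rw [ord_eq_of_val_eq P hval] at hordN
  have hr : (Module.finrank K⟮s⟯ K' : ℤ) = 1 ∧ P.ord ((minpoly K s).coeff 0) = 1 := by
    have h0 : (0 : ℤ) ≤ Module.finrank K⟮s⟯ K' := Int.natCast_nonneg _
    rcases Int.eq_one_or_neg_one_of_mul_eq_one' hordN with ⟨h1, h2⟩ | ⟨h1, h2⟩
    · exact ⟨h1, h2⟩
    · omega
  have hc0 : (minpoly K s).coeff 0 ≠ 0 := minpoly.coeff_zero_ne_zero hint hs0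
  refine ⟨?_, ?_⟩
  · have h1 := Module.finrank_mul_finrank K K⟮s⟯ K'
    have h2 : Module.finrank K⟮s⟯ K' = 1 := by exact_mod_cast hr.1
    rw [h2, mul_one, adjoin.finrank hint] at h1
    exact h1
  · rw [val_eq_exp_neg_ord P hc0, hr.2]

end ResDegOne

end Groth.Agent.Lib.H40FunFldDiffMinpoly
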