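import Groth.Agent.Lib.H40FunFldPurelyInsep
import Mathlib.RingTheory.Etale.Kaehler
import Mathlib.RingTheory.Etale.Field
import Mathlib.RingTheory.Kaehler.Polynomial
import Mathlib.FieldTheory.RatFunc.AsPolynomial

set_option autoImplicit false
set_option linter.style.haveILetI false
set_option linter.unusedSectionVars false
open FunFld Polynomial

namespace Groth.Agent.Lib.H40FunFld

open Groth.Agent.Lib.H40QuotChain IntermediateField

universe u v w

section PIExt

variable {k : Type u} [Field k] {K : Type v} [Field K] [Algebra k K] {K' : Type w} [Field K']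
  [Algebra K K'] [Algebra k K'] [IsScalarTower k K K'] [FiniteDimensional K K']
  [IsPurelyInseparable K K']

/-- In a finite purely inseparable extension, a place with separable residue field is totally
ramified: `[K' : K] = e`. -/
theorem finrank_eq_of_isPurelyInseparable_of_isSeparable_residue
    (hK : FunFld.IsFunctionField k K)
    {Q : FunFld.Place k K'} {P : FunFld.Place k K} {e : ℕ} (he : FunFld.IsOverWith Q P e)
    [Algebra.IsSeparable k (IsLocalRing.ResidueField ↥Q.O)] :
    Module.finrank K K' = e := by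
  classical
  obtain ⟨q, hq⟩ := ExpChar.exists k
  haveI : ExpChar K q := expChar_of_injective_algebraMap (algebraMap k K).injective q
  haveI : ExpChar (IsLocalRing.ResidueField ↥P.O) q :=
    expChar_of_injective_algebraMap (algebraMap k (IsLocalRing.ResidueField ↥P.O)).injective q
  have huniq : ∀ Q' : FunFld.Place k K', FunFld.IsOver Q' P → Q' = Q := by
    rintro Q' ⟨e', he'⟩
    refine place_eq_of_pow_mem (Set.range (algebraMap K K')) ?_ q (expChar_pos k q)
      (fun z => IsPurelyInseparable.pow_mem K q z)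
    rintro _ ⟨x, rfl⟩ hx
    exact (isOverWith_le_one_iff he x).2 ((isOverWith_le_one_iff he' x).1 hx)
  obtain ⟨-, hsum⟩ := finite_isOver_and_sum_ramIdx_mul_deg (K' := K') hK P
  have h1 := hsum {Q} (fun Q' => by
    rw [Finset.mem_singleton]
    exact ⟨fun h => h ▸ ⟨e, he⟩, huniq Q'⟩)
  rw [Finset.sum_singleton, ramIdx_eq he] at h1
  letI algPQ : Algebra (IsLocalRing.ResidueField ↥P.O) (IsLocalRing.ResidueField ↥Q.O) :=
    (residueMap he).toAlgebra
  haveI tower : IsScalarTower k (IsLocalRing.ResidueField ↥P.O) (IsLocalRing.ResidueField ↥Q.O) :=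
    IsScalarTower.of_algebraMap_eq (fun c => by
      change IsLocalRing.residue ↥Q.O (algebraMap k ↥Q.O c) =
        IsLocalRing.residue ↥Q.O (valRingMap he (algebraMap k ↥P.O c))
      congr 1
      apply Subtype.ext
      change algebraMap k K' c = algebraMap K K' (algebraMap k K c)
      rw [← IsScalarTower.algebraMap_apply])
  haveI hpi : IsPurelyInseparable (IsLocalRing.ResidueField ↥P.O)
      (IsLocalRing.ResidueField ↥Q.O) := by
    rw [isPurelyInseparable_iff_pow_mem (IsLocalRing.ResidueField ↥P.O) q]
    intro r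
    obtain ⟨z, rfl⟩ := IsLocalRing.residue_surjective r
    obtain ⟨n, y, hy⟩ := IsPurelyInseparable.pow_mem K q (z : K')
    have hyO : P.1 y ≤ 1 := by
      rw [← isOverWith_le_one_iff he, hy, map_pow]
      exact pow_le_one₀ zero_le z.2
    refine ⟨n, IsLocalRing.residue ↥P.O ⟨y, hyO⟩, ?_⟩
    change residueMap he (IsLocalRing.residue ↥P.O ⟨y, hyO⟩) = _
    rw [residueMap_residue, ← map_pow]
    congr 1
    apply Subtype.ext
    exact hy
  haveI hsep : Algebra.IsSeparable (IsLocalRing.ResidueField ↥P.O)
      (IsLocalRing.ResidueField ↥Q.O) :=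
    @Algebra.isSeparable_tower_top_of_isSeparable k (IsLocalRing.ResidueField ↥P.O) _
      (IsLocalRing.ResidueField ↥Q.O) _ _ _ _ _ tower _
  have hbij := IsPurelyInseparable.bijective_algebraMap_of_isSeparable
    (IsLocalRing.ResidueField ↥P.O) (IsLocalRing.ResidueField ↥Q.O)
  have hfr : Module.finrank (IsLocalRing.ResidueField ↥P.O) (IsLocalRing.ResidueField ↥Q.O) = 1 :=
    (LinearEquiv.ofBijective (Algebra.linearMap (IsLocalRing.ResidueField ↥P.O)
      (IsLocalRing.ResidueField ↥Q.O)) hbij).finrank_eq.symm.trans (Module.finrank_self _)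
  have hposQ := deg_pos_ext hK Q
  haveI finQ : Module.Finite k (IsLocalRing.ResidueField ↥Q.O) :=
    Module.finite_of_finrank_pos hposQ
  haveI finPQ : Module.Finite (IsLocalRing.ResidueField ↥P.O) (IsLocalRing.ResidueField ↥Q.O) :=
    @Module.Finite.of_restrictScalars_finite k (IsLocalRing.ResidueField ↥P.O)
      (IsLocalRing.ResidueField ↥Q.O) _ _ _ _ _ _ tower finQ
  have htow := @Module.finrank_mul_finrank k (IsLocalRing.ResidueField ↥P.O)
    (IsLocalRing.ResidueField ↥Q.O) _ _ _ _ _ _ tower _ _
  have hdeg : Q.deg = P.deg := by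
    unfold FunFld.Place.deg
    rw [← htow, hfr, mul_one]
  rw [hdeg] at h1
  exact (Nat.eq_of_mul_eq_mul_right (deg_pos hK P) h1).symm

end PIExt

section SubField

variable {k : Type u} [Field k] {K : Type v} [Field K] [Algebra k K] {L : Type w} [Field L]
  [Algebra k L] [Algebra L K] [IsScalarTower k L K]

/-- A subfield of a function field containing a transcendental element is a function field. -/
theorem isFunctionField_of_tower (hK : FunFld.IsFunctionField k K) {x : L}
    (hx : Transcendental k x) : FunFld.IsFunctionField k L := by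
  have htr : Transcendental k (algebraMap L K x) := by
    intro halg
    exact hx ((isAlgebraic_algebraMap_iff (algebraMap L K).injective).1 halg)
  refine ⟨⟨x, hx, ?_⟩, ?_⟩
  · have hfinK := finiteDimensional_adjoin_of_transcendental hK htr
    set f : L →ₐ[k] K := IsScalarTower.toAlgHom k L K with hf
    have hmap : (k⟮x⟯).map f = k⟮algebraMap L K x⟯ := by
      rw [adjoin_map, Set.image_singleton]; rfl
    let i : ↥k⟮x⟯ ≃+* ↥k⟮algebraMap L K x⟯ :=
      ((equivMap k⟮x⟯ f).trans (equivOfEq hmap)).toRingEquiv
    have hc : (algebraMap ↥k⟮algebraMap L K x⟯ K).comp i.toRingHom =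
        (RingEquiv.refl K).toRingHom.comp (algebraMap ↥k⟮x⟯ K) := by
      ext a
      rfl
    have heq := Algebra.finrank_eq_of_equiv_equiv i (RingEquiv.refl K) hc
    haveI : FiniteDimensional ↥k⟮x⟯ K := by
      apply Module.finite_of_finrank_pos
      rw [heq]
      exact Module.finrank_pos
    exact FiniteDimensional.left ↥k⟮x⟯ L K
  · intro y hy
    obtain ⟨c, hc⟩ := hK.2 (algebraMap L K y) hy.algebraMap
    refine ⟨c, (algebraMap L K).injective ?_⟩
    rw [← IsScalarTower.algebraMap_apply, hc]

end SubField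

section Unif

variable {k : Type u} [Field k] {K : Type v} [Field K] [Algebra k K]

/-- A local parameter at a place with separable residue field is a separating variable. -/
theorem isSeparable_adjoin_uniformizer (hK : FunFld.IsFunctionField k K) (P : FunFld.Place k K)
    [Algebra.IsSeparable k (IsLocalRing.ResidueField ↥P.O)] {t : K}
    (ht : P.1 t = WithZero.exp (-1 : ℤ)) : Algebra.IsSeparable ↥k⟮t⟯ K := by
  have ht0 : t ≠ 0 := by
    rintro rfl
    rw [map_zero] at ht
    exact WithZero.exp_ne_zero ht.symm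
  have hlt : P.1 t < 1 := by
    rw [ht, ← WithZero.exp_zero, WithZero.exp_lt_exp]
    norm_num
  have htr : Transcendental k t := transcendental_of_val_lt_one hK P ht0 hlt
  haveI hfd : FiniteDimensional ↥k⟮t⟯ K := finiteDimensional_adjoin_of_transcendental hK htr
  rw [← separableClosure.eq_top_iff, ← IntermediateField.finrank_eq_one_iff_eq_top]
  haveI : IsScalarTower k ↥(separableClosure ↥k⟮t⟯ K) K :=
    IsScalarTower.of_algebraMap_eq (fun c => rfl)
  have htmem : t ∈ separableClosure ↥k⟮t⟯ K :=
    IntermediateField.algebraMap_mem _ (⟨t, mem_adjoin_simple_self k t⟩ : ↥k⟮t⟯)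
  have htr' : Transcendental k (⟨t, htmem⟩ : ↥(separableClosure ↥k⟮t⟯ K)) := by
    intro halg
    exact htr (halg.algebraMap (A := K))
  have hL : FunFld.IsFunctionField k ↥(separableClosure ↥k⟮t⟯ K) :=
    isFunctionField_of_tower hK htr'
  obtain ⟨R, e, he⟩ := exists_isOverWith (K' := K) hL P
  have he1 : e = 1 := by
    have h1 := he ⟨t, htmem⟩
    have h2 : algebraMap ↥(separableClosure ↥k⟮t⟯ K) K ⟨t, htmem⟩ = t := rfl
    rw [h2, ht] at h1
    have hne : (⟨t, htmem⟩ : ↥(separableClosure ↥k⟮t⟯ K)) ≠ 0 := fun h => ht0 (congrArg Subtype.val h)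
    rw [val_eq_exp_log R hne, ← WithZero.exp_nsmul, WithZero.exp_inj] at h1
    simp only [nsmul_eq_mul] at h1
    have hdvd : (e : ℤ) ∣ 1 := ⟨-WithZero.log (R.1 ⟨t, htmem⟩), by rw [mul_neg, ← h1]; ring⟩
    have := Int.natCast_dvd_natCast.1 (by simpa using hdvd : ((e : ℕ) : ℤ) ∣ ((1 : ℕ) : ℤ))
    exact Nat.dvd_one.1 this
  rw [finrank_eq_of_isPurelyInseparable_of_isSeparable_residue hL he, he1]

end Unif

section Kaehler

variable {k : Type u} [Field k] {K : Type v} [Field K] [Algebra k K]

open scoped TensorProduct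
open KaehlerDifferential

/-- If `K/k(t)` is separable algebraic with `t` transcendental, then `dt ≠ 0`. -/
theorem D_ne_zero_of_isSeparable_adjoin {t : K} (htr : Transcendental k t)
    [Algebra.IsSeparable ↥k⟮t⟯ K] : KaehlerDifferential.D k K t ≠ 0 := by
  let e₁ : RatFunc k ≃ₐ[k] ↥k⟮t⟯ := RatFunc.algEquivOfTranscendental t htr
  letI alg1 : Algebra (RatFunc k) K :=
    ((algebraMap ↥k⟮t⟯ K).comp e₁.toAlgHom.toRingHom).toAlgebra
  haveI : IsScalarTower k (RatFunc k) K := IsScalarTower.of_algebraMap_eq (fun c => by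
    change algebraMap k K c = algebraMap ↥k⟮t⟯ K (e₁ (algebraMap k (RatFunc k) c))
    rw [e₁.commutes]; rfl)
  haveI : Algebra.IsSeparable (RatFunc k) K :=
    Algebra.IsSeparable.of_equiv_equiv e₁.symm.toRingEquiv (RingEquiv.refl K) (by
      ext a
      change algebraMap ↥k⟮t⟯ K (e₁ (e₁.symm a)) = algebraMap ↥k⟮t⟯ K a
      rw [e₁.apply_symm_apply])
  letI alg2 : Algebra k[X] K :=
    ((algebraMap (RatFunc k) K).comp (algebraMap k[X] (RatFunc k))).toAlgebra
  haveI : IsScalarTower k[X] (RatFunc k) K := IsScalarTower.of_algebraMap_eq (fun _ => rfl)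
  haveI : IsScalarTower k k[X] K := IsScalarTower.of_algebraMap_eq (fun c => by
    change algebraMap k K c =
      algebraMap (RatFunc k) K (algebraMap k[X] (RatFunc k) (algebraMap k k[X] c))
    rw [← IsScalarTower.algebraMap_apply k k[X] (RatFunc k),
      ← IsScalarTower.algebraMap_apply k (RatFunc k) K])
  haveI : Algebra.FormallyEtale k[X] (RatFunc k) :=
    Algebra.FormallyEtale.of_isLocalization (nonZeroDivisors k[X])
  haveI : Algebra.FormallyEtale (RatFunc k) K := Algebra.FormallyEtale.of_isSeparable (RatFunc k) K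
  haveI : Algebra.FormallyEtale k[X] K := Algebra.FormallyEtale.comp k[X] (RatFunc k) K
  have hX : algebraMap k[X] K X = t := by
    change algebraMap ↥k⟮t⟯ K (e₁ (algebraMap k[X] (RatFunc k) X)) = t
    rw [RatFunc.algebraMap_X]
    exact RatFunc.algEquivOfTranscendental_X t htr
  intro h0
  have h1 := tensorKaehlerEquivOfFormallyEtale_symm_D_algebraMap k k[X] K X
  rw [hX, h0, map_zero] at h1
  have h2 := congrArg (fun z => TensorProduct.rid k[X] K
    (LinearMap.lTensor K (polynomialEquiv k).toLinearMap z)) h1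
  simp only [map_zero, LinearMap.lTensor_tmul, LinearEquiv.coe_coe, polynomialEquiv_D,
    derivative_X, TensorProduct.rid_tmul, one_smul] at h2
  exact zero_ne_one h2

/-- In a function field of one variable, a local parameter at a place with separable residue field
has nonzero differential. -/
theorem D_uniformizer_ne_zero (hK : FunFld.IsFunctionField k K) (P : FunFld.Place k K)
    [Algebra.IsSeparable k (IsLocalRing.ResidueField ↥P.O)] {t : K}
    (ht : P.1 t = WithZero.exp (-1 : ℤ)) : KaehlerDifferential.D k K t ≠ 0 := by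
  have ht0 : t ≠ 0 := by
    rintro rfl
    rw [map_zero] at ht
    exact WithZero.exp_ne_zero ht.symm
  have hlt : P.1 t < 1 := by
    rw [ht, ← WithZero.exp_zero, WithZero.exp_lt_exp]
    norm_num
  have htr : Transcendental k t := transcendental_of_val_lt_one hK P ht0 hlt
  haveI := isSeparable_adjoin_uniformizer hK P ht
  exact D_ne_zero_of_isSeparable_adjoin htr

end Kaehler

end Groth.Agent.Lib.H40FunFld
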