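import Groth.Agent.Lib.H40FunFldTail
import Mathlib.FieldTheory.Differential.Basic
import Mathlib.FieldTheory.RatFunc.IntermediateField

set_option autoImplicit false
set_option linter.style.haveILetI false
open FunFld Polynomial

namespace Groth.Agent.Lib.H40FunFld

open Groth.Agent.Lib.H40QuotChain IntermediateField

universe u v w
variable {k : Type u} {K : Type v} [Field k] [Field K] [Algebra k K]

/-- In characteristic zero, a function field carries a `k`-derivation with `δ x = 1` for any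
transcendental `x`. -/
theorem exists_derivation_of_transcendental [CharZero k] (hK : FunFld.IsFunctionField k K)
    {x : K} (htr : Transcendental k x) : ∃ δ : Derivation k K K, δ x = 1 := by
  obtain ⟨δR, hδR⟩ := exists_derivation (K := RatFunc k) RatFunc.transcendental_X
    RatFunc.adjoin_X
  let e := RatFunc.algEquivOfTranscendental x htr
  letI iR : Differential (RatFunc k) :=
    ⟨@Derivation.mk' ℤ _ (RatFunc k) _ (Ring.toIntAlgebra (RatFunc k)) (RatFunc k) _ _ _
      ((δR : RatFunc k →ₗ[k] RatFunc k).toAddMonoidHom.toIntLinearMap)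
      (fun a b => Derivation.leibniz δR a b)⟩
  letI iF : Differential ↥k⟮x⟯ := Differential.equiv e.symm.toRingEquiv
  haveI : FiniteDimensional ↥k⟮x⟯ K := finiteDimensional_adjoin_of_transcendental hK htr
  haveI : CharZero ↥k⟮x⟯ := charZero_of_injective_algebraMap (algebraMap k ↥k⟮x⟯).injective
  letI iK : Differential K := Differential.differentialFiniteDimensional ↥k⟮x⟯ K
  haveI : DifferentialAlgebra ↥k⟮x⟯ K := Differential.differentialAlgebraFiniteDimensional
  let δ₀ : Derivation ℤ K K := Differential.deriv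
  have hF2 : ∀ a : ↥k⟮x⟯, (Differential.deriv a : ↥k⟮x⟯) = e (δR (e.symm a)) := fun a => rfl
  have hF : ∀ a : ↥k⟮x⟯, δ₀ (algebraMap ↥k⟮x⟯ K a) =
      algebraMap ↥k⟮x⟯ K (e (δR (e.symm a))) := by
    intro a
    rw [← hF2]
    exact DifferentialAlgebra.deriv_algebraMap (B := K) a
  have hc : ∀ c : k, δ₀ (algebraMap k K c) = 0 := by
    intro c
    have : algebraMap k K c = algebraMap ↥k⟮x⟯ K (algebraMap k ↥k⟮x⟯ c) := rfl
    rw [this, hF, AlgEquiv.commutes, Derivation.map_algebraMap, map_zero, map_zero]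
  have hx : δ₀ x = 1 := by
    have : x = algebraMap ↥k⟮x⟯ K (AdjoinSimple.gen k x) := rfl
    rw [this, hF]
    have h1 : e.symm (AdjoinSimple.gen k x) = RatFunc.X :=
      RatFunc.algEquivOfTranscendental_symm_gen x htr
    rw [h1, hδR, map_one, map_one]
  let δl : K →ₗ[k] K :=
    { toFun := fun z => δ₀ z
      map_add' := fun a b => map_add δ₀ a b
      map_smul' := fun c z => by
        simp only [Algebra.smul_def, RingHom.id_apply]
        rw [Derivation.leibniz, hc]
        simp }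
  refine ⟨Derivation.mk' δl ?_, hx⟩
  intro a b
  exact Derivation.leibniz δ₀ a b


/-- Short Weierstrass model `y² = h(x)` of a function field of genus one, with point at infinity
`P₀`. -/
structure IsShortWeierstrass (P₀ : FunFld.Place k K) (x y : K) (h : k[X]) : Prop where
  hx : x ∈ FunFld.L (Finsupp.single P₀ 2 : FunFld.Divisor k K)
  hy : y ∈ FunFld.L (Finsupp.single P₀ 3 : FunFld.Divisor k K)
  ordx : P₀.ord x = -2
  ordy : P₀.ord y = -3
  top : IntermediateField.adjoin k ({x, y} : Set K) = ⊤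
  deg : h.natDegree = 3
  rel : y ^ 2 = aeval x h

theorem exists_isShortWeierstrass [CharZero k] (hK : FunFld.IsFunctionField k K)
    (hg : FunFld.genus k K = 1) (P₀ : FunFld.Place k K) (hP : P₀.deg = 1) :
    ∃ (x y : K) (h : k[X]), IsShortWeierstrass P₀ x y h := by
  obtain ⟨x, y, hx, hy, ox, oy, htop, f, g, hf, hg3, hrel⟩ := weierstrass_form hK hg P₀ hP
  have vx : P₀.1 x = WithZero.exp (2 : ℤ) := val_of_ord_eq P₀ (by norm_num) ox
  have vy : P₀.1 y = WithZero.exp (3 : ℤ) := val_of_ord_eq P₀ (by norm_num) oy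
  have hxQ : ∀ Q : FunFld.Place k K, Q ≠ P₀ → Q.1 x ≤ 1 := ((mem_L_single_iff _ _ _).1 hx).2
  have hyQ : ∀ Q : FunFld.Place k K, Q ≠ P₀ → Q.1 y ≤ 1 := ((mem_L_single_iff _ _ _).1 hy).2
  obtain ⟨a₁, a₀, rfl⟩ := Polynomial.exists_eq_X_add_C_of_natDegree_le_one hf
  set c : K := algebraMap k K (1 / 2) * (algebraMap k K a₁ * x + algebraMap k K a₀) with hc
  have hcP : P₀.1 c ≤ WithZero.exp (2 : ℤ) := by
    rw [hc, map_mul]
    have h1 : P₀.1 (algebraMap k K a₁ * x + algebraMap k K a₀) ≤ WithZero.exp (2 : ℤ) := by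
      refine le_trans (Valuation.map_add _ _ _) (max_le ?_ ?_)
      · rw [map_mul, vx]
        calc P₀.1 (algebraMap k K a₁) * WithZero.exp (2 : ℤ) ≤ 1 * WithZero.exp (2 : ℤ) :=
              mul_le_mul' (val_algebraMap_le P₀ a₁) le_rfl
          _ = WithZero.exp (2 : ℤ) := one_mul _
      · refine le_trans (val_algebraMap_le P₀ a₀) ?_
        rw [← WithZero.exp_zero, WithZero.exp_le_exp]; norm_num
    calc P₀.1 (algebraMap k K (1 / 2)) * P₀.1 (algebraMap k K a₁ * x + algebraMap k K a₀)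
        ≤ 1 * WithZero.exp (2 : ℤ) := mul_le_mul' (val_algebraMap_le P₀ _) h1
      _ = WithZero.exp (2 : ℤ) := one_mul _
  have hcQ : ∀ Q : FunFld.Place k K, Q ≠ P₀ → Q.1 c ≤ 1 := by
    intro Q hQ
    rw [hc, map_mul]
    have h1 : Q.1 (algebraMap k K a₁ * x + algebraMap k K a₀) ≤ 1 := by
      refine le_trans (Valuation.map_add _ _ _) (max_le ?_ (val_algebraMap_le Q a₀))
      rw [map_mul]
      exact mul_le_one' (val_algebraMap_le Q a₁) (hxQ Q hQ)
    exact mul_le_one' (val_algebraMap_le Q _) h1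
  have hclt : P₀.1 c < P₀.1 y := by
    rw [vy]; refine lt_of_le_of_lt hcP ?_
    rw [WithZero.exp_lt_exp]; norm_num
  have vy1 : P₀.1 (y + c) = WithZero.exp (3 : ℤ) := by
    rw [Valuation.map_add_eq_of_lt_left _ hclt, vy]
  refine ⟨x, y + c, C (1 / 4) * (C a₁ * X + C a₀) ^ 2 - g, ⟨hx, ?_, ox, ?_, ?_, ?_, ?_⟩⟩
  · rw [mem_L_single_iff]
    refine ⟨vy1.le, fun Q hQ => ?_⟩
    exact le_trans (Valuation.map_add _ _ _) (max_le (hyQ Q hQ) (hcQ Q hQ))
  · rw [FunFld.Place.ord, vy1, WithZero.log_exp]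
  · -- generation
    rw [eq_top_iff, ← htop, IntermediateField.adjoin_le_iff]
    intro z hz
    have hxm : x ∈ IntermediateField.adjoin k ({x, y + c} : Set K) :=
      IntermediateField.subset_adjoin k _ (by simp)
    have hym : y + c ∈ IntermediateField.adjoin k ({x, y + c} : Set K) :=
      IntermediateField.subset_adjoin k _ (by simp)
    have hcm : c ∈ IntermediateField.adjoin k ({x, y + c} : Set K) := by
      rw [hc]
      refine mul_mem (IntermediateField.algebraMap_mem _ _)
        (add_mem (mul_mem (IntermediateField.algebraMap_mem _ _) hxm)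
          (IntermediateField.algebraMap_mem _ _))
    rcases hz with hz | hz
    · rw [hz]; exact hxm
    · have : z = (y + c) - c := by rw [hz]; ring
      rw [this]; exact sub_mem hym hcm
  · rw [Polynomial.natDegree_sub_eq_right_of_natDegree_lt, hg3]
    rw [hg3]
    refine lt_of_le_of_lt (Polynomial.natDegree_C_mul_le _ _) ?_
    refine lt_of_le_of_lt (Polynomial.natDegree_pow_le) ?_
    have : (C a₁ * X + C a₀ : k[X]).natDegree ≤ 1 := hf
    omega
  · simp only [map_sub, map_mul, map_pow, map_add, aeval_C, aeval_X]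
    have h4 : algebraMap k K (1 / 4) = algebraMap k K (1 / 2) * algebraMap k K (1 / 2) := by
      rw [← map_mul]; norm_num
    simp only [map_add, map_mul, aeval_C, aeval_X] at hrel
    have h2 : algebraMap k K (1 / 2) * 2 = 1 := by
      rw [show (2 : K) = algebraMap k K 2 from (map_ofNat (algebraMap k K) 2).symm, ← map_mul]; norm_num
    rw [h4]
    linear_combination hrel + (y * algebraMap k K a₁ * x + y * algebraMap k K a₀) * h2


theorem val_aeval_le_exp (P : FunFld.Place k K) {x : K} {N : ℤ} (hN : 0 ≤ N)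
    (hx : P.1 x ≤ WithZero.exp N) (p : k[X]) :
    P.1 (aeval x p) ≤ WithZero.exp (N * p.natDegree) := by
  rw [aeval_eq_sum_range]
  apply Valuation.map_sum_le
  intro i hi
  rw [Finset.mem_range] at hi
  rw [Algebra.smul_def, map_mul, map_pow]
  calc P.1 (algebraMap k K (p.coeff i)) * P.1 x ^ i ≤ 1 * WithZero.exp N ^ i :=
        mul_le_mul' (val_algebraMap_le P _) (pow_le_pow_left' hx i)
    _ = WithZero.exp (N * i) := by
        rw [one_mul, ← WithZero.exp_nsmul]; congr 1; simp [mul_comm]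
    _ ≤ WithZero.exp (N * p.natDegree) := by
        rw [WithZero.exp_le_exp]
        apply mul_le_mul_of_nonneg_left _ hN
        exact_mod_cast Nat.lt_succ_iff.1 hi

theorem val_natCast_le_one (P : FunFld.Place k K) (n : ℕ) : P.1 ((n : ℕ) : K) ≤ 1 := by
  have : ((n : ℕ) : K) = algebraMap k K (n : k) := by simp
  rw [this]; exact val_algebraMap_le P _

theorem exists_derivation_weierstrass [CharZero k] (hK : FunFld.IsFunctionField k K)
    {P₀ : FunFld.Place k K} {x y : K} {h : k[X]} (hw : IsShortWeierstrass P₀ x y h) :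
    ∃ δ : Derivation k K K, δ x = 2 * y ∧ δ y = aeval x (derivative h) := by
  have htr : Transcendental k x :=
    transcendental_of_ord_ne_zero hK (P := P₀) (by rw [hw.ordx]; omega)
  obtain ⟨δ₀, hδ₀⟩ := exists_derivation_of_transcendental hK htr
  refine ⟨(2 * y) • δ₀, ?_, ?_⟩
  · rw [Derivation.smul_apply, hδ₀, smul_eq_mul, mul_one]
  · have h1 := congrArg δ₀ hw.rel
    rw [Derivation.leibniz_pow, Derivation.map_aeval, hδ₀] at h1
    simp only [smul_eq_mul, mul_one, pow_one, Nat.add_one_sub_one, nsmul_eq_mul,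
      Nat.cast_ofNat] at h1
    rw [Derivation.smul_apply, smul_eq_mul, ← h1]
    ring


/-- On a curve of genus one, every function regular at `R ≠ P₀` has a denominator regular
outside `P₀` and not vanishing at `R`. -/
theorem exists_denominator [IsAlgClosed k] (hK : FunFld.IsFunctionField k K)
    (hg1 : FunFld.genus k K = 1) (P₀ : FunFld.Place k K) (z : K) {R : FunFld.Place k K}
    (hR : R ≠ P₀) (hzR : R.1 z ≤ 1) :
    ∃ (n : ℕ) (s : K), 2 ≤ n ∧
      s ∈ FunFld.L (Finsupp.single P₀ (n : ℤ) : FunFld.Divisor k K) ∧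
      z * s ∈ FunFld.L (Finsupp.single P₀ (n : ℤ) : FunFld.Divisor k K) ∧ R.1 s = 1 := by
  classical
  have hpd := poleDiv_nonneg (k := k) z
  obtain ⟨N, hN⟩ : ∃ N : ℕ, (poleDiv (k := k) z).deg = N :=
    ⟨_, (Int.toNat_of_nonneg (deg_nonneg hpd)).symm⟩
  set n := N + 2 with hn
  set E : FunFld.Divisor k K := Finsupp.single P₀ (n : ℤ) - poleDiv z with hE
  have hdegE : E.deg = 2 := by
    rw [hE, deg_sub, deg_single, deg_eq_one_of_isAlgClosed hK P₀, hN, hn]; push_cast; ring
  have hdegE' : (E - Finsupp.single R (1 : ℤ)).deg = 1 := by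
    rw [deg_sub, hdegE, deg_single, deg_eq_one_of_isAlgClosed hK R]; norm_num
  have hl1 := ell_eq_of_deg_ge hK E (by rw [hg1, hdegE]; norm_num)
  have hl2 := ell_eq_of_deg_ge hK (E - Finsupp.single R (1 : ℤ)) (by rw [hg1, hdegE']; norm_num)
  rw [hg1, hdegE] at hl1
  rw [hg1, hdegE'] at hl2
  have hfin := finiteDimensional_L hK (E - Finsupp.single R (1 : ℤ))
  obtain ⟨s, hsE, hsER⟩ := exists_mem_not_mem_of_finrank_lt
    (A := FunFld.L (E - Finsupp.single R (1 : ℤ))) (B := FunFld.L E) (by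
      unfold FunFld.ell at hl1 hl2
      have h1 : (Module.finrank k ↥(FunFld.L E) : ℤ) = 2 := by rw [hl1]; norm_num
      have h2 : (Module.finrank k ↥(FunFld.L (E - Finsupp.single R (1 : ℤ))) : ℤ) = 1 := by
        rw [hl2]; norm_num
      omega)
  have hpdR : poleDiv (k := k) z R = 0 := by
    rw [poleDiv_apply hK]
    have := (ord_nonneg_iff R z).2 hzR
    exact max_eq_right (by linarith)
  have hER : E R = 0 := by
    rw [hE, Finsupp.sub_apply, Finsupp.single_apply, if_neg (Ne.symm hR), hpdR, sub_zero]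
  refine ⟨n, s, by omega, ?_, ?_, ?_⟩
  · refine L_mono ?_ hsE
    rw [hE]; exact sub_le_self _ hpd
  · rw [mem_L_iff]
    intro Q
    rw [map_mul]
    have h1 := val_le_exp_poleDiv hK z Q
    have h2 := hsE Q
    calc Q.1 z * Q.1 s ≤ WithZero.exp (poleDiv z Q) * WithZero.exp (E Q) := mul_le_mul' h1 h2
      _ = WithZero.exp ((Finsupp.single P₀ (n : ℤ) : FunFld.Divisor k K) Q) := by
          rw [← WithZero.exp_add, hE, Finsupp.sub_apply]; congr 1; ring
  · apply le_antisymm
    · have := hsE R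
      rwa [hER, WithZero.exp_zero] at this
    · by_contra hlt
      push Not at hlt
      apply hsER
      rw [mem_L_iff]
      intro Q
      by_cases hQ : Q = R
      · subst hQ
        rw [Finsupp.sub_apply, hER, Finsupp.single_apply, if_pos rfl]
        by_cases hs0 : s = 0
        · rw [hs0, map_zero]; exact zero_le
        · rw [val_eq_exp_neg_ord Q hs0] at hlt ⊢
          rw [← WithZero.exp_zero, WithZero.exp_lt_exp] at hlt
          rw [WithZero.exp_le_exp]; omega
      · rw [Finsupp.sub_apply, Finsupp.single_apply, if_neg (Ne.symm hQ), sub_zero]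
        exact hsE Q


/-- If `π` is a uniformizer at `P` whose derivative is a unit, and the derivation preserves the
local ring at `P`, then in characteristic zero it lowers nonzero orders at `P` by exactly one. -/
theorem ord_deriv_of_uniformizer [CharZero k] (δ : Derivation k K K) {P : FunFld.Place k K}
    {π : K} (hπ : P.1 π = WithZero.exp (-1 : ℤ)) (hδπ : P.1 (δ π) = 1)
    (hreg : ∀ g : K, P.1 g ≤ 1 → P.1 (δ g) ≤ 1) {f : K} (hf0 : f ≠ 0) (hord : P.ord f ≠ 0) :
    δ f ≠ 0 ∧ P.ord (δ f) = P.ord f - 1 := by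
  have hu0 : π ≠ 0 := by
    intro h0; rw [h0, map_zero] at hπ; exact WithZero.exp_ne_zero hπ.symm
  set n := P.ord f with hn
  set g := f * π ^ (-n) with hg
  have hfv : P.1 f = WithZero.exp (-n) := val_eq_exp_neg_ord P hf0
  have hgv : P.1 g = 1 := by
    rw [hg, map_mul, map_zpow₀, hπ, hfv, ← WithZero.exp_zsmul, ← WithZero.exp_add]
    simp
  have hfg : f = π ^ n * g := by
    rw [hg, mul_comm f, ← mul_assoc, ← zpow_add₀ hu0]; simp
  have hδg := hreg g hgv.le
  have hnK : P.1 ((n : ℤ) : K) = 1 := by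
    have : ((n : ℤ) : K) = algebraMap k K ((n : ℤ) : k) := by simp
    rw [this]
    exact val_const P (by exact_mod_cast hord)
  have hδf : δ f = (n : K) * π ^ (n - 1) * δ π * g + π ^ n * δ g := by
    rw [hfg, Derivation.leibniz, deriv_zpow δ hu0]
    simp only [smul_eq_mul]
    ring
  have h1 : P.1 ((n : K) * π ^ (n - 1) * δ π * g) = WithZero.exp (-(n - 1)) := by
    rw [map_mul, map_mul, map_mul, hnK, hgv, hδπ, map_zpow₀, hπ, ← WithZero.exp_zsmul]
    simp
  have h2 : P.1 (π ^ n * δ g) < WithZero.exp (-(n - 1)) := by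
    rw [map_mul, map_zpow₀, hπ, ← WithZero.exp_zsmul]
    calc WithZero.exp (n • (-1 : ℤ)) * P.1 (δ g) ≤ WithZero.exp (n • (-1 : ℤ)) * 1 :=
          mul_le_mul' le_rfl hδg
      _ = WithZero.exp (n • (-1 : ℤ)) := mul_one _
      _ < WithZero.exp (-(n - 1)) := by
          rw [WithZero.exp_lt_exp]; simp
  have h3 : P.1 (δ f) = WithZero.exp (-(n - 1)) := by
    rw [hδf, Valuation.map_add_eq_of_lt_left, h1]
    rw [h1]; exact h2
  have h4 : δ f ≠ 0 := by
    intro h0; rw [h0, map_zero] at h3; exact WithZero.exp_ne_zero h3.symm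
  refine ⟨h4, ?_⟩
  rw [FunFld.Place.ord, h3, WithZero.log_exp]
  ring

section Ell

variable [IsAlgClosed k] [CharZero k] (hK : FunFld.IsFunctionField k K)
  (hg1 : FunFld.genus k K = 1) {P₀ : FunFld.Place k K} {x y : K} {h : k[X]}
  (hw : IsShortWeierstrass P₀ x y h) (δ : Derivation k K K) (hδx : δ x = 2 * y)
  (hδy : δ y = aeval x (derivative h))

include hK hg1 hw hδx hδy

omit [CharZero k] in
/-- The invariant derivation raises the pole order at infinity of a function regular elsewhere by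
at most one. -/
theorem IsShortWeierstrass.deriv_mem_L {n : ℕ} (hn : 2 ≤ n) {z : K}
    (hz : z ∈ FunFld.L (Finsupp.single P₀ (n : ℤ) : FunFld.Divisor k K)) :
    δ z ∈ FunFld.L (Finsupp.single P₀ ((n : ℤ) + 1) : FunFld.Divisor k K) := by
  have hP := deg_eq_one_of_isAlgClosed hK P₀
  have vx : P₀.1 x = WithZero.exp (2 : ℤ) := val_of_ord_eq P₀ (by norm_num) hw.ordx
  have vy : P₀.1 y = WithZero.exp (3 : ℤ) := val_of_ord_eq P₀ (by norm_num) hw.ordy
  have hxQ : ∀ Q : FunFld.Place k K, Q ≠ P₀ → Q.1 x ≤ 1 := ((mem_L_single_iff _ _ _).1 hw.hx).2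
  have hyQ : ∀ Q : FunFld.Place k K, Q ≠ P₀ → Q.1 y ≤ 1 := ((mem_L_single_iff _ _ _).1 hw.hy).2
  have hdeg' : (derivative h).natDegree ≤ 2 := by
    have := Polynomial.natDegree_derivative_le h
    rw [hw.deg] at this; exact this
  have hh'P : P₀.1 (aeval x (derivative h)) ≤ WithZero.exp (4 : ℤ) := by
    refine le_trans (val_aeval_le_exp P₀ (by norm_num) vx.le _) ?_
    rw [WithZero.exp_le_exp]
    have : ((derivative h).natDegree : ℤ) ≤ 2 := by exact_mod_cast hdeg'
    linarith
  have hh'Q : ∀ Q : FunFld.Place k K, Q ≠ P₀ → Q.1 (aeval x (derivative h)) ≤ 1 :=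
    fun Q hQ => val_aeval_le_one Q (hxQ Q hQ) _
  have hspan := (basis_L_genus_one hK hg1 P₀ hP x y hw.hx hw.ordx hw.hy hw.ordy n hn).2
  rw [← hspan] at hz
  refine Submodule.span_induction (p := fun z _ =>
    δ z ∈ FunFld.L (Finsupp.single P₀ ((n : ℤ) + 1) : FunFld.Divisor k K)) ?_ ?_ ?_ ?_ hz
  · rintro z ⟨i, rfl⟩
    rcases i with i | i
    · -- `x ^ i`
      have hi : 2 * (i : ℕ) ≤ n := by have := i.2; omega
      simp only [Sum.elim_inl]
      rw [Derivation.leibniz_pow, hδx, mem_L_single_iff]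
      simp only [nsmul_eq_mul, smul_eq_mul]
      refine ⟨?_, fun Q hQ => ?_⟩
      · rcases Nat.eq_zero_or_pos (i : ℕ) with h0 | hpos
        · rw [h0]; simp
        rw [map_mul, map_mul, map_mul, map_pow, vx, vy]
        have h2 : P₀.1 (2 : K) ≤ 1 := by exact_mod_cast val_natCast_le_one P₀ 2
        calc P₀.1 ((i : ℕ) : K) * (WithZero.exp (2 : ℤ) ^ ((i : ℕ) - 1) *
              (P₀.1 2 * WithZero.exp (3 : ℤ)))
            ≤ 1 * (WithZero.exp (2 : ℤ) ^ ((i : ℕ) - 1) * (1 * WithZero.exp (3 : ℤ))) :=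
              mul_le_mul' (val_natCast_le_one P₀ _) (mul_le_mul' le_rfl (mul_le_mul' h2 le_rfl))
          _ = WithZero.exp ((((i : ℕ) - 1 : ℕ) : ℤ) * 2 + 3) := by
              rw [one_mul, one_mul, ← WithZero.exp_nsmul, ← WithZero.exp_add]; simp
          _ ≤ WithZero.exp ((n : ℤ) + 1) := by
              rw [WithZero.exp_le_exp]; omega
      · rw [map_mul, map_mul, map_mul, map_pow]
        have h2 : Q.1 (2 : K) ≤ 1 := by exact_mod_cast val_natCast_le_one Q 2
        exact mul_le_one' (val_natCast_le_one Q _)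
          (mul_le_one' (pow_le_one' (hxQ Q hQ) _) (mul_le_one' h2 (hyQ Q hQ)))
    · -- `x ^ i * y`
      have hi : 2 * (i : ℕ) + 3 ≤ n := by have := i.2; omega
      simp only [Sum.elim_inr]
      rw [Derivation.leibniz, Derivation.leibniz_pow, hδx, hδy, mem_L_single_iff]
      simp only [nsmul_eq_mul, smul_eq_mul]
      have h2P : P₀.1 (2 : K) ≤ 1 := by exact_mod_cast val_natCast_le_one P₀ 2
      refine ⟨?_, fun Q hQ => ?_⟩
      · refine le_trans (Valuation.map_add _ _ _) (max_le ?_ ?_)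
        · rw [map_mul, map_pow, vx]
          calc WithZero.exp (2 : ℤ) ^ (i : ℕ) * P₀.1 (aeval x (derivative h))
              ≤ WithZero.exp (2 : ℤ) ^ (i : ℕ) * WithZero.exp (4 : ℤ) := mul_le_mul' le_rfl hh'P
            _ = WithZero.exp (((i : ℕ) : ℤ) * 2 + 4) := by
                rw [← WithZero.exp_nsmul, ← WithZero.exp_add]; simp
            _ ≤ WithZero.exp ((n : ℤ) + 1) := by rw [WithZero.exp_le_exp]; omega
        · rcases Nat.eq_zero_or_pos (i : ℕ) with h0 | hpos
          · rw [h0]; simp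
          rw [map_mul, map_mul, map_mul, map_mul, map_pow, vx, vy]
          calc WithZero.exp (3 : ℤ) * (P₀.1 ((i : ℕ) : K) * (WithZero.exp (2 : ℤ) ^ ((i : ℕ) - 1) *
                (P₀.1 2 * WithZero.exp (3 : ℤ))))
              ≤ WithZero.exp (3 : ℤ) * (1 * (WithZero.exp (2 : ℤ) ^ ((i : ℕ) - 1) *
                (1 * WithZero.exp (3 : ℤ)))) :=
                mul_le_mul' le_rfl (mul_le_mul' (val_natCast_le_one P₀ _)
                  (mul_le_mul' le_rfl (mul_le_mul' h2P le_rfl)))
            _ = WithZero.exp (3 + ((((i : ℕ) - 1 : ℕ) : ℤ) * 2 + 3)) := by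
                rw [one_mul, one_mul, ← WithZero.exp_nsmul, ← WithZero.exp_add,
                  ← WithZero.exp_add]; simp
            _ ≤ WithZero.exp ((n : ℤ) + 1) := by rw [WithZero.exp_le_exp]; omega
      · have h2 : Q.1 (2 : K) ≤ 1 := by exact_mod_cast val_natCast_le_one Q 2
        refine le_trans (Valuation.map_add _ _ _) (max_le ?_ ?_)
        · rw [map_mul, map_pow]
          exact mul_le_one' (pow_le_one' (hxQ Q hQ) _) (hh'Q Q hQ)
        · rw [map_mul, map_mul, map_mul, map_mul, map_pow]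
          exact mul_le_one' (hyQ Q hQ) (mul_le_one' (val_natCast_le_one Q _)
            (mul_le_one' (pow_le_one' (hxQ Q hQ) _) (mul_le_one' h2 (hyQ Q hQ))))
  · rw [map_zero]; exact Submodule.zero_mem _
  · intro a b _ _ ha hb
    rw [map_add]; exact Submodule.add_mem _ ha hb
  · intro c a _ ha
    rw [Derivation.map_smul]; exact Submodule.smul_mem _ c ha


omit [CharZero k] in
/-- The invariant derivation preserves the local ring at every finite place. -/
theorem IsShortWeierstrass.val_deriv_le_one {R : FunFld.Place k K} (hR : R ≠ P₀) {z : K}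
    (hz : R.1 z ≤ 1) : R.1 (δ z) ≤ 1 := by
  obtain ⟨n, s, hn, hs, hzs, hsR⟩ := exists_denominator hK hg1 P₀ z hR hz
  have h1 := ((mem_L_single_iff _ _ _).1 (hw.deriv_mem_L hK hg1 δ hδx hδy hn hs)).2 R hR
  have h2 := ((mem_L_single_iff _ _ _).1 (hw.deriv_mem_L hK hg1 δ hδx hδy hn hzs)).2 R hR
  have hs0 : s ≠ 0 := by
    intro h0; rw [h0, map_zero] at hsR; exact zero_ne_one hsR
  have hz' : z = (z * s) / s := by field_simp
  rw [hz', Derivation.leibniz_div]
  simp only [smul_eq_mul, map_mul, map_pow, map_inv₀, hsR, inv_one, one_pow, one_mul]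
  refine le_trans (Valuation.map_sub _ _ _) (max_le ?_ ?_)
  · rw [map_mul, hsR, one_mul]; exact h2
  · rw [map_mul, map_mul, hsR, mul_one]
    exact mul_le_one' hz h1

omit [CharZero k] in
/-- Pole bound at infinity for functions regular elsewhere. -/
theorem IsShortWeierstrass.val_deriv_le_of_mem_L {n : ℕ} {w : K}
    (hwL : w ∈ FunFld.L (Finsupp.single P₀ (n : ℤ) : FunFld.Divisor k K)) :
    P₀.1 (δ w) ≤ P₀.1 w * WithZero.exp (1 : ℤ) := by
  have hP := deg_eq_one_of_isAlgClosed hK P₀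
  by_cases hw0 : w = 0
  · rw [hw0, map_zero, map_zero, zero_mul]
  have hwQ := ((mem_L_single_iff _ _ _).1 hwL).2
  set m := -P₀.ord w with hm
  have hv : P₀.1 w = WithZero.exp m := by rw [val_eq_exp_neg_ord P₀ hw0]
  by_cases hm2 : 2 ≤ m
  · obtain ⟨m', hm'⟩ : ∃ m' : ℕ, m = m' := ⟨m.toNat, (Int.toNat_of_nonneg (by omega)).symm⟩
    have hmem : w ∈ FunFld.L (Finsupp.single P₀ (m' : ℤ) : FunFld.Divisor k K) := by
      rw [mem_L_single_iff]
      exact ⟨by rw [hv, hm'], hwQ⟩
    have h1 := ((mem_L_single_iff _ _ _).1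
      (hw.deriv_mem_L hK hg1 δ hδx hδy (by omega : 2 ≤ m') hmem)).1
    rw [hv, ← WithZero.exp_add, hm']
    exact h1
  · -- pole order at most one: `w` is constant
    have hmem : w ∈ FunFld.L (Finsupp.single P₀ ((1 : ℕ) : ℤ) : FunFld.Divisor k K) := by
      rw [mem_L_single_iff]
      refine ⟨?_, hwQ⟩
      rw [hv, WithZero.exp_le_exp]; push_cast; omega
    have hell := ell_single_of_genus_one hK hg1 hP (n := 1) (by norm_num)
    have h1mem : (1 : K) ∈ FunFld.L (Finsupp.single P₀ ((1 : ℕ) : ℤ) : FunFld.Divisor k K) := by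
      rw [mem_L_single_iff]
      refine ⟨?_, fun Q _ => by rw [map_one]⟩
      rw [map_one, ← WithZero.exp_zero, WithZero.exp_le_exp]; norm_num
    have hne : (⟨1, h1mem⟩ : ↥(FunFld.L (Finsupp.single P₀ ((1 : ℕ) : ℤ) :
        FunFld.Divisor k K))) ≠ 0 := by
      intro h0
      exact one_ne_zero (congrArg Subtype.val h0)
    obtain ⟨c, hc⟩ := (finrank_eq_one_iff_of_nonzero' _ hne).1 (by
      unfold FunFld.ell at hell; simpa using hell) ⟨w, hmem⟩
    have hwc : w = algebraMap k K c := by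
      have := congrArg Subtype.val hc
      simp only [Submodule.coe_smul] at this
      rw [← this, Algebra.smul_def, mul_one]
    rw [hwc, Derivation.map_algebraMap, map_zero]
    exact zero_le

omit [CharZero k] in
/-- Pole bound at infinity: `ord_∞ (δ z) ≥ ord_∞ z - 1`. -/
theorem IsShortWeierstrass.val_deriv_le_at_infty (z : K) :
    P₀.1 (δ z) ≤ P₀.1 z * WithZero.exp (1 : ℤ) := by
  classical
  by_cases hz0 : z = 0
  · rw [hz0, map_zero, map_zero, zero_mul]
  have := IsAlgClosed.instInfinite (K := k)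
  obtain ⟨R, hRn⟩ := exists_place_notMem hK (insert P₀ (FunFld.div k z).support)
  have hR : R ≠ P₀ := fun h => hRn (h ▸ Finset.mem_insert_self _ _)
  have hzR : R.1 z ≤ 1 := by
    have h0 : FunFld.div k z R = 0 := by
      by_contra h
      exact hRn (Finset.mem_insert_of_mem (Finsupp.mem_support_iff.2 h))
    rw [div_apply hK] at h0
    rw [val_eq_exp_neg_ord R hz0, h0, neg_zero, WithZero.exp_zero]
  obtain ⟨n, s, hn, hs, hzs, hsR⟩ := exists_denominator hK hg1 P₀ z hR hzR
  have hs0 : s ≠ 0 := by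
    intro h0; rw [h0, map_zero] at hsR; exact zero_ne_one hsR
  have hsv : P₀.1 s ≠ 0 := (Valuation.ne_zero_iff _).2 hs0
  have h1 := hw.val_deriv_le_of_mem_L hK hg1 δ hδx hδy hs
  have h2 := hw.val_deriv_le_of_mem_L hK hg1 δ hδx hδy hzs
  have hz' : z = (z * s) / s := by field_simp
  have hδz : δ z = s⁻¹ ^ 2 • (s • δ (z * s) - (z * s) • δ s) := by
    conv_lhs => rw [hz', Derivation.leibniz_div]
  rw [hδz]
  simp only [smul_eq_mul, map_mul, map_pow, map_inv₀]
  have h3 : P₀.1 (s * δ (z * s) - z * s * δ s) ≤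
      P₀.1 s * P₀.1 s * (P₀.1 z * WithZero.exp (1 : ℤ)) := by
    refine le_trans (Valuation.map_sub _ _ _) (max_le ?_ ?_)
    · rw [map_mul]
      calc P₀.1 s * P₀.1 (δ (z * s)) ≤ P₀.1 s * (P₀.1 (z * s) * WithZero.exp (1 : ℤ)) :=
            mul_le_mul' le_rfl h2
        _ = P₀.1 s * P₀.1 s * (P₀.1 z * WithZero.exp (1 : ℤ)) := by rw [map_mul]; ac_rfl
    · rw [map_mul, map_mul]
      calc P₀.1 z * P₀.1 s * P₀.1 (δ s) ≤ P₀.1 z * P₀.1 s * (P₀.1 s * WithZero.exp (1 : ℤ)) :=
            mul_le_mul' le_rfl h1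
        _ = P₀.1 s * P₀.1 s * (P₀.1 z * WithZero.exp (1 : ℤ)) := by ac_rfl
  calc (P₀.1 s)⁻¹ ^ 2 * P₀.1 (s * δ (z * s) - z * s * δ s)
      ≤ (P₀.1 s)⁻¹ ^ 2 * (P₀.1 s * P₀.1 s * (P₀.1 z * WithZero.exp (1 : ℤ))) :=
        mul_le_mul' le_rfl h3
    _ = P₀.1 z * WithZero.exp (1 : ℤ) := by
        rw [← mul_assoc, ← pow_two, inv_pow, inv_mul_cancel₀ (pow_ne_zero 2 hsv), one_mul]

omit [CharZero k] in
/-- At a finite place the invariant derivation lowers orders by at most one. -/
theorem IsShortWeierstrass.val_deriv_le {R : FunFld.Place k K} (hR : R ≠ P₀) (z : K) :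
    R.1 (δ z) ≤ R.1 z * WithZero.exp (1 : ℤ) := by
  by_cases hz0 : z = 0
  · rw [hz0, map_zero, map_zero, zero_mul]
  obtain ⟨π, hπ⟩ := exists_uniformizer R
  have hu0 : π ≠ 0 := by
    intro h0; rw [h0, map_zero] at hπ; exact WithZero.exp_ne_zero hπ.symm
  set n := R.ord z with hn
  set g := z * π ^ (-n) with hg
  have hfv : R.1 z = WithZero.exp (-n) := val_eq_exp_neg_ord R hz0
  have hgv : R.1 g = 1 := by
    rw [hg, map_mul, map_zpow₀, hπ, hfv, ← WithZero.exp_zsmul, ← WithZero.exp_add]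
    simp
  have hfg : z = π ^ n * g := by
    rw [hg, mul_comm z, ← mul_assoc, ← zpow_add₀ hu0]; simp
  have hδg := hw.val_deriv_le_one hK hg1 δ hδx hδy hR hgv.le
  have hδπ : R.1 (δ π) ≤ 1 := by
    apply hw.val_deriv_le_one hK hg1 δ hδx hδy hR
    rw [hπ, ← WithZero.exp_zero, WithZero.exp_le_exp]; norm_num
  have hnK : R.1 ((n : ℤ) : K) ≤ 1 := by
    have : ((n : ℤ) : K) = algebraMap k K ((n : ℤ) : k) := by simp
    rw [this]
    exact val_algebraMap_le R _
  have hδf : δ z = (n : K) * π ^ (n - 1) * δ π * g + π ^ n * δ g := by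
    rw [hfg, Derivation.leibniz, deriv_zpow δ hu0]
    simp only [smul_eq_mul]
    ring
  rw [hδf, hfv]
  refine le_trans (Valuation.map_add _ _ _) (max_le ?_ ?_)
  · rw [map_mul, map_mul, map_mul, map_zpow₀, hπ, hgv, mul_one, ← WithZero.exp_zsmul]
    calc R.1 ((n : ℤ) : K) * WithZero.exp ((n - 1) • (-1 : ℤ)) * R.1 (δ π)
        ≤ 1 * WithZero.exp ((n - 1) • (-1 : ℤ)) * 1 :=
          mul_le_mul' (mul_le_mul' hnK le_rfl) hδπ
      _ = WithZero.exp (-n) * WithZero.exp (1 : ℤ) := by
          rw [one_mul, mul_one, ← WithZero.exp_add]; congr 1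
          simp only [smul_eq_mul]; ring
  · rw [map_mul, map_zpow₀, hπ, ← WithZero.exp_zsmul]
    calc WithZero.exp (n • (-1 : ℤ)) * R.1 (δ g) ≤ WithZero.exp (n • (-1 : ℤ)) * 1 :=
          mul_le_mul' le_rfl hδg
      _ ≤ WithZero.exp (-n) * WithZero.exp (1 : ℤ) := by
          rw [mul_one, ← WithZero.exp_add, WithZero.exp_le_exp]
          simp only [smul_eq_mul]; linarith

omit [CharZero k] in
theorem IsShortWeierstrass.val_pow_deriv_le {R : FunFld.Place k K} (hR : R ≠ P₀) (z : K)
    (i : ℕ) : R.1 (((δ : K →ₗ[k] K) ^ i) z) ≤ R.1 z * WithZero.exp (i : ℤ) := by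
  induction i with
  | zero => simp
  | succ i ih =>
    rw [pow_succ', Module.End.mul_apply]
    refine le_trans (hw.val_deriv_le hK hg1 δ hδx hδy hR _) ?_
    calc R.1 (((δ : K →ₗ[k] K) ^ i) z) * WithZero.exp (1 : ℤ)
        ≤ R.1 z * WithZero.exp (i : ℤ) * WithZero.exp (1 : ℤ) := mul_le_mul' ih le_rfl
      _ = R.1 z * WithZero.exp ((i + 1 : ℕ) : ℤ) := by
          rw [mul_assoc, ← WithZero.exp_add]; push_cast; rfl

omit [CharZero k] in
theorem IsShortWeierstrass.val_pow_deriv_le_one {R : FunFld.Place k K} (hR : R ≠ P₀) {z : K}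
    (hz : R.1 z ≤ 1) (i : ℕ) : R.1 (((δ : K →ₗ[k] K) ^ i) z) ≤ 1 := by
  induction i with
  | zero => simpa using hz
  | succ i ih =>
    rw [pow_succ', Module.End.mul_apply]
    exact hw.val_deriv_le_one hK hg1 δ hδx hδy hR ih

omit [IsAlgClosed k] hg1 hδy in
/-- The constants of the invariant derivation are exactly `k`. -/
theorem IsShortWeierstrass.exists_const_of_deriv_eq_zero {z : K} (hz : δ z = 0) :
    ∃ c : k, z = algebraMap k K c := by
  by_contra hcon
  have htr : Transcendental k z := by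
    intro halg
    obtain ⟨c, hc'⟩ := hK.2 z halg
    exact hcon ⟨c, hc'.symm⟩
  have hF : ∀ c ∈ k⟮z⟯, δ c = 0 := by
    intro c hc
    induction hc using IntermediateField.adjoin_induction with
    | mem a ha => rw [Set.mem_singleton_iff.1 ha]; exact hz
    | algebraMap a => exact Derivation.map_algebraMap δ a
    | add a b _ _ ha hb => rw [map_add, ha, hb, add_zero]
    | inv a _ ha => rw [Derivation.leibniz_inv, ha, smul_zero]
    | mul a b _ _ ha hb => rw [Derivation.leibniz, ha, hb, smul_zero, smul_zero, add_zero]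
  haveI : FiniteDimensional ↥k⟮z⟯ K := finiteDimensional_adjoin_of_transcendental hK htr
  haveI : CharZero ↥k⟮z⟯ := charZero_of_injective_algebraMap (algebraMap k ↥k⟮z⟯).injective
  let Dl : K →ₗ[↥k⟮z⟯] K :=
    { toFun := fun w => δ w
      map_add' := fun a b => map_add δ a b
      map_smul' := fun c w => by
        simp only [Algebra.smul_def, RingHom.id_apply]
        have hc0 : δ (algebraMap ↥k⟮z⟯ K c) = 0 := hF _ c.2
        rw [Derivation.leibniz, hc0]
        simp }
  let D : Derivation ↥k⟮z⟯ K K := Derivation.mk' Dl (fun a b => Derivation.leibniz δ a b)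
  have hall : ∀ w : K, δ w = 0 := by
    intro w
    have hsep : (minpoly ↥k⟮z⟯ w).Separable := Algebra.IsSeparable.isSeparable _ w
    have h1 : D (aeval w (minpoly ↥k⟮z⟯ w)) = 0 := by rw [minpoly.aeval, map_zero]
    rw [Derivation.map_aeval] at h1
    have h2 := hsep.aeval_derivative_ne_zero (minpoly.aeval _ w)
    exact (smul_eq_zero.1 h1).resolve_left h2
  have h2y : (2 : K) * y = 0 := by rw [← hδx]; exact hall x
  have hy0 : y ≠ 0 := by
    intro h0
    have := hw.ordy
    rw [h0, FunFld.Place.ord, map_zero, WithZero.log_zero] at this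
    omega
  haveI : CharZero K := charZero_of_injective_algebraMap (algebraMap k K).injective
  rcases mul_eq_zero.1 h2y with h | h
  · exact two_ne_zero h
  · exact hy0 h

end Ell


end Groth.Agent.Lib.H40FunFld
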