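import Groth.Agent.Lib.H40FunFldHyperGenus
import Groth.Agent.Lib.H40Quad2
import Groth.Agent.Lib.H40FunFldAut
import Mathlib.RingTheory.RootsOfUnity.AlgebraicallyClosed

set_option autoImplicit false
set_option linter.style.haveILetI false
set_option linter.unusedSectionVars false
open FunFld Polynomial

namespace Groth.Agent.Lib.H40FunFld

open Groth.Agent.Lib.H40QuotChain IntermediateField

universe u v
variable {k : Type u} [Field k] {K : Type v} [Field K] [Algebra k K]

section EllAut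

/-- In genus one, a linearly independent family of `n` elements of `L(nP)` spans it. -/
theorem exists_repr_of_mem_L_genus_one (hK : FunFld.IsFunctionField k K)
    (hg : FunFld.genus k K = 1) {P : FunFld.Place k K} (hP : P.deg = 1) {n : ℕ} (hn : 0 < n)
    {ι : Type*} [Fintype ι] (m : ι → K)
    (hm : ∀ i, m i ∈ FunFld.L (Finsupp.single P (n : ℤ) : FunFld.Divisor k K))
    (hli : LinearIndependent k m) (hcard : Fintype.card ι = n) {z : K}
    (hz : z ∈ FunFld.L (Finsupp.single P (n : ℤ) : FunFld.Divisor k K)) :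
    ∃ c : ι → k, z = ∑ i, c i • m i := by
  haveI := finiteDimensional_L hK (Finsupp.single P (n : ℤ) : FunFld.Divisor k K)
  have hrank : Module.finrank k ↥(FunFld.L (Finsupp.single P (n : ℤ) : FunFld.Divisor k K)) = n :=
    ell_single_of_genus_one hK hg hP hn
  let m' : ι → ↥(FunFld.L (Finsupp.single P (n : ℤ) : FunFld.Divisor k K)) := fun i => ⟨m i, hm i⟩
  have hli' : LinearIndependent k m' := by
    apply LinearIndependent.of_comp (FunFld.L (Finsupp.single P (n : ℤ) : FunFld.Divisor k K)).subtype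
    exact hli
  have hspan := hli'.span_eq_top_of_card_eq_finrank' (by rw [hcard, hrank])
  have hz' : (⟨z, hz⟩ : ↥(FunFld.L (Finsupp.single P (n : ℤ) : FunFld.Divisor k K))) ∈
      Submodule.span k (Set.range m') := by rw [hspan]; trivial
  obtain ⟨c, hc⟩ := (Submodule.mem_span_range_iff_exists_fun k).1 hz'
  refine ⟨c, ?_⟩
  have := congrArg (fun w : ↥(FunFld.L (Finsupp.single P (n : ℤ) : FunFld.Divisor k K)) => (w : K)) hc
  simp only [Submodule.coe_sum, Submodule.coe_smul] at this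
  exact this.symm

/-- An automorphism preserving the valuation at `P` preserves `L(nP)`. -/
theorem map_mem_L_single_of_fixed {P : FunFld.Place k K} (σ : K ≃ₐ[k] K)
    (hσ : ∀ z : K, P.1 (σ z) = P.1 z) {n : ℤ} {z : K}
    (hz : z ∈ FunFld.L (Finsupp.single P n : FunFld.Divisor k K)) :
    σ z ∈ FunFld.L (Finsupp.single P n : FunFld.Divisor k K) := by
  rw [mem_L_single_iff] at hz ⊢
  refine ⟨by rw [hσ]; exact hz.1, fun Q hQ => ?_⟩
  have hne : comapPlace Q σ ≠ P := by
    intro h
    apply hQ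
    apply eq_of_forall_le_one
    intro w hw
    have h1 : (comapPlace Q σ).1 (σ.symm w) = P.1 (σ.symm w) := by rw [h]
    rw [comapPlace_apply, AlgEquiv.apply_symm_apply] at h1
    rw [← hσ (σ.symm w), AlgEquiv.apply_symm_apply] at h1
    rw [← h1]; exact hw
  have := hz.2 _ hne
  rwa [comapPlace_apply] at this

/-- Shape of an automorphism of a Weierstrass elliptic function field fixing the point at
infinity: `x ↦ u² x`, `y ↦ u³ y` with `a u⁴ = a`, `b u⁶ = b`. -/
theorem ell_aut_shape [IsAlgClosed k] (h2 : (2 : k) ≠ 0) (h3 : (3 : k) ≠ 0)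
    (hK : FunFld.IsFunctionField k K) (hgen : FunFld.genus k K = 1) {P : FunFld.Place k K}
    {a b : k} {x y : K}
    (heq : y ^ 2 = x ^ 3 + algebraMap k K a * x + algebraMap k K b)
    (hx : x ∈ FunFld.L (Finsupp.single P 2)) (hx2 : P.ord x = -2)
    (hy : y ∈ FunFld.L (Finsupp.single P 3)) (hy3 : P.ord y = -3)
    (σ : K ≃ₐ[k] K) (hσ : ∀ z : K, P.1 (σ z) = P.1 z) :
    ∃ u : k, u ≠ 0 ∧ a * u ^ 4 = a ∧ b * u ^ 6 = b ∧ σ x = algebraMap k K (u ^ 2) * x ∧
      σ y = algebraMap k K (u ^ 3) * y := by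
  classical
  have hP : P.deg = 1 := deg_eq_one_of_isAlgClosed hK P
  have hx0 : x ≠ 0 := by rintro rfl; rw [ord_zero] at hx2; omega
  have hy0 : y ≠ 0 := by rintro rfl; rw [ord_zero] at hy3; omega
  have hvx : P.1 x = WithZero.exp (2 : ℤ) := by rw [val_eq_exp_neg_ord P hx0, hx2]; rfl
  have hvy : P.1 y = WithZero.exp (3 : ℤ) := by rw [val_eq_exp_neg_ord P hy0, hy3]; rfl
  -- the six monomials
  let m : Fin 6 → K := ![1, x, y, x ^ 2, x * y, x ^ 3]
  have hmval : ∀ i, P.1 (m i) = WithZero.exp (![0, 2, 3, 4, 5, 6] i : ℤ) := by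
    intro i
    fin_cases i
    · simp [m]
    · simpa [m] using hvx
    · simpa [m] using hvy
    · simp [m, hvx, ← WithZero.exp_nsmul]
    · simp [m, hvx, hvy, ← WithZero.exp_add]
    · simp [m, hvx, ← WithZero.exp_nsmul]
  have hm0 : ∀ i, m i ≠ 0 := by
    intro i h0
    have := hmval i
    rw [h0, map_zero] at this
    exact WithZero.exp_ne_zero this.symm
  have hminj : Function.Injective fun i => P.1 (m i) := by
    intro i j hij
    simp only [hmval] at hij
    have := WithZero.exp_injective hij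
    fin_cases i <;> fin_cases j <;> simp_all
  have hli6 : LinearIndependent k m := linearIndependent_of_val_injective P m hm0 hminj
  have hli2 : LinearIndependent k ![(1 : K), x] := by
    have := hli6.comp ![(0 : Fin 6), 1] (by decide)
    convert this using 1
    ext i; fin_cases i <;> rfl
  have hli3 : LinearIndependent k ![(1 : K), x, y] := by
    have := hli6.comp ![(0 : Fin 6), 1, 2] (by decide)
    convert this using 1
    ext i; fin_cases i <;> rfl
  have hone : ∀ n : ℕ, (1 : K) ∈ FunFld.L (Finsupp.single P (n : ℤ) : FunFld.Divisor k K) := by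
    intro n
    rw [mem_L_single_iff]
    refine ⟨?_, fun Q _ => by rw [map_one]⟩
    rw [map_one, ← WithZero.exp_zero, WithZero.exp_le_exp]
    exact Int.natCast_nonneg n
  have hx' : x ∈ FunFld.L (Finsupp.single P ((2 : ℕ) : ℤ) : FunFld.Divisor k K) := hx
  have hy' : y ∈ FunFld.L (Finsupp.single P ((3 : ℕ) : ℤ) : FunFld.Divisor k K) := hy
  have hx3 : x ∈ FunFld.L (Finsupp.single P ((3 : ℕ) : ℤ) : FunFld.Divisor k K) := by
    rw [mem_L_single_iff] at hx ⊢
    refine ⟨hx.1.trans ?_, hx.2⟩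
    rw [WithZero.exp_le_exp]; norm_num
  obtain ⟨c, hc⟩ := exists_repr_of_mem_L_genus_one hK hgen hP (n := 2) (by norm_num)
    ![(1 : K), x] (by intro i; fin_cases i; exacts [hone 2, hx']) hli2 (by simp)
    (map_mem_L_single_of_fixed σ hσ hx')
  obtain ⟨e, he⟩ := exists_repr_of_mem_L_genus_one hK hgen hP (n := 3) (by norm_num)
    ![(1 : K), x, y] (by intro i; fin_cases i; exacts [hone 3, hx3, hy']) hli3 (by simp)
    (map_mem_L_single_of_fixed σ hσ hy')
  rw [Fin.sum_univ_two] at hc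
  rw [Fin.sum_univ_three] at he
  simp only [Matrix.cons_val_zero, Matrix.cons_val_one, Matrix.cons_val_two, Matrix.head_cons,
    Matrix.tail_cons, Algebra.smul_def, mul_one] at hc he
  set α := c 1 with hα
  set β := c 0 with hβ
  set γ := e 2 with hγ
  set δ := e 1 with hδ
  set ε := e 0 with hε
  have H : (σ y) ^ 2 = (σ x) ^ 3 + algebraMap k K a * σ x + algebraMap k K b := by
    have := congrArg σ heq
    rwa [map_pow, map_add, map_add, map_mul, map_pow, σ.commutes, σ.commutes] at this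
  rw [hc, he] at H
  let C : Fin 6 → k := ![γ ^ 2 * b + ε ^ 2 - β ^ 3 - a * β - b,
    γ ^ 2 * a + 2 * δ * ε - 3 * α * β ^ 2 - a * α, 2 * γ * ε, δ ^ 2 - 3 * α ^ 2 * β, 2 * γ * δ,
    γ ^ 2 - α ^ 3]
  have hsum : ∑ i, C i • m i = 0 := by
    rw [Fin.sum_univ_six]
    change (γ ^ 2 * b + ε ^ 2 - β ^ 3 - a * β - b) • (1 : K) +
      (γ ^ 2 * a + 2 * δ * ε - 3 * α * β ^ 2 - a * α) • x + (2 * γ * ε) • y +
      (δ ^ 2 - 3 * α ^ 2 * β) • x ^ 2 + (2 * γ * δ) • (x * y) + (γ ^ 2 - α ^ 3) • x ^ 3 = 0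
    simp only [Algebra.smul_def, map_sub, map_add, map_mul, map_pow, map_ofNat]
    linear_combination H - (algebraMap k K γ) ^ 2 * heq
  have hC := Fintype.linearIndependent_iff.1 hli6 C hsum
  have hC0 : γ ^ 2 * b + ε ^ 2 - β ^ 3 - a * β - b = 0 := hC 0
  have hC1 : γ ^ 2 * a + 2 * δ * ε - 3 * α * β ^ 2 - a * α = 0 := hC 1
  have hC2 : 2 * γ * ε = 0 := hC 2
  have hC3 : δ ^ 2 - 3 * α ^ 2 * β = 0 := hC 3
  have hC4 : 2 * γ * δ = 0 := hC 4
  have hC5 : γ ^ 2 - α ^ 3 = 0 := hC 5
  have hα0 : α ≠ 0 := by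
    intro h0
    have h1 := hσ x
    rw [hc, h0, map_zero, zero_mul, add_zero, hvx] at h1
    have h4 : (1 : WithZero (Multiplicative ℤ)) < WithZero.exp (2 : ℤ) := by
      rw [← WithZero.exp_zero, WithZero.exp_lt_exp]; norm_num
    exact absurd (h1 ▸ P.2.1 β) (not_le.2 h4)
  have hγ0 : γ ≠ 0 := by
    intro h0
    have h1 := hσ y
    rw [he, h0, map_zero, zero_mul, add_zero, hvy] at h1
    have h4 : P.1 (algebraMap k K ε + algebraMap k K δ * x) ≤ WithZero.exp (2 : ℤ) := by
      refine (P.1.map_add _ _).trans (max_le ((P.2.1 ε).trans ?_) ?_)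
      · rw [← WithZero.exp_zero, WithZero.exp_le_exp]; norm_num
      · rw [map_mul, hvx]
        exact (mul_le_mul' (P.2.1 δ) le_rfl).trans_eq (one_mul _)
    rw [h1, WithZero.exp_le_exp] at h4
    norm_num at h4
  have hδ0 : δ = 0 := by
    rcases mul_eq_zero.1 hC4 with h | h
    · rcases mul_eq_zero.1 h with h | h
      · exact absurd h h2
      · exact absurd h hγ0
    · exact h
  have hε0 : ε = 0 := by
    rcases mul_eq_zero.1 hC2 with h | h
    · rcases mul_eq_zero.1 h with h | h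
      · exact absurd h h2
      · exact absurd h hγ0
    · exact h
  have hβ0 : β = 0 := by
    rw [hδ0] at hC3
    have h1 : 3 * α ^ 2 * β = 0 := by linear_combination -hC3
    rcases mul_eq_zero.1 h1 with h | h
    · rcases mul_eq_zero.1 h with h | h
      · exact absurd h h3
      · exact absurd (pow_eq_zero_iff two_ne_zero |>.1 h) hα0
    · exact h
  set u : k := γ / α with hu
  have hu0 : u ≠ 0 := div_ne_zero hγ0 hα0
  have hγα : γ ^ 2 = α ^ 3 := by linear_combination hC5
  have hu2 : u ^ 2 = α := by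
    rw [hu, _root_.div_pow, hγα]
    field_simp
  have hu3 : u ^ 3 = γ := by
    rw [pow_succ, hu2, hu]
    field_simp
  have haα : a * α ^ 2 = a := by
    rw [hδ0, hε0, hβ0] at hC1
    have h1 : a * α * (α ^ 2 - 1) = 0 := by linear_combination hC1 - a * hC5
    rcases mul_eq_zero.1 h1 with h | h
    · rcases mul_eq_zero.1 h with h | h
      · rw [h, zero_mul]
      · exact absurd h hα0
    · linear_combination a * h
  have hbγ : b * γ ^ 2 = b := by
    rw [hε0, hβ0] at hC0
    linear_combination hC0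
  refine ⟨u, hu0, ?_, ?_, ?_, ?_⟩
  · have : u ^ 4 = α ^ 2 := by rw [← hu2]; ring
    rw [this, haα]
  · have : u ^ 6 = γ ^ 2 := by rw [← hu3]; ring
    rw [this, hbγ]
  · rw [hc, hβ0, hu2, map_zero, zero_add]
  · rw [he, hε0, hδ0, hu3, map_zero, zero_mul, zero_add, zero_add]

/-- Existence of the automorphism `x ↦ u² x`, `y ↦ u³ y`. -/
theorem ell_aut_exists [IsAlgClosed k]
    (hK : FunFld.IsFunctionField k K) {P : FunFld.Place k K}
    {a b : k} {x y : K}
    (heq : y ^ 2 = x ^ 3 + algebraMap k K a * x + algebraMap k K b)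
    (hxy : IntermediateField.adjoin k ({x, y} : Set K) = ⊤)
    (hx : x ∈ FunFld.L (Finsupp.single P 2)) (hx2 : P.ord x = -2)
    {u : k} (hu0 : u ≠ 0) (hau : a * u ^ 4 = a) (hbu : b * u ^ 6 = b) :
    ∃ σ : K ≃ₐ[k] K, (∀ z : K, P.1 (σ z) = P.1 z) ∧ σ x = algebraMap k K (u ^ 2) * x ∧
      σ y = algebraMap k K (u ^ 3) * y := by
  classical
  have hP : P.deg = 1 := deg_eq_one_of_isAlgClosed hK P
  have hx0 : x ≠ 0 := by rintro rfl; rw [ord_zero] at hx2; omega
  have hvx : P.1 x = WithZero.exp (2 : ℤ) := by rw [val_eq_exp_neg_ord P hx0, hx2]; rfl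
  have htr : Transcendental k x :=
    transcendental_of_ord_ne_zero hK (P := P) (by rw [hx2]; omega)
  have hxL := (mem_L_single_iff P 2 x).1 hx
  have hdegk : Module.finrank k⟮x⟯ K = 2 :=
    finrank_adjoin_eq_of_single_pole hK hP (n := 2) (by norm_num) hvx hxL.2
  letI alg : Algebra (RatFunc k) K := (ratFuncHom htr).toRingHom.toAlgebra
  haveI tower : IsScalarTower k (RatFunc k) K :=
    IsScalarTower.of_algebraMap_eq (fun c => ((ratFuncHom htr).commutes c).symm)
  have halg : ∀ r : RatFunc k, algebraMap (RatFunc k) K r = ratFuncHom htr r := fun _ => rfl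
  have hdeg : Module.finrank (RatFunc k) K = 2 := by
    let e₁ : RatFunc k ≃+* ↥k⟮x⟯ := (RatFunc.algEquivOfTranscendental x htr).toRingEquiv
    have h1 := Algebra.rank_eq_of_equiv_equiv e₁ (RingEquiv.refl K) (by ext r; rfl)
    rw [← hdegk]
    unfold Module.finrank
    rw [h1]
  have hyF : y ∉ Set.range (algebraMap (RatFunc k) K) := by
    rintro ⟨r, hr⟩
    have htop : k⟮x⟯ = ⊤ := by
      rw [eq_top_iff, ← hxy, adjoin_le_iff]
      rintro w (rfl | rfl)
      · exact mem_adjoin_simple_self k w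
      · rw [← hr, halg]
        exact (RatFunc.algEquivOfTranscendental x htr r).2
    rw [htop, IntermediateField.finrank_top] at hdegk
    omega
  set fF : RatFunc k := algebraMap k[X] (RatFunc k) (X ^ 3 + C a * X + C b) with hfF
  have heqF : y ^ 2 = algebraMap (RatFunc k) K fF := by
    rw [halg, hfF, ratFuncHom_algebraMap, heq]
    simp only [map_add, map_mul, map_pow, aeval_X, aeval_C]
  let pb := Groth.Agent.Lib.H40Quad.powerBasisOfSq hdeg heqF hyF
  have hpbgen : pb.gen = y := rfl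
  have hmin : minpoly (RatFunc k) y = X ^ 2 - C fF :=
    Groth.Agent.Lib.H40Quad.minpoly_eq_of_sq_eq heqF hyF
  set g : (RatFunc k)[X] := X ^ 2 - C fF with hg
  have hθ1 : aeval (AdjoinRoot.root g) (minpoly (RatFunc k) pb.gen) = 0 := by
    rw [hpbgen, hmin, AdjoinRoot.aeval_eq, AdjoinRoot.mk_self]
  have hθ2 : aeval pb.gen g = 0 := by
    rw [hpbgen, hg, map_sub, map_pow, aeval_X, aeval_C, heqF, sub_self]
  let θ : AdjoinRoot g ≃ₐ[RatFunc k] K := AdjoinRoot.equiv' g pb hθ1 hθ2
  have hu20 : u ^ 2 ≠ 0 := pow_ne_zero 2 hu0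
  have hu30 : u ^ 3 ≠ 0 := pow_ne_zero 3 hu0
  have hvx' : P.1 (algebraMap k K (u ^ 2) * x) = WithZero.exp (2 : ℤ) := by
    rw [map_mul, val_algebraMap P hu20, one_mul, hvx]
  have htr' : Transcendental k (algebraMap k K (u ^ 2) * x) := by
    apply transcendental_of_ord_ne_zero hK (P := P)
    rw [FunFld.Place.ord, hvx', WithZero.log_exp]
    norm_num
  let i : RatFunc k →ₐ[k] K := ratFuncHom htr'
  have hroot : g.eval₂ (i : RatFunc k →+* K) (algebraMap k K (u ^ 3) * y) = 0 := by
    have h1 : i fF = aeval (algebraMap k K (u ^ 2) * x) (X ^ 3 + C a * X + C b) :=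
      ratFuncHom_algebraMap htr' _
    have e1 : a * u ^ 6 = a * u ^ 2 := by linear_combination u ^ 2 * hau
    have E1 := congrArg (algebraMap k K) e1
    have E2 := congrArg (algebraMap k K) hbu
    simp only [map_mul, map_pow] at E1 E2
    rw [hg, eval₂_sub, eval₂_pow, eval₂_X, eval₂_C]
    change (algebraMap k K (u ^ 3) * y) ^ 2 - i fF = 0
    rw [h1]
    simp only [map_add, map_mul, map_pow, aeval_X, aeval_C]
    linear_combination (algebraMap k K u) ^ 6 * heq + x * E1 + E2
  let lft : AdjoinRoot g →+* K :=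
    AdjoinRoot.lift (i : RatFunc k →+* K) (algebraMap k K (u ^ 3) * y) hroot
  let σ₀ : K →+* K := lft.comp (θ.symm : K →+* AdjoinRoot g)
  have hσ₀F : ∀ r : RatFunc k, σ₀ (algebraMap (RatFunc k) K r) = i r := by
    intro r
    change lft (θ.symm (algebraMap (RatFunc k) K r)) = _
    rw [θ.symm.commutes, AdjoinRoot.algebraMap_eq, AdjoinRoot.lift_of]
    rfl
  have hσ₀y : σ₀ y = algebraMap k K (u ^ 3) * y := by
    change lft (θ.symm y) = _
    have h1 : θ.symm y = AdjoinRoot.root g := by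
      rw [AlgEquiv.symm_apply_eq]
      change y = (θ.toAlgHom) (AdjoinRoot.root g)
      rw [AdjoinRoot.equiv'_toAlgHom g pb hθ1 hθ2, AdjoinRoot.liftAlgHom_root]
      exact hpbgen.symm
    rw [h1, AdjoinRoot.lift_root]
  have hxX : x = algebraMap (RatFunc k) K RatFunc.X := by rw [halg, ratFuncHom_X]
  have hσ₀x : σ₀ x = algebraMap k K (u ^ 2) * x := by
    conv_lhs => rw [hxX]
    rw [hσ₀F]
    exact ratFuncHom_X htr'
  let σ₁ : K →ₐ[k] K :=
    { σ₀ with
      commutes' := fun c => by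
        change σ₀ (algebraMap k K c) = algebraMap k K c
        have h1 : σ₀ (algebraMap (RatFunc k) K (algebraMap k (RatFunc k) c)) =
            algebraMap k K c := by rw [hσ₀F, i.commutes]
        rwa [← IsScalarTower.algebraMap_apply k (RatFunc k) K] at h1 }
  have hσ₁ : ∀ z, σ₁ z = σ₀ z := fun _ => rfl
  have hinj : Function.Injective σ₁ := σ₁.toRingHom.injective
  have hsurj : Function.Surjective σ₁ := by
    have htop : σ₁.fieldRange = ⊤ := by
      rw [eq_top_iff, ← hxy, adjoin_le_iff]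
      rintro w (rfl | rfl)
      · refine ⟨algebraMap k K (u ^ 2)⁻¹ * w, ?_⟩
        change σ₁ _ = _
        rw [map_mul, σ₁.commutes, hσ₁, hσ₀x, ← mul_assoc, ← map_mul, inv_mul_cancel₀ hu20,
          map_one, one_mul]
      · refine ⟨algebraMap k K (u ^ 3)⁻¹ * w, ?_⟩
        change σ₁ _ = _
        rw [map_mul, σ₁.commutes, hσ₁, hσ₀y, ← mul_assoc, ← map_mul, inv_mul_cancel₀ hu30,
          map_one, one_mul]
    intro z
    have hz : z ∈ σ₁.fieldRange := by rw [htop]; trivial
    exact hz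
  let σ : K ≃ₐ[k] K := AlgEquiv.ofBijective σ₁ ⟨hinj, hsurj⟩
  have hσ : ∀ z, σ z = σ₀ z := fun _ => rfl
  refine ⟨σ, ?_, by rw [hσ, hσ₀x], by rw [hσ, hσ₀y]⟩
  have hcomap : comapPlace P σ = P := by
    by_contra hne
    have h1 := hxL.2 _ hne
    rw [comapPlace_apply, hσ, hσ₀x, hvx', ← WithZero.exp_zero, WithZero.exp_le_exp] at h1
    norm_num at h1
  intro z
  rw [← comapPlace_apply, hcomap]

end EllAut

end Groth.Agent.Lib.H40FunFld
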