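import Groth.Agent.Lib.H40FunFldEllAut

set_option autoImplicit false
set_option linter.style.haveILetI false
set_option linter.unusedSectionVars false
open FunFld Polynomial

namespace Groth.Agent.Lib.H40FunFld

open IntermediateField

universe u v
variable {k : Type u} [Field k] {K : Type v} [Field K] [Algebra k K]

section EllAut2

/-- Two automorphisms agreeing on a generating set are equal. -/
theorem algEquiv_ext_of_adjoin {S : Set K} (hS : IntermediateField.adjoin k S = ⊤)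
    {σ τ : K ≃ₐ[k] K} (h : ∀ s ∈ S, σ s = τ s) : σ = τ := by
  have hle : IntermediateField.adjoin k S ≤ fixedFieldOf (σ.trans τ.symm) := by
    rw [adjoin_le_iff]
    intro s hs
    change (σ.trans τ.symm) s = s
    rw [AlgEquiv.trans_apply, h s hs, AlgEquiv.symm_apply_apply]
  rw [hS] at hle
  ext z
  have hz : z ∈ fixedFieldOf (σ.trans τ.symm) := hle trivial
  have h1 : τ.symm (σ z) = z := hz
  exact (AlgEquiv.symm_apply_eq τ).1 h1

/-- The number of `n`-th roots of unity in an algebraically closed field of characteristic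
prime to `n`. -/
theorem card_pow_eq_one [IsAlgClosed k] (n : ℕ) (hn : (n : k) ≠ 0) :
    Nat.card {u : k // u ≠ 0 ∧ u ^ n = 1} = n := by
  haveI : NeZero (n : k) := ⟨hn⟩
  haveI : NeZero n := .of_neZero_natCast k
  refine Eq.trans ?_ (HasEnoughRootsOfUnity.natCard_rootsOfUnity k n)
  apply Nat.card_congr
  exact
    { toFun := fun u => ⟨Units.mk0 u.1 u.2.1, by
        rw [mem_rootsOfUnity]; ext; simpa using u.2.2⟩
      invFun := fun ζ => ⟨(ζ.1 : k), ζ.1.ne_zero, by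
        have := ζ.2
        rw [mem_rootsOfUnity] at this
        have h1 := congrArg (fun w : kˣ => (w : k)) this
        simpa using h1⟩
      left_inv := fun u => by ext; rfl
      right_inv := fun ζ => by ext; rfl }

/-- The automorphism group fixing the point at infinity is in bijection with the admissible
scalars `u`. -/
theorem card_ell_aut [IsAlgClosed k] (h2 : (2 : k) ≠ 0) (h3 : (3 : k) ≠ 0)
    (hK : FunFld.IsFunctionField k K) (hgen : FunFld.genus k K = 1) (P : FunFld.Place k K)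
    (a b : k) (x y : K)
    (heq : y ^ 2 = x ^ 3 + algebraMap k K a * x + algebraMap k K b)
    (hxy : IntermediateField.adjoin k ({x, y} : Set K) = ⊤)
    (hx : x ∈ FunFld.L (Finsupp.single P 2)) (hx2 : P.ord x = -2)
    (hy : y ∈ FunFld.L (Finsupp.single P 3)) (hy3 : P.ord y = -3) :
    Nat.card {σ : K ≃ₐ[k] K // ∀ z : K, P.1 (σ z) = P.1 z} =
      Nat.card {u : k // u ≠ 0 ∧ a * u ^ 4 = a ∧ b * u ^ 6 = b} := by
  classical
  symm
  have hx0 : x ≠ 0 := by rintro rfl; rw [ord_zero] at hx2; omega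
  have hy0 : y ≠ 0 := by rintro rfl; rw [ord_zero] at hy3; omega
  have hex : ∀ u : {u : k // u ≠ 0 ∧ a * u ^ 4 = a ∧ b * u ^ 6 = b}, ∃ σ : K ≃ₐ[k] K,
      (∀ z : K, P.1 (σ z) = P.1 z) ∧ σ x = algebraMap k K (u.1 ^ 2) * x ∧
        σ y = algebraMap k K (u.1 ^ 3) * y :=
    fun u => ell_aut_exists hK heq hxy hx hx2 u.2.1 u.2.2.1 u.2.2.2
  choose f hf using hex
  let F : {u : k // u ≠ 0 ∧ a * u ^ 4 = a ∧ b * u ^ 6 = b} →
      {σ : K ≃ₐ[k] K // ∀ z : K, P.1 (σ z) = P.1 z} := fun u => ⟨f u, (hf u).1⟩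
  apply Nat.card_eq_of_bijective F
  constructor
  · intro u v huv
    have h1 : f u = f v := congrArg Subtype.val huv
    have hxe : algebraMap k K (u.1 ^ 2) * x = algebraMap k K (v.1 ^ 2) * x := by
      rw [← (hf u).2.1, ← (hf v).2.1, h1]
    have hye : algebraMap k K (u.1 ^ 3) * y = algebraMap k K (v.1 ^ 3) * y := by
      rw [← (hf u).2.2, ← (hf v).2.2, h1]
    have e2 : u.1 ^ 2 = v.1 ^ 2 := (algebraMap k K).injective (mul_right_cancel₀ hx0 hxe)
    have e3 : u.1 ^ 3 = v.1 ^ 3 := (algebraMap k K).injective (mul_right_cancel₀ hy0 hye)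
    apply Subtype.ext
    have hu20 : u.1 ^ 2 ≠ 0 := pow_ne_zero 2 u.2.1
    apply mul_right_cancel₀ hu20
    calc u.1 * u.1 ^ 2 = u.1 ^ 3 := by ring
      _ = v.1 ^ 3 := e3
      _ = v.1 * v.1 ^ 2 := by ring
      _ = v.1 * u.1 ^ 2 := by rw [e2]
  · rintro ⟨σ, hσ⟩
    obtain ⟨u, hu0, hau, hbu, hσx, hσy⟩ :=
      ell_aut_shape h2 h3 hK hgen heq hx hx2 hy hy3 σ hσ
    refine ⟨⟨u, hu0, hau, hbu⟩, Subtype.ext ?_⟩
    change f ⟨u, hu0, hau, hbu⟩ = σ
    apply algEquiv_ext_of_adjoin hxy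
    rintro s (rfl | rfl)
    · rw [(hf ⟨u, hu0, hau, hbu⟩).2.1, hσx]
    · rw [(hf ⟨u, hu0, hau, hbu⟩).2.2, hσy]

theorem card_ellU_a_zero [IsAlgClosed k] (h2 : (2 : k) ≠ 0) (h3 : (3 : k) ≠ 0) {b : k}
    (hb : b ≠ 0) :
    Nat.card {u : k // u ≠ 0 ∧ (0 : k) * u ^ 4 = 0 ∧ b * u ^ 6 = b} = 6 := by
  have h6 : ((6 : ℕ) : k) ≠ 0 := by
    have : ((6 : ℕ) : k) = 2 * 3 := by push_cast; norm_num
    rw [this]; exact mul_ne_zero h2 h3
  refine Eq.trans ?_ (card_pow_eq_one (k := k) 6 h6)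
  apply Nat.card_congr
  apply Equiv.subtypeEquivRight
  intro u
  constructor
  · rintro ⟨h0, -, h⟩
    refine ⟨h0, ?_⟩
    apply mul_left_cancel₀ hb
    rw [h, mul_one]
  · rintro ⟨h0, h⟩
    exact ⟨h0, zero_mul _, by rw [h, mul_one]⟩

theorem card_ellU_b_zero [IsAlgClosed k] (h2 : (2 : k) ≠ 0) {a : k}
    (ha : a ≠ 0) :
    Nat.card {u : k // u ≠ 0 ∧ a * u ^ 4 = a ∧ (0 : k) * u ^ 6 = 0} = 4 := by
  have h4 : ((4 : ℕ) : k) ≠ 0 := by
    have : ((4 : ℕ) : k) = 2 * 2 := by push_cast; norm_num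
    rw [this]; exact mul_ne_zero h2 h2
  refine Eq.trans ?_ (card_pow_eq_one (k := k) 4 h4)
  apply Nat.card_congr
  apply Equiv.subtypeEquivRight
  intro u
  constructor
  · rintro ⟨h0, h, -⟩
    refine ⟨h0, ?_⟩
    apply mul_left_cancel₀ ha
    rw [h, mul_one]
  · rintro ⟨h0, h⟩
    exact ⟨h0, by rw [h, mul_one], zero_mul _⟩

theorem card_ellU_ne_zero [IsAlgClosed k] (h2 : (2 : k) ≠ 0) {a b : k}
    (ha : a ≠ 0) (hb : b ≠ 0) :
    Nat.card {u : k // u ≠ 0 ∧ a * u ^ 4 = a ∧ b * u ^ 6 = b} = 2 := by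
  have h2' : ((2 : ℕ) : k) ≠ 0 := by
    have : ((2 : ℕ) : k) = 2 := by push_cast; rfl
    rw [this]; exact h2
  refine Eq.trans ?_ (card_pow_eq_one (k := k) 2 h2')
  apply Nat.card_congr
  apply Equiv.subtypeEquivRight
  intro u
  constructor
  · rintro ⟨h0, h4, h6⟩
    refine ⟨h0, ?_⟩
    have e4 : u ^ 4 = 1 := by
      apply mul_left_cancel₀ ha
      rw [h4, mul_one]
    have e6 : u ^ 6 = 1 := by
      apply mul_left_cancel₀ hb
      rw [h6, mul_one]
    calc u ^ 2 = u ^ 6 * (u ^ 4)⁻¹ := by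
          rw [eq_mul_inv_iff_mul_eq₀ (pow_ne_zero 4 h0)]; ring
      _ = 1 := by rw [e4, e6]; simp
  · rintro ⟨h0, h⟩
    refine ⟨h0, ?_, ?_⟩
    · have : u ^ 4 = (u ^ 2) ^ 2 := by ring
      rw [this, h, one_pow, mul_one]
    · have : u ^ 6 = (u ^ 2) ^ 3 := by ring
      rw [this, h, one_pow, mul_one]

end EllAut2

end Groth.Agent.Lib.H40FunFld
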