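import Groth.Agent.Lib.H40FunFldConstExt
import Groth.Agent.Lib.H40FunFldSeries
import Mathlib.LinearAlgebra.TensorProduct.Basis
import Mathlib.FieldTheory.Finite.Basic

set_option autoImplicit false
set_option linter.style.haveILetI false
set_option linter.unusedSectionVars false
open FunFld Polynomial

namespace Groth.Agent.Lib.H40FunFld

open IntermediateField

universe u v w w'
variable {k : Type u} {K : Type v} [Field k] [Field K] [Algebra k K]

/-- A place at which every integral element is congruent to a constant has degree one. -/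
theorem deg_eq_one_of_forall_exists_const {P : FunFld.Place k K}
    (h : ∀ x : K, P.1 x ≤ 1 → ∃ c : k, P.1 (x - algebraMap k K c) < 1) : P.deg = 1 := by
  have h1 : (1 : IsLocalRing.ResidueField P.O) ≠ 0 := one_ne_zero
  refine (finrank_eq_one_iff_of_nonzero' (1 : IsLocalRing.ResidueField P.O) h1).2 ?_
  intro w
  obtain ⟨⟨x, hx⟩, rfl⟩ := IsLocalRing.residue_surjective w
  obtain ⟨c, hc⟩ := h x hx
  refine ⟨c, ?_⟩
  have h4 : c • (1 : IsLocalRing.ResidueField P.O) =
      IsLocalRing.residue P.O ⟨algebraMap k K c, P.2.1 c⟩ := by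
    rw [Algebra.smul_def, mul_one]; rfl
  have h3 : IsLocalRing.residue P.O (⟨x, hx⟩ - ⟨algebraMap k K c, P.2.1 c⟩) = 0 := by
    rw [residue_eq_zero_iff]
    exact hc
  rw [map_sub, sub_eq_zero] at h3
  exact h4.trans h3.symm

/-- Every integral element at a place of a function field is a root, modulo the place, of a
monic polynomial over the constants. -/
theorem exists_monic_val_aeval_lt_one (hK : FunFld.IsFunctionField k K) (P : FunFld.Place k K)
    {x : K} (hx : P.1 x ≤ 1) : ∃ m : k[X], m.Monic ∧ P.1 (aeval x m) < 1 := by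
  have hfin := finiteDimensional_residueField hK P
  have hfin' : @Module.Finite k (IsLocalRing.ResidueField P.O) _ _
      (@Algebra.toModule k (IsLocalRing.ResidueField P.O) _ _ (Place.algRes P)) := hfin
  have hint : Algebra.IsIntegral k (IsLocalRing.ResidueField P.O) := Algebra.IsIntegral.of_finite _ _
  obtain ⟨m, hm, hm0⟩ := hint.isIntegral (IsLocalRing.residue P.O ⟨x, hx⟩)
  refine ⟨m, hm, ?_⟩
  have h1 : IsLocalRing.residue P.O (Polynomial.eval₂ (algebraMap k P.O) ⟨x, hx⟩ m) = 0 := by
    rw [Polynomial.hom_eval₂]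
    exact hm0
  rw [residue_eq_zero_iff] at h1
  have h2 : ((Polynomial.eval₂ (algebraMap k P.O) ⟨x, hx⟩ m : P.O) : K) = aeval x m := by
    have := Polynomial.hom_eval₂ m (algebraMap k P.O) (P.O.subtype) ⟨x, hx⟩
    rw [aeval_def]
    exact this
  rw [h2] at h1
  exact h1

/-- The fixed points of the `q`-power map in an extension of a field with `q` elements are the
elements of that field. -/
theorem mem_range_of_pow_card_eq [Finite k] {kb : Type w} [Field kb] [Algebra k kb] {c : kb}
    (hc : c ^ Nat.card k = c) : c ∈ Set.range (algebraMap k kb) := by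
  classical
  haveI := Fintype.ofFinite k
  rw [Nat.card_eq_fintype_card] at hc
  have h1 := FiniteField.roots_X_pow_card_sub_X k
  have hdeg : (X ^ Fintype.card k - X : k[X]).natDegree = Fintype.card k :=
    FiniteField.X_pow_card_sub_X_natDegree_eq k Fintype.one_lt_card
  have h2 : Multiset.card (X ^ Fintype.card k - X : k[X]).roots =
      (X ^ Fintype.card k - X : k[X]).natDegree := by
    rw [h1, hdeg]; rfl
  have h3 := Polynomial.roots_map_of_injective_of_card_eq_natDegree
    (algebraMap k kb).injective h2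
  have hne : ((X ^ Fintype.card k - X : k[X]).map (algebraMap k kb)) ≠ 0 := by
    rw [Polynomial.map_ne_zero_iff (algebraMap k kb).injective]
    exact FiniteField.X_pow_card_sub_X_ne_zero k Fintype.one_lt_card
  have h4 : c ∈ ((X ^ Fintype.card k - X : k[X]).map (algebraMap k kb)).roots := by
    rw [mem_roots hne]
    simp [hc]
  rw [← h3, h1] at h4
  obtain ⟨a, -, ha⟩ := Multiset.mem_map.1 h4
  exact ⟨a, ha⟩

/-- If a product of integral elements has value `< 1`, so does one of the factors. -/
theorem exists_val_lt_one_of_prod {Γ₀ : Type*} [LinearOrderedCommGroupWithZero Γ₀]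
    {R : Type*} [CommRing R] (v : Valuation R Γ₀) (M : Multiset R) (hM : ∀ a ∈ M, v a ≤ 1)
    (hprod : v M.prod < 1) : ∃ a ∈ M, v a < 1 := by
  by_contra hcon
  push Not at hcon
  have h1 : ∀ a ∈ M, v a = 1 := fun a ha => le_antisymm (hM a ha) (hcon a ha)
  have h2 : v M.prod = 1 := by
    rw [map_multiset_prod]
    apply Multiset.prod_eq_one
    intro x hx
    obtain ⟨a, ha, rfl⟩ := Multiset.mem_map.1 hx
    exact h1 a ha
  rw [h2] at hprod
  exact lt_irrefl _ hprod

section CE

variable {kb : Type w} {Kb : Type w'} [Field kb] [Algebra k kb] [Field Kb] [Algebra K Kb]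
  [Algebra kb Kb]

/-- At a place of the constant field extension to an algebraically closed field, every element of
`K` integral at the place below is congruent to a constant of the big field. -/
theorem exists_const_closure_val_sub_lt_one [IsAlgClosed kb] (hK : FunFld.IsFunctionField k K)
    (hc : ∀ c : k, algebraMap K Kb (algebraMap k K c) = algebraMap kb Kb (algebraMap k kb c))
    (Q : FunFld.Place kb Kb) {P : FunFld.Place k K}
    (hlt : ∀ x : K, P.1 x < 1 → Q.1 (algebraMap K Kb x) < 1)
    (hle : ∀ x : K, P.1 x ≤ 1 → Q.1 (algebraMap K Kb x) ≤ 1)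
    {x : K} (hx : P.1 x ≤ 1) :
    ∃ c : kb, Q.1 (algebraMap K Kb x - algebraMap kb Kb c) < 1 := by
  letI : Algebra k Kb := ((algebraMap K Kb).comp (algebraMap k K)).toAlgebra
  haveI : IsScalarTower k K Kb := IsScalarTower.of_algebraMap_eq (fun _ => rfl)
  haveI : IsScalarTower k kb Kb := IsScalarTower.of_algebraMap_eq (fun c => hc c)
  obtain ⟨m, hm, hmx⟩ := exists_monic_val_aeval_lt_one hK P hx
  have h1 := hlt _ hmx
  rw [← aeval_algebraMap_apply, ← aeval_map_algebraMap kb] at h1
  have hspl : (m.map (algebraMap k kb)).Splits := IsAlgClosed.splits _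
  have hmon : (m.map (algebraMap k kb)).Monic := hm.map _
  have h2 : aeval (algebraMap K Kb x) (m.map (algebraMap k kb)) =
      (((m.map (algebraMap k kb)).roots).map
        (fun c => algebraMap K Kb x - algebraMap kb Kb c)).prod := by
    conv_lhs => rw [hspl.eq_prod_roots_of_monic hmon]
    rw [map_multiset_prod, Multiset.map_map]
    congr 1
    apply Multiset.map_congr rfl
    intro c _
    simp
  rw [h2] at h1
  obtain ⟨a, ha, hlt1⟩ := exists_val_lt_one_of_prod Q.1 _ (by
    intro a ha
    obtain ⟨c, -, rfl⟩ := Multiset.mem_map.1 ha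
    exact Valuation.map_sub_le _ (hle x hx) (Q.2.1 c)) h1
  obtain ⟨c, -, rfl⟩ := Multiset.mem_map.1 ha
  exact ⟨c, hlt1⟩

/-- If `Q^F = Q` and `x ∈ K` is congruent to the constant `c` at `Q`, then `c` is fixed by the
`q`-power map. -/
theorem pow_card_eq_of_frob_fixed
    (Q : FunFld.Place kb Kb) (q : ℕ)
    (F : Kb →+* Kb) (hF1 : ∀ c : kb, F (algebraMap kb Kb c) = algebraMap kb Kb c)
    (hF2 : ∀ x : K, F (algebraMap K Kb x) = algebraMap K Kb x ^ q)
    (hQF : ∀ z : Kb, Q.1 z < 1 → Q.1 (F z) < 1)
    {x : K} (hx : Q.1 (algebraMap K Kb x) ≤ 1) {c : kb}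
    (hxc : Q.1 (algebraMap K Kb x - algebraMap kb Kb c) < 1) : c ^ q = c := by
  have hA : Q.1 (algebraMap K Kb x ^ q - algebraMap kb Kb c) < 1 := by
    have := hQF _ hxc
    rwa [map_sub, hF1, hF2] at this
  have hB : Q.1 (algebraMap K Kb x ^ q - algebraMap kb Kb c ^ q) < 1 := by
    rw [← (Commute.all (algebraMap K Kb x) (algebraMap kb Kb c)).geom_sum₂_mul q, map_mul]
    have h1 : Q.1 (∑ i ∈ Finset.range q,
        algebraMap K Kb x ^ i * algebraMap kb Kb c ^ (q - 1 - i)) ≤ 1 := by
      apply Valuation.map_sum_le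
      intro i _
      rw [map_mul, map_pow, map_pow]
      exact mul_le_one' (pow_le_one' hx _) (pow_le_one' (Q.2.1 c) _)
    exact (mul_le_mul' h1 le_rfl).trans_lt (by rwa [one_mul])
  have hC : Q.1 (algebraMap kb Kb (c ^ q - c)) < 1 := by
    have h2 : algebraMap kb Kb (c ^ q - c) =
        (algebraMap K Kb x ^ q - algebraMap kb Kb c) -
          (algebraMap K Kb x ^ q - algebraMap kb Kb c ^ q) := by
      rw [map_sub, map_pow]; ring
    rw [h2]
    exact Valuation.map_sub_lt _ hA hB
  by_contra hne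
  have h0 : c ^ q - c ≠ 0 := sub_ne_zero.2 hne
  rw [val_algebraMap Q h0] at hC
  exact lt_irrefl _ hC

/-- In a constant field extension, `k`-linearly independent constants stay "independent" at a
place lying over a place of degree one: the value of `∑ bᵢ xᵢ` is the largest value of the `xᵢ`. -/
theorem val_sum_mul_eq_of_linearIndependent
    (hc : ∀ c : k, algebraMap K Kb (algebraMap k K c) = algebraMap kb Kb (algebraMap k kb c))
    (Q : FunFld.Place kb Kb) {P : FunFld.Place k K}
    (hP : ∀ x : K, Q.1 (algebraMap K Kb x) ≤ 1 ↔ P.1 x ≤ 1) (hdeg : P.deg = 1)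
    {ι : Type*} {b : ι → kb} (hb : LinearIndependent k b) (s : Finset ι) (x : ι → K)
    {j : ι} (hj : j ∈ s) (hxj : x j ≠ 0)
    (hmax : ∀ i ∈ s, Q.1 (algebraMap K Kb (x i)) ≤ Q.1 (algebraMap K Kb (x j))) :
    Q.1 (∑ i ∈ s, algebraMap kb Kb (b i) * algebraMap K Kb (x i)) =
      Q.1 (algebraMap K Kb (x j)) := by
  classical
  have hlt : ∀ y : K, P.1 y < 1 → Q.1 (algebraMap K Kb y) < 1 := by
    intro y hy
    by_cases hy0 : y = 0
    · rw [hy0, map_zero, map_zero]; exact zero_lt_one
    · by_contra hcon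
      rw [not_lt] at hcon
      have hQ0 : Q.1 (algebraMap K Kb y) ≠ 0 :=
        (Valuation.ne_zero_iff _).2 ((_root_.map_ne_zero _).2 hy0)
      have h1 : Q.1 (algebraMap K Kb y⁻¹) ≤ 1 := by
        rw [map_inv₀, map_inv₀]
        exact inv_le_one_of_one_le₀ hcon
      have h2 := (hP _).1 h1
      rw [map_inv₀] at h2
      have hP0 : P.1 y ≠ 0 := (Valuation.ne_zero_iff _).2 hy0
      have h3 : 1 ≤ P.1 y := (inv_le_one₀ (zero_lt_iff.2 hP0)).1 h2
      exact absurd hy (not_lt.2 h3)
  have hxj' : algebraMap K Kb (x j) ≠ 0 := (_root_.map_ne_zero _).2 hxj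
  have hQj : Q.1 (algebraMap K Kb (x j)) ≠ 0 := (Valuation.ne_zero_iff _).2 hxj'
  set u : ι → K := fun i => x i / x j with hu
  have hu1 : ∀ i ∈ s, P.1 (u i) ≤ 1 := by
    intro i hi
    rw [← hP, hu]
    simp only
    rw [map_div₀, map_div₀]
    exact div_le_one_of_le₀ (hmax i hi) zero_le
  have hex : ∀ i, ∃ a : k, i ∈ s → P.1 (u i - algebraMap k K a) < 1 := by
    intro i
    by_cases hi : i ∈ s
    · obtain ⟨a, ha⟩ := exists_const_val_sub_lt_one hdeg (hu1 i hi)
      exact ⟨a, fun _ => ha⟩
    · exact ⟨0, fun h => absurd h hi⟩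
  choose a ha using hex
  have haj : a j ≠ 0 := by
    intro h0
    have := ha j hj
    rw [h0, map_zero, sub_zero, hu] at this
    simp only at this
    rw [div_self hxj, map_one] at this
    exact lt_irrefl _ this
  have hsplit : ∑ i ∈ s, algebraMap kb Kb (b i) * algebraMap K Kb (u i) =
      ∑ i ∈ s, algebraMap kb Kb (b i) * algebraMap K Kb (u i - algebraMap k K (a i)) +
        algebraMap kb Kb (∑ i ∈ s, a i • b i) := by
    rw [map_sum, ← Finset.sum_add_distrib]
    refine Finset.sum_congr rfl fun i _ => ?_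
    rw [map_sub, hc, Algebra.smul_def, map_mul]
    ring
  have hA : Q.1 (∑ i ∈ s, algebraMap kb Kb (b i) *
      algebraMap K Kb (u i - algebraMap k K (a i))) < 1 := by
    apply Valuation.map_sum_lt _ one_ne_zero
    intro i hi
    rw [map_mul]
    exact (mul_le_mul' (Q.2.1 (b i)) le_rfl).trans_lt (by rw [one_mul]; exact hlt _ (ha i hi))
  have hB : Q.1 (algebraMap kb Kb (∑ i ∈ s, a i • b i)) = 1 := by
    apply val_algebraMap Q
    intro h0
    exact haj (linearIndependent_iff'.1 hb s a h0 j hj)
  have hAB : Q.1 (∑ i ∈ s, algebraMap kb Kb (b i) * algebraMap K Kb (u i)) = 1 := by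
    rw [hsplit, Valuation.map_add_eq_of_lt_right _ (by rw [hB]; exact hA), hB]
  have hfin : ∑ i ∈ s, algebraMap kb Kb (b i) * algebraMap K Kb (x i) =
      algebraMap K Kb (x j) * ∑ i ∈ s, algebraMap kb Kb (b i) * algebraMap K Kb (u i) := by
    rw [Finset.mul_sum]
    refine Finset.sum_congr rfl fun i _ => ?_
    rw [hu]
    simp only
    rw [map_div₀]
    field_simp
  rw [hfin, map_mul, hAB, mul_one]

/-- Elements of the compositum `kb · K` are `K`-combinations of a `k`-basis of `kb`. -/
theorem exists_sum_basis_mul_eq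
    (hc : ∀ c : k, algebraMap K Kb (algebraMap k K c) = algebraMap kb Kb (algebraMap k kb c))
    (hgen : Algebra.adjoin K (Set.range (algebraMap kb Kb)) = ⊤)
    {ι : Type*} (b : Module.Basis ι k kb) (z : Kb) :
    ∃ (s : Finset ι) (x : ι → K),
      z = ∑ i ∈ s, algebraMap kb Kb (b i) * algebraMap K Kb (x i) := by
  classical
  letI : Algebra k Kb := ((algebraMap K Kb).comp (algebraMap k K)).toAlgebra
  haveI : IsScalarTower k K Kb := IsScalarTower.of_algebraMap_eq (fun _ => rfl)
  haveI : IsScalarTower k kb Kb := IsScalarTower.of_algebraMap_eq (fun c => hc c)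
  set φ : TensorProduct k kb K →ₐ[k] Kb := Algebra.TensorProduct.productMap
    (IsScalarTower.toAlgHom k kb Kb) (IsScalarTower.toAlgHom k K Kb) with hφ
  have hz : z ∈ Algebra.adjoin K (Set.range (algebraMap kb Kb)) := by rw [hgen]; trivial
  have hmem : z ∈ φ.range := by
    induction hz using Algebra.adjoin_induction with
    | mem y hy =>
      obtain ⟨c, rfl⟩ := hy
      exact ⟨c ⊗ₜ 1, by simp [hφ]⟩
    | algebraMap r => exact ⟨1 ⊗ₜ r, by simp [hφ]⟩
    | add y y' _ _ h h' => exact add_mem h h'
    | mul y y' _ _ h h' => exact mul_mem h h'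
  obtain ⟨t, rfl⟩ := hmem
  obtain ⟨c, rfl⟩ := TensorProduct.eq_repr_basis_left b t
  refine ⟨c.support, c, ?_⟩
  rw [Finsupp.sum, map_sum]
  refine Finset.sum_congr rfl fun i _ => ?_
  simp [hφ]

/-- The compositum `kb · K` is algebraic over `K` when `kb/k` is. -/
theorem isAlgebraic_of_adjoin_range_eq_top [Algebra.IsAlgebraic k kb]
    (hc : ∀ c : k, algebraMap K Kb (algebraMap k K c) = algebraMap kb Kb (algebraMap k kb c))
    (hgen : Algebra.adjoin K (Set.range (algebraMap kb Kb)) = ⊤) : Algebra.IsAlgebraic K Kb := by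
  letI : Algebra k Kb := ((algebraMap K Kb).comp (algebraMap k K)).toAlgebra
  haveI : IsScalarTower k K Kb := IsScalarTower.of_algebraMap_eq (fun _ => rfl)
  haveI : IsScalarTower k kb Kb := IsScalarTower.of_algebraMap_eq (fun c => hc c)
  have hle : Algebra.adjoin K (Set.range (algebraMap kb Kb)) ≤ integralClosure K Kb := by
    apply Algebra.adjoin_le
    rintro _ ⟨c, rfl⟩
    have h1 : IsIntegral k c := Algebra.IsIntegral.isIntegral c
    have h2 : IsIntegral k (algebraMap kb Kb c) := h1.map (IsScalarTower.toAlgHom k kb Kb)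
    exact h2.tower_top
  rw [hgen] at hle
  haveI : Algebra.IsIntegral K Kb := ⟨fun z => hle (by trivial)⟩
  infer_instance

end CE

end Groth.Agent.Lib.H40FunFld
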