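import Groth.Agent.S11000
import Groth.Agent.S11005
import Groth.Agent.Lib.H40FunFld
import Mathlib.RingTheory.Unramified.Field
import Mathlib.RingTheory.Jacobson.Semiprimary

set_option autoImplicit false
set_option linter.style.haveILetI false
set_option linter.unusedSectionVars false
open FunFld Polynomial

namespace Groth.Agent.Lib.H40FunFld

open IntermediateField TensorProduct

universe u v w

section SepTensor

variable {K : Type*} {K' : Type*} {L : Type*} [Field K] [Field K'] [Field L] [Algebra K K']
  [Algebra K L]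

/-- A finite separable extension stays reduced after any field base change. -/
theorem isReduced_tensor_of_isSeparable [FiniteDimensional K K'] [Algebra.IsSeparable K K'] :
    IsReduced (K' ⊗[K] L) := by
  haveI : Algebra.FormallyUnramified K K' := Algebra.FormallyUnramified.of_isSeparable K K'
  haveI : Algebra.FiniteType K K' := inferInstance
  haveI : Algebra.EssFiniteType K K' := inferInstance
  haveI : IsReduced (L ⊗[K] K') := Algebra.FormallyUnramified.isReduced_of_field L (L ⊗[K] K')
  exact isReduced_of_injective (Algebra.TensorProduct.comm K K' L)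
    (Algebra.TensorProduct.comm K K' L).injective

end SepTensor

section GeoRed

variable {k : Type*} {K : Type*} {K' : Type*} {k'' : Type*} [Field k] [Field K] [Field K']
  [Field k''] [Algebra k K] [Algebra K K'] [Algebra k K'] [IsScalarTower k K K'] [Algebra k k'']

/-- If `k'' ⊗_k K` is a field and `K'/K` is finite separable, `K' ⊗_k k''` is reduced. -/
theorem isReduced_tensor_of_isField [FiniteDimensional K K'] [Algebra.IsSeparable K K']
    (hF : IsField (k'' ⊗[k] K)) : IsReduced (K' ⊗[k] k'') := by
  have hF' : IsField (K ⊗[k] k'') := (Algebra.TensorProduct.comm k K k'').toMulEquiv.isField hF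
  letI : Field (K ⊗[k] k'') := hF'.toField
  haveI : IsReduced (K' ⊗[K] (K ⊗[k] k'')) :=
    isReduced_tensor_of_isSeparable (K := K) (K' := K') (L := K ⊗[k] k'')
  exact isReduced_of_injective (Algebra.TensorProduct.cancelBaseChange k K K' K' k'').symm
    (Algebra.TensorProduct.cancelBaseChange k K K' K' k'').symm.injective

end GeoRed

section GeoRed2

variable {k : Type*} {k' : Type*} {K' : Type*} {k'' : Type*} [Field k] [Field k'] [Field K']
  [Field k''] [Algebra k k'] [Algebra k' K'] [Algebra k K'] [IsScalarTower k k' K']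
  [Algebra k' k''] [Algebra k k''] [IsScalarTower k k' k'']

/-- Reducedness descends from `K' ⊗_k k''` to its quotient `K' ⊗_{k'} k''` (both Artinian). -/
theorem isReduced_tensor_of_isReduced_tensor [FiniteDimensional k k'']
    (hR : IsReduced (K' ⊗[k] k'')) : IsReduced (K' ⊗[k'] k'') := by
  haveI : IsArtinianRing (K' ⊗[k] k'') := IsArtinianRing.of_finite K' _
  haveI : IsSemisimpleRing (K' ⊗[k] k'') := IsArtinianRing.isSemisimpleRing_of_isReduced _
  haveI : IsSemisimpleRing (K' ⊗[k'] k'') :=
    RingHom.isSemisimpleRing_of_surjective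
      (Algebra.TensorProduct.mapOfCompatibleSMul k' k K' K' k'').toRingHom
      (Algebra.TensorProduct.mapOfCompatibleSMul_surjective k' k K' K' k'')
  infer_instance

end GeoRed2

section PITrick

variable {k' : Type*} {K' : Type*} {k'' : Type*} [Field k'] [Field K'] [Field k'']
  [Algebra k' K'] [Algebra k' k''] [Algebra.IsAlgebraic k' k'']

/-- If `K' ⊗ k''_s` is a field (`k''_s` the separable closure of `k'` in `k''`) and `K' ⊗ k''` is
reduced, then `K' ⊗ k''` is a field. -/
theorem isField_tensor_of_isReduced_of_isField_sep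
    (hs : IsField (K' ⊗[k'] (separableClosure k' k'')))
    (hred : IsReduced (K' ⊗[k'] k'')) : IsField (K' ⊗[k'] k'') := by
  set ks := separableClosure k' k'' with hks
  set q := ringExpChar k' with hq
  haveI : ExpChar k' q := ringExpChar.expChar k'
  haveI : ExpChar ks q := expChar_of_injective_ringHom (algebraMap k' ks).injective q
  let ψ : K' ⊗[k'] ks →ₐ[k'] K' ⊗[k'] k'' :=
    Algebra.TensorProduct.map (AlgHom.id k' K') ks.val
  have hψ : Function.Injective ψ :=
    Module.Flat.lTensor_preserves_injective_linearMap (M := K') ks.val.toLinearMap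
      (algebraMap ks k'').injective
  haveI : Nontrivial (K' ⊗[k'] ks) := ⟨hs.exists_pair_ne⟩
  haveI : Nontrivial (K' ⊗[k'] k'') := hψ.nontrivial
  haveI : ExpChar (K' ⊗[k'] k'') q :=
    expChar_of_injective_ringHom (algebraMap k' (K' ⊗[k'] k'')).injective q
  have hq1 : ∀ n : ℕ, 0 < q ^ n := fun n => pow_pos (expChar_pos k' q) n
  have key : ∀ t : K' ⊗[k'] k'', ∃ n : ℕ, t ^ (q ^ n) ∈ ψ.range := by
    intro t
    induction t using TensorProduct.induction_on with
    | zero => exact ⟨0, by simp⟩
    | tmul y c =>
      obtain ⟨n, s, hsc⟩ := IsPurelyInseparable.pow_mem ks q c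
      refine ⟨n, (y ^ (q ^ n)) ⊗ₜ[k'] s, ?_⟩
      rw [Algebra.TensorProduct.tmul_pow, ← hsc]
      rfl
    | add t t' ht ht' =>
      obtain ⟨n, hn⟩ := ht
      obtain ⟨n', hn'⟩ := ht'
      refine ⟨n + n', ?_⟩
      rw [add_pow_expChar_pow]
      refine Subalgebra.add_mem _ ?_ ?_
      · rw [pow_add, pow_mul]; exact Subalgebra.pow_mem _ hn _
      · rw [add_comm n n', pow_add, pow_mul]; exact Subalgebra.pow_mem _ hn' _
  refine ⟨exists_pair_ne _, mul_comm, fun {t} ht => ?_⟩
  obtain ⟨n, s, hsn⟩ := key t
  have htn : t ^ (q ^ n) ≠ 0 := fun h0 => ht (IsNilpotent.eq_zero ⟨_, h0⟩)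
  have hs0 : s ≠ 0 := by
    rintro rfl
    apply htn
    rw [← hsn]; exact map_zero _
  obtain ⟨s', hss'⟩ := hs.mul_inv_cancel hs0
  refine ⟨t ^ (q ^ n - 1) * ψ s', ?_⟩
  have h1 : t * t ^ (q ^ n - 1) = t ^ (q ^ n) := by
    rw [← pow_succ', Nat.sub_add_cancel (hq1 n)]
  have hsn' : ψ s = t ^ (q ^ n) := hsn
  have h2 : ψ (s * s') = ψ s * ψ s' := _root_.map_mul ψ s s'
  have h3 : ψ 1 = 1 := ψ.toRingHom.map_one
  rw [← mul_assoc, h1, ← hsn', ← h2, hss', h3]

end PITrick

section ConstFinite

variable {k k' : Type u} {K K' : Type v} [Field k] [Field k'] [Field K] [Field K']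
  [Algebra k k'] [Algebra k K] [Algebra K K'] [Algebra k' K'] [Algebra k K']
  [IsScalarTower k k' K'] [IsScalarTower k K K']

/-- The constant field of a finite extension of a function field is algebraic over `k`. -/
theorem isAlgebraic_const_of_finite (hK : FunFld.IsFunctionField k K) [FiniteDimensional K K']
    (hK' : FunFld.IsFunctionField k' K') : Algebra.IsAlgebraic k k' := by
  have h1 : Algebra.trdeg k K ≤ 1 := Groth.Agent.S11005.trdeg_le_one hK
  have h2 : Algebra.trdeg K K' = 0 := trdeg_eq_zero
  have h3 : Algebra.trdeg k K + Algebra.trdeg K K' = Algebra.trdeg k K' :=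
    trdeg_add_eq k K
  have h4 : Algebra.trdeg k K' ≤ 1 := by rw [← h3, h2, add_zero]; exact h1
  have h5 : Cardinal.lift.{v} (Algebra.trdeg k k') + Cardinal.lift.{u} (Algebra.trdeg k' K') =
      Cardinal.lift.{u} (Algebra.trdeg k K') := lift_trdeg_add_eq k k' K'
  obtain ⟨⟨x, hx, -⟩, -⟩ := hK'
  haveI : Algebra.Transcendental k' K' := ⟨⟨x, hx⟩⟩
  rw [← trdeg_eq_zero_iff]
  by_contra hne
  have h7 : (1 : Cardinal.{max u v}) ≤ Cardinal.lift.{v} (Algebra.trdeg k k') := by
    rw [Cardinal.one_le_iff_ne_zero]
    intro h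
    exact hne (Cardinal.lift_eq_zero.1 h)
  have h6 : (1 : Cardinal.{max u v}) ≤ Cardinal.lift.{u} (Algebra.trdeg k' K') := by
    rw [Cardinal.one_le_iff_ne_zero]
    intro h
    exact (trdeg_pos k' K').ne' (Cardinal.lift_eq_zero.1 h)
  have h9 : Cardinal.lift.{u} (Algebra.trdeg k K') ≤ (1 : Cardinal.{max u v}) := by
    have := Cardinal.lift_le.{u}.2 h4
    simpa using this
  have h10 : (1 : Cardinal.{max u v}) + 1 ≤ 1 := by
    calc (1 : Cardinal.{max u v}) + 1 ≤ _ := add_le_add h7 h6
      _ = _ := h5
      _ ≤ 1 := h9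
  have h11 : ((2 : ℕ) : Cardinal.{max u v}) ≤ ((1 : ℕ) : Cardinal.{max u v}) := by
    push_cast
    rw [← one_add_one_eq_two]
    exact h10
  exact absurd (Nat.cast_le.1 h11) (by norm_num)

/-- The constant field of a finite extension of a geometric function field is finite over `k`. -/
theorem finiteDimensional_const_of_finite (hK : FunFld.IsFunctionField k K)
    (hg : FunFld.IsGeometric k K) [FiniteDimensional K K']
    (hK' : FunFld.IsFunctionField k' K') : FiniteDimensional k k' := by
  haveI := isAlgebraic_const_of_finite (K := K) hK hK'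
  by_contra hnfd
  obtain ⟨L, hLfin, hLn⟩ :=
    IntermediateField.exists_lt_finrank_of_infinite_dimensional hnfd (Module.finrank K K')
  have hF : IsField (↥L ⊗[k] K) := hg ↥L hLfin
  have hF' : IsField (K ⊗[k] ↥L) := (Algebra.TensorProduct.comm k K ↥L).toMulEquiv.isField hF
  let f : K ⊗[k] ↥L →ₐ[K] K' :=
    Algebra.TensorProduct.productLeftAlgHom (Algebra.ofId K K')
      ((IsScalarTower.toAlgHom k k' K').comp L.val)
  have hf : Function.Injective f := by
    letI : Field (K ⊗[k] ↥L) := hF'.toField
    exact f.toRingHom.injective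
  have h1 := LinearMap.finrank_le_finrank_of_injective (f := f.toLinearMap) hf
  rw [Module.finrank_baseChange] at h1
  omega

/-- A finite separable extension of a geometric function field is geometric over its constant
field. -/
theorem isGeometric_of_finite_isSeparable (hK : FunFld.IsFunctionField k K)
    (hg : FunFld.IsGeometric k K) [FiniteDimensional K K'] [Algebra.IsSeparable K K']
    (hK' : FunFld.IsFunctionField k' K') : FunFld.IsGeometric k' K' := by
  haveI := finiteDimensional_const_of_finite hK hg hK'
  intro k'' _ _ hfin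
  letI : Algebra k k'' := ((algebraMap k' k'').comp (algebraMap k k')).toAlgebra
  haveI : IsScalarTower k k' k'' := IsScalarTower.of_algebraMap_eq (fun _ => rfl)
  haveI : FiniteDimensional k k'' := FiniteDimensional.trans k k' k''
  have hF : IsField (k'' ⊗[k] K) := hg k'' inferInstance
  have hR : IsReduced (K' ⊗[k] k'') := isReduced_tensor_of_isField (K := K) hF
  have hT : IsReduced (K' ⊗[k'] k'') := isReduced_tensor_of_isReduced_tensor (k := k) hR
  haveI : Algebra.IsAlgebraic k' k'' := Algebra.IsAlgebraic.of_finite k' k''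
  have hs : IsField (K' ⊗[k'] (separableClosure k' k'')) := by
    obtain ⟨α, hα⟩ := Field.exists_primitive_element k' (separableClosure k' k'')
    have hα' : Algebra.adjoin k' {α} = ⊤ := by
      rw [← IntermediateField.adjoin_simple_toSubalgebra_of_isAlgebraic
        (Algebra.IsAlgebraic.isAlgebraic α), hα, IntermediateField.top_toSubalgebra]
    exact Groth.Agent.S11000.isField_tensor_of_primitive hK'.2 _ α hα'
  have hfld := isField_tensor_of_isReduced_of_isField_sep hs hT
  exact (Algebra.TensorProduct.comm k' k'' K').toMulEquiv.isField hfld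

end ConstFinite

end Groth.Agent.Lib.H40FunFld
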