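import Groth.Agent.Lib.H40FunFldGalois2
import Groth.Agent.Lib.H40FunFldApprox

set_option autoImplicit false
set_option linter.style.haveILetI false
set_option linter.unusedSectionVars false
open FunFld Polynomial

namespace Groth.Agent.Lib.H40FunFld

open Groth.Agent.Lib.H40QuotChain IntermediateField

universe u v w
variable {k : Type u} [Field k] {K : Type v} [Field K] [Algebra k K] {K' : Type w} [Field K']
  [Algebra K K'] [Algebra k K'] [IsScalarTower k K K']

section Ram

/-- Goldschmidt's ramification group `G_j`: the `σ` with `v_Q(σ x - x) ≥ j` on `O_Q`. -/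
def InRam (Q : FunFld.Place k K') (j : ℤ) (σ : K' ≃ₐ[K] K') : Prop :=
  ∀ x : K', Q.1 x ≤ 1 → Q.1 (σ x - x) ≤ WithZero.exp (-j)

variable {Q : FunFld.Place k K'} {j : ℤ} {σ τ : K' ≃ₐ[K] K'}

theorem InRam.mono {i : ℤ} (h : InRam Q j σ) (hij : i ≤ j) : InRam Q i σ := fun x hx =>
  (h x hx).trans (WithZero.exp_le_exp.2 (by omega))

theorem InRam.map_le_one (h : InRam Q j σ) (hj : 0 ≤ j) {x : K'} (hx : Q.1 x ≤ 1) :
    Q.1 (σ x) ≤ 1 := by
  have h1 : σ x = (σ x - x) + x := by ring
  rw [h1]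
  refine (Q.1.map_add _ _).trans (max_le ((h x hx).trans ?_) hx)
  rw [← WithZero.exp_zero]
  exact WithZero.exp_le_exp.2 (by omega)

theorem InRam.val_map (h : InRam Q j σ) (hj : 0 ≤ j) (x : K') : Q.1 (σ x) = Q.1 x := by
  have heq : Q = galPlace σ⁻¹ Q := by
    apply eq_of_forall_le_one
    intro a ha
    rw [galPlace_apply]
    exact h.map_le_one hj ha
  have := congrArg (fun P : FunFld.Place k K' => P.1 x) heq
  simp only [galPlace_apply] at this
  exact this.symm

theorem InRam.one : InRam Q j (1 : K' ≃ₐ[K] K') := fun x _ => by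
  rw [AlgEquiv.one_apply, sub_self, map_zero]; exact zero_le

theorem InRam.mul (hσ : InRam Q j σ) (hτ : InRam Q j τ) (hj : 0 ≤ j) : InRam Q j (σ * τ) := by
  intro x hx
  have h1 : (σ * τ) x - x = σ (τ x - x) + (σ x - x) := by
    rw [AlgEquiv.mul_apply, map_sub]; ring
  rw [h1]
  refine (Q.1.map_add _ _).trans (max_le ?_ (hσ x hx))
  rw [hσ.val_map hj]
  exact hτ x hx

theorem InRam.inv (hσ : InRam Q j σ) (hj : 0 ≤ j) : InRam Q j σ⁻¹ := by
  intro x hx
  have h1 : Q.1 (σ⁻¹ x - x) = Q.1 (σ (σ⁻¹ x - x)) := (hσ.val_map hj _).symm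
  rw [h1, map_sub]
  have h2 : σ (σ⁻¹ x) = x := σ.apply_symm_apply x
  rw [h2, ← Valuation.map_neg, neg_sub]
  exact hσ x hx

variable (Q) in
/-- The ramification group `G_j`, `j ≥ 0`, as a subgroup. -/
def ramGroup (j : ℕ) : Subgroup (K' ≃ₐ[K] K') where
  carrier := {σ | InRam Q (j : ℤ) σ}
  mul_mem' := fun ha hb => InRam.mul ha hb (Int.natCast_nonneg _)
  one_mem' := InRam.one
  inv_mem' := fun ha => InRam.inv ha (Int.natCast_nonneg _)

theorem mem_ramGroup {j : ℕ} : σ ∈ ramGroup Q j ↔ InRam Q (j : ℤ) σ := Iff.rfl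

end Ram

section FixedResidue

variable (Q : FunFld.Place k K') (H : Subgroup (K' ≃ₐ[K] K'))

/-- Residues of the `H`-invariant elements of `O_Q`: an intermediate field of the residue field
over `k`. -/
def fixedResidue : IntermediateField k (IsLocalRing.ResidueField ↥Q.O) where
  carrier := {r | ∃ y : ↥Q.O, (∀ σ ∈ H, σ y.1 = y.1) ∧ IsLocalRing.residue ↥Q.O y = r}
  mul_mem' := by
    rintro _ _ ⟨y, hy, rfl⟩ ⟨z, hz, rfl⟩
    exact ⟨y * z, fun σ hσ => by
      change σ (y.1 * z.1) = y.1 * z.1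
      rw [map_mul, hy σ hσ, hz σ hσ], map_mul _ _ _⟩
  one_mem' := ⟨1, fun σ _ => map_one σ, map_one _⟩
  add_mem' := by
    rintro _ _ ⟨y, hy, rfl⟩ ⟨z, hz, rfl⟩
    exact ⟨y + z, fun σ hσ => by
      change σ (y.1 + z.1) = y.1 + z.1
      rw [map_add, hy σ hσ, hz σ hσ], map_add _ _ _⟩
  zero_mem' := ⟨0, fun σ _ => map_zero σ, map_zero _⟩
  algebraMap_mem' := fun c => ⟨algebraMap k ↥Q.O c, fun σ _ => by
    change σ (algebraMap k K' c) = algebraMap k K' c
    rw [IsScalarTower.algebraMap_apply k K K', σ.commutes], rfl⟩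
  inv_mem' := by
    rintro _ ⟨y, hy, rfl⟩
    by_cases h0 : IsLocalRing.residue ↥Q.O y = 0
    · rw [h0, inv_zero]
      exact ⟨0, fun σ _ => map_zero σ, map_zero _⟩
    · have h1 : ¬ Q.1 (y : K') < 1 := fun h => h0 ((residue_eq_zero_iff Q y).2 h)
      have h2 : Q.1 (y : K') = 1 := le_antisymm y.2 (not_lt.1 h1)
      have h3 : Q.1 (y : K')⁻¹ ≤ 1 := by rw [map_inv₀, h2, inv_one]
      have hy0 : (y : K') ≠ 0 := by
        intro h; rw [h, map_zero] at h2; exact zero_ne_one h2
      refine ⟨⟨(y : K')⁻¹, h3⟩, fun σ hσ => by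
        change σ (y : K')⁻¹ = (y : K')⁻¹
        rw [map_inv₀, hy σ hσ], ?_⟩
      apply eq_inv_of_mul_eq_one_left
      rw [← map_mul]
      have : (⟨(y : K')⁻¹, h3⟩ : ↥Q.O) * y = 1 := Subtype.ext (inv_mul_cancel₀ hy0)
      rw [this, map_one]

theorem mem_fixedResidue {r : IsLocalRing.ResidueField ↥Q.O} :
    r ∈ fixedResidue Q H ↔
      ∃ y : ↥Q.O, (∀ σ ∈ H, σ y.1 = y.1) ∧ IsLocalRing.residue ↥Q.O y = r := Iff.rfl

variable {Q H}

/-- Restriction of an element of the inertia group to the valuation ring. -/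
def ramRestrict {σ : K' ≃ₐ[K] K'} (hσ : InRam Q 1 σ) : ↥Q.O →+* ↥Q.O where
  toFun := fun x => ⟨σ x.1, hσ.map_le_one zero_le_one x.2⟩
  map_one' := Subtype.ext (map_one σ)
  map_mul' := fun x y => Subtype.ext (map_mul σ x.1 y.1)
  map_zero' := Subtype.ext (map_zero σ)
  map_add' := fun x y => Subtype.ext (map_add σ x.1 y.1)

theorem residue_ramRestrict {σ : K' ≃ₐ[K] K'} (hσ : InRam Q 1 σ) (x : ↥Q.O) :
    IsLocalRing.residue ↥Q.O (ramRestrict hσ x) = IsLocalRing.residue ↥Q.O x := by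
  rw [← sub_eq_zero, ← map_sub, residue_eq_zero_iff]
  change Q.1 (σ x.1 - x.1) < 1
  rw [lt_one_iff_le_exp_neg_one]
  exact hσ x.1 x.2

/-- If the residue field of `Q` is separable over `k`, every residue class has a representative
fixed by a given subgroup of the inertia group. -/
theorem fixedResidue_eq_top [FiniteDimensional K K']
    [Algebra.IsSeparable k (IsLocalRing.ResidueField ↥Q.O)]
    (hH : ∀ σ ∈ H, InRam Q 1 σ) (r : IsLocalRing.ResidueField ↥Q.O) : r ∈ fixedResidue Q H := by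
  classical
  obtain ⟨x, rfl⟩ := IsLocalRing.residue_surjective r
  set F₁ := fixedResidue Q H with hF₁
  set xb := IsLocalRing.residue ↥Q.O x with hxb
  haveI : Fintype ↥H := Fintype.ofFinite _
  -- the polynomial `∏ (X - σ x)`
  set g : (↥Q.O)[X] := ∏ τ : ↥H, (X - C (ramRestrict (hH τ.1 τ.2) x)) with hg
  have hginv : ∀ σ : ↥H, g.map (ramRestrict (hH σ.1 σ.2)) = g := by
    intro σ
    rw [hg, Polynomial.map_prod]
    simp only [Polynomial.map_sub, Polynomial.map_X, Polynomial.map_C]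
    refine Fintype.prod_equiv (Equiv.mulLeft σ) _ _ (fun τ => ?_)
    congr 2
  have hcoeff : ∀ i, IsLocalRing.residue ↥Q.O (g.coeff i) ∈ F₁ := by
    intro i
    refine ⟨g.coeff i, fun σ hσ => ?_, rfl⟩
    have h1 := congrArg (fun p => (Polynomial.coeff p i : ↥Q.O).1) (hginv ⟨σ, hσ⟩)
    simp only [Polynomial.coeff_map] at h1
    exact h1
  have hgmap : g.map (IsLocalRing.residue ↥Q.O) = (X - C xb) ^ Nat.card ↥H := by
    rw [hg, Polynomial.map_prod]
    simp only [Polynomial.map_sub, Polynomial.map_X, Polynomial.map_C, residue_ramRestrict]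
    rw [Finset.prod_const, Finset.card_univ, Nat.card_eq_fintype_card]
  -- lift to `F₁[X]`
  have hlift : (X - C xb) ^ Nat.card ↥H ∈ Polynomial.lifts (algebraMap ↥F₁ _) := by
    rw [Polynomial.lifts_iff_coeff_lifts]
    intro i
    rw [← hgmap, Polynomial.coeff_map]
    exact ⟨⟨_, hcoeff i⟩, rfl⟩
  obtain ⟨q, hq⟩ := (Polynomial.mem_lifts _).1 hlift
  have hcard : 0 < Nat.card ↥H := Nat.card_pos
  have hroot : Polynomial.aeval xb q = 0 := by
    rw [Polynomial.aeval_def, Polynomial.eval₂_eq_eval_map, hq, Polynomial.eval_pow,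
      Polynomial.eval_sub, Polynomial.eval_X, Polynomial.eval_C, sub_self, zero_pow hcard.ne']
  have hdvd := minpoly.dvd ↥F₁ xb hroot
  have hdvd' : (minpoly ↥F₁ xb).map (algebraMap ↥F₁ _) ∣ (X - C xb) ^ Nat.card ↥H := by
    rw [← hq]
    exact Polynomial.map_dvd _ hdvd
  have hsep : (minpoly ↥F₁ xb).Separable := Algebra.IsSeparable.isSeparable ↥F₁ xb
  have hsep' := hsep.map (f := algebraMap ↥F₁ (IsLocalRing.ResidueField ↥Q.O))
  obtain ⟨i, -, hi⟩ := (dvd_prime_pow (Polynomial.prime_X_sub_C xb) _).1 hdvd'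
  have hi1 : i ≤ 1 := by
    by_contra hlt
    push Not at hlt
    have hsq : Squarefree ((X - C xb) ^ i) := hsep'.squarefree.squarefree_of_dvd hi.symm.dvd
    have : (X - C xb) * (X - C xb) ∣ (X - C xb) ^ i := by
      rw [← pow_two]
      exact pow_dvd_pow _ hlt
    exact (Polynomial.prime_X_sub_C xb).not_isUnit (hsq _ this)
  have hdeg : (minpoly ↥F₁ xb).natDegree ≤ 1 := by
    have h1 := Polynomial.degree_eq_degree_of_associated hi
    have h2 : ((minpoly ↥F₁ xb).map (algebraMap ↥F₁ _)).natDegree = ((X - C xb) ^ i).natDegree :=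
      Polynomial.natDegree_eq_natDegree h1
    rw [Polynomial.natDegree_map, Polynomial.natDegree_pow, Polynomial.natDegree_X_sub_C,
      mul_one] at h2
    omega
  have hint : IsIntegral ↥F₁ xb := (Algebra.IsSeparable.isSeparable ↥F₁ xb).isIntegral
  have hpos := minpoly.natDegree_pos hint
  have h1 : (minpoly ↥F₁ xb).natDegree = 1 := by omega
  obtain ⟨⟨r, hr⟩, hr'⟩ := (minpoly.natDegree_eq_one_iff).1 h1
  rw [← hr']
  exact hr

end FixedResidue

section Uniformizer

variable {Q : FunFld.Place k K'} {σ : K' ≃ₐ[K] K'}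

/-- Every element of `O_Q` is congruent mod `m_Q` to an element fixed by `σ` in the inertia
group. -/
theorem exists_fixed_congr [FiniteDimensional K K']
    [Algebra.IsSeparable k (IsLocalRing.ResidueField ↥Q.O)] (hσ : InRam Q 1 σ)
    {x : K'} (hx : Q.1 x ≤ 1) : ∃ y : K', Q.1 y ≤ 1 ∧ σ y = y ∧ Q.1 (x - y) < 1 := by
  have hH : ∀ τ ∈ Subgroup.zpowers σ, InRam Q 1 τ := by
    intro τ hτ
    have hle : Subgroup.zpowers σ ≤ ramGroup Q 1 := by
      rw [Subgroup.zpowers_le]
      exact hσ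
    exact hle hτ
  obtain ⟨y, hy, hyr⟩ := fixedResidue_eq_top hH (IsLocalRing.residue ↥Q.O ⟨x, hx⟩)
  refine ⟨y.1, y.2, hy σ (Subgroup.mem_zpowers σ), ?_⟩
  have h1 : IsLocalRing.residue ↥Q.O (⟨x, hx⟩ - y) = 0 := by
    rw [map_sub, hyr, sub_self]
  rw [residue_eq_zero_iff] at h1
  exact h1

/-- For `σ` in the inertia group and a local parameter `t`: `σ ∈ G_j` iff `σ t ≡ t mod Q^j`. -/
theorem inRam_iff_uniformizer [FiniteDimensional K K']
    [Algebra.IsSeparable k (IsLocalRing.ResidueField ↥Q.O)] (hσ : InRam Q 1 σ)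
    {t : K'} (ht : Q.1 t = WithZero.exp (-1)) (j : ℕ) :
    InRam Q (j : ℤ) σ ↔ Q.1 (σ t - t) ≤ WithZero.exp (-(j : ℤ)) := by
  constructor
  · intro h
    apply h t
    rw [ht, ← WithZero.exp_zero]
    exact WithZero.exp_le_exp.2 (by norm_num)
  · intro h
    have ht0 : t ≠ 0 := by
      rintro rfl
      rw [map_zero] at ht
      exact WithZero.exp_ne_zero ht.symm
    have key : ∀ N : ℕ, ∀ x : K', Q.1 x ≤ 1 →
        Q.1 (σ x - x) ≤ WithZero.exp (-((min N j : ℕ) : ℤ)) := by
      intro N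
      induction N with
      | zero =>
        intro x hx
        have : ((min 0 j : ℕ) : ℤ) = 0 := by simp
        rw [this, neg_zero, WithZero.exp_zero]
        exact (Valuation.map_sub _ _ _).trans (max_le (hσ.map_le_one zero_le_one hx) hx)
      | succ N ih =>
        intro x hx
        obtain ⟨y, hy1, hyσ, hxy⟩ := exists_fixed_congr hσ hx
        set x' := (x - y) / t with hx'
        have hx'1 : Q.1 x' ≤ 1 := by
          rw [hx', map_div₀, ht]
          rw [lt_one_iff_le_exp_neg_one] at hxy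
          exact div_le_one_of_le₀ hxy zero_le
        have hdecomp : σ x - x = (σ t - t) * σ x' + t * (σ x' - x') := by
          have h1 : x = y + t * x' := by
            rw [hx']; field_simp; ring
          have h2 : σ x = y + σ t * σ x' := by
            conv_lhs => rw [h1]
            rw [map_add, map_mul, hyσ]
          rw [h2]
          conv_lhs => rw [h1]
          ring
        rw [hdecomp]
        refine (Q.1.map_add _ _).trans (max_le ?_ ?_)
        · rw [map_mul]
          have h3 : Q.1 (σ x') ≤ 1 := hσ.map_le_one zero_le_one hx'1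
          calc Q.1 (σ t - t) * Q.1 (σ x') ≤ WithZero.exp (-(j : ℤ)) * 1 :=
                mul_le_mul' h h3
            _ = WithZero.exp (-(j : ℤ)) := mul_one _
            _ ≤ WithZero.exp (-((min (N + 1) j : ℕ) : ℤ)) :=
                WithZero.exp_le_exp.2 (by omega)
        · rw [map_mul, ht]
          calc WithZero.exp (-1) * Q.1 (σ x' - x')
              ≤ WithZero.exp (-1) * WithZero.exp (-((min N j : ℕ) : ℤ)) :=
                mul_le_mul' le_rfl (ih x' hx'1)
            _ = WithZero.exp (-1 + -((min N j : ℕ) : ℤ)) := (WithZero.exp_add _ _).symm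
            _ ≤ WithZero.exp (-((min (N + 1) j : ℕ) : ℤ)) :=
                WithZero.exp_le_exp.2 (by omega)
    intro x hx
    have := key j x hx
    rwa [min_self] at this

end Uniformizer

end Groth.Agent.Lib.H40FunFld
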