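import Groth.Agent.Lib.H40FunFldInertia

set_option autoImplicit false
set_option linter.style.haveILetI false
set_option linter.unusedSectionVars false
open FunFld Polynomial

namespace Groth.Agent.Lib.H40FunFld

open Groth.Agent.Lib.H40QuotChain IntermediateField

universe u v w
variable {k : Type u} [Field k] {K : Type v} [Field K] [Algebra k K] {K' : Type w} [Field K']
  [Algebra K K'] [Algebra k K'] [IsScalarTower k K K']

section Higher

variable {Q : FunFld.Place k K'}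

/-- The additive subgroup `{z | v(z) ≥ n}`. -/
def valSubgroup (Q : FunFld.Place k K') (n : ℤ) : AddSubgroup K' where
  carrier := {z | Q.1 z ≤ WithZero.exp (-n)}
  add_mem' := fun ha hb => (Q.1.map_add _ _).trans (max_le ha hb)
  zero_mem' := by
    change Q.1 0 ≤ _
    rw [map_zero]; exact zero_le
  neg_mem' := fun ha => by
    change Q.1 (-_) ≤ _
    rw [Valuation.map_neg]; exact ha

theorem mem_valSubgroup {n : ℤ} {z : K'} : z ∈ valSubgroup Q n ↔ Q.1 z ≤ WithZero.exp (-n) :=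
  Iff.rfl

/-- Additivity of `σ ↦ σ t - t` on `G_i` modulo `m^{i+1}`, for `i ≥ 2`. -/
theorem sub_mul_mem_valSubgroup {i : ℕ} (hi : 2 ≤ i) {ρ₁ ρ₂ : K' ≃ₐ[K] K'}
    (h₁ : InRam Q (i : ℤ) ρ₁) (h₂ : InRam Q (i : ℤ) ρ₂) {t : K'}
    (ht : Q.1 t = WithZero.exp (-1)) :
    ((ρ₁ * ρ₂) t - t) - ((ρ₁ t - t) + (ρ₂ t - t)) ∈ valSubgroup Q ((i : ℤ) + 1) := by
  have ht0 : t ≠ 0 := by
    rintro rfl
    rw [map_zero] at ht
    exact WithZero.exp_ne_zero ht.symm
  have ht1 : Q.1 t ≤ 1 := by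
    rw [ht, ← WithZero.exp_zero]
    exact WithZero.exp_le_exp.2 (by norm_num)
  set b := ρ₂ t - t with hb
  set b' := b / t with hb'
  have hbv : Q.1 b ≤ WithZero.exp (-(i : ℤ)) := h₂ t ht1
  have hb'v : Q.1 b' ≤ WithZero.exp (-((i : ℤ) - 1)) := by
    rw [hb', map_div₀, ht, div_le_iff₀ (WithZero.exp_pos), ← WithZero.exp_add]
    refine hbv.trans (WithZero.exp_le_exp.2 (by omega))
  have hb'1 : Q.1 b' ≤ 1 := by
    refine hb'v.trans ?_
    rw [← WithZero.exp_zero]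
    exact WithZero.exp_le_exp.2 (by omega)
  have hdecomp : ((ρ₁ * ρ₂) t - t) - ((ρ₁ t - t) + (ρ₂ t - t)) =
      (ρ₁ t - t) * ρ₁ b' + t * (ρ₁ b' - b') := by
    have h1 : ρ₂ t = t + t * b' := by
      rw [hb', hb]; field_simp; ring
    rw [AlgEquiv.mul_apply, h1, map_add, map_mul]
    ring
  rw [hdecomp]
  refine (valSubgroup Q _).add_mem ?_ ?_
  · rw [mem_valSubgroup, map_mul, h₁.val_map (Int.natCast_nonneg _)]
    calc Q.1 (ρ₁ t - t) * Q.1 b'
        ≤ WithZero.exp (-(i : ℤ)) * WithZero.exp (-((i : ℤ) - 1)) := mul_le_mul' (h₁ t ht1) hb'v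
      _ = WithZero.exp (-(i : ℤ) + -((i : ℤ) - 1)) := (WithZero.exp_add _ _).symm
      _ ≤ WithZero.exp (-((i : ℤ) + 1)) := WithZero.exp_le_exp.2 (by omega)
  · rw [mem_valSubgroup, map_mul, ht]
    calc WithZero.exp (-1) * Q.1 (ρ₁ b' - b')
        ≤ WithZero.exp (-1) * WithZero.exp (-(i : ℤ)) := mul_le_mul' le_rfl (h₁ b' hb'1)
      _ = WithZero.exp (-1 + -(i : ℤ)) := (WithZero.exp_add _ _).symm
      _ ≤ WithZero.exp (-((i : ℤ) + 1)) := WithZero.exp_le_exp.2 (by omega)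

theorem pow_sub_nsmul_mem_valSubgroup {i : ℕ} (hi : 2 ≤ i) {ρ : K' ≃ₐ[K] K'}
    (h : InRam Q (i : ℤ) ρ) {t : K'} (ht : Q.1 t = WithZero.exp (-1)) (n : ℕ) :
    ((ρ ^ n) t - t) - n • (ρ t - t) ∈ valSubgroup Q ((i : ℤ) + 1) := by
  induction n with
  | zero =>
    rw [pow_zero, AlgEquiv.one_apply, sub_self, zero_smul, sub_zero]
    exact (valSubgroup Q _).zero_mem
  | succ n ih =>
    have hn : InRam Q (i : ℤ) (ρ ^ n) := (ramGroup Q i).pow_mem h n
    have h1 := sub_mul_mem_valSubgroup hi hn h ht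
    have h2 := (valSubgroup Q ((i : ℤ) + 1)).add_mem h1 ih
    have heq : ((ρ ^ n * ρ) t - t) - (((ρ ^ n) t - t) + (ρ t - t)) +
        (((ρ ^ n) t - t) - n • (ρ t - t)) = ((ρ ^ (n + 1)) t - t) - (n + 1) • (ρ t - t) := by
      rw [pow_succ, succ_nsmul]
      abel
    rw [← heq]
    exact h2

theorem inv_add_mem_valSubgroup {i : ℕ} (hi : 2 ≤ i) {ρ : K' ≃ₐ[K] K'}
    (h : InRam Q (i : ℤ) ρ) {t : K'} (ht : Q.1 t = WithZero.exp (-1)) :
    (ρ⁻¹ t - t) + (ρ t - t) ∈ valSubgroup Q ((i : ℤ) + 1) := by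
  have hinv : InRam Q (i : ℤ) ρ⁻¹ := h.inv (Int.natCast_nonneg _)
  have h1 := sub_mul_mem_valSubgroup hi hinv h ht
  rw [inv_mul_cancel, AlgEquiv.one_apply, sub_self, zero_sub] at h1
  have := (valSubgroup Q ((i : ℤ) + 1)).neg_mem h1
  rwa [neg_neg] at this

/-- The statement of Goldschmidt's proposition on `G_i / G_{i+1}`, `i ≥ 2`. -/
theorem higher_ram_quotient [FiniteDimensional K K']
    [Algebra.IsSeparable k (IsLocalRing.ResidueField ↥Q.O)]
    {i : ℕ} (hi : 2 ≤ i) {σ τ : K' ≃ₐ[K] K'}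
    (hσ : InRam Q (i : ℤ) σ) (hτ : InRam Q (i : ℤ) τ) :
    InRam Q ((i : ℤ) + 1) (σ * τ * σ⁻¹ * τ⁻¹) ∧
    (ringChar K = 0 → InRam Q ((i : ℤ) + 1) σ) ∧
    ∀ p : ℕ, p.Prime → ringChar K = p → InRam Q ((i : ℤ) + 1) (σ ^ p) := by
  obtain ⟨t, ht⟩ := exists_uniformizer Q
  have hnn : (0 : ℤ) ≤ (i : ℤ) := Int.natCast_nonneg _
  have h1i : ((1 : ℤ)) ≤ (i : ℤ) := by omega
  have hcast : (((i + 1 : ℕ) : ℤ)) = (i : ℤ) + 1 := by push_cast; ring
  rw [← hcast]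
  refine ⟨?_, ?_, ?_⟩
  · have hσi := hσ.inv hnn
    have hτi := hτ.inv hnn
    have hστ := hσ.mul hτ hnn
    have h3 := (hστ.mul hσi hnn)
    have hall := h3.mul hτi hnn
    rw [inRam_iff_uniformizer (hall.mono h1i) ht, ← mem_valSubgroup, hcast]
    have e1 := sub_mul_mem_valSubgroup hi h3 hτi ht
    have e2 := sub_mul_mem_valSubgroup hi hστ hσi ht
    have e3 := sub_mul_mem_valSubgroup hi hσ hτ ht
    have e4 := inv_add_mem_valSubgroup hi hσ ht
    have e5 := inv_add_mem_valSubgroup hi hτ ht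
    have := (valSubgroup Q ((i : ℤ) + 1)).add_mem ((valSubgroup Q ((i : ℤ) + 1)).add_mem
      ((valSubgroup Q ((i : ℤ) + 1)).add_mem ((valSubgroup Q ((i : ℤ) + 1)).add_mem e1 e2) e3)
        e4) e5
    convert this using 1
    abel
  · intro h0
    haveI : CharP K 0 := ringChar.of_eq h0
    haveI : CharZero K := CharP.charP_to_charZero K
    rw [inRam_iff_uniformizer (hσ.mono h1i) ht, ← mem_valSubgroup, hcast]
    have hn : 0 < orderOf σ := orderOf_pos σ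
    have h1 := pow_sub_nsmul_mem_valSubgroup hi hσ ht (orderOf σ)
    rw [pow_orderOf_eq_one, AlgEquiv.one_apply, sub_self, zero_sub] at h1
    have h2 := (valSubgroup Q ((i : ℤ) + 1)).neg_mem h1
    rw [neg_neg, mem_valSubgroup, nsmul_eq_mul, map_mul] at h2
    have h3 : Q.1 ((orderOf σ : ℕ) : K') = 1 := by
      have hk : ((orderOf σ : ℕ) : k) ≠ 0 := by
        intro h
        have h4 : ((orderOf σ : ℕ) : K) = 0 := by
          rw [← map_natCast (algebraMap k K), h, map_zero]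
        exact hn.ne' (Nat.cast_eq_zero.1 h4)
      rw [← map_natCast (algebraMap k K')]
      exact val_algebraMap Q hk
    rw [h3, one_mul] at h2
    exact h2
  · intro p hp hchar
    haveI : CharP K p := ringChar.of_eq hchar
    have hp0 : ((p : ℕ) : K') = 0 := by
      rw [← map_natCast (algebraMap K K'), CharP.cast_eq_zero K p, map_zero]
    have hpow : InRam Q (i : ℤ) (σ ^ p) := (ramGroup Q i).pow_mem hσ p
    rw [inRam_iff_uniformizer (hpow.mono h1i) ht, ← mem_valSubgroup, hcast]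
    have h1 := pow_sub_nsmul_mem_valSubgroup hi hσ ht p
    rwa [nsmul_eq_mul, hp0, zero_mul, sub_zero] at h1

end Higher

section Tame

variable {Q : FunFld.Place k K'}

theorem val_map_div_self {σ : K' ≃ₐ[K] K'} (hσ : InRam Q 1 σ) {t : K'} (ht0 : t ≠ 0) :
    Q.1 (σ t / t) = 1 := by
  rw [map_div₀, hσ.val_map zero_le_one, div_self ((Valuation.ne_zero_iff _).2 ht0)]

/-- The tame character `σ ↦ σ t / t mod m_Q` on the inertia group `G_1`. -/
noncomputable def tameChar (Q : FunFld.Place k K') {t : K'} (ht0 : t ≠ 0) :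
    ↥(ramGroup (K := K) Q 1) →* (IsLocalRing.ResidueField ↥Q.O)ˣ where
  toFun := fun σ => Units.mk0
    (IsLocalRing.residue ↥Q.O ⟨σ.1 t / t, (val_map_div_self σ.2 ht0).le⟩) (by
      rw [Ne, residue_eq_zero_iff]
      change ¬ Q.1 (σ.1 t / t) < 1
      rw [val_map_div_self σ.2 ht0]
      exact lt_irrefl _)
  map_one' := by
    apply Units.ext
    change IsLocalRing.residue ↥Q.O ⟨(1 : K' ≃ₐ[K] K') t / t, _⟩ = 1
    rw [← map_one (IsLocalRing.residue ↥Q.O)]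
    congr 1
    apply Subtype.ext
    change (1 : K' ≃ₐ[K] K') t / t = 1
    rw [AlgEquiv.one_apply, div_self ht0]
  map_mul' := fun σ τ => by
    apply Units.ext
    change IsLocalRing.residue ↥Q.O ⟨(σ.1 * τ.1) t / t, _⟩ =
      IsLocalRing.residue ↥Q.O ⟨σ.1 t / t, _⟩ * IsLocalRing.residue ↥Q.O ⟨τ.1 t / t, _⟩
    rw [← residue_ramRestrict σ.2 ⟨τ.1 t / t, (val_map_div_self τ.2 ht0).le⟩, ← map_mul]
    congr 1
    apply Subtype.ext
    change (σ.1 * τ.1) t / t = σ.1 t / t * σ.1 (τ.1 t / t)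
    have hσt0 : σ.1 t ≠ 0 := (map_ne_zero_iff _ σ.1.injective).2 ht0
    rw [AlgEquiv.mul_apply, map_div₀]
    field_simp

theorem tameChar_eq_one_iff [FiniteDimensional K K']
    [Algebra.IsSeparable k (IsLocalRing.ResidueField ↥Q.O)] {t : K'}
    (ht : Q.1 t = WithZero.exp (-1)) (ht0 : t ≠ 0) (σ : ↥(ramGroup (K := K) Q 1)) :
    tameChar Q ht0 σ = 1 ↔ InRam Q 2 σ.1 := by
  have h1 : tameChar Q ht0 σ = 1 ↔ Q.1 (σ.1 t / t - 1) < 1 := by
    rw [← Units.val_inj]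
    change IsLocalRing.residue ↥Q.O ⟨σ.1 t / t, _⟩ = 1 ↔ _
    rw [← map_one (IsLocalRing.residue ↥Q.O), ← sub_eq_zero, ← map_sub, residue_eq_zero_iff]
    rfl
  have h2 : Q.1 (σ.1 t - t) = WithZero.exp (-1) * Q.1 (σ.1 t / t - 1) := by
    rw [← ht, ← map_mul]
    congr 1
    field_simp
  have h3 := inRam_iff_uniformizer σ.2 ht 2
  rw [h1]
  change _ ↔ InRam Q ((2 : ℕ) : ℤ) σ.1
  rw [h3, h2, lt_one_iff_le_exp_neg_one]
  have h4 : WithZero.exp (-((2 : ℕ) : ℤ)) = WithZero.exp (-1) * WithZero.exp (-1 : ℤ) := by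
    rw [← WithZero.exp_add]; norm_num
  rw [h4]
  constructor
  · intro h
    exact mul_le_mul' le_rfl h
  · intro h
    exact (mul_le_mul_iff_right₀ WithZero.exp_pos).1 h

/-- `G_1 / G_2` is cyclic. -/
theorem tame_quotient_cyclic [FiniteDimensional K K']
    [Algebra.IsSeparable k (IsLocalRing.ResidueField ↥Q.O)] :
    ∃ σ₀ : K' ≃ₐ[K] K', InRam Q 1 σ₀ ∧
      ∀ σ : K' ≃ₐ[K] K', InRam Q 1 σ → ∃ n : ℕ, InRam Q 2 ((σ₀ ^ n)⁻¹ * σ) := by
  obtain ⟨t, ht⟩ := exists_uniformizer Q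
  have ht0 : t ≠ 0 := by
    rintro rfl
    rw [map_zero] at ht
    exact WithZero.exp_ne_zero ht.symm
  set θ := tameChar (K := K) Q ht0 with hθ
  haveI : Finite ↥θ.range := Finite.of_surjective θ.rangeRestrict θ.rangeRestrict_surjective
  obtain ⟨g, hg⟩ := IsCyclic.exists_generator (α := ↥θ.range)
  obtain ⟨σ₀, hσ₀⟩ := g.2
  refine ⟨σ₀.1, σ₀.2, fun σ hσ => ?_⟩
  have hmem := hg ⟨θ ⟨σ, hσ⟩, ⟨⟨σ, hσ⟩, rfl⟩⟩
  rw [← mem_powers_iff_mem_zpowers] at hmem
  obtain ⟨n, hn⟩ := hmem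
  refine ⟨n, ?_⟩
  have hn' : θ σ₀ ^ n = θ ⟨σ, hσ⟩ := by
    have := congrArg Subtype.val hn
    rw [SubmonoidClass.coe_pow] at this
    rw [hσ₀]
    exact this
  have h1 : θ ((σ₀ ^ n)⁻¹ * ⟨σ, hσ⟩) = 1 := by
    rw [map_mul, map_inv, map_pow, hn', inv_mul_cancel]
  exact (tameChar_eq_one_iff ht ht0 _).1 h1

end Tame

end Groth.Agent.Lib.H40FunFld
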