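import Groth.Agent.Lib.H40FunFldInertia3

set_option autoImplicit false
set_option linter.style.haveILetI false
set_option linter.unusedSectionVars false
open FunFld Polynomial

namespace Groth.Agent.Lib.H40FunFld

open Groth.Agent.Lib.H40QuotChain IntermediateField

universe u v w
variable {k : Type u} [Field k] {K : Type v} [Field K] [Algebra k K] {K' : Type w} [Field K']
  [Algebra K K'] [Algebra k K'] [IsScalarTower k K K']

section InertiaField

open scoped Pointwise

variable [FiniteDimensional K K'] [IsGalois K K']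

/-- The ramification index of `Q` over an intermediate field `E` is the order of the part of the
inertia group fixing `E`. -/
theorem exists_isOverWith_intermediate (hK : FunFld.IsFunctionField k K) (Q : FunFld.Place k K')
    [Algebra.IsSeparable k (IsLocalRing.ResidueField ↥Q.O)] (E : IntermediateField K K') :
    ∃ Q_E : FunFld.Place k ↥E, FunFld.IsOverWith Q Q_E
      (Nat.card ↥(ramGroup (K := K) Q 1 ⊓ E.fixingSubgroup)) := by
  haveI : IsScalarTower k ↥E K' := IsScalarTower.of_algebraMap_eq (fun c => rfl)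
  obtain ⟨t, htr, -⟩ := hK.1
  have htr₁ : Transcendental k (algebraMap K ↥E t) := by
    intro halg
    exact htr ((isAlgebraic_algebraMap_iff (algebraMap K ↥E).injective).1 halg)
  obtain ⟨hfin₁, -⟩ := finrank_adjoin_algebraMap (K' := ↥E) hK htr
  obtain ⟨Q₁, e₁, he₁⟩ := exists_isOverWith_weak (K' := ↥E) (K'' := K') htr₁ Q
  have hA := isFunctionField_constField htr₁
  have htriv : TrivialOn (k := k) Q.1 := fun a ha => val_algebraMap Q ha
  let QA : FunFld.Place ↥(constField k ↥E) K' :=
    ⟨Q.1, fun c => by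
      change Q.1 (algebraMap ↥E K' (c : ↥E)) ≤ 1
      by_cases hc : (c : ↥E) = 0
      · rw [hc, map_zero, map_zero]; exact zero_le_one
      · have h1 : IsAlgebraic k (c : ↥E) := mem_algebraicClosure_iff.1 c.2
        have h2 : IsAlgebraic k (algebraMap ↥E K' (c : ↥E)) := h1.algebraMap
        have h3 : algebraMap ↥E K' (c : ↥E) ≠ 0 := (_root_.map_ne_zero _).2 hc
        exact (gval_eq_one_of_isAlgebraic htriv h3 h2).le, Q.2.2⟩
  have heA : FunFld.IsOverWith QA (placeUp Q₁) e₁ := fun x => he₁ x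
  haveI tower : IsScalarTower k ↥(constField k ↥E) (IsLocalRing.ResidueField ↥QA.O) :=
    @IsScalarTower.of_algebraMap_eq k ↥(constField k ↥E) (IsLocalRing.ResidueField ↥Q.O) _ _ _ _
      (FunFld.Place.algRes QA) (FunFld.Place.algRes Q) (fun _ => rfl)
  haveI sepA : Algebra.IsSeparable ↥(constField k ↥E) (IsLocalRing.ResidueField ↥QA.O) :=
    @Algebra.isSeparable_tower_top_of_isSeparable k ↥(constField k ↥E) _
      (IsLocalRing.ResidueField ↥Q.O) _ _ _ (FunFld.Place.algRes Q) (FunFld.Place.algRes QA)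
      tower _
  have hcard := card_ramGroup_one hA heA
  -- compare the two inertia groups
  have hbij : Nat.card ↥(ramGroup (K := ↥E) QA 1) =
      Nat.card ↥(ramGroup (K := K) Q 1 ⊓ E.fixingSubgroup) := by
    let ψ : ↥(ramGroup (K := ↥E) QA 1) → ↥(ramGroup (K := K) Q 1 ⊓ E.fixingSubgroup) :=
      fun τ => ⟨τ.1.restrictScalars K, Subgroup.mem_inf.2 ⟨fun x hx => τ.2 x hx, by
        rw [IntermediateField.mem_fixingSubgroup_iff]
        intro x hx
        exact τ.1.commutes ⟨x, hx⟩⟩⟩
    refine Nat.card_congr (Equiv.ofBijective ψ ⟨?_, ?_⟩)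
    · intro τ₁ τ₂ h
      apply Subtype.ext
      apply AlgEquiv.ext
      intro x
      have := congrArg (fun σ : ↥(ramGroup (K := K) Q 1 ⊓ E.fixingSubgroup) => σ.1 x) h
      exact this
    · rintro ⟨σ, hσI, hσE⟩
      refine ⟨⟨IntermediateField.fixingSubgroupEquiv E ⟨σ, hσE⟩, fun x hx => hσI x hx⟩, ?_⟩
      apply Subtype.ext
      apply AlgEquiv.ext
      intro x
      rfl
  rw [hbij] at hcard
  exact ⟨Q₁, hcard ▸ he₁⟩

omit [FiniteDimensional K K'] [IsGalois K K'] [IsScalarTower k K K'] in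
theorem range_comap_eq {Q : FunFld.Place k K'} {P : FunFld.Place k K} {e : ℕ}
    (h : FunFld.IsOverWith Q P e) :
    Set.range (Q.1.comap (algebraMap K K')) = {γ | ∃ δ : WithZero (Multiplicative ℤ), γ = δ ^ e} := by
  ext γ
  constructor
  · rintro ⟨x, rfl⟩
    exact ⟨P.1 x, h x⟩
  · rintro ⟨δ, rfl⟩
    obtain ⟨x, rfl⟩ := P.2.2 δ
    exact ⟨x, h x⟩

/-- `e(Q ∩ E | Q ∩ K) = 1` iff `E` is contained in the inertia field. -/
theorem range_comap_eq_iff_le_inertiaField (hK : FunFld.IsFunctionField k K)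
    (Q : FunFld.Place k K') [Algebra.IsSeparable k (IsLocalRing.ResidueField ↥Q.O)]
    (E : IntermediateField K K') :
    Set.range (Q.1.comap (algebraMap ↥E K')) = Set.range (Q.1.comap (algebraMap K K')) ↔
      E ≤ IntermediateField.fixedField
        (((Q.O).inertiaSubgroup K).map ((Q.O).decompositionSubgroup K).subtype) := by
  rw [map_inertiaSubgroup_eq, IntermediateField.le_iff_le]
  obtain ⟨Q_E, hQ_E⟩ := exists_isOverWith_intermediate hK Q E
  obtain ⟨P, e, he⟩ := exists_isOverWith hK Q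
  have hcard := card_ramGroup_one hK he
  rw [range_comap_eq hQ_E, range_comap_eq he]
  have hle : ramGroup (K := K) Q 1 ⊓ E.fixingSubgroup ≤ ramGroup (K := K) Q 1 := inf_le_left
  constructor
  · intro heq
    have h1 : (WithZero.exp (-1 : ℤ)) ^ (Nat.card ↥(ramGroup (K := K) Q 1 ⊓ E.fixingSubgroup)) ∈
        {γ | ∃ δ : WithZero (Multiplicative ℤ), γ = δ ^ e} := by
      rw [← heq]
      exact ⟨_, rfl⟩
    obtain ⟨δ, hδ⟩ := h1
    have hepos := isOverWith_pos he
    have hδ0 : δ ≠ 0 := by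
      rintro rfl
      rw [zero_pow hepos.ne'] at hδ
      exact pow_ne_zero _ WithZero.exp_ne_zero hδ
    rw [← WithZero.exp_log hδ0, ← WithZero.exp_nsmul, ← WithZero.exp_nsmul, WithZero.exp_inj] at hδ
    simp only [nsmul_eq_mul, mul_neg, mul_one] at hδ
    have hdvd : (e : ℤ) ∣ (Nat.card ↥(ramGroup (K := K) Q 1 ⊓ E.fixingSubgroup) : ℤ) :=
      ⟨-WithZero.log δ, by rw [mul_neg, ← hδ, neg_neg]⟩
    have hpos : 0 < Nat.card ↥(ramGroup (K := K) Q 1 ⊓ E.fixingSubgroup) := Nat.card_pos
    have hge : e ≤ Nat.card ↥(ramGroup (K := K) Q 1 ⊓ E.fixingSubgroup) :=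
      Nat.le_of_dvd hpos (Int.natCast_dvd_natCast.1 hdvd)
    rw [← hcard] at hge
    have heq' := Subgroup.eq_of_le_of_card_ge hle hge
    rw [← heq']
    exact inf_le_right
  · intro hIE
    have heq' : ramGroup (K := K) Q 1 ⊓ E.fixingSubgroup = ramGroup (K := K) Q 1 :=
      inf_eq_left.2 hIE
    rw [heq', hcard]

end InertiaField

end Groth.Agent.Lib.H40FunFld
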