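import Groth.Agent.Lib.H40FunFldWeakSep
import Mathlib.FieldTheory.KummerPolynomial

set_option autoImplicit false
set_option linter.style.haveILetI false
set_option linter.unusedSectionVars false
open FunFld Polynomial

namespace Groth.Agent.Lib.H40FunFld

open Groth.Agent.Lib.H40QuotChain IntermediateField

universe u v w

section DegP

variable {L : Type*} {K : Type*} [Field L] [Field K] [Algebra L K]

theorem finrank_adjoin_simple_of_pow_mem (p : ℕ) [hp : Fact p.Prime] [CharP K p]
    {z : K} {a : L} (hza : z ^ p = algebraMap L K a) (hz : z ∉ Set.range (algebraMap L K)) :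
    Module.finrank L ↥L⟮z⟯ = p := by
  have hirr : Irreducible (X ^ p - C a : L[X]) := by
    refine X_pow_sub_C_irreducible_of_prime hp.out (fun b hb => hz ⟨b, ?_⟩)
    have h1 : (z - algebraMap L K b) ^ p = 0 := by
      rw [sub_pow_char, hza, ← map_pow, hb, sub_self]
    exact (sub_eq_zero.1 (pow_eq_zero_iff hp.out.ne_zero |>.1 h1)).symm
  have hmonic : (X ^ p - C a : L[X]).Monic := monic_X_pow_sub_C a hp.out.ne_zero
  have haeval : aeval z (X ^ p - C a : L[X]) = 0 := by simp [hza]
  have hmin := minpoly.eq_of_irreducible_of_monic hirr haeval hmonic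
  have hint : IsIntegral L z := ⟨_, hmonic, haeval⟩
  rw [IntermediateField.adjoin.finrank hint, ← hmin, natDegree_X_pow_sub_C]

end DegP

section KerD

variable {k : Type u} [Field k] {K : Type v} [Field K] [Algebra k K]

/-- Elements on which a derivation vanishes are closed under the field operations. -/
theorem D_eq_zero_of_mem_adjoin {F : Type*} [Field F] [Algebra F K] {S : Set K}
    (hF : ∀ c : F, KaehlerDifferential.D k K (algebraMap F K c) = 0)
    (hS : ∀ s ∈ S, KaehlerDifferential.D k K s = 0) {z : K}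
    (hz : z ∈ IntermediateField.adjoin F S) : KaehlerDifferential.D k K z = 0 := by
  induction hz using IntermediateField.adjoin_induction with
  | mem s hs => exact hS s hs
  | algebraMap c => exact hF c
  | add a b _ _ ha hb => rw [map_add, ha, hb, add_zero]
  | inv a _ ha => rw [Derivation.leibniz_inv, ha, smul_zero]
  | mul a b _ _ ha hb => rw [Derivation.leibniz, ha, hb, smul_zero, smul_zero, add_zero]

/-- The universal derivation vanishes on `k K^p`. -/
theorem D_eq_zero_of_mem_adjoin_pow (p : ℕ) [Fact p.Prime] [CharP K p] {z : K}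
    (hz : z ∈ IntermediateField.adjoin k (Set.range fun y : K => y ^ p)) :
    KaehlerDifferential.D k K z = 0 := by
  refine D_eq_zero_of_mem_adjoin (fun c => Derivation.map_algebraMap _ c) ?_ hz
  rintro _ ⟨y, rfl⟩
  rw [Derivation.leibniz_pow, ← Nat.cast_smul_eq_nsmul K, CharP.cast_eq_zero, zero_smul]

/-- In a geometric function field of characteristic `p`, the kernel of `d` is `k K^p`. -/
theorem mem_adjoin_pow_of_D_eq_zero (hK : FunFld.IsFunctionField k K)
    (hg : FunFld.IsGeometric k K) (p : ℕ) [hp : Fact p.Prime] [CharP K p] {w : K}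
    (hw : KaehlerDifferential.D k K w = 0) :
    w ∈ IntermediateField.adjoin k (Set.range fun y : K => y ^ p) := by
  by_contra hwL
  obtain ⟨x, htr, hsep⟩ := exists_separating_of_isGeometric hK hg
  have hDx : KaehlerDifferential.D k K x ≠ 0 := D_ne_zero_of_isSeparable_adjoin htr
  have hxL : x ∉ IntermediateField.adjoin k (Set.range fun y : K => y ^ p) :=
    fun h => hDx (D_eq_zero_of_mem_adjoin_pow p h)
  have hpowL : ∀ z : K, z ^ p ∈ IntermediateField.adjoin k (Set.range fun y : K => y ^ p) :=
    fun z => IntermediateField.subset_adjoin k _ ⟨z, rfl⟩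
  have hrange : ∀ z : K, z ∈ Set.range (algebraMap
      ↥(IntermediateField.adjoin k (Set.range fun y : K => y ^ p)) K) ↔
      z ∈ IntermediateField.adjoin k (Set.range fun y : K => y ^ p) := by
    intro z
    constructor
    · rintro ⟨l, rfl⟩
      exact l.2
    · intro hz
      exact ⟨⟨z, hz⟩, rfl⟩
  -- degrees
  have hfx := finrank_adjoin_simple_of_pow_mem
    (L := ↥(IntermediateField.adjoin k (Set.range fun y : K => y ^ p))) p
    (z := x) (a := ⟨x ^ p, hpowL x⟩) rfl (fun h => hxL ((hrange x).1 h))
  have hfw := finrank_adjoin_simple_of_pow_mem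
    (L := ↥(IntermediateField.adjoin k (Set.range fun y : K => y ^ p))) p
    (z := w) (a := ⟨w ^ p, hpowL w⟩) rfl (fun h => hwL ((hrange w).1 h))
  -- `K = L(x)`
  haveI : ExpChar ↥(IntermediateField.adjoin k (Set.range fun y : K => y ^ p)) p :=
    haveI : CharP ↥(IntermediateField.adjoin k (Set.range fun y : K => y ^ p)) p :=
      (Algebra.charP_iff ↥(IntermediateField.adjoin k (Set.range fun y : K => y ^ p)) K p).2
        inferInstance
    ExpChar.prime hp.out
  haveI hpi : IsPurelyInseparable
      ↥(IntermediateField.adjoin k (Set.range fun y : K => y ^ p)) K := by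
    rw [isPurelyInseparable_iff_pow_mem _ p]
    intro z
    exact ⟨1, ⟨z ^ p, hpowL z⟩, by rw [pow_one]; rfl⟩
  have htop : (↥(IntermediateField.adjoin k (Set.range fun y : K => y ^ p)))⟮x⟯ = ⊤ := by
    have hle : ∀ a : K, a ∈ k⟮x⟯ →
        a ∈ (↥(IntermediateField.adjoin k (Set.range fun y : K => y ^ p)))⟮x⟯ := by
      intro a ha
      have h1 : k⟮x⟯ ≤ ((↥(IntermediateField.adjoin k
          (Set.range fun y : K => y ^ p)))⟮x⟯).restrictScalars k := by
        rw [adjoin_simple_le_iff]
        exact mem_adjoin_simple_self _ x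
      exact h1 ha
    let i : ↥k⟮x⟯ →+* ↥(↥(IntermediateField.adjoin k (Set.range fun y : K => y ^ p)))⟮x⟯ :=
      { toFun := fun a => ⟨a.1, hle a.1 a.2⟩
        map_one' := rfl
        map_mul' := fun _ _ => rfl
        map_zero' := rfl
        map_add' := fun _ _ => rfl }
    letI := i.toAlgebra
    haveI : IsScalarTower ↥k⟮x⟯
        ↥(↥(IntermediateField.adjoin k (Set.range fun y : K => y ^ p)))⟮x⟯ K :=
      IsScalarTower.of_algebraMap_eq fun _ => rfl
    haveI hsep' : Algebra.IsSeparable
        ↥(↥(IntermediateField.adjoin k (Set.range fun y : K => y ^ p)))⟮x⟯ K :=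
      Algebra.isSeparable_tower_top_of_isSeparable ↥k⟮x⟯ _ K
    haveI hpi' : IsPurelyInseparable
        ↥(↥(IntermediateField.adjoin k (Set.range fun y : K => y ^ p)))⟮x⟯ K :=
      IsPurelyInseparable.tower_top
        ↥(IntermediateField.adjoin k (Set.range fun y : K => y ^ p)) _ K
    rw [eq_top_iff]
    intro z _
    obtain ⟨y, rfl⟩ := IsPurelyInseparable.surjective_algebraMap_of_isSeparable
      ↥(↥(IntermediateField.adjoin k (Set.range fun y : K => y ^ p)))⟮x⟯ K z
    exact y.2
  -- `L(w)` has the same degree as `K = L(x)`, so `L(w) = ⊤`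
  haveI hfin : FiniteDimensional ↥(IntermediateField.adjoin k (Set.range fun y : K => y ^ p))
      ↥(⊤ : IntermediateField
        ↥(IntermediateField.adjoin k (Set.range fun y : K => y ^ p)) K) := by
    rw [← htop]
    exact Module.finite_of_finrank_pos (by rw [hfx]; exact hp.out.pos)
  have hwtop : (↥(IntermediateField.adjoin k (Set.range fun y : K => y ^ p)))⟮w⟯ = ⊤ := by
    refine IntermediateField.eq_of_le_of_finrank_eq le_top ?_
    rw [hfw, ← htop, hfx]
  -- but `d` vanishes on `L(w)`
  have hx0 : KaehlerDifferential.D k K x = 0 := by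
    refine D_eq_zero_of_mem_adjoin
      (F := ↥(IntermediateField.adjoin k (Set.range fun y : K => y ^ p))) (S := {w})
      (fun c => D_eq_zero_of_mem_adjoin_pow p c.2) ?_ (by rw [hwtop]; trivial)
    intro s hs
    rw [Set.mem_singleton_iff] at hs
    rw [hs]
    exact hw
  exact hDx hx0

end KerD

section MapZeroInj

open scoped KaehlerDifferential

theorem kaehler_map_zero_or_injective (k₀ k : Type u) (K₀ K : Type v) [Field k₀] [Field k]
    [Field K₀] [Field K]
    [Algebra k₀ k] [Algebra k₀ K₀] [Algebra k₀ K] [Algebra k K] [Algebra K₀ K]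
    [IsScalarTower k₀ k K] [IsScalarTower k₀ K₀ K] [FiniteDimensional K₀ K]
    (p : ℕ) [Fact p.Prime] [CharP K p]
    (hK : FunFld.IsFunctionField k K) (hg : FunFld.IsGeometric k K)
    (hK₀ : FunFld.IsFunctionField k₀ K₀) (hg₀ : FunFld.IsGeometric k₀ K₀) :
    (Set.range (algebraMap K₀ K) ⊆ ↑(IntermediateField.adjoin k (Set.range fun y : K => y ^ p)) →
      KaehlerDifferential.map k₀ k K₀ K = 0) ∧
    (¬ Set.range (algebraMap K₀ K) ⊆ ↑(IntermediateField.adjoin k (Set.range fun y : K => y ^ p)) →
      Function.Injective (KaehlerDifferential.map k₀ k K₀ K)) := by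
  obtain ⟨x₀, htr₀, hsep₀⟩ := exists_separating_of_isGeometric hK₀ hg₀
  have hgen : ∀ ω : Ω[K₀⁄k₀], ∃ a : K₀, ω = a • KaehlerDifferential.D k₀ K₀ x₀ :=
    fun ω => exists_eq_smul_D_of_isSeparable_adjoin htr₀ ω
  constructor
  · intro hsub
    refine LinearMap.ext fun ω => ?_
    obtain ⟨a, rfl⟩ := hgen ω
    rw [map_smul, KaehlerDifferential.map_D,
      D_eq_zero_of_mem_adjoin_pow p (hsub ⟨x₀, rfl⟩), smul_zero]
    rfl
  · intro hnsub
    rw [injective_iff_map_eq_zero]
    intro ω hω
    obtain ⟨a, rfl⟩ := hgen ω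
    rw [map_smul, KaehlerDifferential.map_D] at hω
    by_contra hne
    have ha : a ≠ 0 := fun h => hne (by rw [h, zero_smul])
    have hx0 : KaehlerDifferential.D k K (algebraMap K₀ K x₀) = 0 := by
      have h1 := congrArg (fun v => a⁻¹ • v) hω
      simp only [smul_smul, inv_mul_cancel₀ ha, one_smul, smul_zero] at h1
      exact h1
    apply hnsub
    rintro _ ⟨z, rfl⟩
    apply mem_adjoin_pow_of_D_eq_zero hK hg p
    obtain ⟨b, hb⟩ := hgen (KaehlerDifferential.D k₀ K₀ z)
    have h2 := congrArg (KaehlerDifferential.map k₀ k K₀ K) hb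
    rw [KaehlerDifferential.map_D, map_smul, KaehlerDifferential.map_D, hx0, smul_zero] at h2
    exact h2

end MapZeroInj

end Groth.Agent.Lib.H40FunFld
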