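import Groth.Agent.Lib.H40FunFldSepVar
import Groth.Agent.Lib.H40FunFldSeries

set_option autoImplicit false
set_option linter.style.haveILetI false
set_option linter.unusedSectionVars false
open FunFld Polynomial

namespace Groth.Agent.Lib.H40FunFld

open Groth.Agent.Lib.H40QuotChain IntermediateField

universe u v w

section LocParam

variable {k : Type u} [Field k] {K : Type v} [Field K] [Algebra k K]

/-- The `k`-subspace of functions with `v_Q ≤ exp m` on a finite set of places. -/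
def valBall (S : Finset (FunFld.Place k K)) (m : ℤ) : Submodule k K where
  carrier := {u | ∀ Q ∈ S, Q.1 u ≤ WithZero.exp m}
  add_mem' {a b} ha hb Q hQ := (Q.1.map_add a b).trans (max_le (ha Q hQ) (hb Q hQ))
  zero_mem' Q _ := by simp
  smul_mem' c a ha Q hQ := by
    rw [Algebra.smul_def, map_mul]
    exact (mul_le_mul' (Q.2.1 c) (ha Q hQ)).trans_eq (one_mul _)

theorem mem_valBall {S : Finset (FunFld.Place k K)} {m : ℤ} {u : K} :
    u ∈ valBall S m ↔ ∀ Q ∈ S, Q.1 u ≤ WithZero.exp m := Iff.rfl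

theorem exists_nat_bound (S : Finset (FunFld.Place k K)) (u : K) :
    ∃ M : ℕ, ∀ Q ∈ S, Q.1 u ≤ WithZero.exp (M : ℤ) := by
  refine ⟨S.sup (fun Q => (WithZero.log (Q.1 u)).toNat), ?_⟩
  intro Q hQ
  have hle : (WithZero.log (Q.1 u)).toNat ≤ S.sup (fun Q => (WithZero.log (Q.1 u)).toNat) :=
    Finset.le_sup (f := fun Q : FunFld.Place k K => (WithZero.log (Q.1 u)).toNat) hQ
  apply WithZero.le_exp_of_log_le
  have := Int.self_le_toNat (WithZero.log (Q.1 u))
  omega

theorem transcendental_of_isSeparable_adjoin (hK : FunFld.IsFunctionField k K) {x : K}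
    (hsep : Algebra.IsSeparable ↥k⟮x⟯ K) : Transcendental k x := by
  intro halg
  obtain ⟨t, ht, -⟩ := hK.1
  apply ht
  haveI : Algebra.IsAlgebraic k ↥k⟮x⟯ :=
    IntermediateField.isAlgebraic_adjoin_simple halg.isIntegral
  haveI : Algebra.IsAlgebraic ↥k⟮x⟯ K := inferInstance
  exact (Algebra.IsAlgebraic.trans k ↥k⟮x⟯ K).isAlgebraic t

/-- The values of `k(t)` at a place where `t` has positive order are powers of `v(t)`. -/
theorem exists_zpow_of_mem_adjoin (P : FunFld.Place k K) {t : K} (ht0 : t ≠ 0) (ht : P.1 t < 1)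
    {z : K} (hz : z ∈ k⟮t⟯) (hz0 : z ≠ 0) : ∃ m : ℤ, P.1 z = P.1 t ^ m := by
  obtain ⟨r, s, rfl⟩ := (IntermediateField.mem_adjoin_simple_iff k z).1 hz
  have hr : r ≠ 0 := by
    rintro rfl
    simp at hz0
  have hs : s ≠ 0 := by
    rintro rfl
    simp at hz0
  refine ⟨(r.rootMultiplicity 0 : ℤ) - (s.rootMultiplicity 0 : ℤ), ?_⟩
  have hvt0 : P.1 t ≠ 0 := (Valuation.ne_zero_iff _).2 ht0
  rw [map_div₀, val_aeval_eq_pow P ht hr, val_aeval_eq_pow P ht hs, zpow_sub₀ hvt0, zpow_natCast,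
    zpow_natCast]

/-- At a place that is unramified over `k(x)` and not a pole of `x`, some `x - c` is a local
parameter. -/
theorem exists_const_uniformizer_of_unramified [IsAlgClosed k] (hK : FunFld.IsFunctionField k K)
    {x : K} (htr : Transcendental k x) (Q : FunFld.Place k K) (hx : Q.1 x ≤ 1)
    (hsurj : Function.Surjective (Q.1.comap (algebraMap ↥k⟮x⟯ K))) :
    ∃ c : k, Q.1 (x - algebraMap k K c) = WithZero.exp (-1 : ℤ) := by
  obtain ⟨c, hc⟩ := exists_const_val_sub_lt_one (deg_eq_one_of_isAlgClosed hK Q) hx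
  refine ⟨c, ?_⟩
  have ht0 : x - algebraMap k K c ≠ 0 := by
    intro h0
    apply htr
    rw [sub_eq_zero.1 h0]
    exact isAlgebraic_algebraMap c
  obtain ⟨z, hz⟩ := hsurj (WithZero.exp (-1 : ℤ))
  rw [Valuation.comap_apply] at hz
  have hzmem : (z : K) ∈ k⟮x - algebraMap k K c⟯ := by
    have hle : k⟮x⟯ ≤ k⟮x - algebraMap k K c⟯ := by
      rw [IntermediateField.adjoin_simple_le_iff]
      have e : (x - algebraMap k K c) + algebraMap k K c = x := by ring
      have h3 := add_mem (IntermediateField.mem_adjoin_simple_self k (x - algebraMap k K c))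
        (IntermediateField.algebraMap_mem k⟮x - algebraMap k K c⟯ c)
      rwa [e] at h3
    exact hle z.2
  have hz0 : (z : K) ≠ 0 := by
    intro h0
    have : Q.1 (algebraMap ↥k⟮x⟯ K z) = 0 := by
      change Q.1 (z : K) = 0
      rw [h0, map_zero]
    rw [this] at hz
    exact WithZero.exp_ne_zero hz.symm
  obtain ⟨m, hm⟩ := exists_zpow_of_mem_adjoin Q ht0 hc hzmem hz0
  have hm' : WithZero.exp (-1 : ℤ) = Q.1 (x - algebraMap k K c) ^ m := by
    rw [← hm]; exact hz.symm
  rw [val_eq_exp_neg_ord Q ht0] at hm' hc ⊢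
  rw [← WithZero.exp_zsmul, WithZero.exp_inj] at hm'
  rw [← WithZero.exp_zero, WithZero.exp_lt_exp] at hc
  rw [WithZero.exp_inj]
  simp only [smul_eq_mul] at hm'
  have hdvd : Q.ord (x - algebraMap k K c) ∣ 1 := ⟨m, by linarith⟩
  have := Int.eq_one_of_dvd_one (by omega) hdvd
  rw [this]

theorem le_exp_sub_one_of_lt_exp {γ : WithZero (Multiplicative ℤ)} {a : ℤ}
    (h : γ < WithZero.exp a) : γ ≤ WithZero.exp (a - 1) := by
  by_cases h0 : γ = 0
  · rw [h0]; exact zero_le
  · apply WithZero.le_exp_of_log_le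
    have := (WithZero.log_lt_iff_lt_exp h0).2 h
    omega

/-- For a separating variable `x` there is `y` with `K = k(x, y)` such that the span of
`1, x, y` contains a local parameter at every place. -/
theorem exists_generator_with_uniformizers [IsAlgClosed k] (hK : FunFld.IsFunctionField k K)
    {x : K} (hsep : Algebra.IsSeparable ↥k⟮x⟯ K) :
    ∃ y : K, IntermediateField.adjoin k ({x, y} : Set K) = ⊤ ∧
      ∀ P : FunFld.Place k K, ∃ f ∈ Submodule.span k ({1, x, y} : Set K),
        P.1 f = WithZero.exp (-1 : ℤ) := by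
  classical
  have htr : Transcendental k x := transcendental_of_isSeparable_adjoin hK hsep
  haveI hfd : FiniteDimensional ↥k⟮x⟯ K := finiteDimensional_adjoin_of_transcendental hK htr
  haveI hfin : Finite (IntermediateField ↥k⟮x⟯ K) :=
    Field.finite_intermediateField_of_exists_primitive_element ↥k⟮x⟯ K
      (Field.exists_primitive_element ↥k⟮x⟯ K)
  have hL : FunFld.IsFunctionField k ↥k⟮x⟯ :=
    isFunctionField_of_tower hK (x := (⟨x, mem_adjoin_simple_self k x⟩ : ↥k⟮x⟯))
      (fun halg => htr (halg.algebraMap (A := K)))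
  have hram := finite_ramified_of_isSeparable (K := ↥k⟮x⟯) (K' := K) hL
  have hx0 : x ≠ 0 := fun h => htr (h ▸ isAlgebraic_zero)
  have hpole : {Q : FunFld.Place k K | 1 < Q.1 x}.Finite := by
    refine (finite_support_ord hK x).subset ?_
    intro Q hQ
    rw [Set.mem_ofPred_eq] at hQ
    rw [Function.mem_support]
    intro h0
    rw [val_eq_exp_neg_ord Q hx0, h0, neg_zero, WithZero.exp_zero] at hQ
    exact lt_irrefl _ hQ
  set S : Finset (FunFld.Place k K) := (hram.union hpole).toFinset with hS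
  have hSmem : ∀ Q : FunFld.Place k K, Q ∉ S →
      Function.Surjective (Q.1.comap (algebraMap ↥k⟮x⟯ K)) ∧ Q.1 x ≤ 1 := by
    intro Q hQ
    rw [hS, Set.Finite.mem_toFinset, Set.mem_union, not_or] at hQ
    exact ⟨not_not.1 hQ.1, not_lt.1 hQ.2⟩
  obtain ⟨-, ⟨Q₀, hQ₀⟩⟩ := exists_zero_and_exists_pole hK x
    (fun ⟨c, hc⟩ => htr (hc ▸ isAlgebraic_algebraMap c))
  have hQ₀S : Q₀ ∈ S := by
    rw [hS, Set.Finite.mem_toFinset]
    right
    rw [Set.mem_ofPred_eq, val_eq_exp_neg_ord Q₀ hx0, ← WithZero.exp_zero, WithZero.exp_lt_exp]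
    omega
  choose π hπ using fun Q : FunFld.Place k K => exists_uniformizer Q
  obtain ⟨y₁, hy₁⟩ := exists_approx S π 2
  have hy₁' : ∀ Q ∈ S, Q.1 y₁ = WithZero.exp (-1 : ℤ) := by
    intro Q hQ
    have h1 := hy₁ Q hQ
    have e : π Q + (y₁ - π Q) = y₁ := by ring
    have h2 : Q.1 (π Q + (y₁ - π Q)) = Q.1 (π Q) := by
      apply Valuation.map_add_eq_of_lt_left
      rw [hπ Q]
      exact h1.trans_lt (WithZero.exp_lt_exp.2 (by norm_num))
    rw [e, hπ Q] at h2
    exact h2
  have hy₁0 : y₁ ≠ 0 := by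
    rintro rfl
    have := hy₁' Q₀ hQ₀S
    rw [map_zero] at this
    exact WithZero.exp_ne_zero this.symm
  -- `valBall S (-1)` lies in no proper intermediate field
  have hclaim : ∀ E : IntermediateField ↥k⟮x⟯ K, (∀ u ∈ valBall S (-1), u ∈ E) → E = ⊤ := by
    intro E hE
    rw [eq_top_iff]
    intro u _
    obtain ⟨M, hM⟩ := exists_nat_bound S u
    have h1 : y₁ ^ (M + 1) ∈ valBall S (-1) := by
      intro Q hQ
      rw [map_pow, hy₁' Q hQ, ← WithZero.exp_nsmul, WithZero.exp_le_exp]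
      simp only [nsmul_eq_mul]
      push_cast
      nlinarith
    have h2 : u * y₁ ^ (M + 1) ∈ valBall S (-1) := by
      intro Q hQ
      rw [map_mul, map_pow, hy₁' Q hQ, ← WithZero.exp_nsmul]
      calc Q.1 u * WithZero.exp ((M + 1) • (-1 : ℤ))
          ≤ WithZero.exp (M : ℤ) * WithZero.exp ((M + 1) • (-1 : ℤ)) :=
            mul_le_mul' (hM Q hQ) le_rfl
        _ = WithZero.exp (-1 : ℤ) := by
            rw [← WithZero.exp_add]
            congr 1
            simp only [nsmul_eq_mul]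
            push_cast
            ring
    have h3 := E.div_mem (hE _ h2) (hE _ h1)
    rwa [mul_div_assoc, div_self (pow_ne_zero _ hy₁0), mul_one] at h3
  have key : ∃ y : K, (↥k⟮x⟯)⟮y⟯ = ⊤ ∧ ∀ Q ∈ S, Q.1 y = WithZero.exp (-1 : ℤ) := by
    by_contra hcon
    push Not at hcon
    have hcov : ⋃ i : {E : IntermediateField ↥k⟮x⟯ K // E ≠ ⊤} ⊕ ↥S,
        ((Sum.elim
          (fun E : {E : IntermediateField ↥k⟮x⟯ K // E ≠ ⊤} =>
            Submodule.comap (valBall S (-1)).subtype
              (E.1.restrictScalars k).toSubalgebra.toSubmodule)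
          (fun Q : ↥S => Submodule.comap (valBall S (-1)).subtype (valBall {Q.1} (-2))) i :
            Submodule k ↥(valBall S (-1))) : Set ↥(valBall S (-1))) = Set.univ := by
      rw [Set.eq_univ_iff_forall]
      intro w
      rw [Set.mem_iUnion]
      by_cases hprim : (↥k⟮x⟯)⟮(w : K)⟯ = ⊤
      · obtain ⟨Q, hQS, hQ⟩ := hcon w hprim
        refine ⟨Sum.inr ⟨Q, hQS⟩, ?_⟩
        change (w : K) ∈ valBall {Q} (-2)
        intro Q' hQ'
        rw [Finset.mem_singleton] at hQ'
        subst hQ'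
        have hle := w.2 Q' hQS
        exact le_exp_sub_one_of_lt_exp (lt_of_le_of_ne hle hQ)
      · refine ⟨Sum.inl ⟨_, hprim⟩, ?_⟩
        change (w : K) ∈ (↥k⟮x⟯)⟮(w : K)⟯
        exact IntermediateField.mem_adjoin_simple_self _ _
    obtain ⟨i, hi⟩ := Subspace.exists_eq_top_of_iUnion_eq_univ hcov
    rcases i with ⟨E, hE⟩ | ⟨Q, hQS⟩
    · apply hE
      apply hclaim
      intro u hu
      have hmem : (⟨u, hu⟩ : ↥(valBall S (-1))) ∈ (⊤ : Submodule k ↥(valBall S (-1))) := trivial
      rw [← hi] at hmem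
      exact hmem
    · have hy₁mem : y₁ ∈ valBall S (-1) := fun Q' hQ' => (hy₁' Q' hQ').le
      have hmem : (⟨y₁, hy₁mem⟩ : ↥(valBall S (-1))) ∈
          (⊤ : Submodule k ↥(valBall S (-1))) := trivial
      rw [← hi] at hmem
      have h2 : Q.1 y₁ ≤ WithZero.exp (-2 : ℤ) := hmem Q (Finset.mem_singleton_self Q)
      rw [hy₁' Q hQS, WithZero.exp_le_exp] at h2
      omega
  obtain ⟨y, hyprim, hyS⟩ := key
  refine ⟨y, ?_, fun P => ?_⟩
  · rw [← IntermediateField.adjoin_simple_adjoin_simple, hyprim]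
    rfl
  · by_cases hP : P ∈ S
    · exact ⟨y, Submodule.subset_span (by simp), hyS P hP⟩
    · obtain ⟨hsurj, hx1⟩ := hSmem P hP
      obtain ⟨c, hc⟩ := exists_const_uniformizer_of_unramified hK htr P hx1 hsurj
      refine ⟨x - algebraMap k K c, ?_, hc⟩
      have e : x - algebraMap k K c = x - c • (1 : K) := by rw [Algebra.smul_def, mul_one]
      rw [e]
      exact sub_mem (Submodule.subset_span (by simp))
        (Submodule.smul_mem _ _ (Submodule.subset_span (by simp)))

end LocParam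

end Groth.Agent.Lib.H40FunFld
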