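import Groth.Agent.Lib.H40FunFldConductor
import Mathlib.LinearAlgebra.TensorProduct.Basis

set_option autoImplicit false
set_option linter.style.haveILetI false
set_option linter.unusedSectionVars false
open FunFld Polynomial

namespace Groth.Agent.Lib.H40FunFld

open IntermediateField TensorProduct

universe u v w

section TensorSquare

variable {F : Type*} {E : Type*} {M : Type*} {N : Type*} [Field F] [Field E] [Field M] [Field N]
  [Algebra F E] [Algebra F M] [Algebra F N] [Algebra E N] [Algebra M N]
  [IsScalarTower F E N] [IsScalarTower F M N]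
  {ι : Type*} [Fintype ι]

/-- The coordinate sum map attached to a basis of `E/F`. -/
noncomputable def coordSum (b : Module.Basis ι F E) (a : ι → M) : N :=
  ∑ i, algebraMap M N (a i) * algebraMap E N (b i)

theorem coordSum_add (b : Module.Basis ι F E) (a a' : ι → M) :
    coordSum (N := N) b (a + a') = coordSum b a + coordSum b a' := by
  unfold coordSum
  rw [← Finset.sum_add_distrib]
  refine Finset.sum_congr rfl fun i _ => ?_
  rw [Pi.add_apply, map_add, add_mul]

theorem coordSum_zero (b : Module.Basis ι F E) : coordSum (N := N) b (0 : ι → M) = 0 := by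
  unfold coordSum
  simp

theorem coordSum_smul (b : Module.Basis ι F E) (c : M) (a : ι → M) :
    coordSum (N := N) b (fun i => c * a i) = algebraMap M N c * coordSum b a := by
  unfold coordSum
  rw [Finset.mul_sum]
  refine Finset.sum_congr rfl fun i _ => ?_
  rw [map_mul, mul_assoc]

theorem coordSum_sub (b : Module.Basis ι F E) (a a' : ι → M) :
    coordSum (N := N) b (a - a') = coordSum b a - coordSum b a' := by
  unfold coordSum
  rw [← Finset.sum_sub_distrib]
  refine Finset.sum_congr rfl fun i _ => ?_
  rw [Pi.sub_apply, map_sub, sub_mul]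

theorem productMap_sum_tmul (b : Module.Basis ι F E) (a : ι → M) :
    Algebra.TensorProduct.productMap (IsScalarTower.toAlgHom F E N) (IsScalarTower.toAlgHom F M N)
      (∑ i, b i ⊗ₜ[F] a i) = coordSum b a := by
  unfold coordSum
  rw [map_sum]
  refine Finset.sum_congr rfl fun i _ => ?_
  rw [Algebra.TensorProduct.productMap_apply_tmul, mul_comm]
  rfl

theorem coordSum_injective (b : Module.Basis ι F E)
    (h : Function.Injective (Algebra.TensorProduct.productMap
      (IsScalarTower.toAlgHom F E N) (IsScalarTower.toAlgHom F M N))) :
    Function.Injective (coordSum (M := M) (N := N) b) := by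
  classical
  intro a a' haa
  have h0 : coordSum (N := N) b (a - a') = 0 := by rw [coordSum_sub, haa, sub_self]
  rw [← productMap_sum_tmul] at h0
  have h1 : (∑ i, b i ⊗ₜ[F] (a - a') i) = 0 := by
    apply h
    rw [h0, map_zero]
  have h2 := TensorProduct.sum_tmul_basis_left_eq_zero b (Finsupp.equivFunOnFinite.symm (a - a'))
    (by
      rw [Finsupp.sum_fintype _ _ (fun i => by simp)]
      simpa using h1)
  have h3 : a - a' = 0 := by
    have := congrArg Finsupp.equivFunOnFinite h2
    rw [Equiv.apply_symm_apply] at this
    rw [this]
    rfl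
  exact sub_eq_zero.1 h3

theorem coordSum_surjective (b : Module.Basis ι F E)
    (h : Function.Surjective (Algebra.TensorProduct.productMap
      (IsScalarTower.toAlgHom F E N) (IsScalarTower.toAlgHom F M N))) :
    Function.Surjective (coordSum (M := M) (N := N) b) := by
  classical
  intro n
  obtain ⟨x, rfl⟩ := h n
  obtain ⟨c, rfl⟩ := TensorProduct.eq_repr_basis_left b x
  refine ⟨c, ?_⟩
  rw [← productMap_sum_tmul, Finsupp.sum_fintype _ _ (fun i => by simp)]

/-- `N` is finite over `M`. -/
theorem finite_of_productMap_surjective [FiniteDimensional F E]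
    (h : Function.Surjective (Algebra.TensorProduct.productMap
      (IsScalarTower.toAlgHom F E N) (IsScalarTower.toAlgHom F M N))) :
    FiniteDimensional M N := by
  classical
  let b := Module.finBasis F E
  have hs := coordSum_surjective (M := M) (N := N) b h
  refine ⟨⟨Finset.univ.image fun i => algebraMap E N (b i), ?_⟩⟩
  rw [eq_top_iff]
  intro n _
  obtain ⟨a, rfl⟩ := hs n
  unfold coordSum
  refine Submodule.sum_mem _ fun i _ => ?_
  rw [← Algebra.smul_def]
  refine Submodule.smul_mem _ _ (Submodule.subset_span ?_)
  simp

end TensorSquare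

end Groth.Agent.Lib.H40FunFld
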