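import Groth.Agent.Lib.H40FunFldNonsingST1

set_option autoImplicit false
set_option linter.style.haveILetI false
set_option linter.unusedSectionVars false
open FunFld Polynomial

namespace Groth.Agent.Lib.H40FunFld

open IntermediateField TensorProduct

universe u v w

section AdjoinDesc

variable {F : Type*} {E : Type*} {M : Type*} {N : Type*} [Field F] [Field E] [Field M] [Field N]
  [Algebra F E] [Algebra F M] [Algebra F N] [Algebra E N] [Algebra M N]
  [IsScalarTower F E N] [IsScalarTower F M N]
  {ι : Type*} [Fintype ι]

/-- Adjoining the range of a ring homomorphism gives the span of the range. -/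
theorem mem_adjoin_range_iff {R : Type*} [CommRing R] [Algebra R N] (φ : E →+* N) (z : N) :
    z ∈ Algebra.adjoin R (Set.range φ) ↔ z ∈ Submodule.span R (Set.range φ) := by
  rw [← Subalgebra.mem_toSubmodule, Algebra.adjoin_eq_span]
  have h : (Submonoid.closure (Set.range φ) : Set N) = Set.range φ := by
    have h1 : Submonoid.closure (Set.range φ) = MonoidHom.mrange (φ : E →* N) := by
      apply le_antisymm
      · rw [Submonoid.closure_le]
        rintro _ ⟨x, rfl⟩
        exact ⟨x, rfl⟩
      · rintro _ ⟨x, rfl⟩
        exact Submonoid.subset_closure ⟨x, rfl⟩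
    rw [h1]
    rfl
  rw [h]

/-- The set of coordinate sums with coordinates in `A`. -/
def Tset (b : Module.Basis ι F E) (A : Set M) : Set N :=
  {z | ∃ a : ι → M, (∀ i, a i ∈ A) ∧ coordSum b a = z}

theorem algebraMap_mem_Tset (b : Module.Basis ι F E) (A : Set M)
    (hA : ∀ c : F, algebraMap F M c ∈ A) (y : E) : algebraMap E N y ∈ Tset (N := N) b A := by
  refine ⟨fun i => algebraMap F M (b.repr y i), fun i => hA _, ?_⟩
  unfold coordSum
  conv_rhs => rw [← b.sum_repr y]
  rw [map_sum]
  refine Finset.sum_congr rfl fun i _ => ?_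
  rw [Algebra.smul_def, map_mul, ← IsScalarTower.algebraMap_apply F M N,
    ← IsScalarTower.algebraMap_apply F E N]

/-- Description of `R[E]` inside `N` in terms of `R'[F]`-coordinates. -/
theorem adjoin_eq_Tset (b : Module.Basis ι F E) (R' : Subring M) (R : Subring N)
    (hR : R = R'.map (algebraMap M N)) :
    ((Algebra.adjoin R (Set.range (algebraMap E N)) : Subalgebra R N) : Set N) =
      Tset b ((Algebra.adjoin R' (Set.range (algebraMap F M)) : Subalgebra R' M) : Set M) := by
  subst hR
  set A : Subalgebra R' M := Algebra.adjoin R' (Set.range (algebraMap F M)) with hA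
  ext z
  rw [SetLike.mem_coe, mem_adjoin_range_iff]
  constructor
  · intro hz
    refine Submodule.span_induction (p := fun z _ => z ∈ Tset (N := N) b (A : Set M))
      ?_ ?_ ?_ ?_ hz
    · rintro _ ⟨y, rfl⟩
      exact algebraMap_mem_Tset b _
        (fun c => Algebra.subset_adjoin (Set.mem_range_self c)) y
    · exact ⟨0, fun i => A.zero_mem, coordSum_zero (N := N) b⟩
    · rintro x y _ _ ⟨a, ha, rfl⟩ ⟨a', ha', rfl⟩
      exact ⟨a + a', fun i => A.add_mem (ha i) (ha' i), coordSum_add b a a'⟩
    · rintro ⟨r, r', hr', rfl⟩ x _ ⟨a, ha, rfl⟩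
      refine ⟨fun i => r' * a i, fun i => ?_, ?_⟩
      · change r' * a i ∈ A
        have : r' * a i = (⟨r', hr'⟩ : R') • a i := rfl
        rw [this]
        exact A.smul_mem (ha i) _
      · rw [coordSum_smul]
        rfl
  · rintro ⟨a, ha, rfl⟩
    unfold coordSum
    refine Submodule.sum_mem _ fun i _ => ?_
    have hai : a i ∈ Submodule.span R' (Set.range (algebraMap F M)) := by
      have := ha i
      rwa [SetLike.mem_coe, hA, mem_adjoin_range_iff] at this
    refine Submodule.span_induction
      (p := fun m _ => algebraMap M N m * algebraMap E N (b i) ∈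
        Submodule.span (R'.map (algebraMap M N)) (Set.range (algebraMap E N))) ?_ ?_ ?_ ?_ hai
    · rintro _ ⟨c, rfl⟩
      apply Submodule.subset_span
      refine ⟨algebraMap F E c * b i, ?_⟩
      rw [map_mul, ← IsScalarTower.algebraMap_apply F M N,
        ← IsScalarTower.algebraMap_apply F E N]
    · rw [map_zero, zero_mul]; exact Submodule.zero_mem _
    · intro x y _ _ hx hy
      rw [map_add, add_mul]; exact Submodule.add_mem _ hx hy
    · intro r x _ hx
      have h1 : algebraMap M N (r • x) * algebraMap E N (b i) =
          (⟨algebraMap M N r, ⟨r, r.2, rfl⟩⟩ : R'.map (algebraMap M N)) •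
            (algebraMap M N x * algebraMap E N (b i)) := by
        change algebraMap M N ((r : M) * x) * _ = algebraMap M N r * _
        rw [map_mul, mul_assoc]
      rw [h1]
      exact Submodule.smul_mem _ _ hx

end AdjoinDesc

end Groth.Agent.Lib.H40FunFld
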