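import Groth.Agent.Lib.H40FunFldNonsingST2

set_option autoImplicit false
set_option linter.style.haveILetI false
set_option linter.unusedSectionVars false
open FunFld Polynomial

namespace Groth.Agent.Lib.H40FunFld

open IntermediateField TensorProduct

universe u v w

section IntegralTransfer

variable {N : Type*} [CommRing N]

/-- Integrality transfers along a compatible ring homomorphism of base rings. -/
theorem isIntegral_of_ringHom {A B : Type*} [CommRing A] [CommRing B] [Algebra A N] [Algebra B N]
    (ψ : A →+* B) (hψ : ∀ a, algebraMap B N (ψ a) = algebraMap A N a) {z : N}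
    (hz : IsIntegral A z) : IsIntegral B z := by
  obtain ⟨p, hp, h⟩ := hz
  refine ⟨p.map ψ, hp.map ψ, ?_⟩
  rw [eval₂_map]
  have : (algebraMap B N).comp ψ = algebraMap A N := by ext a; exact hψ a
  rw [this]; exact h

/-- Integrality descends along a compatible surjective ring homomorphism of base rings. -/
theorem isIntegral_of_ringHom_surjective {A B : Type*} [CommRing A] [CommRing B] [Nontrivial B]
    [Algebra A N] [Algebra B N] (ψ : A →+* B) (hs : Function.Surjective ψ)
    (hψ : ∀ a, algebraMap B N (ψ a) = algebraMap A N a) {z : N}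
    (hz : IsIntegral B z) : IsIntegral A z := by
  obtain ⟨p, hp, h⟩ := hz
  have hl : p ∈ Polynomial.lifts ψ := by
    rw [Polynomial.mem_lifts]
    exact Polynomial.map_surjective ψ hs p
  obtain ⟨q, hq, -, hqm⟩ := Polynomial.lifts_and_degree_eq_and_monic hl hp
  refine ⟨q, hqm, ?_⟩
  rw [← hq, eval₂_map] at h
  have : (algebraMap B N).comp ψ = algebraMap A N := by ext a; exact hψ a
  rw [this] at h; exact h

end IntegralTransfer

section ValSubring

variable {K : Type*} {L : Type*} [Field K] [Field L] [Algebra K L]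

/-- The canonical map from a valuation subring onto its image subring. -/
def toMapSubring (V : ValuationSubring K) : V →+* V.toSubring.map (algebraMap K L) :=
  ((algebraMap K L).comp V.subtype).codRestrict _ (fun x => ⟨x, x.2, rfl⟩)

theorem toMapSubring_surjective (V : ValuationSubring K) :
    Function.Surjective (toMapSubring (L := L) V) := by
  rintro ⟨_, x, hx, rfl⟩
  exact ⟨⟨x, hx⟩, rfl⟩

theorem isIntegral_map_iff (V : ValuationSubring K) (z : L) :
    IsIntegral (V.toSubring.map (algebraMap K L)) z ↔ IsIntegral V z :=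
  ⟨isIntegral_of_ringHom_surjective (toMapSubring V) (toMapSubring_surjective V) (fun _ => rfl),
    isIntegral_of_ringHom (toMapSubring V) (fun _ => rfl)⟩

theorem mem_integralClosure_map_iff (V : ValuationSubring K) (z : L) :
    z ∈ integralClosure (V.toSubring.map (algebraMap K L)) L ↔ IsIntegral V z :=
  isIntegral_map_iff V z

end ValSubring

section Multiplier

variable {k : Type u} [Field k] {K : Type v} [Field K] [Algebra k K] {K' : Type w} [Field K']
  [Algebra K K'] [Algebra k K'] [IsScalarTower k K K'] [FiniteDimensional K K']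

/-- A multiplier that is a unit at `Q` and kills the poles at the other places above `P` of a
finite set of elements integral at `Q`. -/
theorem exists_multiplier (hK : FunFld.IsFunctionField k K) (P : FunFld.Place k K)
    (Q : FunFld.Place k K') (S : Finset K') (hS : ∀ a ∈ S, Q.1 a ≤ 1) :
    ∃ t : K', Q.1 t = 1 ∧ ∀ a ∈ S, ∀ j : ℕ, 0 < j →
      ∀ Q' : FunFld.Place k K', FunFld.IsOver Q' P → Q'.1 (t ^ j * a) ≤ 1 := by
  classical
  have hfin := (finite_isOver_and_sum_ramIdx_mul_deg (K' := K') hK P).1
  set s : Finset (FunFld.Place k K') := hfin.toFinset.erase Q with hs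
  have hQs : Q ∉ s := Finset.notMem_erase _ _
  obtain ⟨u, hu1, hu2⟩ := exists_approx_one_zero s Q hQs 1
  have hexp : WithZero.exp (-((1 : ℕ) : ℤ)) < (1 : WithZero (Multiplicative ℤ)) := by
    rw [← WithZero.exp_zero, WithZero.exp_lt_exp]; norm_num
  have hQu : Q.1 u = 1 := by
    have h1 : Q.1 (u - 1) < Q.1 1 := by rw [map_one]; exact lt_of_le_of_lt hu1 hexp
    have := Valuation.map_add_eq_of_lt_left Q.1 h1
    rw [add_sub_cancel] at this
    rw [this, map_one]
  -- the exponent
  have hN : ∀ Q' ∈ s, ∃ N : ℕ, ∀ a ∈ S, ∀ n : ℕ, N ≤ n → Q'.1 (u ^ n * a) ≤ 1 := by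
    intro Q' hQ'
    refine ⟨S.sup (fun x => (WithZero.log (Q'.1 x)).toNat), fun x hx n hn => ?_⟩
    set N := S.sup (fun x => (WithZero.log (Q'.1 x)).toNat) with hN
    by_cases hx0 : x = 0
    · rw [hx0, mul_zero, map_zero]; exact zero_le_one
    have hvx : Q'.1 x ≠ 0 := (Valuation.ne_zero_iff _).2 hx0
    have h1 : (WithZero.log (Q'.1 x)).toNat ≤ N :=
      Finset.le_sup (f := fun x => (WithZero.log (Q'.1 x)).toNat) hx
    have h2 : WithZero.log (Q'.1 x) ≤ (n : ℤ) :=
      (Int.self_le_toNat _).trans (by exact_mod_cast h1.trans hn)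
    have h3 : Q'.1 x ≤ WithZero.exp (n : ℤ) := by
      rw [← WithZero.exp_log hvx]
      exact WithZero.exp_le_exp.2 h2
    rw [map_mul, map_pow]
    calc Q'.1 u ^ n * Q'.1 x ≤ WithZero.exp (-((1 : ℕ) : ℤ)) ^ n * WithZero.exp (n : ℤ) := by
          gcongr
          exact hu2 Q' hQ'
      _ = 1 := by rw [← WithZero.exp_nsmul, ← WithZero.exp_add]; simp
  choose! Nf hNf using hN
  set N := s.sup Nf + 1 with hNdef
  refine ⟨u ^ N, by rw [map_pow, hQu, one_pow], fun a ha j hj Q' hQ' => ?_⟩
  by_cases hQQ : Q' = Q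
  · rw [hQQ, map_mul, map_pow, map_pow, hQu, one_pow, one_pow, one_mul]
    exact hS a ha
  · have hQ's : Q' ∈ s := by
      rw [hs, Finset.mem_erase]
      exact ⟨hQQ, by rw [Set.Finite.mem_toFinset]; exact hQ'⟩
    rw [← pow_mul]
    apply hNf Q' hQ's a ha
    have h1 : Nf Q' ≤ s.sup Nf := Finset.le_sup hQ's
    calc Nf Q' ≤ N := by omega
      _ = N * 1 := (mul_one N).symm
      _ ≤ N * j := Nat.mul_le_mul_left N hj

end Multiplier

end Groth.Agent.Lib.H40FunFld
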