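import Groth.Agent.Lib.H40FunFldNonsingST3
import Groth.Agent.Lib.H40FunFldConstExt

set_option autoImplicit false
set_option linter.style.haveILetI false
set_option linter.unusedSectionVars false
open FunFld Polynomial

namespace Groth.Agent.Lib.H40FunFld

open IntermediateField TensorProduct

universe u v w

section Prep

variable {F : Type*} {E : Type*} {M : Type*} {N : Type*} [Field F] [Field E] [Field M] [Field N]
  [Algebra F E] [Algebra F M] [Algebra F N] [Algebra E N] [Algebra M N]
  [IsScalarTower F E N] [IsScalarTower F M N]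
  {ι : Type*} [Fintype ι]

theorem coordSum_repr (b : Module.Basis ι F E) (y : E) :
    coordSum (M := M) (N := N) b (fun i => algebraMap F M (b.repr y i)) = algebraMap E N y := by
  unfold coordSum
  conv_rhs => rw [← b.sum_repr y]
  rw [map_sum]
  refine Finset.sum_congr rfl fun i _ => ?_
  rw [Algebra.smul_def, map_mul, ← IsScalarTower.algebraMap_apply F M N,
    ← IsScalarTower.algebraMap_apply F E N]

/-- The adjunction of an algebraic extension of the constants is integral. -/
theorem adjoin_le_integralClosure [Algebra.IsIntegral F E] (R : Subring N)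
    (hR : ∀ c : F, algebraMap F N c ∈ R) :
    Algebra.adjoin R (Set.range (algebraMap E N)) ≤ integralClosure R N := by
  apply Algebra.adjoin_le
  rintro _ ⟨y, rfl⟩
  have h1 : IsIntegral F (algebraMap E N y) := (Algebra.IsIntegral.isIntegral y).algebraMap
  exact isIntegral_of_ringHom ((algebraMap F N).codRestrict R hR) (fun _ => rfl) h1

theorem integralClosure_eq_adjoin_iff [Algebra.IsIntegral F E] (R : Subring N)
    (hR : ∀ c : F, algebraMap F N c ∈ R) :
    integralClosure R N = Algebra.adjoin R (Set.range (algebraMap E N)) ↔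
      ∀ z : N, IsIntegral R z →
        z ∈ ((Algebra.adjoin R (Set.range (algebraMap E N)) : Subalgebra R N) : Set N) := by
  constructor
  · intro h z hz
    rw [← h]; exact hz
  · intro h
    exact le_antisymm (fun z hz => h z hz) (adjoin_le_integralClosure R hR)

end Prep

section Main

variable (k k' k'' : Type u) (K K' K'' : Type v) [Field k] [Field k'] [Field k''] [Field K]
    [Field K'] [Field K'']
    [Algebra k k'] [Algebra k' k''] [Algebra k k''] [IsScalarTower k k' k'']
    [FiniteDimensional k k'] [FiniteDimensional k' k'']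
    [Algebra k K] [Algebra K K'] [Algebra k' K'] [Algebra k K'] [IsScalarTower k k' K']
    [IsScalarTower k K K']
    [Algebra K' K''] [Algebra k'' K''] [Algebra k' K''] [Algebra k K''] [Algebra K K'']
    [IsScalarTower k' k'' K''] [IsScalarTower k' K' K''] [IsScalarTower K K' K'']
    [IsScalarTower k K K'']

/-- Predicate form of the tower criterion for nonsingularity. -/
theorem nonsingular_tower_pred
    (h1 : Function.Bijective (Algebra.TensorProduct.productMap
      (IsScalarTower.toAlgHom k k' K') (IsScalarTower.toAlgHom k K K')))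
    (h2 : Function.Bijective (Algebra.TensorProduct.productMap
      (IsScalarTower.toAlgHom k' k'' K'') (IsScalarTower.toAlgHom k' K' K'')))
    (hK : FunFld.IsFunctionField k K) (P : FunFld.Place k K)
    {ι : Type*} [Fintype ι] (b : Module.Basis ι k' k'')
    (A : Subalgebra (P.O.toSubring.map (algebraMap K K')) K')
    (hA : A = Algebra.adjoin (P.O.toSubring.map (algebraMap K K')) (Set.range (algebraMap k' K'))) :
    (∀ z : K'', IsIntegral P.O z → z ∈ Tset (N := K'') b (A : Set K')) ↔
      ((∀ w : K', IsIntegral P.O w → w ∈ A) ∧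
        ∀ Q : FunFld.Place k K', FunFld.IsOver Q P →
          ∀ z : K'', IsIntegral Q.O z → z ∈ Tset (N := K'') b (Q.O : Set K')) := by
  classical
  haveI hfin1 : FiniteDimensional K K' := finite_of_productMap_surjective h1.2
  haveI hfin2 : FiniteDimensional K' K'' := finite_of_productMap_surjective h2.2
  have hinj := coordSum_injective (M := K') (N := K'') b h2.1
  have hsurj := coordSum_surjective (M := K') (N := K'') b h2.2
  -- `A` is contained in the integral closure
  have hkR : ∀ c : k, algebraMap k K' c ∈ P.O.toSubring.map (algebraMap K K') := by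
    intro c
    refine ⟨algebraMap k K c, P.2.1 c, ?_⟩
    rw [← IsScalarTower.algebraMap_apply]
  have hAint : ∀ w ∈ A, IsIntegral P.O w := by
    intro w hw
    rw [hA] at hw
    have := adjoin_le_integralClosure (F := k) (E := k') (N := K') _ hkR hw
    exact (mem_integralClosure_map_iff P.O w).1 this
  have hAk : ∀ c : k', algebraMap k' K' c ∈ A := by
    intro c
    rw [hA]
    exact Algebra.subset_adjoin (Set.mem_range_self c)
  have hIC : ∀ w : K', IsIntegral P.O w ↔
      ∀ Q : FunFld.Place k K', FunFld.IsOver Q P → Q.1 w ≤ 1 := by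
    intro w
    have := integralClosure_eq_intAbove (K' := K') P hK
    rw [← mem_intAbove_iff, ← this]
    rfl
  have hAQ : ∀ Q : FunFld.Place k K', FunFld.IsOver Q P → ∀ w ∈ A, Q.1 w ≤ 1 :=
    fun Q hQ w hw => (hIC w).1 (hAint w hw) Q hQ
  constructor
  · intro H
    refine ⟨fun w hw => ?_, fun Q hQ z hz => ?_⟩
    · -- (a)
      have hw' : IsIntegral P.O (algebraMap K' K'' w) := hw.algebraMap
      obtain ⟨a, ha, hsum⟩ := H _ hw'
      have h1' : coordSum (N := K'') b (fun i => w * algebraMap k' K' (b.repr 1 i)) =
          algebraMap K' K'' w := by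
        rw [coordSum_smul, coordSum_repr, map_one, mul_one]
      have haw : a = fun i => w * algebraMap k' K' (b.repr 1 i) := hinj (hsum.trans h1'.symm)
      obtain ⟨j, hj⟩ : ∃ j, b.repr (1 : k'') j ≠ 0 := by
        by_contra hcon
        push Not at hcon
        have : b.repr (1 : k'') = 0 := by ext j; exact hcon j
        rw [LinearEquiv.map_eq_zero_iff] at this
        exact one_ne_zero this
      have hwj : w = a j * algebraMap k' K' (b.repr 1 j)⁻¹ := by
        rw [haw, mul_assoc, ← map_mul, mul_inv_cancel₀ hj, map_one, mul_one]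
      rw [hwj]
      exact A.mul_mem (ha j) (hAk _)
    · -- (b)
      obtain ⟨p₀, hp₀, hroot⟩ := hz
      set p : K'[X] := p₀.map (algebraMap Q.O K') with hp
      have hpm : p.Monic := hp₀.map _
      have hpz : aeval z p = 0 := by
        rw [aeval_def, hp, eval₂_map, ← IsScalarTower.algebraMap_eq]
        exact hroot
      set S : Finset K' := (Finset.range (p.natDegree + 1)).image p.coeff with hS
      have hSQ : ∀ a ∈ S, Q.1 a ≤ 1 := by
        intro a ha
        rw [hS, Finset.mem_image] at ha
        obtain ⟨i, -, rfl⟩ := ha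
        rw [hp, coeff_map]
        exact (p₀.coeff i).2
      obtain ⟨t, ht1, ht⟩ := exists_multiplier hK P Q S hSQ
      have ht0 : t ≠ 0 := by
        rintro rfl; rw [map_zero] at ht1; exact zero_ne_one ht1
      set q : K'[X] := scaleRoots p t with hq
      have hqm : q.Monic := (monic_scaleRoots_iff t).2 hpm
      have hqz : aeval (algebraMap K' K'' t * z) q = 0 := scaleRoots_aeval_eq_zero hpz
      have hcoeff : ∀ i, q.coeff i ∈ integralClosure P.O K' := by
        intro i
        rw [hq, coeff_scaleRoots]
        rcases lt_trichotomy i p.natDegree with hi | hi | hi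
        · change IsIntegral P.O _
          rw [hIC]
          intro Q' hQ'
          rw [mul_comm]
          refine ht (p.coeff i) ?_ _ (by omega) Q' hQ'
          rw [hS, Finset.mem_image]
          exact ⟨i, by rw [Finset.mem_range]; omega, rfl⟩
        · rw [hi, Nat.sub_self, pow_zero, mul_one, hpm.coeff_natDegree]
          exact Subalgebra.one_mem _
        · rw [coeff_eq_zero_of_natDegree_lt hi, zero_mul]
          exact Subalgebra.zero_mem _
      have hl : q ∈ Polynomial.lifts (algebraMap (integralClosure P.O K') K') := by
        rw [Polynomial.lifts_iff_coeff_lifts]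
        intro i
        exact ⟨⟨q.coeff i, hcoeff i⟩, rfl⟩
      obtain ⟨q', hq'map, -, hq'm⟩ := Polynomial.lifts_and_degree_eq_and_monic hl hqm
      have htz1 : IsIntegral (integralClosure P.O K') (algebraMap K' K'' t * z) := by
        refine ⟨q', hq'm, ?_⟩
        rw [aeval_def, ← hq'map, eval₂_map] at hqz
        exact hqz
      have htz : IsIntegral P.O (algebraMap K' K'' t * z) := isIntegral_trans _ htz1
      obtain ⟨a, ha, hsum⟩ := H _ htz
      refine ⟨fun i => t⁻¹ * a i, fun i => ?_, ?_⟩
      · change Q.1 (t⁻¹ * a i) ≤ 1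
        rw [map_mul, map_inv₀, ht1, inv_one, one_mul]
        exact hAQ Q hQ _ (ha i)
      · rw [coordSum_smul, hsum, ← mul_assoc, ← map_mul, inv_mul_cancel₀ ht0, map_one, one_mul]
  · rintro ⟨H', HQ⟩ z hz
    obtain ⟨a, rfl⟩ := hsurj z
    refine ⟨a, fun i => ?_, rfl⟩
    apply H'
    rw [hIC]
    intro Q hQ
    obtain ⟨e, he⟩ := hQ
    have hzQ : IsIntegral Q.O (coordSum (N := K'') b a) := by
      refine isIntegral_of_ringHom
        (((algebraMap K K').comp P.O.subtype).codRestrict Q.O (fun x => ?_)) (fun x => ?_) hz
      · change Q.1 (algebraMap K K' x) ≤ 1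
        rw [he]
        exact pow_le_one' x.2 e
      · change algebraMap K' K'' (algebraMap K K' x) = algebraMap K K'' x
        rw [← IsScalarTower.algebraMap_apply]
    obtain ⟨a', ha', hsum'⟩ := HQ Q ⟨e, he⟩ _ hzQ
    have := hinj hsum'
    rw [← this]
    exact ha' i

end Main

end Groth.Agent.Lib.H40FunFld
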