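import Groth.Agent.Lib.H40FunFldNonsingST4

set_option autoImplicit false
set_option linter.style.haveILetI false
set_option linter.unusedSectionVars false
open FunFld Polynomial

namespace Groth.Agent.Lib.H40FunFld

open IntermediateField TensorProduct

universe u v w

section Final

theorem adjoin_subring_eq_self {M : Type*} [CommRing M] (R' : Subring M) (s : Set M)
    (hs : s ⊆ R') : ((Algebra.adjoin R' s : Subalgebra R' M) : Set M) = R' := by
  ext x
  constructor
  · intro hx
    have h1 : Algebra.adjoin R' s ≤ ⊥ := by
      apply Algebra.adjoin_le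
      intro y hy
      rw [SetLike.mem_coe, Algebra.mem_bot]
      exact ⟨⟨y, hs hy⟩, rfl⟩
    have h2 := h1 hx
    rw [Algebra.mem_bot] at h2
    obtain ⟨r, rfl⟩ := h2
    exact r.2
  · intro hx
    exact (Algebra.adjoin R' s).algebraMap_mem ⟨x, hx⟩

variable (k k' k'' : Type u) (K K' K'' : Type v) [Field k] [Field k'] [Field k''] [Field K]
    [Field K'] [Field K'']
    [Algebra k k'] [Algebra k' k''] [Algebra k k''] [IsScalarTower k k' k'']
    [FiniteDimensional k k'] [FiniteDimensional k' k'']
    [Algebra k K] [Algebra K K'] [Algebra k' K'] [Algebra k K'] [IsScalarTower k k' K']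
    [IsScalarTower k K K']
    [Algebra K' K''] [Algebra k'' K''] [Algebra k' K''] [Algebra k K''] [Algebra K K'']
    [IsScalarTower k' k'' K''] [IsScalarTower k' K' K''] [IsScalarTower K K' K'']
    [IsScalarTower k K K'']

/-- The tower criterion for nonsingularity with respect to scalar extensions. -/
theorem nonsingular_scalar_tower_iff
    (h1 : Function.Bijective (Algebra.TensorProduct.productMap
      (IsScalarTower.toAlgHom k k' K') (IsScalarTower.toAlgHom k K K')))
    (h2 : Function.Bijective (Algebra.TensorProduct.productMap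
      (IsScalarTower.toAlgHom k' k'' K'') (IsScalarTower.toAlgHom k' K' K'')))
    (hK : FunFld.IsFunctionField k K) (P : FunFld.Place k K) :
    (integralClosure (P.O.toSubring.map (algebraMap K K'')) K'' =
        Algebra.adjoin (P.O.toSubring.map (algebraMap K K'')) (Set.range (algebraMap k'' K''))) ↔
      (integralClosure (P.O.toSubring.map (algebraMap K K')) K' =
          Algebra.adjoin (P.O.toSubring.map (algebraMap K K')) (Set.range (algebraMap k' K')) ∧
        ∀ Q : FunFld.Place k K', FunFld.IsOver Q P →
          integralClosure (Q.O.toSubring.map (algebraMap K' K'')) K'' =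
            Algebra.adjoin (Q.O.toSubring.map (algebraMap K' K''))
              (Set.range (algebraMap k'' K''))) := by
  classical
  haveI tw : IsScalarTower k k'' K'' := by
    refine IsScalarTower.of_algebraMap_eq fun c => ?_
    rw [IsScalarTower.algebraMap_apply k K K'', IsScalarTower.algebraMap_apply K K' K'',
      ← IsScalarTower.algebraMap_apply k K K', IsScalarTower.algebraMap_apply k k' K',
      ← IsScalarTower.algebraMap_apply k' K' K'', IsScalarTower.algebraMap_apply k' k'' K'',
      ← IsScalarTower.algebraMap_apply k k' k'']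
  haveI : FiniteDimensional k k'' := FiniteDimensional.trans k k' k''
  let b := Module.finBasis k' k''
  have hkR'' : ∀ c : k, algebraMap k K'' c ∈ P.O.toSubring.map (algebraMap K K'') := by
    intro c
    refine ⟨algebraMap k K c, P.2.1 c, ?_⟩
    rw [← IsScalarTower.algebraMap_apply]
  have hkR' : ∀ c : k, algebraMap k K' c ∈ P.O.toSubring.map (algebraMap K K') := by
    intro c
    refine ⟨algebraMap k K c, P.2.1 c, ?_⟩
    rw [← IsScalarTower.algebraMap_apply]
  have hk'Q : ∀ Q : FunFld.Place k K', ∀ c : k', Q.1 (algebraMap k' K' c) ≤ 1 := by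
    intro Q c
    exact val_le_one_of_isIntegral (k := k) Q
      (Algebra.IsIntegral.isIntegral (R := k) c).algebraMap
  have hk'R : ∀ Q : FunFld.Place k K', ∀ c : k',
      algebraMap k' K'' c ∈ Q.O.toSubring.map (algebraMap K' K'') := by
    intro Q c
    refine ⟨algebraMap k' K' c, hk'Q Q c, ?_⟩
    rw [← IsScalarTower.algebraMap_apply]
  set A : Subalgebra (P.O.toSubring.map (algebraMap K K')) K' :=
    Algebra.adjoin (P.O.toSubring.map (algebraMap K K')) (Set.range (algebraMap k' K')) with hA
  have hRR : P.O.toSubring.map (algebraMap K K'') =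
      (P.O.toSubring.map (algebraMap K K')).map (algebraMap K' K'') := by
    rw [Subring.map_map, ← IsScalarTower.algebraMap_eq]
  rw [integralClosure_eq_adjoin_iff (F := k) (E := k'') _ hkR'',
    integralClosure_eq_adjoin_iff (F := k) (E := k') _ hkR',
    adjoin_eq_Tset (F := k') (E := k'') (M := K') (N := K'') b _ _ hRR]
  have key := nonsingular_tower_pred k k' k'' K K' K'' h1 h2 hK P b A hA
  have e1 : (∀ z : K'', IsIntegral (P.O.toSubring.map (algebraMap K K'')) z →
      z ∈ Tset (N := K'') b (A : Set K')) ↔
      (∀ z : K'', IsIntegral P.O z → z ∈ Tset (N := K'') b (A : Set K')) := by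
    refine forall_congr' fun z => ?_
    rw [isIntegral_map_iff]
  have e2 : (∀ w : K', IsIntegral (P.O.toSubring.map (algebraMap K K')) w → w ∈ (A : Set K')) ↔
      (∀ w : K', IsIntegral P.O w → w ∈ A) := by
    refine forall_congr' fun w => ?_
    rw [isIntegral_map_iff]
    rfl
  have e3 : ∀ Q : FunFld.Place k K',
      (integralClosure (Q.O.toSubring.map (algebraMap K' K'')) K'' =
        Algebra.adjoin (Q.O.toSubring.map (algebraMap K' K''))
          (Set.range (algebraMap k'' K''))) ↔
      ∀ z : K'', IsIntegral Q.O z → z ∈ Tset (N := K'') b (Q.O : Set K') := by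
    intro Q
    rw [integralClosure_eq_adjoin_iff (F := k') (E := k'') _ (hk'R Q),
      adjoin_eq_Tset (F := k') (E := k'') (M := K') (N := K'') b Q.O.toSubring _ rfl,
      adjoin_subring_eq_self Q.O.toSubring _ (by rintro _ ⟨c, rfl⟩; exact hk'Q Q c)]
    refine forall_congr' fun z => ?_
    rw [isIntegral_map_iff]
    rfl
  rw [e1, e2, key]
  refine and_congr Iff.rfl (forall_congr' fun Q => imp_congr Iff.rfl ?_)
  exact (e3 Q).symm

end Final

end Groth.Agent.Lib.H40FunFld
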