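import Groth.Agent.Lib.H40FunFldPlaneNonsing
import Groth.Agent.Lib.H40FunFldLocParam

set_option autoImplicit false
set_option linter.style.haveILetI false
set_option linter.unusedSectionVars false
open FunFld Polynomial

namespace Groth.Agent.Lib.H40FunFld

open Groth.Agent.Lib.H40QuotChain IntermediateField

universe u v w

section Converse

variable {k : Type u} [Field k] {K : Type v} [Field K] [Algebra k K]

/-- The monomials `x'^i y^j`, `j < d`, `i + j ≤ n` are linearly independent over `k`. -/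
theorem linearIndependent_monomials {x' y : K} (htr : Transcendental k x') {d : ℕ}
    (hd : (minpoly ↥k⟮x'⟯ y).natDegree = d) (n : ℕ) :
    LinearIndependent k (fun s : (Σ j : Fin d, Fin (n + 1 - j)) =>
      x' ^ (s.2 : ℕ) * y ^ (s.1 : ℕ)) := by
  subst hd
  have hli1 : LinearIndependent k (fun i : ℕ =>
      (⟨x', mem_adjoin_simple_self k _⟩ : ↥k⟮x'⟯) ^ i) := by
    apply LinearIndependent.of_comp (k⟮x'⟯.val.toLinearMap)
    have e : (k⟮x'⟯.val.toLinearMap ∘ fun i : ℕ =>
        (⟨x', mem_adjoin_simple_self k _⟩ : ↥k⟮x'⟯) ^ i) = fun i : ℕ => x' ^ i := by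
      funext i
      simp
    rw [e]
    exact linearIndependent_pow_of_transcendental htr
  have hli2 := linearIndependent_pow (K := ↥k⟮x'⟯) y
  have hli := linearIndependent_smul hli1 hli2
  have hinj : Function.Injective
      (fun s : (Σ j : Fin (minpoly ↥k⟮x'⟯ y).natDegree, Fin (n + 1 - j)) => ((s.2 : ℕ), s.1)) := by
    rintro ⟨j₁, i₁⟩ ⟨j₂, i₂⟩ h
    simp only [Prod.mk.injEq] at h
    obtain ⟨h1, h2⟩ := h
    subst h2
    have : i₁ = i₂ := Fin.ext h1
    rw [this]
  have h3 := hli.comp _ hinj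
  convert h3 using 1
  funext s
  simp only [Function.comp_apply, Algebra.smul_def]
  rfl

/-- The monomials of degree at most `n` lie in `L(nD)`. -/
theorem monomial_mem_L {x y : K} {c : k}
    (hc : ∀ P : FunFld.Place k K, max 1 (P.1 (x + algebraMap k K c * y)) =
      max 1 (max (P.1 x) (P.1 y)))
    (hM : ∀ P : FunFld.Place k K, WithZero.exp (FunFld.mapDiv k ![(1 : K), x, y] P) =
      max 1 (max (P.1 x) (P.1 y))) {n i j : ℕ} (hij : i + j ≤ n) :
    (x + algebraMap k K c * y) ^ i * y ^ j ∈
      FunFld.L (n • FunFld.mapDiv k ![(1 : K), x, y]) := by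
  intro P
  have hvx' : P.1 (x + algebraMap k K c * y) ≤
      WithZero.exp (FunFld.mapDiv k ![(1 : K), x, y] P) := by
    rw [hM P, ← hc P]; exact le_max_right _ _
  have hvy : P.1 y ≤ WithZero.exp (FunFld.mapDiv k ![(1 : K), x, y] P) := by
    rw [hM P]; exact (le_max_right _ _).trans (le_max_right _ _)
  have h1D : 1 ≤ WithZero.exp (FunFld.mapDiv k ![(1 : K), x, y] P) := by
    rw [hM P]; exact le_max_left _ _
  rw [Finsupp.smul_apply, WithZero.exp_nsmul, map_mul, map_pow, map_pow]
  calc P.1 (x + algebraMap k K c * y) ^ i * P.1 y ^ j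
      ≤ WithZero.exp (FunFld.mapDiv k ![(1 : K), x, y] P) ^ i *
        WithZero.exp (FunFld.mapDiv k ![(1 : K), x, y] P) ^ j :=
        mul_le_mul' (pow_le_pow_left' hvx' i) (pow_le_pow_left' hvy j)
    _ = WithZero.exp (FunFld.mapDiv k ![(1 : K), x, y] P) ^ (i + j) := (pow_add _ _ _).symm
    _ ≤ WithZero.exp (FunFld.mapDiv k ![(1 : K), x, y] P) ^ n := pow_le_pow_right' h1D hij

/-- A monomial of degree at most `n`, divided by `φ_j^n`, is a polynomial in the ratios. -/
theorem monomial_div_mem_adjoin {x y : K} (c : k) (j : Fin 3) (hj0 : ![(1 : K), x, y] j ≠ 0)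
    {n a b : ℕ} (hab : a + b ≤ n) :
    (x + algebraMap k K c * y) ^ a * y ^ b / (![(1 : K), x, y] j) ^ n ∈
      Algebra.adjoin k (Set.range fun i => ![(1 : K), x, y] i / ![(1 : K), x, y] j) := by
  have h0 : (1 : K) / ![(1 : K), x, y] j ∈
      Algebra.adjoin k (Set.range fun i => ![(1 : K), x, y] i / ![(1 : K), x, y] j) :=
    Algebra.subset_adjoin ⟨0, rfl⟩
  have h1 : x / ![(1 : K), x, y] j ∈
      Algebra.adjoin k (Set.range fun i => ![(1 : K), x, y] i / ![(1 : K), x, y] j) :=
    Algebra.subset_adjoin ⟨1, rfl⟩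
  have h2 : y / ![(1 : K), x, y] j ∈
      Algebra.adjoin k (Set.range fun i => ![(1 : K), x, y] i / ![(1 : K), x, y] j) :=
    Algebra.subset_adjoin ⟨2, rfl⟩
  have h3 : (x + algebraMap k K c * y) / ![(1 : K), x, y] j ∈
      Algebra.adjoin k (Set.range fun i => ![(1 : K), x, y] i / ![(1 : K), x, y] j) := by
    rw [add_div, mul_div_assoc]
    exact Subalgebra.add_mem _ h1 (Subalgebra.mul_mem _ (Subalgebra.algebraMap_mem _ c) h2)
  have e : (x + algebraMap k K c * y) ^ a * y ^ b / (![(1 : K), x, y] j) ^ n =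
      ((x + algebraMap k K c * y) / ![(1 : K), x, y] j) ^ a * (y / ![(1 : K), x, y] j) ^ b *
        ((1 : K) / ![(1 : K), x, y] j) ^ (n - a - b) := by
    have hn : n = a + b + (n - a - b) := by omega
    conv_lhs => rw [hn]
    rw [_root_.div_pow, _root_.div_pow, _root_.div_pow, one_pow, pow_add, pow_add]
    field_simp
  rw [e]
  exact Subalgebra.mul_mem _ (Subalgebra.mul_mem _ (Subalgebra.pow_mem _ h3 a)
    (Subalgebra.pow_mem _ h2 b)) (Subalgebra.pow_mem _ h0 _)

/-- If a plane model has `2g = (d-1)(d-2)`, it is nonsingular at every place. -/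
theorem isNonsingularAt_of_two_mul_genus_eq (hK : FunFld.IsFunctionField k K) [Infinite k]
    (x y : K) (hxy : IntermediateField.adjoin k ({x, y} : Set K) = ⊤)
    (hgenus : 2 * (FunFld.genus k K : ℤ) =
      ((FunFld.mapDiv k ![(1 : K), x, y]).deg - 1) *
        ((FunFld.mapDiv k ![(1 : K), x, y]).deg - 2)) (P : FunFld.Place k K) :
    FunFld.IsNonsingularAt ![(1 : K), x, y] P := by
  classical
  intro z hz
  obtain ⟨c, htr, hc, hM, hgen, hdeg⟩ := exists_plane_coords hK x y hxy
  haveI hfd : FiniteDimensional ↥k⟮x + algebraMap k K c * y⟯ K :=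
    finiteDimensional_adjoin_of_transcendental hK htr
  have hd1 : 1 ≤ Module.finrank ↥k⟮x + algebraMap k K c * y⟯ K := Module.finrank_pos
  have hd0 : (minpoly ↥k⟮x + algebraMap k K c * y⟯ y).natDegree =
      Module.finrank ↥k⟮x + algebraMap k K c * y⟯ K := by
    rw [← IntermediateField.adjoin.finrank (Algebra.IsIntegral.isIntegral y), hgen,
      IntermediateField.finrank_top']
  generalize Module.finrank ↥k⟮x + algebraMap k K c * y⟯ K = d at hdeg hd1 hd0
  have hd1z : (1 : ℤ) ≤ d := by exact_mod_cast hd1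
  have hg0 : (0 : ℤ) ≤ FunFld.genus k K := Nat.cast_nonneg _
  -- the pole divisor of `z`
  have hEnn : (0 : FunFld.Divisor k K) ≤ poleDiv z := poleDiv_nonneg z
  have hEdeg : 0 ≤ (poleDiv (k := k) z).deg := deg_nonneg hEnn
  have hEP : poleDiv (k := k) z P = 0 := by
    apply WithZero.exp_injective
    rw [exp_poleDiv hK, WithZero.exp_zero]
    exact max_eq_left hz
  have hPdeg : (1 : ℤ) ≤ P.deg := by exact_mod_cast deg_pos hK P
  generalize hn : d + 2 * FunFld.genus k K + (poleDiv (k := k) z).deg.toNat + P.deg = n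
  have hnz : (n : ℤ) = d + 2 * FunFld.genus k K + (poleDiv (k := k) z).deg + P.deg := by
    rw [← hn]
    push_cast
    rw [Int.toNat_of_nonneg hEdeg]
  have hdegn : (n • FunFld.mapDiv k ![(1 : K), x, y]).deg = (n : ℤ) * d := by
    rw [deg_nsmul, hdeg]
  -- `V_n = L(nD)`
  have hli := linearIndependent_monomials (y := y) htr hd0 n
  have hVL : Submodule.span k (Set.range fun s : (Σ j : Fin d, Fin (n + 1 - j)) =>
      (x + algebraMap k K c * y) ^ (s.2 : ℕ) * y ^ (s.1 : ℕ)) =
      FunFld.L (n • FunFld.mapDiv k ![(1 : K), x, y]) := by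
    haveI := finiteDimensional_L hK (n • FunFld.mapDiv k ![(1 : K), x, y])
    apply Submodule.eq_of_le_of_finrank_eq
    · rw [Submodule.span_le]
      rintro _ ⟨s, rfl⟩
      exact monomial_mem_L hc hM (by have h1 := s.2.isLt; have h2 := s.1.isLt; omega)
    · rw [finrank_span_eq_card hli, Fintype.card_sigma]
      simp only [Fintype.card_fin]
      rw [Fin.sum_univ_eq_sum_range (fun j => n + 1 - j) d]
      have hsum := two_mul_sum_range_sub n d (by omega)
      have hell := ell_eq_of_deg_ge hK (n • FunFld.mapDiv k ![(1 : K), x, y]) (by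
        rw [hdegn]
        nlinarith)
      rw [hdegn] at hell
      rw [hdeg] at hgenus
      have hfin : ((∑ j ∈ Finset.range d, (n + 1 - j) : ℕ) : ℤ) =
          (FunFld.ell (n • FunFld.mapDiv k ![(1 : K), x, y]) : ℤ) := by
        rw [Nat.cast_sum]
        nlinarith
      exact_mod_cast hfin
  -- the denominator `W`
  have hD'deg : (n • FunFld.mapDiv k ![(1 : K), x, y] - poleDiv z).deg =
      (n : ℤ) * d - (poleDiv (k := k) z).deg := by rw [deg_sub, hdegn]
  have hbig : 2 * (FunFld.genus k K : ℤ) + P.deg ≤ (n : ℤ) * d - (poleDiv (k := k) z).deg := by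
    nlinarith
  have hell1 := ell_eq_of_deg_ge hK (n • FunFld.mapDiv k ![(1 : K), x, y] - poleDiv z) (by
    rw [hD'deg]; linarith)
  have hell2 := ell_eq_of_deg_ge hK
    (n • FunFld.mapDiv k ![(1 : K), x, y] - poleDiv z - Finsupp.single P 1) (by
    rw [deg_sub, hD'deg, deg_single]; linarith)
  rw [deg_sub, hD'deg, deg_single, one_mul] at hell2
  rw [hD'deg] at hell1
  have hlt : FunFld.L (n • FunFld.mapDiv k ![(1 : K), x, y] - poleDiv z - Finsupp.single P 1) <
      FunFld.L (n • FunFld.mapDiv k ![(1 : K), x, y] - poleDiv z) := by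
    refine lt_of_le_of_ne (L_mono (sub_le_self _ (by
      intro Q
      rw [Finsupp.zero_apply, Finsupp.single_apply]
      split_ifs <;> norm_num))) (fun heq => ?_)
    have h3 : FunFld.ell (n • FunFld.mapDiv k ![(1 : K), x, y] - poleDiv z -
        Finsupp.single P 1) = FunFld.ell (n • FunFld.mapDiv k ![(1 : K), x, y] - poleDiv z) := by
      unfold FunFld.ell
      rw [heq]
    rw [← h3] at hell1
    linarith
  obtain ⟨W, hW1, hW2⟩ := SetLike.exists_of_lt hlt
  have hWP : P.1 W = WithZero.exp (n • FunFld.mapDiv k ![(1 : K), x, y] P) := by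
    have hle := hW1 P
    rw [Finsupp.sub_apply, hEP, sub_zero, Finsupp.smul_apply] at hle
    apply le_antisymm hle
    by_contra hcon
    rw [not_le] at hcon
    apply hW2
    intro Q
    by_cases hQ : Q = P
    · subst hQ
      rw [Finsupp.sub_apply, Finsupp.sub_apply, hEP, sub_zero, Finsupp.single_eq_same,
        Finsupp.smul_apply]
      exact le_exp_sub_one_of_lt_exp hcon
    · have h5 := hW1 Q
      rw [Finsupp.sub_apply, Finsupp.single_apply, if_neg (fun h => hQ h.symm), sub_zero]
      exact h5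
  have hWL : W ∈ FunFld.L (n • FunFld.mapDiv k ![(1 : K), x, y]) :=
    L_mono (sub_le_self _ hEnn) hW1
  have hzWL : z * W ∈ FunFld.L (n • FunFld.mapDiv k ![(1 : K), x, y]) := by
    intro Q
    have h1 := hW1 Q
    have h2 := val_le_exp_poleDiv hK z Q
    rw [map_mul]
    calc Q.1 z * Q.1 W ≤ WithZero.exp (poleDiv z Q) *
          WithZero.exp ((n • FunFld.mapDiv k ![(1 : K), x, y] - poleDiv z :
            FunFld.Divisor k K) Q) :=
          mul_le_mul' h2 h1
      _ = WithZero.exp ((n • FunFld.mapDiv k ![(1 : K), x, y]) Q) := by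
          rw [← WithZero.exp_add, Finsupp.sub_apply]
          congr 1
          ring
  -- the entry of least order
  obtain ⟨j, -, hjmax'⟩ := Finset.exists_max_image (Finset.univ : Finset (Fin 3))
    (fun i => P.1 (![(1 : K), x, y] i)) ⟨0, Finset.mem_univ _⟩
  have hjmax : ∀ i, P.1 (![(1 : K), x, y] i) ≤ P.1 (![(1 : K), x, y] j) :=
    fun i => hjmax' i (Finset.mem_univ _)
  have hj1 : 1 ≤ P.1 (![(1 : K), x, y] j) := by
    have := hjmax 0
    simpa using this
  have hj0 : ![(1 : K), x, y] j ≠ 0 := by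
    intro h0
    rw [h0, map_zero] at hj1
    exact not_le.2 zero_lt_one hj1
  have hjval : P.1 (![(1 : K), x, y] j) =
      WithZero.exp (FunFld.mapDiv k ![(1 : K), x, y] P) := by
    rw [hM P]
    apply le_antisymm
    · fin_cases j
      · simp
      · exact (le_max_left _ _).trans (le_max_right _ _)
      · exact (le_max_right _ _).trans (le_max_right _ _)
    · refine max_le hj1 (max_le ?_ ?_)
      · exact hjmax 1
      · exact hjmax 2
  -- elements of `L(nD)` divided by `φ_j^n` are polynomials in the ratios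
  have hdivmem : ∀ v ∈ FunFld.L (n • FunFld.mapDiv k ![(1 : K), x, y]),
      v / (![(1 : K), x, y] j) ^ n ∈
        Algebra.adjoin k (Set.range fun i => ![(1 : K), x, y] i / ![(1 : K), x, y] j) := by
    intro v hv
    rw [← hVL] at hv
    induction hv using Submodule.span_induction with
    | mem v hv =>
      obtain ⟨s, rfl⟩ := hv
      exact monomial_div_mem_adjoin c j hj0
        (by have h1 := s.2.isLt; have h2 := s.1.isLt; omega)
    | zero => rw [zero_div]; exact Subalgebra.zero_mem _
    | add a b _ _ ha hb => rw [add_div]; exact Subalgebra.add_mem _ ha hb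
    | smul r a _ ha => rw [smul_div_assoc]; exact Subalgebra.smul_mem _ ha r
  refine ⟨j, hj0, hjmax, z * W / (![(1 : K), x, y] j) ^ n, hdivmem _ hzWL,
    W / (![(1 : K), x, y] j) ^ n, hdivmem _ hWL, ?_, ?_⟩
  · rw [map_div₀, map_pow, hWP, hjval, ← WithZero.exp_nsmul]
    exact div_self WithZero.exp_ne_zero
  · rw [mul_div_assoc]

end Converse

end Groth.Agent.Lib.H40FunFld
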