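import Groth.Agent.Lib.H40FunFldDeriv

set_option autoImplicit false
open FunFld Polynomial

namespace Groth.Agent.Lib.H40FunFld

open Groth.Agent.Lib.H40QuotChain IntermediateField

universe u v w
variable {k : Type u} {K : Type v} [Field k] [Field K] [Algebra k K]

/-- A function field over an infinite field has infinitely many places. -/
theorem infinite_place [Infinite k] (hK : FunFld.IsFunctionField k K) :
    Infinite (FunFld.Place k K) := by
  obtain ⟨x, hx, -⟩ := hK.1
  have htr : ∀ a : k, Transcendental k (x - algebraMap k K a) := by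
    intro a h
    apply hx
    have := h.add (isAlgebraic_algebraMap (R := k) (A := K) a)
    simpa using this
  choose f hf using fun a : k => exists_place_val_lt_one hK (htr a)
  have hinj : Function.Injective f := by
    intro a b hab
    by_contra hne
    have h1 := hf a
    have h2 := hf b
    rw [hab] at h1
    have e : algebraMap k K (a - b) = (x - algebraMap k K b) - (x - algebraMap k K a) := by
      rw [map_sub]; ring
    have h3 : (f b).1 (algebraMap k K (a - b)) < 1 := by
      rw [e]
      exact lt_of_le_of_lt (Valuation.map_sub _ _ _) (max_lt h2 h1)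
    rw [val_const (f b) (sub_ne_zero.2 hne)] at h3
    exact lt_irrefl _ h3
  exact Infinite.of_injective f hinj

theorem exists_place_notMem [Infinite k] (hK : FunFld.IsFunctionField k K)
    (S : Finset (FunFld.Place k K)) : ∃ B : FunFld.Place k K, B ∉ S := by
  have := infinite_place hK
  exact Infinite.exists_notMem_finset S

/-- On a curve of genus zero every place is the pole of a coordinate function. -/
theorem exists_isCoord [IsAlgClosed k] (hK : FunFld.IsFunctionField k K)
    (hg0 : FunFld.genus k K = 0) (B : FunFld.Place k K) : ∃ t : K, IsCoord t B := by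
  classical
  obtain ⟨A, hA⟩ := exists_place_ne hK B
  obtain ⟨t, ht0, hdt⟩ := exists_div_eq_single_sub_single hK hg0
    (deg_eq_one_of_isAlgClosed hK A) (deg_eq_one_of_isAlgClosed hK B)
  refine ⟨t, ⟨?_, ?_⟩⟩
  · rw [← div_apply hK, hdt, Finsupp.sub_apply, Finsupp.single_apply, Finsupp.single_apply,
      if_neg hA, if_pos rfl]; norm_num
  · intro R hR
    rw [← div_apply hK, hdt, Finsupp.sub_apply, Finsupp.single_apply, Finsupp.single_apply,
      if_neg (Ne.symm hR), sub_zero]
    split_ifs <;> norm_num

/-- Multiplication by `z⁻¹` as a `k`-linear automorphism of `K`. -/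
noncomputable def mulInvEquiv (z : K) (hz : z ≠ 0) : K ≃ₗ[k] K where
  toFun x := z⁻¹ * x
  invFun y := z * y
  map_add' := mul_add _
  map_smul' c x := by simp
  left_inv x := by field_simp
  right_inv y := by field_simp

theorem mulInvEquiv_apply (z : K) (hz : z ≠ 0) (x : K) :
    mulInvEquiv (k := k) z hz x = z⁻¹ * x := rfl

theorem mulInvEquiv_symm_apply (z : K) (hz : z ≠ 0) (y : K) :
    (mulInvEquiv (k := k) z hz).symm y = z * y := rfl

theorem mul_mem_L_iff (hK : FunFld.IsFunctionField k K) (E : FunFld.Divisor k K) {z : K}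
    (hz : z ≠ 0) (y : K) : z * y ∈ FunFld.L E ↔ y ∈ FunFld.L (E + FunFld.div k z) := by
  rw [mem_L_iff, mem_L_iff]
  refine forall_congr' fun P => ?_
  have hz0 : P.1 z ≠ 0 := (Valuation.ne_zero_iff _).2 hz
  rw [map_mul, Finsupp.add_apply, div_apply hK, WithZero.exp_add, val_eq_exp_neg_ord P hz,
    mul_comm (WithZero.exp (E P))]
  constructor
  · intro h
    have := mul_le_mul' (le_refl (WithZero.exp (P.ord z))) h
    rwa [← mul_assoc, ← WithZero.exp_add, add_neg_cancel, WithZero.exp_zero, one_mul] at this
  · intro h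
    have := mul_le_mul' (le_refl (WithZero.exp (-P.ord z))) h
    rwa [← mul_assoc, ← WithZero.exp_add, neg_add_cancel, WithZero.exp_zero, one_mul] at this

/-- Dividing a linear system by one of its members does not change vanishing dimensions. -/
theorem vdim_map_mulInvEquiv (hK : FunFld.IsFunctionField k K) (V : Submodule k K)
    (D : FunFld.Divisor k K) {z : K} (hz : z ≠ 0) (P : FunFld.Place k K) (n : ℕ) :
    vdim (V.map (mulInvEquiv (k := k) z hz).toLinearMap) (D + FunFld.div k z) P n =
      vdim V D P n := by
  unfold vdim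
  have e : D + FunFld.div k z - Finsupp.single P (n : ℤ) =
      (D - Finsupp.single P (n : ℤ)) + FunFld.div k z := by abel
  rw [e]
  have : V.map (mulInvEquiv (k := k) z hz).toLinearMap ⊓
      FunFld.L ((D - Finsupp.single P (n : ℤ)) + FunFld.div k z) =
      (V ⊓ FunFld.L (D - Finsupp.single P (n : ℤ))).map
        (mulInvEquiv (k := k) z hz).toLinearMap := by
    ext y
    rw [Submodule.mem_inf]
    rw [Submodule.mem_map_equiv, Submodule.mem_map_equiv, Submodule.mem_inf,
      mulInvEquiv_symm_apply, mul_mem_L_iff hK _ hz]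
  rw [this]
  exact LinearEquiv.finrank_map_eq (mulInvEquiv (k := k) z hz) _

theorem wsum_map_mulInvEquiv (hK : FunFld.IsFunctionField k K) (V : Submodule k K)
    (D : FunFld.Divisor k K) {z : K} (hz : z ≠ 0) (P : FunFld.Place k K) (M : ℕ) :
    wsum (V.map (mulInvEquiv (k := k) z hz).toLinearMap) (D + FunFld.div k z) M P =
      wsum V D M P := by
  rw [wsum_eq_sum_vdim, wsum_eq_sum_vdim]
  exact Finset.sum_congr rfl fun j _ => vdim_map_mulInvEquiv hK V D hz P (j + 1)

/-- Vanishing dimensions are zero beyond the degree. -/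
theorem vdim_eq_zero_of_deg_lt (hK : FunFld.IsFunctionField k K) (V : Submodule k K)
    (D : FunFld.Divisor k K) {P : FunFld.Place k K} (hP : P.deg = 1) {n : ℕ}
    (h : D.deg < n) : vdim V D P n = 0 := by
  unfold vdim
  rw [L_eq_bot_of_deg_neg hK _ (by rw [deg_sub, deg_single, hP]; push_cast; linarith),
    inf_bot_eq, finrank_bot]

theorem wsum_eq_of_le (hK : FunFld.IsFunctionField k K) (V : Submodule k K)
    (D : FunFld.Divisor k K) {P : FunFld.Place k K} (hP : P.deg = 1) {M M' : ℕ}
    (hM : D.deg ≤ M) (hMM' : M ≤ M') : wsum V D M' P = wsum V D M P := by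
  rw [wsum_eq_sum_vdim, wsum_eq_sum_vdim, ← Finset.sum_range_add_sum_Ico _ hMM']
  have : ∑ j ∈ Finset.Ico M M', vdim V D P (j + 1) = 0 := by
    apply Finset.sum_eq_zero
    intro j hj
    rw [Finset.mem_Ico] at hj
    apply vdim_eq_zero_of_deg_lt hK V D hP
    have : (M : ℤ) ≤ j := by exact_mod_cast hj.1
    push_cast
    linarith
  rw [this, add_zero]

end Groth.Agent.Lib.H40FunFld
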