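import Groth.Agent.Lib.H40FunFldUnram
import Mathlib.FieldTheory.PurelyInseparable.PerfectClosure
import Mathlib.FieldTheory.PurelyInseparable.Tower

set_option autoImplicit false
set_option linter.style.haveILetI false
set_option linter.unusedSectionVars false
open FunFld Polynomial

namespace Groth.Agent.Lib.H40FunFld

open Groth.Agent.Lib.H40QuotChain IntermediateField

universe u v w

section General

/-- Elements of a field generated by `q`-power-radical elements are `q`-power-radical. -/
theorem exists_pow_mem_of_adjoin_eq_top (F : Type u) {E : Type v} [Field F] [Field E] [Algebra F E]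
    (q : ℕ) [ExpChar F q] {S : Set E}
    (hS : ∀ x ∈ S, ∃ n : ℕ, x ^ q ^ n ∈ (algebraMap F E).range)
    (htop : IntermediateField.adjoin F S = ⊤) (z : E) :
    ∃ n : ℕ, z ^ q ^ n ∈ (algebraMap F E).range := by
  haveI : IsPurelyInseparable F ↥(IntermediateField.adjoin F S) :=
    (IntermediateField.isPurelyInseparable_adjoin_iff_pow_mem F E q).2 hS
  have hz : z ∈ IntermediateField.adjoin F S := by rw [htop]; trivial
  obtain ⟨n, y, hy⟩ := IsPurelyInseparable.pow_mem F q (⟨z, hz⟩ : ↥(IntermediateField.adjoin F S))
  exact ⟨n, y, congrArg Subtype.val hy⟩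

variable {k : Type u} [Field k] {K' : Type v} [Field K'] [Algebra k K']

/-- Two places agreeing on a set `T` such that every element has a `q`-power in `T` are equal. -/
theorem place_eq_of_pow_mem {Q Q' : FunFld.Place k K'} (T : Set K')
    (hT : ∀ w ∈ T, Q.1 w ≤ 1 → Q'.1 w ≤ 1) (q : ℕ) (hq : 0 < q)
    (hz : ∀ z : K', ∃ n : ℕ, z ^ q ^ n ∈ T) : Q = Q' := by
  apply eq_of_forall_le_one
  intro a ha
  obtain ⟨n, hn⟩ := hz a
  have h1 : Q.1 (a ^ q ^ n) ≤ 1 := by
    rw [map_pow]; exact pow_le_one₀ zero_le ha
  have h2 := hT _ hn h1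
  rw [map_pow] at h2
  exact (pow_le_one_iff_of_nonneg zero_le (pow_pos hq n).ne').1 h2

end General

section LowerBound

variable {k : Type u} [Field k] {K : Type v} [Field K] [Algebra k K] {E : Type w} [Field E]
  [Algebra K E] [Algebra k E] [IsScalarTower k K E] [FiniteDimensional K E]

/-- If the residue field of `P` is purely inseparable over `k` and `E` contains a finite separable
extension `ks` of `k`, every place of `E` above `P` has degree at least `[ks : k] deg P`. -/
theorem finrank_mul_deg_le_deg (hK : FunFld.IsFunctionField k K)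
    {R : FunFld.Place k E} {P : FunFld.Place k K} {e : ℕ} (he : FunFld.IsOverWith R P e)
    [IsPurelyInseparable k (IsLocalRing.ResidueField ↥P.O)]
    {ks : Type u} [Field ks] [Algebra k ks] [FiniteDimensional k ks] [Algebra.IsSeparable k ks]
    (ψ : ks →ₐ[k] E) : Module.finrank k ks * P.deg ≤ R.deg := by
  classical
  have htriv : TrivialOn (k := k) R.1 := fun a ha => val_algebraMap R ha
  have hint : ∀ c : ks, R.1 (ψ c) ≤ 1 := by
    intro c
    by_cases hc : ψ c = 0
    · rw [hc, map_zero]; exact zero_le_one
    · exact (gval_eq_one_of_isAlgebraic htriv hc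
        ((Algebra.IsAlgebraic.isAlgebraic c).algHom ψ)).le
  let ρ : ks →+* ↥R.O :=
    { toFun := fun c => ⟨ψ c, hint c⟩
      map_one' := Subtype.ext (map_one ψ)
      map_mul' := fun a b => Subtype.ext (map_mul ψ a b)
      map_zero' := Subtype.ext (map_zero ψ)
      map_add' := fun a b => Subtype.ext (map_add ψ a b) }
  let φ₂ : ks →ₐ[k] IsLocalRing.ResidueField ↥R.O :=
    { (IsLocalRing.residue ↥R.O).comp ρ with
      commutes' := fun a => by
        change IsLocalRing.residue ↥R.O (ρ (algebraMap k ks a)) =
          IsLocalRing.residue ↥R.O (algebraMap k ↥R.O a)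
        congr 1
        apply Subtype.ext
        exact ψ.commutes a }
  have hφ₂inj : Function.Injective φ₂ := φ₂.toRingHom.injective
  set b := Module.finBasis k ks with hb
  have hli : LinearIndependent k (fun i => φ₂ (b i)) :=
    b.linearIndependent.map' φ₂.toLinearMap (LinearMap.ker_eq_bot.2 hφ₂inj)
  have hsep : ∀ i, IsSeparable k (φ₂ (b i)) := by
    intro i
    unfold IsSeparable
    rw [minpoly.algHom_eq φ₂ hφ₂inj]
    exact Algebra.IsSeparable.isSeparable k (b i)
  letI algPQ : Algebra (IsLocalRing.ResidueField ↥P.O) (IsLocalRing.ResidueField ↥R.O) :=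
    (residueMap he).toAlgebra
  haveI tower : IsScalarTower k (IsLocalRing.ResidueField ↥P.O) (IsLocalRing.ResidueField ↥R.O) :=
    IsScalarTower.of_algebraMap_eq (fun c => by
      change IsLocalRing.residue ↥R.O (algebraMap k ↥R.O c) =
        IsLocalRing.residue ↥R.O (valRingMap he (algebraMap k ↥P.O c))
      congr 1
      apply Subtype.ext
      change algebraMap k E c = algebraMap K E (algebraMap k K c)
      rw [← IsScalarTower.algebraMap_apply])
  have hposR := deg_pos_ext hK R
  haveI finR : Module.Finite k (IsLocalRing.ResidueField ↥R.O) :=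
    Module.finite_of_finrank_pos hposR
  haveI finPR : Module.Finite (IsLocalRing.ResidueField ↥P.O) (IsLocalRing.ResidueField ↥R.O) :=
    @Module.Finite.of_restrictScalars_finite k (IsLocalRing.ResidueField ↥P.O)
      (IsLocalRing.ResidueField ↥R.O) _ _ _ _ _ _ tower finR
  have hli' : LinearIndependent (IsLocalRing.ResidueField ↥P.O) (fun i => φ₂ (b i)) :=
    @LinearIndependent.map_of_isPurelyInseparable_of_isSeparable k
      (IsLocalRing.ResidueField ↥P.O) _ _ _ (IsLocalRing.ResidueField ↥R.O) _ _ _ tower _ _ _
      hsep hli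
  have hcard := hli'.fintype_card_le_finrank
  rw [Fintype.card_fin] at hcard
  have htow := @Module.finrank_mul_finrank k (IsLocalRing.ResidueField ↥P.O)
    (IsLocalRing.ResidueField ↥R.O) _ _ _ _ _ _ tower _ _
  unfold FunFld.Place.deg
  rw [← htow, mul_comm]
  exact Nat.mul_le_mul_left _ hcard

/-- Uniqueness of the place above `P` in an extension generated by separable constants when the
residue field of `P` is purely inseparable over `k`. -/
theorem place_unique_of_sep_const (hK : FunFld.IsFunctionField k K)
    {P : FunFld.Place k K} [IsPurelyInseparable k (IsLocalRing.ResidueField ↥P.O)]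
    {ks : Type u} [Field ks] [Algebra k ks] [FiniteDimensional k ks] [Algebra.IsSeparable k ks]
    (ψ : ks →ₐ[k] E) (hfr : Module.finrank K E ≤ Module.finrank k ks)
    {R R' : FunFld.Place k E} (hR : FunFld.IsOver R P) (hR' : FunFld.IsOver R' P) : R = R' := by
  classical
  by_contra hne
  obtain ⟨hfin, hsum⟩ := finite_isOver_and_sum_ramIdx_mul_deg (K' := E) hK P
  have h4 := hsum hfin.toFinset (fun Q' => hfin.mem_toFinset)
  have hsub : ({R, R'} : Finset (FunFld.Place k E)) ⊆ hfin.toFinset := by
    intro x hx
    rw [Finset.mem_insert, Finset.mem_singleton] at hx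
    rcases hx with rfl | rfl
    · exact hfin.mem_toFinset.2 hR
    · exact hfin.mem_toFinset.2 hR'
  have h5 := Finset.sum_le_sum_of_subset
    (f := fun Q' : FunFld.Place k E => FunFld.ramIdx Q' P * Q'.deg) hsub
  rw [h4, Finset.sum_pair hne] at h5
  have hb1 := finrank_mul_deg_le_deg hK (isOverWith_ramIdx hR) ψ
  have hb2 := finrank_mul_deg_le_deg hK (isOverWith_ramIdx hR') ψ
  have he1 := isOverWith_pos (isOverWith_ramIdx hR)
  have he2 := isOverWith_pos (isOverWith_ramIdx hR')
  have hP := deg_pos hK P
  have hks : 0 < Module.finrank k ks := Module.finrank_pos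
  have h6 : Module.finrank k ks * P.deg ≤ FunFld.ramIdx R P * R.deg :=
    hb1.trans (Nat.le_mul_of_pos_left _ he1)
  have h7 : Module.finrank k ks * P.deg ≤ FunFld.ramIdx R' P * R'.deg :=
    hb2.trans (Nat.le_mul_of_pos_left _ he2)
  have h8 : Module.finrank K E * P.deg ≤ Module.finrank k ks * P.deg :=
    Nat.mul_le_mul_right _ hfr
  have h9 : 0 < Module.finrank k ks * P.deg := Nat.mul_pos hks hP
  omega

end LowerBound

section ConstExt

open scoped TensorProduct

variable {k k' : Type u} {K K' : Type v} [Field k] [Field k'] [Field K] [Field K']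
  [Algebra k k'] [FiniteDimensional k k'] [Algebra k K] [Algebra K K'] [Algebra k' K'] [Algebra k K']
  [IsScalarTower k k' K'] [IsScalarTower k K K']

theorem span_range_eq_top
    (h : Function.Surjective (Algebra.TensorProduct.productMap
      (IsScalarTower.toAlgHom k k' K') (IsScalarTower.toAlgHom k K K'))) :
    Submodule.span K (Set.range (algebraMap k' K')) = ⊤ := by
  rw [eq_top_iff]
  intro z _
  obtain ⟨t, rfl⟩ := h z
  clear h
  induction t using TensorProduct.induction_on with
  | zero => rw [map_zero]; exact Submodule.zero_mem _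
  | tmul c a =>
    rw [Algebra.TensorProduct.productMap_apply_tmul]
    have : (IsScalarTower.toAlgHom k k' K') c * (IsScalarTower.toAlgHom k K K') a =
        a • algebraMap k' K' c := by
      rw [Algebra.smul_def, mul_comm]; rfl
    rw [this]
    exact Submodule.smul_mem _ _ (Submodule.subset_span ⟨c, rfl⟩)
  | add x y hx hy => rw [map_add]; exact Submodule.add_mem _ (hx trivial) (hy trivial)

theorem span_basis_eq_top
    (h : Function.Surjective (Algebra.TensorProduct.productMap
      (IsScalarTower.toAlgHom k k' K') (IsScalarTower.toAlgHom k K K')))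
    {ι : Type*} [Fintype ι] (b : Module.Basis ι k k') :
    Submodule.span K (Set.range fun i => algebraMap k' K' (b i)) = ⊤ := by
  rw [eq_top_iff, ← span_range_eq_top h, Submodule.span_le]
  rintro _ ⟨c, rfl⟩
  have hc : c = ∑ i, b.repr c i • b i := (b.sum_repr c).symm
  rw [hc, map_sum]
  refine Submodule.sum_mem _ fun i _ => ?_
  have : algebraMap k' K' (b.repr c i • b i) =
      (algebraMap k K (b.repr c i)) • algebraMap k' K' (b i) := by
    rw [Algebra.smul_def, Algebra.smul_def, map_mul, ← IsScalarTower.algebraMap_apply,
      ← IsScalarTower.algebraMap_apply]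
  rw [this]
  exact Submodule.smul_mem _ _ (Submodule.subset_span ⟨i, rfl⟩)

theorem finiteDimensional_of_constExt
    (h : Function.Surjective (Algebra.TensorProduct.productMap
      (IsScalarTower.toAlgHom k k' K') (IsScalarTower.toAlgHom k K K'))) :
    FiniteDimensional K K' := by
  have hb := span_basis_eq_top h (Module.finBasis k k')
  refine Module.finite_def.2 ?_
  rw [← hb]
  exact Submodule.fg_span (Set.finite_range _)

theorem adjoin_range_eq_top
    (h : Function.Surjective (Algebra.TensorProduct.productMap
      (IsScalarTower.toAlgHom k k' K') (IsScalarTower.toAlgHom k K K'))) :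
    IntermediateField.adjoin K (Set.range (algebraMap k' K')) = ⊤ := by
  rw [eq_top_iff]
  intro z _
  have hz : z ∈ Submodule.span K (Set.range (algebraMap k' K')) := by
    rw [span_range_eq_top h]; trivial
  have hle : Submodule.span K (Set.range (algebraMap k' K')) ≤
      (IntermediateField.adjoin K (Set.range (algebraMap k' K'))).toSubalgebra.toSubmodule :=
    Submodule.span_le.2 (IntermediateField.subset_adjoin K _)
  exact hle hz

/-- Purely inseparable constant extension: at most one place above each place. -/
theorem place_unique_of_isPurelyInseparable_const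
    (h : Function.Surjective (Algebra.TensorProduct.productMap
      (IsScalarTower.toAlgHom k k' K') (IsScalarTower.toAlgHom k K K')))
    [IsPurelyInseparable k k'] {P : FunFld.Place k K} {Q Q' : FunFld.Place k K'}
    (hQ : FunFld.IsOver Q P) (hQ' : FunFld.IsOver Q' P) : Q = Q' := by
  obtain ⟨q, hq⟩ := ExpChar.exists k
  haveI : ExpChar K q := expChar_of_injective_algebraMap (algebraMap k K).injective q
  obtain ⟨e, he⟩ := hQ
  obtain ⟨e', he'⟩ := hQ'
  have hS : ∀ x ∈ Set.range (algebraMap k' K'),
      ∃ n : ℕ, x ^ q ^ n ∈ (algebraMap K K').range := by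
    rintro _ ⟨c, rfl⟩
    obtain ⟨n, d, hd⟩ := IsPurelyInseparable.pow_mem k q c
    refine ⟨n, algebraMap k K d, ?_⟩
    rw [← map_pow, ← hd, ← IsScalarTower.algebraMap_apply, ← IsScalarTower.algebraMap_apply]
  have hz := exists_pow_mem_of_adjoin_eq_top K q hS (adjoin_range_eq_top h)
  refine place_eq_of_pow_mem (Set.range (algebraMap K K')) ?_ q (expChar_pos k q) hz
  rintro _ ⟨x, rfl⟩ hx
  exact (isOverWith_le_one_iff he' x).2 ((isOverWith_le_one_iff he x).1 hx)

/-- The subfield of `K'` generated over `K` by the separable constants. -/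
noncomputable def sepConstField (k k' K K' : Type*) [Field k] [Field k'] [Field K] [Field K']
    [Algebra k k'] [Algebra K K'] [Algebra k' K'] : IntermediateField K K' :=
  IntermediateField.adjoin K ((algebraMap k' K') '' (separableClosure k k' : Set k'))

theorem finrank_sepConstField_le
    (h : Function.Surjective (Algebra.TensorProduct.productMap
      (IsScalarTower.toAlgHom k k' K') (IsScalarTower.toAlgHom k K K'))) :
    Module.finrank K ↥(sepConstField k k' K K') ≤ Module.finrank k ↥(separableClosure k k') := by
  classical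
  haveI := finiteDimensional_of_constExt h
  set b := Module.finBasis k ↥(separableClosure k k') with hb
  set W := Submodule.span K (Set.range fun i => algebraMap k' K' (b i : k')) with hW
  have hle : (sepConstField k k' K K').toSubalgebra.toSubmodule ≤ W := by
    unfold sepConstField
    rw [IntermediateField.adjoin_toSubalgebra, Algebra.adjoin_eq_span, Submodule.span_le]
    intro x hx
    have hxS : x ∈ (algebraMap k' K') '' (separableClosure k k' : Set k') := by
      induction hx using Submonoid.closure_induction with
      | mem y hy => exact hy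
      | one => exact ⟨1, (separableClosure k k').one_mem, map_one _⟩
      | mul y z _ _ hy hz =>
        obtain ⟨c, hc, rfl⟩ := hy
        obtain ⟨d, hd, rfl⟩ := hz
        exact ⟨c * d, (separableClosure k k').mul_mem hc hd, map_mul _ _ _⟩
    obtain ⟨c, hc, rfl⟩ := hxS
    have hc' : (⟨c, hc⟩ : ↥(separableClosure k k')) = ∑ i, b.repr ⟨c, hc⟩ i • b i :=
      (b.sum_repr _).symm
    have hc'' : c = ∑ i, b.repr ⟨c, hc⟩ i • (b i : k') := by
      have := congrArg Subtype.val hc'
      simpa only [AddSubmonoidClass.coe_finsetSum, IntermediateField.coe_smul] using this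
    rw [SetLike.mem_coe, hc'', map_sum]
    refine Submodule.sum_mem _ fun i _ => ?_
    have : algebraMap k' K' (b.repr ⟨c, hc⟩ i • (b i : k')) =
        (algebraMap k K (b.repr ⟨c, hc⟩ i)) • algebraMap k' K' (b i : k') := by
      rw [Algebra.smul_def, Algebra.smul_def, map_mul, ← IsScalarTower.algebraMap_apply,
        ← IsScalarTower.algebraMap_apply]
    rw [this]
    exact Submodule.smul_mem _ _ (Submodule.subset_span ⟨i, rfl⟩)
  have h1 : Module.finrank K ↥(sepConstField k k' K K') ≤ Module.finrank K ↥W :=
    Submodule.finrank_mono hle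
  have h2 : Module.finrank K ↥W ≤ Fintype.card (Fin (Module.finrank k ↥(separableClosure k k'))) :=
    finrank_range_le_card _
  rw [Fintype.card_fin] at h2
  exact h1.trans h2

/-- Every element of `K'` has a `q`-power in the field generated by the separable constants. -/
theorem exists_pow_mem_sepConstField
    (h : Function.Surjective (Algebra.TensorProduct.productMap
      (IsScalarTower.toAlgHom k k' K') (IsScalarTower.toAlgHom k K K')))
    (q : ℕ) [ExpChar k q] (z : K') :
    ∃ n : ℕ, z ^ q ^ n ∈ sepConstField k k' K K' := by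
  haveI : ExpChar K q := expChar_of_injective_algebraMap (algebraMap k K).injective q
  haveI : ExpChar ↥(sepConstField k k' K K') q :=
    expChar_of_injective_algebraMap (algebraMap K ↥(sepConstField k k' K K')).injective q
  haveI : ExpChar ↥(separableClosure k k') q :=
    expChar_of_injective_algebraMap (algebraMap k ↥(separableClosure k k')).injective q
  have hS : ∀ x ∈ Set.range (algebraMap k' K'),
      ∃ n : ℕ, x ^ q ^ n ∈ (algebraMap ↥(sepConstField k k' K K') K').range := by
    rintro _ ⟨c, rfl⟩
    obtain ⟨n, d, hd⟩ := IsPurelyInseparable.pow_mem ↥(separableClosure k k') q c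
    refine ⟨n, ⟨algebraMap k' K' (d : k'),
      IntermediateField.subset_adjoin K _ ⟨(d : k'), d.2, rfl⟩⟩, ?_⟩
    change algebraMap k' K' (d : k') = _
    rw [← map_pow, ← hd]
    rfl
  have htop : IntermediateField.adjoin ↥(sepConstField k k' K K')
      (Set.range (algebraMap k' K')) = ⊤ := by
    rw [eq_top_iff]
    intro z _
    have hz : z ∈ IntermediateField.adjoin K (Set.range (algebraMap k' K')) := by
      rw [adjoin_range_eq_top h]; trivial
    have hle : IntermediateField.adjoin K (Set.range (algebraMap k' K')) ≤
        (IntermediateField.adjoin ↥(sepConstField k k' K K')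
          (Set.range (algebraMap k' K'))).restrictScalars K :=
      by
        rw [IntermediateField.adjoin_le_iff]
        intro x hx
        rw [SetLike.mem_coe, IntermediateField.mem_restrictScalars]
        exact IntermediateField.subset_adjoin ↥(sepConstField k k' K K') _ hx
    exact hle hz
  obtain ⟨n, y, hy⟩ :=
    exists_pow_mem_of_adjoin_eq_top ↥(sepConstField k k' K K') q hS htop z
  exact ⟨n, hy ▸ y.2⟩

/-- Constant extension with purely inseparable residue field at `P`: at most one place above `P`. -/
theorem place_unique_of_isPurelyInseparable_residue (hK : FunFld.IsFunctionField k K)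
    (h : Function.Surjective (Algebra.TensorProduct.productMap
      (IsScalarTower.toAlgHom k k' K') (IsScalarTower.toAlgHom k K K')))
    {P : FunFld.Place k K} [IsPurelyInseparable k (IsLocalRing.ResidueField ↥P.O)]
    {Q Q' : FunFld.Place k K'}
    (hQ : FunFld.IsOver Q P) (hQ' : FunFld.IsOver Q' P) : Q = Q' := by
  haveI := finiteDimensional_of_constExt h
  obtain ⟨q, hq⟩ := ExpChar.exists k
  haveI : IsScalarTower k ↥(sepConstField k k' K K') K' :=
    IsScalarTower.of_algebraMap_eq (fun c => rfl)
  obtain ⟨t, htr, -⟩ := hK.1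
  have htr₁ : Transcendental k (algebraMap K ↥(sepConstField k k' K K') t) := by
    intro halg
    exact htr ((isAlgebraic_algebraMap_iff
      (algebraMap K ↥(sepConstField k k' K K')).injective).1 halg)
  obtain ⟨hfin₁, -⟩ := finrank_adjoin_algebraMap (K' := ↥(sepConstField k k' K K')) hK htr
  obtain ⟨R, e₁, he₁⟩ :=
    exists_isOverWith_weak (K' := ↥(sepConstField k k' K K')) (K'' := K') htr₁ Q
  obtain ⟨R', e₁', he₁'⟩ :=
    exists_isOverWith_weak (K' := ↥(sepConstField k k' K K')) (K'' := K') htr₁ Q'
  obtain ⟨P₁, f₁, hf₁⟩ := exists_isOverWith (K' := ↥(sepConstField k k' K K')) hK R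
  obtain ⟨P₁', f₁', hf₁'⟩ := exists_isOverWith (K' := ↥(sepConstField k k' K K')) hK R'
  obtain ⟨e, he⟩ := hQ
  obtain ⟨e', he'⟩ := hQ'
  obtain ⟨hP₁, -⟩ := isOverWith_unique (isOverWith_trans he₁ hf₁) he
  obtain ⟨hP₁', -⟩ := isOverWith_unique (isOverWith_trans he₁' hf₁') he'
  subst hP₁
  subst hP₁'
  let ψ : ↥(separableClosure k k') →ₐ[k] ↥(sepConstField k k' K K') :=
    { toFun := fun c => ⟨algebraMap k' K' (c : k'),
        IntermediateField.subset_adjoin K _ ⟨(c : k'), c.2, rfl⟩⟩
      map_one' := Subtype.ext (map_one (algebraMap k' K'))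
      map_mul' := fun a b => Subtype.ext (map_mul (algebraMap k' K') (a : k') (b : k'))
      map_zero' := Subtype.ext (map_zero (algebraMap k' K'))
      map_add' := fun a b => Subtype.ext (map_add (algebraMap k' K') (a : k') (b : k'))
      commutes' := fun a => Subtype.ext
        (IsScalarTower.algebraMap_apply k k' K' a).symm }
  have hRR' : R = R' :=
    place_unique_of_sep_const hK ψ (finrank_sepConstField_le h) ⟨f₁, hf₁⟩ ⟨f₁', hf₁'⟩
  subst hRR'
  refine place_eq_of_pow_mem ((sepConstField k k' K K' : IntermediateField K K') : Set K') ?_ q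
    (expChar_pos k q) (exists_pow_mem_sepConstField h q)
  intro w hw hle
  exact (isOverWith_le_one_iff he₁' (⟨w, hw⟩ : ↥(sepConstField k k' K K'))).2
    ((isOverWith_le_one_iff he₁ (⟨w, hw⟩ : ↥(sepConstField k k' K K'))).1 hle)

/-- Unique place above `P` in a constant field extension `k' ⊗_k K` when `k'/k` or the residue field
of `P` is purely inseparable over `k`. -/
theorem existsUnique_place_over_of_purelyInseparable (hK : FunFld.IsFunctionField k K)
    (h : Function.Surjective (Algebra.TensorProduct.productMap
      (IsScalarTower.toAlgHom k k' K') (IsScalarTower.toAlgHom k K K')))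
    (P : FunFld.Place k K)
    (hpi : IsPurelyInseparable k k' ∨ IsPurelyInseparable k (IsLocalRing.ResidueField ↥P.O)) :
    ∃! Q : FunFld.Place k K', FunFld.IsOver Q P := by
  haveI := finiteDimensional_of_constExt h
  obtain ⟨Q, hQ⟩ := exists_isOver (K' := K') hK P
  refine ⟨Q, hQ, fun Q' hQ' => ?_⟩
  rcases hpi with hpi | hpi
  · haveI := hpi
    exact place_unique_of_isPurelyInseparable_const h hQ' hQ
  · haveI := hpi
    exact place_unique_of_isPurelyInseparable_residue hK h hQ' hQ

end ConstExt

end Groth.Agent.Lib.H40FunFld
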