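import Groth.Agent.Lib.H40FunFldASDiffExp
import Groth.Agent.Lib.H40FunFldDeriv
import Groth.Agent.Lib.H40FunFldSepResidue

set_option autoImplicit false
set_option linter.style.haveILetI false
set_option linter.unusedSectionVars false
open FunFld Polynomial

namespace Groth.Agent.Lib.H40FunFld

open IntermediateField

universe u v w

section RatDeriv

variable {k : Type u} [Field k]

/-- In `Ω[k(x)/k]` every differential `dg` is `(δ g) dx` for the derivation `δ = d/dx`. -/
theorem ratFunc_D_eq_smul (δ : Derivation k (RatFunc k) (RatFunc k))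
    (hδ : δ (RatFunc.X : RatFunc k) = 1) (g : RatFunc k) :
    KaehlerDifferential.D k (RatFunc k) g =
      δ g • KaehlerDifferential.D k (RatFunc k) (RatFunc.X : RatFunc k) := by
  obtain ⟨a, ha⟩ := ratFunc_exists_eq_smul_D g
  have h1 := congrArg δ.liftKaehlerDifferential ha
  rw [map_smul, Derivation.liftKaehlerDifferential_comp_D,
    Derivation.liftKaehlerDifferential_comp_D, hδ, smul_eq_mul, mul_one] at h1
  rw [h1]; exact ha

end RatDeriv

section OrdDeriv

variable {k : Type u} {K : Type v} [Field k] [Field K] [Algebra k K]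

/-- `d/dt` lowers the order at the place `t = a` by exactly one when the order is nonzero in
`k`. -/
theorem ord_deriv_of_cast_ne_zero {t : K} (htr : Transcendental k t) (htop : k⟮t⟯ = ⊤)
    (δ : Derivation k K K) (hδ : δ t = 1)
    {P : FunFld.Place k K} {a : k} (ha : P.1 (t - algebraMap k K a) = WithZero.exp (-1 : ℤ))
    {f : K} (hf0 : f ≠ 0) (hord : ((P.ord f : ℤ) : k) ≠ 0) :
    δ f ≠ 0 ∧ P.ord (δ f) = P.ord f - 1 := by
  have halt : P.1 (t - algebraMap k K a) < 1 := by
    rw [ha, ← WithZero.exp_zero, WithZero.exp_lt_exp]; norm_num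
  set u := t - algebraMap k K a with hu
  have hu0 : u ≠ 0 := by
    intro h0; rw [h0, map_zero] at ha; exact WithZero.exp_ne_zero ha.symm
  have hδu : δ u = 1 := by rw [hu, map_sub, hδ, Derivation.map_algebraMap, sub_zero]
  set n := P.ord f with hn
  set g := f * u ^ (-n) with hg
  have hfv : P.1 f = WithZero.exp (-n) := val_eq_exp_neg_ord P hf0
  have hgv : P.1 g = 1 := by
    rw [hg, map_mul, map_zpow₀, ha, hfv, ← WithZero.exp_zsmul, ← WithZero.exp_add]
    simp
  have hfg : f = u ^ n * g := by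
    rw [hg, mul_comm f, ← mul_assoc, ← zpow_add₀ hu0]; simp
  have hδg := val_deriv_le_one htr htop δ hδ halt hgv.le
  have hnK : P.1 ((n : ℤ) : K) = 1 := by
    have : ((n : ℤ) : K) = algebraMap k K ((n : ℤ) : k) := by simp
    rw [this]
    exact val_const P hord
  have hδf : δ f = (n : K) * u ^ (n - 1) * g + u ^ n * δ g := by
    rw [hfg, Derivation.leibniz, deriv_zpow δ hu0, hδu]
    simp only [smul_eq_mul]
    ring
  have h1 : P.1 ((n : K) * u ^ (n - 1) * g) = WithZero.exp (-(n - 1)) := by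
    rw [map_mul, map_mul, hnK, hgv, map_zpow₀, ha, ← WithZero.exp_zsmul]
    simp
  have h2 : P.1 (u ^ n * δ g) < WithZero.exp (-(n - 1)) := by
    rw [map_mul, map_zpow₀, ha, ← WithZero.exp_zsmul]
    calc WithZero.exp (n • (-1 : ℤ)) * P.1 (δ g) ≤ WithZero.exp (n • (-1 : ℤ)) * 1 :=
          mul_le_mul' le_rfl hδg
      _ = WithZero.exp (n • (-1 : ℤ)) := mul_one _
      _ < WithZero.exp (-(n - 1)) := by
          rw [WithZero.exp_lt_exp]; simp
  have h3 : P.1 (δ f) = WithZero.exp (-(n - 1)) := by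
    rw [hδf, Valuation.map_add_eq_of_lt_left, h1]
    rw [h1]; exact h2
  have h4 : δ f ≠ 0 := by
    intro h0; rw [h0, map_zero] at h3; exact WithZero.exp_ne_zero h3.symm
  refine ⟨h4, ?_⟩
  rw [FunFld.Place.ord, h3, WithZero.log_exp]
  ring

end OrdDeriv

section DX

variable {k : Type u} [Field k] {K : Type v} [Field K] [Algebra k K]
  [Algebra (RatFunc k) K] [IsScalarTower k (RatFunc k) K] {F : Type w} [Field F] [Algebra k F]

/-- The basic relation `v(d(ψ g)) = v_p(δ g)^e · v(d(ψ x))` for rational functions `g`. -/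
theorem valuation_D_algebraMap_eq (δ : Derivation k (RatFunc k) (RatFunc k))
    (hδ : δ (RatFunc.X : RatFunc k) = 1) {P : FunFld.Place k K}
    {p : FunFld.Place k (RatFunc k)} {e : ℕ} (he : FunFld.IsOverWith P p e)
    (ψ : K →ₐ[k] LaurentSeries F) (hψ : LocRes.IsExpansionAt P.1 ψ) (g : RatFunc k) :
    Valued.v (LocRes.D F (ψ (algebraMap (RatFunc k) K g))) =
      p.1 (δ g) ^ e * Valued.v (LocRes.D F (ψ (algebraMap (RatFunc k) K RatFunc.X))) := by
  have := D_expansion_eq (ψ.comp (IsScalarTower.toAlgHom k (RatFunc k) K))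
    (ratFunc_D_eq_smul δ hδ g)
  change LocRes.D F (ψ (algebraMap (RatFunc k) K g)) =
    ψ (algebraMap (RatFunc k) K (δ g)) * LocRes.D F (ψ (algebraMap (RatFunc k) K RatFunc.X)) at this
  rw [this, map_mul, hψ.1, he (δ g)]

end DX

end Groth.Agent.Lib.H40FunFld
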