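import Groth.Agent.Lib.H40FunFldRegDiff2

set_option autoImplicit false
set_option linter.style.haveILetI false
set_option linter.unusedSectionVars false
open FunFld Polynomial

namespace Groth.Agent.Lib.H40FunFld

open IntermediateField

universe u v w

section PartialIndep

variable {k : Type u} [Field k] {K : Type v} [Field K] [Algebra k K]

/-- Partial independence from a single place: in a vanishing `k`-linear combination, the
coefficients of those members that have pairwise distinct pole orders at `P` vanish, provided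
every other member is either integral at `P` or has coefficient zero. -/
theorem coeff_eq_zero_of_val_injOn {ι : Type*} [Fintype ι] [DecidableEq ι]
    (P : FunFld.Place k K) (z : ι → K)
    (c : ι → k) (S : Finset ι) (h1 : ∀ i ∈ S, 1 < P.1 (z i))
    (hinj : ∀ i ∈ S, ∀ j ∈ S, P.1 (z i) = P.1 (z j) → i = j)
    (h3 : ∀ i ∉ S, c i = 0 ∨ P.1 (z i) ≤ 1) (hsum : ∑ i, c i • z i = 0) :
    ∀ i ∈ S, c i = 0 := by
  classical
  by_contra hcon
  push Not at hcon
  obtain ⟨i₁, hi₁S, hi₁c⟩ := hcon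
  set T := S.filter (fun i => c i ≠ 0) with hT
  have hTne : T.Nonempty := ⟨i₁, by rw [hT, Finset.mem_filter]; exact ⟨hi₁S, hi₁c⟩⟩
  obtain ⟨i₀, hi₀T, hmax⟩ := Finset.exists_max_image T (fun i => P.1 (z i)) hTne
  rw [hT, Finset.mem_filter] at hi₀T
  obtain ⟨hi₀S, hi₀c⟩ := hi₀T
  have hz0 : P.1 (z i₀) ≠ 0 := (lt_trans zero_lt_one (h1 i₀ hi₀S)).ne'
  have hsplit : ∑ i, c i • z i = c i₀ • z i₀ + ∑ i ∈ Finset.univ.erase i₀, c i • z i := by
    exact (Finset.add_sum_erase Finset.univ (fun i => c i • z i) (Finset.mem_univ i₀)).symm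
  have hv0 : P.1 (c i₀ • z i₀) = P.1 (z i₀) := by
    rw [Algebra.smul_def, map_mul, val_algebraMap P hi₀c, one_mul]
  have hlt : P.1 (∑ i ∈ Finset.univ.erase i₀, c i • z i) < P.1 (z i₀) := by
    apply Valuation.map_sum_lt _ hz0
    intro i hi
    rw [Finset.mem_erase] at hi
    by_cases hci : c i = 0
    · rw [hci, zero_smul, map_zero]; exact zero_lt_iff.2 hz0
    rw [Algebra.smul_def, map_mul, val_algebraMap P hci, one_mul]
    by_cases hiS : i ∈ S
    · have hiT : i ∈ T := by rw [hT, Finset.mem_filter]; exact ⟨hiS, hci⟩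
      refine lt_of_le_of_ne (hmax i hiT) ?_
      intro heq
      exact hi.1 (hinj i hiS i₀ hi₀S heq)
    · rcases h3 i hiS with h | h
      · exact absurd h hci
      · exact lt_of_le_of_lt h (h1 i₀ hi₀S)
  have : P.1 (∑ i, c i • z i) = P.1 (z i₀) := by
    rw [hsplit, Valuation.map_add_eq_of_lt_left _ (by rw [hv0]; exact hlt), hv0]
  rw [hsum, map_zero] at this
  exact hz0 this.symm

end PartialIndep

section FamVal

variable {k : Type u} [Field k]

local notation "ι" => algebraMap k[X] (RatFunc k)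

theorem ratFunc_val_C {p : FunFld.Place k (RatFunc k)} {β : k} (hβ : β ≠ 0) :
    p.1 (RatFunc.C β) = 1 := by
  have : RatFunc.C β = algebraMap k (RatFunc k) β :=
    (DFunLike.congr_fun RatFunc.algebraMap_eq_C β).symm
  rw [this]; exact val_algebraMap p hβ

theorem val_X_sub_C_inf {p : FunFld.Place k (RatFunc k)}
    (hp : p.ord (RatFunc.X : RatFunc k) < 0) (α : k) :
    p.1 ((RatFunc.X : RatFunc k) - RatFunc.C α) = WithZero.exp (1 : ℤ) := by
  have h1 := ratFunc_inf_ord_poly hp (X_sub_C_ne_zero α)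
  rw [natDegree_X_sub_C] at h1
  rw [ratFunc_X_sub_C, val_eq_exp_neg_ord p (ratFunc_map_ne_zero (X_sub_C_ne_zero α)), h1]
  simp

theorem val_X_sub_C_self {p : FunFld.Place k (RatFunc k)} {β : k}
    (hp : p.1 ((RatFunc.X : RatFunc k) - RatFunc.C β) < 1) :
    p.1 ((RatFunc.X : RatFunc k) - RatFunc.C β) = WithZero.exp (-1 : ℤ) := by
  have h1 : p.ord (ι (X - C β)) = 1 :=
    ratFunc_ord_irreducible (irreducible_X_sub_C β) (by rwa [← ratFunc_X_sub_C])
  rw [ratFunc_X_sub_C, val_eq_exp_neg_ord p (ratFunc_map_ne_zero (X_sub_C_ne_zero β)), h1]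

theorem val_X_sub_C_of_ne {p : FunFld.Place k (RatFunc k)} {β α : k}
    (hp : p.1 ((RatFunc.X : RatFunc k) - RatFunc.C β) < 1) (hne : α ≠ β) :
    p.1 ((RatFunc.X : RatFunc k) - RatFunc.C α) = 1 := by
  have h1 : (RatFunc.X : RatFunc k) - RatFunc.C α =
      RatFunc.C (β - α) + ((RatFunc.X : RatFunc k) - RatFunc.C β) := by
    rw [map_sub]; ring
  have h2 : p.1 (RatFunc.C (β - α)) = 1 := ratFunc_val_C (sub_ne_zero.2 (Ne.symm hne))
  rw [h1, Valuation.map_add_eq_of_lt_left _ (by rw [h2]; exact hp), h2]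

/-- The family of rational functions `z` such that `z dx` runs through a basis of the regular
differentials of the Artin–Schreier curve. -/
noncomputable def asRegFam (B : Finset k) (d : k → ℕ) :
    ({a : ↥B × ℕ // 1 ≤ a.2 ∧ 2 * a.2 + 1 ≤ d (a.1 : k)} ⊕ {b : ↥B // (b : k) ≠ 0}) → RatFunc k :=
  Sum.elim (fun a => ((RatFunc.X : RatFunc k) - RatFunc.C (a.1.1 : k))⁻¹ ^ (a.1.2 + 1))
    (fun b => RatFunc.C (b.1 : k) /
      ((RatFunc.X : RatFunc k) * ((RatFunc.X : RatFunc k) - RatFunc.C (b.1 : k))))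

variable (B : Finset k) (d : k → ℕ)

theorem val_asRegFam_inl_inf {p : FunFld.Place k (RatFunc k)}
    (hp : p.ord (RatFunc.X : RatFunc k) < 0)
    (a : {a : ↥B × ℕ // 1 ≤ a.2 ∧ 2 * a.2 + 1 ≤ d (a.1 : k)}) :
    p.1 (asRegFam B d (Sum.inl a)) = WithZero.exp (-((a.1.2 : ℤ) + 1)) := by
  simp only [asRegFam, Sum.elim_inl]
  rw [map_pow, map_inv₀, val_X_sub_C_inf hp, ← WithZero.exp_neg, ← WithZero.exp_nsmul]
  congr 1
  simp only [nsmul_eq_mul]
  push_cast
  ring

theorem val_asRegFam_inr_inf {p : FunFld.Place k (RatFunc k)}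
    (hp : p.ord (RatFunc.X : RatFunc k) < 0) (b : {b : ↥B // (b : k) ≠ 0}) :
    p.1 (asRegFam B d (Sum.inr b)) = WithZero.exp (-2 : ℤ) := by
  simp only [asRegFam, Sum.elim_inr]
  have hX := val_X_sub_C_inf hp 0
  rw [map_zero, sub_zero] at hX
  rw [map_div₀, map_mul, ratFunc_val_C b.2, hX, val_X_sub_C_inf hp, ← WithZero.exp_add,
    one_div, ← WithZero.exp_neg]
  congr 1

open Classical in
theorem val_asRegFam_inl_at {p : FunFld.Place k (RatFunc k)} {γ : k}
    (hp : p.1 ((RatFunc.X : RatFunc k) - RatFunc.C γ) < 1)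
    (a : {a : ↥B × ℕ // 1 ≤ a.2 ∧ 2 * a.2 + 1 ≤ d (a.1 : k)}) :
    p.1 (asRegFam B d (Sum.inl a)) =
      if (a.1.1 : k) = γ then WithZero.exp ((a.1.2 : ℤ) + 1) else 1 := by
  simp only [asRegFam, Sum.elim_inl]
  split_ifs with h
  · rw [map_pow, map_inv₀, h, val_X_sub_C_self hp, ← WithZero.exp_neg, ← WithZero.exp_nsmul]
    congr 1
    simp only [nsmul_eq_mul]
    push_cast
    ring
  · rw [map_pow, map_inv₀, val_X_sub_C_of_ne hp h, inv_one, one_pow]

open Classical in
theorem val_asRegFam_inr_at {p : FunFld.Place k (RatFunc k)} {γ : k}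
    (hp : p.1 ((RatFunc.X : RatFunc k) - RatFunc.C γ) < 1) (b : {b : ↥B // (b : k) ≠ 0}) :
    p.1 (asRegFam B d (Sum.inr b)) =
      if γ = 0 ∨ γ = (b.1 : k) then WithZero.exp (1 : ℤ) else 1 := by
  simp only [asRegFam, Sum.elim_inr]
  have hX : ∀ h : γ = 0, p.1 (RatFunc.X : RatFunc k) = WithZero.exp (-1 : ℤ) := by
    intro h
    have := val_X_sub_C_self hp
    rwa [h, map_zero, sub_zero] at this
  have hX' : ∀ h : γ ≠ 0, p.1 (RatFunc.X : RatFunc k) = 1 := by
    intro h
    have := val_X_sub_C_of_ne hp (Ne.symm h)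
    rwa [map_zero, sub_zero] at this
  rw [map_div₀, map_mul, ratFunc_val_C b.2]
  by_cases h0 : γ = 0
  · have hb : (b.1 : k) ≠ γ := by rw [h0]; exact b.2
    rw [if_pos (Or.inl h0), hX h0, val_X_sub_C_of_ne hp hb, mul_one, one_div, ← WithZero.exp_neg]
    congr 1
  · by_cases hb : γ = (b.1 : k)
    · rw [if_pos (Or.inr hb), hX' h0, one_mul, ← hb, val_X_sub_C_self hp, one_div,
        ← WithZero.exp_neg]
      congr 1
    · rw [if_neg (by tauto), hX' h0, val_X_sub_C_of_ne hp (Ne.symm hb), mul_one, div_one]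

end FamVal

end Groth.Agent.Lib.H40FunFld
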