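import Groth.Agent.Lib.H40FunFldRegDiff3

set_option autoImplicit false
set_option linter.style.haveILetI false
set_option linter.unusedSectionVars false
open FunFld Polynomial

namespace Groth.Agent.Lib.H40FunFld

open IntermediateField

universe u v w

section FamMem

variable {k : Type u} [Field k]

local notation "ι" => algebraMap k[X] (RatFunc k)

theorem exists_place_X_sub_C (γ : k) :
    ∃ p : FunFld.Place k (RatFunc k), p.1 ((RatFunc.X : RatFunc k) - RatFunc.C γ) < 1 := by
  have hKF := isFunctionField_ratFunc k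
  apply exists_place_val_lt_one hKF
  intro halg
  have hC : IsAlgebraic k (RatFunc.C γ : RatFunc k) := by
    have : RatFunc.C γ = algebraMap k (RatFunc k) γ :=
      (DFunLike.congr_fun RatFunc.algebraMap_eq_C γ).symm
    rw [this]; exact isAlgebraic_algebraMap γ
  have := halg.add hC
  rw [sub_add_cancel] at this
  exact RatFunc.transcendental_X this

variable [IsAlgClosed k] (B : Finset k) (h0 : (0 : k) ∈ B) (d : k → ℕ)
  (hd : ∀ β ∈ B, Odd (d β)) {f : RatFunc k}
  (hpole : ∀ (p : FunFld.Place k (RatFunc k)) (β : k), β ∈ B →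
    p.1 ((RatFunc.X : RatFunc k) - RatFunc.C β) < 1 → p.ord f = -(d β : ℤ))
  (hint : ∀ p : FunFld.Place k (RatFunc k),
    (∀ β ∈ B, 1 ≤ p.1 ((RatFunc.X : RatFunc k) - RatFunc.C β)) → p.1 f ≤ 1)

include h0 hd hpole hint in
theorem asRegFam_mem_L {pinf : FunFld.Place k (RatFunc k)}
    (hpinf : pinf.ord (RatFunc.X : RatFunc k) < 0)
    (i : {a : ↥B × ℕ // 1 ≤ a.2 ∧ 2 * a.2 + 1 ≤ d (a.1 : k)} ⊕ {b : ↥B // (b : k) ≠ 0}) :
    asRegFam B d i ∈ FunFld.L (asB0 f pinf) := by
  classical
  have hKF := isFunctionField_ratFunc k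
  intro p
  rw [asB0_apply]
  rcases lt_or_ge 1 (p.1 (RatFunc.X : RatFunc k)) with hX | hX
  · have hpX := (ord_neg_iff_one_lt p _).2 hX
    have hpp : p = pinf := ratFunc_inf_place_unique hpX hpinf
    have hf1 : p.1 f ≤ 1 := hint p (fun β _ => (val_X_sub_C_of_inf hX β).le)
    have hf0 : ¬ p.ord f < 0 := not_lt.2 ((ord_nonneg_iff p f).2 hf1)
    rw [if_neg hf0, if_pos hpp, zero_sub]
    rcases i with a | b
    · rw [val_asRegFam_inl_inf B d hpX, WithZero.exp_le_exp]
      have := a.2.1
      omega
    · rw [val_asRegFam_inr_inf B d hpX]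
  · have hne : p ≠ pinf := by
      rintro rfl
      exact absurd ((ord_neg_iff_one_lt p _).1 hpinf) (not_lt.2 hX)
    obtain ⟨γ, hγ⟩ := exists_const_val_sub_lt_one (deg_eq_one_of_isAlgClosed hKF p) hX
    have hC : algebraMap k (RatFunc k) γ = RatFunc.C γ :=
      DFunLike.congr_fun RatFunc.algebraMap_eq_C γ
    rw [hC] at hγ
    rw [if_neg hne, sub_zero]
    have hexp1 : ∀ n : ℤ, 0 ≤ n → (1 : WithZero (Multiplicative ℤ)) ≤ WithZero.exp n := by
      intro n hn
      rw [← WithZero.exp_zero, WithZero.exp_le_exp]; exact hn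
    by_cases hγB : γ ∈ B
    · have hpf := hpole p γ hγB hγ
      obtain ⟨m, hm⟩ := hd γ hγB
      rw [if_pos (by rw [hpf]; omega), hpf]
      rcases i with a | b
      · rw [val_asRegFam_inl_at B d hγ]
        split_ifs with h
        · rw [WithZero.exp_le_exp]
          have h2 := a.2.2
          rw [h] at h2
          omega
        · apply hexp1; omega
      · rw [val_asRegFam_inr_at B d hγ]
        split_ifs with h
        · rw [WithZero.exp_le_exp]; omega
        · apply hexp1; omega
    · have hall : ∀ α ∈ B, 1 ≤ p.1 ((RatFunc.X : RatFunc k) - RatFunc.C α) := by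
        intro α hα
        by_contra hlt
        push Not at hlt
        rw [ratFunc_X_sub_C] at hlt hγ
        exact hγB (eq_of_val_X_sub_lt_one hlt hγ ▸ hα)
      have hf1 := hint p hall
      have hf0 : ¬ p.ord f < 0 := not_lt.2 ((ord_nonneg_iff p f).2 hf1)
      rw [if_neg hf0, WithZero.exp_zero]
      rcases i with a | b
      · rw [val_asRegFam_inl_at B d hγ, if_neg]
        intro h
        exact hγB (h ▸ a.1.1.2)
      · rw [val_asRegFam_inr_at B d hγ, if_neg]
        rintro (h | h)
        · exact hγB (h ▸ h0)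
        · exact hγB (h ▸ b.1.2)

end FamMem

section FamIndep

variable {k : Type u} [Field k] (B : Finset k) (d : k → ℕ)

theorem asRegFam_linearIndependent : LinearIndependent k (asRegFam B d) := by
  classical
  letI : Fintype {a : ↥B × ℕ // 1 ≤ a.2 ∧ 2 * a.2 + 1 ≤ d (a.1 : k)} :=
    Fintype.ofEquiv _ (asIndexEquiv B d).symm
  rw [Fintype.linearIndependent_iff]
  intro c hsum
  have hexp1 : ∀ n : ℤ, 0 < n → (1 : WithZero (Multiplicative ℤ)) < WithZero.exp n := by
    intro n hn
    rw [← WithZero.exp_zero, WithZero.exp_lt_exp]; exact hn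
  -- the members with a pole at `β`
  let S : k → Finset ({a : ↥B × ℕ // 1 ≤ a.2 ∧ 2 * a.2 + 1 ≤ d (a.1 : k)} ⊕
      {b : ↥B // (b : k) ≠ 0}) := fun β =>
    Finset.univ.filter (fun i => Sum.elim (fun a => (a.1.1 : k) = β) (fun b => (b.1 : k) = β) i)
  have hS : ∀ β i, i ∈ S β ↔ Sum.elim (fun a => (a.1.1 : k) = β) (fun b => (b.1 : k) = β) i := by
    intro β i
    simp only [S, Finset.mem_filter, Finset.mem_univ, true_and]
  have hinjS : ∀ (β : k) (p : FunFld.Place k (RatFunc k)),
      p.1 ((RatFunc.X : RatFunc k) - RatFunc.C β) < 1 → ∀ i ∈ S β, ∀ j ∈ S β,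
      p.1 (asRegFam B d i) = p.1 (asRegFam B d j) → i = j := by
    intro β p hp i hi j hj hij
    rw [hS] at hi hj
    rcases i with a | b <;> rcases j with a' | b'
    · simp only [Sum.elim_inl] at hi hj
      rw [val_asRegFam_inl_at B d hp, val_asRegFam_inl_at B d hp, if_pos hi, if_pos hj,
        WithZero.exp_inj] at hij
      congr 1
      apply Subtype.ext
      apply Prod.ext
      · apply Subtype.ext
        rw [hi, hj]
      · have : ((a.1.2 : ℤ)) = a'.1.2 := by linarith
        exact_mod_cast this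
    · simp only [Sum.elim_inl, Sum.elim_inr] at hi hj
      rw [val_asRegFam_inl_at B d hp, val_asRegFam_inr_at B d hp, if_pos hi,
        if_pos (Or.inr hj.symm), WithZero.exp_inj] at hij
      have := a.2.1
      omega
    · simp only [Sum.elim_inl, Sum.elim_inr] at hi hj
      rw [val_asRegFam_inr_at B d hp, val_asRegFam_inl_at B d hp, if_pos hj,
        if_pos (Or.inr hi.symm), WithZero.exp_inj] at hij
      have := a'.2.1
      omega
    · simp only [Sum.elim_inr] at hi hj
      congr 1
      apply Subtype.ext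
      apply Subtype.ext
      rw [hi, hj]
  have h1S : ∀ (β : k) (p : FunFld.Place k (RatFunc k)),
      p.1 ((RatFunc.X : RatFunc k) - RatFunc.C β) < 1 → ∀ i ∈ S β,
      1 < p.1 (asRegFam B d i) := by
    intro β p hp i hi
    rw [hS] at hi
    rcases i with a | b
    · simp only [Sum.elim_inl] at hi
      rw [val_asRegFam_inl_at B d hp, if_pos hi]
      apply hexp1; omega
    · simp only [Sum.elim_inr] at hi
      rw [val_asRegFam_inr_at B d hp, if_pos (Or.inr hi.symm)]
      apply hexp1; omega
  -- step A: poles at `β ≠ 0`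
  have hA : ∀ β : k, β ≠ 0 → ∀ i ∈ S β, c i = 0 := by
    intro β hβ
    obtain ⟨p, hp⟩ := exists_place_X_sub_C β
    refine coeff_eq_zero_of_val_injOn p (asRegFam B d) c (S β) (h1S β p hp) (hinjS β p hp)
      ?_ hsum
    intro i hi
    right
    rw [hS] at hi
    rcases i with a | b
    · simp only [Sum.elim_inl] at hi
      rw [val_asRegFam_inl_at B d hp, if_neg hi]
    · simp only [Sum.elim_inr] at hi
      rw [val_asRegFam_inr_at B d hp, if_neg]
      rintro (h | h)
      · exact hβ h
      · exact hi h.symm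
  have hAr : ∀ b : {b : ↥B // (b : k) ≠ 0}, c (Sum.inr b) = 0 := by
    intro b
    apply hA (b.1 : k) b.2
    rw [hS]
    simp only [Sum.elim_inr]
  -- step B: poles at `0`
  have hB : ∀ i ∈ S 0, c i = 0 := by
    obtain ⟨p, hp⟩ := exists_place_X_sub_C (0 : k)
    by_cases hall : ∀ i ∈ S 0, ∃ a, i = Sum.inl a
    · let S' : Finset ({a : ↥B × ℕ // 1 ≤ a.2 ∧ 2 * a.2 + 1 ≤ d (a.1 : k)} ⊕
          {b : ↥B // (b : k) ≠ 0}) := (S 0).filter (fun i => ∃ a, i = Sum.inl a)
      have hSS : S' = S 0 := by
        apply Finset.filter_true_of_mem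
        exact hall
      refine coeff_eq_zero_of_val_injOn p (asRegFam B d) c (S 0) (h1S 0 p hp) (hinjS 0 p hp)
        ?_ hsum
      intro i hi
      rcases i with a | b
      · right
        rw [hS] at hi
        simp only [Sum.elim_inl] at hi
        rw [val_asRegFam_inl_at B d hp, if_neg hi]
      · left
        exact hAr b
    · push Not at hall
      obtain ⟨i, hi, hne⟩ := hall
      rcases i with a | b
      · exact absurd rfl (hne a)
      · rw [hS] at hi
        simp only [Sum.elim_inr] at hi
        exact absurd hi b.2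
  intro i
  rcases i with a | b
  · by_cases ha : (a.1.1 : k) = 0
    · apply hB
      rw [hS]
      simpa only [Sum.elim_inl] using ha
    · apply hA (a.1.1 : k) ha
      rw [hS]
      simp only [Sum.elim_inl]
  · exact hAr b

end FamIndep

end Groth.Agent.Lib.H40FunFld
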