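import Groth.Agent.Lib.H40FunFldRegDiff4
import Groth.Agent.Lib.H40FunFldASBasis2
import Groth.Agent.Lib.H40FunFldEllAut

set_option autoImplicit false
set_option linter.style.haveILetI false
set_option linter.unusedSectionVars false
open FunFld Polynomial

namespace Groth.Agent.Lib.H40FunFld

open IntermediateField

universe u v w

section SpanL

variable {k : Type u} {K : Type v} [Field k] [Field K] [Algebra k K]

/-- A linearly independent family in `L(D)` with at least `ℓ(D)` members spans `L(D)`. -/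
theorem mem_span_of_mem_L_of_card (hK : FunFld.IsFunctionField k K) (D : FunFld.Divisor k K)
    {ι : Type*} [Fintype ι] (m : ι → K) (hm : ∀ i, m i ∈ FunFld.L D)
    (hli : LinearIndependent k m) (hcard : FunFld.ell D ≤ Fintype.card ι) {z : K}
    (hz : z ∈ FunFld.L D) : z ∈ Submodule.span k (Set.range m) := by
  haveI := finiteDimensional_L hK D
  let m' : ι → ↥(FunFld.L D) := fun i => ⟨m i, hm i⟩
  have hli' : LinearIndependent k m' := by
    apply LinearIndependent.of_comp (FunFld.L D).subtype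
    exact hli
  have hle := hli'.fintype_card_le_finrank
  have hspan := hli'.span_eq_top_of_card_eq_finrank' (le_antisymm hle hcard)
  have hz' : (⟨z, hz⟩ : ↥(FunFld.L D)) ∈ Submodule.span k (Set.range m') := by
    rw [hspan]; trivial
  obtain ⟨c, hc⟩ := (Submodule.mem_span_range_iff_exists_fun k).1 hz'
  rw [Submodule.mem_span_range_iff_exists_fun]
  refine ⟨c, ?_⟩
  have := congrArg (fun w : ↥(FunFld.L D) => (w : K)) hc
  simp only [Submodule.coe_sum, Submodule.coe_smul] at this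
  exact this

end SpanL

section ASFinal

variable {k : Type u} {K : Type v} [Field k] [Field K] [Algebra k K] [Algebra (RatFunc k) K]
  [IsScalarTower k (RatFunc k) K]

local notation "ι" => algebraMap k[X] (RatFunc k)

variable [IsAlgClosed k] (hK : FunFld.IsFunctionField k K) (h2 : ringChar k = 2)
  (hdeg : Module.finrank (RatFunc k) K = 2) {y : K}
  (hy : y ∉ Set.range (algebraMap (RatFunc k) K)) {f : RatFunc k}
  (heq : y ^ 2 + y = algebraMap (RatFunc k) K f)
  (B : Finset k) (h0 : (0 : k) ∈ B) (d : k → ℕ) (hd : ∀ β ∈ B, Odd (d β))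
  (hpole : ∀ (p : FunFld.Place k (RatFunc k)) (β : k), β ∈ B →
    p.1 ((RatFunc.X : RatFunc k) - RatFunc.C β) < 1 → p.ord f = -(d β : ℤ))
  (hint : ∀ p : FunFld.Place k (RatFunc k),
    (∀ β ∈ B, 1 ≤ p.1 ((RatFunc.X : RatFunc k) - RatFunc.C β)) → p.1 f ≤ 1)

theorem exists_place_inf : ∃ pinf : FunFld.Place k (RatFunc k),
    pinf.ord (RatFunc.X : RatFunc k) < 0 := by
  have hKF := isFunctionField_ratFunc k
  have htr : Transcendental k ((RatFunc.X : RatFunc k)⁻¹) := by
    intro halg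
    exact RatFunc.transcendental_X (by simpa using halg.inv)
  obtain ⟨p, hp⟩ := exists_place_val_lt_one hKF htr
  refine ⟨p, (ord_neg_iff_one_lt p _).2 ?_⟩
  rw [map_inv₀] at hp
  have hX0 : p.1 (RatFunc.X : RatFunc k) ≠ 0 := (Valuation.ne_zero_iff _).2 RatFunc.X_ne_zero
  rwa [inv_lt_one₀ (zero_lt_iff.2 hX0)] at hp

include hpole hint hd in
theorem as_hodd : ∀ P : FunFld.Place k (RatFunc k), P.ord f < 0 → Odd (P.ord f) := by
  intro p hp
  have h1 : ¬ p.1 f ≤ 1 := by rw [← ord_nonneg_iff]; omega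
  have h3 : ¬ ∀ β ∈ B, 1 ≤ p.1 ((RatFunc.X : RatFunc k) - RatFunc.C β) := fun h => h1 (hint p h)
  push Not at h3
  obtain ⟨β, hβ, hlt⟩ := h3
  rw [hpole p β hβ hlt]
  exact (hd β hβ).natCast.neg

include hK h2 hdeg hy heq h0 hd hpole hint in
/-- `ℓ(asB0) ≤` the number of members of `asRegFam`. -/
theorem ell_asB0_le {pinf : FunFld.Place k (RatFunc k)}
    (hpinf : pinf.ord (RatFunc.X : RatFunc k) < 0)
    [instS : Fintype ({a : ↥B × ℕ // 1 ≤ a.2 ∧ 2 * a.2 + 1 ≤ d (a.1 : k)} ⊕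
      {b : ↥B // (b : k) ≠ 0})] :
    FunFld.ell (asB0 f pinf) ≤
      Fintype.card ({a : ↥B × ℕ // 1 ≤ a.2 ∧ 2 * a.2 + 1 ≤ d (a.1 : k)} ⊕
        {b : ↥B // (b : k) ≠ 0}) := by
  classical
  have hKF := isFunctionField_ratFunc k
  haveI : FiniteDimensional (RatFunc k) K :=
    Module.finite_of_finrank_pos (by rw [hdeg]; norm_num)
  rcases Nat.eq_zero_or_pos (FunFld.ell (asB0 f pinf)) with hz | hpos
  · rw [hz]; exact Nat.zero_le _
  have h1 := ell_le_deg_add_one hKF _ hpos
  -- places of K over x = β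
  have hPl : ∀ β : k, ∃ P : FunFld.Place k K,
      P.1 (algebraMap (RatFunc k) K RatFunc.X - algebraMap k K β) < 1 := by
    intro β
    obtain ⟨p, hp⟩ := exists_place_X_sub_C β
    obtain ⟨P, e, he⟩ := exists_isOver (K' := K) hKF p
    refine ⟨P, ?_⟩
    rw [algebraMap_X_sub_C, ← ratFunc_X_sub_C, isOverWith_lt_one_iff he]
    exact hp
  choose Pl hPl using hPl
  have hg := as_genus_eq_sum hK h2 hdeg hy heq B d hd hpole hint Pl (fun β _ => hPl β)
  have hodd : ∀ P : FunFld.Place k (RatFunc k), FunFld.div k f P < 0 →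
      Odd (FunFld.div k f P) := by
    intro P hP
    rw [div_apply hKF] at hP ⊢
    exact as_hodd B d hd hpole hint P hP
  have hg2 := as_genus_ratFunc h2 hK hdeg y hy f heq hodd
  rw [← deg_poleHalf] at hg2
  have hdegB : (asB0 f pinf).deg = (poleHalf (k := k) f).deg - 2 := by
    rw [asB0, deg_sub, deg_single, deg_eq_one_of_isAlgClosed hKF]; ring
  -- card
  haveI inst1 : Fintype {a : ↥B × ℕ // 1 ≤ a.2 ∧ 2 * a.2 + 1 ≤ d (a.1 : k)} :=
    Fintype.ofEquiv _ (asIndexEquiv B d).symm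
  have hc1 : Fintype.card ({a : ↥B × ℕ // 1 ≤ a.2 ∧ 2 * a.2 + 1 ≤ d (a.1 : k)} ⊕
        {b : ↥B // (b : k) ≠ 0}) =
      Fintype.card {a : ↥B × ℕ // 1 ≤ a.2 ∧ 2 * a.2 + 1 ≤ d (a.1 : k)} +
        Fintype.card {b : ↥B // (b : k) ≠ 0} := by
    exact (@Fintype.card_congr _ _ instS (instFintypeSum _ _) (Equiv.refl _)).trans
      (@Fintype.card_sum _ _ inst1 _)
  have hc2 := card_asIndex B d
  have hc3 := card_asIndex2 B h0
  have hsum : ∑ β ∈ B, (((d β : ℤ) - 1) / 2 + 1) =
      ((∑ β ∈ B, (d β - 1) / 2 : ℕ) : ℤ) + (B.card : ℤ) := by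
    rw [Finset.sum_add_distrib, Finset.sum_const, nsmul_eq_mul, mul_one]
    congr 1
    push_cast
    refine Finset.sum_congr rfl fun β hβ => ?_
    obtain ⟨m, hm⟩ := hd β hβ
    rw [hm]
    push_cast
    omega
  have : (FunFld.ell (asB0 f pinf) : ℤ) ≤ (Fintype.card ({a : ↥B × ℕ // 1 ≤ a.2 ∧ 2 * a.2 + 1 ≤ d (a.1 : k)} ⊕
        {b : ↥B // (b : k) ≠ 0}) : ℤ) := by
    rw [hc1, hc2]
    push_cast
    have hc3' : (Fintype.card {b : ↥B // (b : k) ≠ 0} : ℤ) + 1 = (B.card : ℤ) := by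
      exact_mod_cast hc3
    push_cast at hsum
    linarith
  exact_mod_cast this

include hK h2 hdeg hy heq h0 hd hpole hint in
/-- Every `z ∈ L(conorm(asB0))` is a `k`-combination of the images of `asRegFam`. -/
theorem as_mem_span_of_mem_L_conorm {pinf : FunFld.Place k (RatFunc k)}
    (hpinf : pinf.ord (RatFunc.X : RatFunc k) < 0) {z : K}
    (hz : z ∈ FunFld.L (FunFld.conorm K (asB0 f pinf))) :
    z ∈ Submodule.span k (Set.range fun i => algebraMap (RatFunc k) K (asRegFam B d i)) := by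
  classical
  have hKF := isFunctionField_ratFunc k
  haveI : FiniteDimensional (RatFunc k) K :=
    Module.finite_of_finrank_pos (by rw [hdeg]; norm_num)
  obtain ⟨a, b, rfl⟩ := Groth.Agent.Lib.H40Quad.exists_add_mul_eq' hdeg hy z
  obtain ⟨ha, hb⟩ := as_mem_of_mem_L_conorm hKF h2 hdeg hy heq
    (as_hodd B d hd hpole hint) hz
  have hsub : asB0 f pinf - poleHalf (k := k) f = Finsupp.single pinf (-2 : ℤ) := by
    rw [asB0, sub_sub_cancel_left, Finsupp.single_neg]
  have hb0 : b = 0 := by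
    have hbot := L_eq_bot_of_deg_neg hKF (asB0 f pinf - poleHalf (k := k) f)
      (by rw [hsub, deg_single, deg_eq_one_of_isAlgClosed hKF]; norm_num)
    rw [hbot] at hb
    exact (Submodule.mem_bot k).1 hb
  rw [hb0, map_zero, zero_mul, add_zero]
  haveI inst1 : Fintype {a : ↥B × ℕ // 1 ≤ a.2 ∧ 2 * a.2 + 1 ≤ d (a.1 : k)} :=
    Fintype.ofEquiv _ (asIndexEquiv B d).symm
  have hspan := mem_span_of_mem_L_of_card hKF (asB0 f pinf) (asRegFam B d)
    (asRegFam_mem_L B h0 d hd hpole hint hpinf) (asRegFam_linearIndependent B d)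
    (ell_asB0_le hK h2 hdeg hy heq B h0 d hd hpole hint hpinf) ha
  have hrange : (Set.range fun i => algebraMap (RatFunc k) K (asRegFam B d i)) =
      (IsScalarTower.toAlgHom k (RatFunc k) K).toLinearMap '' Set.range (asRegFam B d) := by
    rw [← Set.range_comp]; rfl
  rw [hrange, ← Submodule.map_span]
  exact ⟨a, hspan, rfl⟩

end ASFinal

end Groth.Agent.Lib.H40FunFld
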