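import Groth.Agent.Lib.H40FunFldStrongApprox
import Groth.Prelude.Def_AdFn

/-!
# Function fields of one variable (`FunFld`): `K / (O_{P} + O_P)` has dimension `g`.
-/

set_option autoImplicit false
open FunFld Polynomial

namespace Groth.Agent.Lib.H40FunFld

open Groth.Agent.Lib.H40QuotChain

universe u
variable {k K : Type u} [Field k] [Field K] [Algebra k K]

open Classical in
/-- The repartition with the single component `x` at `P`, as an element of the adele space. -/
noncomputable def singleAdele (P : FunFld.Place k K) : K →ₗ[k] FunFld.adele k K where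
  toFun x := ⟨Pi.single P x, by
    classical
    rw [mem_adele_iff]
    refine (Set.finite_singleton P).subset ?_
    intro Q hQ
    by_contra hne
    apply hQ
    rw [Pi.single_apply, if_neg (fun h => hne (Set.mem_singleton_iff.2 h)), map_zero]
    exact zero_le_one⟩
  map_add' x y := by
    apply Subtype.ext
    funext Q
    change (Pi.single P (x + y) : FunFld.Place k K → K) Q =
      (Pi.single P x : FunFld.Place k K → K) Q + (Pi.single P y : FunFld.Place k K → K) Q
    simp only [Pi.single_apply]
    split_ifs <;> simp
  map_smul' c x := by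
    apply Subtype.ext
    funext Q
    change (Pi.single P (c • x) : FunFld.Place k K → K) Q =
      c • (Pi.single P x : FunFld.Place k K → K) Q
    simp only [Pi.single_apply]
    split_ifs <;> simp

open Classical in
theorem singleAdele_apply (P : FunFld.Place k K) (x : K) :
    (singleAdele P x : FunFld.Place k K → K) = Pi.single P x := rfl

/-- `K → A / (A(0) + K)`, `x ↦` class of the repartition with single component `x` at `P`. -/
noncomputable def singleAdeleQuot (P : FunFld.Place k K) :
    K →ₗ[k] (↥(FunFld.adele k K) ⧸ FunFld.ADK (0 : FunFld.Divisor k K)) :=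
  (Submodule.mkQ _).comp (singleAdele P)

theorem ker_singleAdeleQuot (P : FunFld.Place k K) :
    LinearMap.ker (singleAdeleQuot P) =
      Subalgebra.toSubmodule (AdFn.SInt ({P} : Set (FunFld.Place k K))) ⊔
        Subalgebra.toSubmodule (AdFn.SInt (({P} : Set (FunFld.Place k K))ᶜ)) := by
  classical
  ext x
  rw [LinearMap.mem_ker, singleAdeleQuot, LinearMap.comp_apply, Submodule.mkQ_apply,
    Submodule.Quotient.mk_eq_zero, mem_ADK_iff, singleAdele_apply]
  constructor
  · intro h
    obtain ⟨b, hb, d, ⟨y, rfl⟩, hsum⟩ := Submodule.mem_sup.1 h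
    refine Submodule.mem_sup.2 ⟨y, ?_, x - y, ?_, by ring⟩
    · intro Q hQ
      have hQP : Q ≠ P := hQ
      have h1 := hb Q
      have h2 := congrFun hsum Q
      rw [Pi.single_apply, if_neg hQP] at h2
      have h3 : b Q = -y := eq_neg_of_add_eq_zero_left h2
      rw [h3, Valuation.map_neg, Finsupp.zero_apply, WithZero.exp_zero] at h1
      exact h1
    · intro Q hQ
      have hQP : Q = P := by
        by_contra hne
        exact hQ hne
      subst hQP
      have h1 := hb Q
      have h2 := congrFun hsum Q
      rw [Pi.single_apply, if_pos rfl] at h2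
      have h3 : b Q = x - y := by
        rw [← h2]
        change b Q = b Q + y - y
        ring
      rw [h3, Finsupp.zero_apply, WithZero.exp_zero] at h1
      exact h1
  · intro h
    obtain ⟨y, hy, z, hz, rfl⟩ := Submodule.mem_sup.1 h
    refine Submodule.mem_sup.2 ⟨Pi.single P (y + z) - FunFld.diag k K y, ?_,
      FunFld.diag k K y, ⟨y, rfl⟩, by abel⟩
    intro Q
    rw [Finsupp.zero_apply, WithZero.exp_zero]
    change Q.1 ((Pi.single P (y + z) : FunFld.Place k K → K) Q - y) ≤ 1
    by_cases hQP : Q = P
    · subst hQP
      rw [Pi.single_apply, if_pos rfl, add_sub_cancel_left]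
      exact hz Q (by simp)
    · rw [Pi.single_apply, if_neg hQP, zero_sub, Valuation.map_neg]
      exact hy Q hQP

theorem singleAdeleQuot_surjective (hK : FunFld.IsFunctionField k K) (P : FunFld.Place k K) :
    Function.Surjective (singleAdeleQuot P) := by
  classical
  intro c
  obtain ⟨a, rfl⟩ := Submodule.Quotient.mk_surjective _ c
  have hfin : {Q : FunFld.Place k K | ¬ Q.1 ((a : FunFld.Place k K → K) Q) ≤ 1}.Finite :=
    (mem_adele_iff _).1 a.2
  set T : Finset (FunFld.Place k K) := hfin.toFinset.erase P with hT
  let e := T.equivFin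
  obtain ⟨y, hy1, hy2⟩ := strong_approx_le hK P (fun i => ((e.symm i : T) : FunFld.Place k K))
    (by
      intro i j hij
      exact e.symm.injective (Subtype.ext hij))
    (by
      rintro ⟨i, hi⟩
      have := (e.symm i).2
      exact (Finset.mem_erase.1 this).1 hi)
    (fun i => (a : FunFld.Place k K → K) (e.symm i)) (fun _ => 0)
  refine ⟨(a : FunFld.Place k K → K) P - y, ?_⟩
  rw [singleAdeleQuot, LinearMap.comp_apply, Submodule.mkQ_apply]
  rw [Submodule.Quotient.eq, mem_ADK_iff]
  refine Submodule.mem_sup.2 ⟨Pi.single P ((a : FunFld.Place k K → K) P - y) -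
    (a : FunFld.Place k K → K) + FunFld.diag k K y, ?_, FunFld.diag k K (-y), ⟨-y, rfl⟩, ?_⟩
  · intro Q
    rw [Finsupp.zero_apply, WithZero.exp_zero]
    change Q.1 ((Pi.single P ((a : FunFld.Place k K → K) P - y) : FunFld.Place k K → K) Q -
      (a : FunFld.Place k K → K) Q + y) ≤ 1
    by_cases hQP : Q = P
    · subst hQP
      rw [Pi.single_apply, if_pos rfl]
      have : (a : FunFld.Place k K → K) Q - y - (a : FunFld.Place k K → K) Q + y = 0 := by ring
      rw [this, map_zero]
      exact zero_le_one
    · rw [Pi.single_apply, if_neg hQP, zero_sub]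
      by_cases hQT : Q ∈ T
      · have h1 := hy1 (e ⟨Q, hQT⟩)
        simp only [Equiv.symm_apply_apply, neg_zero, WithZero.exp_zero] at h1
        have : -(a : FunFld.Place k K → K) Q + y = y - (a : FunFld.Place k K → K) Q := by ring
        rw [this]
        exact h1
      · have h1 : Q.1 ((a : FunFld.Place k K → K) Q) ≤ 1 := by
          by_contra hne
          apply hQT
          rw [hT, Finset.mem_erase]
          exact ⟨hQP, hfin.mem_toFinset.2 hne⟩
        have h2 : Q.1 y ≤ 1 := by
          apply hy2 Q hQP
          rintro ⟨i, hi⟩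
          apply hQT
          rw [← hi]
          exact (e.symm i).2
        refine (Q.1.map_add _ _).trans (max_le ?_ h2)
        rwa [Valuation.map_neg]
  · change _ + FunFld.diag k K (-y) = ((singleAdele P ((a : FunFld.Place k K → K) P - y) - a :
      FunFld.adele k K) : FunFld.Place k K → K)
    rw [map_neg]
    change _ = Pi.single P ((a : FunFld.Place k K → K) P - y) - (a : FunFld.Place k K → K)
    abel

theorem finrank_quot_SInt (hK : FunFld.IsFunctionField k K) (P : FunFld.Place k K) :
    FiniteDimensional k (K ⧸ (Subalgebra.toSubmodule (AdFn.SInt ({P} : Set (FunFld.Place k K))) ⊔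
        Subalgebra.toSubmodule (AdFn.SInt (({P} : Set (FunFld.Place k K))ᶜ)))) ∧
    Module.finrank k (K ⧸ (Subalgebra.toSubmodule (AdFn.SInt ({P} : Set (FunFld.Place k K))) ⊔
        Subalgebra.toSubmodule (AdFn.SInt (({P} : Set (FunFld.Place k K))ᶜ)))) =
      FunFld.genus k K := by
  obtain ⟨hfin, hrank⟩ := finrank_adele_quot_ADK hK (0 : FunFld.Divisor k K)
  rw [delta_zero hK, sub_zero] at hrank
  let e1 := (singleAdeleQuot P).quotKerEquivOfSurjective (singleAdeleQuot_surjective hK P)
  let e2 := Submodule.quotEquivOfEq _ _ (ker_singleAdeleQuot P)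
  let e := e2.symm.trans e1
  refine ⟨LinearEquiv.finiteDimensional e.symm, ?_⟩
  rw [LinearEquiv.finrank_eq e]
  exact_mod_cast hrank

end Groth.Agent.Lib.H40FunFld
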