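import Groth.Agent.Lib.H40FunFldConstExt
import Mathlib.FieldTheory.Finite.Extension
import Mathlib.FieldTheory.PrimitiveElement
import Mathlib.FieldTheory.IsAlgClosed.AlgebraicClosure

set_option autoImplicit false
set_option linter.style.haveILetI false
set_option linter.unusedSectionVars false
open FunFld Polynomial

namespace Groth.Agent.Lib.H40FunFld

open Groth.Agent.Lib.H40QuotChain IntermediateField

universe u v w
variable {k : Type u} [Field k] {K : Type v} [Field K] [Algebra k K]

section Schmidt

/-- There is an element of degree `d` over the finite field `k` in the algebraic closure of any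
`k`-field `K`. -/
theorem exists_integral_natDegree_eq [Finite k] (d : ℕ) (hd0 : 0 < d) :
    ∃ α : AlgebraicClosure K, IsIntegral k α ∧ (minpoly k α).natDegree = d := by
  obtain ⟨p, hp⟩ := CharP.exists k
  haveI : CharP k p := hp
  haveI : Fact p.Prime := ⟨CharP.char_is_prime k p⟩
  haveI : NeZero d := ⟨hd0.ne'⟩
  obtain ⟨β, hβ⟩ := Field.exists_primitive_element k (FiniteField.Extension k p d)
  have hβint : IsIntegral k β := Algebra.IsIntegral.isIntegral β
  have hdeg : (minpoly k β).natDegree = d := by
    rw [← IntermediateField.adjoin.finrank hβint, hβ, IntermediateField.finrank_top',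
      FiniteField.finrank_extension]
  let ψ : FiniteField.Extension k p d →ₐ[k] AlgebraicClosure K :=
    IsAlgClosed.lift
  refine ⟨ψ β, hβint.map ψ, ?_⟩
  rw [minpoly.algHom_eq ψ ψ.toRingHom.injective, hdeg]

/-- F. K. Schmidt: over a finite constant field, the degrees of divisors are all the integers. -/
theorem degGen_eq_one [Finite k] (hK : FunFld.IsFunctionField k K) {d : ℕ} (hd0 : 0 < d)
    (hd : ∀ m : ℤ, (∃ D : FunFld.Divisor k K, D.deg = m) ↔ (d : ℤ) ∣ m) : d = 1 := by
  obtain ⟨α0, hα0, hdeg0⟩ := exists_integral_natDegree_eq (k := k) (K := K) d hd0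
  have hαK : IsIntegral K α0 := hα0.tower_top
  haveI : IsScalarTower k ↥K⟮α0⟯ (AlgebraicClosure K) :=
    IsScalarTower.of_algebraMap_eq (fun c => rfl)
  have hmin : minpoly k (AdjoinSimple.gen K α0) = minpoly k α0 := by
    have := minpoly.algebraMap_eq (A := k) (algebraMap ↥K⟮α0⟯ (AlgebraicClosure K)).injective
      (AdjoinSimple.gen K α0)
    rw [AdjoinSimple.algebraMap_gen] at this
    exact this.symm
  have hint : IsIntegral k (AdjoinSimple.gen K α0) := by
    rw [← isIntegral_algebraMap_iff (algebraMap ↥K⟮α0⟯ (AlgebraicClosure K)).injective,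
      AdjoinSimple.algebraMap_gen]
    exact hα0
  have hgen : IntermediateField.adjoin K {AdjoinSimple.gen K α0} = ⊤ := by
    apply IntermediateField.adjoin_eq_top_of_algebra
    have := (IntermediateField.adjoin.powerBasis hαK).adjoin_gen_eq_top
    rwa [IntermediateField.adjoin.powerBasis_gen] at this
  exact degGen_eq_one_of_ext (K' := ↥K⟮α0⟯) hK hd0 hd hint hgen (by rw [hmin, hdeg0])

end Schmidt

end Groth.Agent.Lib.H40FunFld
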