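import Groth.Agent.Lib.H40FunFldUnram
import Groth.Agent.Lib.H40FunFldSepGen
import Groth.Agent.Lib.H40FunFldStrongApprox
import Groth.Agent.Lib.H40FunFldAffineRing
import Mathlib.FieldTheory.SeparableDegree

set_option autoImplicit false
set_option linter.style.haveILetI false
set_option linter.unusedSectionVars false
open FunFld Polynomial

namespace Groth.Agent.Lib.H40FunFld

open Groth.Agent.Lib.H40QuotChain IntermediateField

universe u v w
variable {k : Type u} [Field k] {K : Type v} [Field K] [Algebra k K]

section GaloisCase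

variable {N : Type w} [Field N] [Algebra K N] [Algebra k N] [IsScalarTower k K N]
  [FiniteDimensional K N] [IsGalois K N]

/-- In a finite Galois extension only finitely many places have nontrivial inertia group. -/
theorem finite_ramGroup_one_ne_bot (hK : FunFld.IsFunctionField k K) :
    {Q : FunFld.Place k N | ramGroup (K := K) Q 1 ≠ ⊥}.Finite := by
  classical
  have hx : ∀ σ : N ≃ₐ[K] N, σ ≠ 1 → ∃ x : N, σ x ≠ x := by
    intro σ hσ
    by_contra hall
    push Not at hall
    exact hσ (AlgEquiv.ext hall)
  choose! x hx using hx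
  let S : (N ≃ₐ[K] N) → Set (FunFld.Place k N) := fun σ =>
    (Function.support fun Q : FunFld.Place k N => Q.ord (x σ)) ∪
      (Function.support fun Q : FunFld.Place k N => Q.ord (σ (x σ) - x σ))
  have hS : ∀ σ, (S σ).Finite := fun σ =>
    (finite_support_ord_ext hK _).union (finite_support_ord_ext hK _)
  refine (Set.finite_iUnion hS).subset ?_
  intro Q hne
  obtain ⟨⟨σ, hσ⟩, hσ1⟩ := (Subgroup.ne_bot_iff_exists_ne_one).1 hne
  have hσ1' : σ ≠ 1 := fun h => hσ1 (Subtype.ext h)
  have hxσ := hx σ hσ1'
  rw [Set.mem_iUnion]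
  refine ⟨σ, ?_⟩
  by_contra hnot
  simp only [S, Set.mem_union, Function.mem_support, not_or, not_not] at hnot
  obtain ⟨h1, h2'⟩ := hnot
  have hx0 : x σ ≠ 0 := by
    intro h0
    rw [h0, map_zero] at hxσ
    exact hxσ rfl
  have hd0 : σ (x σ) - x σ ≠ 0 := sub_ne_zero.2 hxσ
  have hv1 : Q.1 (x σ) = 1 := by
    rw [val_eq_exp_neg_ord Q hx0, h1, neg_zero, WithZero.exp_zero]
  have hv2 : Q.1 (σ (x σ) - x σ) = 1 := by
    rw [val_eq_exp_neg_ord Q hd0, h2', neg_zero, WithZero.exp_zero]
  have h3 : Q.1 (σ (x σ) - x σ) ≤ WithZero.exp (-1 : ℤ) := hσ (x σ) hv1.le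
  rw [hv2, ← lt_one_iff_le_exp_neg_one] at h3
  exact lt_irrefl _ h3

/-- If the inertia group at `Q` is trivial, the residue field extension at `Q | P` is separable;
in particular separability over `k` goes up. -/
theorem isSeparable_residue_of_ramGroup_eq_bot (hK : FunFld.IsFunctionField k K)
    {Q : FunFld.Place k N} {P : FunFld.Place k K} {e : ℕ} (he : FunFld.IsOverWith Q P e)
    (hbot : ramGroup (K := K) Q 1 = ⊥)
    [hsepP : Algebra.IsSeparable k (IsLocalRing.ResidueField ↥P.O)] :
    Algebra.IsSeparable k (IsLocalRing.ResidueField ↥Q.O) := by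
  classical
  set G₀ := (Q.O).decompositionSubgroup K with hG₀
  letI algPQ : Algebra (IsLocalRing.ResidueField ↥P.O) (IsLocalRing.ResidueField ↥Q.O) :=
    (residueMap he).toAlgebra
  haveI tower : IsScalarTower k (IsLocalRing.ResidueField ↥P.O) (IsLocalRing.ResidueField ↥Q.O) :=
    IsScalarTower.of_algebraMap_eq (fun c => by
      change IsLocalRing.residue ↥Q.O (algebraMap k ↥Q.O c) =
        IsLocalRing.residue ↥Q.O (valRingMap he (algebraMap k ↥P.O c))
      congr 1
      apply Subtype.ext
      change algebraMap k N c = algebraMap K N (algebraMap k K c)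
      rw [← IsScalarTower.algebraMap_apply])
  have hposQ := deg_pos_ext hK Q
  have hposP : 0 < P.deg := by
    have := deg_pos_ext (K' := K) hK P
    exact this
  haveI finQ : Module.Finite k (IsLocalRing.ResidueField ↥Q.O) :=
    Module.finite_of_finrank_pos hposQ
  haveI finPQ : Module.Finite (IsLocalRing.ResidueField ↥P.O) (IsLocalRing.ResidueField ↥Q.O) :=
    @Module.Finite.of_restrictScalars_finite k (IsLocalRing.ResidueField ↥P.O)
      (IsLocalRing.ResidueField ↥Q.O) _ _ _ _ _ _ tower finQ
  -- the map to algebra homs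
  let Φ : ↥G₀ → (IsLocalRing.ResidueField ↥Q.O →ₐ[IsLocalRing.ResidueField ↥P.O]
      IsLocalRing.ResidueField ↥Q.O) := fun σ =>
    { MulSemiringAction.toRingHom ↥G₀ (IsLocalRing.ResidueField ↥Q.O) σ with
      commutes' := fun r => by
        obtain ⟨a, rfl⟩ := IsLocalRing.residue_surjective r
        change σ • residueMap he (IsLocalRing.residue ↥P.O a) =
          residueMap he (IsLocalRing.residue ↥P.O a)
        rw [residueMap_residue, ← IsLocalRing.ResidueField.residue_smul]
        congr 1
        apply Subtype.ext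
        rw [coe_decomposition_smul]
        exact σ.1.commutes a.1 }
  have hΦ : Function.Injective Φ := by
    intro σ τ hστ
    have h1 : InRam Q 1 (τ⁻¹ * σ).1 := by
      apply inRam_one_of_forall_smul_eq
      intro r
      have h1 : σ • r = τ • r := DFunLike.congr_fun hστ r
      rw [mul_smul, h1, inv_smul_smul]
    have h2 : (τ⁻¹ * σ).1 ∈ ramGroup (K := K) Q 1 := h1
    rw [hbot, Subgroup.mem_bot] at h2
    have h3 : τ⁻¹ * σ = 1 := Subtype.ext h2
    rw [inv_mul_eq_one] at h3
    exact h3.symm
  let Ψ : (IsLocalRing.ResidueField ↥Q.O →ₐ[IsLocalRing.ResidueField ↥P.O]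
      IsLocalRing.ResidueField ↥Q.O) →
      Field.Emb (IsLocalRing.ResidueField ↥P.O) (IsLocalRing.ResidueField ↥Q.O) := fun ψ =>
    (IsScalarTower.toAlgHom (IsLocalRing.ResidueField ↥P.O) (IsLocalRing.ResidueField ↥Q.O)
      (AlgebraicClosure (IsLocalRing.ResidueField ↥Q.O))).comp ψ
  have hΨ : Function.Injective Ψ := by
    intro ψ₁ ψ₂ h
    ext r
    have h1 := DFunLike.congr_fun h r
    exact (algebraMap (IsLocalRing.ResidueField ↥Q.O)
      (AlgebraicClosure (IsLocalRing.ResidueField ↥Q.O))).injective h1
  haveI : Finite (Field.Emb (IsLocalRing.ResidueField ↥P.O) (IsLocalRing.ResidueField ↥Q.O)) :=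
    Fintype.finite <| minpoly.AlgHom.fintype _ _ _
  have hcard : Nat.card ↥G₀ ≤ Field.finSepDegree (IsLocalRing.ResidueField ↥P.O)
      (IsLocalRing.ResidueField ↥Q.O) :=
    Nat.card_le_card_of_injective (Ψ ∘ Φ) (hΨ.comp hΦ)
  have hle := Field.finSepDegree_le_finrank (IsLocalRing.ResidueField ↥P.O)
      (IsLocalRing.ResidueField ↥Q.O)
  have htow := @Module.finrank_mul_finrank k (IsLocalRing.ResidueField ↥P.O)
    (IsLocalRing.ResidueField ↥Q.O) _ _ _ _ _ _ tower _ _
  have hmul := card_decomposition_mul_deg hK he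
  have hepos := isOverWith_pos he
  unfold FunFld.Place.deg at hmul hposP hposQ
  rw [← htow] at hmul
  have heq : Field.finSepDegree (IsLocalRing.ResidueField ↥P.O)
      (IsLocalRing.ResidueField ↥Q.O) = Module.finrank (IsLocalRing.ResidueField ↥P.O)
      (IsLocalRing.ResidueField ↥Q.O) := by
    apply le_antisymm hle
    have h4 : Nat.card ↥G₀ = e * Module.finrank (IsLocalRing.ResidueField ↥P.O)
      (IsLocalRing.ResidueField ↥Q.O) := by
      apply Nat.eq_of_mul_eq_mul_right hposP
      rw [hmul]; ring
    calc Module.finrank (IsLocalRing.ResidueField ↥P.O) (IsLocalRing.ResidueField ↥Q.O)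
        ≤ e * Module.finrank (IsLocalRing.ResidueField ↥P.O)
          (IsLocalRing.ResidueField ↥Q.O) := Nat.le_mul_of_pos_left _ hepos
      _ = Nat.card ↥G₀ := h4.symm
      _ ≤ _ := hcard
  haveI : Algebra.IsSeparable (IsLocalRing.ResidueField ↥P.O) (IsLocalRing.ResidueField ↥Q.O) :=
    (Field.finSepDegree_eq_finrank_iff _ _).1 heq
  exact Algebra.IsSeparable.trans k (IsLocalRing.ResidueField ↥P.O) (IsLocalRing.ResidueField ↥Q.O)

end GaloisCase

section Separable

variable {K' : Type w} [Field K'] [Algebra K K'] [Algebra k K'] [IsScalarTower k K K']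
  [FiniteDimensional K K'] [Algebra.IsSeparable K K']

/-- In a finite separable extension of function fields, for all but finitely many places `Q` of the
top field, separability over `k` of the residue field of the place below implies separability over
`k` of the residue field of `Q`. -/
theorem finite_not_isSeparable_residue (hK : FunFld.IsFunctionField k K) :
    {Q : FunFld.Place k K' | ∃ (P : FunFld.Place k K) (e : ℕ), FunFld.IsOverWith Q P e ∧
      Algebra.IsSeparable k (IsLocalRing.ResidueField ↥P.O) ∧
      ¬ Algebra.IsSeparable k (IsLocalRing.ResidueField ↥Q.O)}.Finite := by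
  classical
  haveI : Normal K (AlgebraicClosure K') := IsAlgClosure.normal K (AlgebraicClosure K')
  haveI hsepN : Algebra.IsSeparable K ↥(normalClosure K K' (AlgebraicClosure K')) := by
    haveI : ∀ f : K' →ₐ[K] AlgebraicClosure K', Algebra.IsSeparable K ↥f.fieldRange := fun f =>
      AlgEquiv.Algebra.isSeparable (AlgEquiv.ofInjectiveField f)
    rw [normalClosure_def]
    infer_instance
  haveI : IsGalois K ↥(normalClosure K K' (AlgebraicClosure K')) := ⟨⟩
  haveI : IsScalarTower k K ↥(normalClosure K K' (AlgebraicClosure K')) :=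
    IsScalarTower.of_algebraMap_eq (fun c => by
      apply Subtype.ext
      exact IsScalarTower.algebraMap_apply k K (AlgebraicClosure K') c)
  haveI : IsScalarTower k K' ↥(normalClosure K K' (AlgebraicClosure K')) :=
    IsScalarTower.of_algebraMap_eq (fun c => by
      apply Subtype.ext
      exact IsScalarTower.algebraMap_apply k K' (AlgebraicClosure K') c)
  haveI : FiniteDimensional K' ↥(normalClosure K K' (AlgebraicClosure K')) :=
    Module.Finite.of_restrictScalars_finite K K' _
  have hfinN := finite_ramGroup_one_ne_bot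
    (N := ↥(normalClosure K K' (AlgebraicClosure K'))) hK
  obtain ⟨t, htr, -⟩ := hK.1
  have htr' : Transcendental k (algebraMap K K' t) := by
    intro halg
    exact htr ((isAlgebraic_algebraMap_iff (algebraMap K K').injective).1 halg)
  obtain ⟨hfin', -⟩ := finrank_adjoin_algebraMap (K' := K') hK htr
  have hres : ∀ Q' : FunFld.Place k ↥(normalClosure K K' (AlgebraicClosure K')),
      ∃ Q : FunFld.Place k K', FunFld.IsOver Q' Q := fun Q' => by
    obtain ⟨Q, e, h⟩ := exists_isOverWith_weak htr' Q'
    exact ⟨Q, e, h⟩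
  choose f hf using hres
  refine (hfinN.image f).subset ?_
  rintro Q ⟨P, e, he, hsepP, hnsep⟩
  obtain ⟨Q', e', he'⟩ := exists_isOver_weak
    (N := ↥(normalClosure K K' (AlgebraicClosure K'))) htr' Q
  have hfQ : f Q' = Q := by
    obtain ⟨e'', he''⟩ := hf Q'
    exact (isOverWith_unique he'' he').1
  refine ⟨Q', ?_, hfQ⟩
  intro hbot
  apply hnsep
  have hQ'P : FunFld.IsOverWith Q' P (e * e') := isOverWith_trans he' he
  haveI := isSeparable_residue_of_ramGroup_eq_bot hK hQ'P hbot
  -- descend along the residue map `F_Q → F_Q'`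
  let φ : IsLocalRing.ResidueField ↥Q.O →ₐ[k] IsLocalRing.ResidueField ↥Q'.O :=
    { residueMap he' with
      commutes' := fun c => by
        change residueMap he' (IsLocalRing.residue ↥Q.O (algebraMap k ↥Q.O c)) =
          IsLocalRing.residue ↥Q'.O (algebraMap k ↥Q'.O c)
        rw [residueMap_residue]
        congr 1 }
  exact Algebra.IsSeparable.of_algHom k (IsLocalRing.ResidueField ↥Q'.O) φ

end Separable

section InfinitePlaces

private theorem false_of_lt_one_of_inv_lt_one {a : WithZero (Multiplicative ℤ)} (ha0 : a ≠ 0)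
    (h1 : a < 1) (h2 : a⁻¹ < 1) : False :=
  lt_asymm ((one_lt_inv₀ (zero_lt_iff.2 ha0)).2 h1) h2

private theorem false_of_val_lt_one_of_val_inv_lt_one (P : FunFld.Place k K) {z : K} (hz : z ≠ 0)
    (h1 : P.1 z < 1) (h2 : P.1 z⁻¹ < 1) : False := by
  rw [map_inv₀] at h2
  exact false_of_lt_one_of_inv_lt_one ((Valuation.ne_zero_iff _).2 hz) h1 h2

/-- Outside any finite set of places there is a further place (no assumption on `k`). -/
theorem exists_place_notMem_finset (hK : FunFld.IsFunctionField k K)
    (S : Finset (FunFld.Place k K)) : ∃ B : FunFld.Place k K, B ∉ S := by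
  classical
  obtain ⟨x, hx, -⟩ := hK.1
  have hx0 : x ≠ 0 := fun h => hx (h ▸ isAlgebraic_zero)
  have hxinv : Transcendental k x⁻¹ := fun h => hx (by simpa using h.inv)
  obtain ⟨Pz, hPz⟩ := exists_place_val_lt_one hK hx
  by_cases hS : Pz ∈ S
  swap
  · exact ⟨Pz, hS⟩
  set T := S.erase Pz with hT
  let eT := T.equivFin
  let P : Fin T.card → FunFld.Place k K := fun i => (eT.symm i).1
  have hPinj : Function.Injective P := Subtype.val_injective.comp eT.symm.injective
  have hPmem : ∀ i, P i ∈ T := fun i => (eT.symm i).2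
  have hPsurj : ∀ B ∈ T, ∃ i, P i = B := fun B hB =>
    ⟨eT ⟨B, hB⟩, by simp [P]⟩
  have hinf : Pz ∉ Set.range P := by
    rintro ⟨i, hi⟩
    have := hPmem i
    rw [hi, hT] at this
    exact (Finset.notMem_erase Pz S) this
  by_cases hcard : T.card = 0
  · obtain ⟨Pp, hPp⟩ := exists_place_val_lt_one hK hxinv
    refine ⟨Pp, fun hmem => ?_⟩
    have hPpz : Pp = Pz := by
      by_contra hne
      have h1 : Pp ∈ T := Finset.mem_erase.2 ⟨hne, hmem⟩
      rw [Finset.card_eq_zero.1 hcard] at h1
      exact Finset.notMem_empty _ h1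
    rw [hPpz] at hPp
    exact false_of_val_lt_one_of_val_inv_lt_one Pz hx0 hPz hPp
  · obtain ⟨y, hy1, hy2⟩ := strong_approx hK Pz P hPinj hinf (fun _ => 1) (fun _ => 1)
    have hy1' : ∀ i, (P i).1 (y - 1) < 1 := fun i => by
      rw [lt_one_iff_le_exp_neg_one]
      exact (hy1 i).le
    have hy1'' : ∀ i, (P i).1 y = 1 := fun i => by
      have := Valuation.map_one_add_of_lt (P i).1 (hy1' i)
      rwa [add_sub_cancel] at this
    have i0 : Fin T.card := ⟨0, Nat.pos_of_ne_zero hcard⟩
    have hytr : Transcendental k y := by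
      intro halg
      obtain ⟨c, rfl⟩ := hK.2 y halg
      have h1 := hy1 i0
      have h2 := hy1' i0
      have e : algebraMap k K c - 1 = algebraMap k K (c - 1) := by rw [map_sub, map_one]
      rw [e] at h1 h2
      by_cases hc : c - 1 = 0
      · rw [hc, map_zero, map_zero] at h1
        exact WithZero.exp_ne_zero h1.symm
      · rw [val_algebraMap _ hc] at h2
        exact lt_irrefl _ h2
    have hy0 : y ≠ 0 := fun h => hytr (h ▸ isAlgebraic_zero)
    have hyinv : Transcendental k y⁻¹ := fun h => hytr (by simpa using h.inv)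
    obtain ⟨B, hB⟩ := exists_place_val_lt_one hK hytr
    refine ⟨B, fun hmem => ?_⟩
    by_cases hBz : B = Pz
    · obtain ⟨C, hC⟩ := exists_place_val_lt_one hK hyinv
      have hCz : C = Pz := by
        by_contra hne
        by_cases hCr : C ∈ Set.range P
        · obtain ⟨i, rfl⟩ := hCr
          rw [map_inv₀, hy1'' i, inv_one] at hC
          exact lt_irrefl _ hC
        · have h1 := hy2 C hne hCr
          rw [map_inv₀] at hC
          have h3 : (C.1 y) ≠ 0 := (Valuation.ne_zero_iff _).2 hy0
          have h4 : 1 ≤ (C.1 y)⁻¹ := (one_le_inv₀ (zero_lt_iff.2 h3)).2 h1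
          exact not_lt.2 h4 hC
      rw [hBz] at hB
      rw [hCz] at hC
      exact false_of_val_lt_one_of_val_inv_lt_one Pz hy0 hB hC
    · obtain ⟨i, hi⟩ := hPsurj B (Finset.mem_erase.2 ⟨hBz, hmem⟩)
      rw [← hi, hy1'' i] at hB
      exact lt_irrefl _ hB

/-- A function field of one variable has infinitely many places (no assumption on `k`). -/
theorem infinite_place' (hK : FunFld.IsFunctionField k K) : Infinite (FunFld.Place k K) := by
  classical
  by_contra hfin
  rw [not_infinite_iff_finite] at hfin
  haveI : Fintype (FunFld.Place k K) := Fintype.ofFinite _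
  obtain ⟨B, hB⟩ := exists_place_notMem_finset hK (Finset.univ)
  exact hB (Finset.mem_univ B)

end InfinitePlaces

section Final

open scoped IntermediateField.algebraAdjoinAdjoin in
/-- A place of `k(x)` at which `x - a` vanishes has degree one. -/
theorem deg_eq_one_of_val_gen_sub_lt_one (hK : FunFld.IsFunctionField k K) {x : K}
    (hx : Transcendental k x) (a : k) (P : FunFld.Place k ↥k⟮x⟯)
    (hP : P.1 (AdjoinSimple.gen k x - algebraMap k ↥k⟮x⟯ a) < 1) : P.deg = 1 := by
  classical
  have hF := isFunctionField_adjoin_simple hK hx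
  set y : ↥k⟮x⟯ := AdjoinSimple.gen k x - algebraMap k ↥k⟮x⟯ a with hy
  have hgen : Transcendental k (AdjoinSimple.gen k x) := by
    intro halg
    apply hx
    have := halg.algebraMap (A := K)
    rwa [AdjoinSimple.algebraMap_gen] at this
  have hy0 : y ≠ 0 := by
    intro h0
    apply hgen
    have : AdjoinSimple.gen k x = algebraMap k ↥k⟮x⟯ a := sub_eq_zero.1 h0
    rw [this]
    exact isAlgebraic_algebraMap a
  have htop0 : k⟮AdjoinSimple.gen k x⟯ = ⊤ := by
    apply IntermediateField.lift_injective k⟮x⟯
    rw [IntermediateField.lift_adjoin_simple, IntermediateField.lift_top]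
    rfl
  have htop : k⟮y⟯ = ⊤ := by
    apply top_le_iff.1
    rw [← htop0, adjoin_simple_le_iff]
    have h1 : AdjoinSimple.gen k x = y + algebraMap k ↥k⟮x⟯ a := by rw [hy]; ring
    rw [h1]
    exact add_mem (mem_adjoin_simple_self k y) (IntermediateField.algebraMap_mem _ a)
  have hfin1 : Module.finrank ↥k⟮y⟯ ↥k⟮x⟯ = 1 := by
    have : Module.finrank ↥k⟮y⟯ ↥k⟮x⟯ =
        Module.finrank ↥(⊤ : IntermediateField k ↥k⟮x⟯) ↥k⟮x⟯ :=
      congrArg (fun F : IntermediateField k ↥k⟮x⟯ => Module.finrank F ↥k⟮x⟯) htop
    rw [this]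
    exact IntermediateField.finrank_top
  haveI : FiniteDimensional ↥k⟮y⟯ ↥k⟮x⟯ := Module.finite_of_finrank_pos (by rw [hfin1]; exact one_pos)
  have hle := deg_le_finrank_of_le_ord hF hy0 (Finsupp.single P 1)
    (Finsupp.single_nonneg.2 zero_le_one) (fun P' hpos => by
      by_cases hPP : P' = P
      · rw [hPP, Finsupp.single_eq_same]
        exact lt_one_iff_le_exp_neg_one.1 hP
      · rw [Finsupp.single_eq_of_ne hPP] at hpos
        exact absurd hpos (lt_irrefl _))
  rw [hfin1] at hle
  have hdeg : FunFld.Divisor.deg (Finsupp.single P (1 : ℤ)) = (P.deg : ℤ) := by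
    unfold FunFld.Divisor.deg
    rw [Finsupp.sum_single_index (by simp)]
    simp
  rw [hdeg] at hle
  have hpos := deg_pos hF P
  have : (P.deg : ℤ) ≤ 1 := by exact_mod_cast hle
  omega

/-- A geometric function field has infinitely many places with separable residue field. -/
theorem infinite_separable_places {k : Type u} {K : Type v} [Field k] [Field K] [Algebra k K]
    (hK : FunFld.IsFunctionField k K) (hg : FunFld.IsGeometric k K) :
    {P : FunFld.Place k K | Algebra.IsSeparable k (IsLocalRing.ResidueField P.O)}.Infinite := by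
  classical
  rcases finite_or_infinite k with hfink | hinfk
  · -- finite constant field: perfect, all places qualify
    haveI := infinite_place' hK
    have hall : {P : FunFld.Place k K | Algebra.IsSeparable k (IsLocalRing.ResidueField P.O)} =
        Set.univ := by
      ext P
      simp only [Set.mem_ofPred_eq, Set.mem_univ, iff_true]
      have hfin := finiteDimensional_residueField hK P
      haveI hfin' : @Module.Finite k (IsLocalRing.ResidueField P.O) _ _
          (@Algebra.toModule k (IsLocalRing.ResidueField P.O) _ _ (Place.algRes P)) := hfin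
      haveI : Algebra.IsAlgebraic k (IsLocalRing.ResidueField P.O) :=
        Algebra.IsAlgebraic.of_finite _ _
      exact Algebra.IsAlgebraic.isSeparable_of_perfectField
    rw [hall]
    exact Set.infinite_univ
  · obtain ⟨x, hx, hsep⟩ := exists_separating_of_isGeometric hK hg
    have hF := isFunctionField_adjoin_simple hK hx
    haveI := finiteDimensional_adjoin_of_transcendental hK hx
    have hbad := finite_not_isSeparable_residue (K := ↥k⟮x⟯) (K' := K) hF
    have htr : ∀ a : k, Transcendental k (x - algebraMap k K a) := by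
      intro a h
      apply hx
      have := h.add (isAlgebraic_algebraMap (R := k) (A := K) a)
      simpa using this
    choose f hf using fun a : k => exists_place_val_lt_one hK (htr a)
    have hinj : Function.Injective f := by
      intro a b hab
      by_contra hne
      have h1 := hf a
      have h2 := hf b
      rw [hab] at h1
      have e : algebraMap k K (a - b) = (x - algebraMap k K b) - (x - algebraMap k K a) := by
        rw [map_sub]; ring
      have h3 : (f b).1 (algebraMap k K (a - b)) < 1 := by
        rw [e]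
        exact lt_of_le_of_lt (Valuation.map_sub _ _ _) (max_lt h2 h1)
      rw [val_algebraMap (f b) (sub_ne_zero.2 hne)] at h3
      exact lt_irrefl _ h3
    have hrange : (Set.range f).Infinite := Set.infinite_range_of_injective hinj
    refine (hrange.sdiff hbad).mono ?_
    rintro Q ⟨⟨a, rfl⟩, hnot⟩
    simp only [Set.mem_ofPred_eq]
    by_contra hnsep
    apply hnot
    obtain ⟨P, e, he⟩ := exists_isOverWith hF (f a)
    refine ⟨P, e, he, ?_, hnsep⟩
    have hP : P.1 (AdjoinSimple.gen k x - algebraMap k ↥k⟮x⟯ a) < 1 := by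
      rw [← isOverWith_lt_one_iff he]
      have : algebraMap ↥k⟮x⟯ K (AdjoinSimple.gen k x - algebraMap k ↥k⟮x⟯ a) =
          x - algebraMap k K a := by
        rw [map_sub, AdjoinSimple.algebraMap_gen, ← IsScalarTower.algebraMap_apply]
      rw [this]
      exact hf a
    have hdeg := deg_eq_one_of_val_gen_sub_lt_one hK hx a P hP
    have hbt : (⊥ : Subalgebra k (IsLocalRing.ResidueField ↥P.O)) = ⊤ :=
      Subalgebra.bot_eq_top_of_finrank_eq_one hdeg
    refine ⟨fun r => ?_⟩
    have hr : r ∈ (⊥ : Subalgebra k (IsLocalRing.ResidueField ↥P.O)) := by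
      rw [hbt]; exact Algebra.mem_top
    obtain ⟨c, rfl⟩ := Algebra.mem_bot.1 hr
    exact isSeparable_algebraMap c

end Final

end Groth.Agent.Lib.H40FunFld
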