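import Groth.Agent.Lib.H40FunFldNonsingST5
import Groth.Agent.Lib.H40FunFldSepConst
import Mathlib.RingTheory.Unramified.Field

set_option autoImplicit false
set_option linter.style.haveILetI false
set_option linter.unusedSectionVars false
open FunFld Polynomial

namespace Groth.Agent.Lib.H40FunFld

open IntermediateField TensorProduct

universe u v w

section SepRes

attribute [-instance] IsLocalRing.ResidueField.algebra IsLocalRing.instModuleResidueFieldOfAlgebra

variable {k k' : Type u} {K : Type v} [Field k] [Field k'] [Field K]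
  [Algebra k k'] [Algebra k K]

/-- The residue map of a place as a `k`-algebra homomorphism. -/
noncomputable def resAlg (P : FunFld.Place k K) : P.O →ₐ[k] IsLocalRing.ResidueField P.O :=
  { IsLocalRing.residue P.O with commutes' := fun _ => rfl }

/-- The inclusion of the valuation ring as a `k`-algebra homomorphism. -/
def inclAlg (P : FunFld.Place k K) : P.O →ₐ[k] K :=
  { P.O.subtype with commutes' := fun _ => rfl }

theorem isReduced_tensor_residueField (hK : FunFld.IsFunctionField k K) (P : FunFld.Place k K)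
    [Algebra.IsSeparable k (IsLocalRing.ResidueField P.O)] :
    IsReduced (k' ⊗[k] IsLocalRing.ResidueField P.O) := by
  have hfin := finiteDimensional_residueField hK P
  haveI hfin' : @Module.Finite k (IsLocalRing.ResidueField P.O) _ _
      (@Algebra.toModule k (IsLocalRing.ResidueField P.O) _ _ (Place.algRes P)) := hfin
  haveI : Algebra.FiniteType k (IsLocalRing.ResidueField P.O) := inferInstance
  haveI : Algebra.EssFiniteType k (IsLocalRing.ResidueField P.O) := inferInstance
  haveI : Algebra.FormallyUnramified k (IsLocalRing.ResidueField P.O) :=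
    Algebra.FormallyUnramified.of_isSeparable k (IsLocalRing.ResidueField P.O)
  exact Algebra.FormallyUnramified.isReduced_of_field k' (k' ⊗[k] IsLocalRing.ResidueField P.O)

variable {K' : Type v} [Field K'] [Algebra K K'] [Algebra k' K'] [Algebra k K']
  [IsScalarTower k k' K'] [IsScalarTower k K K']

/-- The canonical map `k' ⊗ O_P → K'`. -/
noncomputable def tauAlg (P : FunFld.Place k K) : k' ⊗[k] P.O →ₐ[k] K' :=
  (Algebra.TensorProduct.productMap (IsScalarTower.toAlgHom k k' K')
    (IsScalarTower.toAlgHom k K K')).comp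
    (Algebra.TensorProduct.map (AlgHom.id k k') (inclAlg P))

theorem tauAlg_tmul (P : FunFld.Place k K) (c : k') (a : P.O) :
    tauAlg (K' := K') P (c ⊗ₜ[k] a) = algebraMap k' K' c * algebraMap K K' (a : K) := by
  unfold tauAlg
  rw [AlgHom.comp_apply, Algebra.TensorProduct.map_tmul,
    Algebra.TensorProduct.productMap_apply_tmul]
  rfl

theorem tauAlg_injective (P : FunFld.Place k K)
    (h : Function.Injective (Algebra.TensorProduct.productMap
      (IsScalarTower.toAlgHom k k' K') (IsScalarTower.toAlgHom k K K'))) :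
    Function.Injective (tauAlg (k' := k') (K' := K') P) := by
  unfold tauAlg
  have h1 : Function.Injective (Algebra.TensorProduct.map (AlgHom.id k k') (inclAlg P)) :=
    Module.Flat.lTensor_preserves_injective_linearMap (M := k') (inclAlg P).toLinearMap
      (fun a b hab => Subtype.ext hab)
  exact h.comp h1

/-- Every element of `k' ⊗ K` becomes integral after multiplying by a power of a uniformizer. -/
theorem exists_pow_mul_mem_range (P : FunFld.Place k K) {π : K} (hπ : P.1 π = WithZero.exp (-1 : ℤ))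
    (x : k' ⊗[k] K) : ∃ (n : ℕ) (t : k' ⊗[k] P.O),
      Algebra.TensorProduct.map (AlgHom.id k k') (inclAlg P) t = ((1 : k') ⊗ₜ[k] (π ^ n)) * x := by
  have hπ1 : π ∈ P.O := by
    change P.1 π ≤ 1
    rw [hπ]
    exact (WithZero.exp_le_exp.2 (by norm_num : (-1 : ℤ) ≤ 0)).trans (le_of_eq WithZero.exp_zero)
  have key : ∀ (n j : ℕ) (t : k' ⊗[k] P.O) (x : k' ⊗[k] K),
      Algebra.TensorProduct.map (AlgHom.id k k') (inclAlg P) t = ((1 : k') ⊗ₜ[k] (π ^ n)) * x →
      ∃ t' : k' ⊗[k] P.O, Algebra.TensorProduct.map (AlgHom.id k k') (inclAlg P) t' =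
        ((1 : k') ⊗ₜ[k] (π ^ (n + j))) * x := by
    intro n j t x ht
    refine ⟨((1 : k') ⊗ₜ[k] ((⟨π, hπ1⟩ : P.O) ^ j)) * t, ?_⟩
    rw [map_mul, ht, Algebra.TensorProduct.map_tmul, ← mul_assoc,
      Algebra.TensorProduct.tmul_mul_tmul, mul_one, map_pow]
    congr 2
    change π ^ j * π ^ n = _
    rw [← pow_add, add_comm]
  induction x using TensorProduct.induction_on with
  | zero => exact ⟨0, 0, by simp⟩
  | tmul c a =>
    by_cases ha : a = 0
    · exact ⟨0, 0, by simp [ha]⟩
    have hva : P.1 a ≠ 0 := (Valuation.ne_zero_iff _).2 ha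
    set n := (WithZero.log (P.1 a)).toNat with hn
    have hmem : π ^ n * a ∈ P.O := by
      change P.1 (π ^ n * a) ≤ 1
      have h1 : P.1 (π ^ n * a) = WithZero.exp (-(n : ℤ) + WithZero.log (P.1 a)) := by
        rw [map_mul, map_pow, hπ, ← WithZero.exp_nsmul, WithZero.exp_add, WithZero.exp_log hva]
        simp
      rw [h1]
      refine (WithZero.exp_le_exp.2 ?_).trans (le_of_eq WithZero.exp_zero)
      have := Int.self_le_toNat (WithZero.log (P.1 a))
      omega
    refine ⟨n, c ⊗ₜ[k] (⟨π ^ n * a, hmem⟩ : P.O), ?_⟩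
    rw [Algebra.TensorProduct.map_tmul, Algebra.TensorProduct.tmul_mul_tmul, one_mul]
    rfl
  | add x y hx hy =>
    obtain ⟨n, t, ht⟩ := hx
    obtain ⟨m, s, hs⟩ := hy
    obtain ⟨t', ht'⟩ := key n m t x ht
    obtain ⟨s', hs'⟩ := key m n s y hs
    refine ⟨n + m, t' + s', ?_⟩
    rw [map_add, ht', hs', mul_add, add_comm m n]

/-- If `t ^ m = (1 ⊗ π) s` with `π` in the maximal ideal, the reduction of `t` vanishes. -/
theorem map_resAlg_eq_zero_of_pow (P : FunFld.Place k K)
    [IsReduced (k' ⊗[k] IsLocalRing.ResidueField P.O)] {π : P.O}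
    (hπ : P.1 (π : K) < 1) {t s : k' ⊗[k] P.O} {m : ℕ}
    (h : t ^ m = ((1 : k') ⊗ₜ[k] π) * s) :
    Algebra.TensorProduct.map (AlgHom.id k k') (resAlg P) t = 0 := by
  apply IsNilpotent.eq_zero
  refine ⟨m, ?_⟩
  rw [← map_pow, h, map_mul, Algebra.TensorProduct.map_tmul]
  have : resAlg P π = 0 := (residue_eq_zero_iff P π).2 hπ
  rw [this, TensorProduct.tmul_zero, zero_mul]

/-- Coordinates of an element with vanishing reduction lie in the maximal ideal. -/
theorem coords_val_lt_one (P : FunFld.Place k K) {ι : Type*} [Fintype ι]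
    (b : Module.Basis ι k k') (c : ι → P.O)
    (h : Algebra.TensorProduct.map (AlgHom.id k k') (resAlg P) (∑ i, b i ⊗ₜ[k] c i) = 0) (i : ι) :
    P.1 (c i : K) < 1 := by
  classical
  rw [map_sum] at h
  simp only [Algebra.TensorProduct.map_tmul, AlgHom.coe_id, id_eq] at h
  have h2 := TensorProduct.sum_tmul_basis_left_eq_zero b
    (Finsupp.equivFunOnFinite.symm (fun i => resAlg P (c i)))
    (by
      rw [Finsupp.sum_fintype _ _ (fun i => by simp)]
      simpa using h)
  have h3 := congrArg (fun f => f i) (congrArg Finsupp.equivFunOnFinite h2)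
  rw [Equiv.apply_symm_apply] at h3
  exact (residue_eq_zero_iff P (c i)).1 h3

/-- Key step: if `τ t = π u` with `u` integral over `O_P`, then `u` is in the image of `τ`. -/
theorem exists_tauAlg_eq_of_isIntegral [FiniteDimensional k k'] (P : FunFld.Place k K)
    [IsReduced (k' ⊗[k] IsLocalRing.ResidueField P.O)]
    [Algebra P.O K'] [IsScalarTower P.O K K']
    (hinj : Function.Injective (Algebra.TensorProduct.productMap
      (IsScalarTower.toAlgHom k k' K') (IsScalarTower.toAlgHom k K K')))
    {π : K} (hπ : P.1 π = WithZero.exp (-1 : ℤ)) (t : k' ⊗[k] P.O) {u : K'}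
    (hu : IsIntegral P.O u) (htu : tauAlg P t = algebraMap K K' π * u) :
    ∃ t' : k' ⊗[k] P.O, tauAlg P t' = u := by
  classical
  have hπ0 : π ≠ 0 := by
    intro h0; rw [h0, map_zero] at hπ; exact WithZero.exp_ne_zero hπ.symm
  have hπlt : P.1 π < 1 := by
    rw [hπ]
    exact (WithZero.exp_lt_exp.2 (by norm_num : (-1 : ℤ) < 0)).trans_le (le_of_eq WithZero.exp_zero)
  have hπ1 : π ∈ P.O := hπlt.le
  set πO : P.O := ⟨π, hπ1⟩ with hπO
  have hτ1 : ∀ a : P.O, tauAlg (k' := k') (K' := K') P ((1 : k') ⊗ₜ[k] a) =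
      algebraMap K K' (a : K) := by
    intro a; rw [tauAlg_tmul, map_one, one_mul]
  have halg : ∀ a : P.O, algebraMap P.O K' a = algebraMap K K' (a : K) := fun a =>
    IsScalarTower.algebraMap_apply P.O K K' a
  obtain ⟨p, hp, hpu⟩ := hu
  set m := p.natDegree with hm
  have hm0 : m ≠ 0 := by
    intro h0
    have h1 : p = 1 := Polynomial.eq_one_of_monic_natDegree_zero hp (hm ▸ h0)
    rw [h1, eval₂_one] at hpu
    exact one_ne_zero hpu
  -- the integral equation
  have hsum : u ^ m + ∑ i ∈ Finset.range m, algebraMap K K' (p.coeff i : K) * u ^ i = 0 := by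
    rw [eval₂_eq_sum_range, Finset.sum_range_succ, ← hm, hp.coeff_natDegree, map_one, one_mul,
      add_comm] at hpu
    rw [← hpu]
    congr 1
    exact Finset.sum_congr rfl fun i _ => by rw [halg]
  set s : k' ⊗[k] P.O :=
    -∑ i ∈ Finset.range m, ((1 : k') ⊗ₜ[k] (p.coeff i * πO ^ (m - 1 - i))) * t ^ i with hs
  have hts : t ^ m = ((1 : k') ⊗ₜ[k] πO) * s := by
    apply tauAlg_injective P hinj
    rw [map_pow, htu, map_mul, hτ1, hs, map_neg, map_sum, mul_pow]
    have hum : u ^ m = -∑ i ∈ Finset.range m, algebraMap K K' (p.coeff i : K) * u ^ i :=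
      eq_neg_of_add_eq_zero_left hsum
    rw [hum, mul_neg, mul_neg, Finset.mul_sum, Finset.mul_sum]
    congr 1
    refine Finset.sum_congr rfl fun i hi => ?_
    rw [Finset.mem_range] at hi
    rw [map_mul, hτ1, map_pow, htu, mul_pow]
    have h1 : ((p.coeff i * πO ^ (m - 1 - i) : P.O) : K) = (p.coeff i : K) * π ^ (m - 1 - i) := rfl
    rw [h1, map_mul, map_pow]
    have h2 : m = (m - 1 - i) + 1 + i := by omega
    conv_lhs => rw [h2, pow_add, pow_succ]
    change _ = algebraMap K K' π * _
    ring
  have hred := map_resAlg_eq_zero_of_pow P (π := πO) hπlt hts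
  let b := Module.finBasis k k'
  obtain ⟨c, hc⟩ := TensorProduct.eq_repr_basis_left b t
  rw [Finsupp.sum_fintype _ _ (fun i => by simp)] at hc
  rw [← hc] at hred
  have hcv := coords_val_lt_one P b (fun i => c i) hred
  have hcO : ∀ i, (c i : K) / π ∈ P.O := by
    intro i
    change P.1 _ ≤ 1
    rw [map_div₀, hπ, div_le_iff₀ (zero_lt_iff.2 WithZero.exp_ne_zero), one_mul]
    exact lt_one_iff_le_exp_neg_one.1 (hcv i)
  refine ⟨∑ i, b i ⊗ₜ[k] (⟨(c i : K) / π, hcO i⟩ : P.O), ?_⟩
  have hπK : algebraMap K K' π ≠ 0 := (_root_.map_ne_zero _).2 hπ0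
  apply mul_left_cancel₀ hπK
  rw [← htu, ← hc, map_sum, map_sum, Finset.mul_sum]
  refine Finset.sum_congr rfl fun i _ => ?_
  rw [tauAlg_tmul, tauAlg_tmul]
  change _ * (_ * algebraMap K K' ((c i : K) / π)) = _
  rw [map_div₀]
  field_simp

theorem tauAlg_mem_adjoin (P : FunFld.Place k K) [Algebra P.O K'] [IsScalarTower P.O K K']
    (t : k' ⊗[k] P.O) :
    tauAlg P t ∈ Algebra.adjoin P.O (Set.range (algebraMap k' K')) := by
  induction t using TensorProduct.induction_on with
  | zero => rw [map_zero]; exact Subalgebra.zero_mem _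
  | tmul c a =>
    rw [tauAlg_tmul]
    have h1 : algebraMap k' K' c * algebraMap K K' (a : K) = a • algebraMap k' K' c := by
      rw [Algebra.smul_def, IsScalarTower.algebraMap_apply P.O K K' a, mul_comm]
      rfl
    rw [h1]
    exact Subalgebra.smul_mem _ (Algebra.subset_adjoin (Set.mem_range_self c)) a
  | add x y hx hy => rw [map_add]; exact Subalgebra.add_mem _ hx hy

/-- A place with separable residue field is nonsingular: for every finite constant extension the
integral closure of `O_P` in `k' ⊗ K` is `O_P[k']`. -/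
theorem integralClosure_eq_adjoin_of_isSeparable_residue [FiniteDimensional k k']
    (hK : FunFld.IsFunctionField k K)
    (h : Function.Bijective (Algebra.TensorProduct.productMap
      (IsScalarTower.toAlgHom k k' K') (IsScalarTower.toAlgHom k K K')))
    (P : FunFld.Place k K) [Algebra.IsSeparable k (IsLocalRing.ResidueField P.O)]
    [Algebra P.O K'] [IsScalarTower P.O K K'] :
    integralClosure P.O K' = Algebra.adjoin P.O (Set.range (algebraMap k' K')) := by
  haveI := isReduced_tensor_residueField (k' := k') hK P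
  haveI tow : IsScalarTower k P.O K' := IsScalarTower.of_algebraMap_eq (fun c => by
    rw [IsScalarTower.algebraMap_apply P.O K K', IsScalarTower.algebraMap_apply k K K']; rfl)
  have hint : ∀ c : k', IsIntegral P.O (algebraMap k' K' c) := by
    intro c
    have h1 : IsIntegral k c := Algebra.IsIntegral.isIntegral c
    have h2 : IsIntegral k (algebraMap k' K' c) := h1.map (IsScalarTower.toAlgHom k k' K')
    exact h2.tower_top
  obtain ⟨π, hπ⟩ := exists_uniformizer P
  have hπlt : P.1 π < 1 := by
    rw [hπ]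
    exact (WithZero.exp_lt_exp.2 (by norm_num : (-1 : ℤ) < 0)).trans_le (le_of_eq WithZero.exp_zero)
  have hπ1 : π ∈ P.O := hπlt.le
  have hπint : ∀ n : ℕ, IsIntegral P.O (algebraMap K K' π ^ n) := by
    intro n
    have : algebraMap K K' π ^ n = algebraMap P.O K' ((⟨π, hπ1⟩ : P.O) ^ n) := by
      rw [map_pow, IsScalarTower.algebraMap_apply P.O K K']
      rfl
    rw [this]
    exact isIntegral_algebraMap
  have key : ∀ (n : ℕ) (z : K'), IsIntegral P.O z → ∀ t : k' ⊗[k] P.O,
      tauAlg P t = algebraMap K K' π ^ n * z → ∃ t' : k' ⊗[k] P.O, tauAlg P t' = z := by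
    intro n
    induction n with
    | zero => intro z _ t ht; exact ⟨t, by rw [ht, pow_zero, one_mul]⟩
    | succ n ih =>
      intro z hz t ht
      rw [pow_succ', mul_assoc] at ht
      obtain ⟨t', ht'⟩ := exists_tauAlg_eq_of_isIntegral P h.1 hπ t ((hπint n).mul hz) ht
      exact ih z hz t' ht'
  apply le_antisymm
  · intro z hz
    obtain ⟨x, rfl⟩ := h.2 z
    obtain ⟨n, t, ht⟩ := exists_pow_mul_mem_range (k' := k') P hπ x
    have ht2 : tauAlg P t = algebraMap K K' π ^ n *
        Algebra.TensorProduct.productMap (IsScalarTower.toAlgHom k k' K')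
          (IsScalarTower.toAlgHom k K K') x := by
      unfold tauAlg
      rw [AlgHom.comp_apply, ht, map_mul, Algebra.TensorProduct.productMap_apply_tmul, map_one,
        one_mul, map_pow]
      rfl
    obtain ⟨t', ht'⟩ := key n _ hz t ht2
    rw [← ht']
    exact tauAlg_mem_adjoin P t'
  · apply Algebra.adjoin_le
    rintro _ ⟨c, rfl⟩
    exact hint c

end SepRes

end Groth.Agent.Lib.H40FunFld
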