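import Groth.Agent.Lib.H40FunFldPlucker

set_option autoImplicit false
open FunFld Polynomial

namespace Groth.Agent.Lib.H40FunFld

open Groth.Agent.Lib.H40QuotChain IntermediateField

universe u v w
variable {k : Type u} {K : Type v} [Field k] [Field K] [Algebra k K]

theorem vdim_le_finrank (hK : FunFld.IsFunctionField k K) {V : Submodule k K}
    {D : FunFld.Divisor k K} (hV : V ≤ FunFld.L D) (P : FunFld.Place k K) (n : ℕ) :
    vdim V D P n ≤ Module.finrank k ↥V := by
  unfold vdim
  have : FiniteDimensional k ↥V := by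
    have := finiteDimensional_L hK D
    exact Submodule.finiteDimensional_of_le hV
  exact Submodule.finrank_mono inf_le_left

/-- On a curve of positive genus the weight of a `g^r_d` at any place is at most
`(r + 1) (d - r) - r`. -/
theorem two_mul_wsum_le_of_genus_pos (hK : FunFld.IsFunctionField k K)
    (hg : 0 < FunFld.genus k K) {d r : ℕ} {D : FunFld.Divisor k K} (hD : D.deg = d)
    {V : Submodule k K} (hV : V ≤ FunFld.L D) (hVr : Module.finrank k ↥V = r + 1)
    {P : FunFld.Place k K} (hP : P.deg = 1) :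
    2 * wsum V D d P + r * (r + 1) + 2 * r ≤ 2 * ((r + 1) * d) := by
  set a : ℕ → ℕ := vdim V D P with ha
  have ha0 : a 0 = r + 1 := by rw [ha, vdim_zero hV, hVr]
  have hstep : ∀ n, a n ≤ a (n + 1) + 1 := fun n => vdim_le_succ_add_one hK V D hP n
  have hle : ∀ n, a n ≤ r + 1 := fun n => by
    rw [← hVr]; exact vdim_le_finrank hK hV P n
  have hdeg : ∀ n : ℕ, (D - Finsupp.single P (n : ℤ)).deg = (d : ℤ) - n := by
    intro n; rw [deg_sub, deg_single, hP, hD]; simp
  -- `a d ≤ 1`
  have had : a d ≤ 1 := by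
    have h1 := finrank_inf_L_le_ell hK V (D - Finsupp.single P (d : ℤ))
    by_cases h0 : FunFld.ell (D - Finsupp.single P (d : ℤ)) = 0
    · change a d ≤ _ at h1; omega
    · have h2 := ell_le_deg_add_one hK (D - Finsupp.single P (d : ℤ)) (by omega)
      rw [hdeg] at h2
      change a d ≤ _ at h1
      omega
  rcases Nat.eq_zero_or_pos d with hd0 | hdpos
  · -- degree zero
    subst hd0
    have : r = 0 := by omega
    subst this
    simp [wsum]
  -- `a (d - 1) ≤ 1` in positive genus
  have had1 : a (d - 1) ≤ 1 := by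
    have h1 := finrank_inf_L_le_ell hK V (D - Finsupp.single P ((d - 1 : ℕ) : ℤ))
    have h2 := ell_le_one_of_deg_eq_one hK hg (D - Finsupp.single P ((d - 1 : ℕ) : ℤ))
      (by rw [hdeg]; push_cast [Nat.cast_sub hdpos]; ring)
    change a (d - 1) ≤ _ at h1
    omega
  -- iterate the step bound
  have hiter : ∀ m n, a n ≤ a (n + m) + m := by
    intro m
    induction m with
    | zero => intro n; simp
    | succ m ih =>
      intro n
      have h1 := ih n
      have h2 := hstep (n + m)
      have e : n + (m + 1) = n + m + 1 := by omega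
      rw [e]
      omega
  have hrd : r + 1 ≤ d := by
    have := hiter (d - 1) 0
    rw [zero_add, ha0] at this
    omega
  -- the complementary sequence
  set s : ℕ → ℕ := fun j => r + 1 - a (d - j) with hs
  have hsstep : ∀ j, s (j + 1) ≤ s (j + 1 + 1) + 1 := by
    intro j
    simp only [hs]
    by_cases hj : j + 1 < d
    · have h1 := hstep (d - (j + 1 + 1))
      have e : d - (j + 1 + 1) + 1 = d - (j + 1) := by omega
      rw [e] at h1
      omega
    · have e1 : d - (j + 1) = 0 := by omega
      have e2 : d - (j + 1 + 1) = 0 := by omega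
      rw [e1, e2]; omega
  have hs1 : r ≤ s 1 := by
    simp only [hs]; omega
  have hs0 : r ≤ s 0 := by
    simp only [hs, Nat.sub_zero]; omega
  have hgauss := gauss_le_two_mul_sum r (fun j => s (j + 1)) hsstep hs1
  -- sum of `a` plus sum of `s` is `(r + 1) d`
  have hsum : (∑ j ∈ Finset.range d, a (j + 1)) + ∑ j ∈ Finset.range d, s j = (r + 1) * d := by
    rw [← Finset.sum_range_reflect (fun j => s j) d, ← Finset.sum_add_distrib]
    have : ∀ j ∈ Finset.range d, a (j + 1) + s (d - 1 - j) = r + 1 := by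
      intro j hj
      rw [Finset.mem_range] at hj
      simp only [hs]
      have e : d - (d - 1 - j) = j + 1 := by omega
      rw [e]
      have := hle (j + 1)
      omega
    rw [Finset.sum_congr rfl this, Finset.sum_const, Finset.card_range, smul_eq_mul, mul_comm]
  obtain ⟨e, rfl⟩ : ∃ e, d = e + 1 := ⟨d - 1, by omega⟩
  rw [Finset.sum_range_succ' (fun j => s j)] at hsum
  have h2 : ∑ j ∈ Finset.range r, s (j + 1) ≤ ∑ j ∈ Finset.range e, s (j + 1) :=
    Finset.sum_le_sum_of_subset (Finset.range_mono (by omega))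
  rw [wsum_eq_sum_vdim]
  change 2 * (∑ j ∈ Finset.range (e + 1), a (j + 1)) + _ + _ ≤ _
  omega


/-- Along a chain of curves ending in a curve of positive genus, every aspect has weight at
least `r` at its forward node. -/
theorem chain_tail_backward [IsAlgClosed k] {n : ℕ} {U : Fin (n + 1) → Type v}
    [∀ l, Field (U l)] [∀ l, Algebra k (U l)]
    (hU : ∀ l, FunFld.IsFunctionField k (U l)) {d r : ℕ}
    (D : ∀ l, FunFld.Divisor k (U l)) (hD : ∀ l, (D l).deg = d)
    (V : ∀ l, Submodule k (U l)) (hV : ∀ l, V l ≤ FunFld.L (D l))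
    (hVr : ∀ l, Module.finrank k ↥(V l) = r + 1)
    (A B : ∀ l, FunFld.Place k (U l))
    (hAB : ∀ l : Fin (n + 1), 0 < (l : ℕ) → (l : ℕ) < n → A l ≠ B l)
    (hcomp : ∀ (l : Fin n) (m : ℕ), m ≤ d + 1 →
      Module.finrank k ↥((V l.castSucc) ⊓ FunFld.L ((D l.castSucc) -
        Finsupp.single (B l.castSucc) ((m : ℤ)))) +
      Module.finrank k ↥((V l.succ) ⊓ FunFld.L ((D l.succ) -
        Finsupp.single (A l.succ) ((d : ℤ) + 1 - m))) = r + 1)
    (hpos : ∀ l : Fin (n + 1), (l : ℕ) = n → 0 < FunFld.genus k (U l)) :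
    ∀ (m : ℕ) (l : Fin (n + 1)), (l : ℕ) + m + 1 = n →
      r * (r + 1) + 2 * r ≤ 2 * wsum (V l) (D l) d (B l) := by
  intro m
  induction m with
  | zero =>
    intro l hl
    let lf : Fin n := ⟨(l : ℕ), by omega⟩
    have e1 : lf.castSucc = l := Fin.ext (by simp [lf])
    have e2 : (lf.succ : ℕ) = n := by simp [lf]; omega
    have h1 := wsum_add_wsum_of_compatible (V lf.castSucc) (D lf.castSucc)
      (V lf.succ) (D lf.succ) d r (B lf.castSucc) (A lf.succ) (hcomp lf)
    have h2 := two_mul_wsum_le_of_genus_pos (hU lf.succ) (hpos lf.succ e2) (hD lf.succ)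
      (hV lf.succ) (hVr lf.succ) (deg_eq_one_of_isAlgClosed (hU lf.succ) (A lf.succ))
    rw [← e1]
    omega
  | succ m ih =>
    intro l hl
    let lf : Fin n := ⟨(l : ℕ), by omega⟩
    have e1 : lf.castSucc = l := Fin.ext (by simp [lf])
    have e2 : (lf.succ : ℕ) = (l : ℕ) + 1 := by simp [lf]
    have h0 := ih lf.succ (by rw [e2]; omega)
    have h1 := wsum_add_wsum_of_compatible (V lf.castSucc) (D lf.castSucc)
      (V lf.succ) (D lf.succ) d r (B lf.castSucc) (A lf.succ) (hcomp lf)
    have h2 := wsum_add_wsum_le (hU lf.succ) (D lf.succ) (hD lf.succ) (V lf.succ) (hVr lf.succ)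
      (hAB lf.succ (by rw [e2]; omega) (by rw [e2]; omega))
    rw [← e1]
    omega

end Groth.Agent.Lib.H40FunFld
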