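import Groth.Agent.Lib.H40FunFldTail
import Mathlib.LinearAlgebra.Matrix.NonsingularInverse
import Mathlib.LinearAlgebra.Matrix.ToLinearEquiv

set_option autoImplicit false
open FunFld Polynomial

namespace Groth.Agent.Lib.H40FunFld

open Groth.Agent.Lib.H40QuotChain IntermediateField

universe u v w
variable {k : Type u} {K : Type v} [Field k] [Field K] [Algebra k K]

/-- The Wronskian matrix of a family of functions with respect to a derivation. -/
noncomputable def wronskianMatrix (δ : Derivation k K K) {m : ℕ} (f : Fin m → K) :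
    Matrix (Fin m) (Fin m) K :=
  Matrix.of fun i j => ((δ : K →ₗ[k] K) ^ (i : ℕ)) (f j)

theorem wronskianMatrix_apply (δ : Derivation k K K) {m : ℕ} (f : Fin m → K) (i j : Fin m) :
    wronskianMatrix δ f i j = ((δ : K →ₗ[k] K) ^ (i : ℕ)) (f j) := rfl

/-- The Wronskian of a `k`-linearly independent family is nonzero when the constants of the
derivation are exactly `k`. -/
theorem wronskian_det_ne_zero (δ : Derivation k K K)
    (hker : ∀ f : K, δ f = 0 → ∃ c : k, f = algebraMap k K c) :
    ∀ (m : ℕ) (f : Fin m → K), LinearIndependent k f → (wronskianMatrix δ f).det ≠ 0 := by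
  intro m
  induction m with
  | zero =>
    intro f _
    rw [Matrix.det_isEmpty]; exact one_ne_zero
  | succ m ih =>
    intro f hf hdet
    obtain ⟨v, hv0, hMv⟩ := Matrix.exists_mulVec_eq_zero_iff.2 hdet
    obtain ⟨j₀, hj₀⟩ := Function.ne_iff.1 hv0
    rw [Pi.zero_apply] at hj₀
    set u : Fin (m + 1) → K := fun j => v j / v j₀ with hu
    have hu₀ : u j₀ = 1 := div_self hj₀
    have hrow : ∀ i : Fin (m + 1), ∑ j, ((δ : K →ₗ[k] K) ^ (i : ℕ)) (f j) * u j = 0 := by
      intro i
      have h1 := congrFun hMv i
      simp only [Matrix.mulVec, dotProduct, wronskianMatrix_apply, Pi.zero_apply] at h1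
      have h2 : ∑ j, ((δ : K →ₗ[k] K) ^ (i : ℕ)) (f j) * u j =
          (∑ j, ((δ : K →ₗ[k] K) ^ (i : ℕ)) (f j) * v j) * (v j₀)⁻¹ := by
        rw [Finset.sum_mul]
        exact Finset.sum_congr rfl fun j _ => by rw [hu]; ring
      rw [h2, h1, zero_mul]
    have hrow' : ∀ i : Fin m, ∑ j, ((δ : K →ₗ[k] K) ^ (i : ℕ)) (f j) * δ (u j) = 0 := by
      intro i
      have h1 := congrArg δ (hrow i.castSucc)
      rw [map_zero, map_sum] at h1
      have h2 := hrow i.succ
      have h3 : ∀ j, δ (((δ : K →ₗ[k] K) ^ ((i.castSucc : Fin (m + 1)) : ℕ)) (f j) * u j) =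
          ((δ : K →ₗ[k] K) ^ ((i.succ : Fin (m + 1)) : ℕ)) (f j) * u j +
            ((δ : K →ₗ[k] K) ^ (i : ℕ)) (f j) * δ (u j) := by
        intro j
        rw [Derivation.leibniz, Fin.val_succ, Fin.val_castSucc, pow_succ', Module.End.mul_apply]
        simp only [smul_eq_mul, Derivation.coeFn_coe]
        ring
      rw [Finset.sum_congr rfl (fun j _ => h3 j), Finset.sum_add_distrib, h2, zero_add] at h1
      exact h1
    have hli : LinearIndependent k (f ∘ j₀.succAbove) :=
      hf.comp _ Fin.succAbove_right_injective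
    have hdet' := ih (f ∘ j₀.succAbove) hli
    have hzero : (fun l : Fin m => δ (u (j₀.succAbove l))) = 0 := by
      apply Matrix.eq_zero_of_mulVec_eq_zero hdet'
      funext i
      simp only [Matrix.mulVec, dotProduct, wronskianMatrix_apply, Pi.zero_apply,
        Function.comp_apply]
      have h1 := hrow' i
      rw [Fin.sum_univ_succAbove _ j₀, hu₀, Derivation.map_one_eq_zero, mul_zero, zero_add] at h1
      exact h1
    have hconst : ∀ j, δ (u j) = 0 := by
      intro j
      by_cases hj : j = j₀
      · rw [hj, hu₀, Derivation.map_one_eq_zero]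
      · obtain ⟨l, rfl⟩ := Fin.exists_succAbove_eq hj
        exact congrFun hzero l
    choose c hc using fun j => hker (u j) (hconst j)
    have h0 := hrow 0
    simp only [Fin.val_zero, pow_zero, Module.End.one_apply] at h0
    have h1 : ∑ j, c j • f j = 0 := by
      rw [← h0]
      exact Finset.sum_congr rfl fun j _ => by rw [hc j, Algebra.smul_def, mul_comm]
    have h2 := Fintype.linearIndependent_iff.1 hf c h1 j₀
    have h3 := hc j₀
    rw [hu₀, h2, map_zero] at h3
    exact one_ne_zero h3

/-- The determinant of a matrix with entries in the valuation ring lies in the valuation ring. -/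
theorem val_det_le_one (P : FunFld.Place k K) {m : ℕ} (A : Matrix (Fin m) (Fin m) K)
    (hA : ∀ i j, P.1 (A i j) ≤ 1) : P.1 A.det ≤ 1 := by
  rw [Matrix.det_apply]
  apply Valuation.map_sum_le
  intro σ _
  have h1 : P.1 (∏ i, A (σ i) i) ≤ 1 := by
    rw [map_prod]
    exact Finset.prod_le_one' fun i _ => hA _ _
  rcases Int.units_eq_one_or (Equiv.Perm.sign σ) with h | h
  · rw [h, one_smul]; exact h1
  · rw [h, Units.neg_smul, one_smul, Valuation.map_neg]; exact h1

end Groth.Agent.Lib.H40FunFld
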