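import Groth.Agent.Lib.H40FunFldEll
import Groth.Agent.Lib.H40FunFldWronskian

set_option autoImplicit false
open FunFld Polynomial

namespace Groth.Agent.Lib.H40FunFld

open Groth.Agent.Lib.H40QuotChain IntermediateField

universe u v w
variable {k : Type u} {K : Type v} [Field k] [Field K] [Algebra k K]

/-- On a curve of genus one in characteristic zero, for fixed `P₀` and `m ≥ 1` only finitely many
places `Q` have `m Q - m P₀` principal: the `m`-torsion is finite. -/
theorem finite_torsion [IsAlgClosed k] [CharZero k] (hK : FunFld.IsFunctionField k K)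
    (hg1 : FunFld.genus k K = 1) (P₀ : FunFld.Place k K) {m : ℕ} (hm : 1 ≤ m) :
    Set.Finite {Q : FunFld.Place k K | Q ≠ P₀ ∧ ∃ q : K, q ≠ 0 ∧
      FunFld.div k q = Finsupp.single Q (m : ℤ) - Finsupp.single P₀ (m : ℤ)} := by
  classical
  have hP := deg_eq_one_of_isAlgClosed hK P₀
  obtain ⟨x, y, hpol, hw⟩ := exists_isShortWeierstrass hK hg1 P₀ hP
  obtain ⟨δ, hδx, hδy⟩ := exists_derivation_weierstrass hK hw
  have hker : ∀ f : K, δ f = 0 → ∃ c : k, f = algebraMap k K c :=
    fun f hf => hw.exists_const_of_deriv_eq_zero hK δ hδx hf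
  have hell := ell_single_of_genus_one hK hg1 hP (n := m) (by omega)
  have hfr : Module.finrank k
      ↥(FunFld.L (Finsupp.single P₀ (m : ℤ) : FunFld.Divisor k K)) = m := by
    unfold FunFld.ell at hell; exact_mod_cast hell
  have := finiteDimensional_L hK (Finsupp.single P₀ (m : ℤ) : FunFld.Divisor k K)
  let b := Module.finBasisOfFinrankEq k
    ↥(FunFld.L (Finsupp.single P₀ (m : ℤ) : FunFld.Divisor k K)) hfr
  set f : Fin m → K := fun j => ((b j : ↥(FunFld.L (Finsupp.single P₀ (m : ℤ) :
    FunFld.Divisor k K))) : K) with hf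
  have hli : LinearIndependent k f :=
    b.linearIndependent.map' (Submodule.subtype _) (Submodule.ker_subtype _)
  have hW := wronskian_det_ne_zero δ hker m f hli
  set W := (wronskianMatrix δ f).det with hWdef
  refine Set.Finite.subset (Finset.finite_toSet (FunFld.div k W).support) ?_
  rintro Q ⟨hQ, q, hq0, hdiv⟩
  rw [Finset.mem_coe, Finsupp.mem_support_iff, div_apply hK]
  suffices hlt : Q.1 W < 1 by
    rw [ord_ne_zero_iff Q hW]; exact hlt.ne
  have hqQ : Q.1 q = WithZero.exp (-(m : ℤ)) := by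
    rw [val_eq_exp_neg_ord Q hq0, ← div_apply hK, hdiv, Finsupp.sub_apply, Finsupp.single_apply,
      Finsupp.single_apply, if_pos rfl, if_neg (Ne.symm hQ), sub_zero]
  have hqL : q ∈ FunFld.L (Finsupp.single P₀ (m : ℤ) : FunFld.Divisor k K) := by
    rw [mem_L_iff_nonneg hK _ hq0, hdiv, add_sub_cancel]
    rw [Finsupp.le_def]
    intro R
    rw [Finsupp.zero_apply, Finsupp.single_apply]
    split_ifs <;> omega
  set c := b.repr ⟨q, hqL⟩ with hc
  have hqsum : q = ∑ j, c j • f j := by
    have h1 := b.sum_repr ⟨q, hqL⟩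
    calc q = ((∑ i, c i • b i : ↥(FunFld.L (Finsupp.single P₀ (m : ℤ) :
          FunFld.Divisor k K))) : K) := (congrArg Subtype.val h1).symm
      _ = ∑ j, c j • f j := by
          rw [Submodule.coe_sum]
          exact Finset.sum_congr rfl fun j _ => by rw [Submodule.coe_smul]
  obtain ⟨j₀, hj₀⟩ : ∃ j₀, c j₀ ≠ 0 := by
    by_contra hcon
    push Not at hcon
    apply hq0
    rw [hqsum]
    exact Finset.sum_eq_zero fun j _ => by rw [hcon j, zero_smul]
  set c' : Fin m → K := fun j => algebraMap k K (c j) with hc'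
  have hMc : ∀ i, (wronskianMatrix δ f).mulVec c' i = ((δ : K →ₗ[k] K) ^ (i : ℕ)) q := by
    intro i
    simp only [Matrix.mulVec, dotProduct, wronskianMatrix_apply]
    rw [hqsum, map_sum]
    refine Finset.sum_congr rfl fun j _ => ?_
    rw [map_smul, Algebra.smul_def, mul_comm]
  have hadj : (wronskianMatrix δ f).adjugate.mulVec ((wronskianMatrix δ f).mulVec c') =
      W • c' := by
    rw [Matrix.mulVec_mulVec, Matrix.adjugate_mul, Matrix.smul_mulVec, Matrix.one_mulVec]
  have hentry : ∀ i j, Q.1 (wronskianMatrix δ f i j) ≤ 1 := by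
    intro i j
    rw [wronskianMatrix_apply]
    apply hw.val_pow_deriv_le_one hK hg1 δ hδx hδy hQ
    exact ((mem_L_single_iff _ _ _).1 (b j).2).2 Q hQ
  have hadjentry : ∀ i j, Q.1 ((wronskianMatrix δ f).adjugate i j) ≤ 1 := by
    intro i j
    rw [Matrix.adjugate_apply]
    apply val_det_le_one
    intro i' j'
    rw [Matrix.updateRow_apply]
    split_ifs with h
    · rw [Pi.single_apply]
      split_ifs
      · rw [map_one]
      · rw [map_zero]; exact zero_le
    · exact hentry i' j'
  have hvan : ∀ i : Fin m, Q.1 (((δ : K →ₗ[k] K) ^ (i : ℕ)) q) < 1 := by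
    intro i
    refine lt_of_le_of_lt (hw.val_pow_deriv_le hK hg1 δ hδx hδy hQ q i) ?_
    rw [hqQ, ← WithZero.exp_add, ← WithZero.exp_zero, WithZero.exp_lt_exp]
    have := i.2
    omega
  have h1 := congrFun hadj j₀
  rw [Pi.smul_apply, smul_eq_mul] at h1
  have h2 : Q.1 (W * c' j₀) < 1 := by
    rw [← h1]
    have h3 : (wronskianMatrix δ f).adjugate.mulVec ((wronskianMatrix δ f).mulVec c') j₀ =
        ∑ i, (wronskianMatrix δ f).adjugate j₀ i * (wronskianMatrix δ f).mulVec c' i := rfl
    rw [h3]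
    apply Valuation.map_sum_lt _ one_ne_zero
    intro i _
    rw [map_mul, hMc i]
    calc Q.1 ((wronskianMatrix δ f).adjugate j₀ i) * Q.1 (((δ : K →ₗ[k] K) ^ (i : ℕ)) q)
        ≤ 1 * Q.1 (((δ : K →ₗ[k] K) ^ (i : ℕ)) q) := mul_le_mul' (hadjentry j₀ i) le_rfl
      _ < 1 := by rw [one_mul]; exact hvan i
  rw [map_mul, hc', val_const Q hj₀, mul_one] at h2
  exact h2

end Groth.Agent.Lib.H40FunFld
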