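/-
The trace dual of the integral closure of `O_P` and the different exponent at a place of residue
degree one (Goldschmidt 3.3): `min_{y ∈ R^*} v_Q(y) = -v_Q(f'(s))`.
-/
import Groth.Agent.Lib.H40FunFldDiffMinpoly
import Groth.Agent.Lib.H40FunFldApprox
import Mathlib.RingTheory.DedekindDomain.Different

set_option autoImplicit false
set_option linter.style.haveILetI false
set_option linter.unusedSectionVars false
open FunFld Polynomial

namespace Groth.Agent.Lib.H40FunFldTraceDual

open Groth.Agent.Lib.H40QuotChain IntermediateField Groth.Agent.Lib.H40FunFld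
  Groth.Agent.Lib.H40FunFldNorm Groth.Agent.Lib.H40FunFldDiffMinpoly

universe u v w

section Basic

variable {k : Type u} [Field k] {K : Type v} [Field K] [Algebra k K]
  {K' : Type w} [Field K'] [Algebra K K'] [Algebra k K'] [IsScalarTower k K K']

theorem exp_neg_lt_one {n : ℤ} (hn : 0 < n) :
    (WithZero.exp (-n) : WithZero (Multiplicative ℤ)) < 1 := by
  rw [← WithZero.exp_zero, WithZero.exp_lt_exp]; omega

/-- A local parameter at `Q` that is a unit at the other places of a finite set. -/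
theorem exists_local_param_unit_elsewhere (Qs : Finset (FunFld.Place k K'))
    (Q : FunFld.Place k K') (hQ : Q ∈ Qs) :
    ∃ s : K', Q.1 s = WithZero.exp (-1 : ℤ) ∧ ∀ Q' ∈ Qs, Q' ≠ Q → Q'.1 s = 1 := by
  classical
  obtain ⟨π, hπ⟩ := exists_uniformizer Q
  obtain ⟨w, hw⟩ := exists_approx Qs (fun Q' => if Q' = Q then π else 1) 2
  have h2 : (WithZero.exp (-((2 : ℕ) : ℤ)) : WithZero (Multiplicative ℤ)) <
      WithZero.exp (-1 : ℤ) := by
    rw [WithZero.exp_lt_exp]; norm_num
  refine ⟨w, ?_, ?_⟩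
  · have h1 := hw Q hQ
    rw [if_pos rfl] at h1
    have h3 : Q.1 (w - π) < Q.1 π := by rw [hπ]; exact lt_of_le_of_lt h1 h2
    have : w = π + (w - π) := by ring
    rw [this, Valuation.map_add_eq_of_lt_left _ h3, hπ]
  · intro Q' hQ' hne
    have h1 := hw Q' hQ'
    rw [if_neg hne] at h1
    have h3 : Q'.1 (w - 1) < Q'.1 1 := by
      rw [map_one]
      exact lt_of_le_of_lt h1 (h2.trans (exp_neg_lt_one one_pos))
    have : w = 1 + (w - 1) := by ring
    rw [this, Valuation.map_add_eq_of_lt_left _ h3, map_one]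


/-- Residue degree one: every element integral at `Q` is congruent modulo `m_Q` to an element
of `O_P`. -/
theorem exists_O_approx (P : FunFld.Place k K) (Q : FunFld.Place k K') [P.1.HasExtension Q.1]
    (hf : Function.Surjective
      (algebraMap (IsLocalRing.ResidueField P.O) (IsLocalRing.ResidueField Q.O)))
    (z : K') (hz : Q.1 z ≤ 1) : ∃ c : P.O, Q.1 (z - algebraMap K K' (c : K)) < 1 := by
  obtain ⟨cbar, hc⟩ := hf (IsLocalRing.residue Q.O ⟨z, hz⟩)
  obtain ⟨c, rfl⟩ := IsLocalRing.residue_surjective cbar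
  refine ⟨c, ?_⟩
  rw [Valuation.HasExtension.algebraMap_residue_eq_residue_algebraMap] at hc
  have h1 : IsLocalRing.residue Q.O (⟨z, hz⟩ - algebraMap P.O Q.O c) = 0 := by
    rw [map_sub, hc, sub_self]
  rw [residue_eq_zero_iff] at h1
  exact h1

/-- Residue degree one: `O_P[s]` is dense in `O_Q` for a local parameter `s` at `Q`. -/
theorem approx_adjoin (P : FunFld.Place k K) (Q : FunFld.Place k K') [P.1.HasExtension Q.1]
    (hf : Function.Surjective
      (algebraMap (IsLocalRing.ResidueField P.O) (IsLocalRing.ResidueField Q.O)))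
    [Algebra P.O K'] [IsScalarTower P.O K K']
    (s : K') (hs : Q.1 s = WithZero.exp (-1 : ℤ)) (N : ℕ) :
    ∀ z : K', Q.1 z ≤ 1 →
      ∃ a ∈ Algebra.adjoin P.O ({s} : Set K'), Q.1 (z - a) ≤ WithZero.exp (-(N : ℤ)) := by
  induction N with
  | zero =>
    intro z hz
    exact ⟨0, zero_mem _, by simpa using hz⟩
  | succ N ih =>
    intro z hz
    have hs0 : s ≠ 0 := by
      intro h0
      rw [h0, map_zero] at hs
      exact WithZero.exp_ne_zero hs.symm
    obtain ⟨c, hc⟩ := exists_O_approx P Q hf z hz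
    rw [lt_one_iff_le_exp_neg_one] at hc
    have hz1 : Q.1 ((z - algebraMap K K' (c : K)) / s) ≤ 1 := by
      rw [map_div₀, hs]
      exact div_le_one_of_le₀ hc zero_le
    obtain ⟨a₁, ha₁, h1⟩ := ih _ hz1
    refine ⟨algebraMap P.O K' c + s * a₁, ?_, ?_⟩
    · exact add_mem (Subalgebra.algebraMap_mem _ _)
        (mul_mem (Algebra.self_mem_adjoin_singleton _ _) ha₁)
    · have : z - (algebraMap P.O K' c + s * a₁) =
          s * ((z - algebraMap K K' (c : K)) / s - a₁) := by
        rw [algebraMap_O_apply]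
        field_simp
        ring
      rw [this, map_mul, hs]
      calc WithZero.exp (-1 : ℤ) * Q.1 ((z - algebraMap K K' (c : K)) / s - a₁)
          ≤ WithZero.exp (-1 : ℤ) * WithZero.exp (-(N : ℤ)) := by gcongr
        _ = WithZero.exp (-((N + 1 : ℕ) : ℤ)) := by
          rw [← WithZero.exp_add]; congr 1; push_cast; ring


/-- An element of `O_P[s]` that is a unit at `Q` and lies in all other places above `P`. -/
theorem exists_adjoin_unit_small [FiniteDimensional K K'] (hK : FunFld.IsFunctionField k K)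
    (P : FunFld.Place k K) (Q : FunFld.Place k K') (hQP : FunFld.IsOver Q P)
    [Algebra P.O K'] [IsScalarTower P.O K K']
    (s : K') (hs : Q.1 s = WithZero.exp (-1 : ℤ))
    (hs' : ∀ Q' : FunFld.Place k K', FunFld.IsOver Q' P → Q' ≠ Q → Q'.1 s = 1) :
    ∃ u ∈ Algebra.adjoin P.O ({s} : Set K'), Q.1 u = 1 ∧
      ∀ Q' : FunFld.Place k K', FunFld.IsOver Q' P → Q' ≠ Q → Q'.1 u < 1 := by
  classical
  have hsle : ∀ Q' : FunFld.Place k K', FunFld.IsOver Q' P → Q'.1 s ≤ 1 := by
    intro Q' hQ'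
    by_cases hQQ : Q' = Q
    · subst hQQ
      rw [hs]; exact (exp_neg_lt_one one_pos).le
    · rw [hs' Q' hQ' hQQ]
  have hcint := coeff_minpoly_le_one hK P s hsle
  have hint : IsIntegral K s := Algebra.IsIntegral.isIntegral s
  have hmonic := minpoly.monic hint
  set f := minpoly K s with hfdef
  have hex : ∃ i, P.1 (f.coeff i) = 1 := ⟨f.natDegree, by rw [hmonic.coeff_natDegree, map_one]⟩
  set j := Nat.find hex with hj
  have hjspec : P.1 (f.coeff j) = 1 := Nat.find_spec hex
  have hjlt : ∀ i < j, P.1 (f.coeff i) < 1 := fun i hi =>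
    lt_of_le_of_ne (hcint i) (Nat.find_min hex hi)
  have hjn : j ≤ f.natDegree := Nat.find_min' hex (by rw [hmonic.coeff_natDegree, map_one])
  obtain ⟨m, hm⟩ : ∃ m, f.natDegree + 1 = j + (m + 1) := ⟨f.natDegree - j, by omega⟩
  have hroot : ∑ i ∈ Finset.range (f.natDegree + 1), algebraMap K K' (f.coeff i) * s ^ i = 0 := by
    rw [← minpoly.aeval K s, aeval_eq_sum_range]
    refine Finset.sum_congr rfl fun i _ => ?_
    rw [Algebra.smul_def]
  rw [hm, Finset.sum_range_add] at hroot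
  set lo := ∑ i ∈ Finset.range j, algebraMap K K' (f.coeff i) * s ^ i with hlo
  set u := ∑ i ∈ Finset.range (m + 1), algebraMap K K' (f.coeff (j + i)) * s ^ i with hu
  have hsplit : lo + s ^ j * u = 0 := by
    rw [← hroot, hu, Finset.mul_sum]
    congr 1
    refine Finset.sum_congr rfl fun i _ => ?_
    rw [pow_add]; ring
  refine ⟨u, ?_, ?_, ?_⟩
  · rw [hu]
    refine sum_mem fun i _ => ?_
    have : algebraMap K K' (f.coeff (j + i)) = algebraMap P.O K' ⟨f.coeff (j + i), hcint _⟩ := by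
      rw [algebraMap_O_apply]
    rw [this]
    exact mul_mem (Subalgebra.algebraMap_mem _ _)
      (pow_mem (Algebra.self_mem_adjoin_singleton _ _) i)
  · obtain ⟨e, he⟩ := hQP
    rw [hu, Finset.sum_range_succ', pow_zero, mul_one, add_zero]
    have h0 : Q.1 (algebraMap K K' (f.coeff j)) = 1 := by rw [he, hjspec, one_pow]
    rw [add_comm, Valuation.map_add_eq_of_lt_left, h0]
    rw [h0]
    apply Valuation.map_sum_lt _ one_ne_zero
    intro i _
    rw [map_mul, map_pow, hs, he]
    calc P.1 (f.coeff (j + (i + 1))) ^ e * WithZero.exp (-1 : ℤ) ^ (i + 1)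
        ≤ 1 * WithZero.exp (-1 : ℤ) ^ (i + 1) :=
          mul_le_mul' (pow_le_one' (hcint _) e) le_rfl
      _ < 1 := by
          rw [one_mul]
          exact pow_lt_one₀ zero_le (exp_neg_lt_one one_pos) (Nat.succ_ne_zero i)
  · intro Q' hQ' hne
    have hlo1 : Q'.1 lo < 1 := by
      rw [hlo]
      apply Valuation.map_sum_lt _ one_ne_zero
      intro i hi
      obtain ⟨e', he'⟩ := hQ'
      rw [map_mul, map_pow, hs' Q' ⟨e', he'⟩ hne, one_pow, mul_one]
      exact (isOverWith_lt_one_iff he' _).mpr (hjlt i (Finset.mem_range.mp hi))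
    have h1 : s ^ j * u = -lo := eq_neg_of_add_eq_zero_right hsplit
    have h2 : Q'.1 (s ^ j * u) = Q'.1 u := by
      rw [map_mul, map_pow, hs' Q' hQ' hne, one_pow, one_mul]
    rw [← h2, h1, Valuation.map_neg]
    exact hlo1

end Basic


section Core

variable {k : Type u} [Field k] {K : Type v} [Field K] [Algebra k K]
  {K' : Type w} [Field K'] [Algebra K K'] [Algebra k K'] [IsScalarTower k K K']
  [FiniteDimensional K K']

theorem isIntegral_iff_forall (hK : FunFld.IsFunctionField k K) (P : FunFld.Place k K)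
    [Algebra P.O K'] [IsScalarTower P.O K K'] (z : K') :
    IsIntegral P.O z ↔ ∀ Q' : FunFld.Place k K', FunFld.IsOver Q' P → Q'.1 z ≤ 1 := by
  have h : z ∈ integralClosure P.O K' ↔ z ∈ intAbove (K' := K') P := by
    rw [integralClosure_eq_intAbove P hK]
  exact h

variable [Algebra.IsSeparable K K']

/-- Elements of the trace dual of the integral closure lie in the trace dual of `O_P[θ]`. -/
theorem mem_dualSubmodule_adjoin (P : FunFld.Place k K)
    [Algebra P.O K'] [IsScalarTower P.O K K'] {θ : K'} (hθ : IsIntegral P.O θ) {y : K'}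
    (hy : ∀ z : K', IsIntegral P.O z → P.1 (Algebra.trace K K' (y * z)) ≤ 1) :
    y ∈ (Algebra.traceForm K K').dualSubmodule
      (Subalgebra.toSubmodule (Algebra.adjoin P.O ({θ} : Set K'))) := by
  intro z hz
  rw [Algebra.traceForm_apply]
  exact Submodule.mem_one.mpr ⟨⟨_, hy z (_root_.adjoin_le_integralClosure hθ hz)⟩, rfl⟩

theorem adjoin_eq_top_of_adjoin_eq_top {θ : K'}
    (h : IntermediateField.adjoin K ({θ} : Set K') = ⊤) : Algebra.adjoin K ({θ} : Set K') = ⊤ := by
  have hint : IsIntegral K θ := Algebra.IsIntegral.isIntegral θ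
  rw [← IntermediateField.adjoin_simple_toSubalgebra_of_isAlgebraic hint.isAlgebraic, h]
  rfl

theorem traceDual_core (hK : FunFld.IsFunctionField k K)
    (P : FunFld.Place k K) (Q : FunFld.Place k K') [P.1.HasExtension Q.1]
    (hf : Function.Surjective
      (algebraMap (IsLocalRing.ResidueField P.O) (IsLocalRing.ResidueField Q.O)))
    [Algebra P.O K'] [IsScalarTower P.O K K']
    (s : K') (hs : Q.1 s = WithZero.exp (-1 : ℤ))
    (hs' : ∀ Q' : FunFld.Place k K', FunFld.IsOver Q' P → Q' ≠ Q → Q'.1 s = 1) :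
    (∀ y : K', (∀ z : K', IsIntegral P.O z → P.1 (Algebra.trace K K' (y * z)) ≤ 1) →
      Q.1 y ≤ (Q.1 (aeval s (derivative (minpoly K s))))⁻¹) ∧
    ∃ y : K', (∀ z : K', IsIntegral P.O z → P.1 (Algebra.trace K K' (y * z)) ≤ 1) ∧
      Q.1 y = (Q.1 (aeval s (derivative (minpoly K s))))⁻¹ := by
  classical
  have hQP : FunFld.IsOver Q P := isOver_of_hasExtension hK P Q
  obtain ⟨hdeg, hc0⟩ := natDegree_minpoly_and_coeff_zero hK P Q hf s hs hs'
  have htop : K⟮s⟯ = ⊤ := (Field.primitive_element_iff_minpoly_natDegree_eq K s).mpr hdeg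
  have hadj : Algebra.adjoin K ({s} : Set K') = ⊤ := adjoin_eq_top_of_adjoin_eq_top htop
  have hsle : ∀ Q' : FunFld.Place k K', FunFld.IsOver Q' P → Q'.1 s ≤ 1 := by
    intro Q' hQ'
    by_cases hQQ : Q' = Q
    · subst hQQ
      rw [hs]; exact (exp_neg_lt_one one_pos).le
    · rw [hs' Q' hQ' hQQ]
  have hsint : IsIntegral P.O s := (isIntegral_iff_forall hK P s).mpr hsle
  have hdual := traceForm_dualSubmodule_adjoin P.O K hadj hsint
  set D := aeval s (derivative (minpoly K s)) with hD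
  have hD0 : D ≠ 0 :=
    (Algebra.IsSeparable.isSeparable K s).aeval_derivative_ne_zero (minpoly.aeval K s)
  have hadj_int : ∀ a ∈ Algebra.adjoin P.O ({s} : Set K'), IsIntegral P.O a :=
    fun a ha => _root_.adjoin_le_integralClosure hsint ha
  have hval_int : ∀ a : K', IsIntegral P.O a →
      ∀ Q' : FunFld.Place k K', FunFld.IsOver Q' P → Q'.1 a ≤ 1 :=
    fun a ha => (isIntegral_iff_forall hK P a).mp ha
  constructor
  · intro y hy
    have hy' := mem_dualSubmodule_adjoin P hsint hy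
    rw [hdual] at hy'
    obtain ⟨a, ha, rfl⟩ := (Submodule.mem_smul_pointwise_iff_exists _ _ _).mp hy'
    rw [smul_eq_mul, map_mul, map_inv₀]
    calc (Q.1 D)⁻¹ * Q.1 a ≤ (Q.1 D)⁻¹ * 1 := by
          gcongr
          exact hval_int a (hadj_int a ha) Q hQP
      _ = _ := mul_one _
  · obtain ⟨u₁, hu₁mem, hu₁Q, hu₁Q'⟩ := exists_adjoin_unit_small hK P Q hQP s hs hs'
    have hfin := (finite_isOver_and_sum_ramIdx_mul_deg (K' := K') hK P).1
    set M : ℕ := hfin.toFinset.sup (fun Q' => (Q'.ord D).toNat) with hM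
    set u := u₁ ^ M with hu
    have huQ : Q.1 u = 1 := by rw [hu, map_pow, hu₁Q, one_pow]
    have huQ' : ∀ Q' : FunFld.Place k K', FunFld.IsOver Q' P → Q' ≠ Q → Q'.1 u ≤ Q'.1 D := by
      intro Q' hQ' hne
      have h1 : Q'.1 u₁ ≤ WithZero.exp (-1 : ℤ) :=
        lt_one_iff_le_exp_neg_one.mp (hu₁Q' Q' hQ' hne)
      have h2 : (Q'.ord D).toNat ≤ M :=
        Finset.le_sup (f := fun Q' : FunFld.Place k K' => (Q'.ord D).toNat)
          (by rw [Set.Finite.mem_toFinset]; exact hQ')
      rw [hu, map_pow, val_eq_exp_neg_ord Q' hD0]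
      calc Q'.1 u₁ ^ M ≤ WithZero.exp (-1 : ℤ) ^ M := pow_le_pow_left₀ zero_le h1 M
        _ = WithZero.exp (-(M : ℤ)) := by rw [← WithZero.exp_nsmul]; simp
        _ ≤ WithZero.exp (-(Q'.ord D)) := by
          rw [WithZero.exp_le_exp]
          have := Int.self_le_toNat (Q'.ord D)
          omega
    have humem : u ∈ Algebra.adjoin P.O ({s} : Set K') := pow_mem hu₁mem M
    refine ⟨D⁻¹ * u, ?_, ?_⟩
    · intro z hz
      have hzQ : Q.1 z ≤ 1 := hval_int z hz Q hQP
      obtain ⟨a, ha, haz⟩ := approx_adjoin P Q hf s hs (Q.ord D).toNat z hzQ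
      have haz' : Q.1 (z - a) ≤ Q.1 D := by
        rw [val_eq_exp_neg_ord Q hD0]
        refine haz.trans ?_
        rw [WithZero.exp_le_exp]
        have := Int.self_le_toNat (Q.ord D)
        omega
      have hsplit : D⁻¹ * u * z = D⁻¹ * (u * a) + D⁻¹ * u * (z - a) := by ring
      rw [hsplit, map_add]
      refine (P.1.map_add _ _).trans (max_le ?_ ?_)
      · have hmem : D⁻¹ • (u * a) ∈ (Algebra.traceForm K K').dualSubmodule
            (Subalgebra.toSubmodule (Algebra.adjoin P.O ({s} : Set K'))) := by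
          rw [hdual]
          exact Submodule.smul_mem_pointwise_smul _ _ _
            (show u * a ∈ Algebra.adjoin P.O ({s} : Set K') from mul_mem humem ha)
        have h1 := hmem 1 (show (1 : K') ∈ Algebra.adjoin P.O ({s} : Set K') from one_mem _)
        rw [Algebra.traceForm_apply, mul_one, smul_eq_mul] at h1
        obtain ⟨c, hc⟩ := Submodule.mem_one.mp h1
        rw [← hc]; exact c.2
      · have hw : IsIntegral P.O (D⁻¹ * u * (z - a)) := by
          rw [isIntegral_iff_forall hK P]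
          intro Q' hQ'
          rw [map_mul, map_mul, map_inv₀]
          have hDQ' : Q'.1 D ≠ 0 := by rwa [ne_eq, map_eq_zero]
          by_cases hQQ : Q' = Q
          · subst hQQ
            rw [huQ, mul_one]
            calc (Q'.1 D)⁻¹ * Q'.1 (z - a) ≤ (Q'.1 D)⁻¹ * Q'.1 D := by gcongr
              _ = 1 := inv_mul_cancel₀ hDQ'
          · have h2 : Q'.1 (z - a) ≤ 1 :=
              (Q'.1.map_sub _ _).trans
                (max_le (hval_int z hz Q' hQ') (hval_int a (hadj_int a ha) Q' hQ'))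
            calc (Q'.1 D)⁻¹ * Q'.1 u * Q'.1 (z - a) ≤ (Q'.1 D)⁻¹ * Q'.1 D * 1 := by
                  gcongr
                  exact huQ' Q' hQ' hQQ
              _ = 1 := by rw [inv_mul_cancel₀ hDQ', one_mul]
        have htr : IsIntegral P.O (Algebra.trace K K' (D⁻¹ * u * (z - a))) :=
          Algebra.isIntegral_trace hw
        obtain ⟨c, hc⟩ := IsIntegrallyClosed.isIntegral_iff.mp htr
        rw [← hc]; exact c.2
    · rw [map_mul, map_inv₀, huQ, mul_one]


/-- An element integral above `P`, a unit at `Q`, clearing the denominators of `z` away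
from `Q`. -/
theorem exists_integral_unit_mul_integral (hK : FunFld.IsFunctionField k K)
    (P : FunFld.Place k K) (Q : FunFld.Place k K') (hQP : FunFld.IsOver Q P)
    [Algebra P.O K'] [IsScalarTower P.O K K'] (z : K') (hz : Q.1 z ≤ 1) :
    ∃ c : K', IsIntegral P.O c ∧ Q.1 c = 1 ∧ IsIntegral P.O (c * z) := by
  classical
  have hfin := (finite_isOver_and_sum_ramIdx_mul_deg (K' := K') hK P).1
  set M : ℕ := hfin.toFinset.sup (fun Q' => (WithZero.log (Q'.1 z)).toNat) + 1 with hM
  obtain ⟨c, hc⟩ := exists_approx hfin.toFinset (fun Q' => if Q' = Q then (1 : K') else 0) M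
  have hMlt : (WithZero.exp (-(M : ℤ)) : WithZero (Multiplicative ℤ)) < 1 :=
    exp_neg_lt_one (by rw [hM]; push_cast; omega)
  have hcQ : Q.1 c = 1 := by
    have h1 := hc Q (by rw [Set.Finite.mem_toFinset]; exact hQP)
    rw [if_pos rfl] at h1
    have h3 : Q.1 (c - 1) < Q.1 1 := by rw [map_one]; exact lt_of_le_of_lt h1 hMlt
    have : c = 1 + (c - 1) := by ring
    rw [this, Valuation.map_add_eq_of_lt_left _ h3, map_one]
  have hcQ' : ∀ Q' : FunFld.Place k K', FunFld.IsOver Q' P → Q' ≠ Q →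
      Q'.1 c ≤ WithZero.exp (-(M : ℤ)) := by
    intro Q' hQ' hne
    have h1 := hc Q' (by rw [Set.Finite.mem_toFinset]; exact hQ')
    rwa [if_neg hne, sub_zero] at h1
  refine ⟨c, ?_, hcQ, ?_⟩
  · rw [isIntegral_iff_forall hK P]
    intro Q' hQ'
    by_cases hQQ : Q' = Q
    · subst hQQ; rw [hcQ]
    · exact (hcQ' Q' hQ' hQQ).trans hMlt.le
  · rw [isIntegral_iff_forall hK P]
    intro Q' hQ'
    rw [map_mul]
    by_cases hQQ : Q' = Q
    · subst hQQ; rw [hcQ, one_mul]; exact hz
    · have h2 : (WithZero.log (Q'.1 z)).toNat ≤ M := by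
        have := Finset.le_sup (f := fun Q' : FunFld.Place k K' => (WithZero.log (Q'.1 z)).toNat)
          (show Q' ∈ hfin.toFinset by rw [Set.Finite.mem_toFinset]; exact hQ')
        rw [hM]
        exact this.trans (Nat.le_succ _)
      have h3 : Q'.1 z ≤ WithZero.exp (M : ℤ) := by
        apply WithZero.le_exp_of_log_le
        have := Int.self_le_toNat (WithZero.log (Q'.1 z))
        omega
      calc Q'.1 c * Q'.1 z ≤ WithZero.exp (-(M : ℤ)) * WithZero.exp (M : ℤ) :=
            mul_le_mul' (hcQ' Q' hQ' hQQ) h3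
        _ = 1 := by rw [← WithZero.exp_add]; simp

/-- For a primitive element `θ` integral over `O_P` with minimal polynomial `g`, an element `y₀` of
the trace dual of the integral closure gives `v_Q(g'(θ)) ≥ -v_Q(y₀)`; in case of equality `O_Q`
is the localisation of `O_P[θ]`. -/
theorem derivative_minpoly_of_mem_dual (hK : FunFld.IsFunctionField k K)
    (P : FunFld.Place k K) (Q : FunFld.Place k K') (hQP : FunFld.IsOver Q P)
    [Algebra P.O K'] [IsScalarTower P.O K K']
    (θ : K') (hθ : IntermediateField.adjoin K ({θ} : Set K') = ⊤) (hθi : IsIntegral P.O θ)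
    (y₀ : K') (hy₀ : ∀ z : K', IsIntegral P.O z → P.1 (Algebra.trace K K' (y₀ * z)) ≤ 1)
    (hy₀0 : y₀ ≠ 0) :
    Q.1 (aeval θ (derivative (minpoly K θ))) ≤ (Q.1 y₀)⁻¹ ∧
    (Q.1 (aeval θ (derivative (minpoly K θ))) = (Q.1 y₀)⁻¹ →
      ∀ z : K', Q.1 z ≤ 1 → ∃ a ∈ Algebra.adjoin P.O ({θ} : Set K'),
        ∃ b ∈ Algebra.adjoin P.O ({θ} : Set K'), Q.1 b = 1 ∧ z * b = a) := by
  classical
  have hadj : Algebra.adjoin K ({θ} : Set K') = ⊤ := adjoin_eq_top_of_adjoin_eq_top hθ
  have hdual := traceForm_dualSubmodule_adjoin P.O K hadj hθi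
  set G := aeval θ (derivative (minpoly K θ)) with hG
  have hG0 : G ≠ 0 :=
    (Algebra.IsSeparable.isSeparable K θ).aeval_derivative_ne_zero (minpoly.aeval K θ)
  have hadj_int : ∀ a ∈ Algebra.adjoin P.O ({θ} : Set K'), IsIntegral P.O a :=
    fun a ha => _root_.adjoin_le_integralClosure hθi ha
  have key : ∀ y : K', (∀ z : K', IsIntegral P.O z → P.1 (Algebra.trace K K' (y * z)) ≤ 1) →
      G * y ∈ Algebra.adjoin P.O ({θ} : Set K') := by
    intro y hy
    have hy' := mem_dualSubmodule_adjoin P hθi hy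
    rw [hdual] at hy'
    obtain ⟨a, ha, rfl⟩ := (Submodule.mem_smul_pointwise_iff_exists _ _ _).mp hy'
    rw [smul_eq_mul, ← mul_assoc, mul_inv_cancel₀ hG0, one_mul]
    exact ha
  have hy₀Q : Q.1 y₀ ≠ 0 := by rwa [ne_eq, map_eq_zero]
  have hb₀ := key y₀ hy₀
  have hb₀Q : Q.1 G * Q.1 y₀ ≤ 1 := by
    rw [← map_mul]
    exact (isIntegral_iff_forall hK P _).mp (hadj_int _ hb₀) Q hQP
  constructor
  · calc Q.1 G = Q.1 G * Q.1 y₀ * (Q.1 y₀)⁻¹ := by rw [mul_assoc, mul_inv_cancel₀ hy₀Q, mul_one]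
      _ ≤ 1 * (Q.1 y₀)⁻¹ := by gcongr
      _ = (Q.1 y₀)⁻¹ := one_mul _
  · intro heq z hz
    obtain ⟨c, hcint, hcQ, hczint⟩ := exists_integral_unit_mul_integral hK P Q hQP z hz
    have hmul : ∀ r : K', IsIntegral P.O r →
        ∀ z : K', IsIntegral P.O z → P.1 (Algebra.trace K K' (y₀ * r * z)) ≤ 1 := by
      intro r hr z hz
      rw [mul_assoc]
      exact hy₀ _ (hr.mul hz)
    refine ⟨G * (y₀ * (c * z)), key _ (hmul _ hczint), G * (y₀ * c), key _ (hmul _ hcint), ?_, ?_⟩
    · rw [map_mul, map_mul, hcQ, mul_one, heq, inv_mul_cancel₀ hy₀Q]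
    · ring

end Core


section Main

variable {k : Type u} [Field k] {K : Type v} [Field K] [Algebra k K]
  {K' : Type v} [Field K'] [Algebra K K'] [Algebra k K'] [IsScalarTower k K K']
  [FiniteDimensional K K'] [Algebra.IsSeparable K K']
  {F : Type w} [Field F] [Algebra k F] {F' : Type w} [Field F'] [Algebra k F']

/-- There is a local parameter `s` at `Q`, a unit at the other places above `P`, with
`(v_Q(f'(s)))⁻¹ = exp d(Q|P)`. -/
theorem exists_param_val_derivative (hK : FunFld.IsFunctionField k K) (hg : FunFld.IsGeometric k K)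
    (P : FunFld.Place k K) (Q : FunFld.Place k K') (e : ℕ) (he : FunFld.IsOverWith Q P e)
    (φ : K →ₐ[k] LaurentSeries F) (hφ : LocRes.IsExpansionAt P.1 φ)
    (ψ : K' →ₐ[k] LaurentSeries F') (hψ : LocRes.IsExpansionAt Q.1 ψ)
    (x : K) (hx : LocRes.vDiff φ 1 x ≠ 0) (hx' : LocRes.vDiff ψ 1 (algebraMap K K' x) ≠ 0)
    [P.1.HasExtension Q.1]
    (hf : Function.Surjective
      (algebraMap (IsLocalRing.ResidueField P.O) (IsLocalRing.ResidueField Q.O))) :
    ∃ s : K', Q.1 s = WithZero.exp (-1 : ℤ) ∧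
      (∀ Q' : FunFld.Place k K', FunFld.IsOver Q' P → Q' ≠ Q → Q'.1 s = 1) ∧
      (Q.1 (aeval s (derivative (minpoly K s))))⁻¹ = WithZero.exp (LocRes.diffExp φ ψ e x) := by
  classical
  have hQP : FunFld.IsOver Q P := ⟨e, he⟩
  have hfin := (finite_isOver_and_sum_ramIdx_mul_deg (K' := K') hK P).1
  obtain ⟨s, hs, hs0'⟩ := exists_local_param_unit_elsewhere hfin.toFinset Q
    (by rw [Set.Finite.mem_toFinset]; exact hQP)
  have hs' : ∀ Q' : FunFld.Place k K', FunFld.IsOver Q' P → Q' ≠ Q → Q'.1 s = 1 :=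
    fun Q' hQ' hne => hs0' Q' (by rw [Set.Finite.mem_toFinset]; exact hQ') hne
  obtain ⟨hdeg, hc0⟩ := natDegree_minpoly_and_coeff_zero hK P Q hf s hs hs'
  have hcint := coeff_minpoly_le_one hK P s (fun Q' hQ' => by
    by_cases hQQ : Q' = Q
    · subst hQQ
      rw [hs]; exact (exp_neg_lt_one one_pos).le
    · rw [hs' Q' hQ' hQQ])
  have hord := ord_derivative_minpoly_eq_diffExp_of_coeff hK hg he φ hφ ψ hψ x hx hx' hs hc0 hcint
  have hD0 : aeval s (derivative (minpoly K s)) ≠ 0 :=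
    (Algebra.IsSeparable.isSeparable K s).aeval_derivative_ne_zero (minpoly.aeval K s)
  refine ⟨s, hs, hs', ?_⟩
  rw [val_eq_exp_neg_ord Q hD0, hord, ← WithZero.exp_neg, neg_neg]

/-- `min_{y ∈ R^*} v_Q(y) = -d(Q|P)` at a place of residue degree one. -/
theorem traceDual_min_valuation_eq_diffExp (hK : FunFld.IsFunctionField k K)
    (hg : FunFld.IsGeometric k K)
    (P : FunFld.Place k K) (Q : FunFld.Place k K') (e : ℕ) (he : FunFld.IsOverWith Q P e)
    (φ : K →ₐ[k] LaurentSeries F) (hφ : LocRes.IsExpansionAt P.1 φ)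
    (ψ : K' →ₐ[k] LaurentSeries F') (hψ : LocRes.IsExpansionAt Q.1 ψ)
    (x : K) (hx : LocRes.vDiff φ 1 x ≠ 0) (hx' : LocRes.vDiff ψ 1 (algebraMap K K' x) ≠ 0)
    [P.1.HasExtension Q.1]
    (hf : Function.Surjective
      (algebraMap (IsLocalRing.ResidueField P.O) (IsLocalRing.ResidueField Q.O)))
    [Algebra P.O K'] [IsScalarTower P.O K K'] :
    (∀ y : K', (∀ z : K', IsIntegral P.O z → P.1 (Algebra.trace K K' (y * z)) ≤ 1) →
      Q.1 y ≤ WithZero.exp (LocRes.diffExp φ ψ e x)) ∧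
    ∃ y : K', (∀ z : K', IsIntegral P.O z → P.1 (Algebra.trace K K' (y * z)) ≤ 1) ∧
      Q.1 y = WithZero.exp (LocRes.diffExp φ ψ e x) := by
  obtain ⟨s, hs, hs', hval⟩ := exists_param_val_derivative hK hg P Q e he φ hφ ψ hψ x hx hx' hf
  have core := traceDual_core hK P Q hf s hs hs'
  rw [hval] at core
  exact core

/-- `v_Q(g'(θ)) ≥ d(Q|P)` for a primitive element `θ` integral over `O_P`, and in case of equality
`O_Q` is the localisation of `O_P[θ]`. -/
theorem diffExp_le_ord_derivative_minpoly (hK : FunFld.IsFunctionField k K)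
    (hg : FunFld.IsGeometric k K)
    (P : FunFld.Place k K) (Q : FunFld.Place k K') (e : ℕ) (he : FunFld.IsOverWith Q P e)
    (φ : K →ₐ[k] LaurentSeries F) (hφ : LocRes.IsExpansionAt P.1 φ)
    (ψ : K' →ₐ[k] LaurentSeries F') (hψ : LocRes.IsExpansionAt Q.1 ψ)
    (x : K) (hx : LocRes.vDiff φ 1 x ≠ 0) (hx' : LocRes.vDiff ψ 1 (algebraMap K K' x) ≠ 0)
    [P.1.HasExtension Q.1]
    (hf : Function.Surjective
      (algebraMap (IsLocalRing.ResidueField P.O) (IsLocalRing.ResidueField Q.O)))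
    [Algebra P.O K'] [IsScalarTower P.O K K']
    (θ : K') (hθ : IntermediateField.adjoin K ({θ} : Set K') = ⊤) (hθi : IsIntegral P.O θ) :
    LocRes.diffExp φ ψ e x ≤ Q.ord (aeval θ (derivative (minpoly K θ))) ∧
    (Q.ord (aeval θ (derivative (minpoly K θ))) = LocRes.diffExp φ ψ e x →
      ∀ z : K', Q.1 z ≤ 1 → ∃ a ∈ Algebra.adjoin P.O ({θ} : Set K'),
        ∃ b ∈ Algebra.adjoin P.O ({θ} : Set K'), Q.1 b = 1 ∧ z * b = a) := by
  obtain ⟨-, y₀, hy₀, hy₀Q⟩ :=
    traceDual_min_valuation_eq_diffExp hK hg P Q e he φ hφ ψ hψ x hx hx' hf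
  have hy₀0 : y₀ ≠ 0 := by
    intro h0
    rw [h0, map_zero] at hy₀Q
    exact WithZero.exp_ne_zero hy₀Q.symm
  have hG0 : aeval θ (derivative (minpoly K θ)) ≠ 0 :=
    (Algebra.IsSeparable.isSeparable K θ).aeval_derivative_ne_zero (minpoly.aeval K θ)
  obtain ⟨h1, h2⟩ := derivative_minpoly_of_mem_dual hK P Q ⟨e, he⟩ θ hθ hθi y₀ hy₀ hy₀0
  rw [hy₀Q, ← WithZero.exp_neg, val_eq_exp_neg_ord Q hG0] at h1 h2
  constructor
  · rw [WithZero.exp_le_exp] at h1
    omega
  · intro heq
    apply h2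
    rw [heq]

end Main

end Groth.Agent.Lib.H40FunFldTraceDual
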