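import Groth.Agent.Lib.H40FunFldConstExt
import Groth.Agent.Lib.H40FunFldCusp

/-!
# Riemann's theorem (difference form) over a non-exact constant field
-/

set_option autoImplicit false
set_option linter.style.haveILetI false
set_option linter.unusedSectionVars false
open FunFld Polynomial

namespace Groth.Agent.Lib.H40FunFld

open Groth.Agent.Lib.H40QuotChain IntermediateField

universe u v w
variable {k : Type u} [Field k] {L : Type v} [Field L] [Algebra k L]

section DivUp

/-- Transfer a divisor over `k` to a divisor over the exact constant field. -/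
noncomputable def divUp (D : FunFld.Divisor k L) : FunFld.Divisor ↥(constField k L) L :=
  Finsupp.mapDomain placeUp D

theorem divUp_apply (D : FunFld.Divisor k L) (Q : FunFld.Place k L) :
    divUp D (placeUp Q) = D Q :=
  Finsupp.mapDomain_apply placeUp_injective _ _

theorem divUp_apply' (D : FunFld.Divisor k L) (Q' : FunFld.Place ↥(constField k L) L) :
    divUp D Q' = D (placeDown Q') := by
  rw [← divUp_apply D (placeDown Q'), placeUp_placeDown]

theorem deg_divUp (D : FunFld.Divisor k L) :
    (Module.finrank k ↥(constField k L) : ℤ) * (divUp D).deg = D.deg := by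
  rw [divUp, FunFld.Divisor.deg, Finsupp.sum_mapDomain_index (by intro b; simp)
    (by intro b m₁ m₂; ring), FunFld.Divisor.deg, Finsupp.sum, Finsupp.sum, Finset.mul_sum]
  refine Finset.sum_congr rfl fun P _ => ?_
  rw [deg_eq_mul_deg_placeUp P]
  push_cast
  ring

theorem mem_L_divUp (D : FunFld.Divisor k L) (x : L) :
    x ∈ FunFld.L (divUp D) ↔ x ∈ FunFld.L D := by
  constructor
  · intro h Q
    have := h (placeUp Q)
    rwa [divUp_apply] at this
  · intro h Q'
    rw [divUp_apply']
    exact h (placeDown Q')

/-- `L(D)` over `k` and over the exact constant field, as `k`-spaces. -/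
noncomputable def LdivUpEquiv (D : FunFld.Divisor k L) :
    ↥(FunFld.L D) ≃ₗ[k] ↥(FunFld.L (divUp D)) where
  toFun x := ⟨x.1, (mem_L_divUp D x.1).2 x.2⟩
  invFun x := ⟨x.1, (mem_L_divUp D x.1).1 x.2⟩
  map_add' _ _ := rfl
  map_smul' _ _ := rfl
  left_inv _ := rfl
  right_inv _ := rfl

theorem finrank_L_divUp (D : FunFld.Divisor k L) :
    Module.finrank k ↥(FunFld.L D) =
      Module.finrank k ↥(constField k L) * Module.finrank ↥(constField k L) ↥(FunFld.L (divUp D)) := by
  rw [LinearEquiv.finrank_eq (LdivUpEquiv D)]
  exact (Module.finrank_mul_finrank k ↥(constField k L) ↥(FunFld.L (divUp D))).symm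

theorem finiteDimensional_L_of_constField (hA : FunFld.IsFunctionField ↥(constField k L) L)
    [FiniteDimensional k ↥(constField k L)] (D : FunFld.Divisor k L) :
    FiniteDimensional k ↥(FunFld.L D) := by
  have h1 : FiniteDimensional ↥(constField k L) ↥(FunFld.L (divUp D)) := finiteDimensional_L hA _
  have h2 : FiniteDimensional k ↥(FunFld.L (divUp D)) :=
    Module.Finite.trans ↥(constField k L) ↥(FunFld.L (divUp D))
  exact Module.Finite.equiv (LdivUpEquiv D).symm

/-- Riemann's theorem in difference form, over a constant field that need not be exact. -/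
theorem exists_forall_finrank_L_sub (hA : FunFld.IsFunctionField ↥(constField k L) L)
    [FiniteDimensional k ↥(constField k L)] :
    ∃ N : ℤ, ∀ A B : FunFld.Divisor k L, N ≤ A.deg → N ≤ B.deg →
      (Module.finrank k ↥(FunFld.L A) : ℤ) - Module.finrank k ↥(FunFld.L B) = A.deg - B.deg := by
  obtain ⟨N', hN'⟩ := exists_forall_delta_eq_genus hA
  set c : ℕ := Module.finrank k ↥(constField k L) with hc
  have hc0 : 0 < c := Module.finrank_pos
  have hc0' : (0 : ℤ) < c := by exact_mod_cast hc0
  have key : ∀ A : FunFld.Divisor k L, (c : ℤ) * |N'| ≤ A.deg → N' ≤ (divUp A).deg := by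
    intro A hA'
    rw [← deg_divUp A] at hA'
    have := le_of_mul_le_mul_left hA' hc0'
    exact (le_abs_self N').trans this
  refine ⟨c * |N'|, fun A B hAd hBd => ?_⟩
  have h1 := hN' _ (key A hAd)
  have h2 := hN' _ (key B hBd)
  unfold delta FunFld.ell at h1 h2
  rw [finrank_L_divUp A, finrank_L_divUp B, ← deg_divUp A, ← deg_divUp B]
  push_cast
  have h3 : ((divUp A).deg : ℤ) - (Module.finrank ↥(constField k L) ↥(FunFld.L (divUp A)) : ℤ) =
      (divUp B).deg - (Module.finrank ↥(constField k L) ↥(FunFld.L (divUp B)) : ℤ) := by linarith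
  rw [← hc]
  linear_combination (-(c : ℤ)) * h3

end DivUp

end Groth.Agent.Lib.H40FunFld
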