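import Groth.Agent.Lib.H40FunFldWeil
import Groth.Agent.Lib.H40FunFldGenusOne
import Groth.Agent.Lib.H40FunFldRes
import Groth.Prelude.Def_W4bk4goldsch45
import Mathlib.FieldTheory.Finite.Basic
import Mathlib.FieldTheory.Finiteness
import Mathlib.Data.Finset.Finsupp
import Mathlib.Order.Interval.Finset.Basic
import Mathlib.Data.Int.Interval
import Mathlib.SetTheory.Cardinal.NatCard
import Mathlib.Algebra.GroupWithZero.Units.Fintype

/-!
# Function fields of one variable over a finite field: finiteness of places of given degree, of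
effective divisors of given degree, of the class group; counting effective divisors in a class.
-/

set_option autoImplicit false
set_option linter.style.haveILetI false
set_option linter.unusedSectionVars false
open FunFld Polynomial

namespace Groth.Agent.Lib.H40FunFld

universe u v
variable {k : Type u} {K : Type v} [Field k] [Field K] [Algebra k K]

section FinitePlaces

variable [Finite k]

/-- At a place of degree `d` over a finite field with `q` elements, `x^(q^d) - x` lies in the
maximal ideal for every integral `x`. -/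
theorem val_pow_card_sub_lt_one (P : FunFld.Place k K) (hd0 : 0 < P.deg) {x : K}
    (hx : P.1 x ≤ 1) : P.1 (x ^ (Nat.card k ^ P.deg) - x) < 1 := by
  have hfd : Module.Finite k (IsLocalRing.ResidueField P.O) := Module.finite_of_finrank_pos hd0
  have hfin : Finite (IsLocalRing.ResidueField P.O) := Module.finite_of_finite k
  have hcard : Nat.card (IsLocalRing.ResidueField P.O) = Nat.card k ^ P.deg :=
    Module.natCard_eq_pow_finrank (K := k)
  let _ := Fintype.ofFinite (IsLocalRing.ResidueField P.O)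
  have h1 : (IsLocalRing.residue P.O ⟨x, hx⟩) ^ (Nat.card k ^ P.deg) =
      IsLocalRing.residue P.O ⟨x, hx⟩ := by
    rw [← hcard, Nat.card_eq_fintype_card]
    exact FiniteField.pow_card _
  have h2 : IsLocalRing.residue P.O (⟨x, hx⟩ ^ (Nat.card k ^ P.deg) - ⟨x, hx⟩) = 0 := by
    rw [map_sub, map_pow, h1, sub_self]
  exact (residue_eq_zero_iff P _).1 h2

/-- Over a finite constant field there are finitely many places of each degree. -/
theorem finite_places_deg_eq (hK : FunFld.IsFunctionField k K) (d : ℕ) :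
    {P : FunFld.Place k K | P.deg = d}.Finite := by
  obtain ⟨x, hx, -⟩ := hK.1
  rcases Nat.eq_zero_or_pos d with rfl | hd
  · convert Set.finite_empty
    rw [Set.eq_empty_iff_forall_notMem]
    intro P hP
    have := deg_pos hK P
    rw [Set.mem_ofPred_eq] at hP
    omega
  have hq : 1 < Nat.card k := Finite.one_lt_card
  have hN : 1 < Nat.card k ^ d := Nat.one_lt_pow hd.ne' hq
  set y : K := x ^ (Nat.card k ^ d) - x with hy
  have hy0 : y ≠ 0 := by
    intro h0
    apply hx
    refine ⟨X ^ (Nat.card k ^ d) - X, ?_, by simpa using h0⟩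
    exact FiniteField.X_pow_card_sub_X_ne_zero k hN
  have hx0 : x ≠ 0 := fun h => hx (h ▸ isAlgebraic_zero)
  refine ((finite_support_ord hK y).union (finite_support_ord hK x)).subset ?_
  intro P hP
  rw [Set.mem_ofPred_eq] at hP
  by_cases hxP : P.1 x ≤ 1
  · left
    rw [Function.mem_support, ord_ne_zero_iff P hy0]
    have := val_pow_card_sub_lt_one P (by omega) hxP
    rw [hP] at this
    exact this.ne
  · right
    rw [Function.mem_support, ord_ne_zero_iff P hx0]
    exact fun h => hxP h.le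

theorem apply_mul_deg_le {D : FunFld.Divisor k K} (hD : 0 ≤ D) (P : FunFld.Place k K) :
    D P * (P.deg : ℤ) ≤ D.deg := by
  have h1 : (Finsupp.single P (D P) : FunFld.Divisor k K) ≤ D := by
    classical
    rw [Finsupp.le_def]
    intro Q
    by_cases hQ : Q = P
    · subst hQ; rw [Finsupp.single_eq_same]
    · rw [Finsupp.single_eq_of_ne hQ]; exact hD Q
  have := deg_mono h1
  rwa [deg_single] at this

/-- Over a finite constant field there are finitely many effective divisors of each degree. -/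
theorem finite_effDiv (hK : FunFld.IsFunctionField k K) (n : ℕ) :
    {D : FunFld.Divisor k K | 0 ≤ D ∧ D.deg = n}.Finite := by
  classical
  have hT : (⋃ d ∈ Finset.range (n + 1), {P : FunFld.Place k K | P.deg = d}).Finite :=
    Set.Finite.biUnion (Finset.finite_toSet _) fun d _ => finite_places_deg_eq hK d
  refine (Finset.finite_toSet (hT.toFinset.finsupp fun _ => Finset.Icc (0 : ℤ) n)).subset ?_
  rintro D ⟨hD0, hDn⟩
  rw [Finset.mem_coe, Finset.mem_finsupp_iff]
  have key : ∀ P : FunFld.Place k K, D P ≠ 0 → (P.deg : ℤ) ≤ n ∧ D P ≤ n := by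
    intro P hP
    have h1 := apply_mul_deg_le hD0 P
    rw [hDn] at h1
    have h2 : 0 ≤ D P := hD0 P
    have h3 : (1 : ℤ) ≤ P.deg := by exact_mod_cast deg_pos hK P
    have h4 : 1 ≤ D P := by omega
    constructor <;> nlinarith
  refine ⟨?_, ?_⟩
  · intro P hP
    rw [Finsupp.mem_support_iff] at hP
    rw [Set.Finite.mem_toFinset]
    simp only [Set.mem_iUnion, Finset.mem_range, Set.mem_ofPred_eq, exists_prop]
    refine ⟨P.deg, ?_, rfl⟩
    have := (key P hP).1
    omega
  · intro P _
    rw [Finset.mem_Icc]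
    refine ⟨hD0 P, ?_⟩
    by_cases hP : D P = 0
    · rw [hP]; positivity
    · exact (key P hP).2

end FinitePlaces

section ClassGroup

theorem degHom_apply (D : FunFld.Divisor k K) : FunFld.degHom k K D = D.deg := by
  rw [FunFld.degHom, Finsupp.liftAddHom_apply]; rfl

theorem mem_prinDivs_iff (hK : FunFld.IsFunctionField k K) (D : FunFld.Divisor k K) :
    D ∈ FunFld.prinDivs k K ↔ ∃ x : K, x ≠ 0 ∧ D = FunFld.div k x := by
  constructor
  · intro h
    induction h using AddSubgroup.closure_induction with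
    | mem D hD =>
      obtain ⟨x, rfl⟩ := hD
      by_cases hx : x = 0
      · refine ⟨1, one_ne_zero, ?_⟩
        rw [hx, div_eq_zero_of_isAlgebraic hK isAlgebraic_zero,
          div_eq_zero_of_isAlgebraic hK isAlgebraic_one]
      · exact ⟨x, hx, rfl⟩
    | zero => exact ⟨1, one_ne_zero, (div_eq_zero_of_isAlgebraic hK isAlgebraic_one).symm⟩
    | add D E _ _ hD hE =>
      obtain ⟨x, hx, rfl⟩ := hD
      obtain ⟨y, hy, rfl⟩ := hE
      exact ⟨x * y, mul_ne_zero hx hy, (div_mul hK hx hy).symm⟩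
    | neg D _ hD =>
      obtain ⟨x, hx, rfl⟩ := hD
      exact ⟨x⁻¹, inv_ne_zero hx, (div_inv hK x).symm⟩
  · rintro ⟨x, -, rfl⟩
    exact AddSubgroup.subset_closure ⟨x, rfl⟩

/-- The group of divisor classes of degree zero. -/
abbrev ClGrp (k : Type u) (K : Type v) [Field k] [Field K] [Algebra k K] : Type v :=
  (FunFld.degHom k K).ker ⧸ (FunFld.prinDivs k K).addSubgroupOf (FunFld.degHom k K).ker

theorem clGrp_mk_eq_iff (hK : FunFld.IsFunctionField k K) (C C' : (FunFld.degHom k K).ker) :
    (QuotientAddGroup.mk C : ClGrp k K) = QuotientAddGroup.mk C' ↔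
      ∃ x : K, x ≠ 0 ∧ (C' : FunFld.Divisor k K) = C + FunFld.div k x := by
  rw [QuotientAddGroup.eq, AddSubgroup.mem_addSubgroupOf, mem_prinDivs_iff hK]
  refine exists_congr fun x => and_congr_right fun _ => ?_
  rw [AddSubgroup.coe_add, AddSubgroup.coe_neg, neg_add_eq_iff_eq_add]

theorem finite_clGrp [Finite k] (hK : FunFld.IsFunctionField k K) : Finite (ClGrp k K) := by
  obtain ⟨P0⟩ := exists_place hK
  set D0 : FunFld.Divisor k K := Finsupp.single P0 (FunFld.genus k K : ℤ) with hD0
  have hD0g : (FunFld.genus k K : ℤ) ≤ D0.deg := by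
    rw [deg_single]
    have : (1 : ℤ) ≤ P0.deg := by exact_mod_cast deg_pos hK P0
    nlinarith
  have hfin : Finite {D : FunFld.Divisor k K // 0 ≤ D ∧ D.deg = (D0.deg.toNat : ℤ)} :=
    (finite_effDiv hK D0.deg.toNat).to_subtype
  have hnat : (D0.deg.toNat : ℤ) = D0.deg := Int.toNat_of_nonneg (by omega)
  let f : {D : FunFld.Divisor k K // 0 ≤ D ∧ D.deg = (D0.deg.toNat : ℤ)} → ClGrp k K :=
    fun E => QuotientAddGroup.mk ⟨E.1 - D0, by
      rw [AddMonoidHom.mem_ker, degHom_apply, deg_sub, E.2.2]; omega⟩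
  apply Finite.of_surjective f
  intro c
  obtain ⟨⟨C, hC⟩, rfl⟩ := QuotientAddGroup.mk_surjective c
  rw [AddMonoidHom.mem_ker, degHom_apply] at hC
  have h1 := delta_le_genus hK (C + D0)
  unfold delta at h1
  rw [deg_add, hC] at h1
  have h2 : 0 < FunFld.ell (C + D0) := by
    have : (0 : ℤ) < FunFld.ell (C + D0) := by omega
    exact_mod_cast this
  obtain ⟨x, hxL, hx0⟩ := exists_ne_zero_mem_L_of_ell_pos h2
  have h3 := (mem_L_iff_nonneg hK _ hx0).1 hxL
  refine ⟨⟨C + D0 + FunFld.div k x, h3, ?_⟩, ?_⟩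
  · rw [deg_add, deg_add, deg_div_eq_zero hK, hC]; omega
  · symm
    rw [clGrp_mk_eq_iff hK]
    refine ⟨x, hx0, ?_⟩
    simp only
    abel

end ClassGroup

section Count

/-- `div (c x) = div x` for a nonzero constant `c`. -/
theorem div_smul (hK : FunFld.IsFunctionField k K) {c : k} (hc : c ≠ 0) {x : K}
    (hx : x ≠ 0) : FunFld.div k (c • x) = FunFld.div k x := by
  have hc' : algebraMap k K c ≠ 0 := by
    rw [Ne, map_eq_zero_iff _ (algebraMap k K).injective]; exact hc
  rw [Algebra.smul_def, div_mul hK hc' hx,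
    div_eq_zero_of_isAlgebraic hK (isAlgebraic_algebraMap c), zero_add]

/-- Nonzero elements with the same divisor differ by a nonzero constant. -/
theorem exists_smul_eq_of_div_eq (hK : FunFld.IsFunctionField k K) {x y : K} (hx : x ≠ 0)
    (hy : y ≠ 0) (h : FunFld.div k x = FunFld.div k y) : ∃ c : k, c ≠ 0 ∧ c • y = x := by
  have h1 : FunFld.div k (x * y⁻¹) = 0 := by
    rw [div_mul hK hx (inv_ne_zero hy), div_inv hK, h, add_neg_cancel]
  have h2 : x * y⁻¹ ∈ FunFld.L (0 : FunFld.Divisor k K) := by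
    rw [mem_L_iff_nonneg hK _ (mul_ne_zero hx (inv_ne_zero hy)), h1, add_zero]
  rw [L_zero_eq_one hK, Submodule.mem_one] at h2
  obtain ⟨c, hc⟩ := h2
  refine ⟨c, ?_, ?_⟩
  · rintro rfl
    rw [map_zero] at hc
    exact mul_ne_zero hx (inv_ne_zero hy) hc.symm
  · rw [Algebra.smul_def, hc, inv_mul_cancel_right₀ hy]

/-- The effective divisors linearly equivalent to `D`. -/
abbrev EffIn (D : FunFld.Divisor k K) : Type _ :=
  {E : FunFld.Divisor k K // 0 ≤ E ∧ ∃ x : K, x ≠ 0 ∧ E = D + FunFld.div k x}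

/-- The number of effective divisors in the class of `D` is `(q^ℓ(D) - 1)/(q - 1)`. -/
theorem card_effIn [Finite k] (hK : FunFld.IsFunctionField k K) (D : FunFld.Divisor k K) :
    Nat.card (EffIn D) * Nat.card kˣ + 1 = Nat.card k ^ FunFld.ell D := by
  classical
  have hfd : Module.Finite k ↥(FunFld.L D) := finiteDimensional_L hK D
  have hfin : Finite ↥(FunFld.L D) := Module.finite_of_finite k
  rw [FunFld.ell, ← Module.natCard_eq_pow_finrank (K := k) (V := ↥(FunFld.L D)),
    ← Nat.card_congr (Equiv.optionSubtypeNe (0 : ↥(FunFld.L D))), Finite.card_option,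
    ← Nat.card_prod]
  congr 1
  -- choose representatives
  have hsec : ∀ E : EffIn D, ∃ x : K, x ≠ 0 ∧ E.1 = D + FunFld.div k x := fun E => E.2.2
  choose s hs0 hsE using hsec
  have hsL : ∀ E : EffIn D, s E ∈ FunFld.L D := fun E => by
    rw [mem_L_iff_nonneg hK D (hs0 E), ← hsE E]; exact E.2.1
  refine Nat.card_congr (Equiv.ofBijective
    (fun p : EffIn D × kˣ => (⟨⟨(p.2 : k) • s p.1, Submodule.smul_mem _ _ (hsL p.1)⟩, by
      rw [Ne, Subtype.ext_iff]
      exact smul_ne_zero p.2.ne_zero (hs0 p.1)⟩ : {v : ↥(FunFld.L D) // v ≠ 0})) ⟨?_, ?_⟩)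
  · rintro ⟨E, u⟩ ⟨E', u'⟩ h
    have h1 : (u : k) • s E = (u' : k) • s E' := by
      have := congrArg (fun v : {v : ↥(FunFld.L D) // v ≠ 0} => (v.1 : K)) h
      exact this
    have h2 : E = E' := by
      apply Subtype.ext
      rw [hsE E, hsE E', ← div_smul hK u.ne_zero (hs0 E), h1, div_smul hK u'.ne_zero (hs0 E')]
    subst h2
    have h3 : (u : k) = u' := smul_left_injective k (hs0 E) h1
    rw [Units.ext h3]
  · rintro ⟨⟨x, hxL⟩, hx0⟩
    have hx0' : x ≠ 0 := fun h => hx0 (Subtype.ext h)
    let E : EffIn D := ⟨D + FunFld.div k x, (mem_L_iff_nonneg hK D hx0').1 hxL, x, hx0', rfl⟩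
    have h1 : FunFld.div k x = FunFld.div k (s E) := add_left_cancel (hsE E)
    obtain ⟨c, hc0, hc⟩ := exists_smul_eq_of_div_eq hK hx0' (hs0 E) h1
    refine ⟨(E, Units.mk0 c hc0), ?_⟩
    apply Subtype.ext
    apply Subtype.ext
    exact hc

end Count

section Count2

/-- Counting effective divisors of degree `n` through the fibres of the class map. -/
theorem card_effDiv_fibre [Finite k] (hK : FunFld.IsFunctionField k K) (n : ℕ)
    (D1 : FunFld.Divisor k K) (hD1 : D1.deg = n) (e : ℕ)
    (he : ∀ C : FunFld.Divisor k K, C.deg = 0 → FunFld.ell (D1 + C) = e) :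
    FunFld.effDivCount k K n * Nat.card kˣ + FunFld.classNum k K =
      FunFld.classNum k K * Nat.card k ^ e := by
  classical
  have hfinS : Finite {D : FunFld.Divisor k K // 0 ≤ D ∧ D.deg = (n : ℤ)} :=
    (finite_effDiv hK n).to_subtype
  have hfinG : Finite (ClGrp k K) := finite_clGrp hK
  let _ := Fintype.ofFinite (ClGrp k K)
  let f : {D : FunFld.Divisor k K // 0 ≤ D ∧ D.deg = (n : ℤ)} → ClGrp k K :=
    fun E => QuotientAddGroup.mk ⟨E.1 - D1, by
      rw [AddMonoidHom.mem_ker, degHom_apply, deg_sub, E.2.2, hD1, sub_self]⟩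
  have hfib : ∀ c : ClGrp k K,
      Nat.card {E : {D : FunFld.Divisor k K // 0 ≤ D ∧ D.deg = (n : ℤ)} // f E = c} *
        Nat.card kˣ + 1 = Nat.card k ^ e := by
    intro c
    obtain ⟨⟨C, hC⟩, rfl⟩ := QuotientAddGroup.mk_surjective c
    have hC' : C.deg = 0 := by rwa [AddMonoidHom.mem_ker, degHom_apply] at hC
    rw [← he C hC', ← card_effIn hK (D1 + C)]
    congr 2
    refine Nat.card_congr
      { toFun := fun E => ⟨E.1.1, E.1.2.1, ?_⟩
        invFun := fun E => ⟨⟨E.1, E.2.1, ?_⟩, ?_⟩
        left_inv := fun E => rfl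
        right_inv := fun E => rfl }
    · have h1 := E.2
      rw [eq_comm, clGrp_mk_eq_iff hK] at h1
      obtain ⟨x, hx0, hx⟩ := h1
      refine ⟨x, hx0, ?_⟩
      simp only at hx
      rw [add_assoc, ← hx]; abel
    · obtain ⟨x, hx0, hx⟩ := E.2.2
      rw [hx, deg_add, deg_add, deg_div_eq_zero hK, hD1, hC']; ring
    · obtain ⟨x, hx0, hx⟩ := E.2.2
      rw [eq_comm, clGrp_mk_eq_iff hK]
      refine ⟨x, hx0, ?_⟩
      simp only
      rw [hx]; abel
  have h1 : FunFld.effDivCount k K n =
      ∑ c : ClGrp k K,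
        Nat.card {E : {D : FunFld.Divisor k K // 0 ≤ D ∧ D.deg = (n : ℤ)} // f E = c} := by
    rw [FunFld.effDivCount, ← Nat.card_sigma]
    exact Nat.card_congr (Equiv.sigmaFiberEquiv f).symm
  have h2 : FunFld.classNum k K = Fintype.card (ClGrp k K) := by
    rw [FunFld.classNum, Nat.card_eq_fintype_card]
  rw [h1, h2, Finset.sum_mul, Fintype.card_eq_sum_ones, ← Finset.sum_add_distrib, Finset.sum_mul]
  refine Finset.sum_congr rfl fun c _ => ?_
  rw [hfib c, one_mul]

end Count2

end Groth.Agent.Lib.H40FunFld
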