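import Groth.Agent.Lib.H40FunFldZeta
import Mathlib.GroupTheory.Archimedean
import Mathlib.RingTheory.PowerSeries.Basic
import Mathlib.Algebra.Polynomial.Eval.Degree

set_option autoImplicit false
set_option linter.style.haveILetI false
set_option linter.unusedSectionVars false
open FunFld Polynomial

namespace Groth.Agent.Lib.H40FunFld

universe u v
variable {k : Type u} {K : Type v} [Field k] [Field K] [Algebra k K]

section Zeta2

/-- The degrees of divisors are the multiples of a positive integer `d`. -/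
theorem exists_degGen (hK : FunFld.IsFunctionField k K) :
    ∃ d : ℕ, 0 < d ∧ ∀ m : ℤ, (∃ D : FunFld.Divisor k K, D.deg = m) ↔ (d : ℤ) ∣ m := by
  obtain ⟨a, ha⟩ := Int.subgroup_cyclic (FunFld.degHom k K).range
  have hmem : ∀ m : ℤ, (∃ D : FunFld.Divisor k K, D.deg = m) ↔ (a.natAbs : ℤ) ∣ m := by
    intro m
    have h1 : (∃ D : FunFld.Divisor k K, D.deg = m) ↔ m ∈ (FunFld.degHom k K).range := by
      rw [AddMonoidHom.mem_range]
      exact exists_congr fun D => by rw [degHom_apply]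
    rw [h1, ha, AddSubgroup.mem_closure_singleton, Int.natAbs_dvd]
    constructor
    · rintro ⟨n, rfl⟩; exact ⟨n, by rw [smul_eq_mul, mul_comm]⟩
    · rintro ⟨n, rfl⟩; exact ⟨n, by rw [smul_eq_mul, mul_comm]⟩
  refine ⟨a.natAbs, ?_, hmem⟩
  obtain ⟨P0⟩ := exists_place hK
  have h2 := (hmem (P0.deg : ℤ)).1 ⟨Finsupp.single P0 1, by rw [deg_single, one_mul]⟩
  have h3 := deg_pos hK P0
  rcases Nat.eq_zero_or_pos a.natAbs with h0 | h0
  · rw [h0] at h2
    simp only [Nat.cast_zero, zero_dvd_iff, Nat.cast_eq_zero] at h2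
    omega
  · exact h0

theorem classNum_pos [Finite k] (hK : FunFld.IsFunctionField k K) : 0 < FunFld.classNum k K := by
  have := finite_clGrp hK
  exact Nat.card_pos

theorem effDivCount_of_dvd [Finite k] (hK : FunFld.IsFunctionField k K) {d : ℕ}
    (hd : ∀ m : ℤ, (∃ D : FunFld.Divisor k K, D.deg = m) ↔ (d : ℤ) ∣ m) {n : ℕ}
    (hn : 2 * FunFld.genus k K ≤ n + 1) (hdn : d ∣ n) :
    FunFld.effDivCount k K n * Nat.card kˣ + FunFld.classNum k K =
      FunFld.classNum k K * Nat.card k ^ (n + 1 - FunFld.genus k K) := by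
  obtain ⟨D1, hD1⟩ := (hd n).2 (by exact_mod_cast hdn)
  refine card_effDiv_fibre hK n D1 hD1 _ ?_
  intro C hC
  have h1 := ell_eq_of_deg_ge hK (D1 + C) (by rw [deg_add, hD1, hC]; omega)
  rw [deg_add, hD1, hC] at h1
  omega

theorem effDivCount_of_not_dvd (_hK : FunFld.IsFunctionField k K) {d : ℕ}
    (hd : ∀ m : ℤ, (∃ D : FunFld.Divisor k K, D.deg = m) ↔ (d : ℤ) ∣ m) {n : ℕ}
    (hdn : ¬ d ∣ n) : FunFld.effDivCount k K n = 0 := by
  rw [FunFld.effDivCount]
  have : IsEmpty {D : FunFld.Divisor k K // 0 ≤ D ∧ D.deg = (n : ℤ)} :=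
    ⟨fun D => hdn (by exact_mod_cast (hd n).1 ⟨D.1, D.2.2⟩)⟩
  exact Nat.card_of_isEmpty

theorem sum_coeff_one_sub_X_mul (B : PowerSeries ℤ) (N : ℕ) :
    ∑ n ∈ Finset.range (N + 1), PowerSeries.coeff n ((1 - PowerSeries.X) * B) =
      PowerSeries.coeff N B := by
  induction N with
  | zero => simp
  | succ N ih =>
    rw [Finset.sum_range_succ, ih, sub_mul, one_mul, map_sub, PowerSeries.coeff_succ_X_mul]
    ring

theorem eval_one_eq_coeff (p : ℤ[X]) (B : PowerSeries ℤ)
    (hp : (p : PowerSeries ℤ) = (1 - PowerSeries.X) * B) (N : ℕ) (hN : p.natDegree ≤ N) :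
    p.eval 1 = PowerSeries.coeff N B := by
  rw [← sum_coeff_one_sub_X_mul B N, ← hp, Polynomial.eval_eq_sum_range' (Nat.lt_succ_of_le hN)]
  refine Finset.sum_congr rfl fun n _ => ?_
  rw [one_pow, mul_one, Polynomial.coeff_coe]

theorem coeff_succ_one_sub_C_X_mul (q : ℤ) (Z : PowerSeries ℤ) (N : ℕ) :
    PowerSeries.coeff (N + 1) ((1 - PowerSeries.C q * PowerSeries.X) * Z) =
      PowerSeries.coeff (N + 1) Z - q * PowerSeries.coeff N Z := by
  rw [sub_mul, one_mul, map_sub, mul_assoc, PowerSeries.coeff_C_mul, PowerSeries.coeff_succ_X_mul]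

end Zeta2

end Groth.Agent.Lib.H40FunFld
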