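import Groth.Agent.Lib.H40FunFldSchmidt
import Mathlib.RingTheory.PowerSeries.Trunc

set_option autoImplicit false
set_option linter.style.haveILetI false
set_option linter.unusedSectionVars false
open FunFld Polynomial

namespace Groth.Agent.Lib.H40FunFld

universe u v
variable {k : Type u} {K : Type v} [Field k] [Field K] [Algebra k K]

section Zeta3

/-- Over a finite constant field every integer is the degree of a divisor. -/
theorem exists_deg_eq [Finite k] (hK : FunFld.IsFunctionField k K) (m : ℤ) :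
    ∃ D : FunFld.Divisor k K, D.deg = m := by
  obtain ⟨d, hd0, hd⟩ := exists_degGen hK
  have hd1 := degGen_eq_one hK hd0 hd
  rw [hd1] at hd
  exact (hd m).2 (by simp)

/-- The number of effective divisors of degree `n ≥ 2g - 1`. -/
theorem effDivCount_formula [Finite k] (hK : FunFld.IsFunctionField k K) {n : ℕ}
    (hn : 2 * FunFld.genus k K ≤ n + 1) :
    FunFld.effDivCount k K n * Nat.card kˣ + FunFld.classNum k K =
      FunFld.classNum k K * Nat.card k ^ (n + 1 - FunFld.genus k K) := by
  have hd : ∀ m : ℤ, (∃ D : FunFld.Divisor k K, D.deg = m) ↔ ((1 : ℕ) : ℤ) ∣ m :=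
    fun m => ⟨fun _ => by simp, fun _ => exists_deg_eq hK m⟩
  exact effDivCount_of_dvd hK hd hn (one_dvd n)

theorem coeff_zero_numerZ : PowerSeries.coeff 0 (FunFld.numerZ k K) =
    (FunFld.effDivCount k K 0 : ℤ) := by
  simp [FunFld.numerZ, FunFld.zetaZ]

theorem coeff_one_numerZ : PowerSeries.coeff 1 (FunFld.numerZ k K) =
    (FunFld.effDivCount k K 1 : ℤ) - ((Nat.card k : ℤ) + 1) * FunFld.effDivCount k K 0 := by
  rw [FunFld.numerZ, mul_assoc, sub_mul, one_mul, map_sub,
    show (1 : ℕ) = 0 + 1 from rfl, PowerSeries.coeff_succ_X_mul,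
    coeff_succ_one_sub_C_X_mul]
  simp [FunFld.zetaZ]
  ring

theorem coeff_add_two_numerZ (m : ℕ) : PowerSeries.coeff (m + 2) (FunFld.numerZ k K) =
    (FunFld.effDivCount k K (m + 2) : ℤ) -
      ((Nat.card k : ℤ) + 1) * FunFld.effDivCount k K (m + 1) +
      (Nat.card k : ℤ) * FunFld.effDivCount k K m := by
  rw [FunFld.numerZ, mul_assoc, sub_mul, one_mul, map_sub,
    show m + 2 = (m + 1) + 1 from rfl, PowerSeries.coeff_succ_X_mul,
    coeff_succ_one_sub_C_X_mul, coeff_succ_one_sub_C_X_mul]
  simp only [FunFld.zetaZ, PowerSeries.coeff_mk]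
  ring

/-- The numerator of the zeta function has degree at most `2g`. -/
theorem coeff_numerZ_eq_zero [Finite k] (hK : FunFld.IsFunctionField k K) {n : ℕ}
    (hn : 2 * FunFld.genus k K < n) : PowerSeries.coeff n (FunFld.numerZ k K) = 0 := by
  have hqu : Nat.card k = Nat.card kˣ + 1 := Nat.card_eq_card_units_add_one k
  have hquz : (Nat.card k : ℤ) = (Nat.card kˣ : ℤ) + 1 := by exact_mod_cast hqu
  have hu : (Nat.card kˣ : ℤ) ≠ 0 := by
    have : 2 ≤ Nat.card k := Finite.one_lt_card
    have : 0 < Nat.card kˣ := by omega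
    exact_mod_cast this.ne'
  rcases Nat.lt_or_ge n 2 with hn2 | hn2
  · have hn1 : n = 1 := by omega
    have hg0 : FunFld.genus k K = 0 := by omega
    subst hn1
    rw [coeff_one_numerZ]
    have h0 := effDivCount_formula hK (n := 0) (by omega)
    have h1 := effDivCount_formula hK (n := 1) (by omega)
    rw [hg0] at h0 h1
    have h0z : ((FunFld.effDivCount k K 0 : ℤ)) * (Nat.card kˣ : ℤ) + FunFld.classNum k K =
        FunFld.classNum k K * (Nat.card k : ℤ) ^ 1 := by exact_mod_cast h0
    have h1z : ((FunFld.effDivCount k K 1 : ℤ)) * (Nat.card kˣ : ℤ) + FunFld.classNum k K =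
        FunFld.classNum k K * (Nat.card k : ℤ) ^ 2 := by exact_mod_cast h1
    apply mul_left_cancel₀ hu
    rw [mul_zero]
    linear_combination h1z - ((Nat.card k : ℤ) + 1) * h0z
  obtain ⟨m, rfl⟩ : ∃ m, n = m + 2 := ⟨n - 2, by omega⟩
  rw [coeff_add_two_numerZ]
  have h0 := effDivCount_formula hK (n := m) (by omega)
  have h1 := effDivCount_formula hK (n := m + 1) (by omega)
  have h2 := effDivCount_formula hK (n := m + 2) (by omega)
  obtain ⟨e, he⟩ : ∃ e : ℕ, m + 1 - FunFld.genus k K = e := ⟨_, rfl⟩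
  have he1 : m + 1 + 1 - FunFld.genus k K = e + 1 := by omega
  have he2 : m + 2 + 1 - FunFld.genus k K = e + 2 := by omega
  rw [he] at h0
  rw [he1] at h1
  rw [he2] at h2
  have h0z : ((FunFld.effDivCount k K m : ℤ)) * (Nat.card kˣ : ℤ) + FunFld.classNum k K =
      FunFld.classNum k K * (Nat.card k : ℤ) ^ e := by exact_mod_cast h0
  have h1z : ((FunFld.effDivCount k K (m + 1) : ℤ)) * (Nat.card kˣ : ℤ) + FunFld.classNum k K =
      FunFld.classNum k K * (Nat.card k : ℤ) ^ (e + 1) := by exact_mod_cast h1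
  have h2z : ((FunFld.effDivCount k K (m + 2) : ℤ)) * (Nat.card kˣ : ℤ) + FunFld.classNum k K =
      FunFld.classNum k K * (Nat.card k : ℤ) ^ (e + 2) := by exact_mod_cast h2
  apply mul_left_cancel₀ hu
  rw [mul_zero]
  rw [pow_succ] at h1z
  rw [pow_succ, pow_succ] at h2z
  linear_combination h2z - ((Nat.card k : ℤ) + 1) * h1z + (Nat.card k : ℤ) * h0z

/-- Rationality of the zeta function. -/
theorem exists_polynomial_eq_numerZ [Finite k] (hK : FunFld.IsFunctionField k K) :
    ∃ p : Polynomial ℤ, (p : PowerSeries ℤ) = FunFld.numerZ k K ∧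
      p.natDegree ≤ 2 * FunFld.genus k K := by
  refine ⟨PowerSeries.trunc (2 * FunFld.genus k K + 1) (FunFld.numerZ k K), ?_, ?_⟩
  · ext n
    rw [Polynomial.coeff_coe, PowerSeries.coeff_trunc]
    split_ifs with h
    · rfl
    · exact (coeff_numerZ_eq_zero hK (by omega)).symm
  · have := PowerSeries.natDegree_trunc_lt (FunFld.numerZ k K) (2 * FunFld.genus k K)
    omega

end Zeta3

end Groth.Agent.Lib.H40FunFld
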