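import Groth.Agent.Lib.H40FunFldZeta3
import Groth.Agent.Lib.H40FunFldConorm

/-!
# The functional equation of the zeta function of a function field over a finite field
(coefficientwise form), via Riemann–Roch symmetry of `β(n) = ∑_{deg C = n} q^ℓ(C)`.
-/

set_option autoImplicit false
set_option linter.style.haveILetI false
set_option linter.unusedSectionVars false
open FunFld Polynomial

namespace Groth.Agent.Lib.H40FunFld

universe u v
variable {k : Type u} {K : Type v} [Field k] [Field K] [Algebra k K]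

section Zeta4

/-- Counting effective divisors of degree `n` class by class. -/
theorem card_effDiv_fibre' [Finite k] (hK : FunFld.IsFunctionField k K) (n : ℕ)
    (D1 : FunFld.Divisor k K) (hD1 : D1.deg = n) [Fintype (ClGrp k K)]
    (rep : ClGrp k K → (FunFld.degHom k K).ker)
    (hrep : ∀ c, (QuotientAddGroup.mk (rep c) : ClGrp k K) = c) :
    FunFld.effDivCount k K n * Nat.card kˣ + FunFld.classNum k K =
      ∑ c : ClGrp k K, Nat.card k ^ FunFld.ell (D1 + (rep c : FunFld.Divisor k K)) := by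
  classical
  have hfinS : Finite {D : FunFld.Divisor k K // 0 ≤ D ∧ D.deg = (n : ℤ)} :=
    (finite_effDiv hK n).to_subtype
  let f : {D : FunFld.Divisor k K // 0 ≤ D ∧ D.deg = (n : ℤ)} → ClGrp k K :=
    fun E => QuotientAddGroup.mk ⟨E.1 - D1, by
      rw [AddMonoidHom.mem_ker, degHom_apply, deg_sub, E.2.2, hD1, sub_self]⟩
  have hfib : ∀ c : ClGrp k K,
      Nat.card {E : {D : FunFld.Divisor k K // 0 ≤ D ∧ D.deg = (n : ℤ)} // f E = c} *
        Nat.card kˣ + 1 = Nat.card k ^ FunFld.ell (D1 + (rep c : FunFld.Divisor k K)) := by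
    intro c
    have hC' : (rep c : FunFld.Divisor k K).deg = 0 := by
      have := (rep c).2
      rwa [AddMonoidHom.mem_ker, degHom_apply] at this
    rw [← card_effIn hK (D1 + (rep c : FunFld.Divisor k K))]
    congr 2
    refine Nat.card_congr
      { toFun := fun E => ⟨E.1.1, E.1.2.1, ?_⟩
        invFun := fun E => ⟨⟨E.1, E.2.1, ?_⟩, ?_⟩
        left_inv := fun E => rfl
        right_inv := fun E => rfl }
    · have h1 : (QuotientAddGroup.mk (rep c) : ClGrp k K) = f E.1 := (hrep c).trans E.2.symm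
      rw [clGrp_mk_eq_iff hK] at h1
      obtain ⟨x, hx0, hx⟩ := h1
      refine ⟨x, hx0, ?_⟩
      simp only at hx
      rw [add_assoc, ← hx]; abel
    · obtain ⟨x, hx0, hx⟩ := E.2.2
      rw [hx, deg_add, deg_add, deg_div_eq_zero hK, hD1, hC']; ring
    · obtain ⟨x, hx0, hx⟩ := E.2.2
      refine Eq.trans ?_ (hrep c)
      rw [eq_comm, clGrp_mk_eq_iff hK]
      refine ⟨x, hx0, ?_⟩
      simp only
      rw [hx]; abel
  have hfinG : Finite (ClGrp k K) := Finite.of_fintype _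
  have h1 : FunFld.effDivCount k K n =
      ∑ c : ClGrp k K,
        Nat.card {E : {D : FunFld.Divisor k K // 0 ≤ D ∧ D.deg = (n : ℤ)} // f E = c} := by
    rw [FunFld.effDivCount, ← Nat.card_sigma]
    exact Nat.card_congr (Equiv.sigmaFiberEquiv f).symm
  have h2 : FunFld.classNum k K = Fintype.card (ClGrp k K) := by
    rw [FunFld.classNum, Nat.card_eq_fintype_card]
  rw [h1, h2, Finset.sum_mul, Fintype.card_eq_sum_ones, ← Finset.sum_add_distrib]
  exact Finset.sum_congr rfl fun c _ => hfib c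

theorem effDivCount_zero (hK : FunFld.IsFunctionField k K) : FunFld.effDivCount k K 0 = 1 := by
  rw [FunFld.effDivCount]
  have : Unique {D : FunFld.Divisor k K // 0 ≤ D ∧ D.deg = ((0 : ℕ) : ℤ)} :=
    { default := ⟨0, le_refl _, by rw [deg_zero]; rfl⟩
      uniq := fun D => Subtype.ext (eq_zero_of_nonneg_of_deg_eq_zero hK D.2.1 (by
        rw [D.2.2]; rfl)) }
  exact Nat.card_unique

end Zeta4

section Zeta5

variable [Fintype (ClGrp k K)]

/-- `β(n) = ∑ q^ℓ(C)` over the divisor classes `C` of degree `n`. -/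
noncomputable def betaQ (D1 : FunFld.Divisor k K) (rep : ClGrp k K → (FunFld.degHom k K).ker)
    (n : ℤ) : ℚ :=
  ∑ c : ClGrp k K, (Nat.card k : ℚ) ^ FunFld.ell (n • D1 + (rep c : FunFld.Divisor k K))

theorem deg_rep (rep : ClGrp k K → (FunFld.degHom k K).ker) (c : ClGrp k K) :
    (rep c : FunFld.Divisor k K).deg = 0 := by
  have := (rep c).2
  rwa [AddMonoidHom.mem_ker, degHom_apply] at this

/-- Riemann–Roch symmetry of `β`. -/
theorem betaQ_symm [Finite k] (hK : FunFld.IsFunctionField k K) {D1 : FunFld.Divisor k K}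
    (hD1 : D1.deg = 1) (rep : ClGrp k K → (FunFld.degHom k K).ker)
    (hrep : ∀ c, (QuotientAddGroup.mk (rep c) : ClGrp k K) = c) (n : ℤ) :
    betaQ D1 rep (2 * (FunFld.genus k K : ℤ) - 2 - n) =
      (Nat.card k : ℚ) ^ ((FunFld.genus k K : ℤ) - 1 - n) * betaQ D1 rep n := by
  obtain ⟨W, hW⟩ := exists_isCanonical hK
  have hq0 : (Nat.card k : ℚ) ≠ 0 := by
    have : 0 < Nat.card k := Nat.card_pos
    exact_mod_cast this.ne'
  have hW0 : W - (2 * (FunFld.genus k K : ℤ) - 2) • D1 ∈ (FunFld.degHom k K).ker := by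
    rw [AddMonoidHom.mem_ker, degHom_apply, deg_sub, deg_zsmul, hD1, deg_canonical hK hW]
    ring
  set w0 : ClGrp k K := QuotientAddGroup.mk ⟨_, hW0⟩ with hw0
  have hterm : ∀ c : ClGrp k K,
      (Nat.card k : ℚ) ^ FunFld.ell (n • D1 + (rep c : FunFld.Divisor k K)) =
        (Nat.card k : ℚ) ^ (n + 1 - (FunFld.genus k K : ℤ)) *
          (Nat.card k : ℚ) ^ FunFld.ell ((2 * (FunFld.genus k K : ℤ) - 2 - n) • D1 +
            (rep (w0 - c) : FunFld.Divisor k K)) := by
    intro c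
    have hrr := riemann_roch hK hW (n • D1 + (rep c : FunFld.Divisor k K))
    rw [deg_add, deg_zsmul, hD1, deg_rep, mul_one, add_zero] at hrr
    have hcl : (QuotientAddGroup.mk (⟨_, hW0⟩ - rep c) : ClGrp k K) =
        QuotientAddGroup.mk (rep (w0 - c)) := by
      rw [hrep, QuotientAddGroup.mk_sub, hrep]
    rw [clGrp_mk_eq_iff hK] at hcl
    obtain ⟨x, hx0, hx⟩ := hcl
    have hEq : W - (n • D1 + (rep c : FunFld.Divisor k K)) + FunFld.div k x =
        (2 * (FunFld.genus k K : ℤ) - 2 - n) • D1 + (rep (w0 - c) : FunFld.Divisor k K) := by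
      rw [hx]
      simp only [AddSubgroup.coe_sub, sub_smul]
      abel
    have hell : FunFld.ell (W - (n • D1 + (rep c : FunFld.Divisor k K))) =
        FunFld.ell ((2 * (FunFld.genus k K : ℤ) - 2 - n) • D1 +
          (rep (w0 - c) : FunFld.Divisor k K)) := by
      rw [← hEq, ell_add_div hK _ hx0]
    rw [hell] at hrr
    rw [← zpow_natCast, hrr, zpow_add₀ hq0, zpow_natCast]
  have h1 : betaQ D1 rep n = (Nat.card k : ℚ) ^ (n + 1 - (FunFld.genus k K : ℤ)) *
      betaQ D1 rep (2 * (FunFld.genus k K : ℤ) - 2 - n) := by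
    unfold betaQ
    rw [Finset.mul_sum, ← Equiv.sum_comp (Equiv.subLeft w0)
      (fun c' => (Nat.card k : ℚ) ^ (n + 1 - (FunFld.genus k K : ℤ)) *
        (Nat.card k : ℚ) ^ FunFld.ell ((2 * (FunFld.genus k K : ℤ) - 2 - n) • D1 +
          (rep c' : FunFld.Divisor k K)))]
    exact Finset.sum_congr rfl fun c _ => hterm c
  rw [h1, ← mul_assoc, ← zpow_add₀ hq0]
  have : (FunFld.genus k K : ℤ) - 1 - n + (n + 1 - (FunFld.genus k K : ℤ)) = 0 := by ring
  rw [this, zpow_zero, one_mul]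

/-- `A(n)`: the number of effective divisors of degree `n`, extended by `0` to negative `n`. -/
noncomputable def effQ (k : Type u) (K : Type v) [Field k] [Field K] [Algebra k K] (n : ℤ) : ℚ :=
  if 0 ≤ n then (FunFld.effDivCount k K n.toNat : ℚ) else 0

theorem effQ_natCast (n : ℕ) : effQ k K (n : ℤ) = (FunFld.effDivCount k K n : ℚ) := by
  rw [effQ, if_pos (Int.natCast_nonneg n), Int.toNat_natCast]

theorem effQ_of_neg {n : ℤ} (hn : n < 0) : effQ k K n = 0 := by
  rw [effQ, if_neg (by omega)]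

/-- `(q - 1) A(n) = β(n) - h` for every integer `n`. -/
theorem effQ_eq [Finite k] (hK : FunFld.IsFunctionField k K) {D1 : FunFld.Divisor k K}
    (hD1 : D1.deg = 1) (rep : ClGrp k K → (FunFld.degHom k K).ker)
    (hrep : ∀ c, (QuotientAddGroup.mk (rep c) : ClGrp k K) = c) (n : ℤ) :
    ((Nat.card k : ℚ) - 1) * effQ k K n = betaQ D1 rep n - (FunFld.classNum k K : ℚ) := by
  have hqu : Nat.card k = Nat.card kˣ + 1 := Nat.card_eq_card_units_add_one k
  have hquz : (Nat.card k : ℚ) - 1 = (Nat.card kˣ : ℚ) := by rw [hqu]; push_cast; ring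
  rcases lt_or_ge n 0 with hn | hn
  · rw [effQ_of_neg hn, mul_zero, betaQ]
    have : ∀ c : ClGrp k K, FunFld.ell (n • D1 + (rep c : FunFld.Divisor k K)) = 0 := by
      intro c
      rw [FunFld.ell, L_eq_bot_of_deg_neg hK _ (by
        rw [deg_add, deg_zsmul, hD1, deg_rep]; omega), finrank_bot]
    simp only [this, pow_zero, Finset.sum_const, Finset.card_univ, nsmul_eq_mul, mul_one]
    rw [FunFld.classNum, Nat.card_eq_fintype_card, sub_self]
  · obtain ⟨m, rfl⟩ := Int.eq_ofNat_of_zero_le hn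
    rw [effQ_natCast, hquz]
    have h1 := card_effDiv_fibre' hK m ((m : ℤ) • D1) (by rw [deg_zsmul, hD1, mul_one]) rep hrep
    have h2 : ((FunFld.effDivCount k K m * Nat.card kˣ + FunFld.classNum k K : ℕ) : ℚ) =
        ((∑ c : ClGrp k K,
          Nat.card k ^ FunFld.ell ((m : ℤ) • D1 + (rep c : FunFld.Divisor k K)) : ℕ) : ℚ) := by
      rw [h1]
    push_cast at h2
    rw [betaQ]
    linarith

theorem coeff_numerZ_eq_effQ (n : ℕ) :
    ((PowerSeries.coeff n (FunFld.numerZ k K) : ℤ) : ℚ) =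
      effQ k K n - ((Nat.card k : ℚ) + 1) * effQ k K ((n : ℤ) - 1) +
        (Nat.card k : ℚ) * effQ k K ((n : ℤ) - 2) := by
  rcases n with _ | _ | m
  · have h1 : effQ k K (((0 : ℕ) : ℤ) - 1) = 0 := effQ_of_neg (by norm_num)
    have h2 : effQ k K (((0 : ℕ) : ℤ) - 2) = 0 := effQ_of_neg (by norm_num)
    rw [coeff_zero_numerZ, h1, h2, effQ_natCast]
    push_cast; ring
  · have h2 : effQ k K (((0 + 1 : ℕ) : ℤ) - 2) = 0 := effQ_of_neg (by norm_num)
    rw [coeff_one_numerZ, h2]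
    rw [show ((0 + 1 : ℕ) : ℤ) - 1 = ((0 : ℕ) : ℤ) by norm_num, effQ_natCast, effQ_natCast]
    push_cast; ring
  · rw [coeff_add_two_numerZ]
    rw [show ((m + 1 + 1 : ℕ) : ℤ) - 1 = ((m + 1 : ℕ) : ℤ) by push_cast; ring,
      show ((m + 1 + 1 : ℕ) : ℤ) - 2 = ((m : ℕ) : ℤ) by push_cast; ring,
      effQ_natCast, effQ_natCast, effQ_natCast]
    push_cast; ring

/-- `(q - 1) c_n` in terms of `β`. -/
theorem coeff_numerZ_eq_betaQ [Finite k] (hK : FunFld.IsFunctionField k K)
    {D1 : FunFld.Divisor k K}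
    (hD1 : D1.deg = 1) (rep : ClGrp k K → (FunFld.degHom k K).ker)
    (hrep : ∀ c, (QuotientAddGroup.mk (rep c) : ClGrp k K) = c) (n : ℕ) :
    ((Nat.card k : ℚ) - 1) * ((PowerSeries.coeff n (FunFld.numerZ k K) : ℤ) : ℚ) =
      betaQ D1 rep n - ((Nat.card k : ℚ) + 1) * betaQ D1 rep ((n : ℤ) - 1) +
        (Nat.card k : ℚ) * betaQ D1 rep ((n : ℤ) - 2) := by
  rw [coeff_numerZ_eq_effQ]
  have e0 := effQ_eq hK hD1 rep hrep n
  have e1 := effQ_eq hK hD1 rep hrep ((n : ℤ) - 1)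
  have e2 := effQ_eq hK hD1 rep hrep ((n : ℤ) - 2)
  linear_combination e0 - ((Nat.card k : ℚ) + 1) * e1 + (Nat.card k : ℚ) * e2

/-- The functional equation of the numerator of the zeta function, coefficientwise. -/
theorem coeff_numerZ_functional [Finite k] (hK : FunFld.IsFunctionField k K) {i : ℕ}
    (hi : i ≤ 2 * FunFld.genus k K) :
    (((PowerSeries.coeff (2 * FunFld.genus k K - i) (FunFld.numerZ k K) : ℤ)) : ℚ) =
      (Nat.card k : ℚ) ^ ((FunFld.genus k K : ℤ) - i) *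
        (((PowerSeries.coeff i (FunFld.numerZ k K) : ℤ)) : ℚ) := by
  obtain ⟨D1, hD1⟩ := exists_deg_eq hK 1
  have hrep : ∀ c : ClGrp k K, (QuotientAddGroup.mk (Quotient.out c) : ClGrp k K) = c :=
    fun c => Quotient.out_eq c
  have hq0 : (Nat.card k : ℚ) ≠ 0 := by
    have : 0 < Nat.card k := Nat.card_pos
    exact_mod_cast this.ne'
  have hq1 : (Nat.card k : ℚ) - 1 ≠ 0 := by
    have : 2 ≤ Nat.card k := Finite.one_lt_card
    have : (2 : ℚ) ≤ (Nat.card k : ℚ) := by exact_mod_cast this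
    linarith
  apply mul_left_cancel₀ hq1
  have hL := coeff_numerZ_eq_betaQ hK hD1 _ hrep (2 * FunFld.genus k K - i)
  have hR := coeff_numerZ_eq_betaQ hK hD1 _ hrep i
  have hcast : ((2 * FunFld.genus k K - i : ℕ) : ℤ) = 2 * (FunFld.genus k K : ℤ) - i := by
    rw [Nat.cast_sub hi]; push_cast; ring
  rw [hcast] at hL
  have s0 := betaQ_symm hK hD1 _ hrep ((i : ℤ) - 2)
  have s1 := betaQ_symm hK hD1 _ hrep ((i : ℤ) - 1)
  have s2 := betaQ_symm hK hD1 _ hrep (i : ℤ)
  rw [show 2 * (FunFld.genus k K : ℤ) - 2 - ((i : ℤ) - 2) = 2 * (FunFld.genus k K : ℤ) - i by ring,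
    show (FunFld.genus k K : ℤ) - 1 - ((i : ℤ) - 2) = ((FunFld.genus k K : ℤ) - i) + 1 by ring,
    zpow_add_one₀ hq0] at s0
  rw [show 2 * (FunFld.genus k K : ℤ) - 2 - ((i : ℤ) - 1) =
      2 * (FunFld.genus k K : ℤ) - i - 1 by ring,
    show (FunFld.genus k K : ℤ) - 1 - ((i : ℤ) - 1) = (FunFld.genus k K : ℤ) - i by ring] at s1
  rw [show 2 * (FunFld.genus k K : ℤ) - 2 - (i : ℤ) = 2 * (FunFld.genus k K : ℤ) - i - 2 by ring,
    show (FunFld.genus k K : ℤ) - 1 - (i : ℤ) = ((FunFld.genus k K : ℤ) - i) - 1 by ring,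
    zpow_sub_one₀ hq0] at s2
  have hR' : ((Nat.card k : ℚ) - 1) * ((Nat.card k : ℚ) ^ ((FunFld.genus k K : ℤ) - i) *
      (((PowerSeries.coeff i (FunFld.numerZ k K) : ℤ)) : ℚ)) =
      (Nat.card k : ℚ) ^ ((FunFld.genus k K : ℤ) - i) *
        (betaQ D1 Quotient.out i - ((Nat.card k : ℚ) + 1) * betaQ D1 Quotient.out ((i : ℤ) - 1) +
          (Nat.card k : ℚ) * betaQ D1 Quotient.out ((i : ℤ) - 2)) := by
    rw [mul_left_comm, hR]
  rw [hL, s0, s1, s2, hR']
  field_simp
  ring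

end Zeta5

end Groth.Agent.Lib.H40FunFld
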