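import Mathlib.Data.Multiset.MapFold
import Mathlib.Algebra.BigOperators.Fin
import Mathlib.Algebra.BigOperators.Group.Multiset.Basic
import Mathlib.Data.Fin.Tuple.Basic
import Mathlib.Data.Fintype.Fin
import Mathlib.Tactic

set_option autoImplicit false
set_option linter.style.haveILetI false
set_option linter.unusedSectionVars false
set_option linter.unusedSimpArgs false

namespace Groth.Agent.Lib.H40Pairing

variable {F : Type*} [Field F]

theorem rev_succ_castSucc {n : ℕ} (j : Fin n) :
    Fin.rev (j.castSucc.succ) = (Fin.rev j).castSucc.succ := by
  ext
  simp [Fin.val_rev]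
  omega

/-- Extending a pairing by a new outer pair. -/
theorem pairing_cons_snoc {n : ℕ} {q a b : F} (hab : a * b = q) (α' : Fin n → F)
    (h : ∀ i, α' i * α' (Fin.rev i) = q) (i : Fin (n + 1 + 1)) :
    (Fin.cons a (Fin.snoc α' b) : Fin (n + 1 + 1) → F) i *
      (Fin.cons a (Fin.snoc α' b) : Fin (n + 1 + 1) → F) (Fin.rev i) = q := by
  induction i using Fin.cases with
  | zero =>
    have : Fin.rev (0 : Fin (n + 1 + 1)) = Fin.last (n + 1) := by
      ext; simp [Fin.val_rev]
    rw [this, Fin.cons_zero, show Fin.last (n + 1) = (Fin.last n).succ from rfl, Fin.cons_succ,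
      Fin.snoc_last]
    exact hab
  | succ i =>
    induction i using Fin.lastCases with
    | last =>
      have : Fin.rev ((Fin.last n).succ) = (0 : Fin (n + 1 + 1)) := by
        ext; simp [Fin.val_rev]
      rw [this, Fin.cons_zero, Fin.cons_succ, Fin.snoc_last, mul_comm]
      exact hab
    | cast j =>
      rw [rev_succ_castSucc, Fin.cons_succ, Fin.cons_succ, Fin.snoc_castSucc, Fin.snoc_castSucc]
      exact h j

theorem map_cons_snoc_univ {n : ℕ} (a b : F) (α' : Fin n → F) :
    Multiset.map (Fin.cons a (Fin.snoc α' b) : Fin (n + 1 + 1) → F) Finset.univ.val =
      a ::ₘ b ::ₘ Multiset.map α' Finset.univ.val := by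
  rw [Fin.univ_val_map, Fin.univ_val_map, List.ofFn_succ, List.ofFn_succ_last]
  simp only [Fin.cons_zero, Fin.cons_succ, Fin.snoc_castSucc, Fin.snoc_last]
  rw [← Multiset.cons_coe, ← Multiset.coe_add, add_comm, ← Multiset.cons_coe, Multiset.coe_nil,
    Multiset.cons_zero, Multiset.singleton_add]

/-- A multiset of `2g` nonzero numbers, stable under `x ↦ q/x` and with product `q^g`, can be
listed so that the `i`-th and the `(2g-1-i)`-th entries multiply to `q`. -/
theorem exists_pairing {q : F} (hq : q ≠ 0) (h2 : (2 : F) ≠ 0) (g : ℕ) :
    ∀ S : Multiset F, Multiset.card S = 2 * g → S.map (fun x => q / x) = S → S.prod = q ^ g →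
      ∃ α : Fin (2 * g) → F, Multiset.map α Finset.univ.val = S ∧
        ∀ i, α i * α (Fin.rev i) = q := by
  classical
  induction g with
  | zero =>
    intro S hcard _ _
    rw [Nat.mul_zero, Multiset.card_eq_zero] at hcard
    subst hcard
    exact ⟨Fin.elim0, by simp, fun i => i.elim0⟩
  | succ g ih =>
    intro S hcard hinv hprod
    have hfinj : Function.Injective (fun x : F => q / x) := by
      intro x y hxy
      simp only at hxy
      by_cases hx : x = 0
      · subst hx
        rw [div_zero, eq_comm, div_eq_zero_iff] at hxy
        rcases hxy with h | h
        · exact absurd h hq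
        · exact h.symm
      · by_cases hy : y = 0
        · subst hy
          rw [div_zero, div_eq_zero_iff] at hxy
          rcases hxy with h | h
          · exact absurd h hq
          · exact absurd h hx
        · field_simp at hxy
          exact hxy.symm
    have h0 : (0 : F) ∉ S := by
      intro h
      have := Multiset.prod_eq_zero h
      rw [hprod] at this
      exact pow_ne_zero _ hq this
    -- key reduction: a pair (a, b) with a ∈ S, b = q / a ∈ S.erase a
    have key : ∀ a ∈ S, q / a ∈ S.erase a →
        ∃ α : Fin (2 * (g + 1)) → F, Multiset.map α Finset.univ.val = S ∧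
          ∀ i, α i * α (Fin.rev i) = q := by
      intro a haS hb
      have ha0 : a ≠ 0 := fun h => h0 (h ▸ haS)
      set b := q / a with hbdef
      have hab : a * b = q := by rw [hbdef]; field_simp
      have hfb : q / b = a := by rw [hbdef]; field_simp
      set S' := (S.erase a).erase b with hS'
      have hcard' : Multiset.card S' = 2 * g := by
        rw [hS', Multiset.card_erase_of_mem hb, Multiset.card_erase_of_mem haS, hcard]
        simp only [Nat.pred_eq_sub_one]
        omega
      have hinv' : S'.map (fun x => q / x) = S' := by
        rw [hS', Multiset.map_erase _ hfinj, Multiset.map_erase _ hfinj, hinv]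
        simp only [hfb]
        rw [← hbdef, Multiset.erase_comm]
      have hprod' : S'.prod = q ^ g := by
        have e1 := Multiset.prod_erase haS
        have e2 := Multiset.prod_erase hb
        rw [hprod, ← e2, ← mul_assoc, hab, pow_succ, mul_comm] at e1
        exact mul_right_cancel₀ hq e1
      obtain ⟨α', hα', hpair⟩ := ih S' hcard' hinv' hprod'
      refine ⟨(Fin.cons a (Fin.snoc α' b) : Fin (2 * g + 1 + 1) → F), ?_, ?_⟩
      · rw [map_cons_snoc_univ, hα', hS', Multiset.cons_erase hb, Multiset.cons_erase haS]
      · exact pairing_cons_snoc hab α' hpair
    by_cases hex : ∃ a ∈ S, a * a ≠ q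
    · obtain ⟨a, haS, haa⟩ := hex
      have ha0 : a ≠ 0 := fun h => h0 (h ▸ haS)
      apply key a haS
      have hbS : q / a ∈ S := by
        rw [← hinv]
        exact Multiset.mem_map_of_mem _ haS
      have hne : q / a ≠ a := by
        intro h
        apply haa
        rw [div_eq_iff ha0] at h
        exact h.symm
      exact (Multiset.mem_erase_of_ne hne).2 hbS
    · push Not at hex
      have hfix : ∀ a ∈ S, q / a = a := by
        intro a ha
        have ha0 : a ≠ 0 := fun h => h0 (h ▸ ha)
        rw [div_eq_iff ha0]
        exact (hex a ha).symm
      by_cases hdup : ∃ a ∈ S, a ∈ S.erase a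
      · obtain ⟨a, haS, ha2⟩ := hdup
        apply key a haS
        rw [hfix a haS]
        exact ha2
      · exfalso
        push Not at hdup
        -- pick a ∈ S and b ∈ S.erase a
        have hpos : 0 < Multiset.card S := by omega
        obtain ⟨a, haS⟩ := Multiset.card_pos_iff_exists_mem.1 hpos
        have hpos2 : 0 < Multiset.card (S.erase a) := by
          rw [Multiset.card_erase_of_mem haS, hcard]
          simp only [Nat.pred_eq_sub_one]
          omega
        obtain ⟨b, hb⟩ := Multiset.card_pos_iff_exists_mem.1 hpos2
        have hbS : b ∈ S := Multiset.mem_of_mem_erase hb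
        have hba : b ≠ a := fun h => hdup a haS (h ▸ hb)
        have hb_neg : b = -a := by
          have h1 := hex a haS
          have h2 := hex b hbS
          have h3 : (b - a) * (b + a) = 0 := by
            have : (b - a) * (b + a) = b * b - a * a := by ring
            rw [this, h2, h1, sub_self]
          rcases mul_eq_zero.1 h3 with h | h
          · exact absurd (sub_eq_zero.1 h) hba
          · exact eq_neg_of_add_eq_zero_left h
        by_cases hthird : ∃ c, c ∈ (S.erase a).erase b
        · obtain ⟨c, hc⟩ := hthird
          have hc1 : c ∈ S.erase a := Multiset.mem_of_mem_erase hc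
          have hcS : c ∈ S := Multiset.mem_of_mem_erase hc1
          have hca : c ≠ a := fun h => hdup a haS (h ▸ hc1)
          have hcb : c ≠ b := by
            intro h
            subst h
            have hbb : c ∈ S.erase c := by
              rw [Multiset.erase_comm] at hc
              exact Multiset.mem_of_mem_erase hc
            exact hdup c hbS hbb
          have h1 := hex a haS
          have h2 := hex c hcS
          have h3 : (c - a) * (c + a) = 0 := by
            have : (c - a) * (c + a) = c * c - a * a := by ring
            rw [this, h2, h1, sub_self]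
          rcases mul_eq_zero.1 h3 with h | h
          · exact hca (sub_eq_zero.1 h)
          · exact hcb ((eq_neg_of_add_eq_zero_left h).trans hb_neg.symm)
        · push Not at hthird
          have hempty : (S.erase a).erase b = 0 := Multiset.eq_zero_of_forall_notMem hthird
          have hc0 := congrArg Multiset.card hempty
          rw [Multiset.card_erase_of_mem hb, Multiset.card_erase_of_mem haS, hcard,
            Multiset.card_zero] at hc0
          simp only [Nat.pred_eq_sub_one] at hc0
          have hg0 : g = 0 := by omega
          have e1 := Multiset.prod_erase haS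
          have e2 := Multiset.prod_erase hb
          rw [hempty, Multiset.prod_zero, mul_one] at e2
          rw [← e2, hprod, hg0, hb_neg] at e1
          have h1 := hex a haS
          have : q + q = 0 := by
            have : a * -a = -q := by rw [← h1]; ring
            rw [this] at e1
            simp only [zero_add, pow_one] at e1
            linear_combination -e1
          have : (2 : F) * q = 0 := by rw [two_mul]; exact this
          rcases mul_eq_zero.1 this with h | h
          · exact h2 h
          · exact hq h

end Groth.Agent.Lib.H40Pairing
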