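import Groth.Agent.Lib.H40FunFldZeta4
import Groth.Agent.Lib.H40Pairing
import Mathlib.Algebra.Polynomial.Reverse
import Mathlib.Algebra.Polynomial.Splits
import Mathlib.FieldTheory.IsAlgClosed.Basic
import Mathlib.Analysis.Complex.Polynomial.Basic

/-!
# Factorization of the numerator of the zeta function over `ℂ` into `∏ (1 - αᵢ t)` with
`αᵢ α_{2g+1-i} = q`.
-/

set_option autoImplicit false
set_option linter.style.haveILetI false
set_option linter.unusedSectionVars false
open Polynomial

namespace Groth.Agent.Lib.H40FunFld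

section Reflect

variable {F : Type*} [Field F]

theorem reflect_multiset_prod_X_sub_C (S : Multiset F) :
    reflect (Multiset.card S) ((S.map fun a => X - C a).prod) =
      (S.map fun a => 1 - C a * X).prod := by
  induction S using Multiset.induction_on with
  | empty => simp [reflect_one]
  | cons a S ih =>
    rw [Multiset.map_cons, Multiset.prod_cons, Multiset.map_cons, Multiset.prod_cons,
      Multiset.card_cons, add_comm, reflect_mul _ _ (F := 1) (G := Multiset.card S)
        (natDegree_X_sub_C_le a) (natDegree_multiset_prod_X_sub_C_eq_card S).le, ih, reflect_sub,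
      reflect_one_X, reflect_C, pow_one]

/-- Abstract form: a polynomial `P` of degree `≤ 2g` with `P(0) = 1` satisfying the functional
equation `c_{2g-i} = q^{g-i} c_i` factors as `∏ (1 - αᵢ X)` with `αᵢ α_{2g-1-i} = q`; the `αᵢ` are
the roots of the reflected polynomial. -/
theorem exists_pairing_of_functional [IsAlgClosed F] {q : F} (hq : q ≠ 0) (h2 : (2 : F) ≠ 0)
    (g : ℕ) (P : F[X]) (hdeg : P.natDegree ≤ 2 * g) (hc0 : P.coeff 0 = 1)
    (hfe : ∀ i ≤ 2 * g, P.coeff (2 * g - i) = q ^ ((g : ℤ) - i) * P.coeff i) :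
    ∃ α : Fin (2 * g) → F, (∀ i, (P.reflect (2 * g)).IsRoot (α i)) ∧
      P = ∏ i, (1 - C (α i) * X) ∧ ∀ i, α i * α (Fin.rev i) = q := by
  classical
  set N := 2 * g with hN
  set Rr : F[X] := P.reflect N with hRr
  have hRr_coeff : ∀ i ≤ N, Rr.coeff i = P.coeff (N - i) := by
    intro i hi
    rw [hRr, coeff_reflect, revAt_le hi]
  have hRr_le : Rr.natDegree ≤ N := by
    have := natDegree_reflect_le (N := N) (p := P)
    rwa [max_eq_left hdeg] at this
  have hRr_monic : Rr.Monic :=
    monic_of_natDegree_le_of_coeff_eq_one N hRr_le (by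
      rw [hRr_coeff N le_rfl, Nat.sub_self]; exact hc0)
  have hRr_deg : Rr.natDegree = N := by
    apply le_antisymm hRr_le
    apply le_natDegree_of_ne_zero
    rw [hRr_coeff N le_rfl, Nat.sub_self, hc0]
    exact one_ne_zero
  have hspl : Rr.Splits := IsAlgClosed.splits Rr
  set S := Rr.roots with hS
  have hcard : Multiset.card S = N := by rw [← hspl.natDegree_eq_card_roots, hRr_deg]
  have hprodform : Rr = (S.map fun a => X - C a).prod := hspl.eq_prod_roots_of_monic hRr_monic
  have hP : P = Rr.reflect N := by rw [hRr, reflect_reflect]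
  have hPprod : P = (S.map fun a => 1 - C a * X).prod := by
    rw [hP, ← hcard, ← reflect_multiset_prod_X_sub_C, ← hprodform]
  have hRr0 : Rr.coeff 0 = q ^ g := by
    have := hfe 0 (Nat.zero_le _)
    rw [Nat.sub_zero, hc0, mul_one] at this
    rw [hRr_coeff 0 (Nat.zero_le _), Nat.sub_zero, this]
    simp
  have h0S : (0 : F) ∉ S := by
    intro h
    have := (mem_roots hRr_monic.ne_zero).1 h
    rw [IsRoot.def, ← coeff_zero_eq_eval_zero, hRr0] at this
    exact pow_ne_zero _ hq this
  have hprodS : S.prod = q ^ g := by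
    have := hspl.coeff_zero_eq_prod_roots_of_monic hRr_monic
    rw [hRr0, hRr_deg, hN, pow_mul, neg_one_sq, one_pow, one_mul] at this
    exact this.symm
  -- functional equation as a polynomial identity
  have hident : Rr = C (q ^ g) * P.comp (C q⁻¹ * X) := by
    ext i
    rw [coeff_C_mul, comp_C_mul_X_coeff]
    by_cases hi : i ≤ N
    · rw [hRr_coeff i hi, hfe i hi, zpow_sub₀ hq, zpow_natCast, zpow_natCast, inv_pow]
      field_simp
    · push Not at hi
      rw [hRr, coeff_reflect, revAt_eq_self_of_lt hi,
        coeff_eq_zero_of_natDegree_lt (lt_of_le_of_lt hdeg hi)]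
      ring
  have hinv : S.map (fun x => q / x) = S := by
    have h1 : P.comp (C q⁻¹ * X) = (S.map fun a => 1 - C (a * q⁻¹) * X).prod := by
      rw [hPprod, multiset_prod_comp, Multiset.map_map]
      congr 1
      apply Multiset.map_congr rfl
      intro a _
      simp only [Function.comp_apply, sub_comp, one_comp, mul_comp, C_comp, X_comp]
      rw [C_mul]; ring
    have h2 : (S.map fun a => 1 - C (a * q⁻¹) * X) =
        S.map fun a => C (-(a * q⁻¹)) * (X - C (q / a)) := by
      apply Multiset.map_congr rfl
      intro a ha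
      have ha0 : a ≠ 0 := fun h => h0S (h ▸ ha)
      rw [mul_sub, ← C_mul]
      have : -(a * q⁻¹) * (q / a) = -1 := by field_simp
      rw [this]
      simp only [C_neg, C_1, neg_mul, sub_neg_eq_add]
      ring
    rw [h2, Multiset.prod_map_mul] at h1
    have h3 : (S.map fun a => X - C (q / a)) =
        ((S.map fun x => q / x).map fun b => X - C b) := by
      rw [Multiset.map_map]; rfl
    rw [h3] at h1
    set M := (((S.map fun x => q / x).map fun b => X - C b).prod) with hM
    have hMmonic : M.Monic := monic_multiset_prod_of_monic _ _ fun b _ => monic_X_sub_C b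
    set κ := (S.map fun a => C (-(a * q⁻¹))).prod with hκ
    have hκC : ∃ c : F, κ = C c := by
      refine ⟨(S.map fun a => -(a * q⁻¹)).prod, ?_⟩
      rw [hκ, ← Multiset.prod_hom _ (C : F →+* F[X]), Multiset.map_map]; rfl
    obtain ⟨c, hc⟩ := hκC
    rw [h1, hc, ← mul_assoc, ← C_mul] at hident
    have hlead : q ^ g * c = 1 := by
      have := congrArg leadingCoeff hident
      rw [hRr_monic.leadingCoeff, leadingCoeff_mul, leadingCoeff_C, hMmonic.leadingCoeff,
        mul_one] at this
      exact this.symm
    rw [hlead, C_1, one_mul] at hident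
    have := congrArg roots hident
    rw [hM, roots_multiset_prod_X_sub_C] at this
    exact this.symm
  obtain ⟨α, hα, hpair⟩ := Groth.Agent.Lib.H40Pairing.exists_pairing hq h2 g S hcard hinv hprodS
  refine ⟨α, ?_, ?_, hpair⟩
  · intro i
    have : α i ∈ S := by
      rw [← hα]
      exact Multiset.mem_map_of_mem _ (Finset.mem_univ_val i)
    exact (mem_roots hRr_monic.ne_zero).1 this
  · rw [hPprod, ← hα, Multiset.map_map]
    rfl

end Reflect

section Factor

universe u v
variable {k : Type u} {K : Type v} [Field k] [Field K] [Algebra k K]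

/-- The numerator of the zeta function factors over `ℂ` as `∏ (1 - αᵢ t)` with algebraic integers
`αᵢ` satisfying `αᵢ α_{2g-1-i} = q`. -/
theorem exists_reciprocal_roots [Finite k] (hK : FunFld.IsFunctionField k K) :
    ∃ α : Fin (2 * FunFld.genus k K) → ℂ, (∀ i, IsIntegral ℤ (α i)) ∧
      PowerSeries.map (Int.castRingHom ℂ) (FunFld.numerZ k K) =
        ((∏ i, (1 - Polynomial.C (α i) * Polynomial.X) : Polynomial ℂ) : PowerSeries ℂ) ∧
      ∀ i, α i * α (Fin.rev i) = (Nat.card k : ℂ) := by
  classical
  haveI := finite_clGrp hK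
  letI := Fintype.ofFinite (ClGrp k K)
  obtain ⟨p, hp, hdeg⟩ := exists_polynomial_eq_numerZ hK
  have hcoeff : ∀ n, p.coeff n = PowerSeries.coeff n (FunFld.numerZ k K) := fun n => by
    rw [← hp, Polynomial.coeff_coe]
  have hq0 : (Nat.card k : ℂ) ≠ 0 := by
    have : 0 < Nat.card k := Nat.card_pos
    exact_mod_cast this.ne'
  have hc0 : p.coeff 0 = 1 := by
    rw [hcoeff, coeff_zero_numerZ, effDivCount_zero hK]; rfl
  set P : ℂ[X] := p.map (Int.castRingHom ℂ) with hP
  have hPdeg : P.natDegree ≤ 2 * FunFld.genus k K := natDegree_map_le.trans hdeg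
  have hPc0 : P.coeff 0 = 1 := by rw [hP, coeff_map, hc0, map_one]
  have hfe : ∀ i ≤ 2 * FunFld.genus k K, P.coeff (2 * FunFld.genus k K - i) =
      (Nat.card k : ℂ) ^ ((FunFld.genus k K : ℤ) - i) * P.coeff i := by
    intro i hi
    have h := coeff_numerZ_functional hK hi
    rw [← hcoeff, ← hcoeff] at h
    have h' := congrArg (fun x : ℚ => (x : ℂ)) h
    simp only [Rat.cast_mul, Rat.cast_zpow, Rat.cast_natCast, Rat.cast_intCast] at h'
    rw [hP, coeff_map, coeff_map, eq_intCast, eq_intCast]
    exact h'
  obtain ⟨α, hroot, hprod, hpair⟩ := exists_pairing_of_functional hq0 two_ne_zero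
    (FunFld.genus k K) P hPdeg hPc0 hfe
  refine ⟨α, ?_, ?_, hpair⟩
  · intro i
    have hmonic : (p.reflect (2 * FunFld.genus k K)).Monic := by
      apply monic_of_natDegree_le_of_coeff_eq_one (2 * FunFld.genus k K)
      · have := natDegree_reflect_le (N := 2 * FunFld.genus k K) (p := p)
        rwa [max_eq_left hdeg] at this
      · rw [coeff_reflect, revAt_le le_rfl, Nat.sub_self, hc0]
    refine ⟨p.reflect (2 * FunFld.genus k K), hmonic, ?_⟩
    have := hroot i
    rw [hP, reflect_map, IsRoot.def, eval_map] at this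
    exact this
  · rw [← hprod, hP, ← hp, Polynomial.polynomial_map_coe]

end Factor

end Groth.Agent.Lib.H40FunFld
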