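import Mathlib

set_option autoImplicit false

namespace Groth.Agent.Lib.H40HenselGalois

open Polynomial IsLocalRing

section LemmaH

variable {A : Type*} [CommRing A] [IsDomain A] [IsLocalRing A] [IsIntegrallyClosed A]
  {L Ω : Type*} [Field L] [Field Ω] [Algebra A L] [IsFractionRing A L] [Algebra L Ω] [Algebra A Ω]
  [IsScalarTower A L Ω] [IsGalois L Ω] [IsSepClosed Ω]

/-- Irreducible case of the Galois criterion for henselianity. -/
theorem exists_root_of_irreducible (V : Subring Ω) (M : Ideal V) [M.IsPrime]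
    (hint : ∀ x : Ω, IsIntegral A x → x ∈ V)
    (hM : ∀ a : A, (⟨algebraMap A Ω a, hint _ isIntegral_algebraMap⟩ : V) ∈ M ↔ a ∈ maximalIdeal A)
    (hσ : ∀ (σ : Ω ≃ₐ[L] Ω) (x : V), x ∈ M → ∀ h : σ x ∈ V, (⟨σ x, h⟩ : V) ∈ M)
    (f : A[X]) (hf : f.Monic) (hirr : Irreducible f) (a₀ : A) (h₁ : f.eval a₀ ∈ maximalIdeal A)
    (h₂ : IsUnit (f.derivative.eval a₀)) : ∃ a : A, f.IsRoot a ∧ a - a₀ ∈ maximalIdeal A := by
  classical
  have hAL : Function.Injective (algebraMap A L) := IsFractionRing.injective A L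
  have hAΩ : Function.Injective (algebraMap A Ω) := by
    rw [IsScalarTower.algebraMap_eq A L Ω]
    exact (algebraMap L Ω).injective.comp hAL
  -- separability
  have hirrL : Irreducible (f.map (algebraMap A L)) :=
    (hf.irreducible_iff_irreducible_map_fraction_map).mp hirr
  have hder : derivative f ≠ 0 := by
    intro h
    rw [h, eval_zero] at h₂
    exact not_isUnit_zero h₂
  have hsep : (f.map (algebraMap A L)).Separable := by
    rw [Polynomial.separable_iff_derivative_ne_zero hirrL, derivative_map, Ne,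
      Polynomial.map_eq_zero_iff hAL]
    exact hder
  have hmapΩ : (f.map (algebraMap A L)).map (algebraMap L Ω) = f.map (algebraMap A Ω) := by
    rw [Polynomial.map_map, ← IsScalarTower.algebraMap_eq]
  have hsplit : (f.map (algebraMap A Ω)).Splits := by
    rw [← hmapΩ]
    exact IsSepClosed.splits_codomain _ hsep
  have hmonΩ : (f.map (algebraMap A Ω)).Monic := hf.map _
  set s := (f.map (algebraMap A Ω)).roots with hs
  have hnodup : s.Nodup := by
    apply nodup_roots
    rw [← hmapΩ]
    exact hsep.map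
  have hprod : f.map (algebraMap A Ω) = (s.map (X - C ·)).prod :=
    hsplit.eq_prod_roots_of_monic hmonΩ
  have hroot_int : ∀ α ∈ s, IsIntegral A α := by
    intro α hα
    refine ⟨f, hf, ?_⟩
    rw [← eval_map]
    exact (mem_roots hmonΩ.ne_zero).mp hα
  -- lift to V
  let ι : A →+* V := (algebraMap A Ω).codRestrict V (fun a => hint _ isIntegral_algebraMap)
  have hιM : ∀ a : A, ι a ∈ M ↔ a ∈ maximalIdeal A := hM
  have hιcomp : (V.subtype).comp ι = algebraMap A Ω := by
    ext a; rfl
  let s' : Multiset V := s.attach.map (fun α => ⟨α.1, hint α.1 (hroot_int α.1 α.2)⟩)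
  have hs's : s'.map V.subtype = s := by
    simp only [s', Multiset.map_map]
    exact Multiset.attach_map_val s
  have hmem_s' : ∀ α : V, α ∈ s' ↔ (α : Ω) ∈ s := by
    intro α
    constructor
    · intro h
      rw [← hs's]
      exact Multiset.mem_map_of_mem V.subtype h
    · intro h
      simp only [s', Multiset.mem_map, Multiset.mem_attach, true_and, Subtype.exists]
      exact ⟨α.1, h, rfl⟩
  have hprodV : f.map ι = (s'.map (X - C ·)).prod := by
    apply Polynomial.map_injective V.subtype Subtype.val_injective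
    rw [Polynomial.map_map, hιcomp, hprod, Polynomial.map_multiset_prod, Multiset.map_map,
      ← hs's, Multiset.map_map]
    congr 1
    apply Multiset.map_congr rfl
    intro α _
    simp
  -- evaluation
  have heval : (f.map ι).eval (ι a₀) = ι (f.eval a₀) := by rw [eval_map, eval₂_at_apply]
  have hevalprod : ι (f.eval a₀) = (s'.map (fun α => ι a₀ - α)).prod := by
    rw [← heval, hprodV, eval_multiset_prod, Multiset.map_map]
    congr 1
    apply Multiset.map_congr rfl
    intro α _
    simp
  -- existence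
  have hex : ∃ α ∈ s', ι a₀ - α ∈ M := by
    have h : (s'.map (fun α => ι a₀ - α)).prod ∈ M := hevalprod ▸ (hιM _).mpr h₁
    rw [Ideal.IsPrime.multiset_prod_mem_iff_exists_mem inferInstance] at h
    obtain ⟨x, hx, hxM⟩ := h
    obtain ⟨α, hα, rfl⟩ := Multiset.mem_map.mp hx
    exact ⟨α, hα, hxM⟩
  obtain ⟨α, hα, hαM⟩ := hex
  -- uniqueness
  have huniq : ∀ β ∈ s', ι a₀ - β ∈ M → β = α := by
    intro β hβ hβM
    by_contra hne
    have hβ' : β ∈ s'.erase α := (Multiset.mem_erase_of_ne hne).mpr hβ
    have hfg : f.map ι = (X - C α) * ((s'.erase α).map (X - C ·)).prod := by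
      rw [hprodV]
      conv_lhs => rw [← Multiset.cons_erase hα]
      rw [Multiset.map_cons, Multiset.prod_cons]
    have hgev : (((s'.erase α).map (X - C ·)).prod).eval (ι a₀) ∈ M := by
      rw [eval_multiset_prod, Multiset.map_map]
      refine Ideal.mem_of_dvd M (Multiset.dvd_prod ?_) hβM
      exact Multiset.mem_map.mpr ⟨β, hβ', by simp⟩
    have hder' : (derivative (f.map ι)).eval (ι a₀) ∈ M := by
      rw [hfg, derivative_mul, derivative_sub, derivative_X, derivative_C, sub_zero, one_mul,
        eval_add, eval_mul, eval_sub, eval_X, eval_C]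
      exact M.add_mem hgev (M.mul_mem_right _ hαM)
    rw [derivative_map, eval_map, eval₂_at_apply, hιM] at hder'
    exact (mem_maximalIdeal _).mp hder' h₂
  -- Galois invariance
  have hfix : ∀ σ : Ω ≃ₐ[L] Ω, σ (α : Ω) = α := by
    intro σ
    have hσroot : σ (α : Ω) ∈ s := by
      have h1 : (α : Ω) ∈ s := (hmem_s' α).mp hα
      rw [hs, mem_roots hmonΩ.ne_zero, IsRoot.def] at h1 ⊢
      rw [← hmapΩ, eval_map_algebraMap] at h1 ⊢
      rw [aeval_algEquiv, AlgHom.comp_apply, h1]
      simp
    have hσV : σ (α : Ω) ∈ V := hint _ (hroot_int _ hσroot)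
    have h2 : (⟨σ (α : Ω), hσV⟩ : V) ∈ s' := (hmem_s' _).mpr hσroot
    have h3 : ι a₀ - ⟨σ (α : Ω), hσV⟩ ∈ M := by
      have h4 := hσ σ (ι a₀ - α) hαM
      have h5 : σ ((ι a₀ - α : V) : Ω) = ((ι a₀ - ⟨σ (α : Ω), hσV⟩ : V) : Ω) := by
        push_cast
        rw [map_sub]
        congr 1
        show σ (algebraMap A Ω a₀) = algebraMap A Ω a₀
        rw [IsScalarTower.algebraMap_apply A L Ω, σ.commutes]
      have h6 : σ ((ι a₀ - α : V) : Ω) ∈ V := by rw [h5]; exact SetLike.coe_mem _
      have h7 := h4 h6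
      convert h7 using 1
      exact Subtype.ext h5.symm
    have h8 := huniq _ h2 h3
    exact congrArg Subtype.val h8
  obtain ⟨l, hl⟩ := (InfiniteGalois.mem_range_algebraMap_iff_fixed (k := L) (K := Ω) (α : Ω)).mpr hfix
  have hαs : (α : Ω) ∈ s := (hmem_s' α).mp hα
  have hlint : IsIntegral A l := by
    have h : IsIntegral A (algebraMap L Ω l) := hl ▸ hroot_int _ hαs
    exact (isIntegral_algebraMap_iff (algebraMap L Ω).injective).mp h
  obtain ⟨a, ha⟩ := IsIntegrallyClosed.isIntegral_iff.mp hlint
  have haα : algebraMap A Ω a = α := by rw [IsScalarTower.algebraMap_apply A L Ω, ha, hl]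
  refine ⟨a, ?_, ?_⟩
  · rw [IsRoot.def]
    apply hAΩ
    rw [map_zero, ← eval₂_at_apply, ← eval_map, haα]
    exact (mem_roots hmonΩ.ne_zero).mp hαs
  · rw [← hιM, map_sub]
    have h : ι a = α := Subtype.ext haα
    rw [h, ← neg_sub]
    exact M.neg_mem hαM

/-- A local integrally closed domain `A` with fraction field `L` is henselian as soon as there is a
subring `V` of a separably closed Galois extension `Ω` of `L`, containing all elements integral
over `A`, with a prime ideal `M` lying over the maximal ideal of `A` and stable under `Gal(Ω/L)`. -/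
theorem henselianLocalRing_of_galois_stable (V : Subring Ω) (M : Ideal V) [M.IsPrime]
    (hint : ∀ x : Ω, IsIntegral A x → x ∈ V)
    (hM : ∀ a : A, (⟨algebraMap A Ω a, hint _ isIntegral_algebraMap⟩ : V) ∈ M ↔ a ∈ maximalIdeal A)
    (hσ : ∀ (σ : Ω ≃ₐ[L] Ω) (x : V), x ∈ M → ∀ h : σ x ∈ V, (⟨σ x, h⟩ : V) ∈ M) :
    HenselianLocalRing A := by
  refine { toIsLocalRing := inferInstance, is_henselian := ?_ }
  intro f hf a₀ h₁ h₂
  induction' hn : f.natDegree using Nat.strong_induction_on with n ih generalizing f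
  by_cases hirr : Irreducible f
  · exact exists_root_of_irreducible V M hint hM hσ f hf hirr a₀ h₁ h₂
  · have hf1 : f ≠ 1 := by
      rintro rfl
      rw [eval_one] at h₁
      exact (Ideal.ne_top_iff_one _).mp (maximalIdeal.isMaximal A).ne_top h₁
    rw [hf.irreducible_iff_natDegree] at hirr
    push Not at hirr
    obtain ⟨g, h, hg, hh, hgh, hgd, hhd⟩ := hirr hf1
    subst hgh
    rw [eval_mul] at h₁
    rw [derivative_mul, eval_add, eval_mul, eval_mul] at h₂
    have hdeg : (g * h).natDegree = g.natDegree + h.natDegree := hg.natDegree_mul hh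
    have key : ∀ x y : A, IsUnit (x + y) → y ∈ maximalIdeal A → IsUnit x := by
      intro x y hxy hy
      by_contra hx
      have hx' : x ∈ maximalIdeal A := (mem_maximalIdeal x).mpr hx
      exact (mem_maximalIdeal _).mp ((maximalIdeal A).add_mem hx' hy) hxy
    rcases (maximalIdeal.isMaximal A).isPrime.mem_or_mem h₁ with h₁' | h₁'
    · have h3 : IsUnit (eval a₀ (derivative g) * eval a₀ h) :=
        key _ _ h₂ (Ideal.mul_mem_right _ _ h₁')
      have hg' : IsUnit (eval a₀ (derivative g)) := isUnit_of_mul_isUnit_left h3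
      obtain ⟨a, ha, ha'⟩ := ih g.natDegree (by omega) g hg h₁' hg' rfl
      exact ⟨a, by rw [IsRoot.def, eval_mul, ha, zero_mul], ha'⟩
    · have h3 : IsUnit (eval a₀ g * eval a₀ (derivative h)) := by
        rw [add_comm] at h₂
        exact key _ _ h₂ (Ideal.mul_mem_left _ _ h₁')
      have hh' : IsUnit (eval a₀ (derivative h)) := isUnit_of_mul_isUnit_right h3
      obtain ⟨a, ha, ha'⟩ := ih h.natDegree (by omega) h hh h₁' hh' rfl
      exact ⟨a, by rw [IsRoot.def, eval_mul, ha, mul_zero], ha'⟩

end LemmaH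

end Groth.Agent.Lib.H40HenselGalois
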