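/-
Inertia group of a complete normal local domain in a Galois cover: trivial iff unramified.
-/
import Groth.Agent.Lib.HenselIntegralLocal
import Mathlib.RingTheory.DedekindDomain.Different
import Mathlib.RingTheory.IsGaloisGroup.Basic
import Mathlib.FieldTheory.Galois.IsGaloisGroup
import Mathlib.RingTheory.Invariant.Galois
import Mathlib.FieldTheory.PrimitiveElement
import Mathlib.RingTheory.Henselian
import Mathlib.RingTheory.LocalRing.Module

set_option autoImplicit false
set_option linter.unusedSectionVars false

namespace Groth.Agent.Lib.H40InertiaComplete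

open IsLocalRing Polynomial
open scoped Pointwise

universe u

section Setup

variable (R S G : Type u) [CommRing R] [CommRing S] [IsDomain R] [IsDomain S]
    [IsNoetherianRing R] [IsLocalRing R] [IsIntegrallyClosed R]
    [IsAdicComplete (IsLocalRing.maximalIdeal R) R]
    [Algebra R S] [FaithfulSMul R S] [IsIntegrallyClosed S]
    [Group G] [Finite G] [MulSemiringAction G S] [SMulCommClass G R S] [IsGaloisGroup G R S]

include G in
theorem isIntegral : Algebra.IsIntegral R S := Algebra.IsInvariant.isIntegral R S G

include R in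
omit [IsDomain R] [IsNoetherianRing R] [IsIntegrallyClosed R] in
theorem henselianLocalRing_base : HenselianLocalRing R :=
  Groth.Agent.Lib.HenselizationNoeth.henselianLocalRing_of_henselianRing R

include R G in
theorem isLocalRing : IsLocalRing S := by
  have := isIntegral R S G
  have := henselianLocalRing_base R
  exact Groth.Agent.Lib.HenselIntegralLocal.isLocalRing_of_isDomain_of_isIntegral R S

include R G in
theorem henselianLocalRing : HenselianLocalRing S := by
  have := isIntegral R S G
  have := henselianLocalRing_base R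
  have := isLocalRing R S G
  exact Groth.Agent.Lib.HenselIntegralLocal.henselianLocalRing_of_isIntegral R S

include G in
attribute [local instance] FractionRing.liftAlgebra in
theorem finite : Module.Finite R S := by
  have := isIntegral R S G
  let _ := IsFractionRing.mulSemiringAction G S (FractionRing S)
  have : IsGaloisGroup G (FractionRing R) (FractionRing S) := inferInstance
  have : IsGalois (FractionRing R) (FractionRing S) :=
    IsGaloisGroup.isGalois G (FractionRing R) (FractionRing S)
  have : FiniteDimensional (FractionRing R) (FractionRing S) :=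
    IsGaloisGroup.finiteDimensional G (FractionRing R) (FractionRing S)
  have : IsIntegralClosure S R (FractionRing S) :=
    IsIntegralClosure.of_isIntegrallyClosed S R (FractionRing S)
  exact IsIntegralClosure.finite R (FractionRing R) (FractionRing S) S

end Setup


section Quot

variable {R S : Type u} [CommRing R] [CommRing S] [IsLocalRing R] [Algebra R S]
  (n : Ideal S) [n.LiesOver (maximalIdeal R)]

/-- Reduction of polynomials over `R` modulo `n`, through the residue field of `R`. -/
theorem map_map_mk (q : R[X]) :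
    (q.map (algebraMap R S)).map (Ideal.Quotient.mk n) =
      (q.map (Ideal.Quotient.mk (maximalIdeal R))).map
        (algebraMap (R ⧸ maximalIdeal R) (S ⧸ n)) := by
  rw [Polynomial.map_map, Polynomial.map_map]
  congr 1

theorem mk_aeval (q : R[X]) (θ : S) :
    Ideal.Quotient.mk n (aeval θ q) =
      aeval (Ideal.Quotient.mk n θ) (q.map (Ideal.Quotient.mk (maximalIdeal R))) := by
  rw [aeval_def, aeval_def, eval₂_map, hom_eval₂]
  congr 1

theorem exists_lift_poly (r : (R ⧸ maximalIdeal R)[X]) :
    ∃ q : R[X], q.map (Ideal.Quotient.mk (maximalIdeal R)) = r :=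
  Polynomial.map_surjective _ Ideal.Quotient.mk_surjective r

end Quot


section Main

variable (R S G : Type u) [CommRing R] [CommRing S] [IsDomain R] [IsDomain S]
    [IsNoetherianRing R] [IsLocalRing R] [IsIntegrallyClosed R]
    [IsAdicComplete (IsLocalRing.maximalIdeal R) R]
    [Algebra R S] [FaithfulSMul R S] [IsIntegrallyClosed S]
    [Group G] [Finite G] [MulSemiringAction G S] [SMulCommClass G R S] [IsGaloisGroup G R S]
    (n : Ideal S) [n.IsMaximal] [n.LiesOver (IsLocalRing.maximalIdeal R)]

attribute [local instance] Ideal.Quotient.field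

/-- An element fixing a generator of `S` over `R` is trivial. -/
theorem eq_one_of_smul_eq {θ : S} (hθ : Algebra.adjoin R ({θ} : Set S) = ⊤) {g : G}
    (hg : g • θ = θ) : g = 1 := by
  have hfaith : FaithfulSMul G S := IsGaloisGroup.faithful R
  have hle : Algebra.adjoin R ({θ} : Set S) ≤
      AlgHom.equalizer (MulSemiringAction.toAlgHom R S g) (AlgHom.id R S) := by
    refine Algebra.adjoin_le ?_
    rintro x rfl
    exact hg
  rw [hθ] at hle
  apply eq_of_smul_eq_smul (α := S)
  intro s
  rw [one_smul]
  exact hle (Algebra.mem_top : s ∈ (⊤ : Subalgebra R S))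

theorem inertia_eq_bot_of_unramified
    (hmap : (maximalIdeal R).map (algebraMap R S) = n)
    [Module.Finite (R ⧸ maximalIdeal R) (S ⧸ n)]
    [Algebra.IsSeparable (R ⧸ maximalIdeal R) (S ⧸ n)] :
    n.toAddSubgroup.inertia G = ⊥ := by
  classical
  have hloc : IsLocalRing S := isLocalRing R S G
  have hhens : HenselianLocalRing S := henselianLocalRing R S G
  have hfin : Module.Finite R S := finite R S G
  have hn : n = maximalIdeal S := IsLocalRing.eq_maximalIdeal ‹n.IsMaximal›
  -- a primitive element of the residue extension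
  obtain ⟨θbar, hθbar⟩ := Field.exists_primitive_element (R ⧸ maximalIdeal R) (S ⧸ n)
  have hint : IsIntegral (R ⧸ maximalIdeal R) θbar := Algebra.IsIntegral.isIntegral θbar
  have hsep : (minpoly (R ⧸ maximalIdeal R) θbar).Separable :=
    Algebra.IsSeparable.isSeparable (R ⧸ maximalIdeal R) θbar
  obtain ⟨q, hqmap, -, hqmonic⟩ := Polynomial.lifts_and_natDegree_eq_and_monic
    ((Polynomial.mem_lifts _).mpr (exists_lift_poly (minpoly (R ⧸ maximalIdeal R) θbar)))
    (minpoly.monic hint)
  obtain ⟨θ₀, hθ₀⟩ := Ideal.Quotient.mk_surjective θbar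
  -- Hensel
  have key1 : ∀ x : S, Ideal.Quotient.mk n ((q.map (algebraMap R S)).eval x) =
      aeval (Ideal.Quotient.mk n x) (minpoly (R ⧸ maximalIdeal R) θbar) := by
    intro x
    rw [Polynomial.eval_map_algebraMap, mk_aeval n q x, hqmap]
  have key2 : ∀ x : S, Ideal.Quotient.mk n ((q.map (algebraMap R S)).derivative.eval x) =
      aeval (Ideal.Quotient.mk n x) (derivative (minpoly (R ⧸ maximalIdeal R) θbar)) := by
    intro x
    rw [Polynomial.derivative_map, Polynomial.eval_map_algebraMap, mk_aeval n _ x,
      ← Polynomial.derivative_map, hqmap]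
  have hder_ne : aeval θbar (derivative (minpoly (R ⧸ maximalIdeal R) θbar)) ≠ 0 :=
    hsep.aeval_derivative_ne_zero (minpoly.aeval _ _)
  have hunit_of : ∀ x : S, Ideal.Quotient.mk n x = θbar →
      IsUnit ((q.map (algebraMap R S)).derivative.eval x) := by
    intro x hx
    rw [← IsLocalRing.notMem_maximalIdeal, ← hn, ← Ideal.Quotient.eq_zero_iff_mem, key2, hx]
    exact hder_ne
  have h1 : (q.map (algebraMap R S)).eval θ₀ ∈ maximalIdeal S := by
    rw [← hn, ← Ideal.Quotient.eq_zero_iff_mem, key1, hθ₀, minpoly.aeval]
  obtain ⟨θ, hroot, hθ⟩ := HenselianLocalRing.is_henselian (q.map (algebraMap R S))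
    (hqmonic.map _) θ₀ h1 (hunit_of θ₀ hθ₀)
  have hθbar' : Ideal.Quotient.mk n θ = θbar := by
    rw [← hθ₀, ← sub_eq_zero, ← map_sub, Ideal.Quotient.eq_zero_iff_mem, hn]
    exact hθ
  -- Nakayama: `S = R[θ]`
  have hadjbar : Algebra.adjoin (R ⧸ maximalIdeal R) ({θbar} : Set (S ⧸ n)) = ⊤ := by
    rw [← IntermediateField.adjoin_simple_toSubalgebra_of_isAlgebraic hint.isAlgebraic, hθbar]
    rfl
  have hadj : Algebra.adjoin R ({θ} : Set S) = ⊤ := by
    have htop : (Subalgebra.toSubmodule (Algebra.adjoin R ({θ} : Set S))) = ⊤ := by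
      rw [← IsLocalRing.map_mkQ_eq_top, eq_top_iff]
      rintro x -
      obtain ⟨s, rfl⟩ := Submodule.mkQ_surjective _ x
      have hs : Ideal.Quotient.mk n s ∈ Algebra.adjoin (R ⧸ maximalIdeal R) ({θbar} : Set (S ⧸ n)) := by
        rw [hadjbar]; exact Algebra.mem_top
      rw [Algebra.adjoin_singleton_eq_range_aeval] at hs
      obtain ⟨rbar, hrbar⟩ := hs
      obtain ⟨r, rfl⟩ := exists_lift_poly rbar
      refine ⟨aeval θ r, ?_, ?_⟩
      · rw [SetLike.mem_coe, Subalgebra.mem_toSubmodule, Algebra.adjoin_singleton_eq_range_aeval]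
        exact ⟨r, rfl⟩
      · rw [Submodule.mkQ_apply, Submodule.mkQ_apply, Submodule.Quotient.eq,
          Ideal.smul_top_eq_map, Submodule.restrictScalars_mem, hmap,
          ← Ideal.Quotient.eq_zero_iff_mem, map_sub, mk_aeval n r θ, hθbar', sub_eq_zero]
        exact hrbar
    exact Subalgebra.toSubmodule_injective (htop.trans Algebra.top_toSubmodule.symm)
  -- elements of the inertia group fix `θ`
  rw [eq_bot_iff]
  intro g hg
  rw [Subgroup.mem_bot]
  apply eq_one_of_smul_eq R S G hadj
  have hg' : g • θ - θ ∈ n := hg θ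
  have hroot' : (q.map (algebraMap R S)).eval (g • θ) = 0 := by
    have h2 : aeval θ q = 0 := by rw [← Polynomial.eval_map_algebraMap]; exact hroot
    have h3 := Polynomial.aeval_algHom_apply (MulSemiringAction.toAlgHom R S g) θ q
    rw [h2, map_zero] at h3
    rw [Polynomial.eval_map_algebraMap]
    exact h3
  symm
  refine IsLocalRing.eq_of_eval_eq_zero_of_not_isUnit_sub (f := q.map (algebraMap R S))
    hroot hroot' ?_ (hunit_of θ hθbar')
  rw [← mem_nonunits_iff, ← IsLocalRing.mem_maximalIdeal, ← hn]
  have : θ - g • θ = -(g • θ - θ) := by ring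
  rw [this]
  exact n.neg_mem hg'


omit [IsDomain R] [IsNoetherianRing R] [IsIntegrallyClosed R]
  [IsAdicComplete (IsLocalRing.maximalIdeal R) R] [FaithfulSMul R S] [IsIntegrallyClosed S]
  [IsDomain S] [Finite G] [IsGaloisGroup G R S] [n.LiesOver (IsLocalRing.maximalIdeal R)]
  [SMulCommClass G R S] [IsLocalRing R] [Algebra R S] in
theorem mem_stabilizer [IsLocalRing S] (g : G) : g ∈ MulAction.stabilizer G n := by
  rw [MulAction.mem_stabilizer_iff]
  have hn : n = maximalIdeal S := IsLocalRing.eq_maximalIdeal ‹n.IsMaximal›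
  ext x
  rw [Ideal.mem_pointwise_smul_iff_inv_smul_mem, hn, IsLocalRing.mem_maximalIdeal,
    IsLocalRing.mem_maximalIdeal, mem_nonunits_iff, mem_nonunits_iff, not_iff_not]
  constructor
  · intro h
    have := h.map (MulSemiringAction.toRingHom G S g)
    simpa using this
  · intro h
    exact h.map (MulSemiringAction.toRingHom G S g⁻¹)


/-- The action of `G` on the residue field of `S` (a local ring). -/
noncomputable def resHom [IsLocalRing S] :
    G →* ((S ⧸ n) ≃ₐ[R ⧸ maximalIdeal R] (S ⧸ n)) :=
  (Ideal.Quotient.stabilizerHom n (maximalIdeal R) G).comp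
    ((MonoidHom.id G).codRestrict (MulAction.stabilizer G n) (mem_stabilizer S G n))

theorem resHom_apply [IsLocalRing S] (g : G) (s : S) :
    resHom R S G n g (Ideal.Quotient.mk n s) = Ideal.Quotient.mk n (g • s) := rfl

theorem resHom_injective [IsLocalRing S] (hI : n.toAddSubgroup.inertia G = ⊥) :
    Function.Injective (resHom R S G n) := by
  rw [injective_iff_map_eq_one]
  intro g hg
  have : g ∈ n.toAddSubgroup.inertia G := by
    intro s
    have h1 := resHom_apply R S G n g s
    rw [hg, AlgEquiv.one_apply] at h1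
    have h2 : Ideal.Quotient.mk n (g • s - s) = 0 := by rw [map_sub, ← h1, sub_self]
    exact Ideal.Quotient.eq_zero_iff_mem.mp h2
  rw [hI, Subgroup.mem_bot] at this
  exact this

include R in
/-- If the inertia group is trivial, some `θ ∈ S` has pairwise incongruent conjugates. -/
theorem exists_theta (hI : n.toAddSubgroup.inertia G = ⊥) :
    ∃ θ : S, ∀ g : G, g ≠ 1 → g • θ - θ ∉ n := by
  classical
  have hloc : IsLocalRing S := isLocalRing R S G
  let _ : Fintype G := Fintype.ofFinite G
  let _ : MulSemiringAction G (S ⧸ n) := MulSemiringAction.compHom (S ⧸ n) (resHom R S G n)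
  have hsmul : ∀ (g : G) (x : S ⧸ n), g • x = resHom R S G n g x := fun _ _ => rfl
  have : FaithfulSMul G (S ⧸ n) := ⟨fun {g g'} h => by
    apply resHom_injective R S G n hI
    ext x
    exact h x⟩
  obtain ⟨θbar, hθbar⟩ := Field.exists_primitive_element (FixedPoints.subfield G (S ⧸ n)) (S ⧸ n)
  have hfix : ∀ g : G, g • θbar = θbar → g = 1 := by
    intro g hg
    let E : IntermediateField (FixedPoints.subfield G (S ⧸ n)) (S ⧸ n) :=
      { carrier := {x | g • x = x}
        mul_mem' := fun {a b} ha hb => by
          show g • (a * b) = a * b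
          rw [smul_mul', ha, hb]
        add_mem' := fun {a b} ha hb => by
          show g • (a + b) = a + b
          rw [smul_add, ha, hb]
        algebraMap_mem' := fun x => x.2 g
        inv_mem' := fun a ha => by
          show g • a⁻¹ = a⁻¹
          rw [smul_inv'', ha] }
    have hle : IntermediateField.adjoin (FixedPoints.subfield G (S ⧸ n)) ({θbar} : Set (S ⧸ n)) ≤ E := by
      rw [IntermediateField.adjoin_simple_le_iff]
      exact hg
    rw [hθbar] at hle
    apply eq_of_smul_eq_smul (α := S ⧸ n)
    intro x
    rw [one_smul]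
    exact hle (IntermediateField.mem_top : x ∈ (⊤ : IntermediateField _ (S ⧸ n)))
  obtain ⟨θ, hθ⟩ := Ideal.Quotient.mk_surjective θbar
  refine ⟨θ, fun g hg hmem => hg (hfix g ?_)⟩
  rw [hsmul, ← hθ, resHom_apply, ← sub_eq_zero, ← map_sub, Ideal.Quotient.eq_zero_iff_mem]
  exact hmem


omit [IsDomain R] [IsNoetherianRing R] [IsIntegrallyClosed R]
  [IsAdicComplete (IsLocalRing.maximalIdeal R) R] [FaithfulSMul R S] [IsIntegrallyClosed S]
  [IsDomain S] [Finite G] [IsGaloisGroup G R S] [n.LiesOver (IsLocalRing.maximalIdeal R)]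
  [SMulCommClass G R S] [IsLocalRing R] [Algebra R S] in
theorem smul_mem_of_mem [IsLocalRing S] (g : G) {x : S} (hx : x ∈ n) : g • x ∈ n := by
  have h := mem_stabilizer S G n g
  rw [MulAction.mem_stabilizer_iff] at h
  rw [← h]
  exact Ideal.smul_mem_pointwise_smul g x n hx

omit [IsDomain R] [IsNoetherianRing R] [IsIntegrallyClosed R]
  [IsAdicComplete (IsLocalRing.maximalIdeal R) R] [FaithfulSMul R S] [IsIntegrallyClosed S]
  [IsDomain S] [Finite G] [IsGaloisGroup G R S] [n.LiesOver (IsLocalRing.maximalIdeal R)]
  [SMulCommClass G R S] [IsLocalRing R] [Algebra R S] in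
theorem mk_smul_injective [IsLocalRing S] {θ : S} (hθ : ∀ g : G, g ≠ 1 → g • θ - θ ∉ n) :
    Function.Injective (fun g : G => Ideal.Quotient.mk n (g • θ)) := by
  intro g g' h
  have h1 : g • θ - g' • θ ∈ n := by
    rw [← Ideal.Quotient.eq_zero_iff_mem, map_sub, sub_eq_zero]
    exact h
  have h2 : (g'⁻¹ * g) • θ - θ ∈ n := by
    have := smul_mem_of_mem S G n g'⁻¹ h1
    rwa [smul_sub, smul_smul, smul_smul, inv_mul_cancel, one_smul] at this
  by_contra hne
  exact hθ (g'⁻¹ * g) (fun h3 => hne (by rw [← mul_right_inj g'⁻¹, inv_mul_cancel]; exact h3)) h2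


/-- If the inertia group is trivial there are `θ ∈ S` and a monic `p ∈ R[X]` of degree `|G|`,
separable modulo the maximal ideal, with `p(θ) = 0`; moreover `p` is the minimal polynomial
of `θ`. -/
theorem exists_generator_data (hI : n.toAddSubgroup.inertia G = ⊥) :
    ∃ (θ : S) (p : R[X]), p.Monic ∧ aeval θ p = 0 ∧ p.natDegree = Nat.card G ∧
      (p.map (Ideal.Quotient.mk (maximalIdeal R))).Separable ∧ minpoly R θ = p ∧
      Function.Injective (fun g : G => Ideal.Quotient.mk n (g • θ)) := by
  classical
  have hloc : IsLocalRing S := isLocalRing R S G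
  have hint : Algebra.IsIntegral R S := isIntegral R S G
  let _ : Fintype G := Fintype.ofFinite G
  obtain ⟨θ, hθ⟩ := exists_theta R S G n hI
  have hinj := mk_smul_injective S G n hθ
  obtain ⟨p, hpmap, hpdeg, hpmonic⟩ := Polynomial.lifts_and_natDegree_eq_and_monic
    (Algebra.IsInvariant.charpoly_mem_lifts R S G θ) (MulSemiringAction.monic_charpoly G θ)
  have hcard : (MulSemiringAction.charpoly G θ).natDegree = Nat.card G := by
    rw [MulSemiringAction.charpoly_eq, Polynomial.natDegree_finsetProd_X_sub_C_eq_card,
      Finset.card_univ, Nat.card_eq_fintype_card]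
  have hroot : aeval θ p = 0 := by
    rw [← Polynomial.eval_map_algebraMap, hpmap, MulSemiringAction.eval_charpoly]
  have hsep : (p.map (Ideal.Quotient.mk (maximalIdeal R))).Separable := by
    rw [← Polynomial.separable_map (algebraMap (R ⧸ maximalIdeal R) (S ⧸ n)), ← map_map_mk n p,
      hpmap, MulSemiringAction.charpoly_eq, Polynomial.map_prod]
    simp only [Polynomial.map_sub, Polynomial.map_X, Polynomial.map_C]
    exact Polynomial.separable_prod_X_sub_C_iff.mpr hinj
  refine ⟨θ, p, hpmonic, hroot, hpdeg.trans hcard, hsep, ?_, hinj⟩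
  -- the minimal polynomial
  have hθint : IsIntegral R θ := Algebra.IsIntegral.isIntegral θ
  have hdvd : minpoly R θ ∣ p := minpoly.isIntegrallyClosed_dvd hθint hroot
  have hroots : ∀ g : G, ((minpoly R θ).map (algebraMap R S)).IsRoot (g • θ) := by
    intro g
    have h3 := Polynomial.aeval_algHom_apply (MulSemiringAction.toAlgHom R S g) θ (minpoly R θ)
    rw [minpoly.aeval, map_zero] at h3
    rw [Polynomial.IsRoot, Polynomial.eval_map_algebraMap]
    exact h3
  have hinj' : Function.Injective (fun g : G => g • θ) := by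
    intro g g' h
    exact hinj (congrArg (Ideal.Quotient.mk n) h)
  have hne : (minpoly R θ).map (algebraMap R S) ≠ 0 :=
    ((minpoly.monic hθint).map _).ne_zero
  have hdeg : Nat.card G ≤ (minpoly R θ).natDegree := by
    have h4 := Polynomial.card_le_degree_of_subset_roots
      (p := (minpoly R θ).map (algebraMap R S))
      (Z := Finset.univ.image (fun g : G => g • θ)) (by
        intro x hx
        rw [Finset.mem_val, Finset.mem_image] at hx
        obtain ⟨g, -, rfl⟩ := hx
        exact (Polynomial.mem_roots hne).mpr (hroots g))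
    rw [Finset.card_image_of_injective _ hinj', Finset.card_univ,
      (minpoly.monic hθint).natDegree_map] at h4
    rw [Nat.card_eq_fintype_card]
    exact h4
  exact (Polynomial.eq_of_monic_of_dvd_of_natDegree_le (minpoly.monic hθint) hpmonic hdvd
    (by rw [hpdeg, hcard]; exact hdeg)).symm


attribute [local instance] FractionRing.liftAlgebra in
/-- Generation of `S` over `R` by an element whose minimal polynomial has degree `|G|` and unit
derivative at the element. -/
theorem adjoin_eq_top_of_data {θ : S} {p : R[X]}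
    (hdeg : p.natDegree = Nat.card G) (hmin : minpoly R θ = p)
    (hunit : IsUnit (aeval θ (derivative p))) : Algebra.adjoin R ({θ} : Set S) = ⊤ := by
  classical
  have hint : Algebra.IsIntegral R S := isIntegral R S G
  let _ := IsFractionRing.mulSemiringAction G S (FractionRing S)
  have hgal : IsGaloisGroup G (FractionRing R) (FractionRing S) := inferInstance
  have : IsGalois (FractionRing R) (FractionRing S) :=
    IsGaloisGroup.isGalois G (FractionRing R) (FractionRing S)
  have : FiniteDimensional (FractionRing R) (FractionRing S) :=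
    IsGaloisGroup.finiteDimensional G (FractionRing R) (FractionRing S)
  have hcard := IsGaloisGroup.card_eq_finrank G (FractionRing R) (FractionRing S)
  have hθint : IsIntegral R θ := Algebra.IsIntegral.isIntegral θ
  set x : FractionRing S := algebraMap S (FractionRing S) θ with hx
  have hx_int : IsIntegral R x := hθint.algebraMap
  have hminK : minpoly (FractionRing R) x = (minpoly R θ).map (algebraMap R (FractionRing R)) :=
    minpoly.isIntegrallyClosed_eq_field_fractions (FractionRing R) (FractionRing S) hθint
  have hdegK : (minpoly (FractionRing R) x).natDegree =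
      Module.finrank (FractionRing R) (FractionRing S) := by
    rw [hminK, (minpoly.monic hθint).natDegree_map, hmin, hdeg, hcard]
  have htop : IntermediateField.adjoin (FractionRing R) ({x} : Set (FractionRing S)) = ⊤ :=
    (Field.primitive_element_iff_minpoly_natDegree_eq (FractionRing R) x).mpr hdegK
  have hadjK : Algebra.adjoin (FractionRing R) ({x} : Set (FractionRing S)) = ⊤ := by
    have hxK : IsIntegral (FractionRing R) x := Algebra.IsIntegral.isIntegral x
    rw [← IntermediateField.adjoin_simple_toSubalgebra_of_isAlgebraic hxK.isAlgebraic, htop]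
    rfl
  have hdual := traceForm_dualSubmodule_adjoin R (FractionRing R) hadjK hx_int
  have hD : aeval x (derivative (minpoly (FractionRing R) x)) =
      algebraMap S (FractionRing S) (aeval θ (derivative p)) := by
    rw [hminK, hmin, Polynomial.derivative_map, Polynomial.aeval_map_algebraMap, hx,
      Polynomial.aeval_algebraMap_apply]
  rw [hD] at hdual
  obtain ⟨u, hu⟩ := hunit
  have hD0 : algebraMap S (FractionRing S) (aeval θ (derivative p)) ≠ 0 := by
    rw [← hu, Ne, map_eq_zero_iff _ (IsFractionRing.injective S (FractionRing S))]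
    exact u.ne_zero
  have hrange : Algebra.adjoin R ({x} : Set (FractionRing S)) ≤
      (IsScalarTower.toAlgHom R S (FractionRing S)).range := by
    refine Algebra.adjoin_le ?_
    rintro y rfl
    exact ⟨θ, rfl⟩
  rw [eq_top_iff]
  rintro s -
  -- the element `u⁻¹ s` lies in the trace dual of `R[x]`
  have hmem : algebraMap S (FractionRing S) (↑u⁻¹ * s) ∈
      (Algebra.traceForm (FractionRing R) (FractionRing S)).dualSubmodule
        (Subalgebra.toSubmodule (Algebra.adjoin R ({x} : Set (FractionRing S)))) := by
    intro y hy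
    obtain ⟨y', rfl⟩ := hrange hy
    rw [Algebra.traceForm_apply]
    have h1 : IsIntegral R (algebraMap S (FractionRing S) (↑u⁻¹ * s) *
        (IsScalarTower.toAlgHom R S (FractionRing S)) y') := by
      rw [IsScalarTower.coe_toAlgHom', ← map_mul]
      exact IsIntegral.algebraMap (B := FractionRing S)
        (Algebra.IsIntegral.isIntegral (R := R) (↑u⁻¹ * s * y'))
    have h2 : IsIntegral R (Algebra.trace (FractionRing R) (FractionRing S)
        (algebraMap S (FractionRing S) (↑u⁻¹ * s) *
          (IsScalarTower.toAlgHom R S (FractionRing S)) y')) := Algebra.isIntegral_trace h1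
    obtain ⟨c, hc⟩ := IsIntegrallyClosed.isIntegral_iff.mp h2
    exact Submodule.mem_one.mpr ⟨c, hc⟩
  rw [hdual] at hmem
  obtain ⟨a, ha, hae⟩ := (Submodule.mem_smul_pointwise_iff_exists _ _ _).mp hmem
  have ha' : a = algebraMap S (FractionRing S) s := by
    have h3 : a = algebraMap S (FractionRing S) (aeval θ (derivative p)) *
        algebraMap S (FractionRing S) (↑u⁻¹ * s) := by
      rw [← hae, smul_eq_mul, ← mul_assoc, mul_inv_cancel₀ hD0, one_mul]
    rw [h3, ← map_mul, ← hu, ← mul_assoc, Units.mul_inv, one_mul]
  rw [ha'] at ha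
  have hmap : Algebra.adjoin R ({x} : Set (FractionRing S)) =
      (Algebra.adjoin R ({θ} : Set S)).map (IsScalarTower.toAlgHom R S (FractionRing S)) := by
    rw [AlgHom.map_adjoin, Set.image_singleton]
    rfl
  rw [Subalgebra.mem_toSubmodule, hmap] at ha
  obtain ⟨t, ht, hts⟩ := ha
  have : t = s := IsFractionRing.injective S (FractionRing S) hts
  rw [← this]
  exact ht


theorem unramified_of_inertia_eq_bot (hI : n.toAddSubgroup.inertia G = ⊥) :
    (maximalIdeal R).map (algebraMap R S) = n ∧
      Module.Finite (R ⧸ maximalIdeal R) (S ⧸ n) ∧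
      Algebra.IsSeparable (R ⧸ maximalIdeal R) (S ⧸ n) := by
  classical
  have hloc : IsLocalRing S := isLocalRing R S G
  have hn : n = maximalIdeal S := IsLocalRing.eq_maximalIdeal ‹n.IsMaximal›
  let _ : Fintype G := Fintype.ofFinite G
  obtain ⟨θ, p, hpmonic, hroot, hdeg, hsep, hmin, hinj⟩ := exists_generator_data R S G n hI
  set θbar := Ideal.Quotient.mk n θ with hθbar
  set pbar := p.map (Ideal.Quotient.mk (maximalIdeal R)) with hpbar
  have hrootbar : aeval θbar pbar = 0 := by rw [hθbar, hpbar, ← mk_aeval, hroot, map_zero]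
  have hunit : IsUnit (aeval θ (derivative p)) := by
    rw [← IsLocalRing.notMem_maximalIdeal, ← hn, ← Ideal.Quotient.eq_zero_iff_mem,
      mk_aeval n _ θ, ← Polynomial.derivative_map]
    exact hsep.aeval_derivative_ne_zero hrootbar
  have hadj := adjoin_eq_top_of_data R S G hdeg hmin hunit
  have hpbarmonic : pbar.Monic := hpmonic.map _
  have hintbar : IsIntegral (R ⧸ maximalIdeal R) θbar := ⟨pbar, hpbarmonic, hrootbar⟩
  -- the minimal polynomial of `θbar`
  have hminbar : minpoly (R ⧸ maximalIdeal R) θbar = pbar := by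
    have hdvd : minpoly (R ⧸ maximalIdeal R) θbar ∣ pbar := minpoly.dvd _ _ hrootbar
    have hroots : ∀ g : G, ((minpoly (R ⧸ maximalIdeal R) θbar).map
        (algebraMap (R ⧸ maximalIdeal R) (S ⧸ n))).IsRoot (Ideal.Quotient.mk n (g • θ)) := by
      intro g
      have h3 := Polynomial.aeval_algHom_apply
        ((resHom R S G n g : (S ⧸ n) ≃ₐ[R ⧸ maximalIdeal R] (S ⧸ n)) :
          (S ⧸ n) →ₐ[R ⧸ maximalIdeal R] (S ⧸ n)) θbar (minpoly (R ⧸ maximalIdeal R) θbar)
      rw [minpoly.aeval, map_zero] at h3
      rw [Polynomial.IsRoot, Polynomial.eval_map_algebraMap]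
      exact h3
    have hne : (minpoly (R ⧸ maximalIdeal R) θbar).map
        (algebraMap (R ⧸ maximalIdeal R) (S ⧸ n)) ≠ 0 :=
      ((minpoly.monic hintbar).map _).ne_zero
    have hdeg' : Nat.card G ≤ (minpoly (R ⧸ maximalIdeal R) θbar).natDegree := by
      have h4 := Polynomial.card_le_degree_of_subset_roots
        (p := (minpoly (R ⧸ maximalIdeal R) θbar).map
          (algebraMap (R ⧸ maximalIdeal R) (S ⧸ n)))
        (Z := Finset.univ.image (fun g : G => Ideal.Quotient.mk n (g • θ))) (by
          intro x hx
          rw [Finset.mem_val, Finset.mem_image] at hx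
          obtain ⟨g, -, rfl⟩ := hx
          exact (Polynomial.mem_roots hne).mpr (hroots g))
      rw [Finset.card_image_of_injective _ hinj, Finset.card_univ,
        (minpoly.monic hintbar).natDegree_map] at h4
      rw [Nat.card_eq_fintype_card]
      exact h4
    exact (Polynomial.eq_of_monic_of_dvd_of_natDegree_le (minpoly.monic hintbar) hpbarmonic hdvd
      (by rw [hpbar, hpmonic.natDegree_map, hdeg]; exact hdeg')).symm
  -- the residue field is generated by `θbar`
  have hadjbar : Algebra.adjoin (R ⧸ maximalIdeal R) ({θbar} : Set (S ⧸ n)) = ⊤ := by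
    rw [eq_top_iff]
    rintro y -
    obtain ⟨s, rfl⟩ := Ideal.Quotient.mk_surjective y
    have hs : s ∈ Algebra.adjoin R ({θ} : Set S) := by rw [hadj]; exact Algebra.mem_top
    rw [Algebra.adjoin_singleton_eq_range_aeval] at hs ⊢
    obtain ⟨r, rfl⟩ := hs
    exact ⟨r.map (Ideal.Quotient.mk (maximalIdeal R)), (mk_aeval n r θ).symm⟩
  refine ⟨?_, ?_, ?_⟩
  · apply le_antisymm
    · rw [Ideal.map_le_iff_le_comap]
      exact le_of_eq (Ideal.LiesOver.over (p := maximalIdeal R) (P := n))
    · intro s hs
      have hs' : s ∈ Algebra.adjoin R ({θ} : Set S) := by rw [hadj]; exact Algebra.mem_top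
      rw [Algebra.adjoin_singleton_eq_range_aeval] at hs'
      obtain ⟨r, rfl⟩ := hs'
      have h1 : aeval θ (r %ₘ p) = aeval θ r := Polynomial.aeval_modByMonic_eq_self_of_root hroot
      have h2 : aeval θbar ((r %ₘ p).map (Ideal.Quotient.mk (maximalIdeal R))) = 0 := by
        rw [hθbar, ← mk_aeval, h1]
        exact Ideal.Quotient.eq_zero_iff_mem.mpr hs
      have h3 : (r %ₘ p).map (Ideal.Quotient.mk (maximalIdeal R)) = 0 := by
        by_contra hne
        have h4 := minpoly.degree_le_of_ne_zero (R ⧸ maximalIdeal R) θbar hne h2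
        rw [hminbar, hpbar, hpmonic.degree_map] at h4
        have h5 := Polynomial.degree_modByMonic_lt r hpmonic
        have h6 := Polynomial.degree_map_le (f := Ideal.Quotient.mk (maximalIdeal R))
          (p := r %ₘ p)
        exact absurd (h4.trans h6) (not_le.mpr h5)
      have hcoeff : ∀ i, (r %ₘ p).coeff i ∈ maximalIdeal R := by
        intro i
        have := congrArg (fun f => f.coeff i) h3
        simp only [Polynomial.coeff_map, Polynomial.coeff_zero] at this
        exact Ideal.Quotient.eq_zero_iff_mem.mp this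
      show aeval θ r ∈ _
      rw [← h1, Polynomial.aeval_eq_sum_range]
      refine Ideal.sum_mem _ (fun i _ => ?_)
      rw [Algebra.smul_def]
      exact Ideal.mul_mem_right _ _ (Ideal.mem_map_of_mem _ (hcoeff i))
  · rw [Module.finite_def, ← Algebra.top_toSubmodule, ← hadjbar]
    exact hintbar.fg_adjoin_singleton
  · rw [← separableClosure.eq_top_iff, eq_top_iff]
    have hsepθ : IsSeparable (R ⧸ maximalIdeal R) θbar := by
      rw [IsSeparable, hminbar]; exact hsep
    have hle : Algebra.adjoin (R ⧸ maximalIdeal R) ({θbar} : Set (S ⧸ n)) ≤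
        (separableClosure (R ⧸ maximalIdeal R) (S ⧸ n)).toSubalgebra := by
      refine Algebra.adjoin_le ?_
      rintro y rfl
      exact hsepθ
    rw [hadjbar] at hle
    intro y _
    exact hle (Algebra.mem_top : y ∈ (⊤ : Subalgebra (R ⧸ maximalIdeal R) (S ⧸ n)))

/-- Stacks-type criterion: in a Galois cover of a complete normal local domain the inertia
group is trivial iff the extension is unramified. -/
theorem inertia_eq_bot_iff :
    n.toAddSubgroup.inertia G = ⊥ ↔
      ((maximalIdeal R).map (algebraMap R S) = n ∧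
        Module.Finite (R ⧸ maximalIdeal R) (S ⧸ n) ∧
        Algebra.IsSeparable (R ⧸ maximalIdeal R) (S ⧸ n)) := by
  constructor
  · exact unramified_of_inertia_eq_bot R S G n
  · rintro ⟨h1, h2, h3⟩
    exact inertia_eq_bot_of_unramified R S G n h1

end Main







end Groth.Agent.Lib.H40InertiaComplete
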