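import Groth.Agent.Lib.H40EFBasis
import Groth.Agent.Lib.NagataNormFin96B

set_option autoImplicit false
universe u

namespace Groth.Agent.Lib.H40InsepA

open IsLocalRing Polynomial
open Groth.Agent.Lib.H40TotRamCriterion (val_unit val_algebraMap_K algebraMap_injective')

section PI

variable {p : ℕ} {L M : Type u} [Field L] [Field M] [Algebra L M]

/-- a purely inseparable extension of prime degree `p` lives in characteristic `p`. -/
theorem expChar_of_finrank (hp : p.Prime) [IsPurelyInseparable L M]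
    (hdeg : Module.finrank L M = p) : ExpChar L p := by
  have hfd : FiniteDimensional L M := Module.finite_of_finrank_pos (by rw [hdeg]; exact hp.pos)
  obtain ⟨q, hq⟩ := ExpChar.exists L
  obtain ⟨n, hn⟩ := IsPurelyInseparable.finrank_eq_pow (F := L) M q
  rw [hdeg] at hn
  obtain ⟨rfl, -⟩ := (Nat.Prime.pow_eq_iff hp).mp hn.symm
  exact hq

theorem charP_of_finrank (hp : p.Prime) [IsPurelyInseparable L M]
    (hdeg : Module.finrank L M = p) : CharP L p := by
  have h := expChar_of_finrank hp hdeg
  cases h with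
  | zero => exact absurd hp Nat.not_prime_one
  | prime _ => assumption

/-- `p`-th powers land in `L`. -/
theorem exists_pow_eq (hp : p.Prime) [IsPurelyInseparable L M]
    (hdeg : Module.finrank L M = p) (x : M) : ∃ l : L, algebraMap L M l = x ^ p := by
  have hfd : FiniteDimensional L M := Module.finite_of_finrank_pos (by rw [hdeg]; exact hp.pos)
  have hexp : ExpChar L p := expChar_of_finrank hp hdeg
  have h1 := IsPurelyInseparable.minpoly_natDegree_eq' L p x
  have h2 : (minpoly L x).natDegree ≤ p := by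
    rw [← hdeg]; exact minpoly.natDegree_le x
  rw [h1] at h2
  have h3 : IsPurelyInseparable.elemExponent L x ≤ 1 := by
    by_contra hcon
    push Not at hcon
    have : p ^ 2 ≤ p ^ IsPurelyInseparable.elemExponent L x := Nat.pow_le_pow_right hp.pos hcon
    have h4 : p < p ^ 2 := by nlinarith [hp.two_le]
    omega
  have h5 := IsPurelyInseparable.algebraMap_elemReduct_eq' L p x
  rcases Nat.le_one_iff_eq_zero_or_eq_one.mp h3 with h0 | h0
  · rw [h0, pow_zero, pow_one] at h5
    exact ⟨IsPurelyInseparable.elemReduct L x ^ p, by rw [map_pow, h5]⟩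
  · rw [h0, pow_one] at h5
    exact ⟨_, h5⟩

end PI

section VC

variable {C M : Type u} [CommRing C] [IsDomain C] [IsDiscreteValuationRing C] [Field M]
  [Algebra C M] [IsFractionRing C M]

variable (C M) in
/-- the valuation subring of `M = Frac C` given by `C`. -/
noncomputable def VC : ValuationSubring M := (ValuationRing.valuation C M).valuationSubring

theorem mem_VC {x : M} : x ∈ VC C M ↔ ∃ c : C, algebraMap C M c = x := by
  rw [VC, Valuation.mem_valuationSubring_iff, ← Valuation.mem_integer_iff,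
    ValuationRing.mem_integer_iff]

theorem VC_dominates : EtRam.Dominates C (algebraMap C M) (VC C M) := by
  refine ⟨fun c => mem_VC.mpr ⟨c, rfl⟩, fun c hc => ?_⟩
  by_cases hc0 : algebraMap C M c = 0
  · rw [hc0, map_zero]; exact zero_lt_one
  rw [Groth.Agent.Lib.H40TotRamStruct.val_lt_one_iff _ hc0, ValuationSubring.valuation_le_one_iff,
    mem_VC]
  rintro ⟨d, hd⟩
  have h1 : algebraMap C M (d * c) = 1 := by
    rw [map_mul, hd, inv_mul_cancel₀ hc0]
  have h2 : d * c = 1 := IsFractionRing.injective C M (h1.trans (map_one _).symm)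
  have h3 : IsUnit c := IsUnit.of_mul_eq_one d (by rw [mul_comm]; exact h2)
  exact hc h3

end VC


section BC

variable {p : ℕ} {B C L M : Type u} [CommRing B] [IsDomain B] [IsDiscreteValuationRing B]
  [CommRing C] [IsDomain C] [IsDiscreteValuationRing C] [Algebra B C] [IsLocalHom (algebraMap B C)]
  [Field L] [Field M] [Algebra B L] [IsFractionRing B L] [Algebra C M] [IsFractionRing C M]
  [Algebra L M] [Algebra B M] [IsScalarTower B L M] [IsScalarTower B C M]

omit [IsDomain B] [IsDiscreteValuationRing B] [Algebra B L] [IsFractionRing B L] [Algebra L M]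
  [IsScalarTower B L M] [Field L] in
theorem VC_dominates_B [IsLocalRing B] : EtRam.Dominates B (algebraMap B M) (VC C M) := by
  refine ⟨fun b => ?_, fun b hb => ?_⟩
  · rw [IsScalarTower.algebraMap_apply B C M]; exact VC_dominates.1 _
  · rw [IsScalarTower.algebraMap_apply B C M]
    apply VC_dominates.2
    have hloc : IsLocalHom (algebraMap B C) := inferInstance
    have h3 : maximalIdeal B ≤ (maximalIdeal C).comap (algebraMap B C) :=
      ((local_hom_TFAE (algebraMap B C)).out 0 3).mp hloc
    exact h3 hb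

omit [CommRing B] [IsDomain B] [IsDiscreteValuationRing B] [Algebra B C] [IsLocalHom (algebraMap B C)]
  [Field L] [Algebra B L] [IsFractionRing B L] [Algebra L M] [Algebra B M] [IsScalarTower B L M]
  [IsScalarTower B C M] in
/-- every nonzero element of `M` has valuation a power of that of a uniformizer of `C`. -/
theorem val_eq_zpow {ϖ : C} (hϖ : Irreducible ϖ) {x : M} (hx : x ≠ 0) :
    ∃ k : ℤ, (VC C M).valuation x = (VC C M).valuation (algebraMap C M ϖ) ^ k := by
  obtain ⟨k, hk, -⟩ := val_algebraMap_K (A := C) (K := M) (L := M) hϖ VC_dominates hx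
  exact ⟨k, hk⟩

omit [CommRing B] [IsDomain B] [IsDiscreteValuationRing B] [Algebra B C] [IsLocalHom (algebraMap B C)]
  [Field L] [Algebra B L] [IsFractionRing B L] [Algebra L M] [Algebra B M] [IsScalarTower B L M]
  [IsScalarTower B C M] in
theorem val_unif_facts {ϖ : C} (hϖ : Irreducible ϖ) :
    0 < (VC C M).valuation (algebraMap C M ϖ) ∧ (VC C M).valuation (algebraMap C M ϖ) < 1 := by
  refine ⟨?_, VC_dominates.2 ϖ ?_⟩
  · rw [zero_lt_iff, Valuation.ne_zero_iff]
    intro h
    exact hϖ.ne_zero (IsFractionRing.injective C M (h.trans (map_zero _).symm))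
  · rw [hϖ.maximalIdeal_eq]; exact Ideal.mem_span_singleton_self ϖ

/-- the ramification index of `B → C` is `1` or `p`. -/
theorem e_dichotomy (hp : p.Prime) [IsPurelyInseparable L M] (hdeg : Module.finrank L M = p)
    {πB : B} (hπB : Irreducible πB) {ϖ : C} (hϖ : Irreducible ϖ) :
    (VC C M).valuation (algebraMap B M πB) = (VC C M).valuation (algebraMap C M ϖ) ∨
      (VC C M).valuation (algebraMap B M πB) = (VC C M).valuation (algebraMap C M ϖ) ^ p := by
  obtain ⟨hγpos, hγ1⟩ := val_unif_facts (M := M) hϖ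
  have hinjB : Function.Injective (algebraMap B M) := algebraMap_injective' (K := L)
  have hπB0 : algebraMap B M πB ≠ 0 := fun h => hπB.ne_zero (hinjB (h.trans (map_zero _).symm))
  obtain ⟨k, hk⟩ := val_eq_zpow (M := M) hϖ hπB0
  have hdomB : EtRam.Dominates B (algebraMap B M) (VC C M) := VC_dominates_B
  have hπB1 : (VC C M).valuation (algebraMap B M πB) < 1 := by
    apply hdomB.2
    rw [hπB.maximalIdeal_eq]; exact Ideal.mem_span_singleton_self πB
  have hk1 : 1 ≤ k := by
    rw [hk] at hπB1
    by_contra hcon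
    push Not at hcon
    have : k ≤ 0 := by omega
    have h1 := one_le_zpow_of_nonpos₀ hγpos hγ1.le this
    exact absurd hπB1 (not_lt.mpr h1)
  obtain ⟨l, hl⟩ := exists_pow_eq hp hdeg (algebraMap C M ϖ)
  have hl0 : l ≠ 0 := by
    rintro rfl
    rw [map_zero] at hl
    have := (pow_eq_zero_iff hp.ne_zero).mp hl.symm
    exact hϖ.ne_zero (IsFractionRing.injective C M (this.trans (map_zero _).symm))
  obtain ⟨m, hm, -⟩ := val_algebraMap_K (A := B) (K := L) (L := M) hπB hdomB hl0
  rw [hl, map_pow, hk, ← zpow_natCast, ← zpow_mul] at hm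
  have h2 : (p : ℤ) = k * m := zpow_right_injective₀ hγpos hγ1.ne hm
  have hm0 : 0 < m := by
    by_contra hcon
    push Not at hcon
    have : k * m ≤ 0 := mul_nonpos_of_nonneg_of_nonpos (by omega) hcon
    have hp0 : (0 : ℤ) < p := by exact_mod_cast hp.pos
    omega
  have h3 : k.toNat ∣ p := by
    refine ⟨m.toNat, ?_⟩
    have : ((k.toNat * m.toNat : ℕ) : ℤ) = p := by
      rw [Nat.cast_mul, Int.toNat_of_nonneg (by omega), Int.toNat_of_nonneg hm0.le, h2]
    exact_mod_cast this.symm
  rcases (Nat.dvd_prime hp).mp h3 with h4 | h4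
  · left
    have : k = 1 := by omega
    rw [hk, this, zpow_one]
  · right
    have : k = p := by omega
    rw [hk, this, zpow_natCast]


omit [Algebra B L] [IsFractionRing B L] [Algebra L M] [IsScalarTower B L M] [Field L]
  [IsLocalHom (algebraMap B C)] in
/-- ramification index one: `𝔪_B C = 𝔪_C`. -/
theorem map_maximalIdeal_eq (hBC : Function.Injective (algebraMap B C))
    {πB : B} (hπB : Irreducible πB) {ϖ : C} (hϖ : Irreducible ϖ)
    (h : (VC C M).valuation (algebraMap B M πB) = (VC C M).valuation (algebraMap C M ϖ)) :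
    (maximalIdeal B).map (algebraMap B C) = maximalIdeal C := by
  obtain ⟨hγpos, hγ1⟩ := val_unif_facts (M := M) hϖ
  rw [hπB.maximalIdeal_eq, hϖ.maximalIdeal_eq, Ideal.map_span, Set.image_singleton]
  have h0 : algebraMap B C πB ≠ 0 := fun h0 => hπB.ne_zero (hBC (h0.trans (map_zero _).symm))
  obtain ⟨n, u, hu⟩ := IsDiscreteValuationRing.eq_unit_mul_pow_irreducible h0 hϖ
  rw [IsScalarTower.algebraMap_apply B C M, hu, map_mul, map_pow, map_mul, map_pow,
    val_unit VC_dominates, one_mul] at h
  have hn : n = 1 := by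
    have h1 : (VC C M).valuation (algebraMap C M ϖ) ^ n = (VC C M).valuation (algebraMap C M ϖ) ^ 1 := by
      rw [h, pow_one]
    exact pow_right_injective₀ hγpos hγ1.ne h1
  rw [hu, hn, pow_one]
  exact Ideal.span_singleton_mul_left_unit u.isUnit ϖ

variable (p M) in
/-- the `k`-th approximation: a `p`-th root of `π(1 + π^k t)` in `M`. -/
def Q (πB : B) (k : ℕ) : Prop :=
  ∃ (c : M) (t : B), c ^ p = algebraMap B M πB * (1 + algebraMap B M πB ^ k * algebraMap B M t)

/-- first step: `ϖ^p = π u`. -/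
theorem Q_one_or (hp : p.Prime) [IsPurelyInseparable L M] (hdeg : Module.finrank L M = p)
    {πB : B} (hπB : Irreducible πB) {ϖ : C} (hϖ : Irreducible ϖ)
    (h : (VC C M).valuation (algebraMap B M πB) = (VC C M).valuation (algebraMap C M ϖ) ^ p) :
    (∃ (u : B) (c : M), (∀ r : B, residue B u ≠ residue B r ^ p) ∧
      c ^ p = algebraMap B M πB * algebraMap B M u) ∨ Q p M πB 1 := by
  have hdomB : EtRam.Dominates B (algebraMap B M) (VC C M) := VC_dominates_B
  have hinjB : Function.Injective (algebraMap B M) := algebraMap_injective' (K := L)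
  have hinjBL : Function.Injective (algebraMap B L) := IsFractionRing.injective B L
  have hπB0 : algebraMap B M πB ≠ 0 := fun h => hπB.ne_zero (hinjB (h.trans (map_zero _).symm))
  have hπBL0 : algebraMap B L πB ≠ 0 := fun h => hπB.ne_zero (hinjBL (h.trans (map_zero _).symm))
  have hπBmem : πB ∈ maximalIdeal B := by
    rw [hπB.maximalIdeal_eq]; exact Ideal.mem_span_singleton_self πB
  obtain ⟨l, hl⟩ := exists_pow_eq hp hdeg (algebraMap C M ϖ)
  have hval : (VC C M).valuation (algebraMap L M (l / algebraMap B L πB)) = 1 := by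
    rw [map_div₀, map_div₀, hl, map_pow, ← IsScalarTower.algebraMap_apply, h]
    exact div_self (pow_ne_zero _ (val_unif_facts (M := M) hϖ).1.ne')
  obtain ⟨u, hu⟩ := Groth.Agent.Lib.H40EFBasis.mem_range_of_val_le_one (A := B) (K := L) hdomB
    hval.le
  have hcp : algebraMap C M ϖ ^ p = algebraMap B M πB * algebraMap B M u := by
    rw [← hl, IsScalarTower.algebraMap_apply B L M, IsScalarTower.algebraMap_apply B L M u, hu,
      ← map_mul, mul_div_cancel₀ _ hπBL0]
  have huunit : IsUnit u := by
    by_contra hnu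
    have humem : u ∈ maximalIdeal B := hnu
    have h1 := hdomB.2 u humem
    rw [IsScalarTower.algebraMap_apply B L M, hu, hval] at h1
    exact lt_irrefl _ h1
  by_cases hres : ∀ r : B, residue B u ≠ residue B r ^ p
  · exact Or.inl ⟨u, algebraMap C M ϖ, hres, hcp⟩
  · right
    push Not at hres
    obtain ⟨r, hr⟩ := hres
    have hrunit : IsUnit r := by
      rw [← residue_ne_zero_iff_isUnit]
      intro h0
      rw [h0, zero_pow hp.ne_zero] at hr
      exact (residue_ne_zero_iff_isUnit u).mpr huunit hr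
    obtain ⟨ru, rfl⟩ := hrunit
    have hd : u - (ru : B) ^ p ∈ maximalIdeal B := by
      rw [← residue_eq_zero_iff, map_sub, map_pow, hr, sub_self]
    rw [hπB.maximalIdeal_eq, Ideal.mem_span_singleton] at hd
    obtain ⟨s, hs⟩ := hd
    have hru0 : algebraMap B M (ru : B) ≠ 0 := fun h0 =>
      ru.ne_zero (hinjB (h0.trans (map_zero _).symm))
    have hruinv : algebraMap B M (ru : B) * algebraMap B M ((ru⁻¹ : Bˣ) : B) = 1 := by
      rw [← map_mul, ← Units.val_mul, mul_inv_cancel, Units.val_one, map_one]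
    refine ⟨algebraMap C M ϖ * algebraMap B M ((ru⁻¹ : Bˣ) : B), s * ((ru⁻¹ : Bˣ) : B) ^ p, ?_⟩
    have hu' : algebraMap B M u = algebraMap B M (ru : B) ^ p + algebraMap B M πB * algebraMap B M s := by
      rw [← map_pow, ← map_mul, ← map_add, ← hs]; congr 1; ring
    rw [mul_pow, hcp, hu', pow_one, map_mul, map_pow]
    have h2 : algebraMap B M (ru : B) ^ p * algebraMap B M ((ru⁻¹ : Bˣ) : B) ^ p = 1 := by
      rw [← mul_pow, hruinv, one_pow]
    linear_combination (algebraMap B M πB) * h2

/-- improving the approximation. -/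
theorem Q_succ_or (hp : p.Prime) [CharP M p] {πB : B} (hπB : Irreducible πB) {k : ℕ} (hk : 1 ≤ k)
    {c : M} {t : B}
    (hc : c ^ p = algebraMap B M πB * (1 + algebraMap B M πB ^ k * algebraMap B M t)) :
    (∀ r : B, residue B t ≠ residue B r ^ p) ∨ Q p M πB (k + 1) := by
  have : Fact p.Prime := ⟨hp⟩
  by_cases hres : ∀ r : B, residue B t ≠ residue B r ^ p
  · exact Or.inl hres
  right
  push Not at hres
  obtain ⟨s, hs⟩ := hres
  have hd : t - s ^ p ∈ maximalIdeal B := by
    rw [← residue_eq_zero_iff, map_sub, map_pow, hs, sub_self]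
  rw [hπB.maximalIdeal_eq, Ideal.mem_span_singleton] at hd
  obtain ⟨t', ht'⟩ := hd
  obtain ⟨k', rfl⟩ : ∃ k', k = k' + 1 := ⟨k - 1, by omega⟩
  obtain ⟨X, hX⟩ : ∃ X : B, X = πB * (1 + πB ^ (k' + 1) * t) := ⟨_, rfl⟩
  have hcX : c ^ p = algebraMap B M X := by
    rw [hc, hX, map_mul, map_add, map_one, map_mul, map_pow]
  obtain ⟨G, hG⟩ : ∃ G : B, G = ∑ i ∈ Finset.range (k' + 1), (1 + πB ^ (k' + 1) * t) ^ i :=
    ⟨_, rfl⟩
  have hGeq : (1 + πB ^ (k' + 1) * t) ^ (k' + 1) = 1 + πB ^ (k' + 1) * t * G := by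
    have := geom_sum_mul (1 + πB ^ (k' + 1) * t) (k' + 1)
    rw [add_sub_cancel_left] at this
    rw [hG]
    linear_combination -this
  refine ⟨c * (1 - algebraMap B M s * c ^ (k' + 1)),
    t' - s ^ p * πB ^ k' * (t * G + t + πB ^ (k' + 1) * t ^ 2 * G), ?_⟩
  have h1 : (c * (1 - algebraMap B M s * c ^ (k' + 1))) ^ p =
      algebraMap B M (X * (1 - s ^ p * X ^ (k' + 1))) := by
    rw [mul_pow, sub_pow_char, one_pow, mul_pow, ← pow_mul, mul_comm (k' + 1) p, pow_mul, hcX,
      map_mul, map_sub, map_one, map_mul, map_pow, map_pow]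
  rw [h1, ← map_pow, ← map_mul, ← map_one (algebraMap B M), ← map_add, ← map_mul]
  congr 1
  have hXpow : X ^ (k' + 1) = πB ^ (k' + 1) * (1 + πB ^ (k' + 1) * t * G) := by
    rw [hX, mul_pow, hGeq]
  rw [hXpow, hX]
  have ht'' : t = s ^ p + πB * t' := by linear_combination ht'
  linear_combination (πB * πB ^ (k' + 1)) * ht''


/-- the dichotomy when the ramification index is `p`. -/
theorem alpha_or_beta (hp : p.Prime) [IsPurelyInseparable L M] (hdeg : Module.finrank L M = p)
    {πB : B} (hπB : Irreducible πB) {ϖ : C} (hϖ : Irreducible ϖ)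
    (h : (VC C M).valuation (algebraMap B M πB) = (VC C M).valuation (algebraMap C M ϖ) ^ p) :
    (∃ (k : ℕ) (ι τ : B) (c : M), ι ^ p = ι ∧
      c ^ p = algebraMap B M πB * (algebraMap B M ι + algebraMap B M πB ^ k * algebraMap B M τ) ∧
      ∀ r : B, residue B τ ≠ residue B r ^ p) ∨ (∀ k, 1 ≤ k → Q p M πB k) := by
  have hcharL : CharP L p := charP_of_finrank hp hdeg
  have hcharM : CharP M p := charP_of_injective_algebraMap (algebraMap L M).injective p
  by_cases hα : ∃ (k : ℕ) (ι τ : B) (c : M), ι ^ p = ι ∧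
      c ^ p = algebraMap B M πB * (algebraMap B M ι + algebraMap B M πB ^ k * algebraMap B M τ) ∧
      ∀ r : B, residue B τ ≠ residue B r ^ p
  · exact Or.inl hα
  right
  intro k hk
  induction k, hk using Nat.le_induction with
  | base =>
    rcases Q_one_or hp hdeg hπB hϖ h with ⟨u, c, hres, hcp⟩ | hQ
    · exfalso
      exact hα ⟨0, 0, u, c, zero_pow hp.ne_zero, by rw [map_zero, zero_add, pow_zero, one_mul, hcp],
        hres⟩
    · exact hQ
  | succ k hk ih =>
    obtain ⟨c, t, hc⟩ := ih
    rcases Q_succ_or hp hπB hk hc with hres | hQ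
    · exfalso
      exact hα ⟨k, 1, t, c, one_pow p, by rw [map_one, hc], hres⟩
    · exact hQ

omit [IsLocalHom (algebraMap B C)] [Algebra B C] [IsScalarTower B C M] [Algebra B L]
  [IsFractionRing B L] [Algebra L M] [IsScalarTower B L M] [Field L] in
/-- finitely generated `B`-submodules of `M` are bounded. -/
theorem bounded_of_fg {πB : B} {ϖ : C} (hϖ : Irreducible ϖ) {e : ℕ} (he : 0 < e)
    (hB : ∀ b : B, (VC C M).valuation (algebraMap B M b) ≤ 1)
    (h : (VC C M).valuation (algebraMap B M πB) = (VC C M).valuation (algebraMap C M ϖ) ^ e)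
    (T : Submodule B M) (hT : T.FG) :
    ∃ N : ℕ, ∀ y ∈ T, (VC C M).valuation (algebraMap B M πB ^ N * y) ≤ 1 := by
  classical
  obtain ⟨hγpos, hγ1⟩ := val_unif_facts (M := M) hϖ
  obtain ⟨S, hS⟩ := hT
  -- single elements
  have hsingle : ∀ y : M, ∃ N : ℕ, ∀ N' : ℕ, N ≤ N' →
      (VC C M).valuation (algebraMap B M πB ^ N' * y) ≤ 1 := by
    intro y
    by_cases hy : y = 0
    · exact ⟨0, fun N' _ => by rw [hy, mul_zero, map_zero]; exact zero_le⟩
    obtain ⟨m, hm⟩ := val_eq_zpow (M := M) hϖ hy
    refine ⟨(-m).toNat, fun N' hN' => ?_⟩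
    rw [map_mul, map_pow, h, hm, ← pow_mul, ← zpow_natCast, ← zpow_add₀ hγpos.ne']
    apply zpow_le_one₀ hγpos hγ1.le
    have h1 : -m ≤ ((-m).toNat : ℤ) := Int.self_le_toNat _
    have h2 : ((-m).toNat : ℤ) ≤ (N' : ℤ) := by exact_mod_cast hN'
    have h3 : (N' : ℤ) ≤ ((e * N' : ℕ) : ℤ) := by
      exact_mod_cast Nat.le_mul_of_pos_left N' he
    omega
  choose Nf hNf using hsingle
  refine ⟨S.sup Nf, fun y hy => ?_⟩
  rw [← hS] at hy
  induction hy using Submodule.span_induction with
  | mem x hx => exact hNf x _ (Finset.le_sup (f := Nf) hx)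
  | zero => rw [mul_zero, map_zero]; exact zero_le
  | add x y _ _ hx hy =>
    rw [mul_add]
    exact le_trans (Valuation.map_add _ _ _) (max_le hx hy)
  | smul b x _ hx =>
    rw [Algebra.smul_def, mul_left_comm, map_mul]
    exact mul_le_one' (hB b) hx

end BC

end Groth.Agent.Lib.H40InsepA
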