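import Groth.Agent.Lib.H40TotRamStruct

set_option autoImplicit false
universe u

namespace Groth.Agent.Lib.H40UnramCore

open IsLocalRing Polynomial IntermediateField

variable {A K L : Type u} [CommRing A] [IsDomain A] [IsDiscreteValuationRing A] [Field K]
  [Algebra A K] [IsFractionRing A K] [Field L] [Algebra K L] [Algebra A L] [IsScalarTower A K L]

omit [IsDiscreteValuationRing A] in
/-- fraction representation of elements of `L = K(z)`. -/
theorem exists_aeval_eq {z : L} (hzint : IsIntegral A z) (hgen : K⟮z⟯ = ⊤) (x : L) :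
    ∃ (q : A[X]) (a : A), a ≠ 0 ∧ x * algebraMap A L a = aeval z q := by
  have hzalg : IsAlgebraic K z := (hzint.tower_top (A := K)).isAlgebraic
  have h1 : x ∈ Algebra.adjoin K {z} := by
    rw [← IntermediateField.adjoin_simple_toSubalgebra_of_isAlgebraic hzalg, hgen]
    trivial
  rw [Algebra.adjoin_singleton_eq_range_aeval] at h1
  obtain ⟨P, rfl⟩ := h1
  obtain ⟨b, hbM, hb⟩ := IsLocalization.integerNormalization_spec (nonZeroDivisors A) P
  refine ⟨IsLocalization.integerNormalization (nonZeroDivisors A) P, b,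
    nonZeroDivisors.ne_zero hbM, ?_⟩
  have h2 : aeval z (IsLocalization.integerNormalization (nonZeroDivisors A) P) =
      aeval z ((IsLocalization.integerNormalization (nonZeroDivisors A) P).map (algebraMap A K)) :=
    (aeval_map_algebraMap K z _).symm
  have h3 : b • P = C (algebraMap A K b) * P := by
    rw [← Polynomial.smul_eq_C_mul, algebraMap_smul]
  rw [h2, hb, h3, map_mul, aeval_C, ← IsScalarTower.algebraMap_apply, mul_comm]
  rfl


omit [IsDomain A] [IsDiscreteValuationRing A] in
theorem aeval_mem {V : ValuationSubring L} (hV : ∀ a : A, algebraMap A L a ∈ V) {z : L} (hz : z ∈ V)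
    (q : A[X]) : aeval z q ∈ V := by
  have key : ∀ y ∈ Algebra.adjoin A {z}, y ∈ V := by
    intro y hb
    induction hb using Algebra.adjoin_induction with
    | mem y hy => rw [Set.mem_singleton_iff] at hy; rw [hy]; exact hz
    | algebraMap a => exact hV a
    | add y w _ _ hy hw => exact V.add_mem _ _ hy hw
    | mul y w _ _ hy hw => exact V.mul_mem _ _ hy hw
  exact key _ (aeval_mem_adjoin_singleton A z)

theorem core {π : A} (hπ : maximalIdeal A = Ideal.span {π}) {z : L} (hzint : IsIntegral A z)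
    (hgen : K⟮z⟯ = ⊤) {V : ValuationSubring L} (hV : EtRam.Dominates A (algebraMap A L) V)
    {f g h c : A[X]} (hfz : aeval z f = 0) (hfac : f = g * h + C π * c)
    (hh : V.valuation (aeval z h) = 1)
    (hker : ∀ q : A[X], V.valuation (aeval z q) < 1 → ∃ q₁ q₂ : A[X], q = g * q₁ + C π * q₂) :
    (∀ x : L, x ≠ 0 → ∃ k : ℤ, V.valuation x = V.valuation (algebraMap A L π) ^ k) ∧
    (∀ x ∈ V, ∃ (q : A[X]) (j : ℕ), x * (aeval z h) ^ j = aeval z q) := by
  have hπirr : Irreducible π := (IsDiscreteValuationRing.irreducible_iff_uniformizer π).mpr hπ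
  have hπmem : π ∈ maximalIdeal A := by rw [hπ]; exact Ideal.mem_span_singleton_self π
  have hinj : Function.Injective (algebraMap A L) :=
    Groth.Agent.Lib.H40TotRamCriterion.algebraMap_injective' (K := K)
  have hϖ1 : V.valuation (algebraMap A L π) < 1 := hV.2 π hπmem
  have hϖ0 : V.valuation (algebraMap A L π) ≠ 0 := by
    rw [Valuation.ne_zero_iff]
    exact fun h => hπirr.ne_zero (hinj (h.trans (map_zero _).symm))
  have hϖpos : 0 < V.valuation (algebraMap A L π) := zero_lt_iff.mpr hϖ0
  have hzV : z ∈ V := Groth.Agent.Lib.H40TotRamStruct.mem_of_isIntegral hV.1 hzint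
  have hle : ∀ q : A[X], V.valuation (aeval z q) ≤ 1 := fun q =>
    (V.valuation_le_one_iff _).mpr (aeval_mem hV.1 hzV q)
  -- step 1
  have step1 : ∀ q : A[X], V.valuation (aeval z q) < 1 →
      ∃ q' : A[X], aeval z q * aeval z h = algebraMap A L π * aeval z q' := by
    intro q hq
    obtain ⟨q₁, q₂, rfl⟩ := hker q hq
    refine ⟨q₂ * h - c * q₁, ?_⟩
    have h1 : aeval z g * aeval z h = - (algebraMap A L π * aeval z c) := by
      have h2 := hfz
      rw [hfac, map_add, map_mul, map_mul, aeval_C] at h2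
      linear_combination h2
    simp only [map_add, map_mul, map_sub, aeval_C]
    linear_combination (aeval z q₁) * h1
  -- step 2
  have step2 : ∀ m : ℕ, ∀ q : A[X], V.valuation (algebraMap A L π) ^ m ≤ V.valuation (aeval z q) →
      ∃ (j : ℕ) (q₀ : A[X]), V.valuation (aeval z q₀) = 1 ∧
        aeval z q * aeval z h ^ j = algebraMap A L π ^ j * aeval z q₀ := by
    intro m
    induction m with
    | zero =>
      intro q hq
      rw [pow_zero] at hq
      exact ⟨0, q, le_antisymm (hle q) hq, by simp⟩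
    | succ m ih =>
      intro q hq
      by_cases h1 : V.valuation (aeval z q) = 1
      · exact ⟨0, q, h1, by simp⟩
      · have hlt : V.valuation (aeval z q) < 1 := lt_of_le_of_ne (hle q) h1
        obtain ⟨q', hq'⟩ := step1 q hlt
        have h2 : V.valuation (aeval z q) =
            V.valuation (algebraMap A L π) * V.valuation (aeval z q') := by
          have := congrArg V.valuation hq'
          rwa [map_mul, map_mul, hh, mul_one] at this
        have h3 : V.valuation (algebraMap A L π) ^ m ≤ V.valuation (aeval z q') := by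
          rw [h2, pow_succ'] at hq
          exact le_of_mul_le_mul_left hq hϖpos
        obtain ⟨j, q₀, hq₀, hj⟩ := ih q' h3
        refine ⟨j + 1, q₀, hq₀, ?_⟩
        rw [pow_succ', pow_succ', ← mul_assoc, hq', mul_assoc, hj]
        ring
  -- step 4
  have step4 : ∀ q : A[X], aeval z q ≠ 0 →
      ∃ m : ℕ, V.valuation (algebraMap A L π) ^ m ≤ V.valuation (aeval z q) := by
    intro q hq
    obtain ⟨q', a, ha, hx⟩ := exists_aeval_eq (K := K) hzint hgen (aeval z q)⁻¹
    obtain ⟨m, u, rfl⟩ := IsDiscreteValuationRing.eq_unit_mul_pow_irreducible ha hπirr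
    refine ⟨m, ?_⟩
    have h1 : algebraMap A L (↑u * π ^ m) = aeval z q * aeval z q' := by
      rw [← hx, ← mul_assoc, mul_inv_cancel₀ hq, one_mul]
    have h2 := congrArg V.valuation h1
    rw [map_mul, map_mul, map_pow, map_pow,
      Groth.Agent.Lib.H40TotRamCriterion.val_unit hV, one_mul] at h2
    rw [h2]
    calc V.valuation (aeval z q) * V.valuation (aeval z q')
        ≤ V.valuation (aeval z q) * 1 := mul_le_mul_right (hle q') _
      _ = _ := mul_one _
  -- E'1
  have hE : ∀ x : L, x ≠ 0 → ∃ (q₀ : A[X]) (j : ℕ) (k : ℤ), V.valuation (aeval z q₀) = 1 ∧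
      x * aeval z h ^ j = algebraMap A L π ^ k * aeval z q₀ := by
    intro x hx
    obtain ⟨q, a, ha, hxa⟩ := exists_aeval_eq (K := K) hzint hgen x
    have ha' : algebraMap A L a ≠ 0 := fun h => ha (hinj (h.trans (map_zero _).symm))
    have hq0 : aeval z q ≠ 0 := by rw [← hxa]; exact mul_ne_zero hx ha'
    obtain ⟨m, hm⟩ := step4 q hq0
    obtain ⟨j, q₀, hq₀, hj⟩ := step2 m q hm
    obtain ⟨i, u, rfl⟩ := IsDiscreteValuationRing.eq_unit_mul_pow_irreducible ha hπirr
    refine ⟨C ((u⁻¹ : Aˣ) : A) * q₀, j, (j : ℤ) - i, ?_, ?_⟩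
    · rw [map_mul, aeval_C, map_mul, Groth.Agent.Lib.H40TotRamCriterion.val_unit hV, one_mul, hq₀]
    · have hπ0 : algebraMap A L π ≠ 0 := (Valuation.ne_zero_iff _).mp hϖ0
      have hu : algebraMap A L (u : A) * algebraMap A L ((u⁻¹ : Aˣ) : A) = 1 := by
        rw [← map_mul, ← Units.val_mul, mul_inv_cancel, Units.val_one, map_one]
      rw [zpow_sub₀ hπ0, zpow_natCast, zpow_natCast, map_mul, aeval_C]
      rw [map_mul, map_pow] at hxa
      have h5 : x * aeval z h ^ j * (algebraMap A L ↑u * algebraMap A L π ^ i) =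
          algebraMap A L π ^ j * aeval z q₀ := by
        rw [← hj, ← hxa]; ring
      have hπi : algebraMap A L π ^ i ≠ 0 := pow_ne_zero _ hπ0
      field_simp
      linear_combination (algebraMap A L ((u⁻¹ : Aˣ) : A)) * h5 -
        (x * aeval z h ^ j * algebraMap A L π ^ i) * hu
  have hval : ∀ x : L, x ≠ 0 → ∃ k : ℤ, V.valuation x = V.valuation (algebraMap A L π) ^ k := by
    intro x hx
    obtain ⟨q₀, j, k, hq₀, hk⟩ := hE x hx
    refine ⟨k, ?_⟩
    have := congrArg V.valuation hk
    rwa [map_mul, map_pow, hh, one_pow, mul_one, map_mul, map_zpow₀, hq₀, mul_one] at this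
  refine ⟨hval, ?_⟩
  intro x hxV
  by_cases hx : x = 0
  · exact ⟨0, 0, by simp [hx]⟩
  · obtain ⟨q₀, j, k, hq₀, hk⟩ := hE x hx
    have h1 : V.valuation x = V.valuation (algebraMap A L π) ^ k := by
      have := congrArg V.valuation hk
      rwa [map_mul, map_pow, hh, one_pow, mul_one, map_mul, map_zpow₀, hq₀, mul_one] at this
    have h2 : 0 ≤ k := by
      have h3 : V.valuation (algebraMap A L π) ^ k ≤ 1 := by
        rw [← h1]; exact (V.valuation_le_one_iff _).mpr hxV
      exact (zpow_le_one_iff_right_of_lt_one₀ hϖpos hϖ1).mp h3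
    obtain ⟨k', rfl⟩ := Int.eq_ofNat_of_zero_le h2
    refine ⟨C (π ^ k') * q₀, j, ?_⟩
    rw [hk, zpow_natCast, map_mul, aeval_C, map_pow]


section Residue

omit [IsDiscreteValuationRing A] [IsDomain A] in
/-- residue of a polynomial value. -/
theorem residue_aeval {V : ValuationSubring L} (hV : ∀ a : A, algebraMap A L a ∈ V) [IsLocalRing A] :
    letI : Algebra A V := (RingHom.codRestrict (algebraMap A L) V hV).toAlgebra
    ∀ [IsLocalHom (algebraMap A V)] {z : L} (hzV : z ∈ V) (q : A[X]) (hq : aeval z q ∈ V),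
      residue V ⟨aeval z q, hq⟩ = aeval (residue V ⟨z, hzV⟩) (q.map (residue A)) := by
  let _ : Algebra A V := (RingHom.codRestrict (algebraMap A L) V hV).toAlgebra
  intro _ z hzV q hq
  have htower : IsScalarTower A V L := IsScalarTower.of_algebraMap_eq (fun a => rfl)
  have h1 : (⟨aeval z q, hq⟩ : V) = aeval (⟨z, hzV⟩ : V) q := by
    apply Subtype.ext
    have := aeval_algebraMap_apply L (⟨z, hzV⟩ : V) q
    exact this
  rw [h1, aeval_def, hom_eval₂, aeval_def, eval₂_map]
  congr 1


theorem exists_C_mul_of_map_eq_zero {π : A} (hπ : maximalIdeal A = Ideal.span {π}) {q : A[X]}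
    (hq : q.map (residue A) = 0) : ∃ c : A[X], q = C π * c := by
  have h1 : C π ∣ q := by
    rw [Polynomial.C_dvd_iff_dvd_coeff]
    intro i
    have h2 : residue A (q.coeff i) = 0 := by
      rw [← coeff_map, hq, coeff_zero]
    rw [residue_eq_zero_iff, hπ, Ideal.mem_span_singleton] at h2
    exact h2
  exact h1

theorem perV {π : A} (hπ : maximalIdeal A = Ideal.span {π}) {z : L} (hzint : IsIntegral A z)
    (hgen : K⟮z⟯ = ⊤) {V : ValuationSubring L} (hV : EtRam.Dominates A (algebraMap A L) V)
    (f h : A[X]) (hfz : aeval z f = 0) :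
    letI : Algebra A V := (RingHom.codRestrict (algebraMap A L) V hV.1).toAlgebra
    ∀ [IsLocalHom (algebraMap A V)] (hzV : z ∈ V),
      f.map (residue A) = minpoly (ResidueField A) (residue V ⟨z, hzV⟩) * h.map (residue A) →
      aeval (residue V ⟨z, hzV⟩) (h.map (residue A)) ≠ 0 →
      EtRam.IsWeaklyUnramified A V ∧
      (∀ x : V, residue V x ∈ (ResidueField A)⟮residue V ⟨z, hzV⟩⟯) ∧
      (∀ x ∈ V, ∃ (q : A[X]) (j : ℕ), x * (aeval z h) ^ j = aeval z q) := by
  let _ : Algebra A V := (RingHom.codRestrict (algebraMap A L) V hV.1).toAlgebra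
  intro _ hzV hfac hh
  have hπmem : π ∈ maximalIdeal A := by rw [hπ]; exact Ideal.mem_span_singleton_self π
  have hmemV : ∀ q : A[X], aeval z q ∈ V := fun q => aeval_mem hV.1 hzV q
  have hres : ∀ q : A[X], residue V ⟨aeval z q, hmemV q⟩ =
      aeval (residue V ⟨z, hzV⟩) (q.map (residue A)) := fun q => residue_aeval hV.1 hzV q (hmemV q)
  -- lifts
  obtain ⟨g, hg⟩ := Polynomial.map_surjective (residue A) residue_surjective
    (minpoly (ResidueField A) (residue V ⟨z, hzV⟩))
  obtain ⟨c, hc⟩ := exists_C_mul_of_map_eq_zero hπ (q := f - g * h) (by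
    rw [Polynomial.map_sub, Polynomial.map_mul, hg, hfac, sub_self])
  have hfac' : f = g * h + C π * c := by rw [← hc]; ring
  have hlt_iff : ∀ q : A[X], V.valuation (aeval z q) < 1 ↔
      aeval (residue V ⟨z, hzV⟩) (q.map (residue A)) = 0 := by
    intro q
    rw [← hres q, residue_eq_zero_iff, ValuationSubring.valuation_lt_one_iff]
  have hh1 : V.valuation (aeval z h) = 1 := by
    apply le_antisymm ((V.valuation_le_one_iff _).mpr (hmemV h))
    by_contra hcon
    push Not at hcon
    exact hh ((hlt_iff h).mp hcon)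
  have hker : ∀ q : A[X], V.valuation (aeval z q) < 1 →
      ∃ q₁ q₂ : A[X], q = g * q₁ + C π * q₂ := by
    intro q hq
    have h1 := minpoly.dvd (ResidueField A) _ ((hlt_iff q).mp hq)
    obtain ⟨qb1, hqb1⟩ := h1
    obtain ⟨q₁, hq₁⟩ := Polynomial.map_surjective (residue A) residue_surjective qb1
    obtain ⟨q₂, hq₂⟩ := exists_C_mul_of_map_eq_zero hπ (q := q - g * q₁) (by
      rw [Polynomial.map_sub, Polynomial.map_mul, hg, hq₁, hqb1, sub_self])
    exact ⟨q₁, q₂, by rw [← hq₂]; ring⟩
  obtain ⟨hval, hrep⟩ := core (K := K) hπ hzint hgen hV hfz hfac' hh1 hker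
  have hϖ1 : V.valuation (algebraMap A L π) < 1 := hV.2 π hπmem
  have hπirr : Irreducible π := (IsDiscreteValuationRing.irreducible_iff_uniformizer π).mpr hπ
  have hinj : Function.Injective (algebraMap A L) :=
    Groth.Agent.Lib.H40TotRamCriterion.algebraMap_injective' (K := K)
  have hϖ0 : V.valuation (algebraMap A L π) ≠ 0 := by
    rw [Valuation.ne_zero_iff]
    exact fun h => hπirr.ne_zero (hinj (h.trans (map_zero _).symm))
  have hϖpos : 0 < V.valuation (algebraMap A L π) := zero_lt_iff.mpr hϖ0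
  refine ⟨?_, ?_, hrep⟩
  · -- weakly unramified
    change (maximalIdeal A).map (algebraMap A V) = maximalIdeal V
    apply le_antisymm
    · rw [Ideal.map_le_iff_le_comap]
      intro a ha
      rw [Ideal.mem_comap, ValuationSubring.valuation_lt_one_iff]
      exact hV.2 a ha
    · intro x hx
      rw [ValuationSubring.valuation_lt_one_iff] at hx
      by_cases hx0 : (x : L) = 0
      · have : x = 0 := Subtype.ext hx0
        rw [this]; exact zero_mem _
      · obtain ⟨k, hk⟩ := hval x hx0
        rw [hk] at hx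
        have hk1 : 0 < k := (zpow_lt_one_iff_right_of_lt_one₀ hϖpos hϖ1).mp hx
        have hπ0 : algebraMap A L π ≠ 0 := (Valuation.ne_zero_iff _).mp hϖ0
        have hmem : (x : L) * (algebraMap A L π)⁻¹ ∈ V := by
          rw [← V.valuation_le_one_iff, map_mul, map_inv₀, hk]
          have h2 : V.valuation (algebraMap A L π) ^ k ≤ V.valuation (algebraMap A L π) ^ (1 : ℤ) :=
            (zpow_le_zpow_iff_right_of_lt_one₀ hϖpos hϖ1).mpr (by omega)
          rw [zpow_one] at h2
          exact mul_inv_le_one_of_le₀ h2 zero_le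
        have hxeq : x = algebraMap A V π * ⟨(x : L) * (algebraMap A L π)⁻¹, hmem⟩ := by
          apply Subtype.ext
          change (x : L) = algebraMap A L π * ((x : L) * (algebraMap A L π)⁻¹)
          field_simp
        rw [hxeq]
        exact Ideal.mul_mem_right _ _ (Ideal.mem_map_of_mem _ hπmem)
  · -- residue field
    intro x
    obtain ⟨q, j, hq⟩ := hrep x.1 x.2
    have h1 : residue V x * (aeval (residue V ⟨z, hzV⟩) (h.map (residue A))) ^ j =
        aeval (residue V ⟨z, hzV⟩) (q.map (residue A)) := by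
      rw [← hres h, ← hres q, ← map_pow, ← map_mul]
      congr 1
      apply Subtype.ext
      exact hq
    have h2 : residue V x = aeval (residue V ⟨z, hzV⟩) (q.map (residue A)) *
        ((aeval (residue V ⟨z, hzV⟩) (h.map (residue A))) ^ j)⁻¹ := by
      rw [← h1, mul_assoc, mul_inv_cancel₀ (pow_ne_zero _ hh), mul_one]
    rw [h2]
    have hmem : ∀ qb : (ResidueField A)[X], aeval (residue V ⟨z, hzV⟩) qb ∈
        (ResidueField A)⟮residue V ⟨z, hzV⟩⟯ := fun qb =>
      IntermediateField.algebra_adjoin_le_adjoin _ _ (aeval_mem_adjoin_singleton _ _)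
    exact mul_mem (hmem _) (inv_mem (pow_mem (hmem _) j))


omit [IsDomain A] [IsDiscreteValuationRing A] [IsFractionRing A K] [IsScalarTower A K L] [Algebra K L]
  [Algebra A K] [Field K] in
theorem isLocalHom_of_dominates [IsLocalRing A] {V : ValuationSubring L}
    (hV : EtRam.Dominates A (algebraMap A L) V) :
    letI : Algebra A V := (RingHom.codRestrict (algebraMap A L) V hV.1).toAlgebra
    IsLocalHom (algebraMap A V) := by
  let _ : Algebra A V := (RingHom.codRestrict (algebraMap A L) V hV.1).toAlgebra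
  constructor
  intro a ha
  by_contra hna
  have hmem : a ∈ maximalIdeal A := hna
  have h1 := hV.2 a hmem
  have h2 : (algebraMap A V a) ∈ maximalIdeal V := by
    rw [ValuationSubring.valuation_lt_one_iff]; exact h1
  exact h2 ha

theorem isUnramifiedExt_of_separable {π : A} (hπ : maximalIdeal A = Ideal.span {π}) {z : L}
    (hgen : K⟮z⟯ = ⊤) (f : A[X]) (hf : f.Monic) (hfz : aeval z f = 0)
    (hsep : (f.map (residue A)).Separable) :
    EtRam.IsUnramifiedExt A (algebraMap A L) := by
  intro V hV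
  let _ : Algebra A V := (RingHom.codRestrict (algebraMap A L) V hV.1).toAlgebra
  intro _
  have hzint : IsIntegral A z := ⟨f, hf, hfz⟩
  have hzV : z ∈ V := Groth.Agent.Lib.H40TotRamStruct.mem_of_isIntegral hV.1 hzint
  have hf0 : aeval (residue V ⟨z, hzV⟩) (f.map (residue A)) = 0 := by
    rw [← residue_aeval hV.1 hzV f (by rw [hfz]; exact zero_mem _)]
    have : (⟨aeval z f, by rw [hfz]; exact zero_mem _⟩ : V) = 0 := Subtype.ext hfz
    rw [this, map_zero]
  obtain ⟨hb, hhb⟩ := minpoly.dvd (ResidueField A) _ hf0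
  obtain ⟨h, hh⟩ := Polynomial.map_surjective (residue A) residue_surjective hb
  have hne : aeval (residue V ⟨z, hzV⟩) (h.map (residue A)) ≠ 0 := by
    intro h0
    have h1 := minpoly.dvd (ResidueField A) _ h0
    rw [hhb] at hsep
    have h2 : IsCoprime (minpoly (ResidueField A) (residue V ⟨z, hzV⟩)) hb := hsep.isCoprime
    rw [hh] at h1
    have h3 := h2.isUnit_of_dvd' dvd_rfl h1
    exact minpoly.not_isUnit _ _ h3
  obtain ⟨hwu, hresf, -⟩ := perV (K := K) hπ hzint hgen hV f h hfz hzV (by rw [hh]; exact hhb) hne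
  refine ⟨hwu, ?_⟩
  have hzsep : IsSeparable (ResidueField A) (residue V ⟨z, hzV⟩) :=
    hsep.of_dvd (minpoly.dvd (ResidueField A) _ hf0)
  have h1 : Algebra.IsSeparable (ResidueField A) (ResidueField A)⟮residue V ⟨z, hzV⟩⟯ :=
    (IntermediateField.isSeparable_adjoin_simple_iff_isSeparable _ _).mpr hzsep
  rw [← separableClosure.eq_top_iff, eq_top_iff]
  intro x _
  obtain ⟨y, rfl⟩ := residue_surjective x
  exact le_separableClosure _ _ _ (hresf y)


theorem inert_aux {π : A} (hπ : maximalIdeal A = Ideal.span {π}) {z : L}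
    (hgen : K⟮z⟯ = ⊤) (f : A[X]) (hf : f.Monic) (hfz : aeval z f = 0)
    (hirr : Irreducible (f.map (residue A))) (V : ValuationSubring L)
    (hV : EtRam.Dominates A (algebraMap A L) V) :
    letI : Algebra A V := (RingHom.codRestrict (algebraMap A L) V hV.1).toAlgebra
    ∀ [IsLocalHom (algebraMap A V)],
      EtRam.IsWeaklyUnramified A V ∧
      (∃ zb : ResidueField V, aeval zb (f.map (residue A)) = 0 ∧ (ResidueField A)⟮zb⟯ = ⊤) ∧
      (∀ x ∈ V, ∃ q : A[X], x = aeval z q) := by
  let _ : Algebra A V := (RingHom.codRestrict (algebraMap A L) V hV.1).toAlgebra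
  intro _
  have hzint : IsIntegral A z := ⟨f, hf, hfz⟩
  have hzV : z ∈ V := Groth.Agent.Lib.H40TotRamStruct.mem_of_isIntegral hV.1 hzint
  have hf0 : aeval (residue V ⟨z, hzV⟩) (f.map (residue A)) = 0 := by
    rw [← residue_aeval hV.1 hzV f (by rw [hfz]; exact zero_mem _)]
    have : (⟨aeval z f, by rw [hfz]; exact zero_mem _⟩ : V) = 0 := Subtype.ext hfz
    rw [this, map_zero]
  have hmin : f.map (residue A) = minpoly (ResidueField A) (residue V ⟨z, hzV⟩) :=
    minpoly.eq_of_irreducible_of_monic hirr hf0 (hf.map _)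
  obtain ⟨hwu, hresf, hrep⟩ := perV (K := K) hπ hzint hgen hV f 1 hfz hzV
    (by rw [Polynomial.map_one, mul_one]; exact hmin)
    (by rw [Polynomial.map_one, map_one]; exact one_ne_zero)
  refine ⟨hwu, ⟨residue V ⟨z, hzV⟩, hf0, ?_⟩, ?_⟩
  · rw [eq_top_iff]
    intro x _
    obtain ⟨y, rfl⟩ := residue_surjective x
    exact hresf y
  · intro x hx
    obtain ⟨q, j, hq⟩ := hrep x hx
    exact ⟨q, by rw [← hq, map_one, one_pow, mul_one]⟩

theorem inert_of_irreducible {π : A} (hπ : maximalIdeal A = Ideal.span {π}) {z : L}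
    (hgen : K⟮z⟯ = ⊤) (f : A[X]) (hf : f.Monic) (hfz : aeval z f = 0)
    (hirr : Irreducible (f.map (residue A))) :
    (∃ V : ValuationSubring L, EtRam.Dominates A (algebraMap A L) V) ∧
    (∀ V V' : ValuationSubring L, EtRam.Dominates A (algebraMap A L) V →
      EtRam.Dominates A (algebraMap A L) V' → V = V') := by
  have hzint : IsIntegral A z := ⟨f, hf, hfz⟩
  refine ⟨Groth.Agent.Lib.H40TotRamCriterion.exists_dominates, ?_⟩
  have hsub : ∀ V V' : ValuationSubring L, EtRam.Dominates A (algebraMap A L) V →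
      EtRam.Dominates A (algebraMap A L) V' → V ≤ V' := by
    intro V V' hV hV' x hx
    have hloc := isLocalHom_of_dominates hV
    obtain ⟨-, -, hrep⟩ := inert_aux (K := K) hπ hgen f hf hfz hirr V hV
    obtain ⟨q, rfl⟩ := hrep x hx
    exact aeval_mem hV'.1 (Groth.Agent.Lib.H40TotRamStruct.mem_of_isIntegral hV'.1 hzint) q
  exact fun V V' hV hV' => le_antisymm (hsub V V' hV hV') (hsub V' V hV' hV)

end Residue

end Groth.Agent.Lib.H40UnramCore
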