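import Groth.Agent.Lib.H40InsepA
import Groth.Agent.Lib.H40UnramCore

set_option autoImplicit false
universe u

namespace Groth.Agent.Lib.H40InsepB

open IsLocalRing Polynomial
open Groth.Agent.Lib.H40TotRamCriterion (val_unit val_algebraMap_K algebraMap_injective')
open Groth.Agent.Lib.H40InsepA

section BC

variable {p : ℕ} {B C L M : Type u} [CommRing B] [IsDomain B] [IsDiscreteValuationRing B]
  [CommRing C] [IsDomain C] [IsDiscreteValuationRing C] [Algebra B C] [IsLocalHom (algebraMap B C)]
  [Field L] [Field M] [Algebra B L] [IsFractionRing B L] [Algebra C M] [IsFractionRing C M]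
  [Algebra L M] [Algebra B M] [IsScalarTower B L M] [IsScalarTower B C M]

/-- if the approximation never stops and `B` is Nagata, then `π` is a `p`-th power in `M`. -/
theorem exists_pow_eq_of_Q (hp : p.Prime) [IsPurelyInseparable L M]
    (hdeg : Module.finrank L M = p) (hB : CAlg.IsNagata B)
    {πB : B} (hπB : Irreducible πB) {ϖ : C} (hϖ : Irreducible ϖ)
    (h : (VC C M).valuation (algebraMap B M πB) = (VC C M).valuation (algebraMap C M ϖ) ^ p)
    (hQ : ∀ k, 1 ≤ k → Q p M πB k) : ∃ c : M, c ^ p = algebraMap B M πB := by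
  classical
  by_contra hno
  push Not at hno
  have hfd : FiniteDimensional L M := Module.finite_of_finrank_pos (by rw [hdeg]; exact hp.pos)
  have hcharL : CharP L p := charP_of_finrank hp hdeg
  have hcharM : CharP M p := charP_of_injective_algebraMap (algebraMap L M).injective p
  have hfact : Fact p.Prime := ⟨hp⟩
  obtain ⟨hγpos, hγ1⟩ := val_unif_facts (M := M) hϖ
  have hdomB : EtRam.Dominates B (algebraMap B M) (VC C M) := VC_dominates_B
  have hinjB : Function.Injective (algebraMap B M) := algebraMap_injective' (K := L)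
  have hπB0 : algebraMap B M πB ≠ 0 := fun h => hπB.ne_zero (hinjB (h.trans (map_zero _).symm))
  set ϖM : M := algebraMap B M πB with hϖM
  have hirr : Irreducible (X ^ p - Polynomial.C ϖM : M[X]) := X_pow_sub_C_irreducible_of_prime hp hno
  have hfactirr : Fact (Irreducible (X ^ p - Polynomial.C ϖM : M[X])) := ⟨hirr⟩
  have hf0 : (X ^ p - Polynomial.C ϖM : M[X]) ≠ 0 := hirr.ne_zero
  set M' := AdjoinRoot (X ^ p - Polynomial.C ϖM : M[X]) with hM'
  set ρ : M' := AdjoinRoot.root (X ^ p - Polynomial.C ϖM : M[X]) with hρ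
  have hρp : ρ ^ p = algebraMap M M' ϖM := by
    have h1 := AdjoinRoot.eval₂_root (X ^ p - Polynomial.C ϖM : M[X])
    rw [eval₂_sub, eval₂_pow, eval₂_X, eval₂_C, sub_eq_zero] at h1
    exact h1
  have hcharM' : CharP M' p := charP_of_injective_algebraMap (algebraMap M M').injective p
  -- the power basis and the coordinate functional
  set pb := AdjoinRoot.powerBasis hf0 with hpb
  have hdim : pb.dim = p := by
    rw [hpb, AdjoinRoot.powerBasis_dim, natDegree_X_pow_sub_C]
  have h0lt : 0 < pb.dim := by rw [hdim]; exact hp.pos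
  have h1lt : 1 < pb.dim := by rw [hdim]; exact hp.one_lt
  set ℓ : M' →ₗ[M] M := pb.basis.coord ⟨1, h1lt⟩ with hℓ
  have hb0 : pb.basis ⟨0, h0lt⟩ = 1 := by
    rw [PowerBasis.coe_basis]; simp
  have hgen : pb.gen = ρ := by rw [hpb, AdjoinRoot.powerBasis_gen]
  have hb1 : pb.basis ⟨1, h1lt⟩ = ρ := by
    rw [PowerBasis.coe_basis]
    show pb.gen ^ 1 = ρ
    rw [pow_one, hgen]
  have hℓ1 : ℓ 1 = 0 := by
    rw [hℓ, ← hb0, Module.Basis.coord_apply, Module.Basis.repr_self, Finsupp.single_apply,
      if_neg]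
    intro h01
    have := congrArg Fin.val h01
    simp at this
  have hℓρ : ℓ ρ = 1 := by
    rw [hℓ, ← hb1, Module.Basis.coord_apply, Module.Basis.repr_self, Finsupp.single_apply, if_pos rfl]
  -- finiteness of the integral closure
  have hfdM' : FiniteDimensional M M' := pb.finite
  have hfdLM' : FiniteDimensional L M' := Module.Finite.trans M M'
  have hF : ∀ x : L, ∃ a b : B, algebraMap B L b ≠ 0 ∧ x * algebraMap B L b = algebraMap B L a := by
    intro x
    obtain ⟨a, b, hb, rfl⟩ := IsFractionRing.div_surjective (A := B) x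
    have hb0 : algebraMap B L b ≠ 0 := by
      intro h0
      exact nonZeroDivisors.ne_zero hb (IsFractionRing.injective B L (h0.trans (map_zero _).symm))
    exact ⟨a, b, hb0, div_mul_cancel₀ _ hb0⟩
  have hDfin : Module.Finite B (integralClosure B M') :=
    Groth.Agent.Lib.NagataNormFin96.finite_integralClosure_field hB L M' hF
  -- the bounded submodule
  set T : Submodule B M := Submodule.map (ℓ.restrictScalars B)
    (Subalgebra.toSubmodule (integralClosure B M')) with hT
  have hTfg : T.FG := by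
    apply Submodule.FG.map
    exact Module.Finite.iff_fg.mp hDfin
  obtain ⟨N₀, hN₀⟩ := bounded_of_fg (M := M) (πB := πB) hϖ hp.pos
    (fun b => (ValuationSubring.valuation_le_one_iff _ _).mpr (hdomB.1 b)) h T hTfg
  -- the element
  set q := N₀ + 1 with hq
  have hk1 : 1 ≤ p * q - 1 := by
    have : 2 ≤ p * q := by nlinarith [hp.two_le]
    omega
  obtain ⟨c, t, hc⟩ := hQ (p * q - 1) hk1
  obtain ⟨k, hkq⟩ : ∃ k, p * q = k + 1 := ⟨p * q - 1, by omega⟩
  rw [show p * q - 1 = k by omega] at hc
  set x : M' := (algebraMap M M' ϖM)⁻¹ ^ q * (algebraMap M M' c - ρ) with hx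
  have hϖM'0 : algebraMap M M' ϖM ≠ 0 := by
    rw [Ne, map_eq_zero]; exact hπB0
  have hxp : x ^ p = algebraMap B M' t := by
    have e1 : algebraMap M M' c ^ p - ρ ^ p =
        algebraMap M M' ϖM ^ (k + 1) * algebraMap B M' t := by
      rw [hρp, ← map_pow, hc, ← hϖM, map_mul, map_add, map_one, map_mul, map_pow,
        ← IsScalarTower.algebraMap_apply B M M' t, pow_succ]
      ring
    rw [hx, mul_pow, sub_pow_char, e1, ← pow_mul, inv_pow, mul_comm q p, hkq,
      inv_mul_cancel_left₀ (pow_ne_zero _ hϖM'0)]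
  have hxint : IsIntegral B x := by
    refine ⟨X ^ p - Polynomial.C t, monic_X_pow_sub_C t hp.ne_zero, ?_⟩
    rw [eval₂_sub, eval₂_pow, eval₂_X, eval₂_C, hxp, sub_self]
  have hxT : ℓ x ∈ T := ⟨x, hxint, rfl⟩
  have hℓx : ℓ x = -(ϖM⁻¹ ^ q) := by
    have h3 : x = (ϖM⁻¹ ^ q * c) • (1 : M') - (ϖM⁻¹ ^ q) • ρ := by
      rw [hx, Algebra.smul_def, Algebra.smul_def, map_mul, map_pow, map_inv₀]
      ring
    rw [h3, map_sub, map_smul, map_smul, hℓ1, hℓρ, smul_zero, zero_sub, smul_eq_mul, mul_one]
  have h4 := hN₀ _ hxT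
  rw [hℓx, mul_neg, Valuation.map_neg, ← hϖM, hq, pow_succ, mul_comm (ϖM⁻¹ ^ N₀), ← mul_assoc,
    mul_comm (ϖM ^ N₀), mul_assoc, inv_pow, mul_inv_cancel₀ (pow_ne_zero _ hπB0), mul_one,
    map_inv₀] at h4
  have h5 : (VC C M).valuation ϖM < 1 := by
    rw [hϖM, h]; exact pow_lt_one₀ zero_le hγ1 hp.ne_zero
  have h6 : 0 < (VC C M).valuation ϖM := by
    rw [zero_lt_iff, Valuation.ne_zero_iff]; exact hπB0
  have h7 := (one_lt_inv₀ h6).mpr h5
  exact absurd h7 (not_lt.mpr h4)


omit [IsLocalHom (algebraMap B C)] in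
/-- case (2): `C = B[π^{1/p}]`. -/
theorem case2 (hp : p.Prime) (hdeg : Module.finrank L M = p)
    {πB : B} (hπB : maximalIdeal B = Ideal.span {πB}) [IsLocalHom (algebraMap B C)] {c : M}
    (hc : c ^ p = algebraMap B M πB) :
    ∃ c₀ : C, c₀ ^ p = algebraMap B C πB ∧ Algebra.adjoin B {c₀} = ⊤ := by
  have hdomB : EtRam.Dominates B (algebraMap B M) (VC C M) := VC_dominates_B
  have hθV : (VC C M).valuation c ^ p = (VC C M).valuation (algebraMap B M πB) := by
    rw [← map_pow, hc]
  have hcV : c ∈ VC C M := by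
    rw [← ValuationSubring.valuation_le_one_iff]
    by_contra hcon
    push Not at hcon
    have h1 := one_lt_pow₀ hcon hp.ne_zero
    rw [hθV] at h1
    exact absurd ((ValuationSubring.valuation_le_one_iff _ _).mpr (hdomB.1 πB)) (not_le.mpr h1)
  obtain ⟨c₀, hc₀⟩ := mem_VC.mp hcV
  have hinjC : Function.Injective (algebraMap C M) := IsFractionRing.injective C M
  refine ⟨c₀, ?_, ?_⟩
  · apply hinjC
    rw [map_pow, hc₀, hc, IsScalarTower.algebraMap_apply B C M]
  · obtain ⟨hkey1, -⟩ := Groth.Agent.Lib.H40TotRamCriterion.key (A := B) (K := L) (L := M) hπB hp.pos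
      hdeg hdomB hθV
    rw [eq_top_iff]
    intro x _
    obtain ⟨a, ha⟩ := (hkey1 (algebraMap C M x)).mp (mem_VC.mpr ⟨x, rfl⟩)
    have hx : x = ∑ i, algebraMap B C (a i) * c₀ ^ (i : ℕ) := by
      apply hinjC
      rw [ha, map_sum]
      apply Finset.sum_congr rfl
      intro i _
      rw [map_mul, map_pow, hc₀, ← IsScalarTower.algebraMap_apply]
    rw [hx]
    exact Subalgebra.sum_mem _ (fun i _ => Subalgebra.mul_mem _ (Subalgebra.algebraMap_mem _ _)
      (Subalgebra.pow_mem _ (Algebra.subset_adjoin (Set.mem_singleton c₀)) _))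

end BC

section ResIndep

variable {p : ℕ} {A K N : Type u} [CommRing A] [IsDomain A] [IsDiscreteValuationRing A] [Field K]
  [Algebra A K] [IsFractionRing A K] [Field N] [Algebra K N] [Algebra A N] [IsScalarTower A K N]

omit [Field K] [Algebra A K] [IsFractionRing A K] [Algebra K N] [IsScalarTower A K N] in
/-- the residues of `1, z, …, z^(p-1)` are independent over `κ_A` when `z^p ≡ τ` and `τ̄ ∉ κ_A^p`. -/
theorem resIndep_pow (hp : p.Prime) {π : A} (hπ : maximalIdeal A = Ideal.span {π})
    {W : ValuationSubring N} (hW : EtRam.Dominates A (algebraMap A N) W) {z : N} (hz : z ∈ W)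
    {τ : A} (hzτ : W.valuation (z ^ p - algebraMap A N τ) < 1)
    (hτ : ∀ r : A, residue A τ ≠ residue A r ^ p) (a : Fin p → A)
    (ha : W.valuation (∑ j, algebraMap A N (a j) * z ^ (j : ℕ)) < 1) :
    ∀ j, a j ∈ maximalIdeal A := by
  classical
  by_contra hcon
  push Not at hcon
  obtain ⟨j₀, hj₀⟩ := hcon
  have hπmem : π ∈ maximalIdeal A := by rw [hπ]; exact Ideal.mem_span_singleton_self π
  set g : A[X] := ∑ j : Fin p, Polynomial.C (a j) * X ^ (j : ℕ) with hg
  have hgz : aeval z g = ∑ j, algebraMap A N (a j) * z ^ (j : ℕ) := by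
    rw [hg, map_sum]
    apply Finset.sum_congr rfl
    intro j _
    rw [map_mul, aeval_C, map_pow, aeval_X]
  set f : A[X] := X ^ p - Polynomial.C τ with hf
  have hfz : aeval z f = z ^ p - algebraMap A N τ := by
    rw [hf, map_sub, map_pow, aeval_X, aeval_C]
  have hfmap : f.map (residue A) = X ^ p - Polynomial.C (residue A τ) := by
    rw [hf, Polynomial.map_sub, Polynomial.map_pow, map_X, map_C]
  have hirr : Irreducible (f.map (residue A)) := by
    rw [hfmap, X_pow_sub_C_irreducible_iff_of_prime hp]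
    intro b hb
    obtain ⟨r, rfl⟩ := residue_surjective b
    exact hτ r hb.symm
  have hgmap : g.map (residue A) = ∑ j : Fin p, Polynomial.C (residue A (a j)) * X ^ (j : ℕ) := by
    rw [hg, Polynomial.map_sum]
    apply Finset.sum_congr rfl
    intro j _
    rw [Polynomial.map_mul, Polynomial.map_pow, map_X, map_C]
  have hgdeg : (g.map (residue A)).degree < p := by
    rw [hgmap]; exact Polynomial.degree_sum_fin_lt _
  have hg0 : g.map (residue A) ≠ 0 := by
    intro h0
    have h1 : (g.map (residue A)).coeff (j₀ : ℕ) = residue A (a j₀) := by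
      rw [hgmap, Polynomial.finsetSum_coeff]
      rw [Finset.sum_eq_single j₀]
      · rw [coeff_C_mul, coeff_X_pow, if_pos rfl, mul_one]
      · intro j _ hj
        rw [coeff_C_mul, coeff_X_pow, if_neg, mul_zero]
        exact fun h => hj (Fin.ext h.symm)
      · intro h; exact absurd (Finset.mem_univ _) h
    rw [h0, coeff_zero] at h1
    exact hj₀ ((residue_eq_zero_iff _).mp h1.symm)
  have hndvd : ¬ f.map (residue A) ∣ g.map (residue A) := by
    intro hdvd
    have h1 := Polynomial.degree_le_of_dvd hdvd hg0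
    rw [hfmap, degree_X_pow_sub_C hp.pos] at h1
    exact absurd hgdeg (not_lt.mpr h1)
  obtain ⟨ub, vb, huv⟩ := (hirr.coprime_iff_not_dvd).mpr hndvd
  obtain ⟨u, hu⟩ := Polynomial.map_surjective (residue A) residue_surjective ub
  obtain ⟨v, hv⟩ := Polynomial.map_surjective (residue A) residue_surjective vb
  have hQ : (u * f + v * g - 1).map (residue A) = 0 := by
    rw [Polynomial.map_sub, Polynomial.map_add, Polynomial.map_mul, Polynomial.map_mul, hu, hv,
      Polynomial.map_one, huv, sub_self]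
  obtain ⟨q', hq'⟩ := Groth.Agent.Lib.H40UnramCore.exists_C_mul_of_map_eq_zero hπ hQ
  have heval := congrArg (aeval z) hq'
  rw [map_sub, map_add, map_mul, map_mul, map_one, map_mul, aeval_C, hfz, hgz] at heval
  have hu' : W.valuation (aeval z u) ≤ 1 :=
    (ValuationSubring.valuation_le_one_iff _ _).mpr
      (Groth.Agent.Lib.H40UnramCore.aeval_mem hW.1 hz u)
  have hv' : W.valuation (aeval z v) ≤ 1 :=
    (ValuationSubring.valuation_le_one_iff _ _).mpr
      (Groth.Agent.Lib.H40UnramCore.aeval_mem hW.1 hz v)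
  have hq'' : W.valuation (aeval z q') ≤ 1 :=
    (ValuationSubring.valuation_le_one_iff _ _).mpr
      (Groth.Agent.Lib.H40UnramCore.aeval_mem hW.1 hz q')
  have hone : (1 : N) = aeval z u * (z ^ p - algebraMap A N τ) +
      aeval z v * ∑ j, algebraMap A N (a j) * z ^ (j : ℕ) - algebraMap A N π * aeval z q' := by
    linear_combination -heval
  have hlt : W.valuation (1 : N) < 1 := by
    rw [hone]
    refine lt_of_le_of_lt (Valuation.map_sub _ _ _) (max_lt ?_ ?_)
    · refine lt_of_le_of_lt (Valuation.map_add _ _ _) (max_lt ?_ ?_)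
      · rw [map_mul]
        calc _ ≤ 1 * W.valuation (z ^ p - algebraMap A N τ) := mul_le_mul_left hu' _
          _ = _ := one_mul _
          _ < 1 := hzτ
      · rw [map_mul]
        calc _ ≤ 1 * W.valuation (∑ j, algebraMap A N (a j) * z ^ (j : ℕ)) := mul_le_mul_left hv' _
          _ = _ := one_mul _
          _ < 1 := ha
    · rw [map_mul]
      calc _ ≤ W.valuation (algebraMap A N π) * 1 := mul_le_mul_right hq'' _
        _ = _ := mul_one _
        _ < 1 := hW.2 π hπmem
  rw [map_one] at hlt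
  exact lt_irrefl _ hlt

end ResIndep

end Groth.Agent.Lib.H40InsepB
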