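import Groth.Agent.Lib.H40ArtinSchreier

set_option autoImplicit false
universe u

namespace Groth.Agent.Lib.H40KummerA

open IsLocalRing Polynomial IntermediateField
open Groth.Agent.Lib.H40ArtinSchreier (Case4)

section Generic

variable {p : ℕ} {A K L : Type u} [CommRing A] [IsDomain A]
  [IsDiscreteValuationRing A] [Field K] [Algebra A K] [IsFractionRing A K] [Field L] [Algebra K L]
  [Algebra A L] [IsScalarTower A K L]

/-- case 4 from a monic lift of an irreducible purely inseparable polynomial `X^p - ā`. -/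
theorem case4_of_inert (hp : p.Prime) [CharP (ResidueField A) p] {π : A}
    (hπ : maximalIdeal A = Ideal.span {π}) {y : L} (hgeny : K⟮y⟯ = ⊤) (f : A[X]) (hfmonic : f.Monic)
    (hfy : aeval y f = 0) (a : A) (hfmap : f.map (residue A) = X ^ p - C (residue A a))
    (hres : ∀ r : A, residue A a ≠ residue A r ^ p) :
    Case4 p A (algebraMap A L) := by
  have hexp : ExpChar (ResidueField A) p := ExpChar.prime hp
  have hirr : Irreducible (f.map (residue A)) := by
    rw [hfmap, X_pow_sub_C_irreducible_iff_of_prime hp]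
    intro b hb
    obtain ⟨r, rfl⟩ := residue_surjective b
    exact hres r hb.symm
  obtain ⟨hex, huniq⟩ := Groth.Agent.Lib.H40UnramCore.inert_of_irreducible (K := K) hπ hgeny f hfmonic
    hfy hirr
  refine ⟨hex, huniq, ?_⟩
  intro V hV
  let _ : Algebra A V := (RingHom.codRestrict (algebraMap A L) V hV.1).toAlgebra
  intro _
  obtain ⟨hwu, ⟨zb, hzb, htop⟩, -⟩ := Groth.Agent.Lib.H40UnramCore.inert_aux (K := K) hπ hgeny f
    hfmonic hfy hirr V hV
  refine ⟨hwu, ?_, ?_⟩
  · have hzbp : zb ^ p = algebraMap (ResidueField A) (ResidueField V) (residue A a) := by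
      rw [hfmap, map_sub, map_pow, aeval_X, aeval_C, sub_eq_zero] at hzb
      exact hzb
    have h1 : IsPurelyInseparable (ResidueField A) (ResidueField A)⟮zb⟯ := by
      rw [IntermediateField.isPurelyInseparable_adjoin_simple_iff_pow_mem (ResidueField A)
        (ResidueField V) p]
      exact ⟨1, by rw [pow_one, hzbp]; exact ⟨_, rfl⟩⟩
    rw [htop] at h1
    exact (IntermediateField.topEquiv (F := ResidueField A) (E := ResidueField V)).isPurelyInseparable
  · have hmin : f.map (residue A) = minpoly (ResidueField A) zb :=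
      minpoly.eq_of_irreducible_of_monic hirr hzb (hfmonic.map _)
    have hint : IsIntegral (ResidueField A) zb := ⟨_, hfmonic.map _, hzb⟩
    have h1 := IntermediateField.adjoin.finrank hint
    rw [htop, IntermediateField.finrank_top', ← hmin, hfmap, natDegree_X_pow_sub_C] at h1
    exact h1

omit [IsDomain A] [IsDiscreteValuationRing A] [IsFractionRing A K] [IsScalarTower A K L]
  [Algebra K L] [Field K] [Algebra A K] in
/-- valuation of a monic polynomial at an element of valuation `> 1`. -/
theorem val_aeval_monic {V : ValuationSubring L} (hV : ∀ a : A, algebraMap A L a ∈ V) (f : A[X])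
    (hf : f.Monic) {z : L} (hz : 1 < V.valuation z) :
    V.valuation (aeval z f) = V.valuation z ^ f.natDegree := by
  have hz0 : V.valuation z ≠ 0 := (lt_trans zero_lt_one hz).ne'
  have h1 : aeval z f = z ^ f.natDegree + ∑ i ∈ Finset.range f.natDegree,
      algebraMap A L (f.coeff i) * z ^ i := by
    conv_lhs => rw [hf.as_sum]
    rw [map_add, map_pow, aeval_X, map_sum]
    congr 1
    apply Finset.sum_congr rfl
    intro i _
    rw [map_mul, aeval_C, map_pow, aeval_X]
  have h2 : V.valuation (∑ i ∈ Finset.range f.natDegree, algebraMap A L (f.coeff i) * z ^ i) <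
      V.valuation (z ^ f.natDegree) := by
    apply Valuation.map_sum_lt
    · rw [map_pow]; exact pow_ne_zero _ hz0
    · intro i hi
      rw [Finset.mem_range] at hi
      rw [map_mul, map_pow, map_pow]
      calc V.valuation (algebraMap A L (f.coeff i)) * V.valuation z ^ i
          ≤ 1 * V.valuation z ^ i :=
            mul_le_mul_left ((V.valuation_le_one_iff _).mpr (hV _)) _
        _ = V.valuation z ^ i := one_mul _
        _ < V.valuation z ^ f.natDegree := pow_lt_pow_right₀ hz hi
  rw [h1, Valuation.map_add_eq_of_lt_left _ h2, map_pow]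

omit [IsDomain A] [IsDiscreteValuationRing A] [IsFractionRing A K] [IsScalarTower A K L]
  [Algebra K L] [Field K] [Algebra A K] in
theorem val_aeval_le_one {V : ValuationSubring L} (hV : ∀ a : A, algebraMap A L a ∈ V) (f : A[X])
    {z : L} (hz : V.valuation z ≤ 1) : V.valuation (aeval z f) ≤ 1 := by
  rw [ValuationSubring.valuation_le_one_iff] at hz ⊢
  exact Groth.Agent.Lib.H40UnramCore.aeval_mem hV hz f

omit [Field K] [Algebra A K] [IsFractionRing A K] [Field L] [Algebra K L] [Algebra A L] [IsScalarTower A K L] in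
/-- in a DVR, `π^k ∣ w^p` with `k > p m` forces `π^(m+1) ∣ w`. -/
theorem pow_succ_dvd_of_dvd_pow {π : A} (hπ : Irreducible π) {w : A} {m k : ℕ} (hk : p * m < k)
    (h : π ^ k ∣ w ^ p) : π ^ (m + 1) ∣ w := by
  by_cases hw : w = 0
  · rw [hw]; exact dvd_zero _
  obtain ⟨i, u, rfl⟩ := IsDiscreteValuationRing.eq_unit_mul_pow_irreducible hw hπ
  by_cases hi : m + 1 ≤ i
  · exact Dvd.dvd.mul_left (pow_dvd_pow π hi) _
  · exfalso
    push Not at hi
    rw [mul_pow, ← pow_mul] at h
    have h1 : π ^ k ∣ π ^ (i * p) := by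
      have hu : IsUnit ((u : A) ^ p) := (u.isUnit).pow p
      exact (hu.dvd_mul_left).mp h
    have h2 : k ≤ i * p := (pow_dvd_pow_iff hπ.ne_zero hπ.not_isUnit).mp h1
    have h3 : i * p ≤ m * p := Nat.mul_le_mul_right p (by omega)
    nlinarith

end Generic

section Field

variable {p : ℕ} {K L : Type u} [Field K] [Field L] [Algebra K L] [CharZero K]

omit [CharZero K] in
theorem kummer_isSplittingField (hp : p.Prime) {ζ : K} (hζ : IsPrimitiveRoot ζ p) {y : L} {η : K}
    (hy : y ^ p = algebraMap K L η) (hgen : K⟮y⟯ = ⊤) :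
    (X ^ p - C η : K[X]).IsSplittingField K L := by
  have hyroot : aeval y (X ^ p - C η : K[X]) = 0 := by
    rw [map_sub, map_pow, aeval_X, aeval_C, hy, sub_self]
  have hne : (X ^ p - C η : K[X]) ≠ 0 := X_pow_sub_C_ne_zero hp.pos η
  have hyint : IsIntegral K y := ⟨_, monic_X_pow_sub_C η hp.ne_zero, hyroot⟩
  constructor
  · rw [Polynomial.map_sub, Polynomial.map_pow, Polynomial.map_C, Polynomial.map_X]
    exact X_pow_sub_C_splits_of_isPrimitiveRoot (hζ.map_of_injective (algebraMap K L).injective) hy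
  · rw [eq_top_iff, ← IntermediateField.top_toSubalgebra, ← hgen,
      IntermediateField.adjoin_simple_toSubalgebra_of_isAlgebraic hyint.isAlgebraic]
    apply Algebra.adjoin_mono
    rw [Set.singleton_subset_iff, mem_rootSet_of_ne hne]
    exact hyroot

theorem kummer_isGalois (hp : p.Prime) {ζ : K} (hζ : IsPrimitiveRoot ζ p) {y : L} {η : K}
    (hy : y ^ p = algebraMap K L η) (hgen : K⟮y⟯ = ⊤) : IsGalois K L := by
  have hsf := kummer_isSplittingField hp hζ hy hgen
  have hnormal : Normal K L := Normal.of_isSplittingField (X ^ p - C η : K[X])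
  have hfd : FiniteDimensional K L := Polynomial.IsSplittingField.finiteDimensional L (X ^ p - C η : K[X])
  have hsep : Algebra.IsSeparable K L := inferInstance
  exact isGalois_iff.mpr ⟨hsep, hnormal⟩

omit [CharZero K] in
theorem kummer_finrank (hp : p.Prime) {ζ : K} (hζ : IsPrimitiveRoot ζ p) {y : L} {η : K}
    (hy : y ^ p = algebraMap K L η) (hgen : K⟮y⟯ = ⊤) :
    Module.finrank K L = 1 ∨ Module.finrank K L = p := by
  have hζL : IsPrimitiveRoot (algebraMap K L ζ) p := hζ.map_of_injective (algebraMap K L).injective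
  have hpne : NeZero p := ⟨hp.ne_zero⟩
  have hyroot : aeval y (X ^ p - C η : K[X]) = 0 := by
    rw [map_sub, map_pow, aeval_X, aeval_C, hy, sub_self]
  have hyint : IsIntegral K y := ⟨_, monic_X_pow_sub_C η hp.ne_zero, hyroot⟩
  by_cases h : ∃ b : K, b ^ p = η
  · left
    obtain ⟨b, rfl⟩ := h
    have hyK : y ∈ (⊥ : IntermediateField K L) := by
      rw [IntermediateField.mem_bot]
      by_cases hb : b = 0
      · rw [hb, zero_pow hp.ne_zero, map_zero] at hy
        exact ⟨0, by rw [map_zero, eq_zero_of_pow_eq_zero hy] ⟩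
      · have hb' : algebraMap K L b ≠ 0 := by
          rwa [Ne, map_eq_zero]
        have h1 : (y / algebraMap K L b) ^ p = 1 := by
          rw [div_pow, hy, map_pow, div_self (pow_ne_zero _ hb')]
        obtain ⟨i, -, hi⟩ := hζL.eq_pow_of_pow_eq_one h1
        refine ⟨ζ ^ i * b, ?_⟩
        rw [map_mul, map_pow, hi, div_mul_cancel₀ _ hb']
    have h2 : K⟮y⟯ = ⊥ := by
      rw [IntermediateField.adjoin_simple_eq_bot_iff]; exact hyK
    rw [h2] at hgen
    exact IntermediateField.bot_eq_top_iff_finrank_eq_one.mp hgen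
  · right
    push Not at h
    have hirr : Irreducible (X ^ p - C η : K[X]) := X_pow_sub_C_irreducible_of_prime hp h
    have hmin : (X ^ p - C η : K[X]) = minpoly K y :=
      minpoly.eq_of_irreducible_of_monic hirr hyroot (monic_X_pow_sub_C η hp.ne_zero)
    have h1 := IntermediateField.adjoin.finrank hyint
    rw [hgen, IntermediateField.finrank_top', ← hmin, natDegree_X_pow_sub_C] at h1
    exact h1

end Field


section Zeta

variable {p : ℕ} {A : Type u} [CommRing A] [IsDomain A]

theorem isPrimitiveRoot_of_aeval [CharZero A] (hp : p.Prime) {ζ : A}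
    (hζ : aeval ζ (cyclotomic p ℤ) = 0) : IsPrimitiveRoot ζ p := by
  have : NeZero ((p : ℕ) : A) := ⟨by exact_mod_cast hp.ne_zero⟩
  rw [← isRoot_cyclotomic_iff, IsRoot.def, ← map_cyclotomic_int p A, eval_map, ← algebraMap_int_eq,
    ← aeval_def]
  exact hζ

omit [IsDomain A] in
theorem one_sub_mem [IsLocalRing A] [CharP (ResidueField A) p] (hp : p.Prime) {ζ : A}
    (hζ : IsPrimitiveRoot ζ p) : 1 - ζ ∈ maximalIdeal A := by
  have : Fact p.Prime := ⟨hp⟩
  rw [← residue_eq_zero_iff, map_sub, map_one]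
  have h1 : (1 - residue A ζ) ^ p = 0 := by
    rw [sub_pow_char, one_pow, ← map_pow, hζ.pow_eq_one, map_one, sub_self]
  exact eq_zero_of_pow_eq_zero h1

theorem exists_unit_prime_eq (hp : p.Prime) {ζ : A} (hζ : IsPrimitiveRoot ζ p) :
    ∃ ε : Aˣ, (p : A) = ε * (1 - ζ) ^ (p - 1) := by
  have : Fact p.Prime := ⟨hp⟩
  have h1 : (p : A) = ∏ μ ∈ primitiveRoots p A, (1 - μ) := by
    rw [← eval_one_cyclotomic_prime (R := A) (p := p), cyclotomic_eq_prod_X_sub_primitiveRoots hζ,
      eval_prod]
    apply Finset.prod_congr rfl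
    intro μ _
    rw [eval_sub, eval_X, eval_C]
  have h2 : Associated (∏ μ ∈ primitiveRoots p A, (1 - μ)) (∏ μ ∈ primitiveRoots p A, (1 - ζ)) := by
    apply Associated.prod
    intro μ hμ
    rw [mem_primitiveRoots hp.pos] at hμ
    have hμ1 : μ ≠ 1 := hμ.ne_one hp.one_lt
    have h3 := hζ.nthRootsFinset_pairwise_associated_sub_one_sub_of_prime hp
      ((mem_nthRootsFinset hp.pos 1).2 (one_pow p)) ((mem_nthRootsFinset hp.pos 1).2 hμ.pow_eq_one)
      (Ne.symm hμ1)
    have h4 := h3.symm.neg_right
    rwa [neg_sub] at h4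
  rw [Finset.prod_const, hζ.card_primitiveRoots, Nat.totient_prime hp] at h2
  obtain ⟨u, hu⟩ := h2.symm
  exact ⟨u, by rw [h1, ← hu, mul_comm]⟩

end Zeta

section Poly

variable {p : ℕ} {A : Type u} [CommRing A] [IsDomain A]

/-- the polynomial `(1 + wX)^p - 1` has degree `p` and leading coefficient `w^p`. -/
theorem Q_facts (hp : p.Prime) {w : A} (hw : w ≠ 0) :
    ((1 + C w * X) ^ p - 1 : A[X]).natDegree = p ∧
      ((1 + C w * X) ^ p - 1 : A[X]).leadingCoeff = w ^ p := by
  have h0 : (1 + C w * X : A[X]) = C w * X + C 1 := by rw [map_one, add_comm]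
  have h1 : (1 + C w * X : A[X]).natDegree = 1 := by rw [h0]; exact natDegree_linear hw
  have h2 : (1 + C w * X : A[X]).leadingCoeff = w := by rw [h0]; exact leadingCoeff_linear hw
  have h3 : ((1 + C w * X) ^ p : A[X]).natDegree = p := by rw [natDegree_pow, h1, mul_one]
  have h4 : ((1 + C w * X) ^ p : A[X]).leadingCoeff = w ^ p := by rw [leadingCoeff_pow, h2]
  have h5 : (1 : A[X]).degree < ((1 + C w * X) ^ p : A[X]).degree := by
    rw [degree_one, degree_eq_natDegree (by intro h; rw [h, natDegree_zero] at h3; exact hp.ne_zero h3.symm),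
      h3]
    exact_mod_cast hp.pos
  refine ⟨?_, ?_⟩
  · have h6 : (1 : A[X]).natDegree < ((1 + C w * X) ^ p : A[X]).natDegree := by
      rw [natDegree_one, h3]; exact hp.pos
    rw [natDegree_sub_eq_left_of_natDegree_lt h6, h3]
  · rw [leadingCoeff_sub_of_degree_lt h5, h4]

theorem P_monic (hp : p.Prime) {w : A} (hw : w ≠ 0) {P : A[X]}
    (hP : C (w ^ p) * P = (1 + C w * X) ^ p - 1) : P.Monic ∧ P.natDegree = p := by
  obtain ⟨h1, h2⟩ := Q_facts hp hw
  have hwp : w ^ p ≠ 0 := pow_ne_zero _ hw
  rw [← hP] at h1 h2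
  refine ⟨?_, ?_⟩
  · rw [leadingCoeff_mul, leadingCoeff_C] at h2
    exact mul_left_cancel₀ hwp (h2.trans (mul_one _).symm)
  · rwa [natDegree_C_mul hwp] at h1

omit [IsDomain A] in
theorem P_eval {w : A} {P : A[X]} (hP : C (w ^ p) * P = (1 + C w * X) ^ p - 1)
    {S : Type*} [CommRing S] [Algebra A S] (x : S) :
    algebraMap A S w ^ p * aeval x P = (1 + algebraMap A S w * x) ^ p - 1 := by
  have h := congrArg (aeval x) hP
  simp only [map_mul, aeval_C, map_sub, map_pow, map_add, map_one, aeval_X] at h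
  exact h

theorem P_derivative (hp : p.Prime) {w : A} (hw : w ≠ 0) {P : A[X]}
    (hP : C (w ^ p) * P = (1 + C w * X) ^ p - 1) (ε : A) (hε : (p : A) = ε * w ^ (p - 1)) :
    derivative P = C ε * (1 + C w * X) ^ (p - 1) := by
  have hwp : (C (w ^ p) : A[X]) ≠ 0 := by rw [Ne, C_eq_zero]; exact pow_ne_zero _ hw
  apply mul_left_cancel₀ hwp
  have h := congrArg derivative hP
  rw [derivative_mul, derivative_C, zero_mul, zero_add, derivative_sub, derivative_one, sub_zero,
    derivative_pow, derivative_add, derivative_one, zero_add, derivative_mul, derivative_C, zero_mul,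
    zero_add, derivative_X, mul_one] at h
  rw [h]
  have h1 : (C (p : A) : A[X]) = C ε * C w ^ (p - 1) := by rw [hε, map_mul, map_pow]
  have h2 : (C (w ^ p) : A[X]) = C w ^ (p - 1) * C w := by
    rw [← pow_succ, Nat.sub_add_cancel hp.pos, map_pow]
  rw [h1, h2]
  ring

theorem P_sub_C_separable [IsLocalRing A] (hp : p.Prime) {w : A} (hw : w ≠ 0)
    (hwm : w ∈ maximalIdeal A) {P : A[X]}
    (hP : C (w ^ p) * P = (1 + C w * X) ^ p - 1) (ε : Aˣ) (hε : (p : A) = ε * w ^ (p - 1)) (a : A) :
    ((P - C a).map (residue A)).Separable := by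
  rw [separable_def, derivative_map, derivative_sub, derivative_C, sub_zero,
    P_derivative hp hw hP ε hε]
  have h0 : residue A w = 0 := by rwa [residue_eq_zero_iff]
  rw [Polynomial.map_mul, Polynomial.map_pow, Polynomial.map_add, Polynomial.map_one,
    Polynomial.map_mul, map_C, map_C, h0, map_zero, zero_mul, add_zero, one_pow, mul_one]
  obtain ⟨u, hu⟩ := (isUnit_C.mpr ((ε.isUnit).map (residue A)))
  exact ⟨0, ↑u⁻¹, by rw [zero_mul, zero_add, ← hu, Units.inv_mul]⟩

omit [IsDomain A] in
/-- `scaleRoots` by an element of the maximal ideal kills all lower coefficients. -/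
theorem scaleRoots_map_residue [IsLocalRing A] {P : A[X]} (hPm : P.Monic) {s : A}
    (hs : s ∈ maximalIdeal A) : (P.scaleRoots s).map (residue A) = X ^ P.natDegree := by
  ext i
  rw [coeff_map, coeff_scaleRoots, coeff_X_pow]
  split_ifs with h
  · rw [h, Nat.sub_self, pow_zero, mul_one, hPm.coeff_natDegree, map_one]
  · rcases lt_or_gt_of_ne h with h1 | h1
    · rw [map_mul, map_pow, (residue_eq_zero_iff s).mpr hs, zero_pow (by omega), mul_zero]
    · rw [coeff_eq_zero_of_natDegree_lt h1, zero_mul, map_zero]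

end Poly

end Groth.Agent.Lib.H40KummerA
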