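import Groth.Agent.Lib.H40KummerA

set_option autoImplicit false
universe u

namespace Groth.Agent.Lib.H40KummerB

open IsLocalRing Polynomial IntermediateField
open Groth.Agent.Lib.H40ArtinSchreier (Case4)
open Groth.Agent.Lib.H40KummerA

variable {p : ℕ} {A K L : Type u} [CommRing A] [IsDomain A]
  [IsDiscreteValuationRing A] [Field K] [Algebra A K] [IsFractionRing A K] [Field L] [Algebra K L]
  [Algebra A L] [IsScalarTower A K L]

section Monic

/-- valuation of `z` when `P(z) = ξ` has a pole, `P` monic of degree `p`. -/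
theorem val_z_pow {π : A} (hπ : maximalIdeal A = Ideal.span {π}) {P : A[X]} (hPm : P.Monic)
    (hPd : P.natDegree = p) {ξ : K} {z : L}
    (hz : aeval z P = algebraMap K L ξ) (n : ℕ) (a : Aˣ) (hn : 0 < n)
    (hξ : ξ * algebraMap A K π ^ n = algebraMap A K a) {V : ValuationSubring L}
    (hV : EtRam.Dominates A (algebraMap A L) V) :
    V.valuation z ^ p * V.valuation (algebraMap A L π) ^ n = 1 ∧ 1 < V.valuation z := by
  have hπmem : π ∈ maximalIdeal A := by rw [hπ]; exact Ideal.mem_span_singleton_self π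
  have hϖ1 : V.valuation (algebraMap A L π) < 1 := hV.2 π hπmem
  have h1 : V.valuation (algebraMap K L ξ) * V.valuation (algebraMap A L π) ^ n = 1 := by
    have h2 := congrArg (algebraMap K L) hξ
    rw [map_mul, map_pow, ← IsScalarTower.algebraMap_apply, ← IsScalarTower.algebraMap_apply] at h2
    have h3 := congrArg V.valuation h2
    rwa [map_mul, map_pow, Groth.Agent.Lib.H40TotRamCriterion.val_unit hV] at h3
  have hξ1 : 1 < V.valuation (algebraMap K L ξ) := by
    by_contra hcon
    push Not at hcon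
    have h2 : V.valuation (algebraMap K L ξ) * V.valuation (algebraMap A L π) ^ n < 1 := by
      calc V.valuation (algebraMap K L ξ) * V.valuation (algebraMap A L π) ^ n
          ≤ 1 * V.valuation (algebraMap A L π) ^ n := mul_le_mul_left hcon _
        _ = V.valuation (algebraMap A L π) ^ n := one_mul _
        _ < 1 := pow_lt_one₀ zero_le hϖ1 hn.ne'
    rw [h1] at h2
    exact lt_irrefl _ h2
  have hz1 : 1 < V.valuation z := by
    by_contra hcon
    push Not at hcon
    have h2 := val_aeval_le_one hV.1 P hcon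
    rw [hz] at h2
    exact absurd hξ1 (not_lt.mpr h2)
  refine ⟨?_, hz1⟩
  have h3 := val_aeval_monic hV.1 P hPm hz1
  rw [hz, hPd] at h3
  rw [← h3]; exact h1

/-- pole order prime to `p`: totally ramified. -/
theorem totRam_of_monic {π : A} (hπ : maximalIdeal A = Ideal.span {π}) (hp : p.Prime) {P : A[X]}
    (hPm : P.Monic) (hPd : P.natDegree = p) {ξ : K} {z : L}
    (hz : aeval z P = algebraMap K L ξ)
    (hfr : Module.finrank K L = 1 ∨ Module.finrank K L = p) (n : ℕ) (a : Aˣ) (hn : 0 < n)
    (hpn : ¬ p ∣ n) (hξ : ξ * algebraMap A K π ^ n = algebraMap A K a) :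
    EtRam.IsTotallyRamified A (algebraMap A L) ∧ Module.finrank K L = p := by
  have hπirr : Irreducible π := (IsDiscreteValuationRing.irreducible_iff_uniformizer π).mpr hπ
  have hπmem : π ∈ maximalIdeal A := by rw [hπ]; exact Ideal.mem_span_singleton_self π
  have hinj : Function.Injective (algebraMap A L) :=
    Groth.Agent.Lib.H40TotRamCriterion.algebraMap_injective' (K := K)
  have hϖfacts : ∀ V : ValuationSubring L, EtRam.Dominates A (algebraMap A L) V →
      0 < V.valuation (algebraMap A L π) ∧ V.valuation (algebraMap A L π) < 1 := by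
    intro V hV
    refine ⟨zero_lt_iff.mpr ?_, hV.2 π hπmem⟩
    rw [Valuation.ne_zero_iff]
    exact fun h => hπirr.ne_zero (hinj (h.trans (map_zero _).symm))
  -- degree
  have hfin : Module.finrank K L = p := by
    rcases hfr with h1 | h1
    · exfalso
      obtain ⟨V, hV⟩ := Groth.Agent.Lib.H40TotRamCriterion.exists_dominates (A := A) (L := L)
      obtain ⟨hpos, hlt⟩ := hϖfacts V hV
      obtain ⟨hval, hz1⟩ := val_z_pow hπ hPm hPd hz n a hn hξ hV
      have h2 : z ∈ (⊥ : Subalgebra K L) := by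
        rw [Subalgebra.bot_eq_top_of_finrank_eq_one h1]; trivial
      obtain ⟨c, hc⟩ := Algebra.mem_bot.mp h2
      have hc0 : c ≠ 0 := by
        rintro rfl
        rw [map_zero] at hc
        rw [← hc, map_zero] at hz1
        exact absurd hz1 (not_lt.mpr zero_le)
      obtain ⟨m, hm, -⟩ := Groth.Agent.Lib.H40TotRamCriterion.val_algebraMap_K hπirr hV hc0
      rw [← hc, hm, ← zpow_natCast, ← zpow_mul, ← zpow_natCast, ← zpow_add₀ hpos.ne'] at hval
      have h3 : m * (p : ℤ) + (n : ℤ) = 0 := by
        have := zpow_right_injective₀ hpos hlt.ne (hval.trans (zpow_zero _).symm)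
        exact this
      apply hpn
      have h4 : (p : ℤ) ∣ (n : ℤ) := ⟨-m, by linear_combination h3⟩
      exact Int.natCast_dvd_natCast.mp h4
    · exact h1
  refine ⟨?_, hfin⟩
  -- Bezout
  have hcop : Nat.Coprime n p := ((Nat.Prime.coprime_iff_not_dvd hp).mpr hpn).symm
  have hbez : (1 : ℤ) = n * Nat.gcdA n p + p * Nat.gcdB n p := by
    have := Nat.gcd_eq_gcd_ab n p
    rwa [hcop, Nat.cast_one] at this
  set s := Nat.gcdA n p with hs
  set t := Nat.gcdB n p with ht
  apply Groth.Agent.Lib.H40TotRamCriterion.isTotallyRamified_of_val_pow_eq hπ hp.pos hfin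
    (z ^ (-s) * (algebraMap A L π) ^ t)
  intro V hV
  obtain ⟨hpos, hlt⟩ := hϖfacts V hV
  obtain ⟨hval, hz1⟩ := val_z_pow hπ hPm hPd hz n a hn hξ hV
  have hγ0 : V.valuation z ≠ 0 := (lt_trans zero_lt_one hz1).ne'
  have hγp : V.valuation z ^ (p : ℤ) = V.valuation (algebraMap A L π) ^ (-(n : ℤ)) := by
    rw [zpow_natCast, zpow_neg, zpow_natCast]
    exact eq_inv_of_mul_eq_one_left hval
  rw [map_mul, map_zpow₀, map_zpow₀, mul_pow, ← zpow_natCast, ← zpow_natCast, ← zpow_mul, ← zpow_mul,
    mul_comm (-s) (p : ℤ), zpow_mul, hγp, ← zpow_mul, ← zpow_add₀ hpos.ne']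
  have h5 : -(n : ℤ) * -s + t * (p : ℤ) = 1 := by rw [hbez]; ring
  rw [h5, zpow_one]

/-- pole order divisible by `p`, leading residue not a `p`-th power: case 4. -/
theorem case4_of_monic {π : A} (hπ : maximalIdeal A = Ideal.span {π}) (hp : p.Prime)
    [CharP (ResidueField A) p] {P : A[X]}
    (hPm : P.Monic) (hPd : P.natDegree = p) {ξ : K} {z : L}
    (hz : aeval z P = algebraMap K L ξ) (hgen : K⟮z⟯ = ⊤) (n : ℕ) (a : A) (hn : 0 < n)
    (hpn : p ∣ n) (hres : ∀ r : A, residue A a ≠ residue A r ^ p)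
    (hξ : ξ * algebraMap A K π ^ n = algebraMap A K a) :
    Case4 p A (algebraMap A L) := by
  have hπirr : Irreducible π := (IsDiscreteValuationRing.irreducible_iff_uniformizer π).mpr hπ
  have hπmem : π ∈ maximalIdeal A := by rw [hπ]; exact Ideal.mem_span_singleton_self π
  have hinj : Function.Injective (algebraMap A L) :=
    Groth.Agent.Lib.H40TotRamCriterion.algebraMap_injective' (K := K)
  obtain ⟨m, rfl⟩ := hpn
  have hm : 0 < m := by
    rcases Nat.eq_zero_or_pos m with h0 | h0
    · rw [h0, mul_zero] at hn; exact absurd hn (lt_irrefl _)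
    · exact h0
  have hsm : π ^ m ∈ maximalIdeal A := Ideal.pow_mem_of_mem _ hπmem _ hm
  set y : L := algebraMap A L (π ^ m) * z with hy
  set f : A[X] := P.scaleRoots (π ^ m) - C a with hf
  have hsmonic : (P.scaleRoots (π ^ m)).Monic := (monic_scaleRoots_iff _).mpr hPm
  have hsdeg : (P.scaleRoots (π ^ m)).natDegree = p := by rw [natDegree_scaleRoots, hPd]
  have hfmonic : f.Monic := by
    apply hsmonic.sub_of_left
    refine lt_of_le_of_lt degree_C_le ?_
    rw [degree_eq_natDegree hsmonic.ne_zero, hsdeg]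
    exact_mod_cast hp.pos
  have hξL : algebraMap K L ξ * algebraMap A L π ^ (p * m) = algebraMap A L a := by
    have h2 := congrArg (algebraMap K L) hξ
    rwa [map_mul, map_pow, ← IsScalarTower.algebraMap_apply, ← IsScalarTower.algebraMap_apply] at h2
  have hfy : aeval y f = 0 := by
    have h1 : aeval y (P.scaleRoots (π ^ m)) = algebraMap A L (π ^ m) ^ p * aeval z P := by
      rw [aeval_def, aeval_def, hy, scaleRoots_eval₂_mul, hPd]
    rw [hf, map_sub, h1, aeval_C, hz, ← hξL, map_pow, ← pow_mul, mul_comm m p]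
    ring
  have hfmap : f.map (residue A) = X ^ p - C (residue A a) := by
    rw [hf, Polynomial.map_sub, scaleRoots_map_residue hPm hsm, hPd, map_C]
  have hgeny : K⟮y⟯ = ⊤ := by
    rw [eq_top_iff, ← hgen, adjoin_simple_le_iff]
    have hc0 : algebraMap A L (π ^ m) ≠ 0 := by
      intro h
      exact pow_ne_zero m hπirr.ne_zero (hinj (h.trans (map_zero _).symm))
    have h1 : z = (algebraMap A L (π ^ m))⁻¹ * y := by
      rw [hy, ← mul_assoc, inv_mul_cancel₀ hc0, one_mul]
    rw [h1]
    apply mul_mem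
    · apply inv_mem
      rw [IsScalarTower.algebraMap_apply A K L]
      exact IntermediateField.algebraMap_mem _ _
    · exact mem_adjoin_simple_self K y
  exact case4_of_inert hp hπ hgeny f hfmonic hfy a hfmap hres

end Monic


/-- the Kummer-type context: `w = 1 - ζ`, `w^p P = (1 + wX)^p - 1`. -/
structure Ctx (p : ℕ) (A : Type u) [CommRing A] [IsDomain A] [IsDiscreteValuationRing A]
    (π w : A) (P : A[X]) : Prop where
  hp : p.Prime
  hπ : maximalIdeal A = Ideal.span {π}
  hw0 : w ≠ 0
  hwm : w ∈ maximalIdeal A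
  hζ : IsPrimitiveRoot (1 - w) p
  hP : C (w ^ p) * P = (1 + C w * X) ^ p - 1
  hε : ∃ ε : Aˣ, (p : A) = ε * w ^ (p - 1)

section Kummer

variable {π w : A} {P : A[X]}

omit [IsDiscreteValuationRing A] [IsDomain A] [IsFractionRing A K] in
theorem yz_pow (hP : C (w ^ p) * P = (1 + C w * X) ^ p - 1) {ξ : K} {z : L}
    (hz : aeval z P = algebraMap K L ξ) :
    (1 + algebraMap A L w * z) ^ p = algebraMap K L (1 + algebraMap A K w ^ p * ξ) := by
  have h1 := P_eval hP z
  rw [hz] at h1
  rw [map_add, map_one, map_mul, map_pow, ← IsScalarTower.algebraMap_apply, h1]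
  ring

omit [IsDiscreteValuationRing A] [IsDomain A] in
include K in
theorem wL_ne_zero (hw0 : w ≠ 0) : algebraMap A L w ≠ 0 := by
  intro h
  exact hw0 (Groth.Agent.Lib.H40TotRamCriterion.algebraMap_injective' (K := K) (L := L)
    (h.trans (map_zero _).symm))

omit [IsDiscreteValuationRing A] in
theorem gen_y (hw0 : w ≠ 0) {z : L} (hgen : K⟮z⟯ = ⊤) : K⟮1 + algebraMap A L w * z⟯ = ⊤ := by
  rw [eq_top_iff, ← hgen, adjoin_simple_le_iff]
  have hW := wL_ne_zero (K := K) (L := L) hw0
  set y : L := 1 + algebraMap A L w * z with hy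
  have h1 : z = (algebraMap A L w)⁻¹ * (y - 1) := by
    rw [hy, add_sub_cancel_left, ← mul_assoc, inv_mul_cancel₀ hW, one_mul]
  rw [h1]
  apply mul_mem
  · apply inv_mem
    rw [IsScalarTower.algebraMap_apply A K L]
    exact IntermediateField.algebraMap_mem _ _
  · exact sub_mem (mem_adjoin_simple_self K _) (one_mem _)

variable [CharZero K]

theorem isGalois_of_z (h : Ctx p A π w P) {ξ : K} {z : L}
    (hz : aeval z P = algebraMap K L ξ) (hgen : K⟮z⟯ = ⊤) : IsGalois K L :=
  kummer_isGalois h.hp (h.hζ.map_of_injective (IsFractionRing.injective A K)) (yz_pow h.hP hz)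
    (gen_y h.hw0 hgen)

omit [CharZero K] in
theorem finrank_of_z (h : Ctx p A π w P) {ξ : K} {z : L}
    (hz : aeval z P = algebraMap K L ξ) (hgen : K⟮z⟯ = ⊤) :
    Module.finrank K L = 1 ∨ Module.finrank K L = p :=
  kummer_finrank h.hp (h.hζ.map_of_injective (IsFractionRing.injective A K)) (yz_pow h.hP hz)
    (gen_y h.hw0 hgen)

omit [CharZero K] in
theorem P_monic' (h : Ctx p A π w P) : P.Monic ∧ P.natDegree = p := P_monic h.hp h.hw0 h.hP

omit [CharZero K] in
theorem caseA (h : Ctx p A π w P) {ξ : K} {z : L}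
    (hz : aeval z P = algebraMap K L ξ) (hgen : K⟮z⟯ = ⊤) (a : A) (ha : algebraMap A K a = ξ) :
    Module.finrank K L = 1 ∨
      (EtRam.IsUnramifiedExt A (algebraMap A L) ∧ Module.finrank K L = p) := by
  rcases finrank_of_z h hz hgen with h1 | h1
  · exact Or.inl h1
  · refine Or.inr ⟨?_, h1⟩
    obtain ⟨hPm, hPd⟩ := P_monic' h
    obtain ⟨ε, hε⟩ := h.hε
    have hfz : aeval z (P - C a) = 0 := by
      rw [map_sub, aeval_C, hz, ← ha, ← IsScalarTower.algebraMap_apply, sub_self]
    have hmonic : (P - C a).Monic := by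
      apply hPm.sub_of_left
      refine lt_of_le_of_lt degree_C_le ?_
      rw [degree_eq_natDegree hPm.ne_zero, hPd]
      exact_mod_cast h.hp.pos
    exact Groth.Agent.Lib.H40UnramCore.isUnramifiedExt_of_separable (K := K) h.hπ hgen
      (P - C a) hmonic hfz (P_sub_C_separable h.hp h.hw0 h.hwm h.hP ε hε a)

omit [CharZero K] in
theorem caseB (h : Ctx p A π w P) {ξ : K} {z : L}
    (hz : aeval z P = algebraMap K L ξ) (hgen : K⟮z⟯ = ⊤) (n : ℕ) (a : Aˣ) (hn : 0 < n)
    (hpn : ¬ p ∣ n) (hξ : ξ * algebraMap A K π ^ n = algebraMap A K a) :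
    EtRam.IsTotallyRamified A (algebraMap A L) ∧ Module.finrank K L = p :=
  totRam_of_monic h.hπ h.hp (P_monic' h).1 (P_monic' h).2 hz (finrank_of_z h hz hgen) n a hn hpn hξ

omit [CharZero K] in
theorem caseC [CharP (ResidueField A) p] (h : Ctx p A π w P) {ξ : K} {z : L}
    (hz : aeval z P = algebraMap K L ξ) (hgen : K⟮z⟯ = ⊤) (n : ℕ) (a : A) (hn : 0 < n)
    (hpn : p ∣ n) (hres : ∀ r : A, residue A a ≠ residue A r ^ p)
    (hξ : ξ * algebraMap A K π ^ n = algebraMap A K a) :
    Case4 p A (algebraMap A L) :=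
  case4_of_monic h.hπ h.hp (P_monic' h).1 (P_monic' h).2 hz hgen n a hn hpn hres hξ


omit [CharZero K] in
/-- the tetrachotomy when `ξ w^p ∈ 𝔪`, by induction on a bound for the pole order of `ξ`. -/
theorem general_z [CharP (ResidueField A) p] (h : Ctx p A π w P) :
    ∀ (N : ℕ) (ξ : K) (z : L), aeval z P = algebraMap K L ξ → K⟮z⟯ = ⊤ →
      (∃ b : A, ξ * algebraMap A K π ^ N = algebraMap A K b) →
      (∃ d ∈ maximalIdeal A, ξ * algebraMap A K w ^ p = algebraMap A K d) →
      Module.finrank K L = 1 ∨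
        (EtRam.IsUnramifiedExt A (algebraMap A L) ∧ Module.finrank K L = p) ∨
        (EtRam.IsTotallyRamified A (algebraMap A L) ∧ Module.finrank K L = p) ∨
        Case4 p A (algebraMap A L) := by
  have hp := h.hp
  have hπirr : Irreducible π := (IsDiscreteValuationRing.irreducible_iff_uniformizer π).mpr h.hπ
  have hπmem : π ∈ maximalIdeal A := by rw [h.hπ]; exact Ideal.mem_span_singleton_self π
  have hinjK : Function.Injective (algebraMap A K) := IsFractionRing.injective A K
  have hϖ0 : algebraMap A K π ≠ 0 := by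
    intro h0
    exact hπirr.ne_zero (hinjK (h0.trans (map_zero _).symm))
  have hWk0 : algebraMap A K w ≠ 0 := by
    intro h0
    exact h.hw0 (hinjK (h0.trans (map_zero _).symm))
  obtain ⟨hPm, hPd⟩ := P_monic' h
  intro N
  induction N with
  | zero =>
    intro ξ z hz hgen ⟨b, hb⟩ _
    rw [pow_zero, mul_one] at hb
    rcases caseA h hz hgen b hb.symm with h1 | h1
    · exact Or.inl h1
    · exact Or.inr (Or.inl h1)
  | succ N ih =>
    intro ξ z hz hgen ⟨b, hb⟩ ⟨d, hd, hdξ⟩
    by_cases hbm : b ∈ maximalIdeal A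
    · rw [h.hπ, Ideal.mem_span_singleton] at hbm
      obtain ⟨b', rfl⟩ := hbm
      apply ih ξ z hz hgen ⟨b', ?_⟩ ⟨d, hd, hdξ⟩
      rw [pow_succ, ← mul_assoc, map_mul, mul_comm (algebraMap A K π)] at hb
      exact mul_right_cancel₀ hϖ0 hb
    have hbu : IsUnit b := by
      simpa [mem_maximalIdeal, mem_nonunits_iff] using hbm
    by_cases hpn : p ∣ N + 1
    swap
    · exact Or.inr (Or.inr (Or.inl (caseB h hz hgen (N + 1) hbu.unit (Nat.succ_pos N) hpn hb)))
    by_cases hres : ∀ r : A, residue A b ≠ residue A r ^ p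
    · exact Or.inr (Or.inr (Or.inr (caseC h hz hgen (N + 1) b (Nat.succ_pos N) hpn hres hb)))
    push Not at hres
    obtain ⟨r, hr⟩ := hres
    obtain ⟨m, hm⟩ := hpn
    have hm0 : 0 < m := by
      rcases Nat.eq_zero_or_pos m with h0 | h0
      · rw [h0, mul_zero] at hm; exact absurd hm (Nat.succ_ne_zero N)
      · exact h0
    -- `π^(m+1) ∣ w`
    have hA1 : b * w ^ p = d * π ^ (p * m) := by
      apply hinjK
      rw [map_mul, map_mul, map_pow, map_pow, ← hb, ← hdξ, hm]; ring
    rw [h.hπ, Ideal.mem_span_singleton] at hd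
    obtain ⟨d', rfl⟩ := hd
    have hA2 : π ^ (p * m + 1) ∣ w ^ p := by
      have h1 : π ^ (p * m + 1) ∣ b * w ^ p := ⟨d', by rw [hA1]; ring⟩
      exact (hbu.dvd_mul_left).mp h1
    obtain ⟨w₁, hw₁⟩ := pow_succ_dvd_of_dvd_pow hπirr (Nat.lt_succ_self _) hA2
    -- the unit `t = 1 + w c`
    set t : A := 1 + π * r * w₁ with ht
    have ht1 : residue A t = 1 := by
      rw [ht, map_add, map_one, map_mul, map_mul, (residue_eq_zero_iff π).mpr hπmem, zero_mul,
        zero_mul, add_zero]
    have htu : IsUnit t := by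
      rw [← residue_ne_zero_iff_isUnit, ht1]; exact one_ne_zero
    obtain ⟨tu, htu⟩ := htu
    have htK : algebraMap A K t * algebraMap A K ((tu⁻¹ : Aˣ) : A) = 1 := by
      rw [← htu, ← map_mul, ← Units.val_mul, mul_inv_cancel, Units.val_one, map_one]
    have htK0 : algebraMap A K t ≠ 0 := left_ne_zero_of_mul_eq_one htK
    have hϖm : algebraMap A K π ^ m ≠ 0 := pow_ne_zero _ hϖ0
    set c : K := algebraMap A K r / algebraMap A K π ^ m with hc
    have hWc : 1 + algebraMap A K w * c = algebraMap A K t := by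
      rw [ht, hw₁, hc, map_add, map_one, map_mul, map_mul, map_mul, map_pow, pow_succ]
      field_simp
    set Pc : K := aeval c P with hPc
    have hPc' : algebraMap A K w ^ p * Pc = algebraMap A K t ^ p - 1 := by
      rw [hPc, P_eval h.hP c, hWc]
    set ξ' : K := (ξ - Pc) / algebraMap A K t ^ p with hξ'
    set z' : L := (z - algebraMap K L c) / algebraMap A L t with hz'
    have htinv : algebraMap A K ((tu⁻¹ : Aˣ) : A) = (algebraMap A K t)⁻¹ :=
      eq_inv_of_mul_eq_one_right htK
    have hW0 : algebraMap A L w ≠ 0 := wL_ne_zero (K := K) (L := L) h.hw0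
    have hWp : algebraMap A L w ^ p ≠ 0 := pow_ne_zero _ hW0
    have hT : algebraMap A L t = 1 + algebraMap A L w * algebraMap K L c := by
      rw [IsScalarTower.algebraMap_apply A K L t, ← hWc, map_add, map_one, map_mul,
        ← IsScalarTower.algebraMap_apply]
    have hT0 : algebraMap A L t ≠ 0 := by
      rw [IsScalarTower.algebraMap_apply A K L t, Ne, map_eq_zero]
      exact htK0
    have hz'P : aeval z' P = algebraMap K L ξ' := by
      have e1 : 1 + algebraMap A L w * z' = (1 + algebraMap A L w * z) / algebraMap A L t := by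
        rw [hz']
        field_simp
        rw [hT]
        ring
      have e2 := P_eval h.hP z'
      rw [e1, div_pow] at e2
      have e3 := P_eval h.hP z
      rw [hz] at e3
      have e4 : algebraMap A L w ^ p * algebraMap K L Pc = algebraMap A L t ^ p - 1 := by
        have := congrArg (algebraMap K L) hPc'
        rwa [map_mul, map_pow, map_sub, map_pow, map_one, ← IsScalarTower.algebraMap_apply,
          ← IsScalarTower.algebraMap_apply] at this
      apply mul_left_cancel₀ hWp
      rw [e2, hξ', map_div₀, map_sub, map_pow, ← IsScalarTower.algebraMap_apply]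
      field_simp
      linear_combination e4 - e3
    have hgen' : K⟮z'⟯ = ⊤ := by
      rw [eq_top_iff, ← hgen, adjoin_simple_le_iff]
      have h1 : z = algebraMap A L t * z' + algebraMap K L c := by
        rw [hz']
        field_simp
        ring
      rw [h1]
      refine add_mem (mul_mem ?_ (mem_adjoin_simple_self K z'))
        (IntermediateField.algebraMap_mem _ c)
      rw [IsScalarTower.algebraMap_apply A K L]
      exact IntermediateField.algebraMap_mem _ _
    have hb' : ∃ b' : A, ξ' * algebraMap A K π ^ N = algebraMap A K b' := by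
      have hsm : π ^ m ∈ maximalIdeal A := Ideal.pow_mem_of_mem _ hπmem _ hm0
      set SA : A := eval r (P.scaleRoots (π ^ m)) with hSA
      have hS1 : algebraMap A K SA = (algebraMap A K π ^ m) ^ p * Pc := by
        have h1 := scaleRoots_eval₂_mul (p := P) (algebraMap A K) c (π ^ m)
        have h2 : algebraMap A K (π ^ m) * c = algebraMap A K r := by
          rw [hc, map_pow]
          field_simp
        rw [h2, eval₂_at_apply, hPd, map_pow] at h1
        rw [hSA, h1, hPc, aeval_def]
      have hS2 : residue A SA = residue A r ^ p := by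
        rw [hSA, ← eval₂_at_apply, ← eval_map, scaleRoots_map_residue hPm hsm, hPd, eval_pow, eval_X]
      have he : (b - SA) ∈ maximalIdeal A := by
        rw [← residue_eq_zero_iff, map_sub, hS2, hr, sub_self]
      rw [h.hπ, Ideal.mem_span_singleton] at he
      obtain ⟨e, he⟩ := he
      refine ⟨e * ((tu⁻¹ : Aˣ) : A) ^ p, ?_⟩
      have h3 : (ξ - Pc) * algebraMap A K π ^ N = algebraMap A K e := by
        apply mul_right_cancel₀ hϖ0
        have h5 : algebraMap A K π ^ (N + 1) = (algebraMap A K π ^ m) ^ p := by rw [hm, pow_mul']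
        have h6 : algebraMap A K b - algebraMap A K SA = algebraMap A K π * algebraMap A K e := by
          rw [← map_sub, he, map_mul]
        rw [mul_assoc, ← pow_succ, sub_mul, hb, h5, mul_comm Pc, ← hS1, h6, mul_comm]
      rw [hξ', map_mul, map_pow, htinv, ← h3, inv_pow, div_eq_mul_inv]
      ring
    have hd' : ∃ d'' ∈ maximalIdeal A, ξ' * algebraMap A K w ^ p = algebraMap A K d'' := by
      refine ⟨(π * d' - (t ^ p - 1)) * ((tu⁻¹ : Aˣ) : A) ^ p, ?_, ?_⟩
      · apply Ideal.mul_mem_right
        apply Ideal.sub_mem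
        · exact Ideal.mul_mem_right _ _ hπmem
        · rw [← residue_eq_zero_iff, map_sub, map_pow, ht1, one_pow, map_one, sub_self]
      · have h7 : ξ' * algebraMap A K w ^ p =
            (algebraMap A K (π * d') - (algebraMap A K t ^ p - 1)) * (algebraMap A K t ^ p)⁻¹ := by
          rw [hξ', ← hdξ, ← hPc']
          field_simp
        rw [h7, map_mul (algebraMap A K) (π * d' - (t ^ p - 1)), map_sub, map_sub, map_pow, map_pow,
          map_one, htinv, inv_pow]
    exact ih ξ' z' hz'P hgen' hb' hd'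


omit [CharZero K] in
/-- the tetrachotomy for `L = K(y)`, `y^p = η ∈ K`. -/
theorem kummer_general [CharP (ResidueField A) p] (h : Ctx p A π w P) (y : L) (η : K)
    (hy : y ^ p = algebraMap K L η) (hgen : K⟮y⟯ = ⊤) :
    Module.finrank K L = 1 ∨
      (EtRam.IsUnramifiedExt A (algebraMap A L) ∧ Module.finrank K L = p) ∨
      (EtRam.IsTotallyRamified A (algebraMap A L) ∧ Module.finrank K L = p) ∨
      Case4 p A (algebraMap A L) := by
  have hp := h.hp
  have hπirr : Irreducible π := (IsDiscreteValuationRing.irreducible_iff_uniformizer π).mpr h.hπ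
  have hπmem : π ∈ maximalIdeal A := by rw [h.hπ]; exact Ideal.mem_span_singleton_self π
  have hinjK : Function.Injective (algebraMap A K) := IsFractionRing.injective A K
  have hinjL : Function.Injective (algebraMap A L) :=
    Groth.Agent.Lib.H40TotRamCriterion.algebraMap_injective' (K := K)
  have hϖ0 : algebraMap A K π ≠ 0 := by
    intro h0
    exact hπirr.ne_zero (hinjK (h0.trans (map_zero _).symm))
  have hϖL0 : algebraMap A L π ≠ 0 := by
    intro h0
    exact hπirr.ne_zero (hinjL (h0.trans (map_zero _).symm))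
  have hWk0 : algebraMap A K w ≠ 0 := by
    intro h0
    exact h.hw0 (hinjK (h0.trans (map_zero _).symm))
  have hW0 : algebraMap A L w ≠ 0 := wL_ne_zero (K := K) (L := L) h.hw0
  have hζK : IsPrimitiveRoot (algebraMap A K (1 - w)) p := h.hζ.map_of_injective hinjK
  have hfr := kummer_finrank hp hζK hy hgen
  by_cases hη : η = 0
  · left
    rw [hη, map_zero] at hy
    have hy0 : y = 0 := eq_zero_of_pow_eq_zero hy
    rw [hy0, IntermediateField.adjoin_zero] at hgen
    exact IntermediateField.bot_eq_top_iff_finrank_eq_one.mp hgen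
  obtain ⟨j, u, hju⟩ := IsDiscreteValuationRing.exists_units_eq_smul_zpow_of_irreducible hπirr hη
  have hηL : algebraMap K L η = algebraMap A L u * algebraMap A L π ^ j := by
    rw [hju, Units.smul_def, Algebra.smul_def, map_mul, map_zpow₀, ← IsScalarTower.algebraMap_apply,
      ← IsScalarTower.algebraMap_apply]
  have huL0 : algebraMap A L u ≠ 0 := by
    intro h0
    exact u.ne_zero (hinjL (h0.trans (map_zero _).symm))
  have hy0 : y ≠ 0 := by
    rintro rfl
    rw [zero_pow hp.ne_zero, hηL] at hy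
    exact mul_ne_zero huL0 (zpow_ne_zero _ hϖL0) hy.symm
  by_cases hpj : (p : ℤ) ∣ j
  swap
  · -- totally ramified
    right; right; left
    have hϖfacts : ∀ V : ValuationSubring L, EtRam.Dominates A (algebraMap A L) V →
        0 < V.valuation (algebraMap A L π) ∧ V.valuation (algebraMap A L π) < 1 := by
      intro V hV
      refine ⟨zero_lt_iff.mpr ?_, hV.2 π hπmem⟩
      rw [Valuation.ne_zero_iff]
      exact hϖL0
    have hvy : ∀ V : ValuationSubring L, EtRam.Dominates A (algebraMap A L) V →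
        V.valuation y ^ p = V.valuation (algebraMap A L π) ^ j := by
      intro V hV
      rw [← map_pow, hy, hηL, map_mul, map_zpow₀, Groth.Agent.Lib.H40TotRamCriterion.val_unit hV,
        one_mul]
    have hfin : Module.finrank K L = p := by
      rcases hfr with h1 | h1
      · exfalso
        obtain ⟨V, hV⟩ := Groth.Agent.Lib.H40TotRamCriterion.exists_dominates (A := A) (L := L)
        obtain ⟨hpos, hlt⟩ := hϖfacts V hV
        have h2 : y ∈ (⊥ : Subalgebra K L) := by
          rw [Subalgebra.bot_eq_top_of_finrank_eq_one h1]; trivial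
        obtain ⟨c, hc⟩ := Algebra.mem_bot.mp h2
        have hc0 : c ≠ 0 := by
          rintro rfl
          rw [map_zero] at hc
          exact hy0 hc.symm
        obtain ⟨m, hm, -⟩ := Groth.Agent.Lib.H40TotRamCriterion.val_algebraMap_K hπirr hV hc0
        have h3 := hvy V hV
        rw [← hc, hm, ← zpow_natCast, ← zpow_mul] at h3
        have h4 : m * (p : ℤ) = j := zpow_right_injective₀ hpos hlt.ne h3
        exact hpj ⟨m, by rw [← h4, mul_comm]⟩
      · exact h1
    refine ⟨?_, hfin⟩
    have hcop : IsCoprime (p : ℤ) j :=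
      (Nat.prime_iff_prime_int.mp hp).coprime_iff_not_dvd.mpr hpj
    obtain ⟨a, b, hab⟩ := hcop
    apply Groth.Agent.Lib.H40TotRamCriterion.isTotallyRamified_of_val_pow_eq h.hπ hp.pos hfin
      (y ^ b * (algebraMap A L π) ^ a)
    intro V hV
    obtain ⟨hpos, hlt⟩ := hϖfacts V hV
    have hγ0 : V.valuation y ≠ 0 := by rwa [Valuation.ne_zero_iff]
    have h3 : V.valuation y ^ (p : ℤ) = V.valuation (algebraMap A L π) ^ j := by
      rw [zpow_natCast]; exact hvy V hV
    rw [map_mul, map_zpow₀, map_zpow₀, mul_pow, ← zpow_natCast, ← zpow_natCast, ← zpow_mul,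
      ← zpow_mul, mul_comm b (p : ℤ), zpow_mul, h3, ← zpow_mul, ← zpow_add₀ hpos.ne']
    have h5 : j * b + a * (p : ℤ) = 1 := by rw [← hab]; ring
    rw [h5, zpow_one]
  obtain ⟨m', rfl⟩ := hpj
  -- reduce to a unit
  set y₁ : L := y * (algebraMap A L π ^ m')⁻¹ with hy₁def
  have hϖm : algebraMap A L π ^ m' ≠ 0 := zpow_ne_zero _ hϖL0
  have hy₁ : y₁ ^ p = algebraMap A L u := by
    rw [hy₁def, mul_pow, hy, hηL, inv_pow, ← zpow_natCast, ← zpow_mul, mul_comm m' (p : ℤ),
      mul_assoc, mul_inv_cancel₀ (zpow_ne_zero _ hϖL0), mul_one]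
  have hgen₁ : K⟮y₁⟯ = ⊤ := by
    rw [eq_top_iff, ← hgen, adjoin_simple_le_iff]
    have h1 : y = y₁ * algebraMap K L (algebraMap A K π ^ m') := by
      rw [hy₁def, map_zpow₀, ← IsScalarTower.algebraMap_apply, mul_assoc, inv_mul_cancel₀ hϖm,
        mul_one]
    rw [h1]
    exact mul_mem (mem_adjoin_simple_self K y₁) (IntermediateField.algebraMap_mem _ _)
  by_cases hres : ∀ r : A, residue A u ≠ residue A r ^ p
  · right; right; right
    refine case4_of_inert hp h.hπ hgen₁ (X ^ p - C (u : A)) (monic_X_pow_sub_C _ hp.ne_zero) ?_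
      (u : A) ?_ hres
    · rw [map_sub, map_pow, aeval_X, aeval_C, hy₁, sub_self]
    · rw [Polynomial.map_sub, Polynomial.map_pow, map_X, map_C]
  push Not at hres
  obtain ⟨s, hs⟩ := hres
  have hsu : IsUnit s := by
    rw [← residue_ne_zero_iff_isUnit]
    intro h0
    rw [h0, zero_pow hp.ne_zero] at hs
    exact (residue_ne_zero_iff_isUnit (u : A)).mpr u.isUnit hs
  obtain ⟨su, rfl⟩ := hsu
  set η₂ : A := u * ((su⁻¹ : Aˣ) : A) ^ p with hη₂def
  have hη₂ : residue A η₂ = 1 := by
    rw [hη₂def, map_mul, map_pow, hs, ← mul_pow, ← map_mul, ← Units.val_mul, mul_inv_cancel,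
      Units.val_one, map_one, one_pow]
  set y₂ : L := y₁ * algebraMap A L ((su⁻¹ : Aˣ) : A) with hy₂def
  have hy₂ : y₂ ^ p = algebraMap A L η₂ := by
    rw [hy₂def, mul_pow, hy₁, hη₂def, map_mul, map_pow]
  have hsuL : algebraMap A L ((su⁻¹ : Aˣ) : A) * algebraMap A L (su : A) = 1 := by
    rw [← map_mul, ← Units.val_mul, inv_mul_cancel, Units.val_one, map_one]
  have hgen₂ : K⟮y₂⟯ = ⊤ := by
    rw [eq_top_iff, ← hgen₁, adjoin_simple_le_iff]
    have h1 : y₁ = y₂ * algebraMap K L (algebraMap A K (su : A)) := by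
      rw [hy₂def, ← IsScalarTower.algebraMap_apply, mul_assoc, hsuL, mul_one]
    rw [h1]
    exact mul_mem (mem_adjoin_simple_self K y₂) (IntermediateField.algebraMap_mem _ _)
  -- back to `z`-coordinates
  set z' : L := (y₂ - 1) / algebraMap A L w with hz'def
  set ξ' : K := (algebraMap A K η₂ - 1) / algebraMap A K w ^ p with hξ'def
  have hyz : 1 + algebraMap A L w * z' = y₂ := by
    rw [hz'def, mul_div_cancel₀ _ hW0, add_sub_cancel]
  have hz' : aeval z' P = algebraMap K L ξ' := by
    have e1 := P_eval h.hP z'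
    rw [hyz, hy₂] at e1
    apply mul_left_cancel₀ (pow_ne_zero p hW0)
    rw [e1, hξ'def, map_div₀, map_sub, map_one, map_pow, ← IsScalarTower.algebraMap_apply,
      ← IsScalarTower.algebraMap_apply, mul_div_cancel₀ _ (pow_ne_zero p hW0)]
  have hgen' : K⟮z'⟯ = ⊤ := by
    rw [eq_top_iff, ← hgen₂, adjoin_simple_le_iff, ← hyz]
    refine add_mem (one_mem _) (mul_mem ?_ (mem_adjoin_simple_self K z'))
    rw [IsScalarTower.algebraMap_apply A K L]
    exact IntermediateField.algebraMap_mem _ _
  obtain ⟨e, uw, hw⟩ := IsDiscreteValuationRing.eq_unit_mul_pow_irreducible h.hw0 hπirr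
  have huwK : algebraMap A K (uw : A) * algebraMap A K ((uw⁻¹ : Aˣ) : A) = 1 := by
    rw [← map_mul, ← Units.val_mul, mul_inv_cancel, Units.val_one, map_one]
  have huwK0 : algebraMap A K (uw : A) ≠ 0 := left_ne_zero_of_mul_eq_one huwK
  have huwinv : algebraMap A K ((uw⁻¹ : Aˣ) : A) = (algebraMap A K (uw : A))⁻¹ :=
    eq_inv_of_mul_eq_one_right huwK
  refine general_z h (e * p) ξ' z' hz' hgen' ⟨(η₂ - 1) * ((uw⁻¹ : Aˣ) : A) ^ p, ?_⟩
    ⟨η₂ - 1, ?_, ?_⟩
  · have h1 : algebraMap A K ((η₂ - 1) * ((uw⁻¹ : Aˣ) : A) ^ p) =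
        (algebraMap A K η₂ - 1) * ((algebraMap A K (uw : A))⁻¹) ^ p := by
      rw [map_mul (algebraMap A K) (η₂ - 1), map_sub (algebraMap A K) η₂, map_one, map_pow, huwinv]
    have h2 : algebraMap A K w = algebraMap A K (uw : A) * algebraMap A K π ^ e := by
      rw [hw, map_mul, map_pow]
    rw [hξ'def, h1, h2, mul_pow, ← pow_mul, inv_pow]
    field_simp
  · rw [← residue_eq_zero_iff, map_sub, hη₂, map_one, sub_self]
  · rw [hξ'def, map_sub, map_one, div_mul_cancel₀ _ (pow_ne_zero p hWk0)]

/-- assembling the statement -/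
theorem main [CharP (ResidueField A) p] (h : Ctx p A π w P) (ξ : K) (z : L)
    (hz : aeval z P = algebraMap K L ξ) (hgen : K⟮z⟯ = ⊤) :
    IsGalois K L ∧
      (Module.finrank K L = 1 ∨
        (EtRam.IsUnramifiedExt A (algebraMap A L) ∧ Module.finrank K L = p) ∨
        (EtRam.IsTotallyRamified A (algebraMap A L) ∧ Module.finrank K L = p) ∨
        Case4 p A (algebraMap A L)) ∧
      ((∃ a : A, algebraMap A K a = ξ) →
        Module.finrank K L = 1 ∨
          (EtRam.IsUnramifiedExt A (algebraMap A L) ∧ Module.finrank K L = p)) ∧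
      (∀ (n : ℕ) (a : Aˣ), 0 < n → ¬ p ∣ n → ξ * algebraMap A K π ^ n = algebraMap A K a →
        (EtRam.IsTotallyRamified A (algebraMap A L) ∧ Module.finrank K L = p)) ∧
      (∀ (n : ℕ) (a : A), 0 < n → p ∣ n →
        (∀ r : A, IsLocalRing.residue A a ≠ IsLocalRing.residue A r ^ p) →
        ξ * algebraMap A K π ^ n = algebraMap A K a → Case4 p A (algebraMap A L)) := by
  refine ⟨isGalois_of_z h hz hgen, ?_, ?_, ?_, ?_⟩
  · exact kummer_general h _ _ (yz_pow h.hP hz) (gen_y h.hw0 hgen)
  · rintro ⟨a, ha⟩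
    exact caseA h hz hgen a ha
  · intro n a hn hpn hξ
    exact caseB h hz hgen n a hn hpn hξ
  · intro n a hn hpn hres hξ
    exact caseC h hz hgen n a hn hpn hres hξ

include K in
/-- building the context from the hypotheses of the statement -/
theorem mkCtx [CharP (ResidueField A) p] (hp : p.Prime) (ζ : A)
    (hζ : aeval ζ (cyclotomic p ℤ) = 0) (P : A[X])
    (hP : C ((1 - ζ) ^ p) * P = (1 + C (1 - ζ) * X) ^ p - 1) (π : A)
    (hπ : maximalIdeal A = Ideal.span {π}) : Ctx p A π (1 - ζ) P := by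
  have hA0 : CharZero A := (algebraMap A K).charZero
  have hζ' : IsPrimitiveRoot ζ p := isPrimitiveRoot_of_aeval hp hζ
  refine ⟨hp, hπ, ?_, one_sub_mem hp hζ', ?_, hP, exists_unit_prime_eq hp hζ'⟩
  · rw [sub_ne_zero]
    exact (hζ'.ne_one hp.one_lt).symm
  · rwa [sub_sub_cancel]

end Kummer

end Groth.Agent.Lib.H40KummerB
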