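import Mathlib.NumberTheory.RatFunc.Ostrowski
import Mathlib.RingTheory.Valuation.ValuationSubring

set_option autoImplicit false
set_option linter.style.haveILetI false
open Polynomial

namespace Groth.Agent.Lib.H40RatVal

universe u

variable {k : Type u} [Field k]

local notation "ι" => algebraMap k[X] (RatFunc k)

theorem isTrivialOn_of_le (O : ValuationSubring (RatFunc k))
    (hk : (algebraMap k (RatFunc k)).range ≤ O.toSubring) : O.valuation.IsTrivialOn k := by
  refine ⟨fun c hc => ?_⟩
  have h1 : algebraMap k (RatFunc k) c ∈ O := hk ⟨c, rfl⟩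
  have h2 : algebraMap k (RatFunc k) c⁻¹ ∈ O := hk ⟨c⁻¹, rfl⟩
  have h3 := (O.valuation_le_one_iff _).2 h1
  have h4 := (O.valuation_le_one_iff _).2 h2
  rw [map_inv₀, map_inv₀] at h4
  have h0 : O.valuation (algebraMap k (RatFunc k) c) ≠ 0 :=
    (Valuation.ne_zero_iff _).2 ((_root_.map_ne_zero _).2 hc)
  rw [inv_le_one₀ (zero_lt_iff.2 h0)] at h4
  exact le_antisymm h3 h4

theorem eq_infty_of_X_notMem [DecidableEq (RatFunc k)] (O : ValuationSubring (RatFunc k))
    (hk : (algebraMap k (RatFunc k)).range ≤ O.toSubring) (hX : (RatFunc.X : RatFunc k) ∉ O) :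
    O = (RatFunc.inftyValuation k).valuationSubring := by
  haveI := isTrivialOn_of_le O hk
  have hlt : 1 < O.valuation RatFunc.X := by
    by_contra h
    exact hX ((O.valuation_le_one_iff _).1 (not_lt.1 h))
  have := RatFunc.valuation_isEquiv_inftyValuation_of_one_lt_valuation_X hlt
  rw [Valuation.isEquiv_iff_valuationSubring, O.valuationSubring_valuation] at this
  exact this

open IsDedekindDomain in
theorem exists_adic_of_X_mem (O : ValuationSubring (RatFunc k))
    (hk : (algebraMap k (RatFunc k)).range ≤ O.toSubring) (hX : (RatFunc.X : RatFunc k) ∈ O)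
    (htop : O ≠ ⊤) :
    ∃ v : HeightOneSpectrum k[X], O = (v.valuation (RatFunc k)).valuationSubring := by
  have hpoly : ∀ p : k[X], ι p ∈ O := by
    intro p
    induction p using Polynomial.induction_on with
    | C a =>
      rw [RatFunc.algebraMap_C, ← RatFunc.algebraMap_eq_C]
      exact hk ⟨a, rfl⟩
    | add p q hp hq => rw [map_add]; exact O.add_mem _ _ hp hq
    | monomial n a h =>
      rw [pow_succ, ← mul_assoc, map_mul, RatFunc.algebraMap_X]
      exact O.mul_mem _ _ h hX
  let φ : k[X] →+* O := (ι).codRestrict O.toSubring hpoly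
  have hφ : ∀ q : k[X], ((φ q : O) : RatFunc k) = ι q := fun q => rfl
  set p : Ideal k[X] := (IsLocalRing.maximalIdeal O).comap φ with hp
  haveI : p.IsPrime := Ideal.comap_isPrime φ _
  have hunit : ∀ q : k[X], q ∉ p → (ι q)⁻¹ ∈ O := by
    intro q hq
    have h1 : IsUnit (φ q) := IsLocalRing.notMem_maximalIdeal.1 hq
    obtain ⟨u, hu⟩ := h1.exists_right_inv
    have h2 : ι q * (u : RatFunc k) = 1 := by
      have := congrArg (fun x : O => (x : RatFunc k)) hu
      simpa [hφ] using this
    have h3 : (ι q)⁻¹ = (u : RatFunc k) := by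
      rw [inv_eq_iff_eq_inv, eq_comm]
      exact inv_eq_of_mul_eq_one_left h2
    rw [h3]; exact u.2
  have hpbot : p ≠ ⊥ := by
    intro hbot
    apply htop
    rw [eq_top_iff]
    intro z _
    rw [← RatFunc.num_div_denom z, div_eq_mul_inv]
    refine O.mul_mem _ _ (hpoly _) (hunit _ ?_)
    rw [hbot, Ideal.mem_bot]
    exact RatFunc.denom_ne_zero z
  refine ⟨⟨p, inferInstance, hpbot⟩, ?_⟩
  set v : HeightOneSpectrum k[X] := ⟨p, inferInstance, hpbot⟩ with hv
  ext z
  rw [Valuation.mem_valuationSubring_iff]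
  have hz : z = ι z.num / ι z.denom := (RatFunc.num_div_denom z).symm
  have hb0 : z.denom ≠ 0 := RatFunc.denom_ne_zero z
  have hιb0 : ι z.denom ≠ 0 := RatFunc.algebraMap_ne_zero hb0
  have hvle : ∀ q : k[X], v.valuation (RatFunc k) (ι q) ≤ 1 := fun q => v.valuation_le_one q
  have hvlt : ∀ q : k[X], v.valuation (RatFunc k) (ι q) < 1 ↔ q ∈ p := fun q =>
    v.valuation_lt_one_iff_mem q
  by_cases hb : z.denom ∈ p
  · have ha : z.num ∉ p := by
      intro ha
      have hcop := RatFunc.isCoprime_num_denom z
      obtain ⟨s, t, hst⟩ := hcop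
      have : (1 : k[X]) ∈ p := by
        rw [← hst]
        exact p.add_mem (p.mul_mem_left _ ha) (p.mul_mem_left _ hb)
      exact (Ideal.IsPrime.ne_top inferInstance) ((Ideal.eq_top_iff_one p).2 this)
    have h1 : v.valuation (RatFunc k) (ι z.num) = 1 :=
      le_antisymm (hvle _) (not_lt.1 (fun h => ha ((hvlt _).1 h)))
    have h2 : v.valuation (RatFunc k) (ι z.denom) < 1 := (hvlt _).2 hb
    have h20 : v.valuation (RatFunc k) (ι z.denom) ≠ 0 := (Valuation.ne_zero_iff _).2 hιb0
    constructor
    · intro hzO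
      exfalso
      apply ha
      change φ z.num ∈ IsLocalRing.maximalIdeal O
      have h3 : φ z.num = (⟨z, hzO⟩ : O) * φ z.denom := by
        apply Subtype.ext
        change ι z.num = z * ι z.denom
        exact (div_eq_iff hιb0).1 (RatFunc.num_div_denom z)
      rw [h3]
      exact Ideal.mul_mem_left _ _ hb
    · intro hle
      exfalso
      rw [hz, map_div₀, h1, div_le_iff₀ (zero_lt_iff.2 h20), one_mul] at hle
      exact absurd h2 (not_lt.2 hle)
  · have h2 : v.valuation (RatFunc k) (ι z.denom) = 1 :=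
      le_antisymm (hvle _) (not_lt.1 (fun h => hb ((hvlt _).1 h)))
    constructor
    · intro _
      rw [hz, map_div₀, h2, div_one]
      exact hvle _
    · intro _
      rw [hz, div_eq_mul_inv]
      exact O.mul_mem _ _ (hpoly _) (hunit _ hb)

open IsDedekindDomain in
theorem valuationSubring_ratFunc_iff [DecidableEq (RatFunc k)] (O : ValuationSubring (RatFunc k)) :
    ((algebraMap k (RatFunc k)).range ≤ O.toSubring ∧ O ≠ ⊤) ↔
      ((∃ v : HeightOneSpectrum k[X], O = (v.valuation (RatFunc k)).valuationSubring) ∨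
        O = (RatFunc.inftyValuation k).valuationSubring) := by
  constructor
  · rintro ⟨hk, htop⟩
    by_cases hX : (RatFunc.X : RatFunc k) ∈ O
    · exact Or.inl (exists_adic_of_X_mem O hk hX htop)
    · exact Or.inr (eq_infty_of_X_notMem O hk hX)
  · rintro (⟨v, rfl⟩ | rfl)
    · refine ⟨?_, ?_⟩
      · rintro _ ⟨c, rfl⟩
        change v.valuation (RatFunc k) (algebraMap k (RatFunc k) c) ≤ 1
        have : algebraMap k (RatFunc k) c = ι (Polynomial.C c) := by
          rw [RatFunc.algebraMap_C, RatFunc.algebraMap_eq_C]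
        rw [this]
        exact v.valuation_le_one _
      · intro htop
        obtain ⟨a, ha, ha0⟩ := Submodule.exists_mem_ne_zero_of_ne_bot v.ne_bot
        have h1 : v.valuation (RatFunc k) (ι a) < 1 := (v.valuation_lt_one_iff_mem a).2 ha
        have h0 : v.valuation (RatFunc k) (ι a) ≠ 0 :=
          (Valuation.ne_zero_iff _).2 (RatFunc.algebraMap_ne_zero ha0)
        have h2 : (ι a)⁻¹ ∈ (v.valuation (RatFunc k)).valuationSubring := by
          rw [htop]; trivial
        rw [Valuation.mem_valuationSubring_iff, map_inv₀, inv_le_one₀ (zero_lt_iff.2 h0)] at h2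
        exact absurd h1 (not_lt.2 h2)
    · refine ⟨?_, ?_⟩
      · rintro _ ⟨c, rfl⟩
        change RatFunc.inftyValuation k (algebraMap k (RatFunc k) c) ≤ 1
        rw [RatFunc.algebraMap_eq_C]
        by_cases hc : c = 0
        · rw [hc, map_zero, map_zero]; exact zero_le_one
        · rw [RatFunc.inftyValuation.C k hc]
      · intro htop
        have h2 : (RatFunc.X : RatFunc k) ∈ (RatFunc.inftyValuation k).valuationSubring := by
          rw [htop]; trivial
        rw [Valuation.mem_valuationSubring_iff, RatFunc.inftyValuation.X] at h2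
        have : (1 : WithZero (Multiplicative ℤ)) < WithZero.exp 1 := by
          rw [← WithZero.exp_zero, WithZero.exp_lt_exp]; norm_num
        exact absurd this (not_lt.2 h2)

end Groth.Agent.Lib.H40RatVal
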