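import Mathlib.Algebra.Squarefree.Basic
import Mathlib.Algebra.Polynomial.FieldDivision

set_option autoImplicit false
open Polynomial

namespace Groth.Agent.Lib.H40SqFree

/-- Every nonzero polynomial over a field is a square times a squarefree polynomial. -/
theorem exists_sq_mul_squarefree_aux {k : Type*} [Field k] : ∀ (n : ℕ) (g : k[X]), g ≠ 0 →
    g.natDegree = n → ∃ s f : k[X], s ≠ 0 ∧ Squarefree f ∧ g = s ^ 2 * f := by
  intro n
  induction n using Nat.strong_induction_on with
  | _ n ih =>
    intro g hg hn
    by_cases hsq : Squarefree g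
    · exact ⟨1, g, one_ne_zero, hsq, by ring⟩
    · unfold Squarefree at hsq
      push Not at hsq
      obtain ⟨u, ⟨g', hg'⟩, hu⟩ := hsq
      have hu0 : u ≠ 0 := by
        rintro rfl
        apply hg
        rw [hg']; ring
      have hg'0 : g' ≠ 0 := by
        rintro rfl
        apply hg
        rw [hg']; ring
      have hudeg : 0 < u.natDegree := by
        rw [Nat.pos_iff_ne_zero]
        intro h0
        apply hu
        rw [Polynomial.isUnit_iff_degree_eq_zero, Polynomial.degree_eq_natDegree hu0, h0]
        rfl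
      have hdeg : g'.natDegree < n := by
        rw [← hn, hg', natDegree_mul (mul_ne_zero hu0 hu0) hg'0, natDegree_mul hu0 hu0]
        omega
      obtain ⟨s, f, hs, hf, hsf⟩ := ih _ hdeg g' hg'0 rfl
      exact ⟨u * s, f, mul_ne_zero hu0 hs, hf, by rw [hg', hsf]; ring⟩

theorem exists_sq_mul_squarefree {k : Type*} [Field k] (g : k[X]) (hg : g ≠ 0) :
    ∃ s f : k[X], s ≠ 0 ∧ Squarefree f ∧ g = s ^ 2 * f :=
  exists_sq_mul_squarefree_aux _ g hg rfl

end Groth.Agent.Lib.H40SqFree
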