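import Mathlib
import Groth.Prelude.Def_EtRam
import Groth.Agent.Lib.H40AbhyB

/-!
# Abhyankar's lemma, construction with an Artinian hypothesis (helper40)

Same as `H40AbhyB` (section `Main`), with `Module.Finite κ(A) κ(A₁)` replaced by
`IsArtinianRing (κ(A₁) ⊗[A] κ(B))`, so that the roles of the two extensions can be exchanged
(`κ(B)/κ(A)` finite separable, `κ(A₁)/κ(A)` arbitrary).
-/

set_option autoImplicit false
set_option linter.unusedSectionVars false
universe u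

open TensorProduct IsLocalRing Polynomial

namespace Groth.Agent.Lib.H40TameA

open Groth.Agent.Lib.H40FSmoothB (phi Phi psi phi_tmul Phi_tmul psi_tmul psi_Phi Phi_surjective
  ker_Phi eF isReduced_F)
open Groth.Agent.Lib.H40AbhyB (geomReduced_of_surjective ker_Phi' c0 cbar isUnit_cbar fbar
  fbar_monic fbar_separable fbar_eq_map)

section Setup

variable {A A₁ B W : Type u} [CommRing A] [IsDomain A] [IsDiscreteValuationRing A]
  [CommRing A₁] [IsDomain A₁] [IsDiscreteValuationRing A₁]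
  [CommRing B] [IsDomain B] [IsDiscreteValuationRing B]
  [CommRing W] [IsDomain W] [IsDiscreteValuationRing W]
  [Algebra A A₁] [Algebra A B] [Algebra A₁ W] [Algebra B W] [Algebra A W]
  [IsScalarTower A A₁ W] [IsScalarTower A B W]
  [IsLocalHom (algebraMap A A₁)] [IsLocalHom (algebraMap A B)] [IsLocalHom (algebraMap A₁ W)]
  [IsLocalHom (algebraMap B W)] [IsLocalHom (algebraMap A W)]

variable (u : A₁ˣ) (b : Bˣ) (e : ℕ)

section Main

variable [Algebra.IsGeometricallyReduced (ResidueField A) (ResidueField B)]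
  [IsArtinianRing (ResidueField A₁ ⊗[A] ResidueField B)]

theorem isReduced_base :
    IsReduced (AlgebraicClosure (ResidueField A₁) ⊗[ResidueField A₁]
      (ResidueField A₁ ⊗[A] ResidueField B)) := by
  set Ω := AlgebraicClosure (ResidueField A₁)
  have h1 : IsReduced (Ω ⊗[ResidueField A] ResidueField B) :=
    Groth.Agent.Lib.GeomReducedFibres.isReduced_tensorProduct_of_isGeometricallyReduced
      (ResidueField A) (ResidueField B) Ω
  have hc : TensorProduct.CompatibleSMul A (ResidueField A) Ω (ResidueField B) :=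
    TensorProduct.CompatibleSMul.of_algebraMap_surjective _ _ Ideal.Quotient.mk_surjective
  let e1 : Ω ⊗[ResidueField A] ResidueField B ≃ₐ[Ω] Ω ⊗[A] ResidueField B :=
    Algebra.TensorProduct.equivOfCompatibleSMul A (ResidueField A) Ω Ω (ResidueField B)
  let e2 : Ω ⊗[ResidueField A₁] (ResidueField A₁ ⊗[A] ResidueField B) ≃ₐ[Ω]
      Ω ⊗[A] ResidueField B :=
    Algebra.TensorProduct.cancelBaseChange A (ResidueField A₁) Ω Ω (ResidueField B)
  exact isReduced_of_injective (e2.trans e1.symm) (e2.trans e1.symm).injective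

theorem vnr_E (he : 0 < e) (heu : IsUnit ((e : ℕ) : ResidueField A₁ ⊗[A] ResidueField B))
    (z : AdjoinRoot (fbar (A := A) u b e)) : ∃ y, z * z * y = z := by
  have h1 := isReduced_F A A₁ B
  have h3 : IsReduced (AdjoinRoot (fbar (A := A) u b e)) :=
    Groth.Agent.Lib.H40AbhyA.isReduced_adjoinRoot (fbar_monic u b e he) (fbar_separable u b e heu)
  have h4 : Module.Finite (ResidueField A₁ ⊗[A] ResidueField B) (AdjoinRoot (fbar (A := A) u b e)) :=
    (fbar_monic u b e he).finite_adjoinRoot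
  have h5 : IsArtinianRing (AdjoinRoot (fbar (A := A) u b e)) :=
    IsArtinianRing.of_finite (ResidueField A₁ ⊗[A] ResidueField B) _
  exact Groth.Agent.Lib.H40FSmoothA.vnr_of_artinian_reduced z

variable {u b e}

theorem eval_fbar {x : W} (hx : x ^ e = algebraMap A₁ W u * algebraMap B W ((b⁻¹ : Bˣ) : B)) :
    (fbar (A := A) u b e).eval₂ (psi A A₁ B W) (residue W x) = 0 := by
  rw [fbar, eval₂_sub, eval₂_pow, eval₂_X, eval₂_C]
  change _ - psi A A₁ B W (Phi A A₁ B (c0 u b)) = 0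
  rw [psi_Phi, c0, phi_tmul, ← hx, map_pow, sub_self]

/-- the map `(κ(A₁) ⊗ κ(B))[X]/(X^e - ū/b̄) → κ(W)`. -/
noncomputable def psi' {x : W} (hx : x ^ e = algebraMap A₁ W u * algebraMap B W ((b⁻¹ : Bˣ) : B)) :
    AdjoinRoot (fbar (A := A) u b e) →ₐ[ResidueField A₁] ResidueField W :=
  AdjoinRoot.liftAlgHom _ (psi A A₁ B W) (residue W x) (eval_fbar hx)

theorem psi'_mk_map {x : W} (hx : x ^ e = algebraMap A₁ W u * algebraMap B W ((b⁻¹ : Bˣ) : B))
    (P : (A₁ ⊗[A] B)[X]) :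
    psi' hx (AdjoinRoot.mk _ (P.map (Phi A A₁ B : A₁ ⊗[A] B →+*
      ResidueField A₁ ⊗[A] ResidueField B))) =
      residue W (P.eval₂ (phi A A₁ B W : A₁ ⊗[A] B →+* W) x) := by
  rw [psi', AdjoinRoot.liftAlgHom_mk, eval₂_map, hom_eval₂]
  congr 1
  exact RingHom.ext fun t => psi_Phi t

theorem psi'_annihilator (he : 0 < e)
    (heu : IsUnit ((e : ℕ) : ResidueField A₁ ⊗[A] ResidueField B)) {x : W}
    (hx : x ^ e = algebraMap A₁ W u * algebraMap B W ((b⁻¹ : Bˣ) : B))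
    (q : AdjoinRoot (fbar (A := A) u b e)) (hq : psi' hx q = 0) :
    ∃ s, psi' hx s = 1 ∧ s * q = 0 := by
  obtain ⟨y, hy⟩ := vnr_E u b e he heu q
  refine ⟨1 - q * y, by rw [map_sub, map_one, map_mul, hq, zero_mul, sub_zero], ?_⟩
  rw [sub_mul, one_mul, mul_comm (q * y) q, ← mul_assoc, hy, sub_self]

/-- evaluation `(A₁ ⊗[A] B)[X] → W` at `x`. -/
noncomputable def evalW (x : W) : (A₁ ⊗[A] B)[X] →+* W :=
  eval₂RingHom (phi A A₁ B W : A₁ ⊗[A] B →+* W) x

theorem evalW_apply (x : W) (P : (A₁ ⊗[A] B)[X]) :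
    evalW x P = P.eval₂ (phi A A₁ B W : A₁ ⊗[A] B →+* W) x := rfl

theorem star' (he : 0 < e)
    (heu : IsUnit ((e : ℕ) : ResidueField A₁ ⊗[A] ResidueField B)) {π₁ : A₁} {πB : B}
    (hπ₁ : maximalIdeal A₁ = Ideal.span {π₁}) (hπB : maximalIdeal B = Ideal.span {πB})
    {c : ℕ} (hc : 0 < c) {x : W}
    (hx : x ^ e = algebraMap A₁ W u * algebraMap B W ((b⁻¹ : Bˣ) : B))
    (hxπ : algebraMap B W πB = algebraMap A₁ W (π₁ ^ c) * x)
    (P : (A₁ ⊗[A] B)[X]) (hP : ¬ IsUnit (evalW (A := A) x P)) :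
    ∃ S Y : (A₁ ⊗[A] B)[X], IsUnit (evalW (A := A) x S) ∧
      evalW (A := A) x S * evalW (A := A) x P = algebraMap A₁ W π₁ * evalW (A := A) x Y := by
  set PhiR : A₁ ⊗[A] B →+* ResidueField A₁ ⊗[A] ResidueField B := ↑(Phi A A₁ B)
    with hPhiR
  have hz : psi' hx (AdjoinRoot.mk (fbar (A := A) u b e) (P.map PhiR)) = 0 := by
    rw [psi'_mk_map, residue_eq_zero_iff]
    exact (mem_maximalIdeal _).mpr hP
  obtain ⟨sb, hs1, hs0⟩ := psi'_annihilator he heu hx _ hz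
  obtain ⟨Sb, rfl⟩ := AdjoinRoot.mk_surjective sb
  obtain ⟨S, rfl⟩ := Polynomial.map_surjective PhiR Phi_surjective Sb
  rw [← map_mul, AdjoinRoot.mk_eq_zero, ← Polynomial.map_mul] at hs0
  obtain ⟨Hb, hHb⟩ := hs0
  obtain ⟨H, rfl⟩ := Polynomial.map_surjective PhiR Phi_surjective Hb
  have hker : S * P - (X ^ e - C (c0 (A := A) u b)) * H ∈ RingHom.ker (mapRingHom PhiR) := by
    rw [RingHom.mem_ker, coe_mapRingHom, Polynomial.map_sub, hHb, Polynomial.map_mul,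
      ← fbar_eq_map, sub_self]
  have hkk : RingHom.ker PhiR = Ideal.span {(π₁ ⊗ₜ[A] (1 : B) : A₁ ⊗[A] B),
      ((1 : A₁) ⊗ₜ[A] πB : A₁ ⊗[A] B)} := by
    rw [← ker_Phi' hπ₁ hπB]
    ext t
    rw [RingHom.mem_ker, RingHom.mem_ker]
    rfl
  rw [Polynomial.ker_mapRingHom, hkk, Ideal.map_span, Set.image_pair,
    Ideal.mem_span_pair] at hker
  obtain ⟨G₁, G₂, hG⟩ := hker
  have hev := congrArg (evalW (A := A) x) hG
  rw [map_add, map_mul, map_mul, map_sub, map_mul, map_mul, map_sub, map_pow] at hev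
  have e1 : evalW (A := A) x (C (π₁ ⊗ₜ[A] (1 : B))) = algebraMap A₁ W π₁ := by
    rw [evalW_apply, eval₂_C]
    change phi A A₁ B W _ = _
    rw [phi_tmul, map_one, mul_one]
  have e2 : evalW (A := A) x (C ((1 : A₁) ⊗ₜ[A] πB)) = algebraMap A₁ W (π₁ ^ c) * x := by
    rw [evalW_apply, eval₂_C]
    change phi A A₁ B W _ = _
    rw [phi_tmul, map_one, one_mul, hxπ]
  have e3 : evalW (A := A) x (C (c0 (A := A) u b)) = x ^ e := by
    rw [evalW_apply, eval₂_C]
    change phi A A₁ B W _ = _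
    rw [c0, phi_tmul, hx]
  have e4 : evalW (A := A) x (X : (A₁ ⊗[A] B)[X]) = x := by rw [evalW_apply, eval₂_X]
  rw [e1, e2, e3, e4, sub_self, zero_mul, sub_zero] at hev
  obtain ⟨c', rfl⟩ : ∃ c', c = c' + 1 := ⟨c - 1, by omega⟩
  refine ⟨S, G₁ + G₂ * C ((π₁ ^ c') ⊗ₜ[A] (1 : B)) * X, ?_, ?_⟩
  · rw [← residue_ne_zero_iff_isUnit, evalW_apply, ← psi'_mk_map hx, hs1]
    exact one_ne_zero
  · have e5 : evalW (A := A) x (C ((π₁ ^ c') ⊗ₜ[A] (1 : B))) = algebraMap A₁ W (π₁ ^ c') := by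
      rw [evalW_apply, eval₂_C]
      change phi A A₁ B W _ = _
      rw [phi_tmul, map_one, mul_one]
    rw [← hev, map_add, map_mul, map_mul, e4, e5, pow_succ, map_mul]
    ring

variable (A A₁ B) in
/-- the subring `(A₁ ⊗[A] B)[x]` of `W`. -/
noncomputable def R' (x : W) : Subring W := (evalW (A := A) (A₁ := A₁) (B := B) x).range

theorem hyps (he : 0 < e)
    (heu : IsUnit ((e : ℕ) : ResidueField A₁ ⊗[A] ResidueField B)) {π₁ : A₁} {πB : B}
    (hπ₁irr : Irreducible π₁) (hπB : maximalIdeal B = Ideal.span {πB})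
    {c : ℕ} (hc : 0 < c) {x : W}
    (hx : x ^ e = algebraMap A₁ W u * algebraMap B W ((b⁻¹ : Bˣ) : B))
    (hxπ : algebraMap B W πB = algebraMap A₁ W (π₁ ^ c) * x)
    (hinj : Function.Injective (algebraMap A₁ W))
    (hfrac : ∀ r : W, ∃ x' y' : A₁ ⊗[A] B, phi A A₁ B W y' ≠ 0 ∧
      r * phi A A₁ B W y' = phi A A₁ B W x') :
    ∃ p₁ : R' A A₁ B x, (p₁ : W) = algebraMap A₁ W π₁ ∧
      (R' A A₁ B x).subtype p₁ ≠ 0 ∧ ¬ IsUnit ((R' A A₁ B x).subtype p₁) ∧
      (∀ w : R' A A₁ B x, ¬ IsUnit ((R' A A₁ B x).subtype w) →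
        ∃ s y : R' A A₁ B x, IsUnit ((R' A A₁ B x).subtype s) ∧ s * w = p₁ * y) ∧
      (∀ r : W, ∃ x' y' : R' A A₁ B x, (R' A A₁ B x).subtype y' ≠ 0 ∧
        r * (R' A A₁ B x).subtype y' = (R' A A₁ B x).subtype x') := by
  have hπ₁ : maximalIdeal A₁ = Ideal.span {π₁} := hπ₁irr.maximalIdeal_eq
  have e1 : evalW (A := A) x (C (π₁ ⊗ₜ[A] (1 : B))) = algebraMap A₁ W π₁ := by
    rw [evalW_apply, eval₂_C]
    change phi A A₁ B W _ = _
    rw [phi_tmul, map_one, mul_one]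
  refine ⟨⟨algebraMap A₁ W π₁, ⟨_, e1⟩⟩, rfl, ?_, ?_, ?_, ?_⟩
  · exact fun h => hπ₁irr.ne_zero (hinj (h.trans (map_zero _).symm))
  · intro h
    have h1 : IsUnit π₁ := isUnit_of_map_unit (algebraMap A₁ W) π₁ h
    exact hπ₁irr.not_isUnit h1
  · rintro ⟨_, ⟨P, rfl⟩⟩ hw
    obtain ⟨S, Y, hS, hSY⟩ := star' he heu hπ₁ hπB hc hx hxπ P hw
    exact ⟨⟨_, ⟨S, rfl⟩⟩, ⟨_, ⟨Y, rfl⟩⟩, hS, Subtype.ext hSY⟩
  · intro r
    obtain ⟨x', y', hy', hxy⟩ := hfrac r
    have ex : ∀ t : A₁ ⊗[A] B, evalW (A := A) x (C t) = phi A A₁ B W t := fun t => by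
      rw [evalW_apply, eval₂_C]; rfl
    exact ⟨⟨_, ⟨C x', ex x'⟩⟩, ⟨_, ⟨C y', ex y'⟩⟩, hy', hxy⟩

theorem weaklyUnramified' (he : 0 < e)
    (heu : IsUnit ((e : ℕ) : ResidueField A₁ ⊗[A] ResidueField B)) {π₁ : A₁} {πB : B}
    (hπ₁irr : Irreducible π₁) (hπB : maximalIdeal B = Ideal.span {πB})
    {c : ℕ} (hc : 0 < c) {x : W}
    (hx : x ^ e = algebraMap A₁ W u * algebraMap B W ((b⁻¹ : Bˣ) : B))
    (hxπ : algebraMap B W πB = algebraMap A₁ W (π₁ ^ c) * x)
    (hinj : Function.Injective (algebraMap A₁ W))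
    (hfrac : ∀ r : W, ∃ x' y' : A₁ ⊗[A] B, phi A A₁ B W y' ≠ 0 ∧
      r * phi A A₁ B W y' = phi A A₁ B W x') :
    EtRam.IsWeaklyUnramified A₁ W := by
  obtain ⟨p₁, hp₁, h0, h1, hstar, hfrac'⟩ := hyps he heu hπ₁irr hπB hc hx hxπ hinj hfrac
  have hirr := Groth.Agent.Lib.H40FSmoothA.key_irreducible (R' A A₁ B x).subtype p₁ h0 h1 hstar
    hfrac'
  have hirr' : Irreducible (algebraMap A₁ W π₁) := by
    rw [← hp₁]; exact hirr
  change (maximalIdeal A₁).map (algebraMap A₁ W) = maximalIdeal W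
  rw [hπ₁irr.maximalIdeal_eq, Ideal.map_span, Set.image_singleton, hirr'.maximalIdeal_eq]

theorem psi'_surjective (he : 0 < e)
    (heu : IsUnit ((e : ℕ) : ResidueField A₁ ⊗[A] ResidueField B)) {π₁ : A₁} {πB : B}
    (hπ₁irr : Irreducible π₁) (hπB : maximalIdeal B = Ideal.span {πB})
    {c : ℕ} (hc : 0 < c) {x : W}
    (hx : x ^ e = algebraMap A₁ W u * algebraMap B W ((b⁻¹ : Bˣ) : B))
    (hxπ : algebraMap B W πB = algebraMap A₁ W (π₁ ^ c) * x)
    (hinj : Function.Injective (algebraMap A₁ W))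
    (hfrac : ∀ r : W, ∃ x' y' : A₁ ⊗[A] B, phi A A₁ B W y' ≠ 0 ∧
      r * phi A A₁ B W y' = phi A A₁ B W x') :
    Function.Surjective (psi' (A := A) hx) := by
  obtain ⟨p₁, hp₁, h0, h1, hstar, hfrac'⟩ := hyps he heu hπ₁irr hπB hc hx hxπ hinj hfrac
  set PhiR : A₁ ⊗[A] B →+* ResidueField A₁ ⊗[A] ResidueField B := ↑(Phi A A₁ B) with hPhiR
  intro z
  obtain ⟨w, rfl⟩ := residue_surjective z
  obtain ⟨⟨_, ⟨Pa, rfl⟩⟩, ⟨_, ⟨Pb, rfl⟩⟩, hb, hab⟩ :=
    Groth.Agent.Lib.H40FSmoothA.key_frac (R' A A₁ B x).subtype p₁ h0 h1 hstar hfrac' w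
  change IsUnit (evalW (A := A) x Pb) at hb
  change w * evalW (A := A) x Pb = evalW (A := A) x Pa at hab
  set zb := AdjoinRoot.mk (fbar (A := A) u b e) (Pb.map PhiR) with hzb
  set za := AdjoinRoot.mk (fbar (A := A) u b e) (Pa.map PhiR) with hza
  obtain ⟨y, hy⟩ := vnr_E u b e he heu zb
  have hzb' : psi' hx zb = residue W (evalW (A := A) x Pb) := psi'_mk_map hx Pb
  have hza' : psi' hx za = residue W (evalW (A := A) x Pa) := psi'_mk_map hx Pa
  have hb' : psi' hx zb ≠ 0 := by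
    rw [hzb', residue_ne_zero_iff_isUnit]; exact hb
  have hy' : psi' hx zb * psi' hx y = 1 := by
    have h1 := congrArg (psi' hx) hy
    rw [map_mul, map_mul, mul_assoc] at h1
    exact mul_left_cancel₀ hb' (h1.trans (mul_one _).symm)
  refine ⟨za * y, ?_⟩
  rw [map_mul, hza', ← hab, map_mul, ← hzb', mul_assoc, hy', mul_one]

theorem geomReduced' (he : 0 < e)
    (heu : IsUnit ((e : ℕ) : ResidueField A₁ ⊗[A] ResidueField B)) {x : W}
    (hx : x ^ e = algebraMap A₁ W u * algebraMap B W ((b⁻¹ : Bˣ) : B))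
    (hsurj : Function.Surjective (psi' (A := A) hx)) :
    Algebra.IsGeometricallyReduced (ResidueField A₁) (ResidueField W) := by
  refine geomReduced_of_surjective (psi' (A := A) hx) hsurj (psi'_annihilator he heu hx) ?_
  set Ω := AlgebraicClosure (ResidueField A₁)
  have hR₁ : IsReduced (Ω ⊗[ResidueField A₁] (ResidueField A₁ ⊗[A] ResidueField B)) :=
    isReduced_base (A := A) (A₁ := A₁) (B := B)
  let incl : ResidueField A₁ ⊗[A] ResidueField B →ₐ[ResidueField A₁]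
      Ω ⊗[ResidueField A₁] (ResidueField A₁ ⊗[A] ResidueField B) :=
    Algebra.TensorProduct.includeRight
  set q := (fbar (A := A) u b e).map incl.toRingHom with hq
  have hqm : q.Monic := (fbar_monic u b e he).map _
  have hqs : q.Separable := (fbar_separable u b e heu).map
  have h3 : IsReduced (AdjoinRoot q) := Groth.Agent.Lib.H40AbhyA.isReduced_adjoinRoot hqm hqs
  let E := AdjoinRoot.tensorAlgEquiv (R := ResidueField A₁) (T := Ω) (fbar (A := A) u b e) q rfl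
  exact isReduced_of_injective E E.injective

end Main

end Setup

end Groth.Agent.Lib.H40TameA
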