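import Mathlib
import Groth.Prelude.Def_EtRam
import Groth.Agent.Lib.H40TameA
import Groth.Agent.Lib.DVRExt

/-!
# Local tame base change, divisible case (helper40)

`A → A₁` an arbitrary extension of DVRs, `A → B` a tame one (finite separable residue extension,
ramification index `e` invertible in `κ(A)`), `W` a DVR dominating both and generated (as a field)
by them. If `e ∣ e(A₁/A)` then `A₁ → W` is weakly unramified with finite separable residue extension.
-/

set_option autoImplicit false
set_option linter.unusedSectionVars false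
universe u

open TensorProduct IsLocalRing Polynomial

namespace Groth.Agent.Lib.H40TameB

open Groth.Agent.Lib.H40FSmoothB (phi Phi psi phi_tmul eF)

section Field

/-- A finite separable field extension is geometrically reduced. -/
theorem geomReduced_of_finite_separable (k L : Type u) [Field k] [Field L] [Algebra k L]
    [FiniteDimensional k L] [Algebra.IsSeparable k L] : Algebra.IsGeometricallyReduced k L := by
  rw [Algebra.isGeometricallyReduced_field_iff]
  have : Algebra.FormallyUnramified k L := Algebra.FormallyUnramified.of_isSeparable k L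
  exact Algebra.FormallyUnramified.isReduced_of_field (AlgebraicClosure k) _

/-- A finite geometrically reduced field extension is separable (after helper72). -/
theorem isSeparable_of_geomReduced (k L : Type u) [Field k] [Field L] [Algebra k L]
    [Module.Finite k L] [Algebra.IsGeometricallyReduced k L] : Algebra.IsSeparable k L := by
  have hred : IsReduced (AlgebraicClosure k ⊗[k] L) :=
    (Algebra.isGeometricallyReduced_field_iff k L).mp inferInstance
  let kb := AlgebraicClosure k
  let B := kb ⊗[k] L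
  have : IsArtinianRing B := isArtinian_of_tower kb (inferInstance : IsArtinian kb B)
  let _ : ∀ m : MaximalSpectrum B, Field (B ⧸ m.asIdeal) := fun m => Ideal.Quotient.field m.asIdeal
  have hE : Algebra.FormallyEtale kb B := by
    rw [Algebra.FormallyEtale.iff_exists_algEquiv_prod]
    refine ⟨MaximalSpectrum B, inferInstance, fun m => B ⧸ m.asIdeal, inferInstance,
      inferInstance, (IsArtinianRing.equivPi B).restrictScalars kb, fun m => ?_⟩
    have : Algebra.IsAlgebraic kb (B ⧸ m.asIdeal) := Algebra.IsAlgebraic.of_finite kb _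
    infer_instance
  have : Algebra.FormallyUnramified kb B := inferInstance
  have : Algebra.FormallyUnramified k L :=
    Algebra.FormallyUnramified.of_formallyUnramified_tensorProduct_of_faithfullyFlat kb
  exact Algebra.FormallyUnramified.isSeparable k L

end Field

section Setup

variable {A A₁ B W : Type u} [CommRing A] [IsDomain A] [IsDiscreteValuationRing A]
  [CommRing A₁] [IsDomain A₁] [IsDiscreteValuationRing A₁]
  [CommRing B] [IsDomain B] [IsDiscreteValuationRing B]
  [CommRing W] [IsDomain W] [IsDiscreteValuationRing W]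
  [Algebra A A₁] [Algebra A B] [Algebra A₁ W] [Algebra B W] [Algebra A W]
  [IsScalarTower A A₁ W] [IsScalarTower A B W]
  [IsLocalHom (algebraMap A A₁)] [IsLocalHom (algebraMap A B)] [IsLocalHom (algebraMap A₁ W)]
  [IsLocalHom (algebraMap B W)] [IsLocalHom (algebraMap A W)]

theorem exists_x {π : A} {π₁ : A₁} {πB : B} {e c : ℕ} (he : 0 < e) {u : A₁ˣ} {b : Bˣ}
    (hu : algebraMap A A₁ π = u * π₁ ^ (e * c)) (hb : algebraMap A B π = b * πB ^ e)
    (hπ₁W : algebraMap A₁ W π₁ ≠ 0) :
    ∃ x : W, x ^ e = algebraMap A₁ W u * algebraMap B W ((b⁻¹ : Bˣ) : B) ∧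
      algebraMap B W πB = algebraMap A₁ W (π₁ ^ c) * x := by
  set P := algebraMap A₁ W (π₁ ^ c) with hP
  set Q := algebraMap B W πB with hQ
  set U := algebraMap A₁ W u with hU
  set Bb := algebraMap B W (b : B) with hBb
  set Bi := algebraMap B W ((b⁻¹ : Bˣ) : B) with hBi
  have hbi : Bb * Bi = 1 := by
    rw [hBb, hBi, ← map_mul, ← Units.val_mul, mul_inv_cancel, Units.val_one, map_one]
  have hP0 : P ≠ 0 := by
    rw [hP, map_pow]; exact pow_ne_zero _ hπ₁W
  have key : U * P ^ e = Bb * Q ^ e := by
    have h1 : algebraMap A₁ W (algebraMap A A₁ π) = algebraMap B W (algebraMap A B π) := by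
      rw [← IsScalarTower.algebraMap_apply, ← IsScalarTower.algebraMap_apply]
    rw [hu, hb, map_mul, map_mul, map_pow, map_pow] at h1
    rw [hP, map_pow, ← pow_mul, mul_comm c e]
    exact h1
  rcases ValuationRing.dvd_total P Q with ⟨x, hx⟩ | ⟨y, hy⟩
  · refine ⟨x, ?_, hx⟩
    rw [hx, mul_pow] at key
    have h2 : P ^ e * U = P ^ e * (Bb * x ^ e) := by linear_combination key
    have h3 : U = Bb * x ^ e := mul_left_cancel₀ (pow_ne_zero e hP0) h2
    rw [h3, mul_comm Bb, mul_assoc, hbi, mul_one]
  · have hQ0 : Q ≠ 0 := by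
      intro h
      rw [h, zero_mul] at hy
      exact hP0 hy
    rw [hy, mul_pow] at key
    have h2 : Q ^ e * (U * y ^ e) = Q ^ e * Bb := by linear_combination key
    have h3 : U * y ^ e = Bb := mul_left_cancel₀ (pow_ne_zero e hQ0) h2
    obtain ⟨e', rfl⟩ : ∃ e', e = e' + 1 := ⟨e - 1, by omega⟩
    have hyx : y * (y ^ e' * U * Bi) = 1 := by
      have : y * (y ^ e' * U * Bi) = U * y ^ (e' + 1) * Bi := by ring
      rw [this, h3, hbi]
    refine ⟨y ^ e' * U * Bi, ?_, ?_⟩
    · have h4 : (y ^ e' * U * Bi) ^ (e' + 1) * y ^ (e' + 1) = 1 := by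
        rw [← mul_pow, mul_comm, hyx, one_pow]
      calc (y ^ e' * U * Bi) ^ (e' + 1)
          = (y ^ e' * U * Bi) ^ (e' + 1) * (U * y ^ (e' + 1) * Bi) := by
            rw [h3, hbi, mul_one]
        _ = ((y ^ e' * U * Bi) ^ (e' + 1) * y ^ (e' + 1)) * (U * Bi) := by ring
        _ = U * Bi := by rw [h4, one_mul]
    · rw [hy, mul_assoc, hyx, mul_one]

theorem main (hinjB : Function.Injective (algebraMap A B))
    (hinjA₁ : Function.Injective (algebraMap A A₁))
    (hinjA₁W : Function.Injective (algebraMap A₁ W))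
    [Module.Finite (ResidueField A) (ResidueField B)]
    [Algebra.IsSeparable (ResidueField A) (ResidueField B)]
    (hek : ((Ideal.ramificationIdx' (maximalIdeal A) (maximalIdeal B) : ℕ) : ResidueField A) ≠ 0)
    (hdiv : Ideal.ramificationIdx' (maximalIdeal A) (maximalIdeal B) ∣
      Ideal.ramificationIdx' (maximalIdeal A) (maximalIdeal A₁))
    (hfrac : ∀ r : W, ∃ x' y' : A₁ ⊗[A] B, phi A A₁ B W y' ≠ 0 ∧
      r * phi A A₁ B W y' = phi A A₁ B W x') :
    EtRam.IsWeaklyUnramified A₁ W ∧ Module.Finite (ResidueField A₁) (ResidueField W) ∧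
      Algebra.IsSeparable (ResidueField A₁) (ResidueField W) := by
  obtain ⟨π, hπ⟩ := IsDiscreteValuationRing.exists_irreducible A
  obtain ⟨πB, hπB⟩ := IsDiscreteValuationRing.exists_irreducible B
  obtain ⟨π₁, hπ₁⟩ := IsDiscreteValuationRing.exists_irreducible A₁
  obtain ⟨e, b, he, hb⟩ := Groth.Agent.Lib.DVRExt.exists_map_uniformizer hinjB hπ hπB
  obtain ⟨e₁, u, he₁, hu⟩ := Groth.Agent.Lib.DVRExt.exists_map_uniformizer hinjA₁ hπ hπ₁
  have hE : Ideal.ramificationIdx' (maximalIdeal A) (maximalIdeal B) = e :=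
    Groth.Agent.Lib.DVRExt.ramificationIdx'_eq hπ hπB hb
  have hE₁ : Ideal.ramificationIdx' (maximalIdeal A) (maximalIdeal A₁) = e₁ :=
    Groth.Agent.Lib.DVRExt.ramificationIdx'_eq hπ hπ₁ hu
  rw [hE, hE₁] at hdiv
  rw [hE] at hek
  obtain ⟨c, rfl⟩ := hdiv
  have hc : 0 < c := Nat.pos_of_mul_pos_left he₁
  have hπ₁W : algebraMap A₁ W π₁ ≠ 0 := fun h => hπ₁.ne_zero (hinjA₁W (h.trans (map_zero _).symm))
  obtain ⟨x, hx, hxπ⟩ := exists_x (W := W) he hu hb hπ₁W
  have hgr : Algebra.IsGeometricallyReduced (ResidueField A) (ResidueField B) :=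
    geomReduced_of_finite_separable _ _
  have hart : IsArtinianRing (ResidueField A₁ ⊗[A] ResidueField B) := by
    have h1 : Module.Finite (ResidueField A₁) (ResidueField A₁ ⊗[ResidueField A] ResidueField B) :=
      inferInstance
    have h2 : IsArtinianRing (ResidueField A₁ ⊗[ResidueField A] ResidueField B) :=
      IsArtinianRing.of_finite (ResidueField A₁) _
    exact Function.Surjective.isArtinianRing (f := (eF A A₁ B).toRingEquiv.toRingHom)
      (eF A A₁ B).surjective
  have hfinF : Module.Finite (ResidueField A₁) (ResidueField A₁ ⊗[A] ResidueField B) := by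
    have h1 : Module.Finite (ResidueField A₁) (ResidueField A₁ ⊗[ResidueField A] ResidueField B) :=
      inferInstance
    exact Module.Finite.of_surjective (eF A A₁ B).toLinearMap (eF A A₁ B).surjective
  have heu : IsUnit ((e : ℕ) : ResidueField A₁ ⊗[A] ResidueField B) := by
    have h1 : ((e : ℕ) : ResidueField A₁ ⊗[A] ResidueField B) =
        algebraMap (ResidueField A) (ResidueField A₁ ⊗[A] ResidueField B)
          ((e : ℕ) : ResidueField A) := (map_natCast _ e).symm
    rw [h1]
    exact (IsUnit.mk0 _ hek).map _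
  have hπBmax : maximalIdeal B = Ideal.span {πB} := hπB.maximalIdeal_eq
  have h1 := Groth.Agent.Lib.H40TameA.weaklyUnramified' he heu hπ₁ hπBmax hc hx hxπ hinjA₁W hfrac
  have hs := Groth.Agent.Lib.H40TameA.psi'_surjective he heu hπ₁ hπBmax hc hx hxπ hinjA₁W hfrac
  have h2 := Groth.Agent.Lib.H40TameA.geomReduced' he heu hx hs
  have hfinE : Module.Finite (ResidueField A₁ ⊗[A] ResidueField B)
      (AdjoinRoot (Groth.Agent.Lib.H40AbhyB.fbar (A := A) u b e)) :=
    (Groth.Agent.Lib.H40AbhyB.fbar_monic u b e he).finite_adjoinRoot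
  have hfinE' : Module.Finite (ResidueField A₁)
      (AdjoinRoot (Groth.Agent.Lib.H40AbhyB.fbar (A := A) u b e)) :=
    Module.Finite.trans (ResidueField A₁ ⊗[A] ResidueField B) _
  have h3 : Module.Finite (ResidueField A₁) (ResidueField W) :=
    Module.Finite.of_surjective (Groth.Agent.Lib.H40TameA.psi' (A := A) hx).toLinearMap hs
  exact ⟨h1, h3, isSeparable_of_geomReduced _ _⟩

end Setup

end Groth.Agent.Lib.H40TameB
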