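import Mathlib
import Groth.Prelude.Def_EtRam
import Groth.Agent.Lib.H40TameB
import Groth.Agent.Lib.H40FSmoothC
import Groth.Agent.Lib.DVRExt

/-!
# Tame extensions become unramified after a divisible base change (helper40)

`A ⊂ B` DVRs with fraction fields `K ⊂ L`, `K'/K` finite and tamely ramified w.r.t. `A`, such that
every ramification index of `K'/K` divides `e(B/A)`. Then every compositum `M = L K'` is
unramified over `L` with respect to `B`.
-/

set_option autoImplicit false
set_option linter.unusedSectionVars false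
universe u

open TensorProduct IsLocalRing

namespace Groth.Agent.Lib.H40TameC

open Groth.Agent.Lib.H40FSmoothC

section Main

variable {A B K L : Type u} [CommRing A] [IsDomain A] [IsDiscreteValuationRing A]
  [CommRing B] [IsDomain B] [IsDiscreteValuationRing B] [Algebra A B] [IsLocalHom (algebraMap A B)]
  [Field K] [Field L] [Algebra A K] [IsFractionRing A K] [Algebra B L] [IsFractionRing B L]
  [Algebra K L] [Algebra A L] [IsScalarTower A K L] [IsScalarTower A B L]

/-- a natural number prime to the residue characteristic is nonzero in the residue field. -/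
theorem natCast_ne_zero_of_tame (k : Type*) [Field k] {e : ℕ} (he : 0 < e)
    (h : ∀ p : ℕ, p.Prime → CharP k p → ¬ p ∣ e) : ((e : ℕ) : k) ≠ 0 := by
  obtain ⟨p, hp⟩ := CharP.exists k
  rcases CharP.char_is_prime_or_zero k p with hp' | hp'
  · rw [Ne, CharP.cast_eq_zero_iff k p e]
    exact h p hp' hp
  · subst hp'
    have : CharZero k := CharP.charP_to_charZero k
    exact Nat.cast_ne_zero.mpr he.ne'

theorem isUnramifiedExt_of_dvd (hinj : Function.Injective (algebraMap A B))
    (K' : Type u) [Field K'] [Algebra K K'] [FiniteDimensional K K']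
    (h : EtRam.IsTamelyRamified A ((algebraMap K K').comp (algebraMap A K)))
    (N : ℕ)
    (hN : ∀ (V' : ValuationSubring K')
      (hV' : EtRam.Dominates A ((algebraMap K K').comp (algebraMap A K)) V'),
      letI : Algebra A V' := (RingHom.codRestrict _ V' hV'.1).toAlgebra
      Ideal.ramificationIdx' (maximalIdeal A) (maximalIdeal V') ∣ N)
    (hNB : N ∣ Ideal.ramificationIdx' (maximalIdeal A) (maximalIdeal B))
    (M : Type u) [Field M] [Algebra K M] [Algebra L M] [Algebra K' M] [IsScalarTower K L M]
    [IsScalarTower K K' M]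
    (hadj : Algebra.adjoin L (Set.range (algebraMap K' M)) = ⊤) :
    EtRam.IsUnramifiedExt B ((algebraMap L M).comp (algebraMap B L)) := by
  intro W hW
  let _ : Algebra A K' := ((algebraMap K K').comp (algebraMap A K)).toAlgebra
  have : IsScalarTower A K K' := IsScalarTower.of_algebraMap_eq (fun _ => rfl)
  let _ : Algebra B M := ((algebraMap L M).comp (algebraMap B L)).toAlgebra
  have : IsScalarTower B L M := IsScalarTower.of_algebraMap_eq (fun _ => rfl)
  set f : K' →+* M := algebraMap K' M with hf
  have hW' : EtRam.Dominates B (algebraMap B M) W := hW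
  have hcompat : ∀ a : A, f (algebraMap A K' a) = algebraMap B M (algebraMap A B a) := by
    intro a
    change algebraMap K' M (algebraMap K K' (algebraMap A K a)) =
      algebraMap L M (algebraMap B L (algebraMap A B a))
    rw [← IsScalarTower.algebraMap_apply K K' M, IsScalarTower.algebraMap_apply K L M,
      ← IsScalarTower.algebraMap_apply A K L, IsScalarTower.algebraMap_apply A B L]
  have hloc3 : maximalIdeal A ≤ (maximalIdeal B).comap (algebraMap A B) :=
    ((local_hom_TFAE (algebraMap A B)).out 0 3).mp ‹IsLocalHom (algebraMap A B)›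
  have hA : ∀ a : A, algebraMap A K' a ∈ W.comap f := by
    intro a
    rw [ValuationSubring.mem_comap, hcompat]
    exact hW'.1 _
  have hV'dom : EtRam.Dominates A (algebraMap A K') (W.comap f) := by
    refine ⟨hA, fun a ha => ?_⟩
    rw [Groth.Agent.Lib.H40TotRamStruct.comap_val_lt_one_iff, hcompat]
    exact hW'.2 _ (hloc3 ha)
  have hfdLM : FiniteDimensional L M := finiteDimensional_of_adjoin (K := K) hadj
  have hdvrW : IsDiscreteValuationRing W := isDVR_of_dominates (K := L) W hW'
  have hdvrV' : IsDiscreteValuationRing (W.comap f) := isDVR_of_dominates (K := K) _ hV'dom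
  -- algebra structures
  let _ : Algebra A (W.comap f) :=
    (RingHom.codRestrict ((algebraMap K K').comp (algebraMap A K)) (W.comap f) hA).toAlgebra
  let _ : Algebra B W := (RingHom.codRestrict (algebraMap B M) W hW'.1).toAlgebra
  let _ : Algebra (W.comap f) W := (EtRam.inclOfComap W f).toAlgebra
  let _ : Algebra A W := ((algebraMap B W).comp (algebraMap A B)).toAlgebra
  have : IsScalarTower A B W := IsScalarTower.of_algebraMap_eq (fun _ => rfl)
  have : IsScalarTower A (W.comap f) W := IsScalarTower.of_algebraMap_eq (fun a => by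
    apply Subtype.ext
    exact (hcompat a).symm)
  have : IsLocalHom (algebraMap A (W.comap f)) :=
    Groth.Agent.Lib.ValDVR76.isLocalHom_codRestrict _ _ hV'dom
  have : IsLocalHom (algebraMap B W) := Groth.Agent.Lib.ValDVR76.isLocalHom_codRestrict _ _ hW'
  have : IsLocalHom (algebraMap (W.comap f) W) := EtRam.isLocalHom_inclOfComap W f
  have : IsLocalHom (algebraMap A W) := by
    change IsLocalHom ((algebraMap B W).comp (algebraMap A B))
    exact RingHom.isLocalHom_comp _ _
  have hfinres : Module.Finite (ResidueField A) (ResidueField (W.comap f)) :=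
    finite_residue (K := K) (W.comap f) hV'dom (fun _ => rfl)
  obtain ⟨hsep, htame⟩ := h (W.comap f) hV'dom
  have hdivN := hN (W.comap f) hV'dom
  have hinjAK' : Function.Injective (algebraMap A K') :=
    Groth.Agent.Lib.H40TotRamCriterion.algebraMap_injective' (K := K)
  have hinjV' : Function.Injective (algebraMap A (W.comap f)) := by
    intro a a' h
    exact hinjAK' (congrArg Subtype.val h)
  have hinjBM : Function.Injective (algebraMap B M) := by
    change Function.Injective ((algebraMap L M).comp (algebraMap B L))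
    exact (algebraMap L M).injective.comp (IsFractionRing.injective B L)
  have hinjBW : Function.Injective (algebraMap B W) := by
    intro b b' h
    exact hinjBM (congrArg Subtype.val h)
  have hepos : 0 < Ideal.ramificationIdx' (maximalIdeal A) (maximalIdeal (W.comap f)) := by
    obtain ⟨π, hπ⟩ := IsDiscreteValuationRing.exists_irreducible A
    obtain ⟨π₁, hπ₁⟩ := IsDiscreteValuationRing.exists_irreducible (W.comap f)
    obtain ⟨e₁, u, he₁, hu⟩ := Groth.Agent.Lib.DVRExt.exists_map_uniformizer hinjV' hπ hπ₁
    rw [Groth.Agent.Lib.DVRExt.ramificationIdx'_eq hπ hπ₁ hu]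
    exact he₁
  have hek : ((Ideal.ramificationIdx' (maximalIdeal A) (maximalIdeal (W.comap f)) : ℕ) :
      ResidueField A) ≠ 0 := natCast_ne_zero_of_tame _ hepos htame
  -- fractions
  have hφ : ∀ (b : B) (a : W.comap f),
      ((Groth.Agent.Lib.H40FSmoothB.phi A B (W.comap f) W (b ⊗ₜ[A] a) : W) : M) =
        algebraMap B M b * f (a : K') := by
    intro b a
    rw [Groth.Agent.Lib.H40FSmoothB.phi_tmul]
    rfl
  have hP : ∀ m : M, ∃ x y : B ⊗[A] (W.comap f),
      ((Groth.Agent.Lib.H40FSmoothB.phi A B (W.comap f) W y : W) : M) ≠ 0 ∧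
      m * ((Groth.Agent.Lib.H40FSmoothB.phi A B (W.comap f) W y : W) : M) =
        ((Groth.Agent.Lib.H40FSmoothB.phi A B (W.comap f) W x : W) : M) := by
    intro m
    have hm : m ∈ Submodule.span L (Set.range (algebraMap K' M)) := by
      rw [span_range_eq_top hadj]; trivial
    induction hm using Submodule.span_induction with
    | mem x h =>
      obtain ⟨k, rfl⟩ := h
      by_cases hk : k ∈ W.comap f
      · refine ⟨(1 : B) ⊗ₜ[A] (⟨k, hk⟩ : W.comap f), 1, ?_, ?_⟩
        · rw [map_one]; exact one_ne_zero
        · rw [map_one, hφ, map_one, one_mul]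
          simp
          rfl
      · have hk' : k⁻¹ ∈ W.comap f := ((W.comap f).mem_or_inv_mem k).resolve_left hk
        have hk0 : k ≠ 0 := fun h => hk (h ▸ (W.comap f).zero_mem)
        refine ⟨1, (1 : B) ⊗ₜ[A] (⟨k⁻¹, hk'⟩ : W.comap f), ?_, ?_⟩
        · rw [hφ, map_one, one_mul]
          exact (map_ne_zero f).mpr (inv_ne_zero hk0)
        · rw [hφ, map_one, one_mul, map_one]
          change f k * f k⁻¹ = 1
          rw [← map_mul, mul_inv_cancel₀ hk0, map_one]
    | zero =>
      refine ⟨0, 1, ?_, ?_⟩
      · rw [map_one]; exact one_ne_zero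
      · rw [zero_mul, map_zero]; rfl
    | add m₁ m₂ _ _ h₁ h₂ =>
      obtain ⟨x₁, y₁, hy₁, e₁⟩ := h₁
      obtain ⟨x₂, y₂, hy₂, e₂⟩ := h₂
      refine ⟨x₁ * y₂ + x₂ * y₁, y₁ * y₂, ?_, ?_⟩
      · rw [map_mul]
        exact mul_ne_zero hy₁ hy₂
      · rw [map_mul, map_add, map_mul, map_mul]
        push_cast
        rw [← e₁, ← e₂]
        ring
    | smul a m _ h =>
      obtain ⟨x, y, hy, e⟩ := h
      obtain ⟨b, β, hβ, rfl⟩ := IsFractionRing.div_surjective (A := B) a
      have hβ0 : algebraMap B L β ≠ 0 :=
        IsFractionRing.to_map_ne_zero_of_mem_nonZeroDivisors hβ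
      have hβM : algebraMap B M β ≠ 0 := by
        change algebraMap L M (algebraMap B L β) ≠ 0
        exact (map_ne_zero _).mpr hβ0
      have h1 : ∀ c : B, ((Groth.Agent.Lib.H40FSmoothB.phi A B (W.comap f) W
          (c ⊗ₜ[A] (1 : W.comap f)) : W) : M) = algebraMap B M c := by
        intro c
        rw [hφ]
        simp
      refine ⟨x * (b ⊗ₜ[A] (1 : W.comap f)), y * (β ⊗ₜ[A] (1 : W.comap f)), ?_, ?_⟩
      · rw [map_mul]
        push_cast
        rw [h1]
        exact mul_ne_zero hy hβM
      · rw [map_mul, map_mul]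
        push_cast
        rw [h1, h1, ← e, Algebra.smul_def, map_div₀]
        change algebraMap L M (algebraMap B L b) / algebraMap L M (algebraMap B L β) * m * _ = _
        change _ * (_ * algebraMap L M (algebraMap B L β)) = _ * algebraMap L M (algebraMap B L b)
        have hβ' : algebraMap L M (algebraMap B L β) ≠ 0 := (map_ne_zero _).mpr hβ0
        field_simp
  have hfrac : ∀ r : W, ∃ x y : B ⊗[A] (W.comap f),
      Groth.Agent.Lib.H40FSmoothB.phi A B (W.comap f) W y ≠ 0 ∧
      r * Groth.Agent.Lib.H40FSmoothB.phi A B (W.comap f) W y =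
        Groth.Agent.Lib.H40FSmoothB.phi A B (W.comap f) W x := by
    intro r
    obtain ⟨x, y, hy, e⟩ := hP (r : M)
    refine ⟨x, y, fun h => hy (by rw [h]; rfl), Subtype.ext ?_⟩
    push_cast
    exact e
  have hmain := Groth.Agent.Lib.H40TameB.main (A := A) (A₁ := B) (B := W.comap f) (W := W)
    hinjV' hinj hinjBW hek (hdivN.trans hNB) hfrac
  intro _
  exact ⟨hmain.1, hmain.2.2⟩

end Main

end Groth.Agent.Lib.H40TameC
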