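import Mathlib
import Groth.Prelude.Def_EtRam
import Groth.Agent.Lib.H40TameC
import Groth.Agent.Lib.H40EFBasis

/-!
# The inequality `e f ≤ n` and a uniform ramification index for tame extensions (helper40)
-/

set_option autoImplicit false
set_option linter.unusedSectionVars false
universe u

open IsLocalRing

namespace Groth.Agent.Lib.H40TameD

open Groth.Agent.Lib.H40FSmoothC

section Bound

variable {A K N : Type u} [CommRing A] [IsDomain A] [IsDiscreteValuationRing A] [Field K]
  [Algebra A K] [IsFractionRing A K] [Field N] [Algebra K N] [Algebra A N] [IsScalarTower A K N]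
  [FiniteDimensional K N]

include K in
/-- the inequality `e f ≤ n` for a discrete valuation ring of a finite extension. -/
theorem ef_le_finrank (V : ValuationSubring N) (hV : EtRam.Dominates A (algebraMap A N) V)
    [Algebra A V] (halg : ∀ a : A, ((algebraMap A V a : V) : N) = algebraMap A N a)
    [IsLocalHom (algebraMap A V)] [IsDiscreteValuationRing V]
    {f : ℕ} (x : Fin f → ResidueField V) (hx : LinearIndependent (ResidueField A) x) :
    Ideal.ramificationIdx' (maximalIdeal A) (maximalIdeal V) * f ≤ Module.finrank K N := by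
  classical
  obtain ⟨π, hπirr⟩ := IsDiscreteValuationRing.exists_irreducible A
  obtain ⟨ϱ, hϱirr⟩ := IsDiscreteValuationRing.exists_irreducible V
  have hπ : maximalIdeal A = Ideal.span {π} := hπirr.maximalIdeal_eq
  have hinjN : Function.Injective (algebraMap A N) :=
    Groth.Agent.Lib.H40TotRamCriterion.algebraMap_injective' (K := K)
  have hinj : Function.Injective (algebraMap A V) := by
    intro a a' h
    apply hinjN
    rw [← halg, ← halg, h]
  obtain ⟨e, u, he, hu⟩ := Groth.Agent.Lib.DVRExt.exists_map_uniformizer hinj hπirr hϱirr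
  rw [Groth.Agent.Lib.DVRExt.ramificationIdx'_eq hπirr hϱirr hu]
  choose lift hlift using fun y : ResidueField V => residue_surjective y
  let z : Fin f → N := fun j => ((lift (x j) : V) : N)
  have hz : ∀ j, z j ∈ V := fun j => (lift (x j)).2
  have hind : ∀ a : Fin f → A, V.valuation (∑ j, algebraMap A N (a j) * z j) < 1 →
      ∀ j, a j ∈ maximalIdeal A := by
    intro a ha
    have hmem : (∑ j, algebraMap A V (a j) * lift (x j) : V) ∈ maximalIdeal V := by
      rw [ValuationSubring.valuation_lt_one_iff]
      convert ha using 2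
      push_cast
      refine Finset.sum_congr rfl (fun j _ => ?_)
      rw [halg]
    have hres := (residue_eq_zero_iff _).mpr hmem
    rw [map_sum] at hres
    have hres' : ∑ j, residue A (a j) • x j = 0 := by
      rw [← hres]
      refine Finset.sum_congr rfl (fun j _ => ?_)
      rw [map_mul, hlift, Algebra.smul_def]
      rfl
    have h0 := Fintype.linearIndependent_iff.mp hx (fun j => residue A (a j)) hres'
    intro j
    exact (residue_eq_zero_iff _).mp (h0 j)
  have hθ : V.valuation ((ϱ : V) : N) ^ e = V.valuation (algebraMap A N π) := by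
    rw [← halg, hu]
    push_cast
    rw [map_mul, map_pow, V.valuation_unit u, one_mul]
  have hli := Groth.Agent.Lib.H40EFBasis.ef_linearIndependent (K := K) hπ he hV hθ z hz hind
  have hcard := hli.fintype_card_le_finrank
  rw [Fintype.card_prod, Fintype.card_fin, Fintype.card_fin] at hcard
  exact hcard

include K in
theorem ramificationIdx'_le_finrank (V : ValuationSubring N)
    (hV : EtRam.Dominates A (algebraMap A N) V)
    [Algebra A V] (halg : ∀ a : A, ((algebraMap A V a : V) : N) = algebraMap A N a)
    [IsLocalHom (algebraMap A V)] [IsDiscreteValuationRing V] :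
    Ideal.ramificationIdx' (maximalIdeal A) (maximalIdeal V) ≤ Module.finrank K N := by
  have hli : LinearIndependent (ResidueField A) (fun _ : Fin 1 => (1 : ResidueField V)) :=
    LinearIndependent.of_subsingleton (0 : Fin 1) one_ne_zero
  have := ef_le_finrank (K := K) V hV halg _ hli
  rwa [mul_one] at this

include K in
/-- if `e ≥ n` then the residue field extension is trivial. -/
theorem residue_surjective_of_le (V : ValuationSubring N)
    (hV : EtRam.Dominates A (algebraMap A N) V)
    [Algebra A V] (halg : ∀ a : A, ((algebraMap A V a : V) : N) = algebraMap A N a)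
    [IsLocalHom (algebraMap A V)] [IsDiscreteValuationRing V]
    (hle : Module.finrank K N ≤ Ideal.ramificationIdx' (maximalIdeal A) (maximalIdeal V)) :
    Function.Surjective (algebraMap (ResidueField A) (ResidueField V)) := by
  intro y
  by_contra hcon
  have hli : LinearIndependent (ResidueField A) ![(1 : ResidueField V), y] := by
    rw [LinearIndependent.pair_iff]
    intro s t hst
    have ht : t = 0 := by
      by_contra ht
      apply hcon
      refine ⟨-(s / t), ?_⟩
      have h1 : s • (1 : ResidueField V) = -(t • y) := eq_neg_of_add_eq_zero_left hst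
      rw [Algebra.smul_def, mul_one, Algebra.smul_def] at h1
      have ht' : algebraMap (ResidueField A) (ResidueField V) t ≠ 0 :=
        (map_ne_zero _).mpr ht
      rw [map_neg, map_div₀, h1]
      field_simp
    rw [ht, zero_smul, add_zero, Algebra.smul_def, mul_one] at hst
    exact ⟨(map_eq_zero _).mp hst, ht⟩
  have h1 := ef_le_finrank (K := K) V hV halg _ hli
  have hpos : 0 < Module.finrank K N := Module.finrank_pos
  omega

end Bound

section E0

variable {A K : Type u} [CommRing A] [IsDomain A] [IsDiscreteValuationRing A] [Field K]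
  [Algebra A K] [IsFractionRing A K]

/-- a uniform multiple of all ramification indices of a tame extension. -/
theorem exists_e0 (K' : Type u) [Field K'] [Algebra K K'] [FiniteDimensional K K']
    (h : EtRam.IsTamelyRamified A ((algebraMap K K').comp (algebraMap A K))) :
    ∃ e₀ : ℕ, 2 ≤ e₀ ∧ ((e₀ : ℕ) : ResidueField A) ≠ 0 ∧
      ∀ (V' : ValuationSubring K')
        (hV' : EtRam.Dominates A ((algebraMap K K').comp (algebraMap A K)) V'),
        letI : Algebra A V' := (RingHom.codRestrict _ V' hV'.1).toAlgebra
        Ideal.ramificationIdx' (maximalIdeal A) (maximalIdeal V') ∣ e₀ := by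
  classical
  let _ : Algebra A K' := ((algebraMap K K').comp (algebraMap A K)).toAlgebra
  have : IsScalarTower A K K' := IsScalarTower.of_algebraMap_eq (fun _ => rfl)
  set n := Module.finrank K K' with hn
  set S := (Finset.Icc 1 n).filter (fun i : ℕ => ((i : ℕ) : ResidueField A) ≠ 0) with hS
  set P := ∏ i ∈ S, i with hP
  obtain ⟨c, hc2, hc0⟩ : ∃ c : ℕ, 2 ≤ c ∧ ((c : ℕ) : ResidueField A) ≠ 0 := by
    by_cases h2 : ((2 : ℕ) : ResidueField A) = 0
    · refine ⟨3, by norm_num, ?_⟩
      have : ((3 : ℕ) : ResidueField A) = ((2 : ℕ) : ResidueField A) + 1 := by push_cast; norm_num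
      rw [this, h2, zero_add]
      exact one_ne_zero
    · exact ⟨2, le_rfl, h2⟩
  have hPpos : 0 < P := Finset.prod_pos (fun i hi => by
    rw [hS, Finset.mem_filter, Finset.mem_Icc] at hi
    omega)
  have hP0 : ((P : ℕ) : ResidueField A) ≠ 0 := by
    rw [hP, Nat.cast_prod, Finset.prod_ne_zero_iff]
    intro i hi
    rw [hS, Finset.mem_filter] at hi
    exact hi.2
  refine ⟨c * P, ?_, ?_, ?_⟩
  · calc 2 ≤ c * 1 := by omega
      _ ≤ c * P := Nat.mul_le_mul_left c hPpos
  · rw [Nat.cast_mul]
    exact mul_ne_zero hc0 hP0
  · intro V' hV'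
    have hV'dom : EtRam.Dominates A (algebraMap A K') V' := hV'
    have hdvr : IsDiscreteValuationRing V' := isDVR_of_dominates (K := K) V' hV'dom
    let _ : Algebra A V' := (RingHom.codRestrict _ V' hV'.1).toAlgebra
    have hloc : IsLocalHom (algebraMap A V') :=
      Groth.Agent.Lib.ValDVR76.isLocalHom_codRestrict _ _ hV'dom
    obtain ⟨-, htame⟩ := h V' hV'
    have hle := ramificationIdx'_le_finrank (K := K) V' hV'dom (fun _ => rfl)
    have hinjAK' : Function.Injective (algebraMap A K') :=
      Groth.Agent.Lib.H40TotRamCriterion.algebraMap_injective' (K := K)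
    have hinjV' : Function.Injective (algebraMap A V') := by
      intro a a' h
      exact hinjAK' (congrArg Subtype.val h)
    have hepos : 0 < Ideal.ramificationIdx' (maximalIdeal A) (maximalIdeal V') := by
      obtain ⟨π, hπ⟩ := IsDiscreteValuationRing.exists_irreducible A
      obtain ⟨π₁, hπ₁⟩ := IsDiscreteValuationRing.exists_irreducible V'
      obtain ⟨e₁, u, he₁, hu⟩ := Groth.Agent.Lib.DVRExt.exists_map_uniformizer hinjV' hπ hπ₁
      rw [Groth.Agent.Lib.DVRExt.ramificationIdx'_eq hπ hπ₁ hu]
      exact he₁
    have hek := Groth.Agent.Lib.H40TameC.natCast_ne_zero_of_tame (ResidueField A) hepos htame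
    have hmem : Ideal.ramificationIdx' (maximalIdeal A) (maximalIdeal V') ∈ S := by
      rw [hS, Finset.mem_filter, Finset.mem_Icc]
      exact ⟨⟨hepos, hle⟩, hek⟩
    exact Dvd.dvd.mul_left (Finset.dvd_prod_of_mem (fun i => i) hmem) c

end E0

end Groth.Agent.Lib.H40TameD
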