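import Mathlib
import Groth.Prelude.Def_EtRam
import Groth.Agent.Lib.H40TameD
import Groth.Agent.Lib.EisensteinDVR2

/-!
# Tame extensions become unramified over `A[π^{1/e}]` (helper40)
-/

set_option autoImplicit false
set_option linter.unusedSectionVars false
universe u

open Polynomial IsLocalRing

namespace Groth.Agent.Lib.H40TameE

variable {A K L : Type u} [CommRing A] [IsDomain A]
    [IsDiscreteValuationRing A] [Field K] [Algebra A K] [IsFractionRing A K] [Field L] [Algebra K L]
    [Algebra A L] [IsScalarTower A K L] [FiniteDimensional K L] [Algebra.IsSeparable K L]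

theorem exists_unramified_over_root (π : A) (hπirr : Irreducible π)
    (h : EtRam.IsTamelyRamified A ((algebraMap K L).comp (algebraMap A K)))
    (e : ℕ) (he2 : 2 ≤ e) (hek : ((e : ℕ) : ResidueField A) ≠ 0)
    (hdiv : ∀ (V' : ValuationSubring L)
      (hV' : EtRam.Dominates A ((algebraMap K L).comp (algebraMap A K)) V'),
      letI : Algebra A V' := (RingHom.codRestrict _ V' hV'.1).toAlgebra
      Ideal.ramificationIdx' (maximalIdeal A) (maximalIdeal V') ∣ e) :
    ∃ (L' : Type u) (_ : Field L') (_ : Algebra K L')
      (_ : Algebra (AdjoinRoot (X ^ e - C π : A[X])) L') (_ : L →ₐ[K] L'),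
      FiniteDimensional K L' ∧ Algebra.IsSeparable K L' ∧
      (algebraMap (AdjoinRoot (X ^ e - C π : A[X])) L').comp (AdjoinRoot.of (X ^ e - C π)) =
        (algebraMap K L').comp (algebraMap A K) ∧
      ∀ [IsLocalRing (AdjoinRoot (X ^ e - C π : A[X]))],
        EtRam.IsUnramifiedExt (AdjoinRoot (X ^ e - C π : A[X]))
          (algebraMap (AdjoinRoot (X ^ e - C π : A[X])) L') := by
  classical
  obtain ⟨hdom, hdvr, hmax⟩ := Groth.Agent.Lib.EisensteinDVR.exists_dvr π hπirr e he2
  have he0 : e ≠ 0 := by omega
  set fA : A[X] := X ^ e - C π with hfA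
  set fL : L[X] := X ^ e - C (algebraMap A L π) with hfL
  have hfLmap : fA.map (algebraMap A L) = fL := by simp [hfA, hfL]
  have hfLdeg : fL.natDegree = e := natDegree_X_pow_sub_C
  have hfact := Polynomial.fact_irreducible_factor fL
  have hgdvd : fL.factor ∣ fL := factor_dvd_of_natDegree_ne_zero (by rw [hfLdeg]; exact he0)
  have hg0 : fL.factor ≠ 0 := (irreducible_factor fL).ne_zero
  set θ : AdjoinRoot fL.factor := AdjoinRoot.root fL.factor with hθ
  have hroot : fA.eval₂ (algebraMap A (AdjoinRoot fL.factor)) θ = 0 := by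
    rw [IsScalarTower.algebraMap_eq A L (AdjoinRoot fL.factor), ← eval₂_map, hfLmap,
      ← Polynomial.aeval_def, AdjoinRoot.aeval_eq, AdjoinRoot.mk_eq_zero]
    exact hgdvd
  have hπL : algebraMap A L π ≠ 0 := by
    rw [IsScalarTower.algebraMap_apply A K L]
    exact (_root_.map_ne_zero _).mpr
      (IsFractionRing.to_map_ne_zero_of_mem_nonZeroDivisors
        (mem_nonZeroDivisors_of_ne_zero hπirr.ne_zero))
  have hθe : θ ^ e = algebraMap A (AdjoinRoot fL.factor) π := by
    have := hroot
    rw [hfA, eval₂_sub, eval₂_pow, eval₂_X, eval₂_C, sub_eq_zero] at this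
    exact this
  have hπL' : algebraMap A (AdjoinRoot fL.factor) π ≠ 0 := by
    rw [IsScalarTower.algebraMap_apply A L (AdjoinRoot fL.factor)]
    exact (_root_.map_ne_zero _).mpr hπL
  have hθ0 : θ ≠ 0 := by
    intro h0
    rw [h0, zero_pow he0] at hθe
    exact hπL' hθe.symm
  set φ : AdjoinRoot fA →+* AdjoinRoot fL.factor :=
    AdjoinRoot.lift (algebraMap A (AdjoinRoot fL.factor)) θ hroot with hφ
  let algAe : Algebra (AdjoinRoot fA) (AdjoinRoot fL.factor) := φ.toAlgebra
  have hfinL : FiniteDimensional L (AdjoinRoot fL.factor) :=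
    (AdjoinRoot.powerBasis hg0).finite
  have hsepf : fL.Separable := by
    apply separable_X_pow_sub_C _ _ hπL
    intro h0
    apply hek
    have h1 : ((e : ℕ) : K) = 0 := by
      have : algebraMap K L ((e : ℕ) : K) = 0 := by rw [map_natCast]; exact h0
      exact (map_eq_zero _).mp this
    have h2 : ((e : ℕ) : A) = 0 := by
      apply IsFractionRing.injective A K
      rw [map_natCast, map_zero]; exact h1
    have := congrArg (residue A) h2
    rwa [map_natCast, map_zero] at this
  have hsepL : Algebra.IsSeparable L (AdjoinRoot fL.factor) := by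
    have hθsep : IsSeparable L θ := by
      have hdvd : minpoly L θ ∣ fL.factor := by
        apply minpoly.dvd
        rw [AdjoinRoot.aeval_eq, AdjoinRoot.mk_self]
      exact (hsepf.of_dvd hgdvd).of_dvd hdvd
    have htop : IntermediateField.adjoin L {θ} = ⊤ :=
      IntermediateField.adjoin_eq_top_of_algebra L {θ} (AdjoinRoot.adjoinRoot_eq_top)
    have hs := (IntermediateField.isSeparable_adjoin_simple_iff_isSeparable L
      (AdjoinRoot fL.factor)).mpr hθsep
    refine ⟨fun x => ?_⟩
    exact IntermediateField.isSeparable_of_mem_isSeparable L (AdjoinRoot fL.factor)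
      (L := IntermediateField.adjoin L {θ}) (by rw [htop]; trivial)
  refine ⟨AdjoinRoot fL.factor, inferInstance, inferInstance, algAe,
    IsScalarTower.toAlgHom K L (AdjoinRoot fL.factor), ?_, ?_, ?_, ?_⟩
  · exact Module.Finite.trans L _
  · exact Algebra.IsSeparable.trans K L _
  · refine RingHom.ext fun a => ?_
    change φ (AdjoinRoot.of fA a) = _
    rw [hφ, AdjoinRoot.lift_of hroot]
    exact IsScalarTower.algebraMap_apply A K _ a
  · intro _inst
    have hrootirr : Irreducible (AdjoinRoot.root fA) :=
      (IsDiscreteValuationRing.irreducible_iff_uniformizer _).mpr hmax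
    have hφroot : φ (AdjoinRoot.root fA) = θ := AdjoinRoot.lift_root hroot
    have hφinj : Function.Injective φ := by
      rw [injective_iff_map_eq_zero]
      intro x hx
      by_contra hx0
      obtain ⟨k, u, hu⟩ := IsDiscreteValuationRing.eq_unit_mul_pow_irreducible hx0 hrootirr
      rw [hu, map_mul, map_pow, hφroot] at hx
      rcases mul_eq_zero.mp hx with h1 | h1
      · exact (u.isUnit.map φ).ne_zero h1
      · exact pow_ne_zero _ hθ0 h1
    let _ : Algebra (FractionRing (AdjoinRoot fA)) (AdjoinRoot fL.factor) :=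
      (IsFractionRing.lift hφinj).toAlgebra
    have : IsScalarTower (AdjoinRoot fA) (FractionRing (AdjoinRoot fA)) (AdjoinRoot fL.factor) :=
      IsScalarTower.of_algebraMap_eq (fun x => (IsFractionRing.lift_algebraMap hφinj x).symm)
    have hinjAAe : Function.Injective (algebraMap A (AdjoinRoot fA)) := by
      rw [AdjoinRoot.algebraMap_eq]
      exact Groth.Agent.Lib.EisensteinDVR.of_injective π hπirr e he2
    have hinjAKe : Function.Injective (algebraMap A (FractionRing (AdjoinRoot fA))) := by
      rw [IsScalarTower.algebraMap_eq A (AdjoinRoot fA) (FractionRing (AdjoinRoot fA))]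
      exact (IsFractionRing.injective (AdjoinRoot fA) _).comp hinjAAe
    let _ : Algebra K (FractionRing (AdjoinRoot fA)) := (IsFractionRing.lift hinjAKe).toAlgebra
    have : IsScalarTower A K (FractionRing (AdjoinRoot fA)) :=
      IsScalarTower.of_algebraMap_eq (fun a => (IsFractionRing.lift_algebraMap hinjAKe a).symm)
    have : IsScalarTower K (FractionRing (AdjoinRoot fA)) (AdjoinRoot fL.factor) := by
      apply IsScalarTower.of_algebraMap_eq'
      apply IsLocalization.ringHom_ext (nonZeroDivisors A)
      refine RingHom.ext fun a => ?_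
      change algebraMap K (AdjoinRoot fL.factor) (algebraMap A K a) =
        algebraMap (FractionRing (AdjoinRoot fA)) (AdjoinRoot fL.factor)
          (algebraMap K (FractionRing (AdjoinRoot fA)) (algebraMap A K a))
      rw [← IsScalarTower.algebraMap_apply A K (FractionRing (AdjoinRoot fA)),
        IsScalarTower.algebraMap_apply A (AdjoinRoot fA) (FractionRing (AdjoinRoot fA)),
        ← IsScalarTower.algebraMap_apply (AdjoinRoot fA) (FractionRing (AdjoinRoot fA))
          (AdjoinRoot fL.factor), ← IsScalarTower.algebraMap_apply A K (AdjoinRoot fL.factor)]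
      change _ = φ (algebraMap A (AdjoinRoot fA) a)
      rw [AdjoinRoot.algebraMap_eq, hφ, AdjoinRoot.lift_of hroot]
    have hπAe : algebraMap A (AdjoinRoot fA) π = AdjoinRoot.root fA ^ e := by
      rw [AdjoinRoot.algebraMap_eq]
      exact (Groth.Agent.Lib.EisensteinDVR.root_pow π e).symm
    have hloc : IsLocalHom (algebraMap A (AdjoinRoot fA)) := by
      constructor
      intro a ha
      by_contra hna
      have hm : a ∈ maximalIdeal A := (mem_maximalIdeal a).mpr hna
      rw [hπirr.maximalIdeal_eq, Ideal.mem_span_singleton] at hm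
      obtain ⟨c, rfl⟩ := hm
      rw [map_mul, hπAe] at ha
      have h1 : IsUnit (AdjoinRoot.root fA ^ e) := isUnit_of_mul_isUnit_left ha
      exact hrootirr.not_isUnit ((isUnit_pow_iff he0).mp h1)
    have hNB : e ∣ Ideal.ramificationIdx' (maximalIdeal A) (maximalIdeal (AdjoinRoot fA)) := by
      have h1 : algebraMap A (AdjoinRoot fA) π = ((1 : (AdjoinRoot fA)ˣ) : AdjoinRoot fA) *
          AdjoinRoot.root fA ^ e := by rw [Units.val_one, one_mul, hπAe]
      rw [Groth.Agent.Lib.DVRExt.ramificationIdx'_eq hπirr hrootirr h1]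
    have hadj : Algebra.adjoin (FractionRing (AdjoinRoot fA))
        (Set.range (algebraMap L (AdjoinRoot fL.factor))) = ⊤ := by
      rw [eq_top_iff]
      rintro x -
      have hx : x ∈ Algebra.adjoin L {θ} := by
        rw [hθ, AdjoinRoot.adjoinRoot_eq_top]; trivial
      induction hx using Algebra.adjoin_induction with
      | mem y hy =>
        rw [Set.mem_singleton_iff] at hy
        rw [hy, ← hφroot]
        change algebraMap (AdjoinRoot fA) (AdjoinRoot fL.factor) _ ∈ _
        rw [IsScalarTower.algebraMap_apply (AdjoinRoot fA) (FractionRing (AdjoinRoot fA))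
          (AdjoinRoot fL.factor)]
        exact Subalgebra.algebraMap_mem _ _
      | algebraMap l => exact Algebra.subset_adjoin ⟨l, rfl⟩
      | add y z _ _ hy hz => exact Subalgebra.add_mem _ hy hz
      | mul y z _ _ hy hz => exact Subalgebra.mul_mem _ hy hz
    have hres := Groth.Agent.Lib.H40TameC.isUnramifiedExt_of_dvd (A := A) (B := AdjoinRoot fA)
      (K := K) (L := FractionRing (AdjoinRoot fA)) hinjAAe L h e hdiv hNB
      (AdjoinRoot fL.factor) hadj
    rw [← IsScalarTower.algebraMap_eq] at hres
    exact hres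

end Groth.Agent.Lib.H40TameE
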