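import Mathlib
import Groth.Prelude.Def_EtRam
import Groth.Agent.Lib.ValDVR76C

/-!
# Tame / unramified extensions in towers (EtRam dictionary)
-/

set_option autoImplicit false
set_option linter.unusedSectionVars false

universe u

namespace Groth.Agent.Lib.ValDVR76

open IsLocalRing

section Main

variable {A : Type u} [CommRing A] [IsDomain A] [IsDiscreteValuationRing A]
  {L M : Type u} [Field L] [Field M]

/-- Tameness is transitive in towers. -/
theorem isTamelyRamified_trans (g : A →+* L) (f : L →+* M) (hg : Function.Injective g)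
    (hDL : ∀ V, EtRam.Dominates A g V → IsDiscreteValuationRing V)
    (hDM : ∀ W, EtRam.Dominates A (f.comp g) W → IsDiscreteValuationRing W)
    (h1 : EtRam.IsTamelyRamified A g)
    (h2 : ∀ V, EtRam.Dominates A g V → EtRam.IsTamelyRamified V (f.comp V.subtype)) :
    EtRam.IsTamelyRamified A (f.comp g) := by
  intro W hW
  have hV := dominates_comap g f W hW
  have hVW := dominates_of_comap f W
  let iAV : Algebra A (W.comap f) := (RingHom.codRestrict g (W.comap f) hV.1).toAlgebra
  let iVW : Algebra (W.comap f) W :=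
    (RingHom.codRestrict (f.comp (W.comap f).subtype) W hVW.1).toAlgebra
  let iAW : Algebra A W := (RingHom.codRestrict (f.comp g) W hW.1).toAlgebra
  intro hlocAW
  have hlocAV : IsLocalHom (algebraMap A (W.comap f)) := isLocalHom_codRestrict g _ hV
  have hlocVW : IsLocalHom (algebraMap (W.comap f) W) := isLocalHom_codRestrict _ _ hVW
  have hT : IsScalarTower A (W.comap f) W := IsScalarTower.of_algebraMap_eq fun a => rfl
  have hDV := hDL _ hV
  have hDW := hDM _ hW
  obtain ⟨hs1, he1⟩ := h1 (W.comap f) hV
  obtain ⟨hs2, he2⟩ := h2 (W.comap f) hV W hVW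
  refine ⟨Algebra.IsSeparable.trans (ResidueField A) (ResidueField (W.comap f))
    (ResidueField W), ?_⟩
  intro p hp hchar
  have hinjAV : Function.Injective (algebraMap A (W.comap f)) :=
    fun x y hxy => hg (congrArg Subtype.val hxy)
  have hinjVW : Function.Injective (algebraMap (W.comap f) W) :=
    fun x y hxy => Subtype.ext (f.injective (congrArg Subtype.val hxy))
  rw [ramificationIdx'_tower (B := W.comap f) hinjAV hinjVW]
  intro hdvd
  rcases (Nat.Prime.dvd_mul hp).mp hdvd with h | h
  · exact he1 p hp hchar h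
  · have : CharP (ResidueField (W.comap f)) p :=
      charP_of_injective_algebraMap
        (algebraMap (ResidueField A) (ResidueField (W.comap f))).injective p
    exact he2 p hp this h

/-- Unramifiedness is transitive in towers. -/
theorem isUnramifiedExt_trans (g : A →+* L) (f : L →+* M)
    (h1 : EtRam.IsUnramifiedExt A g)
    (h2 : ∀ V, EtRam.Dominates A g V → EtRam.IsUnramifiedExt V (f.comp V.subtype)) :
    EtRam.IsUnramifiedExt A (f.comp g) := by
  intro W hW
  have hV := dominates_comap g f W hW
  have hVW := dominates_of_comap f W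
  let iAV : Algebra A (W.comap f) := (RingHom.codRestrict g (W.comap f) hV.1).toAlgebra
  let iVW : Algebra (W.comap f) W :=
    (RingHom.codRestrict (f.comp (W.comap f).subtype) W hVW.1).toAlgebra
  let iAW : Algebra A W := (RingHom.codRestrict (f.comp g) W hW.1).toAlgebra
  intro hlocAW
  have hlocAV : IsLocalHom (algebraMap A (W.comap f)) := isLocalHom_codRestrict g _ hV
  have hlocVW : IsLocalHom (algebraMap (W.comap f) W) := isLocalHom_codRestrict _ _ hVW
  have hT : IsScalarTower A (W.comap f) W := IsScalarTower.of_algebraMap_eq fun a => rfl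
  obtain ⟨hw1, hs1⟩ := h1 (W.comap f) hV
  obtain ⟨hw2, hs2⟩ := h2 (W.comap f) hV W hVW
  refine ⟨?_, Algebra.IsSeparable.trans (ResidueField A) (ResidueField (W.comap f))
    (ResidueField W)⟩
  unfold EtRam.IsWeaklyUnramified at hw1 hw2 ⊢
  rw [IsScalarTower.algebraMap_eq A (W.comap f) W, ← Ideal.map_map, hw1, hw2]

/-- Tameness descends to sub-extensions. -/
theorem isTamelyRamified_of_comp (g : A →+* L) (f : L →+* M) (hg : Function.Injective g)
    (hDL : ∀ V, EtRam.Dominates A g V → IsDiscreteValuationRing V)
    (hDM : ∀ W, EtRam.Dominates A (f.comp g) W → IsDiscreteValuationRing W)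
    (h : EtRam.IsTamelyRamified A (f.comp g)) : EtRam.IsTamelyRamified A g := by
  intro V hV
  obtain ⟨W, rfl⟩ := exists_comap_eq f V
  have hW := dominates_of_dominates_comap g f W hV
  have hVW := dominates_of_comap f W
  let iAV : Algebra A (W.comap f) := (RingHom.codRestrict g (W.comap f) hV.1).toAlgebra
  let iVW : Algebra (W.comap f) W :=
    (RingHom.codRestrict (f.comp (W.comap f).subtype) W hVW.1).toAlgebra
  let iAW : Algebra A W := (RingHom.codRestrict (f.comp g) W hW.1).toAlgebra
  intro hlocAV
  have hlocAW : IsLocalHom (algebraMap A W) := isLocalHom_codRestrict _ _ hW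
  have hlocVW : IsLocalHom (algebraMap (W.comap f) W) := isLocalHom_codRestrict _ _ hVW
  have hT : IsScalarTower A (W.comap f) W := IsScalarTower.of_algebraMap_eq fun a => rfl
  have hDV := hDL _ hV
  have hDW := hDM _ hW
  obtain ⟨hs, he⟩ := h W hW
  refine ⟨Algebra.isSeparable_tower_bot_of_isSeparable (ResidueField A)
    (ResidueField (W.comap f)) (ResidueField W), ?_⟩
  intro p hp hchar hdvd
  have hinjAV : Function.Injective (algebraMap A (W.comap f)) :=
    fun x y hxy => hg (congrArg Subtype.val hxy)
  have hinjVW : Function.Injective (algebraMap (W.comap f) W) :=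
    fun x y hxy => Subtype.ext (f.injective (congrArg Subtype.val hxy))
  apply he p hp hchar
  rw [ramificationIdx'_tower (B := W.comap f) hinjAV hinjVW]
  exact Dvd.dvd.mul_right hdvd _

/-- Unramifiedness descends to sub-extensions. -/
theorem isUnramifiedExt_of_comp (g : A →+* L) (f : L →+* M) (hg : Function.Injective g)
    (h : EtRam.IsUnramifiedExt A (f.comp g)) : EtRam.IsUnramifiedExt A g := by
  intro V hV
  obtain ⟨W, rfl⟩ := exists_comap_eq f V
  have hW := dominates_of_dominates_comap g f W hV
  have hVW := dominates_of_comap f W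
  let iAV : Algebra A (W.comap f) := (RingHom.codRestrict g (W.comap f) hV.1).toAlgebra
  let iVW : Algebra (W.comap f) W :=
    (RingHom.codRestrict (f.comp (W.comap f).subtype) W hVW.1).toAlgebra
  let iAW : Algebra A W := (RingHom.codRestrict (f.comp g) W hW.1).toAlgebra
  intro hlocAV
  have hlocAW : IsLocalHom (algebraMap A W) := isLocalHom_codRestrict _ _ hW
  have hlocVW : IsLocalHom (algebraMap (W.comap f) W) := isLocalHom_codRestrict _ _ hVW
  have hT : IsScalarTower A (W.comap f) W := IsScalarTower.of_algebraMap_eq fun a => rfl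
  obtain ⟨hw, hs⟩ := h W hW
  refine ⟨?_, Algebra.isSeparable_tower_bot_of_isSeparable (ResidueField A)
    (ResidueField (W.comap f)) (ResidueField W)⟩
  unfold EtRam.IsWeaklyUnramified at hw ⊢
  obtain ⟨ϖ, hϖ⟩ := IsDiscreteValuationRing.exists_irreducible A
  have hmA : maximalIdeal A = Ideal.span {ϖ} := hϖ.maximalIdeal_eq
  have hgϖ : g ϖ ≠ 0 := fun h0 => hϖ.ne_zero (hg (by rw [h0, map_zero]))
  apply le_antisymm
  · rw [Ideal.map_le_iff_le_comap]
    intro a ha
    rw [Ideal.mem_comap, IsLocalRing.mem_maximalIdeal, mem_nonunits_iff]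
    intro hu
    exact ((IsLocalRing.mem_maximalIdeal a).mp ha) (isUnit_of_map_unit (algebraMap A _) a hu)
  · intro v hv
    have hvW : algebraMap (W.comap f) W v ∈ maximalIdeal W := by
      rw [IsLocalRing.mem_maximalIdeal, mem_nonunits_iff]
      intro hu
      exact ((IsLocalRing.mem_maximalIdeal v).mp hv) (isUnit_of_map_unit (algebraMap _ W) v hu)
    rw [← hw, hmA, Ideal.map_span, Set.image_singleton, Ideal.mem_span_singleton] at hvW
    obtain ⟨w, hw'⟩ := hvW
    rw [hmA, Ideal.map_span, Set.image_singleton, Ideal.mem_span_singleton]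
    have hfv : f (v : L) = f (g ϖ) * (w : M) := congrArg Subtype.val hw'
    have hfg : f (g ϖ) ≠ 0 := fun h0 => hgϖ (f.injective (by rw [h0, map_zero]))
    have hmem : (v : L) / g ϖ ∈ W.comap f := by
      rw [ValuationSubring.mem_comap, map_div₀, hfv, mul_div_cancel_left₀ _ hfg]
      exact w.2
    refine ⟨⟨_, hmem⟩, Subtype.ext ?_⟩
    show (v : L) = g ϖ * ((v : L) / g ϖ)
    field_simp

end Main

end Groth.Agent.Lib.ValDVR76
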