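import Mathlib
import Groth.Prelude.Def_EtRam
import Groth.Agent.Lib.H40TameD
import Groth.Agent.Lib.EisensteinDVR2
import Groth.Agent.Lib.ValDVR76D

/-!
# Unramified over `A[π^{1/e}]` implies tame (helper40)
-/

set_option autoImplicit false
set_option linter.unusedSectionVars false
universe u

open Polynomial IsLocalRing

namespace Groth.Agent.Lib.H40TameF

open Groth.Agent.Lib.EisensteinDVR (Ext root_pow)

section LocalRing

variable {A : Type u} [CommRing A] [IsDomain A] [IsDiscreteValuationRing A] (π : A)
  (hπ : Irreducible π) (n : ℕ) (hn0 : n ≠ 0)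

include hπ hn0 in
/-- Evaluation at `x = 0` to the residue field (after helper61, for `n ≥ 1`). -/
theorem exists_psi : ∃ ψ : Ext π n →+* ResidueField A,
    (∀ a, ψ (AdjoinRoot.of _ a) = residue A a) ∧ ψ (AdjoinRoot.root _) = 0 := by
  have h0 : (X ^ n - C π : A[X]).eval₂ (residue A) 0 = 0 := by
    rw [eval₂_sub, eval₂_pow, eval₂_X, eval₂_C, zero_pow hn0, zero_sub, neg_eq_zero,
      residue_eq_zero_iff, hπ.maximalIdeal_eq]
    exact Ideal.mem_span_singleton_self π
  exact ⟨AdjoinRoot.lift (residue A) 0 h0, fun a => AdjoinRoot.lift_of h0, AdjoinRoot.lift_root h0⟩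

include hπ hn0 in
theorem ker_psi (ψ : Ext π n →+* ResidueField A) (h1 : ∀ a, ψ (AdjoinRoot.of _ a) = residue A a)
    (h2 : ψ (AdjoinRoot.root _) = 0) :
    RingHom.ker ψ = Ideal.span {AdjoinRoot.root (X ^ n - C π : A[X])} := by
  apply le_antisymm
  · intro y hy
    obtain ⟨p, rfl⟩ := AdjoinRoot.mk_surjective y
    rw [RingHom.mem_ker] at hy
    have hp : p = C (p.coeff 0) + X * p.divX := by
      rw [add_comm, mul_comm]; exact (Polynomial.divX_mul_X_add p).symm
    rw [hp, map_add, map_mul, AdjoinRoot.mk_C, AdjoinRoot.mk_X] at hy ⊢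
    rw [map_add, map_mul, h1, h2, zero_mul, add_zero, residue_eq_zero_iff, hπ.maximalIdeal_eq,
      Ideal.mem_span_singleton] at hy
    obtain ⟨c, hc⟩ := hy
    apply Ideal.add_mem
    · rw [hc, map_mul, ← root_pow, Ideal.mem_span_singleton]
      exact Dvd.dvd.mul_right (dvd_pow_self _ hn0) _
    · exact Ideal.mul_mem_right _ _ (Ideal.mem_span_singleton_self _)
  · rw [Ideal.span_le, Set.singleton_subset_iff]
    exact h2

include hπ hn0 in
theorem exists_isLocalRing : ∃ _ : IsLocalRing (Ext π n),
    maximalIdeal (Ext π n) = Ideal.span {AdjoinRoot.root (X ^ n - C π : A[X])} := by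
  obtain ⟨ψ, h1, h2⟩ := exists_psi π hπ n hn0
  have hker := ker_psi π hπ n hn0 ψ h1 h2
  have hsurj : Function.Surjective ψ := by
    intro z
    obtain ⟨a, rfl⟩ := residue_surjective z
    exact ⟨AdjoinRoot.of _ a, h1 a⟩
  have hmax : (Ideal.span {AdjoinRoot.root (X ^ n - C π : A[X])}).IsMaximal := by
    rw [← hker]
    exact RingHom.ker_isMaximal_of_surjective ψ hsurj
  have hmonic : (X ^ n - C π : A[X]).Monic := monic_X_pow_sub_C π hn0
  have hfin : Module.Finite A (Ext π n) := hmonic.finite_adjoinRoot
  have hint : Algebra.IsIntegral A (Ext π n) := Algebra.IsIntegral.of_finite A _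
  have huniq : ∀ N : Ideal (Ext π n), N.IsMaximal →
      N = Ideal.span {AdjoinRoot.root (X ^ n - C π : A[X])} := by
    intro N hN
    have hmaxc : (Ideal.comap (algebraMap A (Ext π n)) N).IsMaximal :=
      Ideal.isMaximal_comap_of_isIntegral_of_isMaximal N
    have hπN : algebraMap A (Ext π n) π ∈ N := by
      have : π ∈ Ideal.comap (algebraMap A (Ext π n)) N := by
        rw [IsLocalRing.eq_maximalIdeal hmaxc, hπ.maximalIdeal_eq]
        exact Ideal.mem_span_singleton_self π
      exact this
    have hxN : AdjoinRoot.root (X ^ n - C π : A[X]) ∈ N := by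
      rw [AdjoinRoot.algebraMap_eq, ← root_pow] at hπN
      exact hN.isPrime.mem_of_pow_mem n hπN
    have hle : Ideal.span {AdjoinRoot.root (X ^ n - C π : A[X])} ≤ N := by
      rw [Ideal.span_le, Set.singleton_subset_iff]
      exact hxN
    exact (hmax.eq_of_le hN.ne_top hle).symm
  have hloc : IsLocalRing (Ext π n) := IsLocalRing.of_unique_max_ideal ⟨_, hmax, huniq⟩
  exact ⟨hloc, huniq _ (maximalIdeal.isMaximal _)⟩

include hπ hn0 in
/-- every element of `A[x]/(x^n - π)` is congruent to a constant modulo the root. -/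
theorem exists_decomp (b : Ext π n) : ∃ (a : A) (c : Ext π n),
    b = algebraMap A (Ext π n) a + c * AdjoinRoot.root (X ^ n - C π : A[X]) := by
  obtain ⟨ψ, hψ1, hψ2⟩ := exists_psi π hπ n hn0
  have hker := ker_psi π hπ n hn0 ψ hψ1 hψ2
  obtain ⟨a, ha⟩ := residue_surjective (ψ b)
  have h1 : b - algebraMap A (Ext π n) a ∈ RingHom.ker ψ := by
    rw [RingHom.mem_ker, map_sub, AdjoinRoot.algebraMap_eq, hψ1, ha, sub_self]
  rw [hker, Ideal.mem_span_singleton'] at h1
  obtain ⟨c, hc⟩ := h1
  exact ⟨a, c, by rw [hc]; ring⟩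

end LocalRing

section Main

variable {A K : Type u} [CommRing A] [IsDomain A] [IsDiscreteValuationRing A] [Field K]
  [Algebra A K] [IsFractionRing A K]

open Groth.Agent.Lib.H40FSmoothC in
theorem isTamelyRamified_of_unramified_over_root (π : A) (hπirr : Irreducible π) (e : ℕ)
    (he : 0 < e) (hek : ((e : ℕ) : ResidueField A) ≠ 0)
    (L' : Type u) [Field L'] [Algebra K L'] [FiniteDimensional K L']
    [Algebra (AdjoinRoot (X ^ e - C π : A[X])) L']
    (hcompat : (algebraMap (AdjoinRoot (X ^ e - C π : A[X])) L').comp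
        (AdjoinRoot.of (X ^ e - C π)) = (algebraMap K L').comp (algebraMap A K))
    (hunr : ∀ [IsLocalRing (AdjoinRoot (X ^ e - C π : A[X]))],
        EtRam.IsUnramifiedExt (AdjoinRoot (X ^ e - C π : A[X]))
          (algebraMap (AdjoinRoot (X ^ e - C π : A[X])) L')) :
    EtRam.IsTamelyRamified A ((algebraMap K L').comp (algebraMap A K)) := by
  have he0 : e ≠ 0 := he.ne'
  obtain ⟨hloc, hmax⟩ := exists_isLocalRing π hπirr e he0
  have hunr' := @hunr hloc
  let _ : Algebra A L' := ((algebraMap K L').comp (algebraMap A K)).toAlgebra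
  have : IsScalarTower A K L' := IsScalarTower.of_algebraMap_eq (fun _ => rfl)
  have htow : IsScalarTower A (Ext π e) L' := IsScalarTower.of_algebraMap_eq (fun a => by
    rw [AdjoinRoot.algebraMap_eq]
    exact (RingHom.congr_fun hcompat a).symm)
  set ι : Ext π e →+* L' := algebraMap (Ext π e) L' with hι
  set x : Ext π e := AdjoinRoot.root (X ^ e - C π : A[X]) with hx
  have hxe : ι x ^ e = algebraMap A L' π := by
    rw [← map_pow, hx, root_pow]
    exact RingHom.congr_fun hcompat π
  have hπmem : π ∈ maximalIdeal A := by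
    rw [hπirr.maximalIdeal_eq]; exact Ideal.mem_span_singleton_self π
  intro W hW
  have hW' : EtRam.Dominates A (algebraMap A L') W := hW
  have hdvrW : IsDiscreteValuationRing W := isDVR_of_dominates (K := K) W hW'
  have F1 : W.valuation (ι x) < 1 := by
    have h1 : W.valuation (ι x) ^ e < 1 := by
      rw [← map_pow, hxe]; exact hW'.2 π hπmem
    by_contra hcon
    push Not at hcon
    exact absurd h1 (not_lt.mpr (one_le_pow₀ hcon))
  have F2 : ∀ b : Ext π e, ι b ∈ W := by
    intro b
    have hb : b ∈ Algebra.adjoin A {x} := by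
      rw [hx, AdjoinRoot.adjoinRoot_eq_top]; trivial
    induction hb using Algebra.adjoin_induction with
    | mem y hy =>
      rw [Set.mem_singleton_iff] at hy
      rw [hy]
      exact (W.valuation_le_one_iff _).mp F1.le
    | algebraMap a =>
      rw [hι, ← IsScalarTower.algebraMap_apply A (Ext π e) L']
      exact hW'.1 a
    | add y z _ _ hy hz => rw [map_add]; exact W.add_mem _ _ hy hz
    | mul y z _ _ hy hz => rw [map_mul]; exact W.mul_mem _ _ hy hz
  have hdomAe : EtRam.Dominates (Ext π e) ι W := by
    refine ⟨F2, fun b hb => ?_⟩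
    rw [hmax, Ideal.mem_span_singleton'] at hb
    obtain ⟨c, rfl⟩ := hb
    rw [map_mul, map_mul]
    have h2 : W.valuation (ι c) ≤ 1 := (W.valuation_le_one_iff _).mpr (F2 c)
    calc W.valuation (ι c) * W.valuation (ι x) ≤ 1 * W.valuation (ι x) := by gcongr
      _ < 1 := by rw [one_mul]; exact F1
  let _ : Algebra (Ext π e) W := (RingHom.codRestrict ι W hdomAe.1).toAlgebra
  have hlocAeW : IsLocalHom (algebraMap (Ext π e) W) :=
    Groth.Agent.Lib.ValDVR76.isLocalHom_codRestrict ι W hdomAe
  obtain ⟨hwu, hsepW⟩ := hunr' W hdomAe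
  let _ : Algebra A W := (RingHom.codRestrict (algebraMap A L') W hW'.1).toAlgebra
  intro hlocAW
  have htowW : IsScalarTower A (Ext π e) W := IsScalarTower.of_algebraMap_eq (fun a =>
    Subtype.ext (IsScalarTower.algebraMap_apply A (Ext π e) L' a))
  set xW : W := algebraMap (Ext π e) W x with hxW
  have hxWirr : Irreducible xW := by
    rw [IsDiscreteValuationRing.irreducible_iff_uniformizer]
    have h1 : (maximalIdeal (Ext π e)).map (algebraMap (Ext π e) W) = maximalIdeal W := hwu
    rw [← h1, hmax, Ideal.map_span, Set.image_singleton]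
  have hπW : algebraMap A W π = ((1 : Wˣ) : W) * xW ^ e := by
    rw [Units.val_one, one_mul]
    apply Subtype.ext
    push_cast
    exact hxe.symm
  have hE : Ideal.ramificationIdx' (maximalIdeal A) (maximalIdeal W) = e :=
    Groth.Agent.Lib.DVRExt.ramificationIdx'_eq hπirr hxWirr hπW
  have hπAe : algebraMap A (Ext π e) π = x ^ e := by
    rw [AdjoinRoot.algebraMap_eq]
    exact (root_pow π e).symm
  have hxnu : ¬ IsUnit x := by
    intro hu
    have : x ∈ maximalIdeal (Ext π e) := by
      rw [hmax]; exact Ideal.mem_span_singleton_self _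
    exact this hu
  have hlocAAe : IsLocalHom (algebraMap A (Ext π e)) := by
    constructor
    intro a ha
    by_contra hna
    have hm : a ∈ maximalIdeal A := (mem_maximalIdeal a).mpr hna
    rw [hπirr.maximalIdeal_eq, Ideal.mem_span_singleton] at hm
    obtain ⟨c, rfl⟩ := hm
    rw [map_mul, hπAe] at ha
    have h1 : IsUnit (x ^ e) := isUnit_of_mul_isUnit_left ha
    exact hxnu ((isUnit_pow_iff he0).mp h1)
  refine ⟨?_, fun p hp hchar => ?_⟩
  · have htowR : IsScalarTower (ResidueField A) (ResidueField (Ext π e)) (ResidueField W) := by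
      apply IsScalarTower.of_algebraMap_eq
      intro z
      obtain ⟨a, rfl⟩ := residue_surjective z
      change residue W (algebraMap A W a) =
        residue W (algebraMap (Ext π e) W (algebraMap A (Ext π e) a))
      rw [← IsScalarTower.algebraMap_apply A (Ext π e) W]
    have hsurj : Function.Surjective
        (algebraMap (ResidueField A) (ResidueField (Ext π e))) := by
      intro z
      obtain ⟨b, rfl⟩ := residue_surjective z
      obtain ⟨a, c, hb⟩ := exists_decomp π hπirr e he0 b
      refine ⟨residue A a, ?_⟩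
      change residue (Ext π e) (algebraMap A (Ext π e) a) = _
      rw [hb, map_add, map_mul]
      have : residue (Ext π e) (AdjoinRoot.root (X ^ e - C π : A[X])) = 0 := by
        rw [residue_eq_zero_iff, hmax]; exact Ideal.mem_span_singleton_self _
      rw [this, mul_zero, add_zero]
    have hsep1 : Algebra.IsSeparable (ResidueField A) (ResidueField (Ext π e)) :=
      ⟨fun z => by obtain ⟨y, rfl⟩ := hsurj z; exact isSeparable_algebraMap y⟩
    exact Algebra.IsSeparable.trans (ResidueField A) (ResidueField (Ext π e)) (ResidueField W)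
  · rw [hE]
    intro hdvd
    exact hek ((CharP.cast_eq_zero_iff (ResidueField A) p e).mpr hdvd)

end Main

end Groth.Agent.Lib.H40TameF
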