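import Mathlib
import Groth.Prelude.Def_EtRam
import Groth.Agent.Lib.H40TameD
import Groth.Agent.Lib.ValDVR76D

/-!
# Tame base change for extensions of discrete valuation rings (helper40)
-/

set_option autoImplicit false
set_option linter.unusedSectionVars false
universe u

open Polynomial IsLocalRing

namespace Groth.Agent.Lib.H40TameG

open Groth.Agent.Lib.H40FSmoothC Groth.Agent.Lib.ValDVR76

section Unram

variable {A : Type u} [CommRing A] [IsDomain A] [IsDiscreteValuationRing A]
  {L : Type u} [Field L]

/-- unramified implies tamely ramified. -/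
theorem isTamelyRamified_of_isUnramifiedExt (g : A →+* L)
    (hD : ∀ V, EtRam.Dominates A g V → IsDiscreteValuationRing V)
    (h : EtRam.IsUnramifiedExt A g) : EtRam.IsTamelyRamified A g := by
  intro V hV
  have hdvr := hD V hV
  let _ : Algebra A V := (RingHom.codRestrict g V hV.1).toAlgebra
  intro hloc
  obtain ⟨hwu, hsep⟩ := h V hV
  refine ⟨hsep, fun p hp _ => ?_⟩
  obtain ⟨π, hπ⟩ := IsDiscreteValuationRing.exists_irreducible A
  have hirr : Irreducible (algebraMap A V π) := by
    rw [IsDiscreteValuationRing.irreducible_iff_uniformizer]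
    have h1 : (maximalIdeal A).map (algebraMap A V) = maximalIdeal V := hwu
    rw [← h1, hπ.maximalIdeal_eq, Ideal.map_span, Set.image_singleton]
  have h1 : algebraMap A V π = ((1 : Vˣ) : V) * (algebraMap A V π) ^ 1 := by
    rw [Units.val_one, one_mul, pow_one]
  rw [Groth.Agent.Lib.DVRExt.ramificationIdx'_eq hπ hirr h1]
  exact hp.one_lt.ne' ∘ Nat.dvd_one.mp

end Unram

section Kummer

variable {B L L₂ : Type u} [CommRing B] [IsDomain B] [IsDiscreteValuationRing B] [Field L]
  [Algebra B L] [IsFractionRing B L] [Field L₂] [Algebra L L₂] [Algebra B L₂]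
  [IsScalarTower B L L₂] [FiniteDimensional L L₂]

include L in
/-- a valuation ring of `L(π^{1/N})` over `B`: `e = N`, `f = 1`. -/
theorem kummer_local {πB : B} (hπB : Irreducible πB) {N : ℕ} (hN : 0 < N) {θ : L₂}
    (hθ : θ ^ N = algebraMap B L₂ πB) (hfin : Module.finrank L L₂ ≤ N)
    (V : ValuationSubring L₂) (hV : EtRam.Dominates B (algebraMap B L₂) V)
    [Algebra B V] (halg : ∀ b : B, ((algebraMap B V b : V) : L₂) = algebraMap B L₂ b)
    [IsLocalHom (algebraMap B V)] [IsDiscreteValuationRing V] :
    Ideal.ramificationIdx' (maximalIdeal B) (maximalIdeal V) = N ∧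
      Function.Surjective (algebraMap (ResidueField B) (ResidueField V)) := by
  have hπmem : πB ∈ maximalIdeal B := by
    rw [hπB.maximalIdeal_eq]; exact Ideal.mem_span_singleton_self πB
  have hinjL₂ : Function.Injective (algebraMap B L₂) :=
    Groth.Agent.Lib.H40TotRamCriterion.algebraMap_injective' (K := L)
  have F1 : V.valuation θ < 1 := by
    have h1 : V.valuation θ ^ N < 1 := by
      rw [← map_pow, hθ]; exact hV.2 πB hπmem
    by_contra hcon
    push Not at hcon
    exact absurd h1 (not_lt.mpr (one_le_pow₀ hcon))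
  have hθV : θ ∈ V := (V.valuation_le_one_iff _).mp F1.le
  set θV : V := ⟨θ, hθV⟩ with hθVdef
  have hθ0 : θV ≠ 0 := by
    intro h0
    have h1 : θ = 0 := congrArg Subtype.val h0
    rw [h1, zero_pow hN.ne'] at hθ
    exact hπB.ne_zero (hinjL₂ (hθ.symm.trans (map_zero _).symm))
  have hθnu : ¬ IsUnit θV := by
    intro hu
    have : θV ∈ maximalIdeal V := (V.valuation_lt_one_iff θV).mpr F1
    exact this hu
  obtain ⟨ϱ, hϱ⟩ := IsDiscreteValuationRing.exists_irreducible V
  obtain ⟨t, w, hw⟩ := IsDiscreteValuationRing.eq_unit_mul_pow_irreducible hθ0 hϱ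
  have ht : 0 < t := by
    rcases Nat.eq_zero_or_pos t with h0 | h0
    · exfalso
      rw [h0, pow_zero, mul_one] at hw
      exact hθnu (hw ▸ w.isUnit)
    · exact h0
  have hπV : algebraMap B V πB = ((w ^ N : Vˣ) : V) * ϱ ^ (t * N) := by
    have h1 : algebraMap B V πB = θV ^ N := by
      apply Subtype.ext
      rw [halg]
      push_cast
      exact hθ.symm
    rw [h1, hw, mul_pow, ← pow_mul, Units.val_pow_eq_pow_val]
  have hE : Ideal.ramificationIdx' (maximalIdeal B) (maximalIdeal V) = t * N :=
    Groth.Agent.Lib.DVRExt.ramificationIdx'_eq hπB hϱ hπV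
  have hle := Groth.Agent.Lib.H40TameD.ramificationIdx'_le_finrank (K := L) V hV halg
  rw [hE] at hle
  have ht1 : t = 1 := by
    have h2 : t * N ≤ 1 * N := by rw [one_mul]; exact hle.trans hfin
    have := Nat.le_of_mul_le_mul_right h2 hN
    omega
  rw [ht1, one_mul] at hE
  refine ⟨hE, ?_⟩
  apply Groth.Agent.Lib.H40TameD.residue_surjective_of_le (K := L) V hV halg
  rw [hE]; exact hfin

end Kummer

section Core

variable {A B K L : Type u} [CommRing A] [IsDomain A] [IsDiscreteValuationRing A]
  [CommRing B] [IsDomain B] [IsDiscreteValuationRing B] [Algebra A B] [IsLocalHom (algebraMap A B)]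
  [Field K] [Field L] [Algebra A K] [IsFractionRing A K] [Algebra B L] [IsFractionRing B L]
  [Algebra K L] [Algebra A L] [IsScalarTower A K L] [IsScalarTower A B L]

theorem tame_core (hinj : Function.Injective (algebraMap A B))
    (K' : Type u) [Field K'] [Algebra K K'] [FiniteDimensional K K']
    (h : EtRam.IsTamelyRamified A ((algebraMap K K').comp (algebraMap A K)))
    (N : ℕ) (hNpos : 0 < N) (hNk : ((N : ℕ) : ResidueField A) ≠ 0)
    (hN : ∀ (V' : ValuationSubring K')
      (hV' : EtRam.Dominates A ((algebraMap K K').comp (algebraMap A K)) V'),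
      letI : Algebra A V' := (RingHom.codRestrict _ V' hV'.1).toAlgebra
      Ideal.ramificationIdx' (maximalIdeal A) (maximalIdeal V') ∣ N)
    (πB : B) (hπB : Irreducible πB)
    (L₂ : Type u) [Field L₂] [Algebra L L₂] [FiniteDimensional L L₂] (θ : L₂)
    (hθ : θ ^ N = algebraMap L L₂ (algebraMap B L πB)) (hfin : Module.finrank L L₂ ≤ N)
    (M : Type u) [Field M] [Algebra K M] [Algebra L M] [Algebra K' M] [Algebra L₂ M]
    [IsScalarTower K L M] [IsScalarTower K K' M] [IsScalarTower L L₂ M]
    (hadj : Algebra.adjoin L₂ (Set.range (algebraMap K' M)) = ⊤) :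
    EtRam.IsTamelyRamified B ((algebraMap L M).comp (algebraMap B L)) := by
  let _ : Algebra B L₂ := ((algebraMap L L₂).comp (algebraMap B L)).toAlgebra
  have : IsScalarTower B L L₂ := IsScalarTower.of_algebraMap_eq (fun _ => rfl)
  let _ : Algebra K L₂ := ((algebraMap L L₂).comp (algebraMap K L)).toAlgebra
  have : IsScalarTower K L L₂ := IsScalarTower.of_algebraMap_eq (fun _ => rfl)
  let _ : Algebra A L₂ := ((algebraMap K L₂).comp (algebraMap A K)).toAlgebra
  have : IsScalarTower A K L₂ := IsScalarTower.of_algebraMap_eq (fun _ => rfl)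
  have : IsScalarTower K L₂ M := IsScalarTower.of_algebraMap_eq (fun k => by
    rw [IsScalarTower.algebraMap_apply K L M, IsScalarTower.algebraMap_apply L L₂ M]
    rfl)
  let _ : Algebra B M := ((algebraMap L M).comp (algebraMap B L)).toAlgebra
  have : IsScalarTower B L M := IsScalarTower.of_algebraMap_eq (fun _ => rfl)
  have hfdL₂M : FiniteDimensional L₂ M := finiteDimensional_of_adjoin (K := K) hadj
  have hfdLM : FiniteDimensional L M := Module.Finite.trans L₂ M
  have hcompg : (algebraMap L M).comp (algebraMap B L) =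
      (algebraMap L₂ M).comp (algebraMap B L₂) :=
    RingHom.ext (fun b => IsScalarTower.algebraMap_apply L L₂ M _)
  have hAL₂ : ∀ a : A, algebraMap A L₂ a = algebraMap B L₂ (algebraMap A B a) := by
    intro a
    change algebraMap L L₂ (algebraMap K L (algebraMap A K a)) =
      algebraMap L L₂ (algebraMap B L (algebraMap A B a))
    rw [← IsScalarTower.algebraMap_apply A K L, ← IsScalarTower.algebraMap_apply A B L]
  have hgB : Function.Injective (algebraMap B L₂) :=
    Groth.Agent.Lib.H40TotRamCriterion.algebraMap_injective' (K := L)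
  have hDL : ∀ V, EtRam.Dominates B (algebraMap B L₂) V → IsDiscreteValuationRing V :=
    fun V hV => isDVR_of_dominates (K := L) V hV
  have hkey : ∀ (V : ValuationSubring L₂) (hV : EtRam.Dominates B (algebraMap B L₂) V),
      letI : Algebra B V := (RingHom.codRestrict (algebraMap B L₂) V hV.1).toAlgebra
      ∀ [IsLocalHom (algebraMap B V)],
      Ideal.ramificationIdx' (maximalIdeal B) (maximalIdeal V) = N ∧
        Function.Surjective (algebraMap (ResidueField B) (ResidueField V)) := by
    intro V hV
    have := hDL V hV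
    let _ : Algebra B V := (RingHom.codRestrict (algebraMap B L₂) V hV.1).toAlgebra
    intro hloc
    exact kummer_local (L := L) hπB hNpos hθ hfin V hV (fun _ => rfl)
  rw [hcompg]
  refine isTamelyRamified_trans (algebraMap B L₂) (algebraMap L₂ M) hgB hDL ?_ ?_ ?_
  · intro W hW
    rw [← hcompg] at hW
    exact isDVR_of_dominates (K := L) W hW
  · -- `L₂/L` is tame
    intro V hV
    let _ : Algebra B V := (RingHom.codRestrict (algebraMap B L₂) V hV.1).toAlgebra
    intro hloc
    obtain ⟨hE, hsurj⟩ := hkey V hV
    refine ⟨⟨fun z => ?_⟩, fun p hp hchar => ?_⟩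
    · obtain ⟨y, rfl⟩ := hsurj z
      exact isSeparable_algebraMap y
    · rw [hE]
      intro hdvd
      have h0 : ((N : ℕ) : ResidueField B) = 0 := (CharP.cast_eq_zero_iff _ p N).mpr hdvd
      apply hNk
      have h1 : algebraMap (ResidueField A) (ResidueField B) ((N : ℕ) : ResidueField A) = 0 := by
        rw [map_natCast]; exact h0
      exact (map_eq_zero _).mp h1
  · -- `M/L₂` is unramified at each valuation ring of `L₂` over `B`
    intro V hV
    have hdvrV := hDL V hV
    let _ : Algebra B V := (RingHom.codRestrict (algebraMap B L₂) V hV.1).toAlgebra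
    have hlocBV : IsLocalHom (algebraMap B V) := isLocalHom_codRestrict _ _ hV
    obtain ⟨hE, -⟩ := hkey V hV
    let _ : Algebra A V := ((algebraMap B V).comp (algebraMap A B)).toAlgebra
    have : IsScalarTower A B V := IsScalarTower.of_algebraMap_eq (fun _ => rfl)
    have hlocAV : IsLocalHom (algebraMap A V) := by
      change IsLocalHom ((algebraMap B V).comp (algebraMap A B))
      exact RingHom.isLocalHom_comp _ _
    have : IsScalarTower A V L₂ := IsScalarTower.of_algebraMap_eq (fun a => hAL₂ a)
    have hinjBV : Function.Injective (algebraMap B V) := by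
      intro b b' hb
      exact hgB (congrArg Subtype.val hb)
    have hinjAV : Function.Injective (algebraMap A V) := hinjBV.comp hinj
    have hNB : N ∣ Ideal.ramificationIdx' (maximalIdeal A) (maximalIdeal V) := by
      rw [ramificationIdx'_tower (B := B) hinj hinjBV, hE]
      exact Dvd.intro_left _ rfl
    have hres := Groth.Agent.Lib.H40TameC.isUnramifiedExt_of_dvd (A := A) (B := V) (K := K)
      (L := L₂) hinjAV K' h N hN hNB M hadj
    have hsub : (algebraMap L₂ M).comp (algebraMap V L₂) = (algebraMap L₂ M).comp V.subtype := rfl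
    rw [hsub] at hres
    refine isTamelyRamified_of_isUnramifiedExt _ ?_ hres
    intro W hW
    let _ : Algebra V M := ((algebraMap L₂ M).comp V.subtype).toAlgebra
    have : IsScalarTower V L₂ M := IsScalarTower.of_algebraMap_eq (fun _ => rfl)
    exact isDVR_of_dominates (K := L₂) W hW

end Core

section BaseChange

theorem pow_eq_of_aeval {F M' : Type*} [CommRing F] [CommRing M'] [Algebra F M'] (N : ℕ) (c : F)
    (t : M') (h : Polynomial.aeval t (X ^ N - C c : F[X]) = 0) : t ^ N = algebraMap F M' c := by
  rwa [map_sub, map_pow, aeval_X, aeval_C, sub_eq_zero] at h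

variable {A B K L : Type u} [CommRing A] [IsDomain A] [IsDiscreteValuationRing A]
  [CommRing B] [IsDomain B] [IsDiscreteValuationRing B] [Algebra A B] [IsLocalHom (algebraMap A B)]
  [Field K] [Field L] [Algebra A K] [IsFractionRing A K] [Algebra B L] [IsFractionRing B L]
  [Algebra K L] [Algebra A L] [IsScalarTower A K L] [IsScalarTower A B L]

/-- Tame base change, compositum form. -/
theorem tame_baseChange (hinj : Function.Injective (algebraMap A B))
    (K' : Type u) [Field K'] [Algebra K K'] [FiniteDimensional K K']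
    (h : EtRam.IsTamelyRamified A ((algebraMap K K').comp (algebraMap A K)))
    (F : Type u) [Field F] [Algebra K F] [Algebra L F] [Algebra K' F]
    [IsScalarTower K L F] [IsScalarTower K K' F]
    (hadj : Algebra.adjoin L (Set.range (algebraMap K' F)) = ⊤) :
    EtRam.IsTamelyRamified B ((algebraMap L F).comp (algebraMap B L)) := by
  classical
  obtain ⟨N, hN2, hNk, hNdiv⟩ := Groth.Agent.Lib.H40TameD.exists_e0 (A := A) (K := K) K' h
  have hN0 : N ≠ 0 := by omega
  obtain ⟨πB, hπB⟩ := IsDiscreteValuationRing.exists_irreducible B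
  let _ : Algebra B F := ((algebraMap L F).comp (algebraMap B L)).toAlgebra
  have : IsScalarTower B L F := IsScalarTower.of_algebraMap_eq (fun _ => rfl)
  have hfdLF : FiniteDimensional L F := finiteDimensional_of_adjoin (K := K) hadj
  set fF : F[X] := X ^ N - C (algebraMap B F πB) with hfF
  have hfFdeg : fF.natDegree = N := natDegree_X_pow_sub_C
  have hfact := Polynomial.fact_irreducible_factor fF
  have hgdvd : fF.factor ∣ fF := factor_dvd_of_natDegree_ne_zero (by rw [hfFdeg]; exact hN0)
  have hg0 : fF.factor ≠ 0 := (irreducible_factor fF).ne_zero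
  set θ : AdjoinRoot fF.factor := AdjoinRoot.root fF.factor with hθ
  have hθN : θ ^ N = algebraMap F (AdjoinRoot fF.factor) (algebraMap B F πB) :=
    pow_eq_of_aeval N _ θ (by rw [AdjoinRoot.aeval_eq, AdjoinRoot.mk_eq_zero]; exact hgdvd)
  have hfinFM : FiniteDimensional F (AdjoinRoot fF.factor) := (AdjoinRoot.powerBasis hg0).finite
  have hfdLM : FiniteDimensional L (AdjoinRoot fF.factor) := Module.Finite.trans F _
  -- the intermediate field `L₂ = L(θ)`
  have hθint : IsIntegral L θ := Algebra.IsIntegral.isIntegral θ
  have hθN' : θ ^ N = algebraMap L (AdjoinRoot fF.factor) (algebraMap B L πB) := by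
    rw [hθN, IsScalarTower.algebraMap_apply L F (AdjoinRoot fF.factor)]
    rfl
  have hfin : Module.finrank L (IntermediateField.adjoin L {θ}) ≤ N := by
    rw [IntermediateField.adjoin.finrank hθint]
    have hmonic : (X ^ N - C (algebraMap B L πB) : L[X]).Monic := monic_X_pow_sub_C _ hN0
    have hdvd : minpoly L θ ∣ (X ^ N - C (algebraMap B L πB) : L[X]) := by
      apply minpoly.dvd
      rw [map_sub, map_pow, aeval_X, aeval_C, hθN', sub_self]
    calc (minpoly L θ).natDegree ≤ (X ^ N - C (algebraMap B L πB) : L[X]).natDegree :=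
          natDegree_le_of_dvd hdvd hmonic.ne_zero
      _ = N := natDegree_X_pow_sub_C
  have hfdL₂ : FiniteDimensional L (IntermediateField.adjoin L {θ}) :=
    IntermediateField.adjoin.finiteDimensional hθint
  set θ₂ : IntermediateField.adjoin L {θ} :=
    ⟨θ, IntermediateField.mem_adjoin_simple_self L θ⟩ with hθ₂
  have hθ₂N : θ₂ ^ N = algebraMap L (IntermediateField.adjoin L {θ}) (algebraMap B L πB) := by
    apply Subtype.ext
    push_cast
    exact hθN'
  have hadjM : Algebra.adjoin (IntermediateField.adjoin L {θ})
      (Set.range (algebraMap K' (AdjoinRoot fF.factor))) = ⊤ := by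
    rw [eq_top_iff]
    rintro x -
    have hx : x ∈ Algebra.adjoin F {θ} := by
      rw [hθ, AdjoinRoot.adjoinRoot_eq_top]; trivial
    induction hx using Algebra.adjoin_induction with
    | mem y hy =>
      rw [Set.mem_singleton_iff] at hy
      rw [hy]
      exact Subalgebra.algebraMap_mem _ θ₂
    | algebraMap y =>
      have hy : y ∈ Algebra.adjoin L (Set.range (algebraMap K' F)) := by rw [hadj]; trivial
      induction hy using Algebra.adjoin_induction with
      | mem z hz =>
        obtain ⟨k, rfl⟩ := hz
        rw [← IsScalarTower.algebraMap_apply K' F (AdjoinRoot fF.factor)]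
        exact Algebra.subset_adjoin ⟨k, rfl⟩
      | algebraMap l =>
        rw [← IsScalarTower.algebraMap_apply L F (AdjoinRoot fF.factor),
          IsScalarTower.algebraMap_apply L (IntermediateField.adjoin L {θ}) (AdjoinRoot fF.factor)]
        exact Subalgebra.algebraMap_mem _ _
      | add y z _ _ hy hz => rw [map_add]; exact Subalgebra.add_mem _ hy hz
      | mul y z _ _ hy hz => rw [map_mul]; exact Subalgebra.mul_mem _ hy hz
    | add y z _ _ hy hz => exact Subalgebra.add_mem _ hy hz
    | mul y z _ _ hy hz => exact Subalgebra.mul_mem _ hy hz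
  have hM := tame_core (A := A) (B := B) (K := K) (L := L) hinj K' h N (by omega) hNk hNdiv
    πB hπB (IntermediateField.adjoin L {θ}) θ₂ hθ₂N hfin (AdjoinRoot fF.factor) hadjM
  have hcomp : (algebraMap L (AdjoinRoot fF.factor)).comp (algebraMap B L) =
      (algebraMap F (AdjoinRoot fF.factor)).comp ((algebraMap L F).comp (algebraMap B L)) := by
    refine RingHom.ext fun b => ?_
    exact IsScalarTower.algebraMap_apply L F (AdjoinRoot fF.factor) _
  rw [hcomp] at hM
  have hg : Function.Injective ((algebraMap L F).comp (algebraMap B L)) :=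
    (algebraMap L F).injective.comp (IsFractionRing.injective B L)
  refine isTamelyRamified_of_comp _ (algebraMap F (AdjoinRoot fF.factor)) hg ?_ ?_ hM
  · intro V hV
    exact isDVR_of_dominates (K := L) V hV
  · intro W hW
    have hW' : EtRam.Dominates B (algebraMap B (AdjoinRoot fF.factor)) W := by
      rw [IsScalarTower.algebraMap_eq B F (AdjoinRoot fF.factor)]
      exact hW
    exact isDVR_of_dominates (K := L) W hW'

end BaseChange

end Groth.Agent.Lib.H40TameG
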