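import Mathlib
import Groth.Prelude.Def_EtRam

set_option autoImplicit false
universe u

namespace Groth.Agent.Lib.H40TotRamCriterion

open IsLocalRing

section Val

theorem le_map_sum_of_pairwise_ne {R Γ : Type*} [CommRing R] [LinearOrderedCommGroupWithZero Γ]
    (v : Valuation R Γ) {ι : Type*} [DecidableEq ι] (I : Finset ι) (z : ι → R)
    (hne : ∀ i ∈ I, ∀ j ∈ I, i ≠ j → v (z i) ≠ 0 → v (z i) ≠ v (z j)) :
    ∀ i ∈ I, v (z i) ≤ v (∑ j ∈ I, z j) := by
  intro i hi
  obtain ⟨i₀, hi₀, hmax⟩ := Finset.exists_max_image I (fun j => v (z j)) ⟨i, hi⟩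
  by_cases h0 : v (z i₀) = 0
  · have h1 := hmax i hi
    simp only [h0] at h1
    exact h1.trans zero_le
  · have hlt : ∀ j ∈ I.erase i₀, v (z j) < v (z i₀) := fun j hj =>
      lt_of_le_of_ne (hmax j (Finset.mem_of_mem_erase hj))
        (fun h => hne i₀ hi₀ j (Finset.mem_of_mem_erase hj) (Finset.ne_of_mem_erase hj).symm h0 h.symm)
    have h1 := Valuation.map_sum_lt v h0 hlt
    have h2 : v (∑ j ∈ I, z j) = v (z i₀) := by
      rw [← Finset.add_sum_erase I z hi₀]
      exact Valuation.map_add_eq_of_lt_left v h1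
    rw [h2]; exact hmax i hi

end Val

variable {A K L : Type u} [CommRing A] [IsDomain A] [IsDiscreteValuationRing A] [Field K]
  [Algebra A K] [IsFractionRing A K] [Field L] [Algebra K L] [Algebra A L] [IsScalarTower A K L]

omit [IsDomain A] [IsDiscreteValuationRing A] in
include K in
theorem algebraMap_injective' : Function.Injective (algebraMap A L) := by
  rw [IsScalarTower.algebraMap_eq A K L]
  exact (algebraMap K L).injective.comp (IsFractionRing.injective A K)

theorem val_unit {V : ValuationSubring L} (hV : EtRam.Dominates A (algebraMap A L) V) (u : Aˣ) :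
    V.valuation (algebraMap A L u) = 1 := by
  have h1 : V.valuation (algebraMap A L u) ≤ 1 := (V.valuation_le_one_iff _).mpr (hV.1 u)
  have h2 : V.valuation (algebraMap A L (u⁻¹ : Aˣ)) ≤ 1 := (V.valuation_le_one_iff _).mpr (hV.1 _)
  have h3 : V.valuation (algebraMap A L u) * V.valuation (algebraMap A L (u⁻¹ : Aˣ)) = 1 := by
    rw [← map_mul, ← map_mul, ← Units.val_mul, mul_inv_cancel, Units.val_one, map_one, map_one]
  apply le_antisymm h1
  calc 1 = _ := h3.symm
    _ ≤ V.valuation (algebraMap A L u) * 1 := mul_le_mul_right h2 _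
    _ = _ := mul_one _

theorem val_algebraMap_K {π : A} (hπ : Irreducible π) {V : ValuationSubring L}
    (hV : EtRam.Dominates A (algebraMap A L) V) {c : K} (hc : c ≠ 0) :
    ∃ m : ℤ, V.valuation (algebraMap K L c) = V.valuation (algebraMap A L π) ^ m ∧
      (0 ≤ m → c ∈ Set.range (algebraMap A K)) := by
  obtain ⟨m, u, rfl⟩ := IsDiscreteValuationRing.exists_units_eq_smul_zpow_of_irreducible hπ hc
  refine ⟨m, ?_, ?_⟩
  · rw [Units.smul_def, Algebra.smul_def, map_mul, map_zpow₀, ← IsScalarTower.algebraMap_apply,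
      ← IsScalarTower.algebraMap_apply, map_mul, map_zpow₀, val_unit hV, one_mul]
  · intro hm
    obtain ⟨k, rfl⟩ := Int.eq_ofNat_of_zero_le hm
    exact ⟨u * π ^ k, by rw [map_mul, map_pow, Units.smul_def, Algebra.smul_def, zpow_natCast]⟩


/-- exponent of a term `c θ^i`. -/
theorem val_term {π : A} (hπ : Irreducible π) {q : ℕ} {θ : L} {V : ValuationSubring L}
    (hV : EtRam.Dominates A (algebraMap A L) V)
    (hθV : V.valuation θ ^ q = V.valuation (algebraMap A L π)) (hγ0 : V.valuation θ ≠ 0)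
    {c : K} (hc : c ≠ 0) (i : Fin q) :
    ∃ e : ℤ, V.valuation (algebraMap K L c * θ ^ (i : ℕ)) = V.valuation θ ^ e ∧ e % (q : ℤ) = (i : ℕ) ∧
      (0 ≤ e → c ∈ Set.range (algebraMap A K)) := by
  obtain ⟨m, hm, hm'⟩ := val_algebraMap_K hπ hV hc
  refine ⟨(q : ℤ) * m + (i : ℕ), ?_, ?_, ?_⟩
  · rw [map_mul, map_pow, hm, ← hθV, zpow_add₀ hγ0, zpow_mul, zpow_natCast, zpow_natCast]
  · rw [add_comm, Int.add_mul_emod_self_left]
    exact Int.emod_eq_of_lt (by positivity) (by exact_mod_cast i.2)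
  · intro he
    apply hm'
    by_contra hneg
    push Not at hneg
    have h1 : (i : ℤ) < q := by exact_mod_cast i.2
    have h2 : (q : ℤ) * m ≤ q * (-1) := by
      apply mul_le_mul_of_nonneg_left _ (by positivity)
      omega
    have h3 : ((i : ℕ) : ℤ) = (i : ℤ) := rfl
    omega


theorem key {π : A} (hπ : maximalIdeal A = Ideal.span {π}) {q : ℕ} (hq : 0 < q)
    (hfin : Module.finrank K L = q) {θ : L} {V : ValuationSubring L}
    (hV : EtRam.Dominates A (algebraMap A L) V)
    (hθV : V.valuation θ ^ q = V.valuation (algebraMap A L π)) :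
    (∀ y : L, y ∈ V ↔ ∃ a : Fin q → A, y = ∑ i, algebraMap A L (a i) * θ ^ (i : ℕ)) ∧
    (∀ a : Fin q → A,
      V.valuation (∑ i, algebraMap A L (a i) * θ ^ (i : ℕ) - algebraMap A L (a ⟨0, hq⟩)) < 1) := by
  classical
  have hπirr : Irreducible π := (IsDiscreteValuationRing.irreducible_iff_uniformizer π).mpr hπ
  have hπmem : π ∈ maximalIdeal A := by rw [hπ]; exact Ideal.mem_span_singleton_self π
  have hinj : Function.Injective (algebraMap A L) := algebraMap_injective' (K := K)
  have hϖ1 : V.valuation (algebraMap A L π) < 1 := hV.2 π hπmem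
  have hϖ0 : V.valuation (algebraMap A L π) ≠ 0 := by
    rw [Valuation.ne_zero_iff]
    exact fun h => hπirr.ne_zero (hinj (h.trans (map_zero _).symm))
  have hγ0 : V.valuation θ ≠ 0 := by
    intro h
    rw [h, zero_pow hq.ne'] at hθV
    exact hϖ0 hθV.symm
  have hγpos : 0 < V.valuation θ := zero_lt_iff.mpr hγ0
  have hγ1 : V.valuation θ < 1 := by
    by_contra hcon
    push Not at hcon
    have := one_le_pow₀ hcon (n := q)
    rw [hθV] at this
    exact absurd hϖ1 (not_lt.mpr this)
  have hθmem : θ ∈ V := (V.valuation_le_one_iff _).mp hγ1.le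
  have hθ0 : θ ≠ 0 := (Valuation.ne_zero_iff _).mp hγ0
  -- distinctness
  have hdist : ∀ c : Fin q → K, ∀ i j : Fin q, i ≠ j →
      V.valuation (algebraMap K L (c i) * θ ^ (i : ℕ)) ≠ 0 →
      V.valuation (algebraMap K L (c i) * θ ^ (i : ℕ)) ≠
        V.valuation (algebraMap K L (c j) * θ ^ (j : ℕ)) := by
    intro c i j hij h0 heq
    have hci : c i ≠ 0 := by
      intro h; apply h0; rw [h, map_zero, zero_mul, map_zero]
    have hcj : c j ≠ 0 := by
      intro h; apply h0; rw [heq, h, map_zero, zero_mul, map_zero]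
    obtain ⟨ei, hei, hei', -⟩ := val_term hπirr hV hθV hγ0 hci i
    obtain ⟨ej, hej, hej', -⟩ := val_term hπirr hV hθV hγ0 hcj j
    rw [hei, hej] at heq
    have := zpow_right_injective₀ hγpos hγ1.ne heq
    apply hij
    apply Fin.ext
    have h2 : ((i : ℕ) : ℤ) = ((j : ℕ) : ℤ) := by rw [← hei', ← hej', this]
    exact_mod_cast h2
  have hle : ∀ c : Fin q → K, ∀ i : Fin q,
      V.valuation (algebraMap K L (c i) * θ ^ (i : ℕ)) ≤
        V.valuation (∑ j, algebraMap K L (c j) * θ ^ (j : ℕ)) := by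
    intro c i
    exact le_map_sum_of_pairwise_ne V.valuation Finset.univ _
      (fun i _ j _ hij h0 => hdist c i j hij h0) i (Finset.mem_univ i)
  -- linear independence
  have hli : LinearIndependent K (fun i : Fin q => θ ^ (i : ℕ)) := by
    rw [Fintype.linearIndependent_iff]
    intro c hsum i
    by_contra hci
    have h1 := hle c i
    have h2 : ∑ j, algebraMap K L (c j) * θ ^ (j : ℕ) = 0 := by
      rw [← hsum]
      exact Finset.sum_congr rfl (fun j _ => (Algebra.smul_def _ _).symm)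
    rw [h2, map_zero, le_zero_iff, Valuation.zero_iff, mul_eq_zero] at h1
    rcases h1 with h1 | h1
    · exact hci ((algebraMap K L).injective (h1.trans (map_zero _).symm))
    · exact hθ0 (pow_eq_zero_iff'.mp h1).1
  have hfd : Module.Finite K L := Module.finite_of_finrank_pos (by rw [hfin]; exact hq)
  have hspan : ∀ y : L, ∃ c : Fin q → K, y = ∑ j, algebraMap K L (c j) * θ ^ (j : ℕ) := by
    intro y
    have h1 := hli.span_eq_top_of_card_eq_finrank' (by rw [Fintype.card_fin, hfin])
    have h2 : y ∈ Submodule.span K (Set.range (fun i : Fin q => θ ^ (i : ℕ))) := by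
      rw [h1]; trivial
    obtain ⟨c, hc⟩ := (Submodule.mem_span_range_iff_exists_fun K).mp h2
    exact ⟨c, by rw [← hc]; exact Finset.sum_congr rfl (fun j _ => (Algebra.smul_def _ _))⟩
  have hterm_mem : ∀ (a : A) (i : ℕ), algebraMap A L a * θ ^ i ∈ V := fun a i =>
    V.mul_mem _ _ (hV.1 a) (pow_mem hθmem i)
  refine ⟨fun y => ⟨fun hy => ?_, ?_⟩, fun a => ?_⟩
  · obtain ⟨c, rfl⟩ := hspan y
    have hc : ∀ i : Fin q, ∃ a : A, algebraMap A K a = c i := by
      intro i
      by_cases hci : c i = 0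
      · exact ⟨0, by rw [hci, map_zero]⟩
      · obtain ⟨e, he, -, he'⟩ := val_term hπirr hV hθV hγ0 hci i
        apply he'
        have h1 := (hle c i).trans ((V.valuation_le_one_iff _).mpr hy)
        rw [he] at h1
        exact (zpow_le_one_iff_right_of_lt_one₀ hγpos hγ1).mp h1
    choose a ha using hc
    refine ⟨a, Finset.sum_congr rfl (fun i _ => ?_)⟩
    rw [← ha i, ← IsScalarTower.algebraMap_apply]
  · rintro ⟨a, rfl⟩
    exact V.toSubring.sum_mem (fun i _ => hterm_mem (a i) i)
  · have h1 : ∑ i, algebraMap A L (a i) * θ ^ (i : ℕ) - algebraMap A L (a ⟨0, hq⟩) =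
        ∑ i ∈ Finset.univ.erase (⟨0, hq⟩ : Fin q), algebraMap A L (a i) * θ ^ (i : ℕ) := by
      rw [← Finset.add_sum_erase Finset.univ _ (Finset.mem_univ (⟨0, hq⟩ : Fin q))]
      simp
    rw [h1]
    apply Valuation.map_sum_lt _ one_ne_zero
    intro i hi
    have hi0 : (i : ℕ) ≠ 0 := fun h => Finset.ne_of_mem_erase hi (Fin.ext h)
    obtain ⟨k, hk⟩ := Nat.exists_eq_succ_of_ne_zero hi0
    rw [hk, pow_succ, ← mul_assoc, map_mul]
    have h2 : V.valuation (algebraMap A L (a i) * θ ^ k) ≤ 1 :=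
      (V.valuation_le_one_iff _).mpr (hterm_mem _ _)
    calc V.valuation (algebraMap A L (a i) * θ ^ k) * V.valuation θ
        ≤ 1 * V.valuation θ := mul_le_mul_left h2 _
      _ < 1 := by rw [one_mul]; exact hγ1


omit [IsDomain A] [IsDiscreteValuationRing A] [IsFractionRing A K] [IsScalarTower A K L] [Algebra K L] [Field K] [Algebra A K] in
theorem exists_dominates [IsLocalRing A] : ∃ V : ValuationSubring L, EtRam.Dominates A (algebraMap A L) V := by
  obtain ⟨V, h, hloc⟩ := IsLocalRing.exists_factor_valuationRing (algebraMap A L)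
  refine ⟨V, h, fun a ha => ?_⟩
  have h1 := V.valuation_lt_one_iff ⟨algebraMap A L a, h a⟩
  apply h1.mp
  rw [mem_maximalIdeal, mem_nonunits_iff]
  intro hu
  have : IsUnit ((algebraMap A L).codRestrict V.toSubring h a) := hu
  exact ha (hloc.map_nonunit a this)

theorem mem_integralClosure_of_mem {π : A} (hπ : maximalIdeal A = Ideal.span {π}) {q : ℕ} (hq : 0 < q)
    (hfin : Module.finrank K L = q) {θ : L} (hθint : IsIntegral A θ) {V : ValuationSubring L}
    (hV : EtRam.Dominates A (algebraMap A L) V)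
    (hθV : V.valuation θ ^ q = V.valuation (algebraMap A L π)) {y : L} (hy : y ∈ V) :
    y ∈ integralClosure A L := by
  obtain ⟨a, rfl⟩ := ((key hπ hq hfin hV hθV).1 y).mp hy
  exact Subalgebra.sum_mem _ (fun i _ => Subalgebra.mul_mem _ (Subalgebra.algebraMap_mem _ _)
    (Subalgebra.pow_mem _ hθint _))

theorem isTotallyRamified_of_val_pow_eq {π : A} (hπ : maximalIdeal A = Ideal.span {π}) {q : ℕ}
    (hq : 0 < q) (hfin : Module.finrank K L = q) (θ : L)
    (hθ : ∀ V : ValuationSubring L, EtRam.Dominates A (algebraMap A L) V →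
      V.valuation θ ^ q = V.valuation (algebraMap A L π)) :
    EtRam.IsTotallyRamified A (algebraMap A L) := by
  refine ⟨exists_dominates, fun V V' hV hV' => ?_, fun V hV z => ?_⟩
  · apply ValuationSubring.ext
    intro y
    rw [(key hπ hq hfin hV (hθ V hV)).1 y, (key hπ hq hfin hV' (hθ V' hV')).1 y]
  · obtain ⟨⟨y, hy⟩, rfl⟩ := residue_surjective z
    obtain ⟨a, rfl⟩ := ((key hπ hq hfin hV (hθ V hV)).1 y).mp hy
    refine ⟨a ⟨0, hq⟩, ?_⟩
    change residue V (RingHom.codRestrict (algebraMap A L) V hV.1 (a ⟨0, hq⟩)) = residue V ⟨_, hy⟩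
    rw [eq_comm, ← sub_eq_zero, ← map_sub, residue_eq_zero_iff, ValuationSubring.valuation_lt_one_iff]
    exact (key hπ hq hfin hV (hθ V hV)).2 a

end Groth.Agent.Lib.H40TotRamCriterion
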