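import Groth.Agent.Lib.H40TotRamCriterion

set_option autoImplicit false
universe u

namespace Groth.Agent.Lib.H40TotRamStruct

open IsLocalRing

section Basic

variable {A L : Type u} [CommRing A] [Field L] [Algebra A L]

theorem mem_of_isIntegral {V : ValuationSubring L} (hV : ∀ a : A, algebraMap A L a ∈ V) {y : L}
    (hy : IsIntegral A y) : y ∈ V := by
  let _ : Algebra A V := ((algebraMap A L).codRestrict V hV).toAlgebra
  have : IsScalarTower A V L := IsScalarTower.of_algebraMap_eq (fun a => rfl)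
  have h1 : IsIntegral V y := hy.tower_top
  obtain ⟨z, hz⟩ := IsIntegrallyClosedIn.isIntegral_iff.mp h1
  rw [← hz]
  exact z.2

end Basic


section DVR

variable {A K L : Type u} [CommRing A] [IsDomain A] [IsDiscreteValuationRing A] [Field K]
  [Algebra A K] [IsFractionRing A K] [Field L] [Algebra K L] [Algebra A L] [IsScalarTower A K L]

omit [IsDomain A] [IsDiscreteValuationRing A] in
theorem val_unit' {V : ValuationSubring L} (hV : ∀ a : A, algebraMap A L a ∈ V) (u : Aˣ) :
    V.valuation (algebraMap A L u) = 1 := by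
  have h1 : V.valuation (algebraMap A L u) ≤ 1 := (V.valuation_le_one_iff _).mpr (hV u)
  have h2 : V.valuation (algebraMap A L (u⁻¹ : Aˣ)) ≤ 1 := (V.valuation_le_one_iff _).mpr (hV _)
  have h3 : V.valuation (algebraMap A L u) * V.valuation (algebraMap A L (u⁻¹ : Aˣ)) = 1 := by
    rw [← map_mul, ← map_mul, ← Units.val_mul, mul_inv_cancel, Units.val_one, map_one, map_one]
  apply le_antisymm h1
  calc 1 = _ := h3.symm
    _ ≤ V.valuation (algebraMap A L u) * 1 := mul_le_mul_right h2 _
    _ = _ := mul_one _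

theorem dominates_of_ne_top [Algebra.IsAlgebraic K L] {V : ValuationSubring L}
    (hV : ∀ a : A, algebraMap A L a ∈ V) (hne : V ≠ ⊤) :
    EtRam.Dominates A (algebraMap A L) V := by
  refine ⟨hV, fun a ha => ?_⟩
  by_contra hcon
  apply hne
  obtain ⟨π, hπ⟩ := IsDiscreteValuationRing.exists_irreducible A
  have hle : ∀ a : A, V.valuation (algebraMap A L a) ≤ 1 := fun a =>
    (V.valuation_le_one_iff _).mpr (hV a)
  have ha1 : V.valuation (algebraMap A L a) = 1 := le_antisymm (hle a) (not_lt.mp hcon)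
  have hπ1 : V.valuation (algebraMap A L π) = 1 := by
    rw [hπ.maximalIdeal_eq, Ideal.mem_span_singleton] at ha
    obtain ⟨c, rfl⟩ := ha
    rw [map_mul, map_mul] at ha1
    apply le_antisymm (hle π)
    calc 1 = _ := ha1.symm
      _ ≤ V.valuation (algebraMap A L π) * 1 := mul_le_mul_right (hle c) _
      _ = _ := mul_one _
  have hd : ∀ d : A, d ≠ 0 → V.valuation (algebraMap A L d) = 1 := by
    intro d hd
    obtain ⟨m, u, rfl⟩ := IsDiscreteValuationRing.eq_unit_mul_pow_irreducible hd hπ
    rw [map_mul, map_mul, map_pow, map_pow, hπ1, one_pow, mul_one, val_unit' hV]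
  rw [eq_top_iff]
  intro y _
  have halg : IsAlgebraic A y := (IsFractionRing.isAlgebraic_iff A K L).mpr (Algebra.IsAlgebraic.isAlgebraic y)
  obtain ⟨d, hd0, hdy⟩ := halg.exists_integral_multiple
  have h1 : d • y ∈ V := mem_of_isIntegral hV hdy
  have h2 : (algebraMap A L d)⁻¹ ∈ V := by
    rw [← V.valuation_le_one_iff, map_inv₀, hd d hd0, inv_one]
  have h3 : y = (algebraMap A L d)⁻¹ * (d • y) := by
    have hne0 : algebraMap A L d ≠ 0 := by
      rw [← Valuation.ne_zero_iff V.valuation, hd d hd0]; exact one_ne_zero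
    rw [Algebra.smul_def, ← mul_assoc, inv_mul_cancel₀ hne0, one_mul]
  rw [h3]
  exact V.mul_mem _ _ h2 h1

theorem isIntegral_of_mem_of_unique [Algebra.IsAlgebraic K L] {V₁ : ValuationSubring L}
    (huniq : ∀ V : ValuationSubring L, EtRam.Dominates A (algebraMap A L) V → V = V₁) {y : L}
    (hy : y ∈ V₁) : IsIntegral A y := by
  by_contra hni
  have h1 : y ∉ (integralClosure A L).toSubring := hni
  obtain ⟨V, hRV, hyV⟩ := Subring.exists_le_valuationSubring_of_isIntegrallyClosedIn h1
  have hV : ∀ a : A, algebraMap A L a ∈ V := fun a => hRV (isIntegral_algebraMap (R := A) (A := L))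
  have hne : V ≠ ⊤ := fun h => hyV (h ▸ trivial)
  have := huniq V (dominates_of_ne_top (K := K) hV hne)
  exact hyV (this ▸ hy)


/-- linear independence of `1, θ, ..., θ^(q-1)` when `v(θ)^q = v(π)` (no degree hypothesis). -/
theorem linearIndependent_pow {π : A} (hπ : maximalIdeal A = Ideal.span {π}) {q : ℕ} (hq : 0 < q)
    {θ : L} {V : ValuationSubring L} (hV : EtRam.Dominates A (algebraMap A L) V)
    (hθV : V.valuation θ ^ q = V.valuation (algebraMap A L π)) :
    LinearIndependent K (fun i : Fin q => θ ^ (i : ℕ)) := by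
  classical
  have hπirr : Irreducible π := (IsDiscreteValuationRing.irreducible_iff_uniformizer π).mpr hπ
  have hπmem : π ∈ maximalIdeal A := by rw [hπ]; exact Ideal.mem_span_singleton_self π
  have hinj : Function.Injective (algebraMap A L) :=
    Groth.Agent.Lib.H40TotRamCriterion.algebraMap_injective' (K := K)
  have hϖ1 : V.valuation (algebraMap A L π) < 1 := hV.2 π hπmem
  have hϖ0 : V.valuation (algebraMap A L π) ≠ 0 := by
    rw [Valuation.ne_zero_iff]
    exact fun h => hπirr.ne_zero (hinj (h.trans (map_zero _).symm))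
  have hγ0 : V.valuation θ ≠ 0 := by
    intro h
    rw [h, zero_pow hq.ne'] at hθV
    exact hϖ0 hθV.symm
  have hγpos : 0 < V.valuation θ := zero_lt_iff.mpr hγ0
  have hγ1 : V.valuation θ < 1 := by
    by_contra hcon
    push Not at hcon
    have := one_le_pow₀ hcon (n := q)
    rw [hθV] at this
    exact absurd hϖ1 (not_lt.mpr this)
  have hθ0 : θ ≠ 0 := (Valuation.ne_zero_iff _).mp hγ0
  have hdist : ∀ c : Fin q → K, ∀ i j : Fin q, i ≠ j →
      V.valuation (algebraMap K L (c i) * θ ^ (i : ℕ)) ≠ 0 →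
      V.valuation (algebraMap K L (c i) * θ ^ (i : ℕ)) ≠
        V.valuation (algebraMap K L (c j) * θ ^ (j : ℕ)) := by
    intro c i j hij h0 heq
    have hci : c i ≠ 0 := by
      intro h; apply h0; rw [h, map_zero, zero_mul, map_zero]
    have hcj : c j ≠ 0 := by
      intro h; apply h0; rw [heq, h, map_zero, zero_mul, map_zero]
    obtain ⟨ei, hei, hei', -⟩ := Groth.Agent.Lib.H40TotRamCriterion.val_term hπirr hV hθV hγ0 hci i
    obtain ⟨ej, hej, hej', -⟩ := Groth.Agent.Lib.H40TotRamCriterion.val_term hπirr hV hθV hγ0 hcj j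
    rw [hei, hej] at heq
    have := zpow_right_injective₀ hγpos hγ1.ne heq
    apply hij
    apply Fin.ext
    have h2 : ((i : ℕ) : ℤ) = ((j : ℕ) : ℤ) := by rw [← hei', ← hej', this]
    exact_mod_cast h2
  have hle : ∀ c : Fin q → K, ∀ i : Fin q,
      V.valuation (algebraMap K L (c i) * θ ^ (i : ℕ)) ≤
        V.valuation (∑ j, algebraMap K L (c j) * θ ^ (j : ℕ)) := by
    intro c i
    exact Groth.Agent.Lib.H40TotRamCriterion.le_map_sum_of_pairwise_ne V.valuation Finset.univ _
      (fun i _ j _ hij h0 => hdist c i j hij h0) i (Finset.mem_univ i)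
  rw [Fintype.linearIndependent_iff]
  intro c hsum i
  by_contra hci
  have h1 := hle c i
  have h2 : ∑ j, algebraMap K L (c j) * θ ^ (j : ℕ) = 0 := by
    rw [← hsum]
    exact Finset.sum_congr rfl (fun j _ => (Algebra.smul_def _ _).symm)
  rw [h2, map_zero, le_zero_iff, Valuation.zero_iff, mul_eq_zero] at h1
  rcases h1 with h1 | h1
  · exact hci ((algebraMap K L).injective (h1.trans (map_zero _).symm))
  · exact hθ0 (pow_eq_zero_iff'.mp h1).1

theorem isNoetherianRing_of_unique [FiniteDimensional K L] [Algebra.IsSeparable K L]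
    {V₁ : ValuationSubring L} (hV₁ : EtRam.Dominates A (algebraMap A L) V₁)
    (huniq : ∀ V : ValuationSubring L, EtRam.Dominates A (algebraMap A L) V → V = V₁) :
    IsNoetherianRing V₁ := by
  have hS : IsNoetherianRing (integralClosure A L) :=
    integralClosure.isNoetherianRing (A := A) (K := K) (L := L)
  have hmem : ∀ y : L, y ∈ integralClosure A L ↔ y ∈ V₁ := fun y =>
    ⟨fun h => mem_of_isIntegral hV₁.1 h, fun h => isIntegral_of_mem_of_unique (K := K) huniq h⟩
  let e : integralClosure A L ≃+* V₁ :=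
    { toFun := fun x => ⟨x.1, (hmem x.1).mp x.2⟩
      invFun := fun x => ⟨x.1, (hmem x.1).mpr x.2⟩
      left_inv := fun _ => rfl
      right_inv := fun _ => rfl
      map_mul' := fun _ _ => rfl
      map_add' := fun _ _ => rfl }
  exact isNoetherianRing_of_ringEquiv _ e


theorem exists_theta [FiniteDimensional K L] [Algebra.IsSeparable K L] {π : A}
    (hπ : maximalIdeal A = Ideal.span {π})
    (ht : EtRam.IsTotallyRamified A (algebraMap A L)) :
    ∃ θ : L, ∀ V : ValuationSubring L, EtRam.Dominates A (algebraMap A L) V →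
      V.valuation θ ^ (Module.finrank K L) = V.valuation (algebraMap A L π) := by
  classical
  obtain ⟨⟨V₁, hV₁⟩, huniq', hres⟩ := ht
  have huniq : ∀ V : ValuationSubring L, EtRam.Dominates A (algebraMap A L) V → V = V₁ :=
    fun V hV => huniq' V V₁ hV hV₁
  have hnoeth : IsNoetherianRing V₁ := isNoetherianRing_of_unique (K := K) hV₁ huniq
  have hπirr : Irreducible π := (IsDiscreteValuationRing.irreducible_iff_uniformizer π).mpr hπ
  have hπmem : π ∈ maximalIdeal A := by rw [hπ]; exact Ideal.mem_span_singleton_self π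
  have hinj : Function.Injective (algebraMap A L) :=
    Groth.Agent.Lib.H40TotRamCriterion.algebraMap_injective' (K := K)
  set πV : V₁ := ⟨algebraMap A L π, hV₁.1 π⟩ with hπV
  have hπV0 : πV ≠ 0 := by
    intro h
    have : algebraMap A L π = 0 := congrArg Subtype.val h
    exact hπirr.ne_zero (hinj (this.trans (map_zero _).symm))
  have hπVmem : πV ∈ maximalIdeal V₁ := (V₁.valuation_lt_one_iff πV).mpr (hV₁.2 π hπmem)
  have hnf : ¬ IsField V₁ := by
    intro hf
    obtain ⟨y, hy⟩ := hf.mul_inv_cancel hπV0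
    exact hπVmem (IsUnit.of_mul_eq_one y hy)
  have hvr : ValuationRing V₁ := inferInstance
  have hdvr : IsDiscreteValuationRing V₁ :=
    ((IsDiscreteValuationRing.TFAE V₁ hnf).out 0 1).mpr hvr
  obtain ⟨θ₁, hθ₁⟩ := IsDiscreteValuationRing.exists_irreducible V₁
  obtain ⟨e, u, hu⟩ := IsDiscreteValuationRing.eq_unit_mul_pow_irreducible hπV0 hθ₁
  have he0 : e ≠ 0 := by
    intro h
    rw [h, pow_zero, mul_one] at hu
    exact hπVmem (hu ▸ u.isUnit)
  have hepos : 0 < e := Nat.pos_of_ne_zero he0
  set θ : L := θ₁.1 with hθ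
  have hπθ : algebraMap A L π = (u : V₁).1 * θ ^ e := congrArg Subtype.val hu
  have hval : V₁.valuation θ ^ e = V₁.valuation (algebraMap A L π) := by
    rw [hπθ, map_mul, map_pow, V₁.valuation_unit u, one_mul]
  have hli := linearIndependent_pow (K := K) hπ hepos hV₁ hval
  have hmax : maximalIdeal V₁ = Ideal.span {θ₁} := hθ₁.maximalIdeal_eq
  -- approximation
  have happrox : ∀ k : ℕ, ∀ y ∈ V₁, ∃ a : ℕ → A, ∃ y' ∈ V₁,
      y = ∑ i ∈ Finset.range k, algebraMap A L (a i) * θ ^ i + θ ^ k * y' := by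
    intro k
    induction k with
    | zero => intro y hy; exact ⟨fun _ => 0, y, hy, by simp⟩
    | succ k ih =>
      intro y hy
      obtain ⟨a, y', hy', hyeq⟩ := ih y hy
      obtain ⟨a₀, ha₀⟩ := hres V₁ hV₁ (residue V₁ ⟨y', hy'⟩)
      have h1 : (⟨y', hy'⟩ : V₁) - RingHom.codRestrict (algebraMap A L) V₁ hV₁.1 a₀ ∈
          maximalIdeal V₁ := by
        rw [← residue_eq_zero_iff, map_sub, sub_eq_zero]
        exact ha₀.symm
      rw [hmax, Ideal.mem_span_singleton'] at h1
      obtain ⟨c, hc⟩ := h1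
      have hc' : c.1 * θ = y' - algebraMap A L a₀ := congrArg Subtype.val hc
      refine ⟨Function.update a k a₀, c.1, c.2, ?_⟩
      rw [Finset.sum_range_succ, Function.update_self]
      have h2 : ∑ i ∈ Finset.range k, algebraMap A L (Function.update a k a₀ i) * θ ^ i =
          ∑ i ∈ Finset.range k, algebraMap A L (a i) * θ ^ i := by
        refine Finset.sum_congr rfl (fun i hi => ?_)
        rw [Function.update_of_ne (Finset.mem_range.mp hi).ne]
      rw [h2, hyeq]
      have h3 : y' = algebraMap A L a₀ + c.1 * θ := by rw [hc']; ring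
      rw [h3]; ring
  -- Nakayama
  have hfin : Module.Finite A (integralClosure A L) :=
    IsIntegralClosure.finite A K L (integralClosure A L)
  have hfg : (Subalgebra.toSubmodule (integralClosure A L)).FG := Module.Finite.iff_fg.mp hfin
  set N : Submodule A L := Submodule.span A (Set.range (fun i : Fin e => θ ^ (i : ℕ))) with hN
  have hle : Subalgebra.toSubmodule (integralClosure A L) ≤
      N ⊔ maximalIdeal A • Subalgebra.toSubmodule (integralClosure A L) := by
    intro y hy
    have hyV : y ∈ V₁ := mem_of_isIntegral hV₁.1 hy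
    obtain ⟨a, y', hy', hyeq⟩ := happrox e y hyV
    rw [hyeq]
    apply Submodule.add_mem_sup
    · apply Submodule.sum_mem
      intro i hi
      rw [← Algebra.smul_def]
      apply Submodule.smul_mem
      exact Submodule.subset_span ⟨⟨i, Finset.mem_range.mp hi⟩, rfl⟩
    · have h1 : θ ^ e * y' = π • (((u⁻¹ : V₁ˣ) : V₁).1 * y') := by
        rw [Algebra.smul_def, hπθ]
        have h2 : ((u : V₁).1 : L) * ((u⁻¹ : V₁ˣ) : V₁).1 = 1 := by
          have := congrArg Subtype.val (u.mul_inv)
          exact this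
        calc θ ^ e * y' = ((u : V₁).1 * ((u⁻¹ : V₁ˣ) : V₁).1) * (θ ^ e * y') := by rw [h2, one_mul]
          _ = _ := by ring
      rw [h1]
      apply Submodule.smul_mem_smul hπmem
      exact isIntegral_of_mem_of_unique (K := K) huniq (V₁.mul_mem _ _ (Subtype.mem _) hy')
  have hjac : maximalIdeal A ≤ Ideal.jacobson ⊥ := by
    rw [IsLocalRing.jacobson_eq_maximalIdeal ⊥ bot_ne_top]
  have hSN : Subalgebra.toSubmodule (integralClosure A L) ≤ N :=
    Submodule.le_of_le_smul_of_le_jacobson_bot hfg hjac hle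
  -- span over K
  have hspan : ⊤ ≤ Submodule.span K (Set.range (fun i : Fin e => θ ^ (i : ℕ))) := by
    intro y _
    have halg : IsAlgebraic A y :=
      (IsFractionRing.isAlgebraic_iff A K L).mpr (Algebra.IsAlgebraic.isAlgebraic y)
    obtain ⟨d, hd0, hdy⟩ := halg.exists_integral_multiple
    have h1 : d • y ∈ N := hSN hdy
    have h2 : d • y ∈ Submodule.span K (Set.range (fun i : Fin e => θ ^ (i : ℕ))) :=
      Submodule.span_le_restrictScalars A K _ h1
    have hd0' : algebraMap A K d ≠ 0 := by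
      intro h; exact hd0 (IsFractionRing.injective A K (h.trans (map_zero _).symm))
    have h3 : y = (algebraMap A K d)⁻¹ • (d • y) := by
      rw [← algebraMap_smul K d y, smul_smul, inv_mul_cancel₀ hd0', one_smul]
    rw [h3]
    exact Submodule.smul_mem _ _ h2
  have hfinrank : Module.finrank K L = e := by
    rw [Module.finrank_eq_card_basis (Module.Basis.mk hli hspan), Fintype.card_fin]
  refine ⟨θ, fun V hV => ?_⟩
  rw [huniq V hV, hfinrank, hval]

end DVR


section Comap

variable {F M : Type u} [Field F] [Field M]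

theorem comap_val_le_one_iff (W : ValuationSubring M) (f : F →+* M) (x : F) :
    (W.comap f).valuation x ≤ 1 ↔ W.valuation (f x) ≤ 1 := by
  rw [ValuationSubring.valuation_le_one_iff, ValuationSubring.valuation_le_one_iff,
    ValuationSubring.mem_comap]

theorem val_lt_one_iff (V : ValuationSubring F) {x : F} (hx : x ≠ 0) :
    V.valuation x < 1 ↔ ¬ V.valuation x⁻¹ ≤ 1 := by
  have h0 : V.valuation x ≠ 0 := (Valuation.ne_zero_iff _).mpr hx
  rw [map_inv₀, not_le, one_lt_inv₀ (zero_lt_iff.mpr h0)]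

theorem comap_val_lt_one_iff (W : ValuationSubring M) (f : F →+* M) (x : F) :
    (W.comap f).valuation x < 1 ↔ W.valuation (f x) < 1 := by
  by_cases hx : x = 0
  · subst hx
    simp
  · have hfx : f x ≠ 0 := fun h => hx (f.injective (h.trans (map_zero f).symm))
    rw [val_lt_one_iff _ hx, val_lt_one_iff _ hfx, comap_val_le_one_iff, map_inv₀]

theorem comap_val_eq_one_imp (W : ValuationSubring M) (f : F →+* M) {x : F}
    (h : (W.comap f).valuation x = 1) : W.valuation (f x) = 1 := by
  have hx : x ≠ 0 := by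
    intro h0; rw [h0, map_zero] at h; exact zero_ne_one h
  apply le_antisymm ((comap_val_le_one_iff W f x).mp h.le)
  by_contra hcon
  push Not at hcon
  have := (comap_val_lt_one_iff W f x).mpr hcon
  rw [h] at this
  exact lt_irrefl _ this

end Comap


section Core

variable {A B K L K₁ : Type u} [CommRing A] [IsDomain A] [IsDiscreteValuationRing A]
  [CommRing B] [IsDomain B] [IsDiscreteValuationRing B] [Algebra A B] [IsLocalHom (algebraMap A B)]
  [Field K] [Field L] [Algebra A K] [IsFractionRing A K] [Algebra B L] [IsFractionRing B L]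
  [Algebra K L] [Algebra A L] [IsScalarTower A K L] [IsScalarTower A B L]
  [Field K₁] [Algebra K K₁] [FiniteDimensional K K₁] [Algebra.IsSeparable K K₁]

theorem core (hw : EtRam.IsWeaklyUnramified A B)
    (ht : EtRam.IsTotallyRamified A ((algebraMap K K₁).comp (algebraMap A K)))
    (M : Type u) [Field M] [Algebra K M] [Algebra L M] [Algebra K₁ M] [IsScalarTower K L M]
    [IsScalarTower K K₁ M] (hadj : Algebra.adjoin L (Set.range (algebraMap K₁ M)) = ⊤)
    (W : ValuationSubring M)
    (hW : EtRam.Dominates B ((algebraMap L M).comp (algebraMap B L)) W) :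
    Module.finrank L M = Module.finrank K K₁ ∧
      (letI : Algebra (W.comap (algebraMap K₁ M)) W :=
        (EtRam.inclOfComap W (algebraMap K₁ M)).toAlgebra
       EtRam.IsWeaklyUnramified (W.comap (algebraMap K₁ M)) W) := by
  classical
  let _ : Algebra A K₁ := ((algebraMap K K₁).comp (algebraMap A K)).toAlgebra
  have : IsScalarTower A K K₁ := IsScalarTower.of_algebraMap_eq (fun _ => rfl)
  let _ : Algebra B M := ((algebraMap L M).comp (algebraMap B L)).toAlgebra
  have : IsScalarTower B L M := IsScalarTower.of_algebraMap_eq (fun _ => rfl)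
  set f : K₁ →+* M := algebraMap K₁ M with hf
  have ht' : EtRam.IsTotallyRamified A (algebraMap A K₁) := ht
  have hW' : EtRam.Dominates B (algebraMap B M) W := hW
  obtain ⟨π, hπirr⟩ := IsDiscreteValuationRing.exists_irreducible A
  have hπ : maximalIdeal A = Ideal.span {π} := hπirr.maximalIdeal_eq
  have hπmem : π ∈ maximalIdeal A := by rw [hπ]; exact Ideal.mem_span_singleton_self π
  have hϖ : maximalIdeal B = Ideal.span {algebraMap A B π} := by
    rw [← hw, hπ, Ideal.map_span, Set.image_singleton]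
  have hϖmem : algebraMap A B π ∈ maximalIdeal B := by
    rw [hϖ]; exact Ideal.mem_span_singleton_self _
  obtain ⟨θ, hθ⟩ := exists_theta (K := K) (L := K₁) hπ ht'
  set n := Module.finrank K K₁ with hn
  have hn0 : 0 < n := Module.finrank_pos
  -- compatibility
  have hcompat : ∀ a : A, f (algebraMap A K₁ a) = algebraMap B M (algebraMap A B a) := by
    intro a
    change algebraMap K₁ M (algebraMap K K₁ (algebraMap A K a)) =
      algebraMap L M (algebraMap B L (algebraMap A B a))
    rw [← IsScalarTower.algebraMap_apply K K₁ M, IsScalarTower.algebraMap_apply K L M,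
      ← IsScalarTower.algebraMap_apply A K L, IsScalarTower.algebraMap_apply A B L]
  -- V' dominates A
  set V' : ValuationSubring K₁ := W.comap f with hV'
  have hV'dom : EtRam.Dominates A (algebraMap A K₁) V' := by
    refine ⟨fun a => ?_, fun a ha => ?_⟩
    · rw [hV', ValuationSubring.mem_comap, hcompat]
      exact hW'.1 _
    · rw [hV', comap_val_lt_one_iff, hcompat]
      apply hW'.2
      have hloc : IsLocalHom (algebraMap A B) := inferInstance
      have h3 : maximalIdeal A ≤ (maximalIdeal B).comap (algebraMap A B) :=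
        ((local_hom_TFAE (algebraMap A B)).out 0 3).mp hloc
      exact h3 ha
  have hθV' := hθ V' hV'dom
  have hinjA : Function.Injective (algebraMap A K₁) :=
    Groth.Agent.Lib.H40TotRamCriterion.algebraMap_injective' (K := K)
  have hgπ0 : algebraMap A K₁ π ≠ 0 := fun h => hπirr.ne_zero (hinjA (h.trans (map_zero _).symm))
  set Θ : M := f θ with hΘ
  have hΘpow : W.valuation Θ ^ n = W.valuation (algebraMap B M (algebraMap A B π)) := by
    have h1 : V'.valuation (θ ^ n * (algebraMap A K₁ π)⁻¹) = 1 := by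
      rw [map_mul, map_pow, map_inv₀, hθV', mul_inv_cancel₀]
      exact (Valuation.ne_zero_iff _).mpr hgπ0
    have h2 := comap_val_eq_one_imp W f h1
    rw [map_mul, map_pow, map_inv₀, hcompat, map_mul, map_pow, map_inv₀] at h2
    have h3 : W.valuation (algebraMap B M (algebraMap A B π)) ≠ 0 := by
      rw [← hcompat, Valuation.ne_zero_iff]
      exact fun h => hgπ0 (f.injective (h.trans (map_zero f).symm))
    rw [← hΘ] at h2
    calc W.valuation Θ ^ n = W.valuation Θ ^ n * (W.valuation (algebraMap B M (algebraMap A B π)))⁻¹ *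
          W.valuation (algebraMap B M (algebraMap A B π)) := by
          rw [mul_assoc, inv_mul_cancel₀ h3, mul_one]
      _ = _ := by rw [h2, one_mul]
  -- linear independence
  have hliM := linearIndependent_pow (A := B) (K := L) (L := M) hϖ hn0 hW' hΘpow
  have hliK := linearIndependent_pow (A := A) (K := K) (L := K₁) hπ hn0 hV'dom hθV'
  have hspanK : Submodule.span K (Set.range (fun i : Fin n => θ ^ (i : ℕ))) = ⊤ :=
    hliK.span_eq_top_of_card_eq_finrank' (by rw [Fintype.card_fin])
  have hspanM : ⊤ ≤ Submodule.span L (Set.range (fun i : Fin n => Θ ^ (i : ℕ))) := by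
    have h1 : Submonoid.closure (Set.range f) = MonoidHom.mrange (f : K₁ →* M) := by
      have h0 : Set.range f = ((MonoidHom.mrange (f : K₁ →* M) : Submonoid M) : Set M) := by
        rw [MonoidHom.coe_mrange]; rfl
      rw [h0, Submonoid.closure_eq]
    have h2 := Algebra.adjoin_eq_span L (Set.range f)
    rw [hadj, h1] at h2
    rw [← Algebra.top_toSubmodule, h2, Submodule.span_le]
    rintro _ ⟨x, rfl⟩
    have hx : x ∈ Submodule.span K (Set.range (fun i : Fin n => θ ^ (i : ℕ))) := by
      rw [hspanK]; trivial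
    obtain ⟨c, rfl⟩ := (Submodule.mem_span_range_iff_exists_fun K).mp hx
    change f (∑ i, c i • θ ^ (i : ℕ)) ∈ _
    rw [map_sum]
    apply Submodule.sum_mem
    intro i _
    have h3 : f (c i • θ ^ (i : ℕ)) = algebraMap K L (c i) • Θ ^ (i : ℕ) := by
      rw [Algebra.smul_def, map_mul, map_pow, Algebra.smul_def, hf,
        ← IsScalarTower.algebraMap_apply K K₁ M, IsScalarTower.algebraMap_apply K L M]
    rw [h3]
    exact Submodule.smul_mem _ _ (Submodule.subset_span ⟨i, rfl⟩)
  have hfinrank : Module.finrank L M = n := by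
    rw [Module.finrank_eq_card_basis (Module.Basis.mk hliM hspanM), Fintype.card_fin]
  refine ⟨hfinrank, ?_⟩
  obtain ⟨hkey1, hkey2⟩ := Groth.Agent.Lib.H40TotRamCriterion.key (A := B) (K := L) (L := M) hϖ hn0
    hfinrank hW' hΘpow
  have hγ1 : W.valuation Θ < 1 := by
    by_contra hcon
    push Not at hcon
    have := one_le_pow₀ hcon (n := n)
    rw [hΘpow] at this
    exact absurd (hW'.2 _ hϖmem) (not_lt.mpr this)
  have hΘ0 : Θ ≠ 0 := by
    rw [hΘ]
    intro h
    have hθ0 : θ = 0 := f.injective (h.trans (map_zero f).symm)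
    rw [hθ0, map_zero, zero_pow hn0.ne'] at hθV'
    exact hgπ0 ((Valuation.zero_iff _).mp hθV'.symm)
  have hγ0 : W.valuation Θ ≠ 0 := (Valuation.ne_zero_iff _).mpr hΘ0
  have hθmem : θ ∈ V' := by
    rw [hV', ValuationSubring.mem_comap]; exact (W.valuation_le_one_iff _).mp hγ1.le
  have hθmax : (⟨θ, hθmem⟩ : V') ∈ maximalIdeal V' := by
    rw [ValuationSubring.valuation_lt_one_iff]; exact (comap_val_lt_one_iff W f θ).mpr hγ1
  change (maximalIdeal V').map (EtRam.inclOfComap W f) = maximalIdeal W
  apply le_antisymm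
  · rw [Ideal.map_le_iff_le_comap]
    intro x hx
    rw [Ideal.mem_comap, ValuationSubring.valuation_lt_one_iff]
    rw [ValuationSubring.valuation_lt_one_iff] at hx
    exact (comap_val_lt_one_iff W f x.1).mp hx
  · intro y hy
    rw [ValuationSubring.valuation_lt_one_iff] at hy
    obtain ⟨b, hb⟩ := (hkey1 y.1).mp y.2
    have hb0 : b ⟨0, hn0⟩ ∈ maximalIdeal B := by
      by_contra hnot
      have hunit : IsUnit (b ⟨0, hn0⟩) := by
        simpa [mem_maximalIdeal, mem_nonunits_iff] using hnot
      have h1 : W.valuation (algebraMap B M (b ⟨0, hn0⟩)) = 1 :=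
        Groth.Agent.Lib.H40TotRamCriterion.val_unit hW' hunit.unit
      have h2 := hkey2 b
      rw [← hb] at h2
      have h4 : W.valuation (algebraMap B M (b ⟨0, hn0⟩)) < 1 := by
        have h3 : algebraMap B M (b ⟨0, hn0⟩) = y.1 - (y.1 - algebraMap B M (b ⟨0, hn0⟩)) := by
          ring
        rw [h3]
        exact lt_of_le_of_lt (Valuation.map_sub _ _ _) (max_lt hy h2)
      rw [h1] at h4
      exact lt_irrefl _ h4
    have hle1 : ∀ c : B, W.valuation (algebraMap B M c) ≤ 1 := fun c =>
      (W.valuation_le_one_iff _).mpr (hW'.1 c)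
    have hle : W.valuation y.1 ≤ W.valuation Θ := by
      rw [hb]
      apply Valuation.map_sum_le
      intro i _
      by_cases hi : (i : ℕ) = 0
      · have hi' : i = ⟨0, hn0⟩ := Fin.ext hi
        rw [hi, pow_zero, mul_one, hi']
        rw [hϖ, Ideal.mem_span_singleton] at hb0
        obtain ⟨c, hc⟩ := hb0
        rw [hc, map_mul, map_mul, ← hΘpow]
        calc W.valuation Θ ^ n * W.valuation (algebraMap B M c)
            ≤ W.valuation Θ ^ n * 1 := mul_le_mul_right (hle1 c) _
          _ = W.valuation Θ ^ n := mul_one _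
          _ ≤ W.valuation Θ ^ 1 := pow_le_pow_of_le_one zero_le hγ1.le hn0
          _ = W.valuation Θ := pow_one _
      · obtain ⟨k, hk⟩ := Nat.exists_eq_succ_of_ne_zero hi
        rw [hk, pow_succ, ← mul_assoc, map_mul]
        have h5 : W.valuation (algebraMap B M (b i) * Θ ^ k) ≤ 1 := by
          rw [map_mul, map_pow]
          exact mul_le_one' (hle1 _) (pow_le_one₀ zero_le hγ1.le)
        calc W.valuation (algebraMap B M (b i) * Θ ^ k) * W.valuation Θ
            ≤ 1 * W.valuation Θ := mul_le_mul_left h5 _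
          _ = _ := one_mul _
    have htW : y.1 * Θ⁻¹ ∈ W := by
      rw [← W.valuation_le_one_iff, map_mul, map_inv₀]
      exact mul_inv_le_one_of_le₀ hle zero_le
    have hy_eq : y = EtRam.inclOfComap W f ⟨θ, hθmem⟩ * ⟨y.1 * Θ⁻¹, htW⟩ := by
      apply Subtype.ext
      change y.1 = f θ * (y.1 * Θ⁻¹)
      rw [← hΘ]
      field_simp
    rw [hy_eq]
    exact Ideal.mul_mem_right _ _ (Ideal.mem_map_of_mem _ hθmax)


open TensorProduct in
theorem isField_tensor (hw : EtRam.IsWeaklyUnramified A B)
    (ht : EtRam.IsTotallyRamified A ((algebraMap K K₁).comp (algebraMap A K))) :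
    IsField (L ⊗[K] K₁) := by
  obtain ⟨𝔪, h𝔪⟩ := Ideal.exists_maximal (L ⊗[K] K₁)
  let _ : Field ((L ⊗[K] K₁) ⧸ 𝔪) := Ideal.Quotient.field 𝔪
  let _ : Algebra K₁ ((L ⊗[K] K₁) ⧸ 𝔪) :=
    ((Ideal.Quotient.mk 𝔪).comp
      (Algebra.TensorProduct.includeRight : K₁ →ₐ[K] L ⊗[K] K₁).toRingHom).toAlgebra
  have hK₁ : ∀ x : K₁, algebraMap K₁ ((L ⊗[K] K₁) ⧸ 𝔪) x = Ideal.Quotient.mk 𝔪 (1 ⊗ₜ x) := fun x => rfl
  have hLmap : ∀ l : L, algebraMap L ((L ⊗[K] K₁) ⧸ 𝔪) l = Ideal.Quotient.mk 𝔪 (l ⊗ₜ 1) := fun l => rfl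
  have : IsScalarTower K L ((L ⊗[K] K₁) ⧸ 𝔪) := inferInstance
  have : IsScalarTower K K₁ ((L ⊗[K] K₁) ⧸ 𝔪) := by
    refine IsScalarTower.of_algebraMap_eq (fun k => ?_)
    rw [hK₁, IsScalarTower.algebraMap_apply K L ((L ⊗[K] K₁) ⧸ 𝔪), hLmap]
    congr 1
    rw [Algebra.algebraMap_eq_smul_one, Algebra.algebraMap_eq_smul_one, TensorProduct.smul_tmul]
  have hadj : Algebra.adjoin L (Set.range (algebraMap K₁ ((L ⊗[K] K₁) ⧸ 𝔪))) = ⊤ := by
    rw [eq_top_iff]
    intro y hy
    clear hy
    obtain ⟨t, rfl⟩ := Ideal.Quotient.mk_surjective y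
    induction t using TensorProduct.induction_on with
    | zero => rw [map_zero]; exact Subalgebra.zero_mem _
    | tmul l x =>
      have h1 : Ideal.Quotient.mk 𝔪 (l ⊗ₜ[K] x) = l • algebraMap K₁ ((L ⊗[K] K₁) ⧸ 𝔪) x := by
        rw [hK₁, Algebra.smul_def, hLmap, ← map_mul, Algebra.TensorProduct.tmul_mul_tmul, mul_one,
          one_mul]
      rw [h1]
      exact Subalgebra.smul_mem _ (Algebra.subset_adjoin (Set.mem_range_self x)) l
    | add a b ha hb => rw [map_add]; exact Subalgebra.add_mem _ ha hb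
  let _ : Algebra B ((L ⊗[K] K₁) ⧸ 𝔪) :=
    ((algebraMap L ((L ⊗[K] K₁) ⧸ 𝔪)).comp (algebraMap B L)).toAlgebra
  obtain ⟨W, hW⟩ := Groth.Agent.Lib.H40TotRamCriterion.exists_dominates (A := B)
    (L := (L ⊗[K] K₁) ⧸ 𝔪)
  have hfr := (core hw ht ((L ⊗[K] K₁) ⧸ 𝔪) hadj W hW).1
  have hT : Module.finrank L (L ⊗[K] K₁) = Module.finrank K K₁ := Module.finrank_baseChange
  have hsurj : Function.Surjective (Ideal.Quotient.mkₐ L 𝔪).toLinearMap :=
    Ideal.Quotient.mk_surjective
  have hinj : Function.Injective (Ideal.Quotient.mkₐ L 𝔪).toLinearMap :=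
    (LinearMap.injective_iff_surjective_of_finrank_eq_finrank (hT.trans hfr.symm)).mpr hsurj
  have hbij : Function.Bijective (Ideal.Quotient.mk 𝔪) := ⟨hinj, hsurj⟩
  exact MulEquiv.isField (Field.toIsField ((L ⊗[K] K₁) ⧸ 𝔪))
    (RingEquiv.ofBijective (Ideal.Quotient.mk 𝔪) hbij).toMulEquiv

end Core

end Groth.Agent.Lib.H40TotRamStruct
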