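import Mathlib.Algebra.Homology.DerivedCategory.TStructure
import Mathlib.Algebra.Homology.DerivedCategory.HomologySequence
import Mathlib.Algebra.Homology.DerivedCategory.FullyFaithful
import Mathlib.CategoryTheory.Triangulated.TStructure.TruncLTGE

/-!
# Cones and the canonical t-structure on a derived category (helper40)

`isLE_cone`: if `α : K ⟶ K'` induces an epimorphism on `H^i` for `i ≥ n + 1`... precisely:
if `H^i(α)` is epi for all `i > n` and mono for all `i > n + 1`, then the cone of `α` is `≤ n`.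
`eq_zero_of_comp_eq_zero`: under these hypotheses, a morphism `g : K' ⟶ Y` with `Y ≥ n + 1`
and `α ≫ g = 0` is zero.
-/

universe w v u

open CategoryTheory Pretriangulated Limits

namespace Groth.Agent.Lib.H40TwoTerm

variable {C : Type u} [Category.{v} C] [Abelian C] [HasDerivedCategory.{w} C]

open DerivedCategory

lemma isLE_obj₃ (T : Triangle (DerivedCategory C)) (hT : T ∈ distTriang _) (n : ℤ)
    (hepi : ∀ i : ℤ, n < i → Epi ((homologyFunctor C i).map T.mor₁))
    (hmono : ∀ i : ℤ, n + 1 < i → Mono ((homologyFunctor C i).map T.mor₁)) :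
    T.obj₃.IsLE n := by
  rw [DerivedCategory.isLE_iff]
  intro i hi
  have h1 : (homologyFunctor C i).map T.mor₂ = 0 :=
    (HomologySequence.epi_homologyMap_mor₁_iff T hT i).1 (hepi i hi)
  have h2 : HomologySequence.δ T i (i + 1) rfl = 0 :=
    (HomologySequence.mono_homologyMap_mor₁_iff T hT i (i + 1) rfl).1 (hmono (i + 1) (by lia))
  have hex := HomologySequence.exact₃ T hT i (i + 1) rfl
  exact hex.isZero_of_both_zeros h1 h2

lemma eq_zero_of_comp_eq_zero {K K' Y : DerivedCategory C} (α : K ⟶ K') (n : ℤ)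
    (hepi : ∀ i : ℤ, n < i → Epi ((homologyFunctor C i).map α))
    (hmono : ∀ i : ℤ, n + 1 < i → Mono ((homologyFunctor C i).map α))
    [Y.IsGE (n + 1)] (g : K' ⟶ Y) (hg : α ≫ g = 0) : g = 0 := by
  obtain ⟨Z, β, γ, hT⟩ := distinguished_cocone_triangle α
  have hZ : Z.IsLE n := isLE_obj₃ (Triangle.mk α β γ) hT n hepi hmono
  obtain ⟨h, rfl⟩ := Triangle.yoneda_exact₂ _ hT g hg
  have : h = 0 := DerivedCategory.TStructure.t.zero_of_isLE_of_isGE h n (n + 1) (by lia) hZ
    inferInstance
  rw [this]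
  exact comp_zero

/-- On objects concentrated in a single degree `n`, the functor `H^n` is faithful. -/
lemma eq_zero_of_homologyFunctor_map_eq_zero {A B : DerivedCategory C} (n : ℤ)
    [A.IsGE n] [A.IsLE n] [B.IsGE n] [B.IsLE n] (g : A ⟶ B)
    (hg : (homologyFunctor C n).map g = 0) : g = 0 := by
  obtain ⟨M, ⟨eA⟩⟩ := exists_iso_singleFunctor_obj_of_isGE_of_isLE A n
  obtain ⟨N, ⟨eB⟩⟩ := exists_iso_singleFunctor_obj_of_isGE_of_isLE B n
  obtain ⟨h, hh⟩ := (singleFunctor C n).map_surjective (eA.inv ≫ g ≫ eB.hom)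
  have h0 : h = 0 := by
    have eq₁ := NatIso.naturality_1 (singleFunctorCompHomologyFunctorIso C n) h
    dsimp at eq₁
    rw [← eq₁, hh, Functor.map_comp, Functor.map_comp, hg]
    simp
  have : eA.inv ≫ g ≫ eB.hom = 0 := by rw [← hh, h0, Functor.map_zero]
  have h2 : g = eA.hom ≫ (eA.inv ≫ g ≫ eB.hom) ≫ eB.inv := by simp
  rw [h2, this]
  simp

/-- A composite `K₁ ⟶ K₂ ⟶ K₃` of morphisms between objects with cohomology in degrees
`[n - 1, n]` vanishes if the first is zero on `H^n` and the second is zero on `H^(n-1)`. -/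
lemma comp_eq_zero_of_homology_maps_zero {K₁ K₂ K₃ : DerivedCategory C} (n : ℤ)
    [K₁.IsLE n] [K₂.IsLE n] [K₂.IsGE (n - 1)] [K₃.IsGE (n - 1)]
    (φ : K₁ ⟶ K₂) (ψ : K₂ ⟶ K₃)
    (hφ : (homologyFunctor C n).map φ = 0) (hψ : (homologyFunctor C (n - 1)).map ψ = 0) :
    φ ≫ ψ = 0 := by
  let t : Triangulated.TStructure (DerivedCategory C) := DerivedCategory.TStructure.t
  -- step 1 : `φ ≫ π = 0`
  have h1 : φ ≫ (t.truncGEπ n).app K₂ = 0 := by
    have hfac := t.π_descTruncGE (φ ≫ (t.truncGEπ n).app K₂) n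
    rw [← hfac]
    have : t.descTruncGE (φ ≫ (t.truncGEπ n).app K₂) n = 0 := by
      apply eq_zero_of_homologyFunctor_map_eq_zero n
      have hepi : Epi ((homologyFunctor C n).map ((t.truncGEπ n).app K₁)) := by
        have hT := t.triangleLTGE_distinguished n K₁
        refine (HomologySequence.epi_homologyMap_mor₂_iff _ hT n (n + 1) rfl).2 ?_
        apply IsZero.eq_of_tgt
        have : ((t.triangleLTGE n).obj K₁).obj₁.IsLE (n - 1) :=
          inferInstanceAs (t.IsLE ((t.triangleLTGE n).obj K₁).obj₁ (n - 1))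
        exact DerivedCategory.isZero_of_isLE _ (n - 1) (n + 1) (by lia)
      rw [← cancel_epi ((homologyFunctor C n).map ((t.truncGEπ n).app K₁)), ← Functor.map_comp,
        hfac, Functor.map_comp, hφ, zero_comp, comp_zero]
    rw [this, comp_zero]
  -- step 2 : `ι ≫ ψ = 0`
  have h2 : (t.truncLTι n).app K₂ ≫ ψ = 0 := by
    have hfac := t.liftTruncLT_ι ((t.truncLTι n).app K₂ ≫ ψ) (n - 1) n (by lia)
    rw [← hfac]
    have : t.liftTruncLT ((t.truncLTι n).app K₂ ≫ ψ) (n - 1) n (by lia) = 0 := by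
      apply eq_zero_of_homologyFunctor_map_eq_zero (n - 1)
      have hmono : Mono ((homologyFunctor C (n - 1)).map ((t.truncLTι n).app K₃)) := by
        have hT := t.triangleLTGE_distinguished n K₃
        refine (HomologySequence.mono_homologyMap_mor₁_iff _ hT (n - 2) (n - 1) (by lia)).2 ?_
        apply IsZero.eq_of_src
        have : ((t.triangleLTGE n).obj K₃).obj₃.IsGE n :=
          inferInstanceAs (t.IsGE ((t.triangleLTGE n).obj K₃).obj₃ n)
        exact DerivedCategory.isZero_of_isGE _ n (n - 2) (by lia)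
      rw [← cancel_mono ((homologyFunctor C (n - 1)).map ((t.truncLTι n).app K₃)),
        ← Functor.map_comp, hfac, Functor.map_comp, hψ, comp_zero, zero_comp]
    rw [this, zero_comp]
  obtain ⟨ψ', hψ'⟩ := Triangle.yoneda_exact₂ _ (t.triangleLTGE_distinguished n K₂) ψ h2
  have hψ'' : ψ = (t.truncGEπ n).app K₂ ≫ ψ' := hψ'
  rw [hψ'', ← Category.assoc, h1, zero_comp]

end Groth.Agent.Lib.H40TwoTerm
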