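import Mathlib.CategoryTheory.Abelian.Basic
import Mathlib.CategoryTheory.Adjunction.Additive
import Mathlib.CategoryTheory.Adjunction.Limits
import Mathlib.CategoryTheory.Preadditive.AdditiveFunctor
import Mathlib.CategoryTheory.Abelian.Exact
import Mathlib.Algebra.BigOperators.Group.Finset.Basic
import Mathlib.Algebra.Homology.ShortComplex.ExactFunctor

/-!
# A right adjoint of a "finite sum of identities" preserves epimorphisms (helper43)

`adj : T ⊣ R` on a preadditive category, with natural transformations `p i : T ⟶ 𝟭`, `q i : 𝟭 ⟶ T`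
(`i` in a finite type) such that `∑ i, p i ≫ q i = 𝟙 T` componentwise.  Then `R` preserves
epimorphisms (`preservesEpimorphisms_of_sum`).  If moreover the category is abelian, `R` preserves
finite colimits (`preservesFiniteColimits_of_sum`).
-/

set_option autoImplicit false
universe v u

open CategoryTheory Limits

namespace Groth.Agent.Lib.H43AdjEpi

variable {D : Type u} [Category.{v} D] [Preadditive D] {T R : D ⥤ D} (adj : T ⊣ R) [R.Additive]
  {ι : Type*} [Fintype ι] (p : ι → (T ⟶ 𝟭 D)) (q : ι → (𝟭 D ⟶ T))
  (hpq : ∀ B : D, ∑ i, (p i).app B ≫ (q i).app B = 𝟙 (T.obj B))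

/-- the components `B ⟶ R B` -/
def ρ (i : ι) (B : D) : B ⟶ R.obj B := adj.homEquiv B B ((p i).app B)

/-- the components `R B ⟶ B` -/
def σ (i : ι) (B : D) : R.obj B ⟶ B := (q i).app (R.obj B) ≫ adj.counit.app B

lemma ρ_naturality (i : ι) {B B' : D} (g : B ⟶ B') : g ≫ ρ adj p i B' = ρ adj p i B ≫ R.map g := by
  unfold ρ
  rw [← Adjunction.homEquiv_naturality_left, ← Adjunction.homEquiv_naturality_right]
  congr 1
  exact (p i).naturality g

include hpq in
lemma sum_σ_ρ (B : D) : ∑ i, σ adj q i B ≫ ρ adj p i B = 𝟙 (R.obj B) := by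
  have h1 : ∀ i, σ adj q i B ≫ ρ adj p i B =
      adj.unit.app (R.obj B) ≫
        R.map (((p i).app (R.obj B) ≫ (q i).app (R.obj B)) ≫ adj.counit.app B) := by
    intro i
    unfold ρ σ
    rw [Adjunction.homEquiv_unit]
    have h2 := adj.unit.naturality ((q i).app (R.obj B) ≫ adj.counit.app B)
    simp only [Functor.id_map, Functor.comp_map, Functor.id_obj] at h2
    rw [← Category.assoc, h2, Category.assoc, ← R.map_comp]
    congr 2
    have h3 := (p i).naturality ((q i).app (R.obj B) ≫ adj.counit.app B)
    rw [Functor.id_map] at h3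
    simp only [Functor.id_obj] at h3
    rw [h3, Category.assoc]
  simp only [h1]
  rw [← Preadditive.comp_sum, ← Functor.map_sum, ← Preadditive.sum_comp, hpq, Category.id_comp,
    adj.right_triangle_components]

include adj hpq in
/-- **`R` preserves epimorphisms.** -/
theorem preservesEpimorphisms_of_sum : R.PreservesEpimorphisms where
  preserves {B B'} g hg := by
    refine Preadditive.epi_of_cancel_zero _ fun {Q} c hc => ?_
    have h0 : ∀ i, ρ adj p i B' ≫ c = 0 := by
      intro i
      rw [← cancel_epi g, ← Category.assoc, ρ_naturality, Category.assoc, hc, comp_zero, comp_zero]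
    calc c = (∑ i, σ adj q i B' ≫ ρ adj p i B') ≫ c := by rw [sum_σ_ρ adj p q hpq, Category.id_comp]
      _ = ∑ i, σ adj q i B' ≫ (ρ adj p i B' ≫ c) := by
          rw [Preadditive.sum_comp]
          exact Finset.sum_congr rfl fun i _ => Category.assoc _ _ _
      _ = 0 := Finset.sum_eq_zero fun i _ => by rw [h0 i, comp_zero]

end Groth.Agent.Lib.H43AdjEpi

namespace Groth.Agent.Lib.H43AdjEpi

variable {C D : Type*} [Category C] [Category D] [Abelian C] [Abelian D]

/-- a left exact additive functor between abelian categories which preserves epimorphisms is right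
exact -/
theorem preservesFiniteColimits_of_preservesEpimorphisms (F : C ⥤ D) [F.Additive]
    [PreservesFiniteLimits F] [F.PreservesEpimorphisms] : PreservesFiniteColimits F := by
  rw [Functor.preservesFiniteColimits_iff_forall_exact_map_and_epi]
  intro S hS
  have := hS.epi_g
  exact ⟨((Functor.preservesFiniteLimits_iff_forall_exact_map_and_mono F).1 inferInstance S hS).1,
    inferInstance⟩

end Groth.Agent.Lib.H43AdjEpi
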