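import Mathlib.AlgebraicTopology.SimplicialObject.Basic

universe v u

open CategoryTheory Opposite Simplicial SimplexCategory

namespace Groth.Agent.Lib.H43Boundary

variable {E : Type u} [Category.{v} E] (K : SimplicialObject E) {A : E} {k : ℕ}
  (Y : Fin (k + 3) → (A ⟶ K _⦋k + 1⦌))
  (hY : ∀ i j : Fin (k + 2), i ≤ j → Y i.castSucc ≫ K.δ j = Y j.succ ≫ K.δ i)

include hY in
lemma wd_lt {a : SimplexCategory} (i j : Fin (k + 2)) (hij : i ≤ j)
    (θ θ' : a ⟶ ⦋k + 1⦌) (h : θ ≫ δ i.castSucc = θ' ≫ δ j.succ) :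
    Y i.castSucc ≫ K.map θ.op = Y j.succ ≫ K.map θ'.op := by
  have hmiss : ∀ x, θ'.toOrderHom x ≠ i := by
    intro x hx
    have h1 := congrArg (fun f => f.toOrderHom x) h
    simp only [comp_toOrderHom, OrderHom.comp_coe, Function.comp_apply] at h1
    rw [hx] at h1
    have h2 : (δ j.succ).toOrderHom i = i.castSucc := by
      simp only [δ, mkHom, Hom.toOrderHom_mk, Fin.succAboveOrderEmb_apply, OrderEmbedding.toOrderHom_coe]
      exact Fin.succAbove_of_castSucc_lt _ _ (by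
        rw [Fin.castSucc_lt_succ_iff]; exact hij)
    rw [h2] at h1
    have h3 : (δ i.castSucc).toOrderHom (θ.toOrderHom x) ≠ i.castSucc := by
      simp only [δ, mkHom, Hom.toOrderHom_mk, Fin.succAboveOrderEmb_apply, OrderEmbedding.toOrderHom_coe]
      exact Fin.succAbove_ne _ _
    exact h3 h1
  obtain ⟨ψ, hψ⟩ := eq_comp_δ_of_not_surjective' θ' i hmiss
  have hθ : θ = ψ ≫ δ j := by
    have : Mono (δ i.castSucc : ⦋k + 1⦌ ⟶ ⦋k + 2⦌) := inferInstance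
    rw [← cancel_mono (δ i.castSucc), h, hψ, Category.assoc, Category.assoc, δ_comp_δ hij]
  rw [hθ, hψ]
  simp only [op_comp, Functor.map_comp]
  have := hY i j hij
  simp only [SimplicialObject.δ] at this
  rw [reassoc_of% this]

include hY in
lemma wd_lt' {a : SimplexCategory} (j j' : Fin (k + 3)) (hjj : j < j')
    (θ θ' : a ⟶ ⦋k + 1⦌) (h : θ ≫ δ j = θ' ≫ δ j') :
    Y j ≫ K.map θ.op = Y j' ≫ K.map θ'.op := by
  obtain ⟨i, rfl⟩ := Fin.exists_castSucc_eq.2 (Fin.ne_last_of_lt hjj)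
  obtain ⟨j'', rfl⟩ := Fin.exists_succ_eq.2 (Fin.ne_zero_of_lt hjj)
  exact wd_lt K Y hY i j'' (Fin.castSucc_lt_succ_iff.1 hjj) θ θ' h

include hY in
lemma wd {a : SimplexCategory} (j j' : Fin (k + 3))
    (θ θ' : a ⟶ ⦋k + 1⦌) (h : θ ≫ δ j = θ' ≫ δ j') :
    Y j ≫ K.map θ.op = Y j' ≫ K.map θ'.op := by
  rcases lt_trichotomy j j' with hlt | rfl | hgt
  · exact wd_lt' K Y hY j j' hlt θ θ' h
  · have : Mono (δ j : ⦋k + 1⦌ ⟶ ⦋k + 2⦌) := inferInstance
    rw [(cancel_mono (δ j)).1 h]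
  · exact (wd_lt' K Y hY j' j hgt θ' θ h.symm).symm

/-- The compatible family on the boundary attached to `Y`. -/
noncomputable def bd {a : SimplexCategory} (φ : a ⟶ ⦋k + 2⦌)
    (hφ : ¬ Function.Surjective φ.toOrderHom) : A ⟶ K.obj (op a) :=
  Y (eq_comp_δ_of_not_surjective φ hφ).choose ≫
    K.map (eq_comp_δ_of_not_surjective φ hφ).choose_spec.choose.op

include hY in
lemma bd_eq {a : SimplexCategory} (φ : a ⟶ ⦋k + 2⦌)
    (hφ : ¬ Function.Surjective φ.toOrderHom) (j : Fin (k + 3)) (θ : a ⟶ ⦋k + 1⦌)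
    (h : φ = θ ≫ δ j) : bd K Y φ hφ = Y j ≫ K.map θ.op := by
  have h1 := (eq_comp_δ_of_not_surjective φ hφ).choose_spec.choose_spec
  exact wd K Y hY _ _ _ _ (h1.symm.trans h)

lemma not_surjective_of_len_le {a : SimplexCategory} (φ : a ⟶ ⦋k + 2⦌) (ha : a.len ≤ k + 1) :
    ¬ Function.Surjective φ.toOrderHom := by
  intro hs
  have := Fintype.card_le_of_surjective _ hs
  simp only [Fintype.card_fin, len_mk] at this
  omega

include hY in
lemma bd_comp {a b : SimplexCategory} (φ : a ⟶ ⦋k + 2⦌)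
    (hφ : ¬ Function.Surjective φ.toOrderHom) (ψ : b ⟶ a)
    (hψ : ¬ Function.Surjective (ψ ≫ φ).toOrderHom) :
    bd K Y φ hφ ≫ K.map ψ.op = bd K Y (ψ ≫ φ) hψ := by
  obtain ⟨j, θ, h⟩ := eq_comp_δ_of_not_surjective φ hφ
  rw [bd_eq K Y hY φ hφ j θ h, bd_eq K Y hY (ψ ≫ φ) hψ j (ψ ≫ θ) (by rw [h, Category.assoc])]
  simp

include hY in
lemma bd_δ (j : Fin (k + 3)) (hφ : ¬ Function.Surjective (δ j : ⦋k + 1⦌ ⟶ ⦋k + 2⦌).toOrderHom) :
    bd K Y (δ j) hφ = Y j := by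
  rw [bd_eq K Y hY (δ j) hφ j (𝟙 _) (by simp)]
  simp

end Groth.Agent.Lib.H43Boundary
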