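import Groth.Agent.Lib.CechDelta2
import Groth.Agent.Lib.DeltaIso
import Mathlib.Algebra.Homology.HomologySequenceLemmas
import Mathlib.Algebra.Homology.HomologicalComplexAbelian
import Mathlib.Algebra.Homology.GrothendieckAbelian
import Mathlib.CategoryTheory.Abelian.GrothendieckCategory.EnoughInjectives
import Mathlib.Algebra.Category.Grp.AB

/-!
# Homology of nonnegatively graded cochain complexes of abelian groups as a universal delta-functor
(helper43)

* `homDelta`: the homology functors `H^n : CochainComplex Ab ℕ ⥤ Ab` with the connecting maps of the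
  homology sequence, as a `CohDeltaFunctor`.
* `preservesFiniteLimits_homologyFunctor_zero`: `H^0` is left exact.
* `homDelta_isEffaceable` (a complex embeds in the cone of its identity, acyclic in positive degrees).
* `nonempty_rightDerived_iso p : Nonempty ((H^0).rightDerived p ≅ H^p)`.
-/

set_option autoImplicit false

universe u

open CategoryTheory Limits DeltaF

namespace Groth.Agent.Lib.H43HomDelta

/-- the category of cochain complexes of abelian groups in degrees `≥ 0` -/
abbrev Ch := CochainComplex AddCommGrpCat.{u} ℕ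

/-- the homology functor -/
noncomputable abbrev Hn (n : ℕ) : Ch.{u} ⥤ AddCommGrpCat.{u} :=
  HomologicalComplex.homologyFunctor AddCommGrpCat.{u} (ComplexShape.up ℕ) n

/-- homology as a cohomological delta-functor -/
noncomputable def homDelta : CohDeltaFunctor Ch.{u} AddCommGrpCat.{u} ℕ where
  F n := Hn n
  additive _ := inferInstance
  δ _ hS n₀ n₁ h := hS.δ n₀ n₁ h
  δ_natural hS hS' φ n₀ n₁ h :=
    (HomologicalComplex.HomologySequence.δ_naturality φ hS hS' n₀ n₁ h).symm
  exact₂ _ hS n := hS.homology_exact₂ n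
  comp_δ _ hS n₀ n₁ h := hS.comp_δ n₀ n₁ h
  exact₃ _ hS n₀ n₁ h := hS.homology_exact₃ n₀ n₁ h
  δ_comp _ hS n₀ n₁ h := hS.δ_comp n₀ n₁ h
  exact₁ _ hS n₀ n₁ h := hS.homology_exact₁ n₀ n₁ h

lemma homDelta_F (n : ℕ) : (homDelta.{u}).F n = Hn n := rfl

lemma mono_Hn_zero_map {S : ShortComplex Ch.{u}} (hS : S.ShortExact) :
    Mono ((Hn 0).map S.f) := by
  have hT := hS.map_of_exact (HomologicalComplex.eval _ _ 0)
  have hm : Function.Injective (S.f.f 0) :=
    (AddCommGrpCat.mono_iff_injective _).1 hT.mono_f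
  exact (AddCommGrpCat.mono_iff_injective _).2
    (Groth.Agent.Lib.CechDelta.homologyMap_zero_injective _ hm)

instance preservesFiniteLimits_homologyFunctor_zero : PreservesFiniteLimits (Hn.{u} 0) := by
  rw [Functor.preservesFiniteLimits_iff_forall_exact_map_and_mono]
  intro S hS
  exact ⟨homDelta.exact₂ S hS 0, mono_Hn_zero_map hS⟩

section Cone

variable (X : Ch.{u})

/-- the differential of the cone of the identity -/
noncomputable def coneD (k : ℕ) :
    AddCommGrpCat.of (X.X k × X.X (k + 1)) ⟶ AddCommGrpCat.of (X.X (k + 1) × X.X (k + 2)) :=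
  AddCommGrpCat.ofHom
    (AddMonoidHom.prod
      ((X.d k (k + 1)).hom.comp (AddMonoidHom.fst _ _) + AddMonoidHom.snd _ _)
      (-((X.d (k + 1) (k + 2)).hom.comp (AddMonoidHom.snd _ _))))

lemma coneD_apply (k : ℕ) (a : X.X k) (b : X.X (k + 1)) :
    (coneD X k).hom (a, b) = (X.d k (k + 1) a + b, -(X.d (k + 1) (k + 2) b)) := rfl

lemma d_d_apply (i j k : ℕ) (a : X.X i) : X.d j k (X.d i j a) = 0 := by
  have := ConcreteCategory.congr_hom (X.d_comp_d i j k) a
  exact this

/-- the cone of the identity of `X`, shifted: `Y^k = X^k × X^{k+1}` -/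
noncomputable def cone : Ch.{u} :=
  CochainComplex.of (fun k => AddCommGrpCat.of (X.X k × X.X (k + 1))) (coneD X) (by
    intro k
    ext ⟨a, b⟩
    · change ((coneD X (k + 1)).hom ((coneD X k).hom (a, b))).1 = 0
      rw [coneD_apply, coneD_apply]
      simp [d_d_apply]
    · change ((coneD X (k + 1)).hom ((coneD X k).hom (a, b))).2 = 0
      rw [coneD_apply, coneD_apply]
      simp [d_d_apply])

lemma cone_d (k : ℕ) : (cone X).d k (k + 1) = coneD X k := by
  unfold cone
  exact CochainComplex.of_d (V := AddCommGrpCat.{u}) (α := ℕ)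
    (fun k => AddCommGrpCat.of (X.X k × X.X (k + 1))) (coneD X) k

lemma cone_d_apply (k : ℕ) (a : X.X k) (b : X.X (k + 1)) :
    ((cone X).d k (k + 1)).hom ((a, b) : X.X k × X.X (k + 1)) =
      ((X.d k (k + 1) a + b, -(X.d (k + 1) (k + 2) b)) : X.X (k + 1) × X.X (k + 2)) := by
  have h := cone_d X k
  exact (congrArg (fun f => f.hom ((a, b) : X.X k × X.X (k + 1))) h).trans (coneD_apply X k a b)

/-- the inclusion of `X` into the cone -/
noncomputable def coneι : X ⟶ cone X where
  f k := AddCommGrpCat.ofHom (AddMonoidHom.inl _ _)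
  comm' i j hij := by
    obtain rfl : i + 1 = j := hij
    ext a
    refine (cone_d_apply X i a 0).trans ?_
    refine Prod.ext ?_ ?_
    · change X.d i (i + 1) a + 0 = X.d i (i + 1) a
      rw [add_zero]
    · change -(X.d (i + 1) (i + 2) 0) = 0
      rw [map_zero, neg_zero]

instance : Mono (coneι X) := by
  apply HomologicalComplex.mono_of_mono_f
  intro k
  rw [AddCommGrpCat.mono_iff_injective]
  intro a b h
  exact congrArg Prod.fst h

lemma isZero_homology_cone (n : ℕ) : IsZero ((cone X).homology (n + 1)) := by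
  rw [← HomologicalComplex.exactAt_iff_isZero_homology,
    HomologicalComplex.exactAt_iff' _ n (n + 1) (n + 2) (by simp) (by simp),
    ShortComplex.ab_exact_iff]
  intro x hx
  obtain ⟨a, b⟩ : X.X (n + 1) × X.X (n + 2) := x
  have hx' : ((X.d (n + 1) (n + 2) a + b, -(X.d (n + 2) (n + 3) b)) :
      X.X (n + 2) × X.X (n + 3)) = 0 := (cone_d_apply X (n + 1) a b).symm.trans hx
  have h1 : X.d (n + 1) (n + 2) a + b = 0 := congrArg Prod.fst hx'
  refine ⟨((0, a) : X.X n × X.X (n + 1)), ?_⟩
  refine (cone_d_apply X n 0 a).trans ?_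
  refine Prod.ext ?_ ?_
  · change X.d n (n + 1) 0 + a = a
    rw [map_zero, zero_add]
  · change -(X.d (n + 1) (n + 2) a) = b
    exact (eq_neg_of_add_eq_zero_right h1).symm

end Cone

theorem homDelta_isEffaceable : (homDelta.{u}).IsEffaceable := by
  intro n X
  exact ⟨cone X, coneι X, inferInstance, (isZero_homology_cone X n).eq_of_tgt _ _⟩

/-- **`H^p` is the `p`-th right derived functor of `H^0`** on cochain complexes of abelian groups in
degrees `≥ 0`. -/
theorem nonempty_rightDerived_iso (p : ℕ) :
    Nonempty ((Hn.{u} 0).rightDerived p ≅ Hn.{u} p) := by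
  have h1 := DeltaUniv.isUniversal_of_isEffaceable _ homDelta_isEffaceable.{u}
  have h2 := Groth.Agent.Lib.CechDelta.derived_isUniversal (Hn.{u} 0)
  exact DeltaIso.nonempty_natIso_of_isUniversal _ _ h2 h1
    (Functor.rightDerivedZeroIsoSelf (Hn.{u} 0)) p

end Groth.Agent.Lib.H43HomDelta
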