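import Groth.Agent.Lib.H43CechHom
import Groth.Agent.Lib.H43HomDelta
import Groth.Agent.Lib.RightDerivedPostComp
import Groth.Agent.Lib.CohPre4
import Mathlib.Algebra.Homology.ShortComplex.ExactFunctor

/-!
# The Čech complex functor of a simplicial object of `FormalCoproduct C` (helper43)

* `Cf K : (Cᵒᵖ ⥤ Ab) ⥤ CochainComplex Ab ℕ` is additive and exact.
* `T K J := sheafToPresheaf ⋙ Cf K`; `hT`: `T` sends injective sheaves to `H^0`-acyclic complexes when
  `K` is a hypercovering of the final object; `eE`: `R^p H^0 (R^q T A) ≅ Ȟ^p(K, ℋ^q(A))`.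
-/

set_option autoImplicit false

universe u

open CategoryTheory Limits Opposite Simplicial

namespace Groth.Agent.Lib.H43CechFunctor

section Prod

variable {I : Type u} {G H : I → AddCommGrpCat.{u}}

lemma pi_ext (x y : ToType (∏ᶜ G)) (h : ∀ i, Pi.π G i x = Pi.π G i y) : x = y := by
  apply (Concrete.productEquiv G).injective
  funext l
  rw [Concrete.productEquiv_apply_apply, Concrete.productEquiv_apply_apply]
  exact h l

lemma pi_exists (t : ∀ i, G i) : ∃ x : ToType (∏ᶜ G), ∀ i, Pi.π G i x = t i :=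
  ⟨(Concrete.productEquiv G).symm t, fun i => Concrete.productEquiv_symm_apply_π _ t i⟩

lemma pimap_apply (f : ∀ i, G i ⟶ H i) (x : ToType (∏ᶜ G)) (i : I) :
    Pi.π H i (Limits.Pi.map f x) = f i (Pi.π G i x) :=
  ConcreteCategory.congr_hom (Pi.map_π f i) x

end Prod

variable {C : Type u} [SmallCategory C] (K : SimplicialObject (FormalCoproduct.{u} C))

/-- the Čech complex functor -/
noncomputable abbrev Cf : (Cᵒᵖ ⥤ AddCommGrpCat.{u}) ⥤ CochainComplex AddCommGrpCat.{u} ℕ :=
  FormalCoproduct.cochainComplexFunctor K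

lemma Cf_map_f {P Q : Cᵒᵖ ⥤ AddCommGrpCat.{u}} (φ : P ⟶ Q) (q : ℕ) :
    ((Cf K).map φ).f q = Limits.Pi.map (fun i : (K _⦋q⦌).I => φ.app (op ((K _⦋q⦌).obj i))) := rfl

lemma pimap_add {I : Type u} {G H : I → AddCommGrpCat.{u}} (f g : ∀ i, G i ⟶ H i) :
    Limits.Pi.map (fun i => f i + g i) = Limits.Pi.map f + Limits.Pi.map g := by
  refine Pi.hom_ext _ _ ?_
  intro i
  rw [Preadditive.add_comp, Pi.map_π, Pi.map_π, Pi.map_π, Preadditive.comp_add]

instance : (Cf K).Additive where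
  map_add {P Q φ ψ} := by
    ext q : 1
    exact pimap_add (fun i : (K _⦋q⦌).I => φ.app (op ((K _⦋q⦌).obj i)))
      (fun i : (K _⦋q⦌).I => ψ.app (op ((K _⦋q⦌).obj i)))

section SES

variable {S : ShortComplex (Cᵒᵖ ⥤ AddCommGrpCat.{u})} (hS : S.ShortExact)

include hS in
lemma shortExact_map_Cf : (S.map (Cf K)).ShortExact := by
  have hev : ∀ V : Cᵒᵖ, (S.map ((evaluation Cᵒᵖ AddCommGrpCat.{u}).obj V)).ShortExact :=
    fun V => hS.map_of_exact _
  have h1 : ∀ V : Cᵒᵖ, Function.Injective (S.f.app V) := fun V =>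
    (AddCommGrpCat.mono_iff_injective _).1 (hev V).mono_f
  have h3 : ∀ V : Cᵒᵖ, Function.Surjective (S.g.app V) := fun V =>
    (AddCommGrpCat.epi_iff_surjective _).1 (hev V).epi_g
  have h2 : ∀ (V : Cᵒᵖ) (y : S.X₂.obj V), S.g.app V y = 0 → ∃ x, S.f.app V x = y := fun V y hy =>
    (ShortComplex.ab_exact_iff _).1 (hev V).exact y hy
  apply HomologicalComplex.shortExact_of_degreewise_shortExact
  intro q
  let G₁ := fun i : (K _⦋q⦌).I => S.X₁.obj (op ((K _⦋q⦌).obj i))
  let G₂ := fun i : (K _⦋q⦌).I => S.X₂.obj (op ((K _⦋q⦌).obj i))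
  let G₃ := fun i : (K _⦋q⦌).I => S.X₃.obj (op ((K _⦋q⦌).obj i))
  let f : ∀ i, G₁ i ⟶ G₂ i := fun i => S.f.app (op ((K _⦋q⦌).obj i))
  let g : ∀ i, G₂ i ⟶ G₃ i := fun i => S.g.app (op ((K _⦋q⦌).obj i))
  have hf : ((S.map (Cf K)).map (HomologicalComplex.eval _ _ q)).f = Limits.Pi.map f := rfl
  have hg : ((S.map (Cf K)).map (HomologicalComplex.eval _ _ q)).g = Limits.Pi.map g := rfl
  refine ShortComplex.ShortExact.mk' ?_ ?_ ?_
  · rw [ShortComplex.ab_exact_iff]
    intro y hy
    have hy' : Limits.Pi.map g y = 0 := hy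
    have : ∀ i, ∃ x : G₁ i, f i x = Pi.π G₂ i y := by
      intro i
      apply h2
      have := pimap_apply g y i
      rw [hy', map_zero] at this
      exact this.symm
    choose t ht using this
    obtain ⟨x, hx⟩ := pi_exists t
    refine ⟨x, ?_⟩
    change Limits.Pi.map f x = y
    apply pi_ext
    intro i
    rw [pimap_apply, hx, ht]
  · rw [AddCommGrpCat.mono_iff_injective]
    intro x y hxy
    have hxy' : Limits.Pi.map f x = Limits.Pi.map f y := hxy
    apply pi_ext
    intro i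
    apply h1
    have e1 := pimap_apply f x i
    have e2 := pimap_apply f y i
    exact e1.symm.trans ((congrArg (fun z => Pi.π G₂ i z) hxy').trans e2)
  · rw [AddCommGrpCat.epi_iff_surjective]
    intro y
    have : ∀ i, ∃ x : G₂ i, g i x = Pi.π G₃ i y := fun i => h3 _ _
    choose t ht using this
    obtain ⟨x, hx⟩ := pi_exists t
    refine ⟨x, ?_⟩
    change Limits.Pi.map g x = y
    apply pi_ext
    intro i
    rw [pimap_apply, hx, ht]

end SES

lemma exact_Cf : PreservesFiniteLimits (Cf K) ∧ PreservesFiniteColimits (Cf K) := by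
  have h := (Functor.exact_tfae (Cf K)).out 0 3
  exact h.1 (fun _ hS => shortExact_map_Cf K hS)

instance : PreservesFiniteLimits (Cf K) := (exact_Cf K).1

instance : PreservesFiniteColimits (Cf K) := (exact_Cf K).2


section Main

open Groth.Agent.Lib.H43HomDelta

variable (J : GrothendieckTopology C)

/-- sheaves to Čech complexes -/
noncomputable abbrev T : Sheaf J AddCommGrpCat.{u} ⥤ CochainComplex AddCommGrpCat.{u} ℕ :=
  sheafToPresheaf J AddCommGrpCat.{u} ⋙ Cf K

instance : (T K J).Additive := inferInstance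

theorem hT [HasEqualizers C] [HasPullbacks C] [HasBinaryProducts C]
    [∀ (n : ℕ) (F : (SimplexCategory.Truncated n)ᵒᵖ ⥤ Limits.FormalCoproduct.{u} C),
      (SimplexCategory.Truncated.inclusion n).op.HasRightKanExtension F]
    (hK : Hyper.IsHypercoveringSite J K) (Q : Sheaf J AddCommGrpCat.{u}) (hQ : Injective Q)
    (q : ℕ) (hq : 0 < q) : IsZero (((Hn.{u} 0).rightDerived q).obj ((T K J).obj Q)) := by
  obtain ⟨n, rfl⟩ : ∃ n, q = n + 1 := ⟨q - 1, by omega⟩
  obtain ⟨e⟩ := nonempty_rightDerived_iso.{u} (n + 1)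
  exact (Groth.Agent.Lib.H43CechHom.isZero_cech_homology_succ Q K hK n).of_iso (e.app _)

theorem eE (A : Sheaf J AddCommGrpCat.{u}) (p q : ℕ) :
    Nonempty (((Hn.{u} 0).rightDerived p).obj (((T K J).rightDerived q).obj A) ≅
      (Hyper.cechCxSite K (Sheaf.cohomologyPresheaf A q)).homology p) := by
  obtain ⟨e⟩ := nonempty_rightDerived_iso.{u} p
  obtain ⟨e'⟩ := Groth.Agent.Lib.CohPresheafDerived.nonempty_rightDerived_sheafToPresheaf_iso J A q
  have i1 : ((T K J).rightDerived q).obj A ≅ (Cf K).obj (Sheaf.cohomologyPresheaf A q) :=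
    (Groth.Agent.Lib.RightDerivedPostComp.postCompIsoApp
      (sheafToPresheaf J AddCommGrpCat.{u}) (Cf K) q A).symm ≪≫ (Cf K).mapIso e'
  exact ⟨((Hn.{u} 0).rightDerived p).mapIso i1 ≪≫ e.app _⟩

end Main

end Groth.Agent.Lib.H43CechFunctor
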