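import Mathlib.CategoryTheory.Limits.FormalCoproducts.Basic
import Mathlib.CategoryTheory.Limits.FunctorCategory.Basic
import Mathlib.CategoryTheory.Limits.Types.Colimits
import Mathlib.CategoryTheory.Limits.Shapes.BinaryProducts
import Mathlib.CategoryTheory.Limits.Shapes.Terminal
import Mathlib.CategoryTheory.Yoneda

/-!
# Elements of `FormalCoproduct.yoneda`

`FormalCoproduct.yoneda.obj Y` is an abstract coproduct of representable presheaves. We describe
its sections over `V` as (images of) morphisms `incl V ⟶ Y` in the category of formal coproducts,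
and provide a few elementwise tools for abstract products / terminal objects of presheaves of types.
-/

set_option autoImplicit false
open CategoryTheory CategoryTheory.Limits Opposite
universe u

namespace Groth.Agent.Lib.H43FCYoneda
open FormalCoproduct

variable {D : Type u} [SmallCategory D]

/-- The section of `yoneda(Y)` over `V` attached to a morphism `incl V ⟶ Y`. -/
noncomputable def el {Y : FormalCoproduct.{u} D} {V : D} (m : (incl D).obj V ⟶ Y) :
    (FormalCoproduct.yoneda.obj Y).obj (op V) :=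
  (Sigma.ι (fun i => yoneda.obj (Y.obj i)) (m.f PUnit.unit)).app (op V) (m.φ PUnit.unit)

lemma el_fromIncl {Y : FormalCoproduct.{u} D} {V : D} (i : Y.I) (a : V ⟶ Y.obj i) :
    el (Hom.fromIncl i a) =
      (Sigma.ι (fun i => yoneda.obj (Y.obj i)) i).app (op V) a := rfl

lemma el_surjective {Y : FormalCoproduct.{u} D} {V : D}
    (s : (FormalCoproduct.yoneda.obj Y).obj (op V)) : ∃ m : (incl D).obj V ⟶ Y, el m = s := by
  have hc := isColimitOfPreserves ((evaluation Dᵒᵖ (Type u)).obj (op V))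
    (colimit.isColimit (Discrete.functor fun i => yoneda.obj (Y.obj i)))
  obtain ⟨⟨j⟩, y, hy⟩ := Types.jointly_surjective_of_isColimit hc s
  exact ⟨Hom.fromIncl j y, hy⟩

lemma el_map {Y Y' : FormalCoproduct.{u} D} {V : D} (m : (incl D).obj V ⟶ Y) (g : Y ⟶ Y') :
    (FormalCoproduct.yoneda.map g).app (op V) (el m) = el (m ≫ g) := by
  have h : Sigma.ι (fun i => yoneda.obj (Y.obj i)) (m.f PUnit.unit) ≫
      FormalCoproduct.yoneda.map g =
      yoneda.map (g.φ (m.f PUnit.unit)) ≫
        Sigma.ι (fun i => yoneda.obj (Y'.obj i)) (g.f (m.f PUnit.unit)) := by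
    exact Sigma.ι_desc _ _
  have := congrArg (fun t => t.app (op V) (m.φ PUnit.unit)) h
  exact this

lemma el_restrict {Y : FormalCoproduct.{u} D} {V W : D} (m : (incl D).obj V ⟶ Y) (p : W ⟶ V) :
    (FormalCoproduct.yoneda.obj Y).map p.op (el m) = el ((incl D).map p ≫ m) := by
  have := (Sigma.ι (fun i => yoneda.obj (Y.obj i)) (m.f PUnit.unit)).naturality p.op
  exact (ConcreteCategory.congr_hom this (m.φ PUnit.unit)).symm

/-- Evaluation of a family of sections `t i ∈ P(Y i)` on sections of `yoneda(Y)`. -/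
noncomputable def evNat {Y : FormalCoproduct.{u} D} {P : Dᵒᵖ ⥤ Type u}
    (t : ∀ i, P.obj (op (Y.obj i))) : FormalCoproduct.yoneda.obj Y ⟶ P :=
  Sigma.desc fun i => yonedaEquiv.symm (t i)

lemma evNat_el {Y : FormalCoproduct.{u} D} {P : Dᵒᵖ ⥤ Type u}
    (t : ∀ i, P.obj (op (Y.obj i))) {V : D} (m : (incl D).obj V ⟶ Y) :
    (evNat t).app (op V) (el m) = P.map (m.φ PUnit.unit).op (t (m.f PUnit.unit)) := by
  have h : Sigma.ι (fun i => yoneda.obj (Y.obj i)) (m.f PUnit.unit) ≫ evNat t =
      yonedaEquiv.symm (t (m.f PUnit.unit)) := by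
    simp [evNat]
  have := congrArg (fun t => t.app (op V) (m.φ PUnit.unit)) h
  exact this

section Products

variable {P Q : Dᵒᵖ ⥤ Type u}

lemma prod_ext {V : D} (x y : (P ⨯ Q).obj (op V))
    (h1 : (prod.fst : P ⨯ Q ⟶ P).app (op V) x = (prod.fst : P ⨯ Q ⟶ P).app (op V) y)
    (h2 : (prod.snd : P ⨯ Q ⟶ Q).app (op V) x = (prod.snd : P ⨯ Q ⟶ Q).app (op V) y) :
    x = y := by
  apply yonedaEquiv.symm.injective
  apply Limits.prod.hom_ext
  · rw [yonedaEquiv_symm_naturality_right, yonedaEquiv_symm_naturality_right, h1]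
  · rw [yonedaEquiv_symm_naturality_right, yonedaEquiv_symm_naturality_right, h2]

lemma prod_exists {V : D} (a : P.obj (op V)) (b : Q.obj (op V)) :
    ∃ x : (P ⨯ Q).obj (op V), (prod.fst : P ⨯ Q ⟶ P).app (op V) x = a ∧
      (prod.snd : P ⨯ Q ⟶ Q).app (op V) x = b := by
  refine ⟨yonedaEquiv (prod.lift (yonedaEquiv.symm a) (yonedaEquiv.symm b)), ?_, ?_⟩
  · rw [← yonedaEquiv_comp, prod.lift_fst, Equiv.apply_symm_apply]
  · rw [← yonedaEquiv_comp, prod.lift_snd, Equiv.apply_symm_apply]

lemma terminal_subsingleton (V : D) : Subsingleton ((⊤_ (Dᵒᵖ ⥤ Type u)).obj (op V)) :=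
  ⟨fun _ _ => yonedaEquiv.symm.injective (Subsingleton.elim _ _)⟩

lemma terminal_nonempty (V : D) : Nonempty ((⊤_ (Dᵒᵖ ⥤ Type u)).obj (op V)) :=
  ⟨yonedaEquiv (terminal.from (yoneda.obj V))⟩

end Products

end Groth.Agent.Lib.H43FCYoneda
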