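import Mathlib.AlgebraicTopology.SimplicialObject.Basic
import Mathlib.CategoryTheory.Sites.Grothendieck
import Mathlib.Data.Set.Finite.Lattice

universe u

open CategoryTheory Opposite Simplicial

namespace Groth.Agent.Lib.H43LocalKan

variable {C : Type u} [SmallCategory C] {J : GrothendieckTopology C}
  {P : SimplicialObject (Cᵒᵖ ⥤ Type u)}

/-- Sections of the simplicial presheaf in degree `k` over `V`. -/
abbrev Sec (P : SimplicialObject (Cᵒᵖ ⥤ Type u)) (k : ℕ) (V : C) : Type u :=
  (P.obj (op ⦋k⦌)).obj (op V)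

/-- Face maps on sections. -/
def face {k : ℕ} {V : C} (j : Fin (k + 2)) (x : Sec P (k + 1) V) : Sec P k V :=
  (P.δ j).app (op V) x

/-- Restriction maps on sections. -/
def res {k : ℕ} {V W : C} (p : W ⟶ V) (x : Sec P k V) : Sec P k W :=
  (P.obj (op ⦋k⦌)).map p.op x

lemma face_res {k : ℕ} {V W : C} (p : W ⟶ V) (j : Fin (k + 2)) (x : Sec P (k + 1) V) :
    face j (res p x) = res p (face j x) :=
  (NatTrans.naturality_apply (P.δ j) p.op x)

lemma res_res {k : ℕ} {V W W' : C} (p : W ⟶ V) (q : W' ⟶ W) (x : Sec P k V) :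
    res q (res p x) = res (q ≫ p) x := by
  simp [res]

lemma res_id {k : ℕ} {V : C} (x : Sec P k V) : res (𝟙 V) x = x := by
  simp [res]

lemma face_face {k : ℕ} {V : C} (i j : Fin (k + 2)) (h : i ≤ j) (x : Sec P (k + 2) V) :
    face i (face j.succ x) = face j (face i.castSucc x) := by
  have h0 : (P.δ j.succ ≫ P.δ i).app (op V) = (P.δ i.castSucc ≫ P.δ j).app (op V) :=
    congrArg (fun φ => φ.app (op V)) (P.δ_comp_δ h)
  exact ConcreteCategory.congr_hom h0 x

/-- Degenerate simplex on a vertex. -/
def degen {W : C} (k : ℕ) (v : Sec P 0 W) : Sec P k W :=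
  (P.map (SimplexCategory.const ⦋k⦌ ⦋0⦌ 0).op).app (op W) v

variable (J P) in
/-- Local filling conditions: `P → *` is a local trivial fibration. -/
structure LocalFilling : Prop where
  vertex : ∀ V : C, ∃ R ∈ J V, ∀ ⦃W : C⦄ (p : W ⟶ V), R p → Nonempty (Sec P 0 W)
  edge : ∀ (V : C) (a b : Sec P 0 V), ∃ R ∈ J V, ∀ ⦃W : C⦄ (p : W ⟶ V), R p →
    ∃ c : Sec P 1 W, face 1 c = res p a ∧ face 0 c = res p b
  fill : ∀ (k : ℕ) (V : C) (y : Fin (k + 3) → Sec P (k + 1) V),
    (∀ i j : Fin (k + 2), i ≤ j → face j (y i.castSucc) = face i (y j.succ)) →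
    ∃ R ∈ J V, ∀ ⦃W : C⦄ (p : W ⟶ V), R p →
      ∃ c : Sec P (k + 2) W, ∀ j, face j c = res p (y j)

/-- The expected value of the higher faces of a cone. -/
def prev {V W : C} (v : Sec P 0 W) (cone : ∀ k, Sec P k V → Sec P (k + 1) W) :
    ∀ k, Fin (k + 1) → Sec P k V → Sec P k W
  | 0, _, _ => v
  | (k + 1), j, z => cone k (face j z)

lemma prev_res {V W W' : C} (q : W' ⟶ W) (v : Sec P 0 W)
    (cone : ∀ k, Sec P k V → Sec P (k + 1) W) (cone' : ∀ k, Sec P k V → Sec P (k + 1) W')
    (k : ℕ) (h : ∀ k', k' < k → ∀ z, cone' k' z = res q (cone k' z)) (j : Fin (k + 1))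
    (x : Sec P k V) :
    prev (res q v) cone' k j x = res q (prev v cone k j x) := by
  cases k with
  | zero => rfl
  | succ k => exact h k (Nat.lt_succ_self k) _

/-- A system of cones on the family `S` up to level `N`, over `p : W ⟶ V`. -/
structure ConeSys {V : C} (S : ∀ k, Set (Sec P k V)) (N : ℕ) {W : C} (p : W ⟶ V) where
  v : Sec P 0 W
  cone : ∀ k, Sec P k V → Sec P (k + 1) W
  zero : ∀ k, k < N → ∀ x ∈ S k, face 0 (cone k x) = res p x
  succ : ∀ k, k < N → ∀ x ∈ S k, ∀ j : Fin (k + 1),
    face j.succ (cone k x) = prev v cone k j x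

/-- Restriction of a cone system. -/
def ConeSys.restrict {V : C} {S : ∀ k, Set (Sec P k V)} {N : ℕ} {W : C} {p : W ⟶ V}
    (cs : ConeSys S N p) {W' : C} (q : W' ⟶ W) : ConeSys S N (q ≫ p) where
  v := res q cs.v
  cone k x := res q (cs.cone k x)
  zero k hk x hx := by rw [face_res, cs.zero k hk x hx, res_res]
  succ k hk x hx j := by
    rw [face_res, cs.succ k hk x hx j]
    exact (prev_res q cs.v cs.cone _ k (fun _ _ _ => rfl) j x).symm

/-- The sieve of morphisms over which a cone system exists. -/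
def goodSieve {V : C} (S : ∀ k, Set (Sec P k V)) (N : ℕ) : Sieve V where
  arrows _ p := Nonempty (ConeSys S N p)
  downward_closed := by
    rintro W W' p ⟨cs⟩ q
    exact ⟨cs.restrict q⟩

/-- The sieve over which a filler for the next cone exists. -/
def fillSieve {V : C} {S : ∀ k, Set (Sec P k V)} {N : ℕ} {W : C} {p : W ⟶ V}
    (cs : ConeSys S N p) (x : Sec P N V) : Sieve W where
  arrows W' q := ∃ c : Sec P (N + 1) W', face 0 c = res q (res p x) ∧
    ∀ j : Fin (N + 1), face j.succ c = res q (prev cs.v cs.cone N j x)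
  downward_closed := by
    rintro W' W'' q ⟨c, h0, h1⟩ q'
    refine ⟨res q' c, ?_, fun j => ?_⟩
    · rw [face_res, h0, res_res]
    · rw [face_res, h1, res_res]

lemma fillSieve_mem (hP : LocalFilling J P) {V : C} {S : ∀ k, Set (Sec P k V)}
    (hface : ∀ k, ∀ x ∈ S (k + 1), ∀ j, face j x ∈ S k)
    {N : ℕ} {W : C} {p : W ⟶ V}
    (cs : ConeSys S N p) (x : Sec P N V) (hx : x ∈ S N) : fillSieve cs x ∈ J W := by
  cases N with
  | zero =>
    obtain ⟨R, hR, h⟩ := hP.edge W cs.v (res p x)
    refine J.superset_covering ?_ hR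
    intro W' q hq
    obtain ⟨c, h1, h0⟩ := h q hq
    refine ⟨c, h0, fun j => ?_⟩
    have : j = 0 := Fin.fin_one_eq_zero j
    subst this
    exact h1
  | succ k =>
    let y : Fin (k + 3) → Sec P (k + 1) W :=
      Fin.cons (res p x) (fun j => cs.cone k (face j x))
    have hy : ∀ i j : Fin (k + 2), i ≤ j → face j (y i.castSucc) = face i (y j.succ) := by
      intro i j hij
      have hj : y j.succ = cs.cone k (face j x) := by simp [y]
      rw [hj]
      cases i using Fin.cases with
      | zero =>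
        have h0 : y (Fin.castSucc 0) = res p x := by simp [y]
        rw [h0, face_res, cs.zero k (Nat.lt_succ_self k) _ (hface k x hx j)]
      | succ i' =>
        cases j using Fin.cases with
        | zero => exact absurd hij (by simp)
        | succ j' =>
          have hij' : i' ≤ j' := by simpa using hij
          have hi : y (Fin.castSucc i'.succ) = cs.cone k (face i'.castSucc x) := by
            rw [← Fin.succ_castSucc]
            simp [y]
          rw [hi, cs.succ k (Nat.lt_succ_self k) _ (hface k x hx _) j',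
            cs.succ k (Nat.lt_succ_self k) _ (hface k x hx _) i']
          cases k with
          | zero => rfl
          | succ k' =>
            show cs.cone k' (face j' (face i'.castSucc x)) = cs.cone k' (face i' (face j'.succ x))
            rw [face_face i' j' hij']
    obtain ⟨R, hR, h⟩ := hP.fill k W y hy
    refine J.superset_covering ?_ hR
    intro W' q hq
    obtain ⟨c, hc⟩ := h q hq
    refine ⟨c, ?_, fun j => ?_⟩
    · rw [hc 0]
      simp [y]
    · rw [hc j.succ]
      simp [y, prev]

lemma exists_common_sieve {W : C} {α : Type*} (S : Set α) (hfin : S.Finite) (R : α → Sieve W)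
    (hR : ∀ x ∈ S, R x ∈ J W) : ∃ T ∈ J W, ∀ x ∈ S, T ≤ R x := by
  induction S, hfin using Set.Finite.induction_on with
  | empty => exact ⟨⊤, J.top_mem W, by simp⟩
  | @insert a s ha hs ih =>
    obtain ⟨T, hT, h⟩ := ih (fun x hx => hR x (Set.mem_insert_of_mem a hx))
    refine ⟨T ⊓ R a, J.intersection_covering hT (hR a (Set.mem_insert a s)), ?_⟩
    intro x hx
    rcases Set.mem_insert_iff.1 hx with rfl | hx
    · exact inf_le_right
    · exact inf_le_left.trans (h x hx)

open Classical in
theorem goodSieve_mem (hP : LocalFilling J P) {V : C} (S : ∀ k, Set (Sec P k V))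
    (hfin : ∀ k, (S k).Finite)
    (hface : ∀ k, ∀ x ∈ S (k + 1), ∀ j, face j x ∈ S k) (N : ℕ) :
    goodSieve S N ∈ J V := by
  induction N with
  | zero =>
    obtain ⟨R, hR, h⟩ := hP.vertex V
    refine J.superset_covering ?_ hR
    intro W p hp
    obtain ⟨v⟩ := h p hp
    exact ⟨{ v := v
             cone := fun k _ => degen (k + 1) v
             zero := fun k hk => absurd hk (Nat.not_lt_zero k)
             succ := fun k hk => absurd hk (Nat.not_lt_zero k) }⟩
  | succ N ih =>
    refine J.transitive ih _ ?_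
    rintro W p ⟨cs⟩
    obtain ⟨T, hT, hTle⟩ := exists_common_sieve (J := J) (S N) (hfin N) (fun x => fillSieve cs x)
      (fun x hx => fillSieve_mem hP hface cs x hx)
    refine J.superset_covering ?_ hT
    intro W' q hq
    have hex : ∀ x : Sec P N V, x ∈ S N → ∃ c : Sec P (N + 1) W', face 0 c = res q (res p x) ∧
        ∀ j : Fin (N + 1), face j.succ c = res q (prev cs.v cs.cone N j x) :=
      fun x hx => hTle x hx _ hq
    choose c hc0 hc1 using hex
    let cone' : ∀ k, Sec P k V → Sec P (k + 1) W' :=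
      Function.update (fun k x => res q (cs.cone k x)) N
        (fun x => if hx : x ∈ S N then c x hx else res q (cs.cone N x))
    have hlt : ∀ k, k < N → ∀ z, cone' k z = res q (cs.cone k z) := by
      intro k hk z
      simp only [cone']
      rw [Function.update_of_ne (Nat.ne_of_lt hk)]
    have hN : ∀ x (hx : x ∈ S N), cone' N x = c x hx := by
      intro x hx
      simp only [cone']
      rw [Function.update_self]
      simp [hx]
    refine ⟨{ v := res q cs.v
              cone := cone'
              zero := ?_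
              succ := ?_ }⟩
    · intro k hk x hx
      rcases Nat.lt_succ_iff_lt_or_eq.1 hk with hk' | rfl
      · rw [hlt k hk', face_res, cs.zero k hk' x hx, res_res]
      · rw [hN x hx, hc0 x hx, res_res]
    · intro k hk x hx j
      rcases Nat.lt_succ_iff_lt_or_eq.1 hk with hk' | rfl
      · rw [hlt k hk', face_res, cs.succ k hk' x hx j]
        exact (prev_res q cs.v cs.cone cone' k (fun k' hk'' z => hlt k' (hk''.trans hk') z)
          j x).symm
      · rw [hN x hx, hc1 x hx j]
        exact (prev_res q cs.v cs.cone cone' k (fun k' hk'' z => hlt k' hk'' z) j x).symm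

/-- The family of all iterated faces/degeneracies of a set of `n`-simplices. -/
def spanFam {V : C} {n : ℕ} (T : Set (Sec P n V)) (k : ℕ) : Set (Sec P k V) :=
  {x | ∃ y ∈ T, ∃ φ : ⦋k⦌ ⟶ ⦋n⦌, (P.map φ.op).app (op V) y = x}

lemma subset_spanFam {V : C} {n : ℕ} (T : Set (Sec P n V)) : T ⊆ spanFam T n := by
  intro y hy
  refine ⟨y, hy, 𝟙 _, ?_⟩
  simp

lemma spanFam_finite {V : C} {n : ℕ} {T : Set (Sec P n V)} (hT : T.Finite) (k : ℕ) :
    (spanFam T k).Finite := by
  have : spanFam T k = ⋃ φ : ⦋k⦌ ⟶ ⦋n⦌, (fun y => (P.map φ.op).app (op V) y) '' T := by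
    ext x
    simp only [spanFam, Set.mem_ofPred_eq, Set.mem_iUnion, Set.mem_image]
    constructor
    · rintro ⟨y, hy, φ, h⟩
      exact ⟨φ, y, hy, h⟩
    · rintro ⟨φ, y, hy, h⟩
      exact ⟨y, hy, φ, h⟩
  rw [this]
  exact Set.finite_iUnion (fun φ => hT.image _)

lemma spanFam_face {V : C} {n : ℕ} (T : Set (Sec P n V)) (k : ℕ) (x : Sec P (k + 1) V)
    (hx : x ∈ spanFam T (k + 1)) (j : Fin (k + 2)) : face j x ∈ spanFam T k := by
  obtain ⟨y, hy, φ, rfl⟩ := hx
  refine ⟨y, hy, SimplexCategory.δ j ≫ φ, ?_⟩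
  simp only [face, SimplicialObject.δ, op_comp, Functor.map_comp, NatTrans.comp_app]
  rfl

end Groth.Agent.Lib.H43LocalKan
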