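import Mathlib.CategoryTheory.Functor.KanExtension.Pointwise
import Mathlib.CategoryTheory.Limits.Shapes.Products

/-!
# Right Kan extensions into a category with copowers are pointwise
-/

universe v₁ v₂ v₃ u₁ u₂ u₃

open CategoryTheory Limits

namespace Groth.Agent.Lib.H43RanPointwise

variable {𝒜 : Type u₁} [Category.{v₁} 𝒜] {ℬ : Type u₂} [Category.{v₂} ℬ]
  {𝒟 : Type u₃} [Category.{v₃} 𝒟]
  (L : 𝒜 ⥤ ℬ) (F : 𝒜 ⥤ 𝒟) (R : ℬ ⥤ 𝒟) (ε : L ⋙ R ⟶ F)
  [∀ b b' : ℬ, HasCoproductsOfShape (b ⟶ b') 𝒟]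

/-- The copower functor `b' ↦ ∐_{b ⟶ b'} A`. -/
noncomputable def copow (b : ℬ) (A : 𝒟) : ℬ ⥤ 𝒟 where
  obj b' := ∐ (fun _ : b ⟶ b' => A)
  map {b' b''} t := Sigma.desc (fun h => Sigma.ι (fun _ : b ⟶ b'' => A) (h ≫ t))
  map_id b' := by
    apply Sigma.hom_ext
    intro h
    simp
  map_comp t t' := by
    apply Sigma.hom_ext
    intro h
    simp

/-- The inclusion of a summand of the copower. -/
noncomputable def inj (b : ℬ) (A : 𝒟) {b' : ℬ} (h : b ⟶ b') : A ⟶ (copow (𝒟 := 𝒟) b A).obj b' :=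
  Sigma.ι (fun _ : b ⟶ b' => A) h

lemma copow_hom_ext (b : ℬ) (A : 𝒟) {b' : ℬ} {Z : 𝒟} (f g : (copow (𝒟 := 𝒟) b A).obj b' ⟶ Z)
    (h : ∀ t : b ⟶ b', inj b A t ≫ f = inj b A t ≫ g) : f = g :=
  Sigma.hom_ext _ _ h

@[reassoc]
lemma inj_map (b : ℬ) (A : 𝒟) {b' b'' : ℬ} (h : b ⟶ b') (t : b' ⟶ b'') :
    inj b A h ≫ (copow (𝒟 := 𝒟) b A).map t = inj b A (h ≫ t) := by
  simp [inj, copow]

/-- Descent from the copower. -/
noncomputable def cdesc (b : ℬ) (A : 𝒟) {b' : ℬ} {Z : 𝒟} (f : (b ⟶ b') → (A ⟶ Z)) :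
    (copow (𝒟 := 𝒟) b A).obj b' ⟶ Z :=
  Sigma.desc f

@[reassoc]
lemma inj_cdesc (b : ℬ) (A : 𝒟) {b' : ℬ} {Z : 𝒟} (f : (b ⟶ b') → (A ⟶ Z)) (h : b ⟶ b') :
    inj b A h ≫ cdesc b A f = f h :=
  Sigma.ι_desc _ _

variable {L F}

/-- The leg of a cone. -/
def leg {b : ℬ} (s : Cone (StructuredArrow.proj b L ⋙ F)) {a : 𝒜} (g : b ⟶ L.obj a) :
    s.pt ⟶ F.obj a :=
  s.π.app (StructuredArrow.mk g)

lemma leg_map {b : ℬ} (s : Cone (StructuredArrow.proj b L ⋙ F)) {a a' : 𝒜} (g : b ⟶ L.obj a)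
    (t : a ⟶ a') : leg s g ≫ F.map t = leg s (g ≫ L.map t) :=
  s.w (StructuredArrow.homMk t rfl : StructuredArrow.mk g ⟶ StructuredArrow.mk (g ≫ L.map t))

/-- The natural transformation `L ⋙ copow b A ⟶ F` attached to a cone. -/
noncomputable def alpha (b : ℬ) (s : Cone (StructuredArrow.proj b L ⋙ F)) :
    L ⋙ copow (𝒟 := 𝒟) b s.pt ⟶ F where
  app a := cdesc b s.pt (fun g : b ⟶ L.obj a => leg s g)
  naturality a a' t := by
    apply copow_hom_ext
    intro g
    rw [Functor.comp_map, inj_map_assoc, inj_cdesc, inj_cdesc_assoc, leg_map]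

@[reassoc]
lemma inj_alpha (b : ℬ) (s : Cone (StructuredArrow.proj b L ⋙ F)) (a : 𝒜) (g : b ⟶ L.obj a) :
    inj b s.pt g ≫ (alpha b s).app a = leg s g :=
  inj_cdesc _ _ _ _

variable {R}

/-- The natural transformation `copow b A ⟶ R` attached to a morphism `A ⟶ R b`. -/
noncomputable def beta (b : ℬ) {A : 𝒟} (m : A ⟶ R.obj b) : copow (𝒟 := 𝒟) b A ⟶ R where
  app b' := cdesc b A (fun h : b ⟶ b' => m ≫ R.map h)
  naturality b' b'' t := by
    apply copow_hom_ext
    intro h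
    rw [inj_map_assoc, inj_cdesc, inj_cdesc_assoc, Functor.map_comp, Category.assoc]

@[reassoc]
lemma inj_beta (b : ℬ) {A : 𝒟} (m : A ⟶ R.obj b) {b' : ℬ} (h : b ⟶ b') :
    inj b A h ≫ (beta b m).app b' = m ≫ R.map h :=
  inj_cdesc _ _ _ _

variable [R.IsRightKanExtension ε]

/-- A right Kan extension into a category with copowers is pointwise. -/
noncomputable def isPointwise :
    (Functor.RightExtension.mk R ε).IsPointwiseRightKanExtension := fun b =>
  { lift := fun s => inj b s.pt (𝟙 b) ≫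
      (R.liftOfIsRightKanExtension ε _ (alpha b s)).app b
    fac := fun s j => by
      have h1 := (R.liftOfIsRightKanExtension ε _ (alpha b s)).naturality j.hom
      have h2 := R.liftOfIsRightKanExtension_fac_app ε _ (alpha b s) j.right
      show (inj b s.pt (𝟙 b) ≫ (R.liftOfIsRightKanExtension ε _ (alpha b s)).app b) ≫
        R.map j.hom ≫ ε.app j.right = s.π.app j
      rw [Category.assoc, ← Category.assoc _ (R.map j.hom), ← h1, Category.assoc, h2,
        inj_map_assoc, inj_alpha, Category.id_comp]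
      rfl
    uniq := fun s m hm => by
      let m' : s.pt ⟶ R.obj b := m
      have h3 : beta b m' = R.liftOfIsRightKanExtension ε _ (alpha b s) := by
        apply R.hom_ext_of_isRightKanExtension ε
        rw [R.liftOfIsRightKanExtension_fac]
        ext a
        apply copow_hom_ext
        intro g
        have h4 : m' ≫ R.map g ≫ ε.app a = leg s g :=
          hm (StructuredArrow.mk g)
        rw [NatTrans.comp_app, inj_alpha]
        refine Eq.trans ?_ h4
        exact (Category.assoc _ _ _).symm.trans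
          ((congrArg (· ≫ ε.app a) (inj_beta b m' g)).trans (Category.assoc _ _ _))
      have h5 := inj_beta b m' (𝟙 b)
      rw [h3, CategoryTheory.Functor.map_id, Category.comp_id] at h5
      exact h5.symm }

end Groth.Agent.Lib.H43RanPointwise
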