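import Mathlib.AlgebraicTopology.SimplexCategory.Truncated
import Mathlib.AlgebraicTopology.SimplicialObject.Basic
import Mathlib.CategoryTheory.Functor.KanExtension.Pointwise
import Mathlib.CategoryTheory.Limits.Shapes.FiniteLimits
import Mathlib.CategoryTheory.FinCategory.Basic
import Mathlib.Data.Finite.Sigma

/-!
# Finiteness of the comma categories of the truncated simplex category

The truncated simplex category `SimplexCategory.Truncated m` is a finite category, and the
(co)structured arrow categories of its inclusion into the simplex category are finite.  As a
consequence, in a category with finite colimits (resp. limits) truncated simplicial objects have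
pointwise left (resp. right) Kan extensions along the inclusion.
-/

set_option autoImplicit false
open CategoryTheory CategoryTheory.Limits Opposite

universe v u

namespace Groth.Agent.Lib.H79TruncFin

instance finite_truncated (m : ℕ) : Finite (SimplexCategory.Truncated m) := by
  refine Finite.of_injective (β := Fin (m + 1))
    (fun X => ⟨X.obj.len, Nat.lt_succ_of_le X.property⟩) ?_
  intro X Y h
  have h' : X.obj.len = Y.obj.len := by simpa using congrArg Fin.val h
  have h'' : X.obj = Y.obj := SimplexCategory.ext h'
  cases X; cases Y
  simp only at h''
  subst h''
  rfl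

instance finite_truncated_hom (m : ℕ) (X Y : SimplexCategory.Truncated m) : Finite (X ⟶ Y) :=
  Finite.of_injective (fun f => f.hom) (fun _ _ h => ObjectProperty.hom_ext _ h)

instance finite_truncated_op (m : ℕ) : Finite (SimplexCategory.Truncated m)ᵒᵖ :=
  Finite.of_equiv _ (equivToOpposite)

instance finite_truncated_op_hom (m : ℕ) (X Y : (SimplexCategory.Truncated m)ᵒᵖ) :
    Finite (X ⟶ Y) :=
  Finite.of_equiv _ (opEquiv X Y).symm

instance finite_simplexCategory_op_hom (X Y : SimplexCategoryᵒᵖ) : Finite (X ⟶ Y) :=
  Finite.of_equiv _ (opEquiv X Y).symm

section Costructured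

variable {J D : Type} [SmallCategory J] [SmallCategory D] (L : J ⥤ D) (Y : D)

theorem finite_costructuredArrow [Finite J] [∀ X, Finite (L.obj X ⟶ Y)] :
    Finite (CostructuredArrow L Y) := by
  refine Finite.of_surjective (α := Σ X : J, (L.obj X ⟶ Y))
    (fun p => CostructuredArrow.mk p.2) ?_
  intro a
  exact ⟨⟨a.left, a.hom⟩, (CostructuredArrow.eq_mk a).symm⟩

theorem finite_costructuredArrow_hom [∀ X X' : J, Finite (X ⟶ X')]
    (a b : CostructuredArrow L Y) : Finite (a ⟶ b) :=
  Finite.of_injective (fun f => f.left) (fun _ _ h => CostructuredArrow.hom_ext _ _ h)

theorem finite_structuredArrow [Finite J] [∀ X, Finite (Y ⟶ L.obj X)] :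
    Finite (StructuredArrow Y L) := by
  refine Finite.of_surjective (α := Σ X : J, (Y ⟶ L.obj X))
    (fun p => StructuredArrow.mk p.2) ?_
  intro a
  exact ⟨⟨a.right, a.hom⟩, (StructuredArrow.eq_mk a).symm⟩

theorem finite_structuredArrow_hom [∀ X X' : J, Finite (X ⟶ X')]
    (a b : StructuredArrow Y L) : Finite (a ⟶ b) :=
  Finite.of_injective (fun f => f.right) (fun _ _ h => StructuredArrow.hom_ext _ _ h)

/-- The costructured arrow category of a functor from a finite category with finite
hom-sets in the target is a finite category. -/
@[instance_reducible]
noncomputable def finCategoryCostructuredArrow [Finite J] [∀ X, Finite (L.obj X ⟶ Y)]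
    [∀ X X' : J, Finite (X ⟶ X')] : FinCategory (CostructuredArrow L Y) :=
  haveI := finite_costructuredArrow L Y
  haveI := finite_costructuredArrow_hom L Y
  { fintypeObj := Fintype.ofFinite _
    fintypeHom := fun _ _ => Fintype.ofFinite _ }

/-- The structured arrow category of a functor from a finite category with finite
hom-sets in the target is a finite category. -/
@[instance_reducible]
noncomputable def finCategoryStructuredArrow [Finite J] [∀ X, Finite (Y ⟶ L.obj X)]
    [∀ X X' : J, Finite (X ⟶ X')] : FinCategory (StructuredArrow Y L) :=
  haveI := finite_structuredArrow L Y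
  haveI := finite_structuredArrow_hom L Y
  { fintypeObj := Fintype.ofFinite _
    fintypeHom := fun _ _ => Fintype.ofFinite _ }

end Costructured

/-- In a category with finite colimits, truncated simplicial objects have pointwise left Kan
extensions along the inclusion of the truncated simplex category. -/
theorem hasPointwiseLeftKanExtension_inclusion {C : Type u} [Category.{v} C] [HasFiniteColimits C]
    (m : ℕ) (U : (SimplexCategory.Truncated m)ᵒᵖ ⥤ C) :
    (SimplexCategory.Truncated.inclusion m).op.HasPointwiseLeftKanExtension U := by
  intro Y
  have : FinCategory (CostructuredArrow (SimplexCategory.Truncated.inclusion m).op Y) :=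
    finCategoryCostructuredArrow _ _
  change HasColimit _
  infer_instance

/-- In a category with finite limits, truncated simplicial objects have pointwise right Kan
extensions along the inclusion of the truncated simplex category. -/
theorem hasPointwiseRightKanExtension_inclusion {C : Type u} [Category.{v} C] [HasFiniteLimits C]
    (m : ℕ) (U : (SimplexCategory.Truncated m)ᵒᵖ ⥤ C) :
    (SimplexCategory.Truncated.inclusion m).op.HasPointwiseRightKanExtension U := by
  intro Y
  have : FinCategory (StructuredArrow Y (SimplexCategory.Truncated.inclusion m).op) :=
    finCategoryStructuredArrow _ _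
  change HasLimit _
  infer_instance

end Groth.Agent.Lib.H79TruncFin
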