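import Groth.Prelude.Def_Hyper
import Groth.Agent.Lib.H43FCYoneda
import Groth.Agent.Lib.H43LocalKan
import Groth.Agent.Lib.H43RanPointwise
import Groth.Agent.Lib.H43Boundary
import Groth.Agent.S8565
import Groth.Agent.S6504

universe u

open CategoryTheory Limits Opposite Simplicial
open FormalCoproduct Groth.Agent.Lib.H43FCYoneda Groth.Agent.Lib.H43LocalKan

namespace Groth.Agent.Lib.H43HyperLF

variable {C : Type u} [SmallCategory C]

lemma incl_map_fromIncl {Y : FormalCoproduct.{u} C} {V : C} (i : Y.I) (g : V ⟶ Y.obj i) :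
    (incl C).map g ≫ Hom.fromIncl i (𝟙 _) = Hom.fromIncl i g := by
  refine FormalCoproduct.hom_ext rfl ?_
  intro x
  change (g ≫ 𝟙 _) ≫ 𝟙 _ = g
  rw [Category.comp_id, Category.comp_id]

lemma el_injective {Y : FormalCoproduct.{u} C} {V : C} :
    Function.Injective (el (Y := Y) (V := V)) := by
  let Q : Cᵒᵖ ⥤ Type u := (incl C).op ⋙ yoneda.obj Y
  let t : ∀ i, Q.obj (op (Y.obj i)) := fun i => Hom.fromIncl i (𝟙 _)
  have key : ∀ m : (incl C).obj V ⟶ Y, (evNat t).app (op V) (el m) = m := by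
    intro m
    rw [evNat_el]
    show (incl C).map (m.φ PUnit.unit) ≫ Hom.fromIncl (m.f PUnit.unit) (𝟙 _) = m
    rw [incl_map_fromIncl]
    exact Hom.fromIncl_asSigma m
  intro m m' h
  rw [← key m, ← key m', h]

instance (b b' : SimplexCategoryᵒᵖ) :
    HasCoproductsOfShape (b ⟶ b') (FormalCoproduct.{u} C) := by
  have : HasCoproducts.{0} (FormalCoproduct.{u} C) := has_smallest_coproducts_of_hasCoproducts
  infer_instance

variable (J : GrothendieckTopology C) (K : SimplicialObject (FormalCoproduct.{u} C))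

/-- The simplicial presheaf of sets attached to `K`. -/
noncomputable abbrev PK : SimplicialObject (Cᵒᵖ ⥤ Type u) := K ⋙ FormalCoproduct.yoneda

lemma face_el {k : ℕ} {V : C} (j : Fin (k + 2)) (m : (incl C).obj V ⟶ K _⦋k + 1⦌) :
    face (P := PK K) j (el m) = el (m ≫ K.δ j) := el_map m (K.δ j)

lemma res_el {k : ℕ} {V W : C} (p : W ⟶ V) (m : (incl C).obj V ⟶ K _⦋k⦌) :
    res (P := PK K) p (el m) = el ((incl C).map p ≫ m) := el_restrict m p

variable [∀ (n : ℕ) (F : (SimplexCategory.Truncated n)ᵒᵖ ⥤ FormalCoproduct.{u} C),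
      (SimplexCategory.Truncated.inclusion n).op.HasRightKanExtension F]

/-- Coskeleta in formal coproducts are pointwise right Kan extensions. -/
noncomputable def hZ (n : ℕ) :
    (Functor.RightExtension.mk ((SimplicialObject.cosk n).obj K)
      (Groth.Agent.S6504.eps n K)).IsPointwiseRightKanExtension :=
  haveI : ((SimplicialObject.cosk n).obj K).IsRightKanExtension (Groth.Agent.S6504.eps n K) :=
    inferInstanceAs (((SimplexCategory.Truncated.inclusion n).op.ran.obj
      ((SimplicialObject.truncation n).obj K)).IsRightKanExtension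
      ((SimplexCategory.Truncated.inclusion n).op.ranCounit.app _))
  Groth.Agent.Lib.H43RanPointwise.isPointwise (Groth.Agent.S6504.eps n K)

open Groth.Agent.S8565 Groth.Agent.S6504 Groth.Agent.Lib.H43Boundary in
open SimplexCategory.Truncated (Hom.tr) in
theorem fill_aux (k : ℕ)
    (hn : Presheaf.IsLocallySurjective J (FormalCoproduct.yoneda.map
      (((SimplicialObject.coskAdj (k + 1)).unit.app K).app (op ⦋k + 1 + 1⦌))))
    (V : C) (y : Fin (k + 3) → Sec (PK K) (k + 1) V)
    (hy : ∀ i j : Fin (k + 2), i ≤ j → face j (y i.castSucc) = face i (y j.succ)) :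
    ∃ R ∈ J V, ∀ ⦃W : C⦄ (p : W ⟶ V), R p →
      ∃ c : Sec (PK K) (k + 2) W, ∀ j, face j c = res p (y j) := by
  choose Y hYy using fun j => el_surjective (y j)
  have hY : ∀ i j : Fin (k + 2), i ≤ j → Y i.castSucc ≫ K.δ j = Y j.succ ≫ K.δ i := by
    intro i j hij
    apply el_injective
    rw [← face_el, ← face_el, hYy, hYy]
    exact hy i j hij
  let c : ∀ (a : SimplexCategory) (ha : a.len ≤ k + 1) (_ : a ⟶ ⦋k + 2⦌),
      (incl C).obj V ⟶ ((SimplicialObject.truncation (k + 1)).obj K).obj (op ⟨a, ha⟩) :=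
    fun a ha φ => bd K Y φ (not_surjective_of_len_le φ ha)
  have hc : ∀ (a : SimplexCategory) (ha : a.len ≤ k + 1) (b : SimplexCategory)
      (hb : b.len ≤ k + 1) (φ : a ⟶ ⦋k + 2⦌) (ψ : b ⟶ a),
      c a ha φ ≫ ((SimplicialObject.truncation (k + 1)).obj K).map (Hom.tr ψ hb ha).op =
        c b hb (ψ ≫ φ) :=
    fun a ha b hb φ ψ => bd_comp K Y hY φ _ ψ _
  let z := lift (eps (k + 1) K) (hZ K (k + 1)) c hc
  have hz : ∀ (a : SimplexCategory) (ha : a.len ≤ k + 1) (φ : a ⟶ ⦋k + 2⦌),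
      z ≫ pr (eps (k + 1) K) ha φ = c a ha φ := lift_pr (eps (k + 1) K) (hZ K (k + 1)) c hc
  refine ⟨Presheaf.imageSieve (FormalCoproduct.yoneda.map
      (((SimplicialObject.coskAdj (k + 1)).unit.app K).app (op ⦋k + 1 + 1⦌))) (U := V) (el z),
    Presheaf.imageSieve_mem J (FormalCoproduct.yoneda.map
      (((SimplicialObject.coskAdj (k + 1)).unit.app K).app (op ⦋k + 1 + 1⦌))) (U := op V) (el z), ?_⟩
  rintro W p ⟨t, ht⟩
  obtain ⟨m, rfl⟩ := el_surjective t
  have hm : m ≫ ((SimplicialObject.coskAdj (k + 1)).unit.app K).app (op ⦋k + 1 + 1⦌) =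
      (incl C).map p ≫ z := by
    apply el_injective
    rw [← el_map, ← el_restrict]
    exact ht
  refine ⟨el m, fun j => ?_⟩
  rw [face_el, ← hYy j, res_el]
  congr 1
  have u1 := unit_pr (k + 1) K (m := ⦋k + 2⦌) (a := ⦋k + 1⦌) (le_refl _) (SimplexCategory.δ j)
  have u2 := hz ⦋k + 1⦌ (le_refl _) (SimplexCategory.δ j)
  have u3 : c ⦋k + 1⦌ (le_refl _) (SimplexCategory.δ j) = Y j := bd_δ K Y hY j _
  exact Groth.Agent.S6504.chain m _ _ _ ((incl C).map p) z (Y j) u1 hm (u2.trans u3)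

theorem localFilling_of_isHypercoveringSite (hK : Hyper.IsHypercoveringSite J K) :
    LocalFilling J (PK K) := by
  obtain ⟨h0, h1, hn⟩ := hK
  refine ⟨?_, ?_, ?_⟩
  · intro V
    obtain ⟨s⟩ := terminal_nonempty (D := C) V
    refine ⟨Presheaf.imageSieve (terminal.from (FormalCoproduct.yoneda.obj (K.obj (op ⦋0⦌))))
      (U := V) s, Presheaf.imageSieve_mem J
        (terminal.from (FormalCoproduct.yoneda.obj (K.obj (op ⦋0⦌)))) (U := op V) s, ?_⟩
    rintro W p ⟨t, _⟩
    exact ⟨t⟩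
  · intro V a b
    set P0 : Cᵒᵖ ⥤ Type u := FormalCoproduct.yoneda.obj (K.obj (op ⦋0⦌)) with hP0
    obtain ⟨x, hxa, hxb⟩ := prod_exists (P := P0) (Q := P0) a b
    refine ⟨Presheaf.imageSieve (prod.lift (FormalCoproduct.yoneda.map (K.δ (1 : Fin 2)))
      (FormalCoproduct.yoneda.map (K.δ (0 : Fin 2)))) (U := V) x,
      Presheaf.imageSieve_mem J (prod.lift (FormalCoproduct.yoneda.map (K.δ (1 : Fin 2)))
      (FormalCoproduct.yoneda.map (K.δ (0 : Fin 2)))) (U := op V) x, ?_⟩
    rintro W p ⟨t, ht⟩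
    refine ⟨t, ?_, ?_⟩
    · have e1 := congrArg (fun φ => φ.app (op W) t)
        (prod.lift_fst (FormalCoproduct.yoneda.map (K.δ (1 : Fin 2)))
          (FormalCoproduct.yoneda.map (K.δ (0 : Fin 2))))
      have e2 := ConcreteCategory.congr_hom ((prod.fst : P0 ⨯ P0 ⟶ P0).naturality p.op) x
      refine e1.symm.trans ?_
      simp only [NatTrans.comp_app, ConcreteCategory.comp_apply] at e2 ⊢
      rw [ht, e2, hxa]
      rfl
    · have e1 := congrArg (fun φ => φ.app (op W) t)
        (prod.lift_snd (FormalCoproduct.yoneda.map (K.δ (1 : Fin 2)))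
          (FormalCoproduct.yoneda.map (K.δ (0 : Fin 2))))
      have e2 := ConcreteCategory.congr_hom ((prod.snd : P0 ⨯ P0 ⟶ P0).naturality p.op) x
      refine e1.symm.trans ?_
      simp only [NatTrans.comp_app, ConcreteCategory.comp_apply] at e2 ⊢
      rw [ht, e2, hxb]
      rfl
  · intro k V y hy
    exact fill_aux J K k (hn (k + 1) (by omega)) V y hy

end Groth.Agent.Lib.H43HyperLF
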