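import Groth.Agent.Lib.SiteCoh
import Mathlib.CategoryTheory.Sites.LocallyBijective
import Mathlib.CategoryTheory.Sites.LocallyInjective

universe u

open CategoryTheory Limits Opposite

namespace Groth.Agent.Lib.H43LocExact

variable {C : Type u} [SmallCategory C] {J : GrothendieckTopology C}

/-- Sheafification of a presheaf sequence `A ⟶ B ⟶ D` of abelian groups. -/
noncomputable abbrev shSC {A B D : Cᵒᵖ ⥤ AddCommGrpCat.{u}} (f : A ⟶ B) (g : B ⟶ D)
    (w : f ≫ g = 0) : ShortComplex (Sheaf J AddCommGrpCat.{u}) :=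
  ShortComplex.mk ((presheafToSheaf J AddCommGrpCat.{u}).map f)
    ((presheafToSheaf J AddCommGrpCat.{u}).map g)
    (by rw [← Functor.map_comp, w, Functor.map_zero])

lemma toSheafify_map_apply {A B : Cᵒᵖ ⥤ AddCommGrpCat.{u}} (f : A ⟶ B) (V : C)
    (a : A.obj (op V)) :
    ((presheafToSheaf J AddCommGrpCat.{u}).map f).hom.app (op V)
      ((toSheafify J A).app (op V) a) = (toSheafify J B).app (op V) (f.app (op V) a) := by
  have h := toSheafify_naturality J f
  have h2 := congrArg (fun φ => φ.app (op V) a) h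
  simp only [NatTrans.comp_app, ConcreteCategory.comp_apply] at h2
  exact h2.symm

theorem exact_sheafify_of_locally {A B D : Cᵒᵖ ⥤ AddCommGrpCat.{u}} (f : A ⟶ B) (g : B ⟶ D)
    (w : f ≫ g = 0)
    (hloc : ∀ (U : C) (b : B.obj (op U)), g.app (op U) b = 0 →
      ∃ T ∈ J U, ∀ (V : C) (i : V ⟶ U), T i →
        ∃ a : A.obj (op V), f.app (op V) a = B.map i.op b) :
    (shSC (J := J) f g w).Exact := by
  apply Groth.Agent.Lib.SiteCoh.shortComplex_exact_of_locally
  intro U s hs
  let Good : Sieve U :=
    { arrows := fun V i => ∃ t : ((presheafToSheaf J AddCommGrpCat.{u}).obj A).obj.obj (op V),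
        ((presheafToSheaf J AddCommGrpCat.{u}).map f).hom.app (op V) t =
          ((presheafToSheaf J AddCommGrpCat.{u}).obj B).obj.map i.op s
      downward_closed := by
        rintro V W i ⟨t, ht⟩ j
        refine ⟨((presheafToSheaf J AddCommGrpCat.{u}).obj A).obj.map j.op t, ?_⟩
        have h5 := ConcreteCategory.congr_hom
          (((presheafToSheaf J AddCommGrpCat.{u}).map f).hom.naturality j.op) t
        simp only [ConcreteCategory.comp_apply] at h5
        rw [h5, ht, op_comp, Functor.map_comp, ConcreteCategory.comp_apply] }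
  refine ⟨Good, ?_, fun V i hi => hi⟩
  have h1 := Presheaf.imageSieve_mem J (toSheafify J B) (U := op U) s
  refine J.transitive h1 _ ?_
  rintro V i ⟨b, hb⟩
  have h2 : (toSheafify J D).app (op V) (g.app (op V) b) = (toSheafify J D).app (op V) 0 := by
    rw [← toSheafify_map_apply, hb]
    have h5 := ConcreteCategory.congr_hom
      (((presheafToSheaf J AddCommGrpCat.{u}).map g).hom.naturality i.op) s
    simp only [ConcreteCategory.comp_apply] at h5
    refine h5.trans ?_
    erw [hs]
    simp
  have h3 := Presheaf.equalizerSieve_mem J (toSheafify J D) (X := op V) _ _ h2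
  refine J.transitive h3 _ ?_
  intro V2 i2 hi2
  have hi2' : D.map i2.op (g.app (op V) b) = D.map i2.op 0 := hi2
  obtain ⟨T3, hT3, h4⟩ := hloc V2 (B.map i2.op b) (by
    have h5 := ConcreteCategory.congr_hom (g.naturality i2.op) b
    simp only [ConcreteCategory.comp_apply] at h5
    rw [h5, hi2']
    simp)
  refine J.superset_covering ?_ hT3
  intro V3 i3 hi3
  obtain ⟨a, ha⟩ := h4 V3 i3 hi3
  refine ⟨(toSheafify J A).app (op V3) a, ?_⟩
  rw [toSheafify_map_apply, ha]
  have h6 := ConcreteCategory.congr_hom ((toSheafify J B).naturality i2.op) b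
  have h7 := ConcreteCategory.congr_hom ((toSheafify J B).naturality i3.op) (B.map i2.op b)
  simp only [ConcreteCategory.comp_apply] at h6 h7
  rw [h7, h6, hb]
  simp only [op_comp, Functor.map_comp, ConcreteCategory.comp_apply]

theorem epi_sheafify_of_locally {B D : Cᵒᵖ ⥤ AddCommGrpCat.{u}} (g : B ⟶ D)
    (hloc : ∀ (U : C) (d : D.obj (op U)),
      ∃ T ∈ J U, ∀ (V : C) (i : V ⟶ U), T i →
        ∃ b : B.obj (op V), g.app (op V) b = D.map i.op d) :
    Epi ((presheafToSheaf J AddCommGrpCat.{u}).map g) := by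
  have h1 : Presheaf.IsLocallySurjective J g := by
    constructor
    intro U d
    obtain ⟨T, hT, h⟩ := hloc U d
    exact J.superset_covering (fun V i hi => h V i hi) hT
  have h2 : Sheaf.IsLocallySurjective ((presheafToSheaf J AddCommGrpCat.{u}).map g) :=
    (Presheaf.isLocallySurjective_presheafToSheaf_map_iff J g).2 h1
  exact Sheaf.epi_of_isLocallySurjective _

/-- If `a f`, `a g` is exact and `a g` is epi then the cokernel of `a f` is `a D`. -/
theorem nonempty_cokernel_iso {A B D : Cᵒᵖ ⥤ AddCommGrpCat.{u}} (f : A ⟶ B) (g : B ⟶ D)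
    (w : f ≫ g = 0) (hex : (shSC (J := J) f g w).Exact)
    [Epi ((presheafToSheaf J AddCommGrpCat.{u}).map g)] :
    Nonempty (cokernel ((presheafToSheaf J AddCommGrpCat.{u}).map f) ≅
      (presheafToSheaf J AddCommGrpCat.{u}).obj D) := by
  have : Epi (shSC (J := J) f g w).g := by dsimp; infer_instance
  have hc := hex.gIsCokernel
  exact ⟨(colimit.isColimit _).coconePointUniqueUpToIso hc⟩

end Groth.Agent.Lib.H43LocExact
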