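import Groth.Agent.Lib.H43LocalKan
import Groth.Agent.Lib.H43LocExact
import Mathlib.AlgebraicTopology.AlternatingFaceMapComplex
import Mathlib.Algebra.Category.Grp.Adjunctions
import Mathlib.GroupTheory.FreeAbelianGroup

universe u

open CategoryTheory Limits Opposite Simplicial

namespace Groth.Agent.Lib.H43LocalKanChain

open Groth.Agent.Lib.H43LocalKan Groth.Agent.Lib.H43LocExact

variable {C : Type u} [SmallCategory C] {J : GrothendieckTopology C}
  {P : SimplicialObject (Cᵒᵖ ⥤ Type u)}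

/-- Element-level alternating face differential. -/
noncomputable def D (P : SimplicialObject (Cᵒᵖ ⥤ Type u)) (k : ℕ) (V : C) :
    FreeAbelianGroup (Sec P (k + 1) V) →+ FreeAbelianGroup (Sec P k V) :=
  ∑ j : Fin (k + 2), ((-1 : ℤ) ^ (j : ℕ)) • FreeAbelianGroup.map (face j)

lemma D_of (k : ℕ) (V : C) (x : Sec P (k + 1) V) :
    D P k V (FreeAbelianGroup.of x) =
      ∑ j : Fin (k + 2), ((-1 : ℤ) ^ (j : ℕ)) • FreeAbelianGroup.of (face j x) := by
  simp [D, FreeAbelianGroup.map_of_apply]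

/-- Restriction on free abelian groups of sections. -/
noncomputable abbrev Rs (P : SimplicialObject (Cᵒᵖ ⥤ Type u)) (k : ℕ) {V W : C} (p : W ⟶ V) :
    FreeAbelianGroup (Sec P k V) →+ FreeAbelianGroup (Sec P k W) :=
  FreeAbelianGroup.map (res p)

/-- The map `ℤ[P_0(V)] → ℤ[pt]`. -/
noncomputable abbrev Aug (P : SimplicialObject (Cᵒᵖ ⥤ Type u)) (V : C) :
    FreeAbelianGroup (Sec P 0 V) →+ FreeAbelianGroup PUnit.{u + 1} :=
  FreeAbelianGroup.map (fun _ => PUnit.unit)

/-- The map `ℤ[pt] → ℤ[P_0(W)]` given by a vertex. -/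
noncomputable abbrev Vx {W : C} (v : Sec P 0 W) :
    FreeAbelianGroup PUnit.{u + 1} →+ FreeAbelianGroup (Sec P 0 W) :=
  FreeAbelianGroup.map (fun _ => v)

lemma exists_finite_closure {α : Type*} (c : FreeAbelianGroup α) :
    ∃ T : Set α, T.Finite ∧ c ∈ AddSubgroup.closure (FreeAbelianGroup.of '' T) := by
  induction c using FreeAbelianGroup.induction_on with
  | zero => exact ⟨∅, Set.finite_empty, zero_mem _⟩
  | of x =>
    exact ⟨{x}, Set.finite_singleton x, AddSubgroup.subset_closure ⟨x, rfl, rfl⟩⟩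
  | neg x ih =>
    obtain ⟨T, hT, h⟩ := ih
    exact ⟨T, hT, neg_mem h⟩
  | add x y ihx ihy =>
    obtain ⟨T, hT, h⟩ := ihx
    obtain ⟨T', hT', h'⟩ := ihy
    refine ⟨T ∪ T', hT.union hT', add_mem ?_ ?_⟩
    · exact AddSubgroup.closure_mono (Set.image_mono Set.subset_union_left) h
    · exact AddSubgroup.closure_mono (Set.image_mono Set.subset_union_right) h'

theorem homotopy_succ {V W : C} {S : ∀ k, Set (Sec P k V)} {N : ℕ} {p : W ⟶ V}
    (cs : ConeSys S N p) (k : ℕ) (hk : k + 1 < N) (c : FreeAbelianGroup (Sec P (k + 1) V))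
    (hc : c ∈ AddSubgroup.closure (FreeAbelianGroup.of '' S (k + 1))) :
    D P (k + 1) W (FreeAbelianGroup.map (cs.cone (k + 1)) c) =
      Rs P (k + 1) p c - FreeAbelianGroup.map (cs.cone k) (D P k V c) := by
  let R : FreeAbelianGroup (Sec P (k + 1) V) →+ FreeAbelianGroup (Sec P (k + 1) W) :=
    Rs P (k + 1) p - (FreeAbelianGroup.map (cs.cone k)).comp (D P k V)
  have key : Set.EqOn ((D P (k + 1) W).comp (FreeAbelianGroup.map (cs.cone (k + 1)))) R
      (FreeAbelianGroup.of '' S (k + 1)) := by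
    rintro _ ⟨x, hx, rfl⟩
    simp only [R, AddMonoidHom.comp_apply, AddMonoidHom.sub_apply, FreeAbelianGroup.map_of_apply,
      D_of, map_sum, map_zsmul]
    rw [Fin.sum_univ_succ]
    simp only [Fin.val_zero, pow_zero, one_smul, Fin.val_succ, pow_succ, mul_neg, mul_one,
      neg_smul, Finset.sum_neg_distrib]
    rw [cs.zero (k + 1) hk x hx, sub_eq_add_neg]
    congr 2
    apply Finset.sum_congr rfl
    intro j _
    rw [cs.succ (k + 1) hk x hx j]
    rfl
  exact AddMonoidHom.eqOn_closure key hc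

theorem homotopy_zero {V W : C} {S : ∀ k, Set (Sec P k V)} {N : ℕ} {p : W ⟶ V}
    (cs : ConeSys S N p) (hk : 0 < N) (c : FreeAbelianGroup (Sec P 0 V))
    (hc : c ∈ AddSubgroup.closure (FreeAbelianGroup.of '' S 0)) :
    D P 0 W (FreeAbelianGroup.map (cs.cone 0) c) =
      Rs P 0 p c - Vx cs.v (Aug P V c) := by
  let R : FreeAbelianGroup (Sec P 0 V) →+ FreeAbelianGroup (Sec P 0 W) :=
    Rs P 0 p - (Vx cs.v).comp (Aug P V)
  have key : Set.EqOn ((D P 0 W).comp (FreeAbelianGroup.map (cs.cone 0))) R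
      (FreeAbelianGroup.of '' S 0) := by
    rintro _ ⟨x, hx, rfl⟩
    simp only [R, AddMonoidHom.comp_apply, AddMonoidHom.sub_apply, FreeAbelianGroup.map_of_apply,
      D_of]
    rw [Fin.sum_univ_succ]
    simp only [Fin.val_zero, pow_zero, one_smul, Fin.val_succ, pow_succ, mul_neg, mul_one,
      neg_smul, Finset.sum_neg_distrib]
    rw [cs.zero 0 hk x hx, sub_eq_add_neg]
    congr 2
    simp only [Finset.univ_unique, Fin.default_eq_zero, Fin.val_zero, pow_zero, one_smul,
      Finset.sum_singleton]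
    rw [cs.succ 0 hk x hx 0]
    rfl
  exact AddMonoidHom.eqOn_closure key hc

/-- The simplicial presheaf of free abelian groups `ℤ[P]`. -/
noncomputable abbrev ZP (P : SimplicialObject (Cᵒᵖ ⥤ Type u)) :
    SimplicialObject (Cᵒᵖ ⥤ AddCommGrpCat.{u}) :=
  P ⋙ (Functor.whiskeringRight _ _ _).obj AddCommGrpCat.free.{u}

/-- Presheaf-level alternating face differential. -/
noncomputable abbrev dP (P : SimplicialObject (Cᵒᵖ ⥤ Type u)) (k : ℕ) :
    (ZP P) _⦋k + 1⦌ ⟶ (ZP P) _⦋k⦌ :=
  AlgebraicTopology.AlternatingFaceMapComplex.objD (ZP P) k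

lemma sum_apply_aux {M N : AddCommGrpCat.{u}} {ι : Type*} (s : Finset ι) (f : ι → (M ⟶ N))
    (c : M) : (∑ j ∈ s, f j).hom c = ∑ j ∈ s, (f j).hom c := by
  classical
  induction s using Finset.induction_on with
  | empty => simp
  | insert a s ha ih => simp [Finset.sum_insert ha, ih]

lemma dP_app (k : ℕ) (V : C) (c : FreeAbelianGroup (Sec P (k + 1) V)) :
    ((dP P k).app (op V)).hom c = D P k V c := by
  have h1 : (dP P k).app (op V) =
      ∑ j : Fin (k + 2), ((-1 : ℤ) ^ (j : ℕ)) • ((ZP P).δ j).app (op V) := by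
    simp only [dP, AlgebraicTopology.AlternatingFaceMapComplex.objD, NatTrans.app_sum,
      NatTrans.app_zsmul]
  rw [h1]
  refine (sum_apply_aux _ _ _).trans ?_
  simp only [D, AddMonoidHom.finsetSum_apply]
  rfl

lemma ZP_map (k : ℕ) {V W : C} (p : W ⟶ V) (c : FreeAbelianGroup (Sec P k V)) :
    (((ZP P) _⦋k⦌).map p.op).hom c = Rs P k p c := rfl

/-- The augmentation `ℤ[P_0] ⟶ ℤ[pt]`. -/
noncomputable def eps (P : SimplicialObject (Cᵒᵖ ⥤ Type u)) :
    (ZP P) _⦋0⦌ ⟶ (Functor.const Cᵒᵖ).obj (AddCommGrpCat.free.{u}.obj PUnit.{u + 1}) where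
  app V := AddCommGrpCat.ofHom (Aug P V.unop)
  naturality V W f := by
    apply AddCommGrpCat.hom_ext
    apply FreeAbelianGroup.lift_ext
    intro x
    rfl

lemma aug_vx {W : C} (v : Sec P 0 W) (d : FreeAbelianGroup PUnit.{u + 1}) :
    Aug P W (Vx v d) = d := by
  rw [← FreeAbelianGroup.map_comp_apply]
  exact FreeAbelianGroup.map_id_apply d

lemma eps_app (V : C) (c : FreeAbelianGroup (Sec P 0 V)) :
    ((eps P).app (op V)).hom c = Aug P V c := rfl

lemma dP_eps : dP P 0 ≫ eps P = 0 := by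
  ext V : 2
  apply AddCommGrpCat.hom_ext
  apply FreeAbelianGroup.lift_ext
  intro x
  have h1 : ((dP P 0 ≫ eps P).app V).hom (FreeAbelianGroup.of x) =
      Aug P V.unop (D P 0 V.unop (FreeAbelianGroup.of x)) := by
    rw [← dP_app]
    rfl
  refine h1.trans ?_
  rw [D_of, Fin.sum_univ_two]
  simp [FreeAbelianGroup.map_of_apply]
  rfl

theorem exact_succ (hP : LocalFilling J P) (n : ℕ) :
    (shSC (J := J) (dP P (n + 1)) (dP P n)
      (AlgebraicTopology.AlternatingFaceMapComplex.d_squared (ZP P) n)).Exact := by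
  apply exact_sheafify_of_locally
  intro V b hb
  obtain ⟨T, hTfin, hbT⟩ := exists_finite_closure (α := Sec P (n + 1) V) b
  refine ⟨goodSieve (spanFam T) (n + 2),
    goodSieve_mem hP (spanFam T) (spanFam_finite hTfin) (spanFam_face T) (n + 2), ?_⟩
  rintro W p ⟨cs⟩
  refine ⟨FreeAbelianGroup.map (cs.cone (n + 1)) b, ?_⟩
  have h1 := homotopy_succ cs n (by omega) b
    (AddSubgroup.closure_mono (Set.image_mono (subset_spanFam T)) hbT)
  have h2 : D P n V b = 0 := (dP_app n V b).symm.trans hb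
  rw [h2, map_zero, sub_zero] at h1
  exact (dP_app (n + 1) W _).trans h1

theorem exact_zero (hP : LocalFilling J P) :
    (shSC (J := J) (dP P 0) (eps P) dP_eps).Exact := by
  apply exact_sheafify_of_locally
  intro V b hb
  obtain ⟨T, hTfin, hbT⟩ := exists_finite_closure (α := Sec P 0 V) b
  refine ⟨goodSieve (spanFam T) 1,
    goodSieve_mem hP (spanFam T) (spanFam_finite hTfin) (spanFam_face T) 1, ?_⟩
  rintro W p ⟨cs⟩
  refine ⟨FreeAbelianGroup.map (cs.cone 0) b, ?_⟩
  have h1 := homotopy_zero cs (by omega) b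
    (AddSubgroup.closure_mono (Set.image_mono (subset_spanFam T)) hbT)
  have h2 : Aug P V b = 0 := (eps_app V b).symm.trans hb
  rw [h2, map_zero, sub_zero] at h1
  exact (dP_app 0 W _).trans h1

theorem epi_eps (hP : LocalFilling J P) :
    Epi ((presheafToSheaf J AddCommGrpCat.{u}).map (eps P)) := by
  apply epi_sheafify_of_locally
  intro V d
  obtain ⟨R, hR, h⟩ := hP.vertex V
  refine ⟨R, hR, fun W p hp => ?_⟩
  obtain ⟨v⟩ := h p hp
  refine ⟨Vx v d, ?_⟩
  refine (eps_app W _).trans ?_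
  exact aug_vx v d

/-- The chain complex of abelian sheaves `ℤ[P]^#`. -/
noncomputable abbrev Cx (J : GrothendieckTopology C) (P : SimplicialObject (Cᵒᵖ ⥤ Type u)) :
    ChainComplex (Sheaf J AddCommGrpCat.{u}) ℕ :=
  (AlgebraicTopology.alternatingFaceMapComplex _).obj
    ((P ⋙ (Functor.whiskeringRight _ _ _).obj AddCommGrpCat.free.{u}) ⋙
      presheafToSheaf J AddCommGrpCat.{u})

lemma Cx_d (n : ℕ) :
    (Cx J P).d (n + 1) n = (presheafToSheaf J AddCommGrpCat.{u}).map (dP P n) := by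
  rw [AlgebraicTopology.alternatingFaceMapComplex_obj_d]
  simp only [dP, AlgebraicTopology.AlternatingFaceMapComplex.objD, Functor.map_sum,
    Functor.map_zsmul]
  rfl

theorem isZero_homology_succ (hP : LocalFilling J P) (n : ℕ) :
    IsZero ((Cx J P).homology (n + 1)) := by
  rw [← HomologicalComplex.exactAt_iff_isZero_homology,
    HomologicalComplex.exactAt_iff' _ (n + 2) (n + 1) n (by simp) (by simp)]
  refine (ShortComplex.exact_iff_of_iso ?_).2 (exact_succ (J := J) hP n)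
  refine ShortComplex.isoMk (Iso.refl _) (Iso.refl _) (Iso.refl _) ?_ ?_
  · exact (Category.id_comp _).trans ((Cx_d (n + 1)).symm.trans (Category.comp_id _).symm)
  · exact (Category.id_comp _).trans ((Cx_d n).symm.trans (Category.comp_id _).symm)

theorem nonempty_homology_zero_iso (hP : LocalFilling J P) :
    Nonempty ((Cx J P).homology 0 ≅ (presheafToSheaf J AddCommGrpCat.{u}).obj
      ((Functor.const Cᵒᵖ).obj (AddCommGrpCat.free.{u}.obj PUnit.{u + 1}))) := by
  have := epi_eps (J := J) hP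
  obtain ⟨e⟩ := nonempty_cokernel_iso (J := J) (dP P 0) (eps P) dP_eps (exact_zero hP)
  have e1 : (Cx J P).opcycles 0 ≅ cokernel ((Cx J P).d 1 0) :=
    ((Cx J P).opcyclesIsCokernel 1 0 (by simp)).coconePointUniqueUpToIso (colimit.isColimit _)
  have e2 : cokernel ((Cx J P).d 1 0) ≅
      cokernel ((presheafToSheaf J AddCommGrpCat.{u}).map (dP P 0)) :=
    cokernelIsoOfEq (Cx_d 0)
  exact ⟨(Cx J P).isoHomologyι₀ ≪≫ e1 ≪≫ e2 ≪≫ e⟩

end Groth.Agent.Lib.H43LocalKanChain
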