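import Groth.Prelude.Def_Hyper
import Groth.Agent.Lib.H43FCYoneda
import Groth.Agent.Lib.H43LocExact
import Groth.Agent.Lib.H43HyperLF
import Mathlib.CategoryTheory.Limits.Shapes.ConcreteCategory
import Groth.Agent.Lib.H43LocalKanChain
import Mathlib.Algebra.Homology.ShortComplex.Ab
import Mathlib.CategoryTheory.Preadditive.Injective.Basic

universe u

open CategoryTheory Limits Opposite Simplicial
open FormalCoproduct Groth.Agent.Lib.H43FCYoneda

namespace Groth.Agent.Lib.H43CechHom

variable {C : Type u} [SmallCategory C] (J : GrothendieckTopology C)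

/-- The free abelian presheaf on `F(Y)`. -/
noncomputable abbrev ZFpre (Y : FormalCoproduct.{u} C) : Cᵒᵖ ⥤ AddCommGrpCat.{u} :=
  FormalCoproduct.yoneda.obj Y ⋙ AddCommGrpCat.free.{u}

/-- The free abelian sheaf on `F(Y)`. -/
noncomputable abbrev ZF (Y : FormalCoproduct.{u} C) : Sheaf J AddCommGrpCat.{u} :=
  (presheafToSheaf J AddCommGrpCat.{u}).obj (ZFpre Y)

/-- Functoriality of `ZF`. -/
noncomputable abbrev ZFmap {Y' Y : FormalCoproduct.{u} C} (g : Y' ⟶ Y) : ZF J Y' ⟶ ZF J Y :=
  (presheafToSheaf J AddCommGrpCat.{u}).map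
    (Functor.whiskerRight (FormalCoproduct.yoneda.map g) AddCommGrpCat.free.{u})

/-- The generator section of the free presheaf attached to `m : incl V ⟶ Y`. -/
noncomputable def genPre (Y : FormalCoproduct.{u} C) {V : C} (m : (incl C).obj V ⟶ Y) :
    (ZFpre Y).obj (op V) :=
  FreeAbelianGroup.of (el m)

lemma genPre_restrict (Y : FormalCoproduct.{u} C) {V W : C} (m : (incl C).obj V ⟶ Y)
    (p : W ⟶ V) :
    (ZFpre Y).map p.op (genPre Y m) = genPre Y ((incl C).map p ≫ m) := by
  unfold genPre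
  rw [← el_restrict]
  rfl

lemma genPre_map {Y' Y : FormalCoproduct.{u} C} (g : Y' ⟶ Y) {V : C}
    (m : (incl C).obj V ⟶ Y') :
    (Functor.whiskerRight (FormalCoproduct.yoneda.map g) AddCommGrpCat.free.{u}).app (op V)
      (genPre Y' m) = genPre Y (m ≫ g) := by
  unfold genPre
  rw [← el_map]
  rfl

/-- The generator section attached to `m : incl V ⟶ Y`. -/
noncomputable def gen (Y : FormalCoproduct.{u} C) {V : C} (m : (incl C).obj V ⟶ Y) :
    (ZF J Y).obj.obj (op V) :=
  (toSheafify J (ZFpre Y)).app (op V) (genPre Y m)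

variable {J}

lemma gen_restrict (Y : FormalCoproduct.{u} C) {V W : C} (m : (incl C).obj V ⟶ Y) (p : W ⟶ V) :
    (ZF J Y).obj.map p.op (gen J Y m) = gen J Y ((incl C).map p ≫ m) := by
  have h1 := ConcreteCategory.congr_hom ((toSheafify J (ZFpre Y)).naturality p.op)
    (genPre Y m)
  rw [ConcreteCategory.comp_apply, ConcreteCategory.comp_apply] at h1
  refine h1.symm.trans ?_
  unfold gen
  rw [genPre_restrict]

lemma ZFmap_gen {Y' Y : FormalCoproduct.{u} C} (g : Y' ⟶ Y) {V : C}
    (m : (incl C).obj V ⟶ Y') :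
    (ZFmap J g).hom.app (op V) (gen J Y' m) = gen J Y (m ≫ g) := by
  unfold gen
  rw [← genPre_map]
  exact Groth.Agent.Lib.H43LocExact.toSheafify_map_apply _ V _

variable (G : Sheaf J AddCommGrpCat.{u})

/-- Families of sections of `G` indexed by the components of `Y`. -/
abbrev Fam (Y : FormalCoproduct.{u} C) : Type u := ∀ i : Y.I, G.obj.obj (op (Y.obj i))

/-- Pullback of families along a morphism of formal coproducts. -/
def pb {Y' Y : FormalCoproduct.{u} C} (g : Y' ⟶ Y) : Fam G Y →+ Fam G Y' where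
  toFun s i' := G.obj.map (g.φ i').op (s (g.f i'))
  map_zero' := by
    funext i'
    simp
  map_add' s t := by
    funext i'
    simp

/-- The tautological morphism `incl (Y i) ⟶ Y`. -/
abbrev tautM (Y : FormalCoproduct.{u} C) (i : Y.I) : (incl C).obj (Y.obj i) ⟶ Y :=
  Hom.fromIncl i (𝟙 _)

/-- Evaluation of a morphism `ℤ[F(Y)]^# ⟶ G` on the tautological sections. -/
noncomputable def Psi (Y : FormalCoproduct.{u} C) : (ZF J Y ⟶ G) →+ Fam G Y where
  toFun h i := h.hom.app (op (Y.obj i)) (gen J Y (tautM Y i))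
  map_zero' := by
    funext i
    rfl
  map_add' h h' := by
    funext i
    rfl

lemma eval_formula {Y : FormalCoproduct.{u} C} (h : ZF J Y ⟶ G) {V : C}
    (m : (incl C).obj V ⟶ Y) :
    h.hom.app (op V) (gen J Y m) =
      G.obj.map (m.φ PUnit.unit).op (Psi G Y h (m.f PUnit.unit)) := by
  have h1 : m = (incl C).map (m.φ PUnit.unit) ≫ tautM Y (m.f PUnit.unit) := by
    rw [Groth.Agent.Lib.H43HyperLF.incl_map_fromIncl]
    exact (Hom.fromIncl_asSigma m).symm
  have h2 := ConcreteCategory.congr_hom (h.hom.naturality (m.φ PUnit.unit).op)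
    (gen J Y (tautM Y (m.f PUnit.unit)))
  rw [ConcreteCategory.comp_apply, ConcreteCategory.comp_apply, gen_restrict, ← h1] at h2
  exact h2

lemma Psi_comp {Y' Y : FormalCoproduct.{u} C} (g : Y' ⟶ Y) (h : ZF J Y ⟶ G) :
    Psi G Y' (ZFmap J g ≫ h) = pb G g (Psi G Y h) := by
  funext i'
  show h.hom.app _ ((ZFmap J g).hom.app _ (gen J Y' (tautM Y' i'))) = _
  rw [ZFmap_gen, eval_formula]
  show G.obj.map (𝟙 _ ≫ g.φ i').op _ = G.obj.map (g.φ i').op _
  rw [Category.id_comp]
  rfl

lemma Psi_injective (Y : FormalCoproduct.{u} C) : Function.Injective (Psi G Y) := by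
  intro h h' hh
  apply ((sheafificationAdjunction J AddCommGrpCat.{u}).homEquiv _ _).injective
  rw [Adjunction.homEquiv_unit, Adjunction.homEquiv_unit]
  ext V : 2
  apply AddCommGrpCat.hom_ext
  apply FreeAbelianGroup.lift_ext
  intro x
  obtain ⟨m, rfl⟩ := el_surjective x
  have e1 := eval_formula G h m
  have e2 := eval_formula G h' m
  rw [hh] at e1
  exact e1.trans e2.symm

/-- The presheaf morphism `ℤ[F(Y)] ⟶ G` attached to a family. -/
noncomputable def phi (Y : FormalCoproduct.{u} C) (s : Fam G Y) : ZFpre Y ⟶ G.obj where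
  app V := AddCommGrpCat.ofHom (FreeAbelianGroup.lift
    (fun x : (FormalCoproduct.yoneda.obj Y).obj V =>
      ((evNat (P := G.obj ⋙ forget AddCommGrpCat.{u}) s).app V x : G.obj.obj V)))
  naturality V W f := by
    apply AddCommGrpCat.hom_ext
    apply FreeAbelianGroup.lift_ext
    intro x
    have h1 := ConcreteCategory.congr_hom
      ((evNat (P := G.obj ⋙ forget AddCommGrpCat.{u}) s).naturality f) x
    refine Eq.trans ?_ (h1.trans ?_)
    · show FreeAbelianGroup.lift _ (FreeAbelianGroup.map _ (FreeAbelianGroup.of x)) = _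
      rw [FreeAbelianGroup.map_of_apply, FreeAbelianGroup.lift_apply_of]
      rfl
    · show _ = G.obj.map f (FreeAbelianGroup.lift _ (FreeAbelianGroup.of x))
      rw [FreeAbelianGroup.lift_apply_of]
      rfl

lemma phi_genPre (Y : FormalCoproduct.{u} C) (s : Fam G Y) {V : C}
    (m : (incl C).obj V ⟶ Y) :
    (phi G Y s).app (op V) (genPre Y m) =
      G.obj.map (m.φ PUnit.unit).op (s (m.f PUnit.unit)) := by
  unfold genPre phi
  erw [FreeAbelianGroup.lift_apply_of]
  exact evNat_el (P := G.obj ⋙ forget AddCommGrpCat.{u}) s m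

lemma Psi_surjective (Y : FormalCoproduct.{u} C) : Function.Surjective (Psi G Y) := by
  intro s
  refine ⟨((sheafificationAdjunction J AddCommGrpCat.{u}).homEquiv _ _).symm (phi G Y s), ?_⟩
  funext i
  have h1 : toSheafify J (ZFpre Y) ≫
      (((sheafificationAdjunction J AddCommGrpCat.{u}).homEquiv _ G).symm (phi G Y s)).hom =
      phi G Y s := by
    have := ((sheafificationAdjunction J AddCommGrpCat.{u}).homEquiv _ G).apply_symm_apply
      (phi G Y s)
    rw [Adjunction.homEquiv_unit] at this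
    exact this
  have h2 := ConcreteCategory.congr_hom (congrArg (fun t => t.app (op (Y.obj i))) h1)
    (genPre Y (tautM Y i))
  rw [phi_genPre] at h2
  refine Eq.trans ?_ (h2.trans ?_)
  · rfl
  · show G.obj.map (𝟙 _).op (s i) = s i
    simp

section Ext
variable {𝒜 : Type*} [Category 𝒜] [Abelian 𝒜]

lemma exists_extension (S : ShortComplex 𝒜) (hS : S.Exact) (I : 𝒜) [Injective I]
    (k : S.X₂ ⟶ I) (hk : S.f ≫ k = 0) : ∃ l : S.X₃ ⟶ I, S.g ≫ l = k := by
  have hm : Mono (cokernel.desc S.f S.g S.zero) := S.exact_iff_mono_cokernel_desc.1 hS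
  refine ⟨Injective.factorThru (cokernel.desc S.f k hk) (cokernel.desc S.f S.g S.zero), ?_⟩
  have h1 : S.g ≫ Injective.factorThru (cokernel.desc S.f k hk) (cokernel.desc S.f S.g S.zero) =
      cokernel.π S.f ≫ (cokernel.desc S.f S.g S.zero ≫
        Injective.factorThru (cokernel.desc S.f k hk) (cokernel.desc S.f S.g S.zero)) := by
    rw [← Category.assoc, cokernel.π_desc]
  rw [h1, Injective.comp_factorThru, cokernel.π_desc]

end Ext

lemma hom_sum_zsmul {A B : Type*} [AddCommGroup A] [AddCommGroup B] (f : A →+ B) {ι : Type*}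
    (s : Finset ι) (c : ι → ℤ) (a : ι → A) :
    f (∑ j ∈ s, c j • a j) = ∑ j ∈ s, c j • f (a j) := by
  simp [map_sum, map_zsmul]

section Cech
variable (K : SimplicialObject (FormalCoproduct.{u} C))

/-- Components of a Čech cochain. -/
noncomputable def comp (q : ℕ) (ζ : ToType ((Hyper.cechCxSite K G.obj).X q)) :
    Fam G (K _⦋q⦌) :=
  fun l => Pi.π (fun l : (K _⦋q⦌).I => G.obj.obj (op ((K _⦋q⦌).obj l))) l ζ

lemma comp_injective (q : ℕ) : Function.Injective (comp G K q) := by
  intro ζ ζ' h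
  let F := fun l : (K _⦋q⦌).I => G.obj.obj (op ((K _⦋q⦌).obj l))
  have key : ∀ z z' : ToType (∏ᶜ F), (∀ l, Pi.π F l z = Pi.π F l z') → z = z' := by
    intro z z' hz
    apply (Concrete.productEquiv F).injective
    funext l
    rw [Concrete.productEquiv_apply_apply, Concrete.productEquiv_apply_apply]
    exact hz l
  exact key ζ ζ' (fun l => congrFun h l)

lemma comp_surjective (q : ℕ) : Function.Surjective (comp G K q) := by
  intro s
  refine ⟨(Concrete.productEquiv
    (fun l : (K _⦋q⦌).I => G.obj.obj (op ((K _⦋q⦌).obj l)))).symm s, ?_⟩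
  funext l
  exact Concrete.productEquiv_symm_apply_π _ s l

/-- the cosimplicial group -/
noncomputable abbrev XX : CosimplicialObject AddCommGrpCat.{u} :=
  (FormalCoproduct.cosimplicialObjectFunctor K).obj G.obj

lemma comp_coface (q : ℕ) (j : Fin (q + 2)) (ζ : ToType ((Hyper.cechCxSite K G.obj).X q)) :
    comp G K (q + 1) ((XX G K).δ j ζ) = pb G (K.δ j) (comp G K q ζ) := by
  funext l
  have h : (XX G K).δ j ≫
      Pi.π (fun l : (K _⦋q + 1⦌).I => G.obj.obj (op ((K _⦋q + 1⦌).obj l))) l =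
      Pi.π (fun i : (K _⦋q⦌).I => G.obj.obj (op ((K _⦋q⦌).obj i))) ((K.δ j).f l) ≫
        G.obj.map ((K.δ j).φ l).op := Pi.lift_π _ _
  exact ConcreteCategory.congr_hom h ζ

lemma comp_d (q : ℕ) (ζ : ToType ((Hyper.cechCxSite K G.obj).X q)) :
    comp G K (q + 1) ((Hyper.cechCxSite K G.obj).d q (q + 1) ζ) =
      ∑ j : Fin (q + 2), ((-1 : ℤ) ^ (j : ℕ)) • pb G (K.δ j) (comp G K q ζ) := by
  have h : (Hyper.cechCxSite K G.obj).d q (q + 1) =
      AlgebraicTopology.AlternatingCofaceMapComplex.objD (XX G K) q :=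
    CochainComplex.of_d (V := AddCommGrpCat.{u}) (α := ℕ) (fun n => (XX G K).obj ⦋n⦌)
      (AlgebraicTopology.AlternatingCofaceMapComplex.objD (XX G K)) q
  rw [h]
  simp only [AlgebraicTopology.AlternatingCofaceMapComplex.objD]
  have h2 : (∑ j : Fin (q + 2), ((-1 : ℤ) ^ (j : ℕ)) • (XX G K).δ j).hom ζ =
      ∑ j : Fin (q + 2), ((-1 : ℤ) ^ (j : ℕ)) • ((XX G K).δ j).hom ζ := by
    refine (Groth.Agent.Lib.H43LocalKanChain.sum_apply_aux _ _ _).trans ?_
    rfl
  funext l
  refine (congrArg (fun z => comp G K (q + 1) z l) h2).trans ?_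
  refine (hom_sum_zsmul
    (Pi.π (fun l : (K _⦋q + 1⦌).I => G.obj.obj (op ((K _⦋q + 1⦌).obj l))) l).hom
    Finset.univ (fun j : Fin (q + 2) => ((-1 : ℤ) ^ (j : ℕ)))
    (fun j => ((XX G K).δ j).hom ζ)).trans ?_
  rw [Finset.sum_apply]
  apply Finset.sum_congr rfl
  intro j _
  rw [Pi.smul_apply]
  congr 1
  exact congrFun (comp_coface G K q j ζ) l

lemma freeChainCx_d (q : ℕ) :
    (Hyper.freeChainCx J K).d (q + 1) q =
      ∑ j : Fin (q + 2), ((-1 : ℤ) ^ (j : ℕ)) • ZFmap J (K.δ j) := by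
  rw [AlgebraicTopology.alternatingFaceMapComplex_obj_d]
  rfl

lemma Psi_d (q : ℕ) (h : ZF J (K _⦋q⦌) ⟶ G) :
    Psi G (K _⦋q + 1⦌) ((Hyper.freeChainCx J K).d (q + 1) q ≫ h) =
      ∑ j : Fin (q + 2), ((-1 : ℤ) ^ (j : ℕ)) • pb G (K.δ j) (Psi G (K _⦋q⦌) h) := by
  rw [freeChainCx_d, Preadditive.sum_comp, map_sum]
  apply Finset.sum_congr rfl
  intro j _
  rw [Preadditive.zsmul_comp, map_zsmul, Psi_comp]

variable [∀ (n : ℕ) (F : (SimplexCategory.Truncated n)ᵒᵖ ⥤ FormalCoproduct.{u} C),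
      (SimplexCategory.Truncated.inclusion n).op.HasRightKanExtension F]

theorem freeChainCx_exact (hK : Hyper.IsHypercoveringSite J K) (q : ℕ) :
    ((Hyper.freeChainCx J K).sc' (q + 2) (q + 1) q).Exact := by
  have h1 := Groth.Agent.Lib.H43LocalKanChain.isZero_homology_succ
    (Groth.Agent.Lib.H43HyperLF.localFilling_of_isHypercoveringSite J K hK) q
  rw [← HomologicalComplex.exactAt_iff_isZero_homology,
    HomologicalComplex.exactAt_iff' _ (q + 2) (q + 1) q (by simp) (by simp)] at h1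
  exact h1

/-- Čech cohomology of an injective sheaf with respect to a hypercovering (of the final object)
vanishes in positive degrees. -/
theorem isZero_cech_homology_succ (hK : Hyper.IsHypercoveringSite J K) [Injective G] (p : ℕ) :
    IsZero ((Hyper.cechCxSite K G.obj).homology (p + 1)) := by
  rw [← HomologicalComplex.exactAt_iff_isZero_homology,
    HomologicalComplex.exactAt_iff' _ p (p + 1) (p + 2) (by simp) (by simp),
    ShortComplex.ab_exact_iff]
  intro ξ0 hξ0
  let ξ : ToType ((Hyper.cechCxSite K G.obj).X (p + 1)) := ξ0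
  have hξ : (Hyper.cechCxSite K G.obj).d (p + 1) (p + 2) ξ = 0 := hξ0
  obtain ⟨ξt, hξt⟩ := Psi_surjective G (K _⦋p + 1⦌) (comp G K (p + 1) ξ)
  have hz : (Hyper.freeChainCx J K).d (p + 2) (p + 1) ≫ ξt = 0 := by
    apply Psi_injective G
    rw [Psi_d, hξt, ← comp_d, map_zero, hξ]
    funext l
    exact map_zero _
  obtain ⟨ηt0, hηt0⟩ := exists_extension _ (freeChainCx_exact K hK p) G ξt hz
  let ηt : ZF J (K _⦋p⦌) ⟶ G := ηt0
  have hηt : (Hyper.freeChainCx J K).d (p + 1) p ≫ ηt = ξt := hηt0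
  obtain ⟨η, hη⟩ := comp_surjective G K p (Psi G (K _⦋p⦌) ηt)
  refine ⟨η, ?_⟩
  apply comp_injective G K (p + 1)
  show comp G K (p + 1) ((Hyper.cechCxSite K G.obj).d p (p + 1) η) = comp G K (p + 1) ξ
  rw [comp_d, hη, ← Psi_d, ← hξt, hηt]

end Cech

end Groth.Agent.Lib.H43CechHom
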