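import Groth.Agent.Lib.OverLan
import Mathlib.CategoryTheory.Sites.Over
import Mathlib.CategoryTheory.Sites.Pullback
import Mathlib.CategoryTheory.Sites.Abelian
import Mathlib.Algebra.Category.Grp.AB
import Mathlib.CategoryTheory.Preadditive.Injective.Preserves
import Mathlib.CategoryTheory.Limits.FunctorCategory.EpiMono

/-!
# Restriction of abelian sheaves to `Over U` preserves injectives

The left adjoint `j_!` of the restriction functor `j^* : Sh(C) ⥤ Sh(C/U)` preserves monomorphisms
(it is `sheafify ∘ lan ∘ forget`, and the left Kan extension along `Over.forget U` is a coproduct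
over `Hom(V, U)`), hence `j^*` preserves injective objects.
-/

set_option autoImplicit false
open CategoryTheory CategoryTheory.Limits Opposite
universe u

namespace Groth.Agent.Lib.OverInj

variable {C : Type u} [SmallCategory C] (J : GrothendieckTopology C) (U : C)

instance (T : Type u) :
    (colim : (Discrete T ⥤ AddCommGrpCat.{u}) ⥤ AddCommGrpCat.{u}).PreservesMonomorphisms := by
  have : PreservesFiniteLimits (colim : (Discrete T ⥤ AddCommGrpCat.{u}) ⥤ AddCommGrpCat.{u}) :=
    HasExactColimitsOfShape.preservesFiniteLimits
  infer_instance

instance lan_preservesMonomorphisms :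
    ((Over.forget U).op.lan : ((Over U)ᵒᵖ ⥤ AddCommGrpCat.{u}) ⥤ (Cᵒᵖ ⥤ AddCommGrpCat.{u})).PreservesMonomorphisms where
  preserves {P Q} α hα := by
    have : ∀ W, Mono (α.app W) := fun W => (NatTrans.mono_iff_mono_app α).1 hα W
    have : ∀ X, Mono (((Over.forget U).op.lan.map α).app X) :=
      fun X => OverLan.mono_lan_map_app U α X
    exact NatTrans.mono_of_mono_app _

/-- the "extension by zero" functor `j_!` on abelian sheaves -/
noncomputable abbrev extZero : Sheaf (J.over U) AddCommGrpCat.{u} ⥤ Sheaf J AddCommGrpCat.{u} :=
  Functor.sheafPullbackConstruction.sheafPullback (Over.forget U) AddCommGrpCat.{u} (J.over U) J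

/-- `j_! ⊣ j^*` -/
noncomputable def extZeroAdj :
    extZero J U ⊣ (Over.forget U).sheafPushforwardContinuous AddCommGrpCat.{u} (J.over U) J :=
  Functor.sheafPullbackConstruction.sheafAdjunctionContinuous (Over.forget U) AddCommGrpCat.{u}
    (J.over U) J

instance : (extZero J U).PreservesMonomorphisms := by
  have h1 : (sheafToPresheaf (J.over U) AddCommGrpCat.{u}).PreservesMonomorphisms :=
    Functor.preservesMonomorphisms_of_adjunction
      (sheafificationAdjunction (J.over U) AddCommGrpCat.{u})
  have h2 : (presheafToSheaf J AddCommGrpCat.{u}).PreservesMonomorphisms := inferInstance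
  have h3 := lan_preservesMonomorphisms U
  dsimp only [extZero, Functor.sheafPullbackConstruction.sheafPullback]
  infer_instance

/-- restriction to `Over U` preserves injective abelian sheaves -/
theorem injective_over (I : Sheaf J AddCommGrpCat.{u}) [Injective I] : Injective (I.over U) :=
  Injective.injective_of_adjoint (extZeroAdj J U) I

end Groth.Agent.Lib.OverInj
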