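import Groth.Agent.Lib.H43CechHom
import Groth.Agent.Lib.SiteLES
import Groth.Agent.Lib.OverInj
import Groth.Agent.S6504
import Groth.Agent.S6525

universe u

open CategoryTheory Limits Opposite Simplicial
open FormalCoproduct Groth.Agent.Lib.H43FCYoneda Groth.Agent.Lib.H43CechHom

namespace Groth.Agent.Lib.H43CechShift

/-- Abstract dimension-shifting step. -/
lemma step {Am2 Am3 F0 I0 Q0 F1 I1 : Type*} [AddCommGroup Am2] [AddCommGroup Am3]
    [AddCommGroup F0] [AddCommGroup I0] [AddCommGroup Q0] [AddCommGroup F1] [AddCommGroup I1]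
    (a : Am2 →+ Am3) (e2 : Am2 →+ I0) (e3 : Am3 →+ Q0)
    (i0 : F0 →+ I0) (p0 : I0 →+ Q0) (i1 : F1 →+ I1)
    (dF : F0 →+ F1) (dI : I0 →+ I1)
    (ha : Function.Surjective a) (hcomm : ∀ x, p0 (e2 x) = e3 (a x)) (hd : ∀ x, dI (e2 x) = 0)
    (hex : ∀ y, p0 y = 0 → ∃ x, i0 x = y) (hi1 : Function.Injective i1)
    (hdi : ∀ x, i1 (dF x) = dI (i0 x))
    (ξ : F1) (η : I0) (hη : dI η = i1 ξ) (ζb : Am3) (hζ : e3 ζb = p0 η) :
    ∃ θ : F0, dF θ = ξ := by
  obtain ⟨ζ, rfl⟩ := ha ζb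
  obtain ⟨θ, hθ⟩ := hex (η - e2 ζ) (by rw [map_sub, hcomm, hζ, sub_self])
  refine ⟨θ, hi1 ?_⟩
  rw [hdi, hθ, map_sub, hd, sub_zero, hη]

section Maps
variable {D : Type u} [SmallCategory D] {JD : GrothendieckTopology D}
  (K : SimplicialObject (FormalCoproduct.{u} D))

/-- The map on Čech cochains induced by a morphism of sheaves. -/
noncomputable def cmap {G G' : Sheaf JD AddCommGrpCat.{u}} (φ : G ⟶ G') (q : ℕ) :
    ToType ((Hyper.cechCxSite K G.obj).X q) →+ ToType ((Hyper.cechCxSite K G'.obj).X q) :=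
  (((FormalCoproduct.cochainComplexFunctor K).map φ.hom).f q).hom

lemma comp_cmap {G G' : Sheaf JD AddCommGrpCat.{u}} (φ : G ⟶ G') (q : ℕ)
    (ζ : ToType ((Hyper.cechCxSite K G.obj).X q)) (l : (K _⦋q⦌).I) :
    comp G' K q (cmap K φ q ζ) l = φ.hom.app (op ((K _⦋q⦌).obj l)) (comp G K q ζ l) := by
  have h : ((FormalCoproduct.cochainComplexFunctor K).map φ.hom).f q ≫
      Pi.π (fun l : (K _⦋q⦌).I => G'.obj.obj (op ((K _⦋q⦌).obj l))) l =
      Pi.π (fun l : (K _⦋q⦌).I => G.obj.obj (op ((K _⦋q⦌).obj l))) l ≫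
        φ.hom.app (op ((K _⦋q⦌).obj l)) := by
    have h0 : ((FormalCoproduct.cochainComplexFunctor K).map φ.hom).f q =
        Limits.Pi.map (fun i : (K _⦋q⦌).I => φ.hom.app (op ((K _⦋q⦌).obj i))) := rfl
    rw [h0]
    exact Pi.map_π _ _
  exact ConcreteCategory.congr_hom h ζ

lemma cmap_d {G G' : Sheaf JD AddCommGrpCat.{u}} (φ : G ⟶ G') (q : ℕ)
    (ζ : ToType ((Hyper.cechCxSite K G.obj).X q)) :
    cmap K φ (q + 1) ((Hyper.cechCxSite K G.obj).d q (q + 1) ζ) =
      (Hyper.cechCxSite K G'.obj).d q (q + 1) (cmap K φ q ζ) := by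
  have h := ((FormalCoproduct.cochainComplexFunctor K).map φ.hom).comm q (q + 1)
  exact (ConcreteCategory.congr_hom h ζ).symm

variable {G₁ G₂ G₃ : Sheaf JD AddCommGrpCat.{u}} (f : G₁ ⟶ G₂) (g : G₂ ⟶ G₃)

lemma cmap_injective (h : ∀ V : D, Function.Injective (f.hom.app (op V))) (q : ℕ) :
    Function.Injective (cmap K f q) := by
  intro x y hxy
  apply comp_injective G₁ K q
  funext l
  apply h
  rw [← comp_cmap, ← comp_cmap, hxy]

lemma cmap_surjective (h : ∀ V : D, Function.Surjective (g.hom.app (op V))) (q : ℕ) :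
    Function.Surjective (cmap K g q) := by
  intro y
  choose t ht using fun l => h _ (comp G₃ K q y l)
  obtain ⟨x, hx⟩ := comp_surjective G₂ K q t
  refine ⟨x, ?_⟩
  apply comp_injective G₃ K q
  funext l
  rw [comp_cmap, hx, ht]

lemma cmap_exact (h : ∀ (V : D) (c : G₂.obj.obj (op V)), g.hom.app (op V) c = 0 →
    ∃ e : G₁.obj.obj (op V), f.hom.app (op V) e = c) (q : ℕ)
    (y : ToType ((Hyper.cechCxSite K G₂.obj).X q)) (hy : cmap K g q y = 0) :
    ∃ x, cmap K f q x = y := by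
  have h0 : ∀ l, g.hom.app (op ((K _⦋q⦌).obj l)) (comp G₂ K q y l) = 0 := by
    intro l
    rw [← comp_cmap, hy]
    exact map_zero _
  choose t ht using fun l => h _ (comp G₂ K q y l) (h0 l)
  obtain ⟨x, hx⟩ := comp_surjective G₁ K q t
  refine ⟨x, ?_⟩
  apply comp_injective G₂ K q
  funext l
  rw [comp_cmap, hx, ht]

lemma cmap_comp_zero (w : f ≫ g = 0) (q : ℕ) (x : ToType ((Hyper.cechCxSite K G₁.obj).X q)) :
    cmap K g q (cmap K f q x) = 0 := by
  apply comp_injective G₃ K q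
  funext l
  rw [comp_cmap, comp_cmap]
  have h1 := congrArg (fun t => t.hom.app (op ((K _⦋q⦌).obj l))) w
  have h2 := ConcreteCategory.congr_hom h1 (comp G₁ K q x l)
  refine h2.trans ?_
  exact (map_zero _).symm

end Maps

section Aug
variable {D : Type u} [SmallCategory D] {JD : GrothendieckTopology D}
  (K : SimplicialObject (FormalCoproduct.{u} D)) {T : D} (hT : IsTerminal T)

/-- The augmentation `G(T) → Č^0(K, G)`. -/
noncomputable def aug (G : Sheaf JD AddCommGrpCat.{u}) (τ : G.obj.obj (op T)) :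
    ToType ((Hyper.cechCxSite K G.obj).X 0) :=
  (comp_surjective G K 0 (fun i => G.obj.map (hT.from ((K _⦋0⦌).obj i)).op τ)).choose

lemma comp_aug (G : Sheaf JD AddCommGrpCat.{u}) (τ : G.obj.obj (op T)) (i : (K _⦋0⦌).I) :
    comp G K 0 (aug K hT G τ) i = G.obj.map (hT.from ((K _⦋0⦌).obj i)).op τ :=
  congrFun (comp_surjective G K 0
    (fun i => G.obj.map (hT.from ((K _⦋0⦌).obj i)).op τ)).choose_spec i

lemma aug_sub (G : Sheaf JD AddCommGrpCat.{u}) (τ τ' : G.obj.obj (op T)) :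
    aug K hT G (τ - τ') = aug K hT G τ - aug K hT G τ' := by
  apply comp_injective G K 0
  funext i
  have h : comp G K 0 (aug K hT G τ - aug K hT G τ') i =
      comp G K 0 (aug K hT G τ) i - comp G K 0 (aug K hT G τ') i := map_sub _ _ _
  rw [h, comp_aug, comp_aug, comp_aug, map_sub]

lemma d_aug (G : Sheaf JD AddCommGrpCat.{u}) (τ : G.obj.obj (op T)) :
    (Hyper.cechCxSite K G.obj).d 0 1 (aug K hT G τ) = 0 := by
  apply comp_injective G K 1
  rw [comp_d]
  funext l
  have h0 : comp G K 1 0 l = 0 := map_zero _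
  rw [h0, Fin.sum_univ_two]
  have key : ∀ j : Fin 2, pb G (K.δ j) (comp G K 0 (aug K hT G τ)) l =
      G.obj.map (hT.from ((K _⦋1⦌).obj l)).op τ := by
    intro j
    show G.obj.map ((K.δ j).φ l).op (comp G K 0 (aug K hT G τ) ((K.δ j).f l)) = _
    rw [comp_aug, ← ConcreteCategory.comp_apply, ← Functor.map_comp, ← op_comp]
    congr 3
    exact congrArg Quiver.Hom.op (hT.hom_ext _ _)
  simp only [Fin.val_zero, pow_zero, one_smul, Fin.val_one, pow_one, neg_smul, Pi.add_apply,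
    Pi.neg_apply]
  rw [key 0, key 1, add_neg_cancel]

lemma cmap_aug {G G' : Sheaf JD AddCommGrpCat.{u}} (φ : G ⟶ G') (τ : G.obj.obj (op T)) :
    cmap K φ 0 (aug K hT G τ) = aug K hT G' (φ.hom.app (op T) τ) := by
  apply comp_injective G' K 0
  funext i
  rw [comp_cmap, comp_aug, comp_aug]
  exact (ConcreteCategory.congr_hom (φ.hom.naturality (hT.from ((K _⦋0⦌).obj i)).op) τ)

lemma exists_aug_of_cocycle
    (h1 : Presheaf.IsLocallySurjective JD
      (terminal.from (FormalCoproduct.yoneda.obj (K.obj (op ⦋0⦌)))))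
    (h2 : Presheaf.IsLocallySurjective JD
      (prod.lift (FormalCoproduct.yoneda.map (K.δ (1 : Fin 2)))
        (FormalCoproduct.yoneda.map (K.δ (0 : Fin 2)))))
    (G : Sheaf JD AddCommGrpCat.{u}) (t : ToType ((Hyper.cechCxSite K G.obj).X 0))
    (ht : (Hyper.cechCxSite K G.obj).d 0 1 t = 0) :
    ∃ τ : G.obj.obj (op T), aug K hT G τ = t := by
  obtain ⟨σ, hσ⟩ := Groth.Agent.S6525.mm_exact JD K G h2 h1 t ht
  refine ⟨limit.π G.obj (op T) σ, ?_⟩
  apply comp_injective G K 0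
  funext i
  rw [comp_aug, ← hσ]
  have e := Groth.Agent.S6525.comp0_mm JD K G σ i
  refine Eq.trans ?_ e.symm
  exact ConcreteCategory.congr_hom (limit.w G.obj (hT.from ((K _⦋0⦌).obj i)).op) σ

end Aug

section Main
variable {C : Type u} [SmallCategory C] [HasPullbacks C] (J : GrothendieckTopology C) (X : C)
  (K : SimplicialObject (FormalCoproduct.{u} (Over X)))
  [∀ (n : ℕ) (F : (SimplexCategory.Truncated n)ᵒᵖ ⥤ FormalCoproduct.{u} (Over X)),
      (SimplexCategory.Truncated.inclusion n).op.HasRightKanExtension F]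

/-- Acyclicity on all objects. -/
def Acyc (F : Sheaf J AddCommGrpCat.{u}) : Prop :=
  ∀ (U : C) (q : ℕ), Subsingleton (CohSite.HU F (q + 1) U)

/-- restriction of a morphism of sheaves to `Over X` -/
noncomputable abbrev rs {F G : Sheaf J AddCommGrpCat.{u}} (φ : F ⟶ G) : F.over X ⟶ G.over X :=
  (J.overPullback AddCommGrpCat.{u} X).map φ

section Shift
variable {S : ShortComplex (Sheaf J AddCommGrpCat.{u})} (hS : S.ShortExact)

include hS in
lemma rs_inj (V : Over X) : Function.Injective ((rs J X S.f).hom.app (op V)) := by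
  have := hS.mono_f
  exact Groth.Agent.Lib.SiteCoh.injective_app_of_mono S.f V.left

include hS in
lemma rs_exact (V : Over X) (c : (S.X₂.over X).obj.obj (op V))
    (hc : (rs J X S.g).hom.app (op V) c = 0) :
    ∃ e : (S.X₁.over X).obj.obj (op V), (rs J X S.f).hom.app (op V) e = c :=
  Groth.Agent.Lib.SiteGlue.exists_of_app_g_eq_zero hS V.left c hc

lemma rs_zero : rs J X S.f ≫ rs J X S.g = 0 := by
  rw [← Functor.map_comp, S.zero, Functor.map_zero]

variable [Injective S.X₂]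

/-- the common first part: a cocycle of `F` maps to a coboundary `dη` in `I`, and the image of
`η` in `Q` is a cocycle. -/
lemma shift_common (_hS : S.ShortExact) (hK : Hyper.IsHypercovering J X K) (q : ℕ)
    (ξ : ToType ((Hyper.cechCxSite K (S.X₁.over X).obj).X (q + 1)))
    (hξ : (Hyper.cechCxSite K (S.X₁.over X).obj).d (q + 1) (q + 1 + 1) ξ = 0) :
    ∃ η : ToType ((Hyper.cechCxSite K (S.X₂.over X).obj).X q),
      (Hyper.cechCxSite K (S.X₂.over X).obj).d q (q + 1) η = cmap K (rs J X S.f) (q + 1) ξ ∧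
      (Hyper.cechCxSite K (S.X₃.over X).obj).d q (q + 1) (cmap K (rs J X S.g) q η) = 0 := by
  have hSite := Groth.Agent.S6504.result J X K hK
  have : Injective (S.X₂.over X) := Groth.Agent.Lib.OverInj.injective_over J X _
  have hI := isZero_cech_homology_succ (S.X₂.over X) K hSite q
  rw [← HomologicalComplex.exactAt_iff_isZero_homology,
    HomologicalComplex.exactAt_iff' _ q (q + 1) (q + 1 + 1) (by simp) (by simp),
    ShortComplex.ab_exact_iff] at hI
  obtain ⟨η, hη⟩ := hI (cmap K (rs J X S.f) (q + 1) ξ) (by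
    refine (cmap_d K (rs J X S.f) (q + 1) ξ).symm.trans ?_
    rw [hξ]
    exact map_zero _)
  refine ⟨η, hη, ?_⟩
  refine (cmap_d K (rs J X S.g) q η).symm.trans ?_
  have h2 : (Hyper.cechCxSite K (S.X₂.over X).obj).d q (q + 1) η =
      cmap K (rs J X S.f) (q + 1) ξ := hη
  rw [h2]
  exact cmap_comp_zero K _ _ (rs_zero J X) (q + 1) ξ

include hS in
lemma shift_zero (hK : Hyper.IsHypercovering J X K)
    (hsurj : Function.Surjective (S.g.hom.app (op X)))
    (ξ : ToType ((Hyper.cechCxSite K (S.X₁.over X).obj).X (0 + 1)))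
    (hξ : (Hyper.cechCxSite K (S.X₁.over X).obj).d (0 + 1) (0 + 1 + 1) ξ = 0) :
    ∃ θ : ToType ((Hyper.cechCxSite K (S.X₁.over X).obj).X 0),
      (Hyper.cechCxSite K (S.X₁.over X).obj).d 0 (0 + 1) θ = ξ := by
  have hSite := Groth.Agent.S6504.result J X K hK
  obtain ⟨η, hη, hηQ⟩ := shift_common J X K hS hK 0 ξ hξ
  obtain ⟨τb, hτb⟩ := exists_aug_of_cocycle K (Over.mkIdTerminal (X := X)) hSite.1 hSite.2.1
    (S.X₃.over X) _ hηQ
  let T : Over X := Over.mk (𝟙 X)
  let hT : IsTerminal T := Over.mkIdTerminal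
  let augI : (S.X₂.over X).obj.obj (op T) →+ ToType ((Hyper.cechCxSite K (S.X₂.over X).obj).X 0) :=
    AddMonoidHom.ofMapSub (aug K hT (S.X₂.over X)) (aug_sub K hT _)
  let augQ : (S.X₃.over X).obj.obj (op T) →+ ToType ((Hyper.cechCxSite K (S.X₃.over X).obj).X 0) :=
    AddMonoidHom.ofMapSub (aug K hT (S.X₃.over X)) (aug_sub K hT _)
  exact step ((rs J X S.g).hom.app (op T)).hom augI augQ
    (cmap K (rs J X S.f) 0) (cmap K (rs J X S.g) 0) (cmap K (rs J X S.f) (0 + 1))
    ((Hyper.cechCxSite K (S.X₁.over X).obj).d 0 (0 + 1)).hom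
    ((Hyper.cechCxSite K (S.X₂.over X).obj).d 0 (0 + 1)).hom
    hsurj
    (fun x => cmap_aug K hT (rs J X S.g) x)
    (fun x => d_aug K hT _ x)
    (cmap_exact K _ _ (rs_exact J X hS) 0)
    (cmap_injective K _ (rs_inj J X hS) (0 + 1))
    (fun x => cmap_d K (rs J X S.f) 0 x)
    ξ η hη τb hτb

include hS in
lemma shift_succ (hK : Hyper.IsHypercovering J X K)
    (hsurj : ∀ V : C, Function.Surjective (S.g.hom.app (op V))) (q : ℕ)
    (hQ : ∀ ηb : ToType ((Hyper.cechCxSite K (S.X₃.over X).obj).X (q + 1)),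
      (Hyper.cechCxSite K (S.X₃.over X).obj).d (q + 1) (q + 1 + 1) ηb = 0 →
      ∃ ζb : ToType ((Hyper.cechCxSite K (S.X₃.over X).obj).X q),
        (Hyper.cechCxSite K (S.X₃.over X).obj).d q (q + 1) ζb = ηb)
    (ξ : ToType ((Hyper.cechCxSite K (S.X₁.over X).obj).X (q + 1 + 1)))
    (hξ : (Hyper.cechCxSite K (S.X₁.over X).obj).d (q + 1 + 1) (q + 1 + 1 + 1) ξ = 0) :
    ∃ θ : ToType ((Hyper.cechCxSite K (S.X₁.over X).obj).X (q + 1)),
      (Hyper.cechCxSite K (S.X₁.over X).obj).d (q + 1) (q + 1 + 1) θ = ξ := by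
  obtain ⟨η, hη, hηQ⟩ := shift_common J X K hS hK (q + 1) ξ hξ
  obtain ⟨ζb, hζb⟩ := hQ _ hηQ
  exact step (cmap K (rs J X S.g) q)
    ((Hyper.cechCxSite K (S.X₂.over X).obj).d q (q + 1)).hom
    ((Hyper.cechCxSite K (S.X₃.over X).obj).d q (q + 1)).hom
    (cmap K (rs J X S.f) (q + 1)) (cmap K (rs J X S.g) (q + 1))
    (cmap K (rs J X S.f) (q + 1 + 1))
    ((Hyper.cechCxSite K (S.X₁.over X).obj).d (q + 1) (q + 1 + 1)).hom
    ((Hyper.cechCxSite K (S.X₂.over X).obj).d (q + 1) (q + 1 + 1)).hom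
    (cmap_surjective K _ (fun V => hsurj V.left) q)
    (fun x => cmap_d K (rs J X S.g) q x)
    (fun x => ConcreteCategory.congr_hom
      ((Hyper.cechCxSite K (S.X₂.over X).obj).d_comp_d q (q + 1) (q + 1 + 1)) x)
    (cmap_exact K _ _ (rs_exact J X hS) (q + 1))
    (cmap_injective K _ (rs_inj J X hS) (q + 1 + 1))
    (fun x => cmap_d K (rs J X S.f) (q + 1) x)
    ξ η hη ζb hζb

end Shift

open Groth.Agent.Lib.SiteLES in
theorem claim (hK : Hyper.IsHypercovering J X K) (p : ℕ) :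
    ∀ (F : Sheaf J AddCommGrpCat.{u}), Acyc J F →
      ∀ ξ : ToType ((Hyper.cechCxSite K (F.over X).obj).X (p + 1)),
        (Hyper.cechCxSite K (F.over X).obj).d (p + 1) (p + 1 + 1) ξ = 0 →
        ∃ θ : ToType ((Hyper.cechCxSite K (F.over X).obj).X p),
          (Hyper.cechCxSite K (F.over X).obj).d p (p + 1) θ = ξ := by
  induction p with
  | zero =>
    intro F hF ξ hξ
    exact shift_zero J X K (injSC_shortExact F) hK
      (surjective_of_subsingleton_HU_one (injSC_shortExact F) X (hF X 0)) ξ hξ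
  | succ p ih =>
    intro F hF ξ hξ
    have hQ : Acyc J (injSC F).X₃ := fun U q =>
      subsingleton_HU_succ_of_succ_succ (injSC_shortExact F) U q (hF U (q + 1))
    exact shift_succ J X K (injSC_shortExact F) hK
      (fun V => surjective_of_subsingleton_HU_one (injSC_shortExact F) V (hF V 0)) p
      (ih _ hQ) ξ hξ

end Main

end Groth.Agent.Lib.H43CechShift
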