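import Groth.Agent.Lib.H43SheafHomFree
import Groth.Agent.Lib.ModSiteHomRestr
import Groth.Agent.Lib.H4KoszulPn
import Groth.Agent.Lib.ModShriekRestr

/-!
# `ℋom(A, -)` is exact for `A` finite locally free on a scheme (helper43)

* `epi_of_forall_restr` : a morphism of `O_X`-modules whose restrictions to an open cover (in the site-theoretic
  sense `ModSite.restr`) are epimorphisms is an epimorphism.
* `restrIsoFree` : `A|_U ≅ O_U^n` (scheme-theoretic) gives `ModSite.restr A ≅ ∐ unit` (site-theoretic).
* `preservesEpimorphisms_sheafHom` : `ModSite.sheafHom A` preserves epimorphisms for `A` finite locally free.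
* `preservesFiniteColimits_sheafHom`.
-/

set_option autoImplicit false
universe u
open CategoryTheory Opposite Limits AlgebraicGeometry

namespace Groth.Agent.Lib.H43SheafHomLocFree

open Groth.Agent.Lib.ModSiteTensor Groth.Agent.Lib.ModSiteFlat Groth.Agent.Lib.ModSiteHomRestr
  Groth.Agent.Lib.ModShriek

variable {X : Scheme.{u}}

theorem isZero_of_forall_restr (M : X.Modules) {ι : Type*} (U : ι → X.Opens)
    (hU : ⨆ i, U i = ⊤) (h : ∀ i, IsZero ((ModSite.restr X.sheaf (U i)).obj M)) : IsZero M := by
  refine Groth.Agent.Lib.H4KoszulPn.isZero_of_forall_restrict M U hU fun i => ?_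
  refine IsZero.of_iso ?_ ((Scheme.Modules.overFunctorEquiv (U i)).app M).symm
  exact Functor.map_isZero (Scheme.Modules.overEquiv (U i)).functor (h i)

theorem epi_of_forall_restr {M N : X.Modules} (f : M ⟶ N) {ι : Type*} (U : ι → X.Opens)
    (hU : ⨆ i, U i = ⊤) (h : ∀ i, Epi ((ModSite.restr X.sheaf (U i)).map f)) : Epi f := by
  refine Preadditive.epi_of_isZero_cokernel f ?_
  refine isZero_of_forall_restr _ U hU fun i => ?_
  have := h i
  haveI : (ModSite.restr X.sheaf (U i)).Additive :=
    inferInstanceAs (SheafOfModules.overFunctor.{u} (ModSite.ringSh X.sheaf) (U i)).Additive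
  haveI : PreservesFiniteColimits (ModSite.restr X.sheaf (U i)) :=
    inferInstanceAs (PreservesFiniteColimits (SheafOfModules.overFunctor.{u} (ModSite.ringSh X.sheaf) (U i)))
  exact IsZero.of_iso (isZero_cokernel_of_epi ((ModSite.restr X.sheaf (U i)).map f))
    (PreservesCokernel.iso (ModSite.restr X.sheaf (U i)) f)

/-- a scheme-theoretic trivialisation gives a site-theoretic one -/
noncomputable def restrIsoFree (A : X.Modules) (U : X.Opens) (n : ℕ)
    (e : A.restrict U.ι ≅ FlatMod.freeMod (↑U) n) :
    (ModSite.restr X.sheaf U).obj A ≅ ∐ fun _ : Fin n => ModSite.unit (X.sheaf.over U) :=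
  (Scheme.Modules.overEquiv U).unitIso.app _ ≪≫
    (Scheme.Modules.overEquiv U).inverse.mapIso
      ((Scheme.Modules.overFunctorEquiv U).app A ≪≫ e) ≪≫
    PreservesCoproduct.iso (Scheme.Modules.overEquiv U).inverse _ ≪≫
    Sigma.mapIso (fun _ => TopologicalSpace.Opens.sheafOfModulesEquivOverInverseUnit U X.ringCatSheaf)

/-- **`ℋom(A, -)` preserves epimorphisms for `A` finite locally free.** -/
theorem preservesEpimorphisms_sheafHom (A : X.Modules) (hA : FlatMod.IsFinLocFree A)
    [ModSite.HasSheafHom (O := X.sheaf) A] :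
    (ModSite.sheafHom (O := X.sheaf) A).PreservesEpimorphisms := by
  constructor
  intro B B' g hg
  choose U n hxU e using hA
  refine epi_of_forall_restr _ U ?_ fun x => ?_
  · rw [eq_top_iff]
    intro x _
    exact TopologicalSpace.Opens.mem_iSup.2 ⟨x, hxU x⟩
  · have : ModSite.HasSheafHom ((ModSite.restr X.sheaf (U x)).obj A) := hasSheafHom _ _
    have h1 := H43SheafHomFree.preservesEpimorphisms_sheafHom_of_iso_free _ (n x)
      (restrIsoFree A (U x) (n x) (e x).some)
    have : PreservesFiniteColimits (ModSite.restr X.sheaf (U x)) :=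
      inferInstanceAs (PreservesFiniteColimits
        (SheafOfModules.overFunctor.{u} (ModSite.ringSh X.sheaf) (U x)))
    have h2 : Epi ((ModSite.restr X.sheaf (U x)).map g) := inferInstance
    have h3 : Epi ((ModSite.restr X.sheaf (U x) ⋙
        ModSite.sheafHom ((ModSite.restr X.sheaf (U x)).obj A)).map g) := by
      rw [Functor.comp_map]; infer_instance
    let φ := restrSheafHomIso X.sheaf (U x) A
    have h4 : (ModSite.sheafHom (O := X.sheaf) A ⋙ ModSite.restr X.sheaf (U x)).map g =
        φ.hom.app B ≫ (ModSite.restr X.sheaf (U x) ⋙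
          ModSite.sheafHom ((ModSite.restr X.sheaf (U x)).obj A)).map g ≫ φ.inv.app B' := by
      rw [← φ.hom.naturality_assoc, Iso.hom_inv_id_app, Category.comp_id]
    change Epi ((ModSite.sheafHom (O := X.sheaf) A ⋙ ModSite.restr X.sheaf (U x)).map g)
    rw [h4]
    have h5 : Epi ((ModSite.restr X.sheaf (U x) ⋙
          ModSite.sheafHom ((ModSite.restr X.sheaf (U x)).obj A)).map g ≫ φ.inv.app B') :=
      epi_comp _ _
    exact epi_comp _ _

/-- **`ℋom(A, -)` is right exact for `A` finite locally free.** -/
theorem preservesFiniteColimits_sheafHom (A : X.Modules) (hA : FlatMod.IsFinLocFree A)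
    [ModSite.HasSheafHom (O := X.sheaf) A] :
    PreservesFiniteColimits (ModSite.sheafHom (O := X.sheaf) A) := by
  have := preservesEpimorphisms_sheafHom A hA
  have : PreservesLimitsOfSize.{0, 0} (ModSite.sheafHom (O := X.sheaf) A) :=
    (ModSite.sheafHomAdj (O := X.sheaf) A).rightAdjoint_preservesLimits
  have : PreservesFiniteLimits (ModSite.sheafHom (O := X.sheaf) A) :=
    PreservesLimitsOfSize.preservesFiniteLimits _
  have : (ModSite.sheafHom (O := X.sheaf) A).Additive :=
    H43SheafHomFree.additive_sheafHom (O := X.sheaf) A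
  exact H43AdjEpi.preservesFiniteColimits_of_preservesEpimorphisms _

end Groth.Agent.Lib.H43SheafHomLocFree
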