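/-
helper66: associativity of the tensor product on a ringed site, as an isomorphism of trifunctors, and of the
total tensor complexes; `Tot(K ⊗ L)` is K-flat if `K` and `L` are (S9055).
-/
import Groth.Agent.Lib.ModSiteKFlatBdd66
import Groth.Agent.Lib.MonLocAssocNat66
import Groth.Agent.Lib.ModSiteProjNat
import Mathlib.Algebra.Homology.BifunctorAssociator
import Groth.Agent.Lib.ModSiteFlat
import Groth.Agent.Lib.ModSiteFlatColim

universe u
open CategoryTheory Limits HomologicalComplex MonoidalCategory

namespace Groth.Agent.Lib.ModSiteTensorAssoc66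

open Groth.Agent.Lib.ModSiteTensor Groth.Agent.Lib.MonLoc Groth.Agent.Lib.ModSiteKFlatBdd66

variable {C : Type u} [SmallCategory C] {J : GrothendieckTopology C} (O : Sheaf J CommRingCat.{u})

lemma tensorBi_obj_map_eq (M : ModSite.Mod O) {N N' : ModSite.Mod O} (f : N ⟶ N') :
    ((ModSite.tensorBi O).obj M).map f = (locData O).tensMap (𝟙 M) f := by
  change (sh O).map ((fg O).obj M ◁ (fg O).map f) = _
  unfold LocData.tensMap
  rw [CategoryTheory.Functor.map_id, id_tensorHom]
  rfl

lemma tensorBi_map_app_eq {M M' : ModSite.Mod O} (g : M ⟶ M') (N : ModSite.Mod O) :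
    ((ModSite.tensorBi O).map g).app N = (locData O).tensMap g (𝟙 N) := by
  change (sh O).map ((fg O).map g ▷ (fg O).obj N) = _
  unfold LocData.tensMap
  rw [CategoryTheory.Functor.map_id, tensorHom_id]
  rfl

/-- the associator of the tensor bifunctor, as an isomorphism of trifunctors -/
noncomputable def assocTri :
    bifunctorComp₁₂ (ModSite.tensorBi O) (ModSite.tensorBi O) ≅
      bifunctorComp₂₃ (ModSite.tensorBi O) (ModSite.tensorBi O) :=
  NatIso.ofComponents (fun M => NatIso.ofComponents (fun N => NatIso.ofComponents
    (fun K => (locData O).associator M N K) (by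
      intro K K' h
      have := (locData O).associator_hom_naturality (𝟙 M) (𝟙 N) h
      rw [LocData.tensMap_id] at this
      change ((ModSite.tensorBi O).obj (((ModSite.tensorBi O).obj M).obj N)).map h ≫
        ((locData O).associator M N K').hom = ((locData O).associator M N K).hom ≫
          ((ModSite.tensorBi O).obj M).map (((ModSite.tensorBi O).obj N).map h)
      rw [tensorBi_obj_map_eq, tensorBi_obj_map_eq, tensorBi_obj_map_eq]
      exact this)) (by
    intro N N' g
    refine NatTrans.ext (funext fun K => ?_)
    have := (locData O).associator_hom_naturality (𝟙 M) g (𝟙 K)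
    change ((ModSite.tensorBi O).map (((ModSite.tensorBi O).obj M).map g)).app K ≫
        ((locData O).associator M N' K).hom = ((locData O).associator M N K).hom ≫
          ((ModSite.tensorBi O).obj M).map (((ModSite.tensorBi O).map g).app K)
    rw [tensorBi_map_app_eq, tensorBi_obj_map_eq, tensorBi_obj_map_eq, tensorBi_map_app_eq]
    exact this)) (by
  intro M M' f
  refine NatTrans.ext (funext fun N => NatTrans.ext (funext fun K => ?_))
  have := (locData O).associator_hom_naturality f (𝟙 N) (𝟙 K)
  rw [LocData.tensMap_id] at this
  change ((ModSite.tensorBi O).map (((ModSite.tensorBi O).map f).app N)).app K ≫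
      ((locData O).associator M' N K).hom = ((locData O).associator M N K).hom ≫
        ((ModSite.tensorBi O).map f).app (((ModSite.tensorBi O).obj N).obj K)
  rw [tensorBi_map_app_eq, tensorBi_map_app_eq, tensorBi_map_app_eq]
  exact this)

variable {O}

instance preservesColimitsOfShape_discrete_obj (X : ModSite.Mod O) (I : Type) :
    PreservesColimitsOfShape (Discrete I) ((ModSite.tensorBi O).obj X) := by
  have : PreservesColimitsOfSize.{0, 0} ((ModSite.tensorBi O).obj X) :=
    preservesColimitsOfSize_shrink.{0, u, 0, u} _
  infer_instance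

instance preservesColimitsOfShape_discrete_flip_obj (X : ModSite.Mod O) (I : Type) :
    PreservesColimitsOfShape (Discrete I) ((ModSite.tensorBi O).flip.obj X) :=
  preservesColimitsOfShape_of_natIso (Groth.Agent.Lib.ModSiteFlat.swapIso O X)

/-- associativity of the total tensor complex -/
noncomputable def tensAssoc (F K L : Cx O) : T (T F K) L ≅ T F (T K L) :=
  HomologicalComplex.mapBifunctorAssociator (assocTri O) F K L (ComplexShape.up ℤ)
    (ComplexShape.up ℤ) (ComplexShape.up ℤ)

/-- `Tot(K ⊗ L)` is K-flat if `K` and `L` are -/
theorem isKFlat_tensor (K L : Cx O) (hK : ModSite.IsKFlat K) (hL : ModSite.IsKFlat L) :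
    ModSite.IsKFlat (T K L) := by
  intro F hF i
  have h1 := hL (T F K) (hK F hF) i
  exact h1.of_iso ((HomologicalComplex.homologyFunctor _ _ i).mapIso (tensAssoc F K L)).symm

end Groth.Agent.Lib.ModSiteTensorAssoc66
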