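import Mathlib.Algebra.Homology.BifunctorFlip
import Mathlib.Algebra.Homology.Monoidal
import Mathlib.CategoryTheory.Monoidal.Braided.Basic

/-!
# Symmetry of the tensor product of complexes (helper35)

* `mapBifunctorNatIso e K₁ K₂ c`: a natural isomorphism `e : F ≅ F'` of bifunctors induces an
  isomorphism `mapBifunctor K₁ K₂ F c ≅ mapBifunctor K₁ K₂ F' c`.
* `tensorObjSymmIso K L : tensorObj K L ≅ tensorObj L K` for cochain complexes in a braided
  monoidal preadditive category (only existence of an isomorphism of complexes is the point).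
-/

set_option autoImplicit false

open CategoryTheory Limits HomologicalComplex

namespace Groth.Agent.Lib.TensorSymm35

section NatIso

variable {C₁ C₂ D : Type*} [Category C₁] [Category C₂] [Category D]
  {I₁ I₂ J : Type*} {c₁ : ComplexShape I₁} {c₂ : ComplexShape I₂}
  [HasZeroMorphisms C₁] [HasZeroMorphisms C₂] [Preadditive D]
  {F F' : C₁ ⥤ C₂ ⥤ D} [F.PreservesZeroMorphisms] [∀ X₁, (F.obj X₁).PreservesZeroMorphisms]
  [F'.PreservesZeroMorphisms] [∀ X₁, (F'.obj X₁).PreservesZeroMorphisms]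

/-- The morphism of bicomplexes induced by a natural transformation of bifunctors. -/
def bicomplexMap (τ : F ⟶ F') (K₁ : HomologicalComplex C₁ c₁) (K₂ : HomologicalComplex C₂ c₂) :
    ((F.mapBifunctorHomologicalComplex c₁ c₂).obj K₁).obj K₂ ⟶
      ((F'.mapBifunctorHomologicalComplex c₁ c₂).obj K₁).obj K₂ :=
  HomologicalComplex₂.homMk (fun ⟨i₁, i₂⟩ => (τ.app (K₁.X i₁)).app (K₂.X i₂))
    (fun i₁ i₁' i₂ _ => by
      show (τ.app (K₁.X i₁)).app (K₂.X i₂) ≫ (F'.map (K₁.d i₁ i₁')).app (K₂.X i₂) =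
        (F.map (K₁.d i₁ i₁')).app (K₂.X i₂) ≫ (τ.app (K₁.X i₁')).app (K₂.X i₂)
      rw [← NatTrans.comp_app, ← NatTrans.comp_app, τ.naturality])
    (fun i₁ i₂ i₂' _ => by
      show (τ.app (K₁.X i₁)).app (K₂.X i₂) ≫ (F'.obj (K₁.X i₁)).map (K₂.d i₂ i₂') =
        (F.obj (K₁.X i₁)).map (K₂.d i₂ i₂') ≫ (τ.app (K₁.X i₁)).app (K₂.X i₂')
      rw [NatTrans.naturality])

lemma bicomplexMap_id (K₁ : HomologicalComplex C₁ c₁) (K₂ : HomologicalComplex C₂ c₂) :
    bicomplexMap (𝟙 F) K₁ K₂ = 𝟙 _ := by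
  ext i₁ i₂
  simp [bicomplexMap]
  rfl

lemma bicomplexMap_comp {F'' : C₁ ⥤ C₂ ⥤ D} [F''.PreservesZeroMorphisms]
    [∀ X₁, (F''.obj X₁).PreservesZeroMorphisms] (τ : F ⟶ F') (τ' : F' ⟶ F'')
    (K₁ : HomologicalComplex C₁ c₁) (K₂ : HomologicalComplex C₂ c₂) :
    bicomplexMap (τ ≫ τ') K₁ K₂ = bicomplexMap τ K₁ K₂ ≫ bicomplexMap τ' K₁ K₂ := by
  ext i₁ i₂
  simp [bicomplexMap]
  rfl

/-- The isomorphism of bicomplexes induced by a natural isomorphism of bifunctors. -/
def bicomplexIso (e : F ≅ F') (K₁ : HomologicalComplex C₁ c₁) (K₂ : HomologicalComplex C₂ c₂) :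
    ((F.mapBifunctorHomologicalComplex c₁ c₂).obj K₁).obj K₂ ≅
      ((F'.mapBifunctorHomologicalComplex c₁ c₂).obj K₁).obj K₂ where
  hom := bicomplexMap e.hom K₁ K₂
  inv := bicomplexMap e.inv K₁ K₂
  hom_inv_id := by rw [← bicomplexMap_comp, e.hom_inv_id, bicomplexMap_id]
  inv_hom_id := by rw [← bicomplexMap_comp, e.inv_hom_id, bicomplexMap_id]

variable (c : ComplexShape J) [TotalComplexShape c₁ c₂ c] [DecidableEq J]

/-- A natural isomorphism of bifunctors induces an isomorphism on `mapBifunctor`. -/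
noncomputable def mapBifunctorNatIso (e : F ≅ F') (K₁ : HomologicalComplex C₁ c₁)
    (K₂ : HomologicalComplex C₂ c₂) [HasMapBifunctor K₁ K₂ F c] [HasMapBifunctor K₁ K₂ F' c] :
    mapBifunctor K₁ K₂ F c ≅ mapBifunctor K₁ K₂ F' c :=
  HomologicalComplex₂.total.mapIso (bicomplexIso e K₁ K₂) c

end NatIso

section Symm

open MonoidalCategory

variable {C : Type*} [Category C] [MonoidalCategory C] [BraidedCategory C] [Preadditive C]
  [HasZeroObject C]
  [(curriedTensor C).Additive] [∀ (X₁ : C), ((curriedTensor C).obj X₁).Additive]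

/-- The braiding as a natural isomorphism `curriedTensor C ≅ (curriedTensor C).flip`. -/
def curriedBraiding : curriedTensor C ≅ (curriedTensor C).flip :=
  NatIso.ofComponents (fun X => NatIso.ofComponents (fun Y => β_ X Y) (by
    intro Y Y' f
    dsimp
    exact BraidedCategory.braiding_naturality_right X f)) (by
    intro X X' f
    ext Y
    dsimp
    exact BraidedCategory.braiding_naturality_left f Y)

variable {I : Type*} [AddCommMonoid I] {c : ComplexShape I} [c.TensorSigns] [DecidableEq I]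
  [TotalComplexShapeSymmetry c c c]

/-- `K ⊗ L ≅ L ⊗ K` for homological complexes in a braided category. -/
noncomputable def tensorObjSymmIso (K L : HomologicalComplex C c) [HasTensor K L] [HasTensor L K]
    [HasMapBifunctor K L (curriedTensor C).flip c] :
    tensorObj K L ≅ tensorObj L K :=
  mapBifunctorNatIso c curriedBraiding K L ≪≫ mapBifunctorFlipIso L K (curriedTensor C) c

end Symm

end Groth.Agent.Lib.TensorSymm35
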