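/-
helper66: symmetry of the tensor product on a ringed site: `tensorBi O ≅ (tensorBi O).flip` and
`Tot(F ⊗ K) ≅ Tot(K ⊗ F)` for complexes.
-/
import Groth.Prelude.Def_KFlatSite
import Groth.Agent.Lib.ModSiteFlat
import Groth.Agent.Lib.TensorSymm35

universe u
open CategoryTheory Limits MonoidalCategory HomologicalComplex

namespace Groth.Agent.Lib.ModSiteTensorSymm66

open Groth.Agent.Lib.ModSiteTensor

variable {C : Type u} [SmallCategory C] {J : GrothendieckTopology C} (O : Sheaf J CommRingCat.{u})

/-- the braiding of the tensor bifunctor -/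
noncomputable def braidBi : ModSite.tensorBi O ≅ (ModSite.tensorBi O).flip :=
  NatIso.ofComponents (fun F => NatIso.ofComponents
    (fun G => (sh O).mapIso (β_ ((fg O).obj F) ((fg O).obj G))) (by
      intro G G' g
      change (sh O).map (((fg O).obj F) ◁ (fg O).map g) ≫ (sh O).map (β_ _ _).hom =
        (sh O).map (β_ _ _).hom ≫ (sh O).map ((fg O).map g ▷ ((fg O).obj F))
      rw [← Functor.map_comp, ← Functor.map_comp, BraidedCategory.braiding_naturality_right])) (by
    intro F F' f
    refine NatTrans.ext (funext fun G => ?_)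
    change (sh O).map ((fg O).map f ▷ ((fg O).obj G)) ≫ (sh O).map (β_ _ _).hom =
      (sh O).map (β_ _ _).hom ≫ (sh O).map (((fg O).obj G) ◁ (fg O).map f)
    rw [← Functor.map_comp, ← Functor.map_comp, BraidedCategory.braiding_naturality_left])

end Groth.Agent.Lib.ModSiteTensorSymm66
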