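import Groth.Agent.Lib.H43SheafHomFree
import Groth.Agent.Lib.ModSiteTensorAssoc66
import Groth.Agent.Lib.ModSiteTensorSymm66
import Groth.Agent.Lib.ModSiteHom

/-!
# Internal hom and twisting by invertible modules on a ringed site (helper43)

For `L, L'` with `e : L ⊗ L' ≅ O`:
* `twistEquiv e : Mod O ≌ Mod O`, functor `- ⊗ L`, inverse `- ⊗ L'`;
* `sheafHomInvIso e : ℋom(L, -) ≅ - ⊗ L'`;
* `sheafHomTwistIso F e : ℋom(F, -) ⋙ (- ⊗ L) ≅ (- ⊗ L) ⋙ ℋom(F, -)`, i.e. `ℋom(F, G) ⊗ L ≅ ℋom(F, G ⊗ L)`.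
-/

set_option autoImplicit false
universe u
open CategoryTheory Opposite Limits

namespace Groth.Agent.Lib.H43SheafHomTwist

open Groth.Agent.Lib.ModSiteTensor Groth.Agent.Lib.ModSiteFlat Groth.Agent.Lib.H43SheafHomFree
  Groth.Agent.Lib.ModSiteTensorAssoc66 Groth.Agent.Lib.ModSiteTensorSymm66

variable {C : Type u} [SmallCategory C] {J : GrothendieckTopology C} (O : Sheaf J CommRingCat.{u})

/-- `(P ⊗ M) ⊗ N ≅ P ⊗ (M ⊗ N)`, naturally in `P` -/
noncomputable def flipAssoc (M N : ModSite.Mod O) :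
    (ModSite.tensorBi O).flip.obj M ⋙ (ModSite.tensorBi O).flip.obj N ≅
      (ModSite.tensorBi O).flip.obj (((ModSite.tensorBi O).obj M).obj N) :=
  NatIso.ofComponents (fun P => (((assocTri O).app P).app M).app N) (by
    intro P P' f
    have h := congr_app (congr_app ((assocTri O).hom.naturality f) M) N
    exact h)

/-- `(P ⊗ M) ⊗ N ≅ (P ⊗ N) ⊗ M`, naturally in `P` -/
noncomputable def flipComm (M N : ModSite.Mod O) :
    (ModSite.tensorBi O).flip.obj M ⋙ (ModSite.tensorBi O).flip.obj N ≅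
      (ModSite.tensorBi O).flip.obj N ⋙ (ModSite.tensorBi O).flip.obj M :=
  flipAssoc O M N ≪≫ (ModSite.tensorBi O).flip.mapIso (((braidBi O).app M).app N) ≪≫
    (flipAssoc O N M).symm

variable {O}

/-- `(- ⊗ L) ⋙ (- ⊗ L') ≅ id` for `L ⊗ L' ≅ O` -/
noncomputable def flipInv {L L' : ModSite.Mod O}
    (e : ((ModSite.tensorBi O).obj L).obj L' ≅ ModSite.unit O) :
    (ModSite.tensorBi O).flip.obj L ⋙ (ModSite.tensorBi O).flip.obj L' ≅ 𝟭 (ModSite.Mod O) :=
  flipAssoc O L L' ≪≫ (ModSite.tensorBi O).flip.mapIso e ≪≫ tensUnitIso O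

/-- the equivalence `- ⊗ L` with inverse `- ⊗ L'` -/
noncomputable def twistEquiv {L L' : ModSite.Mod O}
    (e : ((ModSite.tensorBi O).obj L).obj L' ≅ ModSite.unit O) :
    ModSite.Mod O ≌ ModSite.Mod O :=
  CategoryTheory.Equivalence.mk ((ModSite.tensorBi O).flip.obj L) ((ModSite.tensorBi O).flip.obj L')
    (flipInv e).symm (flipComm O L' L ≪≫ flipInv e)

/-- `ℋom(L, -) ≅ - ⊗ L'` for `L ⊗ L' ≅ O` -/
noncomputable def sheafHomInvIso {L L' : ModSite.Mod O}
    (e : ((ModSite.tensorBi O).obj L).obj L' ≅ ModSite.unit O) [ModSite.HasSheafHom L] :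
    ModSite.sheafHom L ≅ (ModSite.tensorBi O).flip.obj L' :=
  (ModSite.sheafHomAdj L).rightAdjointUniq (twistEquiv e).toAdjunction

/-- `ℋom(F, G) ⊗ L ≅ ℋom(F, G ⊗ L)` for `L` invertible, naturally in `G` -/
noncomputable def sheafHomTwistIso (F : ModSite.Mod O) [ModSite.HasSheafHom F] {L L' : ModSite.Mod O}
    (e : ((ModSite.tensorBi O).obj L).obj L' ≅ ModSite.unit O) :
    ModSite.sheafHom F ⋙ (ModSite.tensorBi O).flip.obj L ≅
      (ModSite.tensorBi O).flip.obj L ⋙ ModSite.sheafHom F :=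
  ((twistEquiv e).symm.toAdjunction.comp (ModSite.sheafHomAdj F)).rightAdjointUniq
    (((ModSite.sheafHomAdj F).comp (twistEquiv e).symm.toAdjunction).ofNatIsoLeft
      (flipComm O F L'))

end Groth.Agent.Lib.H43SheafHomTwist
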