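import Groth.Agent.Lib.FinLocFree2
import Groth.Agent.Lib.CyclesRetract
import Groth.Agent.Lib.H90InvertibleFP
import Groth.Prelude.Def_KSix

/-!
# helper78: finite biproducts of finite locally free modules (namespace `Groth.Agent.Lib.H78BiprodFree`)

* `biproductSuccIso`: `⨁ N ≅ N 0 ⊞ ⨁ (N ∘ Fin.succ)` in any preadditive category with finite biproducts.
* `isFinLocFree_biproduct`: a `Fin k`-indexed biproduct of finite locally free `O_X`-modules is finite locally free.
-/

set_option autoImplicit false
universe u v
open CategoryTheory CategoryTheory.Limits AlgebraicGeometry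

namespace Groth.Agent.Lib.H78BiprodFree

section Abstract

variable {C : Type u} [Category.{v} C] [Preadditive C] [HasFiniteBiproducts C] [HasBinaryBiproducts C]

/-- splitting off the first summand -/
noncomputable def biproductSuccIso {k : ℕ} (N : Fin (k + 1) → C) :
    (⨁ N) ≅ N 0 ⊞ ⨁ (fun i : Fin k => N i.succ) where
  hom := biproduct.desc (Fin.cases (motive := fun j => N j ⟶ N 0 ⊞ ⨁ (fun i : Fin k => N i.succ))
    biprod.inl (fun i => biproduct.ι (fun i : Fin k => N i.succ) i ≫ biprod.inr))
  inv := biprod.desc (biproduct.ι N 0) (biproduct.desc (fun i : Fin k => biproduct.ι N i.succ))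
  hom_inv_id := by
    refine biproduct.hom_ext' _ _ (fun j => ?_)
    refine Fin.cases ?_ (fun i => ?_) j
    · simp
    · simp
  inv_hom_id := by
    refine biprod.hom_ext' _ _ ?_ ?_
    · simp
    · refine biproduct.hom_ext' _ _ (fun i => ?_)
      simp

end Abstract

variable {X : Scheme.{u}}

theorem isFinLocFree_biproduct : ∀ {k : ℕ} (N : Fin k → X.Modules), (∀ j, FlatMod.IsFinLocFree (N j)) →
    FlatMod.IsFinLocFree (⨁ N)
  | 0, N, _ => by
    refine Groth.Agent.Lib.CyclesRetract.isFinLocFree_of_isZero ?_
    rw [IsZero.iff_id_eq_zero]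
    refine biproduct.hom_ext' _ _ (fun j => j.elim0)
  | k + 1, N, h => by
    have h1 := isFinLocFree_biproduct (fun i : Fin k => N i.succ) (fun i => h i.succ)
    exact Groth.Agent.Lib.FinLocFree.isFinLocFree_of_iso (biproductSuccIso N).symm
      (Groth.Agent.Lib.FinLocFree2.isFinLocFree_biprod (h 0) h1)

end Groth.Agent.Lib.H78BiprodFree
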