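import Groth.Agent.Lib.H43LocGlobSite
import Groth.Agent.Lib.H43SheafHomTwist
import Groth.Agent.Lib.H43SheafHomLocFree
import Groth.Agent.Lib.H43ExactDerived
import Groth.Agent.Lib.H78BiprodFree
import Groth.Agent.Lib.H90DevFilt
import Groth.Agent.Lib.CohFinAmple
import Groth.Agent.Lib.H90InvertibleFP

/-!
# `Ext^m(F, G(d)) ≃ₗ H^0(ℰxt^m(F, G(d)))` for `d ≫ 0` (Hartshorne III.6.9), scheme level (helper43)
-/

set_option autoImplicit false
set_option linter.unusedSectionVars false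
universe u
open CategoryTheory Opposite Limits AlgebraicGeometry Abelian

namespace Groth.Agent.Lib.H43LocGlobScheme

open Groth.Agent.Lib.ModSiteTensor Groth.Agent.Lib.H43LocGlobSite Groth.Agent.Lib.H43LocGlobAbs
  Groth.Agent.Lib.H43SheafHomTwist Groth.Agent.Lib.H43SheafHomContra
  Groth.Agent.Lib.RpushLinear Groth.Agent.Lib.TensorALinH44 CohB1 Groth.Agent.Lib.H43SheafHomFree

variable {X : Scheme.{u}}

/-- multiplication by a global function is tensor-central -/
theorem tensorCentral_mulNat (r : Coh.Γtop X) : TensorCentral X.sheaf (mulNat r) := by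
  intro M N
  exact tensorRightMod_map_mulHom M N r

instance (M : X.Modules) : ModSite.HasSheafHom (O := X.sheaf) M := hasSheafHom X.sheaf M

instance (M : ModSite.Mod X.sheaf) : ModSite.HasSheafHom (O := X.sheaf) M := hasSheafHom X.sheaf M

/-- `ℋom(F, G) ⊗ L ≅ ℋom(F, G ⊗ L)` for `L ⊗ L' ≅ O` -/
noncomputable def homTwistIso (F G : X.Modules) {L L' : X.Modules}
    (e : tensorMod L L' ≅ Coh.structureModule X) :
    tensorMod ((ModSite.sheafHom (O := X.sheaf) F).obj G) L ≅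
      (ModSite.sheafHom (O := X.sheaf) F).obj (tensorMod G L) :=
  (sheafHomTwistIso (O := X.sheaf) F e).app G

/-- `ℋom(N, G) ≅ G ⊗ N'` for `N ⊗ N' ≅ O` -/
noncomputable def homInvIso (G : X.Modules) {N N' : X.Modules}
    (e : tensorMod N N' ≅ Coh.structureModule X) :
    (ModSite.sheafHom (O := X.sheaf) N).obj G ≅ tensorMod G N' :=
  (sheafHomInvIso (O := X.sheaf) e).app G

/-- `ℋom(∐_K N, G)` is coherent for `N` invertible with coherent inverse and `G` coherent -/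
theorem isCoh_sheafHom_sigma (G : X.Modules) (hG : Coh.IsCoh G) {N N' : X.Modules}
    (e : tensorMod N N' ≅ Coh.structureModule X) (hN' : Coh.IsCoh N') (K : Type u) [Finite K] :
    Coh.IsCoh ((@ModSite.sheafHom _ _ _ X.sheaf (∐ fun _ : K => N) (hasSheafHom X.sheaf _)).obj G) := by
  have : ModSite.HasSheafHom (O := X.sheaf) (∐ fun _ : K => N) := hasSheafHom X.sheaf _
  obtain ⟨i⟩ := nonempty_sheafHomSigmaIso (O := X.sheaf) (fun _ : K => N) G
  have h1 : Coh.IsCoh (tensorMod G N') := Groth.Agent.Lib.CohFinAmple.isCoh_tensorMod hG hN'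
  have h2 : Coh.IsCoh ((ModSite.sheafHom (O := X.sheaf) N).obj G) :=
    Groth.Agent.Lib.CohFinAmple.isCoh_of_iso (homInvIso G e).symm h1
  exact Groth.Agent.Lib.CohFinAmple.isCoh_of_iso i.symm
    (Groth.Agent.Lib.CohFinAmple.isCoh_sigma h2 K)

/-- generation of coherent modules by finite sums of invertible modules -/
def Gen (X : Scheme.{u}) : Prop :=
  ∀ F : X.Modules, Coh.IsCoh F → ∃ (K : Type u) (_ : Finite K) (N N' : X.Modules),
    PicF.IsInvertible N ∧ Coh.IsCoh N' ∧ Nonempty (tensorMod N N' ≅ Coh.structureModule X) ∧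
      ∃ π : (∐ fun _ : K => N) ⟶ F, Epi π

theorem isCoh_sigma_of_isInvertible {N : X.Modules} (hN : PicF.IsInvertible N) (K : Type u) [Finite K] :
    Coh.IsCoh (∐ fun _ : K => N) :=
  Groth.Agent.Lib.CohFinAmple.isCoh_sigma (Groth.Agent.Lib.H90Invertible.isCoh_of_isInvertible hN) K

/-- the kernel of a morphism of coherent modules is coherent -/
theorem isCoh_kernel [IsLocallyNoetherian X] {E F : X.Modules} (π : E ⟶ F) (hE : Coh.IsCoh E)
    (hF : Coh.IsCoh F) : Coh.IsCoh (kernel π) := by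
  have := hE.1
  have := hF.1
  have : (kernel π).IsQuasicoherent := Groth.Agent.Lib.H90OXModExact.isQuasicoherent_kernel π
  exact Groth.Agent.Lib.H90DevFilt.isCoh_of_mono (kernel.ι π) hE

/-- **`ℋom(A, G)` is coherent** for `A`, `G` coherent, when coherent modules are generated by invertible ones. -/
theorem isCoh_sheafHom [IsLocallyNoetherian X] (hgen : Gen X) (A G : X.Modules) (hA : Coh.IsCoh A)
    (hG : Coh.IsCoh G) : Coh.IsCoh ((ModSite.sheafHom (O := X.sheaf) A).obj G) := by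
  obtain ⟨K₀, _, N₀, N₀', hN₀, hN₀', ⟨e₀⟩, π₀, hπ₀⟩ := hgen A hA
  have hE₀ := isCoh_sigma_of_isInvertible hN₀ K₀
  have hR : Coh.IsCoh (kernel π₀) := isCoh_kernel π₀ hE₀ hA
  obtain ⟨K₁, _, N₁, N₁', hN₁, hN₁', ⟨e₁⟩, π₁, hπ₁⟩ := hgen _ hR
  let S : ShortComplex X.Modules := ShortComplex.mk (π₁ ≫ kernel.ι π₀) π₀ (by simp)
  have hS : S.Exact := by
    let φ : S ⟶ ShortComplex.mk (kernel.ι π₀) π₀ (kernel.condition π₀) :=
      { τ₁ := π₁
        τ₂ := 𝟙 _
        τ₃ := 𝟙 _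
        comm₁₂ := by simp [S]
        comm₂₃ := by simp [S] }
    have : Epi φ.τ₁ := hπ₁
    have : IsIso φ.τ₂ := inferInstanceAs (IsIso (𝟙 _))
    have : Mono φ.τ₃ := inferInstanceAs (Mono (𝟙 _))
    exact (ShortComplex.exact_iff_of_epi_of_isIso_of_mono φ).2
      (ShortComplex.exact_of_f_is_kernel _ (kernelIsKernel π₀))
  have : Epi S.g := hπ₀
  have h1 : ModSite.HasSheafHom (O := X.sheaf) S.X₁ := hasSheafHom X.sheaf _
  have h2 : ModSite.HasSheafHom (O := X.sheaf) S.X₂ := hasSheafHom X.sheaf _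
  have h3 : ModSite.HasSheafHom (O := X.sheaf) S.X₃ := hasSheafHom X.sheaf _
  obtain ⟨w, hex, hmono⟩ := leftExact_sheafHomMap (O := X.sheaf) (hSe := hπ₀) S hS G
  have c0 : Coh.IsCoh ((ModSite.sheafHom (O := X.sheaf) S.X₂).obj G) :=
    isCoh_sheafHom_sigma G hG e₀ hN₀' K₀
  have c1 : Coh.IsCoh ((ModSite.sheafHom (O := X.sheaf) S.X₁).obj G) :=
    isCoh_sheafHom_sigma G hG e₁ hN₁' K₁
  -- `ℋom(A, G)` is the kernel of a morphism of coherent modules
  have hk := hex.fIsKernel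
  let i : (ModSite.sheafHom (O := X.sheaf) S.X₃).obj G ≅
      kernel ((ExtSupp.sheafHomMap (O := X.sheaf) S.f).app G) :=
    IsLimit.conePointUniqueUpToIso hk (limit.isLimit _)
  exact Groth.Agent.Lib.CohFinAmple.isCoh_of_iso i.symm (isCoh_kernel _ c0 c1)

/-- a finite coproduct of copies of a finite locally free module is finite locally free -/
theorem isFinLocFree_sigma {N : X.Modules} (hN : FlatMod.IsFinLocFree N) (K : Type u) [Finite K] :
    FlatMod.IsFinLocFree (∐ fun _ : K => N) := by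
  obtain ⟨k, ⟨e⟩⟩ := Finite.exists_equiv_fin K
  have h1 : FlatMod.IsFinLocFree (⨁ fun _ : Fin k => N) :=
    Groth.Agent.Lib.H78BiprodFree.isFinLocFree_biproduct _ (fun _ => hN)
  have i : (⨁ fun _ : Fin k => N) ≅ ∐ fun _ : K => N :=
    biproduct.isoCoproduct _ ≪≫
      Sigma.whiskerEquiv (f := fun _ : Fin k => N) (g := fun _ : K => N) e.symm (fun _ => Iso.refl _)
  exact Groth.Agent.Lib.FinLocFree.isFinLocFree_of_iso i h1

/-- transfer of vanishing of cohomology along an isomorphism of modules -/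
theorem subsingleton_HH_of_iso {M N : X.Modules} (i : M ≅ N) (q : ℕ)
    (h : Subsingleton (Coh.HH X M q)) : Subsingleton (Coh.HH X N q) :=
  (hEquiv (UU X.sheaf) ZZ i q).symm.toEquiv.subsingleton

lemma subsingleton_of_nonempty_addEquiv {A B : Type*} [Add A] [Add B] (h : Nonempty (A ≃+ B))
    (hB : Subsingleton B) : Subsingleton A := by
  obtain ⟨e⟩ := h
  exact e.toEquiv.subsingleton

/-- `Ext^p(E, B) = 0` as soon as `H^p(ℋom(E, B)) = 0`, for `E` finite locally free -/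
theorem subsingleton_ext_of_isFinLocFree [HasExt.{u} (ModSite.Mod X.sheaf)]
    (E B : ModSite.Mod X.sheaf) (hE : FlatMod.IsFinLocFree (X := X) E) (p : ℕ)
    (h : Subsingleton (Coh.HH X ((ModSite.sheafHom (O := X.sheaf) E).obj B) p)) :
    Subsingleton (Ext.{u} E B p) := by
  have h1 : PreservesFiniteColimits (ModSite.sheafHom (O := X.sheaf) E) :=
    Groth.Agent.Lib.H43SheafHomLocFree.preservesFiniteColimits_sheafHom E hE
  let adj : (ModSite.tensorBi X.sheaf).obj E ⊣ ModSite.sheafHom (O := X.sheaf) E :=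
    (ModSite.sheafHomAdj (O := X.sheaf) E).ofNatIsoLeft
      (Groth.Agent.Lib.ModSiteFlat.swapIso X.sheaf E).symm
  have he := @Groth.Agent.Lib.H43ExtSheafHom.nonempty_ext_addEquiv_H _ _ _ X.sheaf
    ‹HasExt.{u} (ModSite.Mod X.sheaf)› E (ModSite.sheafHom (O := X.sheaf) E) adj h1 B p
  exact @subsingleton_of_nonempty_addEquiv _ _ _ _ he h

/-- `ℰxt^{p+1}(E, B) = 0` for `E` finite locally free -/
theorem isZero_extSh_of_isFinLocFree [HasInjectiveResolutions (ModSite.Mod X.sheaf)]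
    (E B : X.Modules) (hE : FlatMod.IsFinLocFree E) (p : ℕ) :
    IsZero ((ModSite.extSh (O := X.sheaf) E (p + 1)).obj B) := by
  have h1 : PreservesFiniteColimits (ModSite.sheafHom (O := X.sheaf) E) :=
    Groth.Agent.Lib.H43SheafHomLocFree.preservesFiniteColimits_sheafHom E hE
  have h2 := preservesFiniteLimits_sheafHom (O := X.sheaf) E
  exact @Groth.Agent.Lib.H43ExactDerived.isZero_rightDerived_succ_of_exact _ _ _ _ _ _ _
    (ModSite.sheafHom (O := X.sheaf) E) (additive_sheafHom (O := X.sheaf) E) h2 h1 B p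

/-- the central endomorphisms given by global functions -/
def ZΓ (X : Scheme.{u}) : Set (𝟭 (ModSite.Mod X.sheaf) ⟶ 𝟭 (ModSite.Mod X.sheaf)) :=
  Set.range (fun r : Coh.Γtop X => (mulNat r : 𝟭 (ModSite.Mod X.sheaf) ⟶ 𝟭 (ModSite.Mod X.sheaf)))

lemma tensorCentral_of_mem_ZΓ : ∀ z ∈ ZΓ X, TensorCentral X.sheaf z := by
  rintro _ ⟨r, rfl⟩
  exact tensorCentral_mulNat r

section Main

variable [IsLocallyNoetherian X] (Lt Lt' : ℤ → X.Modules)
  (hinv : ∀ d, Nonempty (tensorMod (Lt d) (Lt' d) ≅ Coh.structureModule X))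
  (hSV : ∀ N : X.Modules, Coh.IsCoh N → ∃ d₀ : ℤ, ∀ d : ℤ, d₀ ≤ d → ∀ q : ℕ, 0 < q →
      Subsingleton (Coh.HH X (tensorMod N (Lt d)) q))
  (hgen : Gen X)

include hinv hSV hgen in
theorem exists_vanishing (A G : X.Modules) (hA : Coh.IsCoh A) (hG : Coh.IsCoh G) :
    ∃ d₀ : ℤ, ∀ d : ℤ, d₀ ≤ d → ∀ q : ℕ, 0 < q →
      Subsingleton (Coh.HH X ((ModSite.sheafHom (O := X.sheaf) A).obj (tensorMod G (Lt d))) q) := by
  obtain ⟨d₀, h⟩ := hSV _ (isCoh_sheafHom hgen A G hA hG)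
  refine ⟨d₀, fun d hd q hq => ?_⟩
  obtain ⟨e⟩ := hinv d
  exact subsingleton_HH_of_iso (homTwistIso A G e) q (h d hd q hq)

include hinv hSV hgen in
/-- **Hartshorne III.6.9** (additive form, compatible with multiplication by global functions) -/
theorem exists_PS [HasExt.{u} (ModSite.Mod X.sheaf)] [HasInjectiveResolutions (ModSite.Mod X.sheaf)]
    (G : X.Modules) (hG : Coh.IsCoh G) :
    ∀ (m : ℕ) (F : X.Modules), Coh.IsCoh F → ∃ d₀ : ℤ, ∀ d : ℤ, d₀ ≤ d →
      PS (O := X.sheaf) (ZΓ X) m F (tensorMod G (Lt d)) := by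
  -- the common set-up: a presentation `0 → R → E → F → 0`
  have setup : ∀ F : X.Modules, Coh.IsCoh F → ∃ (S : ShortComplex (ModSite.Mod X.sheaf)),
      S.ShortExact ∧ S.X₃ = F ∧ Coh.IsCoh S.X₁ ∧ Coh.IsCoh S.X₂ ∧ FlatMod.IsFinLocFree S.X₂ := by
    intro F hF
    obtain ⟨K, _, N, N', hN, hN', ⟨e⟩, π, hπ⟩ := hgen F hF
    have hE := isCoh_sigma_of_isInvertible hN K
    refine ⟨ShortComplex.mk (kernel.ι π) π (kernel.condition π),
      { exact := ShortComplex.exact_of_f_is_kernel _ (kernelIsKernel π)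
        mono_f := inferInstanceAs (Mono (kernel.ι π))
        epi_g := hπ }, rfl, isCoh_kernel π hE hF, hE,
      isFinLocFree_sigma (Groth.Agent.Lib.H90Invertible.isFinLocFree_of_isInvertible hN) K⟩
  intro m
  induction m using Nat.twoStepInduction with
  | zero =>
    intro F _
    exact ⟨0, fun d _ => PS.zero (ZΓ X) tensorCentral_of_mem_ZΓ F _⟩
  | one =>
    intro F hF
    obtain ⟨S, hS, rfl, hR, hE, hEf⟩ := setup F hF
    obtain ⟨d₁, h₁⟩ := exists_vanishing Lt Lt' hinv hSV hgen S.X₂ G hE hG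
    obtain ⟨d₂, h₂⟩ := exists_vanishing Lt Lt' hinv hSV hgen S.X₃ G hF hG
    refine ⟨max d₁ d₂, fun d hd => ?_⟩
    have hd₁ : d₁ ≤ d := le_trans (le_max_left _ _) hd
    have hd₂ : d₂ ≤ d := le_trans (le_max_right _ _) hd
    exact PS.one (ZΓ X) tensorCentral_of_mem_ZΓ S hS (tensorMod G (Lt d))
      (subsingleton_ext_of_isFinLocFree S.X₂ _ hEf 1 (h₁ d hd₁ 1 Nat.one_pos))
      (isZero_extSh_of_isFinLocFree S.X₂ _ hEf 0)
      (h₂ d hd₂ 1 Nat.one_pos) (h₂ d hd₂ 2 (by omega)) (h₁ d hd₁ 1 Nat.one_pos)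
  | more m _ ih =>
    intro F hF
    obtain ⟨S, hS, rfl, hR, hE, hEf⟩ := setup F hF
    obtain ⟨d₁, h₁⟩ := exists_vanishing Lt Lt' hinv hSV hgen S.X₂ G hE hG
    obtain ⟨d₂, h₂⟩ := ih S.X₁ hR
    refine ⟨max d₁ d₂, fun d hd => ?_⟩
    have hd₁ : d₁ ≤ d := le_trans (le_max_left _ _) hd
    have hd₂ : d₂ ≤ d := le_trans (le_max_right _ _) hd
    exact PS.succ (ZΓ X) S hS (tensorMod G (Lt d)) m
      (subsingleton_ext_of_isFinLocFree S.X₂ _ hEf (m + 1) (h₁ d hd₁ (m + 1) (by omega)))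
      (subsingleton_ext_of_isFinLocFree S.X₂ _ hEf (m + 1 + 1) (h₁ d hd₁ (m + 1 + 1) (by omega)))
      (isZero_extSh_of_isFinLocFree S.X₂ _ hEf m)
      (isZero_extSh_of_isFinLocFree S.X₂ _ hEf (m + 1)) (h₂ d hd₂)

end Main

end Groth.Agent.Lib.H43LocGlobScheme
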