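import Groth.Agent.Lib.H90OXModExact
import Groth.Agent.Lib.H90CohCenter
import Groth.Agent.Lib.H90DevHub2
import Groth.Agent.Lib.CohFinAmple
import Mathlib.CategoryTheory.ObjectProperty.Kernels
import Mathlib.CategoryTheory.ObjectProperty.FiniteProducts
import Mathlib.CategoryTheory.ObjectProperty.ContainsZero

/-!
# Coherent modules as an object property closed under kernels, cokernels, finite products (helper43)

`cohP X : ObjectProperty X.Modules` is `Coh.IsCoh`; on a locally Noetherian scheme it contains zero
and is closed under isomorphisms, kernels, cokernels and finite products.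
-/

set_option autoImplicit false
universe u

open CategoryTheory Limits AlgebraicGeometry ZeroObject

namespace Groth.Agent.Lib.H43CohProp

/-- coherent `O_X`-modules, as an object property -/
def cohP (X : Scheme.{u}) : ObjectProperty X.Modules := fun M => Coh.IsCoh M

variable {X : Scheme.{u}}

lemma cohP_iff (M : X.Modules) : cohP X M ↔ Coh.IsCoh M := Iff.rfl

instance : (cohP X).IsClosedUnderIsomorphisms where
  of_iso e h := Groth.Agent.Lib.CohFinAmple.isCoh_of_iso e h

instance : (cohP X).ContainsZero where
  exists_zero := ⟨0, isZero_zero _, Groth.Agent.Lib.H90DevHub2.isCoh_of_isZero (isZero_zero _)⟩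

instance [IsLocallyNoetherian X] : (cohP X).IsClosedUnderKernels where
  kernels_le := by
    rintro _ ⟨f, k, hk, ⟨hM, hN⟩⟩
    have : (_ : X.Modules).IsQuasicoherent := hN.1
    exact (cohP X).prop_of_iso (IsLimit.conePointUniqueUpToIso (kernelIsKernel f) hk)
      (Groth.Agent.Lib.H90OXModExact.isCoh_kernel f hM)

instance : (cohP X).IsClosedUnderCokernels where
  cokernels_le := by
    rintro _ ⟨f, k, hk, ⟨hM, hN⟩⟩
    have : (_ : X.Modules).IsQuasicoherent := hM.1
    exact (cohP X).prop_of_iso (IsColimit.coconePointUniqueUpToIso (cokernelIsCokernel f) hk)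
      (Groth.Agent.Lib.H90OXModExact.isCoh_cokernel f hN)

instance : (cohP X).IsClosedUnderBinaryProducts where
  limitsOfShape_le := by
    rintro M ⟨p⟩
    have hA : Coh.IsCoh (p.diag.obj ⟨WalkingPair.left⟩) := p.prop_diag_obj _
    have hB : Coh.IsCoh (p.diag.obj ⟨WalkingPair.right⟩) := p.prop_diag_obj _
    have h := Groth.Agent.Lib.H90CohCenter.isCoh_biprod hA hB
    let e1 : p.diag ≅ pair (p.diag.obj ⟨WalkingPair.left⟩) (p.diag.obj ⟨WalkingPair.right⟩) :=
      diagramIsoPair p.diag
    let c : Cone (pair (p.diag.obj ⟨WalkingPair.left⟩) (p.diag.obj ⟨WalkingPair.right⟩)) :=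
      (Cone.postcompose e1.hom).obj ⟨M, p.π⟩
    have hc : IsLimit c := (IsLimit.postcomposeHomEquiv e1 _).symm p.isLimit
    have e : M ≅ (p.diag.obj ⟨WalkingPair.left⟩) ⊞ (p.diag.obj ⟨WalkingPair.right⟩) :=
      (IsLimit.conePointUniqueUpToIso hc (BinaryBiproduct.isLimit _ _))
    exact (cohP X).prop_of_iso e.symm h

instance : (cohP X).IsClosedUnderFiniteProducts := ObjectProperty.IsClosedUnderFiniteProducts.mk'

end Groth.Agent.Lib.H43CohProp
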