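import Groth.Agent.Lib.CoExtraDeg
import Mathlib.AlgebraicTopology.SimplexCategory.Basic

/-!
# The décalage of a cosimplicial object (helper43)

`sh : SimplexCategory ⥤ SimplexCategory` (`[n] ↦ [n+1]`, a new bottom vertex), `dec F = sh ⋙ F`,
`decι F : F ⟶ dec F` (split mono in each degree), and the extra codegeneracy `decData F` of `dec F`
(in the sense of helper38's `Lib/CoExtraDeg`), so that the coface complex of `dec F` is homotopy
equivalent to `F_0` in degree `0`.
-/

set_option autoImplicit false
universe v u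
open CategoryTheory CategoryTheory.Limits
open Simplicial SimplexCategory

namespace Groth.Agent.Lib.H43CosimpLim

/-- the underlying monotone map of the shifted morphism -/
def shFun {m n : ℕ} (f : Fin (m + 1) →o Fin (n + 1)) : Fin (m + 2) →o Fin (n + 2) where
  toFun := Fin.cases 0 (fun j => (f j).succ)
  monotone' := by
    intro a b hab
    induction a using Fin.cases with
    | zero => exact Fin.zero_le _
    | succ a =>
      induction b using Fin.cases with
      | zero => exact absurd hab (by simp)
      | succ b =>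
        simp only [Fin.cases_succ]
        exact Fin.succ_le_succ_iff.2 (f.monotone (Fin.succ_le_succ_iff.1 hab))

/-- the shift functor `[n] ↦ [n+1] = [0] ⋆ [n]` of the simplex category -/
def sh : SimplexCategory ⥤ SimplexCategory where
  obj Δ := ⦋Δ.len + 1⦌
  map {Δ Δ'} θ := SimplexCategory.Hom.mk (shFun θ.toOrderHom)
  map_id Δ := by
    ext i : 3
    induction i using Fin.cases with
    | zero => rfl
    | succ i => rfl
  map_comp {Δ Δ' Δ''} θ θ' := by
    ext i : 3
    induction i using Fin.cases with
    | zero => rfl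
    | succ i => rfl

lemma sh_map_δ {n : ℕ} (i : Fin (n + 2)) :
    sh.map (SimplexCategory.δ i) = SimplexCategory.δ i.succ := by
  ext j : 3
  induction j using Fin.cases with
  | zero => rfl
  | succ j =>
    change ((SimplexCategory.δ i).toOrderHom j).succ = (SimplexCategory.δ i.succ).toOrderHom j.succ
    simp only [SimplexCategory.δ, SimplexCategory.mkHom, SimplexCategory.Hom.toOrderHom_mk]
    exact (Fin.succ_succAbove_succ i j).symm

/-- the inclusion `[n] → [n+1]` missing the new bottom vertex, as a natural transformation -/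
def shι : 𝟭 SimplexCategory ⟶ sh where
  app Δ := SimplexCategory.δ (0 : Fin (Δ.len + 2))
  naturality {Δ Δ'} θ := by
    ext i : 3
    change (Fin.succAbove 0 (θ.toOrderHom i)) = shFun θ.toOrderHom (Fin.succAbove 0 i)
    rw [Fin.succAbove_zero, Fin.succAbove_zero]
    rfl

section Dec

variable {A : Type u} [Category.{v} A] (F : CosimplicialObject A)

/-- the décalage of a cosimplicial object -/
def dec : CosimplicialObject A := sh ⋙ F

lemma dec_δ {n : ℕ} (i : Fin (n + 2)) : (dec F).δ i = F.δ i.succ := by
  exact congrArg F.map (sh_map_δ i)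

/-- the canonical map to the décalage -/
def decι : F ⟶ dec F := (Functor.leftUnitor F).inv ≫ Functor.whiskerRight shι F

lemma decι_app (n : ℕ) : (decι F).app ⦋n⦌ = F.δ (0 : Fin (n + 2)) := by
  change 𝟙 _ ≫ F.map (SimplexCategory.δ 0) = _
  exact Category.id_comp _

lemma decι_app_σ (n : ℕ) : (decι F).app ⦋n⦌ ≫ F.σ (0 : Fin (n + 1)) = 𝟙 _ := by
  rw [decι_app]
  exact F.δ_comp_σ_self' (i := (0 : Fin (n + 1))) rfl

variable [Preadditive A] [HasZeroObject A]

/-- the extra codegeneracy of the décalage -/
def decData : Groth.Agent.Lib.CoExtraDeg.Data (dec F) (F.obj ⦋0⦌) where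
  ε := F.δ (1 : Fin 2)
  hε := by
    rw [dec_δ, dec_δ]
    exact F.δ_comp_δ_self' (i := (1 : Fin 2)) (j := Fin.succ 0) rfl
  t' := F.σ (0 : Fin 1)
  t n := F.σ (0 : Fin (n + 2))
  ε_t' := F.δ_comp_σ_succ (i := (0 : Fin 1))
  δ₁_t₀ := by
    rw [dec_δ]
    exact F.δ_comp_σ_of_gt (i := (1 : Fin 2)) (j := (0 : Fin 1)) (by simp)
  δ₀_t n := by
    rw [dec_δ]
    exact F.δ_comp_σ_succ (i := (0 : Fin (n + 2)))
  δ_t n i := by
    rw [dec_δ, dec_δ]
    exact F.δ_comp_σ_of_gt (i := i.succ) (j := (0 : Fin (n + 2))) (by simp [Fin.succ_pos])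

end Dec

end Groth.Agent.Lib.H43CosimpLim
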