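import Groth.Agent.Lib.H43CosimpLimA
import Groth.Agent.Lib.CechDelta2
import Groth.Agent.Lib.DeltaIso
import Mathlib.Algebra.Homology.HomologySequenceLemmas
import Mathlib.Algebra.Homology.HomologicalComplexAbelian
import Mathlib.Algebra.Homology.SingleHomology

/-!
# Cohomology of the coface complex of a cosimplicial object as an effaceable delta-functor (helper43)

`altDelta : CohDeltaFunctor (SimplexCategory ⥤ B) B ℕ` for an abelian category `B`, with
`altDelta_isEffaceable` (effaced by the décalage).
-/

set_option autoImplicit false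
universe v u
open CategoryTheory CategoryTheory.Limits DeltaF
open Simplicial SimplexCategory AlgebraicTopology

namespace Groth.Agent.Lib.H43CosimpLim

variable (B : Type u) [Category.{v} B] [Abelian B]

/-- the alternating coface map complex functor on `SimplexCategory ⥤ B` -/
noncomputable abbrev alt : (SimplexCategory ⥤ B) ⥤ CochainComplex B ℕ :=
  alternatingCofaceMapComplex B

variable {B}

lemma alt_map_f {F G : SimplexCategory ⥤ B} (φ : F ⟶ G) (n : ℕ) :
    ((alt B).map φ).f n = φ.app ⦋n⦌ := rfl

instance : (alt B).Additive where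
  map_add {F G φ ψ} := by
    ext n : 1
    rfl

lemma shortExact_map_alt {S : ShortComplex (SimplexCategory ⥤ B)} (hS : S.ShortExact) :
    (S.map (alt B)).ShortExact := by
  apply HomologicalComplex.shortExact_of_degreewise_shortExact
  intro n
  exact hS.map_of_exact ((evaluation SimplexCategory B).obj ⦋n⦌)

/-- cohomology of the coface complex as a delta-functor -/
noncomputable def altDelta : CohDeltaFunctor (SimplexCategory ⥤ B) B ℕ where
  F n := alt B ⋙ HomologicalComplex.homologyFunctor B (ComplexShape.up ℕ) n
  additive _ := inferInstance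
  δ _ hS n₀ n₁ h := (shortExact_map_alt hS).δ n₀ n₁ h
  δ_natural hS hS' φ n₀ n₁ h :=
    (HomologicalComplex.HomologySequence.δ_naturality ((alt B).mapShortComplex.map φ)
      (shortExact_map_alt hS) (shortExact_map_alt hS') n₀ n₁ h).symm
  exact₂ _ hS n := (shortExact_map_alt hS).homology_exact₂ n
  comp_δ _ hS n₀ n₁ h := (shortExact_map_alt hS).comp_δ n₀ n₁ h
  exact₃ _ hS n₀ n₁ h := (shortExact_map_alt hS).homology_exact₃ n₀ n₁ h
  δ_comp _ hS n₀ n₁ h := (shortExact_map_alt hS).δ_comp n₀ n₁ h
  exact₁ _ hS n₀ n₁ h := (shortExact_map_alt hS).homology_exact₁ n₀ n₁ h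

omit [Abelian B] in
lemma mono_decι (F : SimplexCategory ⥤ B) : Mono (decι F : F ⟶ (dec F : SimplexCategory ⥤ B)) := by
  have : ∀ Δ : SimplexCategory, Mono ((decι F : F ⟶ (dec F : SimplexCategory ⥤ B)).app Δ) := by
    intro Δ
    induction Δ using SimplexCategory.rec with
    | _ n => exact mono_of_mono_fac (decι_app_σ F n)
  exact NatTrans.mono_of_mono_app _

lemma isZero_homology_dec (F : SimplexCategory ⥤ B) (n : ℕ) :
    IsZero (((alt B).obj (dec F)).homology (n + 1)) := by
  have e := (decData F).homotopyEquiv.toHomologyIso (n + 1)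
  refine IsZero.of_iso ?_ e.symm
  have := HomologicalComplex.exactAt_single_obj (ComplexShape.up ℕ) 0 (F.obj ⦋0⦌) (n + 1) (by simp)
  exact this.isZero_homology

theorem altDelta_isEffaceable : (altDelta (B := B)).IsEffaceable := by
  intro n F
  exact ⟨dec F, decι F, mono_decι F, (isZero_homology_dec F n).eq_of_tgt _ _⟩

end Groth.Agent.Lib.H43CosimpLim
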