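import Groth.Agent.Lib.H43CosimpLimB

/-!
# `R^n lim` over the simplex category is the cohomology of the coface complex (helper43)

For an abelian category `B` with limits of shape `SimplexCategory`: `limIsoH0 B : lim ≅ alt B ⋙ H^0`
(the limit of a cosimplicial object is the equalizer of the two cofaces `F_0 ⇉ F_1`), and
`nonempty_rightDerived_lim_iso n : Nonempty (lim.rightDerived n ≅ alt B ⋙ H^n)` when cosimplicial
objects have enough injectives.
-/

set_option autoImplicit false
universe v u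
open CategoryTheory CategoryTheory.Limits DeltaF
open Simplicial SimplexCategory AlgebraicTopology

namespace Groth.Agent.Lib.H43CosimpLim

variable {B : Type u} [Category.{v} B] [Abelian B] (F : SimplexCategory ⥤ B)

lemma alt_d01 : ((alt B).obj F).d 0 1 =
    F.map (SimplexCategory.δ (0 : Fin 2)) - F.map (SimplexCategory.δ (1 : Fin 2)) := by
  have h : ((alt B).obj F).d 0 1 = AlternatingCofaceMapComplex.objD (F : CosimplicialObject B) 0 :=
    CochainComplex.of_d (V := B) (α := ℕ) _ _ 0
  rw [h]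
  simp [AlternatingCofaceMapComplex.objD, Fin.sum_univ_two, sub_eq_add_neg]
  rfl

lemma comp_d01 {K : B} (ι : K ⟶ F.obj ⦋0⦌) :
    ι ≫ ((alt B).obj F).d 0 1 = 0 ↔
      ι ≫ F.map (SimplexCategory.δ (0 : Fin 2)) = ι ≫ F.map (SimplexCategory.δ (1 : Fin 2)) := by
  have h : ι ≫ ((alt B).obj F).d 0 1 =
      ι ≫ F.map (SimplexCategory.δ (0 : Fin 2)) - ι ≫ F.map (SimplexCategory.δ (1 : Fin 2)) :=
    (congrArg (fun y => ι ≫ y) (alt_d01 F)).trans (Preadditive.comp_sub _ _ _)
  constructor
  · intro h0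
    exact sub_eq_zero.1 (h.symm.trans h0)
  · intro h1
    exact h.trans (sub_eq_zero.2 h1)

section Fork

variable {F} {K : B} (ι : K ⟶ F.obj ⦋0⦌)
  (h : ι ≫ F.map (SimplexCategory.δ (0 : Fin 2)) = ι ≫ F.map (SimplexCategory.δ (1 : Fin 2)))

include h in
omit [Abelian B] in
lemma vertex_indep_le {n : ℕ} (i j : Fin (n + 1)) (hij : i ≤ j) :
    ι ≫ F.map (SimplexCategory.const ⦋0⦌ ⦋n⦌ i) = ι ≫ F.map (SimplexCategory.const ⦋0⦌ ⦋n⦌ j) := by
  have e1 : SimplexCategory.const ⦋0⦌ ⦋n⦌ i =
      SimplexCategory.δ (1 : Fin 2) ≫ SimplexCategory.mkOfLe i j hij := by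
    ext x : 3
    match x with
    | 0 => rfl
  have e2 : SimplexCategory.const ⦋0⦌ ⦋n⦌ j =
      SimplexCategory.δ (0 : Fin 2) ≫ SimplexCategory.mkOfLe i j hij := by
    ext x : 3
    match x with
    | 0 => rfl
  rw [e1, e2, F.map_comp, F.map_comp, ← Category.assoc, ← Category.assoc]
  exact congrArg (fun y => y ≫ F.map (SimplexCategory.mkOfLe i j hij)) h.symm

include h in
omit [Abelian B] in
lemma vertex_indep {Δ : SimplexCategory} (a b : ⦋0⦌ ⟶ Δ) : ι ≫ F.map a = ι ≫ F.map b := by
  induction Δ using SimplexCategory.rec with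
  | _ n =>
    rw [SimplexCategory.eq_const_of_zero a, SimplexCategory.eq_const_of_zero b]
    rcases le_total (a.toOrderHom 0) (b.toOrderHom 0) with hab | hab
    · exact vertex_indep_le ι h _ _ hab
    · exact (vertex_indep_le ι h _ _ hab).symm

omit [Abelian B] in
/-- the cone over `F` with vertex an equalizer of the two cofaces `F_0 ⇉ F_1` -/
def coneOfFork : Cone F where
  pt := K
  π :=
    { app := fun Δ => ι ≫ F.map (SimplexCategory.const ⦋0⦌ Δ 0)
      naturality := by
        intro Δ Δ' θ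
        dsimp
        rw [Category.id_comp, Category.assoc, ← F.map_comp]
        exact vertex_indep ι h _ _ }

omit [Abelian B] in
lemma coneOfFork_π_zero : (coneOfFork ι h).π.app ⦋0⦌ = ι := by
  change ι ≫ F.map (SimplexCategory.const ⦋0⦌ ⦋0⦌ 0) = ι
  rw [SimplexCategory.const_eq_id, F.map_id, Category.comp_id]

end Fork

/-- the cycles in degree zero of the coface complex equalize the two cofaces -/
lemma iCycles_δ : ((alt B).obj F).iCycles 0 ≫ F.map (SimplexCategory.δ (0 : Fin 2)) =
    ((alt B).obj F).iCycles 0 ≫ F.map (SimplexCategory.δ (1 : Fin 2)) :=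
  (comp_d01 F _).1 (((alt B).obj F).iCycles_d 0 1)

/-- the cone with vertex the `0`-cocycles -/
noncomputable def cyclesCone : Cone F :=
  coneOfFork (((alt B).obj F).iCycles 0) (iCycles_δ F)

lemma cyclesCone_π_zero : (cyclesCone F).π.app ⦋0⦌ = ((alt B).obj F).iCycles 0 :=
  coneOfFork_π_zero _ _

lemma cone_d (c : Cone F) : c.π.app ⦋0⦌ ≫ ((alt B).obj F).d 0 1 = 0 := by
  refine (comp_d01 F (c.π.app ⦋0⦌)).2 ?_
  exact (c.w (SimplexCategory.δ (0 : Fin 2))).trans (c.w (SimplexCategory.δ (1 : Fin 2))).symm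

/-- the cocycles are the limit -/
noncomputable def cyclesConeIsLimit : IsLimit (cyclesCone F) where
  lift c := ((alt B).obj F).liftCycles (c.π.app ⦋0⦌) 1 (by simp) (cone_d F c)
  fac c Δ := by
    have h1 : ((alt B).obj F).liftCycles (c.π.app ⦋0⦌) 1 (by simp) (cone_d F c) ≫
        ((alt B).obj F).iCycles 0 = c.π.app ⦋0⦌ := HomologicalComplex.liftCycles_i _ _ _ _ _
    change _ ≫ ((alt B).obj F).iCycles 0 ≫ F.map (SimplexCategory.const ⦋0⦌ Δ 0) = _
    refine (Category.assoc _ _ _).symm.trans ?_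
    refine (congrArg (fun y => y ≫ F.map (SimplexCategory.const ⦋0⦌ Δ 0)) h1).trans ?_
    exact c.w _
  uniq c m hm := by
    have h1 : ((alt B).obj F).liftCycles (c.π.app ⦋0⦌) 1 (by simp) (cone_d F c) ≫
        ((alt B).obj F).iCycles 0 = c.π.app ⦋0⦌ := HomologicalComplex.liftCycles_i _ _ _ _ _
    have h2 : m ≫ ((alt B).obj F).iCycles 0 = c.π.app ⦋0⦌ :=
      (congrArg (fun y => m ≫ y) (cyclesCone_π_zero F)).symm.trans (hm ⦋0⦌)
    exact (cancel_mono (((alt B).obj F).iCycles 0)).1 (h2.trans h1.symm)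

variable [HasLimitsOfShape SimplexCategory B]

/-- `lim F` is the group of `0`-cocycles -/
noncomputable def limIsoCycles : limit F ≅ ((alt B).obj F).cycles 0 :=
  IsLimit.conePointUniqueUpToIso (limit.isLimit F) (cyclesConeIsLimit F)

lemma limIsoCycles_hom_i : (limIsoCycles F).hom ≫ ((alt B).obj F).iCycles 0 = limit.π F ⦋0⦌ := by
  have := IsLimit.conePointUniqueUpToIso_hom_comp (limit.isLimit F) (cyclesConeIsLimit F) ⦋0⦌
  exact (congrArg (fun y => (limIsoCycles F).hom ≫ y) (cyclesCone_π_zero F)).symm.trans this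

variable (B) in
/-- the limit functor is `H^0` of the coface complex -/
noncomputable def limIsoH0 : (lim : (SimplexCategory ⥤ B) ⥤ B) ≅
    alt B ⋙ HomologicalComplex.homologyFunctor B (ComplexShape.up ℕ) 0 :=
  NatIso.ofComponents (fun F => limIsoCycles F ≪≫ ((alt B).obj F).isoHomologyπ₀) (by
    intro F G φ
    have h1 : lim.map φ ≫ (limIsoCycles G).hom =
        (limIsoCycles F).hom ≫ HomologicalComplex.cyclesMap ((alt B).map φ) 0 := by
      rw [← cancel_mono (((alt B).obj G).iCycles 0), Category.assoc, Category.assoc,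
        limIsoCycles_hom_i, HomologicalComplex.cyclesMap_i, ← Category.assoc, limIsoCycles_hom_i]
      exact limMap_π φ ⦋0⦌
    have h2 : HomologicalComplex.cyclesMap ((alt B).map φ) 0 ≫ ((alt B).obj G).isoHomologyπ₀.hom =
        ((alt B).obj F).isoHomologyπ₀.hom ≫ HomologicalComplex.homologyMap ((alt B).map φ) 0 :=
      (HomologicalComplex.homologyπ_naturality _ _).symm
    change lim.map φ ≫ (limIsoCycles G).hom ≫ ((alt B).obj G).isoHomologyπ₀.hom =
      ((limIsoCycles F).hom ≫ ((alt B).obj F).isoHomologyπ₀.hom) ≫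
        HomologicalComplex.homologyMap ((alt B).map φ) 0
    refine (Category.assoc _ _ _).symm.trans ?_
    refine (congrArg (fun y => y ≫ ((alt B).obj G).isoHomologyπ₀.hom) h1).trans ?_
    refine (Category.assoc _ _ _).trans ?_
    refine (congrArg (fun y => (limIsoCycles F).hom ≫ y) h2).trans ?_
    exact (Category.assoc _ _ _).symm)


/-- **The right derived functors of `lim` over the simplex category are the cohomology objects of the
coface complex.** -/
theorem nonempty_rightDerived_lim_iso [EnoughInjectives (SimplexCategory ⥤ B)]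
    [(lim : (SimplexCategory ⥤ B) ⥤ B).Additive] (n : ℕ) :
    Nonempty ((lim : (SimplexCategory ⥤ B) ⥤ B).rightDerived n ≅
      alt B ⋙ HomologicalComplex.homologyFunctor B (ComplexShape.up ℕ) n) := by
  have h1 := DeltaUniv.isUniversal_of_isEffaceable _ (altDelta_isEffaceable (B := B))
  have h2 := Groth.Agent.Lib.CechDelta.derived_isUniversal (lim : (SimplexCategory ⥤ B) ⥤ B)
  exact DeltaIso.nonempty_natIso_of_isUniversal _ _ h2 h1
    (Functor.rightDerivedZeroIsoSelf (lim : (SimplexCategory ⥤ B) ⥤ B) ≪≫ limIsoH0 B) n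

end Groth.Agent.Lib.H43CosimpLim
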