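import Groth.Agent.Lib.CohLESLinear
import Groth.Prelude.Def_DeltaF
import Mathlib.Algebra.Homology.ShortComplex.ModuleCat
import Mathlib.LinearAlgebra.Basis.VectorSpace
import Mathlib.LinearAlgebra.Dual.Defs

/-!
# The dual of cohomology as a contravariant delta-functor (helper43)

For a scheme `X` over a field `k` and `N : ℕ`,
`dualDelta k N : CohDeltaFunctor (X.Modules)ᵒᵖ (ModuleCat k) ℕ` has
`F i = (M ↦ Hom_k(H^{N-i}(X, M), k))` for `i ≤ N` and `F i = 0` for `i > N`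
(implemented as the submodule `W k N i` of the dual, equal to `⊤` for `i ≤ N` and `⊥` otherwise).
-/

set_option autoImplicit false

universe u

open CategoryTheory Limits Opposite DeltaF Abelian AlgebraicGeometry

namespace Groth.Agent.Lib.H43DualDelta

open Groth.Agent.Lib.CohLES

section LinAlg

variable {k : Type*} [Field k] {B C V : Type*} [AddCommGroup B] [Module k B]
  [AddCommGroup C] [Module k C] [AddCommGroup V] [Module k V]

/-- over a field, a linear map killing the kernel of `g` factors through `g` -/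
lemma exists_comp_eq_of_ker_le (g : B →ₗ[k] C) (ψ : B →ₗ[k] V)
    (h : LinearMap.ker g ≤ LinearMap.ker ψ) : ∃ χ : C →ₗ[k] V, χ ∘ₗ g = ψ := by
  let χ₀ : LinearMap.range g →ₗ[k] V :=
    ((LinearMap.ker g).liftQ ψ h) ∘ₗ (g.quotKerEquivRange.symm : _ →ₗ[k] _)
  obtain ⟨χ, hχ⟩ := LinearMap.exists_extend χ₀
  refine ⟨χ, ?_⟩
  ext b
  have h1 : χ (g b) = χ₀ ⟨g b, LinearMap.mem_range_self g b⟩ :=
    LinearMap.congr_fun hχ ⟨g b, LinearMap.mem_range_self g b⟩
  rw [LinearMap.comp_apply, h1]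
  change ((LinearMap.ker g).liftQ ψ h) (g.quotKerEquivRange.symm ⟨g b, _⟩) = ψ b
  rw [LinearMap.quotKerEquivRange_symm_apply_image]
  rfl

end LinAlg

section Cut

variable (k : Type u) [Field k] (N : ℕ)

/-- the cut-off dual: all of the dual if `i ≤ N`, zero otherwise -/
def W (i : ℕ) (M : Type u) [AddCommGroup M] [Module k M] : Submodule k (Module.Dual k M) where
  carrier := {ψ | N < i → ψ = 0}
  add_mem' {a b} ha hb := fun h => by rw [ha h, hb h, add_zero]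
  zero_mem' := fun _ => rfl
  smul_mem' c {a} ha := fun h => by rw [ha h, smul_zero]

variable {k N}

lemma mem_W {i : ℕ} {M : Type u} [AddCommGroup M] [Module k M] (ψ : Module.Dual k M) :
    ψ ∈ W k N i M ↔ (N < i → ψ = 0) := Iff.rfl

lemma eq_zero_of_lt {i : ℕ} (hi : N < i) {M : Type u} [AddCommGroup M] [Module k M]
    (ψ : W k N i M) : ψ = 0 := Subtype.ext (ψ.2 hi)

/-- precomposition with a linear map -/
def Wmap (i : ℕ) {M M' : Type u} [AddCommGroup M] [Module k M] [AddCommGroup M'] [Module k M']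
    (f : M →ₗ[k] M') : W k N i M' →ₗ[k] W k N i M :=
  f.dualMap.restrict (fun ψ hψ hi => by rw [hψ hi, map_zero])

lemma Wmap_apply (i : ℕ) {M M' : Type u} [AddCommGroup M] [Module k M] [AddCommGroup M']
    [Module k M'] (f : M →ₗ[k] M') (ψ : W k N i M') (m : M) :
    (Wmap i f ψ : Module.Dual k M) m = (ψ : Module.Dual k M') (f m) := rfl

/-- precomposition with a linear map raising the index -/
def Wδ (i j : ℕ) {M M' : Type u} [AddCommGroup M] [Module k M] [AddCommGroup M'] [Module k M']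
    (f : j ≤ N → (M →ₗ[k] M')) : W k N i M' →ₗ[k] W k N j M :=
  if hj : j ≤ N then
    (f hj).dualMap.restrict (p := W k N i M') (q := W k N j M)
      (fun _ _ hj' => absurd hj' (by omega))
  else 0

lemma Wδ_apply (i j : ℕ) (hj : j ≤ N) {M M' : Type u} [AddCommGroup M] [Module k M]
    [AddCommGroup M'] [Module k M'] (f : j ≤ N → (M →ₗ[k] M')) (ψ : W k N i M') (m : M) :
    (Wδ i j f ψ : Module.Dual k M) m = (ψ : Module.Dual k M') (f hj m) := by
  unfold Wδ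
  rw [dif_pos hj]
  rfl

end Cut

section Scheme

variable (k : Type u) [Field k] {X : Scheme.{u}} [X.Over (Spec (CommRingCat.of k))]

/-- the connecting map with flexible degrees -/
noncomputable def δ' {S : ShortComplex X.Modules} (hS : S.ShortExact) (n m : ℕ) (h : n + 1 = m) :
    Coh.HH X S.X₃ n →ₗ[k] Coh.HH X S.X₁ m :=
  h ▸ δₗ k hS n

lemma δ'_rfl {S : ShortComplex X.Modules} (hS : S.ShortExact) (n : ℕ) :
    δ' k hS n (n + 1) rfl = δₗ k hS n := rfl

variable {k}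

lemma range_mapₗ_g_eq_ker_δ' {S : ShortComplex X.Modules} (hS : S.ShortExact) (n m : ℕ)
    (h : n + 1 = m) : LinearMap.range (mapₗ k S.g n) = LinearMap.ker (δ' k hS n m h) := by
  subst h
  exact range_mapₗ_g_eq_ker k hS n

lemma range_δ'_eq_ker {S : ShortComplex X.Modules} (hS : S.ShortExact) (n m : ℕ)
    (h : n + 1 = m) : LinearMap.range (δ' k hS n m h) = LinearMap.ker (mapₗ k S.f m) := by
  subst h
  exact range_δₗ_eq_ker k hS n

set_option maxHeartbeats 400000 in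
lemma δ_natural_aux {S S' : ShortComplex X.Modules} (hT : (S.map (toAbF X)).ShortExact)
    (hT' : (S'.map (toAbF X)).ShortExact)
    (σ : S.map (toAbF X) ⟶ S'.map (toAbF X)) (n : ℕ)
    (x : Ext.{u} (constZ X) (S.map (toAbF X)).X₃ n) :
    (x.comp (Ext.mk₀ σ.τ₃) (add_zero n)).comp hT'.extClass rfl =
      (x.comp hT.extClass rfl).comp (Ext.mk₀ σ.τ₁) (add_zero (n + 1)) := by
  generalize S.map (toAbF X) = T at *
  generalize S'.map (toAbF X) = T' at *
  rw [Ext.comp_assoc_of_second_deg_zero, Ext.comp_assoc_of_third_deg_zero,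
    ShortComplex.ShortExact.extClass_naturality hT hT' σ]

set_option maxHeartbeats 400000 in
/-- naturality of the connecting map -/
lemma δ_natural {S S' : ShortComplex X.Modules} (hS : S.ShortExact) (hS' : S'.ShortExact)
    (φ : S ⟶ S') (n : ℕ) (x : Coh.HH X S.X₃ n) :
    δ hS' n (map φ.τ₃ n x) = map φ.τ₁ (n + 1) (δ hS n x) :=
  δ_natural_aux (shortExact_toAb hS) (shortExact_toAb hS') ((toAbF X).mapShortComplex.map φ) n x

lemma δ'_natural {S S' : ShortComplex X.Modules} (hS : S.ShortExact) (hS' : S'.ShortExact)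
    (φ : S ⟶ S') (n m : ℕ) (h : n + 1 = m) (x : Coh.HH X S.X₃ n) :
    δ' k hS' n m h (mapₗ k φ.τ₃ n x) = mapₗ k φ.τ₁ m (δ' k hS n m h x) := by
  subst h
  exact δ_natural hS hS' φ n x

variable (k) (N : ℕ)

lemma W_ext {i : ℕ} {M : Type u} [AddCommGroup M] [Module k M] {ψ ψ' : W k N i M}
    (h : ∀ m, ψ.1 m = ψ'.1 m) : ψ = ψ' :=
  Subtype.ext (LinearMap.ext h)

section Plain

variable {k N}
variable {T : ShortComplex X.Modules} (hT : T.ShortExact)

/-- the plain connecting map on cut-off duals -/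
noncomputable def dδ (n₀ n₁ : ℕ) (h : n₀ + 1 = n₁) :
    W k N n₀ (Coh.HH X T.X₁ (N - n₀)) →ₗ[k] W k N n₁ (Coh.HH X T.X₃ (N - n₁)) :=
  Wδ n₀ n₁ (fun _ => δ' k hT (N - n₁) (N - n₀) (by omega))

lemma dδ_apply (n₀ n₁ : ℕ) (h : n₀ + 1 = n₁) (hN : n₁ ≤ N)
    (ψ : W k N n₀ (Coh.HH X T.X₁ (N - n₀))) (m : Coh.HH X T.X₃ (N - n₁)) :
    (dδ (k := k) (N := N) hT n₀ n₁ h ψ).1 m =
      ψ.1 (δ' k hT (N - n₁) (N - n₀) (by omega) m) :=
  Wδ_apply n₀ n₁ hN _ ψ m

lemma dδ_natural {T T₂ : ShortComplex X.Modules} (hT : T.ShortExact) (hT₂ : T₂.ShortExact)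
    (φ : T₂ ⟶ T) (n₀ n₁ : ℕ) (h : n₀ + 1 = n₁)
    (ψ : W k N n₀ (Coh.HH X T.X₁ (N - n₀))) :
    dδ hT₂ n₀ n₁ h (Wmap n₀ (mapₗ k φ.τ₁ (N - n₀)) ψ) =
      Wmap n₁ (mapₗ k φ.τ₃ (N - n₁)) (dδ hT n₀ n₁ h ψ) := by
  by_cases hN : n₁ ≤ N
  · apply W_ext
    intro m
    rw [dδ_apply hT₂ n₀ n₁ h hN, Wmap_apply, Wmap_apply, dδ_apply hT n₀ n₁ h hN]
    exact congrArg ψ.1 (δ'_natural hT₂ hT φ _ _ _ m).symm
  · exact (eq_zero_of_lt (by omega) _).trans (eq_zero_of_lt (by omega) _).symm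

include hT in
lemma d_exact₂ (n : ℕ) (x₂ : W k N n (Coh.HH X T.X₂ (N - n)))
    (hx₂ : Wmap n (mapₗ k T.f (N - n)) x₂ = 0) :
    ∃ x₁ : W k N n (Coh.HH X T.X₃ (N - n)), Wmap n (mapₗ k T.g (N - n)) x₁ = x₂ := by
  by_cases hN : n ≤ N
  · obtain ⟨χ, hχ⟩ := exists_comp_eq_of_ker_le (mapₗ k T.g (N - n)) x₂.1 (by
      rw [← range_mapₗ_f_eq_ker k hT (N - n)]
      rintro _ ⟨y, rfl⟩
      exact congrArg (fun z : W k N n _ => z.1 y) hx₂)
    refine ⟨⟨χ, fun h => absurd h (by omega)⟩, ?_⟩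
    apply W_ext
    intro m
    exact LinearMap.congr_fun hχ m
  · exact ⟨0, (eq_zero_of_lt (by omega) _).trans (eq_zero_of_lt (by omega) _).symm⟩

lemma d_comp_δ (n₀ n₁ : ℕ) (h : n₀ + 1 = n₁) (ψ : W k N n₀ (Coh.HH X T.X₂ (N - n₀))) :
    dδ hT n₀ n₁ h (Wmap n₀ (mapₗ k T.f (N - n₀)) ψ) = 0 := by
  by_cases hN : n₁ ≤ N
  · apply W_ext
    intro m
    rw [dδ_apply hT n₀ n₁ h hN, Wmap_apply]
    have h1 : N - n₁ + 1 = N - n₀ := by omega
    have key : ∀ (j : ℕ) (hj : N - n₁ + 1 = j) (ψ' : Module.Dual k (Coh.HH X T.X₂ j)),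
        ψ' (mapₗ k T.f j (δ' k hT (N - n₁) j hj m)) = 0 := by
      intro j hj ψ'
      subst hj
      rw [show mapₗ k T.f (N - n₁ + 1) (δ' k hT (N - n₁) (N - n₁ + 1) rfl m) = 0 from
        map_f_δ hT (N - n₁) m, map_zero]
    exact key _ h1 ψ.1
  · exact (eq_zero_of_lt (by omega) _).trans (eq_zero_of_lt (by omega) _).symm

lemma d_exact₃ (n₀ n₁ : ℕ) (h : n₀ + 1 = n₁) (x : W k N n₀ (Coh.HH X T.X₁ (N - n₀)))
    (hx : dδ hT n₀ n₁ h x = 0) :
    ∃ y : W k N n₀ (Coh.HH X T.X₂ (N - n₀)), Wmap n₀ (mapₗ k T.f (N - n₀)) y = x := by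
  by_cases hN : n₁ ≤ N
  · obtain ⟨χ, hχ⟩ := exists_comp_eq_of_ker_le (mapₗ k T.f (N - n₀)) x.1 (by
      rw [← range_δ'_eq_ker hT (N - n₁) (N - n₀) (by omega)]
      rintro _ ⟨y, rfl⟩
      have := congrArg (fun z : W k N n₁ _ => z.1 y) hx
      change (dδ hT n₀ n₁ h x).1 y = 0 at this
      rwa [dδ_apply hT n₀ n₁ h hN] at this)
    refine ⟨⟨χ, fun h => absurd h (by omega)⟩, ?_⟩
    apply W_ext
    intro m
    exact LinearMap.congr_fun hχ m
  · by_cases hN₀ : n₀ ≤ N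
    · have h0 : N - n₀ = 0 := by omega
      have key : ∀ (j : ℕ) (hj : j = 0) (ψ : Module.Dual k (Coh.HH X T.X₁ j)),
          ∃ χ : Module.Dual k (Coh.HH X T.X₂ j), χ ∘ₗ mapₗ k T.f j = ψ := by
        intro j hj ψ
        subst hj
        apply exists_comp_eq_of_ker_le
        have hinj : Function.Injective (mapₗ k T.f 0) := map_f_injective_zero hT
        rw [LinearMap.ker_eq_bot.2 hinj]
        exact bot_le
      obtain ⟨χ, hχ⟩ := key _ h0 x.1
      refine ⟨⟨χ, fun h => absurd h (by omega)⟩, ?_⟩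
      apply W_ext
      intro m
      exact LinearMap.congr_fun hχ m
    · exact ⟨0, (eq_zero_of_lt (by omega) _).trans (eq_zero_of_lt (by omega) _).symm⟩

lemma d_δ_comp (n₀ n₁ : ℕ) (h : n₀ + 1 = n₁) (ψ : W k N n₀ (Coh.HH X T.X₁ (N - n₀))) :
    Wmap n₁ (mapₗ k T.g (N - n₁)) (dδ hT n₀ n₁ h ψ) = 0 := by
  by_cases hN : n₁ ≤ N
  · apply W_ext
    intro m
    rw [Wmap_apply, dδ_apply hT n₀ n₁ h hN]
    have h1 : N - n₁ + 1 = N - n₀ := by omega
    have key : ∀ (j : ℕ) (hj : N - n₁ + 1 = j) (ψ' : Module.Dual k (Coh.HH X T.X₁ j)),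
        ψ' (δ' k hT (N - n₁) j hj (mapₗ k T.g (N - n₁) m)) = 0 := by
      intro j hj ψ'
      subst hj
      rw [show δ' k hT (N - n₁) (N - n₁ + 1) rfl (mapₗ k T.g (N - n₁) m) = 0 from
        δ_map_g hT (N - n₁) m, map_zero]
    exact key _ h1 ψ.1
  · exact (eq_zero_of_lt (by omega) _).trans (eq_zero_of_lt (by omega) _).symm

lemma d_exact₁ (n₀ n₁ : ℕ) (h : n₀ + 1 = n₁) (x : W k N n₁ (Coh.HH X T.X₃ (N - n₁)))
    (hx : Wmap n₁ (mapₗ k T.g (N - n₁)) x = 0) :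
    ∃ y : W k N n₀ (Coh.HH X T.X₁ (N - n₀)), dδ hT n₀ n₁ h y = x := by
  by_cases hN : n₁ ≤ N
  · obtain ⟨χ, hχ⟩ := exists_comp_eq_of_ker_le (δ' k hT (N - n₁) (N - n₀) (by omega)) x.1 (by
      rw [← range_mapₗ_g_eq_ker_δ' hT (N - n₁) (N - n₀) (by omega)]
      rintro _ ⟨y, rfl⟩
      exact congrArg (fun z : W k N n₁ _ => z.1 y) hx)
    refine ⟨⟨χ, fun h => absurd h (by omega)⟩, ?_⟩
    apply W_ext
    intro m
    rw [dδ_apply hT n₀ n₁ h hN]
    exact LinearMap.congr_fun hχ m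
  · exact ⟨0, (eq_zero_of_lt (by omega) _).trans (eq_zero_of_lt (by omega) _).symm⟩

end Plain

/-- `M ↦ Hom_k(H^{N-i}(X, M), k)` (cut off for `i > N`) as a functor -/
noncomputable def hF (i : ℕ) : (X.Modules)ᵒᵖ ⥤ ModuleCat.{u} k where
  obj M := ModuleCat.of k (W k N i (Coh.HH X M.unop (N - i)))
  map φ := ModuleCat.ofHom (Wmap i (mapₗ k φ.unop (N - i)))
  map_id M := by
    ext ψ : 2
    apply Subtype.ext
    ext m
    change (ψ : Module.Dual k _) (map (𝟙 M.unop) (N - i) m) = (ψ : Module.Dual k _) m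
    rw [map_id]
  map_comp {M₁ M₂ M₃} f g := by
    ext ψ : 2
    apply Subtype.ext
    ext m
    change (ψ : Module.Dual k _) (map (g.unop ≫ f.unop) (N - i) m) =
      (ψ : Module.Dual k _) (map f.unop (N - i) (map g.unop (N - i) m))
    rw [map_comp]

instance hF_additive (i : ℕ) : (hF (X := X) k N i).Additive where
  map_add {M M' f g} := by
    ext ψ : 2
    apply Subtype.ext
    ext m
    change ψ.1 (map (f.unop + g.unop) (N - i) m) =
      ψ.1 (map f.unop (N - i) m) + ψ.1 (map g.unop (N - i) m)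
    rw [map_add', map_add]

/-- the dual of cohomology as a delta-functor on the opposite category -/
noncomputable def dualDelta : CohDeltaFunctor (X.Modules)ᵒᵖ (ModuleCat.{u} k) ℕ where
  F i := hF k N i
  additive i := hF_additive k N i
  δ _ hS n₀ n₁ h := ModuleCat.ofHom (dδ hS.unop n₀ n₁ h)
  δ_natural {S S₂} hS hS₂ φ n₀ n₁ h := by
    ext ψ : 2
    exact dδ_natural hS.unop hS₂.unop (ShortComplex.unopMap φ) n₀ n₁ h ψ
  exact₂ S hS n := by
    rw [ShortComplex.moduleCat_exact_iff]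
    intro x₂ hx₂
    exact d_exact₂ hS.unop n x₂ hx₂
  comp_δ S hS n₀ n₁ h := by
    ext ψ : 2
    exact d_comp_δ hS.unop n₀ n₁ h ψ
  exact₃ S hS n₀ n₁ h := by
    rw [ShortComplex.moduleCat_exact_iff]
    intro x hx
    exact d_exact₃ hS.unop n₀ n₁ h x hx
  δ_comp S hS n₀ n₁ h := by
    ext ψ : 2
    exact d_δ_comp hS.unop n₀ n₁ h ψ
  exact₁ S hS n₀ n₁ h := by
    rw [ShortComplex.moduleCat_exact_iff]
    intro x hx
    exact d_exact₁ hS.unop n₀ n₁ h x hx

lemma dualDelta_F (i : ℕ) : (dualDelta (X := X) k N).F i = hF k N i := rfl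

end Scheme

end Groth.Agent.Lib.H43DualDelta
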