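import Groth.Agent.Lib.CohSigmaFin
import Mathlib.Algebra.Homology.DerivedCategory.Ext.MapBijective
import Mathlib.CategoryTheory.Preadditive.Injective.Preserves
import Mathlib.CategoryTheory.Adjunction.Limits

/-!
# Transfer of `Ext` vanishing (helper43)

* `subsingleton_ext_sigma`: `Ext^n(∐_J P_j, Y) = 0` if all `Ext^n(P_j, Y) = 0` (`J` finite);
* `subsingleton_ext_of_iso_left/right`;
* `subsingleton_ext_of_equivalence`: an exact autoequivalence reflects `Ext` vanishing (enough injectives).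
-/

set_option autoImplicit false
universe w v u

open CategoryTheory Limits Abelian

namespace Groth.Agent.Lib.H43ExtTransfer

variable {C : Type u} [Category.{v} C] [Abelian C] [HasExt.{w} C]

lemma subsingleton_ext_of_iso_left {X X' : C} (e : X ≅ X') (Y : C) (n : ℕ)
    (h : Subsingleton (Ext X Y n)) : Subsingleton (Ext X' Y n) := by
  refine ⟨fun a b => ?_⟩
  have key : ∀ a : Ext X' Y n, a = (Ext.mk₀ e.inv).comp ((Ext.mk₀ e.hom).comp a (zero_add n))
      (zero_add n) := by
    intro a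
    rw [Ext.mk₀_comp_mk₀_assoc, e.inv_hom_id, Ext.mk₀_id_comp]
  rw [key a, key b, Subsingleton.elim ((Ext.mk₀ e.hom).comp a (zero_add n))
    ((Ext.mk₀ e.hom).comp b (zero_add n))]

lemma subsingleton_ext_of_iso_right (X : C) {Y Y' : C} (e : Y ≅ Y') (n : ℕ)
    (h : Subsingleton (Ext X Y n)) : Subsingleton (Ext X Y' n) := by
  refine ⟨fun a b => ?_⟩
  have key : ∀ a : Ext X Y' n, a = (a.comp (Ext.mk₀ e.inv) (add_zero n)).comp (Ext.mk₀ e.hom)
      (add_zero n) := by
    intro a
    rw [Ext.comp_assoc_of_third_deg_zero, Ext.mk₀_comp_mk₀, e.inv_hom_id, Ext.comp_mk₀_id]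
  rw [key a, key b, Subsingleton.elim (a.comp (Ext.mk₀ e.inv) (add_zero n))
    (b.comp (Ext.mk₀ e.inv) (add_zero n))]

lemma mk₀_sum_comp {X Y Z : C} {J : Type*} (s : Finset J) (f : J → (X ⟶ Y)) {n : ℕ}
    (a : Ext Y Z n) :
    (Ext.mk₀ (∑ j ∈ s, f j)).comp a (zero_add n) = ∑ j ∈ s, (Ext.mk₀ (f j)).comp a (zero_add n) := by
  classical
  induction s using Finset.induction_on with
  | empty => simp
  | insert i s hi ih => rw [Finset.sum_insert hi, Finset.sum_insert hi, Ext.mk₀_add, Ext.add_comp, ih]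

lemma subsingleton_ext_sigma {J : Type*} [Fintype J] (P : J → C) [HasCoproduct P] (Y : C) (n : ℕ)
    (h : ∀ j, Subsingleton (Ext (P j) Y n)) : Subsingleton (Ext (∐ P) Y n) := by
  refine subsingleton_of_forall_eq 0 fun x => ?_
  obtain ⟨π, hπ⟩ := Groth.Agent.Lib.CohSigmaFin.exists_total P
  rw [← Ext.mk₀_id_comp x, ← hπ, mk₀_sum_comp]
  refine Finset.sum_eq_zero fun j _ => ?_
  rw [← Ext.mk₀_comp_mk₀_assoc, Subsingleton.elim ((Ext.mk₀ (Sigma.ι P j)).comp x (zero_add n)) 0,
    Ext.comp_zero]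

section Equivalence

variable (Φ : C ⥤ C) [Φ.IsEquivalence] [Φ.Additive] [EnoughInjectives C]

instance preservesInjectiveObjects_of_isEquivalence : Φ.PreservesInjectiveObjects :=
  Functor.preservesInjectiveObjects_of_adjunction_of_preservesMonomorphisms
    Φ.asEquivalence.symm.toAdjunction

lemma subsingleton_ext_of_equivalence (X Y : C) (n : ℕ)
    (h : Subsingleton (Ext (Φ.obj X) (Φ.obj Y) n)) : Subsingleton (Ext X Y n) :=
  (Functor.mapExt_bijective_of_preservesInjectiveObjects Φ X Y n).1.subsingleton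

end Equivalence

end Groth.Agent.Lib.H43ExtTransfer
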