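import Groth.Agent.Lib.H4ProjFormula
import Groth.Agent.Lib.H4ProjSpaceCoh
import Groth.Agent.Lib.H90InvertiblePullback
import Groth.Agent.Lib.H90OXModPushFinite
import Groth.Agent.Lib.CohFinAmple
import Groth.Agent.S0012

/-!
# Serre vanishing: from an ambient scheme to closed subschemes (helper4)

`serre_vanishing_of_affine` : let `j : Z ⟶ P` be a finite morphism (e.g. a closed immersion), `L : ℤ → P.Modules` a
family of invertible modules on `P` such that Serre vanishing holds on `P` for every coherent module (hypothesis `hSV`).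
Then Serre vanishing holds on `Z` for the family `j^* L d`:
for every coherent `F` on `Z` there is `d₀` with `H^q(Z, F ⊗ j^*L d) = 0` for all `d ≥ d₀`, `q > 0`.

Ingredients: the projection formula `j_*(F ⊗ j^*L) ≅ j_*F ⊗ L` (`H4ProjFormula`), `H^q(Z, M) ≃ H^q(P, j_*M)` for affine `j`
(`S0012`), coherence of `j_*F` (`H90OXModPushFinite`).
-/

set_option autoImplicit false
universe u
open CategoryTheory AlgebraicGeometry TopologicalSpace Opposite

namespace Groth.Agent.Lib.H4SerreVanClosed

variable {Z P : Scheme.{u}}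

/-- `H^q(Z, F ⊗ j^*L) ≃+ H^q(P, j_*F ⊗ L)` for `j` finite, `F` coherent and `L` invertible. -/
theorem nonempty_HH_twist_equiv (j : Z ⟶ P) [IsFinite j] (F : Z.Modules) (hF : Coh.IsCoh F)
    {L : P.Modules} (hL : PicF.IsInvertible L) (q : ℕ) :
    Nonempty (Coh.HH Z (CohB1.tensorMod F ((Scheme.Modules.pullback j).obj L)) q ≃+
      Coh.HH P ((Scheme.Modules.pushforward j).obj
        (CohB1.tensorMod F ((Scheme.Modules.pullback j).obj L))) q) := by
  have hL' : Coh.IsCoh ((Scheme.Modules.pullback j).obj L) :=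
    Groth.Agent.Lib.H90Invertible.isCoh_of_isInvertible
      (Groth.Agent.Lib.H90Invertible.isInvertible_pullback j hL)
  have hq : Coh.IsQCoh (CohB1.tensorMod F ((Scheme.Modules.pullback j).obj L)) :=
    (Groth.Agent.Lib.CohFinAmple.isCoh_tensorMod hF hL').1
  exact Groth.Agent.S0012.result j _ q

/-- **Serre vanishing passes to finite covers / closed subschemes.** -/
theorem serre_vanishing_of_finite (j : Z ⟶ P) [IsFinite j] (L : ℤ → P.Modules)
    (hL : ∀ d, PicF.IsInvertible (L d))
    (hSV : ∀ G : P.Modules, Coh.IsCoh G → ∃ d₀ : ℤ, ∀ d : ℤ, d₀ ≤ d → ∀ q : ℕ, 0 < q →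
      Subsingleton (Coh.HH P (CohB1.tensorMod G (L d)) q))
    (F : Z.Modules) (hF : Coh.IsCoh F) :
    ∃ d₀ : ℤ, ∀ d : ℤ, d₀ ≤ d → ∀ q : ℕ, 0 < q →
      Subsingleton (Coh.HH Z (CohB1.tensorMod F ((Scheme.Modules.pullback j).obj (L d))) q) := by
  obtain ⟨d₀, hd₀⟩ := hSV _ (Groth.Agent.Lib.H90OXModPushFinite.isCoh_pushforward j F hF)
  refine ⟨d₀, fun d hd q hq => ?_⟩
  obtain ⟨e⟩ := nonempty_HH_twist_equiv j F hF (hL d) q
  have h1 := hd₀ d hd q hq
  have h2 : Subsingleton (Coh.HH P ((Scheme.Modules.pushforward j).obj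
      (CohB1.tensorMod F ((Scheme.Modules.pullback j).obj (L d)))) q) :=
    Groth.Agent.Lib.H4Twist.subsingleton_HH_of_iso
      (Groth.Agent.Lib.H4ProjFormula.projFormulaIso j F (hL d)).symm q
  exact e.injective.subsingleton

end Groth.Agent.Lib.H4SerreVanClosed
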