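import Groth.Agent.Lib.H4KoszulPn
import Groth.Agent.Lib.H4Chase
import Groth.Agent.Lib.CohSigmaFin

/-!
# Castelnuovo–Mumford regularity on `P^n_R` via the Koszul complex (helper4)

* `subsingleton_HH_sigma_fintype` : `H^q` of a finite coproduct vanishes if `H^q` of all summands does;
* `regular_succ` : if `H^i(F(m - i)) = 0` for all `i ≥ 1` then `H^i(F(m + 1 - i)) = 0` for all `i ≥ 1`
  (any module `F` on `P^n_R`, any ring `R`);
* `regular_add`, `regular_of_le` : hence `H^i(F(r)) = 0` for all `i ≥ 1`, `r ≥ m - i`.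
-/

set_option autoImplicit false
universe u
open CategoryTheory CategoryTheory.Limits AlgebraicGeometry

namespace Groth.Agent.Lib.H4Regularity

open Groth.Agent.Lib.CohLES Groth.Agent.Lib.H4Koszul

section Sigma

variable {X : Scheme.{u}}

lemma map_sum {M N : X.Modules} {J : Type*} (s : Finset J) (φ : J → (M ⟶ N)) (q : ℕ)
    (x : Coh.HH X M q) : map (∑ j ∈ s, φ j) q x = ∑ j ∈ s, map (φ j) q x := by
  classical
  induction s using Finset.induction_on with
  | empty => simp [map_zero']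
  | insert a s ha ih => rw [Finset.sum_insert ha, Finset.sum_insert ha, map_add', ih]

/-- `H^q` of a finite coproduct vanishes if `H^q` of all summands does -/
theorem subsingleton_HH_sigma_fintype {J : Type*} [Fintype J] (P : J → X.Modules) (q : ℕ)
    (h : ∀ j, Subsingleton (Coh.HH X (P j) q)) : Subsingleton (Coh.HH X (∐ P) q) := by
  refine subsingleton_of_forall_eq 0 fun x => ?_
  obtain ⟨π, hπ⟩ := Groth.Agent.Lib.CohSigmaFin.exists_total P
  rw [← map_id _ q x, ← hπ, map_sum]
  refine Finset.sum_eq_zero fun j _ => ?_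
  rw [map_comp, Subsingleton.elim (map (π j) q x) 0, _root_.map_zero]

end Sigma

section Pn

variable (n : ℕ) (R : Type u) [CommRing R] (F : (CohB1.ProjSpace n R).Modules)

lemma subsingleton_HH_congr {d d' : ℤ} {q q' : ℕ} (hd : d = d') (hq : q = q')
    (h : Subsingleton (Coh.HH (CohB1.ProjSpace n R)
      (CohB1.tensorMod F (Twist.twistProjSpace n R d)) q)) :
    Subsingleton (Coh.HH (CohB1.ProjSpace n R)
      (CohB1.tensorMod F (Twist.twistProjSpace n R d')) q') := by
  subst hd hq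
  exact h

/-- `H^i(F(t)) = 0` as soon as `H^{i + l - 1}(F(t - l)) = 0` for `l = 1, …, n + 1` (Koszul complex) -/
theorem subsingleton_HH_twist_of_koszul (t : ℤ) (i : ℕ)
    (h : ∀ l : ℕ, 1 ≤ l → l ≤ n + 1 → Subsingleton (Coh.HH (CohB1.ProjSpace n R)
      (CohB1.tensorMod F (Twist.twistProjSpace n R (t - l))) (i + l - 1))) :
    Subsingleton (Coh.HH (CohB1.ProjSpace n R)
      (CohB1.tensorMod F (Twist.twistProjSpace n R t)) i) := by
  obtain ⟨C, hC, hX, hZ⟩ := Groth.Agent.Lib.H4KoszulPn.exists_koszul n R F (t - (n + 1))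
  have htop : Subsingleton (Coh.HH (CohB1.ProjSpace n R) (C.X ((n + 1 : ℕ) : ℤ)) i) := by
    refine Groth.Agent.Lib.H4Chase.subsingleton_HH_top_of_acyclic C hC
      (hZ (-1) (Or.inl (by omega))) (n + 1) i (hZ _ (Or.inr (by push_cast; omega))) ?_
    intro j hj
    obtain ⟨e⟩ := hX j (by omega)
    have h1 := h (n + 1 - j) (by omega) (by omega)
    have h2 := subsingleton_HH_congr n R F
      (show t - ((n + 1 - j : ℕ) : ℤ) = t - (n + 1) + j by
        rw [Nat.cast_sub (by omega)]; push_cast; ring)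
      (show i + (n + 1 - j) - 1 = i + (n + 1 - 1 - j) by omega) h1
    have h3 := subsingleton_HH_sigma_fintype
      (fun _ : Fin (Nat.choose (n + 1) j) =>
        CohB1.tensorMod F (Twist.twistProjSpace n R (t - (n + 1) + j)))
      (i + (n + 1 - 1 - j)) (fun _ => h2)
    exact subsingleton_of_iso e _
  obtain ⟨e⟩ := hX (n + 1) le_rfl
  have e1 : (∐ fun _ : Fin (Nat.choose (n + 1) (n + 1)) =>
      CohB1.tensorMod F (Twist.twistProjSpace n R (t - (n + 1) + ((n + 1 : ℕ) : ℤ)))) ≅
      CohB1.tensorMod F (Twist.twistProjSpace n R t) :=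
    (sigmaConstIso (Nat.choose_self (n + 1)) (eqToIso (by
      congr 2; push_cast; ring))) ≪≫ (sigmaFinOneIso _).symm
  exact (mapEquiv (e ≪≫ e1) i).symm.toEquiv.subsingleton

/-- **Mumford**: if `H^i(F(m - i)) = 0` for all `i ≥ 1`, then `H^i(F(m + 1 - i)) = 0` for all `i ≥ 1`. -/
theorem regular_succ (m : ℤ)
    (h : ∀ i : ℕ, 1 ≤ i → Subsingleton (Coh.HH (CohB1.ProjSpace n R)
      (CohB1.tensorMod F (Twist.twistProjSpace n R (m - i))) i)) :
    ∀ i : ℕ, 1 ≤ i → Subsingleton (Coh.HH (CohB1.ProjSpace n R)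
      (CohB1.tensorMod F (Twist.twistProjSpace n R (m + 1 - i))) i) := by
  intro i hi
  refine subsingleton_HH_twist_of_koszul n R F _ i fun l hl _ => ?_
  exact subsingleton_HH_congr n R F
    (show m - ((i + l - 1 : ℕ) : ℤ) = m + 1 - i - l by
      rw [Nat.cast_sub (by omega)]; push_cast; ring) rfl (h (i + l - 1) (by omega))

theorem regular_add (m : ℤ)
    (h : ∀ i : ℕ, 1 ≤ i → Subsingleton (Coh.HH (CohB1.ProjSpace n R)
      (CohB1.tensorMod F (Twist.twistProjSpace n R (m - i))) i)) (k : ℕ) :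
    ∀ i : ℕ, 1 ≤ i → Subsingleton (Coh.HH (CohB1.ProjSpace n R)
      (CohB1.tensorMod F (Twist.twistProjSpace n R (m + k - i))) i) := by
  induction k with
  | zero =>
    intro i hi
    exact subsingleton_HH_congr n R F (by simp) rfl (h i hi)
  | succ k ih =>
    intro i hi
    exact subsingleton_HH_congr n R F (by push_cast; ring) rfl
      (regular_succ n R F (m + k) ih i hi)

/-- **Castelnuovo–Mumford**: if `H^i(F(m - i)) = 0` for all `i ≥ 1`, then `H^i(F(r)) = 0` for all `i ≥ 1` and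
`r ≥ m - i`. -/
theorem regular_of_le (m : ℤ)
    (h : ∀ i : ℕ, 1 ≤ i → Subsingleton (Coh.HH (CohB1.ProjSpace n R)
      (CohB1.tensorMod F (Twist.twistProjSpace n R (m - i))) i))
    (i : ℕ) (r : ℤ) (hi : 1 ≤ i) (hr : m - i ≤ r) :
    Subsingleton (Coh.HH (CohB1.ProjSpace n R)
      (CohB1.tensorMod F (Twist.twistProjSpace n R r)) i) := by
  obtain ⟨k, hk⟩ := Int.eq_ofNat_of_zero_le (show 0 ≤ r - (m - i) by omega)
  exact subsingleton_HH_congr n R F (by omega) rfl (regular_add n R F m h k i hi)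

end Pn

end Groth.Agent.Lib.H4Regularity
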