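import Groth.Agent.Lib.H43SerreDelta
import Groth.Agent.Lib.H4Regularity

/-!
# Dévissage for the dualizing pairing (helper43)

`X` a scheme over a field `k`, `ω : X.Modules`, `t : H^N(X, ω) → k`, and
`pairL t F : Hom(F, ω) → H^N(X, F)^∨`, `φ ↦ t ∘ H^N(φ)`.

* `injective_of_epi`: injectivity of the pairing passes to quotients;
* `bijective_of_ses`: if `0 → K → E → F → 0` is exact, the pairing is bijective for `E`, injective for `K`
  and `H^N(E) → H^N(F)` is surjective, then the pairing is bijective for `F`;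
* `bijective_sigma`: finite coproducts.
-/

set_option autoImplicit false
universe u

open CategoryTheory Limits AlgebraicGeometry

namespace Groth.Agent.Lib.H43PairingDev

open Groth.Agent.Lib.CohLES Groth.Agent.Lib.H43SerreDelta

variable {k : Type u} [Field k] {X : Scheme.{u}} [X.Over (Spec (CommRingCat.of k))]
  [HasExt.{u} X.Modules] {N : ℕ} {ω : X.Modules} (t : Coh.HH X ω N →ₗ[k] k)

lemma pairL_comp {E F : X.Modules} (π : E ⟶ F) (φ : F ⟶ ω) (x : Coh.HH X E N) :
    pairL t E (π ≫ φ) x = pairL t F φ (map π N x) := by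
  rw [pairL_apply, pairL_apply, map_comp]

lemma injective_of_epi {E F : X.Modules} (π : E ⟶ F) [Epi π]
    (hE : Function.Injective (pairL t E)) : Function.Injective (pairL t F) := by
  rw [injective_iff_map_eq_zero]
  intro φ hφ
  have h1 : pairL t E (π ≫ φ) = 0 := by
    ext x
    rw [pairL_comp, hφ]
    rfl
  have h2 : π ≫ φ = 0 := (injective_iff_map_eq_zero _).1 hE _ h1
  exact (cancel_epi π).1 (by rw [h2, comp_zero])

lemma bijective_of_ses {S : ShortComplex X.Modules} (hS : S.ShortExact)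
    (hK : Function.Injective (pairL t S.X₁)) (hE : Function.Bijective (pairL t S.X₂))
    (hsurj : Function.Surjective (map S.g N)) : Function.Bijective (pairL t S.X₃) := by
  have := hS.epi_g
  refine ⟨injective_of_epi t S.g hE.1, fun ψ => ?_⟩
  obtain ⟨φ₀, hφ₀⟩ := hE.2 (ψ ∘ₗ mapₗ k S.g N)
  have h0 : S.f ≫ φ₀ = 0 := by
    apply hK
    rw [_root_.map_zero]
    ext x
    rw [pairL_comp, hφ₀]
    change ψ (map S.g N (map S.f N x)) = 0
    rw [← map_comp, S.zero, map_zero', _root_.map_zero]
  let φ : S.X₃ ⟶ ω := hS.gIsCokernel.desc (CokernelCofork.ofπ φ₀ h0)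
  have hφ : S.g ≫ φ = φ₀ := hS.gIsCokernel.fac (CokernelCofork.ofπ φ₀ h0) WalkingParallelPair.one
  refine ⟨φ, ?_⟩
  ext y
  obtain ⟨x, rfl⟩ := hsurj y
  rw [← pairL_comp, hφ, hφ₀]
  rfl

lemma bijective_sigma {J : Type u} [Fintype J] (P : J → X.Modules)
    (h : ∀ j, Function.Bijective (pairL t (P j))) : Function.Bijective (pairL t (∐ P)) := by
  constructor
  · rw [injective_iff_map_eq_zero]
    intro φ hφ
    refine Sigma.hom_ext _ _ fun j => ?_
    rw [comp_zero]
    apply (h j).1
    rw [_root_.map_zero]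
    ext x
    rw [pairL_comp, hφ]
    rfl
  · intro ψ
    choose φ hφ using fun j => (h j).2 (ψ ∘ₗ mapₗ k (Sigma.ι P j) N)
    refine ⟨Sigma.desc φ, ?_⟩
    ext x
    obtain ⟨π, hπ⟩ := Groth.Agent.Lib.CohSigmaFin.exists_total P
    have hx : x = ∑ j, map (Sigma.ι P j) N (map (π j) N x) := by
      conv_lhs => rw [← map_id _ N x, ← hπ, Groth.Agent.Lib.H4Regularity.map_sum]
      exact Finset.sum_congr rfl fun j _ => map_comp _ _ N x
    rw [hx, _root_.map_sum, _root_.map_sum]
    refine Finset.sum_congr rfl fun j _ => ?_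
    rw [← pairL_comp, Sigma.ι_desc, hφ]
    rfl

end Groth.Agent.Lib.H43PairingDev
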