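import Groth.Agent.Lib.GrothVanish
import Groth.Agent.Lib.H90InvMono
import Groth.Agent.Lib.CohLESLinear

/-!
# Top cohomology and nonzero maps of invertible modules (helper43)

* `subsingleton_HH_of_support_subset`: on an irreducible Noetherian scheme of dimension `≤ n`, a module
  supported in a proper closed subset has no cohomology in degrees `≥ n`;
* `map_surjective_of_ne_zero`: on an integral Noetherian scheme of dimension `≤ n`, a nonzero map of
  invertible modules is surjective on `H^n`.
-/

set_option autoImplicit false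
universe u

open CategoryTheory CategoryTheory.Limits AlgebraicGeometry TopologicalSpace Opposite

namespace Groth.Agent.Lib.H43PnInj

open Groth.Agent.Lib.H43GV Groth.Agent.Lib.CohLES

variable {X : Scheme.{u}}

/-- a module has no sections over opens disjoint from its support -/
lemma suppIn_support (C : X.Modules) (Z : Set X) (hC : CohB1.support C ⊆ Z) :
    SuppIn (X := X.toTopCat) (Coh.toAb C) Z := by
  intro V hV
  refine ⟨fun s t => ?_⟩
  apply TopCat.Presheaf.section_ext (⟨C.presheaf, C.isSheaf⟩ : TopCat.Sheaf AddCommGrpCat X) V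
  intro x hx
  have hxZ : x ∉ CohB1.support C := fun h => Set.disjoint_left.1 hV hx (hC h)
  have : Subsingleton (C.presheaf.stalk x) := not_not.1 hxZ
  exact Subsingleton.elim _ _

theorem subsingleton_HH_of_support_subset [IsNoetherian X] [IrreducibleSpace X] (n : ℕ)
    (hdim : topologicalKrullDim X ≤ n) (C : X.Modules) (Z : Set X) (hZ : IsClosed Z)
    (hne : Z ≠ Set.univ) (hC : CohB1.support C ⊆ Z) (p : ℕ) (hp : n ≤ p) :
    Subsingleton (Coh.HH X C p) := by
  have : NoetherianSpace X.toTopCat := inferInstanceAs (NoetherianSpace X)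
  have : IrreducibleSpace X.toTopCat := inferInstanceAs (IrreducibleSpace X)
  have h1 : topologicalKrullDim X.toTopCat < ((n + 1 : ℕ) : WithBot ℕ∞) := by
    refine lt_of_le_of_lt hdim ?_
    exact_mod_cast Nat.lt_succ_self n
  have h2 : topologicalKrullDim (TopCat.of Z) < (n : WithBot ℕ∞) :=
    topologicalKrullDim_lt_of_isClosed_ne_univ (X := X.toTopCat) Z hZ hne n h1
  have : NoetherianSpace (TopCat.of Z) := inferInstanceAs (NoetherianSpace Z)
  exact vanGE_of_suppIn_closed (X := X.toTopCat) Z hZ (Coh.toAb C) (suppIn_support C Z hC) n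
    (fun G' => main n (TopCat.of Z) h2 G') p hp

/-- **A nonzero map of invertible modules is surjective on top cohomology.** -/
theorem map_surjective_of_ne_zero [IsIntegral X] [IsNoetherian X] (n : ℕ)
    (hdim : topologicalKrullDim X ≤ n) {L ω : X.Modules} (hL : PicF.IsInvertible L)
    (hω : PicF.IsInvertible ω) (φ : L ⟶ ω) (hφ : φ ≠ 0) :
    Function.Surjective (map φ n) := by
  have hmono : Mono φ := Groth.Agent.Lib.H90InvMono.mono_of_ne_zero hL hω φ hφ
  let S : ShortComplex X.Modules := ShortComplex.mk φ (cokernel.π φ) (cokernel.condition φ)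
  have hS : S.ShortExact :=
    ShortComplex.ShortExact.mk' (ShortComplex.exact_cokernel φ) hmono
      (inferInstance : Epi (cokernel.π φ))
  have hcl : IsClosed (CohB1.support (cokernel φ)) :=
    Groth.Agent.Lib.ModStalk.isClosed_support_of_isFT _
      (Groth.Agent.Lib.H90InvMono.isCoh_cokernel_of_isInvertible hL hω φ).2
  have hne : CohB1.support (cokernel φ) ≠ Set.univ := fun h =>
    Groth.Agent.Lib.H90InvMono.genericPoint_notMem_support_cokernel hL hω φ hφ
      (by rw [h]; trivial)
  have hvan : Subsingleton (Coh.HH X (cokernel φ) n) :=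
    subsingleton_HH_of_support_subset n hdim (cokernel φ) _ hcl hne subset_rfl n le_rfl
  intro x
  obtain ⟨y, hy⟩ := exact₂ hS n x (Subsingleton.elim _ _)
  exact ⟨y, hy⟩

end Groth.Agent.Lib.H43PnInj
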