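import Groth.Agent.Lib.H4KoszulPn
import Groth.Prelude.Def_KLin

/-!
# Multiplication by a homogeneous element as a morphism of twists (helper43)

* `mulHomDeg hb d e h : O(d) ⟶ O(e)` for `b ∈ 𝒜 m`, `d + m = e`;
* on projective space over a ring `R`: `mulLin n R m d e h : 𝒜 m →ₗ[R] (O(d) ⟶ O(e))`, injective.
-/

set_option autoImplicit false
universe u
open CategoryTheory CategoryTheory.Limits AlgebraicGeometry TopologicalSpace Opposite Twist
open Groth.Agent.Lib.H90Invertible Groth.Agent.Lib.H4TensorPair Groth.Agent.Lib.H4Twist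

namespace Groth.Agent.Lib.H43TwistMulHom

variable {R A : Type u} [CommRing R] [CommRing A] [Algebra R A] {𝒜 : ℕ → Submodule R A} [GradedAlgebra 𝒜]

section MulHom

variable {b : A} {m : ℕ} (hb : b ∈ 𝒜 m)

/-- the restriction to `U` of the global section `b / 1` of `O(m)` -/
noncomputable def bSec (U : (Proj 𝒜).Opens) : Γ(twist 𝒜 (m : ℤ), U) :=
  (twist 𝒜 (m : ℤ)).presheaf.map (homOfLE (le_top : U ≤ ⊤)).op (numSec hb (m : ℤ) rfl)

@[simp] lemma sval_bSec (U : (Proj 𝒜).Opens) (x : U) : sval (bSec hb U) x = Localization.mk b 1 := rfl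

/-- multiplication by `b ∈ 𝒜 m`, as a morphism `O(d) ⟶ O(e)`, `d + m = e` -/
noncomputable def mulHomDeg (d e : ℤ) (h : d + (m : ℤ) = e) : twist 𝒜 d ⟶ twist 𝒜 e :=
  Groth.Agent.Lib.H4ModHom.homOfSections
    (fun U s => mulSec h s (bSec hb U))
    (fun U a b => sec_ext fun x => by simp only [sval_mulSec, sval_add]; ring)
    (fun U r a => sec_ext fun x => by simp only [sval_mulSec, sval_smul]; ring)
    (fun {U V} h a => sec_ext fun x => rfl)

@[simp] lemma sval_mulHomDeg_app (d e : ℤ) (h : d + (m : ℤ) = e) (U : (Proj 𝒜).Opens)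
    (s : Γ(twist 𝒜 d, U)) (x : U) :
    sval ((mulHomDeg hb d e h).app U s) x = sval s x * Localization.mk b 1 := rfl

end MulHom

section ProjSpace

open MvPolynomial

variable (n : ℕ) (R : Type u) [CommRing R]

local notation "𝒜" => CohB1.polyGrading n R

/-- multiplication by homogeneous polynomials of degree `m`, as an `R`-linear map into
`Hom(O(d), O(e))`, `d + m = e` -/
noncomputable def mulLin (m : ℕ) (d e : ℤ) (h : d + (m : ℤ) = e) :
    ↥(𝒜 m) →ₗ[R] (Twist.twistProjSpace n R d ⟶ Twist.twistProjSpace n R e) where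
  toFun b := mulHomDeg b.2 d e h
  map_add' b b' := by
    refine Scheme.Modules.hom_ext _ _ fun U => ?_
    ext s
    refine sec_ext fun x => ?_
    change sval s x * Localization.mk ((b : MvPolynomial (Fin (n + 1)) R) + b') 1 =
      sval s x * Localization.mk (b : MvPolynomial (Fin (n + 1)) R) 1 +
        sval s x * Localization.mk (b' : MvPolynomial (Fin (n + 1)) R) 1
    rw [← mul_add, Localization.add_mk_self]
  map_smul' r b := by
    refine Scheme.Modules.hom_ext _ _ fun U => ?_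
    ext s
    refine Eq.trans ?_ (KLin.smul_app_apply (X := CohB1.ProjSpace n R) r
      (mulHomDeg b.2 d e h : Twist.twistProjSpace n R d ⟶ Twist.twistProjSpace n R e) U s).symm
    refine sec_ext fun x => ?_
    refine Eq.trans ?_ (sval_smul _ _ x).symm
    change sval s x * Localization.mk (r • (b : MvPolynomial (Fin (n + 1)) R)) 1 =
      oval (show Γ(Proj 𝒜, ⊤) from Coh.toGlobal (structMap 𝒜) r) ⟨x.1, trivial⟩ *
        (sval s x * Localization.mk (b : MvPolynomial (Fin (n + 1)) R) 1)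
    rw [oval_toGlobal, mul_left_comm, Localization.mk_mul, mul_one, ← Algebra.smul_def]

theorem mulLin_apply (m : ℕ) (d e : ℤ) (h : d + (m : ℤ) = e) (b : ↥(𝒜 m)) :
    mulLin n R m d e h b = mulHomDeg b.2 d e h := rfl

theorem mulLin_injective (m : ℕ) (d e : ℤ) (h : d + (m : ℤ) = e) :
    Function.Injective (mulLin n R m d e h) := by
  rw [injective_iff_map_eq_zero]
  intro b hb
  apply Subtype.ext
  have hX0 := ProjSpaceCover.X_mem n R 0
  refine eq_of_forall_mk_eq n R 0 0 m _ _ b.2 (Submodule.zero_mem _) ?_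
  intro x hx _
  have hU : ∀ y : Proj.basicOpen 𝒜 (X 0 : MvPolynomial (Fin (n + 1)) R),
      (X 0 : MvPolynomial (Fin (n + 1)) R) ∉ y.1.asHomogeneousIdeal := fun y => y.2
  have h1 := congrArg (fun φ : Twist.twistProjSpace n R d ⟶ Twist.twistProjSpace n R e =>
    sval (φ.app (Proj.basicOpen 𝒜 (X 0 : MvPolynomial (Fin (n + 1)) R))
      (genAt hX0 hU d d (by simp))) ⟨x, hx⟩) hb
  change sval (genAt hX0 hU d d _) ⟨x, hx⟩ * Localization.mk (b : MvPolynomial (Fin (n + 1)) R) 1 =
    sval (0 : Γ(twist 𝒜 e, Proj.basicOpen 𝒜 (X 0 : MvPolynomial (Fin (n + 1)) R))) ⟨x, hx⟩ at h1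
  rw [sval_zero] at h1
  rw [sval_genAt] at h1
  have h2 := (Units.isUnit (fUnit x (X 0 : MvPolynomial (Fin (n + 1)) R) hx ^ d)).mul_right_eq_zero.1
    h1
  rw [h2]
  exact (Localization.mk_zero _).symm

end ProjSpace

end Groth.Agent.Lib.H43TwistMulHom
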