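import Groth.Agent.Lib.H4CechContract
import Groth.Agent.Lib.CechLES
import Mathlib.LinearAlgebra.Matrix.ToLinearEquiv
import Mathlib.GroupTheory.Perm.Sign

/-!
# Top Čech cohomology of the full Čech complex of a cover by `n + 1` opens (helper4, CohChain W5)

* `exists_homology_equiv_of_retraction`: a criterion identifying `K.homology n` of a cochain complex of abelian
  groups with a group `T` through a map `ψ : K.X n →+ T` killing coboundaries, surjective on cocycles and whose
  kernel on cocycles consists of coboundaries.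
* `sgnT`, `sum_sgnT_face`: the "determinant" cocycle on `(n+1)`-tuples of a type with `n + 1` elements.
* `eq_zero_of_dL_eq_zero`: a cocycle on `(n+1)`-tuples vanishing on non-injective tuples and on one bijective tuple
  is zero.
* `exists_cechH_equiv`: the top Čech cohomology `Ȟ^n` for a cover indexed by a type with `n + 1` elements in terms
  of the "shadow" `ρ` in a group `L` of Laurent-like expansions.
-/

universe w v u

open CategoryTheory Limits Opposite

namespace Groth.Agent.Lib.H4CechTop

open Groth.Agent.Lib.CechLow Groth.Agent.Lib.CechContract9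

section Homology

variable (K : CochainComplex AddCommGrpCat.{w} ℕ) (n : ℕ)

lemma homologyπ_surjective : Function.Surjective (K.homologyπ n) :=
  (AddCommGrpCat.epi_iff_surjective _).mp inferInstance

lemma iCycles_injective : Function.Injective (K.iCycles n) :=
  (AddCommGrpCat.mono_iff_injective _).mp inferInstance

lemma d_iCycles_apply (z : K.cycles n) : K.d n (n + 1) (K.iCycles n z) = 0 := by
  rw [← ConcreteCategory.comp_apply, K.iCycles_d]
  rfl

lemma exists_cycle (x : K.X n) (hx : K.d n (n + 1) x = 0) : ∃ z : K.cycles n, K.iCycles n z = x := by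
  let A : AddCommGrpCat.{w} := AddCommGrpCat.of (AddMonoidHom.ker (K.d n (n + 1)).hom)
  let k : A ⟶ K.X n := AddCommGrpCat.ofHom (AddMonoidHom.ker (K.d n (n + 1)).hom).subtype
  have hk : k ≫ K.d n (n + 1) = 0 := by
    ext ⟨y, hy⟩
    exact hy
  refine ⟨K.liftCycles k (n + 1) (by simp) hk ⟨x, hx⟩, ?_⟩
  rw [← ConcreteCategory.comp_apply, K.liftCycles_i]
  rfl

lemma homologyπ_toCycles_apply (i : ℕ) (y : K.X i) : K.homologyπ n (K.toCycles i n y) = 0 := by
  rw [← ConcreteCategory.comp_apply, K.toCycles_comp_homologyπ]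
  rfl

lemma iCycles_toCycles_apply (i : ℕ) (y : K.X i) : K.iCycles n (K.toCycles i n y) = K.d i n y := by
  rw [← ConcreteCategory.comp_apply, K.toCycles_i]

/-- A criterion identifying the homology of a cochain complex of abelian groups. -/
theorem exists_homology_equiv_of_retraction {T : Type w} [AddCommGroup T] (ψ : K.X n →+ T)
    (ha : ∀ (i : ℕ) (y : K.X i), ψ (K.d i n y) = 0)
    (hb : ∀ x : K.X n, K.d n (n + 1) x = 0 → ψ x = 0 → ∃ (i : ℕ) (y : K.X i), K.d i n y = x)
    (hc : ∀ t : T, ∃ x : K.X n, K.d n (n + 1) x = 0 ∧ ψ x = t) :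
    ∃ Φ : K.homology n ≃+ T, ∀ z : K.cycles n, Φ (K.homologyπ n z) = ψ (K.iCycles n z) := by
  let i₀ := (ComplexShape.up ℕ).prev n
  let k : K.cycles n ⟶ AddCommGrpCat.of T := K.iCycles n ≫ AddCommGrpCat.ofHom ψ
  have hk : K.toCycles i₀ n ≫ k = 0 := by
    rw [K.toCycles_i_assoc]
    ext y
    exact ha i₀ y
  let Φh : K.homology n ⟶ AddCommGrpCat.of T :=
    (K.homologyIsCokernel i₀ n rfl).desc (CokernelCofork.ofπ k hk)
  have hΦ : K.homologyπ n ≫ Φh = k :=
    (K.homologyIsCokernel i₀ n rfl).fac (CokernelCofork.ofπ k hk) WalkingParallelPair.one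
  have hΦ' : ∀ z : K.cycles n, Φh (K.homologyπ n z) = ψ (K.iCycles n z) := by
    intro z
    have := ConcreteCategory.congr_hom hΦ z
    rw [ConcreteCategory.comp_apply] at this
    exact this
  have hinj : Function.Injective Φh := by
    rw [injective_iff_map_eq_zero]
    intro h hh
    obtain ⟨z, rfl⟩ := homologyπ_surjective K n h
    rw [hΦ'] at hh
    obtain ⟨i, y, hy⟩ := hb _ (d_iCycles_apply K n z) hh
    have hz : z = K.toCycles i n y := by
      apply iCycles_injective K n
      rw [iCycles_toCycles_apply, hy]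
    rw [hz, homologyπ_toCycles_apply]
  have hsurj : Function.Surjective Φh := by
    intro t
    obtain ⟨x, hx, hxt⟩ := hc t
    obtain ⟨z, hz⟩ := exists_cycle K n x hx
    exact ⟨K.homologyπ n z, by rw [hΦ', hz, hxt]⟩
  exact ⟨AddEquiv.ofBijective Φh.hom ⟨hinj, hsurj⟩, hΦ'⟩

/-- Compatibility of the homology class map with endomorphisms of the complex. -/
lemma homologyMap_homologyπ_apply {K' : CochainComplex AddCommGrpCat.{w} ℕ} (f : K ⟶ K')
    (z : K.cycles n) :
    HomologicalComplex.homologyMap f n (K.homologyπ n z) =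
      K'.homologyπ n (HomologicalComplex.cyclesMap f n z) := by
  rw [← ConcreteCategory.comp_apply, ← ConcreteCategory.comp_apply,
    HomologicalComplex.homologyπ_naturality]

lemma iCycles_cyclesMap_apply {K' : CochainComplex AddCommGrpCat.{w} ℕ} (f : K ⟶ K')
    (z : K.cycles n) :
    K'.iCycles n (HomologicalComplex.cyclesMap f n z) = f.f n (K.iCycles n z) := by
  rw [← ConcreteCategory.comp_apply, ← ConcreteCategory.comp_apply,
    HomologicalComplex.cyclesMap_i]

end Homology


section Sign

variable {ι : Type w} {n : ℕ} (e : ι ≃ Fin (n + 1))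

/-- The "determinant" of an `(n+1)`-tuple of elements of a type with `n + 1` elements: the sign of the tuple if it is
bijective, `0` otherwise. -/
noncomputable def sgnT (a : Fin (n + 1) → ι) : ℤ :=
  Matrix.det (Matrix.of fun (k c : Fin (n + 1)) => if e (a k) = c then (1 : ℤ) else 0)

lemma sgnT_symm : sgnT e (fun k => e.symm k) = 1 := by
  unfold sgnT
  have : (Matrix.of fun (k c : Fin (n + 1)) => if e (e.symm k) = c then (1 : ℤ) else 0) = 1 := by
    ext k c
    simp [Matrix.one_apply]
  rw [this, Matrix.det_one]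

lemma sgnT_eq_zero (a : Fin (n + 1) → ι) (ha : ¬ Function.Surjective a) : sgnT e a = 0 := by
  unfold sgnT
  rw [Function.Surjective] at ha
  push Not at ha
  obtain ⟨c, hc⟩ := ha
  refine Matrix.det_eq_zero_of_column_eq_zero (e c) fun k => ?_
  simp only [Matrix.of_apply]
  rw [if_neg]
  intro h
  exact hc k (e.injective h)

lemma sum_sgnT_face (b : Fin (n + 2) → ι) :
    ∑ j : Fin (n + 2), (-1 : ℤ) ^ (j : ℕ) * sgnT e (face j b) = 0 := by
  let A : Matrix (Fin (n + 2)) (Fin (n + 2)) ℤ :=
    Matrix.of fun i c => Fin.cases (1 : ℤ) (fun c' => if e (b i) = c' then (1 : ℤ) else 0) c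
  have hdet : A.det = 0 := by
    rw [← Matrix.exists_mulVec_eq_zero_iff]
    refine ⟨Fin.cases (1 : ℤ) (fun _ => -1), ?_, ?_⟩
    · intro h
      have := congrFun h 0
      simp at this
    · funext i
      simp only [Matrix.mulVec, dotProduct, Pi.zero_apply]
      rw [Fin.sum_univ_succ]
      simp only [A, Matrix.of_apply, Fin.cases_zero, Fin.cases_succ, mul_one, mul_neg,
        Finset.sum_neg_distrib, Finset.sum_ite_eq, Finset.mem_univ, if_true]
      ring
  rw [Matrix.det_succ_column_zero] at hdet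
  rw [← hdet]
  refine Finset.sum_congr rfl fun j _ => ?_
  have h1 : A j 0 = 1 := rfl
  rw [h1, mul_one]
  congr 1

end Sign


section Alt

variable {ι : Type w} {L : Type*} [AddCommGroup L] {n : ℕ}

/-- A cocycle vanishing on non-injective tuples: the two faces of a tuple along a repeated entry. -/
lemma pair_of_dL_eq_zero (G : (Fin (n + 1) → ι) → L) (hG : dL G = 0)
    (hdeg : ∀ a, ¬ Function.Injective a → G a = 0) (b : Fin (n + 2) → ι) (p q : Fin (n + 2))
    (hpq : p ≠ q) (hb : b p = b q) :
    (-1 : ℤ) ^ (p : ℕ) • G (face p b) + (-1 : ℤ) ^ (q : ℕ) • G (face q b) = 0 := by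
  have h := congrFun hG b
  simp only [dL, Pi.zero_apply] at h
  rw [← h]
  symm
  apply Finset.sum_eq_add p q hpq
  · intro i _ hi
    have hz : G (face i b) = 0 := by
      apply hdeg
      intro hinj
      obtain ⟨p', hp'⟩ := Fin.exists_succAbove_eq hi.1.symm
      obtain ⟨q', hq'⟩ := Fin.exists_succAbove_eq hi.2.symm
      have : face i b p' = face i b q' := by
        simp only [face, hp', hq', hb]
      have hpq' := hinj this
      apply hpq
      rw [← hp', ← hq', hpq']
    rw [hz, smul_zero]
  · intro hp; exact absurd (Finset.mem_univ p) hp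
  · intro hq; exact absurd (Finset.mem_univ q) hq

/-- the auxiliary tuple `(0, 1, …, j, j+1, j, j+2, …, n)`, on values -/
def swapAuxVal (j k : ℕ) : ℕ := if k = j + 2 then j else if k < j + 2 then k else k - 1

lemma swapAuxVal_lt (j : Fin n) (k : Fin (n + 1 + 1)) : swapAuxVal j k < n + 1 := by
  unfold swapAuxVal
  split_ifs <;> omega

/-- the auxiliary tuple `(0, 1, …, j, j+1, j, j+2, …, n)` -/
def swapAux (j : Fin n) (k : Fin (n + 1 + 1)) : Fin (n + 1) := ⟨swapAuxVal j k, swapAuxVal_lt j k⟩

lemma face_swapAux_succ_succ (j : Fin n) : face (j.succ.succ) (swapAux j) = id := by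
  funext k
  apply Fin.ext
  simp only [face, swapAux, swapAuxVal, Fin.succAbove, Fin.lt_def, Fin.val_castSucc, Fin.val_succ, id]
  split_ifs <;> simp only [Fin.val_castSucc, Fin.val_succ] at * <;> omega

lemma face_swapAux_castSucc_castSucc (j : Fin n) :
    face (j.castSucc.castSucc) (swapAux j) = Equiv.swap j.castSucc j.succ := by
  funext k
  apply Fin.ext
  rw [Equiv.swap_apply_def]
  simp only [face, swapAux, swapAuxVal, Fin.succAbove, Fin.lt_def, Fin.val_castSucc, Fin.val_succ,
    Fin.ext_iff]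
  split_ifs <;> simp only [Fin.val_castSucc, Fin.val_succ] at * <;> omega

lemma swapAux_eq (j : Fin n) : swapAux j j.succ.succ = swapAux j j.castSucc.castSucc := by
  apply Fin.ext
  simp only [swapAux, swapAuxVal, Fin.val_castSucc, Fin.val_succ]
  split_ifs <;> omega

lemma face_comp {m : ℕ} {α : Type*} (i : Fin (m + 2)) (f : Fin (m + 2) → Fin (m + 1)) (a : Fin (m + 1) → α) :
    face i (a ∘ f) = a ∘ face i f := rfl

/-- A cocycle vanishing on non-injective tuples is alternating under adjacent transpositions. -/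
lemma swap_of_dL_eq_zero (G : (Fin (n + 1) → ι) → L) (hG : dL G = 0)
    (hdeg : ∀ a, ¬ Function.Injective a → G a = 0) (a : Fin (n + 1) → ι) (j : Fin n) :
    G (a ∘ Equiv.swap j.castSucc j.succ) = -G a := by
  have hne : (j.castSucc.castSucc : Fin (n + 2)) ≠ j.succ.succ := by
    intro h
    have := congrArg Fin.val h
    simp only [Fin.val_castSucc, Fin.val_succ] at this
    omega
  have h := pair_of_dL_eq_zero G hG hdeg (a ∘ swapAux j) j.castSucc.castSucc j.succ.succ hne
    (by simp only [Function.comp_apply, swapAux_eq])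
  rw [face_comp, face_comp, face_swapAux_succ_succ, face_swapAux_castSucc_castSucc] at h
  simp only [Fin.val_castSucc, Fin.val_succ, Function.comp_id] at h
  rw [pow_succ, pow_succ, mul_neg_one, mul_neg_one, neg_neg, ← smul_add] at h
  have h2 : G (a ∘ ⇑(Equiv.swap j.castSucc j.succ)) + G a = 0 := by
    have := congrArg (fun x => (-1 : ℤ) ^ (j : ℕ) • x) h
    simp only [smul_smul, smul_zero] at this
    rw [← pow_add, ← two_mul, pow_mul] at this
    simpa using this
  exact eq_neg_of_add_eq_zero_left h2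

/-- A cocycle vanishing on non-injective tuples vanishes on `a ∘ π` as soon as it vanishes on `a`. -/
lemma perm_of_dL_eq_zero (G : (Fin (n + 1) → ι) → L) (hG : dL G = 0)
    (hdeg : ∀ a, ¬ Function.Injective a → G a = 0) (π : Equiv.Perm (Fin (n + 1))) :
    ∀ a : Fin (n + 1) → ι, G a = 0 → G (a ∘ π) = 0 := by
  have hmem : π ∈ Submonoid.closure (Set.range fun i : Fin n => Equiv.swap i.castSucc i.succ) := by
    rw [Equiv.Perm.mclosure_swap_castSucc_succ]
    exact Submonoid.mem_top π
  induction hmem using Submonoid.closure_induction with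
  | mem π hπ =>
    obtain ⟨j, rfl⟩ := hπ
    intro a ha
    rw [swap_of_dL_eq_zero G hG hdeg a j, ha, neg_zero]
  | one => intro a ha; exact ha
  | mul π π' _ _ h h' =>
    intro a ha
    have : a ∘ ⇑(π * π') = (a ∘ ⇑π) ∘ ⇑π' := rfl
    rw [this]
    exact h' _ (h a ha)

/-- A cocycle on `(n+1)`-tuples of a type with `n + 1` elements which vanishes on the non-surjective tuples and on one
bijective tuple is zero. -/
theorem eq_zero_of_dL_eq_zero (e : ι ≃ Fin (n + 1)) (G : (Fin (n + 1) → ι) → L) (hG : dL G = 0)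
    (hdeg : ∀ a, ¬ Function.Surjective a → G a = 0) (h0 : G (fun k => e.symm k) = 0) : G = 0 := by
  have hfin : Finite ι := Finite.of_equiv _ e.symm
  have hbij : ∀ a : Fin (n + 1) → ι, Function.Injective a ↔ Function.Surjective a := by
    intro a
    have := Finite.injective_iff_surjective (f := fun k => e (a k))
    constructor
    · intro h
      have h2 := this.mp (e.injective.comp h)
      intro c
      obtain ⟨k, hk⟩ := h2 (e c)
      exact ⟨k, e.injective hk⟩
    · intro h
      have h2 : Function.Surjective fun k => e (a k) := e.surjective.comp h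
      have h3 := this.mpr h2
      intro k k' hkk
      exact h3 (congrArg e hkk)
  funext a
  by_cases ha : Function.Surjective a
  · have hinj := (hbij a).mpr ha
    let π : Equiv.Perm (Fin (n + 1)) := Equiv.ofBijective (fun k => e (a k))
      ⟨e.injective.comp hinj, e.surjective.comp ha⟩
    have hcomp : a = (fun k => e.symm k) ∘ ⇑π := by
      funext k
      simp [π]
    rw [hcomp]
    exact perm_of_dL_eq_zero G hG (fun a h => hdeg a (fun hs => h ((hbij a).mpr hs))) π _ h0
  · exact hdeg a ha

end Alt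


section Main

variable {D : Type u} [Category.{v} D] [HasFiniteProducts D]
  {ι : Type w} (Y : ι → D) (P : Dᵒᵖ ⥤ AddCommGrpCat.{w})
  {L : Type w} [AddCommGroup L]
  (ρ : ∀ V : D, P.obj (op V) →+ L)
  (G : D → Prop) (hG : ∀ (n : ℕ) (a : Fin (n + 1) → ι), G (obj Y a))
  (hρ : ∀ (V W : D) (h : W ⟶ V), G V → G W → ∀ x : P.obj (op V), ρ W (P.map h.op x) = ρ V x)
  (N : ι → AddMonoid.End L)

include hG hρ in
/-- **Top Čech cohomology** of the full Čech complex for a family indexed by a type with `n + 1` elements, in terms of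
a shadow `ρ` with values in `L` and commuting projections `N c` of `L`: `Ȟ^n ≃ T`, the class of a cocycle `x` being sent
to `(∏ N c) (ρ (x at the bijective tuple e.symm))`. -/
theorem exists_cechH_equiv {n : ℕ} (e : ι ≃ Fin (n + 1)) (T : AddSubgroup L) (cs : List ι)
    (hinj : ∀ (m : ℕ) (a : Fin (m + 1) → ι), Function.Injective (ρ (obj Y a)))
    (h2 : ∀ c ∈ cs, ∀ (m : ℕ) (a : Fin (m + 1) → ι),
      ∀ y ∈ (ρ (obj Y (Fin.cons c a : Fin (m + 2) → ι))).range, y - N c y ∈ (ρ (obj Y a)).range)
    (h3 : ∀ (m : ℕ) (a : Fin (m + 1) → ι), ¬ Function.Surjective a →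
      ∀ y ∈ (ρ (obj Y a)).range, (cs.map N).prod y = 0)
    (hT1 : ∀ (a : Fin (n + 1) → ι), ∀ y ∈ (ρ (obj Y a)).range, (cs.map N).prod y ∈ T)
    (hT2 : ∀ t ∈ T, ∀ (a : Fin (n + 1) → ι), Function.Surjective a → t ∈ (ρ (obj Y a)).range)
    (hT3 : ∀ t ∈ T, (cs.map N).prod t = t)
    (h0 : n = 0 → ∀ (a : Fin (n + 1) → ι), ∀ y ∈ (ρ (obj Y a)).range, (cs.map N).prod y = y) :
    ∃ Φ : ((cechComplexFunctor Y).obj P).homology n ≃+ T,
      ∀ z : ((cechComplexFunctor Y).obj P).cycles n,
        (Φ (((cechComplexFunctor Y).obj P).homologyπ n z) : L) =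
          (cs.map N).prod
            (shadow Y P ρ (((cechComplexFunctor Y).obj P).iCycles n z) (fun k => e.symm k)) := by
  classical
  set K := (cechComplexFunctor Y).obj P with hK
  set a₀ : Fin (n + 1) → ι := fun k => e.symm k with ha₀
  let ψ : K.X n →+ T := AddMonoidHom.mk'
    (fun x => ⟨(cs.map N).prod (shadow Y P ρ x a₀), hT1 a₀ _ (shadow_mem Y P ρ x a₀)⟩) (by
      intro x y
      apply Subtype.ext
      simp only [shadow, map_add, AddSubgroup.coe_add])
  have hψ : ∀ x, (ψ x : L) = (cs.map N).prod (shadow Y P ρ x a₀) := fun x => rfl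
  have hdd : ∀ (p : ℕ) (y : K.X p), K.d (p + 1) (p + 2) (K.d p (p + 1) y) = 0 := by
    intro p y
    rw [← ConcreteCategory.comp_apply, K.d_comp_d]
    rfl
  have ha : ∀ (i : ℕ) (y : K.X i), ψ (K.d i n y) = 0 := by
    intro i y
    by_cases h : i + 1 = n
    · subst h
      apply Subtype.ext
      rw [hψ, Groth.Agent.Lib.H4CechContract.shadow_d Y P ρ G hG hρ y]
      simp only [dL, map_sum, map_zsmul, AddSubgroup.coe_zero]
      refine Finset.sum_eq_zero fun j _ => ?_
      rw [h3 i (face j a₀) ?_ _ (shadow_mem Y P ρ y _), smul_zero]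
      intro hs
      have hs' : Function.Surjective fun k => e (face j a₀ k) := e.surjective.comp hs
      have := Fintype.card_le_of_surjective _ hs'
      simp only [Fintype.card_fin] at this
      omega
    · have : K.d i n = 0 := K.shape _ _ h
      rw [this]
      exact map_zero ψ
  have hb : ∀ x : K.X n, K.d n (n + 1) x = 0 → ψ x = 0 → ∃ (i : ℕ) (y : K.X i), K.d i n y = x := by
    intro x hx hψx
    have hψx' : (cs.map N).prod (shadow Y P ρ x a₀) = 0 := by
      rw [← hψ, hψx]; rfl
    rcases n with _ | p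
    · refine ⟨0, 0, ?_⟩
      rw [map_zero]
      symm
      apply shadow_injective Y P ρ (hinj 0)
      rw [shadow_zero]
      funext a
      have haa : a = a₀ := by
        funext k
        apply e.injective
        exact Fin.ext (by omega)
      rw [haa, Pi.zero_apply, ← h0 rfl a₀ _ (shadow_mem Y P ρ x a₀), hψx']
    · obtain ⟨y, hy⟩ := Groth.Agent.Lib.H4CechContract.exists_steps Y P ρ G hG hρ N cs
        (fun c hc a => h2 c hc p a) x hx
      refine ⟨p, y, ?_⟩
      symm
      apply eq_of_sub_eq_zero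
      apply shadow_injective Y P ρ (hinj (p + 1))
      rw [shadow_zero]
      apply eq_zero_of_dL_eq_zero e
      · rw [← Groth.Agent.Lib.H4CechContract.shadow_d Y P ρ G hG hρ, map_sub, hx, hdd, sub_zero,
          shadow_zero]
      · intro a ha
        rw [hy]
        exact h3 (p + 1) a ha _ (shadow_mem Y P ρ x a)
      · rw [hy]
        exact hψx'
  have hc : ∀ t : T, ∃ x : K.X n, K.d n (n + 1) x = 0 ∧ ψ x = t := by
    intro t
    obtain ⟨x, hx⟩ := exists_shadow_eq Y P ρ (fun a => sgnT e a • (t : L)) (by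
      intro a
      by_cases ha : Function.Surjective a
      · exact AddSubgroup.zsmul_mem _ (hT2 t t.2 a ha) _
      · rw [sgnT_eq_zero e a ha, zero_smul]
        exact AddSubgroup.zero_mem _)
    refine ⟨x, ?_, ?_⟩
    · apply shadow_injective Y P ρ (hinj (n + 1))
      rw [shadow_zero, Groth.Agent.Lib.H4CechContract.shadow_d Y P ρ G hG hρ, hx]
      funext b
      simp only [dL, Pi.zero_apply, smul_smul]
      rw [← Finset.sum_smul, sum_sgnT_face, zero_smul]
    · apply Subtype.ext
      rw [hψ, hx]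
      simp only [ha₀, sgnT_symm, one_smul]
      exact hT3 t t.2
  obtain ⟨Φ, hΦ⟩ := exists_homology_equiv_of_retraction K n ψ ha hb hc
  exact ⟨Φ, fun z => by rw [hΦ z, hψ]⟩

/-- Compatibility of an identification as in `exists_cechH_equiv` with endomorphisms of the presheaf. -/
theorem cechH_equiv_map {n : ℕ} (a₀ : Fin (n + 1) → ι) {T : AddSubgroup L} (E : AddMonoid.End L)
    (Φ : ((cechComplexFunctor Y).obj P).homology n ≃+ T)
    (hΦ : ∀ z : ((cechComplexFunctor Y).obj P).cycles n,
        (Φ (((cechComplexFunctor Y).obj P).homologyπ n z) : L) =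
          E (shadow Y P ρ (((cechComplexFunctor Y).obj P).iCycles n z) a₀))
    (φ : P ⟶ P) (lam : L →+ L)
    (h1 : ∀ s : P.obj (op (obj Y a₀)), ρ (obj Y a₀) (φ.app (op (obj Y a₀)) s) = lam (ρ (obj Y a₀) s))
    (h2 : ∀ y, E (lam y) = lam (E y))
    (h : ((cechComplexFunctor Y).obj P).homology n) :
    (Φ (HomologicalComplex.homologyMap ((cechComplexFunctor Y).map φ) n h) : L) = lam (Φ h) := by
  obtain ⟨z, rfl⟩ := homologyπ_surjective _ n h
  rw [homologyMap_homologyπ_apply, hΦ, hΦ, iCycles_cyclesMap_apply]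
  unfold shadow
  rw [Groth.Agent.Lib.CechLES.comp_map_apply, h1, h2]

end Main


section Top

open TopologicalSpace

variable {X : TopCat.{u}} {ι : Type u} (U : ι → Opens X)

/-- **Top Čech cohomology** (topological version): for a cover `U` indexed by a type with `n + 1` elements,
`Ȟ^n(U, P) ≃ T`, compatibly with every endomorphism `φ` of `P` whose effect on shadows is an endomorphism `lam` of
`L` commuting with the projection `∏ N c`. -/
theorem exists_cechH_equiv_top (P : (Opens X)ᵒᵖ ⥤ AddCommGrpCat.{u})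
    {L : Type u} [AddCommGroup L] (ρ : ∀ V : Opens X, P.obj (op V) →+ L)
    (G : Opens X → Prop) (hG : ∀ (n : ℕ) (a : Fin (n + 1) → ι), G (⨅ k, U (a k)))
    (hρ : ∀ (V W : Opens X) (h : W ≤ V), G V → G W → ∀ x : P.obj (op V),
      ρ W (P.map (homOfLE h).op x) = ρ V x)
    (N : ι → AddMonoid.End L) {n : ℕ} (e : ι ≃ Fin (n + 1)) (T : AddSubgroup L) (cs : List ι)
    (hinj : ∀ (m : ℕ) (a : Fin (m + 1) → ι), Function.Injective (ρ (⨅ k, U (a k))))
    (h2 : ∀ c ∈ cs, ∀ (m : ℕ) (a : Fin (m + 1) → ι), ∀ y ∈ (ρ (U c ⊓ ⨅ k, U (a k))).range,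
      y - N c y ∈ (ρ (⨅ k, U (a k))).range)
    (h3 : ∀ (m : ℕ) (a : Fin (m + 1) → ι), ¬ Function.Surjective a →
      ∀ y ∈ (ρ (⨅ k, U (a k))).range, (cs.map N).prod y = 0)
    (hT1 : ∀ (a : Fin (n + 1) → ι), ∀ y ∈ (ρ (⨅ k, U (a k))).range, (cs.map N).prod y ∈ T)
    (hT2 : ∀ t ∈ T, ∀ (a : Fin (n + 1) → ι), Function.Surjective a → t ∈ (ρ (⨅ k, U (a k))).range)
    (hT3 : ∀ t ∈ T, (cs.map N).prod t = t)
    (h0 : n = 0 → ∀ (a : Fin (n + 1) → ι), ∀ y ∈ (ρ (⨅ k, U (a k))).range, (cs.map N).prod y = y) :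
    ∃ Φ : ((cechComplexFunctor U).obj P).homology n ≃+ T,
      ∀ (φ : P ⟶ P) (lam : L →+ L),
        (∀ V : Opens X, G V → ∀ s : P.obj (op V), ρ V (φ.app (op V) s) = lam (ρ V s)) →
        (∀ y, (cs.map N).prod (lam y) = lam ((cs.map N).prod y)) →
        ∀ h : ((cechComplexFunctor U).obj P).homology n,
          (Φ (HomologicalComplex.homologyMap ((cechComplexFunctor U).map φ) n h) : L) = lam (Φ h) := by
  have hG' : ∀ (n : ℕ) (a : Fin (n + 1) → ι), G (obj U a) := fun n a => by
    rw [obj_eq_iInf]; exact hG n a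
  obtain ⟨Φ, hΦ⟩ := exists_cechH_equiv U P ρ G hG'
    (fun V W h hV hW x => hρ V W h.le hV hW x) N e T cs
    (fun m a => by rw [obj_eq_iInf]; exact hinj m a)
    (fun c hc m a y hy => by
      rw [obj_eq_iInf, iInf_cons] at hy
      rw [obj_eq_iInf]
      exact h2 c hc m a y hy)
    (fun m a ha y hy => by
      rw [obj_eq_iInf] at hy
      exact h3 m a ha y hy)
    (fun a y hy => by
      rw [obj_eq_iInf] at hy
      exact hT1 a y hy)
    (fun t ht a ha => by
      rw [obj_eq_iInf]
      exact hT2 t ht a ha)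
    hT3
    (fun hn a y hy => by
      rw [obj_eq_iInf] at hy
      exact h0 hn a y hy)
  refine ⟨Φ, fun φ lam h1 h2' h => ?_⟩
  exact cechH_equiv_map U P ρ (fun k => e.symm k) ((cs.map N).prod) Φ hΦ φ lam
    (fun s => h1 _ (hG' n _) s) h2' h

end Top

end Groth.Agent.Lib.H4CechTop
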