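import Groth.Agent.Lib.H4Laurent
import Mathlib.Algebra.MonoidAlgebra.Module
import Mathlib.LinearAlgebra.Finsupp.Supported

/-!
# All-negative Laurent polynomials (helper4, CohChain W5)

* `negPart_smul`, `prod_negPart_smul`, `prod_negPart_eq_self`;
* `lauNeg d` : the `R`-submodule of Laurent polynomials of total degree `d` all of whose exponents are negative;
* `lauNegEquiv k` : `lauNeg (-(card σ + k)) ≃ₗ[R] homogeneousSubmodule σ R k` (`T^z ↦ X^(-z-1)`).
-/

set_option autoImplicit false

open MvPolynomial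

namespace Groth.Agent.Lib.H4Laurent

variable {σ : Type*} {R : Type*} [CommRing R]

lemma negPart_smul (c : σ) (r : R) (e : Lau σ R) : negPart c (r • e) = r • negPart c e := by
  rw [negPart_apply, negPart_apply, Finsupp.filter_smul]

lemma prod_negPart_smul (cs : List σ) (r : R) (e : Lau σ R) :
    (cs.map negPart).prod (r • e) = r • (cs.map negPart).prod e := by
  induction cs with
  | nil => simp
  | cons c cs ih =>
    rw [List.map_cons, List.prod_cons]
    change negPart c ((cs.map negPart).prod (r • e)) = r • negPart c ((cs.map negPart).prod e)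
    rw [ih, negPart_smul]

lemma negPart_eq_self (c : σ) {e : Lau σ R} (h : ∀ z ∈ e.support, z c < 0) : negPart c e = e := by
  rw [negPart_apply, Finsupp.filter_eq_self_iff]
  intro z hz
  exact h z (Finsupp.mem_support_iff.mpr hz)

lemma prod_negPart_eq_self (cs : List σ) {e : Lau σ R} (h : ∀ z ∈ e.support, ∀ c ∈ cs, z c < 0) :
    (cs.map negPart).prod e = e := by
  induction cs with
  | nil => simp
  | cons c cs ih =>
    rw [List.map_cons, List.prod_cons]
    change negPart c ((cs.map negPart).prod e) = e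
    rw [ih (fun z hz c' hc' => h z hz c' (List.mem_cons_of_mem _ hc'))]
    exact negPart_eq_self c fun z hz => h z hz c List.mem_cons_self

section Neg

variable [Fintype σ]

variable (σ R) in
/-- Laurent polynomials of total degree `d` all of whose exponents are negative. -/
def lauNeg (d : ℤ) : Submodule R (Lau σ R) :=
  Finsupp.supported R R {z : σ →₀ ℤ | deg z = d ∧ ∀ j, z j < 0}

lemma mem_lauNeg {d : ℤ} {e : Lau σ R} :
    e ∈ lauNeg σ R d ↔ ∀ z ∈ e.support, deg z = d ∧ ∀ j, z j < 0 := by
  unfold lauNeg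
  rw [Finsupp.mem_supported]
  exact Iff.rfl

lemma lauNeg_le_lauSub (d : ℤ) {J : Set σ} (hJ : ∀ j, j ∈ J) :
    (lauNeg σ R d).toAddSubgroup ≤ lauSub d J := by
  intro e he z hz
  obtain ⟨h1, -⟩ := mem_lauNeg.mp he z hz
  exact ⟨h1, fun j hj => absurd (hJ j) hj⟩

lemma prod_negPart_mem_lauNeg {d : ℤ} {J : Set σ} (cs : List σ) (hcs : ∀ c : σ, c ∈ cs) {e : Lau σ R}
    (he : e ∈ lauSub d J) : (cs.map negPart).prod e ∈ lauNeg σ R d := by
  rw [mem_lauNeg]
  intro z hz
  obtain ⟨hze, hneg⟩ := support_prod_negPart cs e z hz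
  exact ⟨(he z hze).1, fun j => hneg j (hcs j)⟩

lemma prod_negPart_eq_self_of_mem_lauNeg {d : ℤ} (cs : List σ) {e : Lau σ R} (he : e ∈ lauNeg σ R d) :
    (cs.map negPart).prod e = e :=
  prod_negPart_eq_self cs fun z hz c _ => (mem_lauNeg.mp he z hz).2 c

/-- In one variable and negative degree, everything is all-negative. -/
lemma prod_negPart_eq_self_of_card_eq_one {d : ℤ} (hd : d < 0) (hσ : Fintype.card σ = 1) {J : Set σ}
    (cs : List σ) {e : Lau σ R} (he : e ∈ lauSub d J) : (cs.map negPart).prod e = e := by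
  obtain ⟨c₀, hc₀⟩ := Fintype.card_eq_one_iff.mp hσ
  refine prod_negPart_eq_self cs fun z hz c _ => ?_
  have h1 := (he z hz).1
  unfold deg at h1
  have : ∑ i, z i = z c := by
    rw [Finset.sum_eq_single c]
    · intro b _ hb
      exact absurd ((hc₀ b).trans (hc₀ c).symm) hb
    · intro h
      exact absurd (Finset.mem_univ c) h
  omega

/-- `m ↦ -m - 1`. -/
noncomputable def negExp (m : σ →₀ ℕ) : σ →₀ ℤ :=
  Finsupp.equivFunOnFinite.symm fun j => -(m j : ℤ) - 1

/-- `z ↦ -z - 1` (truncated). -/
noncomputable def posExp (z : σ →₀ ℤ) : σ →₀ ℕ :=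
  Finsupp.equivFunOnFinite.symm fun j => (-(z j) - 1).toNat

@[simp] lemma negExp_apply (m : σ →₀ ℕ) (j : σ) : negExp m j = -(m j : ℤ) - 1 := rfl

@[simp] lemma posExp_apply (z : σ →₀ ℤ) (j : σ) : posExp z j = (-(z j) - 1).toNat := rfl

lemma deg_negExp (m : σ →₀ ℕ) : deg (negExp m) = -((Finsupp.degree m : ℕ) : ℤ) - Fintype.card σ := by
  unfold deg
  simp only [negExp_apply, Finset.sum_sub_distrib, Finset.sum_neg_distrib, Finset.sum_const,
    Finset.card_univ, nsmul_eq_mul, mul_one, Finsupp.degree_eq_sum, Nat.cast_sum]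

variable (σ) in
/-- The bijection between exponents of degree `k` and all-negative exponents of degree `-(card σ + k)`. -/
noncomputable def expEquiv (k : ℕ) :
    {m : σ →₀ ℕ | Finsupp.degree m = k} ≃
      {z : σ →₀ ℤ | deg z = -((Fintype.card σ : ℤ) + k) ∧ ∀ j, z j < 0} where
  toFun m := ⟨negExp m.1, by
    refine ⟨?_, fun j => ?_⟩
    · rw [deg_negExp, m.2]; ring
    · rw [negExp_apply]; omega⟩
  invFun z := ⟨posExp z.1, by
    obtain ⟨z, hz1, hz2⟩ := z
    change Finsupp.degree (posExp z) = k
    have h : ((Finsupp.degree (posExp z) : ℕ) : ℤ) = k := by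
      rw [Finsupp.degree_eq_sum, Nat.cast_sum]
      have : ∀ j ∈ Finset.univ, ((posExp z j : ℕ) : ℤ) = -(z j) - 1 := by
        intro j _
        rw [posExp_apply, Int.toNat_of_nonneg]
        have := hz2 j
        omega
      rw [Finset.sum_congr rfl this]
      unfold deg at hz1
      simp only [Finset.sum_sub_distrib, Finset.sum_neg_distrib, Finset.sum_const, Finset.card_univ,
        nsmul_eq_mul, mul_one, hz1]
      ring
    exact_mod_cast h⟩
  left_inv m := by
    apply Subtype.ext
    ext j
    simp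
  right_inv z := by
    obtain ⟨z, hz1, hz2⟩ := z
    apply Subtype.ext
    ext j
    have := hz2 j
    simp only [negExp_apply, posExp_apply]
    rw [Int.toNat_of_nonneg (by omega)]
    ring

variable (σ R) in
/-- All-negative Laurent polynomials of degree `-(card σ + k)` are the homogeneous polynomials of degree `k`. -/
noncomputable def lauNegEquiv (k : ℕ) :
    lauNeg σ R (-((Fintype.card σ : ℤ) + k)) ≃ₗ[R] homogeneousSubmodule σ R k :=
  ((Finsupp.supportedEquivFinsupp _).trans
    ((Finsupp.domLCongr (expEquiv σ k).symm).trans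
      (Finsupp.supportedEquivFinsupp {m : σ →₀ ℕ | Finsupp.degree m = k}).symm)).trans
    (((AddMonoidAlgebra.coeffLinearEquiv R).ofSubmodule'
      (Finsupp.supported R R {m : σ →₀ ℕ | Finsupp.degree m = k})).symm.trans
      (LinearEquiv.ofEq _ _ (homogeneousSubmodule_eq_finsupp_supported σ R k).symm))

end Neg

end Groth.Agent.Lib.H4Laurent
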