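import Groth.Agent.Lib.H4ProjSpaceCoh
import Groth.Agent.Lib.H4CechTop
import Groth.Agent.Lib.H4LaurentNeg
import Groth.Agent.Lib.CechLinear9

/-!
# Top cohomology of `O(d)` on projective space (helper4, CohChain W5)

* `rho_smulAb` : the Laurent expansion maps `rho` are `R`-linear;
* `exists_cechH_twist_equiv` : `Ȟ^n(stdCover, O(d)) ≃+` all-negative Laurent polynomials of degree `d`, compatibly with
  the action of `R`;
* `nonempty_HH_top_equiv` : `H^n(P^n_R, O(d)) ≃ₗ[R] lauNeg d`;
* `nonempty_HH_top_equiv_homogeneous` : `H^n(P^n_R, O(-(n+1+k))) ≃ₗ[R]` homogeneous polynomials of degree `k` (S0845).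
-/

set_option autoImplicit false
universe u
open CategoryTheory AlgebraicGeometry TopologicalSpace Opposite Twist MvPolynomial
open Groth.Agent.Lib.H90Invertible Groth.Agent.Lib.H4Laurent

namespace Groth.Agent.Lib.H4Twist

section RepSmul

variable {n : ℕ} {R : Type u} [CommRing R]

local notation "𝒜" => CohB1.polyGrading n R

theorem val_smul (r : R) (B : MvPolynomial (Fin (n + 1)) R) (μ : Fin (n + 1) →₀ ℕ) :
    val (r • B) μ = r • val B μ := by
  unfold val
  rw [AddMonoidAlgebra.coeff_smul, Finsupp.mapDomain_smul]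

theorem sval_smulAb {d : ℤ} {V : (Proj 𝒜).Opens} (r : R) (t : Γ(twist 𝒜 d, V)) (x : V) :
    sval (show Γ(twist 𝒜 d, V) from
      (Coh.smulAb (X := Proj 𝒜) (twist 𝒜 d) (Coh.toGlobal (structMap 𝒜) r)).hom.app (op V) t) x =
      Localization.mk (algebraMap R (MvPolynomial (Fin (n + 1)) R) r) 1 * sval t x := by
  have h : (show Γ(twist 𝒜 d, V) from
      (Coh.smulAb (X := Proj 𝒜) (twist 𝒜 d) (Coh.toGlobal (structMap 𝒜) r)).hom.app (op V) t) =
      ((Proj 𝒜).presheaf.map (homOfLE (le_top : V ≤ ⊤)).op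
        (show Γ(Proj 𝒜, ⊤) from Coh.toGlobal (structMap 𝒜) r) : Γ(Proj 𝒜, V)) • t := rfl
  rw [h, sval_smul, oval_map, oval_toGlobal]

theorem Rep.smulAb {d : ℤ} {U : (Proj 𝒜).Opens} {t : Γ(twist 𝒜 d, U)}
    {B : MvPolynomial (Fin (n + 1)) R} {μ : Fin (n + 1) →₀ ℕ} (h : Rep t B μ) (r : R) :
    Rep (show Γ(twist 𝒜 d, U) from
      (Coh.smulAb (X := Proj 𝒜) (twist 𝒜 d) (Coh.toGlobal (structMap 𝒜) r)).hom.app (op U) t)
      (r • B) μ := by
  obtain ⟨e, hB, he⟩ := h.homog
  refine ⟨⟨e, Submodule.smul_mem _ r hB, he⟩, h.notMem, fun x => ?_⟩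
  rw [sval_smulAb, mul_assoc, h.eqn x, Localization.mk_mul, mul_one, Algebra.smul_def]

/-- The expansion maps are `R`-linear. -/
theorem rho_smulAb {d : ℤ} {V : (Proj 𝒜).Opens} (hV : Good n R V) (r : R) (t : Γ(twist 𝒜 d, V)) :
    rho d V ((Coh.smulAb (X := Proj 𝒜) (twist 𝒜 d) (Coh.toGlobal (structMap 𝒜) r)).hom.app (op V) t) =
      r • rho d V t := by
  obtain ⟨γ, i, hi, rfl⟩ := hV
  obtain ⟨B, μ, h, -⟩ := exists_rep hi d t
  rw [rho_eq hi h, ← val_smul]
  exact rho_eq hi (h.smulAb r)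

end RepSmul


section Top

variable (n : ℕ) (R : Type u) [CommRing R]

local notation "𝒜" => CohB1.polyGrading n R

/-- **Top Čech cohomology of `O(d)` on `P^n_R`** for the standard cover: it is the group of all-negative Laurent
polynomials of degree `d`, compatibly with the action of `R`. -/
theorem exists_cechH_twist_equiv (d : ℤ) (hd : n = 0 → d < 0) :
    ∃ Φ : ↑(CohB1.cechHTop (stdCover n R) (twist 𝒜 d).presheaf n) ≃+
        (lauNeg (Fin (n + 1)) R d).toAddSubgroup,
      ∀ (r : R) (h : ↑(CohB1.cechHTop (stdCover n R) (twist 𝒜 d).presheaf n)),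
        (Φ (Groth.Agent.Lib.CechLinear9.cechSmul (X := Proj 𝒜) (stdCover n R) (twist 𝒜 d) n
          (Coh.toGlobal (structMap 𝒜) r) h) : Lau (Fin (n + 1)) R) = r • (Φ h : Lau (Fin (n + 1)) R) := by
  classical
  have hE : ∀ y : Lau (Fin (n + 1)) R,
      ((((List.finRange (n + 1)).map ULift.up).map
        (fun c : ULift.{u} (Fin (n + 1)) => negPart (R := R) c.down)).prod) y =
      (((List.finRange (n + 1)).map (H4Laurent.negPart (R := R))).prod) y := by
    intro y
    rw [List.map_map]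
    rfl
  have hne : ∀ (m : ℕ) (a : Fin (m + 1) → ULift.{u} (Fin (n + 1))), tupleExp a (a 0).down ≠ 0 :=
    fun m a => (tupleExp_ne_zero_iff a _).mpr ⟨0, rfl⟩
  obtain ⟨Φ, hΦ⟩ := Groth.Agent.Lib.H4CechTop.exists_cechH_equiv_top (stdCover n R)
    (twist 𝒜 d).presheaf (fun V => rho d V) (Good n R)
    (fun m a => by rw [iInf_stdCover]; exact good_bo (hne m a))
    (fun V W hWV hV hW x => rho_res hWV hV hW x)
    (fun c => negPart c.down) (Equiv.ulift : ULift.{u} (Fin (n + 1)) ≃ Fin (n + 1))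
    (lauNeg (Fin (n + 1)) R d).toAddSubgroup ((List.finRange (n + 1)).map ULift.up)
    (fun m a => by rw [iInf_stdCover]; exact rho_injective (hne m a) d)
    (fun c _ m a y hy => by
      have hi : (Finsupp.single c.down 1 + tupleExp a : Fin (n + 1) →₀ ℕ) c.down ≠ 0 := by simp
      rw [inf_stdCover, range_rho hi, suppSet_single_add] at hy
      rw [iInf_stdCover, range_rho (hne m a)]
      exact sub_negPart_mem c.down hy)
    (fun m a ha y hy => by
      rw [iInf_stdCover, range_rho (hne m a), suppSet_tupleExp] at hy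
      rw [hE]
      refine prod_negPart_eq_zero (List.finRange (n + 1)) (fun c => List.mem_finRange c) (Or.inl ?_) hy
      rw [Function.Surjective] at ha
      push Not at ha
      obtain ⟨c, hc⟩ := ha
      refine ⟨c.down, ?_⟩
      rintro ⟨k, hk⟩
      exact hc k (ULift.ext _ _ hk))
    (fun a y hy => by
      rw [iInf_stdCover, range_rho (hne n a)] at hy
      rw [hE]
      exact prod_negPart_mem_lauNeg (List.finRange (n + 1)) (fun c => List.mem_finRange c) hy)
    (fun t ht a ha => by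
      rw [iInf_stdCover, range_rho (hne n a), suppSet_tupleExp]
      refine lauNeg_le_lauSub d (fun j => ?_) ht
      obtain ⟨k, hk⟩ := ha ⟨j⟩
      exact ⟨k, congrArg ULift.down hk⟩)
    (fun t ht => by
      rw [hE]
      exact prod_negPart_eq_self_of_mem_lauNeg _ ht)
    (fun hn a y hy => by
      rw [iInf_stdCover, range_rho (hne n a)] at hy
      rw [hE]
      refine prod_negPart_eq_self_of_card_eq_one (hd hn) ?_ _ hy
      rw [Fintype.card_fin, hn])
  refine ⟨Φ, fun r h => ?_⟩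
  exact hΦ (Coh.smulAb (X := Proj 𝒜) (twist 𝒜 d) (Coh.toGlobal (structMap 𝒜) r)).hom
    (DistribSMul.toAddMonoidHom (Lau (Fin (n + 1)) R) r)
    (fun V hV s => rho_smulAb hV r s)
    (fun y => by
      rw [hE, hE]
      exact prod_negPart_smul _ r y) h

/-- `H^n(P^n_R, O(d)) ≃ₗ[R]` all-negative Laurent polynomials of degree `d`. -/
theorem nonempty_HH_top_equiv (d : ℤ) (hd : n = 0 → d < 0) :
    Nonempty (Coh.HH (CohB1.ProjSpace n R) (Twist.twistProjSpace n R d) n ≃ₗ[R]
      lauNeg (Fin (n + 1)) R d) := by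
  have := isQCoh_twistProjSpace n R d
  obtain ⟨inst, e1, he1⟩ := Groth.Agent.Lib.CechLinear9.exists_linearEquiv_over
    (X := CohB1.ProjSpace n R) R (stdCover n R) (iSup_stdCover n R)
    (isAffineOpen_iInf_stdCover n R) (Twist.twistProjSpace n R d) n
  obtain ⟨Φ, hΦ⟩ := exists_cechH_twist_equiv n R d hd
  let e2 : ↑(CohB1.cechH (X := CohB1.ProjSpace n R) (stdCover n R) (Twist.twistProjSpace n R d) n) ≃ₗ[R]
      lauNeg (Fin (n + 1)) R d :=
    { toFun := fun h => ⟨(Φ h : Lau (Fin (n + 1)) R), (Φ h).2⟩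
      invFun := fun t => Φ.symm ⟨t.1, t.2⟩
      left_inv := fun h => by simp
      right_inv := fun t => by
        apply Subtype.ext
        simp
      map_add' := fun h h' => by
        apply Subtype.ext
        exact congrArg Subtype.val (map_add Φ h h')
      map_smul' := fun r h => by
        apply Subtype.ext
        rw [he1 r h]
        exact hΦ r h }
  exact ⟨e1.symm.trans e2⟩

/-- `H^n(P^n_R, O(-(n+1+k))) ≃ₗ[R]` homogeneous polynomials of degree `k` (S0845). -/
theorem nonempty_HH_top_equiv_homogeneous (k : ℕ) :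
    Nonempty (Coh.HH (CohB1.ProjSpace n R) (Twist.twistProjSpace n R (-((n : ℤ) + 1 + k))) n ≃ₗ[R]
      ↥(MvPolynomial.homogeneousSubmodule (Fin (n + 1)) R k)) := by
  obtain ⟨e⟩ := nonempty_HH_top_equiv n R (-((n : ℤ) + 1 + k)) (fun _ => by omega)
  have hd : (-((n : ℤ) + 1 + k)) = -((Fintype.card (Fin (n + 1)) : ℤ) + k) := by
    rw [Fintype.card_fin]
    push_cast
    ring
  exact ⟨e.trans ((LinearEquiv.ofEq _ _ (congrArg (lauNeg (Fin (n + 1)) R) hd)).trans
    (lauNegEquiv (Fin (n + 1)) R k))⟩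

end Top

end Groth.Agent.Lib.H4Twist
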