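import Groth.Agent.Lib.H43PnEfface
import Groth.Agent.Lib.H43PnInj
import Groth.Agent.Lib.H43PairingDev
import Groth.Agent.Lib.H43TwistMulHom
import Groth.Agent.Lib.H4ProjSpaceTop
import Groth.Agent.Lib.H4ProjSpaceFinite
import Groth.Agent.Lib.P1Curve85
import Groth.Agent.Lib.GradedNoetherian
import Groth.Agent.S10829

/-!
# The dualizing pairing on projective space over a field (helper43)

`P = P^n_k`, `ω = O(-n-1)`.  There is `t : H^n(P, ω) → k` such that `φ ↦ t ∘ H^n(φ)` is a bijection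
`Hom(F, ω) → H^n(P, F)^∨` for every coherent `F` (`exists_t_bijective`), and every coherent `F` is a
quotient of a coherent `E` with `Ext^{i+1}(E, ω) = 0` and `H^j(P, E) = 0` for `j < n` (`efface`).
-/

set_option autoImplicit false
universe u

open CategoryTheory CategoryTheory.Limits AlgebraicGeometry TopologicalSpace Opposite Twist Abelian
open Groth.Agent.Lib.H4Twist Groth.Agent.Lib.OXModTensor Groth.Agent.Lib.CohLES
open Groth.Agent.Lib.H43SerreDelta Groth.Agent.Lib.H43PairingDev Groth.Agent.Lib.H43CohProp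

namespace Groth.Agent.Lib.H43PnPairing

open MvPolynomial

variable (n : ℕ) (k : Type u) [Field k]

local notation "𝒜" => CohB1.polyGrading n k
local notation "𝐏" => CohB1.ProjSpace n k
local notation "𝒪(" d ")" => Twist.twistProjSpace n k d

instance isNoetherian_projSpace : IsNoetherian 𝐏 :=
  Groth.Agent.Lib.GradedNoetherian.proj_isNoetherian 𝒜

instance isIntegral_projSpace : IsIntegral 𝐏 := Groth.Agent.Lib.P1Curve85.isIntegral_projSpace k n

lemma dim_le : topologicalKrullDim 𝐏 ≤ (n : WithBot ℕ∞) := (Groth.Agent.S10829.result k n).le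

/-- every coherent module on `P^n_k` is a quotient of `∐_K O(-m)`, `K` finite, for all `m ≥ m₀` -/
theorem exists_epi_sigma_twist_ge (F : (𝐏).Modules) (hF : Coh.IsCoh F) :
    ∃ m₀ : ℕ, ∀ m : ℕ, m₀ ≤ m → ∃ (K : Type u) (_ : Fintype K)
      (q : (∐ fun _ : K => 𝒪(-(m : ℤ))) ⟶ F), Epi q := by
  have hc := Groth.Agent.Lib.H43PnEfface.hcov n k
  have : IsNoetherian (Proj 𝒜) := Groth.Agent.Lib.GradedNoetherian.proj_isNoetherian 𝒜
  have : CompactSpace (Proj 𝒜) := inferInstance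
  have hL : CohB1.IsAmple (twist 𝒜 ((1 : ℕ) : ℤ)) :=
    isAmple_twist_of_cover_deg 𝒜 1 one_pos hc
  obtain ⟨e⟩ := Groth.Agent.Lib.ProjQuotTwist.nonempty_invIso 𝒜 1 hc
  obtain ⟨m₀, hm⟩ := Groth.Agent.Lib.CohFinAmple.exists_finite_epi_sigma_pow hL e F hF
  refine ⟨m₀, fun m hm' => ?_⟩
  obtain ⟨K, hK, q, hq⟩ := hm m hm'
  obtain ⟨em⟩ := Groth.Agent.Lib.ProjQuotTwist.nonempty_negPowIso 𝒜 1 hc m
  let ψ : (∐ fun _ : K => twist 𝒜 (-(m : ℤ))) ≅
      ∐ fun _ : K => CohB1.tensorPow (twist 𝒜 (-((1 : ℕ) : ℤ))) m :=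
    Sigma.mapIso (fun _ => eqToIso (congrArg (twist 𝒜) (by simp)) ≪≫ em.symm)
  have hψ : Epi ψ.hom := IsIso.epi_of_iso ψ.hom
  exact ⟨K, Fintype.ofFinite K, ψ.hom ≫ q, @epi_comp _ _ _ _ _ ψ.hom hψ q hq⟩

/-- a nonzero linear form on `H^n(P, ω)` -/
theorem exists_t : ∃ t : Coh.HH 𝐏 𝒪(-((n : ℤ) + 1)) n →ₗ[k] k, ∃ x₀, t x₀ ≠ 0 := by
  have key : ∀ d : ℤ, d = -((n : ℤ) + 1 + ((0 : ℕ) : ℤ)) →
      ∃ t : Coh.HH 𝐏 𝒪(d) n →ₗ[k] k, ∃ x₀, t x₀ ≠ 0 := by
    rintro d rfl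
    obtain ⟨e⟩ := nonempty_HH_top_equiv_homogeneous n k 0
    let one : homogeneousSubmodule (Fin (n + 1)) k 0 := ⟨1, isHomogeneous_one _ _⟩
    have hone : e.symm one ≠ 0 := by
      intro h
      have h1 : one = 0 := by simpa using congrArg e h
      have h2 : (1 : MvPolynomial (Fin (n + 1)) k) = 0 := congrArg Subtype.val h1
      exact one_ne_zero h2
    obtain ⟨f, hf⟩ : ∃ f : Module.Dual k (Coh.HH 𝐏 𝒪(-((n : ℤ) + 1 + ((0 : ℕ) : ℤ))) n),
        f (e.symm one) ≠ 0 := by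
      by_contra h
      push Not at h
      exact hone ((Module.forall_dual_apply_eq_zero_iff k _).1 h)
    exact ⟨f, _, hf⟩
  exact key _ (by simp)

variable [HasExt.{u} (CohB1.ProjSpace n k).Modules]

variable {n k} in
/-- the pairing is injective on invertible modules -/
theorem injective_pairL_of_isInvertible (t : Coh.HH 𝐏 𝒪(-((n : ℤ) + 1)) n →ₗ[k] k)
    (x₀ : Coh.HH 𝐏 𝒪(-((n : ℤ) + 1)) n) (hx₀ : t x₀ ≠ 0) (L : (𝐏).Modules)
    (hL : PicF.IsInvertible L) : Function.Injective (pairL t L) := by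
  rw [injective_iff_map_eq_zero]
  intro φ hφ
  by_contra hne
  obtain ⟨y, hy⟩ := Groth.Agent.Lib.H43PnInj.map_surjective_of_ne_zero n (dim_le n k) hL
    (isInvertible_twistProjSpace n k _) φ hne x₀
  apply hx₀
  rw [← hy, ← pairL_apply, hφ]
  rfl

variable {n k} in
/-- the pairing is perfect on `O(-(n+1+m))` -/
theorem bijective_pairL_twist (t : Coh.HH 𝐏 𝒪(-((n : ℤ) + 1)) n →ₗ[k] k)
    (x₀ : Coh.HH 𝐏 𝒪(-((n : ℤ) + 1)) n) (hx₀ : t x₀ ≠ 0) (m : ℕ) :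
    Function.Bijective (pairL t 𝒪(-((n : ℤ) + 1 + (m : ℤ)))) := by
  have hinj := injective_pairL_of_isInvertible t x₀ hx₀ _
    (isInvertible_twistProjSpace n k (-((n : ℤ) + 1 + (m : ℤ))))
  obtain ⟨e⟩ := nonempty_HH_top_equiv_homogeneous n k m
  have : Module.Finite k (homogeneousSubmodule (Fin (n + 1)) k m) :=
    finite_homogeneousSubmodule _ _ _
  have : Module.Finite k (Coh.HH 𝐏 𝒪(-((n : ℤ) + 1 + (m : ℤ))) n) := Module.Finite.equiv e.symm
  have hV : Module.Finite k (𝒪(-((n : ℤ) + 1 + (m : ℤ))) ⟶ 𝒪(-((n : ℤ) + 1))) :=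
    Module.Finite.of_injective _ hinj
  have h1 : Module.finrank k (homogeneousSubmodule (Fin (n + 1)) k m) ≤
      Module.finrank k (𝒪(-((n : ℤ) + 1 + (m : ℤ))) ⟶ 𝒪(-((n : ℤ) + 1))) :=
    LinearMap.finrank_le_finrank_of_injective
      (Groth.Agent.Lib.H43TwistMulHom.mulLin_injective n k m _ _ (by ring))
  have h2 : Module.finrank k (Module.Dual k (Coh.HH 𝐏 𝒪(-((n : ℤ) + 1 + (m : ℤ))) n)) =
      Module.finrank k (Coh.HH 𝐏 𝒪(-((n : ℤ) + 1 + (m : ℤ))) n) := Subspace.dual_finrank_eq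
  have h3 : Module.finrank k (Coh.HH 𝐏 𝒪(-((n : ℤ) + 1 + (m : ℤ))) n) =
      Module.finrank k (homogeneousSubmodule (Fin (n + 1)) k m) := e.finrank_eq
  have h4 : Module.finrank k (𝒪(-((n : ℤ) + 1 + (m : ℤ))) ⟶ 𝒪(-((n : ℤ) + 1))) ≤
      Module.finrank k (Module.Dual k (Coh.HH 𝐏 𝒪(-((n : ℤ) + 1 + (m : ℤ))) n)) :=
    LinearMap.finrank_le_finrank_of_injective hinj
  have h5 : Module.finrank k (𝒪(-((n : ℤ) + 1 + (m : ℤ))) ⟶ 𝒪(-((n : ℤ) + 1))) =
      Module.finrank k (Module.Dual k (Coh.HH 𝐏 𝒪(-((n : ℤ) + 1 + (m : ℤ))) n)) := by omega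
  exact ⟨hinj, (LinearMap.injective_iff_surjective_of_finrank_eq_finrank h5).1 hinj⟩

variable {n k} in
theorem bijective_pairL_twist' (t : Coh.HH 𝐏 𝒪(-((n : ℤ) + 1)) n →ₗ[k] k)
    (x₀ : Coh.HH 𝐏 𝒪(-((n : ℤ) + 1)) n) (hx₀ : t x₀ ≠ 0) (d : ℤ) (hd : d ≤ -((n : ℤ) + 1)) :
    Function.Bijective (pairL t 𝒪(d)) := by
  obtain ⟨m, rfl⟩ : ∃ m : ℕ, d = -((n : ℤ) + 1 + (m : ℤ)) :=
    ⟨(-((n : ℤ) + 1) - d).toNat, by rw [Int.toNat_of_nonneg (by omega)]; ring⟩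
  exact bijective_pairL_twist t x₀ hx₀ m

variable {n k} in
/-- **the pairing is perfect on every coherent module** -/
theorem bijective_pairL (t : Coh.HH 𝐏 𝒪(-((n : ℤ) + 1)) n →ₗ[k] k)
    (x₀ : Coh.HH 𝐏 𝒪(-((n : ℤ) + 1)) n) (hx₀ : t x₀ ≠ 0) (F : (𝐏).Modules) (hF : Coh.IsCoh F) :
    Function.Bijective (pairL t F) := by
  have hE : ∀ G : (𝐏).Modules, Coh.IsCoh G → ∃ (E : (𝐏).Modules) (π : E ⟶ G), Epi π ∧
      Coh.IsCoh E ∧ Function.Bijective (pairL t E) := by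
    intro G hG
    obtain ⟨m₀, hm⟩ := exists_epi_sigma_twist_ge n k G hG
    obtain ⟨K, hK, q, hq⟩ := hm (m₀ + (n + 1)) (by omega)
    refine ⟨_, q, hq, Groth.Agent.Lib.CohFinAmple.isCoh_sigma
      (Groth.Agent.Lib.H90Invertible.isCoh_of_isInvertible
        (isInvertible_twistProjSpace n k _)) K, ?_⟩
    exact bijective_sigma t _ (fun _ => bijective_pairL_twist' t x₀ hx₀ _ (by push_cast; omega))
  obtain ⟨E, π, hπ, hEc, hEb⟩ := hE F hF
  let S : ShortComplex (𝐏).Modules := ShortComplex.mk (kernel.ι π) π (kernel.condition π)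
  have hS : S.ShortExact :=
    ShortComplex.ShortExact.mk' (ShortComplex.exact_kernel π) (inferInstance : Mono (kernel.ι π)) hπ
  have : F.IsQuasicoherent := hF.1
  have hKc : Coh.IsCoh (kernel π) := Groth.Agent.Lib.H90OXModExact.isCoh_kernel π hEc
  obtain ⟨E', π', hπ', -, hE'b⟩ := hE (kernel π) hKc
  have hKinj : Function.Injective (pairL t (kernel π)) := injective_of_epi t π' hE'b.1
  have hsurj : Function.Surjective (map π n) := by
    intro x
    have : Subsingleton (Coh.HH 𝐏 (kernel π) (n + 1)) :=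
      Groth.Agent.Lib.GrothVanish.subsingleton_HH_of_dim_lt 𝐏 n (dim_le n k) _ (n + 1) (by omega)
    obtain ⟨y, hy⟩ := exact₃ hS n x (Subsingleton.elim _ _)
    exact ⟨y, hy⟩
  exact bijective_of_ses t hS hKinj hEb hsurj

/-- **effacement**: every coherent module on `P^n_k` is a quotient of a coherent `E` with
`Ext^{i+1}(E, ω) = 0` and `H^j(E) = 0` for `j < n` -/
theorem efface (F : (𝐏).Modules) (hF : Coh.IsCoh F) :
    ∃ (E : (𝐏).Modules) (π : E ⟶ F), Coh.IsCoh E ∧ Epi π ∧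
      (∀ i : ℕ, Subsingleton (Ext E 𝒪(-((n : ℤ) + 1)) (i + 1))) ∧
      ∀ j : ℕ, j < n → Subsingleton (Coh.HH 𝐏 E j) := by
  obtain ⟨m₀, hm⟩ := exists_epi_sigma_twist_ge n k F hF
  obtain ⟨K, hK, q, hq⟩ := hm (m₀ + 1) (by omega)
  refine ⟨_, q, Groth.Agent.Lib.CohFinAmple.isCoh_sigma
    (Groth.Agent.Lib.H90Invertible.isCoh_of_isInvertible
      (isInvertible_twistProjSpace n k _)) K, hq, fun i => ?_, fun j hj => ?_⟩
  · have inst : HasExt.{u} (Proj 𝒜).Modules := ‹HasExt.{u} (CohB1.ProjSpace n k).Modules›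
    exact Groth.Agent.Lib.H43ExtTransfer.subsingleton_ext_sigma _ _ _ (fun _ =>
      Groth.Agent.Lib.H43PnEfface.subsingleton_ext_twist n k ((m₀ + 1 : ℕ) : ℤ) (-((n : ℤ) + 1))
        (by push_cast; omega) i)
  · refine Groth.Agent.Lib.H4Regularity.subsingleton_HH_sigma_fintype _ j (fun _ => ?_)
    rcases Nat.eq_zero_or_pos j with rfl | hj0
    · exact subsingleton_HH_zero_of_neg n k (by omega) _ (by push_cast; omega)
    · exact subsingleton_HH_twist n k _ j hj0 (Or.inl hj)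

end Groth.Agent.Lib.H43PnPairing
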