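import Groth.Prelude.Def_Omega3
import Groth.Agent.Lib.QCohStalk

set_option autoImplicit false
set_option linter.style.haveILetI false
universe u

open CategoryTheory AlgebraicGeometry TopologicalSpace Opposite

namespace Groth.Agent.Lib.OmegaDer81

section algebra

variable {B T L : Type*} [CommRing B] [CommRing T] [Algebra B T]
  (M : Submonoid B) [IsLocalization M T] [AddCommGroup L] [Module T L] [Module B L]
  [IsScalarTower B T L]

omit [Module B L] [IsScalarTower B T L] in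
include M in
theorem derivation_ext_of_isLocalization (δ₁ δ₂ : Derivation ℤ T L)
    (h : ∀ b, δ₁ (algebraMap B T b) = δ₂ (algebraMap B T b)) : δ₁ = δ₂ := by
  ext t
  obtain ⟨⟨b, s⟩, hbs⟩ := IsLocalization.surj M t
  have hu : IsUnit (algebraMap B T s) := IsLocalization.map_units T s
  have h1 : ∀ δ : Derivation ℤ T L, algebraMap B T s • δ t =
      δ (algebraMap B T b) - t • δ (algebraMap B T s) := by
    intro δ
    have := congrArg δ hbs
    rw [Derivation.leibniz] at this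
    rw [← this]
    abel
  have h2 : algebraMap B T s • δ₁ t = algebraMap B T s • δ₂ t := by
    rw [h1, h1, h, h]
  obtain ⟨v, hv⟩ := hu
  have := congrArg (fun x => (↑v⁻¹ : T) • x) h2
  simpa [← hv, smul_smul] using this

include M in
theorem exists_derivation_of_isLocalization (δ : Derivation ℤ B L) :
    ∃ δ' : Derivation ℤ T L, ∀ b, δ' (algebraMap B T b) = δ b := by
  let φ : Ω[B⁄ℤ] →ₗ[B] L := δ.liftKaehlerDifferential
  have hunits : ∀ x : M, IsUnit (algebraMap B (Module.End B L) x) := by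
    intro x
    have hu : IsUnit (algebraMap B T x) := IsLocalization.map_units T x
    rw [Module.End.isUnit_iff]
    obtain ⟨v, hv⟩ := hu
    constructor
    · intro a b hab
      simp only [Module.algebraMap_end_apply] at hab
      have := congrArg (fun z => (↑v⁻¹ : T) • z) hab
      simpa [← algebraMap_smul T (x : B), ← hv, smul_smul] using this
    · intro a
      refine ⟨(↑v⁻¹ : T) • a, ?_⟩
      simp only [Module.algebraMap_end_apply]
      rw [← algebraMap_smul T (x : B), ← hv, smul_smul]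
      simp
  let ψ : Ω[T⁄ℤ] →ₗ[B] L := IsLocalizedModule.lift M (KaehlerDifferential.map ℤ ℤ B T) φ hunits
  let ψ' : Ω[T⁄ℤ] →ₗ[T] L := ψ.extendScalarsOfIsLocalization M T
  refine ⟨ψ'.compDer (KaehlerDifferential.D ℤ T), fun b => ?_⟩
  rw [Derivation.coe_comp]
  change ψ (KaehlerDifferential.D ℤ T (algebraMap B T b)) = δ b
  have h1 : KaehlerDifferential.D ℤ T (algebraMap B T b) =
      KaehlerDifferential.map ℤ ℤ B T (KaehlerDifferential.D ℤ B b) := by
    rw [KaehlerDifferential.map_D]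
  rw [h1, IsLocalizedModule.lift_apply]
  exact Derivation.liftKaehlerDifferential_comp_D δ b

/-- additive Leibniz maps as `ℤ`-derivations -/
def derOfAdd {B L : Type*} [CommRing B] [AddCommGroup L] [Module B L] (d : B →+ L)
    (hd : ∀ a b, d (a * b) = a • d b + b • d a) : Derivation ℤ B L :=
  Derivation.mk' d.toIntLinearMap hd

@[simp] theorem derOfAdd_apply {B L : Type*} [CommRing B] [AddCommGroup L] [Module B L] (d : B →+ L)
    (hd : ∀ a b, d (a * b) = a • d b + b • d a) (b : B) : derOfAdd d hd b = d b := rfl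

end algebra

section stalk

variable {X : Scheme.{u}} [IsAffine X] (F : X.Modules)

open Groth.Agent.Lib.QCohStalk

theorem memTop {X : Scheme.{u}} (y : X) : y ∈ (⊤ : X.Opens) := trivial

/-- Leibniz maps between stalks. -/
def IsLeibniz {R L : Type*} [CommRing R] [AddCommGroup L] [Module R L] (d : R →+ L) : Prop :=
  ∀ a b, d (a * b) = a • d b + b • d a

theorem stalkDer_unique (y : X) (d d' : X.presheaf.stalk y →+ F.presheaf.stalk y)
    (hd : IsLeibniz d) (hd' : IsLeibniz d')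
    (h : ∀ b : Γ(X, ⊤), d (X.presheaf.germ ⊤ y (memTop y) b) = d' (X.presheaf.germ ⊤ y (memTop y) b)) :
    d = d' := by
  let yy : (⊤ : X.Opens) := ⟨y, memTop y⟩
  letI : Algebra Γ(X, ⊤) (X.presheaf.stalk y) := X.presheaf.algebra_section_stalk yy
  have hloc : IsLocalization.AtPrime (X.presheaf.stalk y)
      ((isAffineOpen_top X).primeIdealOf yy).asIdeal := (isAffineOpen_top X).isLocalization_stalk yy
  have := derivation_ext_of_isLocalization (B := Γ(X, ⊤)) (T := X.presheaf.stalk y)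
    (L := F.presheaf.stalk y) ((isAffineOpen_top X).primeIdealOf yy).asIdeal.primeCompl
    (derOfAdd d hd) (derOfAdd d' hd') (fun b => h b)
  ext t
  exact congrArg (fun D => D t) this

theorem exists_stalkDer (δ : Γ(X, ⊤) →+ Γ(F, ⊤)) (hδ : IsLeibniz δ) (y : X) :
    ∃ d : X.presheaf.stalk y →+ F.presheaf.stalk y, IsLeibniz d ∧
      ∀ b : Γ(X, ⊤), d (X.presheaf.germ ⊤ y (memTop y) b) = F.presheaf.germ ⊤ y (memTop y) (δ b) := by
  let yy : (⊤ : X.Opens) := ⟨y, memTop y⟩
  letI : Algebra Γ(X, ⊤) (X.presheaf.stalk y) := X.presheaf.algebra_section_stalk yy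
  have hloc : IsLocalization.AtPrime (X.presheaf.stalk y)
      ((isAffineOpen_top X).primeIdealOf yy).asIdeal := (isAffineOpen_top X).isLocalization_stalk yy
  letI : Module Γ(X, ⊤) (F.presheaf.stalk y) :=
    Module.compHom _ (algebraMap Γ(X, ⊤) (X.presheaf.stalk y))
  haveI : IsScalarTower Γ(X, ⊤) (X.presheaf.stalk y) (F.presheaf.stalk y) :=
    IsScalarTower.of_algebraMap_smul (fun r x => rfl)
  let d0 : Γ(X, ⊤) →+ F.presheaf.stalk y :=
    (F.presheaf.germ ⊤ y (memTop y)).hom.comp δ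
  have hd0 : ∀ a b, d0 (a * b) = a • d0 b + b • d0 a := by
    intro a b
    change F.presheaf.germ ⊤ y (memTop y) (δ (a * b)) = _
    rw [hδ, map_add, germ_smul, germ_smul]
    rfl
  obtain ⟨D, hD⟩ := exists_derivation_of_isLocalization (B := Γ(X, ⊤)) (T := X.presheaf.stalk y)
    (L := F.presheaf.stalk y) ((isAffineOpen_top X).primeIdealOf yy).asIdeal.primeCompl
    (derOfAdd d0 hd0)
  refine ⟨D.toLinearMap.toAddMonoidHom, fun a b => D.leibniz a b, fun b => hD b⟩

end stalk


section sheaf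

variable {X : Scheme.{u}} [IsAffine X] (F : X.Modules)

open Groth.Agent.Lib.QCohStalk

/-- the stalk derivation induced by a Leibniz map on global sections -/
noncomputable def stalkDer (δ : Γ(X, ⊤) →+ Γ(F, ⊤)) (hδ : IsLeibniz δ) (y : X) :
    X.presheaf.stalk y →+ F.presheaf.stalk y := (exists_stalkDer F δ hδ y).choose

theorem stalkDer_leibniz (δ : Γ(X, ⊤) →+ Γ(F, ⊤)) (hδ : IsLeibniz δ) (y : X) :
    IsLeibniz (stalkDer F δ hδ y) := (exists_stalkDer F δ hδ y).choose_spec.1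

theorem stalkDer_germ (δ : Γ(X, ⊤) →+ Γ(F, ⊤)) (hδ : IsLeibniz δ) (y : X) (b : Γ(X, ⊤)) :
    stalkDer F δ hδ y (X.presheaf.germ ⊤ y (memTop y) b) = F.presheaf.germ ⊤ y (memTop y) (δ b) :=
  (exists_stalkDer F δ hδ y).choose_spec.2 b

omit [IsAffine X] in
theorem germ_res' (F : X.Modules) {V U : X.Opens} (h : V ≤ U) (z : X) (hz : z ∈ V) (s : Γ(F, U)) :
    F.presheaf.germ V z hz (res F h s) = F.presheaf.germ U z (h hz) s :=
  TopCat.Presheaf.germ_res_apply F.presheaf (homOfLE h) z hz s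

omit [IsAffine X] in
theorem germ_resO (X : Scheme.{u}) {V U : X.Opens} (h : V ≤ U) (z : X) (hz : z ∈ V) (s : Γ(X, U)) :
    X.presheaf.germ V z hz (resO X h s) = X.presheaf.germ U z (h hz) s :=
  TopCat.Presheaf.germ_res_apply X.presheaf (homOfLE h) z hz s

/-- local data: over a basic open contained in `W`, a section `s` of `O_X` is a fraction -/
theorem exists_fraction (W : X.Opens) (s : Γ(X, W)) (y : X) (hy : y ∈ W) :
    ∃ (g : Γ(X, ⊤)) (_ : y ∈ X.basicOpen g) (hgW : X.basicOpen g ≤ W) (b : Γ(X, ⊤)) (n : ℕ),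
      resO X hgW s * resO X le_top (g ^ n) = resO X le_top b := by
  obtain ⟨_, ⟨_, ⟨g, rfl⟩, rfl⟩, hyg, hgW⟩ :=
    (isBasis_basicOpen X).exists_subset_of_mem_open hy W.isOpen
  have hloc : IsLocalization.Away g Γ(X, X.basicOpen g) :=
    (isAffineOpen_top X).isLocalization_basicOpen g
  obtain ⟨⟨b, ⟨_, n, rfl⟩⟩, hb⟩ := IsLocalization.surj (Submonoid.powers g) (resO X hgW s)
  exact ⟨g, hyg, hgW, b, n, hb⟩

end sheaf


section sheaf2

variable {X : Scheme.{u}} [IsAffine X] (F : X.Modules)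

open Groth.Agent.Lib.QCohStalk

theorem exists_local_section (δ : Γ(X, ⊤) →+ Γ(F, ⊤)) (hδ : IsLeibniz δ) (W : X.Opens)
    (s : Γ(X, W)) (y : X) (hy : y ∈ W) :
    ∃ (V : X.Opens) (hVW : V ≤ W) (_ : y ∈ V) (t : Γ(F, V)), ∀ (z : X) (hz : z ∈ V),
      F.presheaf.germ V z hz t = stalkDer F δ hδ z (X.presheaf.germ W z (hVW hz) s) := by
  obtain ⟨g, hyg, hgW, b, n, hb⟩ := exists_fraction W s y hy
  have hloc : IsLocalization.Away g Γ(X, X.basicOpen g) :=
    (isAffineOpen_top X).isLocalization_basicOpen g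
  have hu : IsUnit (resO X (le_top : X.basicOpen g ≤ ⊤) (g ^ n)) :=
    IsLocalization.map_units Γ(X, X.basicOpen g) (⟨g ^ n, n, rfl⟩ : Submonoid.powers g)
  obtain ⟨v, hv⟩ := hu
  refine ⟨X.basicOpen g, hgW, hyg,
    (↑v⁻¹ : Γ(X, X.basicOpen g)) • (res F le_top (δ b) - resO X hgW s • res F le_top (δ (g ^ n))),
    fun z hz => ?_⟩
  set σ := stalkDer F δ hδ z with hσ
  have hσL := stalkDer_leibniz F δ hδ z
  set G := X.presheaf.germ ⊤ z (memTop z) (g ^ n) with hG
  set sz := X.presheaf.germ W z (hgW hz) s with hsz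
  have h1 : sz * G = X.presheaf.germ ⊤ z (memTop z) b := by
    have := congrArg (X.presheaf.germ (X.basicOpen g) z hz) hb
    rw [map_mul, germ_resO, germ_resO, germ_resO] at this
    exact this
  have h2 : X.presheaf.germ (X.basicOpen g) z hz (↑v⁻¹ : Γ(X, X.basicOpen g)) * G = 1 := by
    have : G = X.presheaf.germ (X.basicOpen g) z hz (resO X le_top (g ^ n)) := by
      rw [germ_resO]
    rw [this, ← map_mul, ← hv, Units.inv_mul, map_one]
  rw [germ_smul, map_sub, germ_smul, germ_res', germ_res', ← stalkDer_germ F δ hδ z,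
    ← stalkDer_germ F δ hδ z, ← h1, hσL sz G, germ_resO, ← hG, ← hsz]
  rw [add_sub_cancel_left, smul_smul, h2, one_smul]

end sheaf2


section sheaf3

variable {X : Scheme.{u}} [IsAffine X] (F : X.Modules)

open Groth.Agent.Lib.QCohStalk

omit [IsAffine X] in
theorem section_ext (W : X.Opens) (t t' : Γ(F, W))
    (h : ∀ (z : X) (hz : z ∈ W), F.presheaf.germ W z hz t = F.presheaf.germ W z hz t') : t = t' :=
  TopCat.Presheaf.section_ext ⟨F.presheaf, F.isSheaf⟩ W t t' h

theorem existsUnique_section (δ : Γ(X, ⊤) →+ Γ(F, ⊤)) (hδ : IsLeibniz δ) (W : X.Opens)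
    (s : Γ(X, W)) :
    ∃! t : Γ(F, W), ∀ (z : X) (hz : z ∈ W),
      F.presheaf.germ W z hz t = stalkDer F δ hδ z (X.presheaf.germ W z hz s) := by
  choose V hVW hyV sf hsf using fun y : W => exists_local_section F δ hδ W s y.1 y.2
  have hcov : W ≤ ⨆ y : W, V y := by
    intro z hz
    exact Opens.mem_iSup.mpr ⟨⟨z, hz⟩, hyV ⟨z, hz⟩⟩
  obtain ⟨t, ht, -⟩ := TopCat.Sheaf.existsUnique_gluing' ⟨F.presheaf, F.isSheaf⟩ V W
    (fun i => homOfLE (hVW i)) hcov sf (by
      intro i j
      apply section_ext F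
      intro z hz
      have e1 := germ_res' F (inf_le_left : V i ⊓ V j ≤ V i) z hz (sf i)
      have e2 := germ_res' F (inf_le_right : V i ⊓ V j ≤ V j) z hz (sf j)
      refine e1.trans (Eq.trans ?_ e2.symm)
      rw [hsf i z hz.1, hsf j z hz.2])
  refine ⟨t, fun z hz => ?_, fun t' ht' => ?_⟩
  · have e1 := germ_res' F (hVW ⟨z, hz⟩) z (hyV ⟨z, hz⟩) t
    rw [← e1]
    have : res F (hVW ⟨z, hz⟩) t = sf ⟨z, hz⟩ := ht ⟨z, hz⟩
    rw [this, hsf ⟨z, hz⟩ z (hyV ⟨z, hz⟩)]
  · apply section_ext F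
    intro z hz
    rw [ht' z hz]
    have e1 := germ_res' F (hVW ⟨z, hz⟩) z (hyV ⟨z, hz⟩) t
    rw [← e1]
    have : res F (hVW ⟨z, hz⟩) t = sf ⟨z, hz⟩ := ht ⟨z, hz⟩
    rw [this, hsf ⟨z, hz⟩ z (hyV ⟨z, hz⟩)]

/-- the value of the derivation defined by `δ` on a section -/
noncomputable def derSect (δ : Γ(X, ⊤) →+ Γ(F, ⊤)) (hδ : IsLeibniz δ) (W : X.Opens)
    (s : Γ(X, W)) : Γ(F, W) := (existsUnique_section F δ hδ W s).choose

theorem germ_derSect (δ : Γ(X, ⊤) →+ Γ(F, ⊤)) (hδ : IsLeibniz δ) (W : X.Opens)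
    (s : Γ(X, W)) (z : X) (hz : z ∈ W) :
    F.presheaf.germ W z hz (derSect F δ hδ W s) =
      stalkDer F δ hδ z (X.presheaf.germ W z hz s) :=
  (existsUnique_section F δ hδ W s).choose_spec.1 z hz

theorem derSect_add (δ : Γ(X, ⊤) →+ Γ(F, ⊤)) (hδ : IsLeibniz δ) (W : X.Opens)
    (a b : Γ(X, W)) : derSect F δ hδ W (a + b) = derSect F δ hδ W a + derSect F δ hδ W b := by
  apply section_ext F
  intro z hz
  rw [map_add, germ_derSect, germ_derSect, germ_derSect, map_add, map_add]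

theorem derSect_mul (δ : Γ(X, ⊤) →+ Γ(F, ⊤)) (hδ : IsLeibniz δ) (W : X.Opens)
    (a b : Γ(X, W)) :
    derSect F δ hδ W (a * b) = a • derSect F δ hδ W b + b • derSect F δ hδ W a := by
  apply section_ext F
  intro z hz
  rw [map_add, germ_smul, germ_smul, germ_derSect, germ_derSect, germ_derSect, map_mul,
    stalkDer_leibniz F δ hδ z]

theorem derSect_map (δ : Γ(X, ⊤) →+ Γ(F, ⊤)) (hδ : IsLeibniz δ) {W V : X.Opens} (e : V ≤ W)
    (s : Γ(X, W)) :
    derSect F δ hδ V (X.presheaf.map (homOfLE e).op s) =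
      F.presheaf.map (homOfLE e).op (derSect F δ hδ W s) := by
  apply section_ext F
  intro z hz
  rw [germ_derSect]
  have e1 := germ_res' F e z hz (derSect F δ hδ W s)
  have e2 := germ_resO X e z hz s
  refine Eq.trans ?_ e1.symm
  rw [germ_derSect]
  exact congrArg _ e2

theorem derSect_top (δ : Γ(X, ⊤) →+ Γ(F, ⊤)) (hδ : IsLeibniz δ) (b : Γ(X, ⊤)) :
    derSect F δ hδ ⊤ b = δ b := by
  apply section_ext F
  intro z hz
  rw [germ_derSect]
  exact stalkDer_germ F δ hδ z b

end sheaf3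


section relative

variable {X S : Scheme.{u}} [IsAffine X] [IsAffine S] (f : X ⟶ S) (F : X.Modules)

open Groth.Agent.Lib.QCohStalk

theorem stalkDer_stalkMap (δ : Γ(X, ⊤) →+ Γ(F, ⊤)) (hδ : IsLeibniz δ)
    (h0 : ∀ c : Γ(S, ⊤), δ (f.appTop c) = 0) (z : X) (ξ : S.presheaf.stalk (f z)) :
    stalkDer F δ hδ z (f.stalkMap z ξ) = 0 := by
  let yy : (⊤ : S.Opens) := ⟨f z, memTop (f z)⟩
  letI : Algebra Γ(S, ⊤) (S.presheaf.stalk (f z)) := S.presheaf.algebra_section_stalk yy
  have hloc : IsLocalization.AtPrime (S.presheaf.stalk (f z))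
      ((isAffineOpen_top S).primeIdealOf yy).asIdeal := (isAffineOpen_top S).isLocalization_stalk yy
  obtain ⟨⟨a, t⟩, hat⟩ := IsLocalization.surj
    ((isAffineOpen_top S).primeIdealOf yy).asIdeal.primeCompl ξ
  have hu : IsUnit (algebraMap Γ(S, ⊤) (S.presheaf.stalk (f z)) t) :=
    IsLocalization.map_units _ t
  have key : ∀ c : Γ(S, ⊤), stalkDer F δ hδ z
      (f.stalkMap z (algebraMap Γ(S, ⊤) (S.presheaf.stalk (f z)) c)) = 0 := by
    intro c
    have e1 : f.stalkMap z (algebraMap Γ(S, ⊤) (S.presheaf.stalk (f z)) c) =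
        X.presheaf.germ ⊤ z (memTop z) (f.appTop c) :=
      Scheme.Hom.germ_stalkMap_apply f ⊤ z (memTop (f z)) c
    rw [e1, stalkDer_germ, h0, map_zero]
  have h1 := congrArg (fun x => stalkDer F δ hδ z (f.stalkMap z x)) hat
  simp only [map_mul] at h1
  rw [stalkDer_leibniz F δ hδ z, key, key, smul_zero, zero_add] at h1
  have hu' : IsUnit (f.stalkMap z (algebraMap Γ(S, ⊤) (S.presheaf.stalk (f z)) t)) :=
    hu.map (f.stalkMap z).hom
  obtain ⟨v, hv⟩ := hu'
  have := congrArg (fun x => (↑v⁻¹ : X.presheaf.stalk z) • x) h1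
  simpa [← hv, smul_smul] using this

theorem derSect_app (δ : Γ(X, ⊤) →+ Γ(F, ⊤)) (hδ : IsLeibniz δ)
    (h0 : ∀ c : Γ(S, ⊤), δ (f.appTop c) = 0) (V : S.Opens) (c : Γ(S, V)) :
    derSect F δ hδ (f ⁻¹ᵁ V) (f.app V c) = 0 := by
  apply section_ext F
  intro z hz
  rw [germ_derSect, map_zero, ← Scheme.Hom.germ_stalkMap_apply f V z hz c]
  exact stalkDer_stalkMap f F δ hδ h0 z _

/-- the derivation of sheaves defined by a derivation on global sections (affine case) -/
noncomputable def mkDer (δ : Γ(X, ⊤) →+ Γ(F, ⊤)) (hδ : IsLeibniz δ)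
    (h0 : ∀ c : Γ(S, ⊤), δ (f.appTop c) = 0) : OmegaSh.Der f F where
  d {U} := AddMonoidHom.mk' (fun s => derSect F δ hδ U.unop s) (derSect_add F δ hδ U.unop)
  d_mul {U} a b := derSect_mul F δ hδ U.unop a b
  d_map {_ _} i s := derSect_map F δ hδ i.unop.le s
  d_app {V} c := derSect_app f F δ hδ h0 V.unop c

theorem mkDer_app_top (δ : Γ(X, ⊤) →+ Γ(F, ⊤)) (hδ : IsLeibniz δ)
    (h0 : ∀ c : Γ(S, ⊤), δ (f.appTop c) = 0) : (mkDer f F δ hδ h0).app ⊤ = δ := by
  ext b
  exact derSect_top F δ hδ b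

end relative


section derLemmas

variable {X S : Scheme.{u}} {f : X ⟶ S} {F : X.Modules}

open Groth.Agent.Lib.QCohStalk

theorem der_app_mul (D : OmegaSh.Der f F) (W : X.Opens) (a b : Γ(X, W)) :
    D.app W (a * b) = a • D.app W b + b • D.app W a :=
  D.d_mul (X := op W) a b

theorem der_app_map (D : OmegaSh.Der f F) {W V : X.Opens} (e : V ≤ W) (s : Γ(X, W)) :
    D.app V (resO X e s) = res F e (D.app W s) :=
  D.d_map (homOfLE e).op s

theorem der_app_app (D : OmegaSh.Der f F) (V : S.Opens) (c : Γ(S, V)) :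
    D.app (f ⁻¹ᵁ V) (f.app V c) = 0 :=
  D.d_app (X := op V) c

theorem der_ext' (D D' : OmegaSh.Der f F) (h : ∀ (W : X.Opens) (s : Γ(X, W)), D.app W s = D'.app W s) :
    D = D' := by
  apply PresheafOfModules.Derivation.ext
  ext U s
  exact h U.unop s

theorem isLeibniz_app (D : OmegaSh.Der f F) (W : X.Opens) : IsLeibniz (D.app W) :=
  fun a b => der_app_mul D W a b

variable [IsAffine X]

theorem germ_der (D : OmegaSh.Der f F) (W : X.Opens) (s : Γ(X, W)) (z : X) (hz : z ∈ W) :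
    F.presheaf.germ W z hz (D.app W s) =
      stalkDer F (D.app ⊤) (isLeibniz_app D ⊤) z (X.presheaf.germ W z hz s) := by
  obtain ⟨g, hzg, hgW, b, n, hb⟩ := exists_fraction W s z hz
  have hloc : IsLocalization.Away g Γ(X, X.basicOpen g) :=
    (isAffineOpen_top X).isLocalization_basicOpen g
  have hu : IsUnit (resO X (le_top : X.basicOpen g ≤ ⊤) (g ^ n)) :=
    IsLocalization.map_units Γ(X, X.basicOpen g) (⟨g ^ n, n, rfl⟩ : Submonoid.powers g)
  set σ := stalkDer F (D.app ⊤) (isLeibniz_app D ⊤) z with hσ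
  have hσL := stalkDer_leibniz F (D.app ⊤) (isLeibniz_app D ⊤) z
  set G := X.presheaf.germ ⊤ z (memTop z) (g ^ n) with hG
  set sz := X.presheaf.germ W z hz s with hsz
  have hGu : IsUnit G := by
    have : G = X.presheaf.germ (X.basicOpen g) z hzg (resO X le_top (g ^ n)) := by
      rw [germ_resO]
    rw [this]
    exact hu.map (X.presheaf.germ (X.basicOpen g) z hzg).hom
  have h1 : sz * G = X.presheaf.germ ⊤ z (memTop z) b := by
    have := congrArg (X.presheaf.germ (X.basicOpen g) z hzg) hb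
    rw [map_mul, germ_resO, germ_resO, germ_resO] at this
    exact this
  have h2 := congrArg (fun x => F.presheaf.germ (X.basicOpen g) z hzg (D.app (X.basicOpen g) x)) hb
  simp only [der_app_mul, der_app_map, map_add, germ_smul, germ_res', germ_resO] at h2
  rw [← stalkDer_germ F (D.app ⊤) (isLeibniz_app D ⊤) z,
    ← stalkDer_germ F (D.app ⊤) (isLeibniz_app D ⊤) z, ← h1, hσL sz G, ← hG, ← hsz] at h2
  have h3 : G • F.presheaf.germ W z hz (D.app W s) = G • σ sz := add_left_cancel h2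
  obtain ⟨v, hv⟩ := hGu
  have := congrArg (fun x => (↑v⁻¹ : X.presheaf.stalk z) • x) h3
  simpa [← hv, smul_smul] using this

theorem der_ext (D D' : OmegaSh.Der f F) (h : D.app ⊤ = D'.app ⊤) : D = D' := by
  apply der_ext'
  intro W s
  apply section_ext F
  intro z hz
  rw [germ_der, germ_der]
  congr 1
  congr 1

end derLemmas

end Groth.Agent.Lib.OmegaDer81
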