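import Groth.Agent.Lib.ExtCompare95

/-!
# Comparison of `Ext` groups along an exact functor, compatibly with central endomorphisms (helper43)

Refinement of `ExtCompare95.nonempty_addEquiv`: the isomorphisms `Ext^p(B, F) ≃+ Ext^p(A, U F)` can be chosen
compatible with the action of every natural endomorphism `z` of the identity functor of `ℬ`
(acting on `Ext^p(B, F)` by postcomposition with `z_F` and on `Ext^p(A, U F)` by postcomposition with `U z_F`).
-/

universe w w' v v' u u'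

open CategoryTheory Limits Opposite Abelian

set_option linter.unusedSectionVars false

namespace Groth.Agent.Lib.H43ExtCompareCentral

open Groth.Agent.Lib.CechAcyc1 Groth.Agent.Lib.ExtCompare95

section Group

variable {M M' E E' : Type*} [AddCommGroup M] [AddCommGroup M'] [AddCommGroup E] [AddCommGroup E']

lemma exists_addEquiv_of_surjective (δ : M →+ E) (δ' : M' →+ E')
    (hδ : Function.Surjective δ) (hδ' : Function.Surjective δ') (e : M ≃+ M')
    (h : ∀ x, δ x = 0 ↔ δ' (e x) = 0) : ∃ ε : E ≃+ E', ∀ m, ε (δ m) = δ' (e m) := by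
  have he : δ.ker.map (e : M →+ M') = δ'.ker := by
    ext y
    constructor
    · rintro ⟨x, hx, rfl⟩
      exact (h x).1 hx
    · intro hy
      refine ⟨e.symm y, ?_, by simp⟩
      apply (h _).2
      simpa using hy
  refine ⟨(QuotientAddGroup.quotientKerEquivOfSurjective δ hδ).symm.trans
    ((QuotientAddGroup.congr δ.ker δ'.ker e he).trans
      (QuotientAddGroup.quotientKerEquivOfSurjective δ' hδ')), fun m => ?_⟩
  have h1 : (QuotientAddGroup.quotientKerEquivOfSurjective δ hδ).symm (δ m) =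
      QuotientAddGroup.mk m := by
    rw [AddEquiv.symm_apply_eq]
    rfl
  simp only [AddEquiv.trans_apply, h1]
  rfl

end Group

section Delta

variable {C : Type u} [Category.{v} C] [Abelian C] [HasExt.{w} C]
  {S : ShortComplex C} (hS : S.ShortExact) (X : C)

/-- `δ` commutes with morphisms of short exact sequences -/
lemma δ_naturality {S' : ShortComplex C} (hS' : S'.ShortExact) (f : S ⟶ S') (n : ℕ)
    (x : Ext.{w} X S.X₃ n) :
    δ hS' X n (x.comp (Ext.mk₀ f.τ₃) (add_zero n)) =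
      (δ hS X n x).comp (Ext.mk₀ f.τ₁) (add_zero (n + 1)) := by
  rw [δ_apply, δ_apply, Ext.comp_assoc_of_second_deg_zero,
    ← ShortComplex.ShortExact.extClass_naturality hS hS' f, Ext.comp_assoc_of_third_deg_zero]

end Delta

section Main

variable {𝒜 : Type u} [Category.{v} 𝒜] [Abelian 𝒜] [HasExt.{w} 𝒜]
  {ℬ : Type u'} [Category.{v'} ℬ] [Abelian ℬ] [HasExt.{w'} ℬ] [EnoughInjectives ℬ]
  (U : ℬ ⥤ 𝒜) [U.Additive] [PreservesFiniteLimits U] [PreservesFiniteColimits U]
  {A : 𝒜} {B : ℬ} (ι : A ⟶ U.obj B)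
  (hι : ∀ F : ℬ, Function.Bijective (fun φ : B ⟶ F => ι ≫ U.map φ))
  (hacyc : ∀ (I : ℬ), Injective I → ∀ p : ℕ, Subsingleton (Ext.{w} A (U.obj I) (p + 1)))

/-- compatibility of a comparison isomorphism with all central endomorphisms -/
def Compat {F : ℬ} {p : ℕ} (e : Ext.{w'} B F p ≃+ Ext.{w} A (U.obj F) p) : Prop :=
  ∀ (z : 𝟭 ℬ ⟶ 𝟭 ℬ) (x : Ext.{w'} B F p),
    e (x.comp (Ext.mk₀ (z.app F)) (add_zero p)) =
      (e x).comp (Ext.mk₀ (U.map (z.app F))) (add_zero p)

/-- the endomorphism of a short complex given by a central endomorphism -/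
@[simps]
def zS (z : 𝟭 ℬ ⟶ 𝟭 ℬ) (S : ShortComplex ℬ) : S ⟶ S where
  τ₁ := z.app S.X₁
  τ₂ := z.app S.X₂
  τ₃ := z.app S.X₃
  comm₁₂ := (z.naturality S.f).symm
  comm₂₃ := (z.naturality S.g).symm

lemma compat_e₀ (F : ℬ) : Compat U (e₀ U ι hι F) := by
  intro z x
  obtain ⟨φ, rfl⟩ := (Ext.mk₀_bijective _ _).2 x
  rw [Ext.mk₀_comp_mk₀, e₀_mk₀, e₀_mk₀, Ext.mk₀_comp_mk₀, U.map_comp, Category.assoc]

include hι hacyc in
lemma exists_addEquiv_one {S : ShortComplex ℬ} (hS : S.ShortExact) [Injective S.X₂] :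
    ∃ e : Ext.{w'} B S.X₁ (0 + 1) ≃+ Ext.{w} A (U.obj S.X₁) (0 + 1), Compat U e := by
  have hS' : (S.map U).ShortExact := hS.map_of_exact U
  have h1 : Subsingleton (Ext.{w'} B S.X₂ (0 + 1)) :=
    ⟨fun a b => (Ext.eq_zero_of_injective a).trans (Ext.eq_zero_of_injective b).symm⟩
  obtain ⟨ε, hε⟩ := exists_addEquiv_of_surjective (δ hS B 0) (δ hS' A 0) (δ_surjective hS B 0 h1)
    (δ_surjective hS' A 0 (hacyc S.X₂ inferInstance 0)) (e₀ U ι hι S.X₃) (by
      intro x
      obtain ⟨φ, rfl⟩ := (Ext.mk₀_bijective _ _).2 x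
      have e1 : e₀ U ι hι S.X₃ (Ext.mk₀ φ) = Ext.mk₀ (ι ≫ U.map φ) := e₀_mk₀ U ι hι S.X₃ φ
      have e2 : δ hS' A 0 (e₀ U ι hι S.X₃ (Ext.mk₀ φ)) = δ hS' A 0 (Ext.mk₀ (ι ≫ U.map φ)) :=
        congrArg _ e1
      have h2 := (iff_of_eq (congrArg (· = 0) e2)).trans (δ_eq_zero_iff hS' A (ι ≫ U.map φ))
      refine (δ_eq_zero_iff hS B φ).trans (Iff.trans ?_ h2.symm)
      constructor
      · rintro ⟨ψ, rfl⟩
        refine ⟨ι ≫ U.map ψ, ?_⟩
        change (ι ≫ U.map ψ) ≫ U.map S.g = _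
        rw [U.map_comp, Category.assoc]
        rfl
      · rintro ⟨ψ', hψ'⟩
        obtain ⟨ψ, rfl⟩ := (hι S.X₂).2 ψ'
        refine ⟨ψ, (hι S.X₃).1 ?_⟩
        change ι ≫ U.map (ψ ≫ S.g) = ι ≫ U.map φ
        rw [U.map_comp, ← Category.assoc]
        exact hψ')
  refine ⟨ε, fun z x => ?_⟩
  obtain ⟨m, rfl⟩ := δ_surjective hS B 0 h1 x
  have n1 := δ_naturality hS B hS (zS z S) 0 m
  have n2 := δ_naturality hS' A hS' (U.mapShortComplex.map (zS z S) : S.map U ⟶ S.map U) 0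
    (e₀ U ι hι S.X₃ m)
  have c0 := compat_e₀ U ι hι S.X₃ z m
  simp only [zS_τ₁, zS_τ₃] at n1
  rw [← n1]
  exact (hε _).trans ((congrArg (δ hS' A 0) c0).trans (n2.trans
    (congrArg (fun t => t.comp (Ext.mk₀ (U.map (z.app S.X₁))) (add_zero _)) (hε m).symm)))

include hι hacyc in
lemma exists_addEquiv_succ_succ (p : ℕ) {S : ShortComplex ℬ} (hS : S.ShortExact) [Injective S.X₂]
    (e : Ext.{w'} B S.X₃ (p + 1) ≃+ Ext.{w} A (U.obj S.X₃) (p + 1)) (he : Compat U e) :
    ∃ e' : Ext.{w'} B S.X₁ (p + 1 + 1) ≃+ Ext.{w} A (U.obj S.X₁) (p + 1 + 1), Compat U e' := by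
  have hS' : (S.map U).ShortExact := hS.map_of_exact U
  have hB : ∀ n, Subsingleton (Ext.{w'} B S.X₂ (n + 1)) := fun n =>
    ⟨fun a b => (Ext.eq_zero_of_injective a).trans (Ext.eq_zero_of_injective b).symm⟩
  have b1 : Function.Bijective (δ hS B (p + 1)) :=
    ⟨δ_injective hS B (p + 1) (hB p), δ_surjective hS B (p + 1) (hB (p + 1))⟩
  have b2 : Function.Bijective (δ hS' A (p + 1)) :=
    ⟨δ_injective hS' A (p + 1) (hacyc _ inferInstance p),
      δ_surjective hS' A (p + 1) (hacyc _ inferInstance (p + 1))⟩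
  refine ⟨(AddEquiv.ofBijective _ b1).symm.trans (e.trans (AddEquiv.ofBijective _ b2)),
    fun z x => ?_⟩
  obtain ⟨m, rfl⟩ := b1.2 x
  have n1 := δ_naturality hS B hS (zS z S) (p + 1) m
  have n2 := δ_naturality hS' A hS' (U.mapShortComplex.map (zS z S) : S.map U ⟶ S.map U) (p + 1)
    (e m)
  have c0 := he z m
  simp only [zS_τ₁, zS_τ₃] at n1
  have hε : ∀ m, ((AddEquiv.ofBijective _ b1).symm.trans (e.trans (AddEquiv.ofBijective _ b2)))
      (δ hS B (p + 1) m) = δ hS' A (p + 1) (e m) := by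
    intro m
    have : (AddEquiv.ofBijective _ b1).symm (δ hS B (p + 1) m) = m :=
      (AddEquiv.ofBijective _ b1).symm_apply_apply m
    simp only [AddEquiv.trans_apply, this]
    rfl
  rw [← n1]
  exact (hε _).trans ((congrArg (δ hS' A (p + 1)) c0).trans (n2.trans
    (congrArg (fun t => t.comp (Ext.mk₀ (U.map (z.app S.X₁))) (add_zero _)) (hε m).symm)))

include hι hacyc in
theorem exists_addEquiv_succ (p : ℕ) :
    ∀ F : ℬ, ∃ e : Ext.{w'} B F (p + 1) ≃+ Ext.{w} A (U.obj F) (p + 1), Compat U e := by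
  induction p with
  | zero => exact fun F => exists_addEquiv_one U ι hι hacyc (injSC_shortExact F)
  | succ p ih =>
    intro F
    obtain ⟨e, he⟩ := ih (injSC F).X₃
    exact exists_addEquiv_succ_succ U ι hι hacyc p (injSC_shortExact F) e he

include hι hacyc in
/-- **comparison of `Ext` groups, compatible with central endomorphisms** -/
theorem exists_addEquiv (p : ℕ) (F : ℬ) :
    ∃ e : Ext.{w'} B F p ≃+ Ext.{w} A (U.obj F) p, Compat U e := by
  cases p with
  | zero => exact ⟨e₀ U ι hι F, compat_e₀ U ι hι F⟩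
  | succ p => exact exists_addEquiv_succ U ι hι hacyc p F

end Main

end Groth.Agent.Lib.H43ExtCompareCentral
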