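import Groth.Prelude.Def_DeltaF
import Mathlib.Algebra.Homology.DerivedCategory.Ext.ExactSequences
import Mathlib.Algebra.Homology.DerivedCategory.Ext.Linear
import Mathlib.Algebra.Homology.ShortComplex.ModuleCat

/-!
# `Ext^n(-, Y)` as a cohomological delta-functor on the opposite category (helper43)

For an abelian category `C`, linear over a commutative ring `R`, and `Y : C`,
`extOpDelta R Y : CohDeltaFunctor Cᵒᵖ (ModuleCat R) ℕ` has `F n = (X ↦ Ext^n(X.unop, Y))` with the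
`R`-module structure of `Mathlib.Algebra.Homology.DerivedCategory.Ext.Linear`, functoriality by
precomposition, and connecting maps given by the product with the extension class of the (unopped)
short exact sequence.
-/

set_option autoImplicit false

universe u

open CategoryTheory Limits Opposite DeltaF Abelian

namespace Groth.Agent.Lib.H43ExtOpDelta

variable {C : Type*} [Category C] [Abelian C] [HasExt.{u} C] (R : Type u) [CommRing R] [Linear R C]
  (Y : C)

/-- precomposition with a morphism, as a linear map on `Ext` -/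
noncomputable def pre {X X' : C} (f : X' ⟶ X) (n : ℕ) : Ext X Y n →ₗ[R] Ext X' Y n where
  toFun x := (Ext.mk₀ f).comp x (zero_add n)
  map_add' _ _ := Ext.comp_add _ _ _ _
  map_smul' _ _ := Ext.comp_smul _ _ _ _

lemma pre_apply {X X' : C} (f : X' ⟶ X) (n : ℕ) (x : Ext X Y n) :
    pre R Y f n x = (Ext.mk₀ f).comp x (zero_add n) := rfl

/-- product with a class of degree one on the left, as a linear map -/
noncomputable def preClass {X X' : C} (c : Ext X' X 1) (n₀ n₁ : ℕ) (h : 1 + n₀ = n₁) :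
    Ext X Y n₀ →ₗ[R] Ext X' Y n₁ where
  toFun x := c.comp x h
  map_add' _ _ := Ext.comp_add _ _ _ _
  map_smul' _ _ := Ext.comp_smul _ _ _ _

lemma preClass_apply {X X' : C} (c : Ext X' X 1) (n₀ n₁ : ℕ) (h : 1 + n₀ = n₁) (x : Ext X Y n₀) :
    preClass R Y c n₀ n₁ h x = c.comp x h := rfl

/-- `Ext^n(-, Y)` as a functor `Cᵒᵖ ⥤ ModuleCat R` -/
noncomputable def eF (n : ℕ) : Cᵒᵖ ⥤ ModuleCat.{u} R where
  obj X := ModuleCat.of R (Ext X.unop Y n)
  map f := ModuleCat.ofHom (pre R Y f.unop n)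
  map_id X := by
    ext (x : Ext X.unop Y n)
    change (Ext.mk₀ (𝟙 X.unop)).comp x (zero_add n) = x
    rw [Ext.mk₀_id_comp]
  map_comp {X₁ X₂ X₃} f g := by
    ext (x : Ext X₁.unop Y n)
    change (Ext.mk₀ (g.unop ≫ f.unop)).comp x (zero_add n) =
      (Ext.mk₀ g.unop).comp ((Ext.mk₀ f.unop).comp x (zero_add n)) (zero_add n)
    rw [← Ext.mk₀_comp_mk₀, Ext.comp_assoc_of_second_deg_zero]

lemma eF_map_apply (n : ℕ) {X X' : Cᵒᵖ} (f : X ⟶ X') (x : Ext X.unop Y n) :
    (eF R Y n).map f x = (Ext.mk₀ f.unop).comp x (zero_add n) := rfl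

instance eF_additive (n : ℕ) : (eF R Y n).Additive where
  map_add {X X' f g} := by
    ext (x : Ext X.unop Y n)
    change (Ext.mk₀ (f.unop + g.unop)).comp x (zero_add n) =
      (Ext.mk₀ f.unop).comp x (zero_add n) + (Ext.mk₀ g.unop).comp x (zero_add n)
    rw [Ext.mk₀_add, Ext.add_comp]

variable {Y} in
lemma extClass_comp_natural {T₁ T₂ : ShortComplex C} (h₁ : T₁.ShortExact) (h₂ : T₂.ShortExact)
    (f : T₁ ⟶ T₂) {n₀ n₁ : ℕ} (h : 1 + n₀ = n₁) (x : Ext T₂.X₁ Y n₀) :
    h₁.extClass.comp ((Ext.mk₀ f.τ₁).comp x (zero_add n₀)) h =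
      (Ext.mk₀ f.τ₃).comp (h₂.extClass.comp x h) (zero_add n₁) := by
  rw [← Ext.comp_assoc_of_second_deg_zero, ShortComplex.ShortExact.extClass_naturality h₁ h₂ f]
  exact Ext.comp_assoc _ _ _ _ _ (by omega)

variable {R Y}
variable {S : ShortComplex Cᵒᵖ} (hS : S.ShortExact)

/-- the connecting map -/
noncomputable def eδ (n₀ n₁ : ℕ) (h : n₀ + 1 = n₁) :
    (eF R Y n₀).obj S.X₃ ⟶ (eF R Y n₁).obj S.X₁ :=
  ModuleCat.ofHom (preClass R Y hS.unop.extClass n₀ n₁ (by omega))

lemma eδ_apply (n₀ n₁ : ℕ) (h : n₀ + 1 = n₁) (x : Ext S.X₃.unop Y n₀) :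
    eδ (R := R) (Y := Y) hS n₀ n₁ h x = hS.unop.extClass.comp x (by omega) := rfl

variable (R Y) in
/-- `Ext^n(-, Y)` as a cohomological delta-functor on `Cᵒᵖ` -/
noncomputable def extOpDelta : CohDeltaFunctor Cᵒᵖ (ModuleCat.{u} R) ℕ where
  F n := eF R Y n
  additive n := eF_additive R Y n
  δ _ hS n₀ n₁ h := eδ hS n₀ n₁ h
  δ_natural {S S'} hS hS' φ n₀ n₁ h := by
    ext (x : Ext S.X₃.unop Y n₀)
    exact extClass_comp_natural hS'.unop hS.unop (ShortComplex.unopMap φ) (by omega) x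
  exact₂ S hS n := by
    rw [ShortComplex.moduleCat_exact_iff]
    intro (x₂ : Ext S.X₂.unop Y n) hx₂
    exact Ext.contravariant_sequence_exact₂ hS.unop Y x₂ hx₂
  comp_δ S hS n₀ n₁ h := by
    ext (x : Ext S.X₂.unop Y n₀)
    exact ShortComplex.ShortExact.extClass_comp_assoc hS.unop x (h := by omega)
  exact₃ S hS n₀ n₁ h := by
    rw [ShortComplex.moduleCat_exact_iff]
    intro (x₁ : Ext S.X₃.unop Y n₀) hx₁
    exact Ext.contravariant_sequence_exact₁ hS.unop Y x₁ (by omega) hx₁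
  δ_comp S hS n₀ n₁ h := by
    ext (x : Ext S.X₃.unop Y n₀)
    exact ShortComplex.ShortExact.comp_extClass_assoc hS.unop x (by omega)
  exact₁ S hS n₀ n₁ h := by
    rw [ShortComplex.moduleCat_exact_iff]
    intro (x₃ : Ext S.X₁.unop Y n₁) hx₃
    exact Ext.contravariant_sequence_exact₃ hS.unop Y x₃ hx₃ (by omega)

lemma extOpDelta_F (n : ℕ) : (extOpDelta R Y).F n = eF R Y n := rfl

end Groth.Agent.Lib.H43ExtOpDelta
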