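import Groth.Agent.Lib.H43ExtShCohSite
import Groth.Agent.Lib.ModSiteExtShRestr
import Groth.Agent.Lib.H43LocGlobScheme
import Groth.Agent.Lib.H78QAffine
import Groth.Agent.Lib.FinGlobGen
import Groth.Agent.Lib.CohLocal
import Groth.Agent.Lib.H90CohRestrict
import Groth.Agent.S0485

/-!
# `ℰxt^m(F, G)` is coherent for `F`, `G` coherent on a locally Noetherian scheme (Hartshorne III.6.8 coherence part) (helper43)
-/

set_option autoImplicit false
set_option linter.unusedSectionVars false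
universe u
open CategoryTheory Opposite Limits AlgebraicGeometry Abelian

namespace Groth.Agent.Lib.H43ExtShCohScheme

open Groth.Agent.Lib.ModSiteTensor Groth.Agent.Lib.ModSiteFlat Groth.Agent.Lib.H43SheafHomFree
  Groth.Agent.Lib.ModSiteHomRestr Groth.Agent.Lib.H43SheafHomLocFree CohB1

/-- coherent modules on an affine scheme are quotients of finite free modules -/
theorem exists_finite_epi_free_of_isAffine (Y : Scheme.{u}) [IsAffine Y] (M : Y.Modules)
    (hM : Coh.IsCoh M) :
    ∃ (K : Type u) (_ : Finite K) (p : (SheafOfModules.free K : Y.Modules) ⟶ M), Epi p := by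
  have hO : PicF.IsInvertible (Coh.structureModule Y) :=
    fun _ => ⟨⊤, trivial, ⟨Scheme.Modules.restrictUnitIso _⟩⟩
  have hL : CohB1.IsAmple (Coh.structureModule Y) :=
    Groth.Agent.Lib.H78QAffine.isAmple_of_isQuasiAffine hO
  obtain ⟨n₀, h⟩ := Groth.Agent.Lib.FinGlobGen.exists_finite_epi_twist hL M hM
  obtain ⟨K, hK, p, hp⟩ := h n₀ le_rfl
  let i : tensorMod M (tensorPow (Coh.structureModule Y) n₀) ≅ M :=
    Groth.Agent.Lib.OXModTensor.tensorModIso (Iso.refl M)
      (Groth.Agent.Lib.OXModTensor.tensorPowUnit n₀) ≪≫ Groth.Agent.Lib.OXModTensor.rightUnitor M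
  exact ⟨K, hK, p ≫ i.hom, epi_comp _ _⟩

variable {X : Scheme.{u}} (V : X.Opens)

/-- the property "coherent on the open subscheme `V`" for modules on the slice site -/
def Pr (N : ModSite.Mod (X.sheaf.over V)) : Prop :=
  Coh.IsCoh ((Scheme.Modules.overEquiv V).functor.obj N)

theorem pr_iso {M N : ModSite.Mod (X.sheaf.over V)} (i : M ≅ N) (h : Pr V M) : Pr V N :=
  Groth.Agent.Lib.CohFinAmple.isCoh_of_iso ((Scheme.Modules.overEquiv V).functor.mapIso i) h

theorem pr_ker [IsLocallyNoetherian (↑V : Scheme.{u})] {M N : ModSite.Mod (X.sheaf.over V)}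
    (f : M ⟶ N) (hM : Pr V M) (hN : Pr V N) : Pr V (kernel f) :=
  Groth.Agent.Lib.CohFinAmple.isCoh_of_iso
    (PreservesKernel.iso (Scheme.Modules.overEquiv V).functor f).symm
    (Groth.Agent.Lib.H43LocGlobScheme.isCoh_kernel _ hM hN)

theorem pr_coker {M N : ModSite.Mod (X.sheaf.over V)}
    (f : M ⟶ N) (hM : Pr V M) (hN : Pr V N) : Pr V (cokernel f) := by
  have := hM.1
  exact Groth.Agent.Lib.CohFinAmple.isCoh_of_iso
    (PreservesCokernel.iso (Scheme.Modules.overEquiv V).functor f).symm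
    (Groth.Agent.Lib.H90OXModExact.isCoh_cokernel _ hN)

theorem isCoh_sigma_fin {Y : Scheme.{u}} {P : Y.Modules} (hP : Coh.IsCoh P) (n : ℕ) :
    Coh.IsCoh (∐ fun _ : Fin n => P) := by
  have h1 := Groth.Agent.Lib.CohFinAmple.isCoh_sigma hP (ULift.{u} (Fin n))
  exact Groth.Agent.Lib.CohFinAmple.isCoh_of_iso
    (Sigma.whiskerEquiv (f := fun _ : ULift.{u} (Fin n) => P) (g := fun _ : Fin n => P)
      Equiv.ulift (fun _ => Iso.refl _)) h1

theorem pr_sigma (M : ModSite.Mod (X.sheaf.over V)) (hM : Pr V M) (n : ℕ) :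
    Pr V (∐ fun _ : Fin n => M) :=
  Groth.Agent.Lib.CohFinAmple.isCoh_of_iso
    (PreservesCoproduct.iso (Scheme.Modules.overEquiv V).functor (fun _ : Fin n => M)).symm
    (isCoh_sigma_fin hM n)

/-- the structure sheaf of the slice corresponds to the structure sheaf of `V` -/
noncomputable def functorUnitIso :
    (Scheme.Modules.overEquiv V).functor.obj (ModSite.unit (X.sheaf.over V)) ≅
      Coh.structureModule (↑V : Scheme.{u}) :=
  (Scheme.Modules.overEquiv V).functor.mapIso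
    (TopologicalSpace.Opens.sheafOfModulesEquivOverInverseUnit V X.ringCatSheaf).symm ≪≫
    (Scheme.Modules.overEquiv V).counitIso.app _

theorem pr_unit : Pr V (ModSite.unit (X.sheaf.over V)) :=
  Groth.Agent.Lib.CohFinAmple.isCoh_of_iso (functorUnitIso V).symm
    (Groth.Agent.Lib.CohFinAmple.isCoh_structureModule _)

theorem pr_gen [IsAffine (↑V : Scheme.{u})] (M : ModSite.Mod (X.sheaf.over V)) (hM : Pr V M) :
    ∃ (n : ℕ) (π : Groth.Agent.Lib.H43ExtShCohSite.free (X.sheaf.over V) n ⟶ M), Epi π := by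
  obtain ⟨K, hK, p, hp⟩ := exists_finite_epi_free_of_isAffine (↑V : Scheme.{u}) _ hM
  obtain ⟨n, ⟨eK⟩⟩ := Finite.exists_equiv_fin K
  let j : Groth.Agent.Lib.H43ExtShCohSite.free (X.sheaf.over V) n ≅
      (Scheme.Modules.overEquiv V).inverse.obj (SheafOfModules.free K) :=
    (Sigma.whiskerEquiv (f := fun _ : K => ModSite.unit (X.sheaf.over V))
      (g := fun _ : Fin n => ModSite.unit (X.sheaf.over V)) eK (fun _ => Iso.refl _)).symm ≪≫
    (Sigma.mapIso (fun _ : K =>
      TopologicalSpace.Opens.sheafOfModulesEquivOverInverseUnit V X.ringCatSheaf)).symm ≪≫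
    (PreservesCoproduct.iso (Scheme.Modules.overEquiv V).inverse
      (fun _ : K => SheafOfModules.unit (↑V : Scheme.{u}).ringCatSheaf)).symm
  have h1 : Epi ((Scheme.Modules.overEquiv V).inverse.map p) :=
    @Functor.map_epi _ _ _ _ (Scheme.Modules.overEquiv V).inverse _ _ _ p hp
  refine ⟨n, j.hom ≫ (Scheme.Modules.overEquiv V).inverse.map p ≫
    ((Scheme.Modules.overEquiv V).unitIso.app M).inv, ?_⟩
  have h2 : Epi ((Scheme.Modules.overEquiv V).inverse.map p ≫
    ((Scheme.Modules.overEquiv V).unitIso.app M).inv) :=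
    @epi_comp _ _ _ _ _ _ h1 _ (inferInstanceAs (Epi ((Scheme.Modules.overEquiv V).unitIso.app M).inv))
  exact @epi_comp _ _ _ _ _ _ (inferInstanceAs (Epi j.hom)) _ h2

/-- **`ℰxt^i(F, G)` is coherent** for `F`, `G` coherent on a locally Noetherian scheme. -/
theorem isCoh_extSh [IsLocallyNoetherian X] (F G : X.Modules) (hF : Coh.IsCoh F) (hG : Coh.IsCoh G)
    [ModSite.HasSheafHom (O := X.sheaf) F] [HasInjectiveResolutions (ModSite.Mod X.sheaf)] (i : ℕ) :
    Coh.IsCoh ((ModSite.extSh (O := X.sheaf) F i).obj G) := by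
  refine Groth.Agent.Lib.CohLocal.isCoh_of_forall_restrict_opens _ fun x => ?_
  obtain ⟨V, hV, hxV⟩ : ∃ V : X.Opens, IsAffineOpen V ∧ x ∈ V := by
    obtain ⟨_, ⟨V, hV, rfl⟩, hxV, -⟩ :=
      X.isBasis_affineOpens.exists_subset_of_mem_open (Set.mem_univ x) isOpen_univ
    exact ⟨V, hV, hxV⟩
  refine ⟨V, hxV, ?_⟩
  have : IsAffine (↑V : Scheme.{u}) := hV
  have : EnoughInjectives (ModSite.Mod (X.sheaf.over V)) :=
    Groth.Agent.S0485.result _ (ModSite.ringSh (X.sheaf.over V))
  have hFV : Pr V ((ModSite.restr X.sheaf V).obj F) :=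
    Groth.Agent.Lib.CohFinAmple.isCoh_of_iso ((Scheme.Modules.overFunctorEquiv V).app F).symm
      (Groth.Agent.Lib.H90CohRestrict.isCoh_restrict V.ι F hF)
  have hGV : Pr V ((ModSite.restr X.sheaf V).obj G) :=
    Groth.Agent.Lib.CohFinAmple.isCoh_of_iso ((Scheme.Modules.overFunctorEquiv V).app G).symm
      (Groth.Agent.Lib.H90CohRestrict.isCoh_restrict V.ι G hG)
  have : ModSite.HasSheafHom ((ModSite.restr X.sheaf V).obj F) := hasSheafHom _ _
  have h := Groth.Agent.Lib.H43ExtShCohSite.prop_extSh (Pr V) (pr_iso V) (pr_ker V) (pr_coker V)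
    (pr_sigma V) (pr_unit V) (pr_gen V) _ hGV i _ hFV
  have φ := (extShRestrIso X.sheaf V F i).app G
  have h' : Pr V ((ModSite.restr X.sheaf V).obj ((ModSite.extSh (O := X.sheaf) F i).obj G)) :=
    pr_iso V φ.symm h
  exact Groth.Agent.Lib.CohFinAmple.isCoh_of_iso ((Scheme.Modules.overFunctorEquiv V).app _) h'

end Groth.Agent.Lib.H43ExtShCohScheme
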