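import Groth.Agent.Lib.H43LocGlobSite
import Groth.Agent.Lib.H43SheafHomTwist
import Groth.Agent.Lib.H43ExactDerived
import Groth.Agent.Lib.H43SheafHomLocFree

/-!
# `ℰxt^m(F, G)` has property `Pr` for `F`, `G` with property `Pr` (site level) (helper43)

`Pr` a property of modules on a ringed site, closed under isomorphisms, kernels, cokernels, finite sums of copies,
containing the structure sheaf, such that every `Pr`-module is a quotient of a finite free module.  Then
`ℋom(F, G)` and `ℰxt^m(F, G)` have `Pr` for `F`, `G` in `Pr`.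
-/

set_option autoImplicit false
set_option linter.unusedSectionVars false
universe u
open CategoryTheory Opposite Limits Abelian

namespace Groth.Agent.Lib.H43ExtShCohSite

open Groth.Agent.Lib.ModSiteTensor Groth.Agent.Lib.ModSiteFlat Groth.Agent.Lib.H43SheafHomFree
  Groth.Agent.Lib.H43LocGlobSite Groth.Agent.Lib.H43SheafHomTwist Groth.Agent.Lib.H43SheafHomContra

variable {C : Type u} [SmallCategory C] {J : GrothendieckTopology C} {O : Sheaf J CommRingCat.{u}}

instance (M : ModSite.Mod O) : ModSite.HasSheafHom M := hasSheafHom O M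

/-- `ℋom(O, -) ≅ id` -/
noncomputable def sheafHomUnitIso : ModSite.sheafHom (ModSite.unit O) ≅ 𝟭 (ModSite.Mod O) :=
  sheafHomInvIso ((unitTensIso O).app (ModSite.unit O)) ≪≫ tensUnitIso O

/-- the finite free module of rank `n` -/
noncomputable abbrev free (O : Sheaf J CommRingCat.{u}) (n : ℕ) : ModSite.Mod O :=
  ∐ fun _ : Fin n => ModSite.unit O

/-- `ℋom(O^n, G) ≅ G^n` -/
theorem nonempty_sheafHom_free_iso (n : ℕ) (G : ModSite.Mod O) :
    Nonempty ((ModSite.sheafHom (free O n)).obj G ≅ ∐ fun _ : Fin n => G) := by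
  obtain ⟨i⟩ := nonempty_sheafHomSigmaIso (fun _ : Fin n => ModSite.unit O) G
  exact ⟨i ≪≫ Sigma.mapIso (fun _ => sheafHomUnitIso.app G)⟩

theorem preservesFiniteColimits_sheafHom_free (n : ℕ) :
    PreservesFiniteColimits (ModSite.sheafHom (free O n)) := by
  have := preservesEpimorphisms_sheafHom_of_iso_free (free O n) n (Iso.refl _)
  have : PreservesLimitsOfSize.{0, 0} (ModSite.sheafHom (free O n)) :=
    (ModSite.sheafHomAdj (free O n)).rightAdjoint_preservesLimits
  have : PreservesFiniteLimits (ModSite.sheafHom (free O n)) :=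
    PreservesLimitsOfSize.preservesFiniteLimits _
  exact H43AdjEpi.preservesFiniteColimits_of_preservesEpimorphisms _

/-- `ℰxt^{p+1}(O^n, B) = 0` -/
theorem isZero_extSh_free [HasInjectiveResolutions (ModSite.Mod O)] (n : ℕ) (B : ModSite.Mod O)
    (p : ℕ) : IsZero ((ModSite.extSh (free O n) (p + 1)).obj B) := by
  have h1 := preservesFiniteColimits_sheafHom_free (O := O) n
  have h2 := preservesFiniteLimits_sheafHom (free O n)
  exact Groth.Agent.Lib.H43ExactDerived.isZero_rightDerived_succ_of_exact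
    (ModSite.sheafHom (free O n)) B p

section Main

variable (Pr : ModSite.Mod O → Prop)
  (h_iso : ∀ {M N : ModSite.Mod O}, (M ≅ N) → Pr M → Pr N)
  (h_ker : ∀ {M N : ModSite.Mod O} (f : M ⟶ N), Pr M → Pr N → Pr (kernel f))
  (h_coker : ∀ {M N : ModSite.Mod O} (f : M ⟶ N), Pr M → Pr N → Pr (cokernel f))
  (h_sigma : ∀ M : ModSite.Mod O, Pr M → ∀ n : ℕ, Pr (∐ fun _ : Fin n => M))
  (h_unit : Pr (ModSite.unit O))
  (h_gen : ∀ M : ModSite.Mod O, Pr M → ∃ (n : ℕ) (π : free O n ⟶ M), Epi π)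

include h_iso h_sigma in
theorem prop_sheafHom_free (n : ℕ) (G : ModSite.Mod O) (hG : Pr G) :
    Pr ((ModSite.sheafHom (free O n)).obj G) := by
  obtain ⟨i⟩ := nonempty_sheafHom_free_iso n G
  exact h_iso i.symm (h_sigma G hG n)

include h_iso h_ker h_sigma h_unit h_gen in
/-- `ℋom(A, G)` has `Pr` -/
theorem prop_sheafHom (A G : ModSite.Mod O) (hA : Pr A) (hG : Pr G) :
    Pr ((ModSite.sheafHom A).obj G) := by
  obtain ⟨n₀, π₀, hπ₀⟩ := h_gen A hA
  have hE₀ : Pr (free O n₀) := h_sigma _ h_unit n₀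
  have hR : Pr (kernel π₀) := h_ker π₀ hE₀ hA
  obtain ⟨n₁, π₁, hπ₁⟩ := h_gen _ hR
  let S : ShortComplex (ModSite.Mod O) := ShortComplex.mk (π₁ ≫ kernel.ι π₀) π₀ (by simp)
  have hS : S.Exact := by
    let φ : S ⟶ ShortComplex.mk (kernel.ι π₀) π₀ (kernel.condition π₀) :=
      { τ₁ := π₁
        τ₂ := 𝟙 _
        τ₃ := 𝟙 _
        comm₁₂ := by simp [S]
        comm₂₃ := by simp [S] }
    have : Epi φ.τ₁ := hπ₁
    have : IsIso φ.τ₂ := inferInstanceAs (IsIso (𝟙 _))
    have : Mono φ.τ₃ := inferInstanceAs (Mono (𝟙 _))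
    exact (ShortComplex.exact_iff_of_epi_of_isIso_of_mono φ).2
      (ShortComplex.exact_of_f_is_kernel _ (kernelIsKernel π₀))
  have : Epi S.g := hπ₀
  obtain ⟨w, hex, hmono⟩ := leftExact_sheafHomMap S hS G
  have c0 : Pr ((ModSite.sheafHom S.X₂).obj G) := prop_sheafHom_free Pr h_iso h_sigma n₀ G hG
  have c1 : Pr ((ModSite.sheafHom S.X₁).obj G) := prop_sheafHom_free Pr h_iso h_sigma n₁ G hG
  have hk := hex.fIsKernel
  let i : (ModSite.sheafHom S.X₃).obj G ≅ kernel ((ExtSupp.sheafHomMap S.f).app G) :=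
    IsLimit.conePointUniqueUpToIso hk (limit.isLimit _)
  exact h_iso i.symm (h_ker _ c0 c1)

include h_iso h_ker h_coker h_sigma h_unit h_gen in
/-- **`ℰxt^m(F, G)` has `Pr`** -/
theorem prop_extSh [HasInjectiveResolutions (ModSite.Mod O)] (G : ModSite.Mod O) (hG : Pr G) :
    ∀ (m : ℕ) (F : ModSite.Mod O), Pr F → Pr ((ModSite.extSh F m).obj G) := by
  have setup : ∀ F : ModSite.Mod O, Pr F → ∃ (n : ℕ) (S : ShortComplex (ModSite.Mod O)),
      S.ShortExact ∧ S.X₃ = F ∧ Pr S.X₁ ∧ S.X₂ = free O n := by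
    intro F hF
    obtain ⟨n, π, hπ⟩ := h_gen F hF
    exact ⟨n, ShortComplex.mk (kernel.ι π) π (kernel.condition π),
      { exact := ShortComplex.exact_of_f_is_kernel _ (kernelIsKernel π)
        mono_f := inferInstanceAs (Mono (kernel.ι π))
        epi_g := hπ }, rfl, h_ker π (h_sigma _ h_unit n) hF, rfl⟩
  intro m
  induction m using Nat.twoStepInduction with
  | zero =>
    intro F hF
    have := preservesFiniteLimits_sheafHom F
    have h4 : IsIso (ModSite.sheafHom F).toRightDerivedZero := inferInstance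
    have h5 : IsIso ((ModSite.sheafHom F).toRightDerivedZero.app G) :=
      NatIso.isIso_app_of_isIso _ _
    exact h_iso (asIso ((ModSite.sheafHom F).toRightDerivedZero.app G))
      (prop_sheafHom Pr h_iso h_ker h_sigma h_unit h_gen F G hF hG)
  | one =>
    intro F hF
    obtain ⟨n, S, hS, rfl, hR, hE⟩ := setup F hF
    have h3 : IsZero ((ModSite.extSh S.X₂ 1).obj G) := by
      rw [hE]
      exact isZero_extSh_free n G 0
    have := preservesFiniteLimits_sheafHom S.X₁
    have := preservesFiniteLimits_sheafHom S.X₂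
    have hq := Groth.Agent.Lib.FunctorSESNat.epi_q_app (exactOnInj S hS) G h3
    have hex := Groth.Agent.Lib.FunctorSESNat.exact_β_q_app (exactOnInj S hS) G
    have c1 : Pr ((ModSite.sheafHom S.X₁).obj G) :=
      prop_sheafHom Pr h_iso h_ker h_sigma h_unit h_gen S.X₁ G hR hG
    have c2 : Pr ((ModSite.sheafHom S.X₂).obj G) := by
      rw [hE]
      exact prop_sheafHom_free Pr h_iso h_sigma n G hG
    let i : cokernel ((ExtSupp.sheafHomMap S.f).app G) ≅ (ModSite.extSh S.X₃ 1).obj G :=
      IsColimit.coconePointUniqueUpToIso (cokernelIsCokernel _) hex.gIsCokernel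
    exact h_iso i (h_coker _ c2 c1)
  | more m _ ih =>
    intro F hF
    obtain ⟨n, S, hS, rfl, hR, hE⟩ := setup F hF
    have h3 : IsZero ((ModSite.extSh S.X₂ (m + 1)).obj G) := by
      rw [hE]
      exact isZero_extSh_free n G m
    have h4 : IsZero ((ModSite.extSh S.X₂ (m + 1 + 1)).obj G) := by
      rw [hE]
      exact isZero_extSh_free n G (m + 1)
    have h5 := Groth.Agent.Lib.AcyclicFirstVar.isIso_δ_app (exactOnInj S hS) (m + 1) G h3 h4
    exact h_iso (asIso ((Groth.Agent.Lib.FunctorSESNat.δ (exactOnInj S hS) (m + 1)).app G))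
      (ih S.X₁ hR)

end Main

end Groth.Agent.Lib.H43ExtShCohSite
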