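import Groth.Agent.Lib.H43SheafHomLocFree
import Groth.Agent.Lib.ModSiteExtShRestr
import Groth.Agent.S0485

/-!
# `ℰxt^i(A, E) = 0` for `E` finite locally free as soon as `ℰxt^i(A, O_X) = 0` (helper43)
-/

set_option autoImplicit false
universe u
open CategoryTheory Opposite Limits AlgebraicGeometry

namespace Groth.Agent.Lib.H43ExtShLocFree

open Groth.Agent.Lib.ModSiteTensor Groth.Agent.Lib.ModSiteFlat Groth.Agent.Lib.ModSiteHomRestr
  Groth.Agent.Lib.H43SheafHomLocFree Groth.Agent.Lib.H43SheafHomFree

/-- an additive functor killing `W` kills finite sums of copies of `W` -/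
theorem isZero_map_sigma {𝒜 ℬ : Type*} [Category 𝒜] [Category ℬ] [Preadditive 𝒜] [Preadditive ℬ]
    (G : 𝒜 ⥤ ℬ) [G.Additive] (W : 𝒜) (n : ℕ) [HasCoproduct (fun _ : Fin n => W)]
    (h : IsZero (G.obj W)) : IsZero (G.obj (∐ fun _ : Fin n => W)) := by
  obtain ⟨π, hπ⟩ := exists_total (fun _ : Fin n => W)
  rw [IsZero.iff_id_eq_zero, ← G.map_id, ← hπ, G.map_sum]
  refine Finset.sum_eq_zero fun j _ => ?_
  rw [G.map_comp, h.eq_of_tgt (G.map (π j)) 0, zero_comp]

/-- right derived functors are additive -/
theorem additive_rightDerived {𝒜 ℬ : Type*} [Category 𝒜] [Category ℬ] [Abelian 𝒜] [Abelian ℬ]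
    [HasInjectiveResolutions 𝒜] (F : 𝒜 ⥤ ℬ) [F.Additive] (n : ℕ) : (F.rightDerived n).Additive where
  map_add {X Y f g} := by
    rw [F.rightDerived_map_eq n (f + g) (P := injectiveResolution X) (Q := injectiveResolution Y)
        (InjectiveResolution.desc f _ _ + InjectiveResolution.desc g _ _)
        (by rw [Preadditive.comp_add, InjectiveResolution.desc_commutes,
          InjectiveResolution.desc_commutes, Functor.map_add, Preadditive.add_comp]),
      F.rightDerived_map_eq n f (InjectiveResolution.desc f _ _)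
        (InjectiveResolution.desc_commutes f _ _),
      F.rightDerived_map_eq n g (InjectiveResolution.desc g _ _)
        (InjectiveResolution.desc_commutes g _ _),
      Functor.map_add, Preadditive.add_comp, Preadditive.comp_add]

variable {X : Scheme.{u}}

/-- **`ℰxt^i(A, E) = 0`** for `E` finite locally free, if `ℰxt^i(A, O_X) = 0`. -/
theorem isZero_extSh_of_isFinLocFree (A E : X.Modules) [ModSite.HasSheafHom (O := X.sheaf) A]
    [HasInjectiveResolutions (ModSite.Mod X.sheaf)] (hE : FlatMod.IsFinLocFree E) (i : ℕ)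
    (h : IsZero ((ModSite.extSh (O := X.sheaf) A i).obj (Coh.structureModule X))) :
    IsZero ((ModSite.extSh (O := X.sheaf) A i).obj E) := by
  choose U n hxU e using hE
  refine isZero_of_forall_restr _ U ?_ fun x => ?_
  · rw [eq_top_iff]
    intro x _
    exact TopologicalSpace.Opens.mem_iSup.2 ⟨x, hxU x⟩
  · have : ModSite.HasSheafHom ((ModSite.restr X.sheaf (U x)).obj A) := hasSheafHom _ _
    have : EnoughInjectives (ModSite.Mod (X.sheaf.over (U x))) :=
      Groth.Agent.S0485.result _ (ModSite.ringSh (X.sheaf.over (U x)))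
    let φ := extShRestrIso X.sheaf (U x) A i
    have i1 := φ.app E
    have i2 := (ModSite.extSh ((ModSite.restr X.sheaf (U x)).obj A) i).mapIso
      (restrIsoFree E (U x) (n x) (e x).some)
    have i3 := φ.app (Coh.structureModule X)
    have hz : IsZero ((ModSite.extSh ((ModSite.restr X.sheaf (U x)).obj A) i).obj
        (ModSite.unit (X.sheaf.over (U x)))) :=
      IsZero.of_iso (Functor.map_isZero (ModSite.restr X.sheaf (U x)) h) i3.symm
    have := additive_rightDerived (ModSite.sheafHom ((ModSite.restr X.sheaf (U x)).obj A)) i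
    exact IsZero.of_iso (isZero_map_sigma _ _ _ hz) (i1 ≪≫ i2)

end Groth.Agent.Lib.H43ExtShLocFree
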