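/-
helper11: keystone ModSiteTensor, part H4.  For an injective module `G`, the internal hom `Hom_O(F, G)` is
totally acyclic (flasque) as an abelian sheaf (S6150).
-/
import Groth.Agent.Lib.ModSiteFlatSES
import Groth.Agent.Lib.AbTensorFlatSeq
import Groth.Agent.Lib.ModAcyc
import Mathlib.RingTheory.Flat.Basic

universe u
open CategoryTheory Opposite Limits MonoidalCategory

namespace Groth.Agent.Lib.ModSiteFlat

open Groth.Agent.Lib.ModSiteTensor Groth.Agent.Lib.AbTensorFlat Groth.Agent.Lib.MonLoc

variable {C : Type u} [SmallCategory C] {J : GrothendieckTopology C} {O : Sheaf J CommRingCat.{u}}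

/-- tensoring with a sectionwise flat presheaf of modules preserves monomorphisms -/
lemma mono_whiskerLeft_of_flat_sections (P : PMod O)
    (hP : ∀ U : Cᵒᵖ, Module.Flat ((O.obj ⋙ forget₂ CommRingCat.{u} RingCat.{u}).obj U) (P.obj U))
    {Q Q' : PMod O} (g : Q ⟶ Q') [Mono g] : Mono (P ◁ g) := by
  apply PresheafOfModules.mono_of_injective
  intro U
  have hg : Function.Injective (g.app U).hom := PresheafOfModules.injective_of_mono g U
  have := hP U
  have h := Module.Flat.lTensor_preserves_injective_linearMap (M := P.obj U) (g.app U).hom hg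
  exact h

/-- the sheafification of a sectionwise flat presheaf of modules is flat -/
theorem isFlat_sh_of_flat_sections (P : PMod O)
    (hP : ∀ U : Cᵒᵖ, Module.Flat ((O.obj ⋙ forget₂ CommRingCat.{u} RingCat.{u}).obj U) (P.obj U)) :
    ModSite.IsFlat ((sh O).obj P) := by
  rw [isFlat_iff_preservesMono]
  refine ⟨fun {N' N} m hm => ?_⟩
  have h1 : Mono ((fg O).map m) := by
    have : PreservesLimitsOfShape WalkingCospan (fg O) :=
      inferInstanceAs (PreservesLimitsOfShape WalkingCospan (SheafOfModules.forget.{u} (ModSite.ringSh O)))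
    infer_instance
  have h2 : Mono (P ◁ (fg O).map m) := mono_whiskerLeft_of_flat_sections P hP _
  have h3 : Mono ((sh O).map (P ◁ (fg O).map m)) := by
    have : PreservesLimitsOfShape WalkingCospan (sh O) :=
      inferInstanceAs (PreservesLimitsOfShape WalkingCospan
        (PresheafOfModules.sheafification.{u} (𝟙 (ModSite.ringSh O).obj)))
    infer_instance
  let ηP : P ⟶ (fg O).obj ((sh O).obj P) := (locData O).η P
  have i1 : IsIso ((sh O).map (ηP ▷ (fg O).obj N')) :=
    (locData O).isIso_whiskerRight ((locData O).η P) _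
  have i2 : IsIso ((sh O).map (ηP ▷ (fg O).obj N)) :=
    (locData O).isIso_whiskerRight ((locData O).η P) _
  have sq : (sh O).map (ηP ▷ (fg O).obj N') ≫
      (sh O).map ((fg O).obj ((sh O).obj P) ◁ (fg O).map m) =
      (sh O).map (P ◁ (fg O).map m) ≫ (sh O).map (ηP ▷ (fg O).obj N) := by
    rw [← Functor.map_comp, ← Functor.map_comp]
    congr 1
    exact (whisker_exchange ηP ((fg O).map m)).symm
  have e : ((ModSite.tensorBi O).obj ((sh O).obj P)).map m =
      inv ((sh O).map (ηP ▷ (fg O).obj N')) ≫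
        ((sh O).map (P ◁ (fg O).map m) ≫ (sh O).map (ηP ▷ (fg O).obj N)) := by
    rw [← sq, IsIso.inv_hom_id_assoc]
    rfl
  rw [e]
  have h4 : Mono ((sh O).map (P ◁ (fg O).map m) ≫ (sh O).map (ηP ▷ (fg O).obj N)) := mono_comp _ _
  have h5 : IsIso (inv ((sh O).map (ηP ▷ (fg O).obj N'))) := inferInstance
  have h6 : Mono (inv ((sh O).map (ηP ▷ (fg O).obj N'))) := inferInstance
  exact @mono_comp _ _ _ _ _ _ h6 _ h4

open Groth.Agent.Lib.ModFreeRes in
/-- the free module on a presheaf of sets is flat -/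
theorem isFlat_freeSh (P : Cᵒᵖ ⥤ Type u) : ModSite.IsFlat ((freeSh (ModSite.ringSh O)).obj P) := by
  apply isFlat_sh_of_flat_sections ((PresheafOfModules.free (ModSite.ringSh O).obj).obj P)
  intro U
  change Module.Flat (O.obj.obj U) ((P.obj U) →₀ (O.obj.obj U))
  infer_instance

end Groth.Agent.Lib.ModSiteFlat

namespace Groth.Agent.Lib.ModSiteHomAcyc

section Resolution

open Groth.Agent.Lib.CechAcyc2

variable {A : Type*} [Category A] [Abelian A] {R : ChainComplex A ℕ} {M : A}
  (π : R ⟶ (ChainComplex.single₀ A).obj M)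

/-- the augmented sequence `… → R_1 → R_0 → M` -/
noncomputable def Xs : ℕ → A
  | 0 => ((ChainComplex.single₀ A).obj M).X 0
  | (m + 1) => R.X m

/-- the differentials of the augmented sequence -/
noncomputable def ds : ∀ n, Xs (R := R) (M := M) (n + 1) ⟶ Xs (R := R) (M := M) n
  | 0 => π.f 0
  | (m + 1) => R.d (m + 1) m

variable [QuasiIso π]

lemma ds_comp (n : ℕ) : ds π (n + 1) ≫ ds π n = 0 := by
  cases n with
  | zero => exact d_comp_f_zero π
  | succ m => exact R.d_comp_d _ _ _

lemma ds_exact (n : ℕ) : (ShortComplex.mk (ds π (n + 1)) (ds π n) (ds_comp π n)).Exact := by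
  cases n with
  | zero => exact ShortComplex.exact_of_g_is_cokernel _ (isColimitCokernelCofork π)
  | succ m =>
    exact (R.exactAt_iff' (m + 2) (m + 1) m (by simp) (by simp)).1 (exactAt_succ π m)

lemma epi_ds_zero : Epi (ds π 0) :=
  epi_of_isColimit_cofork (isColimitCokernelCofork π)

end Resolution

section Main

open Groth.Agent.Lib.ModFreeRes Groth.Agent.Lib.ModAcyc Groth.Agent.Lib.CechAcyc1
  Groth.Agent.Lib.CechAcyc3 Groth.Agent.Lib.CechAcyc4 Groth.Agent.Lib.ModSiteFlat
  Groth.Agent.Lib.AbTensorFlat Simplicial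

variable {C : Type u} [SmallCategory C] {J : GrothendieckTopology C} (O : Sheaf J CommRingCat.{u})
  {K' K : Sheaf J (Type u)} (f : K' ⟶ K) [Epi f]

lemma flat_Xs (n : ℕ) :
    ((ModSite.tensorBi O).obj (Xs (R := RM (ModSite.ringSh O) f)
      (M := (Lfree (ModSite.ringSh O)).obj K) n)).PreservesMonomorphisms := by
  cases n with
  | zero => exact (isFlat_iff_preservesMono _).1 (isFlat_freeSh (O := O) K.obj)
  | succ m =>
    exact (isFlat_iff_preservesMono _).1
      (isFlat_freeSh (O := O) ((Arrow.mk f).cechNerve.obj (op ⦋m⦌)).obj)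

/-- `RM ⊗ F` is exact in positive degrees -/
lemma exact_RM_tensor (F : ModSite.Mod O) (n : ℕ)
    (w : ((ModSite.tensorBi O).flip.obj F).map ((RM (ModSite.ringSh O) f).d (n + 2) (n + 1)) ≫
      ((ModSite.tensorBi O).flip.obj F).map ((RM (ModSite.ringSh O) f).d (n + 1) n) = 0) :
    (ShortComplex.mk
      (((ModSite.tensorBi O).flip.obj F).map ((RM (ModSite.ringSh O) f).d (n + 2) (n + 1)))
      (((ModSite.tensorBi O).flip.obj F).map ((RM (ModSite.ringSh O) f).d (n + 1) n)) w).Exact :=
  exact_map_seq (enoughFlats O) _ (ds (πM (ModSite.ringSh O) f)) (ds_comp _) (ds_exact _)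
    (epi_ds_zero _) (flat_Xs O f) F (n + 1) w

/-- `Hom(RM, Hom(F, G))` is exact in positive degrees for `G` injective -/
lemma homExactAt_RM_sheafHom (F G : ModSite.Mod O) [ModSite.HasSheafHom F] [Injective G] (n : ℕ) :
    HomExactAt (RM (ModSite.ringSh O) f) ((ModSite.sheafHom F).obj G) n := by
  intro z hz
  let adjF := ModSite.sheafHomAdj F
  let Φ := (ModSite.tensorBi O).flip.obj F
  let z' : Φ.obj ((RM (ModSite.ringSh O) f).X (n + 1)) ⟶ G := (adjF.homEquiv _ _).symm z
  have w : Φ.map ((RM (ModSite.ringSh O) f).d (n + 2) (n + 1)) ≫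
      Φ.map ((RM (ModSite.ringSh O) f).d (n + 1) n) = 0 := by
    rw [← Functor.map_comp, HomologicalComplex.d_comp_d, Functor.map_zero]
  have hz' : Φ.map ((RM (ModSite.ringSh O) f).d (n + 2) (n + 1)) ≫ z' = 0 := by
    have h1 := adjF.homEquiv_naturality_left_symm ((RM (ModSite.ringSh O) f).d (n + 2) (n + 1)) z
    rw [hz] at h1
    rw [← h1, Adjunction.homEquiv_counit, Functor.map_zero, zero_comp]
  have hex := exact_RM_tensor O f F n w
  let t' : Φ.obj ((RM (ModSite.ringSh O) f).X n) ⟶ G := hex.descToInjective z' hz'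
  have ht' : Φ.map ((RM (ModSite.ringSh O) f).d (n + 1) n) ≫ t' = z' :=
    hex.comp_descToInjective z' hz'
  refine ⟨adjF.homEquiv _ _ t', ?_⟩
  rw [← Adjunction.homEquiv_naturality_left, ht']
  exact Equiv.apply_symm_apply _ _

/-- S6150: the internal hom into an injective module is totally acyclic -/
theorem isTotallyAcyclic_sheafHom_injective (F G : ModSite.Mod O) [ModSite.HasSheafHom F]
    [Injective G] :
    CohCx.IsTotallyAcyclic (ModSite.toAb ((ModSite.sheafHom F).obj G)) := by
  apply isTotallyAcyclic_of_cechAcyclic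
  intro K' K f hf n
  exact HomExactAt.of_bijective (SheafOfModules.toSheaf (ModSite.ringSh O))
    (fun m => (η (ModSite.ringSh O)).app ((Arrow.mk f).cechNerve _⦋m⦌)) (η_comm (ModSite.ringSh O) f)
    ((ModSite.sheafHom F).obj G) (fun m => bijective_η_comp (ModSite.ringSh O) _ _)
    (homExactAt_RM_sheafHom O f F G n)

end Main

end Groth.Agent.Lib.ModSiteHomAcyc
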