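import Groth.Agent.Lib.H43SheafHomFree
import Groth.Agent.Lib.ModSiteHomAcyc
import Groth.Agent.Lib.ModUnitH
import Groth.Agent.Lib.ExtCompare95
import Groth.Agent.Lib.H43ExtTransfer

/-!
# `Ext^p(M, B) ≃+ H^p(ℋom(M, B))` when `ℋom(M, -)` is exact (helper43)

Ringed site `O`, `M : Mod O`, `H` any right adjoint of `M ⊗ -` which preserves finite colimits.  Then
`Ext^p(M, B) ≃+ H^p(C, H B)` for all `B`, `p` (`nonempty_ext_addEquiv_H`).
-/

set_option autoImplicit false
universe u
open CategoryTheory Opposite Limits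

namespace Groth.Agent.Lib.H43ExtSheafHom

open Groth.Agent.Lib.ModSiteTensor Groth.Agent.Lib.ModSiteFlat Groth.Agent.Lib.H43SheafHomFree

variable {C : Type u} [SmallCategory C] {J : GrothendieckTopology C} (O : Sheaf J CommRingCat.{u})

/-- any right adjoint of `M ⊗ -` is the internal hom -/
noncomputable def rightAdjIso (M : ModSite.Mod O) [ModSite.HasSheafHom M]
    {H : ModSite.Mod O ⥤ ModSite.Mod O} (adj : (ModSite.tensorBi O).obj M ⊣ H) :
    H ≅ ModSite.sheafHom M :=
  adj.rightAdjointUniq ((ModSite.sheafHomAdj M).ofNatIsoLeft (swapIso O M).symm)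

theorem nonempty_ext_addEquiv_H [HasExt.{u} (ModSite.Mod O)] (M : ModSite.Mod O)
    (H : ModSite.Mod O ⥤ ModSite.Mod O) (adj : (ModSite.tensorBi O).obj M ⊣ H)
    [PreservesFiniteColimits H] (B : ModSite.Mod O) (p : ℕ) :
    Nonempty (Abelian.Ext M B p ≃+ Sheaf.H.{u} (ModSite.toAb (H.obj B)) p) := by
  have : EnoughInjectives (ModSite.Mod O) := Groth.Agent.S0485.result J (ModSite.ringSh O)
  have : PreservesFiniteColimits (SheafOfModules.toSheaf.{u} (ModSite.ringSh O)) :=
    ⟨fun K _ _ => inferInstance⟩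
  have : H.Additive := adj.right_adjoint_additive
  have : PreservesLimitsOfSize.{0, 0} H := adj.rightAdjoint_preservesLimits
  have : PreservesFiniteLimits H := PreservesLimitsOfSize.preservesFiniteLimits _
  have : ModSite.HasSheafHom M := hasSheafHom O M
  let ρ : ((ModSite.tensorBi O).obj M).obj (ModSite.unit O) ≅ M := (tensUnitIso O).app M
  let η₀ : ModSite.unit O ⟶ H.obj M := adj.homEquiv _ _ ρ.hom
  refine Groth.Agent.Lib.ExtCompare95.nonempty_addEquiv
    (H ⋙ SheafOfModules.toSheaf.{u} (ModSite.ringSh O))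
    (Groth.Agent.Lib.ModUnitH.ι (ModSite.ringSh O) ≫
      (SheafOfModules.toSheaf.{u} (ModSite.ringSh O)).map η₀) ?_ ?_ p B
  · intro F
    have e : (fun φ : M ⟶ F => (Groth.Agent.Lib.ModUnitH.ι (ModSite.ringSh O) ≫
          (SheafOfModules.toSheaf.{u} (ModSite.ringSh O)).map η₀) ≫
          (H ⋙ SheafOfModules.toSheaf.{u} (ModSite.ringSh O)).map φ) =
        (fun ψ : ModSite.unit O ⟶ H.obj F => Groth.Agent.Lib.ModUnitH.ι (ModSite.ringSh O) ≫
          (SheafOfModules.toSheaf.{u} (ModSite.ringSh O)).map ψ) ∘ (adj.homEquiv _ F) ∘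
          (fun φ : M ⟶ F => ρ.hom ≫ φ) := by
      ext φ : 1
      simp only [Function.comp_apply, Functor.comp_map, Category.assoc, ← Functor.map_comp]
      congr 2
      exact (adj.homEquiv_naturality_right ρ.hom φ).symm
    rw [e]
    refine (Groth.Agent.Lib.ModUnitH.bijective_ι_comp (ModSite.ringSh O) (H.obj F)).comp
      ((Equiv.bijective _).comp ?_)
    exact ⟨fun a b h => (cancel_epi ρ.hom).1 h, fun c => ⟨ρ.inv ≫ c, by simp⟩⟩
  · intro I hI q
    have h1 := Groth.Agent.Lib.ModUnitH.subsingleton_ext_Zc_of_isTotallyAcyclic _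
      (Groth.Agent.Lib.ModSiteHomAcyc.isTotallyAcyclic_sheafHom_injective O M I) q
    exact Groth.Agent.Lib.H43ExtTransfer.subsingleton_ext_of_iso_right _
      ((SheafOfModules.toSheaf.{u} (ModSite.ringSh O)).mapIso ((rightAdjIso O M adj).app I)).symm
      (q + 1) h1

end Groth.Agent.Lib.H43ExtSheafHom
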