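import Groth.Agent.Lib.H43ExtSheafHom
import Groth.Agent.Lib.H43ExtCompareCentral
import Groth.Agent.Lib.TensorALinH44
import Groth.Prelude.Def_KLin
import Groth.Prelude.Def_DCoh4

/-!
# `Ext^p(M, B) ≃ₗ[k] H^p(ℋom(M, B))` (helper43)

* `exists_ext_addEquiv_H` : the comparison `Ext^p(M, B) ≃+ H^p(C, H B)` of `H43ExtSheafHom` can be chosen compatible with
  all natural endomorphisms of the identity functor of `Mod O`.
* `nonempty_ext_linearEquiv_HH` : for a scheme `X` over `Spec k` and `H` a right adjoint of `M ⊗ -` preserving finite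
  colimits, `Ext^p(M, B) ≃ₗ[k] H^p(X, H B)`.
-/

set_option autoImplicit false
universe u
open CategoryTheory Opposite Limits AlgebraicGeometry MonoidalCategory

namespace Groth.Agent.Lib.H43ExtSheafHomLin

open Groth.Agent.Lib.ModSiteTensor Groth.Agent.Lib.ModSiteFlat Groth.Agent.Lib.H43SheafHomFree
  Groth.Agent.Lib.H43ExtSheafHom

section Site

variable {C : Type u} [SmallCategory C] {J : GrothendieckTopology C} (O : Sheaf J CommRingCat.{u})

theorem exists_ext_addEquiv_H [HasExt.{u} (ModSite.Mod O)] (M : ModSite.Mod O)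
    (H : ModSite.Mod O ⥤ ModSite.Mod O) (adj : (ModSite.tensorBi O).obj M ⊣ H)
    [PreservesFiniteColimits H] (B : ModSite.Mod O) (p : ℕ) :
    ∃ e : Abelian.Ext M B p ≃+ Sheaf.H.{u} (ModSite.toAb (H.obj B)) p,
      ∀ (z : 𝟭 (ModSite.Mod O) ⟶ 𝟭 (ModSite.Mod O)) (x : Abelian.Ext M B p),
        e (x.comp (Abelian.Ext.mk₀ (z.app B)) (add_zero p)) =
          Sheaf.H.map ((SheafOfModules.toSheaf.{u} (ModSite.ringSh O)).map (H.map (z.app B))) p
            (e x) := by
  have : EnoughInjectives (ModSite.Mod O) := Groth.Agent.S0485.result J (ModSite.ringSh O)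
  have : PreservesFiniteColimits (SheafOfModules.toSheaf.{u} (ModSite.ringSh O)) :=
    ⟨fun K _ _ => inferInstance⟩
  have : H.Additive := adj.right_adjoint_additive
  have : PreservesLimitsOfSize.{0, 0} H := adj.rightAdjoint_preservesLimits
  have : PreservesFiniteLimits H := PreservesLimitsOfSize.preservesFiniteLimits _
  have : ModSite.HasSheafHom M := hasSheafHom O M
  let ρ : ((ModSite.tensorBi O).obj M).obj (ModSite.unit O) ≅ M := (tensUnitIso O).app M
  let η₀ : ModSite.unit O ⟶ H.obj M := adj.homEquiv _ _ ρ.hom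
  refine Groth.Agent.Lib.H43ExtCompareCentral.exists_addEquiv
    (H ⋙ SheafOfModules.toSheaf.{u} (ModSite.ringSh O))
    (Groth.Agent.Lib.ModUnitH.ι (ModSite.ringSh O) ≫
      (SheafOfModules.toSheaf.{u} (ModSite.ringSh O)).map η₀) ?_ ?_ p B
  · intro F
    have e : (fun φ : M ⟶ F => (Groth.Agent.Lib.ModUnitH.ι (ModSite.ringSh O) ≫
          (SheafOfModules.toSheaf.{u} (ModSite.ringSh O)).map η₀) ≫
          (H ⋙ SheafOfModules.toSheaf.{u} (ModSite.ringSh O)).map φ) =
        (fun ψ : ModSite.unit O ⟶ H.obj F => Groth.Agent.Lib.ModUnitH.ι (ModSite.ringSh O) ≫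
          (SheafOfModules.toSheaf.{u} (ModSite.ringSh O)).map ψ) ∘ (adj.homEquiv _ F) ∘
          (fun φ : M ⟶ F => ρ.hom ≫ φ) := by
      ext φ : 1
      simp only [Function.comp_apply, Functor.comp_map, Category.assoc, ← Functor.map_comp]
      congr 2
      exact (adj.homEquiv_naturality_right ρ.hom φ).symm
    rw [e]
    refine (Groth.Agent.Lib.ModUnitH.bijective_ι_comp (ModSite.ringSh O) (H.obj F)).comp
      ((Equiv.bijective _).comp ?_)
    exact ⟨fun a b h => (cancel_epi ρ.hom).1 h, fun c => ⟨ρ.inv ≫ c, by simp⟩⟩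
  · intro I hI q
    have h1 := Groth.Agent.Lib.ModUnitH.subsingleton_ext_Zc_of_isTotallyAcyclic _
      (Groth.Agent.Lib.ModSiteHomAcyc.isTotallyAcyclic_sheafHom_injective O M I) q
    exact Groth.Agent.Lib.H43ExtTransfer.subsingleton_ext_of_iso_right _
      ((SheafOfModules.toSheaf.{u} (ModSite.ringSh O)).mapIso ((rightAdjIso O M adj).app I)).symm
      (q + 1) h1

end Site

section Principle

variable {𝒞 𝒟 : Type*} [Category 𝒞] [Category 𝒟] {L : 𝒞 ⥤ 𝒟} {R : 𝒟 ⥤ 𝒞} (adj : L ⊣ R)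

include adj in
/-- A right adjoint intertwines central endomorphisms as soon as its left adjoint does. -/
theorem map_central_of_adjunction_right (z : 𝟭 𝒞 ⟶ 𝟭 𝒞) (z' : 𝟭 𝒟 ⟶ 𝟭 𝒟)
    (h : ∀ N : 𝒞, L.map (z.app N) = z'.app (L.obj N)) (P : 𝒟) :
    R.map (z'.app P) = z.app (R.obj P) := by
  apply (adj.homEquiv (R.obj P) P).symm.injective
  rw [Adjunction.homEquiv_counit, Adjunction.homEquiv_counit, h]
  have h1 := adj.counit.naturality (z'.app P)
  have h2 := z'.naturality (adj.counit.app P)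
  simp only [Functor.id_obj, Functor.id_map, Functor.comp_obj, Functor.comp_map] at h1 h2
  rw [h1, h2]

end Principle

section Scheme

open Groth.Agent.Lib.RpushLinear Groth.Agent.Lib.TensorALinH44 Groth.Agent.Lib.OXModTensor
  Groth.Agent.Lib.OXModTensorW CohB1

variable {X : Scheme.{u}}

theorem mulP_whiskerLeft (P Q : PMod X) (r : Coh.Γtop X) :
    P ◁ mulP Q r = mulP (P ⊗ Q) r := by
  ext1 W
  change P.obj W ◁ (rW r W • 𝟙 (Q.obj W)) = rW r W • 𝟙 (P.obj W ⊗ Q.obj W)
  rw [MonoidalLinear.whiskerLeft_smul, MonoidalCategory.whiskerLeft_id]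

/-- `F ⊗ -` is linear over global functions -/
theorem tensorBi_obj_map_mulHom (F N : X.Modules) (r : Coh.Γtop X) :
    ((DCoh.tensorBi (X := X)).obj F).map (mulHom N r) =
      mulHom (((DCoh.tensorBi (X := X)).obj F).obj N) r := by
  change (sh X).map (toPMod F ◁ (fg X).map (mulHom N r)) = _
  rw [fg_map_mulHom, mulP_whiskerLeft, sh_map_mulP]
  rfl

variable (k : Type u) [CommRing k] [X.Over (Spec (CommRingCat.of k))]

/-- **`Ext^p(M, B) ≃ₗ[k] H^p(X, ℋom(M, B))`** when `ℋom(M, -)` is exact. -/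
theorem nonempty_ext_linearEquiv_HH [HasExt.{u} X.Modules] (M : X.Modules)
    (H : X.Modules ⥤ X.Modules) (adj : (DCoh.tensorBi (X := X)).obj M ⊣ H)
    [PreservesFiniteColimits H] (B : X.Modules) (p : ℕ) :
    Nonempty (Abelian.Ext M B p ≃ₗ[k] Coh.HH X (H.obj B) p) := by
  let τ : (DCoh.tensorBi (X := X)).obj M ≅ (ModSite.tensorBi X.sheaf).obj M :=
    NatIso.ofComponents (fun N => Iso.refl _) (by
      intro N N' f
      simp only [Iso.refl_hom]
      exact (Category.comp_id _).trans (Category.id_comp _).symm)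
  let adj' : (ModSite.tensorBi X.sheaf).obj M ⊣ H := adj.ofNatIsoLeft τ
  obtain ⟨e, he⟩ := @exists_ext_addEquiv_H _ _ _ X.sheaf ‹HasExt.{u} X.Modules› M H adj' ‹_› B p
  refine ⟨{ e with map_smul' := fun a x => ?_ }⟩
  have h1 : a • x = x.comp (Abelian.Ext.mk₀
      ((mulNat (Coh.toGlobal (X ↘ Spec (CommRingCat.of k)) a)).app B)) (add_zero p) := by
    rw [Abelian.Ext.smul_eq_comp_mk₀, KLin.smul_id]
    rfl
  have h2 : H.map (mulHom B (Coh.toGlobal (X ↘ Spec (CommRingCat.of k)) a)) =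
      mulHom (H.obj B) (Coh.toGlobal (X ↘ Spec (CommRingCat.of k)) a) :=
    map_central_of_adjunction_right adj (mulNat _) (mulNat _)
      (fun N => tensorBi_obj_map_mulHom M N _) B
  change e (a • x) = Sheaf.H.map (Coh.smulAb (H.obj B) _) p (e x)
  rw [h1]
  refine (he _ x).trans ?_
  rw [mulNat_app, h2]
  rfl

end Scheme

end Groth.Agent.Lib.H43ExtSheafHomLin
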