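import Groth.Agent.Lib.FiltColimTop
import Groth.Agent.Lib.FlasqueAcyclic
import Mathlib.CategoryTheory.Abelian.GrothendieckCategory.Subobject
import Mathlib.CategoryTheory.Generator.Abelian
import Mathlib.Topology.NoetherianSpace

/-!
# Grothendieck vanishing, part 1 (helper43): vanishing predicates and dévissage

`X : TopCat`, abelian sheaves `CohTop.Ab X`.

* `VanGE m F : Prop` — `H^p(X, F) = 0` for all `p ≥ m`; stability under isomorphisms, zero objects,
  the three rules coming from the long exact sequence (`vanGE_X₂`, `vanGE_X₃`, `vanGE_X₁`),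
  filtered colimits on Noetherian spaces (`vanGE_colimit`).
* `devissage`: a property of abelian sheaves which is invariant under isomorphisms, holds for zero
  objects, is stable under extensions and filtered colimits, and holds for all quotients of the free
  sheaves `freeSh U`, holds for all abelian sheaves.
-/

set_option autoImplicit false
universe u

open CategoryTheory CategoryTheory.Limits TopologicalSpace Opposite Abelian

namespace Groth.Agent.Lib.H43GV

open Groth.Agent.Lib.FlasqueAcyclic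

variable {X : TopCat.{u}}

/-- `H^p(X, F) = 0` for all `p ≥ m`. -/
def VanGE (m : ℕ) (F : CohTop.Ab X) : Prop := ∀ p : ℕ, m ≤ p → Subsingleton (CohTop.H F p)

lemma VanGE.mono {m m' : ℕ} (h : m ≤ m') {F : CohTop.Ab X} (hF : VanGE m F) : VanGE m' F :=
  fun p hp => hF p (h.trans hp)

lemma vanGE_of_iso {m : ℕ} {F G : CohTop.Ab X} (e : F ≅ G) (hF : VanGE m F) : VanGE m G := by
  intro p hp
  have := hF p hp
  refine ⟨fun a b => ?_⟩
  have key : ∀ x : CohTop.H G p, x = 0 := by
    intro x
    have h1 : Sheaf.H.map e.hom p (Sheaf.H.map e.inv p x) = x := by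
      rw [← Sheaf.H.map_comp_apply, e.inv_hom_id, Sheaf.H.map_id_apply]
    rw [← h1, Subsingleton.elim (Sheaf.H.map e.inv p x) 0, map_zero]
  rw [key a, key b]

lemma vanGE_of_isZero {m : ℕ} {F : CohTop.Ab X} (hF : IsZero F) : VanGE m F :=
  fun p _ => Sheaf.subsingleton_H_of_isZero hF p

section LES

variable {S : ShortComplex (CohTop.Ab X)} (hS : S.ShortExact)
include hS

lemma vanGE_X₂ {m : ℕ} (h₁ : VanGE m S.X₁) (h₃ : VanGE m S.X₃) : VanGE m S.X₂ := by
  intro p hp
  have := h₁ p hp
  have := h₃ p hp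
  refine ⟨fun a b => ?_⟩
  have key : ∀ x : CohTop.H S.X₂ p, x = 0 := by
    intro x
    obtain ⟨x₁, hx₁⟩ := Ext.covariant_sequence_exact₂ _ hS x (Subsingleton.elim _ _)
    rw [← hx₁, Subsingleton.elim x₁ 0, Ext.zero_comp]
  rw [key a, key b]

lemma vanGE_X₃ {m : ℕ} (h₂ : VanGE m S.X₂) (h₁ : VanGE (m + 1) S.X₁) : VanGE m S.X₃ := by
  intro p hp
  have := h₂ p hp
  have := h₁ (p + 1) (by omega)
  refine ⟨fun a b => ?_⟩
  have key : ∀ x : CohTop.H S.X₃ p, x = 0 := by
    intro x
    obtain ⟨x₂, hx₂⟩ := Ext.covariant_sequence_exact₃ _ hS x rfl (Subsingleton.elim _ _)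
    rw [← hx₂, Subsingleton.elim x₂ 0, Ext.zero_comp]
  rw [key a, key b]

lemma vanGE_X₁ {m : ℕ} (h₂ : VanGE (m + 1) S.X₂) (h₃ : VanGE m S.X₃) : VanGE (m + 1) S.X₁ := by
  intro p hp
  obtain ⟨p', rfl⟩ : ∃ p', p = p' + 1 := ⟨p - 1, by omega⟩
  have := h₂ (p' + 1) hp
  have := h₃ p' (by omega)
  refine ⟨fun a b => ?_⟩
  have key : ∀ x : CohTop.H S.X₁ (p' + 1), x = 0 := by
    intro x
    obtain ⟨x₃, hx₃⟩ := Ext.covariant_sequence_exact₁ _ hS x (Subsingleton.elim _ _) rfl
    rw [← hx₃, Subsingleton.elim x₃ 0, Ext.zero_comp]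
  rw [key a, key b]

end LES

/-- in a Noetherian space all opens are quasi-compact -/
lemma isBasis_qc [NoetherianSpace X] : Opens.IsBasis (FiltColimTop.qc X) := by
  rw [Opens.isBasis_iff_nbhd]
  intro U x hx
  exact ⟨U, NoetherianSpace.isCompact _, hx, le_rfl⟩

instance quasiSeparatedSpace_of_noetherian [NoetherianSpace X] : QuasiSeparatedSpace X :=
  ⟨fun _ _ _ _ _ _ => NoetherianSpace.isCompact _⟩

/-- vanishing passes to filtered colimits on a Noetherian space -/
lemma vanGE_colimit [NoetherianSpace X] {m : ℕ} {I : Type u} [SmallCategory I] [IsFiltered I]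
    (D : I ⥤ CohTop.Ab X) (c : Cocone D) (hc : IsColimit c) (h : ∀ i, VanGE m (D.obj i)) :
    VanGE m c.pt := by
  intro p hp
  refine ⟨fun a b => ?_⟩
  have key : ∀ x : CohTop.H c.pt p, x = 0 := by
    intro x
    obtain ⟨i, y, hy⟩ := FiltColimTop.H_surj isBasis_qc D c hc p x
    have := h i p hp
    rw [← hy, Subsingleton.elim y 0, map_zero]
  rw [key a, key b]

end Groth.Agent.Lib.H43GV
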