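import Groth.Agent.Lib.H43GVBasic
import Mathlib.CategoryTheory.Abelian.GrothendieckAxioms.Sheaf

/-!
# Grothendieck vanishing, part 2 (helper43): dévissage to quotients of free sheaves

`devissage`: a property `P` of abelian sheaves on a space which holds for zero objects, is stable under extensions and under filtered colimits, and holds for all
quotients of the free sheaves `freeSh U`, holds for every abelian sheaf.
-/

set_option autoImplicit false
universe u

open CategoryTheory CategoryTheory.Limits TopologicalSpace Opposite Abelian

namespace Groth.Agent.Lib.H43GV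

open Groth.Agent.Lib.FlasqueAcyclic

variable {X : TopCat.{u}}

/-- the free sheaves `freeSh U` form a separating family -/
lemma isSeparating_freeSh :
    ObjectProperty.IsSeparating (ObjectProperty.ofObj (fun U : Opens X => freeSh U)) := by
  intro F G f g h
  apply Sheaf.hom_ext
  ext V s
  obtain ⟨V⟩ := V
  have h1 := h _ (ObjectProperty.ofObj_apply _ V) ((homEquiv V F).symm s)
  have h2 := congrArg (homEquiv V G) h1
  rw [homEquiv_comp, homEquiv_comp, Equiv.apply_symm_apply] at h2
  exact h2

section

variable (P : CohTop.Ab X → Prop)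
  (hzero : ∀ F : CohTop.Ab X, IsZero F → P F)
  (hext : ∀ S : ShortComplex (CohTop.Ab X), S.ShortExact → P S.X₁ → P S.X₃ → P S.X₂)
  (hcyc : ∀ (U : Opens X) (Q : CohTop.Ab X) (q : freeSh U ⟶ Q), Epi q → P Q)

include hzero hext hcyc

/-- finitely generated sheaves satisfy `P` -/
lemma of_finGen : ∀ (m : ℕ) (F : CohTop.Ab X) (U : Fin m → Opens X)
    (g : ∀ k, freeSh (U k) ⟶ F),
    (∀ (W : CohTop.Ab X) (h : F ⟶ W), (∀ k, g k ≫ h = 0) → h = 0) → P F
  | 0, F, U, g, hg => hzero F (by
      rw [IsZero.iff_id_eq_zero]
      exact hg F (𝟙 F) (fun k => k.elim0))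
  | m + 1, F, U, g, hg => by
      let c := Abelian.image.ι (g 0)
      let e := Abelian.factorThruImage (g 0)
      have hC : P (Abelian.image (g 0)) := hcyc (U 0) _ e inferInstance
      let π := cokernel.π c
      let S : ShortComplex (CohTop.Ab X) := ShortComplex.mk c π (cokernel.condition c)
      have hS : S.ShortExact :=
        { exact := ShortComplex.exact_cokernel c
          mono_f := inferInstanceAs (Mono c)
          epi_g := inferInstanceAs (Epi π) }
      have hQ : P (cokernel c) :=
        of_finGen m (cokernel c) (fun k => U k.succ) (fun k => g k.succ ≫ π) (by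
          intro W h hk
          have h0 : π ≫ h = 0 := hg W (π ≫ h) (by
            intro k
            refine Fin.cases ?_ (fun k' => ?_) k
            · have h3 : g 0 ≫ π = 0 := by
                have h4 : e ≫ c = g 0 := Abelian.image.fac (g 0)
                have h5 : g 0 ≫ π = (e ≫ c) ≫ π := by rw [h4]
                rw [h5, Category.assoc, cokernel.condition, comp_zero]
              rw [← Category.assoc, h3, zero_comp]
            · have := hk k'
              rwa [Category.assoc] at this)
          exact (cancel_epi π).1 (by rw [h0, comp_zero]))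
      exact hext S hS hC hQ

variable (hcolim : ∀ (I : Type u) [SmallCategory I] [IsFiltered I] (D : I ⥤ CohTop.Ab X) (c : Cocone D),
    IsColimit c → (∀ i, P (D.obj i)) → P c.pt)

include hcolim

theorem devissage (F : CohTop.Ab X) : P F := by
  classical
  let _ : CompleteLattice (Subobject F) := Subobject.instCompleteLattice.{u}
  let T : Type u := Σ U : Opens X, F.obj.obj (op U)
  let g : ∀ t : T, freeSh t.1 ⟶ F := fun t => (homEquiv t.1 F).symm t.2
  let σ : ∀ α : Finset T, (∐ fun t : α => freeSh t.1.1) ⟶ F := fun α => Sigma.desc (fun t => g t.1)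
  let Sub : Finset T → Subobject F := fun α => imageSubobject (σ α)
  have hmono : Monotone Sub := by
    intro α β hαβ
    let incl : (∐ fun t : α => freeSh t.1.1) ⟶ (∐ fun t : β => freeSh t.1.1) :=
      Sigma.desc (fun t => Sigma.ι (fun t : β => freeSh t.1.1) ⟨t.1, hαβ t.2⟩)
    have h1 : σ α = incl ≫ σ β := by
      apply Sigma.hom_ext
      intro t
      simp [incl, σ]
    change imageSubobject (σ α) ≤ imageSubobject (σ β)
    rw [h1]
    exact imageSubobject_comp_le _ _
  have hP : ∀ α, P (Sub α : CohTop.Ab X) := by
    intro α
    let e := α.equivFin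
    refine of_finGen P hzero hext hcyc α.card _ (fun k => (e.symm k).1.1)
      (fun k => Sigma.ι (fun t : α => freeSh t.1.1) (e.symm k) ≫ factorThruImageSubobject (σ α)) ?_
    intro W h hk
    have h0 : factorThruImageSubobject (σ α) ≫ h = 0 := by
      apply Sigma.hom_ext
      intro t
      obtain ⟨k, rfl⟩ := e.symm.surjective t
      have := hk k
      rw [Category.assoc] at this
      rw [this, comp_zero]
    exact (cancel_epi (factorThruImageSubobject (σ α))).1 (by rw [h0, comp_zero])
  have htop : (⨆ α, Sub α) = ⊤ := by
    refine Subobject.eq_of_le_of_isDetecting ((isSeparating_freeSh (X := X)).isDetecting) _ _ le_top ?_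
    rintro G ⟨U⟩ f -
    let t : T := ⟨U, homEquiv U F f⟩
    have hgt : g t = f := (homEquiv U F).symm_apply_apply f
    have h1 : (Sub {t}).Factors f := by
      have h2 : f = Sigma.ι (fun t' : ({t} : Finset T) => freeSh t'.1.1)
          ⟨t, Finset.mem_singleton_self t⟩ ≫ σ {t} := by
        simp [σ, hgt]
      rw [h2]
      exact imageSubobject_factors_comp_self (f := σ {t}) _
    exact Subobject.factors_of_le _ (le_iSup Sub {t}) h1
  let Φ : Finset T ⥤ MonoOver F := hmono.functor ⋙ Subobject.representative
  let c : Cocone (Φ ⋙ MonoOver.forget F) :=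
    { pt := Over.mk (𝟙 F)
      ι :=
        { app := fun α => Over.homMk (Sub α).arrow (Category.comp_id _)
          naturality := by
            intro α β f
            apply Over.OverMorphism.ext
            exact Over.w (Φ.map f).hom } }
  have hmonoc : Mono c.pt.hom := inferInstanceAs (Mono (𝟙 F))
  have hsup : Subobject.mk c.pt.hom = ⨆ j, Subobject.mk (Φ.obj j).obj.hom := by
    have h1 : ∀ j, Subobject.mk (Φ.obj j).obj.hom = Sub j := fun j => Subobject.mk_arrow (Sub j)
    simp only [h1, htop]
    exact (Subobject.top_eq_id F).symm
  have hc := IsGrothendieckAbelian.isColimitMapCoconeOfSubobjectMkEqISup Φ c hsup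
  exact hcolim (Finset T) _ _ hc (fun α => hP α)

end

end Groth.Agent.Lib.H43GV
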