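import Groth.Agent.Lib.H43StkDescent2

/-!
# Object-level consequences of the (pre)stack conditions, part 3 (helper43)

* `exists_hom_of_full_resSieve` : gluing of morphisms: in a category fibred in groupoids, if `resSieve R 𝒳` is full,
  a family of morphisms `m f z l : z ⟶ x'` (for `l : z ⟶ x` over an arrow `f` of `R`), compatible with
  precomposition, is induced by a morphism `x ⟶ x'` over `𝟙 U`.
-/

set_option autoImplicit false
set_option linter.style.haveILetI false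
set_option backward.isDefEq.respectTransparency false
set_option backward.isDefEq.respectTransparency.types false

namespace Groth.Agent.Lib.H43StkDescent

open CategoryTheory Functor Groth.Agent.Lib.FibGrpd Groth.Agent.Lib.FpEquiv Groth.Agent.Lib.FibYoneda

universe v₅ u₅ v₄ u₄ v₃ u₃ v₂ u₂ v u

variable {C : Type u} [Category.{v} C]

section Glue

variable {𝒳 : BasedCategory.{v₂, u₂} C} [FibCat.IsFibGrpd 𝒳.p]

theorem exists_hom_of_full_resSieve {U : C} (R : Sieve U) [(Stk.resSieve R 𝒳).Full]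
    {x x' : 𝒳.obj} (hx : 𝒳.p.obj x = U) (hx' : 𝒳.p.obj x' = U)
    (m : ∀ ⦃V : C⦄ (f : V ⟶ U), R f → ∀ (z : 𝒳.obj) (l : z ⟶ x), 𝒳.p.IsHomLift f l → (z ⟶ x'))
    (hm : ∀ ⦃V : C⦄ (f : V ⟶ U) (hf : R f) (z : 𝒳.obj) (l : z ⟶ x) (hl : 𝒳.p.IsHomLift f l),
      𝒳.p.IsHomLift f (m f hf z l hl))
    (hcompat : ∀ ⦃V : C⦄ (f : V ⟶ U) (hf : R f) (z : 𝒳.obj) (l : z ⟶ x) (hl : 𝒳.p.IsHomLift f l)
      ⦃W : C⦄ (f' : W ⟶ U) (hf' : R f') (k : W ⟶ V) (_ : k ≫ f = f') (z' : 𝒳.obj) (μ : z' ⟶ z)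
      (_ : 𝒳.p.IsHomLift k μ) (hl' : 𝒳.p.IsHomLift f' (μ ≫ l)),
      m f' hf' z' (μ ≫ l) hl' = μ ≫ m f hf z l hl) :
    ∃ a : x ⟶ x', 𝒳.p.IsHomLift (𝟙 U) a ∧
      ∀ ⦃V : C⦄ (f : V ⟶ U) (hf : R f) (z : 𝒳.obj) (l : z ⟶ x) (hl : 𝒳.p.IsHomLift f l),
        l ≫ a = m f hf z l hl := by
  haveI := isFibered 𝒳.p
  let xF : 𝒳.p.Fiber U := ⟨x, hx⟩
  let xF' : 𝒳.p.Fiber U := ⟨x', hx'⟩
  let X := pbFunctor xF
  let X' := pbFunctor xF'
  have hX' : SendsTopCart X' := sendsTopCart_of_isFibGrpd X'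
  -- the lift property of the chosen cartesian morphisms
  have hpb : ∀ T : Over U, 𝒳.p.IsHomLift T.hom (pbMap xF T) := fun T =>
    (pbMap_isStronglyCartesian xF T).toIsHomLift
  -- components of the 2-morphism on the sieve
  let γapp : ∀ c : (Stk.sieveCat R).obj, pbObj xF c.obj ⟶ pbObj xF' c.obj := fun c =>
    haveI := hm c.obj.hom c.property (pbObj xF c.obj) (pbMap xF c.obj) (hpb c.obj)
    IsCartesian.map 𝒳.p c.obj.hom (pbMap xF' c.obj)
      (m c.obj.hom c.property (pbObj xF c.obj) (pbMap xF c.obj) (hpb c.obj))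
  have γlift : ∀ c : (Stk.sieveCat R).obj, 𝒳.p.IsHomLift (𝟙 c.obj.left) (γapp c) := fun c => by
    haveI := hm c.obj.hom c.property (pbObj xF c.obj) (pbMap xF c.obj) (hpb c.obj)
    exact IsCartesian.map_isHomLift 𝒳.p c.obj.hom (pbMap xF' c.obj) _
  have γfac : ∀ c : (Stk.sieveCat R).obj, γapp c ≫ pbMap xF' c.obj =
      m c.obj.hom c.property (pbObj xF c.obj) (pbMap xF c.obj) (hpb c.obj) := fun c => by
    haveI := hm c.obj.hom c.property (pbObj xF c.obj) (pbMap xF c.obj) (hpb c.obj)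
    exact IsCartesian.fac 𝒳.p c.obj.hom (pbMap xF' c.obj) _
  let γ : (Stk.resSieve R 𝒳).obj X ⟶ (Stk.resSieve R 𝒳).obj X' :=
    { app := γapp
      naturality := fun c' c k => by
        haveI := γlift c
        haveI := γlift c'
        have hk : 𝒳.p.IsHomLift k.hom.left (pbHom xF k.hom) := pbHom_isHomLift xF k.hom
        have hk' : 𝒳.p.IsHomLift k.hom.left (pbHom xF' k.hom) := pbHom_isHomLift xF' k.hom
        change pbHom xF k.hom ≫ γapp c = γapp c' ≫ pbHom xF' k.hom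
        haveI h1 : 𝒳.p.IsHomLift k.hom.left (pbHom xF k.hom ≫ γapp c) := inferInstance
        haveI h2 : 𝒳.p.IsHomLift k.hom.left (γapp c' ≫ pbHom xF' k.hom) := inferInstance
        apply IsStronglyCartesian.ext 𝒳.p c.obj.hom (pbMap xF' c.obj) k.hom.left
        rw [Category.assoc, γfac, Category.assoc, pbHom_fac, γfac]
        have hl' : 𝒳.p.IsHomLift c'.obj.hom (pbHom xF k.hom ≫ pbMap xF c.obj) := by
          rw [pbHom_fac]; exact hpb c'.obj
        have e := hcompat c.obj.hom c.property (pbObj xF c.obj) (pbMap xF c.obj) (hpb c.obj)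
          c'.obj.hom c'.property k.hom.left (Over.w k.hom) (pbObj xF c'.obj) (pbHom xF k.hom) hk hl'
        rw [← e]
        have key : ∀ (l₁ l₂ : pbObj xF c'.obj ⟶ x) (h : l₁ = l₂) (h₁ : 𝒳.p.IsHomLift c'.obj.hom l₁)
            (h₂ : 𝒳.p.IsHomLift c'.obj.hom l₂),
            m c'.obj.hom c'.property (pbObj xF c'.obj) l₁ h₁ =
              m c'.obj.hom c'.property (pbObj xF c'.obj) l₂ h₂ := by
          intro l₁ l₂ h h₁ h₂
          subst h
          rfl
        exact key _ _ (pbHom_fac xF k.hom) _ _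
      isHomLift' := fun c => γlift c }
  obtain ⟨Γ, hΓ⟩ := (Stk.resSieve R 𝒳).map_surjective γ
  let a : x ⟶ x' := pbMapInv xF ≫ Γ.toNatTrans.app (overTop U) ≫ pbMap xF' (overTop U)
  haveI hΓtop : 𝒳.p.IsHomLift (𝟙 U) (Γ.toNatTrans.app (overTop U)) := Γ.isHomLift' (overTop U)
  have ha : 𝒳.p.IsHomLift (𝟙 U) a := by
    have : 𝒳.p.IsHomLift (𝟙 U ≫ 𝟙 U ≫ 𝟙 U)
        (pbMapInv xF ≫ Γ.toNatTrans.app (overTop U) ≫ pbMap xF' (overTop U)) := inferInstance
    simpa using this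
  refine ⟨a, ha, ?_⟩
  intro V f hf z l hl
  let c : (Stk.sieveCat R).obj := ⟨Over.mk f, hf⟩
  haveI := hl
  haveI hpbc : 𝒳.p.IsHomLift f (pbMap xF c.obj) := hpb c.obj
  obtain ⟨ι, hι, hιfac⟩ := exists_iso_of_isHomLift f (pbMap xF c.obj) l
  -- component of `Γ` at `c`
  have hΓc : Γ.toNatTrans.app c.obj = γapp c :=
    congrArg (fun δ : (Stk.resSieve R 𝒳).obj X ⟶ (Stk.resSieve R 𝒳).obj X' =>
      δ.toNatTrans.app c) hΓ
  have nat := Γ.toNatTrans.naturality (toOverTop U c.obj)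
  have nat' : pbHom xF (toOverTop U c.obj) ≫ Γ.toNatTrans.app (overTop U) =
      γapp c ≫ pbHom xF' (toOverTop U c.obj) := by
    rw [← hΓc]; exact nat
  have e1 : pbHom xF (toOverTop U c.obj) ≫ pbMap xF (overTop U) = pbMap xF c.obj :=
    pbHom_fac xF (toOverTop U c.obj)
  have e2 : pbHom xF' (toOverTop U c.obj) ≫ pbMap xF' (overTop U) = pbMap xF' c.obj :=
    pbHom_fac xF' (toOverTop U c.obj)
  have e3 : pbMap xF c.obj ≫ pbMapInv xF = pbHom xF (toOverTop U c.obj) := by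
    rw [← e1, Category.assoc, pbMap_pbMapInv, Category.comp_id]
  calc l ≫ a = ι.hom ≫ (pbMap xF c.obj ≫ pbMapInv xF) ≫ Γ.toNatTrans.app (overTop U) ≫
        pbMap xF' (overTop U) := by
        rw [← hιfac]; simp only [a, Category.assoc]
    _ = ι.hom ≫ γapp c ≫ pbMap xF' c.obj := by
        rw [e3, ← Category.assoc (pbHom xF (toOverTop U c.obj)), nat', Category.assoc, e2]
    _ = ι.hom ≫ m f hf (pbObj xF c.obj) (pbMap xF c.obj) (hpb c.obj) := by
        rw [γfac]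
        rfl
    _ = m f hf z l hl := by
        have hl' : 𝒳.p.IsHomLift f (ι.hom ≫ pbMap xF c.obj) := by rw [hιfac]; exact hl
        have e := hcompat f hf (pbObj xF c.obj) (pbMap xF c.obj) (hpb c.obj) f hf (𝟙 V)
          (Category.id_comp f) z ι.hom hι hl'
        rw [← e]
        have key : ∀ (l₁ l₂ : z ⟶ x) (h : l₁ = l₂) (h₁ : 𝒳.p.IsHomLift f l₁)
            (h₂ : 𝒳.p.IsHomLift f l₂), m f hf z l₁ h₁ = m f hf z l₂ h₂ := by
          intro l₁ l₂ h h₁ h₂
          subst h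
          rfl
        exact key _ _ hιfac _ _

end Glue

end Groth.Agent.Lib.H43StkDescent
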