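import Groth.Prelude.Def_StGerb
import Groth.Agent.Lib.H43StkDescent3

/-!
# Fibrewise trivialisation of an endofunctor of a gerbe with a global object (helper43)

`exists_fiberwise_iso` : `𝒳` a gerbe over `(C, J)`, `x` an object over a terminal object of `C`, `φ : 𝒳 ⥤ᵇ 𝒳`,
`g : φ x ⟶ x` over the identity such that the pullbacks of `g` commute with all automorphisms; then there is a
family of isomorphisms `ρ y : φ y ⟶ y` over identities, natural for morphisms over identities.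
More generally the statement is proved for a pair of functors `φ, ψ` (see `exists_fiberwise_hom`).
-/

set_option autoImplicit false
set_option linter.style.haveILetI false
set_option backward.isDefEq.respectTransparency false
set_option backward.isDefEq.respectTransparency.types false

namespace Groth.Agent.Lib.H43GerbConj

open CategoryTheory Functor Groth.Agent.Lib.FibGrpd Groth.Agent.Lib.H43StkDescent

universe v₂ u₂ v u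

variable {C : Type u} [Category.{v} C] {𝒳 : BasedCategory.{v₂, u₂} C} [FibCat.IsFibGrpd 𝒳.p]
  (φ : 𝒳 ⥤ᵇ 𝒳) {x : 𝒳.obj} (g : φ.obj x ⟶ x) [hg : 𝒳.p.IsHomLift (𝟙 (𝒳.p.obj x)) g]

section Pullback

/-- the lift property needed to pull back `g` along `c` -/
theorem lift_aux {x' : 𝒳.obj} (c : x' ⟶ x) :
    𝒳.p.IsHomLift (𝟙 (𝒳.p.obj x') ≫ 𝒳.p.map c) (φ.map c ≫ g) := by
  haveI : 𝒳.p.IsHomLift (𝒳.p.map c) (φ.map c) := inferInstance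
  have : 𝒳.p.IsHomLift (𝒳.p.map c ≫ 𝟙 (𝒳.p.obj x)) (φ.map c ≫ g) := inferInstance
  simpa using this

/-- The pullback of `g` along `c : x' ⟶ x`. -/
noncomputable def gc {x' : 𝒳.obj} (c : x' ⟶ x) : φ.obj x' ⟶ x' :=
  haveI := FibCat.IsFibGrpd.isStronglyCartesian (p := 𝒳.p) c
  haveI := lift_aux φ g c
  IsStronglyCartesian.map 𝒳.p (𝒳.p.map c) c (g := 𝟙 (𝒳.p.obj x'))
    (f' := 𝟙 (𝒳.p.obj x') ≫ 𝒳.p.map c) rfl (φ.map c ≫ g)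

instance gc_isHomLift {x' : 𝒳.obj} (c : x' ⟶ x) : 𝒳.p.IsHomLift (𝟙 (𝒳.p.obj x')) (gc φ g c) := by
  haveI := FibCat.IsFibGrpd.isStronglyCartesian (p := 𝒳.p) c
  haveI := lift_aux φ g c
  exact IsStronglyCartesian.map_isHomLift 𝒳.p (𝒳.p.map c) c (g := 𝟙 (𝒳.p.obj x'))
    (f' := 𝟙 (𝒳.p.obj x') ≫ 𝒳.p.map c) rfl (φ.map c ≫ g)

theorem gc_isHomLift' {x' : 𝒳.obj} (c : x' ⟶ x) {V : C} (hV : 𝒳.p.obj x' = V) :
    𝒳.p.IsHomLift (𝟙 V) (gc φ g c) := by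
  subst hV; infer_instance

theorem gc_fac {x' : 𝒳.obj} (c : x' ⟶ x) : gc φ g c ≫ c = φ.map c ≫ g := by
  haveI := FibCat.IsFibGrpd.isStronglyCartesian (p := 𝒳.p) c
  haveI := lift_aux φ g c
  exact IsStronglyCartesian.fac 𝒳.p (𝒳.p.map c) c (g := 𝟙 (𝒳.p.obj x'))
    (f' := 𝟙 (𝒳.p.obj x') ≫ 𝒳.p.map c) rfl (φ.map c ≫ g)

/-- functoriality of the pullback of `g` -/
theorem gc_comp {x'' x' : 𝒳.obj} (θ : x'' ⟶ x') (c : x' ⟶ x) :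
    φ.map θ ≫ gc φ g c = gc φ g (θ ≫ c) ≫ θ := by
  haveI hc := FibCat.IsFibGrpd.isStronglyCartesian (p := 𝒳.p) c
  haveI h1 : 𝒳.p.IsHomLift (𝒳.p.map θ) (φ.map θ ≫ gc φ g c) := by
    haveI : 𝒳.p.IsHomLift (𝒳.p.map θ) (φ.map θ) := inferInstance
    infer_instance
  haveI h2 : 𝒳.p.IsHomLift (𝒳.p.map θ) (gc φ g (θ ≫ c) ≫ θ) := inferInstance
  apply IsStronglyCartesian.ext 𝒳.p (𝒳.p.map c) c (𝒳.p.map θ)
  rw [Category.assoc, gc_fac, Category.assoc, gc_fac, φ.map_comp, Category.assoc]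

end Pullback


section Terminal

variable (hT : Limits.IsTerminal (𝒳.p.obj x))
  (hconj : ∀ (x' : 𝒳.obj) (c : x' ⟶ x) (α : x' ⟶ x'), 𝒳.p.IsHomLift (𝟙 (𝒳.p.obj x')) α →
    φ.map α ≫ gc φ g c = gc φ g c ≫ α)

include hT hconj in
/-- Over a terminal object, the pullback of `g` does not depend on the morphism to `x`. -/
theorem gc_eq {x' : 𝒳.obj} (c₁ c₂ : x' ⟶ x) : gc φ g c₁ = gc φ g c₂ := by
  have hp : 𝒳.p.map c₁ = 𝒳.p.map c₂ := hT.hom_ext _ _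
  haveI hc₂ := FibCat.IsFibGrpd.isStronglyCartesian (p := 𝒳.p) c₂
  haveI h1 : 𝒳.p.IsHomLift (𝟙 (𝒳.p.obj x') ≫ 𝒳.p.map c₂) c₁ := by
    rw [Category.id_comp, ← hp]; infer_instance
  let α : x' ⟶ x' := IsStronglyCartesian.map 𝒳.p (𝒳.p.map c₂) c₂ (g := 𝟙 (𝒳.p.obj x'))
    (f' := 𝟙 (𝒳.p.obj x') ≫ 𝒳.p.map c₂) rfl c₁
  haveI hα : 𝒳.p.IsHomLift (𝟙 (𝒳.p.obj x')) α :=
    IsStronglyCartesian.map_isHomLift 𝒳.p (𝒳.p.map c₂) c₂ (g := 𝟙 (𝒳.p.obj x'))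
      (f' := 𝟙 (𝒳.p.obj x') ≫ 𝒳.p.map c₂) rfl c₁
  have hαfac : α ≫ c₂ = c₁ :=
    IsStronglyCartesian.fac 𝒳.p (𝒳.p.map c₂) c₂ (g := 𝟙 (𝒳.p.obj x'))
      (f' := 𝟙 (𝒳.p.obj x') ≫ 𝒳.p.map c₂) rfl c₁
  haveI : IsIso α := isIso_of_isHomLift_isIso 𝒳.p (𝟙 (𝒳.p.obj x')) α
  have e1 := gc_comp φ g α c₂
  have e2 := hconj x' c₂ α hα
  rw [hαfac] at e1
  rw [← cancel_mono α, ← e1, e2]

include hT hconj in
theorem key_compat {y : 𝒳.obj} {U V W : C} (h : V ⟶ U) (k : W ⟶ V)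
    {x₀ : 𝒳.obj} (a : x₀ ⟶ y) [ha : 𝒳.p.IsHomLift h a] (c : x₀ ⟶ x)
    {x₁ : 𝒳.obj} (b : x₁ ⟶ y) [hb : 𝒳.p.IsHomLift (k ≫ h) b] (c₁ : x₁ ⟶ x)
    {z : 𝒳.obj} (ι : z ⟶ φ.obj x₀) [hι : 𝒳.p.IsHomLift (𝟙 V) ι]
    {z' : 𝒳.obj} (μ : z' ⟶ z) [hμ : 𝒳.p.IsHomLift k μ]
    (ι₁ : z' ⟶ φ.obj x₁) [hι₁ : 𝒳.p.IsHomLift (𝟙 W) ι₁]
    (hfac : ι₁ ≫ φ.map b = μ ≫ ι ≫ φ.map a) :
    ι₁ ≫ gc φ g c₁ ≫ b = μ ≫ ι ≫ gc φ g c ≫ a := by
  haveI hac : 𝒳.p.IsStronglyCartesian h a := isStronglyCartesian_of_isHomLift 𝒳.p h a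
  let θ : x₁ ⟶ x₀ := IsStronglyCartesian.map 𝒳.p h a (g := k) (f' := k ≫ h) rfl b
  haveI hθ : 𝒳.p.IsHomLift k θ :=
    IsStronglyCartesian.map_isHomLift 𝒳.p h a (g := k) (f' := k ≫ h) rfl b
  have hθfac : θ ≫ a = b := IsStronglyCartesian.fac 𝒳.p h a (g := k) (f' := k ≫ h) rfl b
  have e1 : gc φ g c₁ = gc φ g (θ ≫ c) := gc_eq φ g hT hconj c₁ (θ ≫ c)
  have e2 := gc_comp φ g θ c
  haveI hφa : 𝒳.p.IsHomLift h (φ.map a) := inferInstance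
  haveI hφac : 𝒳.p.IsStronglyCartesian h (φ.map a) :=
    isStronglyCartesian_of_isHomLift 𝒳.p h (φ.map a)
  haveI hφθ : 𝒳.p.IsHomLift k (φ.map θ) := inferInstance
  have e3 : ι₁ ≫ φ.map θ = μ ≫ ι := by
    haveI h1 : 𝒳.p.IsHomLift k (ι₁ ≫ φ.map θ) := by
      have : 𝒳.p.IsHomLift (𝟙 W ≫ k) (ι₁ ≫ φ.map θ) := inferInstance
      simpa using this
    haveI h2 : 𝒳.p.IsHomLift k (μ ≫ ι) := by
      have : 𝒳.p.IsHomLift (k ≫ 𝟙 V) (μ ≫ ι) := inferInstance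
      simpa using this
    apply IsStronglyCartesian.ext 𝒳.p h (φ.map a) k
    rw [Category.assoc, ← φ.map_comp, hθfac, hfac, Category.assoc]
  calc ι₁ ≫ gc φ g c₁ ≫ b = ι₁ ≫ (gc φ g (θ ≫ c) ≫ θ) ≫ a := by
        rw [e1, ← hθfac]; simp only [Category.assoc]
    _ = (ι₁ ≫ φ.map θ) ≫ gc φ g c ≫ a := by rw [← e2]; simp only [Category.assoc]
    _ = μ ≫ ι ≫ gc φ g c ≫ a := by rw [e3]; simp only [Category.assoc]

end Terminal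


section Main

theorem exists_lift' {x₀ : 𝒳.obj} {V W : C} (hx : 𝒳.p.obj x₀ = V) (k : W ⟶ V) :
    ∃ (x₁ : 𝒳.obj) (θ : x₁ ⟶ x₀), 𝒳.p.IsHomLift k θ := by
  subst hx
  exact FibCat.IsFibGrpd.exists_lift (p := 𝒳.p) k

/-- Local data: an object mapping to `y` over `h` and to `x`. -/
structure Datum (x y : 𝒳.obj) {U V : C} (h : V ⟶ U) where
  /-- the object -/
  x₀ : 𝒳.obj
  /-- the morphism to `y` -/
  a : x₀ ⟶ y
  /-- the morphism to `x` -/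
  c : x₀ ⟶ x
  ha : 𝒳.p.IsHomLift h a

/-- The sieve of arrows over which `y` becomes isomorphic to a pullback of `x`. -/
def dSieve (x y : 𝒳.obj) (U : C) : Sieve U where
  arrows V h := Nonempty (Datum x y h)
  downward_closed := by
    rintro V W h ⟨d⟩ k
    haveI := d.ha
    obtain ⟨x₁, θ, hθ⟩ := exists_lift' (𝒳 := 𝒳) (IsHomLift.domain_eq 𝒳.p h d.a) k
    exact ⟨⟨x₁, θ ≫ d.a, θ ≫ d.c, inferInstance⟩⟩

variable (J : GrothendieckTopology C)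

include hg in
theorem dSieve_mem (hT : Limits.IsTerminal (𝒳.p.obj x))
    (hloc : Gerb.LocSurjHom J (FibCat.toSelf 𝒳)) (y : 𝒳.obj) :
    dSieve x y (𝒳.p.obj y) ∈ J (𝒳.p.obj y) := by
  obtain ⟨xU, cU, hcU⟩ := FibCat.IsFibGrpd.exists_lift (p := 𝒳.p) (x := x) (hT.from (𝒳.p.obj y))
  have hxU : 𝒳.p.obj xU = 𝒳.p.obj y := IsHomLift.domain_eq 𝒳.p (hT.from (𝒳.p.obj y)) cU
  let b : (FibCat.toSelf 𝒳).obj y ⟶ (FibCat.toSelf 𝒳).obj xU := eqToHom hxU.symm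
  have hb : (FibCat.selfOver C).p.IsHomLift (𝟙 (𝒳.p.obj y)) b :=
    IsHomLift.eqToHom_domain_lift_id (p := 𝟭 C) hxU.symm rfl
  obtain ⟨R, hR, hl⟩ := hloc y xU b hb
  refine J.superset_covering ?_ hR
  intro V h hh
  obtain ⟨x₀, a, a', ha, ha', -⟩ := hl h hh
  exact ⟨⟨x₀, a, a' ≫ cU, ha⟩⟩

variable (x) in
/-- The local description of the sought morphism `φ y ⟶ y`. -/
noncomputable def mFun (y : 𝒳.obj) {U V : C} (h : V ⟶ U) (hh : Nonempty (Datum x y h)) (z : 𝒳.obj)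
    (l : z ⟶ φ.obj y) (hl : 𝒳.p.IsHomLift h l) : z ⟶ y :=
  haveI := hh.some.ha
  haveI : 𝒳.p.IsHomLift h (φ.map hh.some.a) := inferInstance
  (exists_iso_of_isHomLift h (φ.map hh.some.a) l).choose.hom ≫ gc φ g hh.some.c ≫ hh.some.a

theorem mFun_spec (y : 𝒳.obj) {U V : C} (h : V ⟶ U) (hh : Nonempty (Datum x y h)) (z : 𝒳.obj)
    (l : z ⟶ φ.obj y) (hl : 𝒳.p.IsHomLift h l) :
    ∃ ι : z ⟶ φ.obj hh.some.x₀, 𝒳.p.IsHomLift (𝟙 V) ι ∧ ι ≫ φ.map hh.some.a = l ∧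
      mFun φ x g y h hh z l hl = ι ≫ gc φ g hh.some.c ≫ hh.some.a := by
  haveI := hh.some.ha
  haveI : 𝒳.p.IsHomLift h (φ.map hh.some.a) := inferInstance
  have hs := (exists_iso_of_isHomLift h (φ.map hh.some.a) l).choose_spec
  exact ⟨_, hs.1, hs.2, rfl⟩

include hg in
theorem exists_rho (h𝒳 : Stk.IsStack J 𝒳) (hT : Limits.IsTerminal (𝒳.p.obj x))
    (hloc : Gerb.LocSurjHom J (FibCat.toSelf 𝒳))
    (hconj : ∀ (x' : 𝒳.obj) (c : x' ⟶ x) (α : x' ⟶ x'), 𝒳.p.IsHomLift (𝟙 (𝒳.p.obj x')) α →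
      φ.map α ≫ gc φ g c = gc φ g c ≫ α) (y : 𝒳.obj) :
    ∃ ρ : φ.obj y ⟶ y, ∀ (U : C) (_ : 𝒳.p.obj y = U), 𝒳.p.IsHomLift (𝟙 U) ρ ∧
      ∀ ⦃V : C⦄ (h : V ⟶ U) (d : Datum x y h) (z : 𝒳.obj) (ι : z ⟶ φ.obj d.x₀),
        𝒳.p.IsHomLift (𝟙 V) ι → (ι ≫ φ.map d.a) ≫ ρ = ι ≫ gc φ g d.c ≫ d.a := by
  have hS := dSieve_mem (x := x) φ g J hT hloc y
  have heq : (Stk.resSieve (dSieve x y (𝒳.p.obj y)) 𝒳).IsEquivalence := h𝒳.2 _ hS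
  haveI : (Stk.resSieve (dSieve x y (𝒳.p.obj y)) 𝒳).Full := inferInstance
  obtain ⟨ρ, hρ, hρm⟩ := exists_hom_of_full_resSieve (dSieve x y (𝒳.p.obj y))
    (x := φ.obj y) (x' := y) (φ.w_obj y) rfl
    (fun V h hh z l hl => mFun φ x g y h hh z l hl)
    (by
      intro V h hh z l hl
      obtain ⟨ι, hι, hιfac, hm⟩ := mFun_spec φ g y h hh z l hl
      rw [hm]
      haveI := hh.some.ha
      haveI := gc_isHomLift' φ g hh.some.c (IsHomLift.domain_eq 𝒳.p h hh.some.a)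
      have : 𝒳.p.IsHomLift (𝟙 V ≫ 𝟙 V ≫ h) (ι ≫ gc φ g hh.some.c ≫ hh.some.a) := inferInstance
      simpa using this)
    (by
      intro V f hf z l hl W f' hf' k hk z' μ hμ hl'
      subst hk
      obtain ⟨ι, hι, hιfac, hm⟩ := mFun_spec φ g y f hf z l hl
      obtain ⟨ι₁, hι₁, hιfac₁, hm₁⟩ := mFun_spec φ g y (k ≫ f) hf' z' (μ ≫ l) hl'
      rw [hm, hm₁]
      haveI := hf.some.ha
      haveI := hf'.some.ha
      exact key_compat φ g hT hconj f k hf.some.a hf.some.c hf'.some.a hf'.some.c ι μ ι₁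
        (by rw [hιfac₁, hιfac]))
  refine ⟨ρ, ?_⟩
  intro U hU
  subst hU
  refine ⟨hρ, ?_⟩
  intro V h d z ι hι
  haveI := d.ha
  haveI : 𝒳.p.IsHomLift h (φ.map d.a) := inferInstance
  have hl : 𝒳.p.IsHomLift h (ι ≫ φ.map d.a) := by
    have : 𝒳.p.IsHomLift (𝟙 V ≫ h) (ι ≫ φ.map d.a) := inferInstance
    simpa using this
  rw [hρm h ⟨d⟩ z (ι ≫ φ.map d.a) hl]
  obtain ⟨ι₁, hι₁, hιfac₁, hm₁⟩ := mFun_spec φ g y h ⟨d⟩ z (ι ≫ φ.map d.a) hl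
  rw [hm₁]
  let d' : Datum x y h := (⟨d⟩ : Nonempty (Datum x y h)).some
  haveI hd' : 𝒳.p.IsHomLift (𝟙 V ≫ h) d'.a := by
    rw [Category.id_comp]; exact d'.ha
  haveI hz : 𝒳.p.IsHomLift (𝟙 V) (𝟙 z) :=
    IsHomLift.id (IsHomLift.domain_eq 𝒳.p (𝟙 V) ι)
  have := key_compat φ g hT hconj h (𝟙 V) d.a d.c d'.a d'.c ι (𝟙 z) ι₁
    (by rw [Category.id_comp]; exact hιfac₁)
  rw [Category.id_comp] at this
  exact this

end Main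


section Final

variable (J : GrothendieckTopology C)

theorem isPrestack_of_isStack (h : Stk.IsStack J 𝒳) : Stk.IsPrestack J 𝒳 := by
  refine ⟨h.1, fun U R hR => ?_⟩
  have he : (Stk.resSieve R 𝒳).IsEquivalence := h.2 R hR
  exact ⟨inferInstance, inferInstance⟩

include hg in
theorem exists_fiberwise_iso (h𝒳 : Stk.IsStack J 𝒳) (hT : Limits.IsTerminal (𝒳.p.obj x))
    (hloc : Gerb.LocSurjHom J (FibCat.toSelf 𝒳))
    (hconj : ∀ (x' : 𝒳.obj) (c : x' ⟶ x) (α : x' ⟶ x'), 𝒳.p.IsHomLift (𝟙 (𝒳.p.obj x')) α →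
      φ.map α ≫ gc φ g c = gc φ g c ≫ α) :
    ∃ ρ : ∀ y : 𝒳.obj, φ.obj y ⟶ y,
      (∀ y, IsIso (ρ y) ∧ 𝒳.p.IsHomLift (𝟙 (𝒳.p.obj y)) (ρ y)) ∧
      (∀ (y y' : 𝒳.obj) (f : y ⟶ y'), 𝒳.p.IsHomLift (𝟙 (𝒳.p.obj y)) f →
        φ.map f ≫ ρ y' = ρ y ≫ f) := by
  choose ρ hρ using exists_rho (x := x) φ g J h𝒳 hT hloc hconj
  refine ⟨ρ, fun y => ?_, ?_⟩
  · haveI := (hρ y _ rfl).1
    exact ⟨isIso_of_isHomLift_isIso 𝒳.p (𝟙 (𝒳.p.obj y)) (ρ y), inferInstance⟩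
  · intro y y' f hf
    have hy' : 𝒳.p.obj y' = 𝒳.p.obj y := IsHomLift.codomain_eq 𝒳.p (𝟙 (𝒳.p.obj y)) f
    haveI h1 := (hρ y' _ hy').1
    haveI h2 := (hρ y _ rfl).1
    haveI h3 : 𝒳.p.IsHomLift (𝟙 (𝒳.p.obj y)) (φ.map f) := inferInstance
    haveI h4 : 𝒳.p.IsHomLift (𝟙 (𝒳.p.obj y)) (φ.map f ≫ ρ y') := by
      have : 𝒳.p.IsHomLift (𝟙 (𝒳.p.obj y) ≫ 𝟙 (𝒳.p.obj y)) (φ.map f ≫ ρ y') := inferInstance
      simpa using this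
    haveI h5 : 𝒳.p.IsHomLift (𝟙 (𝒳.p.obj y)) (ρ y ≫ f) := by
      have : 𝒳.p.IsHomLift (𝟙 (𝒳.p.obj y) ≫ 𝟙 (𝒳.p.obj y)) (ρ y ≫ f) := inferInstance
      simpa using this
    have h6 : 𝒳.p.obj (φ.obj y) = 𝒳.p.obj y := φ.w_obj y
    apply hom_ext_of_isPrestack (isPrestack_of_isStack J h𝒳) (dSieve x y (𝒳.p.obj y))
      (dSieve_mem (x := x) φ g J hT hloc y) (φ.map f ≫ ρ y') (ρ y ≫ f)
    rintro V h ⟨d⟩ z l hl
    haveI := d.ha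
    haveI : 𝒳.p.IsHomLift h (φ.map d.a) := inferInstance
    obtain ⟨ι, hι, hιfac⟩ := exists_iso_of_isHomLift h (φ.map d.a) l
    let d' : Datum x y' h := ⟨d.x₀, d.a ≫ f, d.c, by
      have : 𝒳.p.IsHomLift (h ≫ 𝟙 (𝒳.p.obj y)) (d.a ≫ f) := inferInstance
      simpa using this⟩
    have e1 := (hρ y' _ hy').2 h d' z ι.hom hι
    have e2 := (hρ y _ rfl).2 h d z ι.hom hι
    have e1' : (ι.hom ≫ φ.map d.a ≫ φ.map f) ≫ ρ y' = ι.hom ≫ gc φ g d.c ≫ d.a ≫ f := by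
      have : φ.map (d.a ≫ f) = φ.map d.a ≫ φ.map f := φ.map_comp _ _
      rw [← this]; exact e1
    calc l ≫ φ.map f ≫ ρ y' = (ι.hom ≫ φ.map d.a ≫ φ.map f) ≫ ρ y' := by
          rw [← hιfac]; simp only [Category.assoc]
      _ = ι.hom ≫ gc φ g d.c ≫ d.a ≫ f := e1'
      _ = ((ι.hom ≫ φ.map d.a) ≫ ρ y) ≫ f := by rw [e2]; simp only [Category.assoc]
      _ = l ≫ ρ y ≫ f := by rw [hιfac]; simp only [Category.assoc]

end Final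

end Groth.Agent.Lib.H43GerbConj
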