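import Groth.Prelude.Def_StGerb2
import Groth.Agent.Lib.H43GerbConj

/-!
# A functor of gerbes which is bijective on the automorphism sheaf of a global object is an equivalence (helper43)

`𝒳`, `𝒴` gerbes over `(C, J)`, `φ : 𝒳 ⥤ᵇ 𝒴`, `s` an object of `𝒳` over a terminal object of `C` such that
`Gerb.autMap φ x` is bijective for all `x` admitting a morphism to `s`.  Then `φ` is an equivalence over `C`
(`isEquivOver_of_bijective_autMap`).  Steps: `aut_eq_id` (injectivity on automorphisms of all objects),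
`faithful_of_aut`, `exists_local_preimage`, `exists_preimage` (fibrewise fullness by gluing), `full_of_fiberwise`,
`exists_preimage_obj` (essential surjectivity by descent of objects).
-/

set_option autoImplicit false
set_option linter.style.haveILetI false
set_option backward.isDefEq.respectTransparency false
set_option backward.isDefEq.respectTransparency.types false

namespace Groth.Agent.Lib.H43GerbFF

open CategoryTheory Functor Groth.Agent.Lib.FibGrpd Groth.Agent.Lib.H43StkDescent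
  Groth.Agent.Lib.H43GerbConj Groth.Agent.Lib.FibYoneda Groth.Agent.Lib.FpEquiv

universe v₃ u₃ v₂ u₂ v u

variable {C : Type u} [Category.{v} C] {𝒳 : BasedCategory.{v₂, u₂} C} {𝒴 : BasedCategory.{v₃, u₃} C}

section General

variable [FibCat.IsFibGrpd 𝒳.p]

/-- An endomorphism over the identity as an element of `Gerb.AutO`. -/
noncomputable def mkAutO {x : 𝒳.obj} (e : x ⟶ x) (he : 𝒳.p.IsHomLift (𝟙 (𝒳.p.obj x)) e) : Gerb.AutO x :=
  haveI : IsIso e := isIso_of_isHomLift_isIso 𝒳.p (𝟙 (𝒳.p.obj x)) e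
  haveI hinv : 𝒳.p.IsHomLift (𝟙 (𝒳.p.obj x)) (inv e) := inferInstance
  { hom := ⟨e, he⟩
    inv := ⟨inv e, hinv⟩
    hom_inv_id := Subtype.ext (IsIso.hom_inv_id e)
    inv_hom_id := Subtype.ext (IsIso.inv_hom_id e) }

@[simp] theorem mkAutO_hom {x : 𝒳.obj} (e : x ⟶ x) (he : 𝒳.p.IsHomLift (𝟙 (𝒳.p.obj x)) e) :
    (mkAutO e he).hom.1 = e := rfl

variable [FibCat.IsFibGrpd 𝒴.p] (G : 𝒳 ⥤ᵇ 𝒴)

/-- A based functor between categories fibred in groupoids which is injective on automorphisms over identities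
is faithful. -/
theorem faithful_of_aut
    (h : ∀ (x : 𝒳.obj) (e : x ⟶ x), 𝒳.p.IsHomLift (𝟙 (𝒳.p.obj x)) e → G.map e = 𝟙 (G.obj x) → e = 𝟙 x) :
    G.toFunctor.Faithful where
  map_injective {a b} φ ψ hφψ := by
    have hφψ' : G.map φ = G.map ψ := hφψ
    have h1 : 𝒴.p.IsHomLift (𝒳.p.map ψ) (G.map φ) := by rw [hφψ']; infer_instance
    have h2 : 𝒳.p.IsHomLift (𝒳.p.map ψ) φ := G.isHomLift_map (𝒳.p.map ψ) φ
    have h3 : 𝒳.p.IsStronglyCartesian (𝒳.p.map ψ) ψ := FibCat.IsFibGrpd.isStronglyCartesian ψ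
    have h4 : 𝒴.p.IsStronglyCartesian (𝒳.p.map ψ) (G.map ψ) :=
      isStronglyCartesian_of_isHomLift 𝒴.p _ _
    let χ := IsCartesian.map 𝒳.p (𝒳.p.map ψ) ψ φ
    have hχ : χ ≫ ψ = φ := IsCartesian.fac 𝒳.p (𝒳.p.map ψ) ψ φ
    have hGχ : G.map χ = 𝟙 (G.obj a) := by
      apply IsCartesian.ext 𝒴.p (𝒳.p.map ψ) (G.map ψ)
      rw [← G.map_comp, hχ, hφψ', Category.id_comp]
    have h6 : χ = 𝟙 a := h a χ (IsCartesian.map_isHomLift 𝒳.p (𝒳.p.map ψ) ψ φ) hGχ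
    rw [← hχ, h6, Category.id_comp]

/-- A based functor between categories fibred in groupoids which is full on morphisms over identities is full. -/
theorem full_of_fiberwise
    (h : ∀ (a b : 𝒳.obj) (U : C) (_ : 𝒳.p.obj a = U) (_ : 𝒳.p.obj b = U) (β : G.obj a ⟶ G.obj b),
      𝒴.p.IsHomLift (𝟙 U) β → ∃ m : a ⟶ b, G.map m = β) : G.toFunctor.Full where
  map_surjective {a b} θ := by
    let f : 𝒳.p.obj a ⟶ 𝒳.p.obj b :=
      eqToHom (G.w_obj a).symm ≫ 𝒴.p.map θ ≫ eqToHom (G.w_obj b)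
    have hθ : 𝒴.p.IsHomLift f θ := by dsimp only [f]; infer_instance
    obtain ⟨a', ψ, hψ⟩ := FibCat.IsFibGrpd.exists_lift (p := 𝒳.p) (x := b) f
    have h4 : 𝒴.p.IsStronglyCartesian f (G.map ψ) :=
      isStronglyCartesian_of_isHomLift 𝒴.p _ _
    let χ := IsCartesian.map 𝒴.p f (G.map ψ) θ
    have hχ : χ ≫ G.map ψ = θ := IsCartesian.fac 𝒴.p f (G.map ψ) θ
    obtain ⟨χ'', hχ''⟩ := h a a' (𝒳.p.obj a) rfl (IsHomLift.domain_eq 𝒳.p f ψ) χ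
      (IsCartesian.map_isHomLift 𝒴.p f (G.map ψ) θ)
    refine ⟨χ'' ≫ ψ, ?_⟩
    rw [G.map_comp, hχ'', hχ]

end General

section Main

variable [FibCat.IsFibGrpd 𝒳.p] (J : GrothendieckTopology C) (φ : 𝒳 ⥤ᵇ 𝒴) {s : 𝒳.obj}

theorem dSieve_mem' (hT : Limits.IsTerminal (𝒳.p.obj s))
    (hloc : Gerb.LocSurjHom J (FibCat.toSelf 𝒳)) (y : 𝒳.obj) :
    dSieve s y (𝒳.p.obj y) ∈ J (𝒳.p.obj y) :=
  dSieve_mem (x := s) (BasedFunctor.id 𝒳) (𝟙 s) (hg := IsHomLift.id rfl) J hT hloc y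

/-- injectivity on automorphisms of objects mapping to `s` -/
theorem aut_eq_id_of_hom (hinj : ∀ (x : 𝒳.obj) (_ : x ⟶ s), Function.Injective (Gerb.autMap φ x))
    {x : 𝒳.obj} (c : x ⟶ s) (e : x ⟶ x) (he : 𝒳.p.IsHomLift (𝟙 (𝒳.p.obj x)) e)
    (h : φ.map e = 𝟙 (φ.obj x)) : e = 𝟙 x := by
  have h1 : Gerb.autMap φ x (mkAutO e he) = Gerb.autMap φ x 1 := by
    rw [map_one]
    apply Aut.ext; apply Functor.Fiber.hom_ext
    exact h
  have h2 := hinj x c h1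
  have h3 := congrArg (fun a : Gerb.AutO x => a.hom.1) h2
  exact h3

variable [FibCat.IsFibGrpd 𝒴.p]

/-- injectivity on automorphisms of all objects -/
theorem aut_eq_id (h𝒳 : Stk.IsPrestack J 𝒳) (hT : Limits.IsTerminal (𝒳.p.obj s))
    (hloc : Gerb.LocSurjHom J (FibCat.toSelf 𝒳))
    (hinj : ∀ (x : 𝒳.obj) (_ : x ⟶ s), Function.Injective (Gerb.autMap φ x))
    (x : 𝒳.obj) (e : x ⟶ x) (he : 𝒳.p.IsHomLift (𝟙 (𝒳.p.obj x)) e)
    (h : φ.map e = 𝟙 (φ.obj x)) : e = 𝟙 x := by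
  haveI := he
  haveI : 𝒳.p.IsHomLift (𝟙 (𝒳.p.obj x)) (𝟙 x) := inferInstance
  apply hom_ext_of_isPrestack h𝒳 (dSieve s x (𝒳.p.obj x)) (dSieve_mem' J hT hloc x) e (𝟙 x)
  rintro V f ⟨d⟩ z l hl
  haveI := hl
  haveI := d.ha
  have hle : 𝒳.p.IsHomLift f (l ≫ e) := by
    have : 𝒳.p.IsHomLift (f ≫ 𝟙 _) (l ≫ e) := inferInstance
    simpa using this
  obtain ⟨ε, hε, hεfac⟩ := exists_iso_of_isHomLift f l (l ≫ e)
  obtain ⟨ι, hι, hιfac⟩ := exists_iso_of_isHomLift f d.a l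
  have hz : 𝒳.p.obj z = V := IsHomLift.domain_eq 𝒳.p f l
  have hε' : 𝒳.p.IsHomLift (𝟙 (𝒳.p.obj z)) ε.hom := by rw [hz]; exact hε
  have hφε : φ.map ε.hom = 𝟙 _ := by
    haveI : 𝒴.p.IsHomLift f (φ.map l) := inferInstance
    haveI := isStronglyCartesian_of_isHomLift 𝒴.p f (φ.map l)
    haveI : 𝒴.p.IsHomLift (𝟙 V) (φ.map ε.hom) := inferInstance
    haveI : 𝒴.p.IsHomLift (𝟙 V) (𝟙 (φ.obj z)) :=
      IsHomLift.id (IsHomLift.domain_eq 𝒴.p f (φ.map l))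
    apply IsStronglyCartesian.ext 𝒴.p f (φ.map l) (𝟙 V)
    rw [← φ.map_comp, hεfac, φ.map_comp, h, Category.comp_id, Category.id_comp]
  have := aut_eq_id_of_hom φ hinj (ι.hom ≫ d.c) ε.hom hε' hφε
  rw [Category.comp_id, ← hεfac, this, Category.id_comp]

/-- Local data for lifting a morphism `φ a ⟶ φ b`: an object mapping to `a` and to `b` over `h`, and to `s`. -/
structure Datum2 (s a b : 𝒳.obj) {U V : C} (h : V ⟶ U) where
  /-- the object -/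
  z : 𝒳.obj
  /-- the morphism to `a` -/
  l : z ⟶ a
  /-- the morphism to `b` -/
  l' : z ⟶ b
  /-- the morphism to `s` -/
  c : z ⟶ s
  hl : 𝒳.p.IsHomLift h l
  hl' : 𝒳.p.IsHomLift h l'

/-- The sieve of arrows over which `a` and `b` become isomorphic to a common pullback of `s`. -/
def dSieve2 (s a b : 𝒳.obj) (U : C) : Sieve U where
  arrows V h := Nonempty (Datum2 s a b h)
  downward_closed := by
    rintro V W h ⟨d⟩ k
    haveI := d.hl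
    haveI := d.hl'
    obtain ⟨x₁, θ, hθ⟩ := exists_lift' (𝒳 := 𝒳) (IsHomLift.domain_eq 𝒳.p h d.l) k
    exact ⟨⟨x₁, θ ≫ d.l, θ ≫ d.l', θ ≫ d.c, inferInstance, inferInstance⟩⟩

theorem dSieve2_mem (hT : Limits.IsTerminal (𝒳.p.obj s))
    (hloc : Gerb.LocSurjHom J (FibCat.toSelf 𝒳)) (a b : 𝒳.obj) (U : C) (ha : 𝒳.p.obj a = U)
    (hb : 𝒳.p.obj b = U) : dSieve2 s a b U ∈ J U := by
  subst ha
  let β : (FibCat.toSelf 𝒳).obj a ⟶ (FibCat.toSelf 𝒳).obj b := eqToHom hb.symm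
  have hβ : (FibCat.selfOver C).p.IsHomLift (𝟙 (𝒳.p.obj a)) β :=
    IsHomLift.eqToHom_domain_lift_id (p := 𝟭 C) hb.symm rfl
  obtain ⟨R, hR, hl⟩ := hloc a b β hβ
  refine J.superset_covering ?_ (J.intersection_covering hR (dSieve_mem' J hT hloc a))
  rintro V h ⟨hh, ⟨d⟩⟩
  obtain ⟨x₀, l, l', hl, hl', -⟩ := hl h hh
  haveI := hl
  haveI := d.ha
  obtain ⟨ι, hι, hιfac⟩ := exists_iso_of_isHomLift h d.a l
  exact ⟨⟨x₀, l, l', ι.hom ≫ d.c, hl, hl'⟩⟩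

/-- local lifting of a morphism `φ a ⟶ φ b` over the identity -/
theorem exists_local_preimage
    (hsurj : ∀ (x : 𝒳.obj) (_ : x ⟶ s), Function.Surjective (Gerb.autMap φ x))
    {a b : 𝒳.obj} {U : C} (β : φ.obj a ⟶ φ.obj b) [𝒴.p.IsHomLift (𝟙 U) β] {V : C} (f : V ⟶ U)
    (d : Datum2 s a b f) (z : 𝒳.obj) (l : z ⟶ a) (hl : 𝒳.p.IsHomLift f l) :
    ∃ m : z ⟶ b, φ.map m = φ.map l ≫ β := by
  haveI := hl
  haveI := d.hl
  haveI := d.hl'
  obtain ⟨ι, hι, hιfac⟩ := exists_iso_of_isHomLift f d.l l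
  haveI : 𝒴.p.IsHomLift f (φ.map d.l') := inferInstance
  haveI : 𝒴.p.IsHomLift f (φ.map d.l ≫ β) := by
    have : 𝒴.p.IsHomLift (f ≫ 𝟙 U) (φ.map d.l ≫ β) := inferInstance
    simpa using this
  obtain ⟨γ, hγ, hγfac⟩ := exists_iso_of_isHomLift f (φ.map d.l') (φ.map d.l ≫ β)
  have hzV : 𝒴.p.obj (φ.obj d.z) = V := IsHomLift.domain_eq 𝒴.p f (φ.map d.l')
  have hγ' : 𝒴.p.IsHomLift (𝟙 (𝒴.p.obj (φ.obj d.z))) γ.hom := by rw [hzV]; exact hγ
  obtain ⟨α, hα⟩ := hsurj d.z d.c (mkAutO γ.hom hγ')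
  have hα' : φ.map α.hom.1 = γ.hom :=
    congrArg (fun b : Gerb.AutO (φ.obj d.z) => b.hom.1) hα
  refine ⟨ι.hom ≫ α.hom.1 ≫ d.l', ?_⟩
  rw [φ.map_comp, φ.map_comp, hα', hγfac, ← hιfac, φ.map_comp, Category.assoc]

/-- fibrewise fullness, by gluing the local lifts -/
theorem exists_preimage (h𝒳 : Stk.IsStack J 𝒳) (h𝒴 : Stk.IsPrestack J 𝒴)
    (hT : Limits.IsTerminal (𝒳.p.obj s)) (hloc : Gerb.LocSurjHom J (FibCat.toSelf 𝒳))
    (hbij : ∀ (x : 𝒳.obj) (_ : x ⟶ s), Function.Bijective (Gerb.autMap φ x))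
    (a b : 𝒳.obj) (U : C) (ha : 𝒳.p.obj a = U) (hb : 𝒳.p.obj b = U) (β : φ.obj a ⟶ φ.obj b)
    (hβ : 𝒴.p.IsHomLift (𝟙 U) β) : ∃ m : a ⟶ b, φ.map m = β := by
  haveI := hβ
  haveI hfaith : φ.toFunctor.Faithful := faithful_of_aut φ
    (aut_eq_id J φ (isPrestack_of_isStack J h𝒳) hT hloc (fun x c => (hbij x c).1))
  have hS := dSieve2_mem J hT hloc a b U ha hb
  have heq : (Stk.resSieve (dSieve2 s a b U) 𝒳).IsEquivalence := h𝒳.2 _ hS
  haveI : (Stk.resSieve (dSieve2 s a b U) 𝒳).Full := inferInstance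
  have hex : ∀ ⦃V : C⦄ (f : V ⟶ U), (dSieve2 s a b U) f → ∀ (z : 𝒳.obj) (l : z ⟶ a),
      𝒳.p.IsHomLift f l → ∃ m : z ⟶ b, φ.map m = φ.map l ≫ β := fun V f hf z l hl =>
    exists_local_preimage φ (fun x c => (hbij x c).2) β f hf.some z l hl
  choose m hm using hex
  have hmlift : ∀ ⦃V : C⦄ (f : V ⟶ U) (hf : (dSieve2 s a b U) f) (z : 𝒳.obj) (l : z ⟶ a)
      (hl : 𝒳.p.IsHomLift f l), 𝒳.p.IsHomLift f (m f hf z l hl) := by
    intro V f hf z l hl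
    haveI := hl
    haveI : 𝒴.p.IsHomLift f (φ.map (m f hf z l hl)) := by
      rw [hm]
      have : 𝒴.p.IsHomLift (f ≫ 𝟙 U) (φ.map l ≫ β) := inferInstance
      simpa using this
    exact φ.isHomLift_map f _
  obtain ⟨g, hg, hgm⟩ := exists_hom_of_full_resSieve (dSieve2 s a b U) (x := a) (x' := b) ha hb
    m hmlift (by
      intro V f hf z l hl W f' hf' k hk z' μ hμ hl'
      apply φ.toFunctor.map_injective
      rw [hm, φ.map_comp, φ.map_comp, hm, Category.assoc])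
  refine ⟨g, ?_⟩
  haveI := hg
  haveI : 𝒴.p.IsHomLift (𝟙 U) (φ.map g) := inferInstance
  apply hom_ext_of_isPrestack h𝒴 (dSieve2 s a b U) hS (φ.map g) β
  rintro V f ⟨d⟩ z' l' hl'
  haveI := hl'
  haveI := d.hl
  haveI : 𝒴.p.IsHomLift f (φ.map d.l) := inferInstance
  obtain ⟨ι, hι, hιfac⟩ := exists_iso_of_isHomLift f (φ.map d.l) l'
  rw [← hιfac, Category.assoc, Category.assoc, ← φ.map_comp, hgm f ⟨d⟩ d.z d.l d.hl, hm]

omit [FibCat.IsFibGrpd 𝒳.p] [FibCat.IsFibGrpd 𝒴.p] in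
theorem isHomLift_from_terminal' {z' t : 𝒴.obj} (c : z' ⟶ t) (T : C)
    (hT : 𝒴.p.obj t = T) (hT' : Limits.IsTerminal T) :
    𝒴.p.IsHomLift (hT'.from (𝒴.p.obj z')) c := by
  subst hT
  have : hT'.from (𝒴.p.obj z') = 𝒴.p.map c := hT'.hom_ext _ _
  rw [this]; infer_instance

/-- essential surjectivity over identities, by descent of objects -/
theorem exists_preimage_obj (h𝒳 : Stk.IsStack J 𝒳) (h𝒴 : Stk.IsStack J 𝒴)
    (hT : Limits.IsTerminal (𝒳.p.obj s)) (hloc𝒴 : Gerb.LocSurjHom J (FibCat.toSelf 𝒴))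
    [φ.toFunctor.Full] [φ.toFunctor.Faithful] (y : 𝒴.obj) :
    ∃ (x : 𝒳.obj) (e : φ.toFunctor.obj x ≅ y), 𝒴.p.IsHomLift (𝟙 (𝒴.p.obj y)) e.hom := by
  haveI := isFibered 𝒴.p
  obtain ⟨U, hU⟩ : ∃ U, U = 𝒴.p.obj y := ⟨_, rfl⟩
  rw [← hU]
  let yF : 𝒴.p.Fiber U := ⟨y, hU.symm⟩
  let Y := pbFunctor yF
  have hTY : Limits.IsTerminal (𝒴.p.obj (φ.obj s)) := by rw [φ.w_obj s]; exact hT
  let R := dSieve (φ.obj s) y U
  have hR : R ∈ J U := by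
    have := dSieve_mem' J hTY hloc𝒴 y
    rw [← hU] at this
    exact this
  let E : Stk.sieveCat R ⥤ᵇ 𝒴 := BasedFunctor.comp (Stk.sieveIncl R) Y
  have hE : ∀ a : (Stk.sieveCat R).obj, ∃ (x : 𝒳.obj) (e : φ.toFunctor.obj x ≅ E.toFunctor.obj a),
      𝒴.p.IsHomLift (𝟙 ((Stk.sieveCat R).p.obj a)) e.hom := by
    intro a
    obtain ⟨d⟩ := a.property
    haveI := d.ha
    haveI hpb : 𝒴.p.IsHomLift a.obj.hom (pbMap yF a.obj) :=
      (pbMap_isStronglyCartesian yF a.obj).toIsHomLift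
    obtain ⟨ι₁, hι₁, hι₁fac⟩ := exists_iso_of_isHomLift a.obj.hom d.a (pbMap yF a.obj)
    have hV : 𝒴.p.obj d.x₀ = a.obj.left := IsHomLift.domain_eq 𝒴.p a.obj.hom d.a
    haveI hc := isHomLift_from_terminal' d.c (𝒳.p.obj s) (φ.w_obj s) hT
    obtain ⟨x₀, c', hc'⟩ := FibCat.IsFibGrpd.exists_lift (p := 𝒳.p) (x := s)
      (hT.from (𝒴.p.obj d.x₀))
    haveI : 𝒴.p.IsHomLift (hT.from (𝒴.p.obj d.x₀)) (φ.map c') := inferInstance
    obtain ⟨ι₂, hι₂, hι₂fac⟩ := exists_iso_of_isHomLift (hT.from (𝒴.p.obj d.x₀)) (φ.map c') d.c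
    rw [hV] at hι₂
    haveI := hι₂
    haveI h1 : 𝒴.p.IsHomLift (𝟙 a.obj.left) ι₁.inv := IsHomLift.lift_id_inv 𝒴.p _ ι₁
    haveI h2 : 𝒴.p.IsHomLift (𝟙 a.obj.left) ι₂.inv := IsHomLift.lift_id_inv 𝒴.p _ ι₂
    refine ⟨x₀, (ι₁ ≪≫ ι₂).symm, ?_⟩
    change 𝒴.p.IsHomLift (𝟙 a.obj.left) (ι₂.inv ≫ ι₁.inv)
    have : 𝒴.p.IsHomLift (𝟙 a.obj.left ≫ 𝟙 a.obj.left) (ι₂.inv ≫ ι₁.inv) := inferInstance
    simpa using this
  obtain ⟨D, ⟨δ⟩⟩ := exists_lift_of_ff φ E hE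
  have heq𝒳 : (Stk.resSieve R 𝒳).IsEquivalence := h𝒳.2 R hR
  have heq𝒴 : (Stk.resSieve R 𝒴).IsEquivalence := h𝒴.2 R hR
  let X := (Stk.resSieve R 𝒳).objPreimage D
  let ξ : (Stk.resSieve R 𝒳).obj X ≅ D := (Stk.resSieve R 𝒳).objObjPreimageIso D
  let ζ : (Stk.resSieve R 𝒴).obj (BasedFunctor.comp X φ) ≅ (Stk.resSieve R 𝒴).obj Y :=
    (Groth.Agent.Lib.StkEquiv.postcomp (Stk.sieveCat R) φ).mapIso ξ ≪≫ δ
  let θ : BasedFunctor.comp X φ ≅ Y := (Stk.resSieve R 𝒴).preimageIso ζ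
  let e₁ : φ.obj (X.obj (overTop U)) ≅ Y.obj (overTop U) := appIso θ (overTop U)
  haveI he₁ : 𝒴.p.IsHomLift (𝟙 U) e₁.hom := appIso_isHomLift θ rfl
  refine ⟨X.obj (overTop U), e₁ ≪≫ asIso (pbMap yF (overTop U)), ?_⟩
  change 𝒴.p.IsHomLift (𝟙 U) (e₁.hom ≫ pbMap yF (overTop U))
  have : 𝒴.p.IsHomLift (𝟙 U ≫ 𝟙 U) (e₁.hom ≫ pbMap yF (overTop U)) := inferInstance
  simpa using this

end Main

section Final

variable (J : GrothendieckTopology C)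

/-- A functor between gerbes which induces bijections on the automorphism groups of all pullbacks of an object `s`
over a terminal object of the base is an equivalence over the base. -/
theorem isEquivOver_of_bijective_autMap (h𝒳 : Gerb.IsGerbe J 𝒳) (h𝒴 : Gerb.IsGerbe J 𝒴)
    (φ : 𝒳 ⥤ᵇ 𝒴) (s : 𝒳.obj) (hT : Limits.IsTerminal (𝒳.p.obj s))
    (hbij : ∀ (x : 𝒳.obj) (_ : x ⟶ s), Function.Bijective (Gerb.autMap φ x)) :
    FibCat.IsEquivOver φ := by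
  haveI := h𝒳.1.1
  haveI := h𝒴.1.1
  haveI hfaith : φ.toFunctor.Faithful := faithful_of_aut φ
    (aut_eq_id J φ (isPrestack_of_isStack J h𝒳.1) hT h𝒳.2.2 (fun x c => (hbij x c).1))
  haveI hfull : φ.toFunctor.Full := full_of_fiberwise φ
    (exists_preimage J φ h𝒳.1 (isPrestack_of_isStack J h𝒴.1) hT h𝒳.2.2 hbij)
  exact isEquivOver_of_ff_of_ess φ (exists_preimage_obj J φ h𝒳.1 h𝒴.1 hT h𝒴.2.2)

end Final

end Groth.Agent.Lib.H43GerbFF
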