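import Groth.Prelude.Def_StGerb2
import Groth.Agent.Lib.H43GerbFF

/-!
# The band of a gerbe with commutative automorphism groups (helper43)

For a gerbe `𝒮` over a site `(C, J)` all of whose automorphism groups over identities are commutative, the presheaf
`U ↦ centSub 𝒮 U` of natural families of automorphisms of the objects of `𝒮` over `U` is a sheaf of commutative groups
banding `𝒮`.

* `pb α c` : pullback of an automorphism over the identity along a morphism; `pb_fac`, `pb_uniq`, `pb_comp`, `pb_eq`.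
* `glue_aut`, `aut_ext` : gluing and separation for endomorphisms over the identity of an object of a stack.
-/

set_option autoImplicit false
set_option linter.style.haveILetI false
set_option backward.isDefEq.respectTransparency false
set_option backward.isDefEq.respectTransparency.types false

namespace Groth.Agent.Lib.H43GerbBand

open CategoryTheory Functor Groth.Agent.Lib.FibGrpd Groth.Agent.Lib.H43StkDescent
  Groth.Agent.Lib.H43GerbConj Groth.Agent.Lib.H43GerbFF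

universe v₂ u₂ v u

variable {C : Type u} [Category.{v} C] {𝒮 : BasedCategory.{v₂, u₂} C} [FibCat.IsFibGrpd 𝒮.p]

section Pullback

variable {x : 𝒮.obj} (α : x ⟶ x) [hα : 𝒮.p.IsHomLift (𝟙 (𝒮.p.obj x)) α]

omit [FibCat.IsFibGrpd 𝒮.p] in
theorem pb_aux {x' : 𝒮.obj} (c : x' ⟶ x) :
    𝒮.p.IsHomLift (𝟙 (𝒮.p.obj x') ≫ 𝒮.p.map c) (c ≫ α) := by
  have : 𝒮.p.IsHomLift (𝒮.p.map c ≫ 𝟙 (𝒮.p.obj x)) (c ≫ α) := inferInstance
  simpa using this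

/-- The pullback of the automorphism `α` of `x` along `c : x' ⟶ x`. -/
noncomputable def pb {x' : 𝒮.obj} (c : x' ⟶ x) : x' ⟶ x' :=
  haveI := FibCat.IsFibGrpd.isStronglyCartesian (p := 𝒮.p) c
  haveI := pb_aux α c
  IsStronglyCartesian.map 𝒮.p (𝒮.p.map c) c (g := 𝟙 (𝒮.p.obj x'))
    (f' := 𝟙 (𝒮.p.obj x') ≫ 𝒮.p.map c) rfl (c ≫ α)

instance pb_isHomLift {x' : 𝒮.obj} (c : x' ⟶ x) : 𝒮.p.IsHomLift (𝟙 (𝒮.p.obj x')) (pb α c) := by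
  haveI := FibCat.IsFibGrpd.isStronglyCartesian (p := 𝒮.p) c
  haveI := pb_aux α c
  exact IsStronglyCartesian.map_isHomLift 𝒮.p (𝒮.p.map c) c (g := 𝟙 (𝒮.p.obj x'))
    (f' := 𝟙 (𝒮.p.obj x') ≫ 𝒮.p.map c) rfl (c ≫ α)

theorem pb_fac {x' : 𝒮.obj} (c : x' ⟶ x) : pb α c ≫ c = c ≫ α := by
  haveI := FibCat.IsFibGrpd.isStronglyCartesian (p := 𝒮.p) c
  haveI := pb_aux α c
  exact IsStronglyCartesian.fac 𝒮.p (𝒮.p.map c) c (g := 𝟙 (𝒮.p.obj x'))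
    (f' := 𝟙 (𝒮.p.obj x') ≫ 𝒮.p.map c) rfl (c ≫ α)

omit hα in
/-- cancellation of a morphism on the right of morphisms over the identity -/
theorem cancel_right_of_isHomLift {x' : 𝒮.obj} (c : x' ⟶ x) {w : 𝒮.obj} {V : C} (g : V ⟶ 𝒮.p.obj x')
    (β γ : w ⟶ x') [𝒮.p.IsHomLift g β] [𝒮.p.IsHomLift g γ] (h : β ≫ c = γ ≫ c) : β = γ := by
  haveI hc := FibCat.IsFibGrpd.isStronglyCartesian (p := 𝒮.p) c
  exact IsStronglyCartesian.ext 𝒮.p (𝒮.p.map c) c g h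

theorem pb_uniq {x' : 𝒮.obj} (c : x' ⟶ x) (β : x' ⟶ x') [𝒮.p.IsHomLift (𝟙 (𝒮.p.obj x')) β]
    (h : β ≫ c = c ≫ α) : β = pb α c :=
  cancel_right_of_isHomLift c (𝟙 (𝒮.p.obj x')) β (pb α c) (by rw [h, pb_fac])

theorem pb_id : pb α (𝟙 x) = α :=
  (pb_uniq α (𝟙 x) α (by rw [Category.comp_id, Category.id_comp])).symm

theorem pb_comp {x'' x' : 𝒮.obj} (θ : x'' ⟶ x') (c : x' ⟶ x) :
    pb α (θ ≫ c) ≫ θ = θ ≫ pb α c := by
  haveI h1 : 𝒮.p.IsHomLift (𝒮.p.map θ) (pb α (θ ≫ c) ≫ θ) := inferInstance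
  haveI h2 : 𝒮.p.IsHomLift (𝒮.p.map θ) (θ ≫ pb α c) := inferInstance
  apply cancel_right_of_isHomLift c (𝒮.p.map θ)
  rw [Category.assoc, pb_fac, Category.assoc (θ) (pb α c) c, pb_fac, Category.assoc]

/-- If automorphisms over identities commute, the pullback only depends on the image of `c` in the base. -/
theorem pb_eq (hcomm : ∀ (w : 𝒮.obj) (β γ : w ⟶ w), 𝒮.p.IsHomLift (𝟙 (𝒮.p.obj w)) β →
      𝒮.p.IsHomLift (𝟙 (𝒮.p.obj w)) γ → β ≫ γ = γ ≫ β)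
    {x' : 𝒮.obj} (c₁ c₂ : x' ⟶ x) (hp : 𝒮.p.map c₁ = 𝒮.p.map c₂) : pb α c₁ = pb α c₂ := by
  haveI h1 : 𝒮.p.IsHomLift (𝒮.p.map c₂) c₁ := by rw [← hp]; infer_instance
  obtain ⟨γ, hγ, hγfac⟩ := exists_iso_of_isHomLift (𝒮.p.map c₂) c₂ c₁
  haveI := hγ
  have e1 := pb_comp α γ.hom c₂
  rw [hγfac] at e1
  have e2 := hcomm x' γ.hom (pb α c₂) hγ inferInstance
  rw [e2] at e1
  exact (cancel_mono γ.hom).1 e1

end Pullback

section Glue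

variable (J : GrothendieckTopology C)

omit [FibCat.IsFibGrpd 𝒮.p] in
theorem sieve_map_of_isHomLift {y : 𝒮.obj} (R : Sieve (𝒮.p.obj y)) {V : C} (f : V ⟶ 𝒮.p.obj y)
    (hf : R f) {z : 𝒮.obj} (l : z ⟶ y) [hl : 𝒮.p.IsHomLift f l] : R (𝒮.p.map l) := by
  have := IsHomLift.fac' 𝒮.p f l
  rw [this]
  simp only [eqToHom_refl, Category.comp_id]
  exact R.downward_closed hf _

/-- separation for endomorphisms over the identity -/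
theorem aut_ext (h𝒮 : Stk.IsPrestack J 𝒮) {y : 𝒮.obj} (R : Sieve (𝒮.p.obj y))
    (hR : R ∈ J (𝒮.p.obj y)) (A A' : y ⟶ y) [𝒮.p.IsHomLift (𝟙 (𝒮.p.obj y)) A]
    [𝒮.p.IsHomLift (𝟙 (𝒮.p.obj y)) A']
    (h : ∀ (z : 𝒮.obj) (l : z ⟶ y), R (𝒮.p.map l) → l ≫ A = l ≫ A') : A = A' := by
  apply hom_ext_of_isPrestack h𝒮 R hR A A'
  intro V f hf z l hl
  haveI := hl
  exact h z l (sieve_map_of_isHomLift R f hf l)

/-- gluing of endomorphisms over the identity -/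
theorem glue_aut (h𝒮 : Stk.IsStack J 𝒮) (y : 𝒮.obj) (R : Sieve (𝒮.p.obj y))
    (hR : R ∈ J (𝒮.p.obj y))
    (β : ∀ (z : 𝒮.obj) (l : z ⟶ y), R (𝒮.p.map l) → (z ⟶ z))
    (hβ : ∀ (z : 𝒮.obj) (l : z ⟶ y) (hl : R (𝒮.p.map l)), 𝒮.p.IsHomLift (𝟙 (𝒮.p.obj z)) (β z l hl))
    (hcompat : ∀ (z : 𝒮.obj) (l : z ⟶ y) (hl : R (𝒮.p.map l)) (z' : 𝒮.obj) (μ : z' ⟶ z)
      (hl' : R (𝒮.p.map (μ ≫ l))), β z' (μ ≫ l) hl' ≫ μ = μ ≫ β z l hl) :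
    ∃ A : y ⟶ y, 𝒮.p.IsHomLift (𝟙 (𝒮.p.obj y)) A ∧
      ∀ (z : 𝒮.obj) (l : z ⟶ y) (hl : R (𝒮.p.map l)), l ≫ A = β z l hl ≫ l := by
  have heq : (Stk.resSieve R 𝒮).IsEquivalence := h𝒮.2 R hR
  haveI : (Stk.resSieve R 𝒮).Full := inferInstance
  obtain ⟨A, hA, hAm⟩ := exists_hom_of_full_resSieve R (x := y) (x' := y) rfl rfl
    (fun V f hf z l hl => haveI := hl; β z l (sieve_map_of_isHomLift R f hf l) ≫ l)
    (by
      intro V f hf z l hl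
      haveI := hl
      have hz : 𝒮.p.obj z = V := IsHomLift.domain_eq 𝒮.p f l
      haveI : 𝒮.p.IsHomLift (𝟙 V) (β z l (sieve_map_of_isHomLift R f hf l)) := by
        subst hz; exact hβ z l _
      infer_instance)
    (by
      intro V f hf z l hl W f' hf' k hk z' μ hμ hl'
      rw [← Category.assoc, hcompat z l _ z' μ _, Category.assoc])
  exact ⟨A, hA, fun z l hl => hAm (𝒮.p.map l) hl z l inferInstance⟩

end Glue

section Local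

variable (J : GrothendieckTopology C)

omit [FibCat.IsFibGrpd 𝒮.p] in
theorem map_eq_of_isHomLift {x y z : 𝒮.obj} (f : 𝒮.p.obj y ⟶ 𝒮.p.obj x) {V : C} (h : V ⟶ 𝒮.p.obj y)
    (l : z ⟶ y) (l' : z ⟶ x) [𝒮.p.IsHomLift h l] [𝒮.p.IsHomLift (h ≫ f) l'] :
    𝒮.p.map l' = 𝒮.p.map l ≫ f := by
  rw [IsHomLift.fac' 𝒮.p (h ≫ f) l', IsHomLift.fac' 𝒮.p h l]
  simp only [eqToHom_refl, Category.comp_id, Category.assoc]

omit [FibCat.IsFibGrpd 𝒮.p] in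
theorem map_eq_id_of_isHomLift {y : 𝒮.obj} (A : y ⟶ y) [𝒮.p.IsHomLift (𝟙 (𝒮.p.obj y)) A] :
    𝒮.p.map A = 𝟙 (𝒮.p.obj y) :=
  (IsHomLift.eq_of_isHomLift 𝒮.p (𝟙 (𝒮.p.obj y)) A).symm

/-- The sieve on `p y` of the arrows `h` over which the pullback of `y` maps to `x` over `h ≫ f`. -/
def lSieve (x y : 𝒮.obj) (f : 𝒮.p.obj y ⟶ 𝒮.p.obj x) : Sieve (𝒮.p.obj y) where
  arrows V h := ∃ (z : 𝒮.obj) (l : z ⟶ y) (l' : z ⟶ x),
    𝒮.p.IsHomLift h l ∧ 𝒮.p.map l' = 𝒮.p.map l ≫ f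
  downward_closed := by
    rintro V W h ⟨z, l, l', hl, hfac⟩ k
    haveI := hl
    obtain ⟨z₁, θ, hθ⟩ := exists_lift' (𝒳 := 𝒮) (IsHomLift.domain_eq 𝒮.p h l) k
    haveI := hθ
    exact ⟨z₁, θ ≫ l, θ ≫ l', inferInstance, by
      rw [Functor.map_comp, Functor.map_comp, hfac, Category.assoc]⟩

theorem lSieve_of_hom {x y : 𝒮.obj} (f : 𝒮.p.obj y ⟶ 𝒮.p.obj x) {z : 𝒮.obj} (l : z ⟶ y)
    (l' : z ⟶ x) (h : 𝒮.p.map l' = 𝒮.p.map l ≫ f) : lSieve x y f (𝒮.p.map l) :=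
  ⟨z, l, l', inferInstance, h⟩

theorem exists_hom_of_lSieve {x y : 𝒮.obj} (f : 𝒮.p.obj y ⟶ 𝒮.p.obj x) {z₀ : 𝒮.obj} (l₀ : z₀ ⟶ y)
    (h : lSieve x y f (𝒮.p.map l₀)) : ∃ l'' : z₀ ⟶ x, 𝒮.p.map l'' = 𝒮.p.map l₀ ≫ f := by
  obtain ⟨z, l, l', hl, hfac⟩ := h
  haveI := hl
  obtain ⟨ι, hι, hιfac⟩ := exists_iso_of_isHomLift (𝒮.p.map l₀) l l₀
  refine ⟨ι.hom ≫ l', ?_⟩
  rw [Functor.map_comp, hfac, ← Category.assoc, ← Functor.map_comp, hιfac]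

theorem lSieve_mem (hloc : Gerb.LocSurjHom J (FibCat.toSelf 𝒮)) (x y : 𝒮.obj)
    (f : 𝒮.p.obj y ⟶ 𝒮.p.obj x) : lSieve x y f ∈ J (𝒮.p.obj y) := by
  obtain ⟨x', ψ, hψ⟩ := FibCat.IsFibGrpd.exists_lift (p := 𝒮.p) (x := x) f
  haveI := hψ
  have hx' : 𝒮.p.obj x' = 𝒮.p.obj y := IsHomLift.domain_eq 𝒮.p f ψ
  let b : (FibCat.toSelf 𝒮).obj y ⟶ (FibCat.toSelf 𝒮).obj x' := eqToHom hx'.symm
  have hb : (FibCat.selfOver C).p.IsHomLift (𝟙 (𝒮.p.obj y)) b :=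
    IsHomLift.eqToHom_domain_lift_id (p := 𝟭 C) hx'.symm rfl
  obtain ⟨R, hR, hl⟩ := hloc y x' b hb
  refine J.superset_covering ?_ hR
  intro V h hh
  obtain ⟨x₀, φ₁, φ₂, h1, h2, -⟩ := hl h hh
  haveI := h1
  haveI := h2
  haveI : 𝒮.p.IsHomLift (h ≫ f) (φ₂ ≫ ψ) := inferInstance
  exact ⟨x₀, φ₁, φ₂ ≫ ψ, h1, map_eq_of_isHomLift f h φ₁ (φ₂ ≫ ψ)⟩

/-- separation for morphisms over the same arrow of the base -/
theorem hom_ext_over (h𝒮 : Stk.IsPrestack J 𝒮) {y' y : 𝒮.obj} (R : Sieve (𝒮.p.obj y'))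
    (hR : R ∈ J (𝒮.p.obj y')) (a b : y' ⟶ y) (hp : 𝒮.p.map a = 𝒮.p.map b)
    (h : ∀ (z : 𝒮.obj) (l : z ⟶ y'), R (𝒮.p.map l) → l ≫ a = l ≫ b) : a = b := by
  haveI : 𝒮.p.IsHomLift (𝒮.p.map a) b := by rw [hp]; infer_instance
  obtain ⟨γ, hγ, hγfac⟩ := exists_iso_of_isHomLift (𝒮.p.map a) a b
  haveI := hγ
  have hγ1 : γ.hom = 𝟙 y' := by
    apply aut_ext J h𝒮 R hR γ.hom (𝟙 y')
    intro z l hl
    haveI h1 : 𝒮.p.IsHomLift (𝒮.p.map l) (l ≫ γ.hom) := inferInstance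
    haveI h2 : 𝒮.p.IsHomLift (𝒮.p.map l) (l ≫ 𝟙 y') := inferInstance
    apply cancel_right_of_isHomLift a (𝒮.p.map l)
    rw [Category.assoc, hγfac, Category.comp_id, h z l hl]
  rw [← hγfac, hγ1, Category.id_comp]

end Local

section Eval

variable (J : GrothendieckTopology C)

/-- injectivity of evaluation: a natural family over `p x` which is trivial at `x` is trivial -/
theorem fam_eq_id (h𝒮 : Stk.IsPrestack J 𝒮) (hloc : Gerb.LocSurjHom J (FibCat.toSelf 𝒮)) (x : 𝒮.obj)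
    (a : ∀ (y : 𝒮.obj) (_ : 𝒮.p.obj y ⟶ 𝒮.p.obj x), y ⟶ y)
    (ha : ∀ (y : 𝒮.obj) (f : 𝒮.p.obj y ⟶ 𝒮.p.obj x), 𝒮.p.IsHomLift (𝟙 (𝒮.p.obj y)) (a y f))
    (hnat : ∀ {y' y : 𝒮.obj} (φ : y' ⟶ y) (f : 𝒮.p.obj y ⟶ 𝒮.p.obj x),
      a y' (𝒮.p.map φ ≫ f) ≫ φ = φ ≫ a y f)
    (h1 : a x (𝟙 _) = 𝟙 x) (y : 𝒮.obj) (f : 𝒮.p.obj y ⟶ 𝒮.p.obj x) : a y f = 𝟙 y := by
  haveI := ha y f
  apply aut_ext J h𝒮 (lSieve x y f) (lSieve_mem J hloc x y f) (a y f) (𝟙 y)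
  intro z l hl
  obtain ⟨l'', hl''⟩ := exists_hom_of_lSieve f l hl
  have e1 : a z (𝒮.p.map l ≫ f) = 𝟙 z := by
    have e2 := hnat l'' (𝟙 _)
    rw [h1, Category.comp_id, Category.comp_id, hl''] at e2
    haveI := ha z (𝒮.p.map l ≫ f)
    apply cancel_right_of_isHomLift l'' (𝟙 (𝒮.p.obj z))
    rw [e2, Category.id_comp]
  rw [← hnat l f, e1, Category.id_comp, Category.comp_id]

/-- the glued automorphism of `y` attached to an automorphism `α` of `x` and `f : p y ⟶ p x` -/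
theorem exists_transport (h𝒮 : Stk.IsStack J 𝒮) (hloc : Gerb.LocSurjHom J (FibCat.toSelf 𝒮))
    (hcomm : ∀ (w : 𝒮.obj) (β γ : w ⟶ w), 𝒮.p.IsHomLift (𝟙 (𝒮.p.obj w)) β →
      𝒮.p.IsHomLift (𝟙 (𝒮.p.obj w)) γ → β ≫ γ = γ ≫ β)
    (x : 𝒮.obj) (α : x ⟶ x) [hα : 𝒮.p.IsHomLift (𝟙 (𝒮.p.obj x)) α] (y : 𝒮.obj)
    (f : 𝒮.p.obj y ⟶ 𝒮.p.obj x) :
    ∃ A : y ⟶ y, 𝒮.p.IsHomLift (𝟙 (𝒮.p.obj y)) A ∧
      ∀ (z : 𝒮.obj) (l : z ⟶ y) (l'' : z ⟶ x), 𝒮.p.map l'' = 𝒮.p.map l ≫ f →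
        l ≫ A = pb α l'' ≫ l := by
  obtain ⟨A, hA, hAm⟩ := glue_aut J h𝒮 y (lSieve x y f) (lSieve_mem J hloc x y f)
    (fun z l hl => pb α (exists_hom_of_lSieve f l hl).choose)
    (fun z l hl => inferInstance)
    (by
      intro z l hl z' μ hl'
      have h0 := (exists_hom_of_lSieve f l hl).choose_spec
      have h1 := (exists_hom_of_lSieve f (μ ≫ l) hl').choose_spec
      have e : pb α (exists_hom_of_lSieve f (μ ≫ l) hl').choose =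
          pb α (μ ≫ (exists_hom_of_lSieve f l hl).choose) := by
        apply pb_eq α hcomm
        rw [h1, Functor.map_comp, Functor.map_comp, h0, Category.assoc]
      rw [e, pb_comp])
  refine ⟨A, hA, ?_⟩
  intro z l l'' hl''
  have hl : lSieve x y f (𝒮.p.map l) := lSieve_of_hom f l l'' hl''
  rw [hAm z l hl]
  congr 1
  apply pb_eq α hcomm
  rw [(exists_hom_of_lSieve f l hl).choose_spec, hl'']

/-- surjectivity of evaluation -/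
theorem exists_fam (h𝒮 : Stk.IsStack J 𝒮) (hloc : Gerb.LocSurjHom J (FibCat.toSelf 𝒮))
    (hcomm : ∀ (w : 𝒮.obj) (β γ : w ⟶ w), 𝒮.p.IsHomLift (𝟙 (𝒮.p.obj w)) β →
      𝒮.p.IsHomLift (𝟙 (𝒮.p.obj w)) γ → β ≫ γ = γ ≫ β)
    (x : 𝒮.obj) (α : x ⟶ x) [hα : 𝒮.p.IsHomLift (𝟙 (𝒮.p.obj x)) α] :
    ∃ a : ∀ (y : 𝒮.obj) (_ : 𝒮.p.obj y ⟶ 𝒮.p.obj x), y ⟶ y,
      (∀ (y : 𝒮.obj) (f : 𝒮.p.obj y ⟶ 𝒮.p.obj x), 𝒮.p.IsHomLift (𝟙 (𝒮.p.obj y)) (a y f)) ∧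
      (∀ {y' y : 𝒮.obj} (φ : y' ⟶ y) (f : 𝒮.p.obj y ⟶ 𝒮.p.obj x),
        a y' (𝒮.p.map φ ≫ f) ≫ φ = φ ≫ a y f) ∧ a x (𝟙 _) = α := by
  choose a ha hspec using exists_transport J h𝒮 hloc hcomm x α
  refine ⟨a, ha, ?_, ?_⟩
  · intro y' y φ f
    haveI := ha y' (𝒮.p.map φ ≫ f)
    haveI := ha y f
    apply hom_ext_over J (isPrestack_of_isStack J h𝒮) (lSieve x y' (𝒮.p.map φ ≫ f))
      (lSieve_mem J hloc x y' (𝒮.p.map φ ≫ f))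
    · rw [Functor.map_comp, Functor.map_comp, map_eq_id_of_isHomLift, map_eq_id_of_isHomLift,
        Category.id_comp, Category.comp_id]
    · intro z l hl
      obtain ⟨l'', hl''⟩ := exists_hom_of_lSieve (𝒮.p.map φ ≫ f) l hl
      rw [← Category.assoc, hspec y' (𝒮.p.map φ ≫ f) z l l'' hl'', ← Category.assoc,
        hspec y f z (l ≫ φ) l'' (by rw [hl'', Functor.map_comp, Category.assoc]), Category.assoc]
  · have := hspec x (𝟙 _) x (𝟙 x) (𝟙 x) (by simp)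
    rw [Category.id_comp, Category.comp_id, pb_id] at this
    exact this

end Eval

section Sheaf

variable (J : GrothendieckTopology C) {U : C}

/-- separatedness of the presheaf of natural families -/
theorem fam_ext (h𝒮 : Stk.IsPrestack J 𝒮) (R : Sieve U) (hR : R ∈ J U)
    (a a' : ∀ (y : 𝒮.obj) (_ : 𝒮.p.obj y ⟶ U), y ⟶ y)
    (ha : ∀ (y : 𝒮.obj) (f : 𝒮.p.obj y ⟶ U), 𝒮.p.IsHomLift (𝟙 (𝒮.p.obj y)) (a y f))
    (ha' : ∀ (y : 𝒮.obj) (f : 𝒮.p.obj y ⟶ U), 𝒮.p.IsHomLift (𝟙 (𝒮.p.obj y)) (a' y f))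
    (hnat : ∀ {y' y : 𝒮.obj} (φ : y' ⟶ y) (f : 𝒮.p.obj y ⟶ U),
      a y' (𝒮.p.map φ ≫ f) ≫ φ = φ ≫ a y f)
    (hnat' : ∀ {y' y : 𝒮.obj} (φ : y' ⟶ y) (f : 𝒮.p.obj y ⟶ U),
      a' y' (𝒮.p.map φ ≫ f) ≫ φ = φ ≫ a' y f)
    (h : ∀ {V : C} (g : V ⟶ U), R g → ∀ (y : 𝒮.obj) (k : 𝒮.p.obj y ⟶ V),
      a y (k ≫ g) = a' y (k ≫ g))
    (y : 𝒮.obj) (f : 𝒮.p.obj y ⟶ U) : a y f = a' y f := by
  haveI := ha y f
  haveI := ha' y f
  apply aut_ext J h𝒮 (R.pullback f) (J.pullback_stable f hR)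
  intro z l hl
  rw [← hnat l f, ← hnat' l f]
  have := h (𝒮.p.map l ≫ f) hl z (𝟙 _)
  rw [Category.id_comp] at this
  rw [this]

/-- gluing of natural families along a covering sieve -/
theorem exists_glue_fam (h𝒮 : Stk.IsStack J 𝒮) (R : Sieve U) (hR : R ∈ J U)
    (s : ∀ {V : C} (g : V ⟶ U), R g → ∀ (y : 𝒮.obj) (_ : 𝒮.p.obj y ⟶ V), y ⟶ y)
    (hs : ∀ {V : C} (g : V ⟶ U) (hg : R g) (y : 𝒮.obj) (k : 𝒮.p.obj y ⟶ V),
      𝒮.p.IsHomLift (𝟙 (𝒮.p.obj y)) (s g hg y k))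
    (hsnat : ∀ {V : C} (g : V ⟶ U) (hg : R g) {y' y : 𝒮.obj} (φ : y' ⟶ y) (k : 𝒮.p.obj y ⟶ V),
      s g hg y' (𝒮.p.map φ ≫ k) ≫ φ = φ ≫ s g hg y k)
    (hscompat : ∀ {V W : C} (g : V ⟶ U) (hg : R g) (h : W ⟶ V) (y : 𝒮.obj) (k : 𝒮.p.obj y ⟶ W),
      s (h ≫ g) (R.downward_closed hg h) y k = s g hg y (k ≫ h)) :
    ∃ a : ∀ (y : 𝒮.obj) (_ : 𝒮.p.obj y ⟶ U), y ⟶ y,
      (∀ (y : 𝒮.obj) (f : 𝒮.p.obj y ⟶ U), 𝒮.p.IsHomLift (𝟙 (𝒮.p.obj y)) (a y f)) ∧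
      (∀ {y' y : 𝒮.obj} (φ : y' ⟶ y) (f : 𝒮.p.obj y ⟶ U),
        a y' (𝒮.p.map φ ≫ f) ≫ φ = φ ≫ a y f) ∧
      ∀ {V : C} (g : V ⟶ U) (hg : R g) (y : 𝒮.obj) (k : 𝒮.p.obj y ⟶ V),
        a y (k ≫ g) = s g hg y k := by
  have s_congr : ∀ {V : C} (g g' : V ⟶ U) (hg : R g) (hg' : R g') (_ : g = g') (y : 𝒮.obj)
      (k : 𝒮.p.obj y ⟶ V), s g hg y k = s g' hg' y k := by
    intro V g g' hg hg' e y k
    subst e
    rfl
  have key : ∀ (y : 𝒮.obj) (f : 𝒮.p.obj y ⟶ U), ∃ A : y ⟶ y, 𝒮.p.IsHomLift (𝟙 (𝒮.p.obj y)) A ∧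
      ∀ (z : 𝒮.obj) (l : z ⟶ y) (hl : R (𝒮.p.map l ≫ f)),
        l ≫ A = s (𝒮.p.map l ≫ f) hl z (𝟙 _) ≫ l := by
    intro y f
    refine glue_aut J h𝒮 y (R.pullback f) (J.pullback_stable f hR)
      (fun z l hl => s (𝒮.p.map l ≫ f) hl z (𝟙 _)) (fun z l hl => hs _ _ _ _) ?_
    intro z l hl z' μ hl'
    have e1 := hsnat (𝒮.p.map l ≫ f) hl μ (𝟙 _)
    have e2 := hscompat (𝒮.p.map l ≫ f) hl (𝒮.p.map μ) z' (𝟙 _)
    rw [Category.comp_id] at e1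
    rw [Category.id_comp] at e2
    rw [← e1, ← e2]
    congr 1
    apply s_congr
    rw [Functor.map_comp, Category.assoc]
  choose a ha hspec using key
  refine ⟨a, ha, ?_, ?_⟩
  · intro y' y φ f
    haveI := ha y' (𝒮.p.map φ ≫ f)
    haveI := ha y f
    apply hom_ext_over J (isPrestack_of_isStack J h𝒮) (R.pullback (𝒮.p.map φ ≫ f))
      (J.pullback_stable (𝒮.p.map φ ≫ f) hR)
    · rw [Functor.map_comp, Functor.map_comp, map_eq_id_of_isHomLift, map_eq_id_of_isHomLift,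
        Category.id_comp, Category.comp_id]
    · intro z l hl
      have hl2 : R (𝒮.p.map (l ≫ φ) ≫ f) := by
        rw [Functor.map_comp, Category.assoc]; exact hl
      have e1 := hspec y' (𝒮.p.map φ ≫ f) z l hl
      have e2 := hspec y f z (l ≫ φ) hl2
      calc l ≫ a y' (𝒮.p.map φ ≫ f) ≫ φ = (l ≫ a y' (𝒮.p.map φ ≫ f)) ≫ φ :=
            (Category.assoc _ _ _).symm
        _ = (s (𝒮.p.map l ≫ 𝒮.p.map φ ≫ f) hl z (𝟙 _) ≫ l) ≫ φ := by rw [e1]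
        _ = s (𝒮.p.map l ≫ 𝒮.p.map φ ≫ f) hl z (𝟙 _) ≫ l ≫ φ := Category.assoc _ _ _
        _ = s (𝒮.p.map (l ≫ φ) ≫ f) hl2 z (𝟙 _) ≫ l ≫ φ := by
            congr 1
            apply s_congr
            rw [Functor.map_comp, Category.assoc]
        _ = (l ≫ φ) ≫ a y f := e2.symm
        _ = l ≫ φ ≫ a y f := Category.assoc _ _ _
  · intro V g hg y k
    have hl : R (𝒮.p.map (𝟙 y) ≫ k ≫ g) := by
      rw [CategoryTheory.Functor.map_id, Category.id_comp]; exact R.downward_closed hg k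
    have e1 := hspec y (k ≫ g) y (𝟙 y) hl
    rw [Category.id_comp, Category.comp_id] at e1
    rw [e1, s_congr _ (k ≫ g) hl (R.downward_closed hg k)
      (by rw [CategoryTheory.Functor.map_id, Category.id_comp]), hscompat g hg k y (𝟙 _)]
    congr 1
    exact Category.id_comp k

end Sheaf

section Band

omit [FibCat.IsFibGrpd 𝒮.p]

variable (𝒮)

/-- index type for natural families over `U` -/
abbrev Idx (U : C) : Type (max u₂ v) := Σ x : 𝒮.obj, (𝒮.p.obj x ⟶ U)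

variable {𝒮}

/-- the underlying morphism of a component of a family -/
def ev {U : C} (a : ∀ i : Idx 𝒮 U, Gerb.AutO i.1) (x : 𝒮.obj) (f : 𝒮.p.obj x ⟶ U) : x ⟶ x :=
  (a ⟨x, f⟩).hom.1

instance ev_isHomLift {U : C} (a : ∀ i : Idx 𝒮 U, Gerb.AutO i.1) (x : 𝒮.obj) (f : 𝒮.p.obj x ⟶ U) :
    𝒮.p.IsHomLift (𝟙 (𝒮.p.obj x)) (ev a x f) := (a ⟨x, f⟩).hom.2

theorem ev_mul {U : C} (a b : ∀ i : Idx 𝒮 U, Gerb.AutO i.1) (x : 𝒮.obj) (f : 𝒮.p.obj x ⟶ U) :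
    ev (a * b) x f = ev b x f ≫ ev a x f := rfl

theorem ev_one {U : C} (x : 𝒮.obj) (f : 𝒮.p.obj x ⟶ U) :
    ev (1 : ∀ i : Idx 𝒮 U, Gerb.AutO i.1) x f = 𝟙 x := rfl

theorem ev_inv_comp {U : C} (a : ∀ i : Idx 𝒮 U, Gerb.AutO i.1) (x : 𝒮.obj) (f : 𝒮.p.obj x ⟶ U) :
    ev a⁻¹ x f ≫ ev a x f = 𝟙 x :=
  congrArg Subtype.val (a ⟨x, f⟩).inv_hom_id

theorem ev_comp_inv {U : C} (a : ∀ i : Idx 𝒮 U, Gerb.AutO i.1) (x : 𝒮.obj) (f : 𝒮.p.obj x ⟶ U) :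
    ev a x f ≫ ev a⁻¹ x f = 𝟙 x :=
  congrArg Subtype.val (a ⟨x, f⟩).hom_inv_id

theorem fam_ext' {U : C} (a b : ∀ i : Idx 𝒮 U, Gerb.AutO i.1)
    (h : ∀ (x : 𝒮.obj) (f : 𝒮.p.obj x ⟶ U), ev a x f = ev b x f) : a = b := by
  funext ⟨x, f⟩
  apply Aut.ext
  apply Functor.Fiber.hom_ext
  exact h x f

variable (𝒮)

/-- The group of natural families of automorphisms over identities of the objects of `𝒮` over `U`. -/
def centSub (U : C) : Subgroup (∀ i : Idx 𝒮 U, Gerb.AutO i.1) where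
  carrier := {a | ∀ {x' x : 𝒮.obj} (φ : x' ⟶ x) (f : 𝒮.p.obj x ⟶ U),
    ev a x' (𝒮.p.map φ ≫ f) ≫ φ = φ ≫ ev a x f}
  mul_mem' := by
    intro a b ha hb x' x φ f
    rw [ev_mul, ev_mul, Category.assoc, ha φ f, ← Category.assoc, hb φ f, Category.assoc]
  one_mem' := by
    intro x' x φ f
    rw [ev_one, ev_one, Category.id_comp, Category.comp_id]
  inv_mem' := by
    intro a ha x' x φ f
    have h := ha φ f
    calc ev a⁻¹ x' (𝒮.p.map φ ≫ f) ≫ φ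
        = ev a⁻¹ x' (𝒮.p.map φ ≫ f) ≫ φ ≫ (ev a x f ≫ ev a⁻¹ x f) := by
          rw [ev_comp_inv, Category.comp_id]
      _ = ev a⁻¹ x' (𝒮.p.map φ ≫ f) ≫ (ev a x' (𝒮.p.map φ ≫ f) ≫ φ) ≫ ev a⁻¹ x f := by
          rw [h]; simp only [Category.assoc]
      _ = φ ≫ ev a⁻¹ x f := by
          rw [← Category.assoc, ← Category.assoc, ev_inv_comp, Category.id_comp]

variable {𝒮}

theorem mem_centSub {U : C} (a : ∀ i : Idx 𝒮 U, Gerb.AutO i.1) :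
    a ∈ centSub 𝒮 U ↔ ∀ {x' x : 𝒮.obj} (φ : x' ⟶ x) (f : 𝒮.p.obj x ⟶ U),
      ev a x' (𝒮.p.map φ ≫ f) ≫ φ = φ ≫ ev a x f := Iff.rfl

/-- restriction of natural families -/
def resHom {U V : C} (g : V ⟶ U) : centSub 𝒮 U →* centSub 𝒮 V where
  toFun a := ⟨fun i => a.1 ⟨i.1, i.2 ≫ g⟩, by
    intro x' x φ f
    have := a.2 φ (f ≫ g)
    rw [← Category.assoc] at this
    exact this⟩
  map_one' := rfl
  map_mul' _ _ := rfl

theorem ev_resHom {U V : C} (g : V ⟶ U) (a : centSub 𝒮 U) (x : 𝒮.obj) (k : 𝒮.p.obj x ⟶ V) :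
    ev (resHom g a).1 x k = ev a.1 x (k ≫ g) := rfl

variable (𝒮)

/-- The presheaf of groups of natural families of automorphisms. -/
def bandPsh : Cᵒᵖ ⥤ GrpCat.{max u₂ v v₂} where
  obj U := GrpCat.of (centSub 𝒮 U.unop)
  map g := GrpCat.ofHom (resHom g.unop)
  map_id U := by
    apply GrpCat.hom_ext
    apply MonoidHom.ext
    intro a
    apply Subtype.ext
    apply fam_ext'
    intro x f
    change ev a.1 x (f ≫ 𝟙 _) = ev a.1 x f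
    rw [Category.comp_id]
  map_comp {U V W} g h := by
    apply GrpCat.hom_ext
    apply MonoidHom.ext
    intro a
    apply Subtype.ext
    apply fam_ext'
    intro x f
    change ev a.1 x (f ≫ h.unop ≫ g.unop) = ev a.1 x ((f ≫ h.unop) ≫ g.unop)
    rw [Category.assoc]

/-- evaluation of a natural family at an object -/
def evHom (x : 𝒮.obj) : centSub 𝒮 (𝒮.p.obj x) →* Gerb.AutO x where
  toFun a := a.1 ⟨x, 𝟙 _⟩
  map_one' := rfl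
  map_mul' _ _ := rfl

end Band

section BandMain

variable (J : GrothendieckTopology C)

/-- a natural family of morphisms as an element of `centSub` -/
noncomputable def mkFam {U : C} (a : ∀ (y : 𝒮.obj) (_ : 𝒮.p.obj y ⟶ U), y ⟶ y)
    (ha : ∀ (y : 𝒮.obj) (f : 𝒮.p.obj y ⟶ U), 𝒮.p.IsHomLift (𝟙 (𝒮.p.obj y)) (a y f))
    (hnat : ∀ {y' y : 𝒮.obj} (φ : y' ⟶ y) (f : 𝒮.p.obj y ⟶ U),
      a y' (𝒮.p.map φ ≫ f) ≫ φ = φ ≫ a y f) : centSub 𝒮 U :=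
  ⟨fun i => mkAutO (a i.1 i.2) (ha i.1 i.2), fun φ f => hnat φ f⟩

theorem ev_mkFam {U : C} (a : ∀ (y : 𝒮.obj) (_ : 𝒮.p.obj y ⟶ U), y ⟶ y)
    (ha : ∀ (y : 𝒮.obj) (f : 𝒮.p.obj y ⟶ U), 𝒮.p.IsHomLift (𝟙 (𝒮.p.obj y)) (a y f))
    (hnat : ∀ {y' y : 𝒮.obj} (φ : y' ⟶ y) (f : 𝒮.p.obj y ⟶ U),
      a y' (𝒮.p.map φ ≫ f) ≫ φ = φ ≫ a y f) (y : 𝒮.obj) (f : 𝒮.p.obj y ⟶ U) :
    ev (mkFam a ha hnat).1 y f = a y f := rfl

theorem comm_of_autO (hcomm : ∀ (x : 𝒮.obj) (α β : Gerb.AutO x), α * β = β * α) (w : 𝒮.obj)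
    (β γ : w ⟶ w) (hβ : 𝒮.p.IsHomLift (𝟙 (𝒮.p.obj w)) β) (hγ : 𝒮.p.IsHomLift (𝟙 (𝒮.p.obj w)) γ) :
    β ≫ γ = γ ≫ β :=
  congrArg (fun a : Gerb.AutO w => a.hom.1) (hcomm w (mkAutO γ hγ) (mkAutO β hβ))

theorem evHom_bijective (h𝒮 : Gerb.IsGerbe J 𝒮)
    (hcomm : ∀ (x : 𝒮.obj) (α β : Gerb.AutO x), α * β = β * α) (x : 𝒮.obj) :
    Function.Bijective (evHom 𝒮 x) := by
  constructor
  · rw [injective_iff_map_eq_one]
    intro a ha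
    apply Subtype.ext
    apply fam_ext'
    intro y f
    have h1 : ev a.1 x (𝟙 _) = 𝟙 x := congrArg (fun b : Gerb.AutO x => b.hom.1) ha
    exact fam_eq_id J (isPrestack_of_isStack J h𝒮.1) h𝒮.2.2 x (fun y f => ev a.1 y f)
      (fun y f => inferInstance) (fun φ f => a.2 φ f) h1 y f
  · intro α
    haveI : 𝒮.p.IsHomLift (𝟙 (𝒮.p.obj x)) α.hom.1 := α.hom.2
    obtain ⟨a, ha, hnat, hα⟩ := exists_fam J h𝒮.1 h𝒮.2.2 (comm_of_autO hcomm) x α.hom.1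
    refine ⟨mkFam a ha hnat, ?_⟩
    apply Aut.ext
    apply Functor.Fiber.hom_ext
    exact hα

end BandMain

section SheafMain

variable (J : GrothendieckTopology C) {𝒯 : BasedCategory.{v, max u v} C} [FibCat.IsFibGrpd 𝒯.p]

theorem isSheaf_bandPsh (h𝒯 : Stk.IsStack J 𝒯) : Presheaf.IsSheaf J (bandPsh 𝒯) := by
  rw [Presheaf.isSheaf_iff_isSheaf_forget J (bandPsh 𝒯) (forget GrpCat), isSheaf_iff_isSheaf_of_type]
  intro U R hR x hx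
  have hxc := (Presieve.compatible_iff_sieveCompatible x).1 hx
  let xx : ∀ {V : C} (g : V ⟶ U), R g → centSub 𝒯 V := fun g hg => x g hg
  obtain ⟨a, ha, hnat, hres⟩ := exists_glue_fam J h𝒯 R hR
    (fun g hg y k => ev (xx g hg).1 y k) (fun g hg y k => inferInstance)
    (fun g hg => fun {y' y} φ k => (xx g hg).2 φ k)
    (by
      intro V W g hg h y k
      have := hxc g h hg
      have e : xx (h ≫ g) (R.downward_closed hg h) = resHom h (xx g hg) := this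
      rw [e]
      rfl)
  refine ⟨mkFam a ha hnat, ?_, ?_⟩
  · intro V g hg
    change resHom g (mkFam a ha hnat) = xx g hg
    apply Subtype.ext
    apply fam_ext'
    intro y k
    exact hres g hg y k
  · intro t ht
    have ht' : ∀ {V : C} (g : V ⟶ U) (hg : R g), resHom g (t : centSub 𝒯 U) = xx g hg :=
      fun g hg => ht g hg
    apply Subtype.ext
    apply fam_ext'
    intro y f
    refine fam_ext J (isPrestack_of_isStack J h𝒯) R hR (fun y f => ev (t : centSub 𝒯 U).1 y f)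
      (fun y f => ev (mkFam a ha hnat).1 y f) (fun y f => inferInstance) (fun y f => inferInstance)
      (fun φ f => (t : centSub 𝒯 U).2 φ f) (fun φ f => (mkFam a ha hnat).2 φ f) ?_ y f
    intro V g hg y k
    have e1 : ev (t : centSub 𝒯 U).1 y (k ≫ g) = ev (xx g hg).1 y k := by
      rw [← ht' g hg]; rfl
    rw [e1]
    exact (hres g hg y k).symm

/-- A gerbe with commutative automorphism groups is banded by a sheaf of commutative groups. -/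
theorem exists_sheaf_banding (𝒮' : BasedCategory.{v, max u v} C) (h𝒮 : Gerb.IsGerbe J 𝒮')
    (hcomm : ∀ (x : 𝒮'.obj) (α β : Gerb.AutO x), α * β = β * α) :
    ∃ G : Sheaf J GrpCat.{max u v}, (∀ (U : C) (a b : G.obj.obj (Opposite.op U)), a * b = b * a) ∧
      Nonempty (Gerb.Banding 𝒮' G.obj) := by
  haveI := h𝒮.1.1
  refine ⟨⟨bandPsh 𝒮', isSheaf_bandPsh J h𝒮.1⟩, ?_, ⟨?_⟩⟩
  · intro U a b
    apply Subtype.ext
    funext i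
    exact hcomm i.1 _ _
  · exact
      { iso := fun x => MulEquiv.ofBijective (evHom 𝒮' x) (evHom_bijective J h𝒮 hcomm x)
        natural := by
          intro x' x φ a
          have := (a : centSub 𝒮' (𝒮'.p.obj x)).2 φ (𝟙 _)
          rw [Category.comp_id] at this
          change ev (a : centSub 𝒮' (𝒮'.p.obj x)).1 x' (𝟙 _ ≫ 𝒮'.p.map φ) ≫ φ =
            φ ≫ ev (a : centSub 𝒮' (𝒮'.p.obj x)).1 x (𝟙 _)
          rw [Category.id_comp]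
          exact this }

end SheafMain

end Groth.Agent.Lib.H43GerbBand
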