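import Groth.Prelude.Def_StGerb
import Groth.Agent.Lib.FibGrpd
import Groth.Agent.Lib.FpEquiv

/-!
# Gerbes and equivalences over the base (helper43)

* `isGerbeOver_comp_of_isEquivOver_left` : if `L` is an equivalence over `C` and `K` is a gerbe morphism then so is
  `L ⋙ K`.
* `isGerbeOver_of_eq` : transport along an equality of underlying functors.
-/

set_option autoImplicit false
set_option linter.style.haveILetI false
set_option backward.isDefEq.respectTransparency false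
set_option backward.isDefEq.respectTransparency.types false

namespace Groth.Agent.Lib.H43GerbEquiv

open CategoryTheory Functor Groth.Agent.Lib.FibGrpd Groth.Agent.Lib.FpEquiv

universe v₅ u₅ v₄ u₄ v₃ u₃ v₂ u₂ v u

variable {C : Type u} [Category.{v} C] (J : GrothendieckTopology C)
  {𝒳 : BasedCategory.{v₂, u₂} C} {𝒵 : BasedCategory.{v₃, u₃} C} {𝒴 : BasedCategory.{v₄, u₄} C}

theorem locSurjObj_comp_of_isEquivOver_left (L : 𝒳 ⥤ᵇ 𝒵) (hL : FibCat.IsEquivOver L) (K : 𝒵 ⥤ᵇ 𝒴)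
    (hK : Gerb.LocSurjObj J K) : Gerb.LocSurjObj J (BasedFunctor.comp L K) := by
  obtain ⟨_, _, hess⟩ := ff_ess_of_isEquivOver L hL
  intro y
  obtain ⟨R, hR, hl⟩ := hK y
  refine ⟨R, hR, fun V h hh => ?_⟩
  obtain ⟨z, a, ha⟩ := hl h hh
  obtain ⟨x, ι, hι⟩ := hess z
  have hz : 𝒵.p.obj z = V := by
    rw [← K.w_obj z]; exact IsHomLift.domain_eq 𝒴.p h a
  rw [hz] at hι
  refine ⟨x, K.map ι.hom ≫ a, ?_⟩
  haveI : 𝒴.p.IsHomLift (𝟙 V) (K.map ι.hom) := inferInstance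
  have : 𝒴.p.IsHomLift (𝟙 V ≫ h) (K.map ι.hom ≫ a) := inferInstance
  simpa using this

theorem locSurjHom_comp_of_isEquivOver_left (L : 𝒳 ⥤ᵇ 𝒵) (hL : FibCat.IsEquivOver L) (K : 𝒵 ⥤ᵇ 𝒴)
    (hK : Gerb.LocSurjHom J K) : Gerb.LocSurjHom J (BasedFunctor.comp L K) := by
  obtain ⟨hfull, hfaith, hess⟩ := ff_ess_of_isEquivOver L hL
  intro x x' b hb
  have hb' : 𝒴.p.IsHomLift (𝟙 (𝒵.p.obj (L.obj x))) b := by
    rw [L.w_obj x]; exact hb
  obtain ⟨R, hR, hl⟩ := hK (L.obj x) (L.obj x') b hb'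
  have hU : 𝒵.p.obj (L.obj x) = 𝒳.p.obj x := L.w_obj x
  have key : ∀ (U' : C) (hU' : U' = 𝒳.p.obj x) (R' : Sieve U'), R' ∈ J U' →
      (∀ ⦃V : C⦄ (h : V ⟶ U'), R' h → ∃ (z₀ : 𝒵.obj) (φ : z₀ ⟶ L.obj x) (ψ : z₀ ⟶ L.obj x'),
        𝒵.p.IsHomLift h φ ∧ 𝒵.p.IsHomLift h ψ ∧ K.map φ ≫ b = K.map ψ) →
      ∃ R ∈ J (𝒳.p.obj x), ∀ ⦃V : C⦄ (f : V ⟶ 𝒳.p.obj x), R f →
        ∃ (x₀ : 𝒳.obj) (φ : x₀ ⟶ x) (ψ : x₀ ⟶ x'),
          𝒳.p.IsHomLift f φ ∧ 𝒳.p.IsHomLift f ψ ∧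
            (BasedFunctor.comp L K).map φ ≫ b = (BasedFunctor.comp L K).map ψ := by
    intro U' hU' R' hR' hl'
    subst hU'
    refine ⟨R', hR', fun V h hh => ?_⟩
    obtain ⟨z₀, φ, ψ, hφ, hψ, hcomm⟩ := hl' h hh
    obtain ⟨x₀, ι, hι⟩ := hess z₀
    have hz : 𝒵.p.obj z₀ = V := IsHomLift.domain_eq 𝒵.p h φ
    rw [hz] at hι
    haveI h1 : 𝒵.p.IsHomLift h (ι.hom ≫ φ) := by
      have : 𝒵.p.IsHomLift (𝟙 V ≫ h) (ι.hom ≫ φ) := inferInstance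
      simpa using this
    haveI h2 : 𝒵.p.IsHomLift h (ι.hom ≫ ψ) := by
      have : 𝒵.p.IsHomLift (𝟙 V ≫ h) (ι.hom ≫ ψ) := inferInstance
      simpa using this
    refine ⟨x₀, L.toFunctor.preimage (ι.hom ≫ φ), L.toFunctor.preimage (ι.hom ≫ ψ), ?_, ?_, ?_⟩
    · haveI : 𝒵.p.IsHomLift h (L.map (L.toFunctor.preimage (ι.hom ≫ φ))) := by
        change 𝒵.p.IsHomLift h (L.toFunctor.map (L.toFunctor.preimage (ι.hom ≫ φ)))
        rw [Functor.map_preimage]; exact h1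
      exact BasedFunctor.isHomLift_map L h _
    · haveI : 𝒵.p.IsHomLift h (L.map (L.toFunctor.preimage (ι.hom ≫ ψ))) := by
        change 𝒵.p.IsHomLift h (L.toFunctor.map (L.toFunctor.preimage (ι.hom ≫ ψ)))
        rw [Functor.map_preimage]; exact h2
      exact BasedFunctor.isHomLift_map L h _
    · change K.map (L.toFunctor.map (L.toFunctor.preimage (ι.hom ≫ φ))) ≫ b =
        K.map (L.toFunctor.map (L.toFunctor.preimage (ι.hom ≫ ψ)))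
      rw [Functor.map_preimage, Functor.map_preimage, K.map_comp, K.map_comp, Category.assoc, hcomm]
  exact key _ hU R hR hl

theorem isGerbeOver_comp_of_isEquivOver_left (L : 𝒳 ⥤ᵇ 𝒵) (hL : FibCat.IsEquivOver L) (K : 𝒵 ⥤ᵇ 𝒴)
    (hK : Gerb.IsGerbeOver J K) : Gerb.IsGerbeOver J (BasedFunctor.comp L K) :=
  ⟨locSurjObj_comp_of_isEquivOver_left J L hL K hK.1, locSurjHom_comp_of_isEquivOver_left J L hL K hK.2⟩

theorem isGerbeOver_of_eq {F F' : 𝒳 ⥤ᵇ 𝒴} (h : F = F') (hF : Gerb.IsGerbeOver J F) :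
    Gerb.IsGerbeOver J F' := h ▸ hF

end Groth.Agent.Lib.H43GerbEquiv
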