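import Groth.Agent.S6023
import Groth.Agent.Lib.CechDelta2
import Groth.Agent.Lib.ExtDelta
import Groth.Agent.Lib.DeltaIso

/-!
# Derived functors of sections with support in a closed subset are `Ext` out of `ℤ_X/ℤ_U`

`(gammaZF U).rightDerived q ≅ Ext^q(ℤ_X/ℤ_U, -)` as functors, via universality of both δ-functors
and an explicit natural isomorphism in degree `0` (both functors are subfunctors of global sections
with the same image: global sections vanishing on `U`).
-/

set_option autoImplicit false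

universe u

open CategoryTheory CategoryTheory.Limits TopologicalSpace Opposite DeltaF Abelian

namespace Groth.Agent.Lib.RHZExt

section Generic

variable {A : Type*} [Category A]

/-- two `Ab`-valued functors embedded naturally in a third one with the same image objectwise are
isomorphic -/
theorem nonempty_iso_of_range_eq (P Q R : A ⥤ AddCommGrpCat.{u})
    (a : ∀ F, P.obj F →+ R.obj F) (b : ∀ F, Q.obj F →+ R.obj F)
    (ha : ∀ F, Function.Injective (a F)) (hb : ∀ F, Function.Injective (b F))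
    (hr : ∀ F, (a F).range = (b F).range)
    (na : ∀ {F G : A} (φ : F ⟶ G) (x : P.obj F), a G (P.map φ x) = R.map φ (a F x))
    (nb : ∀ {F G : A} (φ : F ⟶ G) (x : Q.obj F), b G (Q.map φ x) = R.map φ (b F x)) :
    Nonempty (P ≅ Q) := by
  have key : ∀ F (x : P.obj F), ∃ y : Q.obj F, b F y = a F x := by
    intro F x
    have h : a F x ∈ (b F).range := by
      rw [← hr]
      exact ⟨x, rfl⟩
    exact h
  have key' : ∀ F (y : Q.obj F), ∃ x : P.obj F, a F x = b F y := by
    intro F y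
    have h : b F y ∈ (a F).range := by
      rw [hr]
      exact ⟨y, rfl⟩
    exact h
  choose t ht using key
  choose t' ht' using key'
  let e : ∀ F, P.obj F ≃+ Q.obj F := fun F =>
    { toFun := t F
      invFun := t' F
      left_inv := fun x => ha F (by rw [ht', ht])
      right_inv := fun y => hb F (by rw [ht, ht'])
      map_add' := fun x y => hb F (by rw [map_add, ht, ht, ht, map_add]) }
  refine ⟨NatIso.ofComponents (fun F => (e F).toAddCommGrpIso) ?_⟩
  intro F G φ
  ext x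
  apply hb G
  change b G (t G (P.map φ x)) = b G (Q.map φ (t F x))
  rw [ht, nb, ht, na]

/-- `Ext^•(X, -)` is effaceable when there are enough injectives -/
theorem extDelta_isEffaceable {A : Type*} [Category A] [Abelian A] [HasExt.{u} A]
    [EnoughInjectives A] (X : A) : (Groth.Agent.Lib.ExtDelta.extDelta.{u} X).IsEffaceable := by
  intro n M
  refine ⟨Injective.under M, Injective.ι M, inferInstance, ?_⟩
  have hz : IsZero (((Groth.Agent.Lib.ExtDelta.extDelta.{u} X).F (n + 1)).obj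
      (Injective.under M)) := by
    have : Subsingleton (Ext.{u} X (Injective.under M) (n + 1)) :=
      ⟨fun x y => (Ext.eq_zero_of_injective x).trans (Ext.eq_zero_of_injective y).symm⟩
    exact AddCommGrpCat.isZero_of_subsingleton
      (AddCommGrpCat.of (Ext.{u} X (Injective.under M) (n + 1)))
  exact hz.eq_of_tgt _ _

end Generic

variable {X : TopCat.{u}}

open Groth.Agent.S19245 (η FG FG_le unit_zero_iff injective_of_mono res_res)
open Groth.Agent.S6023 (ιZ map_ιZ_apply ιZ_restrict_eq_zero exists_of_restrict_eq_zero)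

local notation "JX" => Opens.grothendieckTopology X

/-- the global sections functor -/
noncomputable abbrev Γtop (X : TopCat.{u}) : CohTop.Ab X ⥤ AddCommGrpCat.{u} :=
  sheafToPresheaf (Opens.grothendieckTopology X) AddCommGrpCat.{u} ⋙
    (evaluation (Opens X)ᵒᵖ AddCommGrpCat.{u}).obj (op ⊤)

lemma le_FG_top (U : Opens X) : U ≤ FG U ⊤ := by
  intro x hx
  exact ⟨⟨x, hx⟩, trivial, rfl⟩

lemma FG_top_le (U : Opens X) : FG U ⊤ ≤ U := by
  rintro x ⟨y, -, rfl⟩
  exact y.2

/-! ### the `Γ_Z` side -/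

/-- inclusion of global sections with support into global sections -/
noncomputable def bHom (U : Opens X) (F : CohTop.Ab X) :
    ((LocCohZ.gammaZF U).obj F : AddCommGrpCat.{u}) →+ ((Γtop X).obj F : AddCommGrpCat.{u}) :=
  ((ιZ U F).hom.app (op ⊤)).hom

lemma bHom_injective (U : Opens X) (F : CohTop.Ab X) : Function.Injective (bHom U F) :=
  injective_of_mono (ιZ U F) ⊤

lemma bHom_range (U : Opens X) (F : CohTop.Ab X) :
    (bHom U F).range = LocCohZ.sectZ F (le_top : U ≤ ⊤) := by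
  ext s
  constructor
  · rintro ⟨t, rfl⟩
    rw [AddMonoidHom.mem_ker]
    have h := ιZ_restrict_eq_zero U F ⊤ t
    have h2 := congrArg (fun z => F.obj.map (homOfLE (le_FG_top U)).op z) h
    simp only [map_zero] at h2
    rw [res_res] at h2
    exact h2
  · intro hs
    rw [AddMonoidHom.mem_ker] at hs
    have h2 : F.obj.map (homOfLE (FG_le U ⊤)).op s = 0 := by
      have h3 := congrArg (fun z => F.obj.map (homOfLE (FG_top_le U)).op z) hs
      simp only [map_zero] at h3
      change F.obj.map (homOfLE (FG_top_le U)).op (F.obj.map (homOfLE (le_top : U ≤ ⊤)).op s) = 0 at h3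
      rw [res_res] at h3
      exact h3
    obtain ⟨t, ht⟩ := exists_of_restrict_eq_zero U F ⊤ s h2
    exact ⟨t, ht⟩

lemma bHom_natural (U : Opens X) {F G : CohTop.Ab X} (φ : F ⟶ G)
    (t : ((LocCohZ.gammaZF U).obj F : AddCommGrpCat.{u})) :
    bHom U G ((LocCohZ.gammaZF U).map φ t) = (Γtop X).map φ (bHom U F t) :=
  map_ιZ_apply U φ ⊤ t

/-! ### the `Ext` side -/

/-- the sheaf `ℤ_X/ℤ_U` -/
noncomputable abbrev Qz (U : Opens X) : CohTop.Ab X := ToposFin.quotZ (LocCohZ.openSh U)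

/-- the canonical map `ℤ_X ⟶ ℤ_X/ℤ_U` -/
noncomputable def pQ (U : Opens X) : CohCx.freeSheaf JX (⊤ : Opens X) ⟶ Qz U :=
  cokernel.π (CohCx.freeSheafMap JX (homOfLE (le_top : U ≤ ⊤))) ≫ (LocCohZ.zqIsoQuotZ U).hom

instance (U : Opens X) : Epi (pQ U) := by
  unfold pQ
  infer_instance

lemma freeSheafMap_pQ (U : Opens X) :
    CohCx.freeSheafMap JX (homOfLE (le_top : U ≤ ⊤)) ≫ pQ U = 0 := by
  unfold pQ
  rw [cokernel.condition_assoc, zero_comp]

lemma exists_factor (U : Opens X) {F : CohTop.Ab X} (ψ : CohCx.freeSheaf JX (⊤ : Opens X) ⟶ F)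
    (h : CohCx.freeSheafMap JX (homOfLE (le_top : U ≤ ⊤)) ≫ ψ = 0) :
    ∃ g : Qz U ⟶ F, pQ U ≫ g = ψ := by
  refine ⟨(LocCohZ.zqIsoQuotZ U).inv ≫ cokernel.desc _ ψ h, ?_⟩
  unfold pQ
  rw [Category.assoc, Iso.hom_inv_id_assoc, cokernel.π_desc]

/-- evaluation of a map `ℤ_X/ℤ_U ⟶ F` on the canonical global section -/
noncomputable def aHom' (U : Opens X) (F : CohTop.Ab X) :
    (Qz U ⟶ F) →+ ((Γtop X).obj F : AddCommGrpCat.{u}) :=
  (CohFree.evalGen JX (⊤ : Opens X) F).comp (Preadditive.leftComp F (pQ U))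

lemma aHom'_apply (U : Opens X) (F : CohTop.Ab X) (g : Qz U ⟶ F) :
    aHom' U F g = CohFree.evalGen JX (⊤ : Opens X) F (pQ U ≫ g) := rfl

lemma aHom'_injective (U : Opens X) (F : CohTop.Ab X) : Function.Injective (aHom' U F) := by
  intro g g' h
  rw [aHom'_apply, aHom'_apply] at h
  have h2 : pQ U ≫ g = pQ U ≫ g' := (CohFree.homEquivSect JX (⊤ : Opens X) F).injective h
  exact (cancel_epi (pQ U)).1 h2

lemma aHom'_range (U : Opens X) (F : CohTop.Ab X) :
    (aHom' U F).range = LocCohZ.sectZ F (le_top : U ≤ ⊤) := by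
  ext s
  constructor
  · rintro ⟨g, rfl⟩
    rw [AddMonoidHom.mem_ker, aHom'_apply]
    refine (CohFree.evalGen_freeSheafMap_comp JX (homOfLE (le_top : U ≤ ⊤)) F (pQ U ≫ g)).symm.trans ?_
    rw [← Category.assoc, freeSheafMap_pQ, zero_comp, map_zero]
  · intro hs
    rw [AddMonoidHom.mem_ker] at hs
    have h0 : CohCx.freeSheafMap JX (homOfLE (le_top : U ≤ ⊤)) ≫
        CohFree.ofSect JX (⊤ : Opens X) F s = 0 := by
      apply (CohFree.homEquivSect JX U F).injective
      rw [map_zero, CohFree.homEquivSect_apply, CohFree.evalGen_freeSheafMap_comp,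
        CohFree.evalGen_ofSect]
      exact hs
    obtain ⟨g, hg⟩ := exists_factor U _ h0
    refine ⟨g, ?_⟩
    rw [aHom'_apply, hg, CohFree.evalGen_ofSect]

lemma aHom'_natural (U : Opens X) {F G : CohTop.Ab X} (φ : F ⟶ G) (g : Qz U ⟶ F) :
    aHom' U G (g ≫ φ) = (Γtop X).map φ (aHom' U F g) := by
  rw [aHom'_apply, aHom'_apply, ← Category.assoc]
  rfl

/-- the same on `Ext^0` -/
noncomputable def aHom (U : Opens X) (F : CohTop.Ab X) :
    ((Groth.Agent.Lib.ExtDelta.hF (Qz U) 0).obj F : AddCommGrpCat.{u}) →+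
      ((Γtop X).obj F : AddCommGrpCat.{u}) :=
  (aHom' U F).comp (Ext.addEquiv₀ (X := Qz U) (Y := F)).toAddMonoidHom

lemma aHom_mk₀ (U : Opens X) (F : CohTop.Ab X) (g : Qz U ⟶ F) :
    aHom U F (Ext.mk₀ g) = aHom' U F g := by
  change aHom' U F (Ext.addEquiv₀ (Ext.mk₀ g)) = _
  rw [← Ext.addEquiv₀_symm_apply, AddEquiv.apply_symm_apply]

lemma aHom_injective (U : Opens X) (F : CohTop.Ab X) : Function.Injective (aHom U F) :=
  (aHom'_injective U F).comp Ext.addEquiv₀.injective

lemma aHom_range (U : Opens X) (F : CohTop.Ab X) :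
    (aHom U F).range = LocCohZ.sectZ F (le_top : U ≤ ⊤) := by
  rw [← aHom'_range]
  ext s
  constructor
  · rintro ⟨x, rfl⟩
    exact ⟨_, rfl⟩
  · rintro ⟨g, rfl⟩
    exact ⟨Ext.mk₀ g, aHom_mk₀ U F g⟩

lemma aHom_natural (U : Opens X) {F G : CohTop.Ab X} (φ : F ⟶ G)
    (x : ((Groth.Agent.Lib.ExtDelta.hF (Qz U) 0).obj F : AddCommGrpCat.{u})) :
    aHom U G ((Groth.Agent.Lib.ExtDelta.hF (Qz U) 0).map φ x) = (Γtop X).map φ (aHom U F x) := by
  obtain ⟨g, rfl⟩ : ∃ g : Qz U ⟶ F, Ext.mk₀ g = x := ⟨_, Ext.mk₀_addEquiv₀_apply x⟩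
  rw [aHom_mk₀, ← aHom'_natural, ← aHom_mk₀]
  congr 1
  refine (Groth.Agent.Lib.ExtDelta.hF_map_apply (Qz U) 0 φ (Ext.mk₀ g)).trans ?_
  rw [Ext.mk₀_comp_mk₀]

/-- degree zero -/
theorem nonempty_iso_zero (U : Opens X) :
    Nonempty (LocCohZ.gammaZF U ≅ Groth.Agent.Lib.ExtDelta.hF (Qz U) 0) :=
  nonempty_iso_of_range_eq (LocCohZ.gammaZF U) (Groth.Agent.Lib.ExtDelta.hF (Qz U) 0) (Γtop X)
    (bHom U) (aHom U) (bHom_injective U) (aHom_injective U)
    (fun F => (bHom_range U F).trans (aHom_range U F).symm)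
    (fun φ x => bHom_natural U φ x) (fun φ x => aHom_natural U φ x)

instance preservesFiniteLimits_gammaZF (U : Opens X) :
    PreservesFiniteLimits (LocCohZ.gammaZF U) := by
  have := Groth.Agent.S6023.preservesFiniteLimits_sectSuppF U
  unfold LocCohZ.gammaZF
  infer_instance

/-- **The derived functors of `Γ_Z(X, -)` are `Ext^•(ℤ_X/ℤ_U, -)`.** -/
theorem nonempty_RHZ_iso (U : Opens X) (q : ℕ) :
    Nonempty (LocCohZ.RHZ U q ≅ ToposFin.HZFunctor (LocCohZ.openSh U) q) := by
  have h1 := Groth.Agent.Lib.CechDelta.derived_isUniversal (LocCohZ.gammaZF U)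
  have h2 := DeltaUniv.isUniversal_of_isEffaceable _ (extDelta_isEffaceable.{u} (Qz U))
  obtain ⟨e0⟩ := nonempty_iso_zero U
  exact DeltaIso.nonempty_natIso_of_isUniversal _ _ h1 h2
    ((Functor.rightDerivedZeroIsoSelf (LocCohZ.gammaZF U)) ≪≫ e0) q

end Groth.Agent.Lib.RHZExt
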