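import Groth.Agent.S6525
import Groth.Agent.Lib.H43CechFunctor
import Groth.Agent.Lib.ExtDerived21
import Groth.Agent.Lib.RHZExt
import Mathlib.CategoryTheory.Sites.Abelian
import Mathlib.Algebra.Category.Grp.ForgetCorepresentable

/-!
# `Ȟ^0(K, -) ≅ Hom(ℤ, -)` on abelian sheaves, for a hypercovering `K` of the final object (helper43)

* `σ J A : (Z J ⟶ A) ≃+ limit A.obj` (natural: `σ_natural`), `Z J` the constant sheaf `ℤ`.
* `nonempty_H0_iso J K hK : Nonempty (T K J ⋙ H^0 ≅ preadditiveCoyoneda.obj (op (Z J)))`.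
-/

set_option autoImplicit false

universe u

open CategoryTheory Limits Opposite Simplicial

namespace Groth.Agent.Lib.H43GlobalSect

variable {C : Type u} [SmallCategory C] (J : GrothendieckTopology C)

/-- the integers -/
abbrev M : AddCommGrpCat.{u} := AddCommGrpCat.of (ULift.{u} ℤ)

/-- the constant sheaf `ℤ` -/
noncomputable abbrev Z : Sheaf J AddCommGrpCat.{u} := (constantSheaf J AddCommGrpCat.{u}).obj M

/-- the adjunct of a morphism from the constant sheaf -/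
noncomputable def adjHom (A : Sheaf J AddCommGrpCat.{u}) :
    (Z J ⟶ A) ≃+ ((Functor.const Cᵒᵖ).obj M ⟶ A.obj) :=
  (sheafificationAdjunction J AddCommGrpCat.{u}).homAddEquiv ((Functor.const Cᵒᵖ).obj M) A

lemma adjHom_comp {A B : Sheaf J AddCommGrpCat.{u}} (ψ : A ⟶ B) (φ : Z J ⟶ A) :
    adjHom J B (φ ≫ ψ) = adjHom J A φ ≫ ψ.hom :=
  Adjunction.homEquiv_naturality_right _ _ _

/-- cones with vertex `ℤ` are elements of the limit -/
noncomputable def coneEquiv (P : Cᵒᵖ ⥤ AddCommGrpCat.{u}) :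
    ((Functor.const Cᵒᵖ).obj M ⟶ P) ≃+ ToType (limit P) :=
  ((constLimAdj (J := Cᵒᵖ) (C := AddCommGrpCat.{u})).homAddEquiv M P).trans
      (AddCommGrpCat.uliftZMultiplesAddEquiv (limit P))

lemma π_coneEquiv (P : Cᵒᵖ ⥤ AddCommGrpCat.{u}) (f : (Functor.const Cᵒᵖ).obj M ⟶ P) (U : Cᵒᵖ) :
    limit.π P U (coneEquiv P f) = f.app U (ULift.up 1) := by
  have h : (constLimAdj (J := Cᵒᵖ) (C := AddCommGrpCat.{u})).homEquiv M P f ≫ limit.π P U =
      f.app U := by
    simp [constLimAdj, Adjunction.mk'_homEquiv]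
  exact ConcreteCategory.congr_hom h (ULift.up 1)

/-- morphisms from the constant sheaf `ℤ` are global sections -/
noncomputable def σ (A : Sheaf J AddCommGrpCat.{u}) : (Z J ⟶ A) ≃+ ToType (limit A.obj) :=
  (adjHom J A).trans (coneEquiv A.obj)

lemma π_σ (A : Sheaf J AddCommGrpCat.{u}) (φ : Z J ⟶ A) (U : Cᵒᵖ) :
    limit.π A.obj U (σ J A φ) = (adjHom J A φ).app U (ULift.up 1) :=
  π_coneEquiv A.obj _ U

lemma σ_natural {A B : Sheaf J AddCommGrpCat.{u}} (ψ : A ⟶ B) (φ : Z J ⟶ A) :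
    σ J B (φ ≫ ψ) = (limMap ψ.hom) (σ J A φ) := by
  apply Concrete.limit_ext
  intro U
  rw [π_σ, adjHom_comp]
  have h := ConcreteCategory.congr_hom (limMap_π ψ.hom U) (σ J A φ)
  rw [ConcreteCategory.comp_apply, ConcreteCategory.comp_apply, π_σ] at h
  exact h.symm


section Iso

open Groth.Agent.S6525 Groth.Agent.Lib.H43CechFunctor Groth.Agent.Lib.H43HomDelta
  Groth.Agent.Lib.CechSES

variable (K : SimplicialObject (FormalCoproduct.{u} C))

lemma mm_natural {A B : Sheaf J AddCommGrpCat.{u}} (ψ : A ⟶ B) :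
    limMap ψ.hom ≫ mm J K B = mm J K A ≫ ((T K J).map ψ).f 0 := by
  refine Pi.hom_ext (f := fun i : (K.obj (op ⦋0⦌)).I =>
      B.obj.obj (op ((K.obj (op ⦋0⦌)).obj i))) _ _ ?_
  intro i
  have e1 : mm J K B ≫ Pi.π (fun i : (K.obj (op ⦋0⦌)).I =>
      B.obj.obj (op ((K.obj (op ⦋0⦌)).obj i))) i =
      limit.π B.obj (op ((K.obj (op ⦋0⦌)).obj i)) := Pi.lift_π _ _
  have e2 : mm J K A ≫ Pi.π (fun i : (K.obj (op ⦋0⦌)).I =>
      A.obj.obj (op ((K.obj (op ⦋0⦌)).obj i))) i =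
      limit.π A.obj (op ((K.obj (op ⦋0⦌)).obj i)) := Pi.lift_π _ _
  have e3 : ((T K J).map ψ).f 0 ≫ Pi.π (fun i : (K.obj (op ⦋0⦌)).I =>
      B.obj.obj (op ((K.obj (op ⦋0⦌)).obj i))) i =
      Pi.π (fun i : (K.obj (op ⦋0⦌)).I => A.obj.obj (op ((K.obj (op ⦋0⦌)).obj i))) i ≫
        ψ.hom.app (op ((K.obj (op ⦋0⦌)).obj i)) :=
    (congrArg (fun y => y ≫ Pi.π (fun i : (K.obj (op ⦋0⦌)).I =>
      B.obj.obj (op ((K.obj (op ⦋0⦌)).obj i))) i) (Cf_map_f K ψ.hom 0)).trans (Pi.map_π _ _)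
  refine (Category.assoc _ _ _).trans ?_
  refine (congrArg (fun y => limMap ψ.hom ≫ y) e1).trans ?_
  refine (limMap_π ψ.hom _).trans ?_
  refine Eq.trans ?_ (Category.assoc _ _ _).symm
  refine Eq.trans ?_ (congrArg (fun y => mm J K A ≫ y) e3).symm
  refine Eq.trans ?_ (Category.assoc _ _ _)
  exact (congrArg (fun y => y ≫ ψ.hom.app (op ((K.obj (op ⦋0⦌)).obj i))) e2).symm

/-- the inclusion of `H^0` into the degree-zero term -/
noncomputable def aHom (X : Ch.{u}) : ToType (X.homology 0) →+ ToType (X.X 0) :=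
  (AddMonoidHom.ker (X.d 0 1).hom).subtype.comp (H0equiv X).toAddMonoidHom

lemma aHom_apply (X : Ch.{u}) (x : ToType (X.homology 0)) : aHom X x = (H0equiv X x).1 := rfl

variable [∀ (n : ℕ) (F : (SimplexCategory.Truncated n)ᵒᵖ ⥤ Limits.FormalCoproduct.{u} C),
      (SimplexCategory.Truncated.inclusion n).op.HasRightKanExtension F]

/-- `Ȟ^0(K, -)` on sheaves is `Hom(ℤ, -)` for a hypercovering `K` of the final object -/
theorem nonempty_H0_iso (hK : Hyper.IsHypercoveringSite J K) :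
    Nonempty (T K J ⋙ Hn.{u} 0 ≅ preadditiveCoyoneda.obj (op (Z J))) := by
  obtain ⟨h1, h2, -⟩ := hK
  refine Groth.Agent.Lib.RHZExt.nonempty_iso_of_range_eq (T K J ⋙ Hn.{u} 0)
    (preadditiveCoyoneda.obj (op (Z J))) (T K J ⋙ HomologicalComplex.eval _ _ 0)
    (fun A => aHom ((T K J).obj A))
    (fun A => (mm J K A).hom.comp (σ J A).toAddMonoidHom) ?_ ?_ ?_ ?_ ?_
  · intro A x y hxy
    exact (H0equiv ((T K J).obj A)).injective (Subtype.ext hxy)
  · intro A x y hxy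
    exact (σ J A).injective (mm_injective J K A h1 hxy)
  · intro A
    ext t
    constructor
    · rintro ⟨x, rfl⟩
      have hx : ((T K J).obj A).d 0 1 (H0equiv ((T K J).obj A) x).1 = 0 :=
        (H0equiv ((T K J).obj A) x).2
      obtain ⟨s, hs⟩ := mm_exact J K A h2 h1 _ hx
      exact ⟨(σ J A).symm s, by
        change mm J K A (σ J A ((σ J A).symm s)) = _
        rw [AddEquiv.apply_symm_apply, hs]
        rfl⟩
    · rintro ⟨φ, rfl⟩
      have hd : ((T K J).obj A).d 0 1 (mm J K A (σ J A φ)) = 0 :=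
        ConcreteCategory.congr_hom (mm_d J K A) (σ J A φ)
      exact ⟨(H0equiv ((T K J).obj A)).symm ⟨mm J K A (σ J A φ), hd⟩, by
        change ((H0equiv ((T K J).obj A)) ((H0equiv ((T K J).obj A)).symm _)).1 = _
        rw [AddEquiv.apply_symm_apply]
        rfl⟩
  · intro A B ψ x
    exact H0equiv_naturality ((T K J).map ψ) x
  · intro A B ψ φ
    exact (congrArg (mm J K B) (σ_natural J ψ φ)).trans
      (ConcreteCategory.congr_hom (mm_natural J K ψ) (σ J A φ))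

end Iso

end Groth.Agent.Lib.H43GlobalSect
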