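import Groth.Prelude.Def_KZero
import Mathlib.Algebra.Homology.ShortComplex.ShortExact
import Mathlib.Algebra.Homology.ShortComplex.Abelian
import Mathlib.CategoryTheory.Abelian.Basic

/-!
Basic relations in `KZero.K0sub P` (K₀ of the objects of an abelian category satisfying `P`).
-/

namespace Groth.Agent.Lib.KZeroSub

open CategoryTheory CategoryTheory.Limits ZeroObject

universe v u

variable {A : Type u} [Category.{v} A] [Abelian A] (P : ObjectProperty A)

theorem clSub_of_mem {X : A} (h : P X) :
    KZero.clSub P X = QuotientAddGroup.mk (FreeAbelianGroup.of ⟨X, h⟩) := by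
  unfold KZero.clSub
  rw [dif_pos h]

/-- The defining relation of `K0sub`. -/
theorem clSub_shortExact (S : ShortComplex A) (hS : S.ShortExact) (h₁ : P S.X₁) (h₂ : P S.X₂)
    (h₃ : P S.X₃) : KZero.clSub P S.X₂ = KZero.clSub P S.X₁ + KZero.clSub P S.X₃ := by
  rw [clSub_of_mem P h₁, clSub_of_mem P h₂, clSub_of_mem P h₃]
  have hmem : (FreeAbelianGroup.of ⟨S.X₂, h₂⟩ - FreeAbelianGroup.of ⟨S.X₁, h₁⟩ -
      FreeAbelianGroup.of ⟨S.X₃, h₃⟩ : FreeAbelianGroup (Subtype P)) ∈ KZero.relSub P :=
    AddSubgroup.subset_closure ⟨S, h₁, h₂, h₃, hS, rfl⟩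
  have h0 := (QuotientAddGroup.eq_zero_iff _).mpr hmem
  rw [QuotientAddGroup.mk_sub, QuotientAddGroup.mk_sub, sub_sub, sub_eq_zero] at h0
  exact h0

/-- Isomorphic objects have the same class. -/
theorem clSub_iso {X Y : A} (e : X ≅ Y) (hX : P X) (hY : P Y) (h0 : P (0 : A)) :
    KZero.clSub P X = KZero.clSub P Y := by
  have hz : KZero.clSub P (0 : A) = 0 := by
    let S : ShortComplex A := ShortComplex.mk (0 : (0 : A) ⟶ 0) (0 : (0 : A) ⟶ 0) (by simp)
    have s : S.Splitting :=
      { r := 0
        s := 0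
        f_r := (isZero_zero A).eq_of_src _ _
        s_g := (isZero_zero A).eq_of_src _ _
        id := (isZero_zero A).eq_of_src _ _ }
    have h := clSub_shortExact P S s.shortExact h0 h0 h0
    change KZero.clSub P (0 : A) = KZero.clSub P (0 : A) + KZero.clSub P (0 : A) at h
    have h3 : KZero.clSub P (0 : A) =
        KZero.clSub P (0 : A) + KZero.clSub P (0 : A) - KZero.clSub P (0 : A) := by abel
    rw [← h] at h3
    rw [h3, sub_self]
  let S : ShortComplex A := ShortComplex.mk (0 : (0 : A) ⟶ X) e.hom (by simp)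
  have s : S.Splitting := ShortComplex.Splitting.ofIsZeroOfIsIso S (isZero_zero A)
    (by dsimp [S]; infer_instance)
  have h := clSub_shortExact P S s.shortExact h0 hX hY
  change KZero.clSub P X = KZero.clSub P (0 : A) + KZero.clSub P Y at h
  rw [h, hz, zero_add]

/-- Induction principle for `K0sub`. -/
theorem K0sub_induction {motive : KZero.K0sub P → Prop} (x : KZero.K0sub P)
    (zero : motive 0) (cl : ∀ (X : A), P X → motive (KZero.clSub P X))
    (neg : ∀ y, motive y → motive (-y))
    (add : ∀ y z, motive y → motive z → motive (y + z)) : motive x := by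
  obtain ⟨y, rfl⟩ := QuotientAddGroup.mk_surjective x
  induction y using FreeAbelianGroup.induction_on with
  | zero => exact zero
  | of X =>
    have := cl X.1 X.2
    rwa [clSub_of_mem P X.2] at this
  | neg X h => exact neg _ h
  | add y z hy hz => exact add _ _ hy hz

end Groth.Agent.Lib.KZeroSub
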