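import Groth.Agent.Lib.H43K0ResA
import Groth.Agent.Lib.KZeroSub
import Mathlib.CategoryTheory.ObjectProperty.Kernels
import Mathlib.CategoryTheory.ObjectProperty.ContainsZero

/-!
# `K0sub P` for a class closed under kernels: exact sequences
-/

namespace Groth.Agent.Lib.H43K0SubKer

open CategoryTheory CategoryTheory.Limits ZeroObject Groth.Agent.Lib.H43K0ResA
open Groth.Agent.Lib.KZeroSub

universe v u

set_option linter.style.haveILetI false
set_option linter.unusedSectionVars false

variable {C : Type u} [Category.{v} C] [Abelian C] (P : ObjectProperty C)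
  [P.IsClosedUnderIsomorphisms] [P.ContainsZero]

theorem clSub_zero : KZero.clSub P (0 : C) = 0 := by
  have h0 : P (0 : C) := P.prop_of_isZero (isZero_zero C)
  let S : ShortComplex C := ShortComplex.mk (0 : (0 : C) ⟶ 0) (0 : (0 : C) ⟶ 0) (by simp)
  have s : S.Splitting :=
    { r := 0
      s := 0
      f_r := (isZero_zero C).eq_of_src _ _
      s_g := (isZero_zero C).eq_of_src _ _
      id := (isZero_zero C).eq_of_src _ _ }
  have h := clSub_shortExact P S s.shortExact h0 h0 h0
  change KZero.clSub P (0 : C) = KZero.clSub P (0 : C) + KZero.clSub P (0 : C) at h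
  exact (add_eq_left.mp h.symm)

theorem clSub_iso' {X Y : C} (e : X ≅ Y) (hX : P X) :
    KZero.clSub P X = KZero.clSub P Y :=
  clSub_iso P e hX (P.prop_of_iso e hX) (P.prop_of_isZero (isZero_zero C))

theorem clSub_isZero {Z : C} (hZ : IsZero Z) : KZero.clSub P Z = 0 := by
  rw [clSub_iso' P (hZ.iso (isZero_zero C)) (P.prop_of_isZero hZ), clSub_zero]

variable [P.IsClosedUnderKernels]

/-- For an exact sequence `X₁ → X₂ → X₃` of objects of `P`: `[X₁] = [ker f] + [ker g]`. -/
theorem clSub_exact (S : ShortComplex C) (hS : S.Exact) (h₁ : P S.X₁) (h₂ : P S.X₂) (h₃ : P S.X₃) :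
    KZero.clSub P S.X₁ = KZero.clSub P (kernel S.f) + KZero.clSub P (kernel S.g) := by
  haveI : Epi (kernel.lift S.g S.f S.zero) := (S.exact_iff_epi_kernel_lift).1 hS
  have w : kernel.ι S.f ≫ kernel.lift S.g S.f S.zero = 0 := by
    rw [← cancel_mono (kernel.ι S.g), Category.assoc, kernel.lift_ι, kernel.condition, zero_comp]
  have hse : (ShortComplex.mk _ _ w).ShortExact := by
    refine shortExact_of_lift _ _ w ?_
    intro T x hx
    refine ⟨kernel.lift S.f x ?_, kernel.lift_ι _ _ _⟩
    have := hx =≫ kernel.ι S.g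
    rwa [Category.assoc, kernel.lift_ι, zero_comp] at this
  exact clSub_shortExact P _ hse (P.prop_kernel S.f h₁ h₂) h₁ (P.prop_kernel S.g h₂ h₃)

end Groth.Agent.Lib.H43K0SubKer
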