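import Groth.Agent.Lib.H43K0Tr
import Groth.Agent.Lib.H43K0SubKer
import Mathlib.Algebra.Homology.DerivedCategory.TStructure
import Mathlib.Algebra.Homology.DerivedCategory.SingleTriangle
import Mathlib.Algebra.Homology.DerivedCategory.HomologySequence
import Mathlib.Algebra.Homology.DerivedCategory.FullyFaithful
import Mathlib.Algebra.BigOperators.Finprod
import Mathlib.Algebra.FiniteSupport.Basic
import Mathlib.Algebra.Ring.NegOnePow
import Mathlib.Data.Int.Interval

/-!
# `K₀(P) ≃ K₀(D^b_P(C))` for a thick class `P` of objects of an abelian category `C`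

The inverse is the Euler characteristic of the cohomology objects.
-/

namespace Groth.Agent.Lib.H43K0Db

open CategoryTheory CategoryTheory.Limits CategoryTheory.Pretriangulated DerivedCategory
open Groth.Agent.Lib.H43K0Tr Groth.Agent.Lib.H43K0SubKer Groth.Agent.Lib.KZeroSub

universe w v u

set_option linter.style.haveILetI false
set_option linter.unusedSectionVars false

variable {C : Type u} [Category.{v} C] [Abelian C] [HasDerivedCategory.{w} C]
variable (P : ObjectProperty C)

/-- Bounded objects of the derived category whose cohomology objects are in `P`. -/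
abbrev QD : ObjectProperty (DerivedCategory C) := fun K =>
  (∀ i : ℤ, P ((homologyFunctor C i).obj K)) ∧
    ∃ a b : ℤ, TStructure.t.IsGE K a ∧ TStructure.t.IsLE K b

section finsupp

variable {G : Type*} [AddCommGroup G]

/-- A function on `ℤ` vanishing outside a bounded interval. -/
def Bdd (f : ℤ → G) : Prop := ∃ a b : ℤ, ∀ i, (i < a ∨ b < i) → f i = 0

lemma Bdd.hasFiniteSupport {f : ℤ → G} (h : Bdd f) : f.HasFiniteSupport := by
  obtain ⟨a, b, h⟩ := h
  refine (Set.finite_Icc a b).subset ?_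
  intro i hi
  by_contra hc
  apply hi
  apply h
  simp only [Set.mem_Icc, not_and_or, not_le] at hc
  exact hc

lemma Bdd.comp_succ {f : ℤ → G} (h : Bdd f) : Bdd (fun i => f (i + 1)) := by
  obtain ⟨a, b, h⟩ := h
  refine ⟨a - 1, b - 1, fun i hi => h _ ?_⟩
  omega

end finsupp

variable [P.IsClosedUnderIsomorphisms] [P.ContainsZero]

lemma QD_of_iso {K L : DerivedCategory C} (e : K ≅ L) (hK : QD P K) : QD P L := by
  obtain ⟨h, a, b, ha, hb⟩ := hK
  exact ⟨fun i => P.prop_of_iso ((homologyFunctor C i).mapIso e) (h i), a, b,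
    TStructure.t.isGE_of_iso e a, TStructure.t.isLE_of_iso e b⟩

lemma QD_of_isZero {K : DerivedCategory C} (hK : IsZero K) : QD P K := by
  have hz : ∀ i, IsZero ((homologyFunctor C i).obj K) := fun i =>
    (homologyFunctor C i).map_isZero hK
  refine ⟨fun i => P.prop_of_isZero (hz i), 0, 0, ?_, ?_⟩
  · change K.IsGE 0
    rw [isGE_iff]
    exact fun i _ => hz i
  · change K.IsLE 0
    rw [isLE_iff]
    exact fun i _ => hz i

lemma isZero_homology_single (M : C) (n i : ℤ) (h : i ≠ n) :
    IsZero ((homologyFunctor C i).obj ((singleFunctor C n).obj M)) := by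
  rcases lt_or_gt_of_ne h with h | h
  · exact isZero_of_isGE _ n i h
  · exact isZero_of_isLE _ n i h

lemma single_mem {M : C} (hM : P M) (n : ℤ) : QD P ((singleFunctor C n).obj M) := by
  refine ⟨fun i => ?_, n, n, inferInstance, inferInstance⟩
  by_cases h : i = n
  · subst h
    exact P.prop_of_iso ((singleFunctorCompHomologyFunctorIso C i).app M).symm hM
  · exact P.prop_of_isZero (isZero_homology_single M n i h)

/-- The `i`-th term of the Euler characteristic. -/
noncomputable def term (K : DerivedCategory C) (i : ℤ) : KZero.K0sub P :=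
  (i.negOnePow : ℤ) • KZero.clSub P ((homologyFunctor C i).obj K)

/-- The Euler characteristic of the cohomology objects. -/
noncomputable def chi (K : DerivedCategory C) : KZero.K0sub P := ∑ᶠ i : ℤ, term P K i

lemma term_eq_zero {K : DerivedCategory C} {i : ℤ}
    (h : IsZero ((homologyFunctor C i).obj K)) : term P K i = 0 := by
  rw [term, clSub_isZero P h, smul_zero]

lemma bdd_term {K : DerivedCategory C} (hK : QD P K) : Bdd (term P K) := by
  obtain ⟨-, a, b, ha, hb⟩ := hK
  refine ⟨a, b, fun i hi => term_eq_zero P ?_⟩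
  rcases hi with hi | hi
  · exact isZero_of_isGE K a i hi
  · exact isZero_of_isLE K b i hi

lemma chi_single {M : C} (hM : P M) : chi P ((singleFunctor C 0).obj M) = KZero.clSub P M := by
  rw [chi, finsum_eq_single _ 0
    (fun i hi => term_eq_zero P (isZero_homology_single M 0 i hi)), term]
  rw [Int.negOnePow_zero, Units.val_one, one_smul]
  exact clSub_iso' P ((singleFunctorCompHomologyFunctorIso C 0).app M)
    (P.prop_of_iso ((singleFunctorCompHomologyFunctorIso C 0).app M).symm hM)

variable [P.IsClosedUnderKernels]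

theorem chi_triangle (T : Triangle (DerivedCategory C)) (hT : T ∈ distTriang (DerivedCategory C))
    (h₁ : QD P T.obj₁) (h₂ : QD P T.obj₂) (h₃ : QD P T.obj₃) :
    chi P T.obj₂ = chi P T.obj₁ + chi P T.obj₃ := by
  -- the kernels of the maps `H^i T₁ → H^i T₂`
  let κ : ℤ → KZero.K0sub P := fun i =>
    KZero.clSub P (kernel ((homologyFunctor C i).map T.mor₁))
  let g : ℤ → KZero.K0sub P := fun i => (i.negOnePow : ℤ) • κ i
  have e1 : ∀ i, KZero.clSub P ((homologyFunctor C i).obj T.obj₁) =
      κ i + KZero.clSub P (kernel ((homologyFunctor C i).map T.mor₂)) := fun i =>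
    clSub_exact P _ (HomologySequence.exact₂ T hT i) (h₁.1 i) (h₂.1 i) (h₃.1 i)
  have e2 : ∀ i, KZero.clSub P ((homologyFunctor C i).obj T.obj₂) =
      KZero.clSub P (kernel ((homologyFunctor C i).map T.mor₂)) +
        KZero.clSub P (kernel (HomologySequence.δ T i (i + 1) rfl)) := fun i =>
    clSub_exact P _ (HomologySequence.exact₃ T hT i (i + 1) rfl) (h₂.1 i) (h₃.1 i) (h₁.1 (i + 1))
  have e3 : ∀ i, KZero.clSub P ((homologyFunctor C i).obj T.obj₃) =
      KZero.clSub P (kernel (HomologySequence.δ T i (i + 1) rfl)) + κ (i + 1) := fun i =>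
    clSub_exact P _ (HomologySequence.exact₁ T hT i (i + 1) rfl) (h₃.1 i) (h₁.1 (i + 1))
      (h₂.1 (i + 1))
  have key : ∀ i, term P T.obj₂ i = (term P T.obj₁ i + term P T.obj₃ i) + (g (i + 1) - g i) := by
    intro i
    simp only [term, g]
    rw [e1 i, e2 i, e3 i, Int.negOnePow_succ, Units.val_neg, neg_smul]
    simp only [smul_add]
    abel
  have hg : Bdd g := by
    obtain ⟨-, a, b, ha, hb⟩ := h₁
    refine ⟨a, b, fun i hi => ?_⟩
    have hz : IsZero ((homologyFunctor C i).obj T.obj₁) := by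
      rcases hi with hi | hi
      · exact isZero_of_isGE T.obj₁ a i hi
      · exact isZero_of_isLE T.obj₁ b i hi
    have hk : IsZero (kernel ((homologyFunctor C i).map T.mor₁)) :=
      IsZero.of_mono (kernel.ι _) hz
    simp only [g, κ]
    rw [clSub_isZero P hk, smul_zero]
  have f1 := (bdd_term P h₁).hasFiniteSupport
  have f3 := (bdd_term P h₃).hasFiniteSupport
  have fg := hg.hasFiniteSupport
  have fg' := hg.comp_succ.hasFiniteSupport
  have hshift : ∑ᶠ i : ℤ, g (i + 1) = ∑ᶠ i : ℤ, g i :=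
    finsum_comp_equiv (Equiv.addRight (1 : ℤ)) (f := g)
  have s1 : ∑ᶠ i : ℤ, ((term P T.obj₁ i + term P T.obj₃ i) + (g (i + 1) - g i)) =
      ∑ᶠ i : ℤ, (term P T.obj₁ i + term P T.obj₃ i) + ∑ᶠ i : ℤ, (g (i + 1) - g i) :=
    finsum_add_distrib (f1.add f3) (fg'.sub fg)
  have s2 : ∑ᶠ i : ℤ, (term P T.obj₁ i + term P T.obj₃ i) =
      ∑ᶠ i : ℤ, term P T.obj₁ i + ∑ᶠ i : ℤ, term P T.obj₃ i :=
    finsum_add_distrib f1 f3
  have s3 : ∑ᶠ i : ℤ, (g (i + 1) - g i) = ∑ᶠ i : ℤ, g (i + 1) - ∑ᶠ i : ℤ, g i :=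
    finsum_sub_distrib fg' fg
  rw [chi, chi, chi, finsum_congr key, s1, s2, s3, hshift, sub_self, add_zero]

section maps

lemma relSub_le : KZero.relSub P ≤ (FreeAbelianGroup.lift
    (fun M : Subtype P => KZero.clTr (QD P) ((singleFunctor C 0).obj M.1))).ker := by
  rw [KZero.relSub, AddSubgroup.closure_le]
  rintro x ⟨S, h₁, h₂, h₃, hS, rfl⟩
  rw [SetLike.mem_coe, AddMonoidHom.mem_ker, map_sub, map_sub, FreeAbelianGroup.lift_apply_of,
    FreeAbelianGroup.lift_apply_of, FreeAbelianGroup.lift_apply_of]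
  have h : KZero.clTr (QD P) ((singleFunctor C 0).obj S.X₂) =
      KZero.clTr (QD P) ((singleFunctor C 0).obj S.X₁) +
        KZero.clTr (QD P) ((singleFunctor C 0).obj S.X₃) :=
    clTr_triangle (QD P) _ hS.singleTriangle_distinguished (single_mem P h₁ 0)
      (single_mem P h₂ 0) (single_mem P h₃ 0)
  dsimp only
  rw [h]
  abel

/-- The map `K₀(P) → K₀(D^b_P)`. -/
noncomputable def phi : KZero.K0sub P →+ KZero.K0tr (QD (C := C) P) :=
  QuotientAddGroup.lift (KZero.relSub P) _ (relSub_le P)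

lemma phi_cl {M : C} (hM : P M) :
    phi P (KZero.clSub P M) = KZero.clTr (QD P) ((singleFunctor C 0).obj M) := by
  rw [clSub_of_mem P hM]
  change (FreeAbelianGroup.lift _) (FreeAbelianGroup.of (⟨M, hM⟩ : Subtype P)) = _
  rw [FreeAbelianGroup.lift_apply_of]

lemma relTr_le : KZero.relTr (QD (C := C) P) ≤ (FreeAbelianGroup.lift
    (fun K : Subtype (QD (C := C) P) => chi P K.1)).ker := by
  rw [KZero.relTr, AddSubgroup.closure_le]
  rintro x ⟨T, h₁, h₂, h₃, hT, rfl⟩
  rw [SetLike.mem_coe, AddMonoidHom.mem_ker, map_sub, map_sub, FreeAbelianGroup.lift_apply_of,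
    FreeAbelianGroup.lift_apply_of, FreeAbelianGroup.lift_apply_of]
  dsimp
  rw [chi_triangle P T hT h₁ h₂ h₃]
  abel

/-- The Euler characteristic `K₀(D^b_P) → K₀(P)`. -/
noncomputable def psi : KZero.K0tr (QD (C := C) P) →+ KZero.K0sub P :=
  QuotientAddGroup.lift (KZero.relTr (QD P)) _ (relTr_le P)

lemma psi_cl {K : DerivedCategory C} (hK : QD P K) :
    psi P (KZero.clTr (QD P) K) = chi P K := by
  rw [clTr_of_mem (QD P) hK]
  change (FreeAbelianGroup.lift _) (FreeAbelianGroup.of (⟨K, hK⟩ : Subtype (QD (C := C) P))) = _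
  rw [FreeAbelianGroup.lift_apply_of]

lemma psi_phi (x : KZero.K0sub P) : psi P (phi P x) = x := by
  refine K0sub_induction P (motive := fun x => psi P (phi P x) = x) x ?_ ?_ ?_ ?_
  · simp
  · intro M hM
    rw [phi_cl P hM, psi_cl P (single_mem P hM 0), chi_single P hM]
  · intro y hy
    rw [map_neg, map_neg, hy]
  · intro y z hy hz
    rw [map_add, map_add, hy, hz]

end maps

section surj

/-- Cohomology of the truncation triangle: the left part. -/
lemma isIso_map_mor₁ (T : Triangle (DerivedCategory C))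
    (hT : T ∈ distTriang (DerivedCategory C)) (a : ℤ) [T.obj₃.IsGE (a + 1)] (i : ℤ) (hi : i ≤ a) :
    IsIso ((homologyFunctor C i).map T.mor₁) := by
  have z1 : IsZero ((homologyFunctor C (i - 1)).obj T.obj₃) :=
    isZero_of_isGE T.obj₃ (a + 1) (i - 1) (by omega)
  have z2 : IsZero ((homologyFunctor C i).obj T.obj₃) :=
    isZero_of_isGE T.obj₃ (a + 1) i (by omega)
  haveI : Mono ((homologyFunctor C i).map T.mor₁) :=
    (HomologySequence.exact₁ T hT (i - 1) i (by omega)).mono_g (z1.eq_of_src _ _)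
  haveI : Epi ((homologyFunctor C i).map T.mor₁) :=
    (HomologySequence.exact₂ T hT i).epi_f (z2.eq_of_tgt _ _)
  exact isIso_of_mono_of_epi _

/-- Cohomology of the truncation triangle: the right part. -/
lemma isIso_map_mor₂ (T : Triangle (DerivedCategory C))
    (hT : T ∈ distTriang (DerivedCategory C)) (a : ℤ) [T.obj₁.IsLE a] (i : ℤ) (hi : a + 1 ≤ i) :
    IsIso ((homologyFunctor C i).map T.mor₂) := by
  have z1 : IsZero ((homologyFunctor C i).obj T.obj₁) :=
    isZero_of_isLE T.obj₁ a i (by omega)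
  have z2 : IsZero ((homologyFunctor C (i + 1)).obj T.obj₁) :=
    isZero_of_isLE T.obj₁ a (i + 1) (by omega)
  haveI : Mono ((homologyFunctor C i).map T.mor₂) :=
    (HomologySequence.exact₂ T hT i).mono_g (z1.eq_of_src _ _)
  haveI : Epi ((homologyFunctor C i).map T.mor₂) :=
    (HomologySequence.exact₃ T hT i (i + 1) rfl).epi_f (z2.eq_of_tgt _ _)
  exact isIso_of_mono_of_epi _

lemma trunc_left (T : Triangle (DerivedCategory C))
    (hT : T ∈ distTriang (DerivedCategory C)) (a : ℤ) [T.obj₁.IsLE a] [T.obj₃.IsGE (a + 1)]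
    [T.obj₂.IsGE a] (hP : ∀ i, P ((homologyFunctor C i).obj T.obj₂)) :
    T.obj₁.IsGE a ∧ ∀ i, P ((homologyFunctor C i).obj T.obj₁) := by
  constructor
  · rw [isGE_iff]
    intro i hi
    haveI := isIso_map_mor₁ T hT a i (by omega)
    exact (isZero_of_isGE T.obj₂ a i hi).of_iso (asIso ((homologyFunctor C i).map T.mor₁))
  · intro i
    by_cases hi : i ≤ a
    · haveI := isIso_map_mor₁ T hT a i hi
      exact P.prop_of_iso (asIso ((homologyFunctor C i).map T.mor₁)).symm (hP i)
    · exact P.prop_of_isZero (isZero_of_isLE T.obj₁ a i (by omega))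

lemma trunc_right (T : Triangle (DerivedCategory C))
    (hT : T ∈ distTriang (DerivedCategory C)) (a b : ℤ) (hab : a ≤ b) [T.obj₁.IsLE a]
    [T.obj₃.IsGE (a + 1)] [T.obj₂.IsLE b] (hP : ∀ i, P ((homologyFunctor C i).obj T.obj₂)) :
    T.obj₃.IsLE b ∧ ∀ i, P ((homologyFunctor C i).obj T.obj₃) := by
  constructor
  · rw [isLE_iff]
    intro i hi
    haveI := isIso_map_mor₂ T hT a i (by omega)
    exact (isZero_of_isLE T.obj₂ b i hi).of_iso (asIso ((homologyFunctor C i).map T.mor₂)).symm
  · intro i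
    by_cases hi : a + 1 ≤ i
    · haveI := isIso_map_mor₂ T hT a i hi
      exact P.prop_of_iso (asIso ((homologyFunctor C i).map T.mor₂)) (hP i)
    · exact P.prop_of_isZero (isZero_of_isGE T.obj₃ (a + 1) i (by omega))

open ZeroObject in
lemma QD_zero : QD P (0 : DerivedCategory C) := QD_of_isZero P (isZero_zero _)

lemma clTr_single_succ {M : C} (hM : P M) (n : ℤ) :
    KZero.clTr (QD P) ((singleFunctor C n).obj M) =
      - KZero.clTr (QD P) ((singleFunctor C (n + 1)).obj M) := by
  have e : ((singleFunctor C (n + 1)).obj M)⟦(1 : ℤ)⟧ ≅ (singleFunctor C n).obj M :=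
    ((singleFunctors C).shiftIso 1 n (n + 1) (by omega)).app M
  have h1 : QD P (((singleFunctor C (n + 1)).obj M)⟦(1 : ℤ)⟧) :=
    QD_of_iso P e.symm (single_mem P hM n)
  rw [← clTr_shift_one (QD P) _ (single_mem P hM (n + 1)) h1 (QD_zero P)]
  exact (clTr_iso (QD P) e h1 (single_mem P hM n) (QD_zero P)).symm

lemma clTr_single_mem_range {M : C} (hM : P M) (n : ℤ) :
    KZero.clTr (QD P) ((singleFunctor C n).obj M) ∈ (phi P).range := by
  induction n using Int.induction_on with
  | zero => exact ⟨KZero.clSub P M, phi_cl P hM⟩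
  | succ n ih =>
    have h := clTr_single_succ P hM (n : ℤ)
    rw [h] at ih
    simpa using (phi P).range.neg_mem ih
  | pred n ih =>
    have h := clTr_single_succ P hM (-(n : ℤ) - 1)
    rw [h]
    have e : (-(n : ℤ) - 1 + 1) = -(n : ℤ) := by ring
    rw [e]
    exact (phi P).range.neg_mem ih

lemma clTr_mem_range_aux (d : ℕ) : ∀ (K : DerivedCategory C) (a b : ℤ), b ≤ a + d →
    K.IsGE a → K.IsLE b → (∀ i, P ((homologyFunctor C i).obj K)) →
    KZero.clTr (QD P) K ∈ (phi P).range := by
  induction d with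
  | zero =>
    intro K a b hab ha hb hP
    rcases lt_or_eq_of_le (show b ≤ a by simpa using hab) with h | h
    · have hz : IsZero K := TStructure.t.isZero K b a h
      rw [clTr_iso (QD P) (hz.iso (isZero_zero _)) (QD_of_isZero P hz) (QD_zero P) (QD_zero P),
        clTr_zero (QD P) (QD_zero P)]
      exact (phi P).range.zero_mem
    · subst h
      obtain ⟨M, ⟨e⟩⟩ := exists_iso_singleFunctor_obj_of_isGE_of_isLE K b
      have hM : P M := P.prop_of_iso ((homologyFunctor C b).mapIso e ≪≫
        (singleFunctorCompHomologyFunctorIso C b).app M) (hP b)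
      rw [clTr_iso (QD P) e ⟨hP, b, b, ha, hb⟩ (single_mem P hM b) (QD_zero P)]
      exact clTr_single_mem_range P hM b
  | succ d ih =>
    intro K a b hab ha hb hP
    by_cases h : b ≤ a + d
    · exact ih K a b h ha hb hP
    · have hab' : a ≤ b := by push_cast at hab; omega
      obtain ⟨X, Y, hX, hY, f, g, h', hT⟩ := TStructure.t.exists_triangle K a (a + 1) rfl
      haveI : X.IsLE a := ⟨hX⟩
      haveI : Y.IsGE (a + 1) := ⟨hY⟩
      haveI : (Triangle.mk f g h').obj₁.IsLE a := ⟨hX⟩
      haveI : (Triangle.mk f g h').obj₃.IsGE (a + 1) := ⟨hY⟩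
      haveI : (Triangle.mk f g h').obj₂.IsGE a := ha
      haveI : (Triangle.mk f g h').obj₂.IsLE b := hb
      obtain ⟨hXa, hXP⟩ := trunc_left P _ hT a hP
      obtain ⟨hYb, hYP⟩ := trunc_right P _ hT a b hab' hP
      have hX' := ih X a a (by omega) hXa ⟨hX⟩ hXP
      have hY' := ih Y (a + 1) b (by push_cast at hab; omega) ⟨hY⟩ hYb hYP
      have hK : KZero.clTr (QD P) K = KZero.clTr (QD P) X + KZero.clTr (QD P) Y :=
        clTr_triangle (QD P) _ hT ⟨hXP, a, a, hXa, ⟨hX⟩⟩ ⟨hP, a, b, ha, hb⟩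
          ⟨hYP, a + 1, b, ⟨hY⟩, hYb⟩
      rw [hK]
      exact (phi P).range.add_mem hX' hY'

lemma phi_surjective : Function.Surjective (phi (C := C) P) := by
  intro y
  refine K0tr_induction (QD P) (motive := fun y => ∃ x, phi P x = y) y ?_ ?_ ?_ ?_
  · exact ⟨0, map_zero _⟩
  · rintro K ⟨hP, a, b, ha, hb⟩
    have hab : b ≤ a + ((b - a).toNat : ℕ) := by
      have := Int.self_le_toNat (b - a)
      omega
    exact clTr_mem_range_aux P _ K a b hab ha hb hP
  · rintro y ⟨x, rfl⟩
    exact ⟨-x, map_neg _ _⟩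
  · rintro y z ⟨x, rfl⟩ ⟨x', rfl⟩
    exact ⟨x + x', map_add _ _ _⟩

/-- `K₀(P) ≃ K₀(D^b_P(C))`, sending `[X]` to the class of `X` in degree `0`. -/
theorem exists_addEquiv :
    ∃ φ : KZero.K0sub P ≃+ KZero.K0tr (QD (C := C) P),
      ∀ X : C, P X → φ (KZero.clSub P X) =
        KZero.clTr (QD (C := C) P) ((singleFunctor C 0).obj X) := by
  have hinj : Function.Injective (phi (C := C) P) :=
    Function.LeftInverse.injective (psi_phi P)
  exact ⟨AddEquiv.ofBijective (phi P) ⟨hinj, phi_surjective P⟩, fun X hX => phi_cl P hX⟩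

end surj

end Groth.Agent.Lib.H43K0Db
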