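import Mathlib.CategoryTheory.Abelian.Refinements
import Mathlib.Algebra.Homology.ShortComplex.ShortExact
import Mathlib.CategoryTheory.Limits.Shapes.Pullback.IsPullback.Basic

/-!
# Abelian-category lemmas for the resolution theorem for `K₀` (S3200)

* `shortExact_kernel`: `0 → ker p → X → Y → 0` for an epimorphism `p`.
* `shortExact_of_fac`: `0 → ker (π ≫ ι) → X → K → 0` for `π` epi and `ι` mono.
* `ker_comp`: for short exact `Z → L → B` and `K → B → A`, there are short exact sequences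
  `Z' → L → A` and `Z → Z' → K`.
* `pb_shortExact`: the kernel of the projection of a pullback.
-/

namespace Groth.Agent.Lib.H43K0ResA

open CategoryTheory CategoryTheory.Limits

universe v u

set_option linter.style.haveILetI false

variable {C : Type u} [Category.{v} C] [Abelian C]

lemma shortExact_kernel {X Y : C} (p : X ⟶ Y) [Epi p] :
    (ShortComplex.mk (kernel.ι p) p (kernel.condition p)).ShortExact :=
  ShortComplex.ShortExact.mk' (ShortComplex.exact_of_f_is_kernel _ (kernelIsKernel p))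
    (by dsimp; infer_instance) (by dsimp; infer_instance)

/-- Exactness from the universal property, with explicit maps. -/
lemma shortExact_of_lift {X₁ X₂ X₃ : C} (f : X₁ ⟶ X₂) (g : X₂ ⟶ X₃) (w : f ≫ g = 0)
    [Mono f] [Epi g]
    (H : ∀ ⦃T : C⦄ (x : T ⟶ X₂), x ≫ g = 0 → ∃ y : T ⟶ X₁, y ≫ f = x) :
    (ShortComplex.mk f g w).ShortExact := by
  refine ShortComplex.ShortExact.mk' ?_ (by dsimp; infer_instance) (by dsimp; infer_instance)
  rw [ShortComplex.exact_iff_exact_up_to_refinements]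
  intro T x hx
  obtain ⟨y, hy⟩ := H x hx
  exact ⟨T, 𝟙 T, inferInstance, y, by simpa using hy.symm⟩

/-- Lifting through the kernel in a short exact sequence. -/
lemma exists_lift_of_shortExact {S : ShortComplex C} (hS : S.ShortExact) {T : C} (x : T ⟶ S.X₂)
    (hx : x ≫ S.g = 0) : ∃ y : T ⟶ S.X₁, y ≫ S.f = x := by
  haveI := hS.mono_f
  exact ⟨hS.exact.lift x hx, hS.exact.lift_f x hx⟩

lemma shortExact_of_fac {X K Y : C} (π : X ⟶ K) (ι : K ⟶ Y) [Epi π] [Mono ι] :
    ∃ w : kernel.ι (π ≫ ι) ≫ π = 0, (ShortComplex.mk (kernel.ι (π ≫ ι)) π w).ShortExact := by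
  have w : kernel.ι (π ≫ ι) ≫ π = 0 := by
    rw [← cancel_mono ι, Category.assoc, kernel.condition, zero_comp]
  refine ⟨w, shortExact_of_lift _ _ w ?_⟩
  intro T x hx
  exact ⟨kernel.lift _ x (by rw [reassoc_of% hx, zero_comp]), kernel.lift_ι _ _ _⟩

/-- Kernel of a composition: given short exact `Z → L → B` and `K → B → A`, there is `Z'` with
short exact sequences `Z' → L → A` and `Z → Z' → K`. -/
lemma ker_comp {Z L B K A : C} (j : Z ⟶ L) (p : L ⟶ B) (i : K ⟶ B) (q : B ⟶ A)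
    (w₁ : j ≫ p = 0) (w₂ : i ≫ q = 0) (h₁ : (ShortComplex.mk j p w₁).ShortExact)
    (h₂ : (ShortComplex.mk i q w₂).ShortExact) :
    ∃ (Z' : C) (j' : Z' ⟶ L) (a : Z ⟶ Z') (b : Z' ⟶ K) (w₃ : j' ≫ p ≫ q = 0) (w₄ : a ≫ b = 0),
      (ShortComplex.mk j' (p ≫ q) w₃).ShortExact ∧ (ShortComplex.mk a b w₄).ShortExact := by
  haveI : Mono j := h₁.mono_f
  haveI : Epi p := h₁.epi_g
  haveI : Mono i := h₂.mono_f
  haveI : Epi q := h₂.epi_g
  obtain ⟨b, hb⟩ := exists_lift_of_shortExact h₂ (kernel.ι (p ≫ q) ≫ p)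
    (by simp)
  dsimp at b hb
  have ha : kernel.lift (p ≫ q) j (by rw [reassoc_of% w₁, zero_comp]) ≫ kernel.ι (p ≫ q) = j :=
    kernel.lift_ι _ _ _
  have w₄ : kernel.lift (p ≫ q) j (by rw [reassoc_of% w₁, zero_comp]) ≫ b = 0 := by
    rw [← cancel_mono i, Category.assoc, hb, reassoc_of% ha, w₁, zero_comp]
  haveI : Mono (kernel.lift (p ≫ q) j (by rw [reassoc_of% w₁, zero_comp])) :=
    mono_of_mono_fac ha
  haveI : Epi b := by
    rw [epi_iff_surjective_up_to_refinements]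
    intro T x
    obtain ⟨T', π, hπ, y, hy⟩ := surjective_up_to_refinements_of_epi p (x ≫ i)
    refine ⟨T', π, hπ, kernel.lift (p ≫ q) y ?_, ?_⟩
    · rw [← reassoc_of% hy, w₂, comp_zero, comp_zero]
    · rw [← cancel_mono i, Category.assoc, Category.assoc, hb, kernel.lift_ι_assoc, hy]
  refine ⟨kernel (p ≫ q), kernel.ι (p ≫ q), kernel.lift (p ≫ q) j (by rw [reassoc_of% w₁, zero_comp]),
    b, kernel.condition _, w₄, shortExact_kernel (p ≫ q), shortExact_of_lift _ _ w₄ ?_⟩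
  intro T x hx
  obtain ⟨z, hz⟩ := exists_lift_of_shortExact h₁ (x ≫ kernel.ι (p ≫ q))
    (by dsimp; rw [Category.assoc, ← hb, reassoc_of% hx, zero_comp])
  dsimp at z hz
  refine ⟨z, ?_⟩
  rw [← cancel_mono (kernel.ι (p ≫ q)), Category.assoc, ha, hz]

/-- The kernel of the first projection of a pullback is the kernel of the second map. -/
lemma pb_shortExact {M X₂ Y₂ X₃ Y₁ : C} {fst : M ⟶ X₂} {snd : M ⟶ Y₂} {g : X₂ ⟶ X₃}
    {g' : Y₂ ⟶ X₃} (hpb : IsPullback fst snd g g') (f' : Y₁ ⟶ Y₂) (w : f' ≫ g' = 0)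
    (h : (ShortComplex.mk f' g' w).ShortExact) :
    ∃ (l : Y₁ ⟶ M) (w' : l ≫ fst = 0), (ShortComplex.mk l fst w').ShortExact := by
  haveI : Mono f' := h.mono_f
  haveI : Epi g' := h.epi_g
  have hl₁ : hpb.lift 0 f' (by rw [zero_comp, w]) ≫ fst = 0 := hpb.lift_fst _ _ _
  have hl₂ : hpb.lift 0 f' (by rw [zero_comp, w]) ≫ snd = f' := hpb.lift_snd _ _ _
  haveI : Mono (hpb.lift 0 f' (by rw [zero_comp, w])) := mono_of_mono_fac hl₂
  haveI : Epi fst := Abelian.epi_fst_of_isLimit g g' hpb.isLimit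
  refine ⟨hpb.lift 0 f' (by rw [zero_comp, w]), hl₁, shortExact_of_lift _ _ hl₁ ?_⟩
  intro T x hx
  obtain ⟨z, hz⟩ := exists_lift_of_shortExact h (x ≫ snd)
    (by dsimp; rw [Category.assoc, ← hpb.w, reassoc_of% hx, zero_comp])
  dsimp at z hz
  refine ⟨z, hpb.hom_ext ?_ ?_⟩
  · rw [Category.assoc, hl₁, comp_zero, hx]
  · rw [Category.assoc, hl₂, hz]

end Groth.Agent.Lib.H43K0ResA
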