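import Groth.Agent.Lib.H43K0ResQ
import Mathlib.Algebra.Homology.Augment
import Mathlib.Algebra.Homology.ShortComplex.HomologicalComplex
import Mathlib.Algebra.Homology.HomologicalComplex

/-!
# Resolutions by chain complexes and the filtration `Q` (for S3200)
-/

namespace Groth.Agent.Lib.H43K0ResC

open CategoryTheory CategoryTheory.Limits Groth.Agent.Lib.H43K0ResA Groth.Agent.Lib.H43K0ResQ

universe v u

set_option linter.style.haveILetI false
set_option linter.unusedSectionVars false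

variable {C : Type u} [Category.{v} C] [Abelian C]

/-- `L` with the augmentation `ε` is a resolution of `A` by objects of `P₀`. -/
structure IsRes (P₀ : ObjectProperty C) (A : C) (L : ChainComplex C ℕ) (ε : L.X 0 ⟶ A) : Prop where
  mem : ∀ i, P₀ (L.X i)
  exact : ∀ i, 1 ≤ i → L.ExactAt i
  epi : Epi ε
  w : L.d 1 0 ≫ ε = 0
  exact₀ : (ShortComplex.mk (L.d 1 0) ε w).Exact

variable {P₀ P₁ : ObjectProperty C}

instance (cv : Cover P₀ P₁) (A : C) : Epi (cv.π A) := cv.epi A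

lemma comp_comp_zero {X Y Z W : C} (f : X ⟶ Y) (g : Y ⟶ Z) (h : Z ⟶ W) (w : f ≫ g = 0) :
    f ≫ g ≫ h = 0 := by
  rw [reassoc_of% w, zero_comp]

lemma IsRes.nonempty_iso {A : C} {L : ChainComplex C ℕ} {ε : L.X 0 ⟶ A} (h : IsRes P₀ A L ε) :
    Nonempty (L.homology 0 ≅ A) := by
  haveI := h.epi
  have h1 : IsColimit (CokernelCofork.ofπ ε h.w) := h.exact₀.gIsCokernel
  have h2 := L.opcyclesIsCokernel 1 0 (by simp)
  exact ⟨L.isoHomologyι₀ ≪≫ (h2.coconePointUniqueUpToIso h1)⟩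

/-- exactness of `X₂ → X₁ → X₀` when the first map is an epimorphism onto the kernel of the
second. -/
lemma exact_of_epi_kernel {X₂ X₁ X₀ : C} (g : X₂ ⟶ X₁) (f : X₁ ⟶ X₀) (π : X₂ ⟶ kernel f)
    (_ : Epi π) (hg : g = π ≫ kernel.ι f) (w : g ≫ f = 0) : (ShortComplex.mk g f w).Exact := by
  rw [ShortComplex.exact_iff_exact_up_to_refinements]
  intro T x hx
  dsimp at x hx ⊢
  obtain ⟨T', p, hp, y, hy⟩ := surjective_up_to_refinements_of_epi π (kernel.lift f x hx)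
  refine ⟨T', p, hp, y, ?_⟩
  rw [hg, ← reassoc_of% hy, kernel.lift_ι]

lemma mem₁_kernel_of_fac (H : Hyp P₀ P₁) {X K Y : C} (g : X ⟶ Y) (π : X ⟶ K) (ι : K ⟶ Y)
    (_ : Epi π) (_ : Mono ι) (hg : g = π ≫ ι) (hX : P₁ X) (hK : P₁ K) : P₁ (kernel g) := by
  subst hg
  obtain ⟨w, h⟩ := shortExact_of_fac π ι
  exact H.h1₁ _ h hX hK

lemma nonempty_iso_of_eq {X Y : C} {f g : X ⟶ Y} (h : f = g) {c : KernelFork f} {c' : KernelFork g}
    (hc : IsLimit c) (hc' : IsLimit c') : Nonempty (c.pt ≅ c'.pt) := by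
  subst h
  exact ⟨hc.conePointUniqueUpToIso hc'⟩

section augment

variable {K A L₀ : C} {L' : ChainComplex C ℕ} {ε' : L'.X 0 ⟶ K}

lemma IsRes.augment (hL' : IsRes P₀ K L' ε') (i : K ⟶ L₀) (p : L₀ ⟶ A) (w : i ≫ p = 0)
    (hS : (ShortComplex.mk i p w).ShortExact) (hL₀ : P₀ L₀) :
    IsRes P₀ A (L'.augment (ε' ≫ i) (comp_comp_zero _ _ _ hL'.w)) p := by
  haveI := hL'.epi
  haveI : Mono i := hS.mono_f
  haveI : Epi p := hS.epi_g
  refine ⟨?_, ?_, hS.epi_g, ?_, ?_⟩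
  · intro j
    cases j with
    | zero => exact hL₀
    | succ j => exact hL'.mem j
  · intro j hj
    obtain ⟨j, rfl⟩ : ∃ k, j = k + 1 := ⟨j - 1, by omega⟩
    cases j with
    | zero =>
      rw [HomologicalComplex.exactAt_iff' _ 2 1 0 (by simp) (by simp),
        ShortComplex.exact_iff_exact_up_to_refinements]
      intro T x hx
      dsimp [HomologicalComplex.sc', HomologicalComplex.shortComplexFunctor'] at x hx ⊢
      have hx' : x ≫ ε' = 0 :=
        (cancel_mono i).1 ((Category.assoc _ _ _).trans (hx.trans zero_comp.symm))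
      obtain ⟨T', π, hπ, y, hy⟩ := hL'.exact₀.exact_up_to_refinements x hx'
      exact ⟨T', π, hπ, y, hy⟩
    | succ j =>
      have h := hL'.exact (j + 1) (by omega)
      rw [HomologicalComplex.exactAt_iff' _ (j + 2) (j + 1) j (by simp) (by simp),
        ShortComplex.exact_iff_exact_up_to_refinements] at h
      rw [HomologicalComplex.exactAt_iff' _ (j + 3) (j + 2) (j + 1) (by simp) (by simp),
        ShortComplex.exact_iff_exact_up_to_refinements]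
      intro T x hx
      dsimp [HomologicalComplex.sc', HomologicalComplex.shortComplexFunctor'] at x hx ⊢
      rw [ChainComplex.augment_d_succ_succ] at hx
      obtain ⟨T', π, hπ, y, hy⟩ := h x hx
      refine ⟨T', π, hπ, y, ?_⟩
      rw [ChainComplex.augment_d_succ_succ]
      exact hy
  · change (ε' ≫ i) ≫ p = 0
    rw [Category.assoc, w, comp_zero]
  · rw [ShortComplex.exact_iff_exact_up_to_refinements]
    intro T x hx
    dsimp at x hx ⊢
    obtain ⟨T', π, hπ, y, hy⟩ := hS.exact.exact_up_to_refinements x hx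
    dsimp at y hy
    obtain ⟨T'', π', hπ', z, hz⟩ := surjective_up_to_refinements_of_epi ε' y
    refine ⟨T'', π' ≫ π, epi_comp _ _, z, ?_⟩
    rw [Category.assoc, hy, reassoc_of% hz]

lemma nonempty_cycles_augment_succ (f : L'.X 0 ⟶ L₀) (w : L'.d 1 0 ≫ f = 0) (j : ℕ) :
    Nonempty ((L'.augment f w).cycles (j + 2) ≅ L'.cycles (j + 1)) :=
  nonempty_iso_of_eq (ChainComplex.augment_d_succ_succ L' f w (j + 1) j)
    ((L'.augment f w).cyclesIsKernel (j + 2) (j + 1) (by simp))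
    (L'.cyclesIsKernel (j + 1) j (by simp))

lemma nonempty_cycles_augment_one (f : L'.X 0 ⟶ L₀) (w : L'.d 1 0 ≫ f = 0) {K₁ : C}
    (i₁ : K₁ ⟶ L'.X 0) (w₁ : i₁ ≫ f = 0) (hk : IsLimit (KernelFork.ofι i₁ w₁)) :
    Nonempty ((L'.augment f w).cycles 1 ≅ K₁) :=
  nonempty_iso_of_eq (ChainComplex.augment_d_one_zero L' f w)
    ((L'.augment f w).cyclesIsKernel 1 0 (by simp)) hk

end augment

section resCx

variable (cv : Cover P₀ P₁)

/-- The canonical resolution built from the chosen covers. -/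
noncomputable def resCx (A : C) : ChainComplex C ℕ :=
  ChainComplex.mk' (cv.cov A) (cv.cov (kernel (cv.π A)))
    (cv.π (kernel (cv.π A)) ≫ kernel.ι (cv.π A))
    (fun {_ _} f => ⟨cv.cov (kernel f), cv.π (kernel f) ≫ kernel.ι f, by simp⟩)

lemma resCx_d_one_zero (A : C) :
    (resCx cv A).d 1 0 = cv.π (kernel (cv.π A)) ≫ kernel.ι (cv.π A) := by
  simp [resCx]

lemma resCx_d_succ (A : C) (n : ℕ) :
    ∃ e : (resCx cv A).X (n + 2) ≅ cv.cov (kernel ((resCx cv A).d (n + 1) n)),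
      (resCx cv A).d (n + 2) (n + 1) =
        (e.hom ≫ cv.π (kernel ((resCx cv A).d (n + 1) n))) ≫
          kernel.ι ((resCx cv A).d (n + 1) n) :=
  ⟨ChainComplex.mk'XIso _ _ _ _ n, by
    rw [Category.assoc]
    exact ChainComplex.mk'_d _ _ _ _ n⟩

variable [P₀.IsClosedUnderIsomorphisms]

lemma resCx_inv (H : Hyp P₀ P₁) {A : C} (hA : P₁ A) (n : ℕ) :
    P₀ ((resCx cv A).X (n + 1)) ∧ P₁ (kernel ((resCx cv A).d (n + 1) n)) := by
  have hK₀ : P₁ (kernel (cv.π A)) :=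
    H.h1₁ _ (shortExact_kernel (cv.π A)) (H.hle _ (cv.mem A hA)) hA
  induction n with
  | zero =>
    refine ⟨cv.mem _ hK₀, ?_⟩
    exact mem₁_kernel_of_fac H _ _ _ (cv.epi _) (inferInstanceAs (Mono (kernel.ι (cv.π A))))
      (resCx_d_one_zero cv A) (H.hle _ (cv.mem _ hK₀)) hK₀
  | succ n ih =>
    obtain ⟨e, he⟩ := resCx_d_succ cv A n
    have h₀ : P₀ ((resCx cv A).X (n + 2)) := P₀.prop_of_iso e.symm (cv.mem _ ih.2)
    exact ⟨h₀, mem₁_kernel_of_fac H _ _ _ (epi_comp _ _) inferInstance he (H.hle _ h₀) ih.2⟩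

lemma resCx_isRes (H : Hyp P₀ P₁) {A : C} (hA : P₁ A) : IsRes P₀ A (resCx cv A) (cv.π A) := by
  have w : (resCx cv A).d 1 0 ≫ cv.π A = 0 := by
    have h : (cv.π (kernel (cv.π A)) ≫ kernel.ι (cv.π A)) ≫ cv.π A = 0 := by
      rw [Category.assoc, kernel.condition, comp_zero]
    rw [resCx_d_one_zero]
    exact h
  refine ⟨?_, ?_, cv.epi A, w, ?_⟩
  · intro j
    cases j with
    | zero => exact cv.mem A hA
    | succ j => exact (resCx_inv cv H hA j).1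
  · intro j hj
    obtain ⟨j, rfl⟩ : ∃ k, j = k + 1 := ⟨j - 1, by omega⟩
    rw [HomologicalComplex.exactAt_iff' _ (j + 2) (j + 1) j (by simp) (by simp)]
    obtain ⟨e, he⟩ := resCx_d_succ cv A j
    exact exact_of_epi_kernel _ _ _ (epi_comp _ _) he _
  · exact exact_of_epi_kernel _ _ _ (cv.epi _) (resCx_d_one_zero cv A) _

end resCx

variable [P₀.IsClosedUnderIsomorphisms]

/-- If `Z_{m+1}` of every `P₀`-resolution of `A` is in `P₀`, then `A` is in `Q (m+2)`. -/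
lemma Q_of_cycles (H : Hyp P₀ P₁) (cv : Cover P₀ P₁) (m : ℕ) : ∀ A : C, P₁ A →
    (∀ (L : ChainComplex C ℕ) (ε : L.X 0 ⟶ A), IsRes P₀ A L ε → P₀ (L.cycles (m + 1))) →
    Q P₀ P₁ (m + 2) A := by
  induction m with
  | zero =>
    intro A hA h
    refine ⟨hA, ?_⟩
    intro K₀ L₀ i₀ p₀ w₀ hS₀ hL₀
    have hK₀ : P₁ K₀ := H.h1₁ _ hS₀ (H.hle _ hL₀) hA
    refine ⟨hK₀, ?_⟩
    intro K₁ L₁ i₁ p₁ w₁ hS₁ hL₁
    have hK₁ : P₁ K₁ := H.h1₁ _ hS₁ (H.hle _ hL₁) hK₀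
    haveI : Mono i₀ := hS₀.mono_f
    haveI : Mono i₁ := hS₁.mono_f
    have r₂ := resCx_isRes cv H hK₁
    have r₁ := r₂.augment i₁ p₁ w₁ hS₁ hL₁
    have r₀ := r₁.augment i₀ p₀ w₀ hS₀ hL₀
    have hk : IsLimit (KernelFork.ofι i₁ (show i₁ ≫ (p₁ ≫ i₀) = 0 by
        rw [reassoc_of% w₁, zero_comp])) :=
      isKernelCompMono hS₁.fIsKernel i₀ rfl
    obtain ⟨e⟩ := nonempty_cycles_augment_one
      (L' := (resCx cv K₁).augment (cv.π K₁ ≫ i₁) (comp_comp_zero _ _ _ r₂.w))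
      (p₁ ≫ i₀) (comp_comp_zero _ _ _ r₁.w) i₁ _ hk
    exact P₀.prop_of_iso e (h _ _ r₀)
  | succ m ih =>
    intro A hA h
    refine ⟨hA, ?_⟩
    intro K₀ L₀ i₀ p₀ w₀ hS₀ hL₀
    have hK₀ : P₁ K₀ := H.h1₁ _ hS₀ (H.hle _ hL₀) hA
    refine ih K₀ hK₀ ?_
    intro L' ε' r'
    have r₀ := r'.augment i₀ p₀ w₀ hS₀ hL₀
    obtain ⟨e⟩ := nonempty_cycles_augment_succ (ε' ≫ i₀) (comp_comp_zero _ _ _ r'.w) m
    exact P₀.prop_of_iso e (h _ _ r₀)

theorem exhaustive (H : Hyp P₀ P₁) (cv : Cover P₀ P₁)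
    (h3 : ∀ A : C, P₁ A → ∃ d : ℕ, ∀ L : ChainComplex C ℕ, (∀ i, P₀ (L.X i)) →
      (∀ i, 1 ≤ i → L.ExactAt i) → Nonempty (L.homology 0 ≅ A) → P₀ (L.cycles (d + 1))) :
    ∀ A, P₁ A → ∃ n, Q P₀ P₁ n A := by
  intro A hA
  obtain ⟨d, hd⟩ := h3 A hA
  exact ⟨d + 2, Q_of_cycles H cv d A hA
    (fun L ε r => hd L r.mem r.exact r.nonempty_iso)⟩

end Groth.Agent.Lib.H43K0ResC
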