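import Groth.Agent.Lib.H43K0ResQ
import Groth.Agent.Lib.KZeroSub
import Groth.Prelude.Def_KZero

/-!
# The Euler-characteristic functions `e n : C → K₀(P₀)` and the bijection (for S3200)
-/

namespace Groth.Agent.Lib.H43K0ResE

open CategoryTheory CategoryTheory.Limits Groth.Agent.Lib.H43K0ResA Groth.Agent.Lib.H43K0ResQ
open Groth.Agent.Lib.KZeroSub

universe v u

set_option linter.style.haveILetI false
set_option linter.unusedSectionVars false

variable {C : Type u} [Category.{v} C] [Abelian C]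

/-- Comparison of two short exact sequences with the same cokernel, for a function that is additive
on an extension-closed class. -/
lemma pb_additive {G : Type*} [AddCommGroup G] (e : C → G) (R : C → Prop)
    (hext : ∀ S : ShortComplex C, S.ShortExact → R S.X₁ → R S.X₃ → R S.X₂)
    (hadd : ∀ S : ShortComplex C, S.ShortExact → R S.X₁ → R S.X₂ → R S.X₃ →
      e S.X₂ = e S.X₁ + e S.X₃)
    {X₁ X₂ Y₁ Y₂ X₃ : C} (f : X₁ ⟶ X₂) (g : X₂ ⟶ X₃) (w : f ≫ g = 0) (f' : Y₁ ⟶ Y₂)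
    (g' : Y₂ ⟶ X₃) (w' : f' ≫ g' = 0)
    (h : (ShortComplex.mk f g w).ShortExact) (h' : (ShortComplex.mk f' g' w').ShortExact)
    (r₁ : R X₁) (r₂ : R X₂) (s₁ : R Y₁) (s₂ : R Y₂) :
    e X₂ - e X₁ = e Y₂ - e Y₁ := by
  have hpb : IsPullback (pullback.fst g g') (pullback.snd g g') g g' :=
    IsPullback.of_hasPullback g g'
  obtain ⟨l₁, w₁, hl₁⟩ := pb_shortExact hpb f' w' h'
  obtain ⟨l₂, w₂, hl₂⟩ := pb_shortExact hpb.flip f w h
  have hM : R (pullback g g') := hext _ hl₁ s₁ r₂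
  have e₁ := hadd _ hl₁ s₁ hM r₂
  have e₂ := hadd _ hl₂ r₁ hM s₂
  dsimp at e₁ e₂
  have e₃ : e Y₁ + e X₂ = e X₁ + e Y₂ := e₁.symm.trans e₂
  calc e X₂ - e X₁ = (e Y₁ + e X₂) - e Y₁ - e X₁ := by abel
    _ = (e X₁ + e Y₂) - e Y₁ - e X₁ := by rw [e₃]
    _ = e Y₂ - e Y₁ := by abel

variable {P₀ P₁ : ObjectProperty C}

/-- The Euler characteristic of the canonical resolution, truncated at level `n`. -/
noncomputable def e (cv : Cover P₀ P₁) : ℕ → C → KZero.K0sub P₀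
  | 0 => fun A => KZero.clSub P₀ A
  | n + 1 => fun A => KZero.clSub P₀ (cv.cov A) - e cv n (kernel (cv.π A))

lemma e_zero (cv : Cover P₀ P₁) (A : C) : e cv 0 A = KZero.clSub P₀ A := rfl

lemma e_succ (cv : Cover P₀ P₁) (n : ℕ) (A : C) :
    e cv (n + 1) A = KZero.clSub P₀ (cv.cov A) - e cv n (kernel (cv.π A)) := rfl

variable (H : Hyp P₀ P₁) (cv : Cover P₀ P₁)
include H

lemma e_of_mem₀ (n : ℕ) {A : C} (hA : P₀ A) : e cv n A = KZero.clSub P₀ A := by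
  induction n generalizing A with
  | zero => rfl
  | succ n ih =>
    haveI := cv.epi A
    have hcov : P₀ (cv.cov A) := cv.mem A (H.hle A hA)
    have hker : P₀ (kernel (cv.π A)) := H.h1₀ _ (shortExact_kernel (cv.π A)) hcov hA
    have h := clSub_shortExact P₀ _ (shortExact_kernel (cv.π A)) hker hcov hA
    dsimp at h
    rw [e_succ, ih hker, h]
    abel

lemma e_add (n : ℕ) : ∀ S : ShortComplex C, S.ShortExact → Q P₀ P₁ n S.X₁ → Q P₀ P₁ n S.X₂ →
    Q P₀ P₁ n S.X₃ → e cv n S.X₂ = e cv n S.X₁ + e cv n S.X₃ := by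
  induction n with
  | zero =>
    intro S hS h₁ h₂ h₃
    exact clSub_shortExact P₀ S hS h₁ h₂ h₃
  | succ n ih =>
    intro S hS h₁ h₂ h₃
    haveI := cv.epi S.X₁
    haveI := cv.epi S.X₂
    haveI := cv.epi S.X₃
    have c₁ : P₀ (cv.cov S.X₁) := cv.mem _ h₁.1
    have c₂ : P₀ (cv.cov S.X₂) := cv.mem _ h₂.1
    have c₃ : P₀ (cv.cov S.X₃) := cv.mem _ h₃.1
    have k₁ : Q P₀ P₁ n (kernel (cv.π S.X₁)) := h₁.2 _ _ _ _ _ (shortExact_kernel _) c₁
    have k₂ : Q P₀ P₁ n (kernel (cv.π S.X₂)) := h₂.2 _ _ _ _ _ (shortExact_kernel _) c₂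
    have k₃ : Q P₀ P₁ n (kernel (cv.π S.X₃)) := h₃.2 _ _ _ _ _ (shortExact_kernel _) c₃
    obtain ⟨Z', j', a, b, w₃, w₄, hA, hab⟩ := ker_comp (kernel.ι (cv.π S.X₂)) (cv.π S.X₂) S.f S.g
      (kernel.condition _) S.zero (shortExact_kernel _) hS
    have hZ' : Q P₀ P₁ n Z' := h₃.2 _ _ _ _ _ hA c₂
    have hext := fun T hT t₁ t₃ => Q.ext H cv (n := n) (S := T) hT t₁ t₃
    have E₁ := pb_additive (e cv n) (Q P₀ P₁ n) hext ih j' (cv.π S.X₂ ≫ S.g) w₃
      (kernel.ι (cv.π S.X₃)) (cv.π S.X₃) (kernel.condition _) hA (shortExact_kernel _)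
      hZ' (Q.of_mem₀ H n c₂) k₃ (Q.of_mem₀ H n c₃)
    have E₂ := pb_additive (e cv n) (Q P₀ P₁ n) hext ih a b w₄
      (kernel.ι (cv.π S.X₁)) (cv.π S.X₁) (kernel.condition _) hab (shortExact_kernel _)
      k₂ hZ' k₁ (Q.of_mem₀ H n c₁)
    rw [e_of_mem₀ H cv n c₂, e_of_mem₀ H cv n c₃] at E₁
    rw [e_of_mem₀ H cv n c₁] at E₂
    rw [e_succ, e_succ, e_succ]
    -- E₁ : [cov X₂] - e Z' = [cov X₃] - e k₃ ;  E₂ : e Z' - e k₂ = [cov X₁] - e k₁
    calc KZero.clSub P₀ (cv.cov S.X₂) - e cv n (kernel (cv.π S.X₂))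
        = (KZero.clSub P₀ (cv.cov S.X₂) - e cv n Z') + (e cv n Z' - e cv n (kernel (cv.π S.X₂))) := by
          abel
      _ = (KZero.clSub P₀ (cv.cov S.X₃) - e cv n (kernel (cv.π S.X₃))) +
          (KZero.clSub P₀ (cv.cov S.X₁) - e cv n (kernel (cv.π S.X₁))) := by rw [E₁, E₂]
      _ = _ := by abel

lemma e_succ_of_Q {n : ℕ} {A : C} (hA : Q P₀ P₁ n A) : e cv (n + 1) A = e cv n A := by
  haveI := cv.epi A
  have hA' : Q P₀ P₁ (n + 1) A := Q.succ H hA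
  have c : P₀ (cv.cov A) := cv.mem _ hA'.1
  have k : Q P₀ P₁ n (kernel (cv.π A)) := hA'.2 _ _ _ _ _ (shortExact_kernel _) c
  have h := e_add H cv n _ (shortExact_kernel (cv.π A)) k (Q.of_mem₀ H n c) hA
  dsimp at h
  rw [e_of_mem₀ H cv n c] at h
  rw [e_succ, h]
  abel

lemma e_eq_of_le {n m : ℕ} (hnm : n ≤ m) {A : C} (hA : Q P₀ P₁ n A) : e cv m A = e cv n A := by
  induction hnm with
  | refl => rfl
  | step h ih => rw [e_succ_of_Q H cv (Q.mono H h hA), ih]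

lemma e_eq {n m : ℕ} {A : C} (hn : Q P₀ P₁ n A) (hm : Q P₀ P₁ m A) : e cv n A = e cv m A := by
  rcases le_total n m with h | h
  · exact (e_eq_of_le H cv h hn).symm
  · exact e_eq_of_le H cv h hm

lemma map_e (φ : KZero.K0sub P₀ →+ KZero.K0sub P₁)
    (hφ : ∀ A, P₀ A → φ (KZero.clSub P₀ A) = KZero.clSub P₁ A) (n : ℕ) {A : C}
    (hA : Q P₀ P₁ n A) : φ (e cv n A) = KZero.clSub P₁ A := by
  induction n generalizing A with
  | zero => exact hφ A hA
  | succ n ih =>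
    haveI := cv.epi A
    have c : P₀ (cv.cov A) := cv.mem _ hA.1
    have k : Q P₀ P₁ n (kernel (cv.π A)) := hA.2 _ _ _ _ _ (shortExact_kernel _) c
    have h := clSub_shortExact P₁ _ (shortExact_kernel (cv.π A)) (Q.mem₁ H k) (H.hle _ c) hA.1
    dsimp at h
    rw [e_succ, map_sub, hφ _ c, ih k, h]
    abel

include cv in
/-- If every object of `P₁` has finite (strong) resolution dimension, then `K₀(P₀) → K₀(P₁)` is
bijective. -/
theorem bijective_of_exhaustive (hex : ∀ A, P₁ A → ∃ n, Q P₀ P₁ n A)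
    (φ : KZero.K0sub P₀ →+ KZero.K0sub P₁)
    (hφ : ∀ A, P₀ A → φ (KZero.clSub P₀ A) = KZero.clSub P₁ A) : Function.Bijective φ := by
  classical
  let E : C → KZero.K0sub P₀ :=
    fun A => if h : ∃ n, Q P₀ P₁ n A then e cv (Classical.choose h) A else 0
  have hE : ∀ n A, Q P₀ P₁ n A → E A = e cv n A := by
    intro n A hA
    have h : ∃ n, Q P₀ P₁ n A := ⟨n, hA⟩
    simp only [E, dif_pos h]
    exact e_eq H cv (Classical.choose_spec h) hA
  let ψ₀ : Subtype P₁ → KZero.K0sub P₀ := fun A => E A.1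
  have hrel : KZero.relSub P₁ ≤ (FreeAbelianGroup.lift ψ₀).ker := by
    rw [KZero.relSub, AddSubgroup.closure_le]
    rintro x ⟨S, h₁, h₂, h₃, hS, rfl⟩
    obtain ⟨n₁, q₁⟩ := hex _ h₁
    obtain ⟨n₂, q₂⟩ := hex _ h₂
    obtain ⟨n₃, q₃⟩ := hex _ h₃
    have q₁' : Q P₀ P₁ (max n₁ (max n₂ n₃)) S.X₁ := Q.mono H (le_max_left _ _) q₁
    have q₂' : Q P₀ P₁ (max n₁ (max n₂ n₃)) S.X₂ :=
      Q.mono H ((le_max_left _ _).trans (le_max_right _ _)) q₂
    have q₃' : Q P₀ P₁ (max n₁ (max n₂ n₃)) S.X₃ :=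
      Q.mono H ((le_max_right _ _).trans (le_max_right _ _)) q₃
    rw [SetLike.mem_coe, AddMonoidHom.mem_ker, map_sub, map_sub, FreeAbelianGroup.lift_apply_of,
      FreeAbelianGroup.lift_apply_of, FreeAbelianGroup.lift_apply_of]
    change E S.X₂ - E S.X₁ - E S.X₃ = 0
    rw [hE _ _ q₁', hE _ _ q₂', hE _ _ q₃', e_add H cv _ S hS q₁' q₂' q₃']
    abel
  let ψ : KZero.K0sub P₁ →+ KZero.K0sub P₀ :=
    QuotientAddGroup.lift (KZero.relSub P₁) (FreeAbelianGroup.lift ψ₀) hrel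
  have hψ : ∀ A (_ : P₁ A), ψ (KZero.clSub P₁ A) = E A := by
    intro A h
    rw [clSub_of_mem P₁ h]
    change (FreeAbelianGroup.lift ψ₀) (FreeAbelianGroup.of ⟨A, h⟩) = E A
    rw [FreeAbelianGroup.lift_apply_of]
  have h1 : ∀ x, ψ (φ x) = x := by
    intro x
    refine K0sub_induction P₀ (motive := fun x => ψ (φ x) = x) x ?_ ?_ ?_ ?_
    · simp
    · intro A hA
      rw [hφ A hA, hψ A (H.hle A hA), hE 0 A hA]
      rfl
    · intro y hy
      rw [map_neg, map_neg, hy]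
    · intro y z hy hz
      rw [map_add, map_add, hy, hz]
  have h2 : ∀ y, φ (ψ y) = y := by
    intro y
    refine K0sub_induction P₁ (motive := fun y => φ (ψ y) = y) y ?_ ?_ ?_ ?_
    · simp
    · intro A hA
      obtain ⟨n, q⟩ := hex A hA
      rw [hψ A hA, hE n A q, map_e H cv φ hφ n q]
    · intro y hy
      rw [map_neg, map_neg, hy]
    · intro y z hy hz
      rw [map_add, map_add, hy, hz]
  exact Function.bijective_iff_has_inverse.2 ⟨ψ, h1, h2⟩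

end Groth.Agent.Lib.H43K0ResE
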