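import Groth.Agent.Lib.H43K0ResA
import Mathlib.CategoryTheory.ObjectProperty.ClosedUnderIsomorphisms

/-!
# The filtration of `P₁` by (strong) `P₀`-resolution dimension (for S3200)

`Q P₀ P₁ 0 = P₀`; `Q P₀ P₁ (n+1) A` says that `A` is in `P₁` and that the kernel of every
epimorphism `L → A` with `L` in `P₀` is in `Q P₀ P₁ n`.
-/

namespace Groth.Agent.Lib.H43K0ResQ

open CategoryTheory CategoryTheory.Limits Groth.Agent.Lib.H43K0ResA

universe v u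

set_option linter.style.haveILetI false
set_option linter.unusedSectionVars false

variable {C : Type u} [Category.{v} C] [Abelian C]

/-- The hypotheses of the resolution theorem (without the finiteness hypothesis). -/
structure Hyp (P₀ P₁ : ObjectProperty C) : Prop where
  hle : ∀ X, P₀ X → P₁ X
  hext₀ : ∀ S : ShortComplex C, S.ShortExact → P₀ S.X₁ → P₀ S.X₃ → P₀ S.X₂
  hext₁ : ∀ S : ShortComplex C, S.ShortExact → P₁ S.X₁ → P₁ S.X₃ → P₁ S.X₂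
  h1₀ : ∀ S : ShortComplex C, S.ShortExact → P₀ S.X₂ → P₀ S.X₃ → P₀ S.X₁
  h1₁ : ∀ S : ShortComplex C, S.ShortExact → P₁ S.X₂ → P₁ S.X₃ → P₁ S.X₁

/-- A choice of `P₀`-covers: an epimorphism `cov A ⟶ A` for every `A`, with `cov A` in `P₀`
whenever `A` is in `P₁`. -/
structure Cover (P₀ P₁ : ObjectProperty C) where
  cov : C → C
  π : ∀ A, cov A ⟶ A
  epi : ∀ A, Epi (π A)
  mem : ∀ A, P₁ A → P₀ (cov A)

lemma nonempty_cover (P₀ P₁ : ObjectProperty C)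
    (h2 : ∀ (A B D : C) (u : A ⟶ B) (v : D ⟶ B), Epi u → P₁ A → P₁ B → P₁ D →
      ∃ (L : C) (u' : L ⟶ D) (v' : L ⟶ A), P₀ L ∧ Epi u' ∧ u' ≫ v = v' ≫ u) :
    Nonempty (Cover P₀ P₁) := by
  classical
  have H : ∀ A : C, ∃ (L : C) (π : L ⟶ A), Epi π ∧ (P₁ A → P₀ L) := by
    intro A
    by_cases hA : P₁ A
    · obtain ⟨L, u', _, hL, hu', -⟩ := h2 A A A (𝟙 A) (𝟙 A) inferInstance hA hA hA
      exact ⟨L, u', hu', fun _ => hL⟩
    · exact ⟨A, 𝟙 A, inferInstance, fun h => absurd h hA⟩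
  choose cov π h using H
  exact ⟨⟨cov, π, fun A => (h A).1, fun A => (h A).2⟩⟩

/-- The filtration by resolution dimension. -/
def Q (P₀ P₁ : ObjectProperty C) : ℕ → C → Prop
  | 0 => fun A => P₀ A
  | n + 1 => fun A => P₁ A ∧ ∀ (K L : C) (i : K ⟶ L) (p : L ⟶ A) (w : i ≫ p = 0),
      (ShortComplex.mk i p w).ShortExact → P₀ L → Q P₀ P₁ n K

variable {P₀ P₁ : ObjectProperty C}

lemma Q_zero (A : C) : Q P₀ P₁ 0 A ↔ P₀ A := Iff.rfl

lemma Q_succ (n : ℕ) (A : C) : Q P₀ P₁ (n + 1) A ↔ (P₁ A ∧ ∀ (K L : C) (i : K ⟶ L) (p : L ⟶ A)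
    (w : i ≫ p = 0), (ShortComplex.mk i p w).ShortExact → P₀ L → Q P₀ P₁ n K) := Iff.rfl

lemma Q.ker {n : ℕ} {A : C} (h : Q P₀ P₁ (n + 1) A) {S : ShortComplex C} (hS : S.ShortExact)
    (e : S.X₃ = A) (hL : P₀ S.X₂) : Q P₀ P₁ n S.X₁ := by
  subst e
  exact h.2 S.X₁ S.X₂ S.f S.g S.zero hS hL

variable (H : Hyp P₀ P₁)
include H

lemma Q.succ {n : ℕ} {A : C} (h : Q P₀ P₁ n A) : Q P₀ P₁ (n + 1) A := by
  induction n generalizing A with
  | zero => exact ⟨H.hle A h, fun K L i p w hS hL => H.h1₀ _ hS hL h⟩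
  | succ n ih => exact ⟨h.1, fun K L i p w hS hL => ih (h.2 K L i p w hS hL)⟩

lemma Q.mono {n m : ℕ} (hnm : n ≤ m) {A : C} (h : Q P₀ P₁ n A) : Q P₀ P₁ m A := by
  induction hnm with
  | refl => exact h
  | step _ ih => exact Q.succ H ih

lemma Q.of_mem₀ (n : ℕ) {A : C} (h : P₀ A) : Q P₀ P₁ n A :=
  Q.mono H (Nat.zero_le n) h

lemma Q.mem₁ {n : ℕ} {A : C} (h : Q P₀ P₁ n A) : P₁ A := by
  cases n with
  | zero => exact H.hle A h
  | succ n => exact h.1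

/-- Simultaneous induction: (kernels) for a short exact sequence with middle term in `Q n` and
right term in `Q (n+1)`, the left term is in `Q n`; (extensions) `Q n` is stable under
extensions. -/
lemma Q.ker_ext (cv : Cover P₀ P₁) (n : ℕ) :
    (∀ S : ShortComplex C, S.ShortExact → Q P₀ P₁ n S.X₂ → Q P₀ P₁ (n + 1) S.X₃ →
      Q P₀ P₁ n S.X₁) ∧
    (∀ S : ShortComplex C, S.ShortExact → Q P₀ P₁ n S.X₁ → Q P₀ P₁ n S.X₃ →
      Q P₀ P₁ n S.X₂) := by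
  induction n with
  | zero =>
    exact ⟨fun S hS h₂ h₃ => h₃.2 S.X₁ S.X₂ S.f S.g S.zero hS h₂, H.hext₀⟩
  | succ n ih =>
    obtain ⟨ihK, ihE⟩ := ih
    constructor
    · intro S hS h₂ h₃
      refine ⟨H.h1₁ S hS (Q.mem₁ H h₂) (Q.mem₁ H h₃), ?_⟩
      intro ZK LK iK r wK hK hLK
      -- a cover of the middle term
      haveI := cv.epi S.X₂
      have hLB : P₀ (cv.cov S.X₂) := cv.mem _ (Q.mem₁ H h₂)
      obtain ⟨ZA, j', a, b, w₃, w₄, hA, hab⟩ := ker_comp (kernel.ι (cv.π S.X₂)) (cv.π S.X₂) S.f S.g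
        (kernel.condition _) S.zero (shortExact_kernel _) hS
      have hZB : Q P₀ P₁ n (kernel (cv.π S.X₂)) :=
        h₂.2 _ _ _ _ _ (shortExact_kernel (cv.π S.X₂)) hLB
      have hZA : Q P₀ P₁ (n + 1) ZA := h₃.2 _ _ _ _ _ hA hLB
      -- the pullback of `b : ZA → S.X₁` and `r : LK → S.X₁`
      have hpb : IsPullback (pullback.fst b r) (pullback.snd b r) b r := IsPullback.of_hasPullback b r
      obtain ⟨l₁, w₁, hl₁⟩ := pb_shortExact hpb iK wK hK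
      obtain ⟨l₂, w₂, hl₂⟩ := pb_shortExact hpb.flip a w₄ hab
      have hM : Q P₀ P₁ n (pullback b r) := ihE _ hl₂ hZB (Q.of_mem₀ H n hLK)
      exact ihK _ hl₁ hM hZA
    · intro S hS h₁ h₃
      refine ⟨H.hext₁ S hS (Q.mem₁ H h₁) (Q.mem₁ H h₃), ?_⟩
      intro K L i p w hK hL
      obtain ⟨Z', j', a, b, w₃, w₄, hA, hab⟩ := ker_comp i p S.f S.g w S.zero hK hS
      have hZ' : Q P₀ P₁ n Z' := h₃.2 _ _ _ _ _ hA hL
      exact ihK _ hab hZ' h₁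

lemma Q.ext (cv : Cover P₀ P₁) {n : ℕ} {S : ShortComplex C} (hS : S.ShortExact)
    (h₁ : Q P₀ P₁ n S.X₁) (h₃ : Q P₀ P₁ n S.X₃) : Q P₀ P₁ n S.X₂ :=
  (Q.ker_ext H cv n).2 S hS h₁ h₃

end Groth.Agent.Lib.H43K0ResQ
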