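import Groth.Prelude.Def_KZero
import Mathlib.CategoryTheory.Triangulated.Pretriangulated

/-!
# Basic relations in `KZero.K0tr Q` (K₀ of a class of objects of a pretriangulated category)
-/

namespace Groth.Agent.Lib.H43K0Tr

open CategoryTheory CategoryTheory.Limits CategoryTheory.Pretriangulated ZeroObject

universe v u

variable {D : Type u} [Category.{v} D] [Preadditive D] [HasZeroObject D] [HasShift D ℤ]
  [∀ n : ℤ, (shiftFunctor D n).Additive] [Pretriangulated D] (Q : ObjectProperty D)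

theorem clTr_of_mem {X : D} (h : Q X) :
    KZero.clTr Q X = QuotientAddGroup.mk (FreeAbelianGroup.of ⟨X, h⟩) := by
  unfold KZero.clTr
  rw [dif_pos h]

/-- The defining relation of `K0tr`. -/
theorem clTr_triangle (T : Triangle D) (hT : T ∈ distTriang D) (h₁ : Q T.obj₁) (h₂ : Q T.obj₂)
    (h₃ : Q T.obj₃) : KZero.clTr Q T.obj₂ = KZero.clTr Q T.obj₁ + KZero.clTr Q T.obj₃ := by
  rw [clTr_of_mem Q h₁, clTr_of_mem Q h₂, clTr_of_mem Q h₃]
  have hmem : (FreeAbelianGroup.of ⟨T.obj₂, h₂⟩ - FreeAbelianGroup.of ⟨T.obj₁, h₁⟩ -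
      FreeAbelianGroup.of ⟨T.obj₃, h₃⟩ : FreeAbelianGroup (Subtype Q)) ∈ KZero.relTr Q :=
    AddSubgroup.subset_closure ⟨T, h₁, h₂, h₃, hT, rfl⟩
  have h0 := (QuotientAddGroup.eq_zero_iff _).mpr hmem
  rw [QuotientAddGroup.mk_sub, QuotientAddGroup.mk_sub, sub_sub, sub_eq_zero] at h0
  exact h0

theorem clTr_zero (h0 : Q (0 : D)) : KZero.clTr Q (0 : D) = 0 := by
  have h := clTr_triangle Q _ (contractible_distinguished (0 : D)) h0 h0 h0
  simp only [contractibleTriangle, Triangle.mk_obj₁, Triangle.mk_obj₂, Triangle.mk_obj₃] at h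
  exact (add_eq_left.mp h.symm)

theorem clTr_iso {X Y : D} (e : X ≅ Y) (hX : Q X) (hY : Q Y) (h0 : Q (0 : D)) :
    KZero.clTr Q X = KZero.clTr Q Y := by
  have hd : Triangle.mk e.hom (0 : Y ⟶ (0 : D)) 0 ∈ distTriang D := by
    refine isomorphic_distinguished _ (contractible_distinguished X) _ ?_
    exact Triangle.isoMk _ _ (Iso.refl X) e.symm (Iso.refl (0 : D))
      (by change e.hom ≫ e.inv = 𝟙 X ≫ 𝟙 X; rw [e.hom_inv_id, Category.id_comp])
      (by change (0 : Y ⟶ (0 : D)) ≫ 𝟙 _ = e.inv ≫ (0 : X ⟶ (0 : D)); rw [comp_zero, zero_comp])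
      (by
        change (0 : (0 : D) ⟶ X⟦(1 : ℤ)⟧) ≫ _ = 𝟙 _ ≫ (0 : (0 : D) ⟶ X⟦(1 : ℤ)⟧)
        rw [zero_comp, comp_zero])
  have h := clTr_triangle Q _ hd hX hY h0
  simp only [Triangle.mk_obj₁, Triangle.mk_obj₂, Triangle.mk_obj₃] at h
  rw [clTr_zero Q h0, add_zero] at h
  exact h.symm

theorem clTr_shift_one (X : D) (hX : Q X) (hX1 : Q (X⟦(1 : ℤ)⟧)) (h0 : Q (0 : D)) :
    KZero.clTr Q (X⟦(1 : ℤ)⟧) = - KZero.clTr Q X := by
  have h := clTr_triangle Q _ (contractible_distinguished₂ X) hX h0 hX1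
  simp only [Triangle.mk_obj₁, Triangle.mk_obj₂, Triangle.mk_obj₃] at h
  rw [clTr_zero Q h0] at h
  exact (neg_eq_of_add_eq_zero_right h.symm).symm

/-- Induction principle for `K0tr`. -/
theorem K0tr_induction {motive : KZero.K0tr Q → Prop} (x : KZero.K0tr Q)
    (zero : motive 0) (cl : ∀ (X : D), Q X → motive (KZero.clTr Q X))
    (neg : ∀ y, motive y → motive (-y))
    (add : ∀ y z, motive y → motive z → motive (y + z)) : motive x := by
  obtain ⟨y, rfl⟩ := QuotientAddGroup.mk_surjective x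
  induction y using FreeAbelianGroup.induction_on with
  | zero => exact zero
  | of X =>
    have := cl X.1 X.2
    rwa [clTr_of_mem Q X.2] at this
  | neg X h => exact neg _ h
  | add y z hy hz => exact add _ _ hy hz

end Groth.Agent.Lib.H43K0Tr
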