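import Groth.Agent.Lib.H43ExtCompareCentral
import Mathlib.Algebra.Homology.DerivedCategory.Ext.ExactSequences

/-!
# Local-to-global comparison of `Ext` in low degrees: abstract dimension shifting (helper43)

`U : ℬ ⥤ 𝒜` exact, `A : 𝒜`, `h^q(N) = Ext^q(A, U N)`.  `Pgen Z m F B N` : there is an additive isomorphism
`Ext^m_ℬ(F, B) ≃+ h^0(N)` compatible with the action of the central endomorphisms `z ∈ Z`.

* `Pgen.of_iso`, `Pgen.shift` (dimension shifting along a short exact sequence `0 → R → E → F → 0`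
  with `Ext^m(E, B) = Ext^{m+1}(E, B) = 0`), `Pgen.one` (the degree one case from a four term exact sequence
  `0 → H_F → H_E → H_R → W → 0` on which `h^0` is exact).
-/

universe w w' v v' u u'

open CategoryTheory Limits Opposite Abelian

set_option linter.unusedSectionVars false

namespace Groth.Agent.Lib.H43LocGlobAbs

variable {𝒜 : Type u} [Category.{v} 𝒜] [Abelian 𝒜] [HasExt.{w} 𝒜]
  {ℬ : Type u'} [Category.{v'} ℬ] [Abelian ℬ]
  (U : ℬ ⥤ 𝒜) (A : 𝒜)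

/-- the map induced on `Ext^q(A, U -)` -/
noncomputable def hMap {N N' : ℬ} (f : N ⟶ N') (q : ℕ) :
    Ext.{w} A (U.obj N) q →+ Ext.{w} A (U.obj N') q :=
  (Ext.mk₀ (U.map f)).postcomp A (add_zero q)

lemma hMap_apply {N N' : ℬ} (f : N ⟶ N') (q : ℕ) (x : Ext.{w} A (U.obj N) q) :
    hMap U A f q x = x.comp (Ext.mk₀ (U.map f)) (add_zero q) := rfl

lemma hMap_comp {N N' N'' : ℬ} (f : N ⟶ N') (g : N' ⟶ N'') (q : ℕ) (x : Ext.{w} A (U.obj N) q) :
    hMap U A (f ≫ g) q x = hMap U A g q (hMap U A f q x) := by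
  rw [hMap_apply, hMap_apply, hMap_apply, Ext.comp_assoc_of_third_deg_zero, Ext.mk₀_comp_mk₀,
    U.map_comp]

lemma hMap_id {N : ℬ} (q : ℕ) (x : Ext.{w} A (U.obj N) q) : hMap U A (𝟙 N) q x = x := by
  rw [hMap_apply, U.map_id, Ext.comp_mk₀_id]

/-- the additive equivalence induced by an isomorphism -/
noncomputable def hEquiv {N N' : ℬ} (i : N ≅ N') (q : ℕ) :
    Ext.{w} A (U.obj N) q ≃+ Ext.{w} A (U.obj N') q :=
  { hMap U A i.hom q with
    invFun := hMap U A i.inv q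
    left_inv := fun x => by
      change hMap U A i.inv q (hMap U A i.hom q x) = x
      rw [← hMap_comp, i.hom_inv_id, hMap_id]
    right_inv := fun x => by
      change hMap U A i.hom q (hMap U A i.inv q x) = x
      rw [← hMap_comp, i.inv_hom_id, hMap_id] }

lemma hEquiv_apply {N N' : ℬ} (i : N ≅ N') (q : ℕ) (x : Ext.{w} A (U.obj N) q) :
    hEquiv U A i q x = hMap U A i.hom q x := rfl

section P

variable [HasExt.{w'} ℬ]

/-- compatibility with central endomorphisms -/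
def Pgen (Z : Set (𝟭 ℬ ⟶ 𝟭 ℬ)) (m : ℕ) (F B N : ℬ) : Prop :=
  ∃ e : Ext.{w'} F B m ≃+ Ext.{w} A (U.obj N) 0, ∀ z ∈ Z, ∀ x : Ext.{w'} F B m,
    e (x.comp (Ext.mk₀ (z.app B)) (add_zero m)) = hMap U A (z.app N) 0 (e x)

variable {U A}

theorem Pgen.of_iso {Z : Set (𝟭 ℬ ⟶ 𝟭 ℬ)} {m : ℕ} {F B N N' : ℬ} (h : Pgen U A Z m F B N)
    (i : N ≅ N') : Pgen U A Z m F B N' := by
  obtain ⟨e, he⟩ := h
  refine ⟨e.trans (hEquiv U A i 0), fun z hz x => ?_⟩
  simp only [AddEquiv.trans_apply, hEquiv_apply]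
  rw [he z hz x, ← hMap_comp, ← hMap_comp]
  have := z.naturality i.hom
  simp only [Functor.id_map] at this
  rw [this]

/-- **dimension shifting** -/
theorem Pgen.shift {Z : Set (𝟭 ℬ ⟶ 𝟭 ℬ)} {S : ShortComplex ℬ} (hS : S.ShortExact) (B : ℬ) (m : ℕ)
    (h1 : Subsingleton (Ext.{w'} S.X₂ B m)) (h2 : Subsingleton (Ext.{w'} S.X₂ B (m + 1)))
    {N : ℬ} (h : Pgen U A Z m S.X₁ B N) : Pgen U A Z (m + 1) S.X₃ B N := by
  obtain ⟨e, he⟩ := h
  have hm : 1 + m = m + 1 := by omega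
  let δ : Ext.{w'} S.X₁ B m →+ Ext.{w'} S.X₃ B (m + 1) := hS.extClass.precomp B hm
  have hδ : ∀ x, δ x = hS.extClass.comp x hm := fun x => rfl
  have hinj : Function.Injective δ := by
    rw [injective_iff_map_eq_zero]
    intro x hx
    obtain ⟨x₂, rfl⟩ := Ext.contravariant_sequence_exact₁ hS B x hm hx
    rw [Subsingleton.elim x₂ 0, Ext.comp_zero]
  have hsurj : Function.Surjective δ := by
    intro x₃
    exact Ext.contravariant_sequence_exact₃ hS B x₃ (Subsingleton.elim _ _) hm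
  let δe : Ext.{w'} S.X₁ B m ≃+ Ext.{w'} S.X₃ B (m + 1) := AddEquiv.ofBijective δ ⟨hinj, hsurj⟩
  refine ⟨δe.symm.trans e, fun z hz x => ?_⟩
  obtain ⟨y, rfl⟩ := hsurj x
  have e1 : δe.symm (δ y) = y := δe.symm_apply_apply y
  have e2 : (δ y).comp (Ext.mk₀ (z.app B)) (add_zero (m + 1)) =
      δ (y.comp (Ext.mk₀ (z.app B)) (add_zero m)) := by
    rw [hδ, hδ, Ext.comp_assoc_of_third_deg_zero]
  have e3 : δe.symm (δ (y.comp (Ext.mk₀ (z.app B)) (add_zero m))) =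
      y.comp (Ext.mk₀ (z.app B)) (add_zero m) := δe.symm_apply_apply _
  simp only [AddEquiv.trans_apply]
  rw [e2, e3, e1, he z hz y]

end P

section GammaExact

variable {U A}

variable [U.Additive] [PreservesFiniteLimits U] [PreservesFiniteColimits U]

lemma cov₂ {S : ShortComplex ℬ} (hS : S.ShortExact) {n : ℕ} (x₂ : Ext.{w} A (U.obj S.X₂) n)
    (h : hMap U A S.g n x₂ = 0) : ∃ x₁ : Ext.{w} A (U.obj S.X₁) n, hMap U A S.f n x₁ = x₂ :=
  Ext.covariant_sequence_exact₂ A (hS.map_of_exact U) x₂ h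

lemma cov₃ {S : ShortComplex ℬ} (hS : S.ShortExact) {n : ℕ} (x₃ : Ext.{w} A (U.obj S.X₃) n)
    (hv : Subsingleton (Ext.{w} A (U.obj S.X₁) (n + 1))) :
    ∃ x₂ : Ext.{w} A (U.obj S.X₂) n, hMap U A S.g n x₂ = x₃ :=
  Ext.covariant_sequence_exact₃ A (hS.map_of_exact U) x₃ rfl (@Subsingleton.elim _ hv _ _)

/-- `h^0` is exact on a four term exact sequence `0 → H_F → H_E → H_R → W → 0` when
`h^1(H_F) = h^2(H_F) = h^1(H_E) = 0`. -/
theorem gamma_exact {H_F H_E H_R W : ℬ} (a : H_F ⟶ H_E) (β : H_E ⟶ H_R) (q : H_R ⟶ W) [Mono a] [Epi q]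
    (w₁ : a ≫ β = 0) (w₂ : β ≫ q = 0) (ex₁ : (ShortComplex.mk a β w₁).Exact)
    (ex₂ : (ShortComplex.mk β q w₂).Exact)
    (v1 : Subsingleton (Ext.{w} A (U.obj H_F) 1)) (v2 : Subsingleton (Ext.{w} A (U.obj H_F) 2))
    (v3 : Subsingleton (Ext.{w} A (U.obj H_E) 1)) :
    Function.Surjective (hMap U A q 0) ∧
      ∀ y : Ext.{w} A (U.obj H_R) 0, hMap U A q 0 y = 0 → ∃ x, hMap U A β 0 x = y := by
  let K := kernel q
  let β' : H_E ⟶ K := kernel.lift q β w₂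
  have hβ' : β' ≫ kernel.ι q = β := kernel.lift_ι _ _ _
  have hepi : Epi β' := (ShortComplex.exact_iff_epi_kernel_lift _).1 ex₂
  have w₁' : a ≫ β' = 0 := by
    rw [← cancel_mono (kernel.ι q), Category.assoc, hβ', w₁, zero_comp]
  let S₁ : ShortComplex ℬ := ShortComplex.mk a β' w₁'
  let S₂ : ShortComplex ℬ := ShortComplex.mk (kernel.ι q) q (kernel.condition q)
  have hS₂ : S₂.ShortExact :=
    { exact := ShortComplex.exact_of_f_is_kernel _ (kernelIsKernel q)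
      mono_f := inferInstanceAs (Mono (kernel.ι q))
      epi_g := inferInstanceAs (Epi q) }
  have hS₁ : S₁.ShortExact := by
    let φ : S₁ ⟶ ShortComplex.mk a β w₁ :=
      { τ₁ := 𝟙 _
        τ₂ := 𝟙 _
        τ₃ := kernel.ι q
        comm₁₂ := by simp [S₁]
        comm₂₃ := by simp [S₁, hβ'] }
    have : Epi φ.τ₁ := inferInstanceAs (Epi (𝟙 _))
    have : IsIso φ.τ₂ := inferInstanceAs (IsIso (𝟙 _))
    have : Mono φ.τ₃ := inferInstanceAs (Mono (kernel.ι q))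
    exact { exact := (ShortComplex.exact_iff_of_epi_of_isIso_of_mono φ).2 ex₁
            mono_f := inferInstanceAs (Mono a)
            epi_g := hepi }
  -- `h^1(K) = 0`
  have hK : Subsingleton (Ext.{w} A (U.obj K) 1) := by
    refine ⟨fun κ κ' => ?_⟩
    have h0 : ∀ κ : Ext.{w} A (U.obj K) 1, κ = 0 := by
      intro κ
      obtain ⟨x, hx⟩ : ∃ x : Ext.{w} A (U.obj H_E) 1, hMap U A β' 1 x = κ := cov₃ hS₁ κ v2
      have hx0 : x = 0 := @Subsingleton.elim _ v3 _ _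
      rw [← hx, hx0, map_zero]
    rw [h0 κ, h0 κ']
  refine ⟨fun y => ?_, fun y hy => ?_⟩
  · exact cov₃ hS₂ y hK
  · obtain ⟨κ, hκ⟩ : ∃ κ : Ext.{w} A (U.obj K) 0, hMap U A (kernel.ι q) 0 κ = y := cov₂ hS₂ y hy
    obtain ⟨x, hx⟩ : ∃ x : Ext.{w} A (U.obj H_E) 0, hMap U A β' 0 x = κ := cov₃ hS₁ κ v1
    refine ⟨x, ?_⟩
    rw [← hκ, ← hx, ← hMap_comp, hβ']

end GammaExact

section One

variable {U A} [HasExt.{w'} ℬ]

variable [U.Additive] [PreservesFiniteLimits U] [PreservesFiniteColimits U]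

/-- **the degree one case** -/
theorem Pgen.one {Z : Set (𝟭 ℬ ⟶ 𝟭 ℬ)} {S : ShortComplex ℬ} (hS : S.ShortExact) (B : ℬ)
    (h1 : Subsingleton (Ext.{w'} S.X₂ B 1))
    {H_F H_E H_R W : ℬ} (a : H_F ⟶ H_E) (β : H_E ⟶ H_R) (q : H_R ⟶ W) [Mono a] [Epi q]
    (w₁ : a ≫ β = 0) (w₂ : β ≫ q = 0) (ex₁ : (ShortComplex.mk a β w₁).Exact)
    (ex₂ : (ShortComplex.mk β q w₂).Exact)
    (v1 : Subsingleton (Ext.{w} A (U.obj H_F) 1)) (v2 : Subsingleton (Ext.{w} A (U.obj H_F) 2))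
    (v3 : Subsingleton (Ext.{w} A (U.obj H_E) 1))
    (e_E : Ext.{w'} S.X₂ B 0 ≃+ Ext.{w} A (U.obj H_E) 0)
    (e_R : Ext.{w'} S.X₁ B 0 ≃+ Ext.{w} A (U.obj H_R) 0)
    (nat : ∀ x : Ext.{w'} S.X₂ B 0,
      e_R ((Ext.mk₀ S.f).comp x (zero_add 0)) = hMap U A β 0 (e_E x))
    (compat : ∀ z ∈ Z, ∀ x : Ext.{w'} S.X₁ B 0,
      e_R (x.comp (Ext.mk₀ (z.app B)) (add_zero 0)) = hMap U A (z.app H_R) 0 (e_R x)) :
    Pgen U A Z 1 S.X₃ B W := by
  obtain ⟨hsurj', hker'⟩ := gamma_exact (U := U) (A := A) a β q w₁ w₂ ex₁ ex₂ v1 v2 v3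
  have hm : 1 + 0 = 1 := rfl
  let δ : Ext.{w'} S.X₁ B 0 →+ Ext.{w'} S.X₃ B 1 := hS.extClass.precomp B hm
  have hδ : ∀ x, δ x = hS.extClass.comp x hm := fun x => rfl
  have hsurj : Function.Surjective δ := fun x₃ =>
    Ext.contravariant_sequence_exact₃ hS B x₃ (Subsingleton.elim _ _) hm
  have hiff : ∀ x, δ x = 0 ↔ hMap U A q 0 (e_R x) = 0 := by
    intro x
    constructor
    · intro hx
      obtain ⟨x₂, rfl⟩ := Ext.contravariant_sequence_exact₁ hS B x hm hx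
      rw [nat, ← hMap_comp, w₂, hMap_apply, U.map_zero, Ext.mk₀_zero, Ext.comp_zero]
    · intro hx
      obtain ⟨y, hy⟩ := hker' _ hx
      obtain ⟨x₂, rfl⟩ := e_E.surjective y
      rw [← nat] at hy
      rw [← e_R.injective hy, hδ]
      exact hS.extClass_comp_assoc x₂
  obtain ⟨ε, hε⟩ := Groth.Agent.Lib.H43ExtCompareCentral.exists_addEquiv_of_surjective δ
    (hMap U A q 0) hsurj hsurj' e_R hiff
  refine ⟨ε, fun z hz x => ?_⟩
  obtain ⟨m, rfl⟩ := hsurj x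
  have e2 : (δ m).comp (Ext.mk₀ (z.app B)) (add_zero 1) =
      δ (m.comp (Ext.mk₀ (z.app B)) (add_zero 0)) := by
    rw [hδ, hδ, Ext.comp_assoc_of_third_deg_zero]
  rw [e2, hε, hε, compat z hz m, ← hMap_comp, ← hMap_comp]
  have := z.naturality q
  simp only [Functor.id_map] at this
  rw [this]

end One

end Groth.Agent.Lib.H43LocGlobAbs
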