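import Groth.Agent.Lib.H4TwistFrac
import Mathlib.Tactic.Positivity

/-!
# `Proj`: homogeneous basic opens and common degrees on quasi-compact subsets (helper4)

* `exists_pos_notMem` : every point of `Proj 𝒜` avoids a homogeneous element of positive degree;
* `exists_pos_basicOpen_le` : homogeneous basic opens of positive degree form a basis;
* `exists_common_degree` : on a compact subset, homogeneous elements of positive degrees (with a property of their
  basic opens) can be replaced by powers of one common degree `d > 0`.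
-/

set_option autoImplicit false
universe u
open CategoryTheory AlgebraicGeometry TopologicalSpace Opposite Twist

namespace Groth.Agent.Lib.H4Twist

variable {R A : Type u} [CommRing R] [CommRing A] [Algebra R A] (𝒜 : ℕ → Submodule R A) [GradedAlgebra 𝒜]

theorem exists_pos_notMem (x : ProjectiveSpectrum 𝒜) :
    ∃ e : ℕ, 0 < e ∧ ∃ f ∈ 𝒜 e, f ∉ x.asHomogeneousIdeal := by
  by_contra H
  simp only [not_exists, not_and, not_not] at H
  apply x.not_irrelevant_le
  rw [HomogeneousIdeal.irrelevant_le]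
  intro i hi f hf
  exact H i hi f hf

/-- Homogeneous basic opens of positive degree form a basis of `Proj 𝒜`. -/
theorem exists_pos_basicOpen_le (Y : (Proj 𝒜).Opens) (y : Proj 𝒜) (hy : y ∈ Y) :
    ∃ e : ℕ, 0 < e ∧ ∃ f ∈ 𝒜 e, f ∉ (y : ProjectiveSpectrum 𝒜).asHomogeneousIdeal ∧
      Proj.basicOpen 𝒜 f ≤ Y := by
  obtain ⟨_, ⟨f', rfl⟩, hyf', hf'Y⟩ :=
    TopologicalSpace.Opens.isBasis_iff_nbhd.mp (Proj.isBasis_basicOpen 𝒜) hy
  rw [Proj.basicOpen_eq_iSup_proj] at hyf' hf'Y
  obtain ⟨i, hi⟩ := TopologicalSpace.Opens.mem_iSup.mp hyf'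
  have hiY : Proj.basicOpen 𝒜 (GradedRing.proj 𝒜 i f') ≤ Y := (le_iSup _ i).trans hf'Y
  have himem : GradedRing.proj 𝒜 i f' ∈ 𝒜 i := by
    rw [GradedRing.proj_apply]; exact SetLike.coe_mem _
  by_cases hi0 : 0 < i
  · exact ⟨i, hi0, _, himem, hi, hiY⟩
  · obtain ⟨e, he, h, hhe, hhy⟩ := exists_pos_notMem 𝒜 y
    refine ⟨i + e, by omega, GradedRing.proj 𝒜 i f' * h, SetLike.mul_mem_graded himem hhe, ?_, ?_⟩
    · intro hmem
      rcases (y : ProjectiveSpectrum 𝒜).isPrime.mem_or_mem hmem with h1 | h1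
      · exact hi h1
      · exact hhy h1
    · rw [Proj.basicOpen_mul]
      exact inf_le_left.trans hiY

/-- On a compact subset of `Proj 𝒜`, homogeneous elements of positive degree (with a property `P` of their basic
opens) can be replaced by elements of one common positive degree. -/
theorem exists_common_degree (K : Set (Proj 𝒜)) (hK : IsCompact K) (P : (Proj 𝒜).Opens → Prop)
    (h : ∀ y ∈ K, ∃ e : ℕ, 0 < e ∧ ∃ f ∈ 𝒜 e,
      f ∉ (y : ProjectiveSpectrum 𝒜).asHomogeneousIdeal ∧ P (Proj.basicOpen 𝒜 f)) :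
    ∃ d : ℕ, 0 < d ∧ ∀ y ∈ K, ∃ g ∈ 𝒜 d,
      g ∉ (y : ProjectiveSpectrum 𝒜).asHomogeneousIdeal ∧ P (Proj.basicOpen 𝒜 g) := by
  classical
  choose! e he f hf hfy hP using h
  obtain ⟨t, htK, htfin, hcov⟩ := hK.elim_finite_subcover_image (b := K)
    (c := fun y => ((Proj.basicOpen 𝒜 (f y) : (Proj 𝒜).Opens) : Set (Proj 𝒜)))
    (fun y _ => (Proj.basicOpen 𝒜 (f y)).isOpen)
    (fun y hy => Set.mem_biUnion hy (hfy y hy))
  refine ⟨∏ y ∈ htfin.toFinset, e y, Finset.prod_pos fun y hy => he y (htK (htfin.mem_toFinset.mp hy)), ?_⟩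
  intro y' hy'
  obtain ⟨y, hyt, hy'y⟩ := Set.mem_iUnion₂.mp (hcov hy')
  have hyK : y ∈ K := htK hyt
  set d := ∏ y ∈ htfin.toFinset, e y with hd
  have hdvd : e y ∣ d := Finset.dvd_prod_of_mem e (htfin.mem_toFinset.mpr hyt)
  have hdpos : 0 < d := Finset.prod_pos fun y hy => he y (htK (htfin.mem_toFinset.mp hy))
  have hm : 0 < d / e y := Nat.div_pos (Nat.le_of_dvd hdpos hdvd) (he y hyK)
  have hmem : f y ^ (d / e y) ∈ 𝒜 d := by
    have := SetLike.pow_mem_graded (d / e y) (hf y hyK)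
    rwa [smul_eq_mul, Nat.div_mul_cancel hdvd] at this
  refine ⟨f y ^ (d / e y), hmem, ?_, ?_⟩
  · intro hmem'
    exact hy'y ((y' : ProjectiveSpectrum 𝒜).isPrime.mem_of_pow_mem _ hmem')
  · rw [Proj.basicOpen_pow 𝒜 (f y) _ hm]
    exact hP y hyK

end Groth.Agent.Lib.H4Twist
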