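import Groth.Agent.Lib.H4GenBy
import Groth.Agent.Lib.H4TwistUnit
import Groth.Agent.Lib.H4TwistCompact

/-!
# Twists on `Proj` of an algebra generated by homogeneous elements of positive degrees (helper4)

General part (any scheme, ns `Groth.Agent.Lib.H4TensorPair`):
* `Pairing.preHom_app_bijective_of_left`, `Pairing.isIso_hom_of_left`, `Pairing.isoOfLeft` : a pairing
  `β : L × L' → N` induces `L ⊗ L' ≅ N` as soon as locally `L` has a free generator `s` with `β(s, -)` bijective
  on all small opens (no hypothesis on `L'`).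

Twists (ns `Groth.Agent.Lib.H4Twist`):
* `twistMulIsoLeft 𝒜 d hcov a n : O(a d) ⊗ O(n) ≅ O(a d + n)` if `Proj 𝒜` is covered by `D₊(f)`, `f ∈ 𝒜 d`;
* `generatedBy_globalOf_of_cover`, `isAmple_twist_of_cover_deg` : `O(d)` is generated by `b/1`, `b ∈ 𝒜 d`, and ample
  (`d > 0`, `Proj` quasi-compact);
* `exists_notMem_of_adjoin` : if `A = R[f_1..f_s]`, `f_i` homogeneous of positive degree, every point of `Proj`
  avoids some `f_i`; `compactSpace_of_adjoin`; `exists_pow_notMem_of_adjoin` (common degree `a * lcm`).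
-/

set_option autoImplicit false
universe u
open CategoryTheory AlgebraicGeometry TopologicalSpace Opposite Twist MonoidalCategory
open Groth.Agent.Lib.H90Invertible Groth.Agent.Lib.H4TensorPair

namespace Groth.Agent.Lib.H4TensorPair

namespace Pairing

variable {X : Scheme.{u}} {L L' N : X.Modules} (β : Pairing L L' N)

theorem preHom_app_bijective_of_left {V : X.Opens} {s : Γ(L, V)} (hs : IsGen L V s)
    (hbij : ∀ (W : X.Opens) (hW : W ≤ V), Function.Bijective
      (fun b : Γ(L', W) => β.toFun W (L.presheaf.map (homOfLE hW).op s) b))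
    (W : X.Opens) (hW : W ≤ V) : Function.Bijective (β.preHom.app (op W)) := by
  set sW : Γ(L, W) := L.presheaf.map (homOfLE hW).op s with hsW
  let T : Γ(L', W) → (CohB1.tensorPre L L').obj (op W) := fun b =>
    (show (CohB1.toPMod L).obj (op W) from sW) ⊗ₜ (show (CohB1.toPMod L').obj (op W) from b)
  have hφ : ∀ z : (CohB1.tensorPre L L').obj (op W), ∃ b : Γ(L', W), z = T b := by
    intro z
    induction z using TensorProduct.induction_on with
    | zero => exact ⟨0, (TensorProduct.tmul_zero _ _).symm⟩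
    | tmul x y =>
      obtain ⟨a, rfl⟩ := (hs W hW).2 x
      let a' : ((X.sheaf.obj ⋙ forget₂ CommRingCat RingCat).obj (op W)) := a
      exact ⟨a • y, TensorProduct.smul_tmul a' _ _⟩
    | add z z' ih ih' =>
      obtain ⟨b, rfl⟩ := ih
      obtain ⟨b', rfl⟩ := ih'
      exact ⟨b + b', (TensorProduct.tmul_add _ _ _).symm⟩
  have hT : ∀ b, (β.preHom.app (op W)).hom (T b) = β.toFun W sW b := fun _ => rfl
  constructor
  · intro z z' hzz'
    obtain ⟨b, rfl⟩ := hφ z
    obtain ⟨b', rfl⟩ := hφ z'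
    have h1 : β.toFun W sW b = β.toFun W sW b' := by
      rw [← hT, ← hT]; exact hzz'
    rw [(hbij W hW).1 h1]
  · intro y
    obtain ⟨b, hb⟩ := (hbij W hW).2 y
    exact ⟨T b, (hT b).trans hb⟩

theorem isIso_hom_of_left
    (hcov : ∀ x : X, ∃ (V : X.Opens) (s : Γ(L, V)), x ∈ V ∧ IsGen L V s ∧
      ∀ (W : X.Opens) (hW : W ≤ V), Function.Bijective
        (fun b : Γ(L', W) => β.toFun W (L.presheaf.map (homOfLE hW).op s) b)) : IsIso β.hom := by
  have hloc := locallyBijective_of_small (X := X)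
    (P := (show X.PresheafOfModules from CohB1.tensorPre L L')) (Q := N.val) β.preHom (by
      intro x
      obtain ⟨V, s, hxV, hs, hb⟩ := hcov x
      exact ⟨V, hxV, fun W hW => β.preHom_app_bijective_of_left hs hb W hW⟩)
  have h1 : IsIso ((CohB1.sheafifyMod X).map β.preHom) :=
    isIso_sheafifyMod_map _ hloc.1 hloc.2
  have h2 : IsIso ((adj X).counit.app N) := inferInstance
  rw [hom_eq]
  exact @IsIso.comp_isIso _ _ _ _ _ _ _ h1 h2

/-- `L ⊗ L' ≅ N` from a pairing such that locally `L` has a free generator `s` with `β(s, -)` bijective. -/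
noncomputable def isoOfLeft
    (hcov : ∀ x : X, ∃ (V : X.Opens) (s : Γ(L, V)), x ∈ V ∧ IsGen L V s ∧
      ∀ (W : X.Opens) (hW : W ≤ V), Function.Bijective
        (fun b : Γ(L', W) => β.toFun W (L.presheaf.map (homOfLE hW).op s) b)) :
    CohB1.tensorMod L L' ≅ N :=
  haveI := β.isIso_hom_of_left hcov
  asIso β.hom

end Pairing

end Groth.Agent.Lib.H4TensorPair

namespace Groth.Agent.Lib.H4Twist

variable {R A : Type u} [CommRing R] [CommRing A] [Algebra R A] (𝒜 : ℕ → Submodule R A) [GradedAlgebra 𝒜]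

/-- `O(a d) ⊗ O(n) ≅ O(a d + n)` on `Proj 𝒜` when `Proj 𝒜` is covered by the `D₊(f)`, `f ∈ 𝒜 d`
(no hypothesis on `O(n)`). -/
noncomputable def twistMulIsoLeft (d : ℕ)
    (hcov : ∀ x : ProjectiveSpectrum 𝒜, ∃ f ∈ 𝒜 d, f ∉ x.asHomogeneousIdeal) (a n : ℤ) :
    CohB1.tensorMod (twist 𝒜 (a * d)) (twist 𝒜 n) ≅ twist 𝒜 (a * d + n) :=
  (mulPairing 𝒜 (a * d) n (a * d + n) rfl).isoOfLeft (by
    intro x
    obtain ⟨f, hfd, hfx⟩ := hcov x
    have hU : ∀ y : Proj.basicOpen 𝒜 f, f ∉ y.1.asHomogeneousIdeal := fun y => y.2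
    refine ⟨Proj.basicOpen 𝒜 f, genAt hfd hU a (a * d) rfl, hfx, isGen_genAt hfd hU a (a * d) rfl, ?_⟩
    intro W hW
    have hUW : ∀ y : W, f ∉ y.1.asHomogeneousIdeal := fun y => hW y.2
    constructor
    · intro b b' hbb'
      apply sec_ext
      intro y
      have h1 := congrArg (fun t => sval t y) hbb'
      simp only [] at h1
      change sval (genAt hfd hU a (a * d) rfl) ⟨y.1, hW y.2⟩ * sval b y =
        sval (genAt hfd hU a (a * d) rfl) ⟨y.1, hW y.2⟩ * sval b' y at h1
      rw [sval_genAt] at h1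
      exact (Units.mul_right_inj _).mp h1
    · intro c
      refine ⟨mulSec (m := -(a * d)) (n := a * d + n) (k := n) (by ring)
        (genAt hfd hUW (-a) (-(a * d)) (by ring)) c, ?_⟩
      apply sec_ext
      intro y
      change sval (genAt hfd hU a (a * d) rfl) ⟨y.1, hW y.2⟩ *
        (sval (genAt hfd hUW (-a) (-(a * d)) (by ring)) y * sval c y) = sval c y
      rw [sval_genAt, sval_genAt, ← mul_assoc, ← Units.val_mul, ← zpow_add, add_neg_cancel, zpow_zero,
        Units.val_one, one_mul])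

/-- If `Proj 𝒜` is covered by the `D₊(g)`, `g ∈ 𝒜 d`, then `O(d)` is generated by the sections `b/1`, `b ∈ 𝒜 d`. -/
theorem generatedBy_globalOf_of_cover (d : ℕ)
    (hcov : ∀ x : ProjectiveSpectrum 𝒜, ∃ g ∈ 𝒜 d, g ∉ x.asHomogeneousIdeal) :
    ProjUP.GeneratedBy (twist 𝒜 (d : ℤ))
      (fun b : 𝒜 d => (Twist.globalOf 𝒜 b : ProjUP.Γm (twist 𝒜 (d : ℤ)))) := by
  apply generatedBy_of_isGen
  intro x
  obtain ⟨g, hg, hgx⟩ := hcov x
  refine ⟨⟨g, hg⟩, Proj.basicOpen 𝒜 g, hgx, ?_⟩
  exact isGen_numSec_of_le hg 1 (pow_one g).symm hg (one_mul d).symm (d : ℤ) rfl le_rfl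

/-- If `Proj 𝒜` is quasi-compact and covered by the `D₊(g)`, `g ∈ 𝒜 d`, `d > 0`, then `O(d)` is ample. -/
theorem isAmple_twist_of_cover_deg (d : ℕ) (hd : 0 < d)
    (hcov : ∀ x : ProjectiveSpectrum 𝒜, ∃ g ∈ 𝒜 d, g ∉ x.asHomogeneousIdeal)
    [CompactSpace (Proj 𝒜)] : CohB1.IsAmple (twist 𝒜 (d : ℤ)) := by
  refine ⟨by simpa using isInvertible_twist_of_cover 𝒜 d 1 hcov, inferInstance, fun x => ?_⟩
  obtain ⟨g, hg, hgx⟩ := hcov x
  have e := (Groth.Agent.Lib.OXModTensor.tensorPowOne (twist 𝒜 (d : ℤ))).symm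
  have hloc : CohB1.genLocus (CohB1.tensorPow (twist 𝒜 (d : ℤ)) (0 + 1))
      (ofSection (numSec hg (d : ℤ) rfl) ≫ e.hom) = Proj.basicOpen 𝒜 g := by
    rw [Groth.Agent.Lib.H78AmpleUnit.genLocus_comp_iso]
    exact genLocus_ofSection_numSec hg (d : ℤ) rfl hcov
  refine ⟨0, ofSection (numSec hg (d : ℤ) rfl) ≫ e.hom, ?_, ?_⟩
  · rw [hloc]; exact hgx
  · rw [hloc]; exact Proj.isAffineOpen_basicOpen 𝒜 g hg hd

section Adjoin

variable {𝒜} {s : ℕ} (f : Fin s → A) (deg : Fin s → ℕ) (hdeg : ∀ i, 0 < deg i)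
  (hf : ∀ i, f i ∈ 𝒜 (deg i)) (hgen : Algebra.adjoin R (Set.range f) = ⊤)

omit hdeg hf in
include hgen in
/-- If `A` is generated as an `R`-algebra by the `f_i`, every point of `Proj 𝒜` avoids some `f_i`. -/
theorem exists_notMem_of_adjoin (x : ProjectiveSpectrum 𝒜) : ∃ i, f i ∉ x.asHomogeneousIdeal := by
  classical
  by_contra H
  simp only [not_exists, not_not] at H
  apply x.not_irrelevant_le
  have hI : Ideal.span (Set.range f) ≤ x.asHomogeneousIdeal.toIdeal := by
    rw [Ideal.span_le]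
    rintro _ ⟨i, rfl⟩
    exact H i
  -- every element is a constant plus an element of the ideal generated by the `f i`
  have hall : ∀ z : A, ∃ r : R, z - algebraMap R A r ∈ Ideal.span (Set.range f) := by
    intro z
    have hz : z ∈ Algebra.adjoin R (Set.range f) := by rw [hgen]; trivial
    induction hz using Algebra.adjoin_induction with
    | mem y hy => exact ⟨0, by simpa using Ideal.subset_span hy⟩
    | algebraMap r => exact ⟨r, by simp⟩
    | add y z _ _ ihy ihz =>
      obtain ⟨r, hr⟩ := ihy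
      obtain ⟨r', hr'⟩ := ihz
      refine ⟨r + r', ?_⟩
      have : y + z - algebraMap R A (r + r') = (y - algebraMap R A r) + (z - algebraMap R A r') := by
        rw [map_add]; ring
      rw [this]
      exact Ideal.add_mem _ hr hr'
    | mul y z _ _ ihy ihz =>
      obtain ⟨r, hr⟩ := ihy
      obtain ⟨r', hr'⟩ := ihz
      refine ⟨r * r', ?_⟩
      have : y * z - algebraMap R A (r * r') =
          (y - algebraMap R A r) * z + algebraMap R A r * (z - algebraMap R A r') := by
        rw [map_mul]; ring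
      rw [this]
      exact Ideal.add_mem _ (Ideal.mul_mem_right _ _ hr) (Ideal.mul_mem_left _ _ hr')
  rw [HomogeneousIdeal.irrelevant_le]
  intro i hi z hz
  obtain ⟨r, hr⟩ := hall z
  have hx := hI hr
  have hhom := x.asHomogeneousIdeal.isHomogeneous i hx
  have h1 : (DirectSum.decompose 𝒜 (z - algebraMap R A r) i : A) = z := by
    rw [DirectSum.decompose_sub, DirectSum.sub_apply, AddSubgroupClass.coe_sub,
      DirectSum.decompose_of_mem_same 𝒜 hz,
      DirectSum.decompose_of_mem_ne 𝒜 (SetLike.algebraMap_mem_graded 𝒜 r) (Nat.pos_iff_ne_zero.mp hi).symm,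
      sub_zero]
  rw [h1] at hhom
  exact hhom

include hdeg hf hgen in
theorem compactSpace_of_adjoin : CompactSpace (Proj 𝒜) := by
  have H : ∀ i : Fin s, IsCompact ((Proj.basicOpen 𝒜 (f i)) : Set (Proj 𝒜)) := fun i =>
    (Proj.isAffineOpen_basicOpen 𝒜 (f i) (hf i) (hdeg i)).isCompact
  have hcov : (⋃ i : Fin s, ((Proj.basicOpen 𝒜 (f i)) : Set (Proj 𝒜))) = Set.univ := by
    apply Set.eq_univ_of_forall
    intro x
    obtain ⟨i, hi⟩ := exists_notMem_of_adjoin f hgen x
    exact Set.mem_iUnion.mpr ⟨i, hi⟩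
  constructor
  rw [← hcov]
  exact isCompact_iUnion H

omit hdeg in
include hf hgen in
/-- Common degree: every point of `Proj 𝒜` avoids some element of degree `D`, for every multiple `D` of all the
`deg i`. -/
theorem exists_deg_notMem_of_adjoin (D : ℕ) (hD : ∀ i, deg i ∣ D) (x : ProjectiveSpectrum 𝒜) :
    ∃ g ∈ 𝒜 D, g ∉ x.asHomogeneousIdeal := by
  obtain ⟨i, hi⟩ := exists_notMem_of_adjoin f hgen x
  obtain ⟨c, hc⟩ := hD i
  refine ⟨f i ^ c, ?_, fun h => hi (x.isPrime.mem_of_pow_mem c h)⟩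
  have := SetLike.pow_mem_graded c (hf i)
  rwa [smul_eq_mul, mul_comm, ← hc] at this

end Adjoin

end Groth.Agent.Lib.H4Twist
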