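import Groth.Agent.Lib.CohFinAmple
import Groth.Agent.Lib.H4TwistAdjoin
import Groth.Agent.Lib.GradedNoetherian

/-!
# Coherent modules on `Proj` of a Noetherian graded ring are quotients of finite sums of twists (helper48)

* `exists_deg_cover` : for a Noetherian graded ring there is `D > 0` such that `Proj 𝒜` is covered by the
  `D₊(g)`, `g ∈ 𝒜 D`;
* `nonempty_negPowIso` : `O(-D)^{⊗ m} ≅ O(-m D)`; `nonempty_invIso` : `O(D) ⊗ O(-D) ≅ O`;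
* `exists_epi_sigma_twist` : every coherent module is a quotient of `∐_{j : Fin r} O(d_j)` (S0846).
-/

set_option autoImplicit false
universe u
open CategoryTheory CategoryTheory.Limits AlgebraicGeometry Opposite TopologicalSpace CohB1 Twist
open Groth.Agent.Lib.H4Twist Groth.Agent.Lib.OXModTensor Groth.Agent.Lib.CohFinAmple

namespace Groth.Agent.Lib.ProjQuotTwist

variable {R A : Type u} [CommRing R] [CommRing A] [Algebra R A] (𝒜 : ℕ → Submodule R A)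
  [GradedAlgebra 𝒜]

/-- For a Noetherian graded ring, some positive degree `D` has `Proj 𝒜 = ⋃_{g ∈ 𝒜 D} D₊(g)`. -/
theorem exists_deg_cover [IsNoetherianRing A] :
    ∃ D : ℕ, 0 < D ∧ ∀ x : ProjectiveSpectrum 𝒜, ∃ g ∈ 𝒜 D, g ∉ x.asHomogeneousIdeal := by
  classical
  obtain ⟨s, hs, hspan⟩ := Groth.Agent.Lib.GradedNoetherian.exists_finset_span_irrelevant 𝒜
  choose! deg hdeg using hs
  refine ⟨∏ a ∈ s, deg a, Finset.prod_pos (fun a ha => (hdeg a ha).1), fun x => ?_⟩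
  obtain ⟨f, hf, hfx⟩ := exists_mem_finset_notMem 𝒜 s hspan x
  obtain ⟨c, hc⟩ : deg f ∣ ∏ a ∈ s, deg a := Finset.dvd_prod_of_mem deg hf
  refine ⟨f ^ c, ?_, fun h => hfx (x.isPrime.mem_of_pow_mem c h)⟩
  have := SetLike.pow_mem_graded c (hdeg f hf).2
  rwa [smul_eq_mul, mul_comm, ← hc] at this

variable (D : ℕ) (hcov : ∀ x : ProjectiveSpectrum 𝒜, ∃ g ∈ 𝒜 D, g ∉ x.asHomogeneousIdeal)

include hcov in
/-- `O(-D)^{⊗ m} ≅ O(-m D)`. -/
theorem nonempty_negPowIso (m : ℕ) :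
    Nonempty (tensorPow (twist 𝒜 (-(D : ℤ))) m ≅ twist 𝒜 (-(m : ℤ) * (D : ℤ))) := by
  induction m with
  | zero =>
    obtain ⟨e⟩ := nonempty_twistZeroIso 𝒜
    exact ⟨e.symm ≪≫ eqToIso (congrArg (twist 𝒜) (by simp))⟩
  | succ m ih =>
    obtain ⟨e⟩ := ih
    exact ⟨tensorModIso e (Iso.refl _) ≪≫ twistMulIsoLeft 𝒜 D hcov (-(m : ℤ)) (-(D : ℤ)) ≪≫
      eqToIso (congrArg (twist 𝒜) (by push_cast; ring))⟩

include hcov in
/-- `O(D) ⊗ O(-D) ≅ O`. -/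
theorem nonempty_invIso :
    Nonempty (tensorMod (twist 𝒜 (D : ℤ)) (twist 𝒜 (-(D : ℤ))) ≅ Coh.structureModule (Proj 𝒜)) := by
  obtain ⟨e0⟩ := nonempty_twistZeroIso 𝒜
  exact ⟨tensorModIso (eqToIso (congrArg (twist 𝒜) (one_mul (D : ℤ)).symm)) (Iso.refl _) ≪≫
    twistMulIsoLeft 𝒜 D hcov 1 (-(D : ℤ)) ≪≫ eqToIso (congrArg (twist 𝒜) (by ring)) ≪≫ e0⟩

/-- **Every coherent module on `Proj` of a Noetherian graded ring is a quotient of a finite sum of twists.** -/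
theorem exists_epi_sigma_twist [IsNoetherianRing A] (F : (Proj 𝒜).Modules) (hF : Coh.IsCoh F) :
    ∃ (r : ℕ) (d : Fin r → ℤ) (φ : (∐ fun j : Fin r => twist 𝒜 (d j)) ⟶ F), Epi φ := by
  obtain ⟨D, hD, hcov⟩ := exists_deg_cover 𝒜
  haveI : IsNoetherian (Proj 𝒜) := Groth.Agent.Lib.GradedNoetherian.proj_isNoetherian 𝒜
  haveI : CompactSpace (Proj 𝒜) := inferInstance
  have hL : CohB1.IsAmple (twist 𝒜 (D : ℤ)) := isAmple_twist_of_cover_deg 𝒜 D hD hcov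
  obtain ⟨e⟩ := nonempty_invIso 𝒜 D hcov
  obtain ⟨m₀, hm⟩ := exists_finite_epi_sigma_pow hL e F hF
  obtain ⟨K, hK, q, hq⟩ := hm m₀ le_rfl
  obtain ⟨em⟩ := nonempty_negPowIso 𝒜 D hcov m₀
  let ε : Fin (Nat.card K) ≃ K := (Finite.equivFin K).symm
  let ψ : (∐ fun _ : Fin (Nat.card K) => twist 𝒜 (-(m₀ : ℤ) * (D : ℤ))) ≅
      ∐ fun _ : K => tensorPow (twist 𝒜 (-(D : ℤ))) m₀ :=
    Sigma.reindex ε (fun _ : K => twist 𝒜 (-(m₀ : ℤ) * (D : ℤ))) ≪≫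
      Sigma.mapIso (fun _ => em.symm)
  exact ⟨Nat.card K, fun _ => -(m₀ : ℤ) * (D : ℤ), ψ.hom ≫ q, epi_comp _ _⟩

end Groth.Agent.Lib.ProjQuotTwist
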