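import Groth.Agent.Lib.H43ExtTransfer
import Groth.Agent.Lib.TwistEquiv
import Groth.Agent.Lib.ModUnitH
import Groth.Agent.Lib.H4TwistAdjoin
import Groth.Agent.Lib.H4ProjSpaceCoh
import Groth.Agent.Lib.H4ProjSpaceGamma
import Groth.Agent.Lib.ProjQuotTwist
import Groth.Agent.Lib.H4Regularity
import Groth.Agent.Lib.H43CohProp

/-!
# Effacement on projective space (helper43)

On `P = P^n_R`:
* `mulIso a b c h : O(a) ⊗ O(b) ≅ O(c)` (`a + b = c`);
* `subsingleton_ext_twist`: `Ext^{p+1}(O(-m), O(c)) = 0` for `m ≥ 1`... (`-(n+1) < m + c`);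
* `exists_epi_sigma_twist_ge`: a coherent module is a quotient of `∐_K O(-m)` for all large `m`.
-/

set_option autoImplicit false
universe u

open CategoryTheory CategoryTheory.Limits AlgebraicGeometry TopologicalSpace Opposite Twist Abelian
open Groth.Agent.Lib.H4Twist Groth.Agent.Lib.OXModTensor Groth.Agent.Lib.TwistEquiv

namespace Groth.Agent.Lib.H43PnEfface

open MvPolynomial

variable (n : ℕ) (R : Type u) [CommRing R]

local notation "𝒜" => CohB1.polyGrading n R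

lemma hcov : ∀ x : ProjectiveSpectrum 𝒜, ∃ f ∈ 𝒜 1, f ∉ x.asHomogeneousIdeal := fun x => by
  obtain ⟨i, hi⟩ := exists_X_notMem (n := n) (R := R) x
  exact ⟨X i, ProjSpaceCover.X_mem n R i, hi⟩

/-- `O(a) ⊗ O(b) ≅ O(c)` on `P^n_R`, `a + b = c` -/
noncomputable def mulIso (a b c : ℤ) (h : a + b = c) :
    CohB1.tensorMod (twist 𝒜 a) (twist 𝒜 b) ≅ twist 𝒜 c :=
  tensorModIso (eqToIso (congrArg (twist 𝒜) (by simp : a = a * ((1 : ℕ) : ℤ)))) (Iso.refl _) ≪≫
    twistMulIsoLeft 𝒜 1 (hcov n R) a b ≪≫ eqToIso (congrArg (twist 𝒜) (by simp [h]))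

/-- `O(m) ⊗ O(-m) ≅ O` -/
theorem nonempty_invIso (m : ℤ) :
    Nonempty (CohB1.tensorMod (twist 𝒜 m) (twist 𝒜 (-m)) ≅ Coh.structureModule (Proj 𝒜)) := by
  obtain ⟨e0⟩ := nonempty_twistZeroIso 𝒜
  exact ⟨mulIso n R m (-m) 0 (by ring) ≪≫ e0⟩

instance additive_tensorRightFunctor_of_isEquivalence {X : Scheme.{u}} (M : X.Modules)
    [(tensorRightFunctor M).IsEquivalence] : (tensorRightFunctor M).Additive :=
  Functor.additive_of_preserves_binary_products _

omit n R in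
lemma subsingleton_ext_unit {C : Type u} [SmallCategory C] {J : GrothendieckTopology C}
    (R : Sheaf J RingCat.{u}) [HasExt.{u} (SheafOfModules.{u} R)] (M : SheafOfModules.{u} R) (q : ℕ)
    (h : Subsingleton (Sheaf.H ((SheafOfModules.toSheaf R).obj M) q)) :
    Subsingleton (Ext (SheafOfModules.unit R) M q) := by
  obtain ⟨φ⟩ := Groth.Agent.Lib.ModUnitH.nonempty_ext_unit_addEquiv_H R M q
  exact φ.toEquiv.subsingleton_congr.2 h

/-- `Ext^{p+1}(O(-m), O(c)) = 0` when `-(n+1) < m + c` -/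
theorem subsingleton_ext_twist [HasExt.{u} (Proj 𝒜).Modules] (m c : ℤ)
    (hmc : -((n : ℤ) + 1) < m + c) (p : ℕ) :
    Subsingleton (Ext (twist 𝒜 (-m)) (twist 𝒜 c) (p + 1)) := by
  obtain ⟨e⟩ := nonempty_invIso n R m
  obtain ⟨e0⟩ := nonempty_twistZeroIso 𝒜
  have : (tensorRightFunctor (twist 𝒜 m)).IsEquivalence := isEquivalence_tensorRightFunctor e
  have : EnoughInjectives (Proj 𝒜).Modules :=
    Groth.Agent.S0485.result _ (Proj 𝒜).ringCatSheaf
  refine Groth.Agent.Lib.H43ExtTransfer.subsingleton_ext_of_equivalence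
    (tensorRightFunctor (twist 𝒜 m)) _ _ _ ?_
  let e1 : (tensorRightFunctor (twist 𝒜 m)).obj (twist 𝒜 (-m)) ≅ Coh.structureModule (Proj 𝒜) :=
    mulIso n R (-m) m 0 (by ring) ≪≫ e0
  let e2 : (tensorRightFunctor (twist 𝒜 m)).obj (twist 𝒜 c) ≅ twist 𝒜 (m + c) :=
    mulIso n R c m (m + c) (by ring)
  refine Groth.Agent.Lib.H43ExtTransfer.subsingleton_ext_of_iso_left e1.symm _ _ ?_
  refine Groth.Agent.Lib.H43ExtTransfer.subsingleton_ext_of_iso_right _ e2.symm _ ?_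
  have := subsingleton_HH_twist n R (m + c) (p + 1) (Nat.succ_pos p) (Or.inr hmc)
  exact @subsingleton_ext_unit _ _ _ (Proj 𝒜).ringCatSheaf ‹HasExt.{u} (Proj 𝒜).Modules›
    (twist 𝒜 (m + c)) (p + 1) this

end Groth.Agent.Lib.H43PnEfface
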