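import Groth.Agent.Lib.H43AdjEpi
import Groth.Agent.Lib.ModSiteFlat
import Groth.Agent.Lib.ModSiteHom

/-!
# `ℋom(M, -)` is exact for `M` a finite free module on a ringed site (helper43)

* `preservesEpimorphisms_sheafHom_of_total` : if `𝟙 M = ∑ i, π i ≫ ι i` with `π i : M ⟶ O`, `ι i : O ⟶ M` (finitely many),
  then `ModSite.sheafHom M` preserves epimorphisms.
* `preservesEpimorphisms_sheafHom_of_iso_free` : the case `M ≅ ∐_{Fin n} O`.
-/

set_option autoImplicit false
universe u
open CategoryTheory Opposite Limits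

namespace Groth.Agent.Lib.H43SheafHomFree

open Groth.Agent.Lib.ModSiteTensor Groth.Agent.Lib.ModSiteFlat

variable {C : Type u} [SmallCategory C] {J : GrothendieckTopology C} (O : Sheaf J CommRingCat.{u})

/-- `- ⊗ O ≅ id` -/
noncomputable def tensUnitIso : (ModSite.tensorBi O).flip.obj (ModSite.unit O) ≅ 𝟭 (ModSite.Mod O) :=
  (swapIso O (ModSite.unit O)).symm ≪≫ unitTensIso O

variable {O}

instance additive_sheafHom (M : ModSite.Mod O) [ModSite.HasSheafHom M] : (ModSite.sheafHom M).Additive :=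
  (ModSite.sheafHomAdj M).right_adjoint_additive

theorem preservesEpimorphisms_sheafHom_of_total (M : ModSite.Mod O) [ModSite.HasSheafHom M]
    {ι : Type*} [Fintype ι] (π : ι → (M ⟶ ModSite.unit O)) (inc : ι → (ModSite.unit O ⟶ M))
    (h : ∑ i, π i ≫ inc i = 𝟙 M) : (ModSite.sheafHom M).PreservesEpimorphisms := by
  refine H43AdjEpi.preservesEpimorphisms_of_sum (ModSite.sheafHomAdj M)
    (fun i => (ModSite.tensorBi O).flip.map (π i) ≫ (tensUnitIso O).hom)
    (fun i => (tensUnitIso O).inv ≫ (ModSite.tensorBi O).flip.map (inc i)) ?_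
  intro B
  have h1 : ∀ i, ((ModSite.tensorBi O).flip.map (π i) ≫ (tensUnitIso O).hom).app B ≫
      ((tensUnitIso O).inv ≫ (ModSite.tensorBi O).flip.map (inc i)).app B =
      ((ModSite.tensorBi O).obj B).map (π i ≫ inc i) := by
    intro i
    rw [NatTrans.comp_app, NatTrans.comp_app, Category.assoc, ← Category.assoc ((tensUnitIso O).hom.app B),
      Iso.hom_inv_id_app, Category.id_comp, Functor.map_comp]
    rfl
  simp only [h1]
  rw [← Functor.map_sum, h, CategoryTheory.Functor.map_id]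
  rfl

lemma exists_total {D : Type*} [Category D] [Preadditive D] {ι : Type*} [Fintype ι] (Y : ι → D)
    [HasCoproduct Y] : ∃ π : ∀ j, (∐ Y) ⟶ Y j, ∑ j, π j ≫ Sigma.ι Y j = 𝟙 (∐ Y) := by
  classical
  have hc := biconeIsBilimitOfColimitCoconeOfIsColimit (coproductIsCoproduct Y)
  exact ⟨fun j => (Bicone.ofColimitCocone (coproductIsCoproduct Y)).π j, IsBilimit.total hc⟩

theorem preservesEpimorphisms_sheafHom_of_iso_free (M : ModSite.Mod O) [ModSite.HasSheafHom M]
    (n : ℕ) (e : M ≅ ∐ fun _ : Fin n => ModSite.unit O) :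
    (ModSite.sheafHom M).PreservesEpimorphisms := by
  obtain ⟨π, hπ⟩ := exists_total (fun _ : Fin n => ModSite.unit O)
  refine preservesEpimorphisms_sheafHom_of_total M (fun i => e.hom ≫ π i)
    (fun i => Sigma.ι (fun _ : Fin n => ModSite.unit O) i ≫ e.inv) ?_
  have : ∀ i, (e.hom ≫ π i) ≫ Sigma.ι (fun _ : Fin n => ModSite.unit O) i ≫ e.inv =
      e.hom ≫ (π i ≫ Sigma.ι (fun _ : Fin n => ModSite.unit O) i) ≫ e.inv := by
    intro i; simp only [Category.assoc]
  simp only [this]
  rw [← Preadditive.comp_sum, ← Preadditive.sum_comp, hπ, Category.id_comp, Iso.hom_inv_id]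

end Groth.Agent.Lib.H43SheafHomFree
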