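import Groth.Agent.Lib.SheafHomExact
import Groth.Agent.Lib.H43SheafHomFree
import Groth.Agent.Lib.ModSiteHom

/-!
# Contravariant functoriality of the internal hom on a ringed site (helper43)

* `sheafHomMap_id`, `sheafHomMap_comp`, `sheafHomMap_add`, `sheafHomMap_zero`, `sheafHomMap_sum`;
* `sheafHomSigmaIso` : `ℋom(∐_K A, G) ≅ ∐_K ℋom(A, G)` for a finite constant family;
* `leftExact_sheafHomMap` : `M₁ → M₂ → M₃ → 0` exact gives `0 → ℋom(M₃,G) → ℋom(M₂,G) → ℋom(M₁,G)` exact.
-/

set_option autoImplicit false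
universe u
open CategoryTheory Opposite Limits

namespace Groth.Agent.Lib.H43SheafHomContra

open Groth.Agent.Lib.ModSiteTensor Groth.Agent.Lib.ModSiteFlat Groth.Agent.Lib.H43SheafHomFree
  Groth.Agent.Lib.SheafHomExact

variable {C : Type u} [SmallCategory C] {J : GrothendieckTopology C} {O : Sheaf J CommRingCat.{u}}

lemma sheafHomMap_id (M : ModSite.Mod O) [ModSite.HasSheafHom M] :
    ExtSupp.sheafHomMap (𝟙 M) = 𝟙 (ModSite.sheafHom M) := by
  unfold ExtSupp.sheafHomMap
  rw [CategoryTheory.Functor.map_id, conjugateEquiv_id]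

lemma sheafHomMap_comp {M M' M'' : ModSite.Mod O} [ModSite.HasSheafHom M] [ModSite.HasSheafHom M']
    [ModSite.HasSheafHom M''] (u : M'' ⟶ M') (v : M' ⟶ M) :
    ExtSupp.sheafHomMap (u ≫ v) = ExtSupp.sheafHomMap v ≫ ExtSupp.sheafHomMap u := by
  unfold ExtSupp.sheafHomMap
  rw [conjugateEquiv_comp, Functor.map_comp]

lemma sheafHomMap_app_eq {M M' : ModSite.Mod O} [ModSite.HasSheafHom M] [ModSite.HasSheafHom M']
    (g : M' ⟶ M) (I : ModSite.Mod O) :
    (ExtSupp.sheafHomMap g).app I = (ModSite.sheafHomAdj M').homEquiv _ _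
      (((ModSite.tensorBi O).obj ((ModSite.sheafHom M).obj I)).map g ≫
        (ModSite.sheafHomAdj M).counit.app I) := by
  apply ((ModSite.sheafHomAdj M').homEquiv _ I).symm.injective
  have h := homEquiv_symm_comp_sheafHomMap g (𝟙 ((ModSite.sheafHom M).obj I))
  rw [Category.id_comp] at h
  refine h.trans ?_
  refine Eq.trans ?_ (Equiv.symm_apply_apply _ _).symm
  congr 1
  rw [Adjunction.homEquiv_counit, CategoryTheory.Functor.map_id, Category.id_comp]

lemma sheafHomMap_add {M M' : ModSite.Mod O} [ModSite.HasSheafHom M] [ModSite.HasSheafHom M']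
    (g g' : M' ⟶ M) (I : ModSite.Mod O) :
    (ExtSupp.sheafHomMap (g + g')).app I =
      (ExtSupp.sheafHomMap g).app I + (ExtSupp.sheafHomMap g').app I := by
  rw [sheafHomMap_app_eq, sheafHomMap_app_eq, sheafHomMap_app_eq, Functor.map_add,
    Preadditive.add_comp]
  exact ((ModSite.sheafHomAdj M').homAddEquiv _ _).map_add _ _

lemma sheafHomMap_zero {M M' : ModSite.Mod O} [ModSite.HasSheafHom M] [ModSite.HasSheafHom M']
    (I : ModSite.Mod O) :
    (ExtSupp.sheafHomMap (0 : M' ⟶ M)).app I = 0 := by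
  rw [sheafHomMap_app_eq, Functor.map_zero, zero_comp]
  exact ((ModSite.sheafHomAdj M').homAddEquiv _ _).map_zero

lemma sheafHomMap_sum {M M' : ModSite.Mod O} [ModSite.HasSheafHom M] [ModSite.HasSheafHom M']
    {κ : Type*} (s : Finset κ) (g : κ → (M' ⟶ M)) (I : ModSite.Mod O) :
    (ExtSupp.sheafHomMap (∑ k ∈ s, g k)).app I = ∑ k ∈ s, (ExtSupp.sheafHomMap (g k)).app I := by
  classical
  induction s using Finset.induction_on with
  | empty => simp only [Finset.sum_empty]; exact sheafHomMap_zero I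
  | insert a s ha ih => rw [Finset.sum_insert ha, Finset.sum_insert ha, sheafHomMap_add, ih]

/-- `ℋom(∐_k A_k, G) ≅ ∐_k ℋom(A_k, G)` for a finite family -/
theorem nonempty_sheafHomSigmaIso {K : Type*} [Finite K] (A : K → ModSite.Mod O) [HasCoproduct A]
    [∀ k, ModSite.HasSheafHom (A k)] [ModSite.HasSheafHom (∐ A)] (G : ModSite.Mod O)
    [HasCoproduct fun k => (ModSite.sheafHom (A k)).obj G] :
    Nonempty ((ModSite.sheafHom (∐ A)).obj G ≅ ∐ fun k => (ModSite.sheafHom (A k)).obj G) := by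
  classical
  have : Fintype K := Fintype.ofFinite K
  have hc := biconeIsBilimitOfColimitCoconeOfIsColimit (coproductIsCoproduct A)
  let b := Bicone.ofColimitCocone (coproductIsCoproduct A)
  let π : ∀ k, (∐ A) ⟶ A k := fun k => b.π k
  have hself : ∀ k, Sigma.ι A k ≫ π k = 𝟙 (A k) := fun k => bicone_ι_π_self b k
  have hne : ∀ j k, j ≠ k → Sigma.ι A j ≫ π k = 0 := fun j k h => bicone_ι_π_ne b h
  have htot : ∑ k, π k ≫ Sigma.ι A k = 𝟙 (∐ A) := IsBilimit.total hc
  let φ : (ModSite.sheafHom (∐ A)).obj G ⟶ ∐ fun k => (ModSite.sheafHom (A k)).obj G :=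
    ∑ k, (ExtSupp.sheafHomMap (Sigma.ι A k)).app G ≫
      Sigma.ι (fun k => (ModSite.sheafHom (A k)).obj G) k
  let ψ : (∐ fun k => (ModSite.sheafHom (A k)).obj G) ⟶ (ModSite.sheafHom (∐ A)).obj G :=
    Sigma.desc (fun k => (ExtSupp.sheafHomMap (π k)).app G)
  refine ⟨⟨φ, ψ, ?_, ?_⟩⟩
  · simp only [φ, ψ, Preadditive.sum_comp, Category.assoc, Sigma.ι_desc]
    have h1 : ∀ k, (ExtSupp.sheafHomMap (Sigma.ι A k)).app G ≫ (ExtSupp.sheafHomMap (π k)).app G =
        (ExtSupp.sheafHomMap (π k ≫ Sigma.ι A k)).app G := fun k => by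
      rw [sheafHomMap_comp]; rfl
    simp only [h1]
    rw [← sheafHomMap_sum, htot, sheafHomMap_id]
    rfl
  · apply Sigma.hom_ext
    intro k
    simp only [φ, ψ, Sigma.ι_desc_assoc, Preadditive.comp_sum, Category.comp_id]
    have h1 : ∀ j, (ExtSupp.sheafHomMap (π k)).app G ≫ (ExtSupp.sheafHomMap (Sigma.ι A j)).app G ≫
        Sigma.ι (fun k => (ModSite.sheafHom (A k)).obj G) j =
        (ExtSupp.sheafHomMap (Sigma.ι A j ≫ π k)).app G ≫
          Sigma.ι (fun k => (ModSite.sheafHom (A k)).obj G) j := fun j => by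
      rw [sheafHomMap_comp, NatTrans.comp_app, Category.assoc]
    simp only [h1]
    rw [Finset.sum_eq_single k]
    · rw [hself k, sheafHomMap_id]
      exact Category.id_comp _
    · intro j _ hj
      rw [hne j k hj, sheafHomMap_zero, zero_comp]
    · intro h
      exact absurd (Finset.mem_univ k) h

/-- **`ℋom_O(-, G)` is left exact**: for `X₁ → X₂ → X₃ → 0` exact, the sequence
`0 → ℋom(X₃, G) → ℋom(X₂, G) → ℋom(X₁, G)` is exact. -/
theorem leftExact_sheafHomMap (S : ShortComplex (ModSite.Mod O)) (hS : S.Exact) [hSe : Epi S.g]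
    [ModSite.HasSheafHom S.X₁] [ModSite.HasSheafHom S.X₂] [ModSite.HasSheafHom S.X₃]
    (G : ModSite.Mod O) :
    ∃ w : (ExtSupp.sheafHomMap S.g).app G ≫ (ExtSupp.sheafHomMap S.f).app G = 0,
      (ShortComplex.mk _ _ w).Exact ∧ Mono ((ExtSupp.sheafHomMap S.g).app G) := by
  have hT : ∀ T : ModSite.Mod O, (S.map ((ModSite.tensorBi O).obj T)).Exact := fun T =>
    hS.map_of_epi_of_preservesCokernel _ hSe inferInstance
  have hTe : ∀ T : ModSite.Mod O, Epi (S.map ((ModSite.tensorBi O).obj T)).g := fun T => by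
    change Epi (((ModSite.tensorBi O).obj T).map S.g)
    infer_instance
  have hz : ∀ (M : ModSite.Mod O) [ModSite.HasSheafHom M] (T : ModSite.Mod O),
      ((ModSite.sheafHomAdj M).homEquiv T G).symm 0 = 0 := fun M _ T => by
    rw [Adjunction.homEquiv_counit, Functor.map_zero, zero_comp]
  have w : (ExtSupp.sheafHomMap S.g).app G ≫ (ExtSupp.sheafHomMap S.f).app G = 0 := by
    apply ((ModSite.sheafHomAdj S.X₁).homEquiv _ G).symm.injective
    rw [homEquiv_symm_comp_sheafHomMap, ← Category.id_comp ((ExtSupp.sheafHomMap S.g).app G),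
      homEquiv_symm_comp_sheafHomMap, ← Category.assoc, ← Functor.map_comp, S.zero,
      Functor.map_zero, zero_comp, hz]
  refine ⟨w, ?_⟩
  have key : ∀ {T : ModSite.Mod O} (t : T ⟶ (ModSite.sheafHom S.X₂).obj G)
      (_ : t ≫ (ExtSupp.sheafHomMap S.f).app G = 0),
      ∃ s : T ⟶ (ModSite.sheafHom S.X₃).obj G, s ≫ (ExtSupp.sheafHomMap S.g).app G = t := by
    intro T t ht
    have h0 : (S.map ((ModSite.tensorBi O).obj T)).f ≫
        ((ModSite.sheafHomAdj S.X₂).homEquiv T G).symm t = 0 := by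
      have := homEquiv_symm_comp_sheafHomMap S.f t
      rw [ht, hz] at this
      exact this.symm
    have := hTe T
    refine ⟨(ModSite.sheafHomAdj S.X₃).homEquiv T G ((hT T).desc _ h0), ?_⟩
    apply ((ModSite.sheafHomAdj S.X₂).homEquiv _ G).symm.injective
    rw [homEquiv_symm_comp_sheafHomMap]
    refine Eq.trans ?_ ((hT T).g_desc _ h0)
    congr 1
    exact Equiv.symm_apply_apply _ _
  have hmono : Mono ((ExtSupp.sheafHomMap S.g).app G) := by
    refine ⟨fun {T} a b hab => ?_⟩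
    have h1 := congrArg ((ModSite.sheafHomAdj S.X₂).homEquiv _ G).symm hab
    rw [homEquiv_symm_comp_sheafHomMap, homEquiv_symm_comp_sheafHomMap] at h1
    have : Epi (((ModSite.tensorBi O).obj T).map S.g) := hTe T
    exact ((ModSite.sheafHomAdj S.X₃).homEquiv _ G).symm.injective ((cancel_epi _).1 h1)
  have hker : IsLimit (KernelFork.ofι ((ExtSupp.sheafHomMap S.g).app G) w) :=
    KernelFork.IsLimit.ofι' _ _ (fun {T} t ht => ⟨(key t ht).choose, (key t ht).choose_spec⟩)
  exact ⟨ShortComplex.exact_of_f_is_kernel _ hker, hmono⟩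

end Groth.Agent.Lib.H43SheafHomContra
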