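import Groth.Agent.Lib.H43LocGlobAbs
import Groth.Agent.Lib.H43SheafHomContra
import Groth.Agent.Lib.H43ExtSheafHomLin
import Groth.Agent.Lib.FunctorSESNat
import Groth.Agent.Lib.AcyclicFirstVar

/-!
# Local-to-global comparison of `Ext` on a ringed site: the inductive steps (helper43)

`PS Z m F B` : `Ext^m(F, B) ≃+ H^0(ℰxt^m(F, B))` compatibly with the tensor-central endomorphisms in `Z`.
* `PS.zero` ; `PS.succ` (dimension shifting) ; `PS.one`.
-/

set_option autoImplicit false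
universe u
open CategoryTheory Opposite Limits Abelian

namespace Groth.Agent.Lib.H43LocGlobSite

open Groth.Agent.Lib.ModSiteTensor Groth.Agent.Lib.ModSiteFlat Groth.Agent.Lib.H43SheafHomFree
  Groth.Agent.Lib.H43LocGlobAbs Groth.Agent.Lib.H43SheafHomContra Groth.Agent.Lib.SheafHomExact

variable {C : Type u} [SmallCategory C] {J : GrothendieckTopology C} (O : Sheaf J CommRingCat.{u})

/-- the forgetful functor to abelian sheaves -/
noncomputable abbrev UU : ModSite.Mod O ⥤ Sheaf J AddCommGrpCat.{u} :=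
  SheafOfModules.toSheaf.{u} (ModSite.ringSh O)

/-- the constant sheaf `ℤ` -/
noncomputable abbrev ZZ : Sheaf J AddCommGrpCat.{u} := Groth.Agent.Lib.ModUnitH.Zc J

/-- central endomorphisms compatible with tensor products -/
def TensorCentral (z : 𝟭 (ModSite.Mod O) ⟶ 𝟭 (ModSite.Mod O)) : Prop :=
  ∀ M N : ModSite.Mod O, ((ModSite.tensorBi O).flip.obj M).map (z.app N) =
    z.app (((ModSite.tensorBi O).flip.obj M).obj N)

variable {O}

/-- `O ⊗ M ≅ M` -/
noncomputable def ρ (M : ModSite.Mod O) :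
    ((ModSite.tensorBi O).flip.obj M).obj (ModSite.unit O) ≅ M := (unitTensIso O).app M

lemma ρ_naturality {M' M : ModSite.Mod O} (f : M' ⟶ M) :
    ((ModSite.tensorBi O).flip.map f).app (ModSite.unit O) ≫ (ρ M).hom = (ρ M').hom ≫ f :=
  (unitTensIso O).hom.naturality f

/-- the transpose `O ⟶ ℋom(M, B)` of `φ : M ⟶ B` -/
noncomputable def sharp (M B : ModSite.Mod O) [ModSite.HasSheafHom M] (φ : M ⟶ B) :
    ModSite.unit O ⟶ (ModSite.sheafHom M).obj B :=
  (ModSite.sheafHomAdj M).homEquiv _ _ ((ρ M).hom ≫ φ)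

lemma sharp_bijective (M B : ModSite.Mod O) [ModSite.HasSheafHom M] :
    Function.Bijective (sharp M B) := by
  refine (Equiv.bijective _).comp ?_
  exact ⟨fun a b h => (cancel_epi (ρ M).hom).1 h, fun c => ⟨(ρ M).inv ≫ c, by simp⟩⟩

lemma sharp_add (M B : ModSite.Mod O) [ModSite.HasSheafHom M] (φ ψ : M ⟶ B) :
    sharp M B (φ + ψ) = sharp M B φ + sharp M B ψ := by
  unfold sharp
  rw [Preadditive.comp_add]
  exact ((ModSite.sheafHomAdj M).homAddEquiv _ _).map_add _ _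

lemma sharp_comp (M : ModSite.Mod O) [ModSite.HasSheafHom M] {B B' : ModSite.Mod O} (φ : M ⟶ B)
    (g : B ⟶ B') : sharp M B' (φ ≫ g) = sharp M B φ ≫ (ModSite.sheafHom M).map g := by
  unfold sharp
  rw [← Category.assoc, Adjunction.homEquiv_naturality_right]

lemma sharp_precomp {M' M : ModSite.Mod O} [ModSite.HasSheafHom M] [ModSite.HasSheafHom M']
    (f : M' ⟶ M) {B : ModSite.Mod O} (φ : M ⟶ B) :
    sharp M' B (f ≫ φ) = sharp M B φ ≫ (ExtSupp.sheafHomMap f).app B := by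
  unfold sharp
  have h := homEquiv_comp_conjugateEquiv (ModSite.sheafHomAdj M) (ModSite.sheafHomAdj M')
    ((ModSite.tensorBi O).flip.map f) (T := ModSite.unit O) (I := B) ((ρ M).hom ≫ φ)
  rw [← Category.assoc, ρ_naturality, Category.assoc] at h
  exact h

lemma preservesFiniteLimits_sheafHom (M : ModSite.Mod O) [ModSite.HasSheafHom M] :
    PreservesFiniteLimits (ModSite.sheafHom M) := by
  have h2 : PreservesLimitsOfSize.{0, 0} (ModSite.sheafHom M) :=
    (ModSite.sheafHomAdj M).rightAdjoint_preservesLimits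
  exact h2.preservesFiniteLimits

/-- the short exact sequence of internal hom functors attached to a short exact sequence -/
lemma exactOnInj (S : ShortComplex (ModSite.Mod O)) (hS : S.ShortExact)
    [ModSite.HasSheafHom S.X₁] [ModSite.HasSheafHom S.X₂] [ModSite.HasSheafHom S.X₃] :
    Groth.Agent.Lib.FunctorSESNat.ExactOnInj (ExtSupp.sheafHomMap S.g) (ExtSupp.sheafHomMap S.f) :=
  fun I _ => shortExact_sheafHomMap S hS I

variable [HasExt.{u} (ModSite.Mod O)]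

/-- the degree zero comparison `Ext^0(M, B) ≃+ H^0(ℋom(M, B))` -/
noncomputable def e₀ (M B : ModSite.Mod O) [ModSite.HasSheafHom M] :
    Ext.{u} M B 0 ≃+ Ext.{u} (ZZ (J := J)) ((UU O).obj ((ModSite.sheafHom M).obj B)) 0 :=
  Ext.addEquiv₀.trans ((AddEquiv.ofBijective
    (AddMonoidHom.mk' (fun φ : M ⟶ B => Groth.Agent.Lib.ModUnitH.ι (ModSite.ringSh O) ≫
      (UU O).map (sharp M B φ)) (by
        intro a b
        simp only [sharp_add, Functor.map_add, Preadditive.comp_add]))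
    ((Groth.Agent.Lib.ModUnitH.bijective_ι_comp (ModSite.ringSh O) _).comp
      (sharp_bijective M B))).trans Ext.addEquiv₀.symm)

lemma e₀_mk₀ (M B : ModSite.Mod O) [ModSite.HasSheafHom M] (φ : M ⟶ B) :
    e₀ M B (Ext.mk₀ φ) = Ext.mk₀ (Groth.Agent.Lib.ModUnitH.ι (ModSite.ringSh O) ≫
      (UU O).map (sharp M B φ)) := by
  have h : Ext.addEquiv₀ (Ext.mk₀ φ) = φ := Ext.addEquiv₀.apply_symm_apply φ
  simp only [e₀, AddEquiv.trans_apply, h]
  rfl

lemma e₀_compat (M B : ModSite.Mod O) [ModSite.HasSheafHom M]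
    (z : 𝟭 (ModSite.Mod O) ⟶ 𝟭 (ModSite.Mod O)) (hz : TensorCentral O z) (x : Ext.{u} M B 0) :
    e₀ M B (x.comp (Ext.mk₀ (z.app B)) (add_zero 0)) =
      hMap (UU O) ZZ (z.app ((ModSite.sheafHom M).obj B)) 0 (e₀ M B x) := by
  obtain ⟨φ, rfl⟩ := (Ext.mk₀_bijective _ _).2 x
  rw [Ext.mk₀_comp_mk₀, e₀_mk₀, e₀_mk₀, hMap_apply, Ext.mk₀_comp_mk₀, Category.assoc,
    ← Functor.map_comp, sharp_comp]
  congr 4
  exact Groth.Agent.Lib.H43ExtSheafHomLin.map_central_of_adjunction_right (ModSite.sheafHomAdj M) z z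
    (fun N => hz M N) B

lemma e₀_nat {M' M : ModSite.Mod O} [ModSite.HasSheafHom M] [ModSite.HasSheafHom M']
    (f : M' ⟶ M) (B : ModSite.Mod O) (x : Ext.{u} M B 0) :
    e₀ M' B ((Ext.mk₀ f).comp x (zero_add 0)) =
      hMap (UU O) ZZ ((ExtSupp.sheafHomMap f).app B) 0 (e₀ M B x) := by
  obtain ⟨φ, rfl⟩ := (Ext.mk₀_bijective _ _).2 x
  rw [Ext.mk₀_comp_mk₀, e₀_mk₀, e₀_mk₀, hMap_apply, Ext.mk₀_comp_mk₀, Category.assoc,
    ← Functor.map_comp, sharp_precomp]

variable [HasInjectiveResolutions (ModSite.Mod O)]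

/-- `Ext^m(F, B) ≃+ H^0(ℰxt^m(F, B))`, compatibly with the central endomorphisms in `Z` -/
def PS (Z : Set (𝟭 (ModSite.Mod O) ⟶ 𝟭 (ModSite.Mod O))) (m : ℕ) (F B : ModSite.Mod O)
    [ModSite.HasSheafHom F] : Prop :=
  Pgen (UU O) ZZ Z m F B ((ModSite.extSh F m).obj B)

theorem PS.zero (Z : Set (𝟭 (ModSite.Mod O) ⟶ 𝟭 (ModSite.Mod O))) (hZ : ∀ z ∈ Z, TensorCentral O z)
    (F B : ModSite.Mod O) [ModSite.HasSheafHom F] : PS Z 0 F B := by
  have h0 : Pgen (UU O) ZZ Z 0 F B ((ModSite.sheafHom F).obj B) :=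
    ⟨e₀ F B, fun z hz x => e₀_compat F B z (hZ z hz) x⟩
  have := preservesFiniteLimits_sheafHom F
  have h4 : IsIso (ModSite.sheafHom F).toRightDerivedZero := inferInstance
  have h5 : IsIso ((ModSite.sheafHom F).toRightDerivedZero.app B) := NatIso.isIso_app_of_isIso _ _
  exact h0.of_iso (asIso ((ModSite.sheafHom F).toRightDerivedZero.app B))

theorem PS.succ (Z : Set (𝟭 (ModSite.Mod O) ⟶ 𝟭 (ModSite.Mod O)))
    (S : ShortComplex (ModSite.Mod O)) (hS : S.ShortExact)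
    [ModSite.HasSheafHom S.X₁] [ModSite.HasSheafHom S.X₂] [ModSite.HasSheafHom S.X₃]
    (B : ModSite.Mod O) (m : ℕ)
    (h1 : Subsingleton (Ext.{u} S.X₂ B (m + 1))) (h2 : Subsingleton (Ext.{u} S.X₂ B (m + 1 + 1)))
    (h3 : IsZero ((ModSite.extSh S.X₂ (m + 1)).obj B))
    (h4 : IsZero ((ModSite.extSh S.X₂ (m + 1 + 1)).obj B))
    (h : PS Z (m + 1) S.X₁ B) : PS Z (m + 1 + 1) S.X₃ B := by
  have h5 : Pgen (UU O) ZZ Z (m + 1 + 1) S.X₃ B ((ModSite.extSh S.X₁ (m + 1)).obj B) :=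
    Pgen.shift hS B (m + 1) h1 h2 h
  have := Groth.Agent.Lib.AcyclicFirstVar.isIso_δ_app (exactOnInj S hS) (m + 1) B h3 h4
  exact h5.of_iso (asIso ((Groth.Agent.Lib.FunctorSESNat.δ (exactOnInj S hS) (m + 1)).app B))

theorem PS.one (Z : Set (𝟭 (ModSite.Mod O) ⟶ 𝟭 (ModSite.Mod O))) (hZ : ∀ z ∈ Z, TensorCentral O z)
    (S : ShortComplex (ModSite.Mod O)) (hS : S.ShortExact)
    [ModSite.HasSheafHom S.X₁] [ModSite.HasSheafHom S.X₂] [ModSite.HasSheafHom S.X₃]
    (B : ModSite.Mod O)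
    (h1 : Subsingleton (Ext.{u} S.X₂ B 1))
    (h3 : IsZero ((ModSite.extSh S.X₂ 1).obj B))
    (v1 : Subsingleton (Ext.{u} (ZZ (J := J)) ((UU O).obj ((ModSite.sheafHom S.X₃).obj B)) 1))
    (v2 : Subsingleton (Ext.{u} (ZZ (J := J)) ((UU O).obj ((ModSite.sheafHom S.X₃).obj B)) 2))
    (v3 : Subsingleton (Ext.{u} (ZZ (J := J)) ((UU O).obj ((ModSite.sheafHom S.X₂).obj B)) 1)) :
    PS Z 1 S.X₃ B := by
  have hS' := hS.epi_g
  obtain ⟨w₁, ex₁, hmono⟩ := leftExact_sheafHomMap S hS.exact B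
  have := preservesFiniteLimits_sheafHom S.X₁
  have := preservesFiniteLimits_sheafHom S.X₂
  have hq := Groth.Agent.Lib.FunctorSESNat.epi_q_app (exactOnInj S hS) B h3
  have : PreservesFiniteColimits (UU O) := ⟨fun K _ _ => inferInstance⟩
  exact Pgen.one (U := UU O) (A := ZZ) hS B h1 ((ExtSupp.sheafHomMap S.g).app B)
    ((ExtSupp.sheafHomMap S.f).app B) ((Groth.Agent.Lib.FunctorSESNat.q (exactOnInj S hS)).app B)
    w₁ (Groth.Agent.Lib.FunctorSESNat.β_q_app (exactOnInj S hS) B) ex₁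
    (Groth.Agent.Lib.FunctorSESNat.exact_β_q_app (exactOnInj S hS) B) v1 v2 v3
    (e₀ S.X₂ B) (e₀ S.X₁ B) (fun x => e₀_nat S.f B x)
    (fun z hz x => e₀_compat S.X₁ B z (hZ z hz) x)

end Groth.Agent.Lib.H43LocGlobSite
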