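import Groth.Prelude.Def_ChGrp
import Mathlib.AlgebraicGeometry.Sites.Fpqc

/-!
# Morphisms of `S`-schemes with sections fppf-locally on the target (helper43)

For `j : A ⟶ Y` in `Over S` with `NonAbH1.IsLocallyTrivialFor Scheme.fppfPrecoverage (Over.mk j.left)`:
the sieve generated by `j.left` is an fppf covering, `j.left` is an effective epimorphism, `j` is an epimorphism,
morphisms out of `Y` (or of anything mapping to `Y`) can be compared on points that lift through `j`, and
morphisms out of `A` equalising the kernel pair of `j` descend to `Y`.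
-/

universe u

open CategoryTheory CategoryTheory.Limits AlgebraicGeometry

namespace Groth.Agent.Lib.H43LocSplit

variable {S : Scheme.{u}}

/-- The sieve generated by a morphism with fppf-local sections is an fppf covering sieve. -/
lemma generate_singleton_mem {A Y : Over S} (j : A ⟶ Y)
    (h : NonAbH1.IsLocallyTrivialFor Scheme.fppfPrecoverage (Over.mk j.left : Over Y.left)) :
    Sieve.generate (Presieve.singleton j.left) ∈ Scheme.fppfTopology Y.left := by
  obtain ⟨R, hR, hsec⟩ := h
  refine GrothendieckTopology.superset_covering _ ?_ (Precoverage.generate_mem_toGrothendieck hR)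
  rw [Sieve.generate_le_iff]
  intro T f hf
  obtain ⟨s, hs⟩ := hsec f hf
  exact ⟨_, s, j.left, Presieve.singleton.mk, hs⟩

/-- A morphism with fppf-local sections is an effective epimorphism of schemes. -/
lemma effectiveEpi_left {A Y : Over S} (j : A ⟶ Y)
    (h : NonAbH1.IsLocallyTrivialFor Scheme.fppfPrecoverage (Over.mk j.left : Over Y.left)) :
    EffectiveEpi j.left := by
  rw [← Sieve.effectiveEpimorphic_singleton,
    Presieve.EffectiveEpimorphic.iff_forall_isSheafFor_yoneda]
  intro Z
  exact (GrothendieckTopology.Subcanonical.isSheaf_of_isRepresentable _).isSheafFor _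
    (generate_singleton_mem j h)

/-- Two morphisms out of `Y'` agree as soon as they agree on all points of `Y'` whose image under
`y : Y' ⟶ Y` lifts through `j`. -/
lemma hom_ext_of_locally_lift {A Y Y' W : Over S} (j : A ⟶ Y)
    (h : NonAbH1.IsLocallyTrivialFor Scheme.fppfPrecoverage (Over.mk j.left : Over Y.left))
    (y : Y' ⟶ Y) (a b : Y' ⟶ W)
    (hab : ∀ (T : Over S) (t : T ⟶ Y') (u : T ⟶ A), u ≫ j = t ≫ y → t ≫ a = t ≫ b) : a = b := by
  have hcov : (Sieve.generate (Presieve.singleton j.left)).pullback y.left ∈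
      Scheme.fppfTopology Y'.left :=
    (Scheme.fppfTopology).pullback_stable y.left (generate_singleton_mem j h)
  have hsh := (GrothendieckTopology.Subcanonical.isSheaf_of_isRepresentable (J := Scheme.fppfTopology)
    (yoneda.obj W.left)) _ hcov
  ext1
  refine hsh.isSeparatedFor.ext ?_
  intro T t ht
  obtain ⟨T', u, g, hg, hug⟩ := ht
  cases hg
  have hu : u ≫ A.hom = t ≫ Y'.hom := by
    rw [← Over.w j, ← Category.assoc, hug, Category.assoc, Over.w y]
  have := hab (Over.mk (t ≫ Y'.hom)) (Over.homMk t rfl) (Over.homMk u hu)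
    (by ext1; simpa using hug)
  simpa using congrArg CommaMorphism.left this

/-- A morphism with fppf-local sections is an epimorphism in `Over S`. -/
lemma epi {A Y : Over S} (j : A ⟶ Y)
    (h : NonAbH1.IsLocallyTrivialFor Scheme.fppfPrecoverage (Over.mk j.left : Over Y.left)) :
    Epi j := by
  refine ⟨fun {W} a b hab => ?_⟩
  refine hom_ext_of_locally_lift j h (𝟙 Y) a b ?_
  intro T t u hu
  rw [Category.comp_id] at hu
  rw [← hu, Category.assoc, Category.assoc, hab]

/-- Descent: a morphism out of `A` equalising the kernel pair of `j` factors through `j`. -/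
lemma exists_desc {A Y W P : Over S} (j : A ⟶ Y)
    (h : NonAbH1.IsLocallyTrivialFor Scheme.fppfPrecoverage (Over.mk j.left : Over Y.left))
    {p1 p2 : P ⟶ A} (hp : IsPullback p1 p2 j j) (ψ : A ⟶ W) (hψ : p1 ≫ ψ = p2 ≫ ψ) :
    ∃ ρ : Y ⟶ W, j ≫ ρ = ψ := by
  have := effectiveEpi_left j h
  have hp' : IsPullback p1.left p2.left j.left j.left := hp.map (Over.forget S)
  have hψ' : p1.left ≫ ψ.left = p2.left ≫ ψ.left := by
    simpa using congrArg CommaMorphism.left hψ
  have key : ∀ {Z : Scheme.{u}} (g₁ g₂ : Z ⟶ A.left), g₁ ≫ j.left = g₂ ≫ j.left →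
      g₁ ≫ ψ.left = g₂ ≫ ψ.left := by
    intro Z g₁ g₂ hg
    have h1 : hp'.lift g₁ g₂ hg ≫ p1.left = g₁ := hp'.lift_fst _ _ _
    have h2 : hp'.lift g₁ g₂ hg ≫ p2.left = g₂ := hp'.lift_snd _ _ _
    rw [← h1, Category.assoc, hψ', ← Category.assoc, h2]
  have hfac : j.left ≫ EffectiveEpi.desc j.left ψ.left key = ψ.left := EffectiveEpi.fac _ _ _
  have hw : EffectiveEpi.desc j.left ψ.left key ≫ W.hom = Y.hom := by
    have : Epi j.left := inferInstance
    rw [← cancel_epi j.left, ← Category.assoc, hfac, Over.w ψ, Over.w j]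
  refine ⟨Over.homMk (EffectiveEpi.desc j.left ψ.left key) hw, ?_⟩
  ext1
  exact hfac

end Groth.Agent.Lib.H43LocSplit
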