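import Groth.Prelude.Def_ChGrp
import Mathlib.AlgebraicGeometry.Sites.Fpqc

/-!
# Morphisms of `S`-schemes with sections locally on the target, any subcanonical precoverage (helper43)

Generalisation of `Lib/H43LocSplit` from the fppf precoverage to an arbitrary precoverage `K` of schemes
whose Grothendieck topology is subcanonical (fppf, fpqc, étale, Zariski...).  For `j : A ⟶ Y` in `Over S` with
`NonAbH1.IsLocallyTrivialFor K (Over.mk j.left)`: `j.left` is an effective epimorphism, `j` is an epimorphism,
morphisms can be compared on points lifting through `j`, and morphisms equalising the kernel pair descend.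
Also: a point which factors locally through a monomorphism factors globally
(`exists_factor_of_locally`), and general "local" comparison of morphisms (`hom_ext_of_cover`).
-/

universe u

open CategoryTheory CategoryTheory.Limits AlgebraicGeometry

namespace Groth.Agent.Lib.H43LocSplit2

variable {S : Scheme.{u}} (K : Precoverage Scheme.{u})

/-- The sieve generated by a morphism with `K`-local sections is a `K`-covering sieve. -/
lemma generate_singleton_mem {A Y : Over S} (j : A ⟶ Y)
    (h : NonAbH1.IsLocallyTrivialFor K (Over.mk j.left : Over Y.left)) :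
    Sieve.generate (Presieve.singleton j.left) ∈ K.toGrothendieck Y.left := by
  obtain ⟨R, hR, hsec⟩ := h
  refine GrothendieckTopology.superset_covering _ ?_ (Precoverage.generate_mem_toGrothendieck hR)
  rw [Sieve.generate_le_iff]
  intro T f hf
  obtain ⟨s, hs⟩ := hsec f hf
  exact ⟨_, s, j.left, Presieve.singleton.mk, hs⟩

variable [K.toGrothendieck.Subcanonical]

/-- A morphism with `K`-local sections is an effective epimorphism of schemes. -/
lemma effectiveEpi_left {A Y : Over S} (j : A ⟶ Y)
    (h : NonAbH1.IsLocallyTrivialFor K (Over.mk j.left : Over Y.left)) :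
    EffectiveEpi j.left := by
  rw [← Sieve.effectiveEpimorphic_singleton,
    Presieve.EffectiveEpimorphic.iff_forall_isSheafFor_yoneda]
  intro Z
  exact (GrothendieckTopology.Subcanonical.isSheaf_of_isRepresentable (J := K.toGrothendieck) _).isSheafFor _
    (generate_singleton_mem K j h)

/-- Two morphisms `a b : T ⟶ W` in `Over S` agree as soon as they agree after restriction to the members
of a `K`-covering sieve of `T.left`. -/
lemma hom_ext_of_cover {T W : Over S} (a b : T ⟶ W) (R : Sieve T.left)
    (hR : R ∈ K.toGrothendieck T.left)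
    (hab : ∀ ⦃T' : Scheme.{u}⦄ (t : T' ⟶ T.left), R t → t ≫ a.left = t ≫ b.left) : a = b := by
  have hsh := (GrothendieckTopology.Subcanonical.isSheaf_of_isRepresentable (J := K.toGrothendieck)
    (yoneda.obj W.left)) _ hR
  ext1
  exact hsh.isSeparatedFor.ext fun T' t ht => hab t ht

/-- Two morphisms out of `Y'` agree as soon as they agree on all points of `Y'` whose image under
`y : Y' ⟶ Y` lifts through `j`. -/
lemma hom_ext_of_locally_lift {A Y Y' W : Over S} (j : A ⟶ Y)
    (h : NonAbH1.IsLocallyTrivialFor K (Over.mk j.left : Over Y.left))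
    (y : Y' ⟶ Y) (a b : Y' ⟶ W)
    (hab : ∀ (T : Over S) (t : T ⟶ Y') (u : T ⟶ A), u ≫ j = t ≫ y → t ≫ a = t ≫ b) : a = b := by
  have hcov : (Sieve.generate (Presieve.singleton j.left)).pullback y.left ∈
      K.toGrothendieck Y'.left :=
    (K.toGrothendieck).pullback_stable y.left (generate_singleton_mem K j h)
  refine hom_ext_of_cover K a b _ hcov ?_
  intro T t ht
  obtain ⟨T', u, g, hg, hug⟩ := ht
  cases hg
  have hu : u ≫ A.hom = t ≫ Y'.hom := by
    rw [← Over.w j, ← Category.assoc, hug, Category.assoc, Over.w y]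
  have := hab (Over.mk (t ≫ Y'.hom)) (Over.homMk t rfl) (Over.homMk u hu)
    (by ext1; simpa using hug)
  simpa using congrArg CommaMorphism.left this

/-- A morphism with `K`-local sections is an epimorphism in `Over S`. -/
lemma epi {A Y : Over S} (j : A ⟶ Y)
    (h : NonAbH1.IsLocallyTrivialFor K (Over.mk j.left : Over Y.left)) :
    Epi j := by
  refine ⟨fun {W} a b hab => ?_⟩
  refine hom_ext_of_locally_lift K j h (𝟙 Y) a b ?_
  intro T t u hu
  rw [Category.comp_id] at hu
  rw [← hu, Category.assoc, Category.assoc, hab]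

/-- Descent: a morphism out of `A` equalising the kernel pair of `j` factors through `j`. -/
lemma exists_desc {A Y W P : Over S} (j : A ⟶ Y)
    (h : NonAbH1.IsLocallyTrivialFor K (Over.mk j.left : Over Y.left))
    {p1 p2 : P ⟶ A} (hp : IsPullback p1 p2 j j) (ψ : A ⟶ W) (hψ : p1 ≫ ψ = p2 ≫ ψ) :
    ∃ ρ : Y ⟶ W, j ≫ ρ = ψ := by
  have := effectiveEpi_left K j h
  have hp' : IsPullback p1.left p2.left j.left j.left := hp.map (Over.forget S)
  have hψ' : p1.left ≫ ψ.left = p2.left ≫ ψ.left := by
    simpa using congrArg CommaMorphism.left hψ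
  have key : ∀ {Z : Scheme.{u}} (g₁ g₂ : Z ⟶ A.left), g₁ ≫ j.left = g₂ ≫ j.left →
      g₁ ≫ ψ.left = g₂ ≫ ψ.left := by
    intro Z g₁ g₂ hg
    have h1 : hp'.lift g₁ g₂ hg ≫ p1.left = g₁ := hp'.lift_fst _ _ _
    have h2 : hp'.lift g₁ g₂ hg ≫ p2.left = g₂ := hp'.lift_snd _ _ _
    rw [← h1, Category.assoc, hψ', ← Category.assoc, h2]
  have hfac : j.left ≫ EffectiveEpi.desc j.left ψ.left key = ψ.left := EffectiveEpi.fac _ _ _
  have hw : EffectiveEpi.desc j.left ψ.left key ≫ W.hom = Y.hom := by
    have : Epi j.left := inferInstance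
    rw [← cancel_epi j.left, ← Category.assoc, hfac, Over.w ψ, Over.w j]
  refine ⟨Over.homMk (EffectiveEpi.desc j.left ψ.left key) hw, ?_⟩
  ext1
  exact hfac

/-- A point `g : T ⟶ X` which factors through the monomorphism `i : Q ⟶ X` after restriction to the members
of a `K`-covering sieve of `T.left` factors through `i`. -/
lemma exists_factor_of_locally {Q X T : Over S} (i : Q ⟶ X) [Mono i] (g : T ⟶ X) (R : Sieve T.left)
    (hR : R ∈ K.toGrothendieck T.left)
    (hloc : ∀ ⦃T' : Scheme.{u}⦄ (t : T' ⟶ T.left), R t → ∃ x : T' ⟶ Q.left, x ≫ i.left = t ≫ g.left) :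
    ∃ q : T ⟶ Q, q ≫ i = g := by
  have hmono : Mono i.left := inferInstance
  have hsh := (GrothendieckTopology.Subcanonical.isSheaf_of_isRepresentable (J := K.toGrothendieck)
    (yoneda.obj Q.left)) _ hR
  let x : Presieve.FamilyOfElements (yoneda.obj Q.left) R.arrows := fun T' t ht => (hloc t ht).choose
  have hx : ∀ ⦃T' : Scheme.{u}⦄ (t : T' ⟶ T.left) (ht : R t), x t ht ≫ i.left = t ≫ g.left :=
    fun T' t ht => (hloc t ht).choose_spec
  have hcompat : x.Compatible := by
    intro Y₁ Y₂ Z g₁ g₂ f₁ f₂ h₁ h₂ hcomm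
    change g₁ ≫ x f₁ h₁ = g₂ ≫ x f₂ h₂
    rw [← cancel_mono i.left, Category.assoc, Category.assoc, hx f₁ h₁, hx f₂ h₂, ← Category.assoc,
      hcomm, Category.assoc]
  obtain ⟨q, hq, -⟩ := hsh x hcompat
  have hqi : q ≫ i.left = g.left := by
    have hshX := (GrothendieckTopology.Subcanonical.isSheaf_of_isRepresentable
      (J := K.toGrothendieck) (yoneda.obj X.left)) _ hR
    refine hshX.isSeparatedFor.ext ?_
    intro T' t ht
    have h1 : t ≫ q = x t ht := hq t ht
    change t ≫ q ≫ i.left = t ≫ g.left
    rw [← Category.assoc, h1, hx t ht]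
  have hw : q ≫ Q.hom = T.hom := by
    rw [← Over.w i, ← Category.assoc, hqi, Over.w g]
  exact ⟨Over.homMk q hw, by ext1; exact hqi⟩

end Groth.Agent.Lib.H43LocSplit2
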