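/-
helper43: Moore's theorem (simplicial groups are Kan complexes; degreewise surjective
homomorphisms of simplicial groups are Kan fibrations).

* `Core`: the three top levels of a truncated simplicial group, `ℕ`-indexed; `Core.fill` is the
  classical horn filling algorithm, relative to a simplicial subgroup and a starting simplex.
* `dN`, `sN`: `ℕ`-indexed cofaces / codegeneracies in `SimplexCategory` with the simplicial
  identities.
* `exists_lift`: horn filling in a simplicial set `Z` with group structures on all `Z.obj n`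
  such that all `Z.map f` are multiplicative.
* `kanComplex_of_group`, `rlp_J_of_group_surjective`.
-/
import Mathlib

open CategoryTheory Simplicial Opposite

universe u

namespace Groth.Agent.Lib.H43Moore

section Core

variable {A B C : Type*} [Group A] [Group B] [Group C]

/-- Data of the three top levels of a (truncated) simplicial group, indexed by `ℕ`
(only the indices in range matter). -/
structure Core (A B C : Type*) [Group A] [Group B] [Group C] (n : ℕ) where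
  d : ℕ → A →* B
  s : ℕ → B →* A
  d' : ℕ → B →* C
  s' : ℕ → C →* B
  h1 : ∀ i j, i < j → j ≤ n + 1 → ∀ a, d' i (d j a) = d' (j - 1) (d i a)
  h2a : ∀ i j, i < j → j ≤ n → ∀ b, d i (s j b) = s' (j - 1) (d' i b)
  h2b : ∀ j, j ≤ n → ∀ b, d j (s j b) = b
  h2b' : ∀ j, j ≤ n → ∀ b, d (j + 1) (s j b) = b
  h2c : ∀ i j, j + 1 < i → i ≤ n + 1 → ∀ b, d i (s j b) = s' j (d' (i - 1) b)

variable {n : ℕ} (K : Core A B C n)
  (KA : Subgroup A) (KB : Subgroup B)
  (hKs : ∀ j, j ≤ n → ∀ b ∈ KB, K.s j b ∈ KA)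
  (hKd : ∀ j, j ≤ n + 1 → ∀ a ∈ KA, K.d j a ∈ KB)
  (i₀ : ℕ)
  (x : ℕ → B)
  (hx : ∀ j k, j < k → k ≤ n + 1 → j ≠ i₀ → k ≠ i₀ → K.d' (k - 1) (x j) = K.d' j (x k))
  (u₀ : A)
  (hu₀ : ∀ j, j ≤ n + 1 → j ≠ i₀ → (K.d j u₀)⁻¹ * x j ∈ KB)

include hx in
lemma Core.aux1 (u : A) (j r : ℕ) (hjr : j < r) (hr : r ≤ n + 1) (hj : j ≠ i₀) (hr' : r ≠ i₀)
    (hu : K.d j u = x j) : K.d' j ((K.d r u)⁻¹ * x r) = 1 := by
  rw [map_mul, map_inv, K.h1 j r hjr hr, hu, hx j r hjr hr hj hr']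
  simp

include hx in
lemma Core.aux2 (u : A) (j r : ℕ) (hrj : r < j) (hj' : j ≤ n + 1) (hj : j ≠ i₀) (hr' : r ≠ i₀)
    (hu : K.d j u = x j) : K.d' (j - 1) ((K.d r u)⁻¹ * x r) = 1 := by
  rw [map_mul, map_inv, ← K.h1 r j hrj hj', hu, hx r j hrj hj' hr' hj]
  simp

include hKs hKd hu₀ in
lemma Core.mem_step (u : A) (hu : u₀⁻¹ * u ∈ KA) (r m : ℕ) (hr : r ≤ n + 1) (hr' : r ≠ i₀)
    (hm : m ≤ n) : u₀⁻¹ * (u * K.s m ((K.d r u)⁻¹ * x r)) ∈ KA := by
  rw [← mul_assoc]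
  refine KA.mul_mem hu (hKs m hm _ ?_)
  have h1 : (K.d r u)⁻¹ * x r = (K.d r (u₀⁻¹ * u))⁻¹ * ((K.d r u₀)⁻¹ * x r) := by
    simp only [map_mul, map_inv]; group
  rw [h1]
  exact KB.mul_mem (KB.inv_mem (hKd r hr _ hu)) (hu₀ r hr hr')

include hKs hKd hx hu₀ in
lemma Core.phase1 (r : ℕ) (hr : r ≤ i₀) (hi₀ : i₀ ≤ n + 1) :
    ∃ u : A, (∀ j, j < r → K.d j u = x j) ∧ u₀⁻¹ * u ∈ KA := by
  induction r with
  | zero => exact ⟨u₀, fun j hj => absurd hj (Nat.not_lt_zero _), by simp⟩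
  | succ r ih =>
    obtain ⟨u, hu, huK⟩ := ih (by omega)
    refine ⟨u * K.s r ((K.d r u)⁻¹ * x r), fun j hj => ?_,
      K.mem_step KA KB hKs hKd i₀ x u₀ hu₀ u huK r r (by omega) (by omega) (by omega)⟩
    rw [map_mul]
    rcases Nat.lt_succ_iff_lt_or_eq.mp hj with hj | rfl
    · rw [K.h2a j r hj (by omega), K.aux1 i₀ x hx u j r hj (by omega) (by omega) (by omega) (hu j hj),
        map_one, mul_one, hu j hj]
    · rw [K.h2b j (by omega)]; group

include hKs hKd hx hu₀ in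
lemma Core.phase2 (hi₀ : i₀ ≤ n + 1) (m : ℕ) (hm : i₀ + m ≤ n + 1) :
    ∃ u : A, (∀ j, j < i₀ → K.d j u = x j) ∧
      (∀ j, n + 1 - m < j → j ≤ n + 1 → K.d j u = x j) ∧ u₀⁻¹ * u ∈ KA := by
  induction m with
  | zero =>
    obtain ⟨u, hu, huK⟩ := K.phase1 KA KB hKs hKd i₀ x hx u₀ hu₀ i₀ le_rfl hi₀
    exact ⟨u, hu, fun j hj hj' => by omega, huK⟩
  | succ m ih =>
    obtain ⟨u, hu, hu', huK⟩ := ih (by omega)
    -- fix the face `t = n + 1 - m` using `s (t - 1)`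
    obtain ⟨t, ht⟩ : ∃ t, t = n + 1 - m := ⟨_, rfl⟩
    have ht1 : i₀ < t := by omega
    refine ⟨u * K.s (t - 1) ((K.d t u)⁻¹ * x t), fun j hj => ?_, fun j hj hj' => ?_,
      K.mem_step KA KB hKs hKd i₀ x u₀ hu₀ u huK t (t - 1) (by omega) (by omega) (by omega)⟩
    · rw [map_mul, K.h2a j (t - 1) (by omega) (by omega),
        K.aux1 i₀ x hx u j t (by omega) (by omega) (by omega) (by omega) (hu j hj),
        map_one, mul_one, hu j hj]
    · rw [map_mul]
      rcases (show j = t ∨ t < j by omega) with rfl | hjt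
      · have := K.h2b' (j - 1) (by omega) ((K.d j u)⁻¹ * x j)
        rw [show j - 1 + 1 = j by omega] at this
        rw [this]; group
      · have hj1 : K.d j u = x j := hu' j (by omega) hj'
        rw [K.h2c j (t - 1) (by omega) hj',
          K.aux2 i₀ x hx u j t hjt hj' (by omega) (by omega) hj1, map_one, mul_one, hj1]

include hKs hKd hx hu₀ in
/-- Moore's horn filling algorithm, relative to a simplicial subgroup `K` and a starting simplex
`u₀`. -/
theorem Core.fill (hi₀ : i₀ ≤ n + 1) :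
    ∃ u : A, (∀ j, j ≤ n + 1 → j ≠ i₀ → K.d j u = x j) ∧ u₀⁻¹ * u ∈ KA := by
  obtain ⟨u, hu, hu', huK⟩ :=
    K.phase2 KA KB hKs hKd i₀ x hx u₀ hu₀ hi₀ (n + 1 - i₀) (by omega)
  refine ⟨u, fun j hj hj' => ?_, huK⟩
  rcases (show j < i₀ ∨ i₀ < j by omega) with h | h
  · exact hu j h
  · exact hu' j (by omega) hj

end Core

section Idx

open SimplexCategory

/-- `ℕ`-indexed coface maps. -/
def dN (n j : ℕ) : ⦋n⦌ ⟶ ⦋n + 1⦌ :=
  if h : j < n + 2 then SimplexCategory.δ ⟨j, h⟩ else SimplexCategory.δ 0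

/-- `ℕ`-indexed codegeneracy maps. -/
def sN (n j : ℕ) : ⦋n + 1⦌ ⟶ ⦋n⦌ :=
  if h : j < n + 1 then SimplexCategory.σ ⟨j, h⟩ else SimplexCategory.σ 0

lemma dN_eq {n j : ℕ} (h : j < n + 2) : dN n j = SimplexCategory.δ ⟨j, h⟩ := dif_pos h
lemma sN_eq {n j : ℕ} (h : j < n + 1) : sN n j = SimplexCategory.σ ⟨j, h⟩ := dif_pos h

lemma dN_comp_dN {n i j : ℕ} (hij : i < j) (hj : j ≤ n + 2) :
    dN n i ≫ dN (n + 1) j = dN n (j - 1) ≫ dN (n + 1) i := by
  rw [dN_eq (show i < n + 2 by omega), dN_eq (show j < n + 1 + 2 by omega),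
    dN_eq (show j - 1 < n + 2 by omega), dN_eq (show i < n + 1 + 2 by omega)]
  have := SimplexCategory.δ_comp_δ (n := n) (i := ⟨i, by omega⟩) (j := ⟨j - 1, by omega⟩)
    (by simp [Fin.le_iff_val_le_val]; omega)
  convert this using 3
  all_goals first | rfl | (apply Fin.ext; simp; done) | (apply Fin.ext; simp; omega)

lemma dN_comp_sN_lt {n i j : ℕ} (hij : i < j) (hj : j ≤ n + 1) :
    dN (n + 1) i ≫ sN (n + 1) j = sN n (j - 1) ≫ dN n i := by
  rw [dN_eq (show i < n + 1 + 2 by omega), sN_eq (show j < n + 1 + 1 by omega),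
    sN_eq (show j - 1 < n + 1 by omega), dN_eq (show i < n + 2 by omega)]
  have := SimplexCategory.δ_comp_σ_of_le (n := n) (i := ⟨i, by omega⟩) (j := ⟨j - 1, by omega⟩)
    (by simp [Fin.le_iff_val_le_val]; omega)
  convert this using 3
  all_goals first | rfl | (apply Fin.ext; simp; done) | (apply Fin.ext; simp; omega)

lemma dN_comp_sN_self {n j : ℕ} (hj : j ≤ n) : dN n j ≫ sN n j = 𝟙 _ := by
  rw [dN_eq (show j < n + 2 by omega), sN_eq (show j < n + 1 by omega)]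
  exact SimplexCategory.δ_comp_σ_self (i := ⟨j, by omega⟩)

lemma dN_comp_sN_succ {n j : ℕ} (hj : j ≤ n) : dN n (j + 1) ≫ sN n j = 𝟙 _ := by
  rw [dN_eq (show j + 1 < n + 2 by omega), sN_eq (show j < n + 1 by omega)]
  exact SimplexCategory.δ_comp_σ_succ (i := ⟨j, by omega⟩)

lemma dN_comp_sN_gt {n i j : ℕ} (hij : j + 1 < i) (hi : i ≤ n + 2) :
    dN (n + 1) i ≫ sN (n + 1) j = sN n j ≫ dN n (i - 1) := by
  rw [dN_eq (show i < n + 1 + 2 by omega), sN_eq (show j < n + 1 + 1 by omega),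
    sN_eq (show j < n + 1 by omega), dN_eq (show i - 1 < n + 2 by omega)]
  have := SimplexCategory.δ_comp_σ_of_gt (n := n) (i := ⟨i - 1, by omega⟩) (j := ⟨j, by omega⟩)
    (by simp [Fin.lt_def]; omega)
  convert this using 3
  all_goals first | rfl | (apply Fin.ext; simp; done) | (apply Fin.ext; simp; omega)

end Idx

section SSetGrp

open SSet

variable (Z : SSet.{u}) [grp : ∀ n, Group (Z.obj n)]
  (hmul : ∀ {m n : SimplexCategoryᵒᵖ} (f : m ⟶ n) (a b : Z.obj m),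
    Z.map f (a * b) = Z.map f a * Z.map f b)

/-- The structure maps as group homomorphisms. -/
def mapHom {m n : SimplexCategoryᵒᵖ} (f : m ⟶ n) : Z.obj m →* Z.obj n :=
  MonoidHom.mk' (Z.map f) (hmul f)

@[simp] lemma mapHom_apply {m n : SimplexCategoryᵒᵖ} (f : m ⟶ n) (a : Z.obj m) :
    mapHom Z hmul f a = Z.map f a := rfl

/-- The core at level `m + 1`. -/
def coreSucc (m : ℕ) : Core (Z _⦋m + 2⦌) (Z _⦋m + 1⦌) (Z _⦋m⦌) (m + 1) where
  d j := mapHom Z hmul (dN (m + 1) j).op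
  s j := mapHom Z hmul (sN (m + 1) j).op
  d' j := mapHom Z hmul (dN m j).op
  s' j := mapHom Z hmul (sN m j).op
  h1 i j hij hj a := by
    simp only [mapHom_apply, ← Functor.map_comp_apply, ← op_comp]
    rw [dN_comp_dN hij (by omega)]
  h2a i j hij hj b := by
    simp only [mapHom_apply, ← Functor.map_comp_apply, ← op_comp]
    rw [dN_comp_sN_lt hij (by omega)]
  h2b j hj b := by
    simp only [mapHom_apply, ← Functor.map_comp_apply, ← op_comp]
    rw [dN_comp_sN_self (by omega)]; simp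
  h2b' j hj b := by
    simp only [mapHom_apply, ← Functor.map_comp_apply, ← op_comp]
    rw [dN_comp_sN_succ (by omega)]; simp
  h2c i j hij hi b := by
    simp only [mapHom_apply, ← Functor.map_comp_apply, ← op_comp]
    rw [dN_comp_sN_gt hij (by omega)]

/-- The core at level `0`. -/
def coreZero : Core (Z _⦋1⦌) (Z _⦋0⦌) PUnit.{1} 0 where
  d j := mapHom Z hmul (dN 0 j).op
  s j := mapHom Z hmul (sN 0 j).op
  d' j := 1
  s' j := 1
  h1 i j hij hj a := rfl
  h2a i j hij hj b := by omega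
  h2b j hj b := by
    simp only [mapHom_apply, ← Functor.map_comp_apply, ← op_comp]
    rw [dN_comp_sN_self (by omega)]; simp
  h2b' j hj b := by
    simp only [mapHom_apply, ← Functor.map_comp_apply, ← op_comp]
    rw [dN_comp_sN_succ (by omega)]; simp
  h2c i j hij hi b := by omega

section Fill

variable (KK : ∀ n, Subgroup (Z.obj n))
  (hKK : ∀ {m n : SimplexCategoryᵒᵖ} (f : m ⟶ n) (a : Z.obj m), a ∈ KK m → Z.map f a ∈ KK n)

omit grp in
lemma δ_eq_map_dN {n : ℕ} (j : Fin (n + 2)) (a : Z _⦋n + 1⦌) :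
    Z.δ j a = Z.map (dN n j.1).op a := by
  rw [dN_eq j.2]; rfl

variable {Z}

/-- The family of faces, extended by `1` to all of `ℕ`. -/
noncomputable def xN {n : ℕ} {i : Fin (n + 2)} (f : ∀ j, j ≠ i → (Δ[n] ⟶ Z)) (j : ℕ) : Z _⦋n⦌ :=
  if h : j < n + 2 then
    (if h' : (⟨j, h⟩ : Fin (n + 2)) ≠ i then yonedaEquiv (f ⟨j, h⟩ h') else 1) else 1

lemma xN_eq {n : ℕ} {i : Fin (n + 2)} (f : ∀ j, j ≠ i → (Δ[n] ⟶ Z)) (j : Fin (n + 2))
    (hj : j ≠ i) : xN f j.1 = yonedaEquiv (f j hj) := by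
  unfold xN
  rw [dif_pos j.2, dif_pos hj]

include hmul hKK in
/-- Moore's theorem, relative form: in a simplicial group `Z` with a simplicial subgroup `KK`,
every horn whose faces agree modulo `KK` with those of a simplex `u₀` can be filled by a simplex
congruent to `u₀` modulo `KK`. -/
theorem exists_lift {n : ℕ} {i : Fin (n + 2)} (f : ∀ j, j ≠ i → (Δ[n] ⟶ Z))
    (hf : horn.IsCompatible f) (u₀ : Z _⦋n + 1⦌)
    (hu₀ : ∀ j hj, (Z.δ j u₀)⁻¹ * yonedaEquiv (f j hj) ∈ KK _) :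
    ∃ φ : Δ[n + 1] ⟶ Z, (∀ j hj, stdSimplex.δ j ≫ φ = f j hj) ∧
      u₀⁻¹ * yonedaEquiv φ ∈ KK _ := by
  suffices h : ∃ u : Z _⦋n + 1⦌, (∀ j, j ≤ n + 1 → j ≠ i.1 → Z.map (dN n j).op u = xN f j) ∧
      u₀⁻¹ * u ∈ KK _ by
    obtain ⟨u, hu, huK⟩ := h
    refine ⟨yonedaEquiv.symm u, fun j hj => ?_, by simpa using huK⟩
    apply yonedaEquiv.injective
    rw [stdSimplex.yonedaEquiv_δ_comp, Equiv.apply_symm_apply, δ_eq_map_dN,
      hu j.1 (by omega) (fun h => hj (Fin.ext h)), xN_eq f j hj]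
  have hu₀' : ∀ j, j ≤ n + 1 → j ≠ i.1 → (Z.map (dN n j).op u₀)⁻¹ * xN f j ∈ KK _ := by
    intro j hj hji
    have := hu₀ ⟨j, by omega⟩ (fun h => hji (by rw [← h]))
    rwa [δ_eq_map_dN, ← xN_eq f ⟨j, by omega⟩] at this
  obtain _ | m := n
  · exact (coreZero Z hmul).fill (KK _) (KK _) (fun j _ b hb => hKK _ b hb)
      (fun j _ a ha => hKK _ a ha) i.1 (xN f) (fun _ _ _ _ _ _ => rfl) u₀ hu₀' (by omega)
  · refine (coreSucc Z hmul m).fill (KK _) (KK _) (fun j _ b hb => hKK _ b hb)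
      (fun j _ a ha => hKK _ a ha) i.1 (xN f) ?_ u₀ hu₀' (by omega)
    intro j k hjk hk hj' hk'
    have hj2 : (⟨j, by omega⟩ : Fin (m + 3)) ≠ i := fun h => hj' (by rw [← h])
    have hk2 : (⟨k, by omega⟩ : Fin (m + 3)) ≠ i := fun h => hk' (by rw [← h])
    have := congrArg yonedaEquiv
      (hf ⟨j, by omega⟩ ⟨k, by omega⟩ hj2 hk2 (by simpa [Fin.lt_def] using hjk))
    rw [stdSimplex.yonedaEquiv_δ_comp, stdSimplex.yonedaEquiv_δ_comp, δ_eq_map_dN,
      δ_eq_map_dN, ← xN_eq f ⟨j, by omega⟩ hj2, ← xN_eq f ⟨k, by omega⟩ hk2] at this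
    exact this

end Fill

section Main

open modelCategoryQuillen

include hmul in
/-- **Moore's theorem**: a simplicial set carrying a simplicial group structure is a Kan
complex. -/
theorem kanComplex_of_group : KanComplex Z := by
  rw [KanComplex.iff]
  intro n i f hf
  obtain ⟨φ, hφ, -⟩ := exists_lift (Z := Z) hmul (fun _ => ⊤) (fun _ _ _ => Subgroup.mem_top _)
    f hf 1 (fun _ _ => Subgroup.mem_top _)
  exact ⟨φ, hφ⟩

variable {Z}
variable {W : SSet.{u}} [grpW : ∀ n, Group (W.obj n)]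
  (hmulW : ∀ {m n : SimplexCategoryᵒᵖ} (f : m ⟶ n) (a b : W.obj m),
    W.map f (a * b) = W.map f a * W.map f b)

include hmul hmulW in
/-- A degreewise surjective homomorphism of simplicial groups is a Kan fibration. -/
theorem rlp_J_of_group_surjective (p : Z ⟶ W)
    (hp : ∀ n (a b : Z.obj n), p.app n (a * b) = p.app n a * p.app n b)
    (hsurj : ∀ n, Function.Surjective (p.app n)) : J.rlp p := by
  let P : ∀ n, Z.obj n →* W.obj n := fun n => MonoidHom.mk' (p.app n) (hp n)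
  have hP : ∀ n a, P n a = p.app n a := fun _ _ => rfl
  intro A B ι hι
  simp only [J, MorphismProperty.iSup_iff] at hι
  obtain ⟨n, ⟨i⟩⟩ := hι
  refine ⟨fun {t b} sq => ?_⟩
  obtain ⟨u₀, hu₀⟩ := hsurj _ (yonedaEquiv b)
  have key : ∀ j hj, p.app _ (yonedaEquiv (horn.ι i j hj ≫ t)) = W.δ j (yonedaEquiv b) := by
    intro j hj
    rw [← SSet.yonedaEquiv_comp, Category.assoc, sq.w, horn.ι_ι_assoc, stdSimplex.yonedaEquiv_δ_comp]
  obtain ⟨φ, hφ, hφK⟩ := exists_lift (Z := Z) hmul (fun n => (P n).ker)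
    (fun {m n} g a ha => by
      rw [MonoidHom.mem_ker, hP] at ha ⊢
      have h1 : p.app n (Z.map g a) = W.map g (p.app m a) :=
        NatTrans.naturality_apply p g a
      rw [h1, ha]
      exact (mapHom W hmulW g).map_one)
    (fun j hj => horn.ι i j hj ≫ t) (horn.IsCompatible.of_hom t) u₀
    (fun j hj => by
      rw [MonoidHom.mem_ker, map_mul, map_inv, hP, hP, key j hj]
      have h1 : p.app _ (Z.δ j u₀) = W.δ j (p.app _ u₀) :=
        NatTrans.naturality_apply p _ u₀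
      rw [h1, hu₀]; group)
  rw [MonoidHom.mem_ker, map_mul, map_inv, hP, hP, hu₀, inv_mul_eq_one] at hφK
  exact ⟨⟨{
    l := φ
    fac_left := horn.hom_ext' (fun j hj => by rw [horn.ι_ι_assoc, hφ j hj])
    fac_right := yonedaEquiv.injective (by rw [SSet.yonedaEquiv_comp, ← hφK]) }⟩⟩

end Main

end SSetGrp

end Groth.Agent.Lib.H43Moore
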