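import Mathlib.RingTheory.PowerSeries.Exp
import Mathlib.RingTheory.PowerSeries.Derivative
import Mathlib.RingTheory.PowerSeries.Substitution

/-!
# Exponentials of power series with zero constant term (helper43)

Over a field `K` of characteristic zero, `E L := (exp K).subst L` for `L` with zero constant term:
* `eq_of_derivative_eq_mul`: uniqueness of solutions of `y' = D y` with given constant term;
* `derivative_E`, `constantCoeff_E`, `E_add`, `E_zero`, `E_sum`, `E_natCast_smul`, `E_neg_mul`;
* `Lam a = ∑_{m ≥ 1} a^m X^m / m` and `E_Lam_mul : E (Lam a) * (1 - C a * X) = 1`;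
* `E_intCast_smul_mul`: for an integer `n`, `E (n • L) * u ^ n.toNat = u ^ (-n).toNat` when `E L * u = 1`.
-/

set_option autoImplicit false

open PowerSeries

namespace Groth.Agent.Lib.H43PSExp

variable {K : Type*} [Field K] [CharZero K]

/-- Uniqueness for the differential equation `y' = D y`. -/
theorem eq_of_derivative_eq_mul {D F G : K⟦X⟧} (hF : d⁄dX K F = D * F) (hG : d⁄dX K G = D * G)
    (h0 : constantCoeff F = constantCoeff G) : F = G := by
  ext n
  induction n using Nat.strong_induction_on with
  | _ n ih =>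
    cases n with
    | zero => simpa using h0
    | succ n =>
      have h1 : coeff n (d⁄dX K F) = coeff n (D * F) := by rw [hF]
      have h2 : coeff n (d⁄dX K G) = coeff n (D * G) := by rw [hG]
      rw [coeff_derivative] at h1 h2
      have h3 : coeff n (D * F) = coeff n (D * G) := by
        rw [coeff_mul, coeff_mul]
        refine Finset.sum_congr rfl fun p hp => ?_
        have hp2 : p.2 < n + 1 := by
          have := Finset.mem_antidiagonal.1 hp
          omega
        rw [ih p.2 hp2]
      have hne : ((n : K) + 1) ≠ 0 := Nat.cast_add_one_ne_zero n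
      exact mul_right_cancel₀ hne (by rw [h1, h2, h3])

/-- The exponential of a power series (meaningful when the constant term vanishes). -/
noncomputable def E (L : K⟦X⟧) : K⟦X⟧ := (exp K).subst L

theorem derivative_E {L : K⟦X⟧} (hL : constantCoeff L = 0) :
    d⁄dX K (E L) = d⁄dX K L * E L := by
  unfold E
  rw [derivative_subst (HasSubst.of_constantCoeff_zero' hL), derivative_exp, mul_comm]

theorem constantCoeff_E {L : K⟦X⟧} (hL : constantCoeff L = 0) : constantCoeff (E L) = 1 := by
  unfold E
  have hs : HasSubst L := HasSubst.of_constantCoeff_zero' hL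
  have h1 : exp K = 1 + (exp K - 1) := by ring
  rw [h1, subst_add hs]
  have h2 : (1 : K⟦X⟧).subst L = 1 := by
    rw [← coe_substAlgHom hs, map_one]
  have h3 : constantCoeff ((exp K - 1).subst L) = 0 :=
    constantCoeff_subst_eq_zero hL _ (by simp)
  rw [h2, map_add, map_one]
  rw [show constantCoeff ((exp K - 1).subst L) = 0 from h3, add_zero]

theorem E_add {L₁ L₂ : K⟦X⟧} (h₁ : constantCoeff L₁ = 0) (h₂ : constantCoeff L₂ = 0) :
    E (L₁ + L₂) = E L₁ * E L₂ := by
  have h12 : constantCoeff (L₁ + L₂) = 0 := by rw [map_add, h₁, h₂, add_zero]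
  apply eq_of_derivative_eq_mul (D := d⁄dX K L₁ + d⁄dX K L₂)
  · rw [derivative_E h12, map_add]
  · rw [Derivation.leibniz, derivative_E h₁, derivative_E h₂, smul_eq_mul, smul_eq_mul]
    ring
  · rw [constantCoeff_E h12, map_mul, constantCoeff_E h₁, constantCoeff_E h₂, mul_one]

theorem E_zero : E (0 : K⟦X⟧) = 1 := by
  apply eq_of_derivative_eq_mul (D := 0)
  · rw [derivative_E (map_zero _), map_zero, zero_mul]
  · rw [derivative_one, zero_mul]
  · rw [constantCoeff_E (map_zero _), map_one]

theorem E_sum {ι : Type*} (s : Finset ι) (L : ι → K⟦X⟧) (h : ∀ i, constantCoeff (L i) = 0) :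
    E (∑ i ∈ s, L i) = ∏ i ∈ s, E (L i) := by
  classical
  induction s using Finset.induction_on with
  | empty => simp [E_zero]
  | insert a s ha ih =>
    rw [Finset.sum_insert ha, Finset.prod_insert ha, E_add (h a), ih]
    rw [map_sum]
    exact Finset.sum_eq_zero fun i _ => h i

theorem constantCoeff_smul_eq_zero {L : K⟦X⟧} (hL : constantCoeff L = 0) (a : K) :
    constantCoeff (a • L) = 0 := by
  rw [smul_eq_C_mul, map_mul, hL, mul_zero]

theorem E_natCast_smul {L : K⟦X⟧} (hL : constantCoeff L = 0) (n : ℕ) :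
    E ((n : K) • L) = E L ^ n := by
  induction n with
  | zero => simp [E_zero]
  | succ n ih =>
    have h1 : constantCoeff ((n : K) • L) = 0 := constantCoeff_smul_eq_zero hL _
    rw [Nat.cast_succ, add_smul, one_smul, E_add h1 hL, ih, pow_succ]

theorem E_neg_mul {L : K⟦X⟧} (hL : constantCoeff L = 0) : E (-L) * E L = 1 := by
  have h1 : constantCoeff (-L) = 0 := by rw [map_neg, hL, neg_zero]
  rw [← E_add h1 hL, neg_add_cancel, E_zero]

/-- For an integer `n` and `u` inverse to `E L`: `E (n • L) * u ^ n⁺ = u ^ n⁻`. -/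
theorem E_intCast_smul_mul {L u : K⟦X⟧} (hL : constantCoeff L = 0) (hu : E L * u = 1) (n : ℤ) :
    E ((n : K) • L) * u ^ n.toNat = u ^ (-n).toNat := by
  obtain ⟨m, rfl | rfl⟩ := n.eq_nat_or_neg
  · have h1 : (-(m : ℤ)).toNat = 0 := by omega
    rw [Int.toNat_natCast, h1, pow_zero, Int.cast_natCast, E_natCast_smul hL, ← mul_pow, hu, one_pow]
  · have h1 : (-(m : ℤ)).toNat = 0 := by omega
    have h2 : (- -(m : ℤ)).toNat = m := by omega
    rw [h1, h2, pow_zero, mul_one, Int.cast_neg, Int.cast_natCast, neg_smul]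
    have hm : constantCoeff ((m : K) • L) = 0 := constantCoeff_smul_eq_zero hL _
    have h3 := E_neg_mul hm
    rw [E_natCast_smul hL] at h3
    calc E (-((m : K) • L)) = E (-((m : K) • L)) * (E L * u) ^ m := by rw [hu, one_pow, mul_one]
      _ = (E (-((m : K) • L)) * E L ^ m) * u ^ m := by rw [mul_pow, mul_assoc]
      _ = u ^ m := by rw [h3, one_mul]

/-- `∑_{m ≥ 1} a^m X^m / m`, the logarithm of `1 / (1 - a X)`. -/
noncomputable def Lam (a : K) : K⟦X⟧ := mk fun m => a ^ m / m

theorem constantCoeff_Lam (a : K) : constantCoeff (Lam a) = 0 := by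
  rw [← coeff_zero_eq_constantCoeff_apply]
  simp [Lam]

theorem derivative_Lam_mul (a : K) : d⁄dX K (Lam a) * (1 - C a * X) = C a := by
  ext n
  rw [mul_sub, mul_one, map_sub, ← mul_assoc, coeff_derivative]
  cases n with
  | zero =>
    rw [coeff_zero_mul_X, sub_zero, coeff_zero_C]
    simp [Lam]
  | succ n =>
    rw [coeff_succ_mul_X, coeff_mul_C, coeff_derivative, coeff_C, if_neg (Nat.succ_ne_zero n)]
    simp only [Lam, coeff_mk]
    have h1 : ((n : K) + 1) ≠ 0 := Nat.cast_add_one_ne_zero n
    have h2 : ((n : K) + 1 + 1) ≠ 0 := by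
      have := Nat.cast_add_one_ne_zero (R := K) (n + 1)
      simpa using this
    push_cast
    field_simp
    ring

theorem E_Lam_mul (a : K) : E (Lam a) * (1 - C a * X) = 1 := by
  apply eq_of_derivative_eq_mul (D := 0)
  · rw [Derivation.leibniz, derivative_E (constantCoeff_Lam a), smul_eq_mul, smul_eq_mul, zero_mul]
    have h1 : d⁄dX K (1 - C a * X : K⟦X⟧) = - C a := by
      rw [map_sub, derivative_one, zero_sub, Derivation.leibniz, derivative_C, derivative_X]
      simp
    rw [h1]
    have h2 := derivative_Lam_mul a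
    calc E (Lam a) * -C a + (1 - C a * X) * (d⁄dX K (Lam a) * E (Lam a))
        = E (Lam a) * (d⁄dX K (Lam a) * (1 - C a * X) - C a) := by ring
      _ = 0 := by rw [h2, sub_self, mul_zero]
  · rw [derivative_one, zero_mul]
  · rw [map_mul, constantCoeff_E (constantCoeff_Lam a), map_one, one_mul, map_sub, map_one, map_mul,
      constantCoeff_X, mul_zero, sub_zero]

end Groth.Agent.Lib.H43PSExp
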