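import Groth.Agent.Lib.H43ExtOpDelta
import Groth.Agent.Lib.H43DualDelta
import Groth.Agent.Lib.DeltaPrecomp92
import Groth.Agent.Lib.DeltaIso
import Groth.Prelude.Def_KLin
import Mathlib.CategoryTheory.Abelian.Subcategory
import Mathlib.CategoryTheory.Preadditive.LeftExact
import Mathlib.CategoryTheory.Limits.Preserves.Opposites

/-!
# Serre duality from a dualizing pairing, by universal delta-functors (helper43)

`X` a scheme over a field `k`, `P` a property of `O_X`-modules closed under kernels, cokernels and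
finite products (e.g. coherent modules on a Noetherian scheme), `ω : X.Modules`, `N : ℕ`,
`t : H^N(X, ω) → k` such that `φ ↦ t ∘ H^N(φ)` is a bijection `Hom(F, ω) → H^N(X, F)^∨` for every
`F` in `P`.  Assume every `F` in `P` is a quotient of some `E` in `P` with `Ext^i(E, ω) = 0` for
`i > 0` and `H^j(X, E) = 0` for `j < N`.  Then `Ext^i(F, ω) ≃ₗ[k] H^{N-i}(X, F)^∨` for `i ≤ N` and
`Ext^i(F, ω) = 0` for `i > N`, for all `F` in `P` (`serre_duality`).
-/

set_option autoImplicit false

universe u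

open CategoryTheory Limits Opposite DeltaF Abelian AlgebraicGeometry

namespace Groth.Agent.Lib.H43SerreDelta

open Groth.Agent.Lib.CohLES Groth.Agent.Lib.H43ExtOpDelta Groth.Agent.Lib.H43DualDelta
  Groth.Agent.Lib.DeltaPrecomp92

variable (k : Type u) [Field k] {X : Scheme.{u}} [X.Over (Spec (CommRingCat.of k))]
  [HasExt.{u} X.Modules]
  (P : ObjectProperty X.Modules) [P.ContainsZero] [P.IsClosedUnderKernels]
  [P.IsClosedUnderCokernels] [P.IsClosedUnderFiniteProducts] (N : ℕ) (ω : X.Modules)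

instance preservesFiniteLimits_ι : PreservesFiniteLimits P.ι := by
  have : ∀ {A B : P.FullSubcategory} (f : A ⟶ B), PreservesLimit (parallelPair f 0) P.ι :=
    fun f => P.preservesKernels_ι f
  exact Functor.preservesFiniteLimits_of_preservesKernels P.ι

instance preservesFiniteColimits_ι : PreservesFiniteColimits P.ι := by
  have : ∀ {A B : P.FullSubcategory} (f : A ⟶ B), PreservesColimit (parallelPair f 0) P.ι :=
    fun f => P.preservesCokernels_ι f
  exact Functor.preservesFiniteColimits_of_preservesCokernels P.ι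

instance preservesFiniteLimits_ι_op : PreservesFiniteLimits P.ι.op :=
  preservesFiniteLimits_op P.ι

instance preservesFiniteColimits_ι_op : PreservesFiniteColimits P.ι.op :=
  preservesFiniteColimits_op P.ι

/-- the Ext delta-functor on the opposite of the subcategory -/
noncomputable def TE : CohDeltaFunctor (P.FullSubcategory)ᵒᵖ (ModuleCat.{u} k) ℕ :=
  precomp P.ι.op (extOpDelta k ω)

/-- the dual-cohomology delta-functor on the opposite of the subcategory -/
noncomputable def TH : CohDeltaFunctor (P.FullSubcategory)ᵒᵖ (ModuleCat.{u} k) ℕ :=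
  precomp P.ι.op (dualDelta k N)

variable {k P N ω}

set_option linter.unusedSectionVars false

section Efface

variable (hE : ∀ F : X.Modules, P F → ∃ (E : X.Modules) (π : E ⟶ F), P E ∧ Epi π ∧
    (∀ i : ℕ, Subsingleton (Ext E ω (i + 1))) ∧ (∀ j : ℕ, j < N → Subsingleton (Coh.HH X E j)))

include hE

lemma TE_isEffaceable : (TE k P ω).IsEffaceable := by
  intro n A
  obtain ⟨E, π, hPE, hπ, hExt, -⟩ := hE A.unop.obj A.unop.property
  let π' : (⟨E, hPE⟩ : P.FullSubcategory) ⟶ A.unop := P.homMk π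
  have hπ' : Epi π' := P.ι.epi_of_epi_map (by exact hπ)
  refine ⟨op ⟨E, hPE⟩, π'.op, inferInstance, ?_⟩
  have hz : IsZero (((TE k P ω).F (n + 1)).obj (op ⟨E, hPE⟩)) := by
    have : Subsingleton (Ext E ω (n + 1)) := hExt n
    exact ModuleCat.isZero_of_subsingleton (ModuleCat.of k (Ext E ω (n + 1)))
  exact hz.eq_of_tgt _ _

lemma TH_isEffaceable : (TH k P N).IsEffaceable := by
  intro n A
  obtain ⟨E, π, hPE, hπ, -, hH⟩ := hE A.unop.obj A.unop.property
  let π' : (⟨E, hPE⟩ : P.FullSubcategory) ⟶ A.unop := P.homMk π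
  have hπ' : Epi π' := P.ι.epi_of_epi_map (by exact hπ)
  refine ⟨op ⟨E, hPE⟩, π'.op, inferInstance, ?_⟩
  have hz : IsZero (((TH k P N).F (n + 1)).obj (op ⟨E, hPE⟩)) := by
    have : Subsingleton (W k N (n + 1) (Coh.HH X E (N - (n + 1)))) := by
      by_cases hn : n + 1 ≤ N
      · have := hH (N - (n + 1)) (by omega)
        refine ⟨fun a b => W_ext k N (fun m => ?_)⟩
        rw [Subsingleton.elim m 0, map_zero, map_zero]
      · exact ⟨fun a b => (eq_zero_of_lt (by omega) a).trans (eq_zero_of_lt (by omega) b).symm⟩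
    exact ModuleCat.isZero_of_subsingleton
      (ModuleCat.of k (W k N (n + 1) (Coh.HH X E (N - (n + 1)))))
  exact hz.eq_of_tgt _ _

end Efface

section Pairing

lemma toAbF_map_smulModΓ (M : X.Modules) (r : Coh.Γtop X) :
    (toAbF X).map (Formal.smulModΓ M r) = Coh.smulAb M r := rfl

lemma map_smul_hom {M M' : X.Modules} (a : k) (φ : M ⟶ M') (n : ℕ) (x : Coh.HH X M n) :
    map (a • φ) n x = a • map φ n x := by
  rw [KLin.smul_def, map_comp]
  have h1 : map (Formal.smulMod k M a) n x = a • x := rfl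
  rw [h1]
  exact (mapₗ k φ n).map_smul a x

variable (t : Coh.HH X ω N →ₗ[k] k)

/-- the pairing map `φ ↦ t ∘ H^N(φ)` -/
noncomputable def pairL (F : X.Modules) : (F ⟶ ω) →ₗ[k] Module.Dual k (Coh.HH X F N) where
  toFun φ := t ∘ₗ mapₗ k φ N
  map_add' φ φ' := by
    ext x
    change t (map (φ + φ') N x) = t (map φ N x) + t (map φ' N x)
    rw [map_add', map_add]
  map_smul' a φ := by
    ext x
    change t (map (a • φ) N x) = a • t (map φ N x)
    rw [map_smul_hom]
    exact t.map_smul a _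

lemma pairL_apply (F : X.Modules) (φ : F ⟶ ω) (x : Coh.HH X F N) :
    pairL t F φ x = t (map φ N x) := rfl

/-- the cut-off dual in degree zero is the full dual -/
def W0Equiv (M : Type u) [AddCommGroup M] [Module k M] :
    Module.Dual k M ≃ₗ[k] W k N 0 M where
  toFun ψ := ⟨ψ, fun h => absurd h (Nat.not_lt_zero N)⟩
  map_add' _ _ := rfl
  map_smul' _ _ := rfl
  invFun ψ := ψ.1
  left_inv _ := rfl
  right_inv _ := rfl

variable (hbij : ∀ F : X.Modules, P F → Function.Bijective (pairL t F))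

/-- the degree-zero comparison -/
noncomputable def θ₀ (F : X.Modules) (hF : P F) :
    Ext F ω 0 ≃ₗ[k] W k N 0 (Coh.HH X F (N - 0)) :=
  (Ext.linearEquiv₀ (R := k)).trans
    ((LinearEquiv.ofBijective (pairL t F) (hbij F hF)).trans (W0Equiv (Coh.HH X F N)))

lemma θ₀_mk₀ (F : X.Modules) (hF : P F) (φ : F ⟶ ω) (m : Coh.HH X F N) :
    (θ₀ t hbij F hF (Ext.mk₀ φ)).1 m = t (map φ N m) := by
  change pairL t F (Ext.linearEquiv₀ (R := k) (Ext.mk₀ φ)) m = _
  have : Ext.linearEquiv₀ (R := k) (Ext.mk₀ φ) = φ :=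
    (Ext.linearEquiv₀ (R := k)).apply_symm_apply φ
  rw [this, pairL_apply]

/-- the degree-zero isomorphism of functors -/
noncomputable def e₀ : (TE k P ω).F 0 ≅ (TH k P N).F 0 :=
  NatIso.ofComponents
    (fun A => (θ₀ t hbij A.unop.obj A.unop.property).toModuleIso)
    (by
      intro A B f
      ext (x : Ext A.unop.obj ω 0)
      obtain ⟨φ, rfl⟩ := (Ext.mk₀_bijective A.unop.obj ω).2 x
      apply W_ext k N
      intro m
      change (θ₀ t hbij B.unop.obj B.unop.property
          ((Ext.mk₀ f.unop.hom).comp (Ext.mk₀ φ) (zero_add 0))).1 m =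
        (θ₀ t hbij A.unop.obj A.unop.property (Ext.mk₀ φ)).1 (map f.unop.hom (N - 0) m)
      rw [Ext.mk₀_comp_mk₀, θ₀_mk₀, θ₀_mk₀, map_comp]
      rfl)

/-- the cut-off dual in degrees `≤ N` is the full dual -/
def WEquiv {i : ℕ} (hi : i ≤ N) (M : Type u) [AddCommGroup M] [Module k M] :
    W k N i M ≃ₗ[k] Module.Dual k M where
  toFun ψ := ψ.1
  map_add' _ _ := rfl
  map_smul' _ _ := rfl
  invFun ψ := ⟨ψ, fun h => absurd h (by omega)⟩
  left_inv _ := rfl
  right_inv _ := rfl

include t hbij in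
/-- **Serre duality from a dualizing pairing.** -/
theorem serre_duality
    (hE : ∀ F : X.Modules, P F → ∃ (E : X.Modules) (π : E ⟶ F), P E ∧ Epi π ∧
      (∀ i : ℕ, Subsingleton (Ext E ω (i + 1))) ∧ (∀ j : ℕ, j < N → Subsingleton (Coh.HH X E j)))
    (F : X.Modules) (hF : P F) :
    (∀ i : ℕ, i ≤ N → Nonempty (Ext F ω i ≃ₗ[k] Module.Dual k (Coh.HH X F (N - i)))) ∧
      ∀ i : ℕ, N < i → Subsingleton (Ext F ω i) := by
  have key : ∀ i : ℕ, Nonempty (Ext F ω i ≃ₗ[k] W k N i (Coh.HH X F (N - i))) := by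
    intro i
    obtain ⟨η⟩ := Groth.Agent.Lib.DeltaIso.nonempty_natIso_of_isUniversal (TE k P ω) (TH k P N)
      (Groth.Agent.Lib.DeltaUniv.isUniversal_of_isEffaceable _ (TE_isEffaceable hE))
      (Groth.Agent.Lib.DeltaUniv.isUniversal_of_isEffaceable _ (TH_isEffaceable hE))
      (e₀ t hbij) i
    exact ⟨(η.app (op ⟨F, hF⟩)).toLinearEquiv⟩
  refine ⟨fun i hi => ?_, fun i hi => ?_⟩
  · obtain ⟨e⟩ := key i
    exact ⟨e.trans (WEquiv hi _)⟩
  · obtain ⟨e⟩ := key i
    have : Subsingleton (W k N i (Coh.HH X F (N - i))) :=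
      ⟨fun a b => (eq_zero_of_lt hi a).trans (eq_zero_of_lt hi b).symm⟩
    exact e.toEquiv.subsingleton

end Pairing

end Groth.Agent.Lib.H43SerreDelta
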