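import Groth.Prelude.Def_FibCat2
import Mathlib.CategoryTheory.FiberedCategory.Grothendieck
import Mathlib.CategoryTheory.Bicategory.Functor.LocallyDiscrete
import Mathlib.CategoryTheory.Groupoid
import Groth.Agent.Lib.FpEquiv

/-!
# Strictification of a fibred category by formal pullbacks (helper43)

For a fibred category `𝒳` over `C` (objects in `Type (max u v)`, morphisms in `Type v`):

* `FObj 𝒳 U` : formal pullbacks over `U`, pairs `(x, f : U ⟶ p x)`; morphisms are the vertical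
  morphisms between the chosen pullbacks `f^* x` (`FObj.pb`, `FObj.lift`).
* `res h : FObj 𝒳 U ⥤ FObj 𝒳 U'` : restriction `(x, f) ↦ (x, h ≫ f)`; `res_id`, `res_comp` (strict).
* `F 𝒳 : Cᵒᵖ ⥤ Cat` the strict functor; `Tot 𝒳` its total category.
* `G : Tot 𝒳 ⥤ 𝒳.obj`, `GB 𝒳` the same over `C`; `GB_isEquivOver`, `exists_equivOver`.
* `isGroupoid_F` : the values of `F` are groupoids when `𝒳` is fibred in groupoids.
-/

set_option autoImplicit false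
set_option linter.unusedSectionVars false
open CategoryTheory
universe v u
open FibCat

namespace Groth.Agent.Lib.H43Strictify

open Functor

variable {C : Type u} [Category.{v} C] (𝒳 : BasedCategory.{v, max u v} C) [𝒳.p.IsFibered]

/-- Formal pullbacks over `U`: an object `x` of `𝒳` with a morphism `f : U ⟶ p x`. -/
structure FObj (U : C) : Type (max u v) where
  x : 𝒳.obj
  f : U ⟶ 𝒳.p.obj x

variable {𝒳}

namespace FObj

variable {U : C}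

/-- The chosen pullback `f^* x`. -/
noncomputable def pb (A : FObj 𝒳 U) : 𝒳.obj :=
  IsPreFibered.pullbackObj (p := 𝒳.p) (rfl : 𝒳.p.obj A.x = _) A.f

/-- The chosen cartesian morphism `f^* x ⟶ x`. -/
noncomputable def lift (A : FObj 𝒳 U) : A.pb ⟶ A.x :=
  IsPreFibered.pullbackMap (p := 𝒳.p) (rfl : 𝒳.p.obj A.x = _) A.f

instance isCartesian_lift (A : FObj 𝒳 U) : 𝒳.p.IsCartesian A.f A.lift :=
  (inferInstance : 𝒳.p.IsCartesian A.f
    (IsPreFibered.pullbackMap (p := 𝒳.p) (rfl : 𝒳.p.obj A.x = _) A.f))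

instance (A : FObj 𝒳 U) : 𝒳.p.IsStronglyCartesian A.f A.lift := inferInstance

instance (x : 𝒳.obj) (f : U ⟶ 𝒳.p.obj x) : 𝒳.p.IsCartesian f (FObj.lift ⟨x, f⟩) :=
  isCartesian_lift ⟨x, f⟩

instance (x : 𝒳.obj) (f : U ⟶ 𝒳.p.obj x) : 𝒳.p.IsStronglyCartesian f (FObj.lift ⟨x, f⟩) :=
  inferInstance

theorem pb_proj (A : FObj 𝒳 U) : 𝒳.p.obj A.pb = U :=
  IsHomLift.domain_eq 𝒳.p A.f A.lift

end FObj

/-- Morphisms of formal pullbacks: vertical morphisms between the chosen pullbacks. -/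
@[ext]
structure FHom {U : C} (A B : FObj 𝒳 U) : Type v where
  hom : A.pb ⟶ B.pb
  isHomLift : 𝒳.p.IsHomLift (𝟙 U) hom

attribute [instance] FHom.isHomLift

noncomputable instance (U : C) : Category.{v} (FObj 𝒳 U) where
  Hom := FHom
  id A := ⟨𝟙 _, IsHomLift.id A.pb_proj⟩
  comp α β := ⟨α.hom ≫ β.hom, inferInstance⟩
  id_comp α := by apply FHom.ext; simp
  comp_id α := by apply FHom.ext; simp
  assoc α β γ := by apply FHom.ext; simp

@[simp] theorem id_hom {U : C} (A : FObj 𝒳 U) : FHom.hom (𝟙 A) = 𝟙 A.pb := rfl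
@[simp] theorem comp_hom {U : C} {A B D : FObj 𝒳 U} (α : A ⟶ B) (β : B ⟶ D) :
    FHom.hom (α ≫ β) = FHom.hom α ≫ FHom.hom β := rfl

theorem fhom_ext {U : C} {A B : FObj 𝒳 U} {α β : A ⟶ B} (h : FHom.hom α = FHom.hom β) :
    α = β := FHom.ext h

instance {U : C} {A B : FObj 𝒳 U} (α : A ⟶ B) : 𝒳.p.IsHomLift (𝟙 U) (FHom.hom α) :=
  FHom.isHomLift α

theorem eqToHom_hom {U : C} {A B : FObj 𝒳 U} (e : A = B) :
    FHom.hom (eqToHom e) = eqToHom (congrArg FObj.pb e) := by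
  subst e; rfl

/-- Equality of vertical morphisms into a chosen pullback can be tested after composing with the
chosen cartesian morphism. -/
theorem hom_ext_lift {U : C} {B : FObj 𝒳 U} {z : 𝒳.obj} (φ ψ : z ⟶ B.pb)
    [𝒳.p.IsHomLift (𝟙 U) φ] [𝒳.p.IsHomLift (𝟙 U) ψ] (h : φ ≫ B.lift = ψ ≫ B.lift) : φ = ψ :=
  IsCartesian.ext 𝒳.p B.f B.lift φ ψ h

/-- The comparison morphism `k^* x ⟶ f^* x` over `h` when `h ≫ f = k`. -/
noncomputable def cc {U U' : C} (x : 𝒳.obj) (f : U ⟶ 𝒳.p.obj x) (k : U' ⟶ 𝒳.p.obj x)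
    (h : U' ⟶ U) (e : h ≫ f = k) : FObj.pb ⟨x, k⟩ ⟶ FObj.pb ⟨x, f⟩ :=
  IsStronglyCartesian.map 𝒳.p f (FObj.lift ⟨x, f⟩) (g := h) (f' := k) e.symm (FObj.lift ⟨x, k⟩)

section cc

variable {U U' : C} (x : 𝒳.obj) (f : U ⟶ 𝒳.p.obj x) (k : U' ⟶ 𝒳.p.obj x)
    (h : U' ⟶ U) (e : h ≫ f = k)

instance : 𝒳.p.IsHomLift h (cc x f k h e) := by
  unfold cc; infer_instance

@[reassoc (attr := simp)]
theorem cc_lift : cc x f k h e ≫ FObj.lift ⟨x, f⟩ = FObj.lift ⟨x, k⟩ :=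
  IsStronglyCartesian.fac 𝒳.p f (FObj.lift ⟨x, f⟩) e.symm (FObj.lift ⟨x, k⟩)

theorem cc_uniq (φ : FObj.pb ⟨x, k⟩ ⟶ FObj.pb ⟨x, f⟩) [𝒳.p.IsHomLift h φ]
    (hφ : φ ≫ FObj.lift ⟨x, f⟩ = FObj.lift ⟨x, k⟩) : φ = cc x f k h e :=
  IsStronglyCartesian.map_uniq 𝒳.p f (FObj.lift ⟨x, f⟩) e.symm (FObj.lift ⟨x, k⟩) φ hφ

end cc

theorem cc_id {U : C} (x : 𝒳.obj) (f : U ⟶ 𝒳.p.obj x) :
    cc x f f (𝟙 U) (Category.id_comp f) = 𝟙 _ := by
  symm
  have : 𝒳.p.IsHomLift (𝟙 U) (𝟙 (FObj.pb (⟨x, f⟩ : FObj 𝒳 U))) :=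
    IsHomLift.id (FObj.pb_proj _)
  exact cc_uniq x f f (𝟙 U) _ _ (Category.id_comp _)

theorem cc_comp {U U' U'' : C} (x : 𝒳.obj) (f : U ⟶ 𝒳.p.obj x) (k : U' ⟶ 𝒳.p.obj x)
    (k' : U'' ⟶ 𝒳.p.obj x) (h : U' ⟶ U) (h' : U'' ⟶ U') (e : h ≫ f = k) (e' : h' ≫ k = k') :
    cc x k k' h' e' ≫ cc x f k h e =
      cc x f k' (h' ≫ h) (by rw [Category.assoc, e, e']) := by
  apply cc_uniq
  rw [Category.assoc, cc_lift, cc_lift]

theorem eqToHom_cc {U U' : C} (x : 𝒳.obj) (f : U ⟶ 𝒳.p.obj x) (k k' : U' ⟶ 𝒳.p.obj x)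
    (h : U' ⟶ U) (e : h ≫ f = k) (ek : k' = k) :
    eqToHom (by rw [ek]) ≫ cc x f k h e = cc x f k' h (e.trans ek.symm) := by
  subst ek
  simp

theorem cc_congr {U U' : C} (x : 𝒳.obj) (f : U ⟶ 𝒳.p.obj x) (k : U' ⟶ 𝒳.p.obj x)
    (h h' : U' ⟶ U) (e : h ≫ f = k) (eh : h' = h) :
    cc x f k h e = cc x f k h' (by rw [eh, e]) := by
  subst eh; rfl

/-- Restriction of a formal pullback along `h : U' ⟶ U`. -/
abbrev resObj {U U' : C} (h : U' ⟶ U) (A : FObj 𝒳 U) : FObj 𝒳 U' := ⟨A.x, h ≫ A.f⟩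

/-- The comparison morphism `(h ≫ f)^* x ⟶ f^* x` over `h`. -/
noncomputable def cr {U U' : C} (h : U' ⟶ U) (A : FObj 𝒳 U) : (resObj h A).pb ⟶ A.pb :=
  cc A.x A.f (h ≫ A.f) h rfl

instance {U U' : C} (h : U' ⟶ U) (A : FObj 𝒳 U) : 𝒳.p.IsHomLift h (cr h A) := by
  unfold cr; infer_instance

@[reassoc (attr := simp)]
theorem cr_lift {U U' : C} (h : U' ⟶ U) (A : FObj 𝒳 U) :
    cr h A ≫ A.lift = (resObj h A).lift :=
  cc_lift A.x A.f (h ≫ A.f) h rfl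

/-- Restriction of a morphism of formal pullbacks along `h`. -/
noncomputable def resMap {U U' : C} (h : U' ⟶ U) {A B : FObj 𝒳 U} (α : A ⟶ B) :
    resObj h A ⟶ resObj h B :=
  ⟨IsCartesian.map 𝒳.p (h ≫ B.f) (resObj h B).lift (cr h A ≫ FHom.hom α ≫ B.lift),
    inferInstance⟩

@[reassoc]
theorem resMap_lift {U U' : C} (h : U' ⟶ U) {A B : FObj 𝒳 U} (α : A ⟶ B) :
    FHom.hom (resMap h α) ≫ (resObj h B).lift = cr h A ≫ FHom.hom α ≫ B.lift :=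
  IsCartesian.fac 𝒳.p (h ≫ B.f) (resObj h B).lift (cr h A ≫ FHom.hom α ≫ B.lift)

@[reassoc]
theorem resMap_cr {U U' : C} (h : U' ⟶ U) {A B : FObj 𝒳 U} (α : A ⟶ B) :
    FHom.hom (resMap h α) ≫ cr h B = cr h A ≫ FHom.hom α := by
  apply IsStronglyCartesian.ext 𝒳.p B.f B.lift h
  rw [Category.assoc, cr_lift, resMap_lift, Category.assoc]

theorem resMap_uniq {U U' : C} (h : U' ⟶ U) {A B : FObj 𝒳 U} (α : A ⟶ B)
    (β : resObj h A ⟶ resObj h B)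
    (hβ : FHom.hom β ≫ (resObj h B).lift = cr h A ≫ FHom.hom α ≫ B.lift) : β = resMap h α := by
  apply fhom_ext
  apply hom_ext_lift
  rw [hβ, resMap_lift]

/-- The restriction functor along `h`. -/
noncomputable def res {U U' : C} (h : U' ⟶ U) : FObj 𝒳 U ⥤ FObj 𝒳 U' where
  obj := resObj h
  map α := resMap h α
  map_id A := by
    symm
    apply resMap_uniq
    simp
  map_comp α β := by
    symm
    apply resMap_uniq
    rw [comp_hom, Category.assoc, resMap_lift, resMap_cr_assoc, comp_hom, Category.assoc]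

theorem eqToHom_lift {U : C} (x : 𝒳.obj) (k k' : U ⟶ 𝒳.p.obj x) (e : k = k') :
    eqToHom (by rw [e]) ≫ FObj.lift (⟨x, k'⟩ : FObj 𝒳 U) = FObj.lift ⟨x, k⟩ := by
  subst e; simp

theorem resObj_id {U : C} (A : FObj 𝒳 U) : resObj (𝟙 U) A = A := by
  cases A; simp [resObj]

theorem resObj_comp {U U' U'' : C} (h : U' ⟶ U) (h' : U'' ⟶ U') (A : FObj 𝒳 U) :
    resObj (h' ≫ h) A = resObj h' (resObj h A) := by
  simp [resObj]

theorem cr_id {U : C} (A : FObj 𝒳 U) :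
    cr (𝟙 U) A = eqToHom (congrArg FObj.pb (resObj_id A)) := by
  have h1 := eqToHom_cc A.x A.f A.f (𝟙 U ≫ A.f) (𝟙 U) (Category.id_comp _) (Category.id_comp _)
  rw [cc_id, Category.comp_id] at h1
  exact h1.symm

theorem cr_comp {U U' U'' : C} (h : U' ⟶ U) (h' : U'' ⟶ U') (A : FObj 𝒳 U) :
    cr (h' ≫ h) A =
      eqToHom (congrArg FObj.pb (resObj_comp h h' A)) ≫ cr h' (resObj h A) ≫ cr h A := by
  have h1 := cc_comp A.x A.f (h ≫ A.f) (h' ≫ h ≫ A.f) h h' rfl rfl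
  have h2 := eqToHom_cc A.x A.f (h' ≫ h ≫ A.f) ((h' ≫ h) ≫ A.f) (h' ≫ h)
    (Category.assoc _ _ _) (Category.assoc _ _ _)
  unfold cr
  rw [h1, h2]

theorem res_id (U : C) : res (𝟙 U) = 𝟭 (FObj 𝒳 U) := by
  refine Functor.ext (fun A => resObj_id A) (fun A B α => ?_)
  apply fhom_ext
  change FHom.hom (resMap (𝟙 U) α) = FHom.hom (eqToHom (resObj_id A)) ≫ FHom.hom α ≫
    FHom.hom (eqToHom (resObj_id B).symm)
  rw [eqToHom_hom, eqToHom_hom]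
  apply hom_ext_lift (B := resObj (𝟙 U) B)
  rw [resMap_lift, cr_id, Category.assoc, Category.assoc]
  congr 2
  exact (eqToHom_lift B.x B.f (𝟙 U ≫ B.f) (Category.id_comp _).symm).symm

theorem res_comp {U U' U'' : C} (h : U' ⟶ U) (h' : U'' ⟶ U') :
    res (𝒳 := 𝒳) (h' ≫ h) = res h ⋙ res h' := by
  refine Functor.ext (fun A => resObj_comp h h' A) (fun A B α => ?_)
  apply fhom_ext
  change FHom.hom (resMap (h' ≫ h) α) = FHom.hom (eqToHom (resObj_comp h h' A)) ≫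
    FHom.hom (resMap h' (resMap h α)) ≫ FHom.hom (eqToHom (resObj_comp h h' B).symm)
  rw [eqToHom_hom, eqToHom_hom]
  apply hom_ext_lift (B := resObj (h' ≫ h) B)
  rw [resMap_lift, cr_comp, Category.assoc, Category.assoc, Category.assoc, Category.assoc]
  congr 1
  have h1 : eqToHom (congrArg FObj.pb (resObj_comp h h' B).symm) ≫ (resObj (h' ≫ h) B).lift =
      (resObj h' (resObj h B)).lift :=
    eqToHom_lift B.x (h' ≫ h ≫ B.f) ((h' ≫ h) ≫ B.f) (Category.assoc _ _ _).symm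
  rw [h1, resMap_lift, resMap_lift]

variable (𝒳)

/-- The strict functor `Cᵒᵖ ⥤ Cat` of formal pullbacks. -/
noncomputable def F : Cᵒᵖ ⥤ Cat.{v, max u v} where
  obj U := Cat.of (FObj 𝒳 U.unop)
  map h := (res h.unop).toCatHom
  map_id U := by
    change (res (𝟙 U.unop)).toCatHom = _
    rw [res_id]
    rfl
  map_comp h h' := by
    change (res (h'.unop ≫ h.unop)).toCatHom = _
    rw [res_comp]
    rfl

open Pseudofunctor Opposite

/-- The total category of the strict functor of formal pullbacks. -/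
abbrev Tot := CoGrothendieck (F 𝒳).toPseudofunctor'

variable {𝒳}

/-- The formal pullback underlying an object of the total category. -/
def Tot.fo (Y : Tot 𝒳) : FObj 𝒳 Y.base := Y.fiber

/-- The fibre component of a morphism of the total category, as a morphism of formal pullbacks. -/
def Tot.ff {Y Z : Tot 𝒳} (φ : Y ⟶ Z) : Y.fo ⟶ resObj φ.base Z.fo := φ.fiber

theorem Tot.id_ff (Y : Tot 𝒳) :
    FHom.hom (Tot.ff (𝟙 Y)) = eqToHom (congrArg FObj.pb (resObj_id Y.fo).symm) := by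
  unfold Tot.ff
  simp only [CoGrothendieck.categoryStruct_id_fiber, Functor.toPseudofunctor'_mapId,
    eqToIso.inv]
  erw [Cat.eqToHom_app]
  exact eqToHom_hom _

theorem Tot.comp_ff {Y Z W : Tot 𝒳} (φ : Y ⟶ Z) (ψ : Z ⟶ W) :
    FHom.hom (Tot.ff (φ ≫ ψ)) = FHom.hom (Tot.ff φ) ≫ FHom.hom (resMap φ.base (Tot.ff ψ)) ≫
      eqToHom (congrArg FObj.pb (resObj_comp ψ.base φ.base W.fo).symm) := by
  unfold Tot.ff
  simp only [CoGrothendieck.categoryStruct_comp_fiber, Functor.toPseudofunctor'_mapComp,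
    eqToIso.inv]
  erw [Cat.eqToHom_app]
  change FHom.hom φ.fiber ≫ FHom.hom (resMap φ.base ψ.fiber) ≫
    FHom.hom (eqToHom (resObj_comp ψ.base φ.base W.fo).symm :
      resObj φ.base (resObj ψ.base W.fo) ⟶ resObj (φ.base ≫ ψ.base) W.fo) = _
  rw [eqToHom_hom]
  rfl

instance {Y Z : Tot 𝒳} (φ : Y ⟶ Z) : 𝒳.p.IsHomLift (𝟙 Y.base) (FHom.hom (Tot.ff φ)) :=
  FHom.isHomLift _

/-- The comparison functor from the total category of formal pullbacks to `𝒳`. -/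
noncomputable def G : Tot 𝒳 ⥤ 𝒳.obj where
  obj Y := Y.fo.pb
  map {Y Z} φ := FHom.hom (Tot.ff φ) ≫ cr φ.base Z.fo
  map_id Y := by
    rw [Tot.id_ff]
    change eqToHom _ ≫ cr (𝟙 Y.base) Y.fo = _
    rw [cr_id, eqToHom_trans, eqToHom_refl]
  map_comp {Y Z W} φ ψ := by
    rw [Tot.comp_ff]
    change (_ ≫ _ ≫ eqToHom _) ≫ cr (φ.base ≫ ψ.base) W.fo = _
    rw [cr_comp, Category.assoc, Category.assoc, eqToHom_trans_assoc, eqToHom_refl,
      Category.id_comp, resMap_cr_assoc, Category.assoc]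

instance {Y Z : Tot 𝒳} (φ : Y ⟶ Z) : 𝒳.p.IsHomLift φ.base (G.map φ) := by
  change 𝒳.p.IsHomLift φ.base (FHom.hom (Tot.ff φ) ≫ cr φ.base Z.fo)
  infer_instance

variable (𝒳)

/-- The comparison functor as a functor over `C`. -/
noncomputable def GB : BasedCategory.ofFunctor (CoGrothendieck.forget (F 𝒳).toPseudofunctor') ⥤ᵇ 𝒳 where
  toFunctor := G
  w := by
    refine Functor.ext (fun Y => FObj.pb_proj (Tot.fo Y)) (fun Y Z φ => ?_)
    have : ∀ {Y Z : Tot 𝒳} (φ : Y ⟶ Z), 𝒳.p.map (G.map φ) =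
        eqToHom (FObj.pb_proj (Tot.fo Y)) ≫ φ.base ≫ eqToHom (FObj.pb_proj (Tot.fo Z)).symm :=
      fun φ => IsHomLift.fac' 𝒳.p φ.base (G.map φ)
    exact this φ

variable {𝒳}

theorem G_map_mk {Y Z : Tot 𝒳} (b : Y.base ⟶ Z.base) (α : Y.fo ⟶ resObj b Z.fo) :
    G.map (⟨b, α⟩ : Y ⟶ Z) = FHom.hom α ≫ cr b Z.fo := rfl

instance : (G (𝒳 := 𝒳)).Faithful where
  map_injective {Y Z} φ ψ h := by
    have h1 : φ.base = ψ.base := by
      have e1 := IsHomLift.fac 𝒳.p φ.base (G.map φ)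
      have e2 := IsHomLift.fac 𝒳.p ψ.base (G.map ψ)
      rw [e1, e2]
      simp only [h]
    obtain ⟨b, f⟩ := φ
    obtain ⟨b', f'⟩ := ψ
    change b = b' at h1
    subst h1
    obtain ⟨f₁, hf₁⟩ : ∃ f₁ : Y.fo ⟶ resObj b Z.fo, f₁ = f := ⟨f, rfl⟩
    obtain ⟨f₂, hf₂⟩ : ∃ f₂ : Y.fo ⟶ resObj b Z.fo, f₂ = f' := ⟨f', rfl⟩
    have h2 : FHom.hom f₁ ≫ cr b Z.fo = FHom.hom f₂ ≫ cr b Z.fo := by
      subst hf₁ hf₂; exact h
    have h3 : f₁ = f₂ := by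
      apply fhom_ext
      apply hom_ext_lift
      rw [← cr_lift, reassoc_of% h2]
    subst hf₁ hf₂
    change (⟨b, f₁⟩ : CoGrothendieck.Hom Y Z) = ⟨b, f₂⟩
    rw [h3]

instance : (G (𝒳 := 𝒳)).Full where
  map_surjective {Y Z} g := by
    change Y.fo.pb ⟶ Z.fo.pb at g
    let b : Y.base ⟶ Z.base :=
      eqToHom (FObj.pb_proj Y.fo).symm ≫ 𝒳.p.map g ≫ eqToHom (FObj.pb_proj Z.fo)
    have hg : 𝒳.p.IsHomLift b g := inferInstance
    let α : Y.fo ⟶ resObj b Z.fo :=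
      ⟨IsCartesian.map 𝒳.p (b ≫ Z.fo.f) (resObj b Z.fo).lift (g ≫ Z.fo.lift), inferInstance⟩
    have hα : FHom.hom α ≫ (resObj b Z.fo).lift = g ≫ Z.fo.lift :=
      IsCartesian.fac 𝒳.p (b ≫ Z.fo.f) (resObj b Z.fo).lift (g ≫ Z.fo.lift)
    refine ⟨(⟨b, α⟩ : CoGrothendieck.Hom Y Z), ?_⟩
    rw [G_map_mk]
    apply IsStronglyCartesian.ext 𝒳.p Z.fo.f Z.fo.lift b
    rw [Category.assoc, cr_lift, hα]

theorem G_ess (x : 𝒳.obj) : ∃ (Y : Tot 𝒳) (e : G.obj Y ≅ x), 𝒳.p.IsHomLift (𝟙 (𝒳.p.obj x)) e.hom := by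
  have h2 : IsIso (FObj.lift (⟨x, 𝟙 _⟩ : FObj 𝒳 (𝒳.p.obj x))) :=
    IsStronglyCartesian.isIso_of_base_isIso 𝒳.p (𝟙 (𝒳.p.obj x)) _
  have h3 : 𝒳.p.IsHomLift (𝟙 (𝒳.p.obj x)) (FObj.lift (⟨x, 𝟙 _⟩ : FObj 𝒳 (𝒳.p.obj x))) :=
    inferInstance
  exact ⟨⟨𝒳.p.obj x, (⟨x, 𝟙 _⟩ : FObj 𝒳 (𝒳.p.obj x))⟩, @asIso _ _ _ _ _ h2, h3⟩

variable (𝒳)

theorem GB_isEquivOver : FibCat.IsEquivOver (GB 𝒳) := by
  have : (GB 𝒳).toFunctor.Full := inferInstanceAs (G (𝒳 := 𝒳)).Full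
  have : (GB 𝒳).toFunctor.Faithful := inferInstanceAs (G (𝒳 := 𝒳)).Faithful
  exact Groth.Agent.Lib.FpEquiv.isEquivOver_of_ff_of_ess (GB 𝒳) (fun x => G_ess x)

theorem exists_equivOver :
    ∃ (E : 𝒳 ⥤ᵇ BasedCategory.ofFunctor (CoGrothendieck.forget (F 𝒳).toPseudofunctor')),
      FibCat.IsEquivOver E :=
  Groth.Agent.Lib.FpEquiv.isEquivOver_inv (GB_isEquivOver 𝒳)

theorem isGroupoid_F [FibCat.IsFibGrpd 𝒳.p] (U : Cᵒᵖ) : IsGroupoid ((F 𝒳).obj U) := by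
  constructor
  intro A B α
  change FObj 𝒳 U.unop at A B
  change A ⟶ B at α
  have : IsIso (FHom.hom α) :=
    Groth.Agent.Lib.FibGrpd.isIso_of_isHomLift_isIso 𝒳.p (𝟙 U.unop) (FHom.hom α)
  let β : B ⟶ A := ⟨inv (FHom.hom α), inferInstance⟩
  exact ⟨⟨β, fhom_ext (IsIso.hom_inv_id (FHom.hom α)), fhom_ext (IsIso.inv_hom_id (FHom.hom α))⟩⟩

end Groth.Agent.Lib.H43Strictify
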