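import Mathlib.CategoryTheory.Subobject.Lattice
import Mathlib.CategoryTheory.Subobject.FactorThru
import Mathlib.CategoryTheory.Abelian.Refinements
import Mathlib.CategoryTheory.Abelian.Basic
import Mathlib.CategoryTheory.Simple
import Mathlib.Order.JordanHolder
import Mathlib.Order.ModularLattice
import Mathlib.Data.Fintype.Card
import Mathlib.Data.Fintype.Powerset
import Mathlib.Algebra.Homology.ShortComplex.ShortExact

/-!
Subobject lattices in abelian categories: modular law, second isomorphism theorem,
simple quotients versus covering relations.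
-/

namespace Groth.Agent.Lib.H43SubobjMod

open CategoryTheory CategoryTheory.Limits

universe v u
variable {A : Type u} [Category.{v} A] [Abelian A] {X : A}

theorem factors_iff_comp_cokernel (v : Subobject X) {T : A} (f : T ⟶ X) :
    v.Factors f ↔ f ≫ cokernel.π v.arrow = 0 := by
  constructor
  · intro h
    rw [← Subobject.factorThru_arrow v f h, Category.assoc, cokernel.condition, comp_zero]
  · intro h
    have hk := Abelian.monoIsKernelOfCokernel
      (CokernelCofork.ofπ _ (cokernel.condition v.arrow)) (cokernelIsCokernel v.arrow)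
    obtain ⟨g, hg⟩ := KernelFork.IsLimit.lift' hk f h
    dsimp at hg
    rw [← hg]
    exact Subobject.factors_comp_arrow g

theorem factors_of_epi_comp (v : Subobject X) {T T' : A} (π : T' ⟶ T) [Epi π] (f : T ⟶ X)
    (h : v.Factors (π ≫ f)) : v.Factors f := by
  rw [factors_iff_comp_cokernel] at h ⊢
  rw [Category.assoc] at h
  exact (cancel_epi π).1 (by rw [h, comp_zero])

theorem factors_sub (v : Subobject X) {T : A} (f g : T ⟶ X) (hf : v.Factors f)
    (hg : v.Factors g) : v.Factors (f - g) := by
  rw [factors_iff_comp_cokernel] at hf hg ⊢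
  rw [Preadditive.sub_comp, hf, hg, sub_zero]

omit [Abelian A] in
theorem le_iff_forall_factors (x y : Subobject X) :
    x ≤ y ↔ ∀ {T : A} (f : T ⟶ X), x.Factors f → y.Factors f := by
  constructor
  · intro h T f hf
    exact Subobject.factors_of_le f h hf
  · intro h
    have := h x.arrow (Subobject.factors_self x)
    exact Subobject.le_of_comm (y.factorThru x.arrow this) (Subobject.factorThru_arrow _ _ _)

theorem le_of_forall_refinement (x y : Subobject X)
    (h : ∀ {T : A} (f : T ⟶ X), x.Factors f →
      ∃ (T' : A) (π : T' ⟶ T) (_ : Epi π), y.Factors (π ≫ f)) : x ≤ y := by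
  rw [le_iff_forall_factors]
  intro T f hf
  obtain ⟨T', π, _, h'⟩ := h f hf
  exact factors_of_epi_comp y π f h'

theorem sup_factors_iff (x y : Subobject X) {T : A} (f : T ⟶ X) :
    (x ⊔ y).Factors f ↔ ∃ (T' : A) (π : T' ⟶ T) (_ : Epi π) (a b : T' ⟶ X),
      x.Factors a ∧ y.Factors b ∧ π ≫ f = a + b := by
  constructor
  · intro h
    let d : (x : A) ⊞ (y : A) ⟶ X := biprod.desc x.arrow y.arrow
    let s : Subobject X := Subobject.mk (Abelian.image.ι d)
    have hx : x ≤ s := Subobject.le_mk_of_comm (biprod.inl ≫ Abelian.factorThruImage d)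
      (by simp [d])
    have hy : y ≤ s := Subobject.le_mk_of_comm (biprod.inr ≫ Abelian.factorThruImage d)
      (by simp [d])
    have hs : s.Factors f := Subobject.factors_of_le f (sup_le hx hy) h
    rw [Subobject.mk_factors_iff] at hs
    obtain ⟨g', hg'⟩ := hs
    obtain ⟨g, hg⟩ : ∃ g : T ⟶ Abelian.image d, g ≫ Abelian.image.ι d = f := ⟨g', hg'⟩
    obtain ⟨T', π, hπ, t, ht⟩ := surjective_up_to_refinements_of_epi (Abelian.factorThruImage d) g
    refine ⟨T', π, hπ, t ≫ biprod.fst ≫ x.arrow, t ≫ biprod.snd ≫ y.arrow, ?_, ?_, ?_⟩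
    · rw [← Category.assoc]; exact Subobject.factors_comp_arrow _
    · rw [← Category.assoc]; exact Subobject.factors_comp_arrow _
    · rw [← hg, ← Category.assoc, ht, Category.assoc, Abelian.image.fac]
      rw [← Preadditive.comp_add]
      congr 1
      simp [d, biprod.desc_eq]
  · rintro ⟨T', π, hπ, a, b, ha, hb, hab⟩
    apply factors_of_epi_comp _ π
    rw [hab]
    exact Subobject.factors_add _ _ (Subobject.sup_factors_of_factors_left ha)
      (Subobject.sup_factors_of_factors_right hb)

instance : IsModularLattice (Subobject X) where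
  sup_inf_le_assoc_of_le {x} y {z} hxz := by
    apply le_of_forall_refinement
    intro T f hf
    rw [Subobject.inf_factors] at hf
    obtain ⟨hf1, hf2⟩ := hf
    rw [sup_factors_iff] at hf1
    obtain ⟨T', π, hπ, a, b, ha, hb, hab⟩ := hf1
    refine ⟨T', π, hπ, ?_⟩
    rw [sup_factors_iff]
    refine ⟨T', 𝟙 _, inferInstance, a, b, ha, ?_, by rw [Category.id_comp, hab]⟩
    rw [Subobject.inf_factors]
    refine ⟨hb, ?_⟩
    have hb' : b = π ≫ f - a := by rw [hab]; abel
    rw [hb']
    exact factors_sub _ _ _ (Subobject.factors_of_factors_right _ hf2)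
      (Subobject.factors_of_le _ hxz ha)

omit [Abelian A] in
theorem mk_factors_iff' {Y Z : A} (i : Y ⟶ X) [Mono i] (f : Z ⟶ X) :
    (Subobject.mk i).Factors f ↔ ∃ g : Z ⟶ Y, g ≫ i = f :=
  Subobject.mk_factors_iff i f

theorem exists_lift_of_comp_cokernel_zero {Y Z : A} (i : Y ⟶ Z) [Mono i] {T : A} (t : T ⟶ Z)
    (h : t ≫ cokernel.π i = 0) : ∃ s : T ⟶ Y, s ≫ i = t := by
  have hk := Abelian.monoIsKernelOfCokernel
    (CokernelCofork.ofπ _ (cokernel.condition i)) (cokernelIsCokernel i)
  obtain ⟨g, hg⟩ := KernelFork.IsLimit.lift' hk t h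
  exact ⟨g, hg⟩

/-- Second isomorphism theorem for subobjects. -/
theorem nonempty_iso_second (x y : Subobject X) :
    Nonempty (cokernel (Subobject.ofLE x (x ⊔ y) le_sup_left) ≅
      cokernel (Subobject.ofLE (x ⊓ y) y inf_le_right)) := by
  let k := Subobject.ofLE (x ⊓ y) y inf_le_right
  let g := Subobject.ofLE y (x ⊔ y) le_sup_right ≫
    cokernel.π (Subobject.ofLE x (x ⊔ y) le_sup_left)
  have zero : k ≫ g = 0 := by
    have : k ≫ Subobject.ofLE y (x ⊔ y) le_sup_right =
        Subobject.ofLE (x ⊓ y) x inf_le_left ≫ Subobject.ofLE x (x ⊔ y) le_sup_left := by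
      rw [Subobject.ofLE_comp_ofLE, Subobject.ofLE_comp_ofLE]
    dsimp only [g]
    rw [← Category.assoc, this, Category.assoc, cokernel.condition, comp_zero]
  have hepi : Epi g := by
    rw [epi_iff_surjective_up_to_refinements]
    intro T t
    obtain ⟨T₁, π₁, hπ₁, t₁, ht₁⟩ := surjective_up_to_refinements_of_epi
      (cokernel.π (Subobject.ofLE x (x ⊔ y) le_sup_left)) t
    have hfac : (x ⊔ y).Factors (t₁ ≫ (x ⊔ y).arrow) := Subobject.factors_comp_arrow _
    rw [sup_factors_iff] at hfac
    obtain ⟨T₂, π₂, hπ₂, a, b, ha, hb, hab⟩ := hfac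
    refine ⟨T₂, π₂ ≫ π₁, inferInstance, y.factorThru b hb, ?_⟩
    have h1 : π₂ ≫ t₁ = x.factorThru a ha ≫ Subobject.ofLE x (x ⊔ y) le_sup_left +
        y.factorThru b hb ≫ Subobject.ofLE y (x ⊔ y) le_sup_right := by
      rw [← cancel_mono (x ⊔ y).arrow, Category.assoc, hab, Preadditive.add_comp,
        Category.assoc, Category.assoc, Subobject.ofLE_arrow, Subobject.ofLE_arrow,
        Subobject.factorThru_arrow, Subobject.factorThru_arrow]
    dsimp only [g]
    rw [Category.assoc, ht₁, ← Category.assoc π₂, h1, Preadditive.add_comp, Category.assoc,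
      cokernel.condition, comp_zero, zero_add, Category.assoc]
  let S : ShortComplex A := ShortComplex.mk k g zero
  have hex : S.Exact := by
    rw [ShortComplex.exact_iff_exact_up_to_refinements]
    intro T t ht
    dsimp [S] at t ht
    dsimp only [g] at ht
    rw [← Category.assoc] at ht
    obtain ⟨s, hs⟩ := exists_lift_of_comp_cokernel_zero _ _ ht
    have hfac : (x ⊓ y).Factors (t ≫ y.arrow) := by
      rw [Subobject.inf_factors]
      refine ⟨?_, Subobject.factors_comp_arrow _⟩
      have : t ≫ y.arrow = s ≫ x.arrow := by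
        rw [← Subobject.ofLE_arrow (le_sup_right : y ≤ x ⊔ y), ← Category.assoc, ← hs,
          Category.assoc, Subobject.ofLE_arrow]
      rw [this]
      exact Subobject.factors_comp_arrow _
    refine ⟨T, 𝟙 _, inferInstance, (x ⊓ y).factorThru _ hfac, ?_⟩
    dsimp [S]
    rw [Category.id_comp, ← cancel_mono y.arrow, Category.assoc]
    dsimp only [k]
    rw [Subobject.ofLE_arrow, Subobject.factorThru_arrow]
  have hS : S.ShortExact := ShortComplex.ShortExact.mk' hex
    (inferInstanceAs (Mono (Subobject.ofLE (x ⊓ y) y inf_le_right))) hepi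
  exact ⟨(IsColimit.coconePointUniqueUpToIso hS.gIsCokernel (cokernelIsCokernel k)).symm.symm⟩

theorem id_cokernel_ofLE_ne_zero {x y : Subobject X} (h : x < y) :
    𝟙 (cokernel (Subobject.ofLE x y h.le)) ≠ 0 := by
  intro h0
  have hp : cokernel.π (Subobject.ofLE x y h.le) = 0 := by
    rw [← Category.comp_id (cokernel.π _), h0, comp_zero]
  have : (𝟙 (y : A)) ≫ cokernel.π (Subobject.ofLE x y h.le) = 0 := by rw [hp, comp_zero]
  obtain ⟨s, hs⟩ := exists_lift_of_comp_cokernel_zero _ _ this
  have : y ≤ x := Subobject.le_of_comm s (by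
    rw [← Subobject.ofLE_arrow h.le, ← Category.assoc, hs, Category.id_comp])
  exact absurd h (not_lt_of_ge this)

theorem covBy_of_simple {x y : Subobject X} (h : x ≤ y)
    [Simple (cokernel (Subobject.ofLE x y h))] : x ⋖ y := by
  have hne : x ≠ y := by
    rintro rfl
    have : cokernel.π (Subobject.ofLE x x h) = 0 := by
      have : IsIso (Subobject.ofLE x x h) := by
        rw [Subobject.ofLE_refl]; infer_instance
      exact cokernel.π_of_epi _
    apply id_nonzero (cokernel (Subobject.ofLE x x h))
    rw [← cancel_epi (cokernel.π (Subobject.ofLE x x h)), this, zero_comp, zero_comp]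
  refine ⟨lt_of_le_of_ne h hne, ?_⟩
  intro z hxz hzy
  let p := cokernel.π (Subobject.ofLE x y h)
  let φ := Subobject.ofLE z y hzy.le ≫ p
  by_cases hφ : φ = 0
  · obtain ⟨s, hs⟩ := exists_lift_of_comp_cokernel_zero _ _ hφ
    have : z ≤ x := Subobject.le_of_comm s (by
      rw [← Subobject.ofLE_arrow h, ← Category.assoc, hs, Subobject.ofLE_arrow])
    exact absurd hxz (not_lt_of_ge this)
  · have hepi : Epi φ := epi_of_nonzero_to_simple hφ
    obtain ⟨T', π, hπ, t, ht⟩ := surjective_up_to_refinements_of_epi φ p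
    have h0 : (π - t ≫ Subobject.ofLE z y hzy.le) ≫ p = 0 := by
      rw [Preadditive.sub_comp, Category.assoc, ht, sub_self]
    obtain ⟨s, hs⟩ := exists_lift_of_comp_cokernel_zero _ _ h0
    have hπy : π ≫ y.arrow = t ≫ z.arrow + s ≫ x.arrow := by
      have : π = t ≫ Subobject.ofLE z y hzy.le + s ≫ Subobject.ofLE x y h := by
        rw [hs]; abel
      rw [this, Preadditive.add_comp, Category.assoc, Category.assoc, Subobject.ofLE_arrow,
        Subobject.ofLE_arrow]
    have hfac : z.Factors (π ≫ y.arrow) := by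
      rw [hπy]
      exact Subobject.factors_add _ _ (Subobject.factors_comp_arrow _)
        (Subobject.factors_of_le _ hxz.le (Subobject.factors_comp_arrow _))
    have hfac' : z.Factors y.arrow := factors_of_epi_comp z π _ hfac
    have : y ≤ z := Subobject.le_of_comm (z.factorThru _ hfac') (Subobject.factorThru_arrow _ _ _)
    exact absurd hzy (not_lt_of_ge this)

theorem simple_of_covBy {x y : Subobject X} (h : x ⋖ y) :
    Simple (cokernel (Subobject.ofLE x y h.le)) := by
  let p := cokernel.π (Subobject.ofLE x y h.le)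
  have hQ := id_cokernel_ofLE_ne_zero h.lt
  refine ⟨fun {Y} f _ => ?_⟩
  let c := cokernel.π f
  let ψ := p ≫ c
  let z : Subobject X := Subobject.mk (kernel.ι ψ ≫ y.arrow)
  have hxz : x ≤ z := Subobject.le_mk_of_comm
    (kernel.lift ψ (Subobject.ofLE x y h.le) (by
      dsimp only [ψ, p]; rw [← Category.assoc, cokernel.condition, zero_comp])) (by
      rw [← Category.assoc, kernel.lift_ι, Subobject.ofLE_arrow])
  have hzy : z ≤ y := Subobject.mk_le_of_comm (kernel.ι ψ) rfl
  have key : ∀ {T : A} (t : T ⟶ (y : A)), z.Factors (t ≫ y.arrow) → t ≫ ψ = 0 := by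
    intro T t ht
    rw [mk_factors_iff'] at ht
    obtain ⟨g, hg⟩ := ht
    have : t = g ≫ kernel.ι ψ := by
      rw [← cancel_mono y.arrow, Category.assoc, hg]
    rw [this, Category.assoc, kernel.condition, comp_zero]
  have hiso_ne : IsIso f → f ≠ 0 := by
    intro hf h0
    apply hQ
    have h1 : 𝟙 _ = inv f ≫ f := (IsIso.inv_hom_id f).symm
    have h2 : inv f ≫ f = inv f ≫ 0 := congrArg (fun g => inv f ≫ g) h0
    rw [h1, h2, comp_zero]
  rcases h.eq_or_eq hxz hzy with hz | hz
  · -- z = x, so f = 0
    have hf0 : f = 0 := by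
      obtain ⟨T', π, hπ, t, ht⟩ := surjective_up_to_refinements_of_epi p f
      have htψ : t ≫ ψ = 0 := by
        dsimp only [ψ, c]
        rw [← Category.assoc, ← ht, Category.assoc, cokernel.condition, comp_zero]
      have hfac : z.Factors (t ≫ y.arrow) := by
        rw [mk_factors_iff']
        exact ⟨kernel.lift ψ t htψ, by rw [← Category.assoc, kernel.lift_ι]⟩
      rw [hz] at hfac
      have ht' : t = x.factorThru _ hfac ≫ Subobject.ofLE x y h.le := by
        rw [← cancel_mono y.arrow, Category.assoc, Subobject.ofLE_arrow,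
          Subobject.factorThru_arrow]
      have : π ≫ f = 0 := by
        rw [ht, ht', Category.assoc]
        dsimp only [p]
        rw [cokernel.condition, comp_zero]
      rw [← cancel_epi π, this, comp_zero]
    constructor
    · intro hf
      exact absurd hf0 (hiso_ne hf)
    · intro hf
      exact absurd hf0 hf
  · -- z = y, so f is epi
    have h1 : (𝟙 (y : A)) ≫ ψ = 0 := by
      apply key
      rw [hz, Category.id_comp]
      exact Subobject.factors_self y
    have hc : c = 0 := by
      rw [Category.id_comp] at h1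
      dsimp only [ψ] at h1
      rw [← cancel_epi p, h1, comp_zero]
    have hepi : Epi f := Abelian.epi_of_cokernel_π_eq_zero f hc
    have hiso : IsIso f := isIso_of_mono_of_epi f
    exact ⟨fun _ => hiso_ne hiso, fun _ => hiso⟩

theorem simple_cokernel_ofLE_iff {x y : Subobject X} (h : x ≤ y) :
    Simple (cokernel (Subobject.ofLE x y h)) ↔ x ⋖ y :=
  ⟨fun _ => covBy_of_simple h, fun hc => simple_of_covBy hc⟩

section LatticeLemmas

variable {L : Type*} [Lattice L] [IsModularLattice L] [BoundedOrder L]

/-- A modular lattice with a finite maximal chain from bottom to top is well-founded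
in both directions. -/
theorem wellFounded_of_chain (n : ℕ) (F : Fin (n + 1) → L) (h0 : F 0 = ⊥)
    (hn : F (Fin.last n) = ⊤) (hc : ∀ i : Fin n, F i.castSucc ⋖ F i.succ) :
    WellFoundedLT L ∧ WellFoundedGT L := by
  classical
  let r : L → Finset (Fin n) := fun a =>
    Finset.univ.filter (fun i => F i.succ ≤ (a ⊓ F i.succ) ⊔ F i.castSucc)
  have hmono : Monotone r := by
    intro a b hab i hi
    simp only [r, Finset.mem_filter, Finset.mem_univ, true_and] at hi ⊢
    exact hi.trans (sup_le_sup_right (inf_le_inf_right _ hab) _)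
  have hinj : ∀ a b : L, a ≤ b → r b ≤ r a → a = b := by
    intro a b hab hr
    have hi : ∀ i : Fin n, (b ⊓ F i.succ) ⊔ F i.castSucc ≤ (a ⊓ F i.succ) ⊔ F i.castSucc := by
      intro i
      have h1 : F i.castSucc ≤ (b ⊓ F i.succ) ⊔ F i.castSucc := le_sup_right
      have h2 : (b ⊓ F i.succ) ⊔ F i.castSucc ≤ F i.succ := sup_le inf_le_right (hc i).le
      rcases (hc i).eq_or_eq h1 h2 with h | h
      · rw [h]; exact le_sup_right
      · have : i ∈ r b := by
          simp only [r, Finset.mem_filter, Finset.mem_univ, true_and]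
          exact h.ge
        have := hr this
        simp only [r, Finset.mem_filter, Finset.mem_univ, true_and] at this
        rw [h]; exact this
    have hk : ∀ k : Fin (n + 1), a ⊓ F k = b ⊓ F k := by
      intro k
      induction k using Fin.induction with
      | zero => rw [h0, inf_bot_eq, inf_bot_eq]
      | succ i ih =>
        have hK : F i.castSucc ≤ F i.succ := (hc i).le
        apply eq_of_le_of_inf_le_of_sup_le (z := F i.castSucc) (inf_le_inf_right _ hab)
        · rw [inf_assoc, inf_assoc, inf_eq_right.2 hK, ih]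
        · exact hi i
    have := hk (Fin.last n)
    rwa [hn, inf_top_eq, inf_top_eq] at this
  have hstrict : StrictMono r := by
    intro a b hab
    refine lt_of_le_not_ge (hmono hab.le) ?_
    intro hba
    exact absurd (hinj a b hab.le hba) hab.ne
  exact ⟨hstrict.wellFoundedLT, hstrict.wellFoundedGT⟩

omit [IsModularLattice L] in
/-- A bounded lattice which is well-founded in both directions has a finite maximal chain. -/
theorem exists_chain_of_wellFounded [WellFoundedLT L] [WellFoundedGT L] :
    ∃ (n : ℕ) (F : Fin (n + 1) → L), F 0 = ⊥ ∧ F (Fin.last n) = ⊤ ∧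
      ∀ i : Fin n, F i.castSucc ⋖ F i.succ := by
  suffices H : ∀ x : L, ∃ (n : ℕ) (F : Fin (n + 1) → L), F 0 = x ∧ F (Fin.last n) = ⊤ ∧
      ∀ i : Fin n, F i.castSucc ⋖ F i.succ from H ⊥
  intro x
  induction x using WellFoundedGT.induction with
  | ind x ih =>
    by_cases hx : x = ⊤
    · exact ⟨0, fun _ => x, rfl, hx, fun i => i.elim0⟩
    · have hlt : x < ⊤ := lt_top_iff_ne_top.2 hx
      have : IsStronglyAtomic L := IsStronglyAtomic.of_wellFounded_lt wellFounded_lt
      obtain ⟨y, hxy, -⟩ := exists_covBy_le_of_lt hlt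
      obtain ⟨n, F, hF0, hFn, hFc⟩ := ih y hxy.lt
      refine ⟨n + 1, Fin.cons x F, by simp, ?_, ?_⟩
      · rw [← Fin.succ_last, Fin.cons_succ]; exact hFn
      · intro i
        induction i using Fin.cases with
        | zero =>
          rw [Fin.castSucc_zero, Fin.cons_zero, Fin.cons_succ, hF0]
          exact hxy
        | succ j =>
          rw [← Fin.succ_castSucc, Fin.cons_succ, Fin.cons_succ]
          exact hFc j

end LatticeLemmas

end Groth.Agent.Lib.H43SubobjMod
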