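import Groth.Agent.Lib.H43LocSplit2

/-!
# Points calculus for pseudo-torsors and exact sequences of group schemes (helper43)

* `isPullback_of_existsUnique`, `isIso_of_existsUnique`: pullback squares / isomorphisms from unique lifting of points.
* `exists_act_eq`, `act_injective`: a pseudo-torsor (`NonAbH1.IsPseudoTorsorSch`) is simply transitive on points.
* `exists_mul_eq`, `eq_one_of_comp_eq_one`, `eq_of_comp_eq`: the cartesian square of `NonAbH1.IsExactSeq` on points.
* `isLocallyTrivialFor_comp`: local triviality can be checked after refining a covering family by covering families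
  (for precoverages stable under composition).
-/

universe u

open CategoryTheory CategoryTheory.Limits AlgebraicGeometry MonoidalCategory CartesianMonoidalCategory MonObj GrpObj

namespace Groth.Agent.Lib.H43Torsor

/-- A commutative square with unique liftings of points is a pullback square. -/
lemma isPullback_of_existsUnique {C : Type*} [Category C] {P A B W : C} {p1 : P ⟶ A} {p2 : P ⟶ B}
    {f : A ⟶ W} {g : B ⟶ W} (w : p1 ≫ f = p2 ≫ g)
    (h : ∀ (T : C) (a : T ⟶ A) (b : T ⟶ B), a ≫ f = b ≫ g →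
      ∃! l : T ⟶ P, l ≫ p1 = a ∧ l ≫ p2 = b) :
    IsPullback p1 p2 f g := by
  refine ⟨⟨w⟩, ⟨PullbackCone.IsLimit.mk w
    (fun s => (h s.pt s.fst s.snd s.condition).exists.choose) ?_ ?_ ?_⟩⟩
  · intro s
    exact (h s.pt s.fst s.snd s.condition).exists.choose_spec.1
  · intro s
    exact (h s.pt s.fst s.snd s.condition).exists.choose_spec.2
  · intro s m hm1 hm2
    exact (h s.pt s.fst s.snd s.condition).unique ⟨hm1, hm2⟩
      (h s.pt s.fst s.snd s.condition).exists.choose_spec

/-- A morphism through which every point lifts uniquely is an isomorphism. -/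
lemma isIso_of_existsUnique {C : Type*} [Category C] {A B : C} (f : A ⟶ B)
    (h : ∀ (T : C) (b : T ⟶ B), ∃! a : T ⟶ A, a ≫ f = b) : IsIso f := by
  obtain ⟨s, hs, -⟩ := h B (𝟙 B)
  refine ⟨s, ?_, hs⟩
  exact (h A f).unique (by rw [Category.assoc, hs, Category.comp_id]) (Category.id_comp f)

variable {S : Scheme.{u}}

section PseudoTorsor

variable {G X : Over S} [GrpObj G] (a : AlgGrp.Action G X)

/-- In a pseudo-torsor any two points differ by a point of the group. -/
lemma exists_act_eq (h : NonAbH1.IsPseudoTorsorSch a) {T : Over S} (x y : T ⟶ X) :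
    ∃ g : T ⟶ G, lift g y ≫ a.act = x := by
  have hiso : IsIso (lift a.act (snd G X)) := h
  obtain ⟨m, hm⟩ : ∃ m : T ⟶ G ⊗ X, m ≫ lift a.act (snd G X) = lift x y :=
    ⟨lift x y ≫ inv (lift a.act (snd G X)), by rw [Category.assoc, IsIso.inv_hom_id, Category.comp_id]⟩
  have h1 : m ≫ a.act = x := by
    have := congrArg (fun m => m ≫ fst X X) hm
    simpa using this
  have h2 : m ≫ snd G X = y := by
    have := congrArg (fun m => m ≫ snd X X) hm
    simpa using this
  refine ⟨m ≫ fst G X, ?_⟩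
  have h3 : lift (m ≫ fst G X) y = m := by
    rw [← h2, ← comp_lift, lift_fst_snd, Category.comp_id]
  rw [h3, h1]

/-- In a pseudo-torsor the group acts freely on points. -/
lemma act_injective (h : NonAbH1.IsPseudoTorsorSch a) {T : Over S} (g g' : T ⟶ G) (x : T ⟶ X)
    (hgg : lift g x ≫ a.act = lift g' x ≫ a.act) : g = g' := by
  have hiso : IsIso (lift a.act (snd G X)) := h
  have h1 : lift g x ≫ lift a.act (snd G X) = lift g' x ≫ lift a.act (snd G X) := by
    rw [comp_lift, comp_lift, lift_snd, lift_snd, hgg]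
  have h2 : lift g x = lift g' x := by
    rwa [cancel_mono] at h1
  have := congrArg (fun m => m ≫ fst G X) h2
  simpa using this

/-- A pseudo-torsor from simple transitivity on points. -/
lemma isPseudoTorsorSch_of_pts
    (hex : ∀ (T : Over S) (x y : T ⟶ X), ∃ g : T ⟶ G, lift g y ≫ a.act = x)
    (hinj : ∀ (T : Over S) (g g' : T ⟶ G) (x : T ⟶ X), lift g x ≫ a.act = lift g' x ≫ a.act → g = g') :
    NonAbH1.IsPseudoTorsorSch a := by
  unfold NonAbH1.IsPseudoTorsorSch
  apply isIso_of_existsUnique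
  intro T b
  obtain ⟨g, hg⟩ := hex T (b ≫ fst X X) (b ≫ snd X X)
  refine ⟨lift g (b ≫ snd X X), ?_, ?_⟩
  · change lift g (b ≫ snd X X) ≫ lift a.act (snd G X) = b
    rw [comp_lift, lift_snd, hg, ← comp_lift, lift_fst_snd, Category.comp_id]
  · intro m hm
    change m ≫ lift a.act (snd G X) = b at hm
    have h1 : m ≫ a.act = b ≫ fst X X := by rw [← hm, Category.assoc, lift_fst]
    have h2 : m ≫ snd G X = b ≫ snd X X := by rw [← hm, Category.assoc, lift_snd]
    have h3 : m = lift (m ≫ fst G X) (b ≫ snd X X) := by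
      rw [← h2, ← comp_lift, lift_fst_snd, Category.comp_id]
    have h4 : m ≫ fst G X = g := by
      apply hinj T _ _ (b ≫ snd X X)
      rw [← h3, h1, hg]
    rw [h3, h4]

end PseudoTorsor

section Exact

variable {G G' G'' : Over S} [GrpObj G] [GrpObj G'] [GrpObj G'']

omit [GrpObj G'] [GrpObj G''] in
/-- Exactness in the middle, on points: two points of `G` with the same image in `G''` differ by a point of `G'`. -/
lemma exists_mul_eq (u : G' ⟶ G) (v : G ⟶ G'')
    (hpb : IsPullback (fst G G') ((G ◁ u) ≫ μ[G]) v v) {T : Over S} (a b : T ⟶ G)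
    (hab : a ≫ v = b ≫ v) : ∃ g' : T ⟶ G', b = a * (g' ≫ u) := by
  obtain ⟨l, h1, h2⟩ : ∃ l : T ⟶ G ⊗ G', l ≫ fst G G' = a ∧ l ≫ (G ◁ u) ≫ μ[G] = b :=
    ⟨hpb.lift a b hab, hpb.lift_fst _ _ _, hpb.lift_snd _ _ _⟩
  refine ⟨l ≫ snd G G', ?_⟩
  have h3 : l = lift a (l ≫ snd G G') := by
    rw [← h1, ← comp_lift, lift_fst_snd, Category.comp_id]
  rw [h3, lift_whiskerLeft_assoc, ← Hom.mul_def] at h2
  rw [← h2]

omit [GrpObj G''] in
/-- `u` is injective on points. -/
lemma eq_one_of_comp_eq_one (u : G' ⟶ G) [IsMonHom u] (v : G ⟶ G'')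
    (hpb : IsPullback (fst G G') ((G ◁ u) ≫ μ[G]) v v) {T : Over S} (g' : T ⟶ G')
    (hg : g' ≫ u = 1) : g' = 1 := by
  have h : lift (1 : T ⟶ G) g' = lift (1 : T ⟶ G) (1 : T ⟶ G') := by
    apply hpb.hom_ext
    · rw [lift_fst, lift_fst]
    · rw [lift_whiskerLeft_assoc, lift_whiskerLeft_assoc, hg, MonObj.one_comp]
  have := congrArg (fun m => m ≫ snd G G') h
  simpa using this

omit [GrpObj G''] in
/-- `u` is injective on points. -/
lemma eq_of_comp_eq (u : G' ⟶ G) [IsMonHom u] (v : G ⟶ G'')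
    (hpb : IsPullback (fst G G') ((G ◁ u) ≫ μ[G]) v v) {T : Over S} (g' h' : T ⟶ G')
    (hg : g' ≫ u = h' ≫ u) : g' = h' := by
  have h1 : (g' * h'⁻¹) ≫ u = 1 := by
    rw [MonObj.mul_comp, GrpObj.inv_comp, hg, mul_inv_cancel]
  have h2 := eq_one_of_comp_eq_one u v hpb _ h1
  calc g' = (g' * h'⁻¹) * h' := by rw [inv_mul_cancel_right]
    _ = h' := by rw [h2, _root_.one_mul]

end Exact

/-- Local triviality can be checked after refining a covering family by covering families. -/
lemma isLocallyTrivialFor_comp (K : Precoverage Scheme.{u}) [K.IsStableUnderComposition] (X : Over S)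
    (R₁ : Presieve S) (hR₁ : R₁ ∈ K S)
    (h : ∀ ⦃S' : Scheme.{u}⦄ (r : S' ⟶ S), R₁ r → ∃ R₂ ∈ K S',
      ∀ ⦃S'' : Scheme.{u}⦄ (t : S'' ⟶ S'), R₂ t → NonAbH1.HasSectionOver X (t ≫ r)) :
    NonAbH1.IsLocallyTrivialFor K X := by
  obtain ⟨I, Z, g, rfl⟩ := R₁.exists_eq_ofArrows
  choose R₂ hR₂ hsec using fun i => h (g i) (Presieve.ofArrows.mk i)
  choose σ Y gg hEq using fun i => (R₂ i).exists_eq_ofArrows
  refine ⟨_, Precoverage.comp_mem_coverings (J := K) g hR₁ gg (fun i => by rw [← hEq i]; exact hR₂ i), ?_⟩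
  rintro S'' f ⟨⟨i, j⟩⟩
  exact hsec i (gg i j) (by rw [hEq i]; exact Presieve.ofArrows.mk j)

end Groth.Agent.Lib.H43Torsor
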