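import Groth.Prelude.Def_W4stkalgstUpp
import Groth.Prelude.Def_FibCat2
import Mathlib.CategoryTheory.Localization.CalculusOfFractions
import Mathlib.CategoryTheory.Limits.Preserves.Shapes.Pullbacks
import Mathlib.CategoryTheory.Limits.Preserves.Shapes.Equalizers
import Mathlib.CategoryTheory.FinCategory.Basic
import Mathlib.CategoryTheory.FiberedCategory.Fibered

/-!
# The category `u_pp 𝒮` and its class `R` (helper43)

* `uppR_isMultiplicative`, `ore₁`, `ore₂`, `hasRightCalculusOfFractions` : the class `Stk.uppR u 𝒮`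
  has a right calculus of fractions when `C` has nonempty finite limits preserved by `u` and `𝒮`
  is fibred.
* `isStronglyCartesian_map` : strongly cartesian over `f` ⇒ strongly cartesian over `p.map φ`.
-/

set_option autoImplicit false
set_option linter.unusedSectionVars false

namespace Groth.Agent.Lib.H43Upp

open CategoryTheory CategoryTheory.Limits Functor Stk

universe v₃ u₃ v₂ u₂ v u

variable {C : Type u} [Category.{v} C] {D : Type u₂} [Category.{v₂} D] (u : C ⥤ D)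
  (𝒮 : BasedCategory.{v₃, u₃} C)

instance uppR_isMultiplicative : (uppR u 𝒮).IsMultiplicative where
  id_mem a := ⟨by rw [UppObj.id_top]; infer_instance, by rw [UppObj.id_bot]; infer_instance⟩
  comp_mem f g hf hg := by
    have := hf.1
    have := hg.1
    have := hf.2
    have := hg.2
    exact ⟨by rw [UppObj.comp_top, Functor.map_comp]; infer_instance,
      by rw [UppObj.comp_bot]; infer_instance⟩

variable {u 𝒮}

theorem isStronglyCartesian_map {𝒳 : Type*} [Category 𝒳] (p : 𝒳 ⥤ C) {R S : C} (f : R ⟶ S)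
    {a b : 𝒳} (φ : a ⟶ b) [h : p.IsStronglyCartesian f φ] : p.IsStronglyCartesian (p.map φ) φ := by
  subst_hom_lift p f φ
  exact h

/-- First Ore condition, for a given pullback square in `C` preserved by `u` and a given
cartesian lift. -/
theorem ore₁ {X Y Y' : UppObj u 𝒮} (f : X ⟶ Y') (s : Y ⟶ Y') (hs : uppR u 𝒮 s)
    {P : C} (pr₁ : P ⟶ 𝒮.p.obj X.x) (pr₂ : P ⟶ 𝒮.p.obj Y.x)
    (comm : pr₁ ≫ 𝒮.p.map f.top = pr₂ ≫ 𝒮.p.map s.top)
    (hP : IsLimit (PullbackCone.mk (u.map pr₁) (u.map pr₂)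
      (by rw [← u.map_comp, ← u.map_comp, comm])))
    {x' : 𝒮.obj} (c : x' ⟶ X.x) [𝒮.p.IsHomLift pr₁ c] (hc : 𝒮.p.IsStronglyCartesian (𝒮.p.map c) c) :
    ∃ (X' : UppObj u 𝒮) (s' : X' ⟶ X) (f' : X' ⟶ Y), uppR u 𝒮 s' ∧ s' ≫ f = f' ≫ s := by
  obtain rfl : 𝒮.p.obj x' = P := IsHomLift.domain_eq 𝒮.p pr₁ c
  obtain rfl : pr₁ = 𝒮.p.map c := IsHomLift.eq_of_isHomLift 𝒮.p pr₁ c
  have ht := hs.1
  have hβ := hs.2
  -- the structure morphism of the new object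
  have hcompat : X.φ ≫ u.map (𝒮.p.map f.top) =
      (f.bot ≫ inv s.bot ≫ Y.φ) ≫ u.map (𝒮.p.map s.top) := by
    rw [f.w, Category.assoc, Category.assoc, s.w, IsIso.inv_hom_id_assoc]
  let φ' : X.V ⟶ u.obj (𝒮.p.obj x') :=
    PullbackCone.IsLimit.lift hP X.φ (f.bot ≫ inv s.bot ≫ Y.φ) hcompat
  have hφ'₁ : φ' ≫ u.map (𝒮.p.map c) = X.φ := PullbackCone.IsLimit.lift_fst hP _ _ _
  have hφ'₂ : φ' ≫ u.map pr₂ = f.bot ≫ inv s.bot ≫ Y.φ := PullbackCone.IsLimit.lift_snd hP _ _ _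
  -- the top component of the numerator
  have hcf : 𝒮.p.IsHomLift (𝒮.p.map c ≫ 𝒮.p.map f.top) (c ≫ f.top) := inferInstance
  let ct : x' ⟶ Y.x := IsStronglyCartesian.map 𝒮.p (𝒮.p.map s.top) s.top comm (c ≫ f.top)
  have hct : ct ≫ s.top = c ≫ f.top := IsStronglyCartesian.fac 𝒮.p (𝒮.p.map s.top) s.top comm _
  have hct' : 𝒮.p.map ct = pr₂ :=
    (IsHomLift.eq_of_isHomLift 𝒮.p pr₂ ct).symm
  refine ⟨⟨x', X.V, φ'⟩, ⟨c, 𝟙 _, by rw [hφ'₁, Category.id_comp]⟩,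
    ⟨ct, f.bot ≫ inv s.bot, by rw [hct', hφ'₂, Category.assoc]⟩, ⟨hc, ?_⟩, ?_⟩
  · dsimp only; infer_instance
  · apply UppObj.hom_ext
    · exact hct.symm
    · simp

/-- Second Ore condition, for a given equalizer in `C` preserved by `u` and a given cartesian
lift. -/
theorem ore₂ {X Y Y' : UppObj u 𝒮} (f₁ f₂ : X ⟶ Y) (s : Y ⟶ Y') (hs : uppR u 𝒮 s)
    (h : f₁ ≫ s = f₂ ≫ s)
    {E : C} (e : E ⟶ 𝒮.p.obj X.x) (w : e ≫ 𝒮.p.map f₁.top = e ≫ 𝒮.p.map f₂.top)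
    (hE : IsLimit (Fork.ofι (u.map e) (by rw [← u.map_comp, ← u.map_comp, w]) :
      Fork (u.map (𝒮.p.map f₁.top)) (u.map (𝒮.p.map f₂.top))))
    {x' : 𝒮.obj} (c : x' ⟶ X.x) [𝒮.p.IsHomLift e c] (hc : 𝒮.p.IsStronglyCartesian (𝒮.p.map c) c) :
    ∃ (X' : UppObj u 𝒮) (t : X' ⟶ X), uppR u 𝒮 t ∧ t ≫ f₁ = t ≫ f₂ := by
  obtain rfl : 𝒮.p.obj x' = E := IsHomLift.domain_eq 𝒮.p e c
  obtain rfl : e = 𝒮.p.map c := IsHomLift.eq_of_isHomLift 𝒮.p e c
  have ht := hs.1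
  have hβ := hs.2
  have hbot : f₁.bot = f₂.bot := by
    have := congrArg UppObj.Hom.bot h
    rw [UppObj.comp_bot, UppObj.comp_bot] at this
    exact (cancel_mono s.bot).1 this
  have htop : f₁.top ≫ s.top = f₂.top ≫ s.top := by
    have := congrArg UppObj.Hom.top h
    rwa [UppObj.comp_top, UppObj.comp_top] at this
  have hcompat : X.φ ≫ u.map (𝒮.p.map f₁.top) = X.φ ≫ u.map (𝒮.p.map f₂.top) := by
    rw [f₁.w, f₂.w, hbot]
  let φ' : X.V ⟶ u.obj (𝒮.p.obj x') := Fork.IsLimit.lift hE X.φ hcompat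
  have hφ' : φ' ≫ u.map (𝒮.p.map c) = X.φ := Fork.IsLimit.lift_ι hE
  have h1 : 𝒮.p.IsHomLift (𝒮.p.map c ≫ 𝒮.p.map f₁.top) (c ≫ f₁.top) := inferInstance
  have h2 : 𝒮.p.IsHomLift (𝒮.p.map c ≫ 𝒮.p.map f₁.top) (c ≫ f₂.top) := by
    rw [w]; infer_instance
  have hpt : 𝒮.p.map f₁.top ≫ 𝒮.p.map s.top = 𝒮.p.map f₂.top ≫ 𝒮.p.map s.top := by
    rw [← Functor.map_comp, ← Functor.map_comp, htop]
  have key : c ≫ f₁.top = c ≫ f₂.top := by
    have h1' : 𝒮.p.IsHomLift (𝒮.p.map c ≫ 𝒮.p.map f₁.top) (c ≫ f₁.top) := h1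
    apply IsStronglyCartesian.ext 𝒮.p (𝒮.p.map s.top) s.top (𝒮.p.map c ≫ 𝒮.p.map f₁.top)
    rw [Category.assoc, Category.assoc, htop]
  refine ⟨⟨x', X.V, φ'⟩, ⟨c, 𝟙 _, by rw [hφ', Category.id_comp]⟩, ⟨hc, ?_⟩, ?_⟩
  · dsimp only; infer_instance
  · apply UppObj.hom_ext
    · exact key
    · simp [hbot]

variable (u 𝒮)

theorem hasRightCalculusOfFractions [𝒮.p.IsFibered]
    (hC : ∀ (I : Type) [SmallCategory I] [FinCategory I], Nonempty I → HasLimitsOfShape I C)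
    (hu : ∀ (I : Type) [SmallCategory I] [FinCategory I], Nonempty I → PreservesLimitsOfShape I u) :
    (Stk.uppR u 𝒮).HasRightCalculusOfFractions := by
  have : HasLimitsOfShape WalkingCospan C := hC WalkingCospan ⟨WalkingCospan.one⟩
  have : HasLimitsOfShape WalkingParallelPair C := hC WalkingParallelPair ⟨WalkingParallelPair.zero⟩
  have : PreservesLimitsOfShape WalkingCospan u := hu WalkingCospan ⟨WalkingCospan.one⟩
  have : PreservesLimitsOfShape WalkingParallelPair u :=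
    hu WalkingParallelPair ⟨WalkingParallelPair.zero⟩
  refine { exists_rightFraction := ?_, ext := ?_ }
  · intro X Y φ
    let c := IsPreFibered.pullbackMap (p := 𝒮.p) (rfl : 𝒮.p.obj X.x = _)
      (pullback.fst (𝒮.p.map φ.f.top) (𝒮.p.map φ.s.top))
    have hc : 𝒮.p.IsStronglyCartesian (pullback.fst (𝒮.p.map φ.f.top) (𝒮.p.map φ.s.top)) c :=
      inferInstance
    have hc' : 𝒮.p.IsStronglyCartesian (𝒮.p.map c) c :=
      isStronglyCartesian_map 𝒮.p (pullback.fst (𝒮.p.map φ.f.top) (𝒮.p.map φ.s.top)) c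
    obtain ⟨X', s', f', hs', hf'⟩ := ore₁ φ.f φ.s φ.hs
      (pullback.fst (𝒮.p.map φ.f.top) (𝒮.p.map φ.s.top))
      (pullback.snd (𝒮.p.map φ.f.top) (𝒮.p.map φ.s.top)) pullback.condition
      (isLimitPullbackConeMapOfIsLimit u pullback.condition (pullbackIsPullback _ _)) c hc'
    exact ⟨⟨s', hs', f'⟩, hf'⟩
  · intro X Y Y' f₁ f₂ s hs h
    let c := IsPreFibered.pullbackMap (p := 𝒮.p) (rfl : 𝒮.p.obj X.x = _)
      (equalizer.ι (𝒮.p.map f₁.top) (𝒮.p.map f₂.top))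
    have hc : 𝒮.p.IsStronglyCartesian (equalizer.ι (𝒮.p.map f₁.top) (𝒮.p.map f₂.top)) c :=
      inferInstance
    have hc' : 𝒮.p.IsStronglyCartesian (𝒮.p.map c) c :=
      isStronglyCartesian_map 𝒮.p (equalizer.ι (𝒮.p.map f₁.top) (𝒮.p.map f₂.top)) c
    obtain ⟨X', t, ht, htf⟩ := ore₂ f₁ f₂ s hs h
      (equalizer.ι (𝒮.p.map f₁.top) (𝒮.p.map f₂.top)) (equalizer.condition _ _)
      (isLimitForkMapOfIsLimit u (equalizer.condition _ _) (equalizerIsEqualizer _ _)) c hc'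
    exact ⟨X', t, ht, htf⟩

end Groth.Agent.Lib.H43Upp
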