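import Groth.Agent.Lib.H43Upp

set_option autoImplicit false
set_option linter.unusedSectionVars false

namespace Groth.Agent.Lib.H43Upp

open CategoryTheory CategoryTheory.Limits Functor Stk MorphismProperty

universe v₃ u₃ v₂ u₂ v u

section General

variable {𝒰 : Type*} [Category 𝒰] {ℒ : Type*} [Category ℒ] {D : Type*} [Category D]

/-- If `W` has a right calculus of fractions, a morphism of `𝒰` strongly cartesian for `L ⋙ q`
has strongly cartesian image in the localisation. -/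
theorem isStronglyCartesian_map_of_calculus (W : MorphismProperty 𝒰)
    [W.HasRightCalculusOfFractions] (L : 𝒰 ⥤ ℒ) [L.IsLocalization W] (q : ℒ ⥤ D)
    (hL : ∀ A : ℒ, ∃ a, L.obj a = A)
    {b a : 𝒰} (m : b ⟶ a) (hm : (L ⋙ q).IsStronglyCartesian ((L ⋙ q).map m) m) :
    q.IsStronglyCartesian (q.map (L.map m)) (L.map m) := by
  refine { toIsHomLift := inferInstance, universal_property' := ?_ }
  intro A' g Ψ hΨ
  obtain ⟨a', rfl⟩ := hL A'
  obtain ⟨φ, hφ⟩ := Localization.exists_rightFraction L W Ψ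
  have hqΨ : q.map Ψ = g ≫ q.map (L.map m) := (IsHomLift.eq_of_isHomLift q _ Ψ).symm
  have h1 : L.map φ.s ≫ Ψ = L.map φ.f := by rw [hφ]; exact φ.map_s_comp_map L _
  have h2 : (L ⋙ q).map φ.f = ((L ⋙ q).map φ.s ≫ g) ≫ (L ⋙ q).map m := by
    simp only [Functor.comp_map]
    rw [← h1, q.map_comp, hqΨ, Category.assoc]
  have hlift : (L ⋙ q).IsHomLift (((L ⋙ q).map φ.s ≫ g) ≫ (L ⋙ q).map m) φ.f := by
    rw [← h2]; infer_instance
  let f' := IsStronglyCartesian.map (L ⋙ q) ((L ⋙ q).map m) m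
    (g := (L ⋙ q).map φ.s ≫ g) rfl φ.f
  have hf'1 : f' ≫ m = φ.f := IsStronglyCartesian.fac (L ⋙ q) ((L ⋙ q).map m) m rfl φ.f
  have hf'2 : (L ⋙ q).map f' = (L ⋙ q).map φ.s ≫ g :=
    (IsHomLift.eq_of_isHomLift (L ⋙ q) ((L ⋙ q).map φ.s ≫ g) f').symm
  have hinv := Localization.inverts L W
  have hs : IsIso (L.map φ.s) := hinv _ φ.hs
  have hqs : IsIso (q.map (L.map φ.s)) := inferInstance
  let χ : L.obj a' ⟶ L.obj b := (RightFraction.mk φ.s φ.hs f').map L hinv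
  have hχ1 : L.map φ.s ≫ χ = L.map f' :=
    RightFraction.map_s_comp_map (RightFraction.mk φ.s φ.hs f') L hinv
  have hχq : q.map χ = g := by
    have : q.map (L.map φ.s) ≫ q.map χ = q.map (L.map φ.s) ≫ g := by
      rw [← q.map_comp, hχ1]; exact hf'2
    exact (cancel_epi _).1 this
  have hχm : χ ≫ L.map m = Ψ := by
    have : L.map φ.s ≫ χ ≫ L.map m = L.map φ.s ≫ Ψ := by
      rw [← Category.assoc, hχ1, ← L.map_comp, hf'1, h1]
    exact (cancel_epi _).1 this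
  refine ⟨χ, ⟨?_, hχm⟩, ?_⟩
  · rw [← hχq]; infer_instance
  · rintro χ' ⟨hχ'1, hχ'2⟩
    have hχ'q : q.map χ' = g := (IsHomLift.eq_of_isHomLift q g χ').symm
    obtain ⟨ψ, hψ⟩ := Localization.exists_rightFraction L W χ'
    have hψs : IsIso (L.map ψ.s) := hinv _ ψ.hs
    have h3 : L.map ψ.s ≫ χ' = L.map ψ.f := by rw [hψ]; exact ψ.map_s_comp_map L _
    -- the fractions `(ψ.s, ψ.f ≫ m)` and `(φ.s, φ.f)` have the same image
    have h4 : (RightFraction.mk ψ.s ψ.hs (ψ.f ≫ m)).map L hinv =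
        (RightFraction.mk φ.s φ.hs φ.f).map L hinv := by
      have e1 : L.map ψ.s ≫ (RightFraction.mk ψ.s ψ.hs (ψ.f ≫ m)).map L hinv =
          L.map ψ.s ≫ Ψ := by
        have e0 := RightFraction.map_s_comp_map (RightFraction.mk ψ.s ψ.hs (ψ.f ≫ m)) L hinv
        dsimp only at e0
        rw [e0, L.map_comp, ← h3, Category.assoc, hχ'2]
      have e2 : (RightFraction.mk φ.s φ.hs φ.f).map L hinv = Ψ := hφ.symm
      rw [e2]
      exact (cancel_epi _).1 e1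
    obtain ⟨Z, t₁, t₂, hst, hft, ht⟩ := (RightFraction.map_eq_iff L W _ _).1 h4
    dsimp only at t₁ t₂ hst hft ht
    -- `t₁ ≫ ψ.f = t₂ ≫ f'` by strong cartesianness of `m`
    have h5 : t₁ ≫ ψ.f = t₂ ≫ f' := by
      have hq1 : (L ⋙ q).map (t₁ ≫ ψ.f) = (L ⋙ q).map (t₂ ≫ f') := by
        have e3 : (L ⋙ q).map ψ.f = (L ⋙ q).map ψ.s ≫ g := by
          simp only [Functor.comp_map]
          rw [← h3, q.map_comp, hχ'q]
        rw [Functor.map_comp, Functor.map_comp, e3, hf'2, ← Category.assoc, ← Category.assoc,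
          ← Functor.map_comp, ← Functor.map_comp, hst]
      have hl1 : (L ⋙ q).IsHomLift ((L ⋙ q).map (t₁ ≫ ψ.f)) (t₁ ≫ ψ.f) := inferInstance
      have hl2 : (L ⋙ q).IsHomLift ((L ⋙ q).map (t₁ ≫ ψ.f)) (t₂ ≫ f') := by
        rw [hq1]; infer_instance
      apply IsStronglyCartesian.ext (L ⋙ q) ((L ⋙ q).map m) m ((L ⋙ q).map (t₁ ≫ ψ.f))
      rw [Category.assoc, Category.assoc, hf'1]
      exact hft
    have h6 : RightFractionRel (RightFraction.mk ψ.s ψ.hs ψ.f) (RightFraction.mk φ.s φ.hs f') :=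
      ⟨Z, t₁, t₂, hst, h5, ht⟩
    have h7 := (RightFraction.map_eq_iff L W _ _).2 h6
    rw [hψ]
    exact h7

end General

variable {C : Type u} [Category.{v} C] {D : Type u₂} [Category.{v₂} D] (u : C ⥤ D)
  (𝒮 : BasedCategory.{v₃, u₃} C)

variable {u 𝒮}

/-- The object `(x, R, h ≫ φ)` obtained from `(x, V, φ)` and `h : R ⟶ V`. -/
def pbObj (a : UppObj u 𝒮) {R : D} (h : R ⟶ a.V) : UppObj u 𝒮 := ⟨a.x, R, h ≫ a.φ⟩

/-- The morphism `(𝟙, h) : (x, R, h ≫ φ) ⟶ (x, V, φ)`. -/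
def pbHom (a : UppObj u 𝒮) {R : D} (h : R ⟶ a.V) : pbObj a h ⟶ a :=
  ⟨𝟙 a.x, h, by simp [pbObj]⟩

theorem forget_isHomLift_iff {a b : UppObj u 𝒮} (g : a.V ⟶ b.V) (f : a ⟶ b) :
    (UppObj.forget u 𝒮).IsHomLift g f ↔ f.bot = g := by
  constructor
  · intro h
    exact (@IsHomLift.eq_of_isHomLift _ _ _ _ (UppObj.forget u 𝒮) a b g f h).symm
  · rintro rfl
    exact Functor.IsHomLift.map (p := UppObj.forget u 𝒮) f

theorem pbHom_isStronglyCartesian (a : UppObj u 𝒮) {R : D} (h : R ⟶ a.V) :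
    (UppObj.forget u 𝒮).IsStronglyCartesian ((UppObj.forget u 𝒮).map (pbHom a h)) (pbHom a h) := by
  refine { toIsHomLift := inferInstance, universal_property' := ?_ }
  intro a'' g f hf
  change a''.V ⟶ R at g
  have hfb : f.bot = g ≫ h := (forget_isHomLift_iff (b := a) (g ≫ h) f).1 hf
  let f' : a'' ⟶ pbObj a h := ⟨f.top, g, by
    change a''.φ ≫ u.map (𝒮.p.map f.top) = g ≫ h ≫ a.φ
    rw [f.w, hfb, Category.assoc]⟩
  refine ⟨f', ⟨(forget_isHomLift_iff (b := pbObj a h) g f').2 rfl, ?_⟩, ?_⟩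
  · apply UppObj.hom_ext
    · exact Category.comp_id _
    · exact hfb.symm
  · rintro f'' ⟨h1, h2⟩
    have hb : f''.bot = g := (forget_isHomLift_iff (b := pbObj a h) g f'').1 h1
    apply UppObj.hom_ext
    · have := congrArg UppObj.Hom.top h2
      rw [UppObj.comp_top] at this
      change f''.top ≫ 𝟙 _ = _ at this
      rw [Category.comp_id] at this
      exact this
    · exact hb

variable (u 𝒮)

/-- The structure functor of `u_p 𝒮`, as a functor out of the localisation. -/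
noncomputable abbrev qf : (uppR u 𝒮).Localization ⥤ D :=
  Localization.Construction.lift (UppObj.forget u 𝒮) (uppR_isInvertedBy u 𝒮)

theorem up_p_eq : (Stk.up u 𝒮).p = qf u 𝒮 := rfl

theorem Q_obj_surjective (A : (uppR u 𝒮).Localization) : ∃ a, (uppR u 𝒮).Q.obj a = A :=
  (Localization.Construction.objEquiv (uppR u 𝒮)).surjective A

theorem up_p_map_Q {a b : UppObj u 𝒮} (f : a ⟶ b) :
    (qf u 𝒮).map ((uppR u 𝒮).Q.map f) = f.bot := by
  have := Functor.congr_hom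
    (Localization.Construction.fac (UppObj.forget u 𝒮) (uppR_isInvertedBy u 𝒮)) f
  erw [eqToHom_refl, eqToHom_refl, Category.id_comp, Category.comp_id] at this
  exact this

variable {u 𝒮}

/-- The image in the localisation of `(𝟙, h)` is strongly cartesian over `h`. -/
theorem Q_pbHom_isStronglyCartesian [(uppR u 𝒮).HasRightCalculusOfFractions]
    (a : UppObj u 𝒮) {R : D} (h : R ⟶ a.V) :
    (qf u 𝒮).IsStronglyCartesian h ((uppR u 𝒮).Q.map (pbHom a h)) := by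
  have hm : ((uppR u 𝒮).Q ⋙ qf u 𝒮).IsStronglyCartesian
      (((uppR u 𝒮).Q ⋙ qf u 𝒮).map (pbHom a h)) (pbHom a h) := by
    change ((uppR u 𝒮).Q ⋙ Localization.Construction.lift (UppObj.forget u 𝒮)
      (uppR_isInvertedBy u 𝒮)).IsStronglyCartesian
      (((uppR u 𝒮).Q ⋙ Localization.Construction.lift (UppObj.forget u 𝒮)
      (uppR_isInvertedBy u 𝒮)).map (pbHom a h)) (pbHom a h)
    rw [Localization.Construction.fac]
    exact pbHom_isStronglyCartesian a h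
  have key := isStronglyCartesian_map_of_calculus (uppR u 𝒮) (uppR u 𝒮).Q (qf u 𝒮)
    (Q_obj_surjective u 𝒮) (pbHom a h) hm
  have e : (qf u 𝒮).map ((uppR u 𝒮).Q.map (pbHom a h)) = h := up_p_map_Q u 𝒮 (pbHom a h)
  rw [e] at key
  exact key

theorem qf_isFibered [(uppR u 𝒮).HasRightCalculusOfFractions] : (qf u 𝒮).IsFibered := by
  apply IsFibered.of_exists_isStronglyCartesian
  intro A R h
  obtain ⟨a, rfl⟩ := Q_obj_surjective u 𝒮 A
  exact ⟨_, (uppR u 𝒮).Q.map (pbHom a h), Q_pbHom_isStronglyCartesian a h⟩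

theorem qf_isFibGrpd [FibCat.IsFibGrpd 𝒮.p] [(uppR u 𝒮).HasRightCalculusOfFractions] :
    FibCat.IsFibGrpd (qf u 𝒮) where
  exists_lift := by
    intro A R h
    obtain ⟨a, rfl⟩ := Q_obj_surjective u 𝒮 A
    exact ⟨_, (uppR u 𝒮).Q.map (pbHom a h), (Q_pbHom_isStronglyCartesian a h).toIsHomLift⟩
  isStronglyCartesian := by
    intro A' A Φ
    obtain ⟨a', rfl⟩ := Q_obj_surjective u 𝒮 A'
    obtain ⟨a, rfl⟩ := Q_obj_surjective u 𝒮 A
    obtain ⟨φ, hφ⟩ := Localization.exists_rightFraction (uppR u 𝒮).Q (uppR u 𝒮) Φ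
    have hinv := Localization.inverts (uppR u 𝒮).Q (uppR u 𝒮)
    let f₁ : φ.X' ⟶ pbObj a φ.f.bot := ⟨φ.f.top, 𝟙 _, by
      change φ.X'.φ ≫ u.map (𝒮.p.map φ.f.top) = 𝟙 _ ≫ φ.f.bot ≫ a.φ
      rw [φ.f.w, Category.id_comp]⟩
    have hf₁ : uppR u 𝒮 f₁ := ⟨FibCat.IsFibGrpd.isStronglyCartesian (p := 𝒮.p) φ.f.top, by
      change IsIso (𝟙 _); infer_instance⟩
    have hfac : f₁ ≫ pbHom a φ.f.bot = φ.f := by
      apply UppObj.hom_ext
      · exact Category.comp_id _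
      · exact Category.id_comp _
    have hs : IsIso ((uppR u 𝒮).Q.map φ.s) := hinv _ φ.hs
    have hf₁' : IsIso ((uppR u 𝒮).Q.map f₁) := hinv _ hf₁
    obtain ⟨e, he⟩ : ∃ e : (uppR u 𝒮).Q.obj a' ≅ (uppR u 𝒮).Q.obj (pbObj a φ.f.bot),
        e.hom = inv ((uppR u 𝒮).Q.map φ.s) ≫ (uppR u 𝒮).Q.map f₁ :=
      ⟨(asIso ((uppR u 𝒮).Q.map φ.s)).symm ≪≫ asIso ((uppR u 𝒮).Q.map f₁), rfl⟩
    have hΦ : Φ = e.hom ≫ (uppR u 𝒮).Q.map (pbHom a φ.f.bot) := by
      rw [hφ, he, Category.assoc, ← Functor.map_comp, hfac]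
      rfl
    have h1 : (qf u 𝒮).IsStronglyCartesian ((qf u 𝒮).map e.hom) e.hom :=
      inferInstance
    have h2 := Q_pbHom_isStronglyCartesian a φ.f.bot
    have h3 : (qf u 𝒮).map Φ = (qf u 𝒮).map e.hom ≫ φ.f.bot := by
      rw [hΦ, Functor.map_comp, up_p_map_Q]
      rfl
    rw [h3, hΦ]
    exact @IsStronglyCartesian.comp _ _ _ _ (qf u 𝒮) _ _ _ _ _ _ _ _ _ _ h1 h2

theorem up_isFibered [(uppR u 𝒮).HasRightCalculusOfFractions] : (Stk.up u 𝒮).p.IsFibered :=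
  qf_isFibered (u := u) (𝒮 := 𝒮)

theorem up_isFibGrpd [FibCat.IsFibGrpd 𝒮.p] [(uppR u 𝒮).HasRightCalculusOfFractions] :
    FibCat.IsFibGrpd (Stk.up u 𝒮).p :=
  qf_isFibGrpd (u := u) (𝒮 := 𝒮)

end Groth.Agent.Lib.H43Upp
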