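import Groth.Agent.Lib.CompactPerf35
import Groth.Agent.Lib.FiveLemmaCoprod35
import Groth.Agent.Lib.DerivedCoprod
import Groth.Agent.Lib.PCohAmp2
import Groth.Agent.Lib.DRingPerfAmp
import Groth.Agent.Lib.CompactHocolim

/-!
# Compact objects of `D(R)` via finite supports (helper47)

`Groth.Agent.Lib.H47Cpt`:
* general: `finSupp_of_surjective` (surjective `homSumToHomCoprod` ⇒ `FinSupp`), `finSupp_of_equiv`
  (reindexing), `finSupp_shift` (FinSupp against shifted families ⇒ FinSupp of the shifted object);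
* `D(R)`: `hasColimitsOfShape_small`, `hasExactColimitsOfShape_small`, `hasCoproductsOfShape_small`
  (coproducts indexed by `u`-small types in `Type (u+1)`), `Cpt K` (all shifts of `K` have finite
  supports against all small families), `cpt_of_bijective` (from the frozen-statement form of
  compactness), `Cpt.shift/of_retract/of_iso/mid`, `cpt_of_pa` (perfect ⇒ compact),
  `bijective_of_cpt`.
-/

set_option autoImplicit false

open CategoryTheory CategoryTheory.Limits Groth.Agent.FinSupp31

universe w' w v u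

namespace Groth.Agent.Lib.H47Cpt

section General

variable {D : Type u} [Category.{v} D] [Preadditive D]

/-- surjectivity of the comparison map gives finite supports -/
lemma finSupp_of_surjective {ι : Type v} (Y : ι → D) [HasCoproduct Y] (P : D)
    (hs : Function.Surjective (CohDer.homSumToHomCoprod P Y)) : FinSupp Y P := by
  intro f
  obtain ⟨ξ, rfl⟩ := hs f
  have : CohDer.homSumToHomCoprod P Y ξ ∈ finSub Y P := by
    refine Groth.Agent.Lib.CompactHocolim.homSumToHomCoprod_induction Y P
      (fun a => a ∈ finSub Y P) (zero_mem _) (fun i x => comp_ι_mem_finSub Y P i x)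
      (fun a b ha hb => add_mem ha hb) ξ
  exact this

/-- reindexing along an equivalence -/
lemma finSupp_of_equiv {ι : Type w} {ι' : Type w'} (ε : ι ≃ ι') (Y : ι' → D) [HasCoproduct Y]
    [HasCoproduct (Y ∘ ε)] (P : D) (h : FinSupp (Y ∘ ε) P) : FinSupp Y P := by
  classical
  intro f
  let φ : (∐ (Y ∘ ε)) ≅ ∐ Y := Sigma.reindex ε Y
  obtain ⟨s, hs⟩ := h (f ≫ φ.inv)
  rw [comp_e_eq_sum] at hs
  have hf : f = ∑ j ∈ s, ((f ≫ φ.inv) ≫ Sigma.π (Y ∘ ε) j) ≫ Sigma.ι Y (ε j) := by
    have h1 : f = (f ≫ φ.inv) ≫ φ.hom := by rw [Category.assoc, Iso.inv_hom_id, Category.comp_id]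
    conv_lhs => rw [h1, ← hs]
    rw [Preadditive.sum_comp]
    refine Finset.sum_congr rfl (fun j _ => ?_)
    rw [Category.assoc]
    congr 1
    exact Sigma.ι_reindex_hom ε Y j
  have : f ∈ finSub Y P := by
    rw [hf]
    exact sum_mem (fun j _ => comp_ι_mem_finSub Y P (ε j) _)
  exact this

end General

section Shift

variable {D : Type u} [Category.{v} D] [Preadditive D] [HasShift D ℤ]
  [∀ n : ℤ, (shiftFunctor D n).Additive]

lemma finSupp_shift {J : Type w} (Y : J → D) [HasCoproduct Y] (P : D) (n : ℤ)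
    [HasCoproduct (fun j => (shiftFunctor D (-n)).obj (Y j))]
    (h : FinSupp (fun j => (shiftFunctor D (-n)).obj (Y j)) P) : FinSupp Y (P⟦n⟧) := by
  classical
  intro f
  let T := shiftFunctor D (-n)
  let c : P ≅ T.obj (P⟦n⟧) := ((shiftFunctorCompIsoId D n (-n) (by simp)).app P).symm
  obtain ⟨s, hs⟩ := Groth.Agent.Lib.FiveLemmaCoprod35.decomp T Y h (c.hom ≫ T.map f)
  refine ⟨s, ?_⟩
  apply T.map_injective
  have h1 : T.map f = c.inv ≫ (c.hom ≫ T.map f) := by rw [Iso.inv_hom_id_assoc]
  rw [comp_e_eq_sum, Functor.map_sum]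
  conv_rhs => rw [h1, hs, Preadditive.comp_sum]
  refine Finset.sum_congr rfl (fun j _ => ?_)
  simp only [Functor.map_comp, Category.assoc, Iso.inv_hom_id_assoc]

end Shift

section DR

variable (R : Type u) [CommRing R]

lemma hasColimitsOfShape_small (J : Type (u + 1)) [Small.{u} J] :
    HasColimitsOfShape (Discrete J) (ModuleCat.{u} R) :=
  hasColimitsOfShape_of_equivalence (Discrete.equivalence (equivShrink J).symm)

lemma hasExactColimitsOfShape_small (J : Type (u + 1)) [Small.{u} J] :
    haveI := hasColimitsOfShape_small R J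
    HasExactColimitsOfShape (Discrete J) (ModuleCat.{u} R) :=
  HasExactColimitsOfShape.of_domain_equivalence (ModuleCat.{u} R)
    (Discrete.equivalence (equivShrink J).symm)

attribute [local instance] HasDerivedCategory.standard

lemma hasCoproductsOfShape_small (J : Type (u + 1)) [Small.{u} J] :
    HasCoproductsOfShape J (DerivedCategory (ModuleCat.{u} R)) := by
  have := hasColimitsOfShape_small R J
  have := hasExactColimitsOfShape_small R J
  infer_instance

variable {R}

/-- compactness with respect to all small coproducts, for all shifts -/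
def Cpt (K : DerivedCategory (ModuleCat.{u} R)) : Prop :=
  ∀ (n : ℤ) (J : Type (u + 1)) [Small.{u} J] (Y : J → DerivedCategory (ModuleCat.{u} R))
    [HasCoproduct Y], FinSupp Y (K⟦n⟧)

theorem cpt_of_bijective (K : DerivedCategory (ModuleCat.{u} R))
    (H : ∀ (I : Type u) (E : I → DerivedCategory (ModuleCat.{u} R))
      [HasCoproduct fun i : ULift.{u + 1} I => E i.down],
      Function.Bijective (CohDer.homSumToHomCoprod K (fun i : ULift.{u + 1} I => E i.down))) :
    Cpt K := by
  intro n J _ Y _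
  have := hasCoproductsOfShape_small R J
  have := hasCoproductsOfShape_small R (ULift.{u + 1} (Shrink.{u} J))
  apply finSupp_shift Y K n
  let Y' : J → DerivedCategory (ModuleCat.{u} R) := fun j => (shiftFunctor _ (-n)).obj (Y j)
  let ε : ULift.{u + 1} (Shrink.{u} J) ≃ J := Equiv.ulift.trans (equivShrink J).symm
  refine finSupp_of_equiv ε Y' K ?_
  exact finSupp_of_surjective _ K (H (Shrink.{u} J) (fun i => Y' (ε ⟨i⟩))).surjective

lemma Cpt.shift {K : DerivedCategory (ModuleCat.{u} R)} (h : Cpt K) (m : ℤ) : Cpt (K⟦m⟧) :=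
  fun n J _ Y _ =>
  Groth.Agent.Lib.CompactPerf35.finSupp_of_iso_left Y
    ((shiftFunctorAdd (DerivedCategory (ModuleCat.{u} R)) m n).symm.app K) (h (m + n) J Y)

lemma Cpt.of_retract {K K' : DerivedCategory (ModuleCat.{u} R)} (i : K' ⟶ K) (r : K ⟶ K')
    (hir : i ≫ r = 𝟙 K') (h : Cpt K) : Cpt K' := fun n J _ Y _ =>
  Groth.Agent.Lib.CompactPerf35.finSupp_of_retract Y (i⟦n⟧') (r⟦n⟧') (by
    rw [← Functor.map_comp, hir, CategoryTheory.Functor.map_id]) (h n J Y)

lemma Cpt.of_iso {K K' : DerivedCategory (ModuleCat.{u} R)} (e : K' ≅ K) (h : Cpt K) :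
    Cpt K' := h.of_retract e.hom e.inv e.hom_inv_id

open Pretriangulated in
lemma Cpt.mid (T : Triangle (DerivedCategory (ModuleCat.{u} R)))
    (hT : T ∈ distTriang (DerivedCategory (ModuleCat.{u} R)))
    (h₁ : Cpt T.obj₁) (h₃ : Cpt T.obj₃) : Cpt T.obj₂ := fun n J _ Y _ =>
  Groth.Agent.Lib.CompactPerf35.finSupp_mid Y _ (Triangle.shift_distinguished T hT n)
    (h₁ n J Y) (h₃ n J Y)

/-- perfect objects are compact -/
theorem cpt_of_pa {a b : ℤ} {K : DerivedCategory (ModuleCat.{u} R)}
    (h : Groth.Agent.Lib.PCohAmp.PA (Groth.Agent.Lib.DRingPCoh21.FP R) a b K) : Cpt K := by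
  obtain ⟨E, h1, h2, ⟨e⟩⟩ := h
  intro n J _ Y _
  have := hasColimitsOfShape_small R J
  have := hasExactColimitsOfShape_small R J
  have hc := Groth.Agent.Lib.CompactPerf35.cptAll_of_bounded_finite_projective (J := J) E a b h2 h1
  exact (hc.of_iso e.symm) n Y

lemma Cpt.finSupp {K : DerivedCategory (ModuleCat.{u} R)} (h : Cpt K)
    (J : Type (u + 1)) [Small.{u} J] (Y : J → DerivedCategory (ModuleCat.{u} R)) [HasCoproduct Y] :
    FinSupp Y K :=
  Groth.Agent.Lib.CompactPerf35.finSupp_of_iso_left Y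
    ((shiftFunctorZero (DerivedCategory (ModuleCat.{u} R)) ℤ).app K).symm (h 0 J Y)

/-- finite supports against families indexed by types in `Type u` -/
lemma Cpt.finSupp' {K : DerivedCategory (ModuleCat.{u} R)} (h : Cpt K)
    (J : Type u) (Y : J → DerivedCategory (ModuleCat.{u} R)) [HasCoproduct Y] :
    FinSupp Y K := by
  have := hasCoproductsOfShape_small R (ULift.{u + 1} J)
  exact finSupp_of_equiv (Equiv.ulift.{u + 1} (α := J)) Y K (h.finSupp (ULift.{u + 1} J) _)

/-- the statement form of compactness, from `Cpt` -/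
theorem bijective_of_cpt {K : DerivedCategory (ModuleCat.{u} R)} (h : Cpt K)
    (J : Type (u + 1)) [Small.{u} J] (Y : J → DerivedCategory (ModuleCat.{u} R)) [HasCoproduct Y] :
    Function.Bijective (CohDer.homSumToHomCoprod K Y) :=
  bijective_of_finSupp (h.finSupp J Y)

end DR

end Groth.Agent.Lib.H47Cpt
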