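import Groth.Agent.Lib.ClassTowerOp11
import Groth.Agent.Lib.ClassResolutionOp
import Groth.Agent.Lib.SigmaGE66
import Groth.Agent.Lib.CompactHocolim
import Groth.Agent.Lib.DerivedHocolim
import Groth.Agent.Lib.DerivedCoprod
import Groth.Agent.Lib.FinSupp31
import Groth.Agent.Lib.CompactFree31
import Groth.Prelude.Def_CohDer

/-!
# Compact objects of `D(A)`, `A` Grothendieck abelian with a set of small generators (helper47)

`Groth.Agent.Lib.H47CptGen`:
* `finSupp_of_surjective`, `finSupp_of_preserves` (`Hom(E, -)` commuting with direct sums gives finite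
  supports `FinSupp Y E`), `finSupp_of_iso_biproduct`;
* `T E s`, `iT`, `pT` (complementary summand of `∐ E` for a finite set `s` of indices), `finIso`
  (`ker (pT E s) ≅ ⨁_{j : Fin s.card} E (s_j)`);
* `sigmaComparison_map_e`, `exists_finset_map_e`;
* `Pi` (projection of a complex on the complementary summand in one degree), `step`;
* `geSeq`, `geCocone`, `isColimitGeCocone` (the tower `τ≥n X` has colimit `0`), `hom_colimit` (maps from a
  compact object to a sequential termwise colimit), `exists_bound` (compact objects are bounded above);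
* `exists_bounded`, `finite_induction`, `main` (every compact object is a retract of a bounded complex of
  finite direct sums of members of `S`).
-/

set_option autoImplicit false
set_option backward.isDefEq.respectTransparency.types false

open CategoryTheory CategoryTheory.Limits ZeroObject Opposite

universe w v u

namespace Groth.Agent.Lib.H47CptGen

open Groth.Agent.FinSupp31 Groth.Agent.Lib.ClassTowerOp11

section FinSuppFacts

variable {A : Type u} [Category.{v} A] [Preadditive A]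

/-- surjectivity of the comparison map gives finite supports -/
lemma finSupp_of_surjective {ι : Type v} (Y : ι → A) [HasCoproduct Y] (P : A)
    (hs : Function.Surjective (CohDer.homSumToHomCoprod P Y)) : FinSupp Y P := by
  intro f
  obtain ⟨ξ, rfl⟩ := hs f
  have : CohDer.homSumToHomCoprod P Y ξ ∈ finSub Y P := by
    refine Groth.Agent.Lib.CompactHocolim.homSumToHomCoprod_induction Y P
      (fun a => a ∈ finSub Y P) (zero_mem _) (fun i x => comp_ι_mem_finSub Y P i x)
      (fun a b ha hb => add_mem ha hb) ξ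
  exact this

/-- `Hom(E, -)` preserves coproducts ⇒ finite supports -/
lemma finSupp_of_preserves (E : A) {ι : Type v} (Y : ι → A) [HasCoproduct Y]
    [PreservesColimitsOfShape (Discrete ι) (preadditiveCoyoneda.obj (op E))] : FinSupp Y E := by
  let H := preadditiveCoyoneda.obj (op E)
  have hH : IsColimit (H.mapCocone (colimit.cocone (Discrete.functor Y))) :=
    isColimitOfPreserves H (colimit.isColimit _)
  have hgen := Groth.Agent.CompactFree31.closure_range_eq_top _ hH
  intro f
  have hf : f ∈ (⊤ : AddSubgroup ((H.mapCocone (colimit.cocone (Discrete.functor Y))).pt)) :=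
    trivial
  rw [← hgen] at hf
  refine AddSubgroup.closure_induction
    (p := fun (x : ((H.mapCocone (colimit.cocone (Discrete.functor Y))).pt : Type v)) _ =>
      ∃ s : Finset ι, (show E ⟶ ∐ Y from x) ≫ e Y s = (show E ⟶ ∐ Y from x))
    ?_ ?_ ?_ ?_ hf
  · intro x hx
    obtain ⟨j, g, rfl⟩ := Set.mem_iUnion.1 hx
    exact comp_ι_mem_finSub Y E j.as g
  · exact (finSub Y E).zero_mem
  · intro x y _ _ hx hy
    exact (finSub Y E).add_mem hx hy
  · intro x _ hx
    exact (finSub Y E).neg_mem hx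

/-- finite supports for a finite biproduct -/
lemma finSupp_of_iso_biproduct {ι : Type w} (Y : ι → A) [HasCoproduct Y] {n : ℕ} (F : Fin n → A)
    [HasBiproduct F] (M : A) (φ : M ≅ ⨁ F) (h : ∀ j, FinSupp Y (F j)) : FinSupp Y M := by
  classical
  intro f
  choose s hs using fun j => h j (biproduct.ι F j ≫ φ.inv ≫ f)
  refine ⟨Finset.univ.biUnion s, ?_⟩
  rw [← cancel_epi φ.inv]
  apply biproduct.hom_ext'
  intro j
  have : (biproduct.ι F j ≫ φ.inv ≫ f) ≫ e Y (Finset.univ.biUnion s) =
      biproduct.ι F j ≫ φ.inv ≫ f := by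
    conv_lhs => rw [← hs j]
    rw [Category.assoc, e_e Y (Finset.subset_biUnion_of_mem s (Finset.mem_univ j)), hs j]
  simpa only [Category.assoc] using this

end FinSuppFacts

section Summand

variable {A : Type u} [Category.{v} A] [Abelian A] {Λ : Type w} (E : Λ → A) [HasCoproduct E]
  (s : Finset Λ)

/-- the complementary summand of `∐ E` (kernel of the projection on `s`) -/
noncomputable def T : A := kernel (e E s)

/-- the inclusion of the complementary summand -/
noncomputable def iT : T E s ⟶ ∐ E := kernel.ι _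

/-- the projection on the complementary summand -/
noncomputable def pT : ∐ E ⟶ T E s :=
  kernel.lift _ (𝟙 _ - e E s) (by
    rw [Preadditive.sub_comp, Category.id_comp, e_e E (subset_refl s), sub_self])

instance : Mono (iT E s) := (inferInstance : Mono (kernel.ι (e E s)))

@[reassoc]
lemma pT_iT : pT E s ≫ iT E s = 𝟙 _ - e E s := kernel.lift_ι _ _ _

@[reassoc]
lemma iT_e : iT E s ≫ e E s = 0 := kernel.condition _

@[reassoc]
lemma iT_pT : iT E s ≫ pT E s = 𝟙 _ := by
  rw [← cancel_mono (iT E s), Category.assoc, pT_iT, Preadditive.comp_sub, Category.comp_id,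
    iT_e, sub_zero, Category.id_comp]

instance : Epi (pT E s) :=
  have : IsSplitEpi (pT E s) := IsSplitEpi.mk' ⟨iT E s, iT_pT E s⟩
  inferInstance

lemma ι_pT_of_mem {l : Λ} (hl : l ∈ s) : Sigma.ι E l ≫ pT E s = 0 := by
  rw [← cancel_mono (iT E s), Category.assoc, pT_iT, Preadditive.comp_sub, Category.comp_id,
    ι_e_of_mem E hl, sub_self, zero_comp]

lemma kernel_ι_e : kernel.ι (pT E s) ≫ e E s = kernel.ι (pT E s) := by
  have h : kernel.ι (pT E s) ≫ (𝟙 _ - e E s) = 0 := by
    rw [← pT_iT, kernel.condition_assoc, zero_comp]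
  rw [Preadditive.comp_sub, Category.comp_id, sub_eq_zero] at h
  exact h.symm

open Classical in
/-- the kernel of the projection is the finite direct sum of the `E l`, `l ∈ s` -/
noncomputable def finIso [HasFiniteBiproducts A] :
    kernel (pT E s) ≅ ⨁ (fun j : Fin s.card => E (s.equivFin.symm j)) where
  hom := biproduct.lift (fun j => kernel.ι (pT E s) ≫ Sigma.π E (s.equivFin.symm j))
  inv := biproduct.desc (fun j => kernel.lift (pT E s) (Sigma.ι E (s.equivFin.symm j))
    (ι_pT_of_mem E s (s.equivFin.symm j).2))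
  hom_inv_id := by
    rw [biproduct.lift_desc, ← cancel_mono (kernel.ι (pT E s)), Preadditive.sum_comp,
      Category.id_comp]
    simp only [Category.assoc, kernel.lift_ι]
    conv_rhs => rw [← kernel_ι_e E s, e, Preadditive.comp_sum]
    rw [← Finset.sum_coe_sort s, ← Equiv.sum_comp s.equivFin.symm]
  inv_hom_id := by
    apply biproduct.hom_ext
    intro j
    apply biproduct.hom_ext'
    intro j'
    simp only [Category.assoc, biproduct.lift_π, biproduct.ι_desc_assoc, kernel.lift_ι_assoc,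
      Category.id_comp]
    rw [biproduct.ι_π]
    by_cases h : j' = j
    · subst h
      rw [dif_pos rfl, Sigma.ι_π_eq_id]
      rfl
    · rw [dif_neg h, Sigma.ι_π_of_ne]
      intro h'
      exact h (s.equivFin.symm.injective (Subtype.ext h'))

end Summand

section MapE

variable {A : Type u} [Category.{v} A] [Preadditive A] {D : Type*} [Category* D] [Preadditive D]
  (G : A ⥤ D) [G.Additive] {Λ : Type w} (E : Λ → A) [HasCoproduct E]
  [HasCoproduct (fun l => G.obj (E l))] [PreservesColimit (Discrete.functor E) G]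

omit [PreservesColimit (Discrete.functor E) G] in
lemma sigmaComparison_map_e (s : Finset Λ) :
    sigmaComparison G E ≫ G.map (e E s) = e (fun l => G.obj (E l)) s ≫ sigmaComparison G E := by
  apply Sigma.hom_ext
  intro l
  rw [ι_comp_sigmaComparison_assoc, ← G.map_comp]
  by_cases hl : l ∈ s
  · rw [ι_e_of_mem E hl, ← Category.assoc, ι_e_of_mem _ hl, ι_comp_sigmaComparison]
  · rw [ι_e_of_not_mem E hl, ← Category.assoc, ι_e_of_not_mem _ hl, Functor.map_zero, zero_comp]

/-- maps from an object with finite supports to `G (∐ E)` have finite support -/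
lemma exists_finset_map_e (K : D) (h : FinSupp (fun l => G.obj (E l)) K) (z : K ⟶ G.obj (∐ E)) :
    ∃ s : Finset Λ, z ≫ G.map (e E s) = z := by
  obtain ⟨s, hs⟩ := h (z ≫ (PreservesCoproduct.iso G E).hom)
  refine ⟨s, ?_⟩
  have h1 : (PreservesCoproduct.iso G E).inv = sigmaComparison G E := PreservesCoproduct.inv_hom G E
  calc z ≫ G.map (e E s)
      = (z ≫ (PreservesCoproduct.iso G E).hom) ≫ sigmaComparison G E ≫ G.map (e E s) := by
        rw [← h1, Category.assoc, Iso.hom_inv_id_assoc]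
    _ = z := by
        rw [sigmaComparison_map_e, ← Category.assoc, hs, ← h1, Category.assoc, Iso.hom_inv_id,
          Category.comp_id]

end MapE

section Step

variable {A : Type u} [Category.{v} A] [Abelian A]

section Pi

variable (L : CochainComplex A ℤ) (c : ℤ) {Λ : Type w} (E : Λ → A) [HasCoproduct E]
  (eL : L.X c ≅ ∐ E)

lemma d_comp_eq_zero {s₀ s : Finset Λ} (h : s₀ ⊆ s)
    (hs₀ : (L.d (c - 1) c ≫ eL.hom) ≫ e E s₀ = L.d (c - 1) c ≫ eL.hom) :
    L.d (c - 1) c ≫ eL.hom ≫ (𝟙 _ - e E s) = 0 := by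
  rw [Preadditive.comp_sub, Preadditive.comp_sub, Category.comp_id, sub_eq_zero]
  have : (L.d (c - 1) c ≫ eL.hom) ≫ e E s = L.d (c - 1) c ≫ eL.hom := by
    conv_lhs => rw [← hs₀]
    rw [Category.assoc, e_e E h, hs₀]
  rw [Category.assoc] at this
  exact this.symm

/-- the projection of `L` on the complementary summand in degree `c` -/
noncomputable def Pi (s : Finset Λ) (hs : L.d (c - 1) c ≫ eL.hom ≫ (𝟙 _ - e E s) = 0) :
    L ⟶ (HomologicalComplex.single A (ComplexShape.up ℤ) c).obj (T E s) :=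
  HomologicalComplex.mkHomToSingle (eL.hom ≫ pT E s) (by
    intro i hi
    have hi' : i + 1 = c := hi
    obtain rfl : i = c - 1 := by lia
    rw [← cancel_mono (iT E s), Category.assoc, Category.assoc, pT_iT, hs, zero_comp])

lemma Pi_f (s : Finset Λ) (hs : L.d (c - 1) c ≫ eL.hom ≫ (𝟙 _ - e E s) = 0) :
    (Pi L c E eL s hs).f c =
      (eL.hom ≫ pT E s) ≫ (HomologicalComplex.singleObjXSelf (ComplexShape.up ℤ) c (T E s)).inv :=
  HomologicalComplex.mkHomToSingle_f _ _

lemma Pi_comp {s₀ s : Finset Λ} (h : s₀ ⊆ s)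
    (hs₀ : L.d (c - 1) c ≫ eL.hom ≫ (𝟙 _ - e E s₀) = 0)
    (hs : L.d (c - 1) c ≫ eL.hom ≫ (𝟙 _ - e E s) = 0) :
    Pi L c E eL s hs ≫ (HomologicalComplex.single A (ComplexShape.up ℤ) c).map (iT E s) =
      (Pi L c E eL s₀ hs₀ ≫ (HomologicalComplex.single A (ComplexShape.up ℤ) c).map (iT E s₀)) ≫
        (HomologicalComplex.single A (ComplexShape.up ℤ) c).map (𝟙 _ - e E s) := by
  apply HomologicalComplex.to_single_hom_ext
  simp only [HomologicalComplex.comp_f, Pi_f, HomologicalComplex.single_map_f_self, Category.assoc,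
    Iso.inv_hom_id_assoc]
  rw [pT_iT_assoc, pT_iT_assoc]
  congr 1
  simp only [← Category.assoc]
  congr 1
  rw [Preadditive.sub_comp, Category.id_comp, Preadditive.comp_sub, Category.comp_id, e_e E h]
  abel

instance epi_Pi (s : Finset Λ) (hs : L.d (c - 1) c ≫ eL.hom ≫ (𝟙 _ - e E s) = 0) :
    Epi (Pi L c E eL s hs) := by
  apply HomologicalComplex.epi_of_epi_f
  intro i
  by_cases hi : i = c
  · subst hi
    rw [Pi_f]
    infer_instance
  · exact ⟨fun g h _ => (HomologicalComplex.isZero_single_obj_X _ _ _ _ hi).eq_of_src _ _⟩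

end Pi

variable [IsGrothendieckAbelian.{v} A] [HasCoproducts.{v} A] [HasDerivedCategory.{v} A]
  [HasCoproducts.{v} (DerivedCategory A)]

/-- the modification step: make the degree `c` term finite, keeping a factorisation of `φ` -/
theorem step (K : DerivedCategory A) (hK : CohDer.IsCompactObject K)
    (L : CochainComplex A ℤ) (c : ℤ) {Λ : Type v} (E : Λ → A) (eL : L.X c ≅ ∐ E)
    (hfin : FinSupp E (L.X (c - 1))) (φ : K ⟶ DerivedCategory.Q.obj L) [HasFiniteBiproducts A] :
    ∃ (L' : CochainComplex A ℤ) (j : L' ⟶ L) (φ' : K ⟶ DerivedCategory.Q.obj L') (s : Finset Λ),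
      φ' ≫ DerivedCategory.Q.map j = φ ∧ (∀ i, i ≠ c → Nonempty (L'.X i ≅ L.X i)) ∧
      Nonempty (L'.X c ≅ ⨁ (fun j : Fin s.card => E (s.equivFin.symm j))) := by
  classical
  have : AB4OfSize.{v} A := AB4.of_AB5 A
  have : HasExactColimitsOfShape (Discrete Λ) A := AB4OfSize.ofShape Λ
  let Sg := HomologicalComplex.single A (ComplexShape.up ℤ) c
  let G : A ⥤ DerivedCategory A := Sg ⋙ DerivedCategory.Q
  have : PreservesColimitsOfShape (Discrete Λ) Sg := inferInstance
  have : PreservesColimitsOfShape (Discrete Λ) G := inferInstance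
  have : G.Additive := inferInstance
  obtain ⟨s₀, hs₀⟩ := hfin (L.d (c - 1) c ≫ eL.hom)
  have hd : ∀ s, s₀ ⊆ s → L.d (c - 1) c ≫ eL.hom ≫ (𝟙 _ - e E s) = 0 :=
    fun s h => d_comp_eq_zero L c E eL h hs₀
  have hKfin : FinSupp (fun l => G.obj (E l)) K :=
    finSupp_of_surjective _ K (hK Λ _).surjective
  let z : K ⟶ G.obj (∐ E) :=
    φ ≫ DerivedCategory.Q.map (Pi L c E eL s₀ (hd s₀ subset_rfl) ≫ Sg.map (iT E s₀))
  obtain ⟨s₁, hs₁⟩ := exists_finset_map_e G E K hKfin z
  let s := s₀ ∪ s₁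
  have hs : L.d (c - 1) c ≫ eL.hom ≫ (𝟙 _ - e E s) = 0 := hd s Finset.subset_union_left
  have hzero : φ ≫ DerivedCategory.Q.map (Pi L c E eL s hs) = 0 := by
    have h1 : φ ≫ DerivedCategory.Q.map (Pi L c E eL s hs ≫ Sg.map (iT E s)) = 0 := by
      rw [Pi_comp L c E eL Finset.subset_union_left (hd s₀ subset_rfl) hs, Functor.map_comp,
        ← Category.assoc]
      change z ≫ G.map (𝟙 _ - e E s) = 0
      rw [← hs₁, Category.assoc, ← G.map_comp, Preadditive.comp_sub, Category.comp_id,
        e_e E Finset.subset_union_right, sub_self, G.map_zero, comp_zero]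
    have h2 : Pi L c E eL s hs = (Pi L c E eL s hs ≫ Sg.map (iT E s)) ≫ Sg.map (pT E s) := by
      rw [Category.assoc, ← Sg.map_comp, iT_pT, Sg.map_id, Category.comp_id]
    rw [h2, Functor.map_comp, ← Category.assoc, h1, zero_comp]
  let S : ShortComplex (CochainComplex A ℤ) :=
    ShortComplex.mk (kernel.ι (Pi L c E eL s hs)) (Pi L c E eL s hs) (kernel.condition _)
  have hS : S.ShortExact :=
    ShortComplex.ShortExact.mk' (ShortComplex.exact_kernel _) inferInstance (epi_Pi L c E eL s hs)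
  have hT := DerivedCategory.triangleOfSES_distinguished hS
  obtain ⟨φ', hφ'⟩ := Pretriangulated.Triangle.coyoneda_exact₂ _ hT φ hzero
  refine ⟨kernel (Pi L c E eL s hs), kernel.ι _, φ', s, hφ'.symm, ?_, ?_⟩
  · intro i hi
    have h0 : (Pi L c E eL s hs).f i = 0 :=
      (HomologicalComplex.isZero_single_obj_X _ _ _ _ hi).eq_of_tgt _ _
    let e1 : (kernel (Pi L c E eL s hs)).X i ≅ kernel ((Pi L c E eL s hs).f i) :=
      PreservesKernel.iso (HomologicalComplex.eval A (ComplexShape.up ℤ) i) _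
    let e2 : kernel ((Pi L c E eL s hs).f i) ≅
        kernel (0 : L.X i ⟶ ((HomologicalComplex.single A (ComplexShape.up ℤ) c).obj (T E s)).X i) :=
      kernelIsoOfEq h0
    exact ⟨e1 ≪≫ e2 ≪≫ kernelZeroIsoSource⟩
  · let e1 : (kernel (Pi L c E eL s hs)).X c ≅ kernel ((Pi L c E eL s hs).f c) :=
      PreservesKernel.iso (HomologicalComplex.eval A (ComplexShape.up ℤ) c) _
    let e2 : kernel ((Pi L c E eL s hs).f c) ≅ kernel ((eL.hom ≫ pT E s) ≫
        (HomologicalComplex.singleObjXSelf (ComplexShape.up ℤ) c (T E s)).inv) :=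
      kernelIsoOfEq (Pi_f L c E eL s hs)
    let e3 : kernel ((eL.hom ≫ pT E s) ≫
        (HomologicalComplex.singleObjXSelf (ComplexShape.up ℤ) c (T E s)).inv) ≅
        kernel (eL.hom ≫ pT E s) := kernelCompMono _ _
    let e4 : kernel (eL.hom ≫ pT E s) ≅ kernel (pT E s) := kernelIsIsoComp _ _
    exact ⟨e1 ≪≫ e2 ≪≫ e3 ≪≫ e4 ≪≫ finIso E s⟩

end Step

section Seq

variable {A : Type u} [Category.{v} A] [Abelian A] (X : CochainComplex A ℤ)

instance epi_πTruncGE (n : ℤ) : Epi (X.πTruncGE n) := by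
  dsimp only [CochainComplex.πTruncGE]
  infer_instance

/-- the tower `τ≥0 X → τ≥1 X → ⋯` -/
noncomputable def geSeq : ℕ ⥤ CochainComplex A ℤ where
  obj n := X.truncGE n
  map {n m} f := trGE X (Int.ofNat_le.2 (leOfHom f))
  map_id n := by
    rw [← cancel_epi (X.πTruncGE n), πTruncGE_trGE, Category.comp_id]
  map_comp {n m k} f g := by
    rw [← cancel_epi (X.πTruncGE n), πTruncGE_trGE, ← Category.assoc, πTruncGE_trGE,
      πTruncGE_trGE]

/-- the projection to the tower -/
noncomputable def geπ (n : ℕ) : X ⟶ (geSeq X).obj n := X.πTruncGE n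

lemma geπ_map {n m : ℕ} (f : n ⟶ m) : geπ X n ≫ (geSeq X).map f = geπ X m :=
  πTruncGE_trGE X (Int.ofNat_le.2 (leOfHom f))

lemma geSeq_map_f_eq_zero {n m : ℕ} (f : n ⟶ m) (i : ℤ) (hi : i < m) :
    ((geSeq X).map f).f i = 0 :=
  ((X.truncGE m).isZero_of_isStrictlyGE m i hi).eq_of_tgt _ _

/-- the zero cocone -/
noncomputable def geCocone : Cocone (geSeq X) where
  pt := 0
  ι := 0

lemma cocone_ι_eq_zero (s : Cocone (geSeq X)) (n : ℕ) : s.ι.app n = 0 := by
  ext i
  let m : ℕ := max n (i + 1).toNat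
  have hnm : n ≤ m := le_max_left _ _
  have him : i < m := by
    have h1 := Int.self_le_toNat (i + 1)
    have h2 : (i + 1).toNat ≤ m := le_max_right _ _
    lia
  have := s.w (homOfLE hnm)
  rw [← this, HomologicalComplex.comp_f, geSeq_map_f_eq_zero X _ i him, zero_comp]
  rfl

/-- the zero cocone is a colimit -/
noncomputable def isColimitGeCocone : IsColimit (geCocone X) where
  desc s := 0
  fac s n := by
    rw [cocone_ι_eq_zero X s n, comp_zero]
  uniq s m _ := (isZero_zero _).eq_of_src _ _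

end Seq


variable {A : Type u} [Category.{v} A] [Abelian A] [IsGrothendieckAbelian.{v} A]
  [HasCoproducts.{v} A] [HasDerivedCategory.{v} A] [HasCoproducts.{v} (DerivedCategory A)]

/-- maps from a compact object to a termwise sequential colimit factor through a stage, and maps
to a stage dying in the colimit die at a later stage -/
theorem hom_colimit (K : DerivedCategory A) (hK : CohDer.IsCompactObject K)
    (L : ℕ ⥤ CochainComplex A ℤ) (c : Cocone L) (hc : IsColimit c) :
    (∀ x : K ⟶ DerivedCategory.Q.obj c.pt, ∃ (n : ℕ) (y : K ⟶ DerivedCategory.Q.obj (L.obj n)),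
        y ≫ DerivedCategory.Q.map (c.ι.app n) = x) ∧
      (∀ (n : ℕ) (y : K ⟶ DerivedCategory.Q.obj (L.obj n)),
        y ≫ DerivedCategory.Q.map (c.ι.app n) = 0 →
        ∃ (m : ℕ) (h : n ≤ m), y ≫ DerivedCategory.Q.map (L.map (homOfLE h)) = 0) := by
  classical
  have : HasFilteredColimitsOfSize.{0, 0} A := hasFilteredColimitsOfSize_shrink.{0, 0, v, v}
  have : AB5OfSize.{0, 0} A := AB5OfSize_shrink.{0, 0, v, v} A
  have : HasExactColimitsOfShape ℕ A := AB5OfSize.ofShape ℕ
  have : HasCoproducts.{0} A := hasCoproducts_shrink.{0, v}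
  have : HasFiniteBiproducts A := Abelian.hasFiniteBiproducts
  have : AB4OfSize.{0} A := AB4.of_AB5 A
  have : HasExactColimitsOfShape (Discrete ℕ) A := AB4OfSize.ofShape ℕ
  have : HasColimitsOfShape (Discrete ℕ) (DerivedCategory A) :=
    hasColimitsOfShape_of_equivalence (Discrete.equivalence Equiv.ulift.{v, 0})
  let F : ℕ ⥤ DerivedCategory A := L ⋙ DerivedCategory.Q
  have hK0 : ∀ (G : ℕ ⥤ DerivedCategory A) [HasCoproduct G.obj] (z : K ⟶ ∐ G.obj),
      ∃ N, z ≫ Groth.Agent.Lib.CompactHocolim.e G N = z := by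
    intro G _ z
    exact Groth.Agent.Lib.CompactHocolim.exists_e_of_surjective G K
      (hK (ULift.{v} ℕ) (fun i => G.obj i.down)).surjective z
  have hL : DerLim.IsHocolim F.obj (Groth.Agent.Lib.CompactHocolim.tr F)
      (DerivedCategory.Q.obj c.pt) (fun n => DerivedCategory.Q.map (c.ι.app n)) :=
    Groth.Agent.Lib.DerivedHocolim.isHocolim_of_isColimit L c hc
  refine ⟨fun x => ?_, fun n y hy => ?_⟩
  · exact Groth.Agent.Lib.CompactHocolim.exists_factor F _ hL K
      (Groth.Agent.Lib.CompactHocolim.exists_shift_e F K (hK0 (F ⋙ shiftFunctor _ (1 : ℤ))))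
      (hK0 F) x
  · exact Groth.Agent.Lib.CompactHocolim.exists_comp_eq_zero F _ hL K (hK0 F) n y hy


/-- compact objects of `D(A)` are bounded above -/
theorem exists_bound (K : DerivedCategory A) (hK : CohDer.IsCompactObject K)
    (X : CochainComplex A ℤ) (e : DerivedCategory.Q.obj X ≅ K) :
    ∃ a : ℤ, ∀ n : ℤ, a < n → IsZero (X.homology n) := by
  obtain ⟨m, hm0, hm⟩ := (hom_colimit K hK (geSeq X) (geCocone X) (isColimitGeCocone X)).2 0
    (e.inv ≫ DerivedCategory.Q.map (geπ X 0)) (by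
      have : (geCocone X).ι.app 0 = 0 := rfl
      rw [this, Functor.map_zero, comp_zero])
  have h0 : DerivedCategory.Q.map (X.πTruncGE (m : ℕ)) = 0 := by
    rw [Category.assoc, ← Functor.map_comp, geπ_map] at hm
    have h1 : e.inv ≫ DerivedCategory.Q.map (X.πTruncGE (m : ℕ)) = 0 := hm
    rw [← cancel_epi e.inv, h1, comp_zero]
  refine ⟨(m : ℤ) - 1, fun n hn => ?_⟩
  have hq : QuasiIsoAt (X.πTruncGE (m : ℕ)) n := X.quasiIsoAt_πTruncGE m n (by lia)
  have h2 : HomologicalComplex.homologyMap (X.πTruncGE (m : ℕ)) n = 0 := by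
    have := DerivedCategory.homologyFunctorFactors_hom_naturality (X.πTruncGE (m : ℕ)) n
    rw [h0, Functor.map_zero, zero_comp] at this
    exact (cancel_epi ((DerivedCategory.homologyFunctorFactors A n).hom.app X)).1
      (this.symm.trans comp_zero.symm)
  have h3 : IsIso (HomologicalComplex.homologyMap (X.πTruncGE (m : ℕ)) n) :=
    (quasiIsoAt_iff_isIso_homologyMap _ n).mp hq
  rw [IsZero.iff_id_eq_zero, ← cancel_mono (HomologicalComplex.homologyMap (X.πTruncGE (m : ℕ)) n),
    h2, comp_zero, zero_comp]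

section Main

variable {A : Type u} [Category.{v} A] [Abelian A] [IsGrothendieckAbelian.{v} A]
  [HasCoproducts.{v} A] [HasFiniteBiproducts A] [HasDerivedCategory.{v} A]
  [HasCoproducts.{v} (DerivedCategory A)] (S : Set A)

/-- arbitrary direct sums of members of `S` -/
def PS (Y : A) : Prop := ∃ (ι : Type v) (E : ι → A), (∀ i, E i ∈ S) ∧ Nonempty (Y ≅ ∐ E)

/-- finite direct sums of members of `S` -/
def PF (Y : A) : Prop := ∃ (n : ℕ) (E : Fin n → A), (∀ j, E j ∈ S) ∧ Nonempty (Y ≅ ⨁ E)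

variable {S}

omit [Abelian A] [IsGrothendieckAbelian.{v} A] [HasFiniteBiproducts A] [HasDerivedCategory.{v} A]
  [HasCoproducts.{v} (DerivedCategory A)] in
lemma PS.of_iso {Y Y' : A} (h : PS S Y) (φ : Y' ≅ Y) : PS S Y' := by
  obtain ⟨ι, E, hE, ⟨ψ⟩⟩ := h
  exact ⟨ι, E, hE, ⟨φ ≪≫ ψ⟩⟩

omit [IsGrothendieckAbelian.{v} A] [HasCoproducts.{v} A] [HasDerivedCategory.{v} A]
  [HasCoproducts.{v} (DerivedCategory A)] in
lemma PF.of_iso {Y Y' : A} (h : PF S Y) (φ : Y' ≅ Y) : PF S Y' := by
  obtain ⟨ι, E, hE, ⟨ψ⟩⟩ := h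
  exact ⟨ι, E, hE, ⟨φ ≪≫ ψ⟩⟩

omit [IsGrothendieckAbelian.{v} A] [HasFiniteBiproducts A] [HasDerivedCategory.{v} A]
  [HasCoproducts.{v} (DerivedCategory A)] in
lemma ps_of_isZero {Y : A} (hY : IsZero Y) : PS S Y := by
  refine ⟨PEmpty.{v + 1}, fun i => i.elim, fun i => i.elim, ⟨hY.iso ?_⟩⟩
  rw [IsZero.iff_id_eq_zero]
  apply Sigma.hom_ext
  intro i
  exact i.elim

omit [IsGrothendieckAbelian.{v} A] [HasCoproducts.{v} A] [HasDerivedCategory.{v} A]
  [HasCoproducts.{v} (DerivedCategory A)] in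
lemma pf_of_isZero {Y : A} (hY : IsZero Y) : PF S Y := by
  refine ⟨0, fun i => i.elim0, fun i => i.elim0, ⟨hY.iso ?_⟩⟩
  rw [IsZero.iff_id_eq_zero]
  apply biproduct.hom_ext
  intro i
  exact i.elim0

omit [HasFiniteBiproducts A] in
/-- a compact object is a retract of a bounded complex of direct sums of members of `S` -/
theorem exists_bounded
    (h1 : ∀ X : A, ∃ (ι : Type v) (E : ι → A) (π : ∐ E ⟶ X), (∀ i, E i ∈ S) ∧ Epi π)
    (K : DerivedCategory A) (hK : CohDer.IsCompactObject K) :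
    ∃ (L : CochainComplex A ℤ) (a b : ℤ), a ≤ b ∧ (∀ i, i < a ∨ b < i → IsZero (L.X i)) ∧
      (∀ i, PS S (L.X i)) ∧ Nonempty (Retract K (DerivedCategory.Q.obj L)) := by
  let X := DerivedCategory.Q.objPreimage K
  let eX : DerivedCategory.Q.obj X ≅ K := DerivedCategory.Q.objObjPreimageIso K
  obtain ⟨a, ha⟩ := exists_bound K hK X eX
  obtain ⟨P, α, hP, hPS, hα⟩ := Groth.Agent.Lib.ClassResolution.exists_left_resolution_of_isLE
    (P := PS S) ⟨0, isZero_zero A, ps_of_isZero (isZero_zero A)⟩ (fun Y => by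
      obtain ⟨ι, E, π, hE, hπ⟩ := h1 Y
      exact ⟨∐ E, π, ⟨ι, E, hE, ⟨Iso.refl _⟩⟩, hπ⟩) X a ha
  have : IsIso (DerivedCategory.Q.map α) := by
    rw [DerivedCategory.isIso_Q_map_iff_quasiIso]
    exact hα
  let eP : DerivedCategory.Q.obj P ≅ K := asIso (DerivedCategory.Q.map α) ≪≫ eX
  obtain ⟨n, y, hy⟩ := (hom_colimit K hK (Groth.Agent.Lib.SigmaGE66.sgSeq P a)
    (Groth.Agent.Lib.SigmaGE66.sgCocone P a)
    (Groth.Agent.Lib.SigmaGE66.isColimitSgCocone P a)).1 eP.inv
  have hLX : ∀ i, a - n ≤ i → Nonempty (((Groth.Agent.Lib.SigmaGE66.sgSeq P a).obj n).X i ≅ P.X i) :=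
    fun i h => ⟨Groth.Agent.Lib.SigmaGE66.sgXIso P (a - n) i h⟩
  have hLZ : ∀ i, ¬ a - n ≤ i → IsZero (((Groth.Agent.Lib.SigmaGE66.sgSeq P a).obj n).X i) :=
    fun i h => Groth.Agent.Lib.SigmaGE66.isZero_sg_X P (a - n) i h
  refine ⟨(Groth.Agent.Lib.SigmaGE66.sgSeq P a).obj n, a - n, a, by lia, ?_, ?_, ⟨⟨y,
    DerivedCategory.Q.map ((Groth.Agent.Lib.SigmaGE66.sgCocone P a).ι.app n) ≫ eP.hom, ?_⟩⟩⟩
  · intro i hi
    by_cases h : a - n ≤ i
    · have hi' : a < i := by
        rcases hi with hi | hi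
        · lia
        · exact hi
      obtain ⟨φ⟩ := hLX i h
      exact IsZero.of_iso (P.isZero_of_isStrictlyLE a i hi') φ
    · exact hLZ i h
  · intro i
    by_cases h : a - n ≤ i
    · obtain ⟨φ⟩ := hLX i h
      exact (hPS i).of_iso φ
    · exact ps_of_isZero (hLZ i h)
  · rw [← Category.assoc, hy, Iso.inv_hom_id]

/-- making the terms finite, one degree at a time -/
theorem finite_induction
    (h2 : ∀ E ∈ S, ∀ ι : Type v,
      PreservesColimitsOfShape (Discrete ι) (preadditiveCoyoneda.obj (op E)))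
    (K : DerivedCategory A) (hK : CohDer.IsCompactObject K) (a b : ℤ) :
    ∀ (k : ℕ) (c : ℤ) (L : CochainComplex A ℤ), a ≤ c → b + 1 - c ≤ k →
      (∀ i, i < a ∨ b < i → IsZero (L.X i)) → (∀ i, c ≤ i → PS S (L.X i)) →
      (∀ i, i < c → PF S (L.X i)) → Nonempty (Retract K (DerivedCategory.Q.obj L)) →
      ∃ L' : CochainComplex A ℤ, (∀ i, i < a ∨ b < i → IsZero (L'.X i)) ∧
        (∀ i, PF S (L'.X i)) ∧ Nonempty (Retract K (DerivedCategory.Q.obj L')) := by
  intro k
  induction k with
  | zero =>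
    intro c L hac hk hz hPS hPF hr
    refine ⟨L, hz, fun i => ?_, hr⟩
    by_cases hi : i < c
    · exact hPF i hi
    · exact pf_of_isZero (hz i (Or.inr (by lia)))
  | succ k ih =>
    intro c L hac hk hz hPS hPF hr
    by_cases hcb : b < c
    · refine ⟨L, hz, fun i => ?_, hr⟩
      by_cases hi : i < c
      · exact hPF i hi
      · exact pf_of_isZero (hz i (Or.inr (by lia)))
    · obtain ⟨Λ, E, hE, ⟨eL⟩⟩ := hPS c le_rfl
      obtain ⟨n, F, hF, ⟨eF⟩⟩ := hPF (c - 1) (by lia)
      have hfin : FinSupp E (L.X (c - 1)) :=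
        finSupp_of_iso_biproduct E F (L.X (c - 1)) eF (fun j =>
          have := h2 (F j) (hF j) Λ
          finSupp_of_preserves (F j) E)
      obtain ⟨r⟩ := hr
      obtain ⟨L', j, φ', s, hφ', hiso, hc'⟩ := step K hK L c E eL hfin r.i
      refine ih (c + 1) L' (by lia) (by lia) ?_ ?_ ?_ ⟨⟨φ', DerivedCategory.Q.map j ≫ r.r, ?_⟩⟩
      · intro i hi
        obtain ⟨φ⟩ := hiso i (by lia)
        exact IsZero.of_iso (hz i hi) φ
      · intro i hi
        obtain ⟨φ⟩ := hiso i (by lia)
        exact (hPS i (by lia)).of_iso φ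
      · intro i hi
        by_cases hic : i = c
        · subst hic
          exact ⟨s.card, _, fun j => hE _, hc'⟩
        · obtain ⟨φ⟩ := hiso i hic
          exact (hPF i (by lia)).of_iso φ
      · rw [← Category.assoc, hφ', r.retract]

/-- **S9035**: compact objects of `D(A)` are retracts of bounded complexes of finite
direct sums of members of a generating set of "small" objects -/
theorem main
    (h1 : ∀ X : A, ∃ (ι : Type v) (E : ι → A) (π : ∐ E ⟶ X), (∀ i, E i ∈ S) ∧ Epi π)
    (h2 : ∀ E ∈ S, ∀ ι : Type v,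
      PreservesColimitsOfShape (Discrete ι) (preadditiveCoyoneda.obj (op E)))
    (K : DerivedCategory A) (hK : CohDer.IsCompactObject K) :
    ∃ (L : CochainComplex A ℤ) (a b : ℤ),
      (∀ i : ℤ, i < a ∨ b < i → IsZero (L.X i)) ∧
      (∀ i : ℤ, ∃ (n : ℕ) (E : Fin n → A), (∀ j, E j ∈ S) ∧ Nonempty (L.X i ≅ ⨁ E)) ∧
      Nonempty (Retract K (DerivedCategory.Q.obj L)) := by
  obtain ⟨L, a, b, hab, hz, hPS, hr⟩ := exists_bounded h1 K hK
  obtain ⟨L', hz', hPF', hr'⟩ := finite_induction h2 K hK a b (b + 1 - a).toNat a L le_rfl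
    (Int.self_le_toNat _) hz (fun i _ => hPS i)
    (fun i hi => pf_of_isZero (hz i (Or.inl hi))) hr
  exact ⟨L', a, b, hz', hPF', hr'⟩

end Main

end Groth.Agent.Lib.H47CptGen
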