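import Mathlib.Algebra.Homology.Monoidal
import Mathlib.Algebra.Category.ModuleCat.Monoidal.Basic
import Mathlib.Algebra.Category.ModuleCat.Abelian
import Mathlib.Algebra.Category.ModuleCat.Colimits
import Mathlib.Algebra.Homology.ShortComplex.ModuleCat
import Mathlib.RingTheory.Flat.Basic
import Mathlib.Algebra.Homology.HomotopyCategory.Acyclic

/-!
# Tensor products of cochain complexes of modules, elementwise (helper35)

For `K L : CochainComplex (ModuleCat R) ℤ`:
* summand inclusions `ι K L i j n h`, projections `pr K L i j n h`, `iSup_range_ι`, `ι_pr_self`,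
  `ι_pr_ne`, the differential on summands `ι_d_apply`;
* the filtration `Fil K L m n` of `(K ⊗ L)ⁿ` by the first index (`i ≥ m`);
* `exactAt_tensorObj_of_flat_of_acyclic`: if `K` is bounded above with flat terms and `L` is
  acyclic, then `K ⊗ L` is acyclic (a bounded above complex of flat modules is K-flat).
-/

set_option autoImplicit false

universe v u

namespace Groth.Agent.Lib.TensorCxZ35

open CategoryTheory Category Limits MonoidalCategory HomologicalComplex

variable {R : Type v} [CommRing R] (K L : CochainComplex (ModuleCat.{v} R) ℤ)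

/-- The inclusion of the summand `Kⁱ ⊗ Lʲ` in `(K ⊗ L)ⁿ`. -/
noncomputable abbrev ι (i j n : ℤ) (h : i + j = n) : K.X i ⊗ L.X j ⟶ (tensorObj K L).X n :=
  ιTensorObj K L i j n h

lemma iSup_range_ι (n : ℤ) :
    (⨆ (i : ℤ) (j : ℤ) (h : i + j = n), LinearMap.range (ι K L i j n h).hom) = ⊤ := by
  set N := ⨆ (i : ℤ) (j : ℤ) (h : i + j = n), LinearMap.range (ι K L i j n h).hom with hN
  let q : (tensorObj K L).X n ⟶ ModuleCat.of R (((tensorObj K L).X n) ⧸ N) :=
    ModuleCat.ofHom N.mkQ
  have hq : q = 0 := by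
    apply mapBifunctor.hom_ext
    intro i j h
    rw [comp_zero]
    ext x
    change N.mkQ ((ι K L i j n h).hom x) = 0
    rw [Submodule.mkQ_apply, Submodule.Quotient.mk_eq_zero]
    refine Submodule.mem_iSup_of_mem i (Submodule.mem_iSup_of_mem j
      (Submodule.mem_iSup_of_mem h ⟨x, rfl⟩))
  rw [eq_top_iff]
  intro x _
  have h1 : N.mkQ x = 0 := congrArg (fun f => f.hom x) hq
  rwa [Submodule.mkQ_apply, Submodule.Quotient.mk_eq_zero] at h1

/-- The projection `(K ⊗ L)ⁿ ⟶ Kⁱ ⊗ Lʲ`. -/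
noncomputable def pr (i j n : ℤ) (h : i + j = n) : (tensorObj K L).X n ⟶ K.X i ⊗ L.X j :=
  mapBifunctorDesc (K₁ := K) (K₂ := L) (F := curriedTensor (ModuleCat.{v} R))
    (c := ComplexShape.up ℤ) (j := n)
    (fun i' j' _ => if hh : i' = i ∧ j' = j then eqToHom (by rw [hh.1, hh.2]; rfl) else 0)

@[reassoc (attr := simp)]
lemma ι_pr_self (i j n : ℤ) (h : i + j = n) : ι K L i j n h ≫ pr K L i j n h = 𝟙 _ := by
  dsimp [ι, pr, ιTensorObj]
  rw [ι_mapBifunctorDesc, dif_pos ⟨rfl, rfl⟩]
  rfl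

@[reassoc]
lemma ι_pr_ne (i j i' j' n : ℤ) (h : i + j = n) (h' : i' + j' = n) (hne : ¬ (i' = i ∧ j' = j)) :
    ι K L i' j' n h' ≫ pr K L i j n h = 0 := by
  dsimp [ι, pr, ιTensorObj]
  rw [ι_mapBifunctorDesc, dif_neg hne]

lemma pr_ι_apply (i j n : ℤ) (h : i + j = n) (x : (K.X i ⊗ L.X j : ModuleCat.{v} R)) :
    (pr K L i j n h).hom ((ι K L i j n h).hom x) = x := by
  exact congrArg (fun f => f.hom x) (ι_pr_self K L i j n h)

lemma pr_ι_apply_ne (i j i' j' n : ℤ) (h : i + j = n) (h' : i' + j' = n)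
    (hne : i' ≠ i) (x : (K.X i' ⊗ L.X j' : ModuleCat.{v} R)) :
    (pr K L i j n h).hom ((ι K L i' j' n h').hom x) = 0 := by
  exact congrArg (fun f => f.hom x) (ι_pr_ne K L i j i' j' n h h' (fun hh => hne hh.1))

lemma ι_d (i j n : ℤ) (h : i + j = n) :
    ι K L i j n h ≫ (tensorObj K L).d n (n + 1) =
      (K.d i (i + 1) ▷ L.X j) ≫ ι K L (i + 1) j (n + 1) (by omega) +
      i.negOnePow • ((K.X i ◁ L.d j (j + 1)) ≫ ι K L i (j + 1) (n + 1) (by omega)) := by
  change ιMapBifunctor K L _ _ i j n h ≫ (mapBifunctor K L _ _).d n (n + 1) = _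
  rw [mapBifunctor.d_eq, Preadditive.comp_add, mapBifunctor.ι_D₁, mapBifunctor.ι_D₂,
    mapBifunctor.d₁_eq K L _ _ (show (ComplexShape.up ℤ).Rel i (i + 1) from rfl) j (n + 1)
      (show i + 1 + j = n + 1 by omega),
    mapBifunctor.d₂_eq K L _ _ i (show (ComplexShape.up ℤ).Rel j (j + 1) from rfl) (n + 1)
      (show i + (j + 1) = n + 1 by omega)]
  congr 1
  change (1 : ℤˣ) • _ = _
  rw [one_smul]
  rfl

lemma d_ι_apply (i j n : ℤ) (h : i + j = n) (x : (K.X i ⊗ L.X j : ModuleCat.{v} R)) :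
    ((tensorObj K L).d n (n + 1)).hom ((ι K L i j n h).hom x) =
      (ι K L (i + 1) j (n + 1) (by omega)).hom ((K.d i (i + 1) ▷ L.X j).hom x) +
      i.negOnePow • (ι K L i (j + 1) (n + 1) (by omega)).hom ((K.X i ◁ L.d j (j + 1)).hom x) := by
  have := congrArg (fun f => f.hom x) (ι_d K L i j n h)
  simp only [ModuleCat.hom_comp, LinearMap.comp_apply, ModuleCat.hom_add,
    LinearMap.add_apply] at this
  rw [this]
  congr 1

/-- Elements of `(K ⊗ L)ⁿ` with components only in first index `≥ m`. -/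
noncomputable def Fil (m n : ℤ) : Submodule R ((tensorObj K L).X n) :=
  ⨆ (i : ℤ) (j : ℤ) (h : i + j = n) (_ : m ≤ i), LinearMap.range (ι K L i j n h).hom

variable {K L}

lemma ι_mem_Fil {m i j n : ℤ} (h : i + j = n) (hm : m ≤ i)
    (x : (K.X i ⊗ L.X j : ModuleCat.{v} R)) : (ι K L i j n h).hom x ∈ Fil K L m n :=
  Submodule.mem_iSup_of_mem i (Submodule.mem_iSup_of_mem j
    (Submodule.mem_iSup_of_mem h (Submodule.mem_iSup_of_mem hm ⟨x, rfl⟩)))

lemma Fil_le {m n : ℤ} (F : Submodule R ((tensorObj K L).X n))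
    (H : ∀ (i j : ℤ) (h : i + j = n), m ≤ i → ∀ x : (K.X i ⊗ L.X j : ModuleCat.{v} R),
      (ι K L i j n h).hom x ∈ F) : Fil K L m n ≤ F := by
  refine iSup_le fun i => iSup_le fun j => iSup_le fun h => iSup_le fun hm => ?_
  rintro _ ⟨x, rfl⟩
  exact H i j h hm x

lemma Fil_antitone {m m' : ℤ} (n : ℤ) (h : m ≤ m') : Fil K L m' n ≤ Fil K L m n :=
  Fil_le _ fun _ _ hh hm x => ι_mem_Fil hh (h.trans hm) x

lemma exists_mem_Fil {n : ℤ} (z : (tensorObj K L).X n) : ∃ m : ℤ, z ∈ Fil K L m n := by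
  have hz : z ∈ (⨆ (i : ℤ) (j : ℤ) (h : i + j = n), LinearMap.range (ι K L i j n h).hom) := by
    rw [iSup_range_ι]; trivial
  induction hz using Submodule.iSup_induction' with
  | mem i x hx =>
    induction hx using Submodule.iSup_induction' with
    | mem j x hx =>
      induction hx using Submodule.iSup_induction' with
      | mem h x hx =>
        obtain ⟨y, rfl⟩ := hx
        exact ⟨i, ι_mem_Fil h le_rfl y⟩
      | zero => exact ⟨0, zero_mem _⟩
      | add x y _ _ hx hy =>
        obtain ⟨m, hm⟩ := hx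
        obtain ⟨m', hm'⟩ := hy
        exact ⟨min m m', add_mem (Fil_antitone n (min_le_left _ _) hm)
          (Fil_antitone n (min_le_right _ _) hm')⟩
    | zero => exact ⟨0, zero_mem _⟩
    | add x y _ _ hx hy =>
      obtain ⟨m, hm⟩ := hx
      obtain ⟨m', hm'⟩ := hy
      exact ⟨min m m', add_mem (Fil_antitone n (min_le_left _ _) hm)
        (Fil_antitone n (min_le_right _ _) hm')⟩
  | zero => exact ⟨0, zero_mem _⟩
  | add x y _ _ hx hy =>
    obtain ⟨m, hm⟩ := hx
    obtain ⟨m', hm'⟩ := hy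
    exact ⟨min m m', add_mem (Fil_antitone n (min_le_left _ _) hm)
      (Fil_antitone n (min_le_right _ _) hm')⟩

lemma d_mem_Fil {m n : ℤ} {z : (tensorObj K L).X n} (hz : z ∈ Fil K L m n) :
    ((tensorObj K L).d n (n + 1)).hom z ∈ Fil K L m (n + 1) := by
  have : Fil K L m n ≤ (Fil K L m (n + 1)).comap ((tensorObj K L).d n (n + 1)).hom := by
    apply Fil_le
    intro i j h hm x
    rw [Submodule.mem_comap, d_ι_apply]
    refine add_mem (ι_mem_Fil _ (by omega) _) ?_
    rw [Units.smul_def]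
    exact Submodule.smul_of_tower_mem _ _ (ι_mem_Fil _ hm _)
  exact this hz

lemma pr_eq_zero_of_mem_Fil {m n i j : ℤ} (h : i + j = n) (hi : i < m)
    {z : (tensorObj K L).X n} (hz : z ∈ Fil K L m n) : (pr K L i j n h).hom z = 0 := by
  have : Fil K L m n ≤ LinearMap.ker (pr K L i j n h).hom := by
    apply Fil_le
    intro i' j' h' hm x
    rw [LinearMap.mem_ker]
    exact pr_ι_apply_ne K L i j i' j' n h h' (by omega) x
  exact this hz

lemma sub_ι_pr_mem_Fil {m n j : ℤ} (h : m + j = n)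
    {z : (tensorObj K L).X n} (hz : z ∈ Fil K L m n) :
    z - (ι K L m j n h).hom ((pr K L m j n h).hom z) ∈ Fil K L (m + 1) n := by
  have : Fil K L m n ≤ (Fil K L (m + 1) n).comap
      (LinearMap.id - (ι K L m j n h).hom ∘ₗ (pr K L m j n h).hom) := by
    apply Fil_le
    intro i' j' h' hm x
    rw [Submodule.mem_comap, LinearMap.sub_apply, LinearMap.id_apply, LinearMap.comp_apply]
    by_cases hi : i' = m
    · subst hi
      obtain rfl : j' = j := by omega
      rw [pr_ι_apply, sub_self]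
      exact zero_mem _
    · rw [pr_ι_apply_ne K L m j i' j' n h h' hi, map_zero, sub_zero]
      exact ι_mem_Fil h' (by omega) x
  exact this hz

lemma Fil_eq_bot {b : ℤ} (hb : ∀ i : ℤ, b < i → IsZero (K.X i)) {m : ℤ} (hm : b < m) (n : ℤ) :
    Fil K L m n = ⊥ := by
  rw [eq_bot_iff]
  apply Fil_le
  intro i j h hi x
  have hz : IsZero (K.X i ⊗ L.X j) := by
    have h0 : IsZero (K.X i) := hb i (by omega)
    rw [IsZero.iff_id_eq_zero] at h0 ⊢
    rw [← MonoidalCategory.id_tensorHom_id, h0]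
    exact MonoidalPreadditive.zero_tensor _
  have hx : x = 0 := by
    haveI := ModuleCat.subsingleton_of_isZero hz
    exact Subsingleton.elim _ _
  rw [hx, map_zero]
  exact zero_mem _

variable (K L)

/-- If `K` is bounded above and all the columns `Kᵐ ⊗ L` are exact (elementwise), then `K ⊗ L` is
exact (elementwise). -/
theorem exact_tensorObj_of_cols (b : ℤ)
    (hb : ∀ i : ℤ, b < i → IsZero (K.X i))
    (hcol : ∀ m j : ℤ, Function.Exact ((L.d j (j + 1)).hom.lTensor (K.X m))
      ((L.d (j + 1) (j + 1 + 1)).hom.lTensor (K.X m))) (n : ℤ) :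
    Function.Exact ((tensorObj K L).d n (n + 1)).hom
      ((tensorObj K L).d (n + 1) (n + 1 + 1)).hom := by
  have hdd : ∀ w : (tensorObj K L).X n,
      ((tensorObj K L).d (n + 1) (n + 1 + 1)).hom (((tensorObj K L).d n (n + 1)).hom w) = 0 := by
    intro w
    exact congrArg (fun f => f.hom w) ((tensorObj K L).d_comp_d n (n + 1) (n + 1 + 1))
  have key : ∀ (t : ℕ) (m : ℤ), b + 1 - m ≤ t → ∀ z ∈ Fil K L m (n + 1),
      ((tensorObj K L).d (n + 1) (n + 1 + 1)).hom z = 0 →
      ∃ w : (tensorObj K L).X n, ((tensorObj K L).d n (n + 1)).hom w = z := by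
    intro t
    induction t with
    | zero =>
      intro m hm z hz _
      rw [Fil_eq_bot hb (by omega : b < m), Submodule.mem_bot] at hz
      exact ⟨0, by rw [map_zero, hz]⟩
    | succ t ih =>
      intro m hm z hz hdz
      by_cases hbm : b < m
      · rw [Fil_eq_bot hb hbm, Submodule.mem_bot] at hz
        exact ⟨0, by rw [map_zero, hz]⟩
      obtain ⟨j, hj⟩ : ∃ j : ℤ, m + (j + 1) = n + 1 := ⟨n - m, by omega⟩
      set x := (pr K L m (j + 1) (n + 1) hj).hom z with hx
      set z'' := z - (ι K L m (j + 1) (n + 1) hj).hom x with hz''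
      have hz''F : z'' ∈ Fil K L (m + 1) (n + 1) := sub_ι_pr_mem_Fil hj hz
      set u : ℤˣ := m.negOnePow with hu
      -- the lowest component is a cycle for `1 ⊗ d`
      have hx0 : (K.X m ◁ L.d (j + 1) (j + 1 + 1)).hom x = 0 := by
        have e1 := d_ι_apply K L m (j + 1) (n + 1) hj x
        have e3 : (pr K L m (j + 1 + 1) (n + 1 + 1) (by omega)).hom
            (((tensorObj K L).d (n + 1) (n + 1 + 1)).hom z'') = 0 :=
          pr_eq_zero_of_mem_Fil _ (by omega) (d_mem_Fil hz''F)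
        have e4 : z = (ι K L m (j + 1) (n + 1) hj).hom x + z'' := by rw [hz'']; abel
        have e5 := congrArg (pr K L m (j + 1 + 1) (n + 1 + 1) (by omega)).hom hdz
        rw [e4, map_add, map_add, e3, add_zero, e1, map_add, map_zero,
          pr_ι_apply_ne K L m (j + 1 + 1) (m + 1) (j + 1) (n + 1 + 1) _ _ (by omega), zero_add,
          Units.smul_def, map_zsmul, pr_ι_apply, ← Units.smul_def] at e5
        have e6 := congrArg (fun y => u • y) e5
        simp only [smul_smul, smul_zero] at e6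
        rw [← hu, ← sq, Int.units_sq, one_smul] at e6
        exact e6
      -- exactness of `Kᵐ ⊗ L`
      have hex : Function.Exact ((L.d j (j + 1)).hom.lTensor (K.X m))
          ((L.d (j + 1) (j + 1 + 1)).hom.lTensor (K.X m)) := hcol m j
      rw [ModuleCat.hom_whiskerLeft] at hx0
      obtain ⟨y, hy⟩ := (hex x).1 hx0
      have hy' : (K.X m ◁ L.d j (j + 1)).hom y = x := by
        rw [ModuleCat.hom_whiskerLeft]; exact hy
      set w₀ := (ι K L m j n (by omega)).hom y with hw₀
      have e7 := d_ι_apply K L m j n (by omega) y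
      rw [hy', ← hw₀, ← hu] at e7
      set z₁ := z - u • ((tensorObj K L).d n (n + 1)).hom w₀ with hz₁
      have hz₁F : z₁ ∈ Fil K L (m + 1) (n + 1) := by
        have : z₁ = z'' - u • (ι K L (m + 1) j (n + 1) (by omega)).hom
            ((K.d m (m + 1) ▷ L.X j).hom y) := by
          rw [hz₁, e7, hz'', smul_add, smul_smul, ← sq, Int.units_sq, one_smul]
          abel
        rw [this]
        refine sub_mem hz''F ?_
        rw [Units.smul_def]
        exact Submodule.smul_of_tower_mem _ _ (ι_mem_Fil _ le_rfl _)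
      have hdz₁ : ((tensorObj K L).d (n + 1) (n + 1 + 1)).hom z₁ = 0 := by
        rw [hz₁, map_sub, hdz, Units.smul_def, map_zsmul, hdd, smul_zero, sub_zero]
      obtain ⟨w₁, hw₁⟩ := ih (m + 1) (by omega) z₁ hz₁F hdz₁
      refine ⟨w₁ + u • w₀, ?_⟩
      rw [map_add, hw₁, hz₁]
      simp only [Units.smul_def, map_zsmul]
      abel
  intro z
  constructor
  · intro hz
    obtain ⟨m, hm⟩ := exists_mem_Fil z
    obtain ⟨w, hw⟩ := key (b + 1 - m).toNat m (by omega) z hm hz
    exact ⟨w, hw⟩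
  · rintro ⟨w, rfl⟩
    exact hdd w

/-- If `K` is bounded above with flat terms and `L` is exact (elementwise), then `K ⊗ L` is exact
(elementwise). -/
theorem exact_tensorObj_of_flat (hflat : ∀ i : ℤ, Module.Flat R (K.X i)) (b : ℤ)
    (hb : ∀ i : ℤ, b < i → IsZero (K.X i))
    (hL : ∀ j : ℤ, Function.Exact (L.d j (j + 1)).hom (L.d (j + 1) (j + 1 + 1)).hom) (n : ℤ) :
    Function.Exact ((tensorObj K L).d n (n + 1)).hom
      ((tensorObj K L).d (n + 1) (n + 1 + 1)).hom :=
  exact_tensorObj_of_cols K L b hb (fun m j => by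
    haveI := hflat m
    exact Module.Flat.lTensor_exact (K.X m) (hL j)) n

lemma acyclic_iff_function_exact (K : CochainComplex (ModuleCat.{v} R) ℤ) :
    K.Acyclic ↔ ∀ n : ℤ, Function.Exact (K.d n (n + 1)).hom (K.d (n + 1) (n + 1 + 1)).hom := by
  constructor
  · intro h n
    have := (K.exactAt_iff' n (n + 1) (n + 1 + 1) (by simp) (by simp)).1 (h (n + 1))
    exact (ShortComplex.ShortExact.moduleCat_exact_iff_function_exact _).1 this
  · intro h k
    obtain ⟨n, rfl⟩ : ∃ n, k = n + 1 := ⟨k - 1, by omega⟩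
    rw [K.exactAt_iff' n (n + 1) (n + 1 + 1) (by simp) (by simp)]
    exact (ShortComplex.ShortExact.moduleCat_exact_iff_function_exact _).2 (h n)

/-- A bounded above complex of flat modules tensored with an acyclic complex is acyclic. -/
theorem acyclic_tensorObj_of_flat (hflat : ∀ i : ℤ, Module.Flat R (K.X i)) (b : ℤ)
    (hb : ∀ i : ℤ, b < i → IsZero (K.X i)) (hL : L.Acyclic) : (tensorObj K L).Acyclic := by
  rw [acyclic_iff_function_exact] at hL ⊢
  exact exact_tensorObj_of_flat K L hflat b hb hL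

end Groth.Agent.Lib.TensorCxZ35
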