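import Groth.Prelude.Def_DRing4
import Groth.Agent.Lib.TensorCxZ35

/-!
# Tensor-hom adjunction on the level of Hom complexes (helper25)

`homTensorIso K L M : homCx K (homCx L M) ≅ homCx (K ⊗ L) M` for cochain complexes of modules.
With Mathlib's sign conventions the isomorphism is sign free: `Φ(φ)(x ⊗ y) = φ(x)(y)`.
-/

set_option autoImplicit false
universe u

open CategoryTheory Category Limits MonoidalCategory CochainComplex HomComplex

namespace Groth.Agent.Lib.HomTensor25

open Groth.Agent.Lib.TensorCxZ35 (ι)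

variable {A : Type u} [CommRing A] (K L M : DRing.Cx A)

/-- the tensor product complex -/
noncomputable abbrev T : DRing.Cx A := HomologicalComplex.tensorObj K L

variable {K L M}

/-- pure tensors in the tensor product complex -/
noncomputable def tm {i j : ℤ} (n : ℤ) (h : i + j = n) (x : K.X i) (y : L.X j) : (T K L).X n :=
  (ι K L i j n h).hom (x ⊗ₜ[A] y)

lemma tm_add_left {i j : ℤ} (n : ℤ) (h : i + j = n) (x x' : K.X i) (y : L.X j) :
    tm n h (x + x') y = tm n h x y + tm n h x' y := by
  simp only [tm, TensorProduct.add_tmul, map_add]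

lemma tm_add_right {i j : ℤ} (n : ℤ) (h : i + j = n) (x : K.X i) (y y' : L.X j) :
    tm n h x (y + y') = tm n h x y + tm n h x y' := by
  simp only [tm, TensorProduct.tmul_add, map_add]

lemma tm_smul_left {i j : ℤ} (n : ℤ) (h : i + j = n) (a : A) (x : K.X i) (y : L.X j) :
    tm n h (a • x) y = a • tm n h x y := by
  simp only [tm, ← TensorProduct.smul_tmul', map_smul]

lemma tm_smul_right {i j : ℤ} (n : ℤ) (h : i + j = n) (a : A) (x : K.X i) (y : L.X j) :
    tm n h x (a • y) = a • tm n h x y := by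
  simp only [tm, TensorProduct.tmul_smul, map_smul]

lemma d_tm {i j : ℤ} (n : ℤ) (h : i + j = n) (x : K.X i) (y : L.X j) :
    ((T K L).d n (n + 1)).hom (tm n h x y) =
      tm (n + 1) (by omega) ((K.d i (i + 1)).hom x) y +
        i.negOnePow • tm (n + 1) (by omega) x ((L.d j (j + 1)).hom y) := by
  unfold tm
  rw [Groth.Agent.Lib.TensorCxZ35.d_ι_apply]
  rfl

/-- evaluation of a cochain out of the tensor product on pure tensors -/
noncomputable def evT {m : ℤ} (Θ : Cochain (T K L) M m) {i j n q : ℤ} (h : i + j = n)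
    (hq : n + m = q) (x : K.X i) (y : L.X j) : M.X q :=
  (Θ.v n q hq).hom (tm n h x y)

lemma evT_ext {m : ℤ} (Θ Θ' : Cochain (T K L) M m)
    (H : ∀ (i j n q : ℤ) (h : i + j = n) (hq : n + m = q) (x : K.X i) (y : L.X j),
      evT Θ h hq x y = evT Θ' h hq x y) : Θ = Θ' := by
  apply Cochain.ext
  intro n q hq
  apply HomologicalComplex.mapBifunctor.hom_ext
  intro i j h
  apply ModuleCat.MonoidalCategory.tensor_ext
  intro x y
  exact H i j n q h hq x y

/-- evaluation of a cochain with values in a Hom complex -/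
noncomputable def evH {m : ℤ} (φ : Cochain K (DRing.homCx L M) m) {i p j q : ℤ} (hp : i + m = p)
    (hq : j + p = q) (x : K.X i) (y : L.X j) : M.X q :=
  (Cochain.v (F := L) (G := M) ((φ.v i p hp).hom x) j q hq).hom y

lemma evH_ext {m : ℤ} (φ φ' : Cochain K (DRing.homCx L M) m)
    (H : ∀ (i p j q : ℤ) (hp : i + m = p) (hq : j + p = q) (x : K.X i) (y : L.X j),
      evH φ hp hq x y = evH φ' hp hq x y) : φ = φ' := by
  apply Cochain.ext
  intro i p hp
  apply ModuleCat.hom_ext
  apply LinearMap.ext
  intro x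
  apply Cochain.ext (F := L) (G := M)
  intro j q hq
  apply ModuleCat.hom_ext
  apply LinearMap.ext
  intro y
  exact H i p j q hp hq x y

section lin

variable {m : ℤ}

lemma evT_add (Θ Θ' : Cochain (T K L) M m) {i j n q : ℤ} (h : i + j = n)
    (hq : n + m = q) (x : K.X i) (y : L.X j) :
    evT (Θ + Θ') h hq x y = evT Θ h hq x y + evT Θ' h hq x y := by
  simp only [evT, Cochain.add_v, ModuleCat.hom_add, LinearMap.add_apply]

lemma evT_smul (a : A) (Θ : Cochain (T K L) M m) {i j n q : ℤ} (h : i + j = n)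
    (hq : n + m = q) (x : K.X i) (y : L.X j) :
    evT (a • Θ) h hq x y = a • evT Θ h hq x y := by
  simp only [evT, Cochain.smul_v, ModuleCat.hom_smul, LinearMap.smul_apply]

lemma evT_add_left (Θ : Cochain (T K L) M m) {i j n q : ℤ} (h : i + j = n)
    (hq : n + m = q) (x x' : K.X i) (y : L.X j) :
    evT Θ h hq (x + x') y = evT Θ h hq x y + evT Θ h hq x' y := by
  simp only [evT, tm_add_left, map_add]

lemma evT_add_right (Θ : Cochain (T K L) M m) {i j n q : ℤ} (h : i + j = n)
    (hq : n + m = q) (x : K.X i) (y y' : L.X j) :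
    evT Θ h hq x (y + y') = evT Θ h hq x y + evT Θ h hq x y' := by
  simp only [evT, tm_add_right, map_add]

lemma evT_smul_left (Θ : Cochain (T K L) M m) {i j n q : ℤ} (h : i + j = n)
    (hq : n + m = q) (a : A) (x : K.X i) (y : L.X j) :
    evT Θ h hq (a • x) y = a • evT Θ h hq x y := by
  simp only [evT, tm_smul_left, map_smul]

lemma evT_smul_right (Θ : Cochain (T K L) M m) {i j n q : ℤ} (h : i + j = n)
    (hq : n + m = q) (a : A) (x : K.X i) (y : L.X j) :
    evT Θ h hq x (a • y) = a • evT Θ h hq x y := by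
  simp only [evT, tm_smul_right, map_smul]

lemma evH_add (φ φ' : Cochain K (DRing.homCx L M) m) {i p j q : ℤ} (hp : i + m = p)
    (hq : j + p = q) (x : K.X i) (y : L.X j) :
    evH (φ + φ') hp hq x y = evH φ hp hq x y + evH φ' hp hq x y := by
  simp only [evH, Cochain.add_v, ModuleCat.hom_add, LinearMap.add_apply]
  erw [Cochain.add_v]
  simp only [ModuleCat.hom_add, LinearMap.add_apply]

lemma evH_smul (a : A) (φ : Cochain K (DRing.homCx L M) m) {i p j q : ℤ} (hp : i + m = p)
    (hq : j + p = q) (x : K.X i) (y : L.X j) :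
    evH (a • φ) hp hq x y = a • evH φ hp hq x y := by
  simp only [evH, Cochain.smul_v, ModuleCat.hom_smul, LinearMap.smul_apply]
  erw [Cochain.smul_v]
  simp only [ModuleCat.hom_smul, LinearMap.smul_apply]

lemma evH_add_left (φ : Cochain K (DRing.homCx L M) m) {i p j q : ℤ} (hp : i + m = p)
    (hq : j + p = q) (x x' : K.X i) (y : L.X j) :
    evH φ hp hq (x + x') y = evH φ hp hq x y + evH φ hp hq x' y := by
  simp only [evH, map_add]
  erw [Cochain.add_v]
  simp only [ModuleCat.hom_add, LinearMap.add_apply]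

lemma evH_smul_left (φ : Cochain K (DRing.homCx L M) m) {i p j q : ℤ} (hp : i + m = p)
    (hq : j + p = q) (a : A) (x : K.X i) (y : L.X j) :
    evH φ hp hq (a • x) y = a • evH φ hp hq x y := by
  simp only [evH, map_smul]
  erw [Cochain.smul_v]
  simp only [ModuleCat.hom_smul, LinearMap.smul_apply]

lemma evH_add_right (φ : Cochain K (DRing.homCx L M) m) {i p j q : ℤ} (hp : i + m = p)
    (hq : j + p = q) (x : K.X i) (y y' : L.X j) :
    evH φ hp hq x (y + y') = evH φ hp hq x y + evH φ hp hq x y' := by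
  simp only [evH, map_add]

lemma evH_smul_right (φ : Cochain K (DRing.homCx L M) m) {i p j q : ℤ} (hp : i + m = p)
    (hq : j + p = q) (a : A) (x : K.X i) (y : L.X j) :
    evH φ hp hq x (a • y) = a • evH φ hp hq x y := by
  simp only [evH, map_smul]

end lin

section maps

variable {m : ℤ}

/-- uncurrying: from cochains with values in `Hom•(L, M)` to cochains on `K ⊗ L` -/
noncomputable def Φ (φ : Cochain K (DRing.homCx L M) m) : Cochain (T K L) M m :=
  Cochain.mk (fun n q hq =>
    HomologicalComplex.mapBifunctorDesc (K₁ := K) (K₂ := L)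
      (F := curriedTensor (ModuleCat.{u} A)) (c := ComplexShape.up ℤ) (j := n)
      (fun i j (h : i + j = n) =>
        ModuleCat.MonoidalCategory.tensorLift
          (fun (x : K.X i) (y : L.X j) =>
            evH φ (rfl : i + m = i + m) (show j + (i + m) = q by omega) x y)
          (fun x x' y => evH_add_left φ _ _ x x' y)
          (fun a x y => evH_smul_left φ _ _ a x y)
          (fun x y y' => evH_add_right φ _ _ x y y')
          (fun a x y => evH_smul_right φ _ _ a x y)))

lemma evT_Φ (φ : Cochain K (DRing.homCx L M) m) {i j n q : ℤ} (h : i + j = n)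
    (hq : n + m = q) (x : K.X i) (y : L.X j) :
    evT (Φ φ) h hq x y = evH φ (rfl : i + m = i + m) (show j + (i + m) = q by omega) x y := by
  unfold evT tm Φ
  rw [Cochain.mk_v]
  have := HomologicalComplex.ι_mapBifunctorDesc (K₁ := K) (K₂ := L)
      (F := curriedTensor (ModuleCat.{u} A)) (c := ComplexShape.up ℤ) (j := n)
      (fun i j (h : i + j = n) =>
        ModuleCat.MonoidalCategory.tensorLift
          (fun (x : K.X i) (y : L.X j) =>
            evH φ (rfl : i + m = i + m) (show j + (i + m) = q by omega) x y)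
          (fun x x' y => evH_add_left φ _ _ x x' y)
          (fun a x y => evH_smul_left φ _ _ a x y)
          (fun x y y' => evH_add_right φ _ _ x y y')
          (fun a x y => evH_smul_right φ _ _ a x y)) i j h
  exact congrArg (fun f => f.hom (x ⊗ₜ[A] y)) this

/-- currying -/
noncomputable def Ψ (Θ : Cochain (T K L) M m) : Cochain K (DRing.homCx L M) m :=
  Cochain.mk (fun i p hp => ModuleCat.ofHom
    { toFun := fun x => (Cochain.mk (F := L) (G := M) (fun j q hq => ModuleCat.ofHom
        { toFun := fun y => evT Θ (rfl : i + j = i + j) (show i + j + m = q by omega) x y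
          map_add' := fun y y' => evT_add_right Θ _ _ x y y'
          map_smul' := fun a y => evT_smul_right Θ _ _ a x y }) : Cochain L M p)
      map_add' := fun x x' => by
        apply Cochain.ext (F := L) (G := M)
        intro j q hq
        apply ModuleCat.hom_ext
        apply LinearMap.ext
        intro y
        erw [Cochain.add_v]
        simp only [Cochain.mk_v, ModuleCat.hom_add, LinearMap.add_apply]
        exact evT_add_left Θ _ _ x x' y
      map_smul' := fun a x => by
        apply Cochain.ext (F := L) (G := M)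
        intro j q hq
        apply ModuleCat.hom_ext
        apply LinearMap.ext
        intro y
        erw [Cochain.smul_v]
        simp only [Cochain.mk_v, ModuleCat.hom_smul, LinearMap.smul_apply]
        exact evT_smul_left Θ _ _ a x y })

lemma evH_Ψ (Θ : Cochain (T K L) M m) {i p j q : ℤ} (hp : i + m = p)
    (hq : j + p = q) (x : K.X i) (y : L.X j) :
    evH (Ψ Θ) hp hq x y = evT Θ (rfl : i + j = i + j) (show i + j + m = q by omega) x y := by
  unfold evH Ψ
  rw [Cochain.mk_v]
  rfl

lemma Φ_Ψ (Θ : Cochain (T K L) M m) : Φ (Ψ Θ) = Θ := by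
  apply evT_ext
  intro i j n q h hq x y
  rw [evT_Φ, evH_Ψ]
  subst h
  rfl

lemma Ψ_Φ (φ : Cochain K (DRing.homCx L M) m) : Ψ (Φ φ) = φ := by
  apply evH_ext
  intro i p j q hp hq x y
  rw [evH_Ψ, evT_Φ]
  subst hp
  rfl

/-- the linear equivalence `Hom^m(K, Hom•(L, M)) ≃ Hom^m(K ⊗ L, M)` -/
noncomputable def equiv (m : ℤ) :
    Cochain K (DRing.homCx L M) m ≃ₗ[A] Cochain (T K L) M m where
  toFun := Φ
  invFun := Ψ
  left_inv := Ψ_Φ
  right_inv := Φ_Ψ
  map_add' φ φ' := by
    apply evT_ext
    intro i j n q h hq x y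
    rw [evT_add, evT_Φ, evT_Φ, evT_Φ, evH_add]
  map_smul' a φ := by
    apply evT_ext
    intro i j n q h hq x y
    rw [RingHom.id_apply, evT_smul, evT_Φ, evT_Φ, evH_smul]

end maps

section delta

lemma hom_units_smul {X Y : ModuleCat.{u} A} (e : ℤˣ) (f : X ⟶ Y) (x : X) :
    (e • f).hom x = e • f.hom x := by
  rcases Int.units_eq_one_or e with rfl | rfl
  · simp
  · simp

lemma evT_δ (m m' : ℤ) (hm : m + 1 = m') (Θ : Cochain (T K L) M m) {i j n q : ℤ}
    (h : i + j = n) (hq : n + m' = q) (q₁ : ℤ) (hq₁ : n + m = q₁) (x : K.X i) (y : L.X j) :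
    evT (δ m m' Θ) h hq x y = (M.d q₁ q).hom (evT Θ h hq₁ x y) +
      m'.negOnePow • (evT Θ (show (i + 1) + j = n + 1 by omega) (show n + 1 + m = q by omega)
          ((K.d i (i + 1)).hom x) y +
        i.negOnePow • evT Θ (show i + (j + 1) = n + 1 by omega) (show n + 1 + m = q by omega)
          x ((L.d j (j + 1)).hom y)) := by
  unfold evT
  rw [δ_v m m' hm Θ n q hq q₁ (n + 1) (by omega) rfl]
  simp only [ModuleCat.hom_add, LinearMap.add_apply, ModuleCat.hom_comp, LinearMap.comp_apply,
    hom_units_smul]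
  rw [d_tm, map_add]
  congr 2
  rcases Int.units_eq_one_or i.negOnePow with h1 | h1 <;> rw [h1] <;> simp

lemma cochain_units_smul_apply {p : ℤ} (e : ℤˣ) (z : Cochain L M p) (j q : ℤ) (hq : j + p = q)
    (y : L.X j) : ((e • z).v j q hq).hom y = e • (z.v j q hq).hom y := by
  rcases Int.units_eq_one_or e with rfl | rfl
  · simp
  · simp

lemma evH_δ (m m' : ℤ) (hm : m + 1 = m') (φ : Cochain K (DRing.homCx L M) m) {i p j q : ℤ}
    (hp : i + m' = p) (hq : j + p = q) (p₁ : ℤ) (hp₁ : i + m = p₁) (q₁ : ℤ) (hq₁ : j + p₁ = q₁)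
    (x : K.X i) (y : L.X j) :
    evH (δ m m' φ) hp hq x y = (M.d q₁ q).hom (evH φ hp₁ hq₁ x y) +
      p.negOnePow • evH φ hp₁ (show (j + 1) + p₁ = q by omega) x ((L.d j (j + 1)).hom y) +
      m'.negOnePow • evH φ (show (i + 1) + m = p by omega) hq ((K.d i (i + 1)).hom x) y := by
  unfold evH
  rw [δ_v m m' hm φ i p hp p₁ (i + 1) (by omega) rfl]
  simp only [ModuleCat.hom_add, LinearMap.add_apply, ModuleCat.hom_comp, LinearMap.comp_apply,
    hom_units_smul]
  erw [Cochain.add_v]
  rw [ModuleCat.hom_add, LinearMap.add_apply]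
  erw [cochain_units_smul_apply]
  congr 1
  change ((δ p₁ p (F := L) (G := M) ((φ.v i p₁ hp₁).hom x)).v j q hq).hom y = _
  rw [δ_v p₁ p (by omega) _ j q hq q₁ (j + 1) (by omega) rfl]
  simp only [ModuleCat.hom_add, LinearMap.add_apply, ModuleCat.hom_comp, LinearMap.comp_apply,
    hom_units_smul]

lemma evH_congr {m : ℤ} (φ : Cochain K (DRing.homCx L M) m) {i p p' j q : ℤ} (hp : i + m = p)
    (hp' : i + m = p') (hq : j + p = q) (hq' : j + p' = q) (x : K.X i) (y : L.X j) :
    evH φ hp hq x y = evH φ hp' hq' x y := by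
  obtain rfl : p = p' := by omega
  rfl

lemma Φ_δ (m m' : ℤ) (hm : m + 1 = m') (φ : Cochain K (DRing.homCx L M) m) :
    Φ (δ m m' φ) = δ m m' (Φ φ) := by
  apply evT_ext
  intro i j n q h hq x y
  rw [evT_Φ, evH_δ m m' hm φ _ _ (i + m) rfl (q - 1) (by omega),
    evT_δ m m' hm (Φ φ) h hq (q - 1) (by omega), evT_Φ, evT_Φ, evT_Φ]
  rw [evH_congr φ (show i + 1 + m = i + m' by omega) (rfl : i + 1 + m = i + 1 + m) _
    (show j + (i + 1 + m) = q by omega)]
  rw [smul_add, smul_smul, Int.negOnePow_add, add_assoc, mul_comm]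
  congr 1
  exact add_comm _ _

end delta

variable (K L M)

/-- **Tensor-hom adjunction for Hom complexes**: `Hom•(K, Hom•(L, M)) ≅ Hom•(K ⊗ L, M)`. -/
noncomputable def homTensorIso :
    DRing.homCx K (DRing.homCx L M) ≅ DRing.homCx (T K L) M :=
  HomologicalComplex.Hom.isoOfComponents (fun m => (equiv (K := K) (L := L) (M := M) m).toModuleIso)
    (by
      intro i j hij
      apply ModuleCat.hom_ext
      apply LinearMap.ext
      intro φ
      exact (Φ_δ i j hij φ).symm)

end Groth.Agent.Lib.HomTensor25
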