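import Mathlib
import Groth.Agent.Lib.HomTensor25
import Groth.Agent.Lib.TensorBraid25
import Groth.Prelude.Def_DRing4

/-!
# Elementwise monoidal structure on cochain complexes of modules; dualizable complexes (helper47)

For `K L : DRing.Cx A` (Mathlib's monoidal structure on `CochainComplex (ModuleCat A) ℤ`), in terms of
helper25's pure tensors `tm n h x y ∈ (K ⊗ L)ⁿ`:
* `whiskerRight_f_tm`, `whiskerLeft_f_tm`, `associator_hom_f_tm`, `associator_inv_f_tm`,
* `unitIso`, `unitEl c`, `leftUnitor_hom_f_tm`, `rightUnitor_hom_f_tm`, `leftUnitor_inv_f_apply`,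
  `rightUnitor_inv_f_apply`, `unit_X_eq_zero`,
* `tmL₁`, `tmL₂` (`tm` as linear maps), `finite_support`, `exists_finset_support` (an element of
  `(K ⊗ L)ⁿ` has finitely many nonzero components `pr i j`).
* for an exact pairing `[ExactPairing M N]` of complexes: `coevEl`, `evL`, `evR`, `eq_contrL`, `eq_contrR`
  (dual basis formulas), `finite_projective_left/right` (terms are f.g. projective), `exists_bounds`
  (both complexes are bounded).
-/

set_option autoImplicit false
set_option backward.isDefEq.respectTransparency.types false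

open CategoryTheory CategoryTheory.Limits MonoidalCategory CochainComplex HomComplex

universe u

namespace Groth.Agent.Lib.H47CxElem

open Groth.Agent.Lib.HomTensor25
open Groth.Agent.Lib.TensorCxZ35 (ι pr)

variable {A : Type u} [CommRing A]

lemma whiskerRight_f_tm {K K' : DRing.Cx A} (f : K ⟶ K') (L : DRing.Cx A) {i j : ℤ} (n : ℤ)
    (h : i + j = n) (x : K.X i) (y : L.X j) :
    ((f ▷ L).f n).hom (tm n h x y) = tm n h ((f.f i).hom x) y := by
  have h1 : ι K L i j n h ≫ (f ▷ L).f n = (f.f i ▷ L.X j) ≫ ι K' L i j n h := by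
    erw [HomologicalComplex.ι_mapBifunctorMap]
    simp
  exact congrArg (fun g => g.hom (x ⊗ₜ[A] y)) h1

lemma whiskerLeft_f_tm (K : DRing.Cx A) {L L' : DRing.Cx A} (g : L ⟶ L') {i j : ℤ} (n : ℤ)
    (h : i + j = n) (x : K.X i) (y : L.X j) :
    ((K ◁ g).f n).hom (tm n h x y) = tm n h x ((g.f j).hom y) := by
  have h1 : ι K L i j n h ≫ (K ◁ g).f n = (K.X i ◁ g.f j) ≫ ι K L' i j n h := by
    erw [HomologicalComplex.ι_mapBifunctorMap]
    simp
  exact congrArg (fun g => g.hom (x ⊗ₜ[A] y)) h1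


lemma associator_hom_f_tm (K₁ K₂ K₃ : DRing.Cx A) {i j k : ℤ} (ij jk n : ℤ)
    (h1 : i + j = ij) (h2 : ij + k = n) (h3 : j + k = jk) (h4 : i + jk = n)
    (x : K₁.X i) (y : K₂.X j) (z : K₃.X k) :
    ((α_ K₁ K₂ K₃).hom.f n).hom (tm n h2 (tm ij h1 x y) z) = tm n h4 x (tm jk h3 y z) := by
  subst h1 h3
  have hr : ComplexShape.r (ComplexShape.up ℤ) (ComplexShape.up ℤ) (ComplexShape.up ℤ)
      (ComplexShape.up ℤ) (ComplexShape.up ℤ) (i, j, k) = n := h2
  have e1 := HomologicalComplex.mapBifunctor₁₂.ι_eq (curriedTensor (ModuleCat.{u} A))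
    (curriedTensor (ModuleCat.{u} A)) K₁ K₂ K₃ (ComplexShape.up ℤ) (ComplexShape.up ℤ)
    i j k (i + j) n rfl h2
  have e2 := HomologicalComplex.ι_mapBifunctorAssociatorX_hom
    (curriedAssociatorNatIso (ModuleCat.{u} A)) K₁ K₂ K₃ (ComplexShape.up ℤ) (ComplexShape.up ℤ)
    (ComplexShape.up ℤ) i j k n hr
  have e3 := HomologicalComplex.mapBifunctor₂₃.ι_eq (curriedTensor (ModuleCat.{u} A))
    (curriedTensor (ModuleCat.{u} A)) K₁ K₂ K₃ (ComplexShape.up ℤ) (ComplexShape.up ℤ)
    (ComplexShape.up ℤ) i j k (j + k) n rfl h4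
  rw [e1, e3] at e2
  have e4 := congrArg (fun g => g.hom ((x ⊗ₜ[A] y) ⊗ₜ[A] z)) e2
  exact e4


/-- the degree-zero term of the unit complex is `A` -/
noncomputable abbrev unitIso : (𝟙_ (DRing.Cx A)).X 0 ≅ 𝟙_ (ModuleCat.{u} A) :=
  HomologicalComplex.singleObjXSelf (ComplexShape.up ℤ) 0 (𝟙_ (ModuleCat.{u} A))

/-- the element `c` of the unit complex -/
noncomputable def unitEl (c : A) : (𝟙_ (DRing.Cx A)).X 0 := (unitIso (A := A)).inv.hom c

lemma unitEl_smul (c : A) : unitEl c = c • unitEl (1 : A) := by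
  unfold unitEl
  rw [← map_smul]
  congr 1
  simp

lemma unitIso_hom_unitEl (c : A) : (unitIso (A := A)).hom.hom (unitEl c) = c := by
  unfold unitEl
  exact congrArg (fun f => f.hom c) (unitIso (A := A)).inv_hom_id

lemma unitEl_unitIso_hom (w : (𝟙_ (DRing.Cx A)).X 0) : unitEl ((unitIso (A := A)).hom.hom w) = w := by
  unfold unitEl
  exact congrArg (fun f => f.hom w) (unitIso (A := A)).hom_inv_id

lemma unit_X_eq_zero {k : ℤ} (hk : k ≠ 0) (w : (𝟙_ (DRing.Cx A)).X k) : w = 0 := by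
  have h := HomologicalComplex.isZero_single_obj_X (ComplexShape.up ℤ) 0 (𝟙_ (ModuleCat.{u} A)) k hk
  have : Subsingleton ((𝟙_ (DRing.Cx A)).X k) := ModuleCat.subsingleton_of_isZero h
  exact Subsingleton.elim _ _

lemma leftUnitor_inv_f_apply (K : DRing.Cx A) (n : ℤ) (x : K.X n) :
    ((λ_ K).inv.f n).hom x = tm n (zero_add n) (unitEl (1 : A)) x := by
  have h1 : (λ_ K).inv.f n = (λ_ (K.X n)).inv ≫ ((unitIso (A := A)).inv ▷ K.X n) ≫
      ι (𝟙_ (DRing.Cx A)) K 0 n n (zero_add n) :=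
    HomologicalComplex.leftUnitor'_inv K n
  rw [h1]
  rfl

lemma rightUnitor_inv_f_apply (K : DRing.Cx A) (n : ℤ) (x : K.X n) :
    ((ρ_ K).inv.f n).hom x = tm n (add_zero n) x (unitEl (1 : A)) := by
  have h1 : (ρ_ K).inv.f n = (ρ_ (K.X n)).inv ≫ (K.X n ◁ (unitIso (A := A)).inv) ≫
      ι K (𝟙_ (DRing.Cx A)) n 0 n (add_zero n) :=
    HomologicalComplex.rightUnitor'_inv K n
  rw [h1]
  rfl

lemma leftUnitor_hom_f_tm (K : DRing.Cx A) (n : ℤ) (c : A) (x : K.X n) :
    ((λ_ K).hom.f n).hom (tm n (zero_add n) (unitEl c) x) = c • x := by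
  rw [unitEl_smul, tm_smul_left, map_smul, ← leftUnitor_inv_f_apply]
  congr 1
  have := congrArg (fun (f : K ⟶ K) => (f.f n).hom x) (λ_ K).inv_hom_id
  exact this

lemma rightUnitor_hom_f_tm (K : DRing.Cx A) (n : ℤ) (c : A) (x : K.X n) :
    ((ρ_ K).hom.f n).hom (tm n (add_zero n) x (unitEl c)) = c • x := by
  rw [unitEl_smul, tm_smul_right, map_smul, ← rightUnitor_inv_f_apply]
  congr 1
  have := congrArg (fun (f : K ⟶ K) => (f.f n).hom x) (ρ_ K).inv_hom_id
  exact this


lemma associator_inv_f_tm (K₁ K₂ K₃ : DRing.Cx A) {i j k : ℤ} (ij jk n : ℤ)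
    (h1 : i + j = ij) (h2 : ij + k = n) (h3 : j + k = jk) (h4 : i + jk = n)
    (x : K₁.X i) (y : K₂.X j) (z : K₃.X k) :
    ((α_ K₁ K₂ K₃).inv.f n).hom (tm n h4 x (tm jk h3 y z)) = tm n h2 (tm ij h1 x y) z := by
  rw [← associator_hom_f_tm K₁ K₂ K₃ ij jk n h1 h2 h3 h4]
  exact congrArg (fun (f : (K₁ ⊗ K₂) ⊗ K₃ ⟶ (K₁ ⊗ K₂) ⊗ K₃) => (f.f n).hom (tm n h2 (tm ij h1 x y) z))
    (α_ K₁ K₂ K₃).hom_inv_id

/-- `tm` as a linear map in the first variable -/
noncomputable def tmL₁ {K L : DRing.Cx A} {i j : ℤ} (n : ℤ) (h : i + j = n) (y : L.X j) :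
    K.X i →ₗ[A] (T K L).X n where
  toFun x := tm n h x y
  map_add' x x' := tm_add_left n h x x' y
  map_smul' a x := tm_smul_left n h a x y

/-- `tm` as a linear map in the second variable -/
noncomputable def tmL₂ {K L : DRing.Cx A} {i j : ℤ} (n : ℤ) (h : i + j = n) (x : K.X i) :
    L.X j →ₗ[A] (T K L).X n where
  toFun y := tm n h x y
  map_add' y y' := tm_add_right n h x y y'
  map_smul' a y := tm_smul_right n h a x y

lemma tm_zero_right {K L : DRing.Cx A} {i j : ℤ} (n : ℤ) (h : i + j = n) (x : K.X i) :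
    tm (L := L) n h x 0 = 0 := (tmL₂ (L := L) n h x).map_zero

lemma tm_zero_left' {K L : DRing.Cx A} {i j : ℤ} (n : ℤ) (h : i + j = n) (y : L.X j) :
    tm (K := K) n h 0 y = 0 := (tmL₁ (K := K) n h y).map_zero

section Supp

variable (K L : DRing.Cx A) (n : ℤ)

/-- elements of `(K ⊗ L)ⁿ` with finitely many nonzero components -/
noncomputable def finSupp : Submodule A ((T K L).X n) where
  carrier := {z | {i : ℤ | (pr K L i (n - i) n (by omega)).hom z ≠ 0}.Finite}
  zero_mem' := by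
    simp only [Set.mem_setOf_eq, map_zero, ne_eq, not_true_eq_false, Set.setOf_false]
    exact Set.finite_empty
  add_mem' := by
    intro a b ha hb
    refine (ha.union hb).subset ?_
    intro i hi
    simp only [Set.mem_setOf_eq, map_add] at hi
    by_contra hcon
    simp only [Set.mem_union, Set.mem_setOf_eq, not_or, not_not] at hcon
    rw [hcon.1, hcon.2, add_zero] at hi
    exact hi rfl
  smul_mem' := by
    intro c a ha
    refine ha.subset ?_
    intro i hi
    simp only [Set.mem_setOf_eq, map_smul] at hi ⊢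
    intro h0
    rw [h0, smul_zero] at hi
    exact hi rfl

lemma finSupp_eq_top : finSupp K L n = ⊤ := by
  rw [eq_top_iff, ← Groth.Agent.Lib.TensorCxZ35.iSup_range_ι K L n]
  refine iSup_le fun i => iSup_le fun j => iSup_le fun h => ?_
  rintro _ ⟨t, rfl⟩
  change {i' : ℤ | (pr K L i' (n - i') n (by omega)).hom ((ι K L i j n h).hom t) ≠ 0}.Finite
  refine (Set.finite_singleton i).subset ?_
  intro i' hi'
  simp only [Set.mem_setOf_eq] at hi'
  by_contra hne
  apply hi'
  exact Groth.Agent.Lib.TensorCxZ35.pr_ι_apply_ne K L i' (n - i') i j n (by omega) h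
    (fun hh => hne hh.symm) t

lemma finite_support (z : (T K L).X n) :
    {i : ℤ | (pr K L i (n - i) n (by omega)).hom z ≠ 0}.Finite := by
  have : z ∈ finSupp K L n := by rw [finSupp_eq_top]; trivial
  exact this

lemma exists_finset_support (z : (T K L).X n) :
    ∃ S : Finset ℤ, ∀ i, i ∉ S → ∀ (j : ℤ) (h : i + j = n), (pr K L i j n h).hom z = 0 := by
  refine ⟨(finite_support K L n z).toFinset, fun i hi j h => ?_⟩
  obtain rfl : j = n - i := by omega
  simpa using hi

end Supp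

section Pairing

variable (M N : DRing.Cx A) [ExactPairing M N]

/-- the coevaluation element -/
noncomputable def coevEl : (T M N).X 0 := ((η_ M N).f 0).hom (unitEl (1 : A))

/-- the pairing `N^j × M^i → A`, `j + i = 0`, in the first variable -/
noncomputable def evL {j i : ℤ} (h : j + i = 0) (x : M.X i) : N.X j →ₗ[A] A :=
  (unitIso (A := A)).hom.hom ∘ₗ ((ε_ M N).f 0).hom ∘ₗ tmL₁ (K := N) (L := M) 0 h x

/-- the pairing `N^j × M^i → A`, `j + i = 0`, in the second variable -/
noncomputable def evR {j i : ℤ} (h : j + i = 0) (y : N.X j) : M.X i →ₗ[A] A :=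
  (unitIso (A := A)).hom.hom ∘ₗ ((ε_ M N).f 0).hom ∘ₗ tmL₂ (K := N) (L := M) 0 h y

lemma evL_apply {j i : ℤ} (h : j + i = 0) (x : M.X i) (y : N.X j) :
    evL M N h x y = (unitIso (A := A)).hom.hom (((ε_ M N).f 0).hom (tm 0 h y x)) := rfl

lemma evR_apply {j i : ℤ} (h : j + i = 0) (x : M.X i) (y : N.X j) :
    evR M N h y x = (unitIso (A := A)).hom.hom (((ε_ M N).f 0).hom (tm 0 h y x)) := rfl

/-- contraction of `M^n ⊗ N^{-n}` against `x ∈ M^n` -/
noncomputable def contrL (n : ℤ) (x : M.X n) :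
    (M.X n ⊗ N.X (-n) : ModuleCat.{u} A) →ₗ[A] M.X n :=
  (TensorProduct.rid A (M.X n)).toLinearMap ∘ₗ
    LinearMap.lTensor (M.X n) (evL M N (neg_add_cancel n) x)

lemma contrL_tmul (n : ℤ) (x : M.X n) (m : M.X n) (y : N.X (-n)) :
    contrL M N n x (m ⊗ₜ[A] y) = evL M N (neg_add_cancel n) x y • m := by
  change TensorProduct.rid A (M.X n) (LinearMap.lTensor (M.X n) (evL M N (neg_add_cancel n) x)
    (m ⊗ₜ[A] y)) = _
  rw [LinearMap.lTensor_tmul, TensorProduct.rid_tmul]

/-- the map `z ↦ ρ((M ◁ ε)(α(z ⊗ x)))` -/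
noncomputable def psiL (n : ℤ) (x : M.X n) : (T M N).X 0 ⟶ M.X n :=
  ModuleCat.ofHom (tmL₁ (K := T M N) (L := M) n (zero_add n) x) ≫ (α_ M N M).hom.f n ≫
    (M ◁ ε_ M N).f n ≫ (ρ_ M).hom.f n

lemma psiL_tm (n : ℤ) (x : M.X n) {i j : ℤ} (h : i + j = 0) (m : M.X i) (y : N.X j)
    (k : ℤ) (hk : j + n = k) :
    (psiL M N n x).hom (tm 0 h m y) =
      ((ρ_ M).hom.f n).hom (tm n (show i + k = n by omega) m
        (((ε_ M N).f k).hom (tm k hk y x))) := by
  unfold psiL
  simp only [ModuleCat.hom_comp, LinearMap.comp_apply]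
  change ((ρ_ M).hom.f n).hom (((M ◁ ε_ M N).f n).hom (((α_ M N M).hom.f n).hom
    (tm n (zero_add n) (tm 0 h m y) x))) = _
  rw [associator_hom_f_tm M N M 0 k n h (zero_add n) hk (by omega), whiskerLeft_f_tm]

lemma psiL_eq (n : ℤ) (x : M.X n) :
    psiL M N n x = pr M N n (-n) 0 (add_neg_cancel n) ≫ ModuleCat.ofHom (contrL M N n x) := by
  apply hom_ext_tm
  intro i j h m y
  by_cases hi : i = n
  · subst hi
    obtain rfl : j = -i := by omega
    rw [psiL_tm M N i x h m y 0 (neg_add_cancel i)]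
    simp only [ModuleCat.hom_comp, LinearMap.comp_apply]
    unfold tm
    rw [Groth.Agent.Lib.TensorCxZ35.pr_ι_apply]
    change _ = contrL M N i x (m ⊗ₜ[A] y)
    rw [contrL_tmul, evL_apply]
    have h1 := unitEl_unitIso_hom (((ε_ M N).f 0).hom (tm 0 (neg_add_cancel i) y x))
    change ((ρ_ M).hom.f i).hom (tm i (add_zero i) m
      (((ε_ M N).f 0).hom (tm 0 (neg_add_cancel i) y x))) = _
    rw [← h1, rightUnitor_hom_f_tm, h1]
  · rw [psiL_tm M N n x h m y (j + n) rfl]
    have hk : j + n ≠ 0 := by omega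
    rw [unit_X_eq_zero hk (((ε_ M N).f (j + n)).hom (tm (j + n) rfl y x)), tm_zero_right, map_zero]
    simp only [ModuleCat.hom_comp, LinearMap.comp_apply]
    unfold tm
    rw [Groth.Agent.Lib.TensorCxZ35.pr_ι_apply_ne M N n (-n) i j 0 (add_neg_cancel n) h hi,
      map_zero]

theorem eq_contrL (n : ℤ) (x : M.X n) :
    x = contrL M N n x ((pr M N n (-n) 0 (add_neg_cancel n)).hom (coevEl M N)) := by
  have key := congrArg (fun f => f.hom (coevEl M N)) (psiL_eq M N n x)
  simp only [ModuleCat.hom_comp, LinearMap.comp_apply] at key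
  refine Eq.trans ?_ key
  -- the triangle identity
  have tri := ExactPairing.evaluation_coevaluation M N
  have t2 := congrArg (fun (f : 𝟙_ (DRing.Cx A) ⊗ M ⟶ M ⊗ 𝟙_ (DRing.Cx A)) =>
    ((ρ_ M).hom.f n).hom ((f.f n).hom (tm n (zero_add n) (unitEl (1 : A)) x))) tri
  simp only [HomologicalComplex.comp_f, ModuleCat.hom_comp, LinearMap.comp_apply] at t2
  rw [whiskerRight_f_tm, leftUnitor_hom_f_tm, one_smul] at t2
  have t3 : ((ρ_ M).hom.f n).hom (((ρ_ M).inv.f n).hom x) = x :=
    congrArg (fun (f : M ⟶ M) => (f.f n).hom x) (ρ_ M).inv_hom_id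
  rw [t3] at t2
  exact t2.symm

/-- contraction of `M^{-n} ⊗ N^n` against `y ∈ N^n` -/
noncomputable def contrR (n : ℤ) (y : N.X n) :
    (M.X (-n) ⊗ N.X n : ModuleCat.{u} A) →ₗ[A] N.X n :=
  (TensorProduct.lid A (N.X n)).toLinearMap ∘ₗ
    LinearMap.rTensor (N.X n) (evR M N (add_neg_cancel n) y)

lemma contrR_tmul (n : ℤ) (y : N.X n) (m : M.X (-n)) (y' : N.X n) :
    contrR M N n y (m ⊗ₜ[A] y') = evR M N (add_neg_cancel n) y m • y' := by
  change TensorProduct.lid A (N.X n) (LinearMap.rTensor (N.X n) (evR M N (add_neg_cancel n) y)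
    (m ⊗ₜ[A] y')) = _
  rw [LinearMap.rTensor_tmul, TensorProduct.lid_tmul]

/-- the map `z ↦ λ((ε ▷ N)(α⁻¹(y ⊗ z)))` -/
noncomputable def psiR (n : ℤ) (y : N.X n) : (T M N).X 0 ⟶ N.X n :=
  ModuleCat.ofHom (tmL₂ (K := N) (L := T M N) n (add_zero n) y) ≫ (α_ N M N).inv.f n ≫
    (ε_ M N ▷ N).f n ≫ (λ_ N).hom.f n

lemma psiR_tm (n : ℤ) (y : N.X n) {i j : ℤ} (h : i + j = 0) (m : M.X i) (y' : N.X j)
    (k : ℤ) (hk : n + i = k) :
    (psiR M N n y).hom (tm 0 h m y') =
      ((λ_ N).hom.f n).hom (tm n (show k + j = n by omega)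
        (((ε_ M N).f k).hom (tm k hk y m)) y') := by
  unfold psiR
  simp only [ModuleCat.hom_comp, LinearMap.comp_apply]
  change ((λ_ N).hom.f n).hom (((ε_ M N ▷ N).f n).hom (((α_ N M N).inv.f n).hom
    (tm n (add_zero n) y (tm 0 h m y')))) = _
  rw [associator_inv_f_tm N M N k 0 n hk (by omega) h (add_zero n), whiskerRight_f_tm]

lemma psiR_eq (n : ℤ) (y : N.X n) :
    psiR M N n y = pr M N (-n) n 0 (neg_add_cancel n) ≫ ModuleCat.ofHom (contrR M N n y) := by
  apply hom_ext_tm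
  intro i j h m y'
  by_cases hj : j = n
  · subst hj
    obtain rfl : i = -j := by omega
    rw [psiR_tm M N j y h m y' 0 (add_neg_cancel j)]
    simp only [ModuleCat.hom_comp, LinearMap.comp_apply]
    unfold tm
    rw [Groth.Agent.Lib.TensorCxZ35.pr_ι_apply]
    change _ = contrR M N j y (m ⊗ₜ[A] y')
    rw [contrR_tmul, evR_apply]
    have h1 := unitEl_unitIso_hom (((ε_ M N).f 0).hom (tm 0 (add_neg_cancel j) y m))
    change ((λ_ N).hom.f j).hom (tm j (zero_add j)
      (((ε_ M N).f 0).hom (tm 0 (add_neg_cancel j) y m)) y') = _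
    rw [← h1, leftUnitor_hom_f_tm, h1]
  · rw [psiR_tm M N n y h m y' (n + i) rfl]
    have hk : n + i ≠ 0 := by omega
    rw [unit_X_eq_zero hk (((ε_ M N).f (n + i)).hom (tm (n + i) rfl y m)), tm_zero_left', map_zero]
    simp only [ModuleCat.hom_comp, LinearMap.comp_apply]
    unfold tm
    rw [Groth.Agent.Lib.TensorCxZ35.pr_ι_apply_ne M N (-n) n i j 0 (neg_add_cancel n) h
      (by omega), map_zero]

theorem eq_contrR (n : ℤ) (y : N.X n) :
    y = contrR M N n y ((pr M N (-n) n 0 (neg_add_cancel n)).hom (coevEl M N)) := by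
  have key := congrArg (fun f => f.hom (coevEl M N)) (psiR_eq M N n y)
  simp only [ModuleCat.hom_comp, LinearMap.comp_apply] at key
  refine Eq.trans ?_ key
  have tri := ExactPairing.coevaluation_evaluation M N
  have t2 := congrArg (fun (f : N ⊗ 𝟙_ (DRing.Cx A) ⟶ 𝟙_ (DRing.Cx A) ⊗ N) =>
    ((λ_ N).hom.f n).hom ((f.f n).hom (tm n (add_zero n) y (unitEl (1 : A))))) tri
  simp only [HomologicalComplex.comp_f, ModuleCat.hom_comp, LinearMap.comp_apply] at t2
  rw [whiskerLeft_f_tm, rightUnitor_hom_f_tm, one_smul] at t2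
  have t3 : ((λ_ N).hom.f n).hom (((λ_ N).inv.f n).hom y) = y :=
    congrArg (fun (f : N ⟶ N) => (f.f n).hom y) (λ_ N).inv_hom_id
  rw [t3] at t2
  exact t2.symm

lemma evL_eq_evR {j i : ℤ} (h : j + i = 0) (x : M.X i) (y : N.X j) :
    evL M N h x y = evR M N h y x := rfl

/-- a module which is a retract of a finite free module is finite projective -/
lemma finite_projective_of_retract' {P : Type u} [AddCommGroup P] [Module A P]
    {κ : Type u} [Finite κ] (i : P →ₗ[A] (κ → A)) (s : (κ → A) →ₗ[A] P)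
    (h : s.comp i = LinearMap.id) : Module.Finite A P ∧ Module.Projective A P := by
  refine ⟨?_, Module.Projective.of_split i s h⟩
  apply Module.Finite.of_surjective s
  intro m
  exact ⟨i m, by rw [← LinearMap.comp_apply, h, LinearMap.id_apply]⟩

include N in
theorem finite_projective_left (n : ℤ) :
    Module.Finite A (M.X n) ∧ Module.Projective A (M.X n) := by
  classical
  obtain ⟨S, hS⟩ := TensorProduct.exists_finset
    ((pr M N n (-n) 0 (add_neg_cancel n)).hom (coevEl M N))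
  have key : ∀ x : M.X n, x = ∑ p ∈ S, evR M N (neg_add_cancel n) p.2 x • p.1 := by
    intro x
    have h1 := eq_contrL M N n x
    rw [hS, map_sum] at h1
    refine h1.trans ?_
    apply Finset.sum_congr rfl
    intro p _
    rw [contrL_tmul, evL_eq_evR]
  let i : M.X n →ₗ[A] (S → A) := LinearMap.pi fun p => evR M N (neg_add_cancel n) p.1.2
  let s : (S → A) →ₗ[A] M.X n :=
    ∑ p : S, (LinearMap.toSpanSingleton A (M.X n) p.1.1) ∘ₗ (LinearMap.proj p)
  apply finite_projective_of_retract' i s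
  ext x
  simp only [LinearMap.coe_comp, Function.comp_apply, LinearMap.id_coe, id_eq, s, i,
    LinearMap.sum_apply, LinearMap.proj_apply, LinearMap.pi_apply,
    LinearMap.toSpanSingleton_apply]
  rw [Finset.sum_coe_sort S (fun p => evR M N (neg_add_cancel n) p.2 x • p.1)]
  exact (key x).symm

include M in
theorem finite_projective_right (n : ℤ) :
    Module.Finite A (N.X n) ∧ Module.Projective A (N.X n) := by
  classical
  obtain ⟨S, hS⟩ := TensorProduct.exists_finset
    ((pr M N (-n) n 0 (neg_add_cancel n)).hom (coevEl M N))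
  have key : ∀ y : N.X n, y = ∑ p ∈ S, evL M N (add_neg_cancel n) p.1 y • p.2 := by
    intro y
    have h1 := eq_contrR M N n y
    rw [hS, map_sum] at h1
    refine h1.trans ?_
    apply Finset.sum_congr rfl
    intro p _
    rw [contrR_tmul, ← evL_eq_evR]
  let i : N.X n →ₗ[A] (S → A) := LinearMap.pi fun p => evL M N (add_neg_cancel n) p.1.1
  let s : (S → A) →ₗ[A] N.X n :=
    ∑ p : S, (LinearMap.toSpanSingleton A (N.X n) p.1.2) ∘ₗ (LinearMap.proj p)
  apply finite_projective_of_retract' i s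
  ext y
  simp only [LinearMap.coe_comp, Function.comp_apply, LinearMap.id_coe, id_eq, s, i,
    LinearMap.sum_apply, LinearMap.proj_apply, LinearMap.pi_apply,
    LinearMap.toSpanSingleton_apply]
  rw [Finset.sum_coe_sort S (fun p => evL M N (add_neg_cancel n) p.1 y • p.2)]
  exact (key y).symm

theorem exists_bounds :
    ∃ a b : ℤ, (∀ i : ℤ, i < a ∨ b < i → IsZero (M.X i)) ∧
      (∀ i : ℤ, i < -b ∨ -a < i → IsZero (N.X i)) := by
  classical
  obtain ⟨S, hS⟩ := exists_finset_support M N 0 (coevEl M N)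
  obtain ⟨b, hb⟩ := S.exists_le
  obtain ⟨a', ha'⟩ := (S.image Neg.neg).exists_le
  have ha : ∀ i ∈ S, -a' ≤ i := by
    intro i hi
    have := ha' (-i) (Finset.mem_image_of_mem _ hi)
    omega
  refine ⟨-a', b, ?_, ?_⟩
  · intro i hi
    have hiS : i ∉ S := by
      intro h
      have h1 := ha i h
      have h2 := hb i h
      omega
    have : Subsingleton (M.X i) := by
      refine ⟨fun x x' => ?_⟩
      have h0 : ∀ x : M.X i, x = 0 := by
        intro x
        rw [eq_contrL M N i x, hS i hiS (-i) (add_neg_cancel i), map_zero]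
      rw [h0 x, h0 x']
    exact ModuleCat.isZero_of_subsingleton _
  · intro i hi
    have hiS : -i ∉ S := by
      intro h
      have h1 := ha (-i) h
      have h2 := hb (-i) h
      omega
    have : Subsingleton (N.X i) := by
      refine ⟨fun y y' => ?_⟩
      have h0 : ∀ y : N.X i, y = 0 := by
        intro y
        rw [eq_contrR M N i y, hS (-i) hiS i (neg_add_cancel i), map_zero]
      rw [h0 y, h0 y']
    exact ModuleCat.isZero_of_subsingleton _

end Pairing


end Groth.Agent.Lib.H47CxElem
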