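import Groth.Agent.Lib.H47Cpt
import Groth.Agent.Lib.DStupid

/-!
# Maps from compact objects of `D(R)` factor through perfect objects (helper47)

`Groth.Agent.Lib.H47Fac` (Neeman's argument, after helper31's `CompactEnv31.fac_step`, but for
`D(R)` with only `u`-small coproducts):
* `Perf P` (`∃ a b, PA (FP R) a b P`), `Perf.of_iso/shift/cone/cpt`, `perf_of_isZero`;
* `Fac φ` (`φ` factors through a perfect object), `W Z` (every map from a `Cpt` object to `Z`
  satisfies `Fac`), `w_ext` (closed under extensions), `w_of_isZero`;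
* `finsuppCofan`, `isColimitFinsuppCofan` (`J →₀ R` is the coproduct of copies of `R`),
  `preservesColimitsOfShape_singleFunctor`;
* `w_single_free`, `w_single_projective`, `w_of_bounded_projective` (`W (Q F)` for a bounded
  complex `F` of projective modules).
-/

set_option autoImplicit false

open CategoryTheory CategoryTheory.Limits Groth.Agent.FinSupp31 Pretriangulated ZeroObject
open Groth.Agent.Lib.H47Cpt Groth.Agent.Lib.PCohAmp Groth.Agent.Lib.DRingPCoh21

universe u

namespace Groth.Agent.Lib.H47Fac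

variable {R : Type u} [CommRing R]

attribute [local instance] HasDerivedCategory.standard

/-- perfect objects, in the `PA` form -/
def Perf (P : DerivedCategory (ModuleCat.{u} R)) : Prop := ∃ a b : ℤ, PA (FP R) a b P

lemma Perf.of_iso {P P' : DerivedCategory (ModuleCat.{u} R)} (e : P ≅ P') (h : Perf P) :
    Perf P' := by
  obtain ⟨a, b, h⟩ := h
  exact ⟨a, b, pa_of_iso e h⟩

lemma Perf.shift {P : DerivedCategory (ModuleCat.{u} R)} (h : Perf P) (n : ℤ) : Perf (P⟦n⟧) := by
  obtain ⟨a, b, h⟩ := h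
  exact ⟨_, _, pa_shift h n⟩

lemma Perf.cpt {P : DerivedCategory (ModuleCat.{u} R)} (h : Perf P) : Cpt P := by
  obtain ⟨a, b, h⟩ := h
  exact cpt_of_pa h

lemma Perf.cone (T : Triangle (DerivedCategory (ModuleCat.{u} R)))
    (hT : T ∈ distTriang (DerivedCategory (ModuleCat.{u} R)))
    (h₁ : Perf T.obj₁) (h₂ : Perf T.obj₂) : Perf T.obj₃ := by
  obtain ⟨a₁, b₁, h₁⟩ := h₁
  obtain ⟨a₂, b₂, h₂⟩ := h₂
  exact ⟨_, _, pa_cone (fp_prod R) (Groth.Agent.Lib.DRingPerfAmp.fp_lift R) T hT h₁ h₂⟩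

lemma perf_of_isZero {Z : DerivedCategory (ModuleCat.{u} R)} (hZ : IsZero Z) : Perf Z := by
  refine ⟨0, 0, (0 : CochainComplex (ModuleCat.{u} R) ℤ), fun i => ?_, fun i _ => ?_, ⟨?_⟩⟩
  · exact (FP R).prop_of_isZero (Functor.map_isZero (HomologicalComplex.eval _ _ i) (isZero_zero _))
  · exact Functor.map_isZero (HomologicalComplex.eval _ _ i) (isZero_zero _)
  · exact (Functor.map_isZero DerivedCategory.Q (isZero_zero _)).iso hZ

/-- `φ` factors through a perfect object -/
def Fac {C Z : DerivedCategory (ModuleCat.{u} R)} (φ : C ⟶ Z) : Prop :=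
  ∃ (P : DerivedCategory (ModuleCat.{u} R)) (g : C ⟶ P) (h : P ⟶ Z), Perf P ∧ g ≫ h = φ

/-- every map from a compact object factors through a perfect object -/
def W : ObjectProperty (DerivedCategory (ModuleCat.{u} R)) := fun Z =>
  ∀ (C : DerivedCategory (ModuleCat.{u} R)), Cpt C → ∀ φ : C ⟶ Z, Fac φ

instance : (W (R := R)).IsClosedUnderIsomorphisms where
  of_iso {Z Z'} e hZ := by
    intro C hC φ
    obtain ⟨P, g, h, hP, hgh⟩ := hZ C hC (φ ≫ e.inv)
    exact ⟨P, g, h ≫ e.hom, hP, by rw [← Category.assoc, hgh, Category.assoc, e.inv_hom_id,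
      Category.comp_id]⟩

lemma w_of_isZero {Z : DerivedCategory (ModuleCat.{u} R)} (hZ : IsZero Z) : W Z := by
  intro C hC φ
  exact ⟨Z, φ, 𝟙 Z, perf_of_isZero hZ, Category.comp_id _⟩

/-- `W` is closed under extensions (Neeman's argument, after helper31's `fac_step`) -/
theorem w_ext (T : Triangle (DerivedCategory (ModuleCat.{u} R)))
    (hT : T ∈ distTriang (DerivedCategory (ModuleCat.{u} R)))
    (h₁ : W T.obj₁) (h₃ : W T.obj₃) : W T.obj₂ := by
  intro C hC φ
  obtain ⟨F', u, w', hF', huw⟩ := h₃ C hC (φ ≫ T.mor₂)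
  obtain ⟨C', β, γ, hT'⟩ := distinguished_cocone_triangle₁ u
  have hC' : Cpt C' :=
    Cpt.mid _ (inv_rot_of_distTriang _ hT') (hF'.cpt.shift (-1)) hC
  obtain ⟨φ', hφ'₁, hφ'₂⟩ : ∃ φ' : C' ⟶ T.obj₁, β ≫ φ = φ' ≫ T.mor₁ ∧
      γ ≫ φ'⟦(1 : ℤ)⟧' = w' ≫ T.mor₃ :=
    complete_distinguished_triangle_morphism₁ _ _ hT' hT φ w' huw
  obtain ⟨E'', g', h', hE'', hg'h'⟩ := h₁ C' hC' φ'
  obtain ⟨E', p, q, hT''⟩ := distinguished_cocone_triangle₂ (γ ≫ g'⟦(1 : ℤ)⟧')
  have hE' : Perf E' :=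
    Perf.cone _ (inv_rot_of_distTriang _ hT'') (hF'.shift (-1)) hE''
  obtain ⟨g, hg₁, hg₂⟩ : ∃ g : C ⟶ E', β ≫ g = g' ≫ p ∧ u ≫ 𝟙 F' = g ≫ q :=
    complete_distinguished_triangle_morphism₂ _ _ hT' hT'' g' (𝟙 F') (by
      change γ ≫ g'⟦(1 : ℤ)⟧' = 𝟙 F' ≫ γ ≫ g'⟦(1 : ℤ)⟧'
      rw [Category.id_comp])
  obtain ⟨h, hh₁, hh₂⟩ : ∃ h : E' ⟶ T.obj₂, p ≫ h = h' ≫ T.mor₁ ∧ q ≫ w' = h ≫ T.mor₂ :=
    complete_distinguished_triangle_morphism₂ _ _ hT'' hT h' w' (by
      change (γ ≫ g'⟦(1 : ℤ)⟧') ≫ h'⟦(1 : ℤ)⟧' = w' ≫ T.mor₃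
      rw [Category.assoc, ← Functor.map_comp, hg'h', hφ'₂])
  have h0 : β ≫ (φ - g ≫ h) = 0 := by
    rw [Preadditive.comp_sub, ← Category.assoc, hg₁, Category.assoc, hh₁, ← Category.assoc,
      hg'h', hφ'₁, sub_self]
  obtain ⟨d, hd⟩ : ∃ d : F' ⟶ T.obj₂, φ - g ≫ h = u ≫ d :=
    Triangle.yoneda_exact₂ _ hT' (φ - g ≫ h) h0
  have hu : u = g ≫ q := by rw [← hg₂, Category.comp_id]
  refine ⟨E', g, h + q ≫ d, hE', ?_⟩
  rw [Preadditive.comp_add, ← Category.assoc g q d, ← hu, ← hd]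
  abel

/-- the cofan exhibiting `J →₀ R` as a coproduct of copies of `R` -/
noncomputable def finsuppCofan (J : Type u) :
    Cofan (fun _ : J => ModuleCat.of R R) :=
  Cofan.mk (ModuleCat.of R (J →₀ R)) (fun j => ModuleCat.ofHom (Finsupp.lsingle j))

noncomputable def isColimitFinsuppCofan (J : Type u) : IsColimit (finsuppCofan (R := R) J) :=
  Cofan.IsColimit.mk _
    (fun s => ModuleCat.ofHom (Finsupp.lsum R (fun j => (s.inj j).hom)))
    (fun s j => by
      ext
      simp [finsuppCofan])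
    (fun s m hm => by
      apply ModuleCat.hom_ext
      apply Finsupp.lhom_ext'
      intro j
      have := congr($(hm j).hom)
      rw [ModuleCat.hom_comp] at this
      refine this.trans ?_
      ext
      change _ = (Finsupp.lsum R fun j => ModuleCat.Hom.hom (s.inj j)) (Finsupp.single j 1)
      rw [Finsupp.lsum_single])

lemma preservesColimitsOfShape_singleFunctor (J : Type u) (n : ℤ) :
    PreservesColimitsOfShape (Discrete J) (DerivedCategory.singleFunctor (ModuleCat.{u} R) n) := by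
  have h1 : PreservesColimitsOfShape (Discrete J)
      (HomologicalComplex.single (ModuleCat.{u} R) (ComplexShape.up ℤ) n) :=
    inferInstance
  have h1' : PreservesColimitsOfShape (Discrete J)
      (CochainComplex.singleFunctor (ModuleCat.{u} R) n) := h1
  have h2 : PreservesColimitsOfShape (Discrete J)
      (CochainComplex.singleFunctor (ModuleCat.{u} R) n ⋙ DerivedCategory.Q) :=
    inferInstance
  exact preservesColimitsOfShape_of_natIso
    (DerivedCategory.singleFunctorIsoCompQ (ModuleCat.{u} R) n).symm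

theorem w_single_free (J : Type u) (n : ℤ) :
    W ((DerivedCategory.singleFunctor (ModuleCat.{u} R) n).obj (ModuleCat.of R (J →₀ R))) := by
  classical
  intro C hC φ
  let F := DerivedCategory.singleFunctor (ModuleCat.{u} R) n
  have := preservesColimitsOfShape_singleFunctor (R := R) J n
  let Y : J → DerivedCategory (ModuleCat.{u} R) := fun _ => F.obj (ModuleCat.of R R)
  have hcof : IsColimit (Cofan.mk (F.obj (ModuleCat.of R (J →₀ R)))
      (fun j => F.map (ModuleCat.ofHom (Finsupp.lsingle (R := R) (M := R) j))) : Cofan Y) :=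
    isColimitCofanMkObjOfIsColimit F _ _ (isColimitFinsuppCofan (R := R) J)
  let θ : (∐ Y) ≅ F.obj (ModuleCat.of R (J →₀ R)) :=
    (colimit.isColimit _).coconePointUniqueUpToIso hcof
  have hθ : ∀ j, Sigma.ι Y j ≫ θ.hom =
      F.map (ModuleCat.ofHom (Finsupp.lsingle (R := R) (M := R) j)) := fun j =>
    (colimit.isColimit _).comp_coconePointUniqueUpToIso_hom hcof ⟨j⟩
  obtain ⟨s, hs⟩ := hC.finSupp' J Y (φ ≫ θ.inv)
  rw [comp_e_eq_sum] at hs
  have hφ : φ = ∑ j ∈ s, ((φ ≫ θ.inv) ≫ Sigma.π Y j) ≫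
      F.map (ModuleCat.ofHom (Finsupp.lsingle (R := R) (M := R) j)) := by
    have h1 : φ = (φ ≫ θ.inv) ≫ θ.hom := by
      rw [Category.assoc, Iso.inv_hom_id, Category.comp_id]
    conv_lhs => rw [h1, ← hs]
    rw [Preadditive.sum_comp]
    refine Finset.sum_congr rfl (fun j _ => ?_)
    rw [Category.assoc, hθ]
  refine ⟨F.obj (ModuleCat.of R (s →₀ R)),
    ∑ j ∈ s.attach, ((φ ≫ θ.inv) ≫ Sigma.π Y j.1) ≫
      F.map (ModuleCat.ofHom (Finsupp.lsingle (R := R) (M := R) j)),
    F.map (ModuleCat.ofHom (Finsupp.lmapDomain R R (Subtype.val : s → J))), ⟨n, n, ?_⟩, ?_⟩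
  · exact pa_single _ ⟨inferInstance, inferInstance⟩ n
  · rw [Preadditive.sum_comp]
    conv_rhs => rw [hφ, ← Finset.sum_attach]
    refine Finset.sum_congr rfl (fun j _ => ?_)
    rw [Category.assoc, ← F.map_comp]
    congr 2
    ext
    simp

theorem w_single_projective (M : ModuleCat.{u} R) [Module.Projective R M] (n : ℤ) :
    W ((DerivedCategory.singleFunctor (ModuleCat.{u} R) n).obj M) := by
  intro C hC φ
  obtain ⟨s, hs⟩ := (Module.projective_def' (R := R) (P := M)).1 inferInstance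
  let F := DerivedCategory.singleFunctor (ModuleCat.{u} R) n
  let s' : M ⟶ ModuleCat.of R (M →₀ R) := ModuleCat.ofHom s
  let r' : ModuleCat.of R (M →₀ R) ⟶ M := ModuleCat.ofHom (Finsupp.linearCombination R id)
  have hsr : s' ≫ r' = 𝟙 M := by
    apply ModuleCat.hom_ext
    exact hs
  obtain ⟨P, g, h, hP, hgh⟩ := w_single_free (R := R) M n C hC (φ ≫ F.map s')
  refine ⟨P, g, h ≫ F.map r', hP, ?_⟩
  rw [← Category.assoc, hgh, Category.assoc, ← F.map_comp, hsr, F.map_id, Category.comp_id]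

/-- the main dévissage: maps from compact objects to a bounded complex of projectives factor
through perfect objects -/
theorem w_of_bounded_projective (F : CochainComplex (ModuleCat.{u} R) ℤ) (a b : ℤ)
    (hF : ∀ i : ℤ, i < a ∨ b < i → IsZero (F.X i))
    (hproj : ∀ i : ℤ, Module.Projective R (F.X i)) : W (DerivedCategory.Q.obj F) :=
  Groth.Agent.Lib.DStupid.stupid_devissage (W (R := R)) (fun T hT h₁ h₃ => w_ext T hT h₁ h₃)
    (fun _ hZ => w_of_isZero hZ) F a b hF (fun i => w_single_projective (F.X i) i)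

end Groth.Agent.Lib.H47Fac
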