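import Groth.Agent.Lib.H47FibPrime
import Groth.Agent.Lib.H8CM10
import Groth.Agent.Lib.DepthFlat33
import Groth.Agent.Lib.H56SerreFlat
set_option autoImplicit false
set_option backward.isDefEq.respectTransparency.types false
set_option linter.style.haveILetI false
universe u

/-!
# Fibrewise depth and `D2` of tensor products (helper47)

`A → B` Noetherian, `J` an ideal of `B`, `E` a finite `B`-module flat over `A` whose fibre stalks
`EGA4.FibLocMod A B q E` have depth `≥ k` at all primes `q ⊇ J`.
* `le_idealDepth_tensor_of_fibre`: `k ≤ depth_J (E ⊗_A N)` for finite `N` (depth formula for flat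
  local homomorphisms + `depth_I M = inf depth M_p`).
* `d2_tensor_of_fibre`: `D2 J (E ⊗_A N)` for ALL `A`-modules `N` (filtered colimit argument).
* `D2.of_retract`, `d2_map` (change of rings), `d2_localizedModule` (localization), `d2_pi_fin`,
  `d2_tensor_projective_right`, `d2_tensor_projective`.
* `fibLocModEquiv`: `FibLocMod A B q X ≃ (X ⊗_A A/p)_q`; `two_le_depth_fibLocMod_of_d2`.
* `fibLocModSelfEquiv`, `depth_fibLocMod_self`, `d2_tensor_self`.
-/

namespace Groth.Agent.Lib.H47FibD2
open TensorProduct Function IsLocalRing Groth.Agent.Lib.H47FibPrime Groth.Agent.Lib.H47Reflexive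
  Groth.Agent.S18706
open scoped Groth.Agent.Lib.H47FibPrime

section StarFin
variable (A B : Type u) [CommRing A] [CommRing B] [IsNoetherianRing A] [IsNoetherianRing B]
  [Algebra A B] (J : Ideal B) (k : ℕ∞)
  (E : Type u) [AddCommGroup E] [Module B E] [Module A E] [IsScalarTower A B E]
  [Module.Finite B E] [Module.Flat A E]

/-- `(★a)`: fibrewise depth `≥ k` of `E` (flat over `A`) along `V(J)` gives `depth_J (E ⊗_A N) ≥ k`
for every finite `A`-module `N`. -/
theorem le_idealDepth_tensor_of_fibre
    (hE : ∀ q : PrimeSpectrum B, J ≤ q.asIdeal →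
      k ≤ LocCoh.idealDepth (q.asIdeal.map (algebraMap B (EGA4.FibLocRing A B q.asIdeal)))
        (EGA4.FibLocMod A B q.asIdeal E))
    (N : Type u) [AddCommGroup N] [Module A N] [Module.Finite A N] :
    k ≤ LocCoh.idealDepth J (E ⊗[A] N) := by
  haveI : Module.Finite B (E ⊗[A] N) := Groth.Agent.Lib.DepthFlat33.finite_tensor N E
  rw [Groth.Agent.Lib.H8CM.idealDepth_eq_iInf_depth_localizedModule]
  refine le_iInf₂ fun q hq => ?_
  -- the localized situation
  haveI hflat : Module.Flat (Ap A B q.asIdeal) (Xq B q.asIdeal E) :=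
    (flat_iff A B q.asIdeal E).mpr (Groth.Agent.S18708.flat_localizedModule q.asIdeal.primeCompl)
  let g := AlgebraTensorModule.rTensor A N (LocalizedModule.mkLinearMap q.asIdeal.primeCompl E)
  let e1 : LocalizedModule q.asIdeal.primeCompl (E ⊗[A] N) ≃ₗ[Bq B q.asIdeal]
      (Xq B q.asIdeal E) ⊗[A] N :=
    (IsLocalizedModule.iso q.asIdeal.primeCompl g).extendScalarsOfIsLocalization
      q.asIdeal.primeCompl (Bq B q.asIdeal)
  let e2 : (Xq B q.asIdeal E) ⊗[Ap A B q.asIdeal] ((Ap A B q.asIdeal) ⊗[A] N) ≃ₗ[Bq B q.asIdeal]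
      (Xq B q.asIdeal E) ⊗[A] N :=
    AlgebraTensorModule.cancelBaseChange A (Ap A B q.asIdeal) (Bq B q.asIdeal)
      (Xq B q.asIdeal E) N
  have h3 := Groth.Agent.Lib.DepthFlat33.depth_tensor_eq_add (R := Ap A B q.asIdeal)
    (S := Bq B q.asIdeal) ((Ap A B q.asIdeal) ⊗[A] N) (Xq B q.asIdeal E)
  unfold LocCoh.depth at h3 ⊢
  rw [Groth.Agent.Lib.H8CM.idealDepth_eq_of_equiv _ (e1.trans e2.symm), h3]
  refine le_trans ?_ le_add_self
  have h4 := depth_fib_eq A B q.asIdeal E q.asIdeal
  rw [Localization.AtPrime.map_eq_maximalIdeal] at h4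
  exact (hE q hq).trans h4.ge


/-- `(★)`: fibrewise depth `≥ 2` of `E` (flat over `A`) along `V(J)` gives `D2 J (E ⊗_A N)` for
every `A`-module `N`. -/
theorem d2_tensor_of_fibre
    (hE : ∀ q : PrimeSpectrum B, J ≤ q.asIdeal →
      2 ≤ LocCoh.idealDepth (q.asIdeal.map (algebraMap B (EGA4.FibLocRing A B q.asIdeal)))
        (EGA4.FibLocMod A B q.asIdeal E))
    (N : Type u) [AddCommGroup N] [Module A N] : D2 J (E ⊗[A] N) := by
  have hfin : ∀ N0 : Submodule A N, Module.Finite A N0 → D2 J (E ⊗[A] N0) := by
    intro N0 _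
    haveI : Module.Finite B (E ⊗[A] N0) := Groth.Agent.Lib.DepthFlat33.finite_tensor N0 E
    exact (d2_iff J _).mp (le_idealDepth_tensor_of_fibre A B J 2 E hE N0)
  have hinj : ∀ N0 : Submodule A N,
      Injective (AlgebraTensorModule.lTensor B E N0.subtype) := fun N0 =>
    Module.Flat.lTensor_preserves_injective_linearMap N0.subtype N0.subtype_injective
  constructor
  · intro x hx
    obtain ⟨N0, hN0, hsub⟩ := TensorProduct.exists_finite_submodule_right_of_setFinite
      ({x} : Set (E ⊗[A] N)) (Set.finite_singleton x)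
    obtain ⟨x0, rfl⟩ := hsub (Set.mem_singleton x)
    have h0 : x0 = 0 := (hfin N0 hN0).1 x0 fun a ha => by
      apply hinj N0
      rw [map_smul, map_zero]
      exact hx a ha
    rw [h0, map_zero]
  · intro φ
    classical
    obtain ⟨t, ht⟩ := (Module.Finite.fg_top : (⊤ : Submodule B J).FG)
    obtain ⟨N0, hN0, hsub⟩ := TensorProduct.exists_finite_submodule_right_of_setFinite
      ((t.image φ : Finset (E ⊗[A] N)) : Set (E ⊗[A] N)) (Finset.finite_toSet _)
    let T := AlgebraTensorModule.lTensor B E N0.subtype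
    have hrange : ∀ a : J, φ a ∈ LinearMap.range T := by
      intro a
      have hle : (⊤ : Submodule B J) ≤ (LinearMap.range T).comap φ := by
        rw [← ht, Submodule.span_le]
        intro b hb
        have : φ b ∈ ((t.image φ : Finset (E ⊗[A] N)) : Set (E ⊗[A] N)) := by
          rw [Finset.coe_image]
          exact ⟨b, hb, rfl⟩
        exact hsub this
      exact hle (Submodule.mem_top : a ∈ ⊤)
    let e := LinearEquiv.ofInjective T (hinj N0)
    let φ0 : J →ₗ[B] E ⊗[A] N0 := e.symm.toLinearMap.comp (φ.codRestrict (LinearMap.range T) hrange)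
    obtain ⟨c0, hc0⟩ := (hfin N0 hN0).2 φ0
    refine ⟨T c0, fun a => ?_⟩
    rw [← map_smul, ← hc0 a]
    have := congrArg Subtype.val (e.apply_symm_apply (φ.codRestrict (LinearMap.range T) hrange a))
    exact this.symm

end StarFin

section D2misc
variable {B : Type u} [CommRing B] (J : Ideal B)

/-- `D2` passes to retracts. -/
theorem D2.of_retract {X Y : Type u} [AddCommGroup X] [Module B X] [AddCommGroup Y] [Module B Y]
    (h : D2 J Y) (i : X →ₗ[B] Y) (r : Y →ₗ[B] X) (hri : ∀ x, r (i x) = x) : D2 J X := by
  have hi : Injective i := fun x y hxy => by rw [← hri x, ← hri y, hxy]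
  refine ⟨h.1.of_injective i hi, fun φ => ?_⟩
  obtain ⟨y, hy⟩ := h.2 (i.comp φ)
  refine ⟨r y, fun a => ?_⟩
  rw [← map_smul, ← hy a, LinearMap.comp_apply, hri]

variable {B' : Type u} [CommRing B'] [Algebra B B']

/-- change of rings: `D2` over `B` w.r.t. `J` gives `D2` over `B'` w.r.t. `J B'`. -/
theorem d2_map {X : Type u} [AddCommGroup X] [Module B X] [Module B' X] [IsScalarTower B B' X]
    (h : D2 J X) : D2 (J.map (algebraMap B B')) X := by
  constructor
  · intro x hx
    refine h.1 x fun a ha => ?_
    rw [← algebraMap_smul B' a x]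
    exact hx _ (Ideal.mem_map_of_mem _ ha)
  · intro φ
    let ψ : J →ₗ[B] X :=
      { toFun := fun a => φ ⟨algebraMap B B' a, Ideal.mem_map_of_mem _ a.2⟩
        map_add' := fun a b => by
          rw [← map_add]
          congr 1
          exact Subtype.ext (map_add _ _ _)
        map_smul' := fun r a => by
          have e1 : (⟨algebraMap B B' ((r • a : J) : B), Ideal.mem_map_of_mem _ (r • a).2⟩ :
              J.map (algebraMap B B')) =
              algebraMap B B' r • ⟨algebraMap B B' a, Ideal.mem_map_of_mem _ a.2⟩ :=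
            Subtype.ext (by simp [Algebra.smul_def])
          rw [RingHom.id_apply, e1, map_smul, algebraMap_smul] }
    obtain ⟨c, hc⟩ := h.2 ψ
    refine ⟨c, ?_⟩
    -- the two `B'`-linear maps agree on generators
    let χ : (J.map (algebraMap B B')) →ₗ[B'] X :=
      (LinearMap.toSpanSingleton B' X c).comp (Submodule.subtype _)
    have hφχ : φ = χ := by
      apply LinearMap.ext
      rintro ⟨b, hb⟩
      refine Submodule.span_induction (p := fun b hb => φ ⟨b, hb⟩ = χ ⟨b, hb⟩) ?_ ?_ ?_ ?_ hb
      · rintro _ ⟨a, ha, rfl⟩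
        have := hc ⟨a, ha⟩
        change φ ⟨algebraMap B B' a, _⟩ = _ at this
        rw [this]
        simp [χ]
      · exact (map_zero φ).trans (map_zero χ).symm
      · intro x y hx hy h1 h2
        have e1 : (⟨x + y, add_mem hx hy⟩ : J.map (algebraMap B B')) = ⟨x, hx⟩ + ⟨y, hy⟩ := rfl
        rw [e1, map_add, map_add, h1, h2]
      · intro r x hx h1
        have e1 : (⟨r • x, Submodule.smul_mem _ r hx⟩ : J.map (algebraMap B B')) =
          r • ⟨x, hx⟩ := rfl
        rw [e1, map_smul, map_smul, h1]
    intro a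
    rw [hφχ]
    simp [χ]


theorem d2_pi_fin (n : ℕ) (X : Type u) [AddCommGroup X] [Module B X] (h : D2 J X) :
    D2 J (Fin n → X) := by
  constructor
  · intro z hz
    funext i
    exact h.1 _ fun b hb => congrFun (hz b hb) i
  · intro φ
    have hex : ∀ i, ∃ c : X, ∀ a : J, φ a i = (a : B) • c := fun i =>
      h.2 ((LinearMap.proj i).comp φ)
    choose c hc using hex
    exact ⟨c, fun a => funext fun i => hc i a⟩

/-- `D2 J P` gives `D2 J (P ⊗_B E)` for `E` finite projective. -/
theorem d2_tensor_projective_right (P : Type u) [AddCommGroup P] [Module B P] (h : D2 J P)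
    (E : Type u) [AddCommGroup E] [Module B E] [Module.Finite B E] [Module.Projective B E] :
    D2 J (P ⊗[B] E) := by
  classical
  obtain ⟨n, r, i, -, -, hri⟩ := Module.Finite.exists_comp_eq_id_of_projective B E
  have h1 : D2 J (P ⊗[B] (Fin n → B)) :=
    (d2_pi_fin J n P h).of_equiv J (TensorProduct.piScalarRight B B P (Fin n))
  refine D2.of_retract J h1 (LinearMap.lTensor P i) (LinearMap.lTensor P r) fun x => ?_
  rw [← LinearMap.comp_apply, ← LinearMap.lTensor_comp, hri, LinearMap.lTensor_id,
    LinearMap.id_apply]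

end D2misc

section Loc
variable {B : Type u} [CommRing B] [IsNoetherianRing B] (J : Ideal B) (S : Submonoid B)
  {M : Type u} [AddCommGroup M] [Module B M]

/-- `D2` passes to localizations of the module (as a module over the same ring). -/
theorem d2_localizedModule (h : D2 J M) : D2 J (LocalizedModule S M) := by
  let f := LocalizedModule.mkLinearMap S M
  constructor
  · intro x hx
    induction x using LocalizedModule.induction_on with
    | h m s =>
      let ψ : J →ₗ[B] M := (LinearMap.toSpanSingleton B M m).comp (Submodule.subtype J)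
      have hψ : f.comp ψ = f.comp (0 : J →ₗ[B] M) := by
        ext a
        simp only [LinearMap.comp_apply, LinearMap.comp_zero, LinearMap.zero_apply, ψ,
          Submodule.subtype_apply, LinearMap.toSpanSingleton_apply, f,
          LocalizedModule.mkLinearMap_apply]
        have := hx a a.2
        rw [LocalizedModule.smul'_mk] at this
        have h2 : LocalizedModule.mk ((a : B) • m) 1 = s • LocalizedModule.mk ((a : B) • m) s := by
          rw [Submonoid.smul_def, LocalizedModule.smul'_mk]
          exact (LocalizedModule.mk_cancel s _).symm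
        rw [h2, this, smul_zero]
      obtain ⟨t, ht⟩ := Module.Finite.exists_smul_of_comp_eq_of_isLocalizedModule S f ψ 0 hψ
      have htm : (t : B) • m = 0 := by
        refine h.1 _ fun a ha => ?_
        have := LinearMap.congr_fun ht ⟨a, ha⟩
        simp only [LinearMap.smul_apply, LinearMap.zero_apply, smul_zero, ψ, LinearMap.comp_apply,
          Submodule.subtype_apply, LinearMap.toSpanSingleton_apply] at this
        rw [smul_comm]
        exact this
      rw [← LocalizedModule.mk_cancel_common_left t s, Submonoid.smul_def, htm,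
        LocalizedModule.zero_mk]
  · intro φ
    haveI : Module.FinitePresentation B J := Module.finitePresentation_of_finite B J
    obtain ⟨g, t, hg⟩ := Module.FinitePresentation.exists_lift_of_isLocalizedModule S f φ
    obtain ⟨c, hc⟩ := h.2 g
    refine ⟨LocalizedModule.mk c t, fun a => ?_⟩
    apply IsLocalizedModule.smul_injective f t
    have h1 := LinearMap.congr_fun hg a
    simp only [LinearMap.comp_apply, LinearMap.smul_apply] at h1
    change t • φ a = t • ((a : B) • LocalizedModule.mk c t)
    rw [← h1, hc a]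
    simp only [f, LocalizedModule.mkLinearMap_apply]
    rw [LocalizedModule.smul'_mk, Submonoid.smul_def, LocalizedModule.smul'_mk]
    exact (LocalizedModule.mk_cancel (M := M) t ((a : B) • c)).symm

end Loc

section Fib
variable (A B : Type u) [CommRing A] [CommRing B] [IsNoetherianRing B] [Algebra A B]
  (q : Ideal B) [q.IsPrime] (J : Ideal B)
  (X : Type u) [AddCommGroup X] [Module B X] [Module A X] [IsScalarTower A B X]

/-- the fibre stalk as a localization of `X ⊗_A A/p`. -/
noncomputable def fibLocModEquiv : EGA4.FibLocMod A B q X ≃ₗ[Localization.AtPrime q]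
    LocalizedModule q.primeCompl (X ⊗[A] (A ⧸ q.under A)) :=
  (quotEquivTensorQuot (B := Localization.AtPrime q) (q.under A)
    (LocalizedModule q.primeCompl X)) ≪≫ₗ
  ((IsLocalizedModule.iso q.primeCompl (AlgebraTensorModule.rTensor A (A ⧸ q.under A)
      (LocalizedModule.mkLinearMap q.primeCompl X))).extendScalarsOfIsLocalization
      q.primeCompl (Localization.AtPrime q)).symm

theorem two_le_depth_fibLocMod_of_d2 [Module.Finite B X]
    (h : D2 J (X ⊗[A] (A ⧸ q.under A))) :
    2 ≤ LocCoh.idealDepth (J.map (algebraMap B (EGA4.FibLocRing A B q))) (EGA4.FibLocMod A B q X) := by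
  have h1 : D2 (J.map (algebraMap B (Localization.AtPrime q))) (EGA4.FibLocMod A B q X) :=
    (d2_map J (d2_localizedModule J q.primeCompl h)).of_equiv _ (fibLocModEquiv A B q X)
  rw [← d2_iff, Groth.Agent.Lib.H8DepthBC.idealDepth_eq_idealDepth_map
    (A := Localization.AtPrime q) (B := EGA4.FibLocRing A B q), Ideal.map_map,
    ← IsScalarTower.algebraMap_eq B (Localization.AtPrime q) (EGA4.FibLocRing A B q)] at h1
  exact h1

theorem one_le_depth_fibLocMod_of_d2 [Module.Finite B X]
    (h : D2 J (X ⊗[A] (A ⧸ q.under A))) :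
    1 ≤ LocCoh.idealDepth (J.map (algebraMap B (EGA4.FibLocRing A B q))) (EGA4.FibLocMod A B q X) :=
  le_trans (by norm_num) (two_le_depth_fibLocMod_of_d2 A B q J X h)

end Fib

section Proj
variable (A B : Type u) [CommRing A] [CommRing B] [Algebra A B] (J : Ideal B)

/-- from the ring to finite projective modules. -/
theorem d2_tensor_projective (hB : ∀ (N : Type u) [AddCommGroup N] [Module A N], D2 J (B ⊗[A] N))
    (E : Type u) [AddCommGroup E] [Module B E] [Module A E] [IsScalarTower A B E]
    [Module.Finite B E] [Module.Projective B E]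
    (N : Type u) [AddCommGroup N] [Module A N] : D2 J (E ⊗[A] N) := by
  have h1 : D2 J ((B ⊗[A] N) ⊗[B] E) := d2_tensor_projective_right J _ (hB N) E
  exact h1.of_equiv J ((AlgebraTensorModule.cancelBaseChange A B B E N).symm ≪≫ₗ
    TensorProduct.comm B E (B ⊗[A] N))

end Proj

section Self
variable (A B : Type u) [CommRing A] [CommRing B] [IsNoetherianRing B] [Algebra A B]
  (q : Ideal B) [q.IsPrime]

/-- the fibre stalk of `B` itself is the fibre local ring. -/
noncomputable def fibLocModSelfEquiv :
    EGA4.FibLocMod A B q B ≃ₗ[Localization.AtPrime q] EGA4.FibLocRing A B q :=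
  Submodule.Quotient.equiv _ _ (Groth.Agent.Lib.H56SerreFlat.selfEquiv B q).symm (by
    rw [Submodule.map_smul'', Submodule.map_top, LinearEquiv.range, Ideal.smul_top_eq_map,
      Algebra.algebraMap_self, Ideal.map_id]
    rfl)

theorem depth_fibLocMod_self (J : Ideal B) :
    LocCoh.idealDepth (J.map (algebraMap B (EGA4.FibLocRing A B q))) (EGA4.FibLocMod A B q B) =
      LocCoh.idealDepth (J.map (algebraMap B (EGA4.FibLocRing A B q))) (EGA4.FibLocRing A B q) := by
  rw [IsScalarTower.algebraMap_eq B (Localization.AtPrime q) (EGA4.FibLocRing A B q),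
    ← Ideal.map_map,
    ← Groth.Agent.Lib.H8DepthBC.idealDepth_eq_idealDepth_map (A := Localization.AtPrime q)
      (B := EGA4.FibLocRing A B q) _ (EGA4.FibLocMod A B q B),
    ← Groth.Agent.Lib.H8DepthBC.idealDepth_eq_idealDepth_map (A := Localization.AtPrime q)
      (B := EGA4.FibLocRing A B q) _ (EGA4.FibLocRing A B q)]
  exact Groth.Agent.Lib.H8CM.idealDepth_eq_of_equiv _ (fibLocModSelfEquiv A B q)


/-- `(★)` for the ring itself, from the depth of the fibre local rings. -/
theorem d2_tensor_self [IsNoetherianRing A] [Module.Flat A B] (J : Ideal B)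
    (hZ : ∀ q : PrimeSpectrum B, J ≤ q.asIdeal →
      2 ≤ LocCoh.idealDepth (q.asIdeal.map (algebraMap B (EGA4.FibLocRing A B q.asIdeal)))
        (EGA4.FibLocRing A B q.asIdeal))
    (N : Type u) [AddCommGroup N] [Module A N] : D2 J (B ⊗[A] N) :=
  d2_tensor_of_fibre A B J B (fun q hq => by
    rw [depth_fibLocMod_self]
    exact hZ q hq) N

end Self
end Groth.Agent.Lib.H47FibD2
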