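import Groth.Agent.S18708
import Groth.Agent.Lib.H8LocTrans
import Groth.Agent.Lib.H8DepthBC
import Groth.Agent.Lib.H14FlatAscent
set_option autoImplicit false
set_option backward.isDefEq.respectTransparency.types false
set_option linter.style.haveILetI false
universe u

/-!
# `S18708` at a prime (helper47)

For `A → B` Noetherian, `q` a prime of `B`, `p = q ∩ A`: the localized situation `A_p → B_q`
(`algApBq`, `modAp`: scoped instances), `flat_iff` (`X_q` flat over `A_p` ↔ `FlatCA.FlatAt A q X`),
`depth_fib_eq` (depth of the closed fibre of `X_q` over `A_p` = depth of `EGA4.FibLocMod A B q X`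
over `EGA4.FibLocRing A B q`), `flatAt_of_flatAt_comap` (double localization), and `core`: the
four-term-sequence criterion of `S18708` at a prime `q` in terms of `FibLocMod`.
-/

namespace Groth.Agent.Lib.H47FibPrime
open TensorProduct Function IsLocalRing

section Setup
variable (A B : Type u) [CommRing A] [CommRing B] [Algebra A B] (q : Ideal B) [q.IsPrime]

/-- the base local ring `A_p`, `p = q ∩ A`. -/
abbrev Ap : Type u := Localization.AtPrime (q.under A)
abbrev Bq : Type u := Localization.AtPrime q

@[reducible] noncomputable def algApBq : Algebra (Ap A B q) (Bq B q) :=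
  Localization.AtPrime.algebraOfLiesOver (q.under A) q

attribute [scoped instance] algApBq

scoped instance : IsScalarTower A (Ap A B q) (Bq B q) := by
  let _ := Localization.AtPrime.algebraOfLiesOver (q.under A) q
  exact (inferInstance : IsScalarTower A (Localization.AtPrime (q.under A)) (Localization.AtPrime q))

scoped instance : IsLocalHom (algebraMap (Ap A B q) (Bq B q)) :=
  Groth.Agent.Lib.H14FlatAscent.isLocalHom_localization A B q

variable (X : Type u) [AddCommGroup X] [Module B X] [Module A X] [IsScalarTower A B X]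

abbrev Xq : Type u := LocalizedModule q.primeCompl X

@[reducible] noncomputable def modAp : Module (Ap A B q) (Xq B q X) :=
  Module.compHom (Xq B q X) (algebraMap (Ap A B q) (Bq B q))

attribute [scoped instance] modAp

scoped instance : IsScalarTower (Ap A B q) (Bq B q) (Xq B q X) :=
  IsScalarTower.of_algebraMap_smul fun _ _ => rfl

scoped instance : IsScalarTower A (Ap A B q) (Xq B q X) := by
  refine IsScalarTower.of_algebraMap_smul fun a x => ?_
  change algebraMap (Ap A B q) (Bq B q) (algebraMap A (Ap A B q) a) • x = a • x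
  rw [← IsScalarTower.algebraMap_apply A (Ap A B q) (Bq B q), algebraMap_smul]

theorem flat_iff : Module.Flat (Ap A B q) (Xq B q X) ↔ FlatCA.FlatAt A q X :=
  Module.flat_iff_of_isLocalization (Ap A B q) (q.under A).primeCompl (Xq B q X)

theorem mB_eq : EGA4.mB (Ap A B q) (Bq B q) =
    (q.comap (algebraMap A B)).map (algebraMap A (Localization.AtPrime q)) :=
  Groth.Agent.Lib.H14FlatAscent.map_maximalIdeal_eq A B q

/-- depth of the closed fibre of `X_q` over `A_p` (as a `B_q`-module, w.r.t. `J B_q`) equals the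
depth of the fibre stalk `FibLocMod` (as a module over the fibre local ring). -/
theorem depth_fib_eq [IsNoetherianRing B] [Module.Finite B X] (J : Ideal B) :
    LocCoh.idealDepth (J.map (algebraMap B (Bq B q))) (EGA4.FibMod (Ap A B q) (Bq B q) (Xq B q X)) =
      LocCoh.idealDepth (J.map (algebraMap B (EGA4.FibLocRing A B q))) (EGA4.FibLocMod A B q X) := by
  have h1 : LocCoh.idealDepth (J.map (algebraMap B (Bq B q)))
      (EGA4.FibMod (Ap A B q) (Bq B q) (Xq B q X)) =
      LocCoh.idealDepth (J.map (algebraMap B (Bq B q))) (EGA4.FibLocMod A B q X) := by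
    refine Groth.Agent.Lib.H8CM.idealDepth_eq_of_equiv _ (Submodule.quotEquivOfEq _ _ ?_)
    rw [mB_eq]
  rw [h1, Groth.Agent.Lib.H8DepthBC.idealDepth_eq_idealDepth_map (A := Bq B q)
    (B := EGA4.FibLocRing A B q), Ideal.map_map,
    ← IsScalarTower.algebraMap_eq B (Bq B q) (EGA4.FibLocRing A B q)]

/-- flatness over `A_p` of a localization of `X_q` at a prime `Q` of `B_q`, from flatness of `X`
at the contraction of `Q`. -/
theorem flatAt_of_flatAt_comap (Q : Ideal (Bq B q)) [Q.IsPrime]
    (h : FlatCA.FlatAt A (Q.comap (algebraMap B (Bq B q))) X) :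
    FlatCA.FlatAt (Ap A B q) Q (Xq B q X) := by
  unfold FlatCA.FlatAt at h ⊢
  haveI : IsScalarTower A (Ap A B q) (LocalizedModule Q.primeCompl (Xq B q X)) := by
    refine IsScalarTower.of_algebraMap_smul fun a x => ?_
    induction x using LocalizedModule.induction_on with
    | h m s =>
      rw [LocalizedModule.smul'_mk, LocalizedModule.smul'_mk, algebraMap_smul]
  rw [Module.flat_iff_of_isLocalization (Ap A B q) (q.under A).primeCompl]
  obtain ⟨h1, h2⟩ := Groth.Agent.Lib.H8LocTrans.isLocalizedModule_comp q.primeCompl (Bq B q)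
    (LocalizedModule.mkLinearMap q.primeCompl X) Q (Localization.AtPrime Q)
    (LocalizedModule.mkLinearMap Q.primeCompl (Xq B q X))
  let e : LocalizedModule (Q.comap (algebraMap B (Bq B q))).primeCompl X ≃ₗ[B]
      LocalizedModule Q.primeCompl (Xq B q X) :=
    IsLocalizedModule.iso (Q.comap (algebraMap B (Bq B q))).primeCompl
      (((LocalizedModule.mkLinearMap Q.primeCompl (Xq B q X)).restrictScalars B).comp
        (LocalizedModule.mkLinearMap q.primeCompl X))
  exact Module.Flat.of_linearEquiv (e.restrictScalars A).symm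

end Setup

section Core

variable (A B : Type u) [CommRing A] [CommRing B] [IsNoetherianRing A] [IsNoetherianRing B]
  [Algebra A B] (J : Ideal B) (q : Ideal B) [q.IsPrime]
variable {F E0 E1 G : Type u} [AddCommGroup F] [Module B F] [Module A F] [IsScalarTower A B F]
  [Module.Finite B F]
  [AddCommGroup E0] [Module B E0] [Module A E0] [IsScalarTower A B E0] [Module.Finite B E0]
  [AddCommGroup E1] [Module B E1] [Module A E1] [IsScalarTower A B E1] [Module.Finite B E1]
  [AddCommGroup G] [Module B G] [Module A G] [IsScalarTower A B G] [Module.Finite B G]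
variable (f : F →ₗ[B] E0) (u : E0 →ₗ[B] E1) (v : E1 →ₗ[B] G)


/-- **S18708 at a prime**: the equivalence `depth_J (fibre stalk of F at q) ≥ 2 ⇔ G flat at q`,
and flatness of `F` at `q` from that of `G`. -/
theorem core (hE0 : FlatCA.FlatAt A q E0) (hE1 : FlatCA.FlatAt A q E1)
    (hf : Injective f) (hfu : Exact f u) (huv : Exact u v) (hv : Surjective v)
    (hGU : ∀ q' : PrimeSpectrum B, q'.asIdeal ≤ q → ¬ J ≤ q'.asIdeal →
      FlatCA.FlatAt A q'.asIdeal G)
    (h0 : 2 ≤ LocCoh.idealDepth (J.map (algebraMap B (EGA4.FibLocRing A B q)))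
      (EGA4.FibLocMod A B q E0))
    (h1 : 1 ≤ LocCoh.idealDepth (J.map (algebraMap B (EGA4.FibLocRing A B q)))
      (EGA4.FibLocMod A B q E1)) :
    (2 ≤ LocCoh.idealDepth (J.map (algebraMap B (EGA4.FibLocRing A B q)))
      (EGA4.FibLocMod A B q F) ↔ FlatCA.FlatAt A q G) ∧
    (FlatCA.FlatAt A q G → FlatCA.FlatAt A q F) := by
  haveI : Module.Flat (Ap A B q) (Xq B q E0) := (flat_iff A B q E0).mpr hE0
  haveI : Module.Flat (Ap A B q) (Xq B q E1) := (flat_iff A B q E1).mpr hE1
  have hGU' : ∀ Q : PrimeSpectrum (Bq B q), ¬ J.map (algebraMap B (Bq B q)) ≤ Q.asIdeal →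
      FlatCA.FlatAt (Ap A B q) Q.asIdeal (Xq B q G) := by
    intro Q hQ
    apply flatAt_of_flatAt_comap
    refine hGU ⟨Q.asIdeal.comap (algebraMap B (Bq B q)), inferInstance⟩ ?_ ?_
    · intro x hx
      by_contra hxq
      have hu : IsUnit (algebraMap B (Bq B q) x) :=
        IsLocalization.map_units (Bq B q) (⟨x, hxq⟩ : q.primeCompl)
      exact Q.isPrime.ne_top (Ideal.eq_top_of_isUnit_mem _ hx hu)
    · intro hJ
      exact hQ (Ideal.map_le_iff_le_comap.mpr hJ)
  have key := Groth.Agent.S18708.result (Ap A B q) (Bq B q) (J.map (algebraMap B (Bq B q)))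
    (Xq B q F) (Xq B q E0) (Xq B q E1) (Xq B q G)
    (LocalizedModule.map q.primeCompl f) (LocalizedModule.map q.primeCompl u)
    (LocalizedModule.map q.primeCompl v)
    (LocalizedModule.map_injective _ f hf)
    (LocalizedModule.map_exact q.primeCompl f u hfu)
    (LocalizedModule.map_exact q.primeCompl u v huv)
    (LocalizedModule.map_surjective _ v hv) hGU'
    (by rw [depth_fib_eq]; exact h0) (by rw [depth_fib_eq]; exact h1)
  rw [depth_fib_eq, flat_iff, flat_iff] at key
  exact ⟨key.1, key.2.2⟩

end Core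

section Main
variable (A B : Type u) [CommRing A] [CommRing B] [IsNoetherianRing A] [IsNoetherianRing B]
  [Algebra A B] (J : Ideal B)
variable {F E0 E1 G : Type u} [AddCommGroup F] [Module B F] [Module A F] [IsScalarTower A B F]
  [Module.Finite B F]
  [AddCommGroup E0] [Module B E0] [Module A E0] [IsScalarTower A B E0] [Module.Finite B E0]
  [Module.Flat A E0]
  [AddCommGroup E1] [Module B E1] [Module A E1] [IsScalarTower A B E1] [Module.Finite B E1]
  [Module.Flat A E1]
  [AddCommGroup G] [Module B G] [Module A G] [IsScalarTower A B G] [Module.Finite B G]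
variable (f : F →ₗ[B] E0) (u : E0 →ₗ[B] E1) (v : E1 →ₗ[B] G)

omit [IsNoetherianRing A] [IsNoetherianRing B] [Module.Finite B F] [Module.Finite B E0]
  [Module.Finite B E1] [Module.Finite B G] in
/-- `G` flat at `q` ⇒ `F` flat at `q`. -/
theorem flatAt_F (q : Ideal B) [q.IsPrime]
    (hf : Injective f) (hfu : Exact f u) (huv : Exact u v) (hv : Surjective v)
    (hG : FlatCA.FlatAt A q G) : FlatCA.FlatAt A q F := by
  have hZ : FlatCA.FlatAt A q (LinearMap.range u) :=
    Groth.Agent.S18708.flatAt_ker q (LinearMap.range u).subtype v (Submodule.subtype_injective _)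
      (Groth.Agent.S18708.exact_subtype_range u v huv) hv hG
  exact Groth.Agent.S18708.flatAt_ker q f u.rangeRestrict hf
    (Groth.Agent.S18708.exact_rangeRestrict f u hfu) (LinearMap.surjective_rangeRestrict u) hZ

/-- flatness of `G` at all generizations of `n`, from fibrewise depth of `F`. -/
theorem flatAt_G_of_depth
    (hf : Injective f) (hfu : Exact f u) (huv : Exact u v) (hv : Surjective v)
    (hGU : ∀ q : PrimeSpectrum B, ¬ J ≤ q.asIdeal → FlatCA.FlatAt A q.asIdeal G)
    (h0 : ∀ q : PrimeSpectrum B, J ≤ q.asIdeal →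
      2 ≤ LocCoh.idealDepth (q.asIdeal.map (algebraMap B (EGA4.FibLocRing A B q.asIdeal)))
        (EGA4.FibLocMod A B q.asIdeal E0))
    (h1 : ∀ q : PrimeSpectrum B, J ≤ q.asIdeal →
      1 ≤ LocCoh.idealDepth (q.asIdeal.map (algebraMap B (EGA4.FibLocRing A B q.asIdeal)))
        (EGA4.FibLocMod A B q.asIdeal E1))
    (n : PrimeSpectrum B)
    (hF : ∀ q : PrimeSpectrum B, q.asIdeal ≤ n.asIdeal → J ≤ q.asIdeal →
      2 ≤ LocCoh.idealDepth (q.asIdeal.map (algebraMap B (EGA4.FibLocRing A B q.asIdeal)))
        (EGA4.FibLocMod A B q.asIdeal F)) :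
    FlatCA.FlatAt A n.asIdeal G := by
  have key : ∀ k : ℕ, ∀ q : PrimeSpectrum B, q.asIdeal ≤ n.asIdeal →
      q.asIdeal.height = (k : ℕ∞) → FlatCA.FlatAt A q.asIdeal G := by
    intro k
    induction k using Nat.strong_induction_on with
    | _ k ih =>
      intro q hqn hk
      by_cases hJq : J ≤ q.asIdeal
      · have hc := core A B q.asIdeal q.asIdeal f u v
          (Groth.Agent.S18708.flat_localizedModule (X := E0) q.asIdeal.primeCompl)
          (Groth.Agent.S18708.flat_localizedModule (X := E1) q.asIdeal.primeCompl)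
          hf hfu huv hv ?_ (h0 q hJq) (h1 q hJq)
        · exact hc.1.mp (hF q hqn hJq)
        · intro q' hq'q hnq
          have hlt : q'.asIdeal < q.asIdeal := lt_of_le_not_ge hq'q hnq
          have hh : q'.asIdeal.height < q.asIdeal.height :=
            Ideal.height_strict_mono_of_isPrime_of_isPrime hlt
          rw [hk] at hh
          obtain ⟨k', hk'⟩ := ENat.ne_top_iff_exists.mp (ne_top_of_lt hh)
          rw [← hk'] at hh
          exact ih k' (by exact_mod_cast hh) q' (hq'q.trans hqn) hk'.symm
      · exact hGU q hJq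
  obtain ⟨k, hk⟩ := ENat.ne_top_iff_exists.mp (Ideal.height_ne_top n.isPrime.ne_top)
  exact key k n le_rfl hk.symm

end Main
end Groth.Agent.Lib.H47FibPrime
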