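import Groth.Prelude.Def_FlatCA
import Mathlib

/-!
# helper47: mini-library on `FlatCA.fiberMod p S N = (κ(p) ⊗_R S) ⊗_S N`

* `tmul_eq_zero_imp`: `(1 : κ(p)) ⊗ n = 0` in `κ(p) ⊗_R N` implies `r • n ∈ pN` for some `r ∉ p`.
* `toFiberMod_eq_zero_iff`: zero criterion for `toFiberMod`.
* `exists_smul_eq_toFiberMod`: every element of the fibre module is, up to `r ∉ p`, in the image of `N`.
* `smul_eq_zero_of_mem`, `smul_injective_of_notMem`, `smul_surjective_of_notMem`.
-/

set_option autoImplicit false
set_option linter.unusedSectionVars false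
universe u
open TensorProduct

namespace Groth.Agent.Lib.H47FiberMod

section Step2

variable {R : Type u} [CommRing R] (N : Type u) [AddCommGroup N] [Module R N]
  (p : Ideal R) [p.IsPrime]

theorem tmul_eq_zero_imp (n : N) (h : (1 : p.ResidueField) ⊗ₜ[R] n = 0) :
    ∃ r ∉ p, r • n ∈ p • (⊤ : Submodule R N) := by
  have h1 : (1 : p.ResidueField) ⊗ₜ[R ⧸ p] ((1 : R ⧸ p) ⊗ₜ[R] n) = 0 := by
    have := congrArg (TensorProduct.AlgebraTensorModule.cancelBaseChange R (R ⧸ p)
      p.ResidueField p.ResidueField N).symm h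
    simpa using this
  have h2 : (TensorProduct.mk (R ⧸ p) p.ResidueField ((R ⧸ p) ⊗[R] N) 1)
      ((1 : R ⧸ p) ⊗ₜ[R] n) = 0 := h1
  rw [IsLocalizedModule.eq_zero_iff (nonZeroDivisors (R ⧸ p))] at h2
  obtain ⟨⟨c, hc⟩, hcn⟩ := h2
  obtain ⟨r, rfl⟩ := Ideal.Quotient.mk_surjective c
  refine ⟨r, ?_, ?_⟩
  · intro hr
    have : (Ideal.Quotient.mk p r) = 0 := Ideal.Quotient.eq_zero_iff_mem.mpr hr
    exact (nonZeroDivisors.ne_zero hc) this
  · have h3 : (Ideal.Quotient.mk p r) ⊗ₜ[R] n = (0 : (R ⧸ p) ⊗[R] N) := by
      have : (Ideal.Quotient.mk p r) • ((1 : R ⧸ p) ⊗ₜ[R] n) = 0 := hcn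
      rwa [TensorProduct.smul_tmul', smul_eq_mul, mul_one] at this
    have h4 := congrArg (TensorProduct.quotTensorEquivQuotSMul N p) h3
    rw [TensorProduct.quotTensorEquivQuotSMul_mk_tmul, map_zero] at h4
    exact (Submodule.Quotient.mk_eq_zero _).mp h4

end Step2

section Fiber

attribute [local instance] Algebra.TensorProduct.rightAlgebra

variable {R S : Type u} [CommRing R] [CommRing S] [Algebra R S] (N : Type u) [AddCommGroup N]
  [Module S N] [Module R N] [IsScalarTower R S N] (p : Ideal R) [p.IsPrime]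

/-- the bilinear map `(t, n) ↦ (id ⊗ (· • n)) t`. -/
noncomputable def phiBil : (p.Fiber S) →+ N →+ p.ResidueField ⊗[R] N :=
  AddMonoidHom.mk' (fun t => AddMonoidHom.mk' (fun n =>
      (LinearMap.lTensor p.ResidueField ((LinearMap.toSpanSingleton S N n).restrictScalars R)) t)
    (fun n n' => by
      have : ((LinearMap.toSpanSingleton S N (n + n')).restrictScalars R) =
          ((LinearMap.toSpanSingleton S N n).restrictScalars R) +
          ((LinearMap.toSpanSingleton S N n').restrictScalars R) := by
        ext s; simp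
      rw [this, LinearMap.lTensor_add, LinearMap.add_apply]))
    (fun t t' => by ext n; simp)

theorem phiBil_tmul (c : p.ResidueField) (s : S) (n : N) :
    phiBil N p (c ⊗ₜ[R] s) n = c ⊗ₜ[R] (s • n) := by
  simp [phiBil]

/-- the comparison map `(κ(p) ⊗_R S) ⊗_S N → κ(p) ⊗_R N`. -/
noncomputable def phi : (p.Fiber S) ⊗[S] N →+ p.ResidueField ⊗[R] N :=
  TensorProduct.liftAddHom (phiBil N p) (by
    intro s t n
    induction t using TensorProduct.induction_on with
    | zero => simp
    | tmul c s' =>
      have : s • (c ⊗ₜ[R] s' : p.Fiber S) = c ⊗ₜ[R] (s * s') := by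
        rw [Algebra.smul_def, Algebra.TensorProduct.right_algebraMap_apply,
          Algebra.TensorProduct.tmul_mul_tmul, one_mul]
      rw [this, phiBil_tmul, phiBil_tmul, mul_comm, mul_smul]
    | add x y hx hy =>
      rw [smul_add, map_add, map_add, AddMonoidHom.add_apply, AddMonoidHom.add_apply, hx, hy])

theorem phi_one_tmul (n : N) : phi N p ((1 : p.Fiber S) ⊗ₜ[S] n) = (1 : p.ResidueField) ⊗ₜ[R] n := by
  rw [phi, TensorProduct.liftAddHom_tmul, Algebra.TensorProduct.one_def, phiBil_tmul, one_smul]

omit [Module R N] [IsScalarTower R S N] in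
/-- compatibility of the `S`-action and the fibre-ring action on the fibre module. -/
theorem smul_eq_includeRight_smul (s : S) (x : FlatCA.fiberMod p S N) :
    s • x = ((1 : p.ResidueField) ⊗ₜ[R] s : p.Fiber S) • x := by
  revert x
  change ∀ x : (p.Fiber S) ⊗[S] N, s • x = ((1 : p.ResidueField) ⊗ₜ[R] s : p.Fiber S) • x
  intro x
  induction x using TensorProduct.induction_on with
  | zero => simp
  | tmul t n =>
    rw [TensorProduct.smul_tmul', TensorProduct.smul_tmul', Algebra.smul_def,
      Algebra.TensorProduct.right_algebraMap_apply, smul_eq_mul]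
  | add x y hx hy => rw [smul_add, smul_add, hx, hy]

theorem algebraMap_smul_eq (r : R) (x : FlatCA.fiberMod p S N) :
    (algebraMap R S r) • x = ((algebraMap R p.ResidueField r) ⊗ₜ[R] (1 : S) : p.Fiber S) • x := by
  rw [smul_eq_includeRight_smul]
  congr 1
  rw [Algebra.algebraMap_eq_smul_one, ← TensorProduct.smul_tmul, Algebra.algebraMap_eq_smul_one]

theorem smul_eq_zero_of_mem {r : R} (hr : r ∈ p) (x : FlatCA.fiberMod p S N) :
    (algebraMap R S r) • x = 0 := by
  rw [algebraMap_smul_eq, Ideal.algebraMap_residueField_eq_zero.mpr hr, TensorProduct.zero_tmul,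
    zero_smul]

theorem smul_eq_zero_of_mem_map {s : S} (hs : s ∈ p.map (algebraMap R S))
    (x : FlatCA.fiberMod p S N) : s • x = 0 := by
  have : p.map (algebraMap R S) ≤ Module.annihilator S (FlatCA.fiberMod p S N) := by
    rw [Ideal.map_le_iff_le_comap]
    intro r hr
    rw [Ideal.mem_comap, Module.mem_annihilator]
    exact smul_eq_zero_of_mem N p hr
  exact Module.mem_annihilator.mp (this hs) x

/-- elements outside `p` act invertibly on the fibre module. -/
theorem exists_inv_smul {r : R} (hr : r ∉ p) :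
    ∃ u : p.Fiber S, ∀ x : FlatCA.fiberMod p S N,
      (algebraMap R S r) • (u • x) = x ∧ u • ((algebraMap R S r) • x) = x := by
  have hne : algebraMap R p.ResidueField r ≠ 0 := by
    rwa [Ne, Ideal.algebraMap_residueField_eq_zero]
  refine ⟨((algebraMap R p.ResidueField r)⁻¹ ⊗ₜ[R] (1 : S) : p.Fiber S), fun x => ?_⟩
  have h1 : ((algebraMap R p.ResidueField r) ⊗ₜ[R] (1 : S) : p.Fiber S) *
      ((algebraMap R p.ResidueField r)⁻¹ ⊗ₜ[R] (1 : S) : p.Fiber S) = 1 := by
    rw [Algebra.TensorProduct.tmul_mul_tmul, mul_inv_cancel₀ hne, one_mul,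
      Algebra.TensorProduct.one_def]
  constructor
  · rw [algebraMap_smul_eq, ← mul_smul, h1, one_smul]
  · rw [algebraMap_smul_eq, ← mul_smul, mul_comm, h1, one_smul]

theorem smul_injective_of_notMem {r : R} (hr : r ∉ p) {x : FlatCA.fiberMod p S N}
    (h : (algebraMap R S r) • x = 0) : x = 0 := by
  obtain ⟨u, hu⟩ := exists_inv_smul N p (S := S) hr
  rw [← (hu x).2, h, smul_zero]

omit [Module R N] [IsScalarTower R S N] in
theorem toFiberMod_apply (n : N) :
    FlatCA.toFiberMod p S N n = ((1 : p.Fiber S) ⊗ₜ[S] n : (p.Fiber S) ⊗[S] N) := rfl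

/-- (L1) every element of the fibre module is, up to an element outside `p`, in the image of `N`. -/
theorem exists_smul_eq_toFiberMod (x : FlatCA.fiberMod p S N) :
    ∃ r ∉ p, ∃ n : N, (algebraMap R S r) • x = FlatCA.toFiberMod p S N n := by
  revert x
  change ∀ x : (p.Fiber S) ⊗[S] N, ∃ r ∉ p, ∃ n : N,
    (algebraMap R S r) • x = ((1 : p.Fiber S) ⊗ₜ[S] n : (p.Fiber S) ⊗[S] N)
  intro x
  induction x using TensorProduct.induction_on with
  | zero => exact ⟨1, fun h => (Ideal.IsPrime.ne_top ‹_›) ((Ideal.eq_top_iff_one _).mpr h), 0, by simp⟩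
  | tmul t n =>
    obtain ⟨r, hr, s, hs⟩ := Ideal.Fiber.exists_smul_eq_one_tmul p t
    refine ⟨r, hr, s • n, ?_⟩
    rw [TensorProduct.smul_tmul', algebraMap_smul, hs,
      ← TensorProduct.smul_tmul, Algebra.smul_def, Algebra.TensorProduct.right_algebraMap_apply,
      mul_one]
  | add x y hx hy =>
    obtain ⟨r1, hr1, n1, h1⟩ := hx
    obtain ⟨r2, hr2, n2, h2⟩ := hy
    refine ⟨r1 * r2, fun h => (Ideal.IsPrime.mem_or_mem ‹_› h).elim hr1 hr2,
      (algebraMap R S r2) • n1 + (algebraMap R S r1) • n2, ?_⟩
    rw [smul_add, map_mul, mul_comm, mul_smul, h1, mul_comm, mul_smul, h2,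
      TensorProduct.tmul_add, TensorProduct.tmul_smul, TensorProduct.tmul_smul]

/-- (L2) zero criterion for `toFiberMod`. -/
theorem toFiberMod_eq_zero_iff (n : N) :
    FlatCA.toFiberMod p S N n = 0 ↔
      ∃ r ∉ p, (algebraMap R S r) • n ∈ (p.map (algebraMap R S)) • (⊤ : Submodule S N) := by
  constructor
  · intro h
    have h1 : (1 : p.ResidueField) ⊗ₜ[R] n = 0 := by
      rw [← phi_one_tmul (S := S)]
      have : ((1 : p.Fiber S) ⊗ₜ[S] n : (p.Fiber S) ⊗[S] N) = 0 := h
      rw [this, map_zero]
    obtain ⟨r, hr, hrn⟩ := tmul_eq_zero_imp N p n h1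
    refine ⟨r, hr, ?_⟩
    have hle : p • (⊤ : Submodule R N) ≤
        ((p.map (algebraMap R S)) • (⊤ : Submodule S N)).restrictScalars R := by
      rw [Submodule.smul_le]
      intro a ha m _
      rw [Submodule.restrictScalars_mem, ← algebraMap_smul S a m]
      exact Submodule.smul_mem_smul (Ideal.mem_map_of_mem _ ha) Submodule.mem_top
    have := hle hrn
    rwa [Submodule.restrictScalars_mem, ← algebraMap_smul S r n] at this
  · rintro ⟨r, hr, hrn⟩
    have hkill : ∀ m ∈ (p.map (algebraMap R S)) • (⊤ : Submodule S N),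
        FlatCA.toFiberMod p S N m = 0 := by
      intro m hm
      refine Submodule.smul_induction_on hm ?_ ?_
      · intro s hs m _
        rw [map_smul]; exact smul_eq_zero_of_mem_map N p hs _
      · intro x y hx hy
        rw [map_add, hx, hy, add_zero]
    have := hkill _ hrn
    rw [map_smul] at this
    exact smul_injective_of_notMem N p hr this

theorem smul_smul_fiber (r : R) (t : p.Fiber S) (x : FlatCA.fiberMod p S N) :
    (r • t) • x = (algebraMap R S r) • (t • x) := by
  rw [algebraMap_smul_eq, ← mul_smul, Algebra.smul_def, Algebra.TensorProduct.algebraMap_apply]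

/-- if `r • t = 1 ⊗ s` with `r ∉ p` then `t` kills `x` iff `s` kills `x`. -/
theorem smul_eq_zero_iff_of_smul_eq {r : R} (hr : r ∉ p) {t : p.Fiber S} {s : S}
    (h : r • t = (1 : p.ResidueField) ⊗ₜ[R] s) (x : FlatCA.fiberMod p S N) :
    t • x = 0 ↔ s • x = 0 := by
  rw [smul_eq_includeRight_smul, ← h, smul_smul_fiber]
  constructor
  · intro h0; rw [h0, smul_zero]
  · intro h0; exact smul_injective_of_notMem N p hr h0

/-- the annihilator (in the fibre ring) of an element whose `S`-annihilator is prime is prime. -/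
theorem isPrime_annihilator_of_isPrime (x : FlatCA.fiberMod p S N)
    (hq : ((Submodule.span S {x}).annihilator).IsPrime) :
    ((Submodule.span (p.Fiber S) {x}).annihilator).IsPrime := by
  have hx : x ≠ 0 := by
    rintro rfl
    apply hq.ne_top
    rw [Ideal.eq_top_iff_one, Submodule.mem_annihilator_span_singleton, smul_zero]
  refine ⟨?_, ?_⟩
  · intro htop
    rw [Ideal.eq_top_iff_one, Submodule.mem_annihilator_span_singleton, one_smul] at htop
    exact hx htop
  · intro t1 t2 h12
    obtain ⟨r1, hr1, s1, h1⟩ := Ideal.Fiber.exists_smul_eq_one_tmul p t1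
    obtain ⟨r2, hr2, s2, h2⟩ := Ideal.Fiber.exists_smul_eq_one_tmul p t2
    have hr12 : r1 * r2 ∉ p := fun h => (Ideal.IsPrime.mem_or_mem ‹_› h).elim hr1 hr2
    have h12' : (r1 * r2) • (t1 * t2) = (1 : p.ResidueField) ⊗ₜ[R] (s1 * s2) := by
      rw [← smul_mul_smul_comm, h1, h2, Algebra.TensorProduct.tmul_mul_tmul, one_mul]
    have hs12 : s1 * s2 ∈ (Submodule.span S {x}).annihilator := by
      rw [Submodule.mem_annihilator_span_singleton,
        ← smul_eq_zero_iff_of_smul_eq N p hr12 h12' x]
      exact (Submodule.mem_annihilator_span_singleton _ _).mp h12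
    rcases hq.mem_or_mem hs12 with h | h
    · left
      rw [Submodule.mem_annihilator_span_singleton, smul_eq_zero_iff_of_smul_eq N p hr1 h1 x]
      exact (Submodule.mem_annihilator_span_singleton _ _).mp h
    · right
      rw [Submodule.mem_annihilator_span_singleton, smul_eq_zero_iff_of_smul_eq N p hr2 h2 x]
      exact (Submodule.mem_annihilator_span_singleton _ _).mp h

/-- the `S`-annihilator of an element is the contraction of its fibre-ring annihilator. -/
theorem comap_annihilator (x : FlatCA.fiberMod p S N) :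
    ((Submodule.span (p.Fiber S) {x}).annihilator).comap
      (Algebra.TensorProduct.includeRight (R := R) (A := p.ResidueField) (B := S)).toRingHom =
      (Submodule.span S {x}).annihilator := by
  ext s
  rw [Ideal.mem_comap, Submodule.mem_annihilator_span_singleton,
    Submodule.mem_annihilator_span_singleton, smul_eq_includeRight_smul]
  rfl

/-- annihilator of `toFiberMod n` in terms of the annihilator of the class of `n` in `N/pN`. -/
theorem mem_annihilator_toFiberMod_iff (n : N) (s : S) :
    s ∈ (Submodule.span S {FlatCA.toFiberMod p S N n}).annihilator ↔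
      ∃ r ∉ p, (algebraMap R S r) * s ∈ (Submodule.span S
        {(Submodule.Quotient.mk n : N ⧸ (p.map (algebraMap R S)) • (⊤ : Submodule S N))}).annihilator := by
  rw [Submodule.mem_annihilator_span_singleton, ← map_smul, toFiberMod_eq_zero_iff]
  refine exists_congr fun r => and_congr Iff.rfl ?_
  rw [Submodule.mem_annihilator_span_singleton, ← Submodule.Quotient.mk_smul,
    Submodule.Quotient.mk_eq_zero, mul_smul]

theorem annihilator_smul_eq {r : R} (hr : r ∉ p) (x : FlatCA.fiberMod p S N) :
    (Submodule.span S {(algebraMap R S r) • x}).annihilator = (Submodule.span S {x}).annihilator := by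
  ext s
  rw [Submodule.mem_annihilator_span_singleton, Submodule.mem_annihilator_span_singleton, smul_comm]
  constructor
  · intro h; exact smul_injective_of_notMem N p hr h
  · intro h; rw [h, smul_zero]

/-- every annihilator of an element of the fibre module is the annihilator of some `toFiberMod n`. -/
theorem exists_annihilator_eq_toFiberMod (x : FlatCA.fiberMod p S N) :
    ∃ n : N, (Submodule.span S {x}).annihilator =
      (Submodule.span S {FlatCA.toFiberMod p S N n}).annihilator := by
  obtain ⟨r, hr, n, hn⟩ := exists_smul_eq_toFiberMod N p x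
  exact ⟨n, by rw [← hn, annihilator_smul_eq N p hr]⟩

omit [p.IsPrime] in
/-- `pN` computed over `S` or over `R` has the same elements. -/
theorem mem_smul_top_iff (n : N) :
    n ∈ (p.map (algebraMap R S)) • (⊤ : Submodule S N) ↔ n ∈ p • (⊤ : Submodule R N) := by
  constructor
  · intro hn
    -- the set of `s` with `s • N ⊆ pN` is an ideal containing the image of `p`
    let J : Ideal S :=
      { carrier := {s | ∀ m : N, s • m ∈ p • (⊤ : Submodule R N)}
        add_mem' := fun {a b} ha hb m => by rw [add_smul]; exact add_mem (ha m) (hb m)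
        zero_mem' := fun m => by rw [zero_smul]; exact zero_mem _
        smul_mem' := fun c a ha m => by
          rw [smul_eq_mul, mul_comm, mul_smul]; exact ha (c • m) }
    have hJ : p.map (algebraMap R S) ≤ J := by
      rw [Ideal.map_le_iff_le_comap]
      intro a ha m
      rw [algebraMap_smul]
      exact Submodule.smul_mem_smul ha Submodule.mem_top
    refine Submodule.smul_induction_on hn ?_ ?_
    · intro s hs m _
      exact hJ hs m
    · intro x y hx hy
      exact add_mem hx hy
  · intro hn
    refine Submodule.smul_induction_on hn ?_ ?_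
    · intro a ha m _
      rw [← algebraMap_smul S a m]
      exact Submodule.smul_mem_smul (Ideal.mem_map_of_mem _ ha) Submodule.mem_top
    · intro x y hx hy
      exact add_mem hx hy

/-- flatness: elements outside `p` act injectively on `N/pN`. -/
theorem mem_of_smul_mem_of_flat [Module.Flat R N] {r : R} (hr : r ∉ p) {n : N}
    (h : (algebraMap R S r) • n ∈ (p.map (algebraMap R S)) • (⊤ : Submodule S N)) :
    n ∈ (p.map (algebraMap R S)) • (⊤ : Submodule S N) := by
  rw [mem_smul_top_iff] at h ⊢
  rw [algebraMap_smul] at h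
  have hne : Ideal.Quotient.mk p r ≠ 0 := fun h0 => hr (Ideal.Quotient.eq_zero_iff_mem.mp h0)
  have hreg : IsSMulRegular ((R ⧸ p) ⊗[R] N) (Ideal.Quotient.mk p r) :=
    Module.Flat.isSMulRegular_of_nonZeroDivisors (M := (R ⧸ p) ⊗[R] N)
      (mem_nonZeroDivisors_of_ne_zero hne)
  have h1 : (Ideal.Quotient.mk p r) ⊗ₜ[R] n = (0 : (R ⧸ p) ⊗[R] N) := by
    apply (TensorProduct.quotTensorEquivQuotSMul N p).injective
    rw [TensorProduct.quotTensorEquivQuotSMul_mk_tmul, map_zero]
    exact (Submodule.Quotient.mk_eq_zero _).mpr h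
  have h2 : (1 : R ⧸ p) ⊗ₜ[R] n = (0 : (R ⧸ p) ⊗[R] N) := by
    apply hreg
    simp only [smul_zero]
    rw [TensorProduct.smul_tmul', smul_eq_mul, mul_one]
    exact h1
  have h3 := congrArg (TensorProduct.quotTensorEquivQuotSMul N p) h2
  rw [← map_one (Ideal.Quotient.mk p), TensorProduct.quotTensorEquivQuotSMul_mk_tmul, map_zero,
    one_smul] at h3
  exact (Submodule.Quotient.mk_eq_zero _).mp h3

end Fiber

section AssExact

variable {S : Type u} [CommRing S] {A B C : Type u} [AddCommGroup A] [AddCommGroup B]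
  [AddCommGroup C] [Module S A] [Module S B] [Module S C]

theorem annihilator_map_of_injective (f : A →ₗ[S] B) (hf : Function.Injective f) (a : A) :
    (Submodule.span S {f a}).annihilator = (Submodule.span S {a}).annihilator := by
  ext s
  rw [Submodule.mem_annihilator_span_singleton, Submodule.mem_annihilator_span_singleton,
    ← map_smul, ← map_zero f, hf.eq_iff]

theorem ass_subset_of_injective (f : A →ₗ[S] B) (hf : Function.Injective f) :
    FlatCA.ass S A ⊆ FlatCA.ass S B := by
  rintro q ⟨hq, a, ha⟩
  exact ⟨hq, f a, by rw [annihilator_map_of_injective f hf, ha]⟩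

/-- associated primes (annihilators of elements) and short exact sequences. -/
theorem ass_subset_union_of_exact (f : A →ₗ[S] B) (g : B →ₗ[S] C) (hf : Function.Injective f)
    (hfg : Function.Exact f g) : FlatCA.ass S B ⊆ FlatCA.ass S A ∪ FlatCA.ass S C := by
  rintro q ⟨hq, b, hb⟩
  by_cases h : ∃ s, s ∉ q ∧ g (s • b) = 0
  · obtain ⟨s, hs, hgs⟩ := h
    obtain ⟨a, ha⟩ := (hfg _).mp hgs
    left
    refine ⟨hq, a, ?_⟩
    rw [← annihilator_map_of_injective f hf, ha]
    ext t
    rw [Submodule.mem_annihilator_span_singleton, smul_smul, ← Submodule.mem_annihilator_span_singleton,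
      ← hb]
    constructor
    · intro ht; exact Ideal.mul_mem_right _ _ ht
    · intro ht; exact (hq.mem_or_mem ht).resolve_right hs
  · push Not at h
    right
    refine ⟨hq, g b, ?_⟩
    ext t
    rw [Submodule.mem_annihilator_span_singleton, ← map_smul]
    constructor
    · intro ht
      rw [hb, Submodule.mem_annihilator_span_singleton] at ht
      rw [ht, map_zero]
    · intro ht
      by_contra htq
      exact h t htq ht

end AssExact

end Groth.Agent.Lib.H47FiberMod
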