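import Mathlib
import Groth.Agent.Lib.H47Reflexive

/-!
# Four-term free presentations of reflexive modules (helper47)

* `exists_section_of_regular`, `exists_regular_inverse`, `regular_transpose`: von Neumann regular
  linear maps (`h θ h = h`): cokernel of a regular map is a retract of the target; a map between
  projectives with projective cokernel is regular; the transpose of a regular matrix is regular.
* `locVec`, `nonempty_locCoker_equiv`: localization of the cokernel of a matrix is the cokernel of
  the localized matrix.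
* `gMap`, `gMap_injective`, `exact_gMap`: dualizing a presentation `B^m -Ψ-> B^n -π-> F* -> 0` of the
  dual of a reflexive module gives `0 -> F -> B^n -Ψᵀ-> B^m`.
* `free_coker_transpose` (local ring: coker X projective ⇒ coker Xᵀ free), `free_localized_dual`.
-/

set_option autoImplicit false
set_option backward.isDefEq.respectTransparency.types false

universe u

namespace Groth.Agent.Lib.H47FourTerm

open Matrix

section Regular

variable {S : Type*} [CommRing S] {P Q G : Type*} [AddCommGroup P] [Module S P]
  [AddCommGroup Q] [Module S Q] [AddCommGroup G] [Module S G]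

/-- the cokernel of a von Neumann regular map is a retract of the target -/
lemma exists_section_of_regular (h : P →ₗ[S] Q) (θ : Q →ₗ[S] P) (hθ : h ∘ₗ θ ∘ₗ h = h)
    (p : Q →ₗ[S] G) (hp : Function.Surjective p) (hex : Function.Exact h p) :
    ∃ s : G →ₗ[S] Q, p ∘ₗ s = LinearMap.id := by
  -- `1 - hθ` kills `range h = ker p`
  let e : Q →ₗ[S] Q := LinearMap.id - h ∘ₗ θ
  have he : LinearMap.ker p ≤ LinearMap.ker e := by
    intro x hx
    obtain ⟨y, rfl⟩ := (hex x).mp hx
    have := LinearMap.congr_fun hθ y
    simp only [LinearMap.comp_apply] at this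
    simp [e, this]
  let s : G →ₗ[S] Q := (LinearMap.ker p).liftQ e he ∘ₗ (p.quotKerEquivOfSurjective hp).symm.toLinearMap
  refine ⟨s, ?_⟩
  apply LinearMap.ext
  intro g
  obtain ⟨x, rfl⟩ := hp g
  have h1 : (p.quotKerEquivOfSurjective hp).symm (p x) = Submodule.Quotient.mk x := by
    apply (p.quotKerEquivOfSurjective hp).injective
    rw [LinearEquiv.apply_symm_apply]
    rfl
  simp only [LinearMap.comp_apply, LinearEquiv.coe_coe, LinearMap.id_apply, s]
  rw [h1, Submodule.liftQ_apply]
  simp only [e, LinearMap.sub_apply, LinearMap.id_apply, LinearMap.comp_apply, map_sub]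
  rw [hex.apply_apply_eq_zero, sub_zero]

/-- a map between projectives with projective cokernel is von Neumann regular -/
lemma exists_regular_inverse {C : Type*} [AddCommGroup C] [Module S C] (ψ : P →ₗ[S] Q)
    [Module.Projective S Q] (p₀ : Q →ₗ[S] C) [Module.Projective S C]
    (hp : Function.Surjective p₀) (hex : Function.Exact ψ p₀) :
    ∃ θ : Q →ₗ[S] P, ψ ∘ₗ θ ∘ₗ ψ = ψ := by
  obtain ⟨σ, hσ⟩ := Module.projective_lifting_property p₀ LinearMap.id hp
  let K := LinearMap.range ψ
  let r : Q →ₗ[S] Q := LinearMap.id - σ ∘ₗ p₀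
  have hr : ∀ x, r x ∈ K := by
    intro x
    change r x ∈ LinearMap.range ψ
    rw [← hex.linearMap_ker_eq, LinearMap.mem_ker]
    have := LinearMap.congr_fun hσ (p₀ x)
    simp only [LinearMap.comp_apply, LinearMap.id_apply] at this
    simp [r, this]
  let r' : Q →ₗ[S] K := r.codRestrict K hr
  have hr' : r' ∘ₗ K.subtype = LinearMap.id := by
    apply LinearMap.ext
    rintro ⟨k, hk⟩
    apply Subtype.ext
    obtain ⟨y, rfl⟩ := hk
    simp [r', r, hex.apply_apply_eq_zero]
  have : Module.Projective S K := Module.Projective.of_split K.subtype r' hr'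
  obtain ⟨τ, hτ⟩ := Module.projective_lifting_property ψ.rangeRestrict LinearMap.id
    ψ.surjective_rangeRestrict
  refine ⟨τ ∘ₗ r', ?_⟩
  apply LinearMap.ext
  intro x
  have h1 : r' (ψ x) = ⟨ψ x, LinearMap.mem_range_self ψ x⟩ := by
    apply Subtype.ext
    simp [r', r, hex.apply_apply_eq_zero]
  have h2 := LinearMap.congr_fun hτ ⟨ψ x, LinearMap.mem_range_self ψ x⟩
  have h3 := congrArg Subtype.val h2
  simp only [LinearMap.comp_apply, LinearMap.id_apply, LinearMap.codRestrict_apply] at h3
  simp only [LinearMap.comp_apply]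
  rw [h1]
  exact h3

end Regular


section Transpose

variable {S : Type*} [CommRing S] {a b : ℕ}

lemma regular_transpose (X : Matrix (Fin a) (Fin b) S) (θ : (Fin a → S) →ₗ[S] (Fin b → S))
    (h : Matrix.toLin' X ∘ₗ θ ∘ₗ Matrix.toLin' X = Matrix.toLin' X) :
    ∃ θ' : (Fin b → S) →ₗ[S] (Fin a → S),
      Matrix.toLin' Xᵀ ∘ₗ θ' ∘ₗ Matrix.toLin' Xᵀ = Matrix.toLin' Xᵀ := by
  have h1 : X * LinearMap.toMatrix' θ * X = X := by
    apply Matrix.toLin'.injective
    rw [Matrix.toLin'_mul, Matrix.toLin'_mul, Matrix.toLin'_toMatrix', LinearMap.comp_assoc]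
    exact h
  refine ⟨Matrix.toLin' (LinearMap.toMatrix' θ)ᵀ, ?_⟩
  rw [← Matrix.toLin'_mul, ← Matrix.toLin'_mul, ← Matrix.transpose_mul, ← Matrix.transpose_mul,
    h1]

end Transpose


section Loc

variable {R : Type u} [CommRing R] (p : Submonoid R)

local notation "S" => Localization p

/-- componentwise localization of vectors -/
noncomputable def locVec (k : ℕ) : (Fin k → R) →ₗ[R] (Fin k → S) :=
  LinearMap.pi fun i => Algebra.linearMap R S ∘ₗ LinearMap.proj i

instance (k : ℕ) : IsLocalizedModule p (locVec p k) := by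
  unfold locVec
  infer_instance

lemma locVec_apply (k : ℕ) (v : Fin k → R) (i : Fin k) : locVec p k v i = algebraMap R S (v i) := rfl

variable {a b : ℕ} (X : Matrix (Fin a) (Fin b) R)

lemma locVec_mulVec (w : Fin b → R) :
    locVec p a (Matrix.toLin' X w) = Matrix.toLin' (X.map (algebraMap R S)) (locVec p b w) := by
  ext i
  simp only [locVec_apply, Matrix.toLin'_apply]
  rw [RingHom.map_mulVec]
  rfl

lemma map_toLin' :
    IsLocalizedModule.map p (locVec p b) (locVec p a) (Matrix.toLin' X) =
      (Matrix.toLin' (X.map (algebraMap R S))).restrictScalars R := by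
  apply IsLocalizedModule.ext p (locVec p b) (IsLocalizedModule.map_units (locVec p a))
  apply LinearMap.ext
  intro w
  rw [LinearMap.comp_apply, IsLocalizedModule.map_apply, LinearMap.comp_apply]
  exact locVec_mulVec p X w

lemma localized'_range :
    (LinearMap.range (Matrix.toLin' X)).localized' S p (locVec p a) =
      LinearMap.range (Matrix.toLin' (X.map (algebraMap R S))) := by
  rw [LinearMap.localized'_range_eq_range_localizedMap S p (locVec p b) (locVec p a)]
  congr 1
  apply LinearMap.ext
  intro v
  rw [LinearMap.extendScalarsOfIsLocalization_apply', map_toLin']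
  rfl

/-- localization of the cokernel of a matrix -/
theorem nonempty_locCoker_equiv :
    Nonempty (LocalizedModule p ((Fin a → R) ⧸ LinearMap.range (Matrix.toLin' X)) ≃ₗ[S]
      ((Fin a → S) ⧸ LinearMap.range (Matrix.toLin' (X.map (algebraMap R S))))) := by
  let M' := LinearMap.range (Matrix.toLin' X)
  let φ := M'.toLocalizedQuotient' S p (locVec p a)
  let e1 : LocalizedModule p ((Fin a → R) ⧸ M') ≃ₗ[S]
      ((Fin a → S) ⧸ M'.localized' S p (locVec p a)) :=
    (IsLocalizedModule.linearEquiv p (LocalizedModule.mkLinearMap p _) φ).extendScalarsOfIsLocalization p S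
  exact ⟨e1 ≪≫ₗ Submodule.quotEquivOfEq _ _ (localized'_range p X)⟩

end Loc


section Global

variable {B : Type u} [CommRing B] {F : Type u} [AddCommGroup F] [Module B F]
  {n m : ℕ} (π : (Fin n → B) →ₗ[B] Module.Dual B F) (Ψ : Matrix (Fin n) (Fin m) B)

/-- the map `F → Bⁿ`, `x ↦ (π(eᵢ)(x))ᵢ` -/
noncomputable def gMap : F →ₗ[B] (Fin n → B) := LinearMap.pi fun i => π (Pi.single i 1)

lemma gMap_apply (x : F) (i : Fin n) : gMap π x i = π (Pi.single i 1) x := rfl

lemma pi_apply_eq (w : Fin n → B) (x : F) : π w x = w ⬝ᵥ gMap π x := by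
  have h1 : w = ∑ i, w i • (Pi.single i 1 : Fin n → B) := by
    ext j
    simp [Finset.sum_apply, Pi.single_apply]
  conv_lhs => rw [h1]
  rw [map_sum, LinearMap.sum_apply]
  simp only [map_smul, LinearMap.smul_apply, dotProduct, gMap_apply, smul_eq_mul]

lemma gMap_injective [Module.IsReflexive B F] (hπ : Function.Surjective π) :
    Function.Injective (gMap π) := by
  rw [injective_iff_map_eq_zero]
  intro x hx
  apply (Module.bijective_dual_eval B F).1
  rw [map_zero]
  apply LinearMap.ext
  intro φ
  obtain ⟨w, rfl⟩ := hπ φ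
  rw [Module.Dual.eval_apply, pi_apply_eq, hx, dotProduct_zero, LinearMap.zero_apply]

lemma exact_gMap [Module.IsReflexive B F] (hπ : Function.Surjective π)
    (hΨ : LinearMap.range (Matrix.toLin' Ψ) = LinearMap.ker π) :
    Function.Exact (gMap π) (Matrix.toLin' Ψᵀ) := by
  intro v
  constructor
  · intro hv
    -- the functional `π w ↦ w ⬝ᵥ v`
    let dv : (Fin n → B) →ₗ[B] B :=
      { toFun := fun w => w ⬝ᵥ v
        map_add' := fun w w' => add_dotProduct w w' v
        map_smul' := fun c w => smul_dotProduct c w v }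
    have hle : LinearMap.ker π ≤ LinearMap.ker dv := by
      intro w hw
      rw [← hΨ] at hw
      obtain ⟨u, rfl⟩ := hw
      change (Matrix.toLin' Ψ u) ⬝ᵥ v = 0
      rw [Matrix.toLin'_apply, dotProduct_comm, Matrix.dotProduct_mulVec, ← Matrix.mulVec_transpose,
        ← Matrix.toLin'_apply, hv, zero_dotProduct]
    let Λ : Module.Dual B F →ₗ[B] B :=
      (LinearMap.ker π).liftQ dv hle ∘ₗ (π.quotKerEquivOfSurjective hπ).symm.toLinearMap
    have hΛ : ∀ w, Λ (π w) = w ⬝ᵥ v := by
      intro w
      have h1 : (π.quotKerEquivOfSurjective hπ).symm (π w) = Submodule.Quotient.mk w := by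
        apply (π.quotKerEquivOfSurjective hπ).injective
        rw [LinearEquiv.apply_symm_apply]
        rfl
      simp only [Λ, LinearMap.comp_apply, LinearEquiv.coe_coe]
      rw [h1, Submodule.liftQ_apply]
      rfl
    obtain ⟨x, hx⟩ := (Module.bijective_dual_eval B F).2 Λ
    refine ⟨x, ?_⟩
    ext i
    rw [gMap_apply, ← Module.Dual.eval_apply, hx, hΛ, single_dotProduct, one_mul]
  · rintro ⟨x, rfl⟩
    ext j
    rw [Matrix.toLin'_apply, Matrix.mulVec_transpose, Pi.zero_apply]
    have h1 : Matrix.toLin' Ψ (Pi.single j 1) ∈ LinearMap.ker π := by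
      rw [← hΨ]
      exact LinearMap.mem_range_self _ _
    have h2 := pi_apply_eq π (Matrix.toLin' Ψ (Pi.single j 1)) x
    rw [LinearMap.mem_ker.mp h1, LinearMap.zero_apply] at h2
    rw [h2, Matrix.toLin'_apply, Matrix.mulVec_single_one, dotProduct_comm]
    rfl

end Global


section Local

variable {S : Type u} [CommRing S] [IsLocalRing S] {a b : ℕ}

/-- over a local ring: if the cokernel of a matrix is projective, the cokernel of its transpose
is free -/
theorem free_coker_transpose (X : Matrix (Fin a) (Fin b) S)
    (hX : Module.Projective S ((Fin a → S) ⧸ LinearMap.range (Matrix.toLin' X))) :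
    Module.Free S ((Fin b → S) ⧸ LinearMap.range (Matrix.toLin' Xᵀ)) := by
  obtain ⟨θ, hθ⟩ := exists_regular_inverse (Matrix.toLin' X)
    (LinearMap.range (Matrix.toLin' X)).mkQ (Submodule.mkQ_surjective _)
    (LinearMap.exact_map_mkQ_range _)
  obtain ⟨θ', hθ'⟩ := regular_transpose X θ hθ
  obtain ⟨s, hs⟩ := exists_section_of_regular (Matrix.toLin' Xᵀ) θ' hθ'
    (LinearMap.range (Matrix.toLin' Xᵀ)).mkQ (Submodule.mkQ_surjective _)
    (LinearMap.exact_map_mkQ_range _)
  have : Module.Projective S ((Fin b → S) ⧸ LinearMap.range (Matrix.toLin' Xᵀ)) :=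
    Module.Projective.of_split s _ hs
  exact Module.free_of_flat_of_isLocalRing

end Local

section Main

variable {B : Type u} [CommRing B] [IsNoetherianRing B] (F : Type u) [AddCommGroup F] [Module B F]
  [Module.Finite B F] (q : Ideal B) [q.IsPrime]

open Groth.Agent.Lib.H47Reflexive in
/-- the localized dual of a module which is free at `q` is free -/
theorem free_localized_dual
    (hF : Module.Free (Localization.AtPrime q) (LocalizedModule q.primeCompl F)) :
    Module.Free (Localization.AtPrime q) (LocalizedModule q.primeCompl (Module.Dual B F)) := by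
  have e : LocalizedModule q.primeCompl (Module.Dual B F) ≃ₗ[Localization.AtPrime q]
      Module.Dual (Localization.AtPrime q) (LocalizedModule q.primeCompl F) :=
    (IsLocalizedModule.linearEquiv q.primeCompl (LocalizedModule.mkLinearMap q.primeCompl _)
      (dualLoc q F)).extendScalarsOfIsLocalization q.primeCompl (Localization.AtPrime q)
  have : Module.Free (Localization.AtPrime q)
      (Module.Dual (Localization.AtPrime q) (LocalizedModule q.primeCompl F)) := inferInstance
  exact Module.Free.of_equiv e.symm

end Main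


end Groth.Agent.Lib.H47FourTerm
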