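import Groth.Agent.Lib.H47FibD2
set_option autoImplicit false
set_option backward.isDefEq.respectTransparency.types false
set_option linter.style.haveILetI false
universe u

/-!
# Hom into a depth-two module (helper47)

`D2 J P` (elementwise `depth_J P ≥ 2`): `d2_top`, `d2_mul`, `d2_pow`, `d2_of_pow_le` (the ideal may
be enlarged up to radical); `exists_pow_smul_mem_range`; `bijective_comp`: if `θ : X → Y` has kernel
and cokernel vanishing off `V(J)` (`Y` finite, `B` Noetherian) then `Hom(Y,P) → Hom(X,P)` is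
bijective for every `P` with `D2 J P`.
-/

namespace Groth.Agent.Lib.H47HomIso
open TensorProduct Function IsLocalRing Groth.Agent.Lib.H47Reflexive Groth.Agent.S18706
  Groth.Agent.S18705

section Pow
variable {B : Type u} [CommRing B] {P : Type u} [AddCommGroup P] [Module B P]

theorem d2_top : D2 (⊤ : Ideal B) P :=
  ⟨fun x hx => by simpa using hx 1 trivial,
   fun φ => ⟨φ ⟨1, trivial⟩, fun a => by
    have : a = (a : B) • (⟨1, trivial⟩ : (⊤ : Ideal B)) := Subtype.ext (by simp)
    conv_lhs => rw [this, map_smul]⟩⟩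

theorem d2_mul (J K : Ideal B) (hJ : D2 J P) (hK : D2 K P) : D2 (J * K) P := by
  constructor
  · intro x hx
    refine hK.1 x fun k hk => hJ.1 _ fun a ha => ?_
    rw [← mul_smul]
    exact hx _ (Ideal.mul_mem_mul ha hk)
  · intro φ
    -- for each `k ∈ K` the map `a ↦ φ (a k)` on `J`
    let φk : K → (J →ₗ[B] P) := fun k =>
      { toFun := fun a => φ ⟨(a : B) * k, Ideal.mul_mem_mul a.2 k.2⟩
        map_add' := fun a b => by
          rw [← map_add]
          congr 1
          exact Subtype.ext (add_mul _ _ _)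
        map_smul' := fun r a => by
          rw [RingHom.id_apply, ← map_smul]
          congr 1
          exact Subtype.ext (by simp [mul_assoc]) }
    have hex : ∀ k : K, ∃ c : P, ∀ a : J, φk k a = (a : B) • c := fun k => hJ.2 (φk k)
    choose c hc using hex
    have hcadd : ∀ k k' : K, c (k + k') = c k + c k' := by
      intro k k'
      rw [← sub_eq_zero]
      refine hJ.1 _ fun a ha => ?_
      rw [smul_sub, smul_add, ← hc (k + k') ⟨a, ha⟩, ← hc k ⟨a, ha⟩, ← hc k' ⟨a, ha⟩, sub_eq_zero]
      change φ _ = φ _ + φ _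
      rw [← map_add]
      congr 1
      exact Subtype.ext (mul_add _ _ _)
    have hcsmul : ∀ (r : B) (k : K), c (r • k) = r • c k := by
      intro r k
      rw [← sub_eq_zero]
      refine hJ.1 _ fun a ha => ?_
      rw [smul_sub, smul_comm a r, ← hc (r • k) ⟨a, ha⟩, ← hc k ⟨a, ha⟩, sub_eq_zero]
      change φ _ = r • φ _
      rw [← map_smul]
      congr 1
      exact Subtype.ext (by simp [mul_left_comm])
    let cl : K →ₗ[B] P := { toFun := c, map_add' := hcadd, map_smul' := hcsmul }
    obtain ⟨m, hm⟩ := hK.2 cl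
    refine ⟨m, ?_⟩
    rintro ⟨b, hb⟩
    refine Submodule.mul_induction_on' (C := fun b hb => φ ⟨b, hb⟩ = b • m) ?_ ?_ hb
    · intro a ha k hk
      have h1 := hc ⟨k, hk⟩ ⟨a, ha⟩
      have h2 := hm ⟨k, hk⟩
      change c ⟨k, hk⟩ = k • m at h2
      change φ _ = a • c ⟨k, hk⟩ at h1
      rw [h2, ← mul_smul] at h1
      exact h1
    · intro x hx y hy h1 h2
      have e1 : (⟨x + y, add_mem hx hy⟩ : (J * K : Ideal B)) = ⟨x, hx⟩ + ⟨y, hy⟩ := rfl
      rw [e1, map_add, h1, h2, add_smul]

theorem d2_pow (J : Ideal B) (hJ : D2 J P) (n : ℕ) : D2 (J ^ n) P := by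
  induction n with
  | zero => rw [pow_zero, Ideal.one_eq_top]; exact d2_top
  | succ n ih => rw [pow_succ]; exact d2_mul _ _ ih hJ

/-- enlarging the ideal up to radical. -/
theorem d2_of_pow_le (J I : Ideal B) (hJ : D2 J P) (n : ℕ) (h : J ^ n ≤ I) : D2 I P := by
  have hn := d2_pow J hJ n
  constructor
  · intro x hx
    exact hn.1 x fun a ha => hx a (h ha)
  · intro φ
    let ψ : (J ^ n : Ideal B) →ₗ[B] P := φ.comp (Submodule.inclusion h)
    obtain ⟨m, hm⟩ := hn.2 ψ
    refine ⟨m, fun b => ?_⟩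
    rw [← sub_eq_zero]
    refine hn.1 _ fun a ha => ?_
    have h1 := hm ⟨a * b, Ideal.mul_mem_right _ _ ha⟩
    have e1 : Submodule.inclusion h ⟨a * b, Ideal.mul_mem_right _ _ ha⟩ = a • b :=
      Subtype.ext rfl
    rw [smul_sub, sub_eq_zero, ← map_smul, ← e1]
    change ψ _ = _
    rw [h1, mul_smul]

end Pow

section HomIso
variable {B : Type u} [CommRing B] [IsNoetherianRing B] (J : Ideal B)
  {X Y : Type u} [AddCommGroup X] [Module B X] [AddCommGroup Y] [Module B Y] [Module.Finite B Y]
  (θ : X →ₗ[B] Y)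
  {P : Type u} [AddCommGroup P] [Module B P]

/-- a power of `J` maps `Y` into the range of `θ` if the cokernel vanishes off `V(J)`. -/
theorem exists_pow_smul_mem_range
    (hc : ∀ y : Y, ∀ q : Ideal B, q.IsPrime → ¬ J ≤ q → ∃ s ∉ q, s • y ∈ LinearMap.range θ) :
    ∃ n : ℕ, ∀ a ∈ J ^ n, ∀ y : Y, a • y ∈ LinearMap.range θ := by
  let 𝔠 : Ideal B := (LinearMap.range θ).colon (⊤ : Submodule B Y)
  have hrad : J ≤ 𝔠.radical := by
    rw [Ideal.radical_eq_sInf]
    refine le_sInf fun q hq => ?_
    obtain ⟨h𝔠q, hqp⟩ := hq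
    by_contra hJq
    -- a single `s ∉ q` working for all generators
    obtain ⟨t, ht⟩ := (Module.Finite.fg_top : (⊤ : Submodule B Y).FG)
    have key : ∀ t : Finset Y, ∃ s ∉ q, ∀ y ∈ t, s • y ∈ LinearMap.range θ := by
      classical
      intro t
      induction t using Finset.induction_on with
      | empty => exact ⟨1, fun h => hqp.ne_top ((Ideal.eq_top_iff_one q).mpr h), by simp⟩
      | insert y t _ ih =>
        obtain ⟨s, hs, hst⟩ := ih
        obtain ⟨s', hs', hs'y⟩ := hc y q hqp hJq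
        refine ⟨s * s', fun h => (hqp.mem_or_mem h).elim hs hs', fun z hz => ?_⟩
        rcases Finset.mem_insert.mp hz with rfl | hz
        · rw [mul_smul]
          exact Submodule.smul_mem _ _ hs'y
        · rw [mul_comm, mul_smul]
          exact Submodule.smul_mem _ _ (hst z hz)
    obtain ⟨s, hs, hst⟩ := key t
    refine hs (h𝔠q ?_)
    rw [Submodule.mem_colon]
    intro y _
    have hy : y ∈ Submodule.span B (t : Set Y) := by rw [ht]; trivial
    refine Submodule.span_induction (p := fun y _ => s • y ∈ LinearMap.range θ) ?_ ?_ ?_ ?_ hy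
    · intro z hz; exact hst z hz
    · rw [smul_zero]; exact zero_mem _
    · intro x y _ _ hx hy; rw [smul_add]; exact add_mem hx hy
    · intro r x _ hx; rw [smul_comm]; exact Submodule.smul_mem _ _ hx
  obtain ⟨n, hn⟩ := Ideal.exists_pow_le_of_le_radical_of_fg hrad (IsNoetherian.noetherian J)
  refine ⟨n, fun a ha y => ?_⟩
  exact Submodule.mem_colon.mp (hn ha) y trivial

/-- **Hom into a depth-two module is insensitive to modifications supported on `V(J)`.** -/
theorem bijective_comp (hP : D2 J P)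
    (hk : ∀ x : X, θ x = 0 → ∀ q : Ideal B, q.IsPrime → ¬ J ≤ q → ∃ s ∉ q, s • x = 0)
    (hc : ∀ y : Y, ∀ q : Ideal B, q.IsPrime → ¬ J ≤ q → ∃ s ∉ q, s • y ∈ LinearMap.range θ) :
    Bijective (fun g : Y →ₗ[B] P => g.comp θ) := by
  obtain ⟨n, hn⟩ := exists_pow_smul_mem_range J θ hc
  have hI : D2 (J ^ n) P := d2_of_pow_le J (J ^ n) hP n le_rfl
  constructor
  · intro g g' hgg'
    ext y
    rw [← sub_eq_zero]
    refine hI.1 _ fun b hb => ?_
    obtain ⟨x, hx⟩ := hn b hb y
    have := LinearMap.congr_fun hgg' x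
    simp only [LinearMap.comp_apply] at this
    rw [smul_sub, ← map_smul, ← map_smul, ← hx, this, sub_self]
  · intro h
    have hker : LinearMap.ker θ ≤ LinearMap.ker h := by
      intro x hx
      rw [LinearMap.mem_ker] at hx ⊢
      refine tf_eq_zero_of_forall_exists_smul J hP.1 (IsNoetherian.noetherian J) _ ?_
      intro q hq hJq
      obtain ⟨s, hs, hsx⟩ := hk x hx q hq hJq
      exact ⟨s, hs, by rw [← map_smul, hsx, map_zero]⟩
    -- `h̄ : range θ → P`
    let hbar : LinearMap.range θ →ₗ[B] P :=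
      ((LinearMap.ker θ).liftQ h hker).comp (LinearMap.quotKerEquivRange θ).symm.toLinearMap
    have hbar_apply : ∀ x : X, hbar ⟨θ x, ⟨x, rfl⟩⟩ = h x := by
      intro x
      have : (LinearMap.quotKerEquivRange θ).symm ⟨θ x, ⟨x, rfl⟩⟩ = Submodule.Quotient.mk x := by
        rw [LinearEquiv.symm_apply_eq]
        exact Subtype.ext (LinearMap.quotKerEquivRange_apply_mk θ x).symm
      simp only [hbar, LinearMap.comp_apply, LinearEquiv.coe_coe, this, Submodule.liftQ_apply]
    let φy : Y → ((J ^ n : Ideal B) →ₗ[B] P) := fun y =>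
      hbar.comp (LinearMap.codRestrict (LinearMap.range θ)
        ((LinearMap.toSpanSingleton B Y y).comp (Submodule.subtype (J ^ n)))
        (fun b => hn b b.2 y))
    have hφy : ∀ (y : Y) (b : (J ^ n : Ideal B)), φy y b = hbar ⟨(b : B) • y, hn b b.2 y⟩ :=
      fun y b => rfl
    have hex : ∀ y, ∃ c : P, ∀ b : (J ^ n : Ideal B), φy y b = (b : B) • c := fun y => hI.2 (φy y)
    choose g hg using hex
    have hgadd : ∀ y y', g (y + y') = g y + g y' := by
      intro y y'
      rw [← sub_eq_zero]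
      refine hI.1 _ fun b hb => ?_
      rw [smul_sub, smul_add, ← hg (y + y') ⟨b, hb⟩, ← hg y ⟨b, hb⟩, ← hg y' ⟨b, hb⟩, sub_eq_zero,
        hφy, hφy, hφy, ← map_add]
      congr 1
      exact Subtype.ext (smul_add _ _ _)
    have hgsmul : ∀ (r : B) (y : Y), g (r • y) = r • g y := by
      intro r y
      rw [← sub_eq_zero]
      refine hI.1 _ fun b hb => ?_
      rw [smul_sub, smul_comm b r, ← hg (r • y) ⟨b, hb⟩, ← hg y ⟨b, hb⟩, sub_eq_zero,
        hφy, hφy, ← map_smul]
      congr 1
      exact Subtype.ext (smul_comm _ _ _)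
    refine ⟨{ toFun := g, map_add' := hgadd, map_smul' := hgsmul }, ?_⟩
    ext x
    change g (θ x) = h x
    rw [← sub_eq_zero]
    refine hI.1 _ fun b hb => ?_
    rw [smul_sub, ← hg (θ x) ⟨b, hb⟩, hφy, sub_eq_zero, ← map_smul h, ← hbar_apply]
    congr 1
    exact Subtype.ext (map_smul _ _ _).symm

end HomIso

end Groth.Agent.Lib.H47HomIso
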