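import Mathlib

/-!
# Kernel of a base-changed polynomial presentation (helper47)

For a cocartesian square `R → S`, `R → R'`, `S' = S ⊗_R R'` (in `Algebra.IsPushout R R' S S'` form),
generators `G` of `S` over `R` and generators `G'` of `S'` over `R'` on the same variables with
`G'.val i = algebraMap S S' (G.val i)`: the kernel of `R'[X] → S'` is the extension of the kernel of
`R[X] → S` along `MvPolynomial.map (algebraMap R R')`.
Universe-polymorphic version of `Groth.Agent.S7221.ker_le_map`.
-/

set_option autoImplicit false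

namespace Groth.Agent.Lib.H47KerBaseChange

open Algebra

universe u₁ u₂ u₃ u₄ v

variable {R : Type u₁} {S : Type u₂} {R' : Type u₃} {S' : Type u₄} [CommRing R] [CommRing S] [CommRing R']
    [CommRing S'] [Algebra R S] [Algebra R' S'] [Algebra R R'] [Algebra S S'] [Algebra R S']
    [IsScalarTower R R' S'] [IsScalarTower R S S']

/-- lift an algebra hom along a surjective algebra hom -/
noncomputable def liftSurj {A B C : Type*} [CommRing A] [CommRing B] [CommRing C] [Algebra R A]
    [Algebra R B] [Algebra R C] (g : A →ₐ[R] B) (hg : Function.Surjective g) (α₀ : A →ₐ[R] C)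
    (hk : ∀ x, g x = 0 → α₀ x = 0) : B →ₐ[R] C :=
  (Ideal.Quotient.liftₐ (RingHom.ker g) α₀
    (fun x hx => hk x ((RingHom.mem_ker (f := g)).mp hx))).comp
    (Ideal.quotientKerAlgEquivOfSurjective hg).symm.toAlgHom

theorem liftSurj_apply {A B C : Type*} [CommRing A] [CommRing B] [CommRing C] [Algebra R A]
    [Algebra R B] [Algebra R C] (g : A →ₐ[R] B) (hg : Function.Surjective g) (α₀ : A →ₐ[R] C)
    (hk : ∀ x, g x = 0 → α₀ x = 0) (x : A) : liftSurj g hg α₀ hk (g x) = α₀ x := by
  unfold liftSurj
  have : (Ideal.quotientKerAlgEquivOfSurjective hg).symm (g x) =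
      Ideal.Quotient.mk _ x := by
    rw [AlgEquiv.symm_apply_eq]
    rfl
  rw [AlgHom.comp_apply]
  change (Ideal.Quotient.liftₐ _ α₀ _) ((Ideal.quotientKerAlgEquivOfSurjective hg).symm (g x)) = _
  rw [this]
  rfl

/-- The kernel of the base-changed presentation is contained in the extension of the kernel. -/
theorem ker_le_map [Algebra.IsPushout R R' S S'] {ι : Type v} (G : Algebra.Generators R S ι)
    (G' : Algebra.Generators R' S' ι) (h : ∀ i, G'.val i = algebraMap S S' (G.val i)) :
    RingHom.ker (MvPolynomial.aeval G'.val : MvPolynomial ι R' →ₐ[R'] S') ≤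
      Ideal.map (MvPolynomial.map (algebraMap R R'))
        (RingHom.ker (MvPolynomial.aeval G.val : MvPolynomial ι R →ₐ[R] S)) := by
  let φ : MvPolynomial ι R →ₐ[R] MvPolynomial ι R' :=
    MvPolynomial.aeval (fun i => (MvPolynomial.X i : MvPolynomial ι R'))
  have hφ : ∀ x, φ x = MvPolynomial.map (algebraMap R R') x := by
    intro x
    induction x using MvPolynomial.induction_on with
    | C a => simp [φ, MvPolynomial.algebraMap_apply]
    | add p q hp hq => rw [map_add, map_add, hp, hq]
    | mul_X p i hp => rw [map_mul, map_mul, hp]; simp [φ]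
  set J : Ideal (MvPolynomial ι R') := Ideal.map (MvPolynomial.map (algebraMap R R'))
        (RingHom.ker (MvPolynomial.aeval G.val : MvPolynomial ι R →ₐ[R] S)) with hJ
  let Q := MvPolynomial ι R' ⧸ J
  let α₀ : MvPolynomial ι R →ₐ[R] Q := (Ideal.Quotient.mkₐ R J).comp φ
  have hgsurj : Function.Surjective (MvPolynomial.aeval G.val : MvPolynomial ι R →ₐ[R] S) :=
    fun s => ⟨G.σ s, G.aeval_val_σ s⟩
  have hk : ∀ x, (MvPolynomial.aeval G.val : MvPolynomial ι R →ₐ[R] S) x = 0 → α₀ x = 0 := by
    intro x hx
    change Ideal.Quotient.mk J (φ x) = 0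
    rw [Ideal.Quotient.eq_zero_iff_mem, hφ]
    exact Ideal.mem_map_of_mem _ hx
  let α : S →ₐ[R] Q := liftSurj _ hgsurj α₀ hk
  let β : R' →ₐ[R] Q := IsScalarTower.toAlgHom R R' Q
  let ψ : S' →ₐ[R] Q := Algebra.pushoutDesc S' β α (fun x y => mul_comm _ _)
  have hψ : ∀ y : MvPolynomial ι R', ψ (MvPolynomial.aeval G'.val y) = Ideal.Quotient.mk J y := by
    intro y
    induction y using MvPolynomial.induction_on with
    | C a =>
      rw [MvPolynomial.aeval_C, Algebra.pushoutDesc_left]
      rfl
    | add p q hp hq => rw [map_add, map_add, map_add, hp, hq]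
    | mul_X p i hp =>
      rw [map_mul, map_mul, map_mul, hp, MvPolynomial.aeval_X, h i, Algebra.pushoutDesc_right]
      congr 1
      have : G.val i = (MvPolynomial.aeval G.val : MvPolynomial ι R →ₐ[R] S) (MvPolynomial.X i) := by
        rw [MvPolynomial.aeval_X]
      rw [this]
      change liftSurj _ hgsurj α₀ hk _ = _
      rw [liftSurj_apply]
      change Ideal.Quotient.mk J (φ (MvPolynomial.X i)) = _
      simp [φ]
  intro y hy
  rw [RingHom.mem_ker] at hy
  have := hψ y
  rw [hy, map_zero] at this
  exact Ideal.Quotient.eq_zero_iff_mem.mp this.symm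

end Groth.Agent.Lib.H47KerBaseChange
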