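import Mathlib.FieldTheory.IsAlgClosed.Basic
import Mathlib.Algebra.CharP.Basic
import Mathlib.Algebra.CharP.Frobenius
import Mathlib.Algebra.Polynomial.Derivative
import Mathlib.LinearAlgebra.FiniteDimensional.Defs
import Mathlib.LinearAlgebra.FiniteDimensional.Lemmas
import Mathlib.LinearAlgebra.Dimension.Constructions
import Mathlib.Tactic

/-!
# Lang-type lemma for Frobenius-semilinear maps (helper47)

`Groth.Agent.Lib.H47Lang.lang`: over an algebraically closed field `k` of characteristic `p`,
for a finite-dimensional `k`-vector space `V` and a Frobenius-semilinear `F : V →ₛₗ[frobenius k p] V`,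
the map `v ↦ F v - v` is surjective.
-/

set_option autoImplicit false
universe u v

namespace Groth.Agent.Lib.H47Lang

open Polynomial

variable {k : Type u} [Field k] (p : ℕ) [Fact p.Prime] [CharP k p]

/-- the recursively defined polynomials -/
noncomputable def PP (c b : ℕ → k) : ℕ → Polynomial k
  | 0 => C (c 0) * X ^ p - C (b 0)
  | (j + 1) => (PP c b j) ^ p + C (c (j + 1)) * X ^ p - C (b (j + 1))

theorem derivative_PP (c b : ℕ → k) (j : ℕ) : derivative (PP p c b j) = 0 := by
  have hp : ((p : ℕ) : k) = 0 := CharP.cast_eq_zero k p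
  have hX : derivative ((X : Polynomial k) ^ p) = 0 := by
    rw [derivative_X_pow, hp, C_0, zero_mul]
  have hpow : ∀ Q : Polynomial k, derivative (Q ^ p) = 0 := by
    intro Q
    rw [derivative_pow, hp, C_0, zero_mul, zero_mul]
  cases j with
  | zero => simp [PP, hX]
  | succ j => simp [PP, hX, hpow]

variable [IsAlgClosed k]

theorem exists_root_PP (c b : ℕ → k) (j : ℕ) : ∃ t : k, (PP p c b j).eval t = t := by
  set Q : Polynomial k := PP p c b j - X with hQ
  have hder : derivative Q = -1 := by
    rw [hQ, derivative_sub, derivative_PP, derivative_X, zero_sub]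
  have hdeg : Q.degree ≠ 0 := by
    intro h0
    have := eq_C_of_degree_eq_zero h0
    rw [this, derivative_C] at hder
    have h1 : (1 : Polynomial k) = 0 := by
      have := congrArg Neg.neg hder
      simpa using this.symm
    exact one_ne_zero h1
  obtain ⟨t, ht⟩ := IsAlgClosed.exists_root Q hdeg
  refine ⟨t, ?_⟩
  rw [IsRoot.def, hQ, eval_sub, eval_X, sub_eq_zero] at ht
  exact ht


variable {V : Type v} [AddCommGroup V] [Module k V]

theorem cyclic (F : V →ₛₗ[frobenius k p] V) (u : ℕ → V) (hu : ∀ i, F (u i) = u (i + 1)) (m' : ℕ)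
    (c : ℕ → k) (hc : u (m' + 1) = ∑ i ∈ Finset.range (m' + 1), c i • u i) (b : ℕ → k) :
    ∃ x : ℕ → k, F (∑ i ∈ Finset.range (m' + 1), x i • u i) - ∑ i ∈ Finset.range (m' + 1), x i • u i =
      ∑ i ∈ Finset.range (m' + 1), b i • u i := by
  obtain ⟨t, ht⟩ := exists_root_PP p c b m'
  refine ⟨fun j => (PP p c b j).eval t, ?_⟩
  have hF : F (∑ i ∈ Finset.range (m' + 1), (PP p c b i).eval t • u i) =
      ∑ i ∈ Finset.range (m' + 1), ((PP p c b i).eval t) ^ p • u (i + 1) := by
    rw [map_sum]
    apply Finset.sum_congr rfl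
    intro i _
    rw [LinearMap.map_smulₛₗ, hu, frobenius_def]
  have h0 : t ^ p * c 0 - (PP p c b 0).eval t = b 0 := by
    simp [PP]; ring
  have hs : ∀ i, ((PP p c b i).eval t) ^ p + t ^ p * c (i + 1) - (PP p c b (i + 1)).eval t = b (i + 1) := by
    intro i
    simp [PP]; ring
  rw [hF, Finset.sum_range_succ (fun i => ((PP p c b i).eval t) ^ p • u (i + 1)), ht, hc,
    Finset.sum_range_succ' (fun i => (PP p c b i).eval t • u i),
    Finset.sum_range_succ' (fun i => b i • u i), Finset.sum_range_succ' (fun i => c i • u i)]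
  rw [← h0]
  have : ∑ i ∈ Finset.range m', b (i + 1) • u (i + 1) =
      ∑ i ∈ Finset.range m', (((PP p c b i).eval t) ^ p + t ^ p * c (i + 1) - (PP p c b (i + 1)).eval t) • u (i + 1) :=
    Finset.sum_congr rfl (fun i _ => by rw [hs i])
  rw [this]
  simp only [add_smul, sub_smul, mul_smul, Finset.sum_add_distrib, Finset.sum_sub_distrib, smul_add,
    Finset.smul_sum]
  abel


theorem lang_aux (n : ℕ) : ∀ (V : Type v) [AddCommGroup V] [Module k V] [FiniteDimensional k V]
    (F : V →ₛₗ[frobenius k p] V), Module.finrank k V = n →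
      Function.Surjective (fun v => F v - v) := by
  induction n using Nat.strong_induction_on with
  | _ n ih =>
    intro V _ _ _ F hn
    by_cases hV : Subsingleton V
    · intro b; exact ⟨0, Subsingleton.elim _ _⟩
    rw [not_subsingleton_iff_nontrivial] at hV
    obtain ⟨v, hv⟩ := exists_ne (0 : V)
    let u : ℕ → V := fun i => (F^[i]) v
    have hu : ∀ i, F (u i) = u (i + 1) := fun i => (Function.iterate_succ_apply' F i v).symm
    let L : ℕ → ((ℕ → k) →ₗ[k] V) := fun j =>
      ∑ i ∈ Finset.range j, (LinearMap.proj (R := k) (φ := fun _ : ℕ => k) i).smulRight (u i)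
    have hL : ∀ j x, L j x = ∑ i ∈ Finset.range j, x i • u i := by
      intro j x
      simp [L, LinearMap.sum_apply]
    have hmem : ∀ j i, i < j → u i ∈ LinearMap.range (L j) := by
      intro j i hij
      refine ⟨Pi.single i 1, ?_⟩
      rw [hL, Finset.sum_eq_single i]
      · simp
      · intro b _ hb
        simp [hb]
      · intro hi
        exact absurd (Finset.mem_range.mpr hij) hi
    have hex : ∃ j, u j ∈ LinearMap.range (L j) := by
      by_contra hcon
      push Not at hcon
      have hdim : ∀ j, j ≤ Module.finrank k (LinearMap.range (L j)) := by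
        intro j
        induction j with
        | zero => exact Nat.zero_le _
        | succ j ihj =>
          have hle : LinearMap.range (L j) ≤ LinearMap.range (L (j + 1)) := by
            rintro _ ⟨x, rfl⟩
            refine ⟨Function.update x j 0, ?_⟩
            rw [hL, hL, Finset.sum_range_succ]
            simp only [Function.update_self, zero_smul, add_zero]
            apply Finset.sum_congr rfl
            intro i hi
            rw [Function.update_of_ne (Finset.mem_range.mp hi).ne]
          have hlt : LinearMap.range (L j) < LinearMap.range (L (j + 1)) := by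
            refine lt_of_le_of_ne hle ?_
            intro heq
            apply hcon j
            rw [heq]
            exact hmem (j + 1) j (Nat.lt_succ_self j)
          have := Submodule.finrank_lt_finrank_of_lt hlt
          omega
      have h1 := (hdim (n + 1)).trans (Submodule.finrank_le _)
      omega
    obtain ⟨j, c, hc⟩ := hex
    rw [hL] at hc
    have hj0 : j ≠ 0 := by
      rintro rfl
      simp only [Finset.range_zero, Finset.sum_empty] at hc
      exact hv hc.symm
    obtain ⟨m', rfl⟩ := Nat.exists_eq_succ_of_ne_zero hj0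
    set W := LinearMap.range (L (m' + 1)) with hW
    have hum : u (m' + 1) ∈ W := ⟨c, by rw [hL]; exact hc⟩
    have hstab : W ≤ W.comap F := by
      rintro _ ⟨x, rfl⟩
      rw [Submodule.mem_comap, hL, map_sum]
      apply Submodule.sum_mem
      intro i hi
      rw [LinearMap.map_smulₛₗ, hu]
      apply Submodule.smul_mem
      rcases Nat.lt_succ_iff_lt_or_eq.mp (Finset.mem_range.mp hi) with h | rfl
      · exact hmem (m' + 1) (i + 1) (Nat.succ_lt_succ h)
      · exact hum
    let Fq : (V ⧸ W) →ₛₗ[frobenius k p] (V ⧸ W) := W.mapQ W F hstab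
    have hvW : v ∈ W := hmem (m' + 1) 0 (Nat.succ_pos _)
    have hWpos : 0 < Module.finrank k W :=
      Module.finrank_pos_iff_exists_ne_zero.mpr ⟨⟨v, hvW⟩, fun h => hv (congrArg Subtype.val h)⟩
    have hquot := Submodule.finrank_quotient_add_finrank W
    have hlt : Module.finrank k (V ⧸ W) < n := by omega
    have IH := ih _ hlt (V ⧸ W) Fq rfl
    intro b
    obtain ⟨xq, hxq⟩ := IH (Submodule.Quotient.mk b)
    obtain ⟨x', rfl⟩ := Submodule.Quotient.mk_surjective W xq
    have hw : b - (F x' - x') ∈ W := by
      rw [← Submodule.Quotient.mk_eq_zero W, Submodule.Quotient.mk_sub, Submodule.Quotient.mk_sub, ← hxq]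
      simp [Fq, Submodule.mapQ_apply]
    obtain ⟨bb, hbb⟩ := hw
    rw [hL] at hbb
    obtain ⟨x, hx⟩ := cyclic p F u hu m' c hc.symm bb
    refine ⟨x' + ∑ i ∈ Finset.range (m' + 1), x i • u i, ?_⟩
    simp only [map_add]
    rw [add_sub_add_comm, hx, hbb]
    abel


theorem lang {V : Type v} [AddCommGroup V] [Module k V] [FiniteDimensional k V]
    (F : V →ₛₗ[frobenius k p] V) : Function.Surjective (fun v => F v - v) :=
  lang_aux p _ V F rfl

end Groth.Agent.Lib.H47Lang
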