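import Mathlib
import Groth.Agent.Lib.NilLiftProj

/-!
# Lifting acyclic bounded above complexes termwise modulo an ideal (Stacks 15.75-type) (helper81)

Part 1: the ℕ-indexed recursion at the level of modules.
-/

set_option autoImplicit false
open TensorProduct CategoryTheory
universe u

namespace Groth.Agent.Lib.LiftAcyclic

open Groth.Agent.Lib.NilLiftProj

section lemmas

variable {R : Type u} [CommRing R]

theorem exists_lift_of_range_le {P K Q : Type*} [AddCommGroup P] [Module R P]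
    [Module.Projective R P] [AddCommGroup K] [Module R K] [AddCommGroup Q] [Module R Q]
    (f : K →ₗ[R] Q) (g : P →ₗ[R] Q) (h : LinearMap.range g ≤ LinearMap.range f) :
    ∃ δ : P →ₗ[R] K, f ∘ₗ δ = g := by
  let g' : P →ₗ[R] ↥(LinearMap.range f) := g.codRestrict (LinearMap.range f)
    (fun x => h ⟨x, rfl⟩)
  obtain ⟨δ, hδ⟩ := Module.projective_lifting_property f.rangeRestrict g'
    f.surjective_rangeRestrict
  refine ⟨δ, LinearMap.ext fun x => ?_⟩
  have := congrArg Subtype.val (LinearMap.congr_fun hδ x)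
  exact this

end lemmas

section recursion

variable {R : Type u} [CommRing R] (I : Ideal R) (Pc : ObjectProperty (ModuleCat.{u} R))

/-- The data: modules `X n` in `Pc` with reductions `M n`, and an exact sequence on the `M n`. -/
structure Setup where
  X : ℕ → ModuleCat.{u} R
  hX : ∀ n, Pc (X n)
  M : ℕ → ModuleCat.{u} (R ⧸ I)
  θ : ∀ n, (R ⧸ I) ⊗[R] X n ≃ₗ[R ⧸ I] M n
  d : ∀ n, M (n + 1) →ₗ[R ⧸ I] M n
  hex : ∀ n, Function.Exact (d (n + 1)) (d n)
  hM0 : Subsingleton (M 0)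

variable {I Pc}

/-- the reduction map `X n → M n`, `x ↦ θ (1 ⊗ x)`. -/
noncomputable def Setup.red (S : Setup I Pc) (n : ℕ) (x : S.X n) : S.M n :=
  S.θ n ((1 : R ⧸ I) ⊗ₜ[R] x)

theorem Setup.red_add (S : Setup I Pc) (n : ℕ) (x y : S.X n) :
    S.red n (x + y) = S.red n x + S.red n y := by
  simp [Setup.red, TensorProduct.tmul_add]

theorem Setup.red_sub (S : Setup I Pc) (n : ℕ) (x y : S.X n) :
    S.red n (x - y) = S.red n x - S.red n y := by
  simp [Setup.red, TensorProduct.tmul_sub]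

theorem Setup.red_zero (S : Setup I Pc) (n : ℕ) : S.red n 0 = 0 := by
  simp [Setup.red]

theorem Setup.red_eq_zero_iff (S : Setup I Pc) (n : ℕ) (x : S.X n) :
    S.red n x = 0 ↔ x ∈ I • (⊤ : Submodule R (S.X n)) := by
  rw [Setup.red, LinearEquiv.map_eq_zero_iff, one_tmul_eq_zero_iff]

theorem Setup.red_surjective (S : Setup I Pc) (n : ℕ) : Function.Surjective (S.red n) := by
  intro m
  obtain ⟨t, rfl⟩ := (S.θ n).surjective m
  obtain ⟨x, rfl⟩ := one_tmul_surjective I (S.X n) t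
  exact ⟨x, rfl⟩

/-- The stage-`n` data of the recursion. -/
structure Stage (S : Setup I Pc) (n : ℕ) where
  K : Submodule R (S.X n)
  hK : Pc (ModuleCat.of R K)
  r : S.X n →ₗ[R] K
  hr : ∀ k : K, r k = k
  hZ : ∀ m : S.M n, (∃ k : K, S.red n k = m) ↔ m ∈ LinearMap.range (S.d n)

theorem Stage.mem_smul_top (S : Setup I Pc) {n : ℕ} (s : Stage S n) (k : s.K)
    (hk : (k : S.X n) ∈ I • (⊤ : Submodule R (S.X n))) :
    k ∈ I • (⊤ : Submodule R s.K) := by
  have h1 : s.r (k : S.X n) ∈ (I • (⊤ : Submodule R (S.X n))).map s.r :=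
    Submodule.mem_map_of_mem hk
  rw [Submodule.map_smul'', s.hr] at h1
  exact Submodule.smul_mono le_rfl le_top h1

variable [Pc.IsClosedUnderIsomorphisms]
  (h1 : ∀ X : ModuleCat.{u} R, Pc X → Module.Projective R X)
  (h2 : ∀ X Y : ModuleCat.{u} R, Pc X → Pc (ModuleCat.of R (X × Y)) → Pc Y)
  (h3 : ∀ (X Y : ModuleCat.{u} R) (f : X ⟶ Y), Pc X → Pc Y →
      LinearMap.range f.hom ⊔ I • (⊤ : Submodule R Y) = ⊤ → Function.Surjective f.hom)

include h1 h2 h3 in
theorem exists_step (S : Setup I Pc) (n : ℕ) (s : Stage S n) :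
    ∃ δ : S.X (n + 1) →ₗ[R] S.X n,
      (∀ y, S.red n (δ y) = S.d n (S.red (n + 1) y)) ∧ LinearMap.range δ = s.K ∧
      ∃ s' : Stage S (n + 1), s'.K = LinearMap.ker δ := by
  have hprojX : Module.Projective R (S.X (n + 1)) := h1 _ (S.hX (n + 1))
  have hprojK : Module.Projective R s.K := h1 _ s.hK
  -- the lifting problem
  let φ : (R ⧸ I) ⊗[R] S.X (n + 1) →ₗ[R ⧸ I] (R ⧸ I) ⊗[R] S.X n :=
    (S.θ n).symm.toLinearMap ∘ₗ S.d n ∘ₗ (S.θ (n + 1)).toLinearMap
  let g' : S.X (n + 1) →ₗ[R] (R ⧸ I) ⊗[R] S.X n :=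
    (φ.restrictScalars R) ∘ₗ (TensorProduct.mk R (R ⧸ I) (S.X (n + 1)) 1)
  let redK' : s.K →ₗ[R] (R ⧸ I) ⊗[R] S.X n :=
    (TensorProduct.mk R (R ⧸ I) (S.X n) 1) ∘ₗ s.K.subtype
  have hg' : ∀ y, S.θ n (g' y) = S.d n (S.red (n + 1) y) := by
    intro y
    change S.θ n ((S.θ n).symm (S.d n (S.θ (n + 1) (1 ⊗ₜ y)))) = _
    rw [LinearEquiv.apply_symm_apply]
    rfl
  have hle : LinearMap.range g' ≤ LinearMap.range redK' := by
    rintro _ ⟨y, rfl⟩
    obtain ⟨k, hk⟩ := (s.hZ (S.d n (S.red (n + 1) y))).mpr ⟨_, rfl⟩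
    refine ⟨k, ?_⟩
    apply (S.θ n).injective
    rw [hg']
    exact hk
  obtain ⟨δ₀, hδ₀⟩ := exists_lift_of_range_le redK' g' hle
  have hδ₀' : ∀ y, S.red n (δ₀ y : S.X n) = S.d n (S.red (n + 1) y) := by
    intro y
    rw [← hg', ← hδ₀]
    rfl
  -- surjectivity of δ₀
  have hsurj : Function.Surjective δ₀ := by
    refine h3 (S.X (n + 1)) (ModuleCat.of R s.K) (ModuleCat.ofHom δ₀) (S.hX (n + 1)) s.hK ?_
    rw [eq_top_iff]
    intro k _
    obtain ⟨m', hm'⟩ := (s.hZ (S.red n (k : S.X n))).mp ⟨k, rfl⟩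
    obtain ⟨y, rfl⟩ := S.red_surjective (n + 1) m'
    have h0 : S.red n ((k - δ₀ y : s.K) : S.X n) = 0 := by
      rw [Submodule.coe_sub, S.red_sub, hδ₀', hm', sub_self]
    have h1' := s.mem_smul_top S _ ((S.red_eq_zero_iff n _).mp h0)
    have : k = δ₀ y + (k - δ₀ y) := by abel
    rw [this]
    exact Submodule.add_mem _ (Submodule.mem_sup_left ⟨y, rfl⟩) (Submodule.mem_sup_right h1')
  let δ : S.X (n + 1) →ₗ[R] S.X n := s.K.subtype ∘ₗ δ₀
  have hδker : ∀ x, δ x = 0 ↔ δ₀ x = 0 := by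
    intro x
    change ((δ₀ x : s.K) : S.X n) = 0 ↔ _
    exact Submodule.coe_eq_zero
  refine ⟨δ, hδ₀', ?_, ?_⟩
  · rw [LinearMap.range_comp, LinearMap.range_eq_top.mpr hsurj, Submodule.map_top,
      Submodule.range_subtype]
  -- section of δ₀
  obtain ⟨σ, hσ⟩ := Module.projective_lifting_property δ₀ LinearMap.id hsurj
  have hσ' : ∀ k, δ₀ (σ k) = k := fun k => LinearMap.congr_fun hσ k
  let K' : Submodule R (S.X (n + 1)) := LinearMap.ker δ
  let t : S.X (n + 1) →ₗ[R] S.X (n + 1) := LinearMap.id - σ ∘ₗ δ₀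
  have ht : ∀ x, t x = x - σ (δ₀ x) := fun x => rfl
  have htK : ∀ x, t x ∈ K' := by
    intro x
    change δ (t x) = 0
    rw [hδker, ht, map_sub, hσ', sub_self]
  let r' : S.X (n + 1) →ₗ[R] K' := t.codRestrict K' htK
  have hr' : ∀ k : K', r' k = k := by
    intro k
    apply Subtype.ext
    change t (k : S.X (n + 1)) = k
    have hk0 : δ₀ (k : S.X (n + 1)) = 0 := (hδker _).mp k.2
    rw [ht, hk0, map_zero, sub_zero]
  -- Pc K'
  let e : S.X (n + 1) ≃ₗ[R] (s.K × K') :=
    { toFun := fun x => (δ₀ x, r' x)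
      map_add' := fun x y => by simp
      map_smul' := fun a x => by simp
      invFun := fun p => σ p.1 + (p.2 : S.X (n + 1))
      left_inv := fun x => by
        change σ (δ₀ x) + t x = x
        rw [ht]; abel
      right_inv := fun p => by
        obtain ⟨k, z⟩ := p
        have hz0 : δ₀ (z : S.X (n + 1)) = 0 := (hδker _).mp z.2
        apply Prod.ext
        · change δ₀ (σ k + (z : S.X (n + 1))) = k
          rw [map_add, hσ', hz0, add_zero]
        · apply Subtype.ext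
          change t (σ k + (z : S.X (n + 1))) = z
          rw [ht, map_add, hσ', hz0, add_zero]; abel }
  have hPcprod : Pc (ModuleCat.of R (↑(ModuleCat.of R s.K) × ↑(ModuleCat.of R K'))) :=
    Pc.prop_of_iso (e.toModuleIso) (S.hX (n + 1))
  have hK' : Pc (ModuleCat.of R K') := h2 (ModuleCat.of R s.K) (ModuleCat.of R K') s.hK hPcprod
  refine ⟨⟨K', hK', r', hr', ?_⟩, rfl⟩
  intro m
  have hexm : m ∈ LinearMap.range (S.d (n + 1)) ↔ S.d n m = 0 := by
    rw [LinearMap.mem_range]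
    exact (S.hex n m).symm
  rw [hexm]
  constructor
  · rintro ⟨k, rfl⟩
    rw [← hδ₀']
    have hk0 : δ₀ (k : S.X (n + 1)) = 0 := (hδker _).mp k.2
    rw [hk0]
    exact S.red_zero n
  · intro hm
    obtain ⟨y, rfl⟩ := S.red_surjective (n + 1) m
    rw [← hδ₀', S.red_eq_zero_iff] at hm
    have h2' := s.mem_smul_top S _ hm
    have h3' : σ (δ₀ y) ∈ I • (⊤ : Submodule R (S.X (n + 1))) := by
      have : σ (δ₀ y) ∈ (I • (⊤ : Submodule R s.K)).map σ := Submodule.mem_map_of_mem h2'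
      rw [Submodule.map_smul''] at this
      exact Submodule.smul_mono le_rfl le_top this
    refine ⟨r' y, ?_⟩
    change S.red (n + 1) (t y) = _
    rw [ht, S.red_sub, (S.red_eq_zero_iff (n + 1) _).mpr h3', sub_zero]

/-- base stage -/
noncomputable def stage0 (S : Setup I Pc) : Stage S 0 where
  K := ⊤
  hK := Pc.prop_of_iso (Submodule.topEquiv (R := R) (M := S.X 0)).symm.toModuleIso (S.hX 0)
  r := LinearMap.id.codRestrict ⊤ (fun _ => trivial)
  hr := fun k => Subtype.ext rfl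
  hZ := fun m => by
    have := S.hM0
    constructor
    · intro _; exact ⟨0, Subsingleton.elim _ _⟩
    · intro _; exact ⟨0, Subsingleton.elim _ _⟩

/-- the sequence of stages -/
noncomputable def seq (S : Setup I Pc) : ∀ n, Stage S n
  | 0 => stage0 S
  | n + 1 => (exists_step h1 h2 h3 S n (seq S n)).choose_spec.2.2.choose

/-- the lifted differentials -/
noncomputable def del (S : Setup I Pc) (n : ℕ) : S.X (n + 1) →ₗ[R] S.X n :=
  (exists_step h1 h2 h3 S n (seq h1 h2 h3 S n)).choose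

theorem del_red (S : Setup I Pc) (n : ℕ) (y : S.X (n + 1)) :
    S.red n (del h1 h2 h3 S n y) = S.d n (S.red (n + 1) y) :=
  (exists_step h1 h2 h3 S n (seq h1 h2 h3 S n)).choose_spec.1 y

theorem range_del (S : Setup I Pc) (n : ℕ) :
    LinearMap.range (del h1 h2 h3 S n) = (seq h1 h2 h3 S n).K :=
  (exists_step h1 h2 h3 S n (seq h1 h2 h3 S n)).choose_spec.2.1

theorem ker_del (S : Setup I Pc) (n : ℕ) :
    LinearMap.ker (del h1 h2 h3 S n) = (seq h1 h2 h3 S (n + 1)).K :=
  ((exists_step h1 h2 h3 S n (seq h1 h2 h3 S n)).choose_spec.2.2.choose_spec).symm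

theorem range_del_succ (S : Setup I Pc) (n : ℕ) :
    LinearMap.range (del h1 h2 h3 S (n + 1)) = LinearMap.ker (del h1 h2 h3 S n) := by
  rw [range_del, ker_del]

theorem range_del_zero (S : Setup I Pc) : LinearMap.range (del h1 h2 h3 S 0) = ⊤ := by
  rw [range_del]
  rfl

end recursion

end Groth.Agent.Lib.LiftAcyclic
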