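import Mathlib
import Groth.Agent.Lib.LiftAcyclic
import Groth.Agent.Lib.TildePullback

/-!
# Lifting acyclic complexes, part 2: from the ℕ-recursion to ℤ-indexed cochain complexes (helper81)
-/

set_option autoImplicit false
open TensorProduct CategoryTheory CategoryTheory.Limits
open scoped ChangeOfRings
universe u

namespace Groth.Agent.Lib.LiftAcyclic

section toInt

variable {R : Type u} [CommRing R] (XZ : ℤ → ModuleCat.{u} R) (b : ℤ)

/-- the index map `n ↦ b + 1 - n`. -/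
def idx (b : ℤ) (n : ℕ) : ℤ := b + 1 - n

variable (δ : ∀ n : ℕ, XZ (idx b (n + 1)) ⟶ XZ (idx b n))

/-- the `ℤ`-indexed differential. -/
noncomputable def dZ (i j : ℤ) : XZ i ⟶ XZ j :=
  if h : i + 1 = j ∧ j ≤ b + 1 then
    eqToHom (congrArg XZ (show i = idx b ((b + 1 - j).toNat + 1) by unfold idx; omega)) ≫
      δ (b + 1 - j).toNat ≫
      eqToHom (congrArg XZ (show idx b (b + 1 - j).toNat = j by unfold idx; omega))
  else 0

theorem dZ_aux (t n : ℕ) (ht : t = n) (e1 : idx b (n + 1) = idx b (t + 1))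
    (e2 : idx b t = idx b n) :
    eqToHom (congrArg XZ e1) ≫ δ t ≫ eqToHom (congrArg XZ e2) = δ n := by
  subst ht
  simp

theorem dZ_idx (n : ℕ) : dZ XZ b δ (idx b (n + 1)) (idx b n) = δ n := by
  have h : idx b (n + 1) + 1 = idx b n ∧ idx b n ≤ b + 1 := by unfold idx; omega
  unfold dZ
  rw [dif_pos h]
  have ht : (b + 1 - idx b n).toNat = n := by unfold idx; omega
  exact dZ_aux XZ b δ (b + 1 - idx b n).toNat n ht (by rw [ht]) (by rw [ht])

theorem dZ_of_lt (i j : ℤ) (hj : b + 1 < j) : dZ XZ b δ i j = 0 := by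
  unfold dZ
  rw [dif_neg]
  omega

theorem dZ_shape (i j : ℤ) (h : ¬ (i + 1 = j)) : dZ XZ b δ i j = 0 := by
  unfold dZ
  rw [dif_neg]
  tauto

variable (hδ : ∀ n, δ (n + 1) ≫ δ n = 0)

/-- the `ℤ`-indexed complex. -/
noncomputable def cx : CochainComplex (ModuleCat.{u} R) ℤ where
  X := XZ
  d := dZ XZ b δ
  shape i j h := dZ_shape XZ b δ i j h
  d_comp_d' i j k hij hjk := by
    by_cases hk : k ≤ b + 1
    · obtain ⟨n, rfl⟩ : ∃ n : ℕ, k = idx b n := ⟨(b + 1 - k).toNat, by unfold idx; omega⟩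
      obtain rfl : j = idx b (n + 1) := by
        have : j + 1 = idx b n := hjk
        unfold idx at this ⊢; omega
      obtain rfl : i = idx b (n + 2) := by
        have : i + 1 = idx b (n + 1) := hij
        unfold idx at this ⊢; omega
      rw [dZ_idx, dZ_idx]
      exact hδ n
    · rw [dZ_of_lt XZ b δ j k (by omega), comp_zero]

@[simp] theorem cx_X (i : ℤ) : (cx XZ b δ hδ).X i = XZ i := rfl

theorem cx_d_idx (n : ℕ) : (cx XZ b δ hδ).d (idx b (n + 1)) (idx b n) = δ n :=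
  dZ_idx XZ b δ n

theorem cx_d_of_lt (i j : ℤ) (hj : b + 1 < j) : (cx XZ b δ hδ).d i j = 0 :=
  dZ_of_lt XZ b δ i j hj

end toInt

section main

open Groth.Agent.Lib.NilLiftProj

variable {R : Type u} [CommRing R] (I : Ideal R) (Pc : ObjectProperty (ModuleCat.{u} R))
  [Pc.IsClosedUnderIsomorphisms]
  (h1 : ∀ X : ModuleCat.{u} R, Pc X → Module.Projective R X)
  (h2 : ∀ X Y : ModuleCat.{u} R, Pc X → Pc (ModuleCat.of R (X × Y)) → Pc Y)
  (h3 : ∀ (X Y : ModuleCat.{u} R) (f : X ⟶ Y), Pc X → Pc Y →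
      LinearMap.range f.hom ⊔ I • (⊤ : Submodule R Y) = ⊤ → Function.Surjective f.hom)

include h2 in
theorem pc_punit (X : ModuleCat.{u} R) (hX : Pc X) : Pc (ModuleCat.of R PUnit.{u + 1}) :=
  h2 X (ModuleCat.of R PUnit.{u + 1}) hX
    (Pc.prop_of_iso (LinearEquiv.prodUnique (R := R) (M := X) (M₂ := PUnit.{u + 1})).symm.toModuleIso
      hX)

include h2 h3 in
theorem subsingleton_of_subsingleton_red (X : ModuleCat.{u} R) (hX : Pc X)
    (hsub : Subsingleton ((R ⧸ I) ⊗[R] X)) : Subsingleton X := by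
  have hZ := pc_punit Pc h2 X hX
  have htop : I • (⊤ : Submodule R X) = ⊤ := by
    rw [eq_top_iff]
    intro x _
    rw [← one_tmul_eq_zero_iff]
    exact Subsingleton.elim _ _
  have hs := h3 (ModuleCat.of R PUnit.{u + 1}) X (ModuleCat.ofHom 0) hZ hX (by rw [htop]; simp)
  constructor
  intro x y
  obtain ⟨a, rfl⟩ := hs x
  obtain ⟨c, rfl⟩ := hs y
  rfl

/-- `(extendScalars (mk I)).obj X ≃ₗ[R/I] (R/I) ⊗[R] X`. -/
noncomputable def ese (X : ModuleCat.{u} R) :
    ((ModuleCat.extendScalars (Ideal.Quotient.mk I)).obj X) ≃ₗ[R ⧸ I] (R ⧸ I) ⊗[R] X :=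
  Groth.Agent.Lib.TildePullback.extendScalarsEquiv R (R ⧸ I) X

theorem ese_one_tmul (X : ModuleCat.{u} R) (x : X) :
    ese I X ((1 : R ⧸ I) ⊗ₜ[R, Ideal.Quotient.mk I] x) = (1 : R ⧸ I) ⊗ₜ[R] x := rfl

include h1 h2 h3 in
/-- Lifting of bounded above acyclic complexes with terms of the form `P/IP`, `P ∈ Pc`
(Stacks, More on Algebra, Lemma 15.75.x), keeping the bound. -/
theorem exists_lift (E : CochainComplex (ModuleCat.{u} (R ⧸ I)) ℤ) (b : ℤ)
    (hEb : ∀ i : ℤ, b < i → IsZero (E.X i)) (hEa : E.Acyclic)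
    (hEt : ∀ i : ℤ, ∃ X : ModuleCat.{u} R, Pc X ∧
      Nonempty (TensorProduct R (R ⧸ I) X ≃ₗ[R ⧸ I] E.X i)) :
    ∃ P : CochainComplex (ModuleCat.{u} R) ℤ, (∀ i : ℤ, b < i → IsZero (P.X i)) ∧ P.Acyclic ∧
      (∀ i : ℤ, Pc (P.X i)) ∧
      Nonempty ((((ModuleCat.extendScalars (Ideal.Quotient.mk I)).mapHomologicalComplex
        (ComplexShape.up ℤ)).obj P) ≅ E) := by
  choose XZ hXZ θZ' using hEt
  let θZ : ∀ i, (R ⧸ I) ⊗[R] XZ i ≃ₗ[R ⧸ I] E.X i := fun i => (θZ' i).some
  have hsubE : ∀ i : ℤ, b < i → Subsingleton (E.X i) := fun i hi =>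
    ModuleCat.subsingleton_of_isZero (hEb i hi)
  -- the setup
  have hexE : ∀ n : ℕ, Function.Exact (E.d (idx b (n + 2)) (idx b (n + 1))).hom
      (E.d (idx b (n + 1)) (idx b n)).hom := by
    intro n
    have hex := hEa (idx b (n + 1))
    rw [HomologicalComplex.exactAt_iff' E (idx b (n + 2)) (idx b (n + 1)) (idx b n)
      (by simp [idx]; omega) (by simp [idx]; omega),
      ShortComplex.ShortExact.moduleCat_exact_iff_function_exact] at hex
    exact hex
  let S : Setup I Pc :=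
    { X := fun n => XZ (idx b n)
      hX := fun n => hXZ _
      M := fun n => E.X (idx b n)
      θ := fun n => θZ (idx b n)
      d := fun n => (E.d (idx b (n + 1)) (idx b n)).hom
      hex := hexE
      hM0 := hsubE _ (by simp [idx]) }
  let δ : ∀ n : ℕ, XZ (idx b (n + 1)) ⟶ XZ (idx b n) := fun n =>
    ModuleCat.ofHom (del h1 h2 h3 S n)
  have hδ : ∀ n, δ (n + 1) ≫ δ n = 0 := by
    intro n
    ext x
    have hx : del h1 h2 h3 S (n + 1) x ∈ LinearMap.ker (del h1 h2 h3 S n) := by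
      rw [← range_del_succ]
      exact ⟨x, rfl⟩
    exact hx
  let P := cx XZ b δ hδ
  have hsubX : ∀ i : ℤ, b < i → Subsingleton (XZ i) := by
    intro i hi
    apply subsingleton_of_subsingleton_red I Pc h2 h3 (XZ i) (hXZ i)
    have := hsubE i hi
    exact (θZ i).toEquiv.subsingleton
  refine ⟨P, fun i hi => ?_, ?_, fun i => hXZ i, ⟨?_⟩⟩
  · have : Subsingleton (P.X i) := hsubX i hi
    exact ModuleCat.isZero_of_subsingleton _
  · -- acyclicity
    intro j
    by_cases hj : b < j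
    · have : Subsingleton (P.X j) := hsubX j hj
      exact ShortComplex.exact_of_isZero_X₂ _ (ModuleCat.isZero_of_subsingleton (P.X j))
    · obtain ⟨n, rfl⟩ : ∃ n : ℕ, j = idx b (n + 1) := ⟨(b - j).toNat, by unfold idx; omega⟩
      rw [HomologicalComplex.exactAt_iff' P (idx b (n + 2)) (idx b (n + 1)) (idx b n)
        (by simp [idx]; omega) (by simp [idx]; omega),
        ShortComplex.ShortExact.moduleCat_exact_iff_function_exact]
      change Function.Exact (P.d (idx b (n + 2)) (idx b (n + 1))).hom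
        (P.d (idx b (n + 1)) (idx b n)).hom
      rw [cx_d_idx, cx_d_idx]
      intro (y : S.X (n + 1))
      have hy : y ∈ LinearMap.ker (del h1 h2 h3 S n) ↔
          y ∈ LinearMap.range (del h1 h2 h3 S (n + 1)) := by rw [range_del_succ]
      exact hy
  · -- the isomorphism
    refine HomologicalComplex.Hom.isoOfComponents
      (fun i => ((ese I (XZ i)).trans (θZ i)).toModuleIso) ?_
    intro i j hij
    have hij' : i + 1 = j := hij
    apply ModuleCat.ExtendScalars.hom_ext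
    intro m
    change E.d i j (θZ i ((1 : R ⧸ I) ⊗ₜ[R] m)) = θZ j ((1 : R ⧸ I) ⊗ₜ[R] ((P.d i j) m))
    by_cases hj : j ≤ b + 1
    · obtain ⟨n, rfl⟩ : ∃ n : ℕ, j = idx b n := ⟨(b + 1 - j).toNat, by unfold idx; omega⟩
      obtain rfl : i = idx b (n + 1) := by unfold idx at hij' ⊢; omega
      rw [cx_d_idx]
      exact (del_red h1 h2 h3 S n m).symm
    · have := hsubE j (by omega)
      exact Subsingleton.elim _ _

end main

end Groth.Agent.Lib.LiftAcyclic
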