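import Mathlib
import Groth.Agent.Lib.LiftAcyclic2
import Groth.Agent.Lib.LBaseChangeKProj
import Groth.Agent.Lib.H93ConeRep
import Groth.Agent.Lib.ConeQuasiIso

/-!
# Lifting bounded above complexes along `R → R/I` (helper47; Stacks, More on Algebra 15.75)

* `exists_map_eq_of_projective` : extension of scalars along `R → R/I` is full on maps out of a
  projective module.
* `isIso_of_map_eq_id`, `exists_retraction`, `pc_cokernel` : consequences of the axioms (1)-(3) on
  the class `Pc`.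
* `exists_lift_of_homotopy_zero` : a null-homotopic chain map `Q/IQ ⟶ M/IM` lifts to a chain map
  `Q ⟶ M` when `Q` is termwise projective.
* `cokernelInrIso` : `coker (L ⟶ cone φ) ≅ K⟦1⟧`.
* `exists_lift_cx`, `main` : given a quasi-isomorphism `E ⟶ Q/IQ` there is a lift `P` of `E`
  with `P ≅ Q` in `D(R)` (uses helper81's `LiftAcyclic.exists_lift` on the cone).
-/

set_option autoImplicit false
set_option linter.unusedSectionVars false
set_option backward.isDefEq.respectTransparency.types false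
universe u
open CategoryTheory CategoryTheory.Limits CategoryTheory.Pretriangulated TensorProduct
open scoped ChangeOfRings

namespace Groth.Agent.Lib.H47LiftCx

attribute [local instance] HasDerivedCategory.standard

section general

variable {R : Type u} [CommRing R]

lemma isZero_Q_obj_of_acyclic (K : CochainComplex (ModuleCat.{u} R) ℤ) (hK : K.Acyclic) :
    IsZero (DerivedCategory.Q.obj K) := by
  have hq : QuasiIso (0 : K ⟶ K) := by
    rw [quasiIso_iff]
    intro i
    rw [quasiIsoAt_iff_exactAt _ _ (hK i)]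
    exact hK i
  have h1 : IsIso (DerivedCategory.Q.map (0 : K ⟶ K)) := by
    rw [DerivedCategory.isIso_Q_map_iff_quasiIso]
    exact hq
  rw [IsZero.iff_id_eq_zero]
  have h2 : DerivedCategory.Q.map (0 : K ⟶ K) = 0 := Functor.map_zero _ _ _
  rw [h2] at h1
  rw [← IsIso.inv_hom_id (0 : DerivedCategory.Q.obj K ⟶ DerivedCategory.Q.obj K), comp_zero]

lemma acyclic_of_isZero_Q_obj (K : CochainComplex (ModuleCat.{u} R) ℤ)
    (h : IsZero (DerivedCategory.Q.obj K)) : K.Acyclic := by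
  intro i
  rw [HomologicalComplex.exactAt_iff_isZero_homology]
  exact IsZero.of_iso ((DerivedCategory.homologyFunctor (ModuleCat.{u} R) i).map_isZero h)
    ((DerivedCategory.homologyFunctorFactors (ModuleCat.{u} R) i).app K).symm

/-- for a short exact sequence of complexes with acyclic middle term, `X₃[-1] ≅ X₁` in `D`. -/
lemma nonempty_iso_of_shortExact_of_acyclic (S : ShortComplex (CochainComplex (ModuleCat.{u} R) ℤ))
    (hS : S.ShortExact) (h2 : S.X₂.Acyclic) :
    Nonempty (DerivedCategory.Q.obj (S.X₃⟦(-1 : ℤ)⟧) ≅ DerivedCategory.Q.obj S.X₁) := by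
  have hd := DerivedCategory.triangleOfSES_distinguished hS
  have hz : IsZero (DerivedCategory.triangleOfSES hS).obj₂ := isZero_Q_obj_of_acyclic _ h2
  have hi : IsIso (DerivedCategory.triangleOfSES hS).mor₃ :=
    (Triangle.isZero₂_iff_isIso₃ _ hd).mp hz
  let e' := asIso (DerivedCategory.triangleOfSES hS).mor₃
  let e : DerivedCategory.Q.obj S.X₃ ≅ (DerivedCategory.Q.obj S.X₁)⟦(1 : ℤ)⟧ := e'
  exact ⟨(DerivedCategory.Q.commShiftIso (-1 : ℤ)).app S.X₃ ≪≫
    (shiftFunctor _ (-1 : ℤ)).mapIso e ≪≫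
    (shiftEquiv (DerivedCategory (ModuleCat.{u} R)) (1 : ℤ)).unitIso.symm.app _⟩

end general


section ext

open Groth.Agent.Lib.NilLiftProj Groth.Agent.Lib.LiftAcyclic

variable {R : Type u} [CommRing R] (I : Ideal R)

/-- extension of scalars along `R → R/I` -/
noncomputable abbrev G : ModuleCat.{u} R ⥤ ModuleCat.{u} (R ⧸ I) :=
  ModuleCat.extendScalars.{u, u, u} (Ideal.Quotient.mk I)

/-- extension of scalars along `R → R/I` on complexes -/
noncomputable abbrev Gc : CochainComplex (ModuleCat.{u} R) ℤ ⥤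
    CochainComplex (ModuleCat.{u} (R ⧸ I)) ℤ :=
  (G I).mapHomologicalComplex (ComplexShape.up ℤ)

lemma exists_one_tmul_eq (Y : ModuleCat.{u} R) (z : (G I).obj Y) :
    ∃ y : Y, (1 : R ⧸ I) ⊗ₜ[R, Ideal.Quotient.mk I] y = z := by
  induction z using TensorProduct.induction_on with
  | zero => exact ⟨0, TensorProduct.tmul_zero _ _⟩
  | tmul s y =>
    obtain ⟨r, rfl⟩ := Ideal.Quotient.mk_surjective s
    refine ⟨r • y, ?_⟩
    have := TensorProduct.smul_tmul (R := R) (R' := R)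
      (M := (ModuleCat.restrictScalars (Ideal.Quotient.mk I)).obj (ModuleCat.of (R ⧸ I) (R ⧸ I)))
      (N := Y) r (1 : R ⧸ I) y
    refine this.symm.trans ?_
    congr 1
    change Ideal.Quotient.mk I r * 1 = _
    rw [mul_one]
  | add a b ha hb =>
    obtain ⟨y1, rfl⟩ := ha
    obtain ⟨y2, rfl⟩ := hb
    exact ⟨y1 + y2, TensorProduct.tmul_add _ _ _⟩

/-- `G` is full on maps out of a projective module. -/
lemma exists_map_eq_of_projective (X Y : ModuleCat.{u} R) [Module.Projective R X]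
    (g : (G I).obj X ⟶ (G I).obj Y) : ∃ g' : X ⟶ Y, (G I).map g' = g := by
  let adj := ModuleCat.extendRestrictScalarsAdj (Ideal.Quotient.mk I)
  have hsurj : Function.Surjective (adj.unit.app Y).hom := by
    intro z
    obtain ⟨y, hy⟩ := exists_one_tmul_eq I Y z
    exact ⟨y, hy⟩
  obtain ⟨h, hh⟩ := Module.projective_lifting_property (adj.unit.app Y).hom
    ((adj.homEquiv X ((G I).obj Y)) g).hom hsurj
  refine ⟨ModuleCat.ofHom h, ?_⟩
  apply ModuleCat.ExtendScalars.hom_ext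
  intro x
  have h1 := LinearMap.congr_fun hh x
  exact h1


lemma sub_mem_of_map_eq {X Y : ModuleCat.{u} R} (g g' : X ⟶ Y) (h : (G I).map g = (G I).map g')
    (x : X) : g x - g' x ∈ I • (⊤ : Submodule R Y) := by
  have h1 : (1 : R ⧸ I) ⊗ₜ[R, Ideal.Quotient.mk I] (g x) =
      (1 : R ⧸ I) ⊗ₜ[R, Ideal.Quotient.mk I] (g' x) :=
    congrArg (fun t : (G I).obj X ⟶ (G I).obj Y =>
      t ((1 : R ⧸ I) ⊗ₜ[R, Ideal.Quotient.mk I] x)) h
  have h2 : (1 : R ⧸ I) ⊗ₜ[R] (g x) = (1 : R ⧸ I) ⊗ₜ[R] (g' x) := congrArg (ese I Y) h1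
  rw [← one_tmul_eq_zero_iff, TensorProduct.tmul_sub, h2, sub_self]

variable (Pc : ObjectProperty (ModuleCat.{u} R)) [Pc.IsClosedUnderIsomorphisms]
  (h1 : ∀ X : ModuleCat.{u} R, Pc X → Module.Projective R X)
  (h2 : ∀ X Y : ModuleCat.{u} R, Pc X → (Pc (ModuleCat.of R (X × Y)) ↔ Pc Y))
  (h3 : ∀ (X Y : ModuleCat.{u} R) (f : X ⟶ Y), Pc X → Pc Y →
      LinearMap.range f.hom ⊔ I • (⊤ : Submodule R Y) = ⊤ → Function.Surjective f.hom)

include h3 in
lemma surjective_of_map_eq_id {X : ModuleCat.{u} R} (hX : Pc X) (g : X ⟶ X)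
    (hg : (G I).map g = 𝟙 _) : Function.Surjective g.hom := by
  apply h3 X X g hX hX
  rw [eq_top_iff]
  intro y _
  have : y = g y - (g y - (𝟙 X : X ⟶ X) y) := by
    change y = g y - (g y - y)
    abel
  rw [this]
  refine Submodule.sub_mem _ (Submodule.mem_sup_left ⟨y, rfl⟩) (Submodule.mem_sup_right ?_)
  exact sub_mem_of_map_eq I g (𝟙 X) (by rw [hg, CategoryTheory.Functor.map_id]) y

include h1 h3 in
lemma isIso_of_map_eq_id {X : ModuleCat.{u} R} (hX : Pc X) (g : X ⟶ X)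
    (hg : (G I).map g = 𝟙 _) : IsIso g := by
  have hsurj := surjective_of_map_eq_id I Pc h3 hX g hg
  have := h1 X hX
  obtain ⟨s, hs⟩ := Module.projective_lifting_property g.hom LinearMap.id hsurj
  have hsg : ModuleCat.ofHom s ≫ g = 𝟙 X := by
    ext x
    exact LinearMap.congr_fun hs x
  have hGs : (G I).map (ModuleCat.ofHom s) = 𝟙 _ := by
    have := congrArg (G I).map hsg
    rw [Functor.map_comp, hg, Category.comp_id, CategoryTheory.Functor.map_id] at this
    exact this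
  have hssurj := surjective_of_map_eq_id I Pc h3 hX (ModuleCat.ofHom s) hGs
  have hinj : Function.Injective g.hom := by
    rw [injective_iff_map_eq_zero]
    intro x hx
    obtain ⟨y, rfl⟩ := hssurj x
    have hy : y = 0 := by
      have := LinearMap.congr_fun hs y
      simp only [LinearMap.coe_comp, Function.comp_apply, LinearMap.id_coe, id_eq] at this
      rw [← this]
      exact hx
    rw [hy]
    exact map_zero _
  exact (ConcreteCategory.isIso_iff_bijective g).mpr ⟨hinj, hsurj⟩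

include h1 h3 in
lemma exists_retraction {X Y : ModuleCat.{u} R} (hX : Pc X) (hY : Pc Y) (f : X ⟶ Y)
    (r : (G I).obj Y ⟶ (G I).obj X) (hr : (G I).map f ≫ r = 𝟙 _) :
    ∃ π : Y ⟶ X, f ≫ π = 𝟙 X := by
  have := h1 Y hY
  obtain ⟨π₀, hπ₀⟩ := exists_map_eq_of_projective I Y X r
  have hg : (G I).map (f ≫ π₀) = 𝟙 _ := by rw [Functor.map_comp, hπ₀, hr]
  have := isIso_of_map_eq_id I Pc h1 h3 hX (f ≫ π₀) hg
  exact ⟨π₀ ≫ inv (f ≫ π₀), by rw [← Category.assoc, IsIso.hom_inv_id]⟩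

include h2 in
lemma pc_cokernel {X Y : ModuleCat.{u} R} (hX : Pc X) (hY : Pc Y) (f : X ⟶ Y)
    (π : Y ⟶ X) (hπ : f ≫ π = 𝟙 X) : Pc (cokernel f) := by
  let S := ShortComplex.mk f (cokernel.π f) (cokernel.condition f)
  have hS : S.Exact := ShortComplex.exact_cokernel f
  let spl : S.Splitting := ShortComplex.Splitting.ofExactOfRetraction S hS π hπ
    (by dsimp [S]; infer_instance)
  let e : Y ≅ ModuleCat.of R (X × (cokernel f : ModuleCat.{u} R)) :=
    spl.isoBinaryBiproduct ≪≫ ModuleCat.biprodIsoProd _ _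
  exact (h2 X (cokernel f) hX).mp (Pc.prop_of_iso e hY)


include h1 h3 in
/-- modules in `Pc` with isomorphic reductions are isomorphic. -/
lemma nonempty_iso_of_map_iso {X Y : ModuleCat.{u} R} (hX : Pc X) (hY : Pc Y)
    (e : (G I).obj X ≅ (G I).obj Y) : Nonempty (X ≅ Y) := by
  have := h1 X hX
  have := h1 Y hY
  obtain ⟨g, hg⟩ := exists_map_eq_of_projective I X Y e.hom
  obtain ⟨g', hg'⟩ := exists_map_eq_of_projective I Y X e.inv
  have i1 := isIso_of_map_eq_id I Pc h1 h3 hX (g ≫ g')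
    (by rw [Functor.map_comp, hg, hg', e.hom_inv_id])
  have i2 := isIso_of_map_eq_id I Pc h1 h3 hY (g' ≫ g)
    (by rw [Functor.map_comp, hg, hg', e.inv_hom_id])
  have hmono : Mono g :=
    mono_of_mono_fac (show g ≫ (g' ≫ inv (g ≫ g')) = 𝟙 X by
      rw [← Category.assoc, IsIso.hom_inv_id])
  have hepi : IsSplitEpi g :=
    IsSplitEpi.mk' ⟨inv (g' ≫ g) ≫ g', by rw [Category.assoc, IsIso.inv_hom_id]⟩
  have : IsIso g := isIso_of_mono_of_isSplitEpi g
  exact ⟨asIso g⟩

include h1 h3 in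
/-- a map between modules in `Pc` which is an isomorphism modulo `I` is an isomorphism. -/
lemma isIso_of_isIso_map {X Y : ModuleCat.{u} R} (hX : Pc X) (hY : Pc Y) (g : X ⟶ Y)
    (hg : IsIso ((G I).map g)) : IsIso g := by
  have := h1 X hX
  have := h1 Y hY
  obtain ⟨g', hg'⟩ := exists_map_eq_of_projective I Y X (inv ((G I).map g))
  have i1 := isIso_of_map_eq_id I Pc h1 h3 hX (g ≫ g')
    (by rw [Functor.map_comp, hg', IsIso.hom_inv_id])
  have i2 := isIso_of_map_eq_id I Pc h1 h3 hY (g' ≫ g)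
    (by rw [Functor.map_comp, hg', IsIso.inv_hom_id])
  have hmono : Mono g :=
    mono_of_mono_fac (show g ≫ (g' ≫ inv (g ≫ g')) = 𝟙 X by
      rw [← Category.assoc, IsIso.hom_inv_id])
  have hepi : IsSplitEpi g :=
    IsSplitEpi.mk' ⟨inv (g' ≫ g) ≫ g', by rw [Category.assoc, IsIso.inv_hom_id]⟩
  exact isIso_of_mono_of_isSplitEpi g

omit [Pc.IsClosedUnderIsomorphisms] in
lemma exists_lift_of_homotopy_zero (Q M : CochainComplex (ModuleCat.{u} R) ℤ)
    (hQ : ∀ i, Module.Projective R (Q.X i))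
    (t : (Gc I).obj Q ⟶ (Gc I).obj M) (h : Homotopy t 0) :
    ∃ f : Q ⟶ M, (Gc I).map f = t := by
  have : ∀ i j, ∃ g' : Q.X i ⟶ M.X j, (G I).map g' = h.hom i j := fun i j => by
    have := hQ i
    exact exists_map_eq_of_projective I (Q.X i) (M.X j) (h.hom i j)
  choose h' hh' using this
  refine ⟨Homotopy.nullHomotopicMap h', ?_⟩
  rw [Homotopy.map_nullHomotopicMap]
  ext i : 2
  have hc := h.comm i
  rw [HomologicalComplex.zero_f, add_zero] at hc
  rw [hc]
  dsimp only [Homotopy.nullHomotopicMap]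
  have hfun : (fun i j => (G I).map (h' i j)) = h.hom := by
    funext i j
    exact hh' i j
  rw [hfun]

end ext


section cone

open CochainComplex

variable {C : Type*} [Category C] [Abelian C] {K L : CochainComplex C ℤ} (φ : K ⟶ L)

/-- the cokernel of `L ⟶ cone φ` is `K⟦1⟧`. -/
noncomputable def cokernelInrIso : cokernel (mappingCone.inr φ) ≅ K⟦(1 : ℤ)⟧ := by
  have hS := HomologicalComplex.shortExact_of_degreewise_shortExact
    (mappingCone.triangleRotateShortComplex φ)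
    (fun n => (mappingCone.triangleRotateShortComplexSplitting φ n).shortExact)
  have := hS.epi_g
  exact (colimit.isColimit _).coconePointUniqueUpToIso hS.exact.gIsCokernel

end cone

section main

open Groth.Agent.Lib.NilLiftProj Groth.Agent.Lib.LiftAcyclic CochainComplex

variable {R : Type u} [CommRing R] (I : Ideal R)
  (Pc : ObjectProperty (ModuleCat.{u} R)) [Pc.IsClosedUnderIsomorphisms]
  (h1 : ∀ X : ModuleCat.{u} R, Pc X → Module.Projective R X)
  (h2 : ∀ X Y : ModuleCat.{u} R, Pc X → (Pc (ModuleCat.of R (X × Y)) ↔ Pc Y))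
  (h3 : ∀ (X Y : ModuleCat.{u} R) (f : X ⟶ Y), Pc X → Pc Y →
      LinearMap.range f.hom ⊔ I • (⊤ : Submodule R Y) = ⊤ → Function.Surjective f.hom)

lemma acyclic_of_iso {A : Type u} [CommRing A] {X Y : CochainComplex (ModuleCat.{u} A) ℤ}
    (e : X ≅ Y) (h : X.Acyclic) : Y.Acyclic := by
  intro i
  rw [HomologicalComplex.exactAt_iff_isZero_homology]
  exact IsZero.of_iso ((HomologicalComplex.exactAt_iff_isZero_homology _ i).mp (h i))
    ((HomologicalComplex.homologyFunctor _ _ i).mapIso e.symm)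

include h1 h2 h3 in
theorem exists_lift_cx
    (Q : CochainComplex (ModuleCat.{u} R) ℤ) (c : ℤ) (hQc : ∀ i : ℤ, c < i → IsZero (Q.X i))
    (hQP : ∀ i : ℤ, Pc (Q.X i))
    (E : CochainComplex (ModuleCat.{u} (R ⧸ I)) ℤ) (b : ℤ) (hEb : ∀ i : ℤ, b < i → IsZero (E.X i))
    (hEt : ∀ i : ℤ, ∃ X : ModuleCat.{u} R, Pc X ∧
      Nonempty (TensorProduct R (R ⧸ I) X ≃ₗ[R ⧸ I] E.X i))
    (φ : E ⟶ (Gc I).obj Q) (hφ : QuasiIso φ) :
    ∃ (P : CochainComplex (ModuleCat.{u} R) ℤ) (b' : ℤ), (∀ i : ℤ, b' < i → IsZero (P.X i)) ∧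
      (∀ i : ℤ, Pc (P.X i)) ∧
      Nonempty (DerivedCategory.Q.obj P ≅ DerivedCategory.Q.obj Q) ∧
      Nonempty ((Gc I).obj P ≅ E) := by
  -- the cone
  have hCa : (mappingCone φ).Acyclic :=
    (Groth.Agent.Lib.ConeQuasiIso.quasiIso_iff_acyclic_mappingCone φ).mp hφ
  have hCb : ∀ i : ℤ, max b c < i → IsZero ((mappingCone φ).X i) := by
    intro i hi
    obtain ⟨e⟩ := Groth.Agent.Lib.H93ConeRep.cone_X_iso φ i
    refine IsZero.of_iso (Groth.Agent.Lib.H93ConeRep.isZero_prod (hEb _ ?_) ?_) e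
    · have := le_max_left b c; omega
    · exact (G I).map_isZero (hQc i (by have := le_max_right b c; omega))
  have hCt : ∀ i : ℤ, ∃ X : ModuleCat.{u} R, Pc X ∧
      Nonempty (TensorProduct R (R ⧸ I) X ≃ₗ[R ⧸ I] (mappingCone φ).X i) := by
    intro i
    obtain ⟨X', hX', ⟨θ⟩⟩ := hEt (i + 1)
    obtain ⟨e⟩ := Groth.Agent.Lib.H93ConeRep.cone_X_iso φ i
    refine ⟨ModuleCat.of R (Q.X i × X'), (h2 (Q.X i) X' (hQP i)).mpr hX', ⟨?_⟩⟩
    refine (TensorProduct.prodRight R (R ⧸ I) (R ⧸ I) (Q.X i) X') ≪≫ₗ ?_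
    refine ?_ ≪≫ₗ e.symm.toLinearEquiv
    exact (LinearEquiv.prodCongr (ese I (Q.X i)).symm θ) ≪≫ₗ (LinearEquiv.prodComm _ _ _)
  obtain ⟨M, hMb, hMa, hMP, ⟨ψ⟩⟩ := exists_lift I Pc h1 (fun X Y hX => (h2 X Y hX).mp) h3
    (mappingCone φ) (max b c) hCb hCa hCt
  -- K-projectivity of `Gc Q`
  have hGQ : ((Gc I).obj Q).IsKProjective := by
    have : ((Gc I).obj Q).IsStrictlyLE c := by
      rw [CochainComplex.isStrictlyLE_iff]
      intro i hi
      exact (G I).map_isZero (hQc i hi)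
    have : ∀ n : ℤ, Projective (((Gc I).obj Q).X n) := by
      intro n
      have := h1 _ (hQP n)
      have h4 : Module.Projective (R ⧸ I) ((R ⧸ I) ⊗[R] (Q.X n)) := inferInstance
      have h5 : Module.Projective (R ⧸ I) ((G I).obj (Q.X n)) :=
        Module.Projective.of_equiv (ese I (Q.X n)).symm
      exact ModuleCat.projective_of_categoryTheory_projective ((G I).obj (Q.X n))
    exact CochainComplex.isKProjective_of_projective _ c
  have hGMa : ((Gc I).obj M).Acyclic := acyclic_of_iso ψ.symm hCa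
  let t : (Gc I).obj Q ⟶ (Gc I).obj M := mappingCone.inr φ ≫ ψ.inv
  have ht := CochainComplex.IsKProjective.homotopyZero t hGMa
  obtain ⟨f, hf⟩ := exists_lift_of_homotopy_zero I Q M (fun i => h1 _ (hQP i)) t ht
  -- retractions
  have hret : ∀ i : ℤ, ∃ π : M.X i ⟶ Q.X i, f.f i ≫ π = 𝟙 _ := by
    intro i
    refine exists_retraction I Pc h1 h3 (hQP i) (hMP i) (f.f i)
      (ψ.hom.f i ≫ (mappingCone.snd φ).v i i (add_zero i)) ?_
    have h7 : (Gc I).map f ≫ ψ.hom = mappingCone.inr φ := by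
      rw [hf, Category.assoc, ψ.inv_hom_id, Category.comp_id]
    have h8 : (G I).map (f.f i) ≫ ψ.hom.f i = (mappingCone.inr φ).f i :=
      congrArg (fun g => g.f i) h7
    exact (Category.assoc _ _ _).symm.trans ((congrArg (· ≫ _) h8).trans
      (mappingCone.inr_f_snd_v φ i))
  choose π hπ using hret
  have hmono : Mono f := by
    apply HomologicalComplex.mono_of_mono_f
    intro i
    exact mono_of_mono_fac (hπ i)
  -- the short exact sequence
  let S := ShortComplex.mk f (cokernel.π f) (cokernel.condition f)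
  have hS : S.ShortExact := ShortComplex.ShortExact.mk' (ShortComplex.exact_cokernel f) hmono
    (by dsimp [S]; infer_instance)
  have hNX : ∀ j : ℤ, Nonempty ((cokernel f).X j ≅ cokernel (f.f j)) := fun j =>
    ⟨PreservesCokernel.iso (HomologicalComplex.eval _ _ j) f⟩
  refine ⟨(cokernel f)⟦(-1 : ℤ)⟧, max b c + 1, ?_, ?_,
    nonempty_iso_of_shortExact_of_acyclic S hS hMa, ⟨?_⟩⟩
  · intro i hi
    obtain ⟨e⟩ := hNX (i + -1)
    refine IsZero.of_iso ?_ e
    exact IsZero.of_epi (cokernel.π (f.f (i + -1))) (hMb _ (by omega))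
  · intro i
    obtain ⟨e⟩ := hNX (i + -1)
    exact Pc.prop_of_iso e.symm (pc_cokernel Pc h2 (hQP _) (hMP _) (f.f _) (π _) (hπ _))
  · refine ((Gc I).commShiftIso (-1 : ℤ)).app (cokernel f) ≪≫
      (CategoryTheory.shiftFunctor _ (-1 : ℤ)).mapIso ?_ ≪≫
      (shiftEquiv (CochainComplex (ModuleCat.{u} (R ⧸ I)) ℤ) (1 : ℤ)).unitIso.symm.app E
    refine PreservesCokernel.iso (Gc I) f ≪≫ ?_ ≪≫ cokernelInrIso φ
    exact cokernel.mapIso _ _ (Iso.refl _) ψ (by
      rw [hf, Iso.refl_hom, Category.id_comp, Category.assoc, ψ.inv_hom_id, Category.comp_id])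


include h1 h2 h3 in
theorem main [DRing.HasLBaseChange (Ideal.Quotient.mk I)]
    (K : DerivedCategory (ModuleCat.{u} R))
    (hK : ∃ (Q : CochainComplex (ModuleCat.{u} R) ℤ) (c : ℤ), (∀ i : ℤ, c < i → IsZero (Q.X i)) ∧
      (∀ i : ℤ, Pc (Q.X i)) ∧ Nonempty (DerivedCategory.Q.obj Q ≅ K))
    (E : CochainComplex (ModuleCat.{u} (R ⧸ I)) ℤ) (b : ℤ) (hEb : ∀ i : ℤ, b < i → IsZero (E.X i))
    (hEt : ∀ i : ℤ, ∃ X : ModuleCat.{u} R, Pc X ∧
      Nonempty (TensorProduct R (R ⧸ I) X ≃ₗ[R ⧸ I] E.X i))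
    (hE : Nonempty (DerivedCategory.Q.obj E ≅ (DRing.LBaseChange (Ideal.Quotient.mk I)).obj K)) :
    ∃ (P : CochainComplex (ModuleCat.{u} R) ℤ) (b' : ℤ), (∀ i : ℤ, b' < i → IsZero (P.X i)) ∧
      (∀ i : ℤ, Pc (P.X i)) ∧ Nonempty (DerivedCategory.Q.obj P ≅ K) ∧
      Nonempty ((Gc I).obj P ≅ E) := by
  obtain ⟨Q, c, hQc, hQP, ⟨iQ⟩⟩ := hK
  obtain ⟨iE⟩ := hE
  have : Q.IsStrictlyLE c := by
    rw [CochainComplex.isStrictlyLE_iff]
    exact hQc
  have : ∀ n : ℤ, Projective (Q.X n) := by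
    intro n
    have := h1 _ (hQP n)
    exact ModuleCat.projective_of_categoryTheory_projective (Q.X n)
  let α : DerivedCategory.Q.obj E ≅ DerivedCategory.Q.obj ((Gc I).obj Q) :=
    iE ≪≫ (DRing.LBaseChange (Ideal.Quotient.mk I)).mapIso iQ.symm ≪≫
      Groth.Agent.Lib.LBaseChangeKProj.lbcIsoOfBdd (Ideal.Quotient.mk I) Q c
  have hEK : E.IsKProjective := by
    have : E.IsStrictlyLE b := by
      rw [CochainComplex.isStrictlyLE_iff]
      exact hEb
    have : ∀ n : ℤ, Projective (E.X n) := by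
      intro n
      obtain ⟨X, hX, ⟨θ⟩⟩ := hEt n
      have := h1 _ hX
      have h4 : Module.Projective (R ⧸ I) ((R ⧸ I) ⊗[R] X) := inferInstance
      have h5 : Module.Projective (R ⧸ I) (E.X n) := Module.Projective.of_equiv θ
      exact ModuleCat.projective_of_categoryTheory_projective (E.X n)
    exact CochainComplex.isKProjective_of_projective _ b
  obtain ⟨φ, hφ⟩ := Groth.Agent.Lib.H93ConeRep.exists_map_eq α.hom
  have hq : QuasiIso φ := by
    rw [← DerivedCategory.isIso_Q_map_iff_quasiIso, hφ]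
    infer_instance
  obtain ⟨P, b', hPb, hPP, ⟨e1⟩, he2⟩ :=
    exists_lift_cx I Pc h1 h2 h3 Q c hQc hQP E b hEb hEt φ hq
  exact ⟨P, b', hPb, hPP, ⟨e1 ≪≫ iQ⟩, he2⟩

end main

end Groth.Agent.Lib.H47LiftCx
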