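import Mathlib
import Groth.Agent.Lib.H47MatCx
import Groth.Agent.Lib.LBaseChangeKProj
import Groth.Agent.Lib.DSplit

/-!
# Splitting a finite free complex near a prime where a fibre cohomology vanishes (helper47; S7002)

* `local_homotopy` : over a local ring, `X₁ → X₂ → X₃` finite free with `b ∘ a = 0`, exact in the
  middle after `⊗ k` ⇒ `a ∘ M + L ∘ b = id` for some `M`, `L`.
* `global_homotopy` : over any ring, exactness after `⊗ κ(p)` ⇒ `a ∘ M + L ∘ b = f • id`, `f ∉ p`.
* `exact_baseChange_of_subsingleton` : `H^i(K ⊗^L κ) = 0` ⇒ exactness of `E ⊗ κ` at `i` for a bounded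
  above projective representative `E`.
* `F_map_smul`, `exists_factor` : after inverting `f`, `d^i ≫ s = pOpcycles i` for some `s`
  (input for `Lib/DSplit`).
* `truncGE_terms` : terms of `P.truncGE n` are finite projective.
* `braiding_fst`, `inl_braiding`.
-/

set_option autoImplicit false
set_option backward.isDefEq.respectTransparency.types false
set_option linter.unusedSectionVars false
universe u
open CategoryTheory CategoryTheory.Limits
attribute [local instance] HasDerivedCategory.standard
open DRing TensorProduct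
open Groth.Agent.Lib.FlatBaseChangeD

namespace Groth.Agent.Lib.H47LocSplit



section lemA

variable {A : Type u} [CommRing A] [IsLocalRing A]
  {X₁ X₂ X₃ : Type u} [AddCommGroup X₁] [AddCommGroup X₂] [AddCommGroup X₃]
  [Module A X₁] [Module A X₂] [Module A X₃]
  [Module.Finite A X₂] [Module.Free A X₂] [Module.Finite A X₃] [Module.Free A X₃]

lemma local_homotopy (a : X₁ →ₗ[A] X₂) (b : X₂ →ₗ[A] X₃) (hba : b ∘ₗ a = 0)
    (hex : Function.Exact (a.lTensor (IsLocalRing.ResidueField A))
      (b.lTensor (IsLocalRing.ResidueField A))) :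
    ∃ (M : X₂ →ₗ[A] X₁) (L : X₃ →ₗ[A] X₂), a ∘ₗ M + L ∘ₗ b = LinearMap.id := by
  let k := IsLocalRing.ResidueField A
  let π := (LinearMap.range a).mkQ
  have hle : LinearMap.range a ≤ LinearMap.ker b := by
    rintro _ ⟨x, rfl⟩
    exact LinearMap.congr_fun hba x
  let b' : (X₂ ⧸ LinearMap.range a) →ₗ[A] X₃ := (LinearMap.range a).liftQ b hle
  have hb'π : b' ∘ₗ π = b := (LinearMap.range a).liftQ_mkQ b hle
  have hexπ : Function.Exact (a.lTensor k) (π.lTensor k) :=
    lTensor_exact k (LinearMap.exact_map_mkQ_range a) (Submodule.mkQ_surjective _)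
  have hsurj : Function.Surjective (π.lTensor k) :=
    LinearMap.lTensor_surjective k (Submodule.mkQ_surjective _)
  have hinj : Function.Injective (b'.lTensor k) := by
    rw [injective_iff_map_eq_zero]
    intro z hz
    obtain ⟨x, rfl⟩ := hsurj z
    rw [← LinearMap.comp_apply, ← LinearMap.lTensor_comp, hb'π] at hz
    obtain ⟨y, rfl⟩ := (hex x).mp hz
    exact hexπ.apply_apply_eq_zero y
  obtain ⟨l', hl'⟩ :=
    (IsLocalRing.split_injective_iff_lTensor_residueField_injective b').mpr hinj
  have hproj : Module.Projective A (X₂ ⧸ LinearMap.range a) :=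
    Module.Projective.of_split b' l' hl'
  obtain ⟨σ, hσ⟩ := Module.projective_lifting_property π LinearMap.id
    (Submodule.mkQ_surjective _)
  have hmem : ∀ x, ((LinearMap.id : X₂ →ₗ[A] X₂) - σ ∘ₗ π) x ∈ LinearMap.range a := by
    intro x
    rw [← Submodule.Quotient.mk_eq_zero, ← Submodule.mkQ_apply]
    change π (((LinearMap.id : X₂ →ₗ[A] X₂) - σ ∘ₗ π) x) = 0
    rw [LinearMap.sub_apply, map_sub, LinearMap.id_apply, LinearMap.comp_apply,
      ← LinearMap.comp_apply π σ, hσ, LinearMap.id_apply, sub_self]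
  obtain ⟨M, hM⟩ := Module.projective_lifting_property a.rangeRestrict
    (((LinearMap.id : X₂ →ₗ[A] X₂) - σ ∘ₗ π).codRestrict (LinearMap.range a) hmem)
    a.surjective_rangeRestrict
  refine ⟨M, σ ∘ₗ l', ?_⟩
  have h1 : a ∘ₗ M = LinearMap.id - σ ∘ₗ π := by
    ext x
    have := congrArg Subtype.val (LinearMap.congr_fun hM x)
    exact this
  have h2 : (σ ∘ₗ l') ∘ₗ b = σ ∘ₗ π := by
    rw [← hb'π, LinearMap.comp_assoc, ← LinearMap.comp_assoc π b' l', hl', LinearMap.id_comp]
  rw [h1, h2, sub_add_cancel]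

end lemA

section lemB

variable {R : Type u} [CommRing R] (p : Ideal R) [p.IsPrime]
  {X₁ X₂ X₃ : Type u} [AddCommGroup X₁] [AddCommGroup X₂] [AddCommGroup X₃]
  [Module R X₁] [Module R X₂] [Module R X₃]

/-- naturality of `cancelBaseChange`. -/
lemma cancelBaseChange_nat {X Y : Type u} [AddCommGroup X] [AddCommGroup Y] [Module R X]
    [Module R Y] (l : X →ₗ[R] Y)
    (z : p.ResidueField ⊗[Localization.AtPrime p] (Localization.AtPrime p ⊗[R] X)) :
    AlgebraTensorModule.cancelBaseChange R (Localization.AtPrime p) p.ResidueField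
        p.ResidueField Y ((l.baseChange (Localization.AtPrime p)).lTensor p.ResidueField z) =
      l.baseChange p.ResidueField
        (AlgebraTensorModule.cancelBaseChange R (Localization.AtPrime p) p.ResidueField
          p.ResidueField X z) := by
  induction z using TensorProduct.induction_on with
  | zero => simp
  | add x y hx hy => simp only [map_add, hx, hy]
  | tmul c w =>
    induction w using TensorProduct.induction_on with
    | zero => simp
    | add x y hx hy => simp only [tmul_add, map_add, hx, hy]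
    | tmul a' x => simp

variable [Module.Finite R X₂] [Module.Free R X₂] [Module.Finite R X₃] [Module.Free R X₃]

lemma global_homotopy (a : X₁ →ₗ[R] X₂) (b : X₂ →ₗ[R] X₃) (hba : b ∘ₗ a = 0)
    (hex : Function.Exact (a.baseChange p.ResidueField) (b.baseChange p.ResidueField)) :
    ∃ (f : R) (M : X₂ →ₗ[R] X₁) (L : X₃ →ₗ[R] X₂), f ∉ p ∧
      a ∘ₗ M + L ∘ₗ b = f • LinearMap.id := by
  let A := Localization.AtPrime p
  let κ := p.ResidueField
  let a' := a.baseChange A
  let b' := b.baseChange A
  have hba' : b' ∘ₗ a' = 0 := by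
    rw [← LinearMap.baseChange_comp, hba, LinearMap.baseChange_zero]
  have hex' : Function.Exact (a'.lTensor (IsLocalRing.ResidueField A))
      (b'.lTensor (IsLocalRing.ResidueField A)) := by
    intro z
    let e₁ := AlgebraTensorModule.cancelBaseChange R A κ κ X₁
    let e₂ := AlgebraTensorModule.cancelBaseChange R A κ κ X₂
    let e₃ := AlgebraTensorModule.cancelBaseChange R A κ κ X₃
    have h1 : b'.lTensor κ z = 0 ↔ b.baseChange κ (e₂ z) = 0 := by
      rw [← cancelBaseChange_nat p b z]
      exact (LinearEquiv.map_eq_zero_iff e₃).symm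
    change b'.lTensor κ z = 0 ↔ _
    rw [h1, hex (e₂ z)]
    constructor
    · rintro ⟨y, hy⟩
      refine ⟨e₁.symm y, ?_⟩
      apply e₂.injective
      change e₂ (a'.lTensor κ (e₁.symm y)) = _
      rw [cancelBaseChange_nat p a, LinearEquiv.apply_symm_apply, hy]
    · rintro ⟨y, rfl⟩
      exact ⟨e₁ y, (cancelBaseChange_nat p a y).symm⟩
  obtain ⟨M', L', hML⟩ := local_homotopy a' b' hba' hex'
  let S := p.primeCompl
  have : Module.FinitePresentation R X₂ := Module.finitePresentation_of_projective R X₂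
  have : Module.FinitePresentation R X₃ := Module.finitePresentation_of_projective R X₃
  let f₁ : X₁ →ₗ[R] A ⊗[R] X₁ := TensorProduct.mk R A X₁ 1
  let f₂ : X₂ →ₗ[R] A ⊗[R] X₂ := TensorProduct.mk R A X₂ 1
  let f₃ : X₃ →ₗ[R] A ⊗[R] X₃ := TensorProduct.mk R A X₃ 1
  obtain ⟨M₀, s₁, hM₀⟩ := Module.FinitePresentation.exists_lift_of_isLocalizedModule S f₁
    ((M'.restrictScalars R) ∘ₗ f₂)
  obtain ⟨L₀, s₂, hL₀⟩ := Module.FinitePresentation.exists_lift_of_isLocalizedModule S f₂
    ((L'.restrictScalars R) ∘ₗ f₃)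
  have hfa : ∀ x, f₂ (a x) = a' (f₁ x) := fun x => (LinearMap.baseChange_tmul a 1 x).symm
  have hfb : ∀ x, f₃ (b x) = b' (f₂ x) := fun x => (LinearMap.baseChange_tmul b 1 x).symm
  have hM₀' : ∀ x, f₁ (M₀ x) = (s₁ : R) • M' (f₂ x) := fun x => LinearMap.congr_fun hM₀ x
  have hL₀' : ∀ x, f₂ (L₀ x) = (s₂ : R) • L' (f₃ x) := fun x => LinearMap.congr_fun hL₀ x
  have hML' : ∀ w, a' (M' w) + L' (b' w) = w := fun w => LinearMap.congr_fun hML w
  have hcomp : f₂ ∘ₗ (a ∘ₗ ((s₂ : R) • M₀) + ((s₁ : R) • L₀) ∘ₗ b) =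
      f₂ ∘ₗ (((s₁ : R) * (s₂ : R)) • LinearMap.id) := by
    ext x
    simp only [LinearMap.comp_apply, LinearMap.add_apply, LinearMap.smul_apply, map_add, map_smul,
      LinearMap.id_apply, hfa, hM₀', hL₀', hfb, LinearMap.map_smul_of_tower]
    rw [smul_smul (s₂ : R) (s₁ : R), smul_smul (s₁ : R) (s₂ : R), mul_comm (s₂ : R) (s₁ : R),
      ← smul_add, hML']
  obtain ⟨t, ht⟩ := Module.Finite.exists_smul_of_comp_eq_of_isLocalizedModule S f₂ _ _ hcomp
  refine ⟨(t : R) * ((s₁ : R) * (s₂ : R)), ((t : R) * (s₂ : R)) • M₀, ((t : R) * (s₁ : R)) • L₀,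
    ?_, ?_⟩
  · exact (t * (s₁ * s₂)).2
  · have ht' : (t : R) • (a ∘ₗ ((s₂ : R) • M₀) + ((s₁ : R) • L₀) ∘ₗ b) =
        (t : R) • (((s₁ : R) * (s₂ : R)) • LinearMap.id) := ht
    rw [mul_smul (t : R) ((s₁ : R) * (s₂ : R)) (LinearMap.id : X₂ →ₗ[R] X₂), ← ht']
    ext x
    simp only [LinearMap.comp_apply, LinearMap.add_apply, LinearMap.smul_apply, map_smul, smul_add,
      smul_smul]

end lemB



section step3

variable {R κ : Type u} [CommRing R] [CommRing κ] [Algebra R κ]
  [DRing.HasLBaseChange (algebraMap R κ)]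

lemma exact_baseChange_of_subsingleton (i : ℤ) (K : Dual.D R) (E : DRing.Cx R) (b : ℤ)
    [E.IsStrictlyLE b] [∀ n, Projective (E.X n)] (eE : DRing.toD E ≅ K)
    (hi : Subsingleton (Dual.HD κ ((DRing.LBaseChange (algebraMap R κ)).obj K) i)) :
    Function.Exact ((E.d (i - 1) i).hom.baseChange κ) ((E.d i (i + 1)).hom.baseChange κ) := by
  let P := ((F R κ).mapHomologicalComplex (ComplexShape.up ℤ)).obj E
  let iso : (DerivedCategory.homologyFunctor _ i).obj
      ((DRing.LBaseChange (algebraMap R κ)).obj K) ≅ P.homology i :=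
    (DerivedCategory.homologyFunctor _ i).mapIso
      ((DRing.LBaseChange (algebraMap R κ)).mapIso eE.symm ≪≫
        Groth.Agent.Lib.LBaseChangeKProj.lbcIsoOfBdd (algebraMap R κ) E b) ≪≫
    (DerivedCategory.homologyFunctorFactors _ i).app P
  have hz : IsZero (P.homology i) :=
    IsZero.of_iso (ModuleCat.isZero_of_subsingleton _) iso.symm
  have hex : P.ExactAt i := (HomologicalComplex.exactAt_iff_isZero_homology _ _).mpr hz
  rw [P.exactAt_iff' (i - 1) i (i + 1) (by simp) (by simp),
    ShortComplex.ShortExact.moduleCat_exact_iff_function_exact] at hex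
  have hex' : Function.Exact ((F R κ).map (E.d (i - 1) i)).hom ((F R κ).map (E.d i (i + 1))).hom :=
    hex
  intro x
  obtain ⟨x', rfl⟩ := (objEquiv (A := R) (B := κ) (E.X i)).surjective x
  rw [← Groth.Agent.Lib.H47MatCx.objEquiv_map, LinearEquiv.map_eq_zero_iff, hex' x']
  constructor
  · rintro ⟨y, rfl⟩
    exact ⟨objEquiv (A := R) (B := κ) (E.X (i - 1)) y,
      (Groth.Agent.Lib.H47MatCx.objEquiv_map _ y).symm⟩
  · rintro ⟨y, hy⟩
    obtain ⟨y', rfl⟩ := (objEquiv (A := R) (B := κ) (E.X (i - 1))).surjective y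
    refine ⟨y', (objEquiv (A := R) (B := κ) (E.X i)).injective ?_⟩
    rw [Groth.Agent.Lib.H47MatCx.objEquiv_map]
    exact hy

end step3

section step4

variable {R B : Type u} [CommRing R] [CommRing B] [Algebra R B]

open scoped ChangeOfRings

lemma F_map_smul {X Y : ModuleCat.{u} R} (r : R) (g : X ⟶ Y) :
    (F R B).map (r • g) = algebraMap R B r • (F R B).map g := by
  refine ModuleCat.hom_ext (LinearMap.ext fun x => ?_)
  refine TensorProduct.induction_on (motive := fun x : (F R B).obj X =>
    ((F R B).map (r • g)).hom x = (algebraMap R B r • (F R B).map g).hom x) x ?_ ?_ ?_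
  · change ((F R B).map (r • g)).hom (0 : (F R B).obj X) =
      (algebraMap R B r • (F R B).map g).hom (0 : (F R B).obj X)
    rw [map_zero, map_zero]
  · intro s m
    change ((F R B).map (r • g)).hom (s ⊗ₜ[R, algebraMap R B] m) =
      algebraMap R B r • ((F R B).map g).hom (s ⊗ₜ[R, algebraMap R B] m)
    rw [ModuleCat.ExtendScalars.map_tmul, ModuleCat.ExtendScalars.map_tmul]
    refine Eq.trans ?_ (ModuleCat.ExtendScalars.smul_tmul (f := algebraMap R B)
      (algebraMap R B r) s (g.hom m)).symm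
    exact (TensorProduct.smul_tmul (R := R) (R' := R)
      (M := (ModuleCat.restrictScalars (algebraMap R B)).obj (ModuleCat.of B B))
      (N := Y) r s (g.hom m)).symm
  · intro x y hx hy
    let x' : (F R B).obj X := x
    let y' : (F R B).obj X := y
    change ((F R B).map (r • g)).hom (x' + y') = (algebraMap R B r • (F R B).map g).hom (x' + y')
    rw [map_add, map_add]
    exact congrArg₂ (· + ·) hx hy

lemma exists_factor (E : DRing.Cx R) (i : ℤ) (f : R) (hf : IsUnit (algebraMap R B f))
    (M₁ : E.X i ⟶ E.X (i - 1)) (L₁ : E.X (i + 1) ⟶ E.X i)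
    (h : M₁ ≫ E.d (i - 1) i + E.d i (i + 1) ≫ L₁ = f • 𝟙 (E.X i)) :
    ∃ s : (bcCx B E).X (i + 1) ⟶ (bcCx B E).opcycles i,
      (bcCx B E).d i (i + 1) ≫ s = (bcCx B E).pOpcycles i := by
  obtain ⟨c, hc⟩ := hf.exists_left_inv
  let P := bcCx B E
  let M' : P.X i ⟶ P.X (i - 1) := (F R B).map M₁
  let L' : P.X (i + 1) ⟶ P.X i := (F R B).map L₁
  have h1 : M' ≫ P.d (i - 1) i + P.d i (i + 1) ≫ L' = algebraMap R B f • 𝟙 (P.X i) := by
    have := congrArg (fun g => (F R B).map g) h
    simp only [Functor.map_add, Functor.map_comp, F_map_smul, CategoryTheory.Functor.map_id] at this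
    exact this
  refine ⟨(c • L') ≫ P.pOpcycles i, ?_⟩
  have h2 : P.d i (i + 1) ≫ (c • L') = 𝟙 (P.X i) - (c • M') ≫ P.d (i - 1) i := by
    rw [eq_sub_iff_add_eq, Linear.comp_smul, Linear.smul_comp, ← smul_add, add_comm, h1, smul_smul,
      hc, one_smul]
  rw [← Category.assoc, h2, Preadditive.sub_comp, Category.id_comp, Category.assoc,
    HomologicalComplex.d_pOpcycles, comp_zero, sub_zero]

end step4

section braid

variable {C : Type*} [Category C] [HasZeroMorphisms C] [HasBinaryBiproducts C] (X Y : C)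

lemma braiding_fst : (biprod.braiding X Y).hom ≫ biprod.fst = biprod.snd := by simp

lemma inl_braiding : biprod.inl ≫ (biprod.braiding X Y).hom = biprod.inr := by
  ext <;> simp

end braid

section step5

variable {B : Type u} [CommRing B]

lemma truncGE_terms (P : DRing.Cx B) (n b : ℤ) [P.IsStrictlyLE b]
    (hfin : ∀ k, Module.Finite B (P.X k)) (hproj : ∀ k, Module.Projective B (P.X k))
    (hop : Module.Projective B (P.opcycles n)) :
    DRing.VanishesOutside (P.truncGE n) n b ∧ DRing.TermwiseFiniteProjective (P.truncGE n) := by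
  constructor
  · rintro k (hk | hk)
    · exact (P.truncGE n).isZero_of_isStrictlyGE n k hk
    · have := Groth.Agent.Lib.DSplit.isStrictlyLE_truncGE P n b
      exact (P.truncGE n).isZero_of_isStrictlyLE b k hk
  · intro k
    obtain h | rfl | h := lt_trichotomy k n
    · have hz : IsZero ((P.truncGE n).X k) := (P.truncGE n).isZero_of_isStrictlyGE n k h
      have : Subsingleton ((P.truncGE n).X k) := ModuleCat.subsingleton_of_isZero hz
      exact ⟨inferInstance, inferInstance⟩
    · have e := (P.truncGEXIsoOpcycles k).toLinearEquiv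
      have hf : Module.Finite B (P.opcycles k) :=
        have := hfin k
        Module.Finite.of_surjective (P.pOpcycles k).hom
          ((ModuleCat.epi_iff_surjective _).mp inferInstance)
      exact ⟨Module.Finite.equiv e.symm, Module.Projective.of_equiv e.symm⟩
    · have e := (P.truncGEXIso n k h).toLinearEquiv
      have := hfin k
      have := hproj k
      exact ⟨Module.Finite.equiv e.symm, Module.Projective.of_equiv e.symm⟩

end step5


end Groth.Agent.Lib.H47LocSplit
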