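import Mathlib
import Groth.Agent.Lib.H47LiftCx
import Groth.Agent.S7011

/-!
# Minimal complexes over a local ring (helper47; Stacks 15.75 "minimal complexes")

* `isIso_f_of_quasiIso_of_d_eq_zero` : a quasi-isomorphism between complexes with zero differentials
  is a termwise isomorphism.
* over a field: `d_eq_zero_of_finrank_eq`, `homCx`, `homCxMap` (quasi-isomorphism from the
  cohomology complex), `finite_homology`.
* `exists_minimal`, `unique_minimal` : existence and uniqueness of minimal free representatives of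
  pseudo-coherent objects of `D(R)`, `R` local.
-/

set_option autoImplicit false
set_option backward.isDefEq.respectTransparency.types false
set_option linter.unusedSectionVars false
universe u
open CategoryTheory CategoryTheory.Limits

namespace Groth.Agent.Lib.H47MinimalCx

section zeroDiff

variable {C : Type*} [Category C] [Abelian C]

lemma isIso_f_of_quasiIso_of_d_eq_zero {X Y : CochainComplex C ℤ} (f : X ⟶ Y) [QuasiIso f]
    (hX : ∀ i j, X.d i j = 0) (hY : ∀ i j, Y.d i j = 0) (i : ℤ) : IsIso (f.f i) := by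
  have h1 := X.isIso_iCycles i (i + 1) (by simp) (hX _ _)
  have h2 := X.isIso_homologyπ (i - 1) i (by simp) (hX _ _)
  have h3 := Y.isIso_iCycles i (i + 1) (by simp) (hY _ _)
  have h4 := Y.isIso_homologyπ (i - 1) i (by simp) (hY _ _)
  have h5 : IsIso (HomologicalComplex.homologyMap f i) := inferInstance
  have e1 : HomologicalComplex.cyclesMap f i =
      X.homologyπ i ≫ HomologicalComplex.homologyMap f i ≫ inv (Y.homologyπ i) := by
    rw [HomologicalComplex.homologyπ_naturality_assoc, IsIso.hom_inv_id, Category.comp_id]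
  have h6 : IsIso (HomologicalComplex.cyclesMap f i) := by
    rw [e1]
    infer_instance
  have e2 : f.f i = inv (X.iCycles i) ≫ HomologicalComplex.cyclesMap f i ≫ Y.iCycles i := by
    rw [HomologicalComplex.cyclesMap_i, IsIso.inv_hom_id_assoc]
  rw [e2]
  infer_instance

end zeroDiff

section field

variable {κ : Type u} [Field κ]

lemma d_eq_zero_of_finrank_eq (X : CochainComplex (ModuleCat.{u} κ) ℤ)
    (hfin : ∀ i, Module.Finite κ (X.X i))
    (h : ∀ i, Module.finrank κ (X.homology i) = Module.finrank κ (X.X i)) (i j : ℤ) :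
    X.d i j = 0 := by
  by_cases hij : i + 1 = j
  · have := hfin i
    have hinj : Function.Injective (X.iCycles i).hom :=
      (ModuleCat.mono_iff_injective (X.iCycles i)).mp inferInstance
    have hsurj : Function.Surjective (X.homologyπ i).hom :=
      (ModuleCat.epi_iff_surjective (X.homologyπ i)).mp inferInstance
    have hfc : Module.Finite κ (X.cycles i) := Module.Finite.of_injective _ hinj
    have l1 : Module.finrank κ (X.homology i) ≤ Module.finrank κ (X.cycles i) :=
      LinearMap.finrank_le_finrank_of_surjective hsurj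
    have l2 : Module.finrank κ (X.cycles i) ≤ Module.finrank κ (X.X i) :=
      LinearMap.finrank_le_finrank_of_injective hinj
    have l3 : Module.finrank κ (X.cycles i) = Module.finrank κ (X.X i) := by
      have := h i
      omega
    have hs : Function.Surjective (X.iCycles i).hom :=
      (LinearMap.injective_iff_surjective_of_finrank_eq_finrank l3).mp hinj
    have : Epi (X.iCycles i) := (ModuleCat.epi_iff_surjective _).mpr hs
    rw [← cancel_epi (X.iCycles i), HomologicalComplex.iCycles_d, comp_zero]
  · exact X.shape i j hij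

/-- the complex of cohomology modules with zero differentials -/
noncomputable def homCx (Y : CochainComplex (ModuleCat.{u} κ) ℤ) :
    CochainComplex (ModuleCat.{u} κ) ℤ where
  X i := Y.homology i
  d _ _ := 0
  shape _ _ _ := rfl
  d_comp_d' _ _ _ _ _ := zero_comp

lemma homCx_d (Y : CochainComplex (ModuleCat.{u} κ) ℤ) (i j : ℤ) : (homCx Y).d i j = 0 := rfl

instance (M : ModuleCat.{u} κ) : Projective M := by
  have : Module.Projective κ M := Module.Projective.of_free
  exact ModuleCat.projective_of_categoryTheory_projective M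

/-- a section of `cycles → homology` -/
noncomputable def sec (Y : CochainComplex (ModuleCat.{u} κ) ℤ) (i : ℤ) :
    Y.homology i ⟶ Y.cycles i :=
  Projective.factorThru (𝟙 _) (Y.homologyπ i)

@[reassoc (attr := simp)]
lemma sec_homologyπ (Y : CochainComplex (ModuleCat.{u} κ) ℤ) (i : ℤ) :
    sec Y i ≫ Y.homologyπ i = 𝟙 _ :=
  Projective.factorThru_comp _ _

/-- the quasi-isomorphism from the cohomology complex -/
noncomputable def homCxMap (Y : CochainComplex (ModuleCat.{u} κ) ℤ) : homCx Y ⟶ Y where
  f i := sec Y i ≫ Y.iCycles i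
  comm' i j _ := by
    rw [homCx_d, zero_comp, Category.assoc, HomologicalComplex.iCycles_d, comp_zero]

instance (Y : CochainComplex (ModuleCat.{u} κ) ℤ) : QuasiIso (homCxMap Y) := by
  rw [quasiIso_iff]
  intro i
  rw [quasiIsoAt_iff_isIso_homologyMap]
  have h1 := (homCx Y).isIso_iCycles i (i + 1) (by simp) (homCx_d Y _ _)
  have h2 := (homCx Y).isIso_homologyπ (i - 1) i (by simp) (homCx_d Y _ _)
  have e1 : HomologicalComplex.cyclesMap (homCxMap Y) i = (homCx Y).iCycles i ≫ sec Y i := by
    rw [← cancel_mono (Y.iCycles i), HomologicalComplex.cyclesMap_i, Category.assoc]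
    rfl
  have e3 : (homCx Y).homologyπ i ≫ HomologicalComplex.homologyMap (homCxMap Y) i =
      (homCx Y).iCycles i := by
    rw [HomologicalComplex.homologyπ_naturality, e1, Category.assoc]
    exact (congrArg (_ ≫ ·) (sec_homologyπ Y i)).trans (Category.comp_id _)
  have e2 : HomologicalComplex.homologyMap (homCxMap Y) i =
      inv ((homCx Y).homologyπ i) ≫ (homCx Y).iCycles i := (IsIso.eq_inv_comp _).mpr e3
  rw [e2]
  exact IsIso.comp_isIso' inferInstance h1


lemma finite_homology (X : CochainComplex (ModuleCat.{u} κ) ℤ) (i : ℤ)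
    (hfin : Module.Finite κ (X.X i)) : Module.Finite κ (X.homology i) := by
  have hinj : Function.Injective (X.iCycles i).hom :=
    (ModuleCat.mono_iff_injective (X.iCycles i)).mp inferInstance
  have hsurj : Function.Surjective (X.homologyπ i).hom :=
    (ModuleCat.epi_iff_surjective (X.homologyπ i)).mp inferInstance
  have hfc : Module.Finite κ (X.cycles i) := Module.Finite.of_injective _ hinj
  exact Module.Finite.of_surjective _ hsurj

end field

section anyring

variable {A : Type u} [CommRing A]

lemma isZero_homology_of_isZero (X : CochainComplex (ModuleCat.{u} A) ℤ) (i : ℤ)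
    (h : IsZero (X.X i)) : IsZero (X.homology i) := by
  rw [← HomologicalComplex.exactAt_iff_isZero_homology]
  exact ShortComplex.exact_of_isZero_X₂ _ h

end anyring


section core

attribute [local instance] HasDerivedCategory.standard
open Groth.Agent.Lib.H47LiftCx Groth.Agent.Lib.LiftAcyclic TensorProduct

variable (R : Type u) [CommRing R] [IsLocalRing R]


variable [DRing.HasLBaseChange (Ideal.Quotient.mk (IsLocalRing.maximalIdeal R))]

/-- the comparison iso on cohomology -/
noncomputable def hdIso (K : DerivedCategory (ModuleCat.{u} R))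
    (P : CochainComplex (ModuleCat.{u} R) ℤ) (b : ℤ)
    [P.IsStrictlyLE b] [∀ i, Projective (P.X i)] (iP : DerivedCategory.Q.obj P ≅ K) (i : ℤ) :
    (DerivedCategory.homologyFunctor _ i).obj
      ((DRing.LBaseChange (Ideal.Quotient.mk (IsLocalRing.maximalIdeal R))).obj K) ≅ ((Gc (IsLocalRing.maximalIdeal R)).obj P).homology i :=
  (DerivedCategory.homologyFunctor _ i).mapIso
    ((DRing.LBaseChange (Ideal.Quotient.mk (IsLocalRing.maximalIdeal R))).mapIso iP.symm ≪≫
      Groth.Agent.Lib.LBaseChangeKProj.lbcIsoOfBdd (Ideal.Quotient.mk (IsLocalRing.maximalIdeal R)) P b) ≪≫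
  (DerivedCategory.homologyFunctorFactors _ i).app ((Gc (IsLocalRing.maximalIdeal R)).obj P)

lemma le_jac : (IsLocalRing.maximalIdeal R) ≤ Ideal.jacobson (⊥ : Ideal R) :=
  (IsLocalRing.jacobson_eq_maximalIdeal _ bot_ne_top).ge

lemma finrank_G (X : ModuleCat.{u} R) [Module.Free R X] [Module.Finite R X] :
    Module.finrank (R ⧸ (IsLocalRing.maximalIdeal R)) ((G (IsLocalRing.maximalIdeal R)).obj X) = Module.finrank R X := by
  rw [(ese (IsLocalRing.maximalIdeal R) X).finrank_eq]
  exact Module.finrank_baseChange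

lemma finite_G (X : ModuleCat.{u} R) [Module.Finite R X] :
    Module.Finite (R ⧸ (IsLocalRing.maximalIdeal R)) ((G (IsLocalRing.maximalIdeal R)).obj X) :=
  Module.Finite.equiv (ese (IsLocalRing.maximalIdeal R) X).symm


/-- the predicate "minimal complex" -/
def Minimal (K : DerivedCategory (ModuleCat.{u} R)) (P : CochainComplex (ModuleCat.{u} R) ℤ) : Prop :=
  (∃ b : ℤ, ∀ i : ℤ, b < i → IsZero (P.X i)) ∧
  (∀ i : ℤ, Module.Free R (P.X i) ∧ Module.Finite R (P.X i) ∧
    Module.finrank R (P.X i) = Module.finrank (R ⧸ (IsLocalRing.maximalIdeal R))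
      ((DerivedCategory.homologyFunctor (ModuleCat.{u} (R ⧸ (IsLocalRing.maximalIdeal R))) i).obj
        ((DRing.LBaseChange (Ideal.Quotient.mk (IsLocalRing.maximalIdeal R))).obj K))) ∧
  Nonempty (DerivedCategory.Q.obj P ≅ K)

theorem unique_minimal (K : DerivedCategory (ModuleCat.{u} R))
    (P Q : CochainComplex (ModuleCat.{u} R) ℤ) (hP : Minimal R K P) (hQ : Minimal R K Q) :
    Nonempty (P ≅ Q) := by
  let _ : Field (R ⧸ (IsLocalRing.maximalIdeal R)) := Ideal.Quotient.field _
  obtain ⟨⟨bP, hPb⟩, hPt, ⟨iP⟩⟩ := hP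
  obtain ⟨⟨bQ, hQb⟩, hQt, ⟨iQ⟩⟩ := hQ
  have : P.IsStrictlyLE bP := by
    rw [CochainComplex.isStrictlyLE_iff]; exact hPb
  have : Q.IsStrictlyLE bQ := by
    rw [CochainComplex.isStrictlyLE_iff]; exact hQb
  have hPproj : ∀ n : ℤ, Projective (P.X n) := fun n => by
    have := (hPt n).1
    have : Module.Projective R (P.X n) := Module.Projective.of_free
    exact ModuleCat.projective_of_categoryTheory_projective (P.X n)
  have hQproj : ∀ n : ℤ, Projective (Q.X n) := fun n => by
    have := (hQt n).1
    have : Module.Projective R (Q.X n) := Module.Projective.of_free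
    exact ModuleCat.projective_of_categoryTheory_projective (Q.X n)
  have := CochainComplex.isKProjective_of_projective P bP
  obtain ⟨φ, hφ⟩ := Groth.Agent.Lib.H93ConeRep.exists_map_eq (iP.hom ≫ iQ.inv)
  -- the reduction of `φ` is a quasi-isomorphism
  have hq : QuasiIso ((Gc (IsLocalRing.maximalIdeal R)).map φ) := by
    rw [← DerivedCategory.isIso_Q_map_iff_quasiIso]
    have hn := Groth.Agent.Lib.LBaseChangeKProj.lbcIsoOfBdd_hom_naturality
      (Ideal.Quotient.mk (IsLocalRing.maximalIdeal R)) bP bQ φ
    have h1 : IsIso ((DRing.LBaseChange (Ideal.Quotient.mk (IsLocalRing.maximalIdeal R))).map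
        (DerivedCategory.Q.map φ)) := by
      rw [hφ]; infer_instance
    have h2 : DerivedCategory.Q.map ((Gc (IsLocalRing.maximalIdeal R)).map φ) =
        (Groth.Agent.Lib.LBaseChangeKProj.lbcIsoOfBdd
          (Ideal.Quotient.mk (IsLocalRing.maximalIdeal R)) P bP).inv ≫
        (DRing.LBaseChange (Ideal.Quotient.mk (IsLocalRing.maximalIdeal R))).map
          (DerivedCategory.Q.map φ) ≫
        (Groth.Agent.Lib.LBaseChangeKProj.lbcIsoOfBdd
          (Ideal.Quotient.mk (IsLocalRing.maximalIdeal R)) Q bQ).hom := by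
      rw [hn, Iso.inv_hom_id_assoc]
    rw [h2]
    infer_instance
  -- zero differentials
  have hdP : ∀ i j, ((Gc (IsLocalRing.maximalIdeal R)).obj P).d i j = 0 := by
    apply d_eq_zero_of_finrank_eq
    · intro i
      have := (hPt i).2.1
      exact finite_G R (P.X i)
    · intro i
      have := (hPt i).1
      have := (hPt i).2.1
      rw [← (hdIso R K P bP iP i).toLinearEquiv.finrank_eq]
      exact ((hPt i).2.2).symm.trans (finrank_G R (P.X i)).symm
  have hdQ : ∀ i j, ((Gc (IsLocalRing.maximalIdeal R)).obj Q).d i j = 0 := by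
    apply d_eq_zero_of_finrank_eq
    · intro i
      have := (hQt i).2.1
      exact finite_G R (Q.X i)
    · intro i
      have := (hQt i).1
      have := (hQt i).2.1
      rw [← (hdIso R K Q bQ iQ i).toLinearEquiv.finrank_eq]
      exact ((hQt i).2.2).symm.trans (finrank_G R (Q.X i)).symm
  have hiso : ∀ i, IsIso (φ.f i) := by
    intro i
    have h3 : IsIso (((Gc (IsLocalRing.maximalIdeal R)).map φ).f i) :=
      isIso_f_of_quasiIso_of_d_eq_zero _ hdP hdQ i
    have := (hPt i).1
    have := (hQt i).1
    exact isIso_of_isIso_map (IsLocalRing.maximalIdeal R) (Groth.Agent.S7011.Pc R)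
      Groth.Agent.S7011.pc_h1 (Groth.Agent.S7011.pc_h3 _ (le_jac R))
      (Groth.Agent.S7011.pc_of_finite_free _ (hPt i).2.1 (hPt i).1)
      (Groth.Agent.S7011.pc_of_finite_free _ (hQt i).2.1 (hQt i).1) (φ.f i) h3
  exact ⟨HomologicalComplex.Hom.isoOfComponents (fun i => asIso (φ.f i))
    (fun i j _ => φ.comm i j)⟩


theorem exists_minimal (K : DerivedCategory (ModuleCat.{u} R)) (hK : DRing.IsPseudoCoherent' R K) :
    (∀ i : ℤ, Module.Finite (R ⧸ (IsLocalRing.maximalIdeal R))
      ((DerivedCategory.homologyFunctor (ModuleCat.{u} (R ⧸ (IsLocalRing.maximalIdeal R))) i).obj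
        ((DRing.LBaseChange (Ideal.Quotient.mk (IsLocalRing.maximalIdeal R))).obj K))) ∧
    (∃ b : ℤ, ∀ i : ℤ, b < i → Subsingleton
      ((DerivedCategory.homologyFunctor (ModuleCat.{u} (R ⧸ (IsLocalRing.maximalIdeal R))) i).obj
        ((DRing.LBaseChange (Ideal.Quotient.mk (IsLocalRing.maximalIdeal R))).obj K))) ∧
    ∃ P : CochainComplex (ModuleCat.{u} R) ℤ, Minimal R K P := by
  let _ : Field (R ⧸ (IsLocalRing.maximalIdeal R)) := Ideal.Quotient.field _
  have hK' := hK
  obtain ⟨F, b0, hFb, hFt, ⟨iF⟩⟩ := hK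
  have : F.IsStrictlyLE b0 := by
    rw [CochainComplex.isStrictlyLE_iff]; exact hFb
  have hFproj : ∀ n : ℤ, Projective (F.X n) := fun n => by
    have := (hFt n).2
    have : Module.Projective R (F.X n) := Module.Projective.of_free
    exact ModuleCat.projective_of_categoryTheory_projective (F.X n)
  have hfinH : ∀ i : ℤ, Module.Finite (R ⧸ (IsLocalRing.maximalIdeal R))
      (((Gc (IsLocalRing.maximalIdeal R)).obj F).homology i) := fun i => by
    have := (hFt i).1
    exact finite_homology _ i (finite_G R (F.X i))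
  have hzeroH : ∀ i : ℤ, b0 < i → IsZero (((Gc (IsLocalRing.maximalIdeal R)).obj F).homology i) :=
    fun i hi => isZero_homology_of_isZero _ i ((G (IsLocalRing.maximalIdeal R)).map_isZero (hFb i hi))
  refine ⟨fun i => ?_, ⟨b0, fun i hi => ?_⟩, ?_⟩
  · have := hfinH i
    exact Module.Finite.equiv (hdIso R K F b0 iF i).symm.toLinearEquiv
  · exact ModuleCat.subsingleton_of_isZero ((hzeroH i hi).of_iso (hdIso R K F b0 iF i))
  · let E := homCx ((Gc (IsLocalRing.maximalIdeal R)).obj F)
    let iE : DerivedCategory.Q.obj E ≅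
        (DRing.LBaseChange (Ideal.Quotient.mk (IsLocalRing.maximalIdeal R))).obj K :=
      asIso (DerivedCategory.Q.map (homCxMap ((Gc (IsLocalRing.maximalIdeal R)).obj F))) ≪≫
        (Groth.Agent.Lib.LBaseChangeKProj.lbcIsoOfBdd
          (Ideal.Quotient.mk (IsLocalRing.maximalIdeal R)) F b0).symm ≪≫
        (DRing.LBaseChange (Ideal.Quotient.mk (IsLocalRing.maximalIdeal R))).mapIso iF
    obtain ⟨P, b', hPb, hPs, ⟨iP⟩, ⟨ψ⟩, hfree⟩ := Groth.Agent.S7011.result R
      (IsLocalRing.maximalIdeal R) (le_jac R) K hK' E b0 hzeroH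
      (fun i => ⟨hfinH i, by
        have : Module.Free (R ⧸ (IsLocalRing.maximalIdeal R))
          (((Gc (IsLocalRing.maximalIdeal R)).obj F).homology i) := Module.Free.of_divisionRing _ _
        exact inferInstanceAs (Module.IsStablyFree (R ⧸ (IsLocalRing.maximalIdeal R))
          (((Gc (IsLocalRing.maximalIdeal R)).obj F).homology i))⟩) ⟨iE⟩
    refine ⟨P, ⟨b', hPb⟩, fun i => ?_, ⟨iP⟩⟩
    have hfr : Module.Free R (P.X i) := hfree i (by
      exact (Module.Free.of_divisionRing (R ⧸ (IsLocalRing.maximalIdeal R))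
        (((Gc (IsLocalRing.maximalIdeal R)).obj F).homology i)))
    have hfi := (hPs i).1
    refine ⟨hfr, hfi, ?_⟩
    rw [← finrank_G R (P.X i), (hdIso R K F b0 iF i).toLinearEquiv.finrank_eq]
    exact ((HomologicalComplex.eval _ _ i).mapIso ψ).toLinearEquiv.finrank_eq

end core

end Groth.Agent.Lib.H47MinimalCx
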