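import Mathlib
import Groth.Agent.Lib.KProjBC21
import Groth.Agent.Lib.SemiFreeKProj35
import Groth.Agent.Lib.ProjResolution
import Groth.Agent.Lib.NilLiftProj
import Groth.Agent.Lib.H47LiftCx
import Groth.Agent.Lib.DCopower

/-!
# Representatives of `K` from representatives of `K ⊗^L R/I`, `I` nilpotent (helper47; S6970, S6979)

* `tensorUnitIso`, `isZero_homology_of_nilpotent` : derived Nakayama for a nilpotent ideal, at the
  level of a K-projective termwise flat complex (uses helper21's `KProjBC21` filtration argument).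
* `exists_projective_rep` : `K ⊗^L R/I ≅ Q E`, `E` projective vanishing above `b` ⇒ `K ≅ Q Q₀` with
  `Q₀` projective vanishing above `b` (uses helper35's K-projective resolutions, helper54's
  `ProjResolution`).
* `PcProj`, `main_nilpotent` : S6970 (lifting the complex `E` itself; uses `H47LiftCx.main` and
  helper81's `NilLiftProj.exists_projective_lift`).
* `isIso_Q_map_map_of_kproj`, `main_cx` : version of `main_nilpotent` without any derived base change
  functor: `F` K-projective termwise flat over `R`, `Q (F/IF) ≅ Q E` ⇒ lift `P` of `E` with `Q P ≅ Q F`.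
* `finite_of_finite_baseChange`, `subsingleton_of_subsingleton_baseChange` : Nakayama for nilpotent
  ideals.
-/

set_option autoImplicit false
set_option linter.style.haveILetI false
set_option linter.unusedSectionVars false
set_option backward.isDefEq.respectTransparency.types false
universe u
open CategoryTheory CategoryTheory.Limits
attribute [local instance] HasDerivedCategory.standard
open DRing TensorProduct MonoidalCategory

namespace Groth.Agent.Lib.H47NilRep


section bounded

variable {R : Type u} [CommRing R]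

/-- `F ⊗ R ≅ F`. -/
noncomputable def tensorUnitIso (F : CochainComplex (ModuleCat.{u} R) ℤ) :
    CohIII.tensorObj F (ModuleCat.of R R) ≅ F :=
  HomologicalComplex.Hom.isoOfComponents (fun n => ρ_ (F.X n)) (by
    intro i j _
    exact (rightUnitor_naturality (F.d i j)).symm)

/-- derived Nakayama for a nilpotent ideal: if `F` is K-projective with flat terms and
`F/IF ≅ E` in `D(R/I)` with `E` a complex of projectives vanishing above `b`, then `H^q(F) = 0`
for `q > b`. -/
lemma isZero_homology_of_nilpotent (I : Ideal R) (hI : IsNilpotent I)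
    (F : CochainComplex (ModuleCat.{u} R) ℤ) [F.IsKProjective] (hfl : ∀ i, Module.Flat R (F.X i))
    (E : CochainComplex (ModuleCat.{u} (R ⧸ I)) ℤ) (b : ℤ) [E.IsStrictlyLE b]
    [∀ i, Projective (E.X i)]
    (e : DerivedCategory.Q.obj (CohIII.bcCx (algebraMap R (R ⧸ I)) F) ≅ DerivedCategory.Q.obj E)
    (q : ℤ) (hq : b < q) : IsZero (F.homology q) := by
  have : E.IsKProjective := CochainComplex.isKProjective_of_projective E b
  have h0 : ∀ M' : ModuleCat.{u} (R ⧸ I), IsZero ((CohIII.TFun F q).obj
      ((ModuleCat.restrictScalars (algebraMap R (R ⧸ I))).obj M')) := by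
    intro M'
    refine Groth.Agent.Lib.KProjBC21.isZero_TFun_restrict_of_iso F E e M' q ?_
    have hz : IsZero ((CohIII.tensorObj E M').X q) :=
      (tensorRight M').map_isZero (E.isZero_of_isStrictlyLE b q hq)
    exact (HomologicalComplex.exactAt_iff_isZero_homology _ _).mp
      (HomologicalComplex.ExactAt.of_isZero hz)
  obtain ⟨n, hn⟩ := hI
  have hsurj : Function.Surjective (algebraMap R (R ⧸ I)) := Ideal.Quotient.mk_surjective
  have hker : RingHom.ker (algebraMap R (R ⧸ I)) = I := Ideal.mk_ker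
  have h1 := Groth.Agent.Lib.KProjBC21.isZero_TFun_of_ker_pow (R ⧸ I) hsurj F hfl q h0 n R (by
    rw [hker, hn]
    exact Submodule.bot_smul _)
  exact h1.of_iso ((HomologicalComplex.homologyFunctor _ _ q).mapIso (tensorUnitIso F)).symm

/-- If `K ⊗^L R/I` is represented by a complex of projectives vanishing above `b` and `I` is
nilpotent, then so is `K`. -/
lemma exists_projective_rep (I : Ideal R) (hI : IsNilpotent I)
    [DRing.HasLBaseChange (Ideal.Quotient.mk I)] (K : Dual.D R)
    (E : CochainComplex (ModuleCat.{u} (R ⧸ I)) ℤ) (b : ℤ) [E.IsStrictlyLE b]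
    [∀ i, Projective (E.X i)]
    (eE : DerivedCategory.Q.obj E ≅ (DRing.LBaseChange (Ideal.Quotient.mk I)).obj K) :
    ∃ (Q₀ : CochainComplex (ModuleCat.{u} R) ℤ) (_ : Q₀.IsStrictlyLE b)
      (_ : ∀ n : ℤ, Projective (Q₀.X n)), Nonempty (DerivedCategory.Q.obj Q₀ ≅ K) := by
  obtain ⟨F, r, hFK, -, hFfl, hr, -⟩ :=
    Groth.Agent.Lib.SemiFreeKProj35.exists_kprojective_resolution (DerivedCategory.Q.objPreimage K)
  haveI := hFK
  haveI := hr
  let eF : DerivedCategory.Q.obj F ≅ K :=
    asIso (DerivedCategory.Q.map r) ≪≫ DerivedCategory.Q.objObjPreimageIso K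
  haveI : CochainComplex.IsKProjective
      (((ModuleCat.extendScalars (Ideal.Quotient.mk I)).mapHomologicalComplex
        (ComplexShape.up ℤ)).obj F) :=
    Groth.Agent.Lib.KProjBC21.isKProjective_bcCx (Ideal.Quotient.mk I) F
  let eBC : (DRing.LBaseChange (Ideal.Quotient.mk I)).obj K ≅
      DerivedCategory.Q.obj (CohIII.bcCx (Ideal.Quotient.mk I) F) :=
    (DRing.LBaseChange (Ideal.Quotient.mk I)).mapIso eF.symm ≪≫
      Groth.Agent.Lib.LBaseChangeKProj.lbcIso (Ideal.Quotient.mk I) F
        (Groth.Agent.Lib.LBaseChangeKProj.hasKProjRep_Q _)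
  have hz : ∀ q : ℤ, b < q → IsZero (F.homology q) := fun q hq =>
    isZero_homology_of_nilpotent I hI F hFfl E b (eBC.symm ≪≫ eE.symm) q hq
  haveI : K.IsLE b := by
    rw [DerivedCategory.isLE_iff]
    intro q hq
    exact (hz q hq).of_iso ((DerivedCategory.homologyFunctor _ q).mapIso eF.symm ≪≫
      (DerivedCategory.homologyFunctorFactors _ q).app F)
  exact Groth.Agent.Lib.ProjResolution.exists_iso_Q_projective K b

end bounded

section lift

variable {R : Type u} [CommRing R]

open Groth.Agent.Lib.H47LiftCx Groth.Agent.Lib.LiftAcyclic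

/-- the class of projective modules -/
def PcProj (R : Type u) [CommRing R] : ObjectProperty (ModuleCat.{u} R) :=
  fun X => Module.Projective R X

instance : (PcProj R).IsClosedUnderIsomorphisms where
  of_iso {X Y} e h := by
    have : Module.Projective R X := h
    exact Module.Projective.of_equiv e.toLinearEquiv

lemma pcProj_h1 (X : ModuleCat.{u} R) (hX : PcProj R X) : Module.Projective R X := hX

lemma pcProj_h2 (X Y : ModuleCat.{u} R) (hX : PcProj R X) :
    PcProj R (ModuleCat.of R (X × Y)) ↔ PcProj R Y := by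
  have : Module.Projective R X := hX
  constructor
  · intro hs
    have hs' : Module.Projective R (X × Y) := hs
    exact Module.Projective.of_split (LinearMap.inr R X Y) (LinearMap.snd R X Y)
      (LinearMap.ext fun _ => rfl)
  · intro hs
    have : Module.Projective R Y := hs
    exact inferInstanceAs (Module.Projective R (X × Y))

lemma pcProj_h3 (I : Ideal R) (hI : IsNilpotent I)
    (X Y : ModuleCat.{u} R) (f : X ⟶ Y) (_ : PcProj R X) (_ : PcProj R Y)
    (h : LinearMap.range f.hom ⊔ I • (⊤ : Submodule R Y) = ⊤) : Function.Surjective f.hom :=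
  Groth.Agent.Lib.NilLiftProj.surjective_of_range_sup_smul_eq_top hI f.hom h

/-- Stacks 15.75 for nilpotent ideals: the content of S6970. -/
theorem main_nilpotent (I : Ideal R) (hI : IsNilpotent I)
    [DRing.HasLBaseChange (Ideal.Quotient.mk I)] (K : Dual.D R)
    (E : DRing.Cx (R ⧸ I)) (b : ℤ) (hEb : DRing.VanishesAbove E b)
    (hEp : ∀ i : ℤ, Module.Projective (R ⧸ I) (E.X i))
    (hE : Nonempty (DRing.toD E ≅ (DRing.LBaseChange (Ideal.Quotient.mk I)).obj K)) :
    ∃ (P : DRing.Cx R) (b' : ℤ), DRing.VanishesAbove P b' ∧ (∀ i : ℤ, Module.Projective R (P.X i)) ∧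
      Nonempty (DRing.toD P ≅ K) ∧ Nonempty ((((ModuleCat.extendScalars
        (Ideal.Quotient.mk I)).mapHomologicalComplex (ComplexShape.up ℤ)).obj P) ≅ E) := by
  obtain ⟨eE⟩ := hE
  haveI : E.IsStrictlyLE b := by
    rw [CochainComplex.isStrictlyLE_iff]
    exact hEb
  haveI : ∀ i, Projective (E.X i) := fun i => by
    have := hEp i
    exact ModuleCat.projective_of_categoryTheory_projective (E.X i)
  obtain ⟨Q₀, hQb, hQp, ⟨eQ⟩⟩ := exists_projective_rep I hI K E b eE
  exact Groth.Agent.Lib.H47LiftCx.main I (PcProj R) pcProj_h1 pcProj_h2 (pcProj_h3 I hI) K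
    ⟨Q₀, b, fun i hi => Q₀.isZero_of_isStrictlyLE b i hi, fun i => by
      have := hQp i
      exact ModuleCat.projective_of_module_projective (Q₀.X i), ⟨eQ⟩⟩
    E b hEb (fun i => by
      have := hEp i
      obtain ⟨M, _, _, hM1, hM2⟩ := Groth.Agent.Lib.NilLiftProj.exists_projective_lift hI (E.X i)
      exact ⟨ModuleCat.of R M, hM1, hM2⟩) ⟨eE⟩

lemma finite_of_finite_baseChange (I : Ideal R) (hI : IsNilpotent I) (X : Type u) [AddCommGroup X]
    [Module R X] (h : Module.Finite (R ⧸ I) ((R ⧸ I) ⊗[R] X)) : Module.Finite R X := by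
  classical
  obtain ⟨s, hs⟩ := h
  choose g hg using fun t : (R ⧸ I) ⊗[R] X => Groth.Agent.Lib.NilLiftProj.one_tmul_surjective I X t
  let f : (s → R) →ₗ[R] X := Fintype.linearCombination R (fun t : s => g t)
  have hsurj : Function.Surjective (f.baseChange (R ⧸ I)) := by
    rw [← LinearMap.range_eq_top, eq_top_iff, ← hs, Submodule.span_le]
    intro t ht
    refine ⟨(1 : R ⧸ I) ⊗ₜ[R] (Pi.single (⟨t, ht⟩ : s) (1 : R)), ?_⟩
    rw [LinearMap.baseChange_tmul]
    have : f (Pi.single (⟨t, ht⟩ : s) (1 : R)) = g t := by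
      simp [f, Fintype.linearCombination_apply_single]
    rw [this]
    exact hg t
  exact Module.Finite.of_surjective f
    (Groth.Agent.Lib.NilLiftProj.surjective_of_baseChange_surjective hI f hsurj)

lemma subsingleton_of_subsingleton_baseChange (I : Ideal R) (hI : IsNilpotent I) (X : Type u)
    [AddCommGroup X] [Module R X] (h : Subsingleton ((R ⧸ I) ⊗[R] X)) : Subsingleton X := by
  have htop : (⊤ : Submodule R X) ≤ I • (⊤ : Submodule R X) := by
    intro x _
    rw [← Groth.Agent.Lib.NilLiftProj.one_tmul_eq_zero_iff]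
    exact Subsingleton.elim _ _
  have := Groth.Agent.Lib.NilLiftProj.eq_bot_of_le_smul hI (⊤ : Submodule R X) htop
  exact (Submodule.subsingleton_iff R).mp (subsingleton_of_bot_eq_top this.symm)

end lift


section cx

open Groth.Agent.Lib.H47LiftCx

variable {R : Type u} [CommRing R]

/-- an additive functor sends quasi-isomorphisms between K-projective complexes to isomorphisms
in the derived category. -/
lemma isIso_Q_map_map_of_kproj {S : Type u} [CommRing S]
    (G : ModuleCat.{u} R ⥤ ModuleCat.{u} S) [G.Additive]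
    (X Y : CochainComplex (ModuleCat.{u} R) ℤ) [X.IsKProjective] [Y.IsKProjective]
    (g : X ⟶ Y) (hg : IsIso (DerivedCategory.Q.map g)) :
    IsIso (DerivedCategory.Q.map ((G.mapHomologicalComplex (ComplexShape.up ℤ)).map g)) := by
  obtain ⟨h, hh⟩ := Groth.Agent.Lib.DCopower.exists_Q_map_eq Y X (inv (DerivedCategory.Q.map g))
  obtain ⟨H1⟩ := Groth.Agent.Lib.DCopower.homotopy_of_Q_map_eq X X (g ≫ h) (𝟙 X) (by
    rw [Functor.map_comp, hh, IsIso.hom_inv_id, CategoryTheory.Functor.map_id])
  obtain ⟨H2⟩ := Groth.Agent.Lib.DCopower.homotopy_of_Q_map_eq Y Y (h ≫ g) (𝟙 Y) (by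
    rw [Functor.map_comp, hh, IsIso.inv_hom_id, CategoryTheory.Functor.map_id])
  refine ⟨DerivedCategory.Q.map ((G.mapHomologicalComplex (ComplexShape.up ℤ)).map h), ?_, ?_⟩
  · rw [← Functor.map_comp, ← Functor.map_comp]
    have := DerivedCategory.Q_map_eq_of_homotopy _ (G.mapHomotopy H1)
    rw [this, CategoryTheory.Functor.map_id, CategoryTheory.Functor.map_id]
  · rw [← Functor.map_comp, ← Functor.map_comp]
    have := DerivedCategory.Q_map_eq_of_homotopy _ (G.mapHomotopy H2)
    rw [this, CategoryTheory.Functor.map_id, CategoryTheory.Functor.map_id]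

/-- complex-level version of `main_nilpotent` (no derived base change functor needed). -/
theorem main_cx (I : Ideal R) (hI : IsNilpotent I)
    (F : CochainComplex (ModuleCat.{u} R) ℤ) [F.IsKProjective] (hfl : ∀ i, Module.Flat R (F.X i))
    (E : DRing.Cx (R ⧸ I)) (b : ℤ) (hEb : DRing.VanishesAbove E b)
    (hEp : ∀ i : ℤ, Module.Projective (R ⧸ I) (E.X i))
    (e : DerivedCategory.Q.obj ((Gc I).obj F) ≅ DerivedCategory.Q.obj E) :
    ∃ (P : DRing.Cx R) (b' : ℤ), DRing.VanishesAbove P b' ∧ (∀ i : ℤ, Module.Projective R (P.X i)) ∧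
      Nonempty (DRing.toD P ≅ DRing.toD F) ∧ Nonempty ((Gc I).obj P ≅ E) := by
  haveI : E.IsStrictlyLE b := by
    rw [CochainComplex.isStrictlyLE_iff]
    exact hEb
  haveI : ∀ i, Projective (E.X i) := fun i => by
    have := hEp i
    exact ModuleCat.projective_of_categoryTheory_projective (E.X i)
  haveI : E.IsKProjective := CochainComplex.isKProjective_of_projective E b
  have hz : ∀ q : ℤ, b < q → IsZero (F.homology q) := fun q hq =>
    isZero_homology_of_nilpotent I hI F hfl E b e q hq
  haveI : (DerivedCategory.Q.obj F).IsLE b := by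
    rw [DerivedCategory.isLE_iff]
    intro q hq
    exact (hz q hq).of_iso ((DerivedCategory.homologyFunctorFactors _ q).app F)
  obtain ⟨Q₀, hQb, hQp, ⟨eQ⟩⟩ :=
    Groth.Agent.Lib.ProjResolution.exists_iso_Q_projective (DerivedCategory.Q.obj F) b
  haveI : Q₀.IsKProjective := CochainComplex.isKProjective_of_projective Q₀ b
  obtain ⟨g, hg⟩ := Groth.Agent.Lib.DCopower.exists_Q_map_eq Q₀ F eQ.hom
  have hgiso : IsIso (DerivedCategory.Q.map g) := by
    rw [hg]
    infer_instance
  have hGg := isIso_Q_map_map_of_kproj (G I) Q₀ F g hgiso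
  let α : DerivedCategory.Q.obj E ≅ DerivedCategory.Q.obj ((Gc I).obj Q₀) :=
    e.symm ≪≫ (asIso (DerivedCategory.Q.map ((Gc I).map g))).symm
  obtain ⟨φ, hφ⟩ := Groth.Agent.Lib.DCopower.exists_Q_map_eq E ((Gc I).obj Q₀) α.hom
  have hq : QuasiIso φ := by
    rw [← DerivedCategory.isIso_Q_map_iff_quasiIso, hφ]
    infer_instance
  obtain ⟨P, b', hPb, hPP, ⟨e1⟩, he2⟩ :=
    exists_lift_cx I (PcProj R) pcProj_h1 pcProj_h2 (pcProj_h3 I hI) Q₀ b
      (fun i hi => Q₀.isZero_of_isStrictlyLE b i hi) (fun i => by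
        have := hQp i
        exact ModuleCat.projective_of_module_projective (Q₀.X i))
      E b hEb (fun i => by
        have := hEp i
        obtain ⟨M, _, _, hM1, hM2⟩ := Groth.Agent.Lib.NilLiftProj.exists_projective_lift hI (E.X i)
        exact ⟨ModuleCat.of R M, hM1, hM2⟩) φ hq
  exact ⟨P, b', hPb, hPP, ⟨e1 ≪≫ eQ⟩, he2⟩

end cx

end Groth.Agent.Lib.H47NilRep
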