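import Groth.Agent.Lib.DStupid
import Mathlib.Algebra.Homology.HomologicalComplexLimits
import Mathlib.CategoryTheory.Limits.Constructions.EventuallyConstant

/-!
# Increasing exhaustive sequences of subcomplexes (helper47)

`Groth.Agent.Lib.H47SubSeq`: for a complex `K` of `R`-modules and an increasing sequence `N n` of
d-stable families of submodules (via `DStupid.subCx`) which is eventually `⊤` in each degree,
`seq` is the functor `ℕ ⥤ CochainComplex`, `cocone` the cocone with point `K`, and
`isColimit_cocone` shows it is a colimit.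
-/

set_option autoImplicit false

open CategoryTheory CategoryTheory.Limits

universe u

namespace Groth.Agent.Lib.H47SubSeq

open Groth.Agent.Lib.DStupid

variable {R : Type u} [CommRing R] (K : CochainComplex (ModuleCat.{u} R) ℤ)
  (N : ℕ → ∀ i : ℤ, Submodule R (K.X i))
  (h : ∀ (n : ℕ) (i j : ℤ), N n i ≤ (N n j).comap (K.d i j).hom)
  (hmono : ∀ (n m : ℕ), n ≤ m → ∀ i, N n i ≤ N m i)

/-- inclusion of subcomplexes -/
def incl (n m : ℕ) (hnm : n ≤ m) : subCx K (N n) (h n) ⟶ subCx K (N m) (h m) where
  f i := ModuleCat.ofHom (Submodule.inclusion (hmono n m hnm i))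
  comm' i j _ := by
    ext x
    rfl

/-- the sequence of subcomplexes -/
def seq : ℕ ⥤ CochainComplex (ModuleCat.{u} R) ℤ where
  obj n := subCx K (N n) (h n)
  map {n m} f := incl K N h hmono n m (leOfHom f)
  map_id n := by
    ext i x
    rfl
  map_comp f g := by
    ext i x
    rfl

/-- the cocone with point `K` -/
def cocone : Cocone (seq K N h hmono) where
  pt := K
  ι := { app := fun n => subι K (N n) (h n)
         naturality := fun n m f => by
           ext i x
           rfl }

variable (htop : ∀ i : ℤ, ∃ n₀ : ℕ, ∀ n, n₀ ≤ n → N n i = ⊤)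

include htop in
lemma isColimit_cocone : Nonempty (IsColimit (cocone K N h hmono)) := by
  choose n₁ hn₁ using htop
  refine ⟨HomologicalComplex.isColimitOfEval _ _ (fun q => ?_)⟩
  let n₀ := n₁ q
  have hn₀ := hn₁ q
  have hiso : ∀ n, n₀ ≤ n → IsIso ((subι K (N n) (h n)).f q) := by
    intro n hn
    rw [ConcreteCategory.isIso_iff_bijective]
    constructor
    · exact (N n q).injective_subtype
    · intro x
      exact ⟨⟨x, by rw [hn₀ n hn]; trivial⟩, rfl⟩
  have hconst : (seq K N h hmono ⋙ HomologicalComplex.eval _ (ComplexShape.up ℤ) q).IsEventuallyConstantFrom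
      n₀ := by
    intro j φ
    have hj : n₀ ≤ j := leOfHom φ
    have h2 : ((seq K N h hmono).map φ).f q ≫ (subι K (N j) (h j)).f q =
        (subι K (N n₀) (h n₀)).f q := by
      ext x
      rfl
    have e1 : IsIso ((subι K (N j) (h j)).f q) := hiso j hj
    have e2 : IsIso ((subι K (N n₀) (h n₀)).f q) := hiso n₀ le_rfl
    exact @IsIso.of_isIso_fac_right _ _ _ _ _ _ _ _ e1 e2 h2
  have : IsIso (((HomologicalComplex.eval _ (ComplexShape.up ℤ) q).mapCocone
      (cocone K N h hmono)).ι.app n₀) := hiso n₀ le_rfl
  exact hconst.isColimitOfIsIso _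

end Groth.Agent.Lib.H47SubSeq
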