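import Groth.Agent.Lib.EulerD
import Groth.Agent.Lib.KoszulElem
import Groth.Agent.Lib.FiniteLengthSupport
import Mathlib.RingTheory.Support

/-!
# Finite length and Euler characteristic of Koszul homology (helper25)

`kcx M l` is helper19's iterated-mapping-cone Koszul complex.  For `A` Noetherian, `M` finite and
`Supp M ∩ V(l)` consisting of maximal ideals, all `H^i(kcx M l)` have finite length and vanish
outside `[-|l|, 0]`.
-/

set_option autoImplicit false
universe u

open CategoryTheory DerivedCategory Pretriangulated Limits CochainComplex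
open Groth.Agent.Lib.EulerLES Groth.Agent.Lib.EulerD Groth.Agent.Lib.KoszulCone
  Groth.Agent.Lib.KoszulElem

namespace Groth.Agent.Lib.KoszulEuler

variable {A : Type u} [CommRing A]

attribute [local instance] HasDerivedCategory.standard

/-! ### supports -/

lemma support_subset_of_exact {N M P : Type u} [AddCommGroup N] [Module A N] [AddCommGroup M]
    [Module A M] [AddCommGroup P] [Module A P] (f : N →ₗ[A] M) (g : M →ₗ[A] P)
    (h : Function.Exact f g) : Module.support A M ⊆ Module.support A N ∪ Module.support A P := by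
  intro p hp
  rw [Module.mem_support_iff_exists_annihilator] at hp
  obtain ⟨m, hm⟩ := hp
  by_cases hgm : (Submodule.span A {g m}).annihilator ≤ p.asIdeal
  · right
    rw [Module.mem_support_iff_exists_annihilator]
    exact ⟨g m, hgm⟩
  · left
    rw [SetLike.not_le_iff_exists] at hgm
    obtain ⟨a, ha, hap⟩ := hgm
    rw [Submodule.mem_annihilator_span_singleton] at ha
    rw [← map_smul] at ha
    obtain ⟨n, hn⟩ := (h _).mp ha
    rw [Module.mem_support_iff_exists_annihilator]
    refine ⟨n, fun b hb => ?_⟩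
    rw [Submodule.mem_annihilator_span_singleton] at hb
    have : b * a ∈ p.asIdeal := by
      apply hm
      rw [Submodule.mem_annihilator_span_singleton, mul_smul, ← hn, ← map_smul, hb, map_zero]
    exact (p.isPrime.mem_or_mem this).resolve_right hap

lemma support_subset_of_smul_eq_zero {M : Type u} [AddCommGroup M] [Module A M] (g : A)
    (h : ∀ m : M, g • m = 0) : ∀ p ∈ Module.support A M, g ∈ p.asIdeal := by
  intro p hp
  rw [Module.mem_support_iff_exists_annihilator] at hp
  obtain ⟨m, hm⟩ := hp
  apply hm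
  rw [Submodule.mem_annihilator_span_singleton]
  exact h m

/-! ### the cone sequence -/

/-- `H^i(L) → H^i(cone φ) → H^{i+1}(K)` is exact. -/
lemma exists_exact_mappingCone {K L : CochainComplex (ModuleCat.{u} A) ℤ} (φ : K ⟶ L) (i : ℤ) :
    ∃ (f : L.homology i →ₗ[A] (mappingCone φ).homology i)
      (g : (mappingCone φ).homology i →ₗ[A] K.homology (i + 1)), Function.Exact f g := by
  have hT := rot_of_distTriang _ (mappingCone_triangle_distinguished φ)
  have hex := (ShortComplex.ShortExact.moduleCat_exact_iff_function_exact _).mp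
      (HomologySequence.exact₂ _ hT i)
  let T := (Q.mapTriangle.obj (mappingCone.triangle φ)).rotate
  let eL : (homologyFunctor (ModuleCat.{u} A) i).obj T.obj₁ ≃ₗ[A] L.homology i :=
    (homologyQIso L i).toLinearEquiv
  let eC : (homologyFunctor (ModuleCat.{u} A) i).obj T.obj₂ ≃ₗ[A] (mappingCone φ).homology i :=
    (homologyQIso (mappingCone φ) i).toLinearEquiv
  let eK : (homologyFunctor (ModuleCat.{u} A) i).obj T.obj₃ ≃ₗ[A] K.homology (i + 1) :=
    (homologyShiftIso (Q.obj K) i ≪≫ homologyQIso K (i + 1)).toLinearEquiv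
  refine ⟨eC.toLinearMap ∘ₗ ((homologyFunctor (ModuleCat.{u} A) i).map T.mor₁).hom ∘ₗ
    eL.symm.toLinearMap,
    eK.toLinearMap ∘ₗ ((homologyFunctor (ModuleCat.{u} A) i).map T.mor₂).hom ∘ₗ
    eC.symm.toLinearMap, ?_⟩
  intro x
  simp only [LinearMap.coe_comp, LinearEquiv.coe_coe, Function.comp_apply,
    EmbeddingLike.map_eq_zero_iff, Set.mem_range]
  constructor
  · intro hx
    obtain ⟨y, hy⟩ := (hex _).mp hx
    refine ⟨eL y, ?_⟩
    rw [LinearEquiv.symm_apply_apply]
    erw [hy]
    rw [LinearEquiv.apply_symm_apply]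
  · rintro ⟨y, rfl⟩
    rw [LinearEquiv.symm_apply_apply]
    exact (hex _).mpr ⟨_, rfl⟩

lemma homologyπ_smul_eq_zero_aux {K : CochainComplex (ModuleCat.{u} A) ℤ} (φ : K ⟶ K) (g : A)
    (hφ : ∀ (j : ℤ) (x : K.X j), φ.f j x = g • x) (i : ℤ)
    (c : (mappingCone φ).cycles (i + 1)) :
    (mappingCone φ).homologyπ (i + 1) (g • c) = 0 := by
  have hdz : (mappingCone φ).d (i + 1) (i + 1 + 1) ((mappingCone φ).iCycles (i + 1) c) = 0 :=
    d_iCycles _ _ _ c
  rw [d_eq_zero_iff] at hdz
  obtain ⟨h1, h2⟩ := hdz
  refine homologyπ_eq_zero_of_boundary _ i (i + 1) rfl _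
    (mkE φ i (sndE φ (i + 1) ((mappingCone φ).iCycles (i + 1) c)) 0) ?_
  rw [map_smul, d_mkE, map_zero, add_zero, hφ]
  rw [hφ] at h2
  apply ext_cone φ (i + 1)
  · rw [fstE_mkE]
    have : fstE φ (i + 1) (g • (mappingCone φ).iCycles (i + 1) c) =
        g • fstE φ (i + 1) ((mappingCone φ).iCycles (i + 1) c) := by simp [fstE]
    rw [this]
    exact (neg_eq_of_add_eq_zero_left h2).symm
  · rw [sndE_mkE]
    simp [sndE]

/-- `g` kills the homology of the cone of multiplication by `g`. -/
lemma smul_homology_mappingCone_smul (K : CochainComplex (ModuleCat.{u} A) ℤ) (g : A) (j : ℤ)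
    (x : (mappingCone (g • 𝟙 K)).homology j) : g • x = 0 := by
  obtain ⟨i, rfl⟩ : ∃ i, j = i + 1 := ⟨j - 1, by omega⟩
  obtain ⟨c, rfl⟩ := exists_cycle _ _ x
  rw [← map_smul]
  exact homologyπ_smul_eq_zero_aux (g • 𝟙 K) g (fun j x => smul_id_f_apply K g j x) i c

/-! ### the class of complexes with noetherian homology supported in `S` -/

/-- homology modules are noetherian with support in `S`. -/
def HS (S : Set (PrimeSpectrum A)) (K : CochainComplex (ModuleCat.{u} A) ℤ) : Prop :=
  ∀ i : ℤ, IsNoetherian A (K.homology i) ∧ Module.support A (K.homology i) ⊆ S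

lemma HS.mappingCone {S : Set (PrimeSpectrum A)} {K L : CochainComplex (ModuleCat.{u} A) ℤ}
    (φ : K ⟶ L) (hK : HS S K) (hL : HS S L) : HS S (mappingCone φ) := by
  intro i
  obtain ⟨f, g, hfg⟩ := exists_exact_mappingCone φ i
  have := (hL i).1
  have := (hK (i + 1)).1
  refine ⟨isNoetherian_of_range_eq_ker f g (LinearMap.exact_iff.mp hfg).symm, ?_⟩
  exact (support_subset_of_exact f g hfg).trans
    (Set.union_subset (hL i).2 (hK (i + 1)).2)

lemma HS.mappingCone_smul {S : Set (PrimeSpectrum A)} {K : CochainComplex (ModuleCat.{u} A) ℤ}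
    (g : A) (hK : HS S K) :
    HS (S ∩ {p | g ∈ p.asIdeal}) (CochainComplex.mappingCone (g • 𝟙 K)) := by
  intro i
  have h := HS.mappingCone (g • 𝟙 K) hK hK i
  refine ⟨h.1, fun p hp => ⟨h.2 hp, ?_⟩⟩
  exact support_subset_of_smul_eq_zero g (smul_homology_mappingCone_smul K g i) p hp

lemma HS.mono {S S' : Set (PrimeSpectrum A)} {K : CochainComplex (ModuleCat.{u} A) ℤ}
    (h : HS S K) (hS : S ⊆ S') : HS S' K := fun i => ⟨(h i).1, (h i).2.trans hS⟩

/-! ### Koszul complexes -/

/-- `V(l)`: primes containing all elements of the list. -/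
def VL (l : List A) : Set (PrimeSpectrum A) := {p | ∀ f ∈ l, f ∈ p.asIdeal}

lemma HS_single (M : ModuleCat.{u} A) [IsNoetherian A M] :
    HS (Module.support A M)
      ((HomologicalComplex.single (ModuleCat.{u} A) (ComplexShape.up ℤ) 0).obj M) := by
  intro i
  by_cases hi : i = 0
  · subst hi
    let e : (((HomologicalComplex.single (ModuleCat.{u} A) (ComplexShape.up ℤ) 0).obj
      M).homology 0) ≃ₗ[A] M :=
      (HomologicalComplex.singleObjHomologySelfIso (ComplexShape.up ℤ) 0 M).toLinearEquiv
    refine ⟨isNoetherian_of_linearEquiv e.symm, ?_⟩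
    rw [e.support_eq]
  · have hz : IsZero (((HomologicalComplex.single (ModuleCat.{u} A) (ComplexShape.up ℤ) 0).obj
        M).homology i) := by
      rw [← HomologicalComplex.exactAt_iff_isZero_homology]
      exact HomologicalComplex.exactAt_single_obj _ _ _ _ hi
    have hs : Subsingleton (((HomologicalComplex.single (ModuleCat.{u} A) (ComplexShape.up ℤ) 0).obj
        M).homology i) := ModuleCat.subsingleton_of_isZero hz
    refine ⟨inferInstance, ?_⟩
    rw [Module.support_eq_empty]
    exact Set.empty_subset _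

theorem HS_kcx (M : Type u) [AddCommGroup M] [Module A M] [IsNoetherian A M] :
    ∀ l : List A, HS (Module.support A M ∩ VL l) (kcx (ModuleCat.of A M) l)
  | [] => by
    refine (HS_single (ModuleCat.of A M)).mono ?_
    intro p hp
    exact ⟨hp, fun f hf => by simp at hf⟩
  | f :: l => by
    refine (HS.mappingCone_smul f (HS_kcx M l)).mono ?_
    rintro p ⟨⟨hp1, hp2⟩, hp3⟩
    refine ⟨hp1, fun g hg => ?_⟩
    rcases List.mem_cons.mp hg with rfl | hg
    · exact hp3
    · exact hp2 g hg

theorem subsingleton_X_kcx (M : ModuleCat.{u} A) :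
    ∀ (l : List A) (j : ℤ), (j < -(l.length : ℤ) ∨ 0 < j) → Subsingleton ((kcx M l).X j)
  | [], j, hj => by
    have hj0 : j ≠ 0 := by
      rcases hj with hj | hj
      · simp at hj; omega
      · omega
    exact ModuleCat.subsingleton_of_isZero (HomologicalComplex.isZero_single_obj_X _ _ _ _ hj0)
  | f :: l, j, hj => by
    have h1 : Subsingleton ((kcx M l).X (j + 1)) := by
      apply subsingleton_X_kcx M l
      simp only [List.length_cons, Nat.cast_add, Nat.cast_one] at hj
      omega
    have h2 : Subsingleton ((kcx M l).X j) := by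
      apply subsingleton_X_kcx M l
      simp only [List.length_cons, Nat.cast_add, Nat.cast_one] at hj
      omega
    refine ⟨fun z w => ?_⟩
    exact ext_cone (f • 𝟙 (kcx M l)) j z w (Subsingleton.elim _ _) (Subsingleton.elim _ _)

lemma subsingleton_homology_of_subsingleton_X (K : CochainComplex (ModuleCat.{u} A) ℤ) (j : ℤ)
    [Subsingleton (K.X j)] : Subsingleton (K.homology j) := by
  have hm : Function.Injective (K.iCycles j) :=
    (ModuleCat.mono_iff_injective (K.iCycles j)).mp inferInstance
  have : Subsingleton (K.cycles j) := hm.subsingleton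
  refine ⟨fun x y => ?_⟩
  obtain ⟨c, rfl⟩ := exists_cycle K j x
  obtain ⟨c', rfl⟩ := exists_cycle K j y
  rw [Subsingleton.elim c c']

/-- The basic finiteness statement: if `M` is finite over the Noetherian ring `A` and
`Supp M ∩ V(l)` consists of maximal ideals, the Koszul homology has finite length. -/
theorem FL_kcx [IsNoetherianRing A] (M : Type u) [AddCommGroup M] [Module A M] [Module.Finite A M]
    (l : List A)
    (h : ∀ p ∈ Module.support A M, p ∈ VL l → p.asIdeal.IsMaximal) :
    FL (kcx (ModuleCat.of A M) l) := by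
  refine ⟨fun i => ?_, -(l.length : ℤ), 0, fun i hi => ?_⟩
  · obtain ⟨h1, h2⟩ := HS_kcx M l i
    have : Module.Finite A ((kcx (ModuleCat.of A M) l).homology i) := inferInstance
    apply Groth.Agent.Lib.FiniteLengthSupport.isFiniteLength_of_support_isMaximal
    intro p hp
    exact h p (h2 hp).1 (h2 hp).2
  · have : Subsingleton ((kcx (ModuleCat.of A M) l).X i) := by
      apply subsingleton_X_kcx
      simp only [Finset.mem_Icc, not_and_or, not_le] at hi
      exact hi
    exact subsingleton_homology_of_subsingleton_X _ i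

end Groth.Agent.Lib.KoszulEuler
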