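import Groth.Agent.Lib.KoszulLenBound2
import Groth.Agent.Lib.KoszulElem2

/-!
# The `𝔞`-adic filtration on Koszul complexes (helper25)

For `kcx M l` (iterated mapping cones) and an ideal `𝔞 ⊇ l`:
* `coneEquiv`: `(cone φ)^n ≃ F^{n+1} × G^n`;
* `HasHtpy K a`: `a • 𝟙` is null-homotopic by `A`-linear maps; `hasHtpy_kcx` for `a ∈ span l`;
* `d_mem_smul_top_kcx`: `d(K^n) ⊆ 𝔞 K^{n+1}`;
* `exists_boundary_of_cycle_mem`: Artin–Rees acyclicity of the shifted filtration.
-/

set_option autoImplicit false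
universe u

open CategoryTheory Limits CochainComplex
open Groth.Agent.Lib.KoszulCone Groth.Agent.Lib.KoszulElem

namespace Groth.Agent.Lib.KoszulFilt

variable {A : Type u} [CommRing A]

section cone

variable {F G : CochainComplex (ModuleCat.{u} A) ℤ} (φ : F ⟶ G)

/-- `mkE` as a linear map. -/
noncomputable def mkL (n : ℤ) : (F.X (n + 1) × G.X n) →ₗ[A] (mappingCone φ).X n :=
  ((mappingCone.inl φ).v (n + 1) n (by omega)).hom ∘ₗ LinearMap.fst A _ _ +
    ((mappingCone.inr φ).f n).hom ∘ₗ LinearMap.snd A _ _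

lemma mkL_apply (n : ℤ) (p : F.X (n + 1) × G.X n) : mkL φ n p = mkE φ n p.1 p.2 := rfl

/-- `(cone φ)^n ≃ F^{n+1} × G^n`. -/
noncomputable def coneEquiv (n : ℤ) : (mappingCone φ).X n ≃ₗ[A] (F.X (n + 1) × G.X n) :=
  LinearEquiv.ofLinearMap ((fstL φ n).prod (sndL φ n)) (mkL φ n)
    (by
      apply LinearMap.ext
      rintro ⟨a, b⟩
      apply Prod.ext
      · exact fstE_mkE φ n a b
      · exact sndE_mkE φ n a b)
    (by
      apply LinearMap.ext
      intro z
      exact mkE_fstE_sndE φ n z)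

lemma coneEquiv_apply (n : ℤ) (z : (mappingCone φ).X n) :
    coneEquiv φ n z = (fstE φ n z, sndE φ n z) := by
  simp [coneEquiv, fstL, sndL, fstE, sndE]

lemma coneEquiv_symm_apply (n : ℤ) (p : F.X (n + 1) × G.X n) :
    (coneEquiv φ n).symm p = mkE φ n p.1 p.2 := by
  simp [coneEquiv, mkL_apply]

lemma mkE_mem_smul_top (J : Ideal A) (n : ℤ) (a : F.X (n + 1)) (b : G.X n)
    (ha : a ∈ J • (⊤ : Submodule A (F.X (n + 1)))) (hb : b ∈ J • (⊤ : Submodule A (G.X n))) :
    mkE φ n a b ∈ J • (⊤ : Submodule A ((mappingCone φ).X n)) := by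
  have h1 : ∀ (N N' : Type u) [AddCommGroup N] [Module A N] [AddCommGroup N'] [Module A N']
      (f : N →ₗ[A] N') (x : N), x ∈ J • (⊤ : Submodule A N) → f x ∈ J • (⊤ : Submodule A N') := by
    intro N N' _ _ _ _ f x hx
    have : (J • (⊤ : Submodule A N)).map f ≤ J • (⊤ : Submodule A N') := by
      rw [Submodule.map_smul'']
      exact Submodule.smul_mono le_rfl le_top
    exact this ⟨x, hx, rfl⟩
  unfold mkE
  exact Submodule.add_mem _ (h1 _ _ _ a ha) (h1 _ _ _ b hb)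

end cone

/-- linear maps preserve `J • ⊤`. -/
lemma map_mem_smul_top {N N' : Type u} [AddCommGroup N] [Module A N] [AddCommGroup N']
    [Module A N'] (J : Ideal A) (f : N →ₗ[A] N') (x : N) (hx : x ∈ J • (⊤ : Submodule A N)) :
    f x ∈ J • (⊤ : Submodule A N') := by
  have : (J • (⊤ : Submodule A N)).map f ≤ J • (⊤ : Submodule A N') := by
    rw [Submodule.map_smul'']
    exact Submodule.smul_mono le_rfl le_top
  exact this ⟨x, hx, rfl⟩

/-! ### linear null-homotopies -/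

/-- `a • 𝟙 K` is null-homotopic through `A`-linear maps. -/
def HasHtpy (K : CochainComplex (ModuleCat.{u} A) ℤ) (a : A) : Prop :=
  ∃ h : ∀ n : ℤ, K.X (n + 1) →ₗ[A] K.X n, ∀ (n : ℤ) (z : K.X (n + 1)),
    K.d n (n + 1) (h n z) + h (n + 1) (K.d (n + 1) (n + 1 + 1) z) = a • z

lemma HasHtpy.zero (K : CochainComplex (ModuleCat.{u} A) ℤ) : HasHtpy K 0 :=
  ⟨fun _ => 0, fun n z => by simp⟩

lemma HasHtpy.add {K : CochainComplex (ModuleCat.{u} A) ℤ} {a b : A} (ha : HasHtpy K a)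
    (hb : HasHtpy K b) : HasHtpy K (a + b) := by
  obtain ⟨h, hh⟩ := ha
  obtain ⟨k, hk⟩ := hb
  refine ⟨fun n => h n + k n, fun n z => ?_⟩
  simp only [LinearMap.add_apply, map_add]
  rw [add_smul, ← hh n z, ← hk n z]
  abel

lemma HasHtpy.smul {K : CochainComplex (ModuleCat.{u} A) ℤ} {a : A} (c : A) (ha : HasHtpy K a) :
    HasHtpy K (c • a) := by
  obtain ⟨h, hh⟩ := ha
  refine ⟨fun n => c • h n, fun n z => ?_⟩
  simp only [LinearMap.smul_apply, map_smul]
  rw [smul_eq_mul, mul_smul, ← hh n z, smul_add]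

/-- the cone of `x • 𝟙 K` has a null-homotopy for `x`. -/
lemma HasHtpy.cone_self (K : CochainComplex (ModuleCat.{u} A) ℤ) (x : A) :
    HasHtpy (mappingCone (x • 𝟙 K)) x := by
  refine ⟨fun n => mkL (x • 𝟙 K) n ∘ₗ
    (LinearMap.inl A (K.X (n + 1)) (K.X n)) ∘ₗ sndL (x • 𝟙 K) (n + 1),
    fun n z => ?_⟩
  change (mappingCone (x • 𝟙 K)).d n (n + 1) (mkE (x • 𝟙 K) n (sndE (x • 𝟙 K) (n + 1) z) 0) +
    mkE (x • 𝟙 K) (n + 1) (sndE (x • 𝟙 K) (n + 1 + 1)
      ((mappingCone (x • 𝟙 K)).d (n + 1) (n + 1 + 1) z)) 0 = x • z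
  rw [d_mkE, sndE_d, map_zero, add_zero, smul_id_f_apply, smul_id_f_apply]
  apply ext_cone (x • 𝟙 K) (n + 1)
  · rw [fstE_add, fstE_mkE, fstE_mkE]
    have : fstE (x • 𝟙 K) (n + 1) (x • z) = x • fstE (x • 𝟙 K) (n + 1) z := by simp [fstE]
    rw [this]
    abel
  · rw [sndE_add, sndE_mkE, sndE_mkE]
    have : sndE (x • 𝟙 K) (n + 1) (x • z) = x • sndE (x • 𝟙 K) (n + 1) z := by simp [sndE]
    rw [this, add_zero]

/-- a null-homotopy for `a` on `K` extends to the cone of `x • 𝟙 K`. -/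
lemma HasHtpy.cone {K : CochainComplex (ModuleCat.{u} A) ℤ} {a : A} (ha : HasHtpy K a) (x : A) :
    HasHtpy (mappingCone (x • 𝟙 K)) a := by
  obtain ⟨h, hh⟩ := ha
  refine ⟨fun n => mkL (x • 𝟙 K) n ∘ₗ
    ((-(h (n + 1) ∘ₗ fstL (x • 𝟙 K) (n + 1))).prod
      (h n ∘ₗ sndL (x • 𝟙 K) (n + 1))), fun n z => ?_⟩
  change (mappingCone (x • 𝟙 K)).d n (n + 1) (mkE (x • 𝟙 K) n
      (-(h (n + 1) (fstE (x • 𝟙 K) (n + 1) z))) (h n (sndE (x • 𝟙 K) (n + 1) z))) +
    mkE (x • 𝟙 K) (n + 1)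
      (-(h (n + 1 + 1) (fstE (x • 𝟙 K) (n + 1 + 1)
        ((mappingCone (x • 𝟙 K)).d (n + 1) (n + 1 + 1) z))))
      (h (n + 1) (sndE (x • 𝟙 K) (n + 1 + 1)
        ((mappingCone (x • 𝟙 K)).d (n + 1) (n + 1 + 1) z))) = a • z
  rw [d_mkE, fstE_d, sndE_d, smul_id_f_apply, smul_id_f_apply]
  apply ext_cone (x • 𝟙 K) (n + 1)
  · rw [fstE_add, fstE_mkE, fstE_mkE]
    have : fstE (x • 𝟙 K) (n + 1) (a • z) = a • fstE (x • 𝟙 K) (n + 1) z := by simp [fstE]
    rw [this, ← hh (n + 1) (fstE (x • 𝟙 K) (n + 1) z)]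
    simp only [map_neg, neg_neg]
  · rw [sndE_add, sndE_mkE, sndE_mkE]
    have : sndE (x • 𝟙 K) (n + 1) (a • z) = a • sndE (x • 𝟙 K) (n + 1) z := by simp [sndE]
    rw [this, ← hh n (sndE (x • 𝟙 K) (n + 1) z)]
    simp only [map_add, map_smul, smul_neg]
    abel

/-- every element of the ideal generated by `l` is null-homotopic on `kcx M l`. -/
theorem hasHtpy_kcx (M : ModuleCat.{u} A) : ∀ (l : List A) (a : A),
    a ∈ Ideal.span {b | b ∈ l} → HasHtpy (kcx M l) a
  | [], a, ha => by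
    have : a = 0 := by
      have h0 : ({b : A | b ∈ ([] : List A)} : Set A) = ∅ := by ext; simp
      rw [h0, Ideal.span_empty] at ha
      exact ha
    subst this
    exact HasHtpy.zero _
  | x :: l, a, ha => by
    have hset : ({b : A | b ∈ x :: l} : Set A) = {x} ∪ {b | b ∈ l} := by
      ext b; simp
    rw [hset, Ideal.span_union] at ha
    obtain ⟨u, hu, v, hv, rfl⟩ := Submodule.mem_sup.mp ha
    obtain ⟨c, rfl⟩ := Ideal.mem_span_singleton'.mp hu
    refine HasHtpy.add ?_ ?_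
    · have := HasHtpy.smul c (HasHtpy.cone_self (kcx M l) x)
      exact this
    · exact (hasHtpy_kcx M l v hv).cone x

/-- consequence: `a • z` is a boundary of an element in `J • ⊤` if `z ∈ J • ⊤` is a cycle. -/
lemma HasHtpy.exists_boundary {K : CochainComplex (ModuleCat.{u} A) ℤ} {a : A} (ha : HasHtpy K a)
    (J : Ideal A) (n : ℤ) (z : K.X (n + 1)) (hz : K.d (n + 1) (n + 1 + 1) z = 0)
    (hzJ : z ∈ J • (⊤ : Submodule A (K.X (n + 1)))) :
    ∃ w : K.X n, w ∈ J • (⊤ : Submodule A (K.X n)) ∧ K.d n (n + 1) w = a • z := by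
  obtain ⟨h, hh⟩ := ha
  refine ⟨h n z, map_mem_smul_top J (h n) z hzJ, ?_⟩
  have := hh n z
  rw [hz, map_zero, add_zero] at this
  exact this

/-! ### the terms of `kcx` -/

theorem finite_X_kcx (M : Type u) [AddCommGroup M] [Module A M] [Module.Finite A M] :
    ∀ (l : List A) (n : ℤ), Module.Finite A ((kcx (ModuleCat.of A M) l).X n)
  | [], n => by
    by_cases hn : n = 0
    · exact Module.Finite.equiv
        (HomologicalComplex.singleObjXIsoOfEq (ComplexShape.up ℤ) 0 (ModuleCat.of A M) n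
          hn).toLinearEquiv.symm
    · have : Subsingleton ((kcx (ModuleCat.of A M) ([] : List A)).X n) :=
        ModuleCat.subsingleton_of_isZero (HomologicalComplex.isZero_single_obj_X _ _ _ _ hn)
      infer_instance
  | x :: l, n => by
    have h1 := finite_X_kcx M l (n + 1)
    have h2 := finite_X_kcx M l n
    exact Module.Finite.equiv (coneEquiv (x • 𝟙 (kcx (ModuleCat.of A M) l)) n).symm

theorem support_X_kcx (M : Type u) [AddCommGroup M] [Module A M] :
    ∀ (l : List A) (n : ℤ),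
      Module.support A ((kcx (ModuleCat.of A M) l).X n) ⊆ Module.support A M
  | [], n => by
    change Module.support A (((HomologicalComplex.single (ModuleCat.{u} A) (ComplexShape.up ℤ)
      0).obj (ModuleCat.of A M)).X n) ⊆ _
    by_cases hn : n = 0
    · rw [(HomologicalComplex.singleObjXIsoOfEq (ComplexShape.up ℤ) 0 (ModuleCat.of A M) n
          hn).toLinearEquiv.support_eq]
    · have : Subsingleton (((HomologicalComplex.single (ModuleCat.{u} A) (ComplexShape.up ℤ)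
          0).obj (ModuleCat.of A M)).X n) :=
        ModuleCat.subsingleton_of_isZero (HomologicalComplex.isZero_single_obj_X _ _ _ _ hn)
      rw [Module.support_eq_empty]
      exact Set.empty_subset _
  | x :: l, n => by
    have h1 := support_X_kcx M l (n + 1)
    have h2 := support_X_kcx M l n
    change Module.support A ((mappingCone (x • 𝟙 (kcx (ModuleCat.of A M) l))).X n) ⊆ _
    rw [(coneEquiv (x • 𝟙 (kcx (ModuleCat.of A M) l)) n).support_eq,
      Module.support_of_exact (f := LinearMap.inl A _ _) (g := LinearMap.snd A _ _)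
        (by
          intro p
          constructor
          · intro hp
            exact ⟨p.1, Prod.ext rfl hp.symm⟩
          · rintro ⟨a, rfl⟩
            rfl)
        LinearMap.inl_injective LinearMap.snd_surjective]
    exact Set.union_subset h1 h2

/-- `d(K^n) ⊆ J K^{n+1}` for an ideal `J ⊇ l`. -/
theorem d_mem_smul_top_kcx (M : ModuleCat.{u} A) (J : Ideal A) :
    ∀ (l : List A), (∀ b ∈ l, b ∈ J) → ∀ (n : ℤ) (z : (kcx M l).X n),
      (kcx M l).d n (n + 1) z ∈ J • (⊤ : Submodule A ((kcx M l).X (n + 1)))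
  | [], _, n, z => by
    have : (kcx M ([] : List A)).d n (n + 1) = 0 := by
      change ((HomologicalComplex.single (ModuleCat.{u} A) (ComplexShape.up ℤ) 0).obj M).d n
        (n + 1) = 0
      simp
    rw [this]
    exact Submodule.zero_mem _
  | x :: l, hl, n, z => by
    have IH := d_mem_smul_top_kcx M J l (fun b hb => hl b (List.mem_cons_of_mem _ hb))
    change (mappingCone (x • 𝟙 (kcx M l))).d n (n + 1) z ∈
      J • (⊤ : Submodule A ((mappingCone (x • 𝟙 (kcx M l))).X (n + 1)))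
    rw [← mkE_fstE_sndE (x • 𝟙 (kcx M l)) n z, d_mkE]
    apply mkE_mem_smul_top
    · exact Submodule.neg_mem _ (IH _ _)
    · refine Submodule.add_mem _ ?_ (IH _ _)
      rw [smul_id_f_apply]
      exact Submodule.smul_mem_smul (hl x List.mem_cons_self) Submodule.mem_top

/-- if `d(K^n) ⊆ J K^{n+1}` then `d(J^q K^n) ⊆ J^{q+1} K^{n+1}`. -/
lemma d_mem_pow_succ {K : CochainComplex (ModuleCat.{u} A) ℤ} (J : Ideal A) (n : ℤ)
    (hd : ∀ z : K.X n, K.d n (n + 1) z ∈ J • (⊤ : Submodule A (K.X (n + 1))))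
    (q : ℕ) (z : K.X n) (hz : z ∈ J ^ q • (⊤ : Submodule A (K.X n))) :
    K.d n (n + 1) z ∈ J ^ (q + 1) • (⊤ : Submodule A (K.X (n + 1))) := by
  refine Submodule.smul_induction_on hz ?_ ?_
  · intro r hr m _
    rw [map_smul, pow_succ, ← smul_eq_mul, Submodule.smul_assoc]
    exact Submodule.smul_mem_smul hr (hd m)
  · intro x y hx hy
    rw [map_add]
    exact Submodule.add_mem _ hx hy

/-- **Artin–Rees acyclicity**: for `q` large, a cycle in `𝔞^{q+1} K^{n+1}` is the boundary of an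
element of `𝔞^q K^n` (`𝔞 = span l`). -/
theorem exists_boundary_of_cycle_mem [IsNoetherianRing A] (M : Type u) [AddCommGroup M]
    [Module A M] [Module.Finite A M] (l : List A) (n : ℤ) :
    ∃ k : ℕ, ∀ q : ℕ, k ≤ q → ∀ z : (kcx (ModuleCat.of A M) l).X (n + 1),
      (kcx (ModuleCat.of A M) l).d (n + 1) (n + 1 + 1) z = 0 →
      z ∈ (Ideal.span {b | b ∈ l}) ^ (q + 1) •
        (⊤ : Submodule A ((kcx (ModuleCat.of A M) l).X (n + 1))) →
      ∃ w : (kcx (ModuleCat.of A M) l).X n,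
        w ∈ (Ideal.span {b | b ∈ l}) ^ q • (⊤ : Submodule A ((kcx (ModuleCat.of A M) l).X n)) ∧
        (kcx (ModuleCat.of A M) l).d n (n + 1) w = z := by
  have hfin := finite_X_kcx M l (n + 1)
  set K := kcx (ModuleCat.of A M) l with hK
  set 𝔞 : Ideal A := Ideal.span {b | b ∈ l} with h𝔞
  let Z : Submodule A (K.X (n + 1)) := LinearMap.ker (K.d (n + 1) (n + 1 + 1)).hom
  obtain ⟨k, hk⟩ := Ideal.exists_pow_inf_eq_pow_smul 𝔞 Z
  refine ⟨k, fun q hq z hz hzq => ?_⟩
  have hzmem : z ∈ 𝔞 ^ (q + 1) • (⊤ : Submodule A (K.X (n + 1))) ⊓ Z := ⟨hzq, hz⟩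
  -- `𝔞^{q+1} K ∩ Z = 𝔞 • (𝔞^q K ∩ Z)`
  have e1 : 𝔞 ^ (q + 1) • (⊤ : Submodule A (K.X (n + 1))) ⊓ Z =
      𝔞 • (𝔞 ^ q • (⊤ : Submodule A (K.X (n + 1))) ⊓ Z) := by
    rw [hk (q + 1) (by omega), hk q hq, ← Submodule.smul_assoc, smul_eq_mul, ← pow_succ']
    congr 2
    omega
  rw [e1] at hzmem
  refine Submodule.smul_induction_on hzmem ?_ ?_
  · intro a ha m hm
    obtain ⟨w, hw1, hw2⟩ := (hasHtpy_kcx (ModuleCat.of A M) l a ha).exists_boundary (𝔞 ^ q) n m
      hm.2 hm.1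
    exact ⟨w, hw1, hw2⟩
  · intro x y hx hy
    obtain ⟨w1, hw1, hw1'⟩ := hx
    obtain ⟨w2, hw2, hw2'⟩ := hy
    exact ⟨w1 + w2, Submodule.add_mem _ hw1 hw2, by rw [map_add, hw1', hw2']⟩

end Groth.Agent.Lib.KoszulFilt
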