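import Groth.Prelude.Def_Koszul
import Groth.Prelude.Def_DRing4
import Groth.Agent.Lib.BifunctorCone66
import Mathlib.Algebra.Homology.HomotopyCategory.Pretriangulated

set_option autoImplicit false
universe u

open CategoryTheory Category Limits HomologicalComplex CochainComplex.HomComplex MonoidalCategory

namespace Groth.Agent.Lib.KoszulTensor66

section
variable {C : Type*} [Category C] [Preadditive C] [HasBinaryBiproducts C]
open CochainComplex

/-- Isomorphic arrows have isomorphic mapping cones. -/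
noncomputable def coneMapIso {K₁ L₁ K₂ L₂ : CochainComplex C ℤ} (φ₁ : K₁ ⟶ L₁) (φ₂ : K₂ ⟶ L₂)
    (a : K₁ ≅ K₂) (b : L₁ ≅ L₂) (comm : φ₁ ≫ b.hom = a.hom ≫ φ₂) :
    mappingCone φ₁ ≅ mappingCone φ₂ where
  hom := mappingCone.map φ₁ φ₂ a.hom b.hom comm
  inv := mappingCone.map φ₂ φ₁ a.inv b.inv (by
    rw [← cancel_mono b.hom, assoc, assoc, b.inv_hom_id, comp_id, comm, a.inv_hom_id_assoc])
  hom_inv_id := by
    rw [← mappingCone.map_comp]
    simp only [Iso.hom_inv_id]
    exact mappingCone.map_id _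
  inv_hom_id := by
    rw [← mappingCone.map_comp]
    simp only [Iso.inv_hom_id]
    exact mappingCone.map_id _

end

variable (A : Type u) [CommRing A]

lemma mapBifunctorMap_smul_id (K M : DRing.Cx A) (a : A) :
    HomologicalComplex.mapBifunctorMap (a • 𝟙 K) (𝟙 M) (curriedTensor (ModuleCat.{u} A))
      (ComplexShape.up ℤ) = a • 𝟙 (K ⊗ M) := by
  refine HomologicalComplex.hom_ext _ _ (fun n => ?_)
  apply HomologicalComplex.mapBifunctor.hom_ext
  intro i₁ i₂ h
  erw [HomologicalComplex.ι_mapBifunctorMap]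
  simp [MonoidalLinear.smul_whiskerRight]
  erw [comp_id]

theorem nonempty_tensor_iso (f g : List A) :
    Nonempty ((MonoidalCategoryStruct.tensorObj (C := DRing.Cx A) (Koszul.koszul A f) (Koszul.koszul A g)) ≅
      Koszul.koszul A (f ++ g)) := by
  induction f with
  | nil =>
    exact ⟨λ_ (Koszul.koszul A g)⟩
  | cons a f ih =>
    obtain ⟨e⟩ := ih
    let φ : Koszul.koszul A f ⟶ Koszul.koszul A f := a • 𝟙 _
    have e1 := Groth.Agent.Lib.BifunctorCone66.coneIso₁ (curriedTensor (ModuleCat.{u} A)) φ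
      (Koszul.koszul A g)
    have e2 := coneMapIso
      (HomologicalComplex.mapBifunctorMap φ (𝟙 (Koszul.koszul A g))
        (curriedTensor (ModuleCat.{u} A)) (ComplexShape.up ℤ))
      (a • 𝟙 (Koszul.koszul A (f ++ g))) e e (by
        rw [mapBifunctorMap_smul_id, Linear.smul_comp, Linear.comp_smul]
        erw [id_comp])
    exact ⟨e1 ≪≫ e2⟩

end Groth.Agent.Lib.KoszulTensor66
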