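import Mathlib
import Groth.Agent.Lib.KFlat35
import Groth.Agent.Lib.TorAmpKFlat35
import Groth.Agent.Lib.TorLES
import Groth.Agent.Lib.HomCxPre25
import Groth.Agent.Lib.BifunctorCone66
import Groth.Agent.Lib.KoszulTensor66
import Groth.Agent.Lib.KoszulCone
import Groth.Agent.Lib.KoszulElem
import Groth.Agent.Lib.KoszulElem2
import Groth.Agent.Lib.KoszulEuler
import Groth.Agent.Lib.KoszulFilt
import Groth.Agent.S0982
import Groth.Prelude.Def_DRing4

/-!
# Uniform Artin–Rees for `Tor` (helper47)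

`A` Noetherian, `I` an ideal, `M` finite, `N` killed by `I`: there is `n > 0` such that
`Tor_p(I^n M, N) → Tor_p(M, N)` vanishes for all `p` (`main`).

Ingredients (all reusable):
* `homologyMap_whiskerRight_eq_zero` : `- ⊗ E` (`E` K-flat) kills, on cohomology, maps that are zero in `D(A)`;
* `kι`, `kι_naturality`, `kmap_id`, `kmap_comp`, `mono_homologyMap_kι_whiskerRight` :
  `M[0] ⊗ E → K(l; M) ⊗ E` is injective on cohomology when every member of `l` is null-homotopic on `E`;
* `extCx P` (chain complex as cochain complex), `isKFlat_extCx`, `extHomotopy`, `phi`, `tensorSingleIso_natural`,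
  `tor_map_eq_zero_of_homologyMap` : `Tor_p(g, N) = 0` if `H^{-p}(g[0] ⊗ P) = 0`, `nonempty_homotopy_smul`;
* `Mq`, `ιq`, `incl`, `kmap_injective`, `exists_kmap_eq_of_mem`, `kmap_ιq_mem`,
  `homologyMap_kmap_incl_eq_zero` (Artin–Rees for Koszul cohomology of the `I`-adic filtration);
* `tower`, `Q_map_kmap_incl_eq_zero` (ghost lemma S0982 ⇒ `K(I^{q+r+1}M) → K(I^q M)` is zero in `D(A)`).
-/

set_option autoImplicit false
set_option backward.isDefEq.respectTransparency.types false

open CategoryTheory CategoryTheory.Limits MonoidalCategory CochainComplex HomComplex ZeroObject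

universe u

attribute [local instance] HasDerivedCategory.standard

namespace Groth.Agent.Lib.H47TorAR

open Groth.Agent.Lib.KFlat35 Groth.Agent.Lib.KoszulCone Groth.Agent.Lib.KoszulElem
  Groth.Agent.Lib.KoszulFilt Groth.Agent.Lib.KoszulEuler Groth.Agent.Lib.TorLES
  Groth.Agent.Lib.HomTensor25

section General

variable {C : Type*} [Category C] [Preadditive C] [HasBinaryBiproducts C]

/-- the inclusion into the cone of a null-homotopic map has a retraction -/
lemma exists_retraction_inr {X Y : CochainComplex C ℤ} (ψ : X ⟶ Y) (h : Homotopy ψ 0) :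
    ∃ r : mappingCone ψ ⟶ Y, mappingCone.inr ψ ≫ r = 𝟙 Y := by
  refine ⟨mappingCone.desc ψ (Cochain.ofHomotopy h) (𝟙 Y) ?_, mappingCone.inr_desc _ _ _ _⟩
  rw [δ_ofHomotopy, Cochain.ofHom_zero, sub_zero, Category.comp_id]

end General

variable {A : Type u} [CommRing A]

lemma zero_whiskerRight' (E : DRing.Cx A) (C C' : DRing.Cx A) : (0 : C ⟶ C') ▷ E = 0 := by
  refine HomologicalComplex.hom_ext _ _ (fun n => ?_)
  apply HomologicalComplex.mapBifunctor.hom_ext
  intro i₁ i₂ h
  erw [HomologicalComplex.ι_mapBifunctorMap]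
  simp

/-- `- ⊗ E` for K-flat `E` kills maps which are zero in the derived category (on homology) -/
theorem homologyMap_whiskerRight_eq_zero (E : DRing.Cx A) (hE : IsKFlat E) {C C' : DRing.Cx A}
    (u : C ⟶ C') (hu : (DerivedCategory.Q (C := ModuleCat.{u} A)).map u = 0) (n : ℤ) :
    HomologicalComplex.homologyMap (u ▷ E) n = 0 := by
  let F : DRing.Cx A ⥤ DerivedCategory (ModuleCat.{u} A) := tensorRight E ⋙ DerivedCategory.Q
  have hF : (HomologicalComplex.quasiIso (ModuleCat.{u} A) (ComplexShape.up ℤ)).IsInvertedBy F := by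
    intro X Y s hs
    have : QuasiIso s := hs
    have h1 : QuasiIso (s ▷ E) := quasiIso_tensorHom_right hE s
    change IsIso (DerivedCategory.Q.map (s ▷ E))
    infer_instance
  let L := Localization.lift F hF (DerivedCategory.Q (C := ModuleCat.{u} A))
  let τ : DerivedCategory.Q ⋙ L ≅ F := Localization.fac F hF DerivedCategory.Q
  have h2 : F.map u = 0 := by
    have nat := τ.hom.naturality u
    have h3 : F.map u = τ.inv.app C ≫ L.map (DerivedCategory.Q.map u) ≫ τ.hom.app C' := by
      rw [← Functor.comp_map, nat, Iso.inv_hom_id_app_assoc]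
    have nat0 := τ.hom.naturality (0 : C ⟶ C')
    have h4 : F.map (0 : C ⟶ C') =
        τ.inv.app C ≫ L.map (DerivedCategory.Q.map (0 : C ⟶ C')) ≫ τ.hom.app C' := by
      rw [← Functor.comp_map, nat0, Iso.inv_hom_id_app_assoc]
    have h5 : F.map (0 : C ⟶ C') = 0 := by
      change DerivedCategory.Q.map ((0 : C ⟶ C') ▷ E) = 0
      rw [zero_whiskerRight', Functor.map_zero]
    rw [h3, hu, ← (DerivedCategory.Q (C := ModuleCat.{u} A)).map_zero C C', ← h4, h5]
  have h6 : DerivedCategory.Q.map (u ▷ E) = 0 := h2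
  have := DerivedCategory.homologyFunctorFactors_hom_naturality (u ▷ E) n
  rw [h6, Functor.map_zero, zero_comp] at this
  exact (cancel_epi ((DerivedCategory.homologyFunctorFactors (ModuleCat.{u} A) n).hom.app _)).1
    (this.symm.trans comp_zero.symm)





lemma mapBifunctorMap_id_smul (K M : DRing.Cx A) (a : A) :
    HomologicalComplex.mapBifunctorMap (𝟙 K) (a • 𝟙 M) (curriedTensor (ModuleCat.{u} A))
      (ComplexShape.up ℤ) = a • 𝟙 (K ⊗ M) := by
  refine HomologicalComplex.hom_ext _ _ (fun n => ?_)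
  apply HomologicalComplex.mapBifunctor.hom_ext
  intro i₁ i₂ h
  erw [HomologicalComplex.ι_mapBifunctorMap]
  simp [MonoidalLinear.whiskerLeft_smul]
  erw [Category.comp_id]

lemma mapBifunctorMap_id_zero (K M : DRing.Cx A) :
    HomologicalComplex.mapBifunctorMap (𝟙 K) (0 : M ⟶ M) (curriedTensor (ModuleCat.{u} A))
      (ComplexShape.up ℤ) = 0 := by
  refine HomologicalComplex.hom_ext _ _ (fun n => ?_)
  apply HomologicalComplex.mapBifunctor.hom_ext
  intro i₁ i₂ h
  erw [HomologicalComplex.ι_mapBifunctorMap]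
  simp

/-- a null-homotopy of `a • 𝟙 E` gives one of `a • 𝟙 (X ⊗ E)` -/
noncomputable def smulHomotopy (X E : DRing.Cx A) (a : A) (h : Homotopy (a • 𝟙 E) 0) :
    Homotopy (a • 𝟙 (X ⊗ E)) 0 :=
  (Homotopy.ofEq (mapBifunctorMap_id_smul X E a).symm).trans
    ((HomologicalComplex.mapBifunctorMapHomotopy₂ (𝟙 X) h (curriedTensor (ModuleCat.{u} A))
      (ComplexShape.up ℤ)).trans (Homotopy.ofEq (mapBifunctorMap_id_zero X E)))

/-- injectivity on homology of `inr ⊗ E` when `a` is null-homotopic on `E` -/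
theorem mono_homologyMap_inr_whiskerRight (X E : DRing.Cx A) (a : A) (h : Homotopy (a • 𝟙 E) 0)
    (n : ℤ) :
    Mono (HomologicalComplex.homologyMap (mappingCone.inr (a • 𝟙 X) ▷ E) n) := by
  let φ : X ⟶ X := a • 𝟙 X
  let ψ := HomologicalComplex.mapBifunctorMap φ (𝟙 E) (curriedTensor (ModuleCat.{u} A))
    (ComplexShape.up ℤ)
  have hψ : ψ = a • 𝟙 (X ⊗ E) := Groth.Agent.Lib.KoszulTensor66.mapBifunctorMap_smul_id A X E a
  have hh : Homotopy ψ 0 := (Homotopy.ofEq hψ).trans (smulHomotopy X E a h)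
  obtain ⟨r, hr⟩ := exists_retraction_inr ψ hh
  have e1 : mappingCone.inr φ ▷ E =
      mappingCone.inr ψ ≫ (Groth.Agent.Lib.BifunctorCone66.coneIso₁
        (curriedTensor (ModuleCat.{u} A)) φ E).inv := by
    change _ = mappingCone.inr ψ ≫ Groth.Agent.Lib.BifunctorCone66.coneDesc₁ _ φ E
    unfold Groth.Agent.Lib.BifunctorCone66.coneDesc₁
    rw [mappingCone.inr_desc]
    rfl
  have e2 : mappingCone.inr φ ▷ E ≫ (Groth.Agent.Lib.BifunctorCone66.coneIso₁
        (curriedTensor (ModuleCat.{u} A)) φ E).hom ≫ r = 𝟙 _ := by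
    rw [e1, Category.assoc, Iso.inv_hom_id_assoc, hr]
    rfl
  have e3 := congrArg (fun f => HomologicalComplex.homologyMap f n) e2
  simp only [HomologicalComplex.homologyMap_comp, HomologicalComplex.homologyMap_id] at e3
  exact mono_of_mono_fac e3

section Kos

/-- the inclusion `K(l; M) ⟶ K(f :: l; M)` -/
noncomputable def kinr (M : ModuleCat.{u} A) (f : A) (l : List A) : kcx M l ⟶ kcx M (f :: l) :=
  mappingCone.inr (f • 𝟙 (kcx M l))

/-- the inclusion `M[0] ⟶ K(l; M)` -/
noncomputable def kι (M : ModuleCat.{u} A) : ∀ l : List A, kcx M [] ⟶ kcx M l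
  | [] => 𝟙 _
  | f :: l => kι M l ≫ kinr M f l

lemma inr_map' {K₁ L₁ K₂ L₂ : DRing.Cx A} (φ₁ : K₁ ⟶ L₁) (φ₂ : K₂ ⟶ L₂) (a : K₁ ⟶ K₂)
    (b : L₁ ⟶ L₂) (comm : φ₁ ≫ b = a ≫ φ₂) :
    mappingCone.inr φ₁ ≫ mappingCone.map φ₁ φ₂ a b comm = b ≫ mappingCone.inr φ₂ := by
  unfold mappingCone.map
  rw [mappingCone.inr_desc]

lemma kι_nil (M : ModuleCat.{u} A) : kι M [] = 𝟙 _ := rfl

lemma kι_cons (M : ModuleCat.{u} A) (f : A) (l : List A) :
    kι M (f :: l) = kι M l ≫ kinr M f l := rfl

lemma kinr_kmap {M N : ModuleCat.{u} A} (φ : M ⟶ N) (f : A) (l : List A) :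
    kinr M f l ≫ kmap φ (f :: l) = kmap φ l ≫ kinr N f l :=
  inr_map' _ _ _ _ _

lemma kι_naturality {M N : ModuleCat.{u} A} (φ : M ⟶ N) :
    ∀ l : List A, kmap φ [] ≫ kι N l = kι M l ≫ kmap φ l
  | [] => by
    rw [kι_nil, kι_nil, Category.comp_id, Category.id_comp]
  | f :: l => by
    have ih := kι_naturality φ l
    rw [kι_cons, kι_cons, Category.assoc, kinr_kmap, ← Category.assoc, ih, Category.assoc]

lemma kmap_id (M : ModuleCat.{u} A) : ∀ l : List A, kmap (𝟙 M) l = 𝟙 _
  | [] => by
    change (HomologicalComplex.single (ModuleCat.{u} A) (ComplexShape.up ℤ) 0).map (𝟙 M) = 𝟙 _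
    exact CategoryTheory.Functor.map_id _ _
  | f :: l => by
    have ih := kmap_id M l
    change mappingCone.map (f • 𝟙 (kcx M l)) (f • 𝟙 (kcx M l)) (kmap (𝟙 M) l) (kmap (𝟙 M) l) _ = 𝟙 _
    simp only [ih]
    exact mappingCone.map_id _

lemma kmap_comp {M N P : ModuleCat.{u} A} (φ : M ⟶ N) (ψ : N ⟶ P) :
    ∀ l : List A, kmap (φ ≫ ψ) l = kmap φ l ≫ kmap ψ l
  | [] => by
    change (HomologicalComplex.single (ModuleCat.{u} A) (ComplexShape.up ℤ) 0).map (φ ≫ ψ) = _
    exact CategoryTheory.Functor.map_comp _ _ _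
  | f :: l => by
    have ih := kmap_comp φ ψ l
    change mappingCone.map (f • 𝟙 (kcx M l)) (f • 𝟙 (kcx P l)) (kmap (φ ≫ ψ) l)
      (kmap (φ ≫ ψ) l) _ = _
    simp only [ih]
    exact mappingCone.map_comp _ _ _ _ _ _ _ _ _

theorem mono_homologyMap_kinr_whiskerRight (M : ModuleCat.{u} A) (E : DRing.Cx A) (f : A)
    (l : List A) (h : Homotopy (f • 𝟙 E) 0) (n : ℤ) :
    Mono (HomologicalComplex.homologyMap (kinr M f l ▷ E) n) :=
  mono_homologyMap_inr_whiskerRight (kcx M l) E f h n

/-- injectivity on homology of `(M[0] ⟶ K(l; M)) ⊗ E` when the members of `l` are null-homotopic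
on `E` -/
theorem mono_homologyMap_kι_whiskerRight (M : ModuleCat.{u} A) (E : DRing.Cx A) :
    ∀ (l : List A), (∀ a ∈ l, Nonempty (Homotopy (a • 𝟙 E) 0)) → ∀ n : ℤ,
      Mono (HomologicalComplex.homologyMap (kι M l ▷ E) n)
  | [], _, n => by
    have : kι M [] ▷ E = 𝟙 _ := by
      rw [kι_nil]
      exact MonoidalCategory.id_whiskerRight _ _
    rw [this, HomologicalComplex.homologyMap_id]
    infer_instance
  | f :: l, hl, n => by
    have ih := mono_homologyMap_kι_whiskerRight M E l
      (fun a ha => hl a (List.mem_cons_of_mem _ ha)) n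
    obtain ⟨h⟩ := hl f List.mem_cons_self
    have h2 := mono_homologyMap_kinr_whiskerRight M E f l h n
    have : kι M (f :: l) ▷ E = kι M l ▷ E ≫ kinr M f l ▷ E := by
      rw [kι_cons]
      exact MonoidalCategory.comp_whiskerRight _ _ _
    rw [this, HomologicalComplex.homologyMap_comp]
    exact mono_comp _ _

end Kos


/-- the embedding of chain complexes into cochain complexes -/
abbrev eDN := ComplexShape.embeddingDownNat

section Ext

variable (P : ChainComplex (ModuleCat.{u} A) ℕ)

/-- the cochain complex attached to a chain complex -/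
noncomputable abbrev extCx : DRing.Cx A := P.extend eDN

lemma isZero_extCx_X (n : ℤ) (hn : 0 < n) : IsZero ((extCx P).X n) := by
  apply P.isZero_extend_X eDN
  intro i hi
  simp only [ComplexShape.embeddingDownNat_f] at hi
  omega

lemma flat_extCx_X (hP : ∀ i, Module.Flat A (P.X i)) (n : ℤ) : Module.Flat A ((extCx P).X n) := by
  by_cases h : ∃ i : ℕ, eDN.f i = n
  · obtain ⟨i, hi⟩ := h
    have e := P.extendXIso eDN hi
    exact Module.Flat.of_linearEquiv (e.toLinearEquiv)
  · apply Groth.Agent.Lib.TorAmpKFlat35.flat_of_isZero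
    apply P.isZero_extend_X eDN
    intro i hi
    exact h ⟨i, hi⟩

lemma isKFlat_extCx (hP : ∀ i, Module.Flat A (P.X i)) : IsKFlat (extCx P) :=
  Groth.Agent.Lib.TorAmpKFlat35.isKFlat_of_flat_of_bddAbove (extCx P) (flat_extCx_X P hP) 0
    (isZero_extCx_X P)

lemma extendMap_smul_id (a : A) :
    HomologicalComplex.extendMap (a • 𝟙 P) eDN = a • 𝟙 (extCx P) := by
  ext n : 1
  by_cases h : ∃ i : ℕ, eDN.f i = n
  · obtain ⟨i, hi⟩ := h
    rw [HomologicalComplex.extendMap_f _ _ hi]
    simp [Linear.smul_comp, Linear.comp_smul]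
  · apply (P.isZero_extend_X eDN n (fun i hi => h ⟨i, hi⟩)).eq_of_src

/-- a null-homotopy of `a • 𝟙 P` gives one of `a • 𝟙 (extCx P)` -/
noncomputable def extHomotopy (a : A) (h : Homotopy (a • 𝟙 P) 0) : Homotopy (a • 𝟙 (extCx P)) 0 :=
  (Homotopy.ofEq (extendMap_smul_id P a).symm).trans
    ((h.extend eDN).trans (Homotopy.ofEq (HomologicalComplex.extendMap_zero _ _ _)))

end Ext


section Phi

variable (P : ChainComplex (ModuleCat.{u} A) ℕ)

open HomologicalComplex

/-- termwise comparison -/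
noncomputable def phiX (M : ModuleCat.{u} A) :
    ∀ o : Option ℕ, extend.X ((tensorCx P).obj M) o ≅ M ⊗ extend.X P o
  | some _ => Iso.refl _
  | none => IsZero.iso (isZero_zero _) (Functor.map_isZero (tensorLeft M) (isZero_zero _))

lemma phiX_comm (M : ModuleCat.{u} A) (o o' : Option ℕ) :
    extend.d ((tensorCx P).obj M) o o' ≫ (phiX P M o').hom =
      (phiX P M o).hom ≫ (M ◁ extend.d P o o') :=
  match o, o' with
  | none, _ => (isZero_zero _).eq_of_src _ _
  | some i, some j => by
      change (M ◁ P.d i j) ≫ 𝟙 (M ⊗ P.X j) = 𝟙 (M ⊗ P.X i) ≫ (M ◁ P.d i j)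
      rw [Category.id_comp, Category.comp_id]
  | some i, none => (Functor.map_isZero (tensorLeft M) (isZero_zero _)).eq_of_tgt _ _

lemma phiX_natural {M M' : ModuleCat.{u} A} (g : M ⟶ M') (o : Option ℕ) :
    extend.mapX ((tensorCx P).map g) o ≫ (phiX P M' o).hom =
      (phiX P M o).hom ≫ (g ▷ extend.X P o) :=
  match o with
  | none => (isZero_zero _).eq_of_src _ _
  | some i => by
      change (g ▷ P.X i) ≫ 𝟙 (M' ⊗ P.X i) = 𝟙 (M ⊗ P.X i) ≫ (g ▷ P.X i)
      rw [Category.id_comp, Category.comp_id]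

/-- `(M ⊗ P).extend ≅ M ⊗ (P.extend)` termwise -/
noncomputable def phi (M : ModuleCat.{u} A) :
    ((tensorCx P).obj M).extend eDN ≅ (GM M).obj (extCx P) :=
  HomologicalComplex.Hom.isoOfComponents (fun n => phiX P M (eDN.r n))
    (fun i j _ => (phiX_comm P M (eDN.r i) (eDN.r j)).symm)

lemma phi_natural {M M' : ModuleCat.{u} A} (g : M ⟶ M') :
    HomologicalComplex.extendMap ((tensorCx P).map g) eDN ≫ (phi P M').hom =
      (phi P M).hom ≫ (NatTrans.mapHomologicalComplex ((tensoringLeft _).map g) _).app (extCx P) := by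
  ext n : 1
  exact phiX_natural P g (eDN.r n)

end Phi


lemma tensorSingleIso_natural {M M' : ModuleCat.{u} A} (g : M ⟶ M') (X : DRing.Cx A) :
    (NatTrans.mapHomologicalComplex ((tensoringLeft _).map g) _).app X ≫
        (tensorSingleIso M' X).hom =
      (tensorSingleIso M X).hom ≫
        ((HomologicalComplex.single (ModuleCat.{u} A) (ComplexShape.up ℤ) 0).map g ▷ X) := by
  ext n : 1
  change (g ▷ X.X n) ≫ tsInv M' X n = tsInv M X n ≫ _
  unfold tsInv
  rw [Category.assoc]
  erw [HomologicalComplex.ι_mapBifunctorMap]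
  rw [HomologicalComplex.id_f, CategoryTheory.Functor.map_id, Category.id_comp]
  change _ = ((e0 M).inv ▷ X.X n) ≫ (((HomologicalComplex.single (ModuleCat.{u} A)
    (ComplexShape.up ℤ) 0).map g).f 0 ▷ X.X n) ≫ Groth.Agent.Lib.TensorCxZ35.ι (sg M') X 0 n n _
  rw [← Category.assoc, ← Category.assoc, ← comp_whiskerRight, ← comp_whiskerRight,
    HomologicalComplex.single_map_f_self]
  change _ = ((e0 M).inv ≫ (e0 M).hom ≫ g ≫ (e0 M').inv) ▷ X.X n ≫ _
  rw [Iso.inv_hom_id_assoc]


/-- the key translation: vanishing on hyperhomology of `M[0] ⊗ P` gives vanishing on `Tor` -/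
theorem tor_map_eq_zero_of_homologyMap {N : ModuleCat.{u} A} (P : ProjectiveResolution N)
    {M M' : ModuleCat.{u} A} (g : M ⟶ M') (p : ℕ)
    (h : HomologicalComplex.homologyMap
      ((HomologicalComplex.single (ModuleCat.{u} A) (ComplexShape.up ℤ) 0).map g ▷ extCx P.complex)
      (-(p : ℤ)) = 0) :
    ((Tor (ModuleCat.{u} A) p).map g).app N = 0 := by
  have h1 := torIso_hom_naturality P g p
  suffices h2 : HomologicalComplex.homologyMap ((tensorCx P.complex).map g) p = 0 by
    rw [h2, comp_zero] at h1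
    rw [← cancel_mono (torIso P M' p).hom, h1, zero_comp]
  have hp : eDN.f p = -(p : ℤ) := rfl
  have h3 := HomologicalComplex.extendHomologyIso_hom_naturality
    ((tensorCx P.complex).map g) eDN hp
  suffices h4 : HomologicalComplex.homologyMap
      (HomologicalComplex.extendMap ((tensorCx P.complex).map g) eDN) (-(p : ℤ)) = 0 by
    rw [h4, zero_comp] at h3
    rw [← cancel_epi (HomologicalComplex.extendHomologyIso _ eDN hp).hom, ← h3, comp_zero]
  have h5 : HomologicalComplex.extendMap ((tensorCx P.complex).map g) eDN ≫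
      ((phi P.complex M').hom ≫ (tensorSingleIso M' (extCx P.complex)).hom) =
      ((phi P.complex M).hom ≫ (tensorSingleIso M (extCx P.complex)).hom) ≫
        ((HomologicalComplex.single (ModuleCat.{u} A) (ComplexShape.up ℤ) 0).map g ▷
          extCx P.complex) := by
    rw [← Category.assoc, phi_natural, Category.assoc, tensorSingleIso_natural, Category.assoc]
  have h6 := congrArg (fun f => HomologicalComplex.homologyMap f (-(p : ℤ))) h5
  simp only [HomologicalComplex.homologyMap_comp] at h6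
  rw [h, comp_zero] at h6
  have i1 : IsIso (HomologicalComplex.homologyMap (phi P.complex M').hom (-(p : ℤ))) :=
    inferInstance
  have i2 : IsIso (HomologicalComplex.homologyMap (tensorSingleIso M' (extCx P.complex)).hom
    (-(p : ℤ))) := inferInstance
  rw [← cancel_mono (HomologicalComplex.homologyMap (phi P.complex M').hom (-(p : ℤ))),
    ← cancel_mono (HomologicalComplex.homologyMap (tensorSingleIso M' (extCx P.complex)).hom
    (-(p : ℤ))), Category.assoc, h6, zero_comp, zero_comp]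

/-- multiplication by an element killing `N` is null-homotopic on a projective resolution -/
lemma nonempty_homotopy_smul {N : ModuleCat.{u} A} (P : ProjectiveResolution N) (a : A)
    (ha : ∀ x : N, a • x = 0) : Nonempty (Homotopy (a • 𝟙 P.complex) 0) := by
  refine ⟨P.liftHomotopyZero (a • 𝟙 P.complex) ?_⟩
  apply HomologicalComplex.to_single_hom_ext
  rw [HomologicalComplex.comp_f, HomologicalComplex.zero_f]
  ext x
  change (P.π.f 0).hom (a • x) = 0
  rw [map_smul]
  exact ha ((P.π.f 0).hom x)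


/-- `kmap` of an injective map is degreewise injective -/
lemma kmap_injective {M N : ModuleCat.{u} A} (φ : M ⟶ N) (hφ : Function.Injective φ)
    (l : List A) (n : ℤ) : Function.Injective ((kmap φ l).f n) := by
  have : Mono φ := (ModuleCat.mono_iff_injective φ).mpr hφ
  have hS : (ShortComplex.mk φ (cokernel.π φ) (cokernel.condition φ)).ShortExact :=
    { exact := ShortComplex.exact_cokernel φ }
  exact (kmap_degExact _ hS l n).1

section

variable (I : Ideal A) (M : Type u) [AddCommGroup M] [Module A M]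

/-- the module `I^q M` -/
abbrev Mq (q : ℕ) : ModuleCat.{u} A := ModuleCat.of A ↥(I ^ q • (⊤ : Submodule A M))

/-- the inclusion `I^q M → M` -/
abbrev ιq (q : ℕ) : Mq I M q ⟶ ModuleCat.of A M :=
  ModuleCat.ofHom (I ^ q • (⊤ : Submodule A M)).subtype

lemma pow_smul_top_le {q q' : ℕ} (h : q ≤ q') :
    I ^ q' • (⊤ : Submodule A M) ≤ I ^ q • (⊤ : Submodule A M) :=
  Submodule.smul_mono_left (Ideal.pow_le_pow_right h)

/-- the inclusion `I^q' M → I^q M` for `q ≤ q'` -/
abbrev incl (q q' : ℕ) (h : q ≤ q') : Mq I M q' ⟶ Mq I M q :=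
  ModuleCat.ofHom (Submodule.inclusion (pow_smul_top_le I M h))

lemma incl_ιq (q q' : ℕ) (h : q ≤ q') : incl I M q q' h ≫ ιq I M q = ιq I M q' := rfl

lemma incl_refl (q : ℕ) : incl I M q q le_rfl = 𝟙 _ := rfl

lemma incl_comp (q q' q'' : ℕ) (h : q ≤ q') (h' : q' ≤ q'') :
    incl I M q' q'' h' ≫ incl I M q q' h = incl I M q q'' (h.trans h') := rfl

/-- multiplication by `r ∈ I^q` as a map `M → I^q M` -/
noncomputable def ρ (q : ℕ) (r : A) (hr : r ∈ I ^ q) : ModuleCat.of A M ⟶ Mq I M q :=
  ModuleCat.ofHom (LinearMap.codRestrict _ (r • LinearMap.id)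
    (fun m => Submodule.smul_mem_smul hr Submodule.mem_top))

lemma ρ_ιq (q : ℕ) (r : A) (hr : r ∈ I ^ q) :
    ρ I M q r hr ≫ ιq I M q = r • 𝟙 (ModuleCat.of A M) := by
  ext m
  rfl

/-- every element of `I^q K^n` comes from the Koszul complex of `I^q M` -/
lemma exists_kmap_eq_of_mem (l : List A) (q : ℕ) (n : ℤ) (w : (kcx (ModuleCat.of A M) l).X n)
    (hw : w ∈ I ^ q • (⊤ : Submodule A ((kcx (ModuleCat.of A M) l).X n))) :
    ∃ w' : (kcx (Mq I M q) l).X n, (kmap (ιq I M q) l).f n w' = w := by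
  refine Submodule.smul_induction_on hw ?_ ?_
  · intro r hr m _
    refine ⟨(kmap (ρ I M q r hr) l).f n m, ?_⟩
    have h1 : kmap (ρ I M q r hr) l ≫ kmap (ιq I M q) l = r • 𝟙 _ := by
      rw [← kmap_comp, ρ_ιq, kmap_smul_id]
    have h2 := congrArg (fun (f : kcx (ModuleCat.of A M) l ⟶ kcx (ModuleCat.of A M) l) =>
      (f.f n).hom m) h1
    simp only [HomologicalComplex.comp_f, ModuleCat.hom_comp, LinearMap.comp_apply] at h2
    refine h2.trans ?_
    simp
  · rintro x y ⟨x', hx⟩ ⟨y', hy⟩
    exact ⟨x' + y', by rw [map_add, hx, hy]⟩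

/-- the image of the Koszul complex of `I^q M` lies in `I^q K^n` -/
lemma kmap_ιq_mem (q : ℕ) : ∀ (l : List A) (n : ℤ) (w' : (kcx (Mq I M q) l).X n),
    (kmap (ιq I M q) l).f n w' ∈ I ^ q • (⊤ : Submodule A ((kcx (ModuleCat.of A M) l).X n))
  | [], n, w' => by
    by_cases hn : n = 0
    · subst hn
      change ((HomologicalComplex.single (ModuleCat.{u} A) (ComplexShape.up ℤ) 0).map
        (ιq I M q)).f 0 w' ∈ _
      rw [HomologicalComplex.single_map_f_self]
      simp only [ModuleCat.hom_comp, LinearMap.comp_apply]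
      apply map_mem_smul_top
      exact Subtype.property _
    · have : Subsingleton ((kcx (ModuleCat.of A M) ([] : List A)).X n) :=
        ModuleCat.subsingleton_of_isZero (HomologicalComplex.isZero_single_obj_X _ _ _ _ hn)
      rw [Subsingleton.elim ((kmap (ιq I M q) []).f n w') 0]
      exact Submodule.zero_mem _
  | f :: l, n, w' => by
    change (mappingCone.map (f • 𝟙 (kcx (Mq I M q) l)) (f • 𝟙 (kcx (ModuleCat.of A M) l))
      (kmap (ιq I M q) l) (kmap (ιq I M q) l) _).f n w' ∈ _
    rw [← mkE_fstE_sndE (f • 𝟙 (kcx (Mq I M q) l)) n w', map_mkE]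
    exact mkE_mem_smul_top _ _ _ _ _ (kmap_ιq_mem q l _ _) (kmap_ιq_mem q l _ _)

/-- **Lemma A**: the transition maps of the Koszul complexes of the `I`-adic filtration are
eventually zero on cohomology -/
theorem homologyMap_kmap_incl_eq_zero [IsNoetherianRing A] [Module.Finite A M] (l : List A)
    (hl : Ideal.span {b | b ∈ l} = I) :
    ∃ k : ℕ, ∀ q, k ≤ q → ∀ j : ℤ,
      HomologicalComplex.homologyMap (kmap (incl I M q (q + 1) (Nat.le_succ q)) l) j = 0 := by
  subst hl
  choose kf hkf using fun n : ℤ => exists_boundary_of_cycle_mem M l n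
  refine ⟨(Finset.range (l.length + 1)).sup (fun i => kf (-(i : ℤ) - 1)), fun q hq j => ?_⟩
  by_cases hj : j < -(l.length : ℤ) ∨ 0 < j
  · have h1 := subsingleton_X_kcx (Mq (Ideal.span {b | b ∈ l}) M (q + 1)) l j hj
    have h2 := subsingleton_homology_of_subsingleton_X
      (kcx (Mq (Ideal.span {b | b ∈ l}) M (q + 1)) l) j
    apply ModuleCat.hom_ext
    ext x
    rw [Subsingleton.elim x 0]
    simp
  · rw [not_or, not_lt, not_lt] at hj
    obtain ⟨n, rfl⟩ : ∃ n, j = n + 1 := ⟨j - 1, by omega⟩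
    have hk : kf n ≤ q := by
      refine le_trans ?_ hq
      have h1 : n = -(((n + 1).natAbs : ℕ) : ℤ) - 1 := by omega
      have h2 := Finset.le_sup (f := fun i : ℕ => kf (-(i : ℤ) - 1))
        (Finset.mem_range.mpr (show (n + 1).natAbs < l.length + 1 by omega))
      rw [← h1] at h2
      exact h2
    set J := Ideal.span {b | b ∈ l} with hJ
    apply ModuleCat.hom_ext
    ext x
    obtain ⟨c, rfl⟩ := exists_cycle _ (n + 1) x
    change HomologicalComplex.homologyMap (kmap (incl J M q (q + 1) (Nat.le_succ q)) l) (n + 1)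
      ((kcx (Mq J M (q + 1)) l).homologyπ (n + 1) c) = 0
    rw [homologyMap_π]
    set y := (kcx (Mq J M (q + 1)) l).iCycles (n + 1) c with hy
    set z := (kmap (ιq J M (q + 1)) l).f (n + 1) y with hz
    have hz0 : (kcx (ModuleCat.of A M) l).d (n + 1) (n + 1 + 1) z = 0 := by
      rw [hz, ← hom_comm_apply, hy, d_iCycles, map_zero]
    have hzmem := kmap_ιq_mem J M (q + 1) l (n + 1) y
    obtain ⟨w, hw, hwz⟩ := hkf n q hk z hz0 hzmem
    obtain ⟨w', rfl⟩ := exists_kmap_eq_of_mem J M l q n w hw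
    apply homologyπ_eq_zero_of_boundary _ n (n + 1) rfl _ w'
    rw [iCycles_cyclesMap]
    apply kmap_injective (ιq J M q) Subtype.val_injective l (n + 1)
    rw [hom_comm_apply, hwz, hz]
    have h3 : kmap (incl J M q (q + 1) (Nat.le_succ q)) l ≫ kmap (ιq J M q) l =
        kmap (ιq J M (q + 1)) l := by
      rw [← kmap_comp, incl_ιq]
    have h4 := congrArg (fun (f : kcx (Mq J M (q + 1)) l ⟶ kcx (ModuleCat.of A M) l) =>
      (f.f (n + 1)).hom y) h3
    simp only [HomologicalComplex.comp_f, ModuleCat.hom_comp, LinearMap.comp_apply] at h4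
    exact h4

variable (l : List A)

/-- the tower `K(I^{q+r} M) → K(I^{q+r-1} M) → ⋯ → K(I^q M) → K(I^q M) → ⋯` -/
noncomputable def tower (q r : ℕ) : ℕ ⥤ DRing.Cx A where
  obj j := kcx (Mq I M (q + (r - j))) l
  map {j j'} f := kmap (incl I M (q + (r - j')) (q + (r - j)) (by have := leOfHom f; omega)) l
  map_id j := kmap_id _ l
  map_comp {j j' j''} f g := by
    rw [← kmap_comp]
    rfl

lemma isZero_Q_obj_of_acyclic' (K : DRing.Cx A) (hK : K.Acyclic) :
    IsZero (DerivedCategory.Q.obj K) := by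
  have hq : QuasiIso (0 : K ⟶ K) := by
    rw [quasiIso_iff]
    intro i
    rw [quasiIsoAt_iff_exactAt _ _ (hK i)]
    exact hK i
  have h1 : IsIso (DerivedCategory.Q.map (0 : K ⟶ K)) := by
    rw [DerivedCategory.isIso_Q_map_iff_quasiIso]
    exact hq
  rw [IsZero.iff_id_eq_zero]
  have h2 : DerivedCategory.Q.map (0 : K ⟶ K) = 0 := Functor.map_zero _ _ _
  rw [h2] at h1
  rw [← IsIso.inv_hom_id (0 : DerivedCategory.Q.obj K ⟶ DerivedCategory.Q.obj K), comp_zero]

lemma Q_map_congr_idx (a a' b b' : ℕ) (h : a ≤ b) (h' : a' ≤ b') (ha : a = a') (hb : b = b')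
    (H : (DerivedCategory.Q (C := ModuleCat.{u} A)).map (kmap (incl I M a b h) l) = 0) :
    (DerivedCategory.Q (C := ModuleCat.{u} A)).map (kmap (incl I M a' b' h') l) = 0 := by
  subst ha hb
  exact H

/-- **Lemma B**: if the one-step transition maps vanish on cohomology from `k` on, then
`K(I^{q+r+1} M) → K(I^q M)` is zero in the derived category for `q ≥ k` (`r = l.length`). -/
theorem Q_map_kmap_incl_eq_zero (k : ℕ)
    (hk : ∀ q, k ≤ q → ∀ j : ℤ,
      HomologicalComplex.homologyMap (kmap (incl I M q (q + 1) (Nat.le_succ q)) l) j = 0)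
    (q : ℕ) (hq : k ≤ q) :
    (DerivedCategory.Q (C := ModuleCat.{u} A)).map
      (kmap (incl I M q (q + (l.length + 1)) (Nat.le_add_right _ _)) l) = 0 := by
  have hk' : ∀ (a b : ℕ) (h : a ≤ b), b = a + 1 → k ≤ a → ∀ j : ℤ,
      HomologicalComplex.homologyMap (kmap (incl I M a b h) l) j = 0 := by
    intro a b h hb ha j
    subst hb
    exact hk a ha j
  set n := l.length + 1 with hn
  have h0 : ∀ i : ℤ, 0 < i → IsZero (((tower I M l q n).obj 0).homology i) := by
    intro i hi
    have h1 : Subsingleton (((tower I M l q n).obj 0).X i) := by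
      apply subsingleton_X_kcx
      right
      exact hi
    have := subsingleton_homology_of_subsingleton_X ((tower I M l q n).obj 0) i
    exact ModuleCat.isZero_of_subsingleton _
  have hz : ∀ j : ℕ, j < n → HomologicalComplex.homologyMap
      ((tower I M l q n).map (homOfLE (Nat.le_succ j))) (-(j : ℤ)) = 0 := by
    intro j hj
    exact hk' _ _ _ (by omega) (by omega) _
  obtain ⟨φ, hφ⟩ := Groth.Agent.S0982.result (tower I M l q n) n h0 hz
  have hzero : IsZero (DerivedCategory.Q.obj (((tower I M l q n).obj n).truncLE (-(n : ℤ)))) := by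
    apply isZero_Q_obj_of_acyclic'
    rw [CochainComplex.acyclic_truncLE_iff _ (-(n : ℤ)) (-(n : ℤ) + 1) rfl,
      CochainComplex.isGE_iff]
    intro i hi
    have h1 : Subsingleton (((tower I M l q n).obj n).X i) := by
      apply subsingleton_X_kcx
      left
      rw [hn] at hi
      push_cast at hi
      omega
    rw [HomologicalComplex.exactAt_iff]
    have h2 : IsZero (((tower I M l q n).obj n).X i) := ModuleCat.isZero_of_subsingleton _
    exact ShortComplex.exact_of_isZero_X₂ _ h2
  rw [hzero.eq_of_tgt φ 0, zero_comp] at hφ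
  exact Q_map_congr_idx I M l _ _ _ _ _ _ (by omega) (by omega) hφ.symm

end


/-- **Uniform Artin–Rees for `Tor`**: `A` Noetherian, `M` finite, `N` killed by `I`: there is `n > 0`
with `Tor_p(I^n M, N) → Tor_p(M, N)` zero for all `p`. -/
theorem main (A : Type u) [CommRing A] [IsNoetherianRing A] (I : Ideal A)
    (M N : Type u) [AddCommGroup M] [Module A M] [Module.Finite A M] [AddCommGroup N] [Module A N]
    (hN : ∀ a ∈ I, ∀ y : N, a • y = 0) :
    ∃ n : ℕ, 0 < n ∧ ∀ p : ℕ,
      ((CategoryTheory.Tor (ModuleCat.{u} A) p).map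
        (ModuleCat.ofHom (I ^ n • ⊤ : Submodule A M).subtype)).app (ModuleCat.of A N) = 0 := by
  obtain ⟨s, hs⟩ := (isNoetherianRing_iff_ideal_fg A).mp inferInstance I
  set l := s.toList with hl0
  have hl : Ideal.span {b | b ∈ l} = I := by
    rw [← hs]
    congr 1
    ext b
    simp [hl0]
  obtain ⟨k, hk⟩ := homologyMap_kmap_incl_eq_zero I M l hl
  have hB := Q_map_kmap_incl_eq_zero I M l k hk k le_rfl
  let P : ProjectiveResolution (ModuleCat.of A N) := projectiveResolution _
  have hE : IsKFlat (extCx P.complex) :=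
    isKFlat_extCx P.complex (fun i => flat_of_projective (P.complex.X i))
  have hhtpy : ∀ a ∈ l, Nonempty (Homotopy (a • 𝟙 (extCx P.complex)) 0) := by
    intro a ha
    have haI : a ∈ I := by
      rw [← hl]
      exact Ideal.subset_span ha
    obtain ⟨h⟩ := nonempty_homotopy_smul P a (hN a haI)
    exact ⟨extHomotopy P.complex a h⟩
  refine ⟨k + (l.length + 1), by omega, fun p => ?_⟩
  have h1 : ModuleCat.ofHom (I ^ (k + (l.length + 1)) • ⊤ : Submodule A M).subtype =
      incl I M k (k + (l.length + 1)) (Nat.le_add_right _ _) ≫ ιq I M k := rfl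
  rw [h1, Functor.map_comp, NatTrans.comp_app]
  have h2 : ((CategoryTheory.Tor (ModuleCat.{u} A) p).map
      (incl I M k (k + (l.length + 1)) (Nat.le_add_right _ _))).app (ModuleCat.of A N) = 0 := by
    apply tor_map_eq_zero_of_homologyMap P _ p
    have h3 := kι_naturality (incl I M k (k + (l.length + 1)) (Nat.le_add_right _ _)) l
    have h4 : (kmap (incl I M k (k + (l.length + 1)) (Nat.le_add_right _ _)) [] ▷ extCx P.complex) ≫
        (kι (Mq I M k) l ▷ extCx P.complex) =
        (kι (Mq I M (k + (l.length + 1))) l ▷ extCx P.complex) ≫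
          (kmap (incl I M k (k + (l.length + 1)) (Nat.le_add_right _ _)) l ▷ extCx P.complex) := by
      rw [← comp_whiskerRight, ← comp_whiskerRight, h3]
    have h5 := congrArg (fun f => HomologicalComplex.homologyMap f (-(p : ℤ))) h4
    simp only [HomologicalComplex.homologyMap_comp] at h5
    rw [homologyMap_whiskerRight_eq_zero (extCx P.complex) hE _ hB, comp_zero] at h5
    have hm : Mono (HomologicalComplex.homologyMap (kι (Mq I M k) l ▷ extCx P.complex) (-(p : ℤ))) :=
      mono_homologyMap_kι_whiskerRight (Mq I M k) (extCx P.complex) l hhtpy (-(p : ℤ))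
    exact (cancel_mono (HomologicalComplex.homologyMap (kι (Mq I M k) l ▷ extCx P.complex)
      (-(p : ℤ)))).1 (h5.trans zero_comp.symm)
  rw [h2, zero_comp]

end Groth.Agent.Lib.H47TorAR
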