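import Groth.Agent.Lib.LBaseChangeFlat
import Mathlib.CategoryTheory.Functor.Derived.PointwiseLeftDerived

/-!
# Abstract derived functors of functors preserving quasi-isomorphisms; `K ⊗^L_A A ≅ K`

* `inverts_of_preserves_quasiIso`, `counitIso_of_preserves_quasiIso`: if the additive functor `G`
  preserves quasi-isomorphisms (termwise), the counit of the abstract derived functor `LG G` is invertible at
  EVERY complex (no boundedness).
* `ltUnitIso A K : (DRing.LTensor A (ModuleCat.of A A)).obj K ≅ K` for every `K : D(A)`.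
-/

set_option autoImplicit false
universe u

open CategoryTheory CategoryTheory.Limits Category MonoidalCategory

attribute [local instance] HasDerivedCategory.standard

namespace Groth.Agent.Lib.LTensorUnit

open DerivedCategory Groth.Agent.Lib.LBaseChangeKProj Groth.Agent.Lib.LBaseChangeFlat

section General

variable {A B : Type u} [CommRing A] [CommRing B]
  (G : ModuleCat.{u} A ⥤ ModuleCat.{u} B) [G.Additive]

lemma inverts_of_preserves_quasiIso
    (hG : ∀ {X Y : CochainComplex (ModuleCat.{u} A) ℤ} (f : X ⟶ Y), QuasiIso f →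
      QuasiIso ((G.mapHomologicalComplex (ComplexShape.up ℤ)).map f)) :
    (HomotopyCategory.quasiIso (ModuleCat.{u} A) (ComplexShape.up ℤ)).IsInvertedBy (Kh G) := by
  intro X Y f hf
  obtain ⟨X, rfl⟩ := HomotopyCategory.quotient_obj_surjective X
  obtain ⟨Y, rfl⟩ := HomotopyCategory.quotient_obj_surjective Y
  obtain ⟨f, rfl⟩ := (HomotopyCategory.quotient _ _).map_surjective f
  rw [HomotopyCategory.quotient_map_mem_quasiIso_iff, HomologicalComplex.mem_quasiIso_iff] at hf
  have h3 := khObjIso_hom_naturality G f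
  have : IsIso (Q.map ((G.mapHomologicalComplex (ComplexShape.up ℤ)).map f)) := by
    rw [DerivedCategory.isIso_Q_map_iff_quasiIso]
    exact hG f hf
  have h4 : (Kh G).map ((HomotopyCategory.quotient _ _).map f) =
      ((khObjIso G X).hom ≫ Q.map ((G.mapHomologicalComplex (ComplexShape.up ℤ)).map f)) ≫
        (khObjIso G Y).inv := by
    rw [← h3, assoc, Iso.hom_inv_id, comp_id]
  rw [h4]
  infer_instance

variable [(Kh G).HasLeftDerivedFunctor
  (HomotopyCategory.quasiIso (ModuleCat.{u} A) (ComplexShape.up ℤ))]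

lemma counitIso_of_preserves_quasiIso
    (hG : ∀ {X Y : CochainComplex (ModuleCat.{u} A) ℤ} (f : X ⟶ Y), QuasiIso f →
      QuasiIso ((G.mapHomologicalComplex (ComplexShape.up ℤ)).map f))
    (E : CochainComplex (ModuleCat.{u} A) ℤ) : CounitIso G E := by
  have : IsIso (counit G) :=
    Functor.isIso_of_isLeftDerivedFunctor_of_inverts (LG G) (counit G)
      (inverts_of_preserves_quasiIso G hG)
  unfold CounitIso
  infer_instance

end General

section Unit

variable (A : Type u) [CommRing A]

/-- `P ⊗ A ≅ P`, naturally. -/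
lemma tensorObjUnitIso_hom_naturality {X Y : CochainComplex (ModuleCat.{u} A) ℤ} (f : X ⟶ Y) :
    ((tensorRight (ModuleCat.of A A)).mapHomologicalComplex (ComplexShape.up ℤ)).map f ≫
      (Groth.Agent.Lib.TFunUnit.tensorObjUnitIso Y).hom =
    (Groth.Agent.Lib.TFunUnit.tensorObjUnitIso X).hom ≫ f := by
  ext i : 1
  exact rightUnitor_naturality (f.f i)

lemma preserves_quasiIso_tensorRight_unit {X Y : CochainComplex (ModuleCat.{u} A) ℤ} (f : X ⟶ Y)
    (hf : QuasiIso f) :
    QuasiIso (((tensorRight (ModuleCat.of A A)).mapHomologicalComplex (ComplexShape.up ℤ)).map f) := by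
  have h := tensorObjUnitIso_hom_naturality A f
  have h2 : ((tensorRight (ModuleCat.of A A)).mapHomologicalComplex (ComplexShape.up ℤ)).map f =
      ((Groth.Agent.Lib.TFunUnit.tensorObjUnitIso X).hom ≫ f) ≫
        (Groth.Agent.Lib.TFunUnit.tensorObjUnitIso Y).inv := by
    rw [← h, assoc, Iso.hom_inv_id, comp_id]
  rw [h2]
  infer_instance

variable [DRing.HasLTensor A (ModuleCat.of A A)]

/-- `K ⊗^L_A A ≅ K` on classes of complexes. -/
noncomputable def ltUnitIsoQ (X : CochainComplex (ModuleCat.{u} A) ℤ) :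
    (DRing.LTensor A (ModuleCat.of A A)).obj (Q.obj X) ≅ Q.obj X :=
  lgIso' (tensorRight (ModuleCat.of A A)) X
    (counitIso_of_preserves_quasiIso _ (preserves_quasiIso_tensorRight_unit A) X) ≪≫
    Q.mapIso (Groth.Agent.Lib.TFunUnit.tensorObjUnitIso X)

/-- `K ⊗^L_A A ≅ K` for every object of `D(A)`. -/
noncomputable def ltUnitIso (K : Dual.D A) :
    (DRing.LTensor A (ModuleCat.of A A)).obj K ≅ K :=
  (DRing.LTensor A (ModuleCat.of A A)).mapIso (Q.objObjPreimageIso K).symm ≪≫
    ltUnitIsoQ A (Q.objPreimage K) ≪≫ Q.objObjPreimageIso K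

end Unit

end Groth.Agent.Lib.LTensorUnit
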