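import Groth.Agent.Lib.FrobRG25
import Groth.Agent.Lib.LTensorUnit
import Groth.Agent.Lib.HDI25
import Mathlib.Algebra.Category.ModuleCat.Descent
import Mathlib.RingTheory.RingHom.Flat

/-!
# Flat base change for `H^i_I(K)` (helper25)  (= S1805)
-/

set_option autoImplicit false
set_option linter.style.haveILetI false
set_option linter.unusedSectionVars false
universe u v

open CategoryTheory Category Limits CochainComplex HomologicalComplex TensorProduct

attribute [local instance] HasDerivedCategory.standard

namespace Groth.Agent.Lib.HDIBC25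

open DerivedCategory Groth.Agent.Lib.CechRG25 Groth.Agent.Lib.CechBC25
  Groth.Agent.Lib.CechRes25 Groth.Agent.Lib.FrobRG25 Groth.Agent.Lib.LBaseChangeFlat
  Groth.Agent.Lib.LBaseChangeKProj

variable {A B : Type u} [CommRing A] [CommRing B]

section ext

variable (φ : A →+* B)

/-- the `B`-action on `B ⊗_A N` as an additive map of the tensor product -/
noncomputable def smulB' (N : ModuleCat.{v} A) (b : B) :
    (Groth.Agent.Lib.LocBC25.Bφ φ) ⊗[A] N →+ (Groth.Agent.Lib.LocBC25.Bφ φ) ⊗[A] N :=
  DistribSMul.toAddMonoidHom ((ModuleCat.extendScalars.{u, u, v} φ).obj N) b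

lemma lTensor_smulB' {M : ModuleCat.{u} A} {N : ModuleCat.{v} A} (g : M →ₗ[A] N) (b : B)
    (x : (Groth.Agent.Lib.LocBC25.Bφ φ) ⊗[A] M) :
    LinearMap.lTensor _ g (smulB' φ M b x) = smulB' φ N b (LinearMap.lTensor _ g x) := by
  induction x using TensorProduct.induction_on with
  | zero => simp only [map_zero]
  | tmul b' m => rfl
  | add x y hx hy => simp only [map_add, hx, hy]

/-- extension of scalars of a linear equivalence between modules in different universes -/
noncomputable def extEquiv {M : ModuleCat.{u} A} {N : ModuleCat.{v} A} (e : M ≃ₗ[A] N) :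
    (ModuleCat.extendScalars.{u, u, u} φ).obj M ≃ₗ[B] (ModuleCat.extendScalars.{u, u, v} φ).obj N where
  toFun x := LinearMap.lTensor _ e.toLinearMap x
  invFun y := LinearMap.lTensor _ e.symm.toLinearMap y
  map_add' x y := map_add _ x y
  map_smul' b x := lTensor_smulB' φ e.toLinearMap b x
  left_inv x := by
    change (LinearMap.lTensor _ e.symm.toLinearMap ∘ₗ LinearMap.lTensor _ e.toLinearMap) x = x
    rw [← LinearMap.lTensor_comp, LinearEquiv.symm_comp, LinearMap.lTensor_id]
    rfl
  right_inv y := by
    change (LinearMap.lTensor _ e.toLinearMap ∘ₗ LinearMap.lTensor _ e.symm.toLinearMap) y = y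
    rw [← LinearMap.lTensor_comp, LinearEquiv.comp_symm, LinearMap.lTensor_id]
    rfl

end ext

section main

variable [Algebra A B] [IsNoetherianRing A] [IsNoetherianRing B] [Module.Flat A B]

/-- extension of scalars along a flat map -/
noncomputable abbrev F : ModuleCat.{u} A ⥤ ModuleCat.{u} B :=
  ModuleCat.extendScalars.{u, u, u} (algebraMap A B)

instance : PreservesFiniteLimits (F (A := A) (B := B)) :=
  ModuleCat.preservesFiniteLimits_extendScalars_of_flat
    ((RingHom.flat_algebraMap_iff).mpr inferInstance)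

instance : PreservesFiniteColimits (F (A := A) (B := B)) :=
  ⟨fun _ _ _ => ⟨fun {_} => inferInstance⟩⟩

instance : (F (A := A) (B := B)).PreservesHomology := {}

variable [DRing.HasLBaseChange (algebraMap A B)]

/-- flat base change on `D(A)` is computed termwise on every complex -/
noncomputable def lbcIsoFlatHom (X : Cx A) :
    (DRing.LBaseChange (algebraMap A B)).obj (Q.obj X) ≅ Q.obj ((G (algebraMap A B)).obj X) :=
  lgIso' (F (A := A) (B := B)) X
    (Groth.Agent.Lib.LTensorUnit.counitIso_of_preserves_quasiIso _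
      (fun f hf => by haveI := hf; infer_instance) X)

lemma span_map_list (fs : List A) :
    Ideal.span {x | x ∈ fs.map (algebraMap A B)} =
      (Ideal.span {x | x ∈ fs}).map (algebraMap A B) := by
  rw [Ideal.map_span]
  congr 1
  ext x
  simp only [List.mem_map, Set.mem_ofPred_eq, Set.mem_image]

/-- **flat base change for `H^i_I(K)`** (= S1805) -/
theorem nonempty_HDI_baseChange_iso (I : Ideal A) (K : Dual.D A) (i : ℤ) :
    Nonempty (Dual2.HDI B (I.map (algebraMap A B))
        ((DRing.LBaseChange (algebraMap A B)).obj K) i ≅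
      (ModuleCat.extendScalars (algebraMap A B)).obj (Dual2.HDI A I K i)) := by
  let X := Q.objPreimage K
  let eK : K ≅ Q.obj X := (Q.objObjPreimageIso K).symm
  obtain ⟨fs, hfs⟩ := exists_list_span I
  have hfsB : Ideal.span {x | x ∈ fs.map (algebraMap A B)} = I.map (algebraMap A B) := by
    rw [span_map_list, hfs]
  -- the `A` side
  obtain ⟨eA⟩ := Groth.Agent.Lib.HDI25.nonempty_equiv I K i
  obtain ⟨rA⟩ := nonempty_rg_ced I fs hfs X
  let hA : (DerivedCategory.homologyFunctor (ModuleCat.{u} A) i).obj ((DRing.RgammaI I).obj K) ≅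
      (ced fs X).homology i :=
    (DerivedCategory.homologyFunctor (ModuleCat.{u} A) i).mapIso
      ((DRing.RgammaI I).mapIso eK ≪≫ rA) ≪≫
      (DerivedCategory.homologyFunctorFactors (ModuleCat.{u} A) i).app _
  -- the `B` side
  let KB := (DRing.LBaseChange (algebraMap A B)).obj K
  let eKB : KB ≅ Q.obj ((G (algebraMap A B)).obj X) :=
    (DRing.LBaseChange (algebraMap A B)).mapIso eK ≪≫ lbcIsoFlatHom X
  obtain ⟨eB⟩ := Groth.Agent.Lib.HDI25.nonempty_equiv (I.map (algebraMap A B)) KB i
  obtain ⟨rB⟩ := nonempty_rg_ced (I.map (algebraMap A B)) (fs.map (algebraMap A B)) hfsB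
    ((G (algebraMap A B)).obj X)
  let hB : (DerivedCategory.homologyFunctor (ModuleCat.{u} B) i).obj
      ((DRing.RgammaI (I.map (algebraMap A B))).obj KB) ≅
      (F (A := A) (B := B)).obj ((ced fs X).homology i) :=
    (DerivedCategory.homologyFunctor (ModuleCat.{u} B) i).mapIso
      ((DRing.RgammaI (I.map (algebraMap A B))).mapIso eKB ≪≫ rB) ≪≫
      (DerivedCategory.homologyFunctorFactors (ModuleCat.{u} B) i).app _ ≪≫
      (HomologicalComplex.homologyFunctor _ _ i).mapIso
        (cedBC (algebraMap A B) fs X).symm ≪≫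
      ((ced fs X).sc i).mapHomologyIso (F (A := A) (B := B))
  exact ⟨(eB.symm ≪≫ₗ hB.toLinearEquiv ≪≫ₗ
    extEquiv (algebraMap A B) (hA.symm.toLinearEquiv ≪≫ₗ eA)).toModuleIso⟩

end main

end Groth.Agent.Lib.HDIBC25
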