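import Groth.Prelude.Def_DTen5
import Groth.Agent.Lib.DTenBase35
import Groth.Agent.Lib.DTenBaseFlat35
import Groth.Agent.Lib.DTenMix35
import Groth.Agent.Lib.ProjFormula35

/-!
# Derived base change is monoidal; `rhomBC` is an isomorphism (helper35)
-/

set_option autoImplicit false
universe u

open CategoryTheory CategoryTheory.Limits Category MonoidalCategory

attribute [local instance] HasDerivedCategory.standard

namespace Groth.Agent.Lib.RHomBC35

open DerivedCategory Groth.Agent.Lib.KFlat35 DTen Groth.Agent.Lib.DTenBase35 HomologicalComplex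

section ComplexLevel

set_option backward.isDefEq.respectTransparency false

variable {R R' : Type u} [CommRing R] [CommRing R'] (φ : R →+* R')
variable (P P' : DRing.Cx R)

/-- `P ⊗ P' ⟶ ((P ⊗_R R') ⊗_{R'} (P' ⊗_R R'))|_R`. -/
noncomputable def νpre : P ⊗ P' ⟶ (resCx φ).obj ((extCx φ).obj P ⊗ (extCx φ).obj P') :=
  ((unitCx φ).app P ⊗ₘ (unitCx φ).app P') ≫ resTenCx φ ((extCx φ).obj P) ((extCx φ).obj P')

/-- The monoidal comparison `(P ⊗ P') ⊗_R R' ⟶ (P ⊗_R R') ⊗_{R'} (P' ⊗_R R')` of complexes. -/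
noncomputable def ν : (extCx φ).obj (P ⊗ P') ⟶ (extCx φ).obj P ⊗ (extCx φ).obj P' :=
  (extCx φ).map (νpre φ P P') ≫ (counitCx φ).app _

lemma unit_ν : (unitCx φ).app (P ⊗ P') ≫ (resCx φ).map (ν φ P P') = νpre φ P P' :=
  adj_id₂ φ _

/-- module-level adjunct identity -/
lemma adjM {M : ModuleCat.{u} R} {N : ModuleCat.{u} R'}
    (g : (ModuleCat.extendScalars.{u, u, u} φ).obj M ⟶ N) :
    (ModuleCat.extendScalars.{u, u, u} φ).map
        ((ModuleCat.extendRestrictScalarsAdj.{u, u, u} φ).unit.app M ≫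
          (ModuleCat.restrictScalars.{u} φ).map g) ≫
      (ModuleCat.extendRestrictScalarsAdj.{u, u, u} φ).counit.app N = g := by
  have h := (ModuleCat.extendRestrictScalarsAdj.{u, u, u} φ).counit.naturality g
  dsimp at h
  have h' := (ModuleCat.extendRestrictScalarsAdj.{u, u, u} φ).left_triangle_components M
  rw [Functor.map_comp, Category.assoc, h, ← Category.assoc]
  exact (congrArg (· ≫ g) h').trans (Category.id_comp g)

lemma ι_νpre (p q n : ℤ) (h : p + q = n) :
    ιTensorObj P P' p q n h ≫ (νpre φ P P').f n =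
      (ModuleCat.extendRestrictScalarsAdj.{u, u, u} φ).unit.app (P.X p ⊗ P'.X q) ≫
        (ModuleCat.restrictScalars.{u} φ).map
          (Functor.OplaxMonoidal.δ (ModuleCat.extendScalars.{u, u, u} φ) (P.X p) (P'.X q) ≫
            ιTensorObj ((extCx φ).obj P) ((extCx φ).obj P') p q n h) := by
  dsimp only [νpre]
  rw [HomologicalComplex.comp_f, ← Category.assoc]
  have e1 : ιTensorObj P P' p q n h ≫ ((unitCx φ).app P ⊗ₘ (unitCx φ).app P').f n =
      (((unitCx φ).app P).f p ⊗ₘ ((unitCx φ).app P').f q) ≫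
        ιTensorObj ((resCx φ).obj ((extCx φ).obj P)) ((resCx φ).obj ((extCx φ).obj P')) p q n h := by
    change ιMapBifunctor P P' _ _ p q n h ≫ (mapBifunctorMap _ _ _ _).f n = _
    rw [ι_mapBifunctorMap]
    dsimp
    rw [← Category.assoc, ← MonoidalCategory.tensorHom_def]
  rw [e1, Category.assoc]
  erw [ι_resTenCx φ ((extCx φ).obj P) ((extCx φ).obj P') p q n h]
  rw [resTen₀app_eq_μ, ← Category.assoc]
  have e2 := Adjunction.unit_app_tensor_comp_map_δ
    (adj := ModuleCat.extendRestrictScalarsAdj.{u, u, u} φ) (P.X p) (P'.X q)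
  rw [Functor.map_comp, ← Category.assoc]
  exact congrArg (· ≫ _) e2.symm

lemma ι_ν (p q n : ℤ) (h : p + q = n) :
    (ModuleCat.extendScalars.{u, u, u} φ).map (ιTensorObj P P' p q n h) ≫ (ν φ P P').f n =
      Functor.OplaxMonoidal.δ (ModuleCat.extendScalars.{u, u, u} φ) (P.X p) (P'.X q) ≫
        ιTensorObj ((extCx φ).obj P) ((extCx φ).obj P') p q n h := by
  dsimp only [ν]
  rw [HomologicalComplex.comp_f]
  change (ModuleCat.extendScalars.{u, u, u} φ).map (ιTensorObj P P' p q n h) ≫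
    (ModuleCat.extendScalars.{u, u, u} φ).map ((νpre φ P P').f n) ≫
      (ModuleCat.extendRestrictScalarsAdj.{u, u, u} φ).counit.app _ = _
  rw [← Category.assoc, ← Functor.map_comp, ι_νpre]
  exact adjM φ _

/-- hom extensionality out of a degree of `(P ⊗ P') ⊗_R R'`. -/
lemma ext_hom_ext {n : ℤ} {Z : ModuleCat.{u} R'}
    {f g : ((extCx φ).obj (P ⊗ P')).X n ⟶ Z}
    (hfg : ∀ (p q : ℤ) (h : p + q = n),
      (ModuleCat.extendScalars.{u, u, u} φ).map (ιTensorObj P P' p q n h) ≫ f =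
        (ModuleCat.extendScalars.{u, u, u} φ).map (ιTensorObj P P' p q n h) ≫ g) : f = g := by
  apply ((ModuleCat.extendRestrictScalarsAdj.{u, u, u} φ).homEquiv _ _).injective
  apply mapBifunctor.hom_ext
  intro p q h
  have e := congrArg ((ModuleCat.extendRestrictScalarsAdj.{u, u, u} φ).homEquiv _ _) (hfg p q h)
  rw [Adjunction.homEquiv_naturality_left, Adjunction.homEquiv_naturality_left] at e
  exact e

/-- the degreewise inverse of `ν` -/
noncomputable def νinv (n : ℤ) :
    ((extCx φ).obj P ⊗ (extCx φ).obj P').X n ⟶ ((extCx φ).obj (P ⊗ P')).X n :=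
  mapBifunctorDesc (fun p q h =>
    Functor.LaxMonoidal.μ (ModuleCat.extendScalars.{u, u, u} φ) (P.X p) (P'.X q) ≫
      (ModuleCat.extendScalars.{u, u, u} φ).map (ιTensorObj P P' p q n h))

lemma ι_νinv (p q n : ℤ) (h : p + q = n) :
    ιTensorObj ((extCx φ).obj P) ((extCx φ).obj P') p q n h ≫ νinv φ P P' n =
      Functor.LaxMonoidal.μ (ModuleCat.extendScalars.{u, u, u} φ) (P.X p) (P'.X q) ≫
        (ModuleCat.extendScalars.{u, u, u} φ).map (ιTensorObj P P' p q n h) :=
  ι_mapBifunctorDesc _ _ _ _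

instance isIso_ν : IsIso (ν φ P P') := by
  have : ∀ n, IsIso ((ν φ P P').f n) := fun n => by
    refine ⟨νinv φ P P' n, ?_, ?_⟩
    · apply ext_hom_ext
      intro p q h
      rw [← Category.assoc, ι_ν, Category.assoc, ι_νinv, ← Category.assoc,
        Functor.Monoidal.δ_μ]
      exact (Category.id_comp _).trans (Category.comp_id _).symm
    · apply mapBifunctor.hom_ext
      intro p q h
      change ιTensorObj ((extCx φ).obj P) ((extCx φ).obj P') p q n h ≫ _ =
        ιTensorObj ((extCx φ).obj P) ((extCx φ).obj P') p q n h ≫ _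
      rw [← Category.assoc, ι_νinv, Category.assoc, ι_ν, ← Category.assoc,
        Functor.Monoidal.μ_δ]
      exact (Category.id_comp _).trans (Category.comp_id _).symm
  exact HomologicalComplex.Hom.isIso_of_components _

end ComplexLevel

section Derived

variable {R R' : Type u} [CommRing R] [CommRing R'] (φ : R →+* R')
  [HasLTen R] [HasLTen R'] [HasLBase φ] [HasResTen φ] [ResLegIso φ]

/-- `N ⊗^L K ⟶ ((N ⊗^L_R R') ⊗^L_{R'} (K ⊗^L_R R'))|_R`: the units in both factors, then `resPF`. -/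
noncomputable def mMap (N K : Dual.D R) :
    (LTen₂ R).obj (N, K) ⟶
      (DRing.restrictD φ).obj ((LTen₂ R').obj ((LBase φ).obj N, (LBase φ).obj K)) :=
  (LTen₂ R).map (Prod.mkHom ((baseAdj φ).unit.app N) ((baseAdj φ).unit.app K)) ≫
    (resPF φ).app ((LBase φ).obj N, (LBase φ).obj K)

/-- The monoidal comparison of derived base change
`(N ⊗^L K) ⊗^L_R R' ⟶ (N ⊗^L_R R') ⊗^L_{R'} (K ⊗^L_R R')`. -/
noncomputable def mFlat (N K : Dual.D R) :
    (LBase φ).obj ((LTen₂ R).obj (N, K)) ⟶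
      (LTen₂ R').obj ((LBase φ).obj N, (LBase φ).obj K) :=
  ((baseAdj φ).homEquiv _ _).symm (mMap φ N K)

lemma unit_mFlat (N K : Dual.D R) :
    (baseAdj φ).unit.app _ ≫ (DRing.restrictD φ).map (mFlat φ N K) = mMap φ N K := by
  have h := ((baseAdj φ).homEquiv _ _).apply_symm_apply (mMap φ N K)
  rw [Adjunction.homEquiv_unit] at h
  exact h

omit [HasLBase φ] in
lemma resPF_naturality {X₁ X₂ Y₁ Y₂ : Dual.D R'} (a : X₁ ⟶ Y₁) (b : X₂ ⟶ Y₂) :
    (LTen₂ R).map (Prod.mkHom ((DRing.restrictD φ).map a) ((DRing.restrictD φ).map b)) ≫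
        (resPF φ).app (Y₁, Y₂) =
      (resPF φ).app (X₁, X₂) ≫ (DRing.restrictD φ).map ((LTen₂ R').map (Prod.mkHom a b)) :=
  (resPF φ).naturality (X := (X₁, X₂)) (Y := (Y₁, Y₂)) (Prod.mkHom a b)

lemma mMap_naturality {N N₁ K K₁ : Dual.D R} (f : N ⟶ N₁) (g : K ⟶ K₁) :
    (LTen₂ R).map (Prod.mkHom f g) ≫ mMap φ N₁ K₁ =
      mMap φ N K ≫ (DRing.restrictD φ).map
        ((LTen₂ R').map (Prod.mkHom ((LBase φ).map f) ((LBase φ).map g))) := by
  dsimp only [mMap]
  rw [Category.assoc, ← resPF_naturality, ← Category.assoc, ← Category.assoc,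
    ← Functor.map_comp, ← Functor.map_comp]
  congr 2
  have e1 := (baseAdj φ).unit.naturality f
  have e2 := (baseAdj φ).unit.naturality g
  dsimp at e1 e2
  exact Prod.ext e1 e2

lemma mFlat_naturality {N N₁ K K₁ : Dual.D R} (f : N ⟶ N₁) (g : K ⟶ K₁) :
    (LBase φ).map ((LTen₂ R).map (Prod.mkHom f g)) ≫ mFlat φ N₁ K₁ =
      mFlat φ N K ≫ (LTen₂ R').map (Prod.mkHom ((LBase φ).map f) ((LBase φ).map g)) := by
  apply ((baseAdj φ).homEquiv _ _).injective
  rw [Adjunction.homEquiv_unit, Adjunction.homEquiv_unit, Functor.map_comp, Functor.map_comp,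
    ← Category.assoc, ← Category.assoc, unit_mFlat]
  have e := (baseAdj φ).unit.naturality ((LTen₂ R).map (Prod.mkHom f g))
  dsimp at e
  rw [← e, Category.assoc, unit_mFlat]
  exact mMap_naturality φ f g

lemma isIso_mFlat_of_iso {N N₁ K K₁ : Dual.D R} (eN : N ≅ N₁) (eK : K ≅ K₁)
    (h : IsIso (mFlat φ N₁ K₁)) : IsIso (mFlat φ N K) := by
  have nat := mFlat_naturality φ eN.hom eK.hom
  haveI : IsIso (Prod.mkHom eN.hom eK.hom : ((N, K) : Dual.D R × Dual.D R) ⟶ (N₁, K₁)) := by
    rw [isIso_prod_iff]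
    exact ⟨inferInstanceAs (IsIso eN.hom), inferInstanceAs (IsIso eK.hom)⟩
  haveI : IsIso (Prod.mkHom ((LBase φ).map eN.hom) ((LBase φ).map eK.hom) :
      (((LBase φ).obj N, (LBase φ).obj K) : Dual.D R' × Dual.D R') ⟶ _) := by
    rw [isIso_prod_iff]
    exact ⟨inferInstanceAs (IsIso ((LBase φ).map eN.hom)),
      inferInstanceAs (IsIso ((LBase φ).map eK.hom))⟩
  haveI : IsIso ((LBase φ).map ((LTen₂ R).map (Prod.mkHom eN.hom eK.hom)) ≫ mFlat φ N₁ K₁) :=
    inferInstance
  exact IsIso.of_isIso_fac_right nat.symm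

/-- `resPF` at images of complexes, followed by `res` of the counit. -/
lemma resPF_ε (X : DRing.Cx R' × DRing.Cx R') :
    (resPF φ).app ((QQ R').obj X) ≫ (DRing.restrictD φ).map ((ε R').app X) =
      (resβA φ).app X ≫ (resFactors φ).inv.app ((tensorT R').obj X) := by
  have h := resPF_fac φ X
  dsimp only [resβB] at h
  rw [← h, Category.assoc, Category.assoc]
  have h2 := (resFactors φ).hom_inv_id_app ((tensorT R').obj X)
  erw [h2]
  exact congrArg ((resPF φ).app ((QQ R').obj X) ≫ ·) (Category.comp_id _).symm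

omit [HasLTen R] [HasLTen R'] [HasResTen φ] [ResLegIso φ] in
lemma baseγ_hom (P : DRing.Cx R) :
    (baseγ φ).app P ≫ (resFactors φ).hom.app ((extCx φ).obj P) = Q.map ((unitCx φ).app P) := by
  dsimp only [baseγ]
  rw [Category.assoc]
  have h2 := (resFactors φ).inv_hom_id_app ((extCx φ).obj P)
  erw [h2]
  exact Category.comp_id _

/-- The key identity at images of complexes. -/
lemma mFlat_key (P P' : DRing.Cx R) :
    mFlat φ (Q.obj P) (Q.obj P') ≫
        (LTen₂ R').map (Prod.mkHom ((baseCmp φ).app P) ((baseCmp φ).app P')) ≫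
          (ε R').app ((extCx φ).obj P, (extCx φ).obj P') =
      (LBase φ).map ((ε R).app (P, P')) ≫ (baseCmp φ).app (P ⊗ P') ≫ Q.map (ν φ P P') := by
  apply ((baseAdj φ).homEquiv _ _).injective
  rw [Adjunction.homEquiv_unit, Adjunction.homEquiv_unit]
  -- left hand side
  have L1 : (baseAdj φ).unit.app _ ≫ (DRing.restrictD φ).map
      (mFlat φ (Q.obj P) (Q.obj P') ≫
        (LTen₂ R').map (Prod.mkHom ((baseCmp φ).app P) ((baseCmp φ).app P')) ≫
          (ε R').app ((extCx φ).obj P, (extCx φ).obj P')) =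
      (ε R).app (P, P') ≫ Q.map (νpre φ P P') ≫
        (resFactors φ).inv.app ((extCx φ).obj P ⊗ (extCx φ).obj P') := by
    rw [Functor.map_comp, Functor.map_comp, ← Category.assoc, unit_mFlat]
    dsimp only [mMap]
    rw [Category.assoc, ← Category.assoc ((resPF φ).app _), ← resPF_naturality, Category.assoc,
      ← Category.assoc, ← Functor.map_comp]
    have e1 : Prod.mkHom ((baseAdj φ).unit.app (Q.obj P)) ((baseAdj φ).unit.app (Q.obj P')) ≫
        Prod.mkHom ((DRing.restrictD φ).map ((baseCmp φ).app P))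
          ((DRing.restrictD φ).map ((baseCmp φ).app P')) =
        (Prod.mkHom ((baseγ φ).app P) ((baseγ φ).app P') :
          ((Q.obj P, Q.obj P') : Dual.D R × Dual.D R) ⟶ _) :=
      Prod.ext (baseCmp_fac φ P) (baseCmp_fac φ P')
    rw [e1]
    have e2 := resPF_ε φ ((extCx φ).obj P, (extCx φ).obj P')
    erw [e2]
    dsimp only [resβA]
    rw [← Category.assoc, ← Category.assoc, ← Functor.map_comp]
    have e3 : (Prod.mkHom ((baseγ φ).app P) ((baseγ φ).app P') :
          ((Q.obj P, Q.obj P') : Dual.D R × Dual.D R) ⟶ _) ≫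
        Prod.mkHom ((resFactors φ).hom.app ((extCx φ).obj P))
          ((resFactors φ).hom.app ((extCx φ).obj P')) =
        (QQ R).map (Prod.mkHom ((unitCx φ).app P) ((unitCx φ).app P') :
          ((P, P') : DRing.Cx R × DRing.Cx R) ⟶ _) :=
      Prod.ext (baseγ_hom φ P) (baseγ_hom φ P')
    erw [e3]
    have e4 := (ε R).naturality (Prod.mkHom ((unitCx φ).app P) ((unitCx φ).app P') :
          ((P, P') : DRing.Cx R × DRing.Cx R) ⟶ _)
    dsimp only [Functor.comp_map] at e4
    rw [Category.assoc, Category.assoc, ← Category.assoc ((LTen₂ R).map _)]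
    erw [e4]
    rw [Category.assoc]
    congr 1
    rw [← Category.assoc]
    congr 1
    dsimp only [νpre]
    rw [Functor.map_comp]
    congr 1
    dsimp
    rw [← MonoidalCategory.tensorHom_def]
  -- right hand side
  have R1 : (baseAdj φ).unit.app _ ≫ (DRing.restrictD φ).map
      ((LBase φ).map ((ε R).app (P, P')) ≫ (baseCmp φ).app (P ⊗ P') ≫ Q.map (ν φ P P')) =
      (ε R).app (P, P') ≫ Q.map (νpre φ P P') ≫
        (resFactors φ).inv.app ((extCx φ).obj P ⊗ (extCx φ).obj P') := by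
    rw [Functor.map_comp, Functor.map_comp, ← Category.assoc]
    have e1 := (baseAdj φ).unit.naturality ((ε R).app (P, P'))
    dsimp at e1
    erw [← e1]
    rw [Category.assoc]
    congr 1
    rw [← Category.assoc]
    erw [baseCmp_fac φ (P ⊗ P')]
    dsimp only [baseγ]
    rw [Category.assoc]
    have e2 := (resFactors φ).inv.naturality (ν φ P P')
    dsimp only [Functor.comp_map] at e2
    erw [← e2]
    rw [← Category.assoc, ← Functor.map_comp]
    erw [unit_ν]
  exact L1.trans R1.symm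

/-- Derived base change is monoidal at good pairs of complexes. -/
theorem isIso_mFlat_good (P P' : DRing.Cx R) [P.IsKProjective] [P'.IsKProjective]
    (hP : IsKFlat P) (hP' : IsKFlat P') : IsIso (mFlat φ (Q.obj P) (Q.obj P')) := by
  have key := mFlat_key φ P P'
  haveI := isIso_baseCmp_of_kproj φ P
  haveI := isIso_baseCmp_of_kproj φ P'
  haveI : IsIso ((LTen₂ R').map (Prod.mkHom ((baseCmp φ).app P) ((baseCmp φ).app P'))) := by
    haveI : IsIso (Prod.mkHom ((baseCmp φ).app P) ((baseCmp φ).app P') :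
        ((((Q ⋙ LBase φ).obj P, (Q ⋙ LBase φ).obj P') : Dual.D R' × Dual.D R')) ⟶ _) := by
      rw [isIso_prod_iff]
      exact ⟨inferInstanceAs (IsIso ((baseCmp φ).app P)),
        inferInstanceAs (IsIso ((baseCmp φ).app P'))⟩
    infer_instance
  haveI := Groth.Agent.Lib.DTenValues35.isIso_ε_of_kproj R' ((extCx φ).obj P) ((extCx φ).obj P')
  haveI := Groth.Agent.Lib.DTenValues35.isIso_ε_of_kproj R P P'
  haveI := Groth.Agent.Lib.DTenBaseFlat35.isIso_baseCmp_of_isKFlat φ (P ⊗ P')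
    (Groth.Agent.Lib.DTenMix35.isKFlat_tensorObj hP hP')
  haveI : IsIso (Q.map (ν φ P P')) := inferInstance
  haveI : IsIso (mFlat φ (Q.obj P) (Q.obj P') ≫
      ((LTen₂ R').map (Prod.mkHom ((baseCmp φ).app P) ((baseCmp φ).app P')) ≫
        (ε R').app ((extCx φ).obj P, (extCx φ).obj P'))) := by
    rw [key]
    infer_instance
  exact IsIso.of_isIso_comp_right _
    ((LTen₂ R').map (Prod.mkHom ((baseCmp φ).app P) ((baseCmp φ).app P')) ≫
        (ε R').app ((extCx φ).obj P, (extCx φ).obj P'))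

/-- Derived base change is monoidal: `(N ⊗^L K) ⊗^L_R R' ≅ (N ⊗^L_R R') ⊗^L_{R'} (K ⊗^L_R R')`. -/
theorem isIso_mFlat (N K : Dual.D R) : IsIso (mFlat φ N K) := by
  obtain ⟨P, hP, hPf, ⟨eN⟩⟩ := exists_good' N
  obtain ⟨P', hP', hPf', ⟨eK⟩⟩ := exists_good' K
  haveI := hP
  haveI := hP'
  exact isIso_mFlat_of_iso φ eN.symm eK.symm (isIso_mFlat_good φ P P' hPf hPf')

end Derived

section RHomBC

variable {R R' : Type u} [CommRing R] [CommRing R'] (φ : R →+* R')
  [HasLTen R] [HasLTen R'] [HasRHom R] [HasRHom R'] [HasLBase φ] [HasResTen φ] [ResLegIso φ]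

lemma tensorRightD_map {A : Type u} [CommRing A] [HasLTen A] (L : Dual.D A) {X Y : Dual.D A}
    (f : X ⟶ Y) : (tensorRightD A L).map f = (LTen₂ A).map (Prod.mkHom f (𝟙 L)) := rfl

/-- The core identity: for `g : N ⟶ res RHom'(K', M)` with adjunct `g♭`. -/
lemma core_eq (K N : Dual.D R) (M : Dual.D R')
    (g' : (LBase φ).obj N ⟶ (RHomR R' ((LBase φ).obj K)).obj M) :
    (tensorRightD R K).map ((baseAdj φ).unit.app N ≫ (DRing.restrictD φ).map g') ≫
        rhomBCCore φ K M =
      mMap φ N K ≫ (DRing.restrictD φ).map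
        ((tensorRightD R' ((LBase φ).obj K)).map g' ≫ ev ((LBase φ).obj K) M) := by
  rw [tensorRightD_map, tensorRightD_map]
  dsimp only [rhomBCCore, mMap]
  rw [← Category.assoc, ← Functor.map_comp]
  have e1 : Prod.mkHom ((baseAdj φ).unit.app N ≫ (DRing.restrictD φ).map g') (𝟙 K) ≫
        Prod.mkHom (𝟙 ((DRing.restrictD φ).obj ((RHomR R' ((LBase φ).obj K)).obj M)))
          ((baseAdj φ).unit.app K) =
      (Prod.mkHom ((baseAdj φ).unit.app N) ((baseAdj φ).unit.app K) :
          ((N, K) : Dual.D R × Dual.D R) ⟶ _) ≫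
        Prod.mkHom ((DRing.restrictD φ).map g')
          ((DRing.restrictD φ).map (𝟙 ((LBase φ).obj K))) := by
    refine Prod.ext ?_ ?_
    · exact Category.comp_id _
    · change 𝟙 K ≫ (baseAdj φ).unit.app K =
        (baseAdj φ).unit.app K ≫ (DRing.restrictD φ).map (𝟙 ((LBase φ).obj K))
      rw [CategoryTheory.Functor.map_id, Category.id_comp]
      exact (Category.comp_id _).symm
  rw [e1, Functor.map_comp, Category.assoc, ← Category.assoc ((LTen₂ R).map (Prod.mkHom
    ((DRing.restrictD φ).map g') ((DRing.restrictD φ).map (𝟙 ((LBase φ).obj K))))),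
    resPF_naturality, Category.assoc, Category.assoc, ← Functor.map_comp]

theorem isIso_rhomBC (K : Dual.D R) (M : Dual.D R') : IsIso (rhomBC φ K M) := by
  rw [isIso_iff_yoneda_map_bijective]
  intro N
  haveI := isIso_mFlat φ N K
  let Φ1 := ((baseAdj φ).homEquiv N ((RHomR R' ((LBase φ).obj K)).obj M)).symm
  let Φ2 := (rhomHomEquiv ((LBase φ).obj N) ((LBase φ).obj K) M).symm
  let Φ3 : ((LTen₂ R').obj ((LBase φ).obj N, (LBase φ).obj K) ⟶ M) ≃
      ((LBase φ).obj ((LTen₂ R).obj (N, K)) ⟶ M) :=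
    (asIso (mFlat φ N K)).symm.homFromEquiv
  let Φ4 := (baseAdj φ).homEquiv ((LTen₂ R).obj (N, K)) M
  let Φ5 := rhomHomEquiv N K ((DRing.restrictD φ).obj M)
  have key : (fun g : N ⟶ (DRing.restrictD φ).obj ((RHomR R' ((LBase φ).obj K)).obj M) =>
      g ≫ rhomBC φ K M) = fun g => Φ5 (Φ4 (Φ3 (Φ2 (Φ1 g)))) := by
    funext g
    apply Φ5.symm.injective
    rw [Equiv.symm_apply_apply]
    have hg : g = (baseAdj φ).unit.app N ≫ (DRing.restrictD φ).map (Φ1 g) := by
      have h := ((baseAdj φ).homEquiv N ((RHomR R' ((LBase φ).obj K)).obj M)).apply_symm_apply g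
      rw [Adjunction.homEquiv_unit] at h
      exact h.symm
    have h5 : Φ5.symm (g ≫ rhomBC φ K M) =
        (tensorRightD R K).map g ≫ rhomBCCore φ K M := by
      change ((rhomAdj R K).homEquiv _ _).symm _ = _
      rw [Adjunction.homEquiv_counit, Functor.map_comp, Category.assoc]
      exact congrArg ((tensorRightD R K).map g ≫ ·) (rhomBC_fac φ K M)
    have h2 : Φ2 (Φ1 g) = (tensorRightD R' ((LBase φ).obj K)).map (Φ1 g) ≫
        ev ((LBase φ).obj K) M := by
      change ((rhomAdj R' ((LBase φ).obj K)).homEquiv _ _).symm _ = _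
      rw [Adjunction.homEquiv_counit]
    have h4 : Φ4 (Φ3 (Φ2 (Φ1 g))) = mMap φ N K ≫ (DRing.restrictD φ).map (Φ2 (Φ1 g)) := by
      change (baseAdj φ).homEquiv _ _ (mFlat φ N K ≫ Φ2 (Φ1 g)) = _
      rw [Adjunction.homEquiv_unit, Functor.map_comp, ← Category.assoc, unit_mFlat]
    rw [h5, h4, h2]
    conv_lhs => rw [hg]
    exact core_eq φ K N M (Φ1 g)
  rw [key]
  exact Φ5.bijective.comp (Φ4.bijective.comp (Φ3.bijective.comp (Φ2.bijective.comp Φ1.bijective)))

end RHomBC

end Groth.Agent.Lib.RHomBC35
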