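import Groth.Agent.Lib.FlatAmp3
import Groth.Agent.Lib.TFunOpcycles
import Groth.Agent.Lib.TFunUnit
import Groth.Agent.Lib.KProjBC21
import Groth.Agent.Lib.ProjResolution

/-!
# Tor amplitude from the vanishing of `T_i(M) = H^i(P ⊗ M)` (helper21)

* `pa_fl_of_TFun`: a bounded above complex `P` of flat modules with `H^i(P ⊗ M) = 0` for all `M` and `i < a`
  has flat amplitude in `[a, b]` (`b` the upper bound, `a ≤ b`).
* `pa_fl_of_TFun_kproj`: a K-projective complex `F` with `H^i(F ⊗ M) = 0` for all `M` and all `i ∉ [a, b]`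
  has flat amplitude in `[a, b]`.
-/

set_option autoImplicit false
universe u

open CategoryTheory CategoryTheory.Limits

attribute [local instance] HasDerivedCategory.standard

namespace Groth.Agent.Lib.TorAmpTFun21

open Groth.Agent.Lib.PCohAmp Groth.Agent.Lib.FlatAmp Groth.Agent.Lib.DRingPerfAmp

variable (R : Type u) [CommRing R]

theorem pa_fl_of_TFun (P : CochainComplex (ModuleCat.{u} R) ℤ) (a b : ℤ) (hab : a ≤ b)
    (hPb : ∀ i : ℤ, b < i → IsZero (P.X i)) (hPfl : ∀ i, Module.Flat R (P.X i))
    (hT : ∀ (M : ModuleCat.{u} R) (i : ℤ), i < a → IsZero ((CohIII.TFun P i).obj M)) :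
    PA (FL R) a b (DerivedCategory.Q.obj P) := by
  have hmono : (CohIII.TFun P a).PreservesMonomorphisms := by
    refine ⟨fun {M N} g hg => ?_⟩
    let S : ShortComplex (ModuleCat.{u} R) := ShortComplex.mk g (cokernel.π g) (cokernel.condition g)
    have hS : S.ShortExact :=
      { exact := ShortComplex.exact_cokernel g
        mono_f := hg
        epi_g := by dsimp [S]; infer_instance }
    have hex := Groth.Agent.Lib.TFun.exact₁ P hPfl S hS (a - 1) a (by simp)
    exact hex.mono_g ((hT S.X₃ (a - 1) (by lia)).eq_of_src _ _)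
  have hop : Module.Flat R (P.opcycles a) :=
    (Groth.Agent.Lib.TFun.preservesMono_iff_flat_opcycles P a (hPfl _)).mp hmono
  have hlow : ∀ i : ℤ, i < a → P.ExactAt i := fun i hi => by
    rw [HomologicalComplex.exactAt_iff_isZero_homology]
    exact (hT (ModuleCat.of R R) i hi).of_iso (Groth.Agent.Lib.TFunUnit.TUnitIso P i).symm
  exact pa_fl_of_opcycles R P a b b hab (fun i _ => hPfl i) hPb hop
    hlow (fun i hi => HomologicalComplex.ExactAt.of_isZero (hPb i hi))

theorem pa_fl_of_TFun_kproj (F : CochainComplex (ModuleCat.{u} R) ℤ) [F.IsKProjective] (a b : ℤ)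
    (hT : ∀ (M : ModuleCat.{u} R) (i : ℤ), (i < a ∨ b < i) → IsZero ((CohIII.TFun F i).obj M)) :
    PA (FL R) a b (DerivedCategory.Q.obj F) := by
  have hH : ∀ i : ℤ, (i < a ∨ b < i) →
      IsZero ((DerivedCategory.homologyFunctor (ModuleCat.{u} R) i).obj (DerivedCategory.Q.obj F)) := by
    intro i hi
    exact ((hT (ModuleCat.of R R) i hi).of_iso (Groth.Agent.Lib.TFunUnit.TUnitIso F i).symm).of_iso
      ((DerivedCategory.homologyFunctorFactors (ModuleCat.{u} R) i).app _)
  have h1 : (DerivedCategory.Q.obj F).IsLE b := by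
    rw [DerivedCategory.isLE_iff]
    exact fun i hi => hH i (Or.inr hi)
  by_cases hab : a ≤ b
  swap
  · have h2 : (DerivedCategory.Q.obj F).IsGE a := by
      rw [DerivedCategory.isGE_iff]
      exact fun i hi => hH i (Or.inl hi)
    have hz : IsZero (DerivedCategory.Q.obj F) :=
      DerivedCategory.TStructure.t.isZero (DerivedCategory.Q.obj F) b a (by lia)
    exact pa_of_isZero R a b hz
  obtain ⟨P, hPb, hPp, ⟨e⟩⟩ := Groth.Agent.Lib.ProjResolution.exists_iso_Q_projective
    (DerivedCategory.Q.obj F) b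
  have := CochainComplex.isKProjective_of_projective P b
  have hPfl : ∀ i, Module.Flat R (P.X i) := fun i => by
    have := hPp i
    have : Module.Projective R (P.X i) := ModuleCat.projective_of_module_projective (P.X i)
    infer_instance
  obtain ⟨f, g, ⟨ho⟩⟩ := Groth.Agent.Lib.FibreNakD21.exists_homotopy_of_iso P F e
  have hTP : ∀ (M : ModuleCat.{u} R) (i : ℤ), i < a → IsZero ((CohIII.TFun P i).obj M) := by
    intro M i hi
    exact Groth.Agent.Lib.KProjBC21.isZero_homology_of_retract (MonoidalCategory.tensorRight M) f g ho i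
      (hT M i (Or.inl hi))
  exact pa_of_iso e (pa_fl_of_TFun R P a b hab (fun i hi => P.isZero_of_isStrictlyLE b i hi) hPfl hTP)

end Groth.Agent.Lib.TorAmpTFun21
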