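import Mathlib
import Groth.Agent.Lib.HDIBC25
import Groth.Agent.Lib.DTenValues35
import Groth.Agent.Lib.HomCxPre25
import Groth.Agent.Lib.TorAmpShift21
import Groth.Agent.Lib.ProjFormula35
import Groth.Agent.Lib.RHomBC35
import Groth.Agent.Lib.TorAmpTFun21
import Groth.Agent.Lib.TorAmpKFlat35
import Groth.Agent.Lib.DCopower
import Groth.Agent.Lib.FlatBaseChangeD

/-!
# A Tor criterion for tor amplitude, and faithfully flat descent of tor amplitude of restrictions

* `isZero_homology_of_hasTorAmplitudeIn`: `Q X` of tor amplitude `[a, b]` ⇒ `H^i(X ⊗ N') = 0` for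
  `i ∉ [a, b]` and every K-flat resolution `N' ⟶ M[0]`.
* `hasTorAmplitudeIn_of_isZero_homology`: the converse (for each `M` one K-flat resolution suffices).
* `hasTorAmplitudeIn_of_forall`: transfer of tor amplitude from `X` to `Y` when
  `H^i(X ⊗ N) = 0 → H^i(Y ⊗ N) = 0` for all complexes `N`.
* `extCxCompIso`, `isZero_homology_resCx_iff`, `isZero_homology_extCx_iff`, `isZero_homology_iff`.
* `main` (= S6951).
-/

set_option autoImplicit false
set_option backward.isDefEq.respectTransparency.types false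
universe u
open CategoryTheory CategoryTheory.Limits MonoidalCategory DerivedCategory
attribute [local instance] HasDerivedCategory.standard
open Groth.Agent.Lib.KFlat35 (IsKFlat)
open Groth.Agent.Lib.HomTensor25 (sg GM)
open DTen (extCx resCx)

namespace Groth.Agent.Lib.H47TorCrit

section Crit

variable {R : Type u} [CommRing R]

/-- Tensoring a quasi-isomorphism with a K-flat complex on the right keeps the homology. -/
lemma nonempty_homology_iso_left {P X N' : DRing.Cx R} (s : P ⟶ X) [QuasiIso s]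
    (hN : IsKFlat N') (i : ℤ) :
    Nonempty ((P ⊗ N').homology i ≅ (X ⊗ N').homology i) := by
  haveI := Groth.Agent.Lib.KFlat35.quasiIso_tensorHom_right hN s
  exact ⟨asIso (HomologicalComplex.homologyMap (HomologicalComplex.tensorHom s (𝟙 N')) i)⟩

/-- For `Z` K-flat and `N' ⟶ M[0]` a quasi-isomorphism, `H^i(Z ⊗ N') ≅ H^i(M ⊗ Z)` (termwise). -/
lemma nonempty_homology_iso_GM {Z N' : DRing.Cx R} (hZ : IsKFlat Z) (M : ModuleCat.{u} R)
    (π : N' ⟶ sg M) [QuasiIso π] (i : ℤ) :
    Nonempty ((Z ⊗ N').homology i ≅ ((GM M).obj Z).homology i) := by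
  have h1 := Groth.Agent.Lib.KFlat35.quasiIso_tensorHom_right hZ π
  have h2 : IsIso (HomologicalComplex.homologyMap (HomologicalComplex.tensorHom π (𝟙 Z)) i) :=
    (quasiIsoAt_iff_isIso_homologyMap _ i).mp (h1.quasiIsoAt i)
  exact ⟨(HomologicalComplex.homologyFunctor _ _ i).mapIso (DTen.braidCx Z N') ≪≫
    @asIso _ _ _ _ (HomologicalComplex.homologyMap (HomologicalComplex.tensorHom π (𝟙 Z)) i) h2 ≪≫
    (HomologicalComplex.homologyFunctor _ _ i).mapIso
      (Groth.Agent.Lib.HomTensor25.tensorSingleIso M Z).symm⟩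

/-- `P ⊗ M` termwise (as in `CohIII.tensorObj`) against `M ⊗ P` termwise. -/
noncomputable def tensorObjIsoGM (P : DRing.Cx R) (M : ModuleCat.{u} R) :
    CohIII.tensorObj P M ≅ (GM M).obj P :=
  (NatIso.mapHomologicalComplex (BraidedCategory.tensorLeftIsoTensorRight M).symm
    (ComplexShape.up ℤ)).app P

/-- Tor vanishing for a complex of tor amplitude `[a, b]`. -/
theorem isZero_homology_of_hasTorAmplitudeIn (X : DRing.Cx R) (a b : ℤ)
    (h : DRing.HasTorAmplitudeIn R a b (DRing.toD X)) (M : ModuleCat.{u} R) {N' : DRing.Cx R}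
    (π : N' ⟶ sg M) [QuasiIso π] (hN : IsKFlat N') (i : ℤ) (hi : i < a ∨ b < i) :
    IsZero ((X ⊗ N').homology i) := by
  obtain ⟨G, vG, hG, ⟨e⟩⟩ := h
  obtain ⟨P, s, hP, hPf, -, hs, -⟩ :=
    Groth.Agent.Lib.SemiFreeKProj35.exists_kprojective_resolution X
  haveI := hP
  haveI := hs
  obtain ⟨f, hf⟩ := Groth.Agent.Lib.DCopower.exists_Q_map_eq P G (Q.map s ≫ e.inv)
  haveI : IsIso (Q.map s) := by
    rw [DerivedCategory.isIso_Q_map_iff_quasiIso]; exact hs
  haveI : IsIso (Q.map f) := by rw [hf]; infer_instance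
  haveI hf' : QuasiIso f := (DerivedCategory.isIso_Q_map_iff_quasiIso (φ := f)).1 inferInstance
  have hGK : IsKFlat G := Groth.Agent.Lib.TorAmpKFlat35.isKFlat_of_flat_of_bddAbove G hG b
    (fun i hi => vG i (Or.inr hi))
  obtain ⟨e1⟩ := nonempty_homology_iso_left s hN i
  obtain ⟨e2⟩ := nonempty_homology_iso_left f hN i
  obtain ⟨e3⟩ := nonempty_homology_iso_GM hGK M π i
  have hz : IsZero (((GM M).obj G).homology i) := by
    rw [← HomologicalComplex.exactAt_iff_isZero_homology]
    exact ShortComplex.exact_of_isZero_X₂ _ ((tensorLeft M).map_isZero (vG i hi))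
  exact hz.of_iso (e1.symm ≪≫ e2 ≪≫ e3)

/-- The Tor criterion for tor amplitude. -/
theorem hasTorAmplitudeIn_of_isZero_homology (X : DRing.Cx R) (a b : ℤ)
    (h : ∀ M : ModuleCat.{u} R, ∃ (N' : DRing.Cx R) (π : N' ⟶ sg M), QuasiIso π ∧ IsKFlat N' ∧
      ∀ i : ℤ, (i < a ∨ b < i) → IsZero ((X ⊗ N').homology i)) :
    DRing.HasTorAmplitudeIn R a b (DRing.toD X) := by
  obtain ⟨P, s, hP, hPf, -, hs, -⟩ :=
    Groth.Agent.Lib.SemiFreeKProj35.exists_kprojective_resolution X
  haveI := hP
  haveI := hs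
  haveI : IsIso (Q.map s) := by
    rw [DerivedCategory.isIso_Q_map_iff_quasiIso]; exact hs
  have hpa := Groth.Agent.Lib.TorAmpTFun21.pa_fl_of_TFun_kproj R P a b (by
    intro M i hi
    obtain ⟨N', π, hπ, hN, hv⟩ := h M
    haveI := hπ
    obtain ⟨e1⟩ := nonempty_homology_iso_left s hN i
    obtain ⟨e3⟩ := nonempty_homology_iso_GM hPf M π i
    exact (hv i hi).of_iso ((HomologicalComplex.homologyFunctor _ _ i).mapIso (tensorObjIsoGM P M)
      ≪≫ e3.symm ≪≫ e1))
  have := (Groth.Agent.Lib.TorAmpShift21.ta_iff_pa R a b _).2 hpa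
  exact Groth.Agent.Lib.FlatBaseChangeD.hasTorAmplitudeIn_of_iso R (asIso (Q.map s)) this

/-- Transfer of tor amplitude along a comparison of Tor vanishing. -/
theorem hasTorAmplitudeIn_of_forall {X Y : DRing.Cx R} (a b : ℤ)
    (h : ∀ (N : DRing.Cx R) (i : ℤ), IsZero ((X ⊗ N).homology i) → IsZero ((Y ⊗ N).homology i))
    (hX : DRing.HasTorAmplitudeIn R a b (DRing.toD X)) :
    DRing.HasTorAmplitudeIn R a b (DRing.toD Y) := by
  refine hasTorAmplitudeIn_of_isZero_homology Y a b (fun M => ?_)
  obtain ⟨N', π, -, hN, -, hπ, -⟩ :=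
    Groth.Agent.Lib.SemiFreeKProj35.exists_kprojective_resolution (sg M)
  haveI := hπ
  exact ⟨N', π, hπ, hN, fun i hi =>
    h N' i (isZero_homology_of_hasTorAmplitudeIn X a b hX M π hN i hi)⟩

end Crit

section Compare

variable {R A B : Type u} [CommRing R] [CommRing A] [CommRing B]

/-- Extension of scalars along a composite, for complexes. -/
noncomputable def extCxCompIso (φ : R →+* A) (ψ : A →+* B) (N : DRing.Cx R) :
    (extCx (ψ.comp φ)).obj N ≅ (extCx ψ).obj ((extCx φ).obj N) :=
  HomologicalComplex.Hom.isoOfComponents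
    (fun i => (ModuleCat.extendScalarsComp.{u} φ ψ).app (N.X i))
    (fun i j _ => ((ModuleCat.extendScalarsComp.{u} φ ψ).hom.naturality (N.d i j)).symm)

/-- The homology of a restricted complex vanishes iff the homology of the complex does. -/
lemma isZero_homology_resCx_iff (χ : R →+* B) (Z : DRing.Cx B) (i : ℤ) :
    IsZero (((resCx χ).obj Z).homology i) ↔ IsZero (Z.homology i) := by
  have e : ((resCx χ).obj Z).homology i ≅ (ModuleCat.restrictScalars.{u} χ).obj (Z.homology i) :=
    (Groth.Agent.Lib.FlatBaseChangeD.mapHCHomologyIso (ModuleCat.restrictScalars.{u} χ) i).app Z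
  rw [e.isZero_iff]
  constructor
  · intro h
    haveI : Subsingleton (Z.homology i) :=
      ModuleCat.subsingleton_of_isZero (M := (ModuleCat.restrictScalars.{u} χ).obj (Z.homology i)) h
    exact ModuleCat.isZero_of_subsingleton _
  · intro h
    exact (ModuleCat.restrictScalars.{u} χ).map_isZero h

/-- Faithfully flat extension of scalars detects vanishing of homology. -/
lemma isZero_homology_extCx_iff [Algebra A B] [Module.FaithfullyFlat A B] (W : DRing.Cx A) (i : ℤ) :
    IsZero (((extCx (algebraMap A B)).obj W).homology i) ↔ IsZero (W.homology i) := by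
  have e : ((extCx (algebraMap A B)).obj W).homology i ≅
      (Groth.Agent.Lib.FlatBaseChangeD.F A B).obj (W.homology i) :=
    (Groth.Agent.Lib.FlatBaseChangeD.mapHCHomologyIso (Groth.Agent.Lib.FlatBaseChangeD.F A B) i).app W
  rw [e.isZero_iff]
  constructor
  · intro h
    haveI : Subsingleton ((Groth.Agent.Lib.FlatBaseChangeD.F A B).obj (W.homology i)) :=
      ModuleCat.subsingleton_of_isZero h
    haveI : Subsingleton (TensorProduct A B (W.homology i)) :=
      (Groth.Agent.Lib.FlatBaseChangeD.objEquiv (W.homology i)).symm.toEquiv.subsingleton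
    haveI : Subsingleton (W.homology i) :=
      (Module.FaithfullyFlat.subsingleton_tensorProduct_iff_right A B).1 inferInstance
    exact ModuleCat.isZero_of_subsingleton _
  · intro h
    exact (Groth.Agent.Lib.FlatBaseChangeD.F A B).map_isZero h

/-- The key comparison: `H^i(E|_R ⊗_R N) = 0` iff `H^i((B ⊗_A E)|_R ⊗_R N) = 0`. -/
theorem isZero_homology_iff [Algebra A B] [Module.FaithfullyFlat A B] (φ : R →+* A) (χ : R →+* B)
    (hχ : χ = (algebraMap A B).comp φ) (E : DRing.Cx A) (N : DRing.Cx R) (i : ℤ) :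
    IsZero (((resCx φ).obj E ⊗ N).homology i) ↔
      IsZero (((resCx χ).obj ((extCx (algebraMap A B)).obj E) ⊗ N).homology i) := by
  subst hχ
  let W : DRing.Cx A := E ⊗ (extCx φ).obj N
  have e1 : (resCx φ).obj E ⊗ N ≅ (resCx φ).obj W := Groth.Agent.Lib.ProjFormula35.pfIso φ E N
  have e2 : (resCx ((algebraMap A B).comp φ)).obj ((extCx (algebraMap A B)).obj E) ⊗ N ≅
      (resCx ((algebraMap A B).comp φ)).obj ((extCx (algebraMap A B)).obj W) :=
    Groth.Agent.Lib.ProjFormula35.pfIso ((algebraMap A B).comp φ) _ N ≪≫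
      (resCx ((algebraMap A B).comp φ)).mapIso
        (whiskerLeftIso _ (extCxCompIso φ (algebraMap A B) N) ≪≫
          (asIso (Groth.Agent.Lib.RHomBC35.ν (algebraMap A B) E ((extCx φ).obj N))).symm)
  have h1 : IsZero (((resCx φ).obj E ⊗ N).homology i) ↔ IsZero (((resCx φ).obj W).homology i) :=
    ((HomologicalComplex.homologyFunctor _ _ i).mapIso e1).isZero_iff
  have h2 : IsZero (((resCx ((algebraMap A B).comp φ)).obj
      ((extCx (algebraMap A B)).obj E) ⊗ N).homology i) ↔
      IsZero (((resCx ((algebraMap A B).comp φ)).obj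
        ((extCx (algebraMap A B)).obj W)).homology i) :=
    ((HomologicalComplex.homologyFunctor _ _ i).mapIso e2).isZero_iff
  rw [h1, h2, isZero_homology_resCx_iff, isZero_homology_resCx_iff, isZero_homology_extCx_iff]

end Compare

section Main

variable {R A B : Type u} [CommRing R] [CommRing A] [CommRing B] [Algebra R A] [Algebra A B]
  [Algebra R B] [IsScalarTower R A B] [Module.FaithfullyFlat A B]
  [DRing.HasLBaseChange (algebraMap A B)]

theorem main (K : Dual.D A) (a b : ℤ) :
    DRing.HasTorAmplitudeIn R a b ((DRing.restrictD (algebraMap R A)).obj K) ↔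
      DRing.HasTorAmplitudeIn R a b ((DRing.restrictD (algebraMap R B)).obj
        ((DRing.LBaseChange (algebraMap A B)).obj K)) := by
  let E : DRing.Cx A := Q.objPreimage K
  let eK : Q.obj E ≅ K := Q.objObjPreimageIso K
  let iso1 : (DRing.restrictD (algebraMap R A)).obj K ≅
      DRing.toD ((resCx (algebraMap R A)).obj E) :=
    (DRing.restrictD (algebraMap R A)).mapIso eK.symm ≪≫ (DTen.resFactors (algebraMap R A)).app E
  let iso2 : (DRing.restrictD (algebraMap R B)).obj ((DRing.LBaseChange (algebraMap A B)).obj K) ≅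
      DRing.toD ((resCx (algebraMap R B)).obj ((extCx (algebraMap A B)).obj E)) :=
    (DRing.restrictD (algebraMap R B)).mapIso
      ((DRing.LBaseChange (algebraMap A B)).mapIso eK.symm ≪≫
        Groth.Agent.Lib.HDIBC25.lbcIsoFlatHom E) ≪≫
      (DTen.resFactors (algebraMap R B)).app ((extCx (algebraMap A B)).obj E)
  have hχ : algebraMap R B = (algebraMap A B).comp (algebraMap R A) :=
    IsScalarTower.algebraMap_eq R A B
  have key := fun (N : DRing.Cx R) (i : ℤ) =>
    isZero_homology_iff (algebraMap R A) (algebraMap R B) hχ E N i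
  constructor
  · intro h
    exact Groth.Agent.Lib.FlatBaseChangeD.hasTorAmplitudeIn_of_iso R iso2.symm
      (hasTorAmplitudeIn_of_forall a b (fun N i => (key N i).1)
        (Groth.Agent.Lib.FlatBaseChangeD.hasTorAmplitudeIn_of_iso R iso1 h))
  · intro h
    exact Groth.Agent.Lib.FlatBaseChangeD.hasTorAmplitudeIn_of_iso R iso1.symm
      (hasTorAmplitudeIn_of_forall a b (fun N i => (key N i).2)
        (Groth.Agent.Lib.FlatBaseChangeD.hasTorAmplitudeIn_of_iso R iso2 h))

end Main

end Groth.Agent.Lib.H47TorCrit
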