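import Mathlib
import Groth.Agent.Lib.H47TorCrit

/-!
# Tor amplitude of a restricted complex can be checked at the maximal ideals of the upper ring

* `squareIso`: projection formula across a commutative square of rings.
* `isZero_of_forall_maximal`, `isZero_homology_of_forall_maximal`: vanishing is detected at maximal ideals.
* `extπ`, `quasiIso_extπ`: flat base change of a resolution of `M[0]`.
* `main` (= S12092).
-/

set_option autoImplicit false
set_option backward.isDefEq.respectTransparency.types false
universe u
open CategoryTheory CategoryTheory.Limits MonoidalCategory DerivedCategory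
attribute [local instance] HasDerivedCategory.standard
open Groth.Agent.Lib.KFlat35 (IsKFlat)
open Groth.Agent.Lib.HomTensor25 (sg GM)
open DTen (extCx resCx)

namespace Groth.Agent.Lib.H47TorLoc
open Groth.Agent.Lib.H47TorCrit

section Square

variable {A B A' B' : Type u} [CommRing A] [CommRing B] [CommRing A'] [CommRing B']

/-- The projection formula across a commutative square of rings. -/
noncomputable def squareIso (f : A →+* B) (α : A →+* A') (ι : B →+* B') (l : A' →+* B')
    (h : l.comp α = ι.comp f) (K : DRing.Cx B) (N : DRing.Cx A) :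
    (resCx l).obj ((extCx ι).obj K) ⊗ (extCx α).obj N ≅
      (resCx l).obj ((extCx ι).obj (K ⊗ (extCx f).obj N)) :=
  Groth.Agent.Lib.ProjFormula35.pfIso l ((extCx ι).obj K) ((extCx α).obj N) ≪≫
    (resCx l).mapIso
      (whiskerLeftIso _ ((extCxCompIso α l N).symm ≪≫
          eqToIso (congrArg (fun χ : A →+* B' => (extCx χ).obj N) h) ≪≫ extCxCompIso f ι N) ≪≫
        (asIso (Groth.Agent.Lib.RHomBC35.ν ι K ((extCx f).obj N))).symm)

end Square

section Detect

variable {B : Type u} [CommRing B]

/-- A module vanishes if all its localizations at maximal ideals do. -/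
lemma isZero_of_forall_maximal (H : ModuleCat.{u} B)
    (h : ∀ (m : Ideal B) [m.IsMaximal], IsZero
      ((ModuleCat.extendScalars.{u, u, u} (algebraMap B (Localization.AtPrime m))).obj H)) :
    IsZero H := by
  haveI : Subsingleton H := by
    refine Module.subsingleton_of_localization_maximal
      (fun (P : Ideal B) [P.IsMaximal] => TensorProduct B (Localization.AtPrime P) H)
      (fun (P : Ideal B) [P.IsMaximal] => TensorProduct.mk B (Localization.AtPrime P) H 1) ?_
    intro P hP
    haveI : Subsingleton ((Groth.Agent.Lib.FlatBaseChangeD.F B (Localization.AtPrime P)).obj H) :=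
      ModuleCat.subsingleton_of_isZero (h P)
    exact (Groth.Agent.Lib.FlatBaseChangeD.objEquiv (B := Localization.AtPrime P) H).symm.toEquiv.subsingleton
  exact ModuleCat.isZero_of_subsingleton _

/-- The homology of a complex vanishes if it does after localizing at all maximal ideals. -/
lemma isZero_homology_of_forall_maximal (W : DRing.Cx B) (i : ℤ)
    (h : ∀ (m : Ideal B) [m.IsMaximal], IsZero
      (((extCx (algebraMap B (Localization.AtPrime m))).obj W).homology i)) :
    IsZero (W.homology i) := by
  refine isZero_of_forall_maximal _ (fun m hm => ?_)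
  have e : ((extCx (algebraMap B (Localization.AtPrime m))).obj W).homology i ≅
      (Groth.Agent.Lib.FlatBaseChangeD.F B (Localization.AtPrime m)).obj (W.homology i) :=
    (Groth.Agent.Lib.FlatBaseChangeD.mapHCHomologyIso
      (Groth.Agent.Lib.FlatBaseChangeD.F B (Localization.AtPrime m)) i).app W
  exact (h m).of_iso e.symm

end Detect

section ExtRes

variable {A A' : Type u} [CommRing A] [CommRing A'] [Algebra A A']

/-- Base change of a resolution of `M[0]`. -/
noncomputable def extπ (M : ModuleCat.{u} A) {N' : DRing.Cx A} (π : N' ⟶ sg M) :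
    (extCx (algebraMap A A')).obj N' ⟶
      sg ((ModuleCat.extendScalars.{u, u, u} (algebraMap A A')).obj M) :=
  (extCx (algebraMap A A')).map π ≫
    (HomologicalComplex.singleMapHomologicalComplex
      (ModuleCat.extendScalars.{u, u, u} (algebraMap A A')) (ComplexShape.up ℤ) 0).hom.app M

lemma quasiIso_extπ [Module.Flat A A'] (M : ModuleCat.{u} A) {N' : DRing.Cx A} (π : N' ⟶ sg M)
    [QuasiIso π] : QuasiIso (extπ (A' := A') M π) := by
  haveI : QuasiIso ((extCx (algebraMap A A')).map π) :=
    inferInstanceAs (QuasiIso (((Groth.Agent.Lib.FlatBaseChangeD.F A A').mapHomologicalComplex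
      (ComplexShape.up ℤ)).map π))
  unfold extπ
  infer_instance

end ExtRes

section Main

variable (A B : Type u) [CommRing A] [CommRing B] [Algebra A B]

theorem main (K : DRing.Cx B) (a b : ℤ)
    (h3 : ∀ (m : Ideal B) [m.IsMaximal],
      DRing.HasTorAmplitudeIn (Localization.AtPrime (m.comap (algebraMap A B))) a b
        (DRing.toD ((DRing.restrictCx (Localization.localRingHom (m.comap (algebraMap A B)) m (algebraMap A B) rfl)).obj
          (((ModuleCat.extendScalars (algebraMap B (Localization.AtPrime m))).mapHomologicalComplex
            (ComplexShape.up ℤ)).obj K)))) :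
    DRing.HasTorAmplitudeIn A a b (DRing.toD ((DRing.restrictCx (algebraMap A B)).obj K)) := by
  refine hasTorAmplitudeIn_of_isZero_homology ((resCx (algebraMap A B)).obj K) a b (fun M => ?_)
  obtain ⟨N', π, -, hN, -, hπ, -⟩ :=
    Groth.Agent.Lib.SemiFreeKProj35.exists_kprojective_resolution (sg M)
  haveI := hπ
  refine ⟨N', π, hπ, hN, fun i hi => ?_⟩
  let W : DRing.Cx B := K ⊗ (extCx (algebraMap A B)).obj N'
  have e1 : (resCx (algebraMap A B)).obj K ⊗ N' ≅ (resCx (algebraMap A B)).obj W :=
    Groth.Agent.Lib.ProjFormula35.pfIso (algebraMap A B) K N'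
  have h1 : IsZero (((resCx (algebraMap A B)).obj K ⊗ N').homology i) ↔
      IsZero (((resCx (algebraMap A B)).obj W).homology i) :=
    ((HomologicalComplex.homologyFunctor _ _ i).mapIso e1).isZero_iff
  rw [h1, isZero_homology_resCx_iff]
  refine isZero_homology_of_forall_maximal W i (fun m hm => ?_)
  let p : Ideal A := m.comap (algebraMap A B)
  let l : Localization.AtPrime p →+* Localization.AtPrime m :=
    Localization.localRingHom p m (algebraMap A B) rfl
  have hsq : l.comp (algebraMap A (Localization.AtPrime p)) =
      (algebraMap B (Localization.AtPrime m)).comp (algebraMap A B) :=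
    RingHom.ext (fun x => Localization.localRingHom_to_map p m (algebraMap A B) rfl x)
  have e2 := squareIso (algebraMap A B) (algebraMap A (Localization.AtPrime p))
    (algebraMap B (Localization.AtPrime m)) l hsq K N'
  haveI := quasiIso_extπ (A' := Localization.AtPrime p) M π
  have hz := isZero_homology_of_hasTorAmplitudeIn
    ((resCx l).obj ((extCx (algebraMap B (Localization.AtPrime m))).obj K)) a b (h3 m)
    ((ModuleCat.extendScalars.{u, u, u} (algebraMap A (Localization.AtPrime p))).obj M)
    (extπ (A' := Localization.AtPrime p) M π)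
    (Groth.Agent.Lib.ProjFormula35.isKFlat_extCx (algebraMap A (Localization.AtPrime p)) N' hN)
    i hi
  have hz2 := hz.of_iso ((HomologicalComplex.homologyFunctor _ _ i).mapIso e2.symm)
  exact (isZero_homology_resCx_iff l _ i).1 hz2

end Main

end Groth.Agent.Lib.H47TorLoc
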