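/-
helper47: sharp mixed-characteristic bound: a characteristic-zero domain `S` with
`trdeg_ℤ S ≤ N` has `ringKrullDim S ≤ N + 1` (`ringKrullDim_le_of_trdeg_int_le'`).
Also `algebraicIndependent_of_map`, `trdeg_le_of_surjective_mixed` (lifting algebraic independence
along a surjection from a char-0 domain to a `ℤ/ℓ`-algebra).
-/
import Groth.Agent.Lib.H47TrdegDim

set_option autoImplicit false
set_option linter.style.haveILetI false
set_option linter.unusedSectionVars false
universe u v
open Cardinal Algebra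
namespace Groth.Agent.H47TrdegDim

/-- lifting algebraic independence along a ring hom `π : B → C` from a char-zero domain to a
`ℤ/ℓ`-algebra -/
lemma algebraicIndependent_of_map {B C : Type*} [CommRing B] [IsDomain B] [CharZero B] [Algebra ℤ B]
    [CommRing C]
    (ℓ : ℕ) (hℓ : 2 ≤ ℓ) [Algebra (ℤ ⧸ Ideal.span {(ℓ : ℤ)}) C] (π : B →+* C)
    {ι : Type*} (y : ι → B)
    (hy : AlgebraicIndependent (ℤ ⧸ Ideal.span {(ℓ : ℤ)}) (fun i => π (y i))) :
    AlgebraicIndependent ℤ y := by
  have step1 : ∀ P : MvPolynomial ι ℤ, MvPolynomial.aeval y P = 0 → MvPolynomial.C (ℓ : ℤ) ∣ P := by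
    intro P hP
    rw [MvPolynomial.C_dvd_iff_map_hom_eq_zero (Ideal.Quotient.mk (Ideal.span {(ℓ : ℤ)})) (ℓ : ℤ)
      (fun r => by rw [Ideal.Quotient.eq_zero_iff_mem, Ideal.mem_span_singleton])]
    rw [algebraicIndependent_iff_injective_aeval] at hy
    apply hy
    rw [map_zero]
    have h1 : MvPolynomial.aeval (fun i => π (y i))
        (MvPolynomial.map (Ideal.Quotient.mk (Ideal.span {(ℓ : ℤ)})) P) =
        π (MvPolynomial.aeval y P) := by
      rw [MvPolynomial.map_aeval, MvPolynomial.aeval_def, MvPolynomial.eval₂_map]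
      rw [MvPolynomial.coe_eval₂Hom]
      congr 1
      exact RingHom.ext_int _ _
    rw [h1, hP, map_zero]
  have hℓS : (ℓ : B) ≠ 0 := by
    have : ℓ ≠ 0 := by omega
    exact_mod_cast this
  have step3 : ∀ k : ℕ, ∀ P : MvPolynomial ι ℤ, MvPolynomial.aeval y P = 0 →
      MvPolynomial.C ((ℓ : ℤ) ^ k) ∣ P := by
    intro k
    induction k with
    | zero => intro P _; simp
    | succ k ih =>
      intro P hP
      obtain ⟨P₁, rfl⟩ := step1 P hP
      have h0 : MvPolynomial.aeval y P₁ = 0 := by
        rw [map_mul, MvPolynomial.aeval_C] at hP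
        rcases mul_eq_zero.mp hP with h | h
        · exfalso; apply hℓS; simpa using h
        · exact h
      obtain ⟨P₂, rfl⟩ := ih P₁ h0
      refine ⟨P₂, ?_⟩
      rw [pow_succ, map_mul]; ring
  rw [algebraicIndependent_iff]
  intro P hP
  by_contra hP0
  obtain ⟨d, hd⟩ := MvPolynomial.ne_zero_iff.mp hP0
  have hdvd := (MvPolynomial.C_dvd_iff_dvd_coeff _ _).mp (step3 (P.coeff d).natAbs P hP) d
  have h2 : ℓ ^ (P.coeff d).natAbs ∣ (P.coeff d).natAbs := by
    have := Int.natAbs_dvd_natAbs.mpr hdvd
    simpa [Int.natAbs_pow] using this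
  have h3 := Nat.le_of_dvd (Int.natAbs_pos.mpr hd) h2
  have h4 : (P.coeff d).natAbs < ℓ ^ (P.coeff d).natAbs := Nat.lt_pow_self hℓ
  omega

lemma trdeg_le_of_surjective_mixed {B C : Type v} [CommRing B] [IsDomain B] [CharZero B]
    [Algebra ℤ B] [CommRing C] (ℓ : ℕ) (hℓ : 2 ≤ ℓ) [Algebra (ℤ ⧸ Ideal.span {(ℓ : ℤ)}) C] (π : B →+* C)
    (hπ : Function.Surjective π) :
    Algebra.trdeg (ℤ ⧸ Ideal.span {(ℓ : ℤ)}) C ≤ Algebra.trdeg ℤ B := by
  rw [Algebra.trdeg]
  apply ciSup_le'
  rintro ⟨s, hs⟩
  choose y hy' using fun i : s => hπ (i : C)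
  have hind := algebraicIndependent_of_map ℓ hℓ π y (by
    have : (fun i => π (y i)) = (fun i : s => (i : C)) := funext hy'
    rw [this]; exact hs)
  exact hind.cardinalMk_le_trdeg

section mixed

variable {S : Type v} [CommRing S] [IsDomain S] [CharZero S]

/-- **Krull dimension bound, mixed characteristic, sharp form**: a characteristic-zero domain of
transcendence degree `≤ N` over `ℤ` has Krull dimension `≤ N+1`. -/
theorem ringKrullDim_le_of_trdeg_int_le' (N : ℕ) (hN : Algebra.trdeg ℤ S ≤ N) :
    ringKrullDim S ≤ (N + 1 : ℕ) := by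
  classical
  rw [ringKrullDim, Order.krullDim]
  apply iSup_le
  intro x
  suffices h : x.length ≤ N + 1 by exact_mod_cast h
  by_cases hcase : ∀ ℓ : ℕ, ℓ.Prime → (ℓ : S) ∉ (x.last).asIdeal
  · have hle : ∀ j, (x j).asIdeal ≤ (x.last).asIdeal := fun j => by
      have : x j ≤ x.last := LTSeries.monotone x (Fin.le_last j)
      exact this
    have hinj : ∀ j, Function.Injective (algebraMap ℤ (S ⧸ (x j).asIdeal)) := fun j =>
      int_injective_of_no_prime _ (fun ℓ hℓ hmem => hcase ℓ hℓ (hle j hmem))
    have h := length_le_of_strictAnti x.length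
      (fun j => (Algebra.trdeg ℤ (S ⧸ (x j).asIdeal)).toNat) (fun i => by
        have hlt : (x i.castSucc).asIdeal < (x i.succ).asIdeal := x.step i
        exact (toNat_trdeg_lt _ _ hlt (hinj _) N hN).1)
    have h2 := toNat_trdeg_quotient_le (A := ℤ) (x 0).asIdeal N hN
    omega
  · push Not at hcase
    obtain ⟨ℓ, hℓ, hmem⟩ := hcase
    have hle : ∀ j, (x j).asIdeal ≤ (x.last).asIdeal := fun j => by
      have : x j ≤ x.last := LTSeries.monotone x (Fin.le_last j)
      exact this
    set I : Ideal ℤ := Ideal.span {(ℓ : ℤ)} with hI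
    set J : Ideal S := I.map (algebraMap ℤ S) with hJ
    have hJspan : J = Ideal.span {(ℓ : S)} := by
      rw [hJ, hI, Ideal.map_span, Set.image_singleton]; simp
    have hJle : ∀ p : Ideal S, (ℓ : S) ∈ p → J ≤ p := by
      intro p hp
      rw [hJspan, Ideal.span_singleton_le_iff_mem]; exact hp
    have hNq : Algebra.trdeg (ℤ ⧸ I) (S ⧸ J) ≤ N := (trdeg_quotient_le S ℓ hℓ.two_le).trans hN
    let f : Ideal S → ℕ := fun p =>
      if (ℓ : S) ∈ p then (Algebra.trdeg (ℤ ⧸ I) ((S ⧸ J) ⧸ p.map (Ideal.Quotient.mk J))).toNat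
      else 1 + (Algebra.trdeg ℤ (S ⧸ p)).toNat
    have hfle : ∀ p : Ideal S, f p ≤ N + 1 := by
      intro p
      simp only [f]
      split_ifs with h
      · have := toNat_trdeg_quotient_le (A := ℤ ⧸ I) (p.map (Ideal.Quotient.mk J)) N hNq
        omega
      · have := toNat_trdeg_quotient_le (A := ℤ) p N hN
        omega
    have hstep : ∀ q p : Ideal S, q.IsPrime → p.IsPrime → q < p → p ≤ (x.last).asIdeal →
        f p < f q := by
      intro q p hq hp hqp hpl
      simp only [f]
      by_cases h1 : (ℓ : S) ∈ q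
      · have h2 : (ℓ : S) ∈ p := hqp.le h1
        rw [if_pos h1, if_pos h2]
        have hker : RingHom.ker (Ideal.Quotient.mk J) = J := Ideal.mk_ker
        have hqJ : J ≤ q := hJle q h1
        have hpJ : J ≤ p := hJle p h2
        haveI : (q.map (Ideal.Quotient.mk J)).IsPrime :=
          Ideal.map_isPrime_of_surjective Ideal.Quotient.mk_surjective (by rw [hker]; exact hqJ)
        haveI : (p.map (Ideal.Quotient.mk J)).IsPrime :=
          Ideal.map_isPrime_of_surjective Ideal.Quotient.mk_surjective (by rw [hker]; exact hpJ)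
        have hlt : q.map (Ideal.Quotient.mk J) < p.map (Ideal.Quotient.mk J) := by
          refine lt_of_le_of_ne (Ideal.map_mono hqp.le) (fun heq => ?_)
          have h3 := congrArg (Ideal.comap (Ideal.Quotient.mk J)) heq
          rw [Ideal.comap_map_of_surjective _ Ideal.Quotient.mk_surjective,
            Ideal.comap_map_of_surjective _ Ideal.Quotient.mk_surjective,
            ← RingHom.ker_eq_comap_bot, hker, sup_eq_left.mpr hqJ, sup_eq_left.mpr hpJ] at h3
          exact hqp.ne h3
        exact (toNat_trdeg_lt _ _ hlt (zmod_injective ℓ hℓ _) N hNq).1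
      · rw [if_neg h1]
        by_cases h2 : (ℓ : S) ∈ p
        · rw [if_pos h2]
          -- the mixed step: trdeg_{ℤ/ℓ} ((S/J)/p̄) ≤ trdeg_ℤ (S/q)
          haveI : q.IsPrime := hq
          have hqN : Algebra.trdeg ℤ (S ⧸ q) ≤ N :=
            (_root_.trdeg_le_of_surjective (Ideal.Quotient.mkₐ ℤ q)
              (Ideal.Quotient.mkₐ_surjective ℤ q)).trans hN
          have hinjq : Function.Injective (algebraMap ℤ (S ⧸ q)) := by
            apply int_injective_of_no_prime
            intro ℓ' hℓ' hmem'
            have := prime_unique_of_mem (x.last).asIdeal (x.last).2.ne_top ℓ ℓ' hℓ hℓ' hmem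
              (hpl (hqp.le hmem'))
            subst this
            exact h1 hmem'
          haveI : CharZero (S ⧸ q) := ⟨fun a b hab => by
            have h3 : algebraMap ℤ (S ⧸ q) (a : ℤ) = algebraMap ℤ (S ⧸ q) (b : ℤ) := by
              simpa using hab
            exact_mod_cast hinjq h3⟩
          let π : S ⧸ q →+* (S ⧸ J) ⧸ p.map (Ideal.Quotient.mk J) :=
            Ideal.Quotient.lift q ((Ideal.Quotient.mk (p.map (Ideal.Quotient.mk J))).comp
              (Ideal.Quotient.mk J)) (fun a ha => by
                rw [RingHom.comp_apply, Ideal.Quotient.eq_zero_iff_mem]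
                exact Ideal.mem_map_of_mem _ (hqp.le ha))
          have hπ : Function.Surjective π := by
            intro c
            obtain ⟨c', rfl⟩ := Ideal.Quotient.mk_surjective c
            obtain ⟨c'', rfl⟩ := Ideal.Quotient.mk_surjective c'
            exact ⟨Ideal.Quotient.mk q c'', rfl⟩
          have hcmp := trdeg_le_of_surjective_mixed ℓ hℓ.two_le π hπ
          have h4 : Algebra.trdeg ℤ (S ⧸ q) < ℵ₀ := lt_of_le_of_lt hqN Cardinal.natCast_lt_aleph0
          have h5 : (Algebra.trdeg (ℤ ⧸ I) ((S ⧸ J) ⧸ p.map (Ideal.Quotient.mk J))).toNat ≤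
              (Algebra.trdeg ℤ (S ⧸ q)).toNat := Cardinal.toNat_le_toNat hcmp h4
          omega
        · rw [if_neg h2]
          have hinj : Function.Injective (algebraMap ℤ (S ⧸ p)) := by
            apply int_injective_of_no_prime
            intro ℓ' hℓ' hmem'
            have := prime_unique_of_mem (x.last).asIdeal (x.last).2.ne_top ℓ ℓ' hℓ hℓ' hmem
              (hpl hmem')
            subst this
            exact h2 hmem'
          have := (toNat_trdeg_lt q p hqp hinj N hN).1
          omega
    have h := length_le_of_strictAnti x.length (fun j => f (x j).asIdeal) (fun i => by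
      have hlt : (x i.castSucc).asIdeal < (x i.succ).asIdeal := x.step i
      exact hstep _ _ (x i.castSucc).2 (x i.succ).2 hlt (hle _))
    have := hfle (x 0).asIdeal
    omega

end mixed

end Groth.Agent.H47TrdegDim
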