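import Groth.Agent.Lib.DTenBase35
import Groth.Agent.Lib.LBaseChangeKProj

/-!
# Restriction of scalars on derived categories has a left adjoint, and it is `DRing.LBaseChange`
(helper35)

* `isRightAdjoint_restrictD φ`, `hasLBase φ : DTen.HasLBase φ` — unconditionally, for every ring map.
* `nonempty_adjunction φ : Nonempty (DRing.LBaseChange φ ⊣ DRing.restrictD φ)` (S12898).
-/

set_option autoImplicit false
universe u

open CategoryTheory CategoryTheory.Limits Category MonoidalCategory

attribute [local instance] HasDerivedCategory.standard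

namespace Groth.Agent.Lib.LBaseAdj35

open DerivedCategory Groth.Agent.Lib.KFlat35 DTen Groth.Agent.Lib.DTenBase35

variable {R A : Type u} [CommRing R] [CommRing A] (φ : R →+* A)

/-- `QK ⟶ (Q(K ⊗_R A))|_R`, without assuming `HasLBase`. -/
noncomputable def γ' (K : DRing.Cx R) :
    Q.obj K ⟶ (DRing.restrictD φ).obj (Q.obj ((extCx φ).obj K)) :=
  Q.map ((unitCx φ).app K) ≫ (resFactors φ).inv.app ((extCx φ).obj K)

/-- The map `g ↦ γ' ≫ ρ(g)`. -/
noncomputable def Ψ' (K : DRing.Cx R) (Y : Dual.D A) (g : Q.obj ((extCx φ).obj K) ⟶ Y) :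
    Q.obj K ⟶ (DRing.restrictD φ).obj Y :=
  γ' φ K ≫ (DRing.restrictD φ).map g

lemma Ψ'_Q_map (K : DRing.Cx R) (Y₀ : DRing.Cx A) (g₀ : (extCx φ).obj K ⟶ Y₀) :
    Ψ' φ K (Q.obj Y₀) (Q.map g₀) =
      Q.map ((unitCx φ).app K ≫ (resCx φ).map g₀) ≫ (resFactors φ).inv.app Y₀ := by
  have h := (resFactors φ).inv.naturality g₀
  dsimp at h
  dsimp only [Ψ', γ']
  rw [Category.assoc, ← h, ← Category.assoc, ← Functor.map_comp]

lemma Ψ'_bijective_Q (K : DRing.Cx R) [K.IsKProjective] (Y₀ : DRing.Cx A) :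
    Function.Bijective (Ψ' φ K (Q.obj Y₀)) := by
  constructor
  · intro x x' hxx'
    obtain ⟨g₀, rfl⟩ := Groth.Agent.Lib.DCopower.exists_Q_map_eq ((extCx φ).obj K) Y₀ x
    obtain ⟨g₀', rfl⟩ := Groth.Agent.Lib.DCopower.exists_Q_map_eq ((extCx φ).obj K) Y₀ x'
    rw [Ψ'_Q_map, Ψ'_Q_map, cancel_mono] at hxx'
    obtain ⟨H⟩ := Groth.Agent.Lib.DCopower.homotopy_of_Q_map_eq K _ _ _ hxx'
    have H2 := ((ModuleCat.extendScalars.{u, u, u} φ).mapHomotopy H).compRight
      ((counitCx φ).app Y₀)
    exact DerivedCategory.Q_map_eq_of_homotopy _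
      ((Homotopy.ofEq (adj_id₁ φ g₀).symm).trans (H2.trans (Homotopy.ofEq (adj_id₁ φ g₀'))))
  · intro m
    obtain ⟨m₀, hm₀⟩ := Groth.Agent.Lib.DCopower.exists_Q_map_eq K ((resCx φ).obj Y₀)
      (m ≫ (resFactors φ).hom.app Y₀)
    refine ⟨Q.map ((extCx φ).map m₀ ≫ (counitCx φ).app Y₀), ?_⟩
    rw [Ψ'_Q_map, adj_id₂, hm₀, Category.assoc, Iso.hom_inv_id_app]
    exact Category.comp_id m

lemma Ψ'_bijective (K : DRing.Cx R) [K.IsKProjective] (Y : Dual.D A) :
    Function.Bijective (Ψ' φ K Y) := by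
  let e : Q.obj (Q.objPreimage Y) ≅ Y := Q.objObjPreimageIso Y
  have h : Ψ' φ K Y = (fun m => m ≫ (DRing.restrictD φ).map e.hom) ∘
      Ψ' φ K (Q.obj (Q.objPreimage Y)) ∘ (fun x => x ≫ e.inv) := by
    funext x
    dsimp only [Function.comp, Ψ']
    rw [Category.assoc, ← Functor.map_comp, Category.assoc, Iso.inv_hom_id, Category.comp_id]
  rw [h]
  refine Function.Bijective.comp ?_ (Function.Bijective.comp (Ψ'_bijective_Q φ K _) ?_)
  · exact ((Iso.homToEquiv ((DRing.restrictD φ).mapIso e)) ).bijective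
  · exact ((Iso.homToEquiv e.symm)).bijective

/-- A chosen K-projective representative of an object of `D(R)`. -/
noncomputable def rep (E : Dual.D R) : DRing.Cx R := (exists_good' E).choose

instance (E : Dual.D R) : (rep E).IsKProjective := (exists_good' E).choose_spec.1

/-- The identification `Q (rep E) ≅ E`. -/
noncomputable def repIso (E : Dual.D R) : Q.obj (rep E) ≅ E :=
  (exists_good' E).choose_spec.2.2.some

/-- The hom-equivalence defining the left adjoint of restriction. -/
noncomputable def homEquiv (E : Dual.D R) (Y : Dual.D A) :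
    (Q.obj ((extCx φ).obj (rep E)) ⟶ Y) ≃ (E ⟶ (DRing.restrictD φ).obj Y) :=
  (Equiv.ofBijective _ (Ψ'_bijective φ (rep E) Y)).trans (Iso.homFromEquiv (repIso E))

/-- Restriction of scalars `D(A) ⥤ D(R)` has a left adjoint. -/
theorem isRightAdjoint_restrictD : (DRing.restrictD φ).IsRightAdjoint :=
  (Adjunction.adjunctionOfEquivLeft (G := DRing.restrictD φ)
    (F_obj := fun E => Q.obj ((extCx φ).obj (rep E))) (homEquiv φ) (by
      intro E Y Y' g h
      dsimp [homEquiv, Ψ', Iso.homFromEquiv]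
      simp only [Functor.map_comp, Category.assoc])).isRightAdjoint

/-- The binder `DTen.HasLBase φ` holds for every ring map. -/
theorem hasLBase : DTen.HasLBase φ := ⟨isRightAdjoint_restrictD φ⟩

section Adj

open Groth.Agent.Lib.LBaseChangeKProj

attribute [local instance] hasLBase

/-- `baseCmp` transported to the homotopy category (before descending along the quotient). -/
noncomputable def β₀ :
    HomotopyCategory.quotient (ModuleCat.{u} R) (ComplexShape.up ℤ) ⋙ (Qh ⋙ LBase φ) ⟶
      HomotopyCategory.quotient (ModuleCat.{u} R) (ComplexShape.up ℤ) ⋙ DRing.baseChangeKh φ :=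
  (Functor.associator _ _ _).inv ≫
    Functor.whiskerRight (quotientCompQhIso (ModuleCat.{u} R)).hom (LBase φ) ≫ baseCmp φ ≫
    Functor.whiskerLeft (extCx φ) (quotientCompQhIso (ModuleCat.{u} A)).inv ≫
    (Functor.associator _ _ _).inv ≫
    Functor.whiskerRight ((ModuleCat.extendScalars.{u, u, u} φ).mapHomotopyCategoryFactors
      (ComplexShape.up ℤ)).inv Qh ≫ (Functor.associator _ _ _).hom

lemma isIso_β₀_app (P : DRing.Cx R) [P.IsKProjective] : IsIso ((β₀ φ).app P) := by
  haveI := isIso_baseCmp_of_kproj φ P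
  dsimp only [β₀, NatTrans.comp_app, Functor.associator_inv_app, Functor.associator_hom_app,
    Functor.whiskerRight_app, Functor.whiskerLeft_app]
  infer_instance

/-- `baseCmp` as a natural transformation of functors on the homotopy category. -/
noncomputable def β : Qh ⋙ LBase φ ⟶ DRing.baseChangeKh φ :=
  CategoryTheory.Quotient.natTransLift _ (β₀ φ)

variable [DRing.HasLBaseChange φ]

/-- The comparison from the left adjoint of restriction to the abstract derived base change. -/
noncomputable def τ : LBase φ ⟶ DRing.LBaseChange φ :=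
  (DRing.LBaseChange φ).leftDerivedLift (counit (ModuleCat.extendScalars.{u, u, u} φ))
    (HomotopyCategory.quasiIso (ModuleCat.{u} R) (ComplexShape.up ℤ)) (LBase φ) (β φ)

lemma τ_fac (X : HomotopyCategory (ModuleCat.{u} R) (ComplexShape.up ℤ)) :
    (τ φ).app (Qh.obj X) ≫ (counit (ModuleCat.extendScalars.{u, u, u} φ)).app X = (β φ).app X :=
  (DRing.LBaseChange φ).leftDerived_fac_app (counit (ModuleCat.extendScalars.{u, u, u} φ))
    (HomotopyCategory.quasiIso (ModuleCat.{u} R) (ComplexShape.up ℤ)) (LBase φ) (β φ) X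

lemma isIso_τ_app_of_kproj (P : DRing.Cx R) [P.IsKProjective] :
    IsIso ((τ φ).app (Qh.obj ((HomotopyCategory.quotient _ _).obj P))) := by
  have fac := τ_fac φ ((HomotopyCategory.quotient _ _).obj P)
  haveI := isIso_counit_app (ModuleCat.extendScalars.{u, u, u} φ) P
    (hasKProjRep_Q ((extCx φ).obj P))
  haveI : IsIso ((β φ).app ((HomotopyCategory.quotient _ _).obj P)) := isIso_β₀_app φ P
  exact IsIso.of_isIso_fac_right fac

instance isIso_τ : IsIso (τ φ) := by
  haveI : ∀ E, IsIso ((τ φ).app E) := by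
    intro E
    obtain ⟨P, hP, -, ⟨e⟩⟩ := exists_good' E
    haveI := hP
    rw [← NatTrans.isIso_app_iff_of_iso (τ φ)
      ((quotientCompQhIso (ModuleCat.{u} R)).app P ≪≫ e)]
    exact isIso_τ_app_of_kproj φ P
  exact NatIso.isIso_of_isIso_app _

/-- Derived base change is left adjoint to restriction of scalars (S12898). -/
theorem nonempty_adjunction : Nonempty (DRing.LBaseChange φ ⊣ DRing.restrictD φ) :=
  ⟨(baseAdj φ).ofNatIsoLeft (asIso (τ φ))⟩

end Adj

end Groth.Agent.Lib.LBaseAdj35
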