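import Mathlib
import Groth.Agent.Lib.LBaseAdj35
import Groth.Agent.Lib.H47TorCrit
import Groth.Agent.Lib.H47TorAR
import Groth.Agent.Lib.TorLES
import Groth.Prelude.Def_TrivBC

/-!
# Tor-independent base change for derived categories of rings (S13563)

For a cocartesian square `R → A`, `R → R'`, `A' = A ⊗_R R'` with `Tor_p^R(A, R') = 0` (`p ≥ 1`), the
comparison `(K|_R) ⊗^L_R R' ⟶ (K ⊗^L_A A')|_{R'}` (`TrivBC.cmp`, for ARBITRARY adjunction data) is an
isomorphism.

* `cAdj`, `isIso_cAdj`: for any left adjoint `F` of restriction, `F(QP) ≅ Q(P ⊗_R A)` for `P` K-projective.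
* `commCx`, `resComm_app_Q`: `TrivBC.resComm` on classes of complexes.
* `θCx`, `cmp_formula`: `cmp` on `Q E` is conjugate to `Q` of a chain map `θ : P ⊗_R R' ⟶ (E ⊗_A A')|_{R'}`.
* `θM_bijective`, `isIso_θCx_id`: the pushout hypothesis.
* `quasiIso_map_of_rightExact`, `quasiIso_GM_map_π'`: Tor-independence as a quasi-isomorphism.
* `resExtIso`, `acyclic_extCx_of_tensor`: `(X ⊗_R S)|_R ≅ S[0] ⊗ X`.
* `quasiIso_extCx_map_of_torIndep`: `- ⊗_R R'` preserves the quasi-isomorphism `P ⟶ E|_R`.
-/

set_option autoImplicit false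
set_option backward.isDefEq.respectTransparency.types false
universe u
open CategoryTheory CategoryTheory.Limits MonoidalCategory DerivedCategory
attribute [local instance] HasDerivedCategory.standard
open ChangeOfRings TensorProduct
open Groth.Agent.Lib.KFlat35 (IsKFlat)
open Groth.Agent.Lib.HomTensor25 (sg GM)
open DTen (extCx resCx unitCx resFactors)
open Groth.Agent.Lib.LBaseAdj35 (γ' Ψ' Ψ'_bijective)
open Groth.Agent.Lib.DTenBase35 (counitCx adj_id₂)

namespace Groth.Agent.Lib.H47TrivBC

section Universal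

variable {R A : Type u} [CommRing R] [CommRing A] (φ : R →+* A)
  {F : Dual.D R ⥤ Dual.D A} (adj : F ⊣ DRing.restrictD φ)

/-- The comparison `F(QP) ⟶ Q(P ⊗_R A)` for an arbitrary left adjoint `F` of restriction. -/
noncomputable def cAdj (P : DRing.Cx R) : F.obj (Q.obj P) ⟶ Q.obj ((extCx φ).obj P) :=
  (adj.homEquiv _ _).symm (γ' φ P)

lemma unit_cAdj (P : DRing.Cx R) :
    adj.unit.app (Q.obj P) ≫ (DRing.restrictD φ).map (cAdj φ adj P) = γ' φ P := by
  have h := (adj.homEquiv (Q.obj P) (Q.obj ((extCx φ).obj P))).apply_symm_apply (γ' φ P)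
  rw [Adjunction.homEquiv_unit] at h
  exact h

lemma homEquiv_symm_γ'_comp (P : DRing.Cx R) {Y : Dual.D A} (g : Q.obj ((extCx φ).obj P) ⟶ Y) :
    (adj.homEquiv _ _).symm (γ' φ P ≫ (DRing.restrictD φ).map g) = cAdj φ adj P ≫ g := by
  rw [Adjunction.homEquiv_naturality_right_symm]
  rfl

instance isIso_cAdj (P : DRing.Cx R) [P.IsKProjective] : IsIso (cAdj φ adj P) := by
  obtain ⟨d, hd⟩ := (Ψ'_bijective φ P (F.obj (Q.obj P))).surjective (adj.unit.app (Q.obj P))
  change γ' φ P ≫ (DRing.restrictD φ).map d = _ at hd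
  refine ⟨d, ?_, ?_⟩
  · apply (adj.homEquiv _ _).injective
    rw [Adjunction.homEquiv_unit, Adjunction.homEquiv_unit, Functor.map_comp, ← Category.assoc,
      unit_cAdj, hd, CategoryTheory.Functor.map_id]
    exact (Category.comp_id _).symm
  · apply (Ψ'_bijective φ P _).injective
    change γ' φ P ≫ (DRing.restrictD φ).map (d ≫ cAdj φ adj P) =
      γ' φ P ≫ (DRing.restrictD φ).map (𝟙 _)
    rw [Functor.map_comp, ← Category.assoc, hd, unit_cAdj, CategoryTheory.Functor.map_id,
      Category.comp_id]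

end Universal

section Square

variable {R A R' A' : Type u} [CommRing R] [CommRing A] [CommRing R'] [CommRing A']
  {φ : R →+* A} {ρ : R →+* R'} {α : A →+* A'} {φ' : R' →+* A'}

/-- the chain-level commutation of restrictions -/
noncomputable def commCx (h : α.comp φ = φ'.comp ρ) (X : DRing.Cx A') :
    (resCx φ).obj ((resCx α).obj X) ≅ (resCx ρ).obj ((resCx φ').obj X) :=
  ((Functor.mapHomologicalComplexCompIso (TrivBC.resCommMod h) (ComplexShape.up ℤ)) ≪≫
    (Functor.mapHomologicalComplexCompIso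
      (Iso.refl (ModuleCat.restrictScalars.{u} φ' ⋙ ModuleCat.restrictScalars.{u} ρ))
      (ComplexShape.up ℤ)).symm).app X

lemma resCommCx_app (h : α.comp φ = φ'.comp ρ) (X : DRing.Cx A') :
    (TrivBC.resCommCx h).hom.app X = Q.map (commCx h X).hom := by
  simp [TrivBC.resCommCx, commCx]

lemma liftingRes₂_hom_app {B C E : Type u} [CommRing B] [CommRing C] [CommRing E] (g : C →+* E)
    (f : B →+* C) (X : DRing.Cx E) :
    (TrivBC.liftingRes₂ g f).iso.hom.app X =
      (DRing.restrictD f).map ((resFactors g).hom.app X) ≫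
        (resFactors f).hom.app ((resCx g).obj X) := by
  unfold TrivBC.liftingRes₂
  simp

lemma liftingRes₂_inv_app {B C E : Type u} [CommRing B] [CommRing C] [CommRing E] (g : C →+* E)
    (f : B →+* C) (X : DRing.Cx E) :
    (TrivBC.liftingRes₂ g f).iso.inv.app X =
      (resFactors f).inv.app ((resCx g).obj X) ≫
        (DRing.restrictD f).map ((resFactors g).inv.app X) := by
  unfold TrivBC.liftingRes₂
  simp

lemma resComm_app_Q (h : α.comp φ = φ'.comp ρ) (X : DRing.Cx A') :
    (TrivBC.resComm h).hom.app (Q.obj X) =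
      ((DRing.restrictD φ).map ((resFactors α).hom.app X) ≫
        (resFactors φ).hom.app ((resCx α).obj X)) ≫ Q.map (commCx h X).hom ≫
      ((resFactors ρ).inv.app ((resCx φ').obj X) ≫
        (DRing.restrictD ρ).map ((resFactors φ').inv.app X)) := by
  unfold TrivBC.resComm
  rw [Localization.liftNatIso_hom, Localization.liftNatTrans_app, resCommCx_app]
  erw [liftingRes₂_hom_app, liftingRes₂_inv_app]

variable [DRing.HasLBaseChange ρ] [DRing.HasLBaseChange α]
  (adjρ : DRing.LBaseChange ρ ⊣ DRing.restrictD ρ) (adjα : DRing.LBaseChange α ⊣ DRing.restrictD α)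
  (h : α.comp φ = φ'.comp ρ)

/-- the chain map `P ⟶ ((E ⊗_A A')|_{R'})|_R` -/
noncomputable def mCx (E : DRing.Cx A) {P : DRing.Cx R} (s : P ⟶ (resCx φ).obj E) :
    P ⟶ (resCx ρ).obj ((resCx φ').obj ((extCx α).obj E)) :=
  s ≫ (resCx φ).map ((unitCx α).app E) ≫ (commCx h ((extCx α).obj E)).hom

/-- the chain map `P ⊗_R R' ⟶ (E ⊗_A A')|_{R'}` -/
noncomputable def θCx (E : DRing.Cx A) {P : DRing.Cx R} (s : P ⟶ (resCx φ).obj E) :
    (extCx ρ).obj P ⟶ (resCx φ').obj ((extCx α).obj E) :=
  (extCx ρ).map (mCx h E s) ≫ (counitCx ρ).app _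

lemma unit_θCx (E : DRing.Cx A) {P : DRing.Cx R} (s : P ⟶ (resCx φ).obj E) :
    (unitCx ρ).app P ≫ (resCx ρ).map (θCx h E s) = mCx h E s :=
  adj_id₂ ρ (mCx h E s)

omit [DRing.HasLBaseChange ρ] [DRing.HasLBaseChange α] in
lemma θCx_eq (E : DRing.Cx A) {P : DRing.Cx R} (s : P ⟶ (resCx φ).obj E) :
    θCx h E s = (extCx ρ).map s ≫ θCx h E (𝟙 ((resCx φ).obj E)) := by
  unfold θCx mCx
  rw [Category.id_comp, Functor.map_comp, Category.assoc]

theorem cmp_formula (K : Dual.D A) (E : DRing.Cx A) (e : Q.obj E ≅ K) {P : DRing.Cx R}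
    (s : P ⟶ (resCx φ).obj E) :
    (DRing.LBaseChange ρ).map
        (Q.map s ≫ (resFactors φ).inv.app E ≫ (DRing.restrictD φ).map e.hom) ≫
      TrivBC.cmp adjρ adjα h K ≫
        (DRing.restrictD φ').map ((adjα.homEquiv K (Q.obj ((extCx α).obj E))).symm
          (e.inv ≫ γ' α E)) =
    cAdj ρ adjρ P ≫ Q.map (θCx h E s) ≫ (resFactors φ').inv.app ((extCx α).obj E) := by
  set cα := (adjα.homEquiv K (Q.obj ((extCx α).obj E))).symm (e.inv ≫ γ' α E) with hcα
  have hunit : adjα.unit.app K ≫ (DRing.restrictD α).map cα = e.inv ≫ γ' α E := by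
    have h1 := (adjα.homEquiv K (Q.obj ((extCx α).obj E))).apply_symm_apply (e.inv ≫ γ' α E)
    rw [Adjunction.homEquiv_unit] at h1
    exact h1
  rw [← homEquiv_symm_γ'_comp]
  unfold TrivBC.cmp
  rw [← Adjunction.homEquiv_naturality_right_symm, ← Adjunction.homEquiv_naturality_left_symm]
  congr 1
  -- the identity in `D(R)`
  have nat := (TrivBC.resComm h).hom.naturality cα
  simp only [Functor.comp_map] at nat
  rw [Category.assoc, Category.assoc, Category.assoc, ← nat, ← Category.assoc
    ((DRing.restrictD φ).map (adjα.unit.app K)), ← Functor.map_comp, hunit, Functor.map_comp,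
    Category.assoc, resComm_app_Q]
  have hL1 : (DRing.restrictD φ).map e.hom ≫ (DRing.restrictD φ).map e.inv = 𝟙 _ := by
    rw [← Functor.map_comp, e.hom_inv_id, CategoryTheory.Functor.map_id]
  have hL2 : (DRing.restrictD φ).map (γ' α E) ≫
      (DRing.restrictD φ).map ((resFactors α).hom.app ((extCx α).obj E)) =
      (DRing.restrictD φ).map (Q.map ((unitCx α).app E)) := by
    rw [← Functor.map_comp]
    congr 1
    unfold Groth.Agent.Lib.LBaseAdj35.γ'
    rw [Category.assoc, Iso.inv_hom_id_app]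
    exact Category.comp_id _
  have hL3 : (resFactors φ).inv.app E ≫ (DRing.restrictD φ).map (Q.map ((unitCx α).app E)) ≫
      (resFactors φ).hom.app ((resCx α).obj ((extCx α).obj E)) =
      Q.map ((resCx φ).map ((unitCx α).app E)) := by
    have n1 := (resFactors φ).hom.naturality ((unitCx α).app E)
    simp only [Functor.comp_map, Functor.comp_obj, Functor.id_obj] at n1
    rw [n1, ← Category.assoc, Iso.inv_hom_id_app]
    exact Category.id_comp _
  have hR1 : (resFactors ρ).inv.app ((extCx ρ).obj P) ≫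
      (DRing.restrictD ρ).map (Q.map (θCx h E s)) =
      Q.map ((resCx ρ).map (θCx h E s)) ≫
        (resFactors ρ).inv.app ((resCx φ').obj ((extCx α).obj E)) := by
    have n2 := (resFactors ρ).inv.naturality (θCx h E s)
    simp only [Functor.comp_map, Functor.comp_obj] at n2
    exact n2.symm
  have hR2 : Q.map ((unitCx ρ).app P) ≫ Q.map ((resCx ρ).map (θCx h E s)) =
      Q.map s ≫ Q.map ((resCx φ).map ((unitCx α).app E)) ≫
        Q.map (commCx h ((extCx α).obj E)).hom := by
    rw [← Functor.map_comp, unit_θCx, mCx, Functor.map_comp, Functor.map_comp]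
  -- assemble
  unfold Groth.Agent.Lib.LBaseAdj35.γ' at ⊢
  simp only [Category.assoc, Functor.map_comp]
  rw [reassoc_of% hL1]
  have hL2' := hL2
  unfold Groth.Agent.Lib.LBaseAdj35.γ' at hL2'
  simp only [Category.assoc, Functor.map_comp] at hL2'
  rw [reassoc_of% hL2', reassoc_of% hL3, reassoc_of% hR1, reassoc_of% hR2]

end Square

section Pushout

variable (R A R' A' : Type u) [CommRing R] [CommRing A] [CommRing R'] [CommRing A']
    [Algebra R A] [Algebra R R'] [Algebra A A'] [Algebra R' A'] [Algebra R A']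
    [IsScalarTower R A A'] [IsScalarTower R R' A'] [Algebra.IsPushout R A R' A']

/-- the module-level map `R' ⊗_R M ⟶ (A' ⊗_A M)|_{R'}` -/
noncomputable def θM (h : (algebraMap A A').comp (algebraMap R A) =
      (algebraMap R' A').comp (algebraMap R R')) (M : ModuleCat.{u} A) :
    (ModuleCat.extendScalars.{u, u, u} (algebraMap R R')).obj
        ((ModuleCat.restrictScalars.{u} (algebraMap R A)).obj M) ⟶
      (ModuleCat.restrictScalars.{u} (algebraMap R' A')).obj
        ((ModuleCat.extendScalars.{u, u, u} (algebraMap A A')).obj M) :=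
  (ModuleCat.extendScalars.{u, u, u} (algebraMap R R')).map
      ((ModuleCat.restrictScalars.{u} (algebraMap R A)).map
          ((ModuleCat.extendRestrictScalarsAdj.{u, u, u} (algebraMap A A')).unit.app M) ≫
        (TrivBC.resCommMod h).hom.app _) ≫
    (ModuleCat.extendRestrictScalarsAdj.{u, u, u} (algebraMap R R')).counit.app _

lemma θM_tmul (h : (algebraMap A A').comp (algebraMap R A) =
      (algebraMap R' A').comp (algebraMap R R')) (M : ModuleCat.{u} A) (s : R') (x : M) :
    (θM R A R' A' h M).hom (s ⊗ₜ[R,algebraMap R R'] x) =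
      (algebraMap R' A' s) ⊗ₜ[A,algebraMap A A'] x := by
  unfold θM
  rw [ModuleCat.hom_comp, LinearMap.comp_apply]
  erw [ModuleCat.ExtendScalars.map_tmul]
  have key := ModuleCat.ExtendScalars.smul_tmul (f := algebraMap A A') (M := M)
    (algebraMap R' A' s) 1 x
  rw [mul_one] at key
  exact key

open Groth.Agent.Lib.FlatBaseChangeD (objEquiv restrictEquiv) in
lemma θM_bijective (h : (algebraMap A A').comp (algebraMap R A) =
      (algebraMap R' A').comp (algebraMap R R')) (M : ModuleCat.{u} A) :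
    Function.Bijective (θM R A R' A' h M).hom := by
  letI : Module R M := ((ModuleCat.restrictScalars.{u} (algebraMap R A)).obj M).isModule
  haveI : IsScalarTower R A M := IsScalarTower.of_algebraMap_smul (fun r m => rfl)
  haveI : Algebra.IsPushout R R' A A' := Algebra.IsPushout.symm inferInstance
  obtain ⟨e₁, he₁⟩ : ∃ e₁ : ((ModuleCat.extendScalars.{u, u, u} (algebraMap R R')).obj
      ((ModuleCat.restrictScalars.{u} (algebraMap R A)).obj M)) ≃ₗ[R'] R' ⊗[R] M,
      ∀ (s : R') (x : M), e₁ (s ⊗ₜ[R,algebraMap R R'] x) = s ⊗ₜ[R] x :=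
    ⟨objEquiv (A := R) (B := R') ((ModuleCat.restrictScalars.{u} (algebraMap R A)).obj M),
      fun s x => rfl⟩
  obtain ⟨e₂, he₂⟩ : ∃ e₂ : ((ModuleCat.extendScalars.{u, u, u} (algebraMap A A')).obj M) ≃ₗ[A']
      A' ⊗[A] M, ∀ (s : A') (x : M), e₂ (s ⊗ₜ[A,algebraMap A A'] x) = s ⊗ₜ[A] x :=
    ⟨objEquiv (A := A) (B := A') M, fun s x => rfl⟩
  obtain ⟨f, hf⟩ : ∃ f : R' ⊗[R] M ≃ₗ[R'] A' ⊗[A] M,
      ∀ (s : R') (x : M), f (s ⊗ₜ[R] x) = algebraMap R' A' s ⊗ₜ[A] x :=
    ⟨(Algebra.IsPushout.cancelBaseChange R R' A A' M).symm,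
      fun s x => Algebra.IsPushout.cancelBaseChange_symm_tmul R R' A A' M s x⟩
  have key : ∀ z, e₂ ((θM R A R' A' h M).hom z) = f (e₁ z) := by
    intro z
    induction z using TensorProduct.induction_on with
    | zero =>
      exact (congrArg e₂ (map_zero (θM R A R' A' h M).hom)).trans
        ((map_zero e₂).trans ((congrArg f (map_zero e₁)).trans (map_zero f)).symm)
    | tmul s x =>
      have h1 := θM_tmul R A R' A' h M s x
      have h2 := he₂ (algebraMap R' A' s) x
      have h3 := he₁ s x
      have h4 := hf s x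
      exact (congrArg e₂ h1).trans (h2.trans ((congrArg f h3).trans h4).symm)
    | add x y hx hy =>
      exact (congrArg e₂ (map_add (θM R A R' A' h M).hom x y)).trans
        ((map_add e₂ _ _).trans ((congrArg₂ (· + ·) hx hy).trans
          ((congrArg f (map_add e₁ x y)).trans (map_add f _ _)).symm))
  have hfun : ⇑(θM R A R' A' h M).hom = ⇑e₂.symm ∘ ⇑f ∘ ⇑e₁ := by
    funext z
    simp only [Function.comp]
    rw [← key z, LinearEquiv.symm_apply_apply]
  rw [hfun]
  exact e₂.symm.bijective.comp (f.bijective.comp e₁.bijective)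

end Pushout

section ThetaIso

variable (R A R' A' : Type u) [CommRing R] [CommRing A] [CommRing R'] [CommRing A']
    [Algebra R A] [Algebra R R'] [Algebra A A'] [Algebra R' A'] [Algebra R A']
    [IsScalarTower R A A'] [IsScalarTower R R' A'] [Algebra.IsPushout R A R' A']
    (h : (algebraMap A A').comp (algebraMap R A) = (algebraMap R' A').comp (algebraMap R R'))

lemma θCx_id_f (E : DRing.Cx A) (n : ℤ) :
    (θCx h E (𝟙 ((resCx (algebraMap R A)).obj E))).f n = θM R A R' A' h (E.X n) := by
  simp [θCx, mCx, commCx, θM, counitCx]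
  erw [CategoryTheory.Functor.map_id, Category.id_comp]
  rfl

instance isIso_θCx_id (E : DRing.Cx A) :
    IsIso (θCx h E (𝟙 ((resCx (algebraMap R A)).obj E))) := by
  haveI : ∀ n : ℤ, IsIso ((θCx h E (𝟙 ((resCx (algebraMap R A)).obj E))).f n) := by
    intro n
    rw [θCx_id_f]
    exact (ConcreteCategory.isIso_iff_bijective _).2 (θM_bijective R A R' A' h (E.X n))
  exact HomologicalComplex.Hom.isIso_of_components _

end ThetaIso


section RightExact

variable {R S : Type u} [CommRing R] [CommRing S]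
  (G : ModuleCat.{u} R ⥤ ModuleCat.{u} S) [G.Additive] [PreservesFiniteColimits G]

/-- A right exact functor preserves a quasi-isomorphism `F ⟶ N[0]` from a complex in degrees `≤ 0`
as soon as the image of `F` has no cohomology in negative degrees. -/
theorem quasiIso_map_of_rightExact {F : DRing.Cx R} (hF : ∀ i : ℤ, 0 < i → IsZero (F.X i))
    (N : ModuleCat.{u} R) (π : F ⟶ sg N) [QuasiIso π]
    (hneg : ∀ i : ℤ, i < 0 →
      IsZero (((G.mapHomologicalComplex (ComplexShape.up ℤ)).obj F).homology i)) :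
    QuasiIso ((G.mapHomologicalComplex (ComplexShape.up ℤ)).map π) := by
  rw [quasiIso_iff]
  intro i
  have hsg : ∀ j : ℤ, j ≠ 0 → IsZero (((G.mapHomologicalComplex (ComplexShape.up ℤ)).obj (sg N)).X j) :=
    fun j hj => G.map_isZero (HomologicalComplex.isZero_single_obj_X (ComplexShape.up ℤ) 0 N j hj)
  have hsgH : ∀ j : ℤ, j ≠ 0 →
      IsZero (((G.mapHomologicalComplex (ComplexShape.up ℤ)).obj (sg N)).homology j) := by
    intro j hj
    rw [← HomologicalComplex.exactAt_iff_isZero_homology]
    exact ShortComplex.exact_of_isZero_X₂ _ (hsg j hj)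
  rcases lt_trichotomy i 0 with hi | hi | hi
  · rw [quasiIsoAt_iff_isIso_homologyMap]
    exact ⟨0, (hneg i hi).eq_of_src _ _, (hsgH i hi.ne).eq_of_src _ _⟩
  · subst hi
    have hF1 : IsZero (F.X 1) := hF 1 (by norm_num)
    have hsN : ∀ j : ℤ, j ≠ 0 → IsZero ((sg N).X j) := fun j hj =>
      HomologicalComplex.isZero_single_obj_X (ComplexShape.up ℤ) 0 N j hj
    -- exactness upstairs
    have hπ : QuasiIsoAt π 0 := (quasiIso_iff π).1 inferInstance 0
    rw [quasiIsoAt_iff' π (-1) 0 1 (by simp) (by simp),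
      ShortComplex.quasiIso_iff_of_zeros' _ (hF1.eq_of_tgt _ _) ((hsN (-1) (by norm_num)).eq_of_src _ _)
        ((hsN 1 (by norm_num)).eq_of_tgt _ _)] at hπ
    obtain ⟨hex, hepi⟩ := hπ
    rw [quasiIsoAt_iff' _ (-1) 0 1 (by simp) (by simp),
      ShortComplex.quasiIso_iff_of_zeros' _ ((G.map_isZero hF1).eq_of_tgt _ _)
        ((hsg (-1) (by norm_num)).eq_of_src _ _) ((hsg 1 (by norm_num)).eq_of_tgt _ _)]
    haveI := hepi
    constructor
    · exact hex.map_of_epi_of_preservesCokernel G hepi inferInstance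
    · haveI : G.PreservesEpimorphisms :=
        CategoryTheory.preservesEpimorphisms_of_preservesColimitsOfShape G
      haveI : Epi (π.f 0) := hepi
      exact G.map_epi (π.f 0)
  · rw [quasiIsoAt_iff_isIso_homologyMap]
    have hz : IsZero (((G.mapHomologicalComplex (ComplexShape.up ℤ)).obj F).homology i) := by
      rw [← HomologicalComplex.exactAt_iff_isZero_homology]
      exact ShortComplex.exact_of_isZero_X₂ _ (G.map_isZero (hF i hi))
    exact ⟨0, hz.eq_of_src _ _, (hsgH i hi.ne').eq_of_src _ _⟩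

end RightExact

section TorBridge

variable {R : Type u} [CommRing R]

open Groth.Agent.Lib.H47TorAR (phi) in
/-- Tor vanishing gives vanishing of the negative cohomology of `M ⊗ P` for a projective
resolution `P`. -/
lemma isZero_homology_GM_of_tor {N : ModuleCat.{u} R} (Pr : ProjectiveResolution N)
    (M : ModuleCat.{u} R)
    (htor : ∀ p : ℕ, 1 ≤ p → IsZero (((Tor (ModuleCat.{u} R) p).obj M).obj N)) (i : ℤ) (hi : i < 0) :
    IsZero (((GM M).obj Pr.cochainComplex).homology i) := by
  obtain ⟨p, rfl⟩ : ∃ p : ℕ, i = -(p : ℤ) := ⟨(-i).toNat, by omega⟩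
  have hp : 1 ≤ p := by omega
  have hp' : ComplexShape.embeddingDownNat.f p = -(p : ℤ) := rfl
  have e1 := Groth.Agent.Lib.TorLES.torIso Pr M p
  have e2 := HomologicalComplex.extendHomologyIso
    ((Groth.Agent.Lib.TorLES.tensorCx Pr.complex).obj M) ComplexShape.embeddingDownNat hp'
  have e3 := (HomologicalComplex.homologyFunctor _ _ (-(p : ℤ))).mapIso (phi Pr.complex M)
  exact (htor p hp).of_iso (e3.symm ≪≫ e2 ≪≫ e1.symm)

instance (M : ModuleCat.{u} R) : PreservesFiniteColimits (tensorLeft M) := inferInstance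

/-- Tor independence: `M ⊗ -` preserves the augmentation quasi-isomorphism of a projective resolution. -/
theorem quasiIso_GM_map_π' {N : ModuleCat.{u} R} (Pr : ProjectiveResolution N)
    (M : ModuleCat.{u} R)
    (htor : ∀ p : ℕ, 1 ≤ p → IsZero (((Tor (ModuleCat.{u} R) p).obj M).obj N)) :
    QuasiIso ((GM M).map Pr.π') := by
  have h0 : QuasiIso Pr.π' := inferInstance
  exact @quasiIso_map_of_rightExact _ _ _ _ (tensorLeft M) _ _ _
    (fun i hi => Pr.cochainComplex.isZero_of_isStrictlyLE 0 i hi) N Pr.π' h0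
    (isZero_homology_GM_of_tor Pr M htor)

end TorBridge

section ExtAcyclic

variable {R S : Type u} [CommRing R] [CommRing S] [Algebra R S]

/-- `S` as a complex of `R`-modules in degree `0`, in the two guises. -/
noncomputable def unitResIso :
    (resCx (algebraMap R S)).obj (𝟙_ (DRing.Cx S)) ≅ sg (ModuleCat.of R S) :=
  (HomologicalComplex.singleMapHomologicalComplex (ModuleCat.restrictScalars.{u} (algebraMap R S))
      (ComplexShape.up ℤ) 0).app (𝟙_ (ModuleCat.{u} S)) ≪≫
    (HomologicalComplex.single (ModuleCat.{u} R) (ComplexShape.up ℤ) 0).mapIso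
      (Groth.Agent.Lib.FlatBaseChangeD.restrictEquiv (A := R) (B := S)).toModuleIso

/-- `(X ⊗_R S)|_R ≅ S[0] ⊗_R X`. -/
noncomputable def resExtIso (X : DRing.Cx R) :
    (resCx (algebraMap R S)).obj ((extCx (algebraMap R S)).obj X) ≅ sg (ModuleCat.of R S) ⊗ X :=
  (resCx (algebraMap R S)).mapIso (λ_ ((extCx (algebraMap R S)).obj X)).symm ≪≫
    (Groth.Agent.Lib.ProjFormula35.pfIso (algebraMap R S) (𝟙_ (DRing.Cx S)) X).symm ≪≫
    whiskerRightIso (unitResIso (R := R) (S := S)) X

lemma acyclic_extCx_of_tensor (X : DRing.Cx R)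
    (h : (sg (ModuleCat.of R S) ⊗ X).Acyclic) : ((extCx (algebraMap R S)).obj X).Acyclic :=
  Groth.Agent.Lib.ProjFormula35.acyclic_of_resCx (algebraMap R S) _
    (Groth.Agent.Lib.KFlat35.acyclic_of_iso (resExtIso (S := S) X).symm h)

end ExtAcyclic

section Step3

open Groth.Agent.Lib.KFlat35 Groth.Agent.Lib.ConeQuasiIso

variable {R A R' : Type u} [CommRing R] [CommRing A] [CommRing R'] [Algebra R A] [Algebra R R']

lemma acyclic_resCx {S : Type u} [CommRing S] (ψ : R →+* S) (Z : DRing.Cx S) (h : Z.Acyclic) :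
    ((resCx ψ).obj Z).Acyclic := by
  rw [acyclic_iff_isZero_homology] at h ⊢
  intro i
  exact (Groth.Agent.Lib.H47TorCrit.isZero_homology_resCx_iff ψ Z i).2 (h i)

theorem quasiIso_extCx_map_of_torIndep
    (htor : ∀ p : ℕ, 1 ≤ p →
      IsZero (((Tor (ModuleCat.{u} R) p).obj (ModuleCat.of R A)).obj (ModuleCat.of R R')))
    (E : DRing.Cx A) (hE : IsKFlat E) {P : DRing.Cx R} (hP : IsKFlat P)
    (s : P ⟶ (resCx (algebraMap R A)).obj E) [QuasiIso s] :
    QuasiIso ((extCx (algebraMap R R')).map s) := by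
  let Pr : ProjectiveResolution (ModuleCat.of R R') := projectiveResolution _
  let F : DRing.Cx R := Pr.cochainComplex
  let π : F ⟶ sg (ModuleCat.of R R') := Pr.π'
  haveI hπ : QuasiIso π := inferInstanceAs (QuasiIso Pr.π')
  have hF : IsKFlat F := by
    refine Groth.Agent.Lib.TorAmpKFlat35.isKFlat_of_flat_of_bddAbove F (fun i => ?_) 0
      (fun i hi => Pr.cochainComplex.isZero_of_isStrictlyLE 0 i hi)
    haveI : Projective (F.X i) := inferInstanceAs (Projective (Pr.cochainComplex.X i))
    haveI : Module.Projective R (F.X i) := (IsProjective.iff_projective (F.X i)).2 inferInstance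
    infer_instance
  have hT : QuasiIso ((GM (ModuleCat.of R A)).map π) := quasiIso_GM_map_π' Pr _ htor
  -- the cone of `π`
  have hCπ : (CochainComplex.mappingCone π).Acyclic :=
    (quasiIso_iff_acyclic_mappingCone π).1 hπ
  have hA : (sg (ModuleCat.of R A) ⊗ CochainComplex.mappingCone π).Acyclic := by
    have h1 : (CochainComplex.mappingCone ((GM (ModuleCat.of R A)).map π)).Acyclic :=
      (quasiIso_iff_acyclic_mappingCone _).1 hT
    have h2 : ((GM (ModuleCat.of R A)).obj (CochainComplex.mappingCone π)).Acyclic :=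
      acyclic_of_iso (CochainComplex.mappingCone.mapHomologicalComplexIso π
        (tensorLeft (ModuleCat.of R A))).symm h1
    exact acyclic_of_iso
      (Groth.Agent.Lib.HomTensor25.tensorSingleIso (ModuleCat.of R A) _) h2
  have hext : ((extCx (algebraMap R A)).obj (CochainComplex.mappingCone π)).Acyclic :=
    acyclic_extCx_of_tensor (S := A) _ hA
  have hEC : ((resCx (algebraMap R A)).obj E ⊗ CochainComplex.mappingCone π).Acyclic := by
    have h1 : ((extCx (algebraMap R A)).obj (CochainComplex.mappingCone π) ⊗ E).Acyclic :=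
      hE _ hext
    have h2 : (E ⊗ (extCx (algebraMap R A)).obj (CochainComplex.mappingCone π)).Acyclic :=
      acyclic_of_iso (DTen.braidCx _ _) h1
    exact acyclic_of_iso
      (Groth.Agent.Lib.ProjFormula35.pfIso (algebraMap R A) E _).symm
      (acyclic_resCx _ _ h2)
  have hPC : (P ⊗ CochainComplex.mappingCone π).Acyclic :=
    acyclic_of_iso (DTen.braidCx _ _) (hP _ hCπ)
  -- the cone of `s`
  have hs1 : QuasiIso (HomologicalComplex.tensorHom s (𝟙 (CochainComplex.mappingCone π))) :=
    Groth.Agent.Lib.ConeAcyclic66.quasiIso_of_acyclic _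
      ((acyclic_iff_isZero_homology _).1 hPC) ((acyclic_iff_isZero_homology _).1 hEC)
  have hs2 : (CochainComplex.mappingCone s ⊗ CochainComplex.mappingCone π).Acyclic :=
    (acyclic_tensorObj_cone_iff_left s _).2 hs1
  haveI hs3 : QuasiIso (HomologicalComplex.tensorHom (𝟙 (CochainComplex.mappingCone s)) π) :=
    (acyclic_tensorObj_cone_iff_right _ π).1 hs2
  have hCs : (CochainComplex.mappingCone s).Acyclic :=
    (quasiIso_iff_acyclic_mappingCone s).1 inferInstance
  have hs4 : (CochainComplex.mappingCone s ⊗ F).Acyclic := hF _ hCs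
  have hs5 : (CochainComplex.mappingCone s ⊗ sg (ModuleCat.of R R')).Acyclic :=
    acyclic_of_quasiIso (HomologicalComplex.tensorHom (𝟙 (CochainComplex.mappingCone s)) π) hs4
  have hs6 : (sg (ModuleCat.of R R') ⊗ CochainComplex.mappingCone s).Acyclic :=
    acyclic_of_iso (DTen.braidCx _ _) hs5
  have hs7 : ((extCx (algebraMap R R')).obj (CochainComplex.mappingCone s)).Acyclic :=
    acyclic_extCx_of_tensor (S := R') _ hs6
  rw [quasiIso_iff_acyclic_mappingCone]
  exact acyclic_of_iso (CochainComplex.mappingCone.mapHomologicalComplexIso s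
    (ModuleCat.extendScalars.{u, u, u} (algebraMap R R'))) hs7

end Step3

section Main

variable (R A R' A' : Type u) [CommRing R] [CommRing A] [CommRing R'] [CommRing A']
    [Algebra R A] [Algebra R R'] [Algebra A A'] [Algebra R' A'] [Algebra R A']
    [IsScalarTower R A A'] [IsScalarTower R R' A'] [Algebra.IsPushout R A R' A']

theorem main (htor : ∀ p : ℕ, 1 ≤ p → Subsingleton (DRing.Tor R p A R'))
    [DRing.HasLBaseChange (algebraMap R R')] [DRing.HasLBaseChange (algebraMap A A')]
    (adjρ : DRing.LBaseChange (algebraMap R R') ⊣ DRing.restrictD (algebraMap R R'))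
    (adjα : DRing.LBaseChange (algebraMap A A') ⊣ DRing.restrictD (algebraMap A A'))
    (h : (algebraMap A A').comp (algebraMap R A) = (algebraMap R' A').comp (algebraMap R R'))
    (K : Dual.D A) : IsIso (TrivBC.cmp adjρ adjα h K) := by
  obtain ⟨E, r, hE, hEf, -, hr, -⟩ :=
    Groth.Agent.Lib.SemiFreeKProj35.exists_kprojective_resolution (Q.objPreimage K)
  haveI := hE
  haveI := hr
  let e : Q.obj E ≅ K := asIso (Q.map r) ≪≫ Q.objObjPreimageIso K
  obtain ⟨P, s, hP, hPf, -, hs, -⟩ :=
    Groth.Agent.Lib.SemiFreeKProj35.exists_kprojective_resolution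
      ((resCx (algebraMap R A)).obj E)
  haveI := hP
  haveI := hs
  have htor' : ∀ p : ℕ, 1 ≤ p →
      IsZero (((Tor (ModuleCat.{u} R) p).obj (ModuleCat.of R A)).obj (ModuleCat.of R R')) :=
    fun p hp => by
      haveI := htor p hp
      exact ModuleCat.isZero_of_subsingleton _
  haveI hq : QuasiIso ((extCx (algebraMap R R')).map s) :=
    quasiIso_extCx_map_of_torIndep htor' E hEf hPf s
  haveI hθ : QuasiIso (θCx h E s) := by
    rw [θCx_eq]
    infer_instance
  have formula := cmp_formula adjρ adjα h K E e s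
  haveI : IsIso (Q.map s) := by
    rw [DerivedCategory.isIso_Q_map_iff_quasiIso]; exact hs
  haveI : IsIso (Q.map (θCx h E s)) := by
    rw [DerivedCategory.isIso_Q_map_iff_quasiIso]; exact hθ
  -- the comparison for `α`
  have hcα : (adjα.homEquiv K (Q.obj ((extCx (algebraMap A A')).obj E))).symm
      (e.inv ≫ γ' (algebraMap A A') E) =
      (DRing.LBaseChange (algebraMap A A')).map e.inv ≫ cAdj (algebraMap A A') adjα E := by
    rw [Adjunction.homEquiv_naturality_left_symm]
    rfl
  haveI : IsIso ((adjα.homEquiv K (Q.obj ((extCx (algebraMap A A')).obj E))).symm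
      (e.inv ≫ γ' (algebraMap A A') E)) := by
    rw [hcα]; infer_instance
  haveI i1 : IsIso ((DRing.LBaseChange (algebraMap R R')).map
      (Q.map s ≫ (resFactors (algebraMap R A)).inv.app E ≫
        (DRing.restrictD (algebraMap R A)).map e.hom) ≫
      TrivBC.cmp adjρ adjα h K ≫
        (DRing.restrictD (algebraMap R' A')).map
          ((adjα.homEquiv K (Q.obj ((extCx (algebraMap A A')).obj E))).symm
            (e.inv ≫ γ' (algebraMap A A') E))) := by
    rw [formula]; infer_instance
  haveI i2 : IsIso (TrivBC.cmp adjρ adjα h K ≫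
        (DRing.restrictD (algebraMap R' A')).map
          ((adjα.homEquiv K (Q.obj ((extCx (algebraMap A A')).obj E))).symm
            (e.inv ≫ γ' (algebraMap A A') E))) :=
    IsIso.of_isIso_comp_left ((DRing.LBaseChange (algebraMap R R')).map
      (Q.map s ≫ (resFactors (algebraMap R A)).inv.app E ≫
        (DRing.restrictD (algebraMap R A)).map e.hom)) _
  exact IsIso.of_isIso_comp_right _ ((DRing.restrictD (algebraMap R' A')).map
    ((adjα.homEquiv K (Q.obj ((extCx (algebraMap A A')).obj E))).symm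
      (e.inv ≫ γ' (algebraMap A A') E)))

end Main

end Groth.Agent.Lib.H47TrivBC
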