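import Mathlib
import Groth.Agent.Lib.FlatBaseChangeD

/-!
# Trivial complexes and isomorphisms in `D(R)` of bounded complexes of projectives (helper47)

* `nonempty_iso`: a termwise split short exact sequence of complexes `0 → M → Y → Q → 0` with `Q`
  contractible splits: `M ⊞ Q ≅ Y`.
* `nonempty_cone_iso`: for `α : M ⟶ N` with contractible cone, `M ⊞ cone(α) ≅ N ⊞ cone(𝟙 M)`.
* `exists_map_contractible`: an iso in `D` between K-projective complexes comes from a chain map with
  contractible cone.
* `exists_free_away_finset`: finitely many f.g. projective modules become free on a common `D(g) ∋ p`.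
* `rangeEquiv`: range of a flat base change of a linear map.
* `main` = S12098.
-/

set_option autoImplicit false
set_option backward.isDefEq.respectTransparency.types false
open CategoryTheory CategoryTheory.Limits TensorProduct CochainComplex HomComplex
open Groth.Agent.Lib.FlatBaseChangeD

namespace Groth.Agent.Lib.H47TrivCx
universe v u

section Part1
variable {C : Type u} [Category.{v} C] [Preadditive C]

section splitting
variable {M Y Q : CochainComplex C ℤ} (ι : M ⟶ Y) (p : Y ⟶ Q)
  (r : ∀ i, Y.X i ⟶ M.X i) (s : ∀ i, Q.X i ⟶ Y.X i)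
  (h : Homotopy (𝟙 Q) 0)

/-- chain-level section built from termwise section and contraction -/
noncomputable def sec : Q ⟶ Y where
  f i := h.hom i (i - 1) ≫ s (i - 1) ≫ Y.d (i - 1) i + Q.d i (i + 1) ≫ h.hom (i + 1) i ≫ s i
  comm' i j hij := by
    obtain rfl : i + 1 = j := hij
    simp only [Preadditive.add_comp, Preadditive.comp_add, Category.assoc, HomologicalComplex.d_comp_d,
      comp_zero, zero_add, HomologicalComplex.d_comp_d_assoc, zero_comp, add_zero]
    have key : ∀ j (_ : j = i), h.hom (i + 1) j ≫ s j ≫ Y.d j (i + 1) =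
        h.hom (i + 1) i ≫ s i ≫ Y.d i (i + 1) := by rintro j rfl; rfl
    rw [key (i + 1 - 1) (by omega)]

lemma hom_comm (i : ℤ) : Q.d i (i + 1) ≫ h.hom (i + 1) i + h.hom i (i - 1) ≫ Q.d (i - 1) i = 𝟙 (Q.X i) := by
  have := h.comm i
  rw [dNext_eq _ (show (ComplexShape.up ℤ).Rel i (i + 1) from rfl),
    prevD_eq _ (show (ComplexShape.up ℤ).Rel (i - 1) i by simp)] at this
  simpa using this.symm

lemma sec_comp (hs : ∀ i, s i ≫ p.f i = 𝟙 _) : sec s h ≫ p = 𝟙 Q := by
  ext i
  simp only [sec, HomologicalComplex.comp_f, Preadditive.add_comp, Category.assoc, HomologicalComplex.id_f]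
  rw [hs, ← p.comm, reassoc_of% (hs (i - 1)), Category.comp_id, add_comm]
  exact hom_comm h i

lemma ι_comp_p (hr : ∀ i, ι.f i ≫ r i = 𝟙 _) (hs : ∀ i, s i ≫ p.f i = 𝟙 _)
    (hrs : ∀ i, r i ≫ ι.f i + p.f i ≫ s i = 𝟙 _) : ι ≫ p = 0 := by
  ext i
  have h1 : ι.f i ≫ p.f i ≫ s i = 0 := by
    have := congrArg (fun t => ι.f i ≫ t) (hrs i)
    simp only [Preadditive.comp_add, reassoc_of% (hr i), Category.comp_id] at this
    simpa using this
  have := congrArg (fun t => t ≫ p.f i) h1
  simpa [hs] using this

/-- the termwise retraction corrected by the chain section -/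
noncomputable def retF (i : ℤ) : Y.X i ⟶ M.X i := r i - p.f i ≫ (sec s h).f i ≫ r i

lemma ι_retF (hr : ∀ i, ι.f i ≫ r i = 𝟙 _) (hs : ∀ i, s i ≫ p.f i = 𝟙 _)
    (hrs : ∀ i, r i ≫ ι.f i + p.f i ≫ s i = 𝟙 _) (i : ℤ) : ι.f i ≫ retF p r s h i = 𝟙 _ := by
  have h0 := congrArg (fun t => t.f i) (ι_comp_p ι p r s hr hs hrs)
  simp only [HomologicalComplex.comp_f, HomologicalComplex.zero_f] at h0
  simp [retF, Preadditive.comp_sub, hr, reassoc_of% h0]

lemma retF_ι (hs : ∀ i, s i ≫ p.f i = 𝟙 _)
    (hrs : ∀ i, r i ≫ ι.f i + p.f i ≫ s i = 𝟙 _) (i : ℤ) :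
    retF p r s h i ≫ ι.f i + p.f i ≫ (sec s h).f i = 𝟙 _ := by
  have h1 := congrArg (fun t => t.f i) (sec_comp p s h hs)
  simp only [HomologicalComplex.comp_f, HomologicalComplex.id_f] at h1
  have h2 : r i ≫ ι.f i = 𝟙 _ - p.f i ≫ s i := eq_sub_of_add_eq (hrs i)
  simp only [retF, Preadditive.sub_comp, Category.assoc, h2, Preadditive.comp_sub, Category.comp_id,
    reassoc_of% h1]
  abel

lemma sec_retF (hs : ∀ i, s i ≫ p.f i = 𝟙 _) (i : ℤ) : (sec s h).f i ≫ retF p r s h i = 0 := by
  have h1 := congrArg (fun t => t.f i) (sec_comp p s h hs)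
  simp only [HomologicalComplex.comp_f, HomologicalComplex.id_f] at h1
  simp [retF, Preadditive.comp_sub, reassoc_of% h1]

/-- chain-level retraction -/
noncomputable def ret (hr : ∀ i, ι.f i ≫ r i = 𝟙 _) (hs : ∀ i, s i ≫ p.f i = 𝟙 _)
    (hrs : ∀ i, r i ≫ ι.f i + p.f i ≫ s i = 𝟙 _) : Y ⟶ M where
  f i := retF p r s h i
  comm' i j hij := by
    obtain rfl : i + 1 = j := hij
    have hmono : ∀ {Z : C} (a b : Z ⟶ M.X (i + 1)), a ≫ ι.f (i + 1) = b ≫ ι.f (i + 1) → a = b := by
      intro Z a b hab
      have := congrArg (fun t => t ≫ r (i + 1)) hab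
      simpa [hr] using this
    apply hmono
    have e1 : retF p r s h i ≫ ι.f i = 𝟙 _ - p.f i ≫ (sec s h).f i :=
      eq_sub_of_add_eq (retF_ι ι p r s h hs hrs i)
    have e2 : retF p r s h (i + 1) ≫ ι.f (i + 1) = 𝟙 _ - p.f (i + 1) ≫ (sec s h).f (i + 1) :=
      eq_sub_of_add_eq (retF_ι ι p r s h hs hrs (i + 1))
    rw [Category.assoc, Category.assoc, e2, ← ι.comm, reassoc_of% e1]
    simp [Preadditive.sub_comp, Preadditive.comp_sub]

include h in
theorem nonempty_iso [HasBinaryBiproducts C] (hr : ∀ i, ι.f i ≫ r i = 𝟙 _) (hs : ∀ i, s i ≫ p.f i = 𝟙 _)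
    (hrs : ∀ i, r i ≫ ι.f i + p.f i ≫ s i = 𝟙 _) : Nonempty (M ⊞ Q ≅ Y) := by
  refine ⟨⟨biprod.desc ι (sec s h), biprod.lift (ret ι p r s h hr hs hrs) p, ?_, ?_⟩⟩
  · apply biprod.hom_ext <;> apply biprod.hom_ext'
    · simp only [Category.assoc, biprod.lift_fst, biprod.inl_desc_assoc, Category.id_comp, biprod.inl_fst]
      ext i; exact ι_retF ι p r s h hr hs hrs i
    · simp only [Category.assoc, biprod.lift_fst, biprod.inr_desc_assoc, Category.id_comp, biprod.inr_fst]
      ext i; exact sec_retF p r s h hs i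
    · simp only [Category.assoc, biprod.lift_snd, biprod.inl_desc_assoc, Category.id_comp, biprod.inl_snd]
      exact ι_comp_p ι p r s hr hs hrs
    · simp only [Category.assoc, biprod.lift_snd, biprod.inr_desc_assoc, Category.id_comp, biprod.inr_snd]
      exact sec_comp p s h hs
  · rw [biprod.lift_desc]
    ext i
    exact retF_ι ι p r s h hs hrs i

end splitting


end Part1

section Part2
variable {C : Type u} [Category.{v} C] [Preadditive C] [HasBinaryBiproducts C]

section cone
variable {M N : CochainComplex C ℤ} (α : M ⟶ N)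

/-- `M → N ⊞ cone(𝟙 M)` -/
noncomputable def ιC : M ⟶ N ⊞ mappingCone (𝟙 M) := biprod.lift α (mappingCone.inr (𝟙 M))

/-- cone(𝟙 M) → cone(α) -/
noncomputable def mapC : mappingCone (𝟙 M) ⟶ mappingCone α :=
  mappingCone.map (𝟙 M) α (𝟙 M) α (by simp)

/-- `N ⊞ cone(𝟙 M) → cone(α)` -/
noncomputable def pC : N ⊞ mappingCone (𝟙 M) ⟶ mappingCone α :=
  biprod.desc (mappingCone.inr α) (- mapC α)

variable (M N) in
noncomputable def rC (i : ℤ) : (N ⊞ mappingCone (𝟙 M)).X i ⟶ M.X i :=
  (biprod.snd : N ⊞ mappingCone (𝟙 M) ⟶ _).f i ≫ (mappingCone.snd (𝟙 M)).v i i (add_zero i)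

noncomputable def sC (i : ℤ) : (mappingCone α).X i ⟶ (N ⊞ mappingCone (𝟙 M)).X i :=
  (mappingCone.snd α).v i i (add_zero i) ≫ (biprod.inl : N ⟶ N ⊞ mappingCone (𝟙 M)).f i -
    (mappingCone.fst α).1.v i (i + 1) rfl ≫ (mappingCone.inl (𝟙 M)).v (i + 1) i (by omega) ≫
      (biprod.inr : mappingCone (𝟙 M) ⟶ N ⊞ mappingCone (𝟙 M)).f i

@[reassoc]
lemma inl_mapC (i j : ℤ) (hij : i + (-1) = j) :
    (mappingCone.inl (𝟙 M)).v i j hij ≫ (mapC α).f j = (mappingCone.inl α).v i j hij := by
  simp [mapC, mappingCone.map]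

@[reassoc]
lemma inr_mapC (i : ℤ) :
    (mappingCone.inr (𝟙 M)).f i ≫ (mapC α).f i = α.f i ≫ (mappingCone.inr α).f i := by
  simp [mapC, mappingCone.map]

lemma hrC (i : ℤ) : (ιC α).f i ≫ rC M N i = 𝟙 _ := by
  simp only [rC, ιC, ← HomologicalComplex.comp_f_assoc, biprod.lift_snd]
  simp

lemma hsC (i : ℤ) : sC α i ≫ (pC α).f i = 𝟙 _ := by
  simp only [sC, pC, Preadditive.sub_comp, Category.assoc, ← HomologicalComplex.comp_f, biprod.inl_desc,
    biprod.inr_desc]
  simp only [HomologicalComplex.neg_f_apply, Preadditive.comp_neg, sub_neg_eq_add, inl_mapC]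
  rw [add_comm]
  exact mappingCone.id_X α i (i + 1) rfl

end cone


end Part2

section Part3
variable {C : Type u} [Category.{v} C] [Preadditive C] [HasBinaryBiproducts C]
variable {M N : CochainComplex C ℤ} (α : M ⟶ N)

lemma biprod_hom_ext_f {K L : CochainComplex C ℤ} (i : ℤ) {Z : C} (f g : (K ⊞ L).X i ⟶ Z)
    (h1 : (biprod.inl : K ⟶ K ⊞ L).f i ≫ f = (biprod.inl : K ⟶ K ⊞ L).f i ≫ g)
    (h2 : (biprod.inr : L ⟶ K ⊞ L).f i ≫ f = (biprod.inr : L ⟶ K ⊞ L).f i ≫ g) : f = g := by
  have tot : (biprod.fst : K ⊞ L ⟶ K).f i ≫ (biprod.inl : K ⟶ K ⊞ L).f i +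
      (biprod.snd : K ⊞ L ⟶ L).f i ≫ (biprod.inr : L ⟶ K ⊞ L).f i = 𝟙 _ := by
    rw [← HomologicalComplex.comp_f, ← HomologicalComplex.comp_f, ← HomologicalComplex.add_f_apply,
      biprod.total, HomologicalComplex.id_f]
  rw [← Category.id_comp f, ← Category.id_comp g, ← tot]
  simp only [Preadditive.add_comp, Category.assoc, h1, h2]

lemma hrsC (i : ℤ) : rC M N i ≫ (ιC α).f i + (pC α).f i ≫ sC α i = 𝟙 _ := by
  apply biprod_hom_ext_f
  · simp only [Preadditive.comp_add, Category.comp_id]
    have e1 : (biprod.inl : N ⟶ N ⊞ mappingCone (𝟙 M)).f i ≫ rC M N i = 0 := by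
      simp only [rC, ← HomologicalComplex.comp_f_assoc, biprod.inl_snd]
      simp
    have e2 : (biprod.inl : N ⟶ N ⊞ mappingCone (𝟙 M)).f i ≫ (pC α).f i = (mappingCone.inr α).f i := by
      simp only [pC, ← HomologicalComplex.comp_f, biprod.inl_desc]
    rw [reassoc_of% e1, reassoc_of% e2, zero_comp, zero_add]
    simp [sC, Preadditive.comp_sub]
  · simp only [Preadditive.comp_add, Category.comp_id]
    have e1 : (biprod.inr : mappingCone (𝟙 M) ⟶ N ⊞ mappingCone (𝟙 M)).f i ≫ rC M N i =
        (mappingCone.snd (𝟙 M)).v i i (add_zero i) := by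
      simp only [rC, ← HomologicalComplex.comp_f_assoc, biprod.inr_snd]
      simp
    have e2 : (biprod.inr : mappingCone (𝟙 M) ⟶ N ⊞ mappingCone (𝟙 M)).f i ≫ (pC α).f i =
        - (mapC α).f i := by
      simp only [pC, ← HomologicalComplex.comp_f, biprod.inr_desc]
      simp
    rw [reassoc_of% e1, reassoc_of% e2]
    rw [mappingCone.ext_from_iff _ (i + 1) i rfl]
    constructor
    · simp only [Preadditive.comp_add, mappingCone.inl_v_snd_v_assoc, zero_comp, zero_add,
        Preadditive.neg_comp, Preadditive.comp_neg, inl_mapC_assoc]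
      simp [sC, Preadditive.comp_sub]
    · simp only [Preadditive.comp_add, mappingCone.inr_f_snd_v_assoc,
        Preadditive.neg_comp, Preadditive.comp_neg, inr_mapC_assoc]
      simp only [sC, Preadditive.comp_sub, mappingCone.inr_f_snd_v_assoc, mappingCone.inr_f_fst_v_assoc,
        zero_comp, sub_zero]
      simp only [ιC]
      have : (biprod.lift α (mappingCone.inr (𝟙 M))) =
          α ≫ (biprod.inl : N ⟶ N ⊞ mappingCone (𝟙 M)) + mappingCone.inr (𝟙 M) ≫ biprod.inr := by
        apply biprod.hom_ext <;> simp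
      rw [this]
      simp

theorem nonempty_cone_iso (h : Homotopy (𝟙 (mappingCone α)) 0) :
    Nonempty (M ⊞ mappingCone α ≅ N ⊞ mappingCone (𝟙 M)) :=
  nonempty_iso (ιC α) (pC α) (rC M N) (sC α) h (hrC α) (hsC α) (hrsC α)


end Part3

section Part4

section derived
variable {C : Type u} [Category.{v} C] [Abelian C] [HasDerivedCategory C]

theorem exists_map_contractible (M N : CochainComplex C ℤ) [M.IsKProjective] [N.IsKProjective]
    (e : DerivedCategory.Q.obj M ≅ DerivedCategory.Q.obj N) :
    ∃ α : M ⟶ N, Nonempty (Homotopy (𝟙 (mappingCone α)) 0) := by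
  obtain ⟨f', hf'⟩ := (CochainComplex.IsKProjective.Qh_map_bijective M
    ((HomotopyCategory.quotient _ _).obj N)).surjective
    ((DerivedCategory.quotientCompQhIso C).hom.app M ≫ e.hom ≫
      (DerivedCategory.quotientCompQhIso C).inv.app N)
  obtain ⟨g', hg'⟩ := (CochainComplex.IsKProjective.Qh_map_bijective N
    ((HomotopyCategory.quotient _ _).obj M)).surjective
    ((DerivedCategory.quotientCompQhIso C).hom.app N ≫ e.inv ≫
      (DerivedCategory.quotientCompQhIso C).inv.app M)
  have h1 : f' ≫ g' = 𝟙 _ :=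
    (CochainComplex.IsKProjective.Qh_map_bijective M _).injective (by simp [hf', hg'])
  have h2 : g' ≫ f' = 𝟙 _ :=
    (CochainComplex.IsKProjective.Qh_map_bijective N _).injective (by simp [hf', hg'])
  obtain ⟨α, rfl⟩ := (HomotopyCategory.quotient _ _).map_surjective f'
  refine ⟨α, ?_⟩
  have hiso : IsIso ((HomotopyCategory.quotient C (ComplexShape.up ℤ)).map α) := ⟨g', h1, h2⟩
  have hT := HomotopyCategory.mappingCone_triangleh_distinguished α
  have hz := Pretriangulated.Triangle.isZero₃_of_isIso₁ _ hT hiso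
  exact (HomotopyCategory.isZero_quotient_obj_iff _).1 hz

end derived

end Part4

section Part5
variable {R : Type u} [CommRing R]

/-- freeness after inverting `g` persists after inverting `g * g'`. -/
lemma free_away_mul (P : Type u) [AddCommGroup P] [Module R P] (g g' : R)
    (h : Module.Free (Localization.Away g) (Localization.Away g ⊗[R] P)) :
    Module.Free (Localization.Away (g * g')) (Localization.Away (g * g') ⊗[R] P) := by
  have hu : IsUnit (algebraMap R (Localization.Away (g * g')) g) := by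
    have := IsLocalization.Away.algebraMap_isUnit (S := Localization.Away (g * g')) (g * g')
    rw [map_mul] at this
    exact isUnit_of_mul_isUnit_left this
  let : Algebra (Localization.Away g) (Localization.Away (g * g')) :=
    (IsLocalization.Away.lift g hu).toAlgebra
  have : IsScalarTower R (Localization.Away g) (Localization.Away (g * g')) :=
    IsScalarTower.of_algebraMap_eq (fun x => by
      change _ = (IsLocalization.Away.lift g hu) (algebraMap R _ x)
      rw [IsLocalization.Away.lift_eq])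
  exact Module.Free.of_equiv
    (TensorProduct.AlgebraTensorModule.cancelBaseChange R (Localization.Away g)
      (Localization.Away (g * g')) (Localization.Away (g * g')) P)

lemma exists_free_away (p : Ideal R) [p.IsPrime] (P : Type u) [AddCommGroup P] [Module R P]
    [Module.Finite R P] [Module.Projective R P] :
    ∃ g : R, g ∉ p ∧ Module.Free (Localization.Away g) (Localization.Away g ⊗[R] P) := by
  have : Module.FinitePresentation R P := Module.finitePresentation_of_projective R P
  have : Module.Free (Localization.AtPrime p) (LocalizedModule p.primeCompl P) :=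
    Module.free_of_flat_of_isLocalRing
  obtain ⟨r, hr, hfree, -⟩ := Module.FinitePresentation.exists_free_localizedModule_powers
    p.primeCompl (LocalizedModule.mkLinearMap p.primeCompl P) (Localization.AtPrime p)
  refine ⟨r, hr, ?_⟩
  have hb := IsLocalizedModule.isBaseChange (Submonoid.powers r) (Localization.Away r)
    (LocalizedModule.mkLinearMap (Submonoid.powers r) P)
  exact Module.Free.of_equiv hb.equiv.symm

lemma exists_free_away_finset (p : Ideal R) [p.IsPrime] {ι : Type*} (s : Finset ι)
    (P : ι → Type u) [∀ j, AddCommGroup (P j)] [∀ j, Module R (P j)]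
    (hP : ∀ j ∈ s, Module.Finite R (P j) ∧ Module.Projective R (P j)) :
    ∃ g : R, g ∉ p ∧ ∀ j ∈ s, Module.Free (Localization.Away g) (Localization.Away g ⊗[R] P j) := by
  classical
  induction s using Finset.induction_on with
  | empty => exact ⟨1, fun h => (Ideal.IsPrime.ne_top ‹_›) ((Ideal.eq_top_iff_one _).2 h), by simp⟩
  | insert a s ha ih =>
    obtain ⟨g, hg, hgs⟩ := ih (fun j hj => hP j (Finset.mem_insert_of_mem hj))
    obtain ⟨h1, h2⟩ := hP a (Finset.mem_insert_self a s)
    obtain ⟨g', hg', hfree⟩ := exists_free_away p (P a)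
    refine ⟨g * g', fun hmem => ?_, ?_⟩
    · rcases Ideal.IsPrime.mem_or_mem ‹_› hmem with h | h
      · exact hg h
      · exact hg' h
    · intro j hj
      rcases Finset.mem_insert.1 hj with rfl | hj
      · have := free_away_mul (P j) g' g hfree
        rwa [mul_comm] at this
      · exact free_away_mul (P j) g g' (hgs j hj)


end Part5

section Part6
variable {R : Type u} [CommRing R]

section bc
variable (S : Type u) [CommRing S] [Algebra R S]

noncomputable def objIso' (X : ModuleCat.{u} R) :
    (F R S).obj X ≅ ModuleCat.of S (S ⊗[R] X) := (objEquiv (B := S) X).toModuleIso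

lemma objEquiv_naturality_hom {X Y : ModuleCat.{u} R} (g : X ⟶ Y) :
    (F R S).map g ≫ (objIso' S Y).hom =
      (objIso' S X).hom ≫ ModuleCat.ofHom (g.hom.baseChange S) := by
  apply ModuleCat.ExtendScalars.hom_ext
  intro m
  rfl

lemma objEquiv_naturality {X Y : ModuleCat.{u} R} (g : X ⟶ Y) (x : (F R S).obj X) :
    objEquiv (B := S) Y (((F R S).map g).hom x) = (g.hom.baseChange S) (objEquiv (B := S) X x) :=
  congrArg (fun t => t.hom x) (objEquiv_naturality_hom S g)

/-- the range of the base-changed map is the base change of the range (flat case). -/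
noncomputable def rangeEquiv [Module.Flat R S] {X Y : ModuleCat.{u} R} (g : X ⟶ Y) :
    LinearMap.range ((F R S).map g).hom ≃ₗ[S] S ⊗[R] LinearMap.range g.hom := by
  -- step 1 : transport along objEquiv
  let eX := objEquiv (B := S) X
  let eY := objEquiv (B := S) Y
  have h1 : (LinearMap.range ((F R S).map g).hom).map (eY : _ →ₗ[S] _) =
      LinearMap.range (g.hom.baseChange S) := by
    ext z
    constructor
    · rintro ⟨_, ⟨x, rfl⟩, rfl⟩
      exact ⟨eX x, (objEquiv_naturality S g x).symm⟩
    · rintro ⟨w, rfl⟩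
      refine ⟨_, ⟨eX.symm w, rfl⟩, ?_⟩
      have := objEquiv_naturality S g (eX.symm w)
      simpa [eX] using this
  -- step 2 : range of baseChange
  have h2 : LinearMap.range (g.hom.baseChange S) =
      LinearMap.range ((LinearMap.range g.hom).subtype.baseChange S) := by
    have hcomp : g.hom = (LinearMap.range g.hom).subtype ∘ₗ g.hom.rangeRestrict := by
      ext x; rfl
    conv_lhs => rw [hcomp, LinearMap.baseChange_comp]
    rw [LinearMap.range_comp]
    have hsurj : Function.Surjective (g.hom.rangeRestrict.baseChange S) := by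
      rw [LinearMap.baseChange_eq_ltensor]
      exact LinearMap.lTensor_surjective _ (LinearMap.surjective_rangeRestrict _)
    rw [LinearMap.range_eq_top.2 hsurj, Submodule.map_top]
  have hinj : Function.Injective ((LinearMap.range g.hom).subtype.baseChange S) := by
    rw [LinearMap.baseChange_eq_ltensor]
    exact Module.Flat.lTensor_preserves_injective_linearMap _ Subtype.val_injective
  exact (eY.submoduleMap _) ≪≫ₗ LinearEquiv.ofEq _ _ (h1.trans h2) ≪≫ₗ
    (LinearEquiv.ofInjective _ hinj).symm

end bc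

end Part6

section Part7
variable {R : Type u} [CommRing R]

section contr
variable (E : DRing.Cx R) (h : Homotopy (𝟙 E) 0)

/-- retraction of a term onto the boundaries, from a contraction. -/
noncomputable def bdRetr (i : ℤ) : E.X (i + 1) →ₗ[R] LinearMap.range (E.d i (i + 1)).hom :=
  (E.d i (i + 1)).hom.rangeRestrict ∘ₗ (h.hom (i + 1) i).hom

lemma bdRetr_comp (i : ℤ) :
    bdRetr E h i ∘ₗ (LinearMap.range (E.d i (i + 1)).hom).subtype = LinearMap.id := by
  ext ⟨y, x, rfl⟩
  have hc := h.comm (i + 1)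
  rw [dNext_eq _ (show (ComplexShape.up ℤ).Rel (i + 1) (i + 1 + 1) from rfl),
    prevD_eq _ (show (ComplexShape.up ℤ).Rel i (i + 1) from rfl)] at hc
  have := congrArg (fun t => t.hom ((E.d i (i + 1)).hom x)) hc
  simp only [HomologicalComplex.id_f, ModuleCat.hom_id, LinearMap.id_coe, id_eq,
    HomologicalComplex.zero_f, add_zero, ModuleCat.hom_add, ModuleCat.hom_comp, LinearMap.add_apply,
    LinearMap.coe_comp, Function.comp_apply] at this
  have hdd : (E.d (i + 1) (i + 1 + 1)).hom ((E.d i (i + 1)).hom x) = 0 := by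
    have := congrArg (fun t => t.hom x) (E.d_comp_d i (i + 1) (i + 1 + 1))
    exact this
  rw [hdd, map_zero, zero_add] at this
  simp only [bdRetr, LinearMap.coe_comp, Submodule.coe_subtype, Function.comp_apply, LinearMap.id_coe,
    id_eq]
  exact this.symm

include h in
lemma finite_projective_boundaries (hE : ∀ i, Module.Finite R (E.X i) ∧ Module.Projective R (E.X i))
    (i : ℤ) : Module.Finite R (LinearMap.range (E.d i (i + 1)).hom) ∧
      Module.Projective R (LinearMap.range (E.d i (i + 1)).hom) := by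
  obtain ⟨h1, h2⟩ := hE (i + 1)
  have hsurj : Function.Surjective (bdRetr E h i) := fun b =>
    ⟨b.1, LinearMap.congr_fun (bdRetr_comp E h i) b⟩
  exact ⟨Module.Finite.of_surjective _ hsurj,
    Module.Projective.of_split _ _ (bdRetr_comp E h i)⟩

end contr


end Part7


section PartG

variable {R : Type u} [CommRing R]

section coneTerms
variable {M N : DRing.Cx R} (α : M ⟶ N)

/-- terms of the mapping cone as a product -/
noncomputable def coneEquiv (i : ℤ) : (mappingCone α).X i ≃ₗ[R] (M.X (i + 1) × N.X i) where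
  toFun x := (((mappingCone.fst α).1.v i (i + 1) rfl).hom x, ((mappingCone.snd α).v i i (add_zero i)).hom x)
  map_add' x y := by simp
  map_smul' r x := by simp
  invFun y := ((mappingCone.inl α).v (i + 1) i (by omega)).hom y.1 + ((mappingCone.inr α).f i).hom y.2
  left_inv x := by
    have := congrArg (fun t => t.hom x) (mappingCone.id_X α i (i + 1) rfl)
    simpa using this
  right_inv y := by
    obtain ⟨y1, y2⟩ := y
    have e1 := congrArg (fun t => t.hom y1) (mappingCone.inl_v_fst_v α (i + 1) i (by omega))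
    have e2 := congrArg (fun t => t.hom y1) (mappingCone.inl_v_snd_v α (i + 1) i (by omega))
    have e3 := congrArg (fun t => t.hom y2) (mappingCone.inr_f_fst_v α i (i + 1) rfl)
    have e4 := congrArg (fun t => t.hom y2) (mappingCone.inr_f_snd_v α i)
    simp only [ModuleCat.hom_comp, LinearMap.coe_comp, Function.comp_apply, ModuleCat.hom_id,
      LinearMap.id_coe, id_eq, ModuleCat.hom_zero, LinearMap.zero_apply] at e1 e2 e3 e4
    simp [e1, e2, e3, e4]

lemma cone_finite_projective
    (hM : ∀ i, Module.Finite R (M.X i) ∧ Module.Projective R (M.X i))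
    (hN : ∀ i, Module.Finite R (N.X i) ∧ Module.Projective R (N.X i)) (i : ℤ) :
    Module.Finite R ((mappingCone α).X i) ∧ Module.Projective R ((mappingCone α).X i) := by
  obtain ⟨h1, h2⟩ := hM (i + 1)
  obtain ⟨h3, h4⟩ := hN i
  exact ⟨Module.Finite.equiv (coneEquiv α i).symm, Module.Projective.of_equiv (coneEquiv α i).symm⟩

lemma cone_vanishesOutside {a b : ℤ} (hM : DRing.VanishesOutside M a b)
    (hN : DRing.VanishesOutside N a b) : DRing.VanishesOutside (mappingCone α) (a - 1) b := by
  intro i hi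
  rw [mappingCone.isZero_X_iff]
  exact ⟨hM _ (by omega), hN _ (by omega)⟩

end coneTerms

end PartG

section PartH

variable {R : Type u} [CommRing R]

section good
variable (E : DRing.Cx R)

/-- all terms and boundaries of `E` become free after inverting `g`. -/
def Good (g : R) : Prop :=
  ∀ i : ℤ, Module.Free (Localization.Away g) (Localization.Away g ⊗[R] E.X i) ∧
    Module.Free (Localization.Away g)
      (Localization.Away g ⊗[R] LinearMap.range (E.d i (i + 1)).hom)

variable {E}

lemma Good.mul {g : R} (h : Good E g) (g' : R) : Good E (g * g') := fun i =>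
  ⟨free_away_mul _ g g' (h i).1, free_away_mul _ g g' (h i).2⟩

lemma Good.mul' {g : R} (h : Good E g) (g' : R) : Good E (g' * g) := by
  rw [mul_comm]; exact h.mul g'

lemma exists_good (p : Ideal R) [p.IsPrime] (h : Homotopy (𝟙 E) 0) {a b : ℤ}
    (hv : DRing.VanishesOutside E a b)
    (hE : ∀ i, Module.Finite R (E.X i) ∧ Module.Projective R (E.X i)) :
    ∃ g : R, g ∉ p ∧ Good E g := by
  obtain ⟨g1, hg1, H1⟩ := exists_free_away_finset p (Finset.Icc (a - 1) b) (fun i : ℤ => E.X i)
    (fun i _ => hE i)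
  obtain ⟨g2, hg2, H2⟩ := exists_free_away_finset p (Finset.Icc (a - 1) b)
    (fun i : ℤ => LinearMap.range (E.d i (i + 1)).hom)
    (fun i _ => finite_projective_boundaries E h hE i)
  refine ⟨g1 * g2, fun hmem => ?_, fun i => ?_⟩
  · rcases Ideal.IsPrime.mem_or_mem ‹_› hmem with h' | h'
    · exact hg1 h'
    · exact hg2 h'
  · by_cases hi : i ∈ Finset.Icc (a - 1) b
    · exact ⟨free_away_mul _ g1 g2 (H1 i hi), by
        have := free_away_mul _ g2 g1 (H2 i hi); rwa [mul_comm] at this⟩
    · rw [Finset.mem_Icc, not_and_or, not_le, not_le] at hi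
      have hz1 : Subsingleton (E.X i) :=
        ModuleCat.subsingleton_of_isZero (hv i (by omega))
      have hz2 : Subsingleton (E.X (i + 1)) :=
        ModuleCat.subsingleton_of_isZero (hv (i + 1) (by omega))
      have hz3 : Subsingleton (LinearMap.range (E.d i (i + 1)).hom) :=
        ⟨fun x y => Subtype.ext (Subsingleton.elim _ _)⟩
      have s1 : Subsingleton (Localization.Away (g1 * g2) ⊗[R] E.X i) := inferInstance
      have s2 : Subsingleton (Localization.Away (g1 * g2) ⊗[R]
          LinearMap.range (E.d i (i + 1)).hom) := inferInstance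
      exact ⟨Module.Free.of_subsingleton _ _, Module.Free.of_subsingleton _ _⟩

end good

end PartH

section good2
variable {R : Type u} [CommRing R] {E : DRing.Cx R}

lemma Good.trivial {g : R} (hg : Good E g) (h : Homotopy (𝟙 E) 0) {a b : ℤ}
    (hv : DRing.VanishesOutside E a b)
    (hE : ∀ i, Module.Finite R (E.X i) ∧ Module.Projective R (E.X i)) :
    (∃ a' b' : ℤ, DRing.VanishesOutside (bcCx (Localization.Away g) E) a' b') ∧
      DRing.TermwiseFiniteFree (bcCx (Localization.Away g) E) ∧
      (∀ i : ℤ, Module.Free (Localization.Away g)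
        (LinearMap.range ((bcCx (Localization.Away g) E).d i (i + 1)).hom)) ∧
      Nonempty (Homotopy (𝟙 (bcCx (Localization.Away g) E)) 0) := by
  refine ⟨⟨a, b, vanishesOutside_bcCx hv⟩, fun i => ?_, fun i => ?_, ⟨?_⟩⟩
  · obtain ⟨h1, -⟩ := hE i
    have := (hg i).1
    exact ⟨finite_obj (E.X i), Module.Free.of_equiv (objEquiv (B := Localization.Away g) (E.X i)).symm⟩
  · have := (hg i).2
    exact Module.Free.of_equiv (rangeEquiv (Localization.Away g) (E.d i (i + 1))).symm
  · have h' := (F R (Localization.Away g)).mapHomotopy h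
    exact (Homotopy.ofEq (by simp)).trans (h'.trans (Homotopy.ofEq (by simp)))

end good2


section PartMain

attribute [local instance] HasDerivedCategory.standard

lemma isKProjective_of_bdd {R : Type u} [CommRing R] (M : DRing.Cx R) {a b : ℤ}
    (hM : DRing.VanishesOutside M a b) (hMp : DRing.TermwiseFiniteProjective M) :
    M.IsKProjective := by
  have : M.IsStrictlyLE b := by
    rw [CochainComplex.isStrictlyLE_iff]
    intro i hi
    exact hM i (Or.inr hi)
  have : ∀ n : ℤ, Projective (M.X n) := fun n => by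
    have := (hMp n).2
    exact (IsProjective.iff_projective (M.X n)).1 this
  exact CochainComplex.isKProjective_of_projective M b

theorem main (R : Type u) [CommRing R] (p : Ideal R) [p.IsPrime]
    (M N : DRing.Cx R) (a b : ℤ) (hM : DRing.VanishesOutside M a b) (hN : DRing.VanishesOutside N a b)
    (hMp : DRing.TermwiseFiniteProjective M) (hNp : DRing.TermwiseFiniteProjective N)
    (h : Nonempty (DRing.toD M ≅ DRing.toD N)) :
    ∃ f : R, f ∉ p ∧ ∃ P Q : DRing.Cx (Localization.Away f),
      ((∃ a' b' : ℤ, DRing.VanishesOutside P a' b') ∧ DRing.TermwiseFiniteFree P ∧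
          (∀ i : ℤ, Module.Free (Localization.Away f) (LinearMap.range (P.d i (i + 1)).hom)) ∧ Nonempty (Homotopy (𝟙 P) 0)) ∧
      ((∃ a' b' : ℤ, DRing.VanishesOutside Q a' b') ∧ DRing.TermwiseFiniteFree Q ∧
          (∀ i : ℤ, Module.Free (Localization.Away f) (LinearMap.range (Q.d i (i + 1)).hom)) ∧ Nonempty (Homotopy (𝟙 Q) 0)) ∧
      Nonempty ((((ModuleCat.extendScalars (algebraMap R (Localization.Away f))).mapHomologicalComplex (ComplexShape.up ℤ)).obj M) ⊞ P ≅ (((ModuleCat.extendScalars (algebraMap R (Localization.Away f))).mapHomologicalComplex (ComplexShape.up ℤ)).obj N) ⊞ Q) := by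
  obtain ⟨e⟩ := h
  have := isKProjective_of_bdd M hM hMp
  have := isKProjective_of_bdd N hN hNp
  obtain ⟨α, ⟨hα⟩⟩ := exists_map_contractible M N e
  obtain ⟨Φ⟩ := nonempty_cone_iso α hα
  have h1 : Homotopy (𝟙 (mappingCone (𝟙 M))) 0 := mappingCone.homotopyToZeroOfId M
  have hE1 := cone_finite_projective α hMp hNp
  have hE2 := cone_finite_projective (𝟙 M) hMp hMp
  have hv1 := cone_vanishesOutside α hM hN
  have hv2 := cone_vanishesOutside (𝟙 M) hM hM
  obtain ⟨g1, hg1, G1⟩ := exists_good p hα hv1 hE1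
  obtain ⟨g2, hg2, G2⟩ := exists_good p h1 hv2 hE2
  refine ⟨g1 * g2, fun hmem => ?_, bcCx _ (mappingCone α), bcCx _ (mappingCone (𝟙 M)),
    (G1.mul g2).trivial hα hv1 hE1, (G2.mul' g1).trivial h1 hv2 hE2, ⟨?_⟩⟩
  · rcases Ideal.IsPrime.mem_or_mem ‹_› hmem with h' | h'
    · exact hg1 h'
    · exact hg2 h'
  · let G := (F R (Localization.Away (g1 * g2))).mapHomologicalComplex (ComplexShape.up ℤ)
    have : PreservesBinaryBiproducts G := preservesBinaryBiproducts_of_preservesBiproducts G
    exact (G.mapBiprod M (mappingCone α)).symm ≪≫ G.mapIso Φ ≪≫ G.mapBiprod N (mappingCone (𝟙 M))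


end PartMain

end Groth.Agent.Lib.H47TrivCx
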