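import Groth.Agent.Lib.CechContract9

/-!
# Contraction criterion for the full Čech complex, with restriction-compatibility only on "good" objects

helper4's patched copy of helper9's `Lib/CechContract9` (same proof).  The original hypothesis
`hρ : ∀ V W (h : W ⟶ V) x, ρ W (P.map h.op x) = ρ V x` for *all* objects forces `ρ = 0` when `P(∅) = 0`; here it is only
required when `V` and `W` satisfy a predicate `G` which holds for all the products `obj Y a`.
-/

universe w v u

open CategoryTheory Limits Opposite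

namespace Groth.Agent.Lib.H4CechContract

open Groth.Agent.Lib.CechLow Groth.Agent.Lib.CechContract9

section Main

variable {D : Type u} [Category.{v} D] [HasFiniteProducts D]
  {ι : Type w} (Y : ι → D) (P : Dᵒᵖ ⥤ AddCommGrpCat.{w})
  {L : Type*} [AddCommGroup L]
  (ρ : ∀ V : D, P.obj (op V) →+ L)
  (G : D → Prop) (hG : ∀ (n : ℕ) (a : Fin (n + 1) → ι), G (obj Y a))
  (hρ : ∀ (V W : D) (h : W ⟶ V), G V → G W → ∀ x : P.obj (op V), ρ W (P.map h.op x) = ρ V x)

include hG hρ in
lemma shadow_d {n : ℕ} (x : ((cechComplexFunctor Y).obj P).X n) :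
    shadow Y P ρ (((cechComplexFunctor Y).obj P).d n (n + 1) x) = dL (shadow Y P ρ x) := by
  funext a
  simp only [shadow, dL]
  rw [d_comp_apply, map_sum]
  refine Finset.sum_congr rfl fun j _ => ?_
  rw [map_zsmul, hρ _ _ _ (hG _ _) (hG _ _)]

variable (N : ι → AddMonoid.End L)

include hG hρ in
lemma exists_step {p : ℕ} (c : ι)
    (h2 : ∀ (a : Fin (p + 1) → ι), ∀ y ∈ (ρ (obj Y (Fin.cons c a : Fin (p + 2) → ι))).range,
      y - N c y ∈ (ρ (obj Y a)).range)
    (x : ((cechComplexFunctor Y).obj P).X (p + 1))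
    (hx : ((cechComplexFunctor Y).obj P).d (p + 1) (p + 2) x = 0) :
    ∃ y : ((cechComplexFunctor Y).obj P).X p,
      shadow Y P ρ (x - ((cechComplexFunctor Y).obj P).d p (p + 1) y) =
        fun a => N c (shadow Y P ρ x a) := by
  have hG' : dL (shadow Y P ρ x) = 0 := by
    rw [← shadow_d Y P ρ G hG hρ, hx, shadow_zero]
  obtain ⟨y, hy⟩ := exists_shadow_eq Y P ρ (hL (N c) c (shadow Y P ρ x))
    (fun a => h2 a _ (shadow_mem Y P ρ x _))
  refine ⟨y, ?_⟩
  rw [shadow_sub, shadow_d Y P ρ G hG hρ, hy, dL_hL (N c) c _ hG']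
  funext a
  simp only [Pi.sub_apply, sub_sub_cancel]
  rfl

include hG hρ in
lemma exists_steps {p : ℕ} (cs : List ι)
    (h2 : ∀ c ∈ cs, ∀ (a : Fin (p + 1) → ι),
      ∀ y ∈ (ρ (obj Y (Fin.cons c a : Fin (p + 2) → ι))).range, y - N c y ∈ (ρ (obj Y a)).range)
    (x : ((cechComplexFunctor Y).obj P).X (p + 1))
    (hx : ((cechComplexFunctor Y).obj P).d (p + 1) (p + 2) x = 0) :
    ∃ y : ((cechComplexFunctor Y).obj P).X p,
      shadow Y P ρ (x - ((cechComplexFunctor Y).obj P).d p (p + 1) y) =
        fun a => (cs.map N).prod (shadow Y P ρ x a) := by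
  induction cs with
  | nil =>
    refine ⟨0, ?_⟩
    rw [map_zero, sub_zero]
    funext a
    simp
  | cons c cs ih =>
    obtain ⟨y', hy'⟩ := ih (fun c' hc' => h2 c' (List.mem_cons_of_mem _ hc'))
    have hdd : ((cechComplexFunctor Y).obj P).d (p + 1) (p + 2)
        (((cechComplexFunctor Y).obj P).d p (p + 1) y') = 0 := by
      rw [← ConcreteCategory.comp_apply, ((cechComplexFunctor Y).obj P).d_comp_d]
      rfl
    have hx₁c : ((cechComplexFunctor Y).obj P).d (p + 1) (p + 2)
        (x - ((cechComplexFunctor Y).obj P).d p (p + 1) y') = 0 := by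
      rw [map_sub, hx, hdd, sub_zero]
    obtain ⟨y'', hy''⟩ := exists_step Y P ρ G hG hρ N c (h2 c List.mem_cons_self) _ hx₁c
    refine ⟨y' + y'', ?_⟩
    have : x - ((cechComplexFunctor Y).obj P).d p (p + 1) (y' + y'') =
        (x - ((cechComplexFunctor Y).obj P).d p (p + 1) y') -
          ((cechComplexFunctor Y).obj P).d p (p + 1) y'' := by
      rw [map_add]
      abel
    rw [this, hy'', hy']
    funext a
    simp only [List.map_cons, List.prod_cons]
    rfl

include hG hρ in
/-- **Abstract contraction criterion** (general category `D` with finite products), with compatibility of `ρ` only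
required on objects satisfying `G`. -/
theorem isZero_homology_of_contraction (p : ℕ)
    (hinj : ∀ (a : Fin (p + 2) → ι), Function.Injective (ρ (obj Y a))) (cs : List ι)
    (h2 : ∀ c ∈ cs, ∀ (a : Fin (p + 1) → ι),
      ∀ y ∈ (ρ (obj Y (Fin.cons c a : Fin (p + 2) → ι))).range, y - N c y ∈ (ρ (obj Y a)).range)
    (h3 : ∀ (a : Fin (p + 2) → ι), ∀ y ∈ (ρ (obj Y a)).range, (cs.map N).prod y = 0) :
    IsZero (((cechComplexFunctor Y).obj P).homology (p + 1)) := by
  apply isZero_homology_of_forall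
  intro x hx
  obtain ⟨y, hy⟩ := exists_steps Y P ρ G hG hρ N cs h2 x hx
  refine ⟨y, ?_⟩
  symm
  apply eq_of_sub_eq_zero
  apply shadow_injective Y P ρ hinj
  rw [hy, shadow_zero]
  funext a
  exact h3 a _ (shadow_mem Y P ρ x a)

end Main

section Top

open TopologicalSpace

variable {X : TopCat.{u}} {ι : Type u} (U : ι → Opens X)

/-- **Contraction criterion** for the full Čech complex of a presheaf of abelian groups on a topological space.
`G` is a predicate on opens satisfied by all finite intersections `⨅ k, U (a k)`; `ρ V : P(V) →+ L` is compatible with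
restriction between opens satisfying `G`. -/
theorem isZero_cechH_of_contraction (P : (Opens X)ᵒᵖ ⥤ AddCommGrpCat.{u})
    {L : Type*} [AddCommGroup L] (ρ : ∀ V : Opens X, P.obj (op V) →+ L)
    (G : Opens X → Prop) (hG : ∀ (n : ℕ) (a : Fin (n + 1) → ι), G (⨅ k, U (a k)))
    (hρ : ∀ (V W : Opens X) (h : W ≤ V), G V → G W → ∀ x : P.obj (op V),
      ρ W (P.map (homOfLE h).op x) = ρ V x)
    (N : ι → AddMonoid.End L) (p : ℕ)
    (hinj : ∀ (a : Fin (p + 2) → ι), Function.Injective (ρ (⨅ k, U (a k)))) (cs : List ι)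
    (h2 : ∀ c ∈ cs, ∀ (a : Fin (p + 1) → ι), ∀ y ∈ (ρ (U c ⊓ ⨅ k, U (a k))).range,
      y - N c y ∈ (ρ (⨅ k, U (a k))).range)
    (h3 : ∀ (a : Fin (p + 2) → ι), ∀ y ∈ (ρ (⨅ k, U (a k))).range, (cs.map N).prod y = 0) :
    IsZero (((cechComplexFunctor U).obj P).homology (p + 1)) := by
  apply isZero_homology_of_contraction U P ρ G
    (fun n a => by rw [obj_eq_iInf]; exact hG n a)
    (fun V W h hV hW x => hρ V W h.le hV hW x) N p _ cs
  · intro c hc a y hy
    rw [obj_eq_iInf, iInf_cons] at hy
    rw [obj_eq_iInf]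
    exact h2 c hc a y hy
  · intro a y hy
    rw [obj_eq_iInf] at hy
    exact h3 a y hy
  · intro a
    rw [obj_eq_iInf]
    exact hinj a

end Top

end Groth.Agent.Lib.H4CechContract
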