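import Groth.Agent.Lib.H4Chase
import Groth.Agent.Lib.H4H0Nat

/-!
# Cohomology chase along an exact complex, with an offset; surjectivity on global sections (helper4)

* `subsingleton_HH_cycles_off` : version of `subsingleton_HH_cycles` for a complex living in degrees `[o, o + N]`;
* `surjective_d_app_top` : for an exact complex `0 → C^o → ⋯ → C^{o+N} → 0` with `H^{N-1-j}(C^{o+j}) = 0` for
  `j + 1 < N`, the last differential is surjective on global sections.
-/

set_option autoImplicit false
universe u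
open CategoryTheory CategoryTheory.Limits AlgebraicGeometry

namespace Groth.Agent.Lib.H4Chase

open Groth.Agent.Lib.CohLES

variable {X : Scheme.{u}} (C : CochainComplex X.Modules ℤ) (hC : ∀ i : ℤ, C.ExactAt i)

include hC in
theorem subsingleton_HH_cycles_off (o : ℤ) (hneg : IsZero (C.X (o - 1))) (N q : ℕ)
    (h : ∀ j : ℕ, j < N → Subsingleton (Coh.HH X (C.X (o + j)) (q + (N - 1 - j)))) :
    ∀ (j : ℕ) (i : ℤ), i = o + j → j ≤ N →
      Subsingleton (Coh.HH X (kernel (C.d i (i + 1))) (q + (N - j))) := by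
  intro j
  induction j with
  | zero =>
    intro i hi _
    obtain rfl : i = o := by simpa using hi
    apply subsingleton_HH_of_isZero
    have hex := (HomologicalComplex.exactAt_iff' C (i - 1) i (i + 1) (by simp) (by simp)).1 (hC i)
    have hmono : Mono (C.d i (i + 1)) := hex.mono_g (hneg.eq_of_src _ _)
    exact isZero_kernel_of_mono _
  | succ j ih =>
    intro i hi hj
    obtain rfl : i = o + (j : ℤ) + 1 := by rw [hi]; push_cast; ring
    have hS := shortExact_cycles C hC (o + (j : ℤ))
    have h1 := ih (o + (j : ℤ)) rfl (by omega)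
    have h2 := h j (by omega)
    have e1 : q + (N - j) = q + (N - (j + 1)) + 1 := by omega
    have e2 : q + (N - 1 - j) = q + (N - (j + 1)) := by omega
    rw [e1] at h1
    rw [e2] at h2
    exact subsingleton_right hS (q + (N - (j + 1)))

include hC in
/-- for an exact complex `0 → C^o → ⋯ → C^{o+N} → 0` with `H^{N-1-j}(C^{o+j}) = 0` for `j + 1 < N`, the last
differential is surjective on global sections -/
theorem surjective_d_app_top (o : ℤ) (hneg : IsZero (C.X (o - 1))) (N : ℕ) (hN : 1 ≤ N)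
    (hZ : IsZero (C.X (o + N + 1)))
    (h : ∀ j : ℕ, j + 1 < N → Subsingleton (Coh.HH X (C.X (o + j)) (N - 1 - j)))
    (i k : ℤ) (hi : i = o + N - 1) (hk : k = o + N) :
    Function.Surjective ((C.d i k).app ⊤) := by
  obtain rfl : k = i + 1 := by omega
  have h1 : Subsingleton (Coh.HH X (kernel (C.d i (i + 1))) 1) := by
    have := subsingleton_HH_cycles_off C hC o hneg (N - 1) 1 (fun j hj => by
      have := h j (by omega)
      have e : N - 1 - j = 1 + (N - 1 - 1 - j) := by omega
      rw [e] at this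
      exact this) (N - 1) i (by rw [hi, Nat.cast_sub hN]; push_cast; ring) le_rfl
    rw [Nat.sub_self, add_zero] at this
    exact this
  have hS := shortExact_cycles C hC i
  have hd : C.d (i + 1) (i + 1 + 1) = 0 := by
    have hz : IsZero (C.X (i + 1 + 1)) := by
      have e : i + 1 + 1 = o + N + 1 := by omega
      rw [e]
      exact hZ
    exact hz.eq_of_tgt _ _
  have hiso : IsIso (kernel.ι (C.d (i + 1) (i + 1 + 1))) := by
    rw [hd]
    infer_instance
  intro τ
  have : Subsingleton (Coh.HH X (ShortComplex.mk (kernel.ι (C.d i (i + 1)))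
      (kernel.lift (C.d (i + 1) (i + 1 + 1)) (C.d i (i + 1)) (C.d_comp_d _ _ _))
      (by rw [← cancel_mono (kernel.ι (C.d (i + 1) (i + 1 + 1))), Category.assoc, kernel.lift_ι,
        kernel.condition, zero_comp])).X₁ 1) := h1
  obtain ⟨s, hs⟩ := Groth.Agent.Lib.H4Twist.exists_section_lift hS
    ((inv (kernel.ι (C.d (i + 1) (i + 1 + 1)))).app ⊤ τ)
  refine ⟨s, ?_⟩
  have e1 : C.d i (i + 1) = kernel.lift (C.d (i + 1) (i + 1 + 1)) (C.d i (i + 1)) (C.d_comp_d _ _ _) ≫
      kernel.ι (C.d (i + 1) (i + 1 + 1)) := (kernel.lift_ι _ _ _).symm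
  rw [e1]
  change (kernel.ι (C.d (i + 1) (i + 1 + 1))).app ⊤ ((kernel.lift (C.d (i + 1) (i + 1 + 1))
    (C.d i (i + 1)) (C.d_comp_d _ _ _)).app ⊤ s) = τ
  have hs' : (kernel.lift (C.d (i + 1) (i + 1 + 1)) (C.d i (i + 1)) (C.d_comp_d _ _ _)).app ⊤ s =
      (inv (kernel.ι (C.d (i + 1) (i + 1 + 1)))).app ⊤ τ := hs
  rw [hs']
  change ((inv (kernel.ι (C.d (i + 1) (i + 1 + 1)))) ≫ kernel.ι (C.d (i + 1) (i + 1 + 1))).app ⊤ τ = τ
  rw [IsIso.inv_hom_id]
  rfl

end Groth.Agent.Lib.H4Chase
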