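import Groth.Prelude.Def_MoreMor
import Groth.Agent.Lib.IdealSheafComap

/-!
# First order thickenings are stable under base change

* `isFirstOrderThickening_fst`: the base change `pullback.fst p i` of a first order thickening `i`.
* `isFirstOrderThickening_of_isPullback`: the same for an arbitrary pullback square.
-/

set_option autoImplicit false
universe u

namespace Groth.Agent.Lib.H4FirstOrderBC

open AlgebraicGeometry CategoryTheory Limits

variable {Z Z' T T' : Scheme.{u}}

/-- The projection `T' ×_{Z'} Z ⟶ T'` is a first order thickening if `i : Z ⟶ Z'` is. -/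
theorem isFirstOrderThickening_fst (i : Z ⟶ Z') (p : T' ⟶ Z')
    (hi : MoreMor.IsFirstOrderThickening i) :
    MoreMor.IsFirstOrderThickening (pullback.fst p i) := by
  obtain ⟨⟨hcl, hsurj⟩, hsq⟩ := hi
  refine ⟨⟨inferInstance, inferInstance⟩, ?_⟩
  rw [Scheme.IdealSheafData.ker_fst_of_isClosedImmersion,
    ← Groth.Agent.Lib.IdealSheafComap.comap_mul, hsq, Scheme.IdealSheafData.comap_bot]

/-- A base change of a first order thickening is a first order thickening. -/
theorem isFirstOrderThickening_of_isPullback {i' : T ⟶ T'} {q : T ⟶ Z} {p : T' ⟶ Z'} {i : Z ⟶ Z'}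
    (hc : IsPullback i' q p i) (hi : MoreMor.IsFirstOrderThickening i) :
    MoreMor.IsFirstOrderThickening i' := by
  have h1 := isFirstOrderThickening_fst i p hi
  obtain ⟨⟨hcl, hsurj⟩, hsq⟩ := h1
  have e : i' = hc.isoPullback.hom ≫ pullback.fst p i := by simp
  refine ⟨⟨?_, ?_⟩, ?_⟩
  · rw [e]; infer_instance
  · rw [e]; infer_instance
  · rw [e, Scheme.Hom.ker_comp_of_isIso]; exact hsq

/-- For a closed immersion `g`, pulling back the pushforward of an ideal sheaf gives it back. -/
theorem comap_map_of_isClosedImmersion {P Q : Scheme.{u}} (g : P ⟶ Q) [IsClosedImmersion g]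
    (K : P.IdealSheafData) : (K.map g).comap g = K := by
  have h1 : (K.map g).comap g = (pullback.fst g (K.subschemeι ≫ g)).ker := by
    rw [Scheme.IdealSheafData.ker_fst_of_isClosedImmersion]; rfl
  have hpb : IsPullback K.subschemeι (𝟙 _) g (K.subschemeι ≫ g) := by
    have h2 : IsPullback K.subschemeι (𝟙 _) (𝟙 _) K.subschemeι := IsPullback.of_vert_isIso ⟨by simp⟩
    have := h2.paste_horiz (IsKernelPair.id_of_mono g)
    simpa using this
  have e : pullback.fst g (K.subschemeι ≫ g) = hpb.isoPullback.inv ≫ K.subschemeι := by simp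
  rw [h1, e, Scheme.Hom.ker_comp_of_isIso, Scheme.IdealSheafData.ker_subschemeι]

/-- If `f ≫ g` is a first order thickening and `g` is a closed immersion, then `f` is a first order
thickening. -/
theorem isFirstOrderThickening_of_comp {A B C : Scheme.{u}} (f : A ⟶ B) (g : B ⟶ C)
    [IsClosedImmersion g] (h : MoreMor.IsFirstOrderThickening (f ≫ g)) :
    MoreMor.IsFirstOrderThickening f := by
  obtain ⟨⟨hcl, hsurj⟩, hsq⟩ := h
  refine ⟨⟨IsClosedImmersion.of_comp_isClosedImmersion f g, ⟨?_⟩⟩, ?_⟩
  · intro b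
    obtain ⟨a, ha⟩ := hsurj.surj (g b)
    refine ⟨a, g.isClosedEmbedding.injective ?_⟩
    simpa using ha
  · have hk : f.ker = ((f ≫ g).ker).comap g := by
      rw [Scheme.Hom.ker_comp, comap_map_of_isClosedImmersion]
    rw [hk, ← Groth.Agent.Lib.IdealSheafComap.comap_mul, hsq, Scheme.IdealSheafData.comap_bot]

/-- For a morphism to an affine scheme, `ker * ker = ⊥` can be tested on global sections. -/
theorem ker_mul_ker_eq_bot_iff_of_isAffine {X Y : Scheme.{u}} (f : X ⟶ Y) [IsAffine Y] :
    f.ker * f.ker = ⊥ ↔ RingHom.ker f.appTop.hom * RingHom.ker f.appTop.hom = ⊥ := by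
  have hk : f.ker = Scheme.IdealSheafData.equivOfIsAffine.symm (RingHom.ker f.appTop.hom) :=
    Scheme.ker_of_isAffine f
  have hb : (⊥ : Y.IdealSheafData) = Scheme.IdealSheafData.equivOfIsAffine.symm ⊥ :=
    (map_bot Scheme.IdealSheafData.equivOfIsAffine.symm).symm
  rw [hk, ← map_mul, hb, EquivLike.apply_eq_iff_eq]

/-- `Spec S ⟶ Spec R` is a first order thickening for a surjection `R ⟶ S` whose kernel has square
zero. -/
theorem isFirstOrderThickening_SpecMap {R S : CommRingCat.{u}} (φ : R ⟶ S)
    (hφ : Function.Surjective φ.hom)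
    (hker : ∀ x y, φ.hom x = 0 → φ.hom y = 0 → x * y = 0) :
    MoreMor.IsFirstOrderThickening (Spec.map φ) := by
  refine ⟨⟨IsClosedImmersion.spec_of_surjective φ hφ, ⟨?_⟩⟩, ?_⟩
  · intro p
    have hp : ∀ q : PrimeSpectrum R, q ∈ Set.range (PrimeSpectrum.comap φ.hom) := by
      intro q
      rw [_root_.range_comap_of_surjective _ _ hφ, PrimeSpectrum.mem_zeroLocus]
      intro x hx
      have hx0 : φ.hom x = 0 := hx
      have : x * x = 0 := hker x x hx0 hx0
      have h0 : x * x ∈ q.asIdeal := by rw [this]; exact q.asIdeal.zero_mem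
      exact (q.isPrime.mem_or_mem h0).elim id id
    exact hp p
  · rw [ker_mul_ker_eq_bot_iff_of_isAffine, eq_bot_iff, Ideal.mul_le]
    intro x hx y hy
    have hnat := Scheme.ΓSpecIso_naturality φ
    have key : ∀ z, (Spec.map φ).appTop.hom z = 0 → φ.hom ((Scheme.ΓSpecIso R).hom.hom z) = 0 := by
      intro z hz
      have := congrArg (fun ψ => ψ.hom z) hnat
      simp only [CommRingCat.hom_comp, RingHom.comp_apply] at this
      rw [← this, hz, map_zero]
    have h1 := hker _ _ (key x hx) (key y hy)
    rw [← map_mul] at h1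
    have hinj : Function.Injective (Scheme.ΓSpecIso R).hom.hom :=
      (ConcreteCategory.bijective_of_isIso (Scheme.ΓSpecIso R).hom).1
    rw [Ideal.mem_bot]
    exact hinj (by rw [h1, map_zero])

end Groth.Agent.Lib.H4FirstOrderBC
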