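import Groth.Agent.Lib.H78AtlasOps
import Groth.Agent.Lib.QCohStalk
import Mathlib.AlgebraicGeometry.Morphisms.QuasiSeparated

set_option autoImplicit false
universe u
open CategoryTheory CategoryTheory.Limits AlgebraicGeometry MonoidalCategory Opposite TopologicalSpace
open Groth.Agent.Lib.H90Invertible Groth.Agent.Lib.StructureModule Groth.Agent.Lib.H78TensorGen
open Groth.Agent.Lib.H78SecCoord Groth.Agent.Lib.H78Atlas

namespace Groth.Agent.Lib.H78KeyLemma

variable {X : Scheme.{u}}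

/-- the two properties of sections of quasi-coherent modules over affine opens used below -/
structure QcLike (F : X.Modules) : Prop where
  van : ∀ {U : X.Opens}, IsAffineOpen U → ∀ (f : Γ(X, U)) (z : Γ(F, U)),
    rs F (X.basicOpen_le f) z = 0 → ∃ n : ℕ, f ^ n • z = 0
  ext : ∀ {U : X.Opens}, IsAffineOpen U → ∀ (f : Γ(X, U)) (t : Γ(F, X.basicOpen f)),
    ∃ (n : ℕ) (z : Γ(F, U)), rs F (X.basicOpen_le f) z = rf (X.basicOpen_le f) f ^ n • t

lemma qcLike_of_isQuasicoherent (F : X.Modules) [F.IsQuasicoherent] : QcLike F where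
  van hU f z hz := Groth.Agent.Lib.QCohStalk.exists_pow_smul_eq_zero F hU f z hz
  ext hU f t := by
    obtain ⟨n, s, hs⟩ := Groth.Agent.Lib.QCohStalk.exists_pow_smul_eq_res F hU f t
    exact ⟨n, s, hs.symm⟩

lemma rs_zero (F : X.Modules) {V W : X.Opens} (h : W ≤ V) : rs F h (0 : Γ(F, V)) = 0 :=
  map_zero (F.presheaf.map (homOfLE h).op).hom

lemma rf_pow {V W : X.Opens} (h : W ≤ V) (a : Γ(X, V)) (n : ℕ) : rf h (a ^ n) = rf h a ^ n :=
  map_pow (X.presheaf.map (homOfLE h).op).hom a n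

lemma rf_mul {V W : X.Opens} (h : W ≤ V) (a b : Γ(X, V)) : rf h (a * b) = rf h a * rf h b :=
  map_mul (X.presheaf.map (homOfLE h).op).hom a b

lemma basicOpen_rf {V W : X.Opens} (h : W ≤ V) (a : Γ(X, V)) :
    X.basicOpen (rf h a) = W ⊓ X.basicOpen a := Scheme.basicOpen_res X a (homOfLE h).op

/-- sections of a quasi-coherent module over a quasi-compact open vanishing on `D(f)` are killed by a
power of `f` -/
theorem van_qc {F : X.Modules} (hF : QcLike F) {W : X.Opens} (hW : IsCompact (W : Set X)) (f : Γ(X, W))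
    (z : Γ(F, W)) (hz : rs F (X.basicOpen_le f) z = 0) : ∃ n : ℕ, f ^ n • z = 0 := by
  obtain ⟨s, hs, e⟩ := isCompact_and_isOpen_iff_finite_and_eq_biUnion_affineOpens.mp ⟨hW, W.2⟩
  have h₁ : ∀ i : s, i.1.1 ≤ W := by
    intro i x hx
    have : x ∈ (W : Set X) := by
      rw [e]
      exact Set.mem_iUnion₂.2 ⟨i.1, i.2, hx⟩
    exact this
  have H : ∀ i : s, ∃ n : ℕ, rf (h₁ i) f ^ n • rs F (h₁ i) z = 0 := by
    intro i
    refine hF.van i.1.2 (rf (h₁ i) f) (rs F (h₁ i) z) ?_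
    have hle : X.basicOpen (rf (h₁ i) f) ≤ X.basicOpen f := by
      rw [basicOpen_rf]; exact inf_le_right
    rw [rs_rs]
    have := congrArg (rs F hle) hz
    rw [rs_rs, rs_zero] at this
    exact this
  choose n hn using H
  have := hs.to_subtype
  cases nonempty_fintype s
  refine ⟨Finset.univ.sup n, sec_ext F _ _ (fun x hx => ?_)⟩
  have hx' : x ∈ (W : Set X) := hx
  rw [e] at hx'
  obtain ⟨U, hU, hxU⟩ := Set.mem_iUnion₂.1 hx'
  refine ⟨U.1, h₁ ⟨U, hU⟩, hxU, ?_⟩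
  rw [rs_zero, rs_smul, rf_pow]
  have hle : n ⟨U, hU⟩ ≤ Finset.univ.sup n := Finset.le_sup (Finset.mem_univ _)
  obtain ⟨k, hk⟩ := Nat.exists_eq_add_of_le hle
  rw [hk, pow_add, mul_comm, mul_smul, hn ⟨U, hU⟩, smul_zero]

lemma pow_smul_eq_zero_of_le {F : X.Modules} {W : X.Opens} {f : Γ(X, W)} {z : Γ(F, W)} {m M : ℕ}
    (h : f ^ m • z = 0) (hle : m ≤ M) : f ^ M • z = 0 := by
  obtain ⟨k, rfl⟩ := Nat.exists_eq_add_of_le hle
  rw [pow_add, mul_comm, mul_smul, h, smul_zero]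

lemma rs_sub (F : X.Modules) {V W : X.Opens} (h : W ≤ V) (z z' : Γ(F, V)) :
    rs F h (z - z') = rs F h z - rs F h z' :=
  map_sub (F.presheaf.map (homOfLE h).op).hom z z'

/-- **Key lemma (EGA I 9.3.1, twisted form)**.  Let `X` be quasi-separated, `L` a module with an atlas over
finitely many affine opens `V i`, `σ` a global section of `L` with coordinates `a i`, and `F` quasi-coherent.
For a section `τ` of `F` over an open `D` containing all `D(a i)` (e.g. `D = X_σ`) there are `n` and sections `x i` of `F` over `V i`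
with `x i = a i ^ n • τ` on `V i ∩ X_σ = D(a i)`, and `x i = trans i j ^ n • x j` on `V i ∩ V j`
(so that the `x i ⊗ E i ^ n` glue to a global section of `F ⊗ L ^ n` extending `τ ⊗ σ ^ n`). -/
theorem key_ext {F : X.Modules} (hF : QcLike F) [QuasiSeparatedSpace X] {L : X.Modules} {ι : Type*}
    [Finite ι] {V : ι → X.Opens} (hVaff : ∀ i, IsAffineOpen (V i)) (A : Atlas L V) (σ : Γ(L, ⊤))
    {D : X.Opens} (hD : ∀ i, X.basicOpen (A.co σ i) ≤ D) (τ : Γ(F, D)) :
    ∃ (n : ℕ) (x : ∀ i, Γ(F, V i)),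
      (∀ i, rs F (X.basicOpen_le (A.co σ i)) (x i) =
        rf (X.basicOpen_le (A.co σ i)) (A.co σ i) ^ n • rs F (hD i) τ) ∧
      (∀ i j, rs F (inf_le_left : V i ⊓ V j ≤ V i) (x i) =
        A.trans i j ^ n • rs F (inf_le_right : V i ⊓ V j ≤ V j) (x j)) := by
  cases nonempty_fintype ι
  -- Step 1: local extensions with a uniform exponent
  have h1 : ∀ i, ∃ (n : ℕ) (z : Γ(F, V i)), rs F (X.basicOpen_le (A.co σ i)) z =
      rf (X.basicOpen_le (A.co σ i)) (A.co σ i) ^ n • rs F (hD i) τ :=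
    fun i => hF.ext (hVaff i) (A.co σ i) (rs F (hD i) τ)
  choose n₁ z₁ hz₁ using h1
  let N₀ := Finset.univ.sup n₁
  have hN₀ : ∀ i, n₁ i ≤ N₀ := fun i => Finset.le_sup (Finset.mem_univ i)
  obtain ⟨x₀, hx₀def⟩ : ∃ x₀ : ∀ i, Γ(F, V i), ∀ i, x₀ i = A.co σ i ^ (N₀ - n₁ i) • z₁ i :=
    ⟨_, fun i => rfl⟩
  have hx₀ : ∀ i, rs F (X.basicOpen_le (A.co σ i)) (x₀ i) =
      rf (X.basicOpen_le (A.co σ i)) (A.co σ i) ^ N₀ • rs F (hD i) τ := by
    intro i
    rw [hx₀def, rs_smul, hz₁ i, rf_pow, ← mul_smul, ← pow_add, Nat.sub_add_cancel (hN₀ i)]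
  -- Step 2: the cocycle defect is killed by a power
  have h2 : ∀ p : ι × ι, ∃ m : ℕ,
      rf (inf_le_left : V p.1 ⊓ V p.2 ≤ V p.1) (A.co σ p.1) ^ m •
        (rs F (inf_le_left : V p.1 ⊓ V p.2 ≤ V p.1) (x₀ p.1) -
          A.trans p.1 p.2 ^ N₀ • rs F (inf_le_right : V p.1 ⊓ V p.2 ≤ V p.2) (x₀ p.2)) = 0 := by
    rintro ⟨i, j⟩
    have hc : IsCompact ((V i ⊓ V j : X.Opens) : Set X) :=
      QuasiSeparatedSpace.inter_isCompact _ _ (V i).2 (hVaff i).isCompact (V j).2 (hVaff j).isCompact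
    refine van_qc hF hc _ _ ?_
    have hcompat := A.co_compat σ i j
    -- the open Q = D(a_i|_{V_i ∩ V_j})
    have hQi : X.basicOpen (rf (inf_le_left : V i ⊓ V j ≤ V i) (A.co σ i)) ≤ X.basicOpen (A.co σ i) := by
      rw [basicOpen_rf]; exact inf_le_right
    have hQj : X.basicOpen (rf (inf_le_left : V i ⊓ V j ≤ V i) (A.co σ i)) ≤ X.basicOpen (A.co σ j) := by
      rw [hcompat, Scheme.basicOpen_mul, basicOpen_rf]
      exact inf_le_left.trans inf_le_right
    have hQD : X.basicOpen (rf (inf_le_left : V i ⊓ V j ≤ V i) (A.co σ i)) ≤ D := hQi.trans (hD i)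
    have hQ : X.basicOpen (rf (inf_le_left : V i ⊓ V j ≤ V i) (A.co σ i)) ≤ V i ⊓ V j :=
      X.basicOpen_le _
    have e1 : rs F hQ (rs F (inf_le_left : V i ⊓ V j ≤ V i) (x₀ i)) =
        rf (hQ.trans inf_le_left) (A.co σ i) ^ N₀ • rs F hQD τ := by
      rw [rs_rs]
      have := congrArg (rs F hQi) (hx₀ i)
      rw [rs_rs, rs_smul, rs_rs, rf_pow, rf_rf] at this
      exact this
    have e2 : rs F hQ (rs F (inf_le_right : V i ⊓ V j ≤ V j) (x₀ j)) =
        rf (hQ.trans inf_le_right) (A.co σ j) ^ N₀ • rs F hQD τ := by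
      rw [rs_rs]
      have := congrArg (rs F hQj) (hx₀ j)
      rw [rs_rs, rs_smul, rs_rs, rf_pow, rf_rf] at this
      exact this
    change rs F hQ _ = 0
    rw [rs_sub, rs_smul F hQ (A.trans i j ^ N₀) _, e1, e2, ← mul_smul, sub_eq_zero]
    congr 1
    have h3 := congrArg (rf hQ) hcompat
    rw [rf_rf, rf_mul, rf_rf] at h3
    rw [h3, mul_pow, rf_pow, mul_comm]
  choose m hm using h2
  let M := Finset.univ.sup m
  have hM : ∀ p, m p ≤ M := fun p => Finset.le_sup (Finset.mem_univ p)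
  refine ⟨N₀ + M, fun i => A.co σ i ^ M • x₀ i, fun i => ?_, fun i j => ?_⟩
  · rw [rs_smul, hx₀ i, rf_pow, ← mul_smul, ← pow_add, add_comm]
  · have hcompat := A.co_compat σ i j
    have hd := pow_smul_eq_zero_of_le (hm (i, j)) (hM (i, j))
    dsimp only at hd
    rw [smul_sub, sub_eq_zero] at hd
    rw [rs_smul, rs_smul, rf_pow, rf_pow, hd, ← mul_smul, ← mul_smul, hcompat]
    congr 1
    ring

/-- finite affine atlases on quasi-compact schemes -/
theorem exists_finite_atlas [CompactSpace X] {L : X.Modules} (hL : PicF.IsInvertible L) :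
    ∃ (ι : Type u) (_ : Finite ι) (V : ι → X.Opens), (⨆ i, V i = ⊤) ∧ (∀ i, IsAffineOpen (V i)) ∧
      Nonempty (Atlas L V) := by
  obtain ⟨V, hxV, hVaff, ⟨A⟩⟩ := exists_atlas hL
  obtain ⟨t, ht⟩ := isCompact_univ.elim_finite_subcover (fun x => (V x : Set X)) (fun x => (V x).2)
    (fun x _ => Set.mem_iUnion.2 ⟨x, hxV x⟩)
  refine ⟨t, inferInstance, fun x => V x.1, ?_, fun x => hVaff x.1, ⟨A.refine (fun x => x.1) _ (fun _ => le_rfl)⟩⟩
  refine top_le_iff.1 (fun x _ => ?_)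
  obtain ⟨y, hy, hxy⟩ := Set.mem_iUnion₂.1 (ht (Set.mem_univ x))
  exact Opens.mem_iSup.2 ⟨⟨y, hy⟩, hxy⟩

/-- two invertible modules on a quasi-compact scheme have a common finite affine atlas -/
theorem exists_finite_atlas₂ [CompactSpace X] {L L' : X.Modules} (hL : PicF.IsInvertible L)
    (hL' : PicF.IsInvertible L') :
    ∃ (ι : Type u) (_ : Finite ι) (V : ι → X.Opens), (⨆ i, V i = ⊤) ∧ (∀ i, IsAffineOpen (V i)) ∧
      Nonempty (Atlas L V) ∧ Nonempty (Atlas L' V) := by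
  obtain ⟨V, hxV, hVaff, ⟨A⟩, ⟨A'⟩⟩ := exists_atlas₂ hL hL'
  obtain ⟨t, ht⟩ := isCompact_univ.elim_finite_subcover (fun x => (V x : Set X)) (fun x => (V x).2)
    (fun x _ => Set.mem_iUnion.2 ⟨x, hxV x⟩)
  refine ⟨t, inferInstance, fun x => V x.1, ?_, fun x => hVaff x.1,
    ⟨A.refine (fun x => x.1) _ (fun _ => le_rfl)⟩, ⟨A'.refine (fun x => x.1) _ (fun _ => le_rfl)⟩⟩
  refine top_le_iff.1 (fun x _ => ?_)
  obtain ⟨y, hy, hxy⟩ := Set.mem_iUnion₂.1 (ht (Set.mem_univ x))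
  exact Opens.mem_iSup.2 ⟨⟨y, hy⟩, hxy⟩

lemma qcLike_structureModule (X : Scheme.{u}) : QcLike (Coh.structureModule X) :=
  haveI := isQuasicoherent_structureModule X
  qcLike_of_isQuasicoherent _

/-- **the opens `X_s` form a basis inside `X_s`** (EGA II 4.5.2 (a) ⇒ (b), one step): for a function `f` on
the generating locus `X_s` of a section `s` of an invertible module `L` on a quasi-compact quasi-separated
scheme, there is a section `y` of some `L^(n+1)` whose generating locus is `D(f) ⊆ X_s`. -/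
theorem exists_sec_genLocus_eq_basicOpen [CompactSpace X] [QuasiSeparatedSpace X] {L : X.Modules}
    (hL : PicF.IsInvertible L) (s : Coh.structureModule X ⟶ L) (f : Γ(X, CohB1.genLocus L s)) :
    ∃ (n : ℕ) (y : Coh.structureModule X ⟶ CohB1.tensorPow L (n + 1)),
      CohB1.genLocus (CohB1.tensorPow L (n + 1)) y = X.basicOpen f := by
  obtain ⟨ι, _, V, hV, hVaff, ⟨A⟩⟩ := exists_finite_atlas hL
  have hD : ∀ i, X.basicOpen (A.co (sec s) i) ≤ CohB1.genLocus L s := by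
    intro i
    rw [← A.genLocus_inf, ofSection_sec]
    exact inf_le_left
  obtain ⟨N, x, hx1, hx2⟩ := key_ext (qcLike_structureModule X) hVaff A (sec s) hD (toSec _ f)
  -- the coordinates of the new section
  obtain ⟨xf, hxf⟩ : ∃ xf : ∀ i, Γ(X, V i), ∀ i, xf i = H78AmpleUnit.ofSec (V i) (x i) := ⟨_, fun i => rfl⟩
  have h1 : ∀ i, rf (X.basicOpen_le (A.co (sec s) i)) (xf i) =
      rf (X.basicOpen_le (A.co (sec s) i)) (A.co (sec s) i) ^ N * rf (hD i) f := by
    intro i; rw [hxf]; exact hx1 i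
  have h2 : ∀ i j, rf (inf_le_left : V i ⊓ V j ≤ V i) (xf i) =
      A.trans i j ^ N * rf (inf_le_right : V i ⊓ V j ≤ V j) (xf j) := by
    intro i j; rw [hxf, hxf]; exact hx2 i j
  obtain ⟨y, hy⟩ := (A.pow (N + 1)).exists_sec hV (fun i => xf i * A.co (sec s) i) (by
    intro i j
    rw [Atlas.pow_trans, rf_mul, rf_mul, h2, A.co_compat (sec s) i j]
    ring)
  refine ⟨N, ofSection y, opens_eq_of_cover hV (fun i => ?_)⟩
  rw [(A.pow (N + 1)).genLocus_inf, hy i, Scheme.basicOpen_mul]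
  -- on `B i = D(a i)`, `x i = a i ^ N * f`
  have h3 : X.basicOpen (xf i) ⊓ X.basicOpen (A.co (sec s) i) =
      X.basicOpen (rf (X.basicOpen_le (A.co (sec s) i)) (xf i)) := by
    rw [basicOpen_rf, inf_comm]
  have hu : IsUnit (rf (X.basicOpen_le (A.co (sec s) i)) (A.co (sec s) i) ^ N) :=
    (RingedSpace.isUnit_res_basicOpen _ (A.co (sec s) i)).pow N
  rw [h3, h1, Scheme.basicOpen_mul, Scheme.basicOpen_of_isUnit _ hu, basicOpen_rf]
  have h4 : X.basicOpen (A.co (sec s) i) = CohB1.genLocus L s ⊓ V i := by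
    rw [← A.genLocus_inf, ofSection_sec]
  have h5 : X.basicOpen f ≤ CohB1.genLocus L s := X.basicOpen_le f
  ext z
  simp only [Opens.coe_inf, Set.mem_inter_iff, SetLike.mem_coe, h4]
  constructor
  · rintro ⟨-, ⟨-, hz2⟩, hz3⟩; exact ⟨hz3, hz2⟩
  · rintro ⟨hz1, hz2⟩; exact ⟨⟨h5 hz1, hz2⟩, ⟨h5 hz1, hz2⟩, hz1⟩

end Groth.Agent.Lib.H78KeyLemma
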