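import Groth.Agent.Lib.H4GrTildeFT
import Groth.Agent.Lib.H78KeyLemma
import Groth.Agent.Lib.H78SecAdd

/-!
# Fraction calculus for functions on opens of `Proj` (helper4, GrTilde cluster; towards S3550/S3551)

* `IsFr W a b` : `a`, `b` homogeneous of the same degree and `b` vanishes nowhere on `W`;
* `fracO W a b : Γ(Proj 𝒜, W)` : the function `a / b` on `W` (a total function; `0` unless `IsFr W a b`);
* `oval_fracO`, `fracO_mul`, `fracO_eq`, `fracO_mul_eq`, `fracO_self`, `rf_fracO`, `fracO_add`, `fracO_zero`;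
* `exists_rf_eq_fracO` : functions are locally fractions; `basicOpen_fracO`.
-/

set_option autoImplicit false
set_option linter.unusedSectionVars false
universe u
open CategoryTheory AlgebraicGeometry TopologicalSpace Opposite
open Groth.Agent.Lib.H4Twist Twist
open Groth.Agent.Lib.H78TensorGen Groth.Agent.Lib.H78Atlas Groth.Agent.Lib.H78KeyLemma Groth.Agent.Lib.H78SecAdd

namespace Groth.Agent.Lib.H4GrTilde

variable {R A : Type u} [CommRing R] [CommRing A] [Algebra R A] {𝒜 : ℕ → Submodule R A} [GradedAlgebra 𝒜]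

/-- Equality of fractions in `A_x` from a cross-multiplication identity. -/
theorem loc_mk_eq_mk {x : ProjectiveSpectrum 𝒜} {a b s t : A} (hs : s ∉ x.asHomogeneousIdeal)
    (ht : t ∉ x.asHomogeneousIdeal) (h : t * a = s * b) :
    (Localization.mk a ⟨s, hs⟩ : Loc 𝒜 x) = Localization.mk b ⟨t, ht⟩ := by
  rw [Localization.mk_eq_mk_iff, Localization.r_iff_exists]
  exact ⟨1, by simp only [OneMemClass.coe_one, one_mul]; exact h⟩

theorem oval_add {U : (Proj 𝒜).Opens} (r r' : Γ(Proj 𝒜, U)) (x : U) :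
    oval (r + r') x = oval r x + oval r' x :=
  HomogeneousLocalization.val_add _ _

theorem oval_zero {U : (Proj 𝒜).Opens} (x : U) : oval (0 : Γ(Proj 𝒜, U)) x = 0 :=
  HomogeneousLocalization.val_zero

/-- `b` vanishes nowhere on `W`. -/
def NV (W : (Proj 𝒜).Opens) (b : A) : Prop := ∀ x : W, b ∉ x.1.asHomogeneousIdeal

theorem NV.mul {W : (Proj 𝒜).Opens} {b b' : A} (h : NV W b) (h' : NV W b') : NV W (b * b') :=
  fun x hx => (x.1.isPrime.mem_or_mem hx).elim (h x) (h' x)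

theorem NV.pow {W : (Proj 𝒜).Opens} {b : A} (h : NV W b) (k : ℕ) : NV W (b ^ k) :=
  fun x hx => h x (x.1.isPrime.mem_of_pow_mem k hx)

theorem NV.mono {W V : (Proj 𝒜).Opens} {b : A} (h : NV W b) (hV : V ≤ W) : NV V b :=
  fun x => h ⟨x.1, hV x.2⟩

theorem NV.one (W : (Proj 𝒜).Opens) : NV W (1 : A) := fun x => one_notMem x.1

theorem nv_basicOpen (b : A) : NV (Proj.basicOpen 𝒜 b) b := fun x => x.2

theorem NV.le_basicOpen {W : (Proj 𝒜).Opens} {b : A} (h : NV W b) : W ≤ Proj.basicOpen 𝒜 b :=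
  fun x hx => h ⟨x, hx⟩

theorem nv_inf_right (W : (Proj 𝒜).Opens) (b : A) : NV (W ⊓ Proj.basicOpen 𝒜 b) b := fun x => x.2.2

/-- `a / b` makes sense as a function on `W`. -/
structure IsFr (W : (Proj 𝒜).Opens) (a b : A) : Prop where
  deg : ∃ d, a ∈ 𝒜 d ∧ b ∈ 𝒜 d
  nv : NV W b

theorem IsFr.mk' {W : (Proj 𝒜).Opens} {a b : A} {d : ℕ} (ha : a ∈ 𝒜 d) (hb : b ∈ 𝒜 d) (h : NV W b) :
    IsFr W a b := ⟨⟨d, ha, hb⟩, h⟩

theorem IsFr.mul {W : (Proj 𝒜).Opens} {a b a' b' : A} (h : IsFr W a b) (h' : IsFr W a' b') :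
    IsFr W (a * a') (b * b') := by
  obtain ⟨d, ha, hb⟩ := h.deg
  obtain ⟨d', ha', hb'⟩ := h'.deg
  exact ⟨⟨d + d', SetLike.mul_mem_graded ha ha', SetLike.mul_mem_graded hb hb'⟩, h.nv.mul h'.nv⟩

theorem IsFr.pow {W : (Proj 𝒜).Opens} {a b : A} (h : IsFr W a b) (k : ℕ) : IsFr W (a ^ k) (b ^ k) := by
  obtain ⟨d, ha, hb⟩ := h.deg
  exact ⟨⟨k • d, SetLike.pow_mem_graded k ha, SetLike.pow_mem_graded k hb⟩, h.nv.pow k⟩

theorem IsFr.mono {W V : (Proj 𝒜).Opens} {a b : A} (h : IsFr W a b) (hV : V ≤ W) : IsFr V a b :=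
  ⟨h.deg, h.nv.mono hV⟩

theorem isFr_one (W : (Proj 𝒜).Opens) : IsFr W (1 : A) 1 :=
  IsFr.mk' SetLike.GradedOne.one_mem SetLike.GradedOne.one_mem (NV.one W)

/-- The function `a / b` on `W`, for homogeneous `a`, `b` of the same degree. -/
def fracO' {d : ℕ} {a b : A} (ha : a ∈ 𝒜 d) (hb : b ∈ 𝒜 d) (W : (Proj 𝒜).Opens) (nv : NV W b) :
    Γ(Proj 𝒜, W) :=
  show O (𝒜 := 𝒜) (op W) from
  ⟨fun x => HomogeneousLocalization.mk ⟨d, ⟨a, ha⟩, ⟨b, hb⟩, nv x⟩,
    fun x => ⟨W, x.2, 𝟙 _, d, ⟨a, ha⟩, ⟨b, hb⟩, nv, fun _ => rfl⟩⟩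

theorem oval_fracO' {d : ℕ} {a b : A} (ha : a ∈ 𝒜 d) (hb : b ∈ 𝒜 d) (W : (Proj 𝒜).Opens) (nv : NV W b)
    (x : W) : oval (fracO' ha hb W nv) x = Localization.mk a ⟨b, nv x⟩ := rfl

open Classical in
/-- The function `a / b` on `W` (a total function: `0` unless `IsFr W a b`). -/
noncomputable def fracO (W : (Proj 𝒜).Opens) (a b : A) : Γ(Proj 𝒜, W) :=
  if h : IsFr W a b then fracO' h.deg.choose_spec.1 h.deg.choose_spec.2 W h.nv else 0

theorem oval_fracO {W : (Proj 𝒜).Opens} {a b : A} (h : IsFr W a b) (x : W) :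
    oval (fracO W a b) x = Localization.mk a ⟨b, h.nv x⟩ := by
  unfold fracO
  rw [dif_pos h]
  rfl

section Calculus

variable {W V : (Proj 𝒜).Opens} {a b a' b' a'' b'' : A}

theorem fracO_mul (h : IsFr W a b) (h' : IsFr W a' b') :
    fracO W a b * fracO W a' b' = fracO W (a * a') (b * b') := by
  refine oval_ext fun x => ?_
  rw [oval_mul, oval_fracO h, oval_fracO h', oval_fracO (h.mul h'), Localization.mk_mul]
  rfl

theorem fracO_eq (h : IsFr W a b) (h' : IsFr W a' b') (e : b' * a = b * a') :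
    fracO W a b = fracO W a' b' := by
  refine oval_ext fun x => ?_
  rw [oval_fracO h, oval_fracO h']
  exact loc_mk_eq_mk _ _ e

theorem fracO_mul_eq (h : IsFr W a b) (h' : IsFr W a' b') (h'' : IsFr W a'' b'')
    (e : b'' * (a * a') = (b * b') * a'') : fracO W a b * fracO W a' b' = fracO W a'' b'' := by
  rw [fracO_mul h h']
  exact fracO_eq (h.mul h') h'' e

theorem fracO_self (h : IsFr W b b) : fracO W b b = 1 := by
  refine oval_ext fun x => ?_
  rw [oval_fracO h, oval_one]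
  exact Localization.mk_self (⟨b, h.nv x⟩ : x.1.asHomogeneousIdeal.toIdeal.primeCompl)

theorem fracO_mul_inv (h : IsFr W a b) (h' : IsFr W b a) : fracO W a b * fracO W b a = 1 := by
  rw [fracO_mul_eq h h' (isFr_one W) (by ring)]
  exact fracO_self (isFr_one W)

theorem rf_fracO (h : IsFr W a b) (hV : V ≤ W) : rf hV (fracO W a b) = fracO V a b := by
  refine oval_ext fun x => ?_
  rw [rf, oval_map, oval_fracO h, oval_fracO (h.mono hV)]

theorem fracO_add {d : ℕ} (ha : a ∈ 𝒜 d) (ha' : a' ∈ 𝒜 d) (hb : b ∈ 𝒜 d) (nv : NV W b) :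
    fracO W a b + fracO W a' b = fracO W (a + a') b := by
  refine oval_ext fun x => ?_
  rw [oval_add, oval_fracO (IsFr.mk' ha hb nv), oval_fracO (IsFr.mk' ha' hb nv),
    oval_fracO (IsFr.mk' (add_mem ha ha') hb nv), Localization.add_mk_self]

theorem fracO_zero (W : (Proj 𝒜).Opens) (b : A) : fracO W (0 : A) b = 0 := by
  by_cases h : IsFr W (0 : A) b
  · refine oval_ext fun x => ?_
    rw [oval_fracO h, oval_zero, Localization.mk_zero]
  · unfold fracO
    rw [dif_neg h]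

/-- Functions on opens of `Proj` are locally fractions. -/
theorem exists_rf_eq_fracO (r : Γ(Proj 𝒜, W)) (x : W) :
    ∃ (V : (Proj 𝒜).Opens) (hV : V ≤ W) (a b : A), x.1 ∈ V ∧ IsFr V a b ∧ rf hV r = fracO V a b := by
  obtain ⟨V, hxV, i, d, a, b, nv, hr⟩ := (show O (𝒜 := 𝒜) (op W) from r).2 x
  have hfr : IsFr V a.1 b.1 := IsFr.mk' a.2 b.2 nv
  refine ⟨V, i.le, a.1, b.1, hxV, hfr, oval_ext fun y => ?_⟩
  rw [rf, oval_map, oval_fracO hfr]
  exact congrArg HomogeneousLocalization.val (hr y)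

end Calculus

end Groth.Agent.Lib.H4GrTilde
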