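import Groth.Agent.Lib.H4FracO
import Mathlib.Algebra.Module.GradedModule

/-!
# `Γ_*(F)` for a module on `Proj` as compatible families (helper4, GrTilde cluster; towards S3550/S3551)

`A₊` is generated by a finite set `G.s` of elements of degree one.

* `GStar.Mn G F n` : compatible families `(τ_g ∈ Γ(D₊(g), F))_{g ∈ G.s}` with `τ_g = (g'/g)^n τ_g'` (`= Γ(X, F(n))`);
* `GStar.SubFam G F` : graded submodules of `Γ_*(F)`, `SubFam.top`;
* the graded `A`-module `GStar.M S = ⨁ n, S.K n`, with its grading `GStar.gr S`.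
-/

set_option autoImplicit false
set_option linter.unusedSectionVars false
universe u
open CategoryTheory AlgebraicGeometry TopologicalSpace Opposite DirectSum
open Groth.Agent.Lib.H4Twist Twist
open Groth.Agent.Lib.H78TensorGen Groth.Agent.Lib.H78Atlas Groth.Agent.Lib.H78KeyLemma Groth.Agent.Lib.H78SecAdd

namespace Groth.Agent.Lib.H4GrTilde

variable {R A : Type u} [CommRing R] [CommRing A] [Algebra R A] {𝒜 : ℕ → Submodule R A} [GradedAlgebra 𝒜]

/-- A finite set of elements of degree one. -/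
structure Gens (𝒜 : ℕ → Submodule R A) where
  s : Finset A
  deg1 : ∀ f ∈ s, f ∈ 𝒜 1

namespace GStar

theorem pow_mem_deg {g : A} (hg : g ∈ 𝒜 1) (i : ℕ) : g ^ i ∈ 𝒜 i := by
  have := SetLike.pow_mem_graded i hg
  rwa [smul_eq_mul, mul_one] at this

variable (G : Gens 𝒜) (F : (Proj 𝒜).Modules)

/-- The chart `D₊(g)`. -/
abbrev Dp (g : G.s) : (Proj 𝒜).Opens := Proj.basicOpen 𝒜 g.1

/-- The overlap `D₊(g) ∩ D₊(g')`. -/
abbrev Dpp (g g' : G.s) : (Proj 𝒜).Opens := Dp G g ⊓ Dp G g'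

variable {G}

theorem nv_left (g g' : G.s) : NV (Dpp G g g') g.1 := (nv_basicOpen g.1).mono inf_le_left

theorem nv_right (g g' : G.s) : NV (Dpp G g g') g'.1 := (nv_basicOpen g'.1).mono inf_le_right

theorem isFr_num {W : (Proj 𝒜).Opens} {g : G.s} (hW : NV W g.1) {i : ℕ} {a : A} (ha : a ∈ 𝒜 i) :
    IsFr W a (g.1 ^ i) :=
  IsFr.mk' ha (pow_mem_deg (G.deg1 _ g.2) i) (hW.pow i)

theorem isFr_den {W : (Proj 𝒜).Opens} (g : G.s) {i : ℕ} {s : A} (hs : s ∈ 𝒜 i) (hW : NV W s) :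
    IsFr W (g.1 ^ i) s :=
  IsFr.mk' (pow_mem_deg (G.deg1 _ g.2) i) hs hW

theorem isFr_tr {W : (Proj 𝒜).Opens} (g g' : G.s) (hW : NV W g.1) (n : ℕ) :
    IsFr W (g'.1 ^ n) (g.1 ^ n) :=
  isFr_num hW (pow_mem_deg (G.deg1 _ g'.2) n)

variable (G)

/-- Compatible families of weight `n`: `τ_g = (g'/g)^n τ_g'` on `D₊(g) ∩ D₊(g')`. -/
def Mn (n : ℕ) : AddSubgroup (∀ g : G.s, Γ(F, Dp G g)) where
  carrier := {τ | ∀ g g' : G.s, rs F (inf_le_left : Dpp G g g' ≤ Dp G g) (τ g) =
    fracO (Dpp G g g') (g'.1 ^ n) (g.1 ^ n) • rs F (inf_le_right : Dpp G g g' ≤ Dp G g') (τ g')}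
  zero_mem' := by
    intro g g'
    rw [Pi.zero_apply, Pi.zero_apply, rs_zero, rs_zero, smul_zero]
  add_mem' := by
    intro τ τ' h h' g g'
    rw [Pi.add_apply, Pi.add_apply, rs_add, rs_add, h g g', h' g g', smul_add]
  neg_mem' := by
    intro τ h g g'
    rw [Pi.neg_apply, Pi.neg_apply, rs_neg, rs_neg, h g g', smul_neg]

variable {G F}

theorem mem_Mn {n : ℕ} {τ : ∀ g : G.s, Γ(F, Dp G g)} : τ ∈ Mn G F n ↔
    ∀ g g' : G.s, rs F (inf_le_left : Dpp G g g' ≤ Dp G g) (τ g) =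
      fracO (Dpp G g g') (g'.1 ^ n) (g.1 ^ n) • rs F (inf_le_right : Dpp G g g' ≤ Dp G g') (τ g') :=
  Iff.rfl

/-- Multiplication of a compatible family by a homogeneous element. -/
theorem smul_mem_Mn {i j : ℕ} {a : A} (ha : a ∈ 𝒜 i) {τ : ∀ g : G.s, Γ(F, Dp G g)} (hτ : τ ∈ Mn G F j) :
    (fun g : G.s => fracO (Dp G g) a (g.1 ^ i) • τ g) ∈ Mn G F (i + j) := by
  intro g g'
  have h1 : IsFr (Dpp G g g') a (g.1 ^ i) := isFr_num (nv_left g g') ha
  have h2 : IsFr (Dpp G g g') (g'.1 ^ j) (g.1 ^ j) := isFr_tr g g' (nv_left g g') j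
  have h3 : IsFr (Dpp G g g') (a * g'.1 ^ j) (g.1 ^ (i + j)) :=
    isFr_num (nv_left g g') (SetLike.mul_mem_graded ha (pow_mem_deg (G.deg1 _ g'.2) j))
  have h4 : IsFr (Dpp G g g') (g'.1 ^ (i + j)) (g.1 ^ (i + j)) := isFr_tr g g' (nv_left g g') (i + j)
  have h5 : IsFr (Dpp G g g') a (g'.1 ^ i) := isFr_num (nv_right g g') ha
  dsimp only
  rw [rs_smul, rs_smul, rf_fracO (isFr_num (nv_basicOpen g.1) ha) _,
    rf_fracO (isFr_num (nv_basicOpen g'.1) ha) _, hτ g g', ← mul_smul, ← mul_smul,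
    fracO_mul_eq h1 h2 h3 (by ring), fracO_mul_eq h4 h5 h3 (by ring)]

variable (G F) in
/-- A family of subgroups of the compatible families, stable under multiplication by homogeneous elements
(a graded submodule of `Γ_*(F)`). -/
structure SubFam where
  K : ℕ → AddSubgroup (∀ g : G.s, Γ(F, Dp G g))
  le : ∀ n, K n ≤ Mn G F n
  smul_mem : ∀ {i j : ℕ} {a : A}, a ∈ 𝒜 i → ∀ {τ : ∀ g : G.s, Γ(F, Dp G g)}, τ ∈ K j →
    (fun g : G.s => fracO (Dp G g) a (g.1 ^ i) • τ g) ∈ K (i + j)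

variable (G F) in
/-- All compatible families. -/
@[reducible] def SubFam.top : SubFam G F := ⟨Mn G F, fun _ => le_rfl, fun ha _ hτ => smul_mem_Mn ha hτ⟩

section Graded

variable (S : SubFam G F)

noncomputable instance gsmul : GradedMonoid.GSMul (fun i => 𝒜 i) (fun n => S.K n) where
  smul {i _} a τ := ⟨fun g => fracO (Dp G g) a.1 (g.1 ^ i) • τ.1 g, S.smul_mem a.2 τ.2⟩

noncomputable instance gmulAction : GradedMonoid.GMulAction (fun i => 𝒜 i) (fun n => S.K n) where
  one_smul := by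
    rintro ⟨j, τ⟩
    refine Sigma.subtype_ext (zero_add j) ?_
    funext g
    show fracO (Dp G g) (1 : A) (g.1 ^ 0) • τ.1 g = τ.1 g
    rw [pow_zero, fracO_self (isFr_one _), one_smul]
  mul_smul := by
    rintro ⟨i, a⟩ ⟨i', a'⟩ ⟨j, τ⟩
    refine Sigma.subtype_ext (add_assoc i i' j) ?_
    funext g
    show fracO (Dp G g) (a.1 * a'.1) (g.1 ^ (i + i')) • τ.1 g =
      fracO (Dp G g) a.1 (g.1 ^ i) • (fracO (Dp G g) a'.1 (g.1 ^ i') • τ.1 g)
    rw [← mul_smul, fracO_mul_eq (isFr_num (nv_basicOpen g.1) a.2) (isFr_num (nv_basicOpen g.1) a'.2)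
      (isFr_num (nv_basicOpen g.1) (SetLike.mul_mem_graded a.2 a'.2)) (by ring)]

noncomputable instance gdistribMulAction : DirectSum.GdistribMulAction (fun i => 𝒜 i) (fun n => S.K n) where
  smul_add := by
    intro i j a τ τ'
    apply Subtype.ext
    funext g
    exact smul_add _ _ _
  smul_zero := by
    intro i j a
    apply Subtype.ext
    funext g
    exact smul_zero _

noncomputable instance gmodule : DirectSum.Gmodule (fun i => 𝒜 i) (fun n => S.K n) where
  add_smul := by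
    intro i j a a' τ
    apply Subtype.ext
    funext g
    show fracO (Dp G g) (a.1 + a'.1) (g.1 ^ i) • τ.1 g =
      fracO (Dp G g) a.1 (g.1 ^ i) • τ.1 g + fracO (Dp G g) a'.1 (g.1 ^ i) • τ.1 g
    rw [← add_smul, fracO_add a.2 a'.2 (pow_mem_deg (G.deg1 _ g.2) i) ((nv_basicOpen g.1).pow i)]
  zero_smul := by
    intro i j τ
    apply Subtype.ext
    funext g
    show fracO (Dp G g) (0 : A) (g.1 ^ i) • τ.1 g = 0
    rw [fracO_zero, zero_smul]

/-- `Γ_*(F) = ⨁ n, Γ(X, F(n))`. -/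
abbrev M : Type u := ⨁ n, S.K n

noncomputable instance moduleA : Module A (M S) :=
  Module.compHom _ (DirectSum.decomposeRingEquiv 𝒜).toRingHom

noncomputable instance moduleR : Module R (M S) :=
  Module.compHom _ ((DirectSum.decomposeRingEquiv 𝒜).toRingHom.comp (algebraMap R A))

instance : IsScalarTower R A (M S) where
  smul_assoc r a m := by
    show (DirectSum.decomposeRingEquiv 𝒜).toRingHom (r • a) • m =
      ((DirectSum.decomposeRingEquiv 𝒜).toRingHom.comp (algebraMap R A)) r •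
        ((DirectSum.decomposeRingEquiv 𝒜).toRingHom a • m)
    rw [Algebra.smul_def, map_mul, mul_smul]
    rfl

variable {S}

theorem smulA_def (a : A) (m : M S) : a • m = DirectSum.decompose 𝒜 a • m := rfl

theorem smulR_def (r : R) (m : M S) : r • m = (algebraMap R A r) • m := rfl

/-- The homogeneous element attached to a compatible family. -/
noncomputable def of (n : ℕ) : S.K n →+ M S := DirectSum.of (fun n => S.K n) n

theorem of_cast {n n' : ℕ} (h : n = n') (τ : S.K n) :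
    of n τ = of n' ⟨τ.1, h ▸ τ.2⟩ := by
  subst h
  rfl

theorem smul_of {i j : ℕ} {a : A} (ha : a ∈ 𝒜 i) (τ : S.K j) :
    a • of j τ = of (i + j) ⟨fun g => fracO (Dp G g) a (g.1 ^ i) • τ.1 g, S.smul_mem ha τ.2⟩ := by
  rw [smulA_def, DirectSum.decompose_of_mem 𝒜 ha]
  exact DirectSum.Gmodule.of_smul_of (fun i => 𝒜 i) (fun n => S.K n) ⟨a, ha⟩ τ

end Graded

section Grading

variable (S : SubFam G F)

/-- The degree `n` piece of `Γ_*(F)`. -/
noncomputable def gr (n : ℕ) : Submodule R (M S) where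
  carrier := Set.range (of (S := S) n)
  add_mem' := by
    rintro _ _ ⟨τ, rfl⟩ ⟨τ', rfl⟩
    exact ⟨τ + τ', map_add _ _ _⟩
  zero_mem' := ⟨0, map_zero _⟩
  smul_mem' := by
    rintro r _ ⟨τ, rfl⟩
    rw [smulR_def, smul_of (SetLike.algebraMap_mem_graded 𝒜 r) τ, of_cast (zero_add n)]
    exact ⟨_, rfl⟩

variable {S}

theorem of_mem_gr (n : ℕ) (τ : S.K n) : of n τ ∈ gr S n := ⟨τ, rfl⟩

theorem mem_gr_iff {n : ℕ} {m : M S} : m ∈ gr S n ↔ ∃ τ : S.K n, of n τ = m := Iff.rfl

variable (S : SubFam G F)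

instance gradedSMul : SetLike.GradedSMul 𝒜 (gr S) where
  smul_mem := by
    rintro i j a _ ha ⟨τ, rfl⟩
    rw [smul_of ha τ]
    exact of_mem_gr _ _

/-- `of n` as a map into the degree `n` piece. -/
noncomputable def ofGr (n : ℕ) : S.K n →+ gr S n :=
  (of n).codRestrict (gr S n) (fun τ => of_mem_gr n τ)

/-- The decomposition map. -/
noncomputable def decomp : M S →+ ⨁ n, gr S n :=
  DirectSum.toAddMonoid fun n => (DirectSum.of (fun k => gr S k) n).comp (ofGr S n)

theorem decomp_of (n : ℕ) (τ : S.K n) :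
    decomp S (of n τ) = DirectSum.of (fun k => gr S k) n ⟨of n τ, of_mem_gr n τ⟩ :=
  DirectSum.toAddMonoid_of _ _ _

noncomputable instance decomposition : DirectSum.Decomposition (gr S) :=
  DirectSum.Decomposition.ofAddHom (gr S) (decomp S)
    (by
      apply DirectSum.addHom_ext
      intro n τ
      change DirectSum.coeAddMonoidHom (gr S) (decomp S (of n τ)) = of n τ
      rw [decomp_of, DirectSum.coeAddMonoidHom_of])
    (by
      apply DirectSum.addHom_ext
      rintro n ⟨_, τ, rfl⟩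
      change decomp S (DirectSum.coeAddMonoidHom (gr S) (DirectSum.of (fun k => gr S k) n _)) = _
      rw [DirectSum.coeAddMonoidHom_of]
      exact decomp_of S n τ)

end Grading

end GStar

end Groth.Agent.Lib.H4GrTilde
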