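import Groth.Agent.Lib.H4GammaStarIso
import Groth.Agent.Lib.CohFinite

/-!
# Finitely generated graded submodules of `Γ_*(F)` (helper4, GrTilde cluster; S3551)

* `GStar.incl S : M S →+ Γ_*(F)`, `inclₗ` (`A`-linear, injective);
* `GStar.subOf N : SubFam G F` for an `A`-submodule `N` of `Γ_*(F)`; `finite_subOf`;
* `GStar.cmpSub S g₀` : the sections over `D₊(g₀)` which are components of homogeneous elements of `S`;
* `GStar.exists_finite_iso` : a quasi-coherent module of finite type is `N~` with `N` finitely generated (S3551).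
-/

set_option autoImplicit false
set_option linter.unusedSectionVars false
universe u
open CategoryTheory AlgebraicGeometry TopologicalSpace Opposite DirectSum
open Groth.Agent.Lib.H4Twist Twist
open Groth.Agent.Lib.H78TensorGen Groth.Agent.Lib.H78Atlas Groth.Agent.Lib.H78KeyLemma Groth.Agent.Lib.H78SecAdd

namespace Groth.Agent.Lib.H4GrTilde

variable {R A : Type u} [CommRing R] [CommRing A] [Algebra R A] {𝒜 : ℕ → Submodule R A} [GradedAlgebra 𝒜]

namespace GStar

variable {G : Gens 𝒜} {F : (Proj 𝒜).Modules}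

section Incl

variable (S : SubFam G F)

/-- The inclusion of a graded submodule into `Γ_*(F)`. -/
noncomputable def incl : M S →+ M (SubFam.top G F) :=
  DirectSum.toAddMonoid fun n =>
    (of (S := SubFam.top G F) n).comp (AddSubgroup.inclusion (S.le n))

theorem incl_of (n : ℕ) (τ : S.K n) :
    incl S (of n τ) = of (S := SubFam.top G F) n ⟨τ.1, S.le n τ.2⟩ :=
  DirectSum.toAddMonoid_of _ _ _

theorem incl_smul (a : A) (m : M S) : incl S (a • m) = a • incl S m := by
  classical
  induction a using DirectSum.Decomposition.inductionOn 𝒜 with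
  | zero => rw [zero_smul, zero_smul, map_zero]
  | @homogeneous i a =>
    induction m using DirectSum.induction_on with
    | zero => rw [smul_zero, map_zero, smul_zero]
    | of j τ =>
      change incl S (a.1 • of j τ) = a.1 • incl S (of j τ)
      rw [smul_of a.2 τ, incl_of, incl_of, smul_of a.2]
    | add x y hx hy => rw [smul_add, map_add, map_add, smul_add, hx, hy]
  | add a b ha hb => rw [add_smul, map_add, add_smul, ha, hb]

theorem incl_apply (m : M S) (n : ℕ) : ((incl S m) n).1 = (m n).1 := by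
  classical
  induction m using DirectSum.induction_on with
  | zero => rfl
  | of j τ =>
    change ((incl S (of j τ)) n).1 = ((DirectSum.of (fun n => S.K n) j τ) n).1
    rw [incl_of]
    change ((DirectSum.of (fun n => (SubFam.top G F).K n) j ⟨τ.1, S.le j τ.2⟩) n).1 = _
    by_cases h : j = n
    · subst h
      rw [DirectSum.of_eq_same, DirectSum.of_eq_same]
    · rw [DirectSum.of_eq_of_ne _ _ _ (Ne.symm h), DirectSum.of_eq_of_ne _ _ _ (Ne.symm h)]
      rfl
  | add x y hx hy =>
    rw [map_add, DirectSum.add_apply, DirectSum.add_apply, AddSubgroup.coe_add, AddSubgroup.coe_add, hx, hy]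

theorem incl_injective : Function.Injective (incl S) := by
  intro m m' h
  apply DFinsupp.ext
  intro n
  apply Subtype.ext
  rw [← incl_apply S m n, ← incl_apply S m' n, h]

/-- The inclusion as an `A`-linear map. -/
noncomputable def inclₗ : M S →ₗ[A] M (SubFam.top G F) where
  toFun := incl S
  map_add' := map_add _
  map_smul' := incl_smul S

end Incl

section SubOf

variable (N : Submodule A (M (SubFam.top G F)))

/-- The graded submodule of `Γ_*(F)` of the families whose homogeneous element lies in `N`. -/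
def subOf : SubFam G F where
  K n :=
    { carrier := {τ | ∃ h : τ ∈ Mn G F n, of (S := SubFam.top G F) n ⟨τ, h⟩ ∈ N}
      zero_mem' := ⟨(Mn G F n).zero_mem, by
        have : of (S := SubFam.top G F) n ⟨0, (Mn G F n).zero_mem⟩ = 0 := map_zero _
        rw [this]
        exact N.zero_mem⟩
      add_mem' := by
        rintro τ τ' ⟨h, hN⟩ ⟨h', hN'⟩
        refine ⟨(Mn G F n).add_mem h h', ?_⟩
        have : of (S := SubFam.top G F) n ⟨τ + τ', (Mn G F n).add_mem h h'⟩ =
            of (S := SubFam.top G F) n ⟨τ, h⟩ + of (S := SubFam.top G F) n ⟨τ', h'⟩ :=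
          map_add (of (S := SubFam.top G F) n) ⟨τ, h⟩ ⟨τ', h'⟩
        rw [this]
        exact N.add_mem hN hN'
      neg_mem' := by
        rintro τ ⟨h, hN⟩
        refine ⟨(Mn G F n).neg_mem h, ?_⟩
        have : of (S := SubFam.top G F) n ⟨-τ, (Mn G F n).neg_mem h⟩ =
            - of (S := SubFam.top G F) n ⟨τ, h⟩ :=
          map_neg (of (S := SubFam.top G F) n) ⟨τ, h⟩
        rw [this]
        exact N.neg_mem hN }
  le n τ hτ := hτ.1
  smul_mem {i j a} ha {τ} hτ := ⟨smul_mem_Mn ha hτ.1, by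
    have := N.smul_mem a hτ.2
    rwa [smul_of (S := SubFam.top G F) ha] at this⟩

theorem incl_mem (m : M (subOf N)) : incl (subOf N) m ∈ N := by
  classical
  induction m using DirectSum.induction_on with
  | zero => rw [map_zero]; exact N.zero_mem
  | of j τ =>
    change incl (subOf N) (of j τ) ∈ N
    rw [incl_of]
    exact τ.2.2
  | add x y hx hy => rw [map_add]; exact N.add_mem hx hy

/-- If `N` is generated by finitely many homogeneous elements, the graded module attached to `subOf N` is finite. -/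
theorem finite_subOf {ι : Type*} [Finite ι] (q : ι → ℕ) (μ : ∀ k, Mn G F (q k))
    (hN : N = Submodule.span A (Set.range fun k => of (S := SubFam.top G F) (q k) (μ k))) :
    Module.Finite A (M (subOf N)) := by
  have hsurj : ∀ x ∈ N, x ∈ LinearMap.range (inclₗ (subOf N)) := by
    intro x hx
    rw [hN] at hx
    refine Submodule.span_le.mpr ?_ hx
    rintro _ ⟨k, rfl⟩
    have hk : (μ k).1 ∈ (subOf N).K (q k) := ⟨(μ k).2, by
      rw [hN]
      exact Submodule.subset_span ⟨k, rfl⟩⟩
    exact ⟨of (q k) ⟨(μ k).1, hk⟩, incl_of _ _ _⟩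
  let e : M (subOf N) ≃ₗ[A] N := LinearEquiv.ofBijective
    ((inclₗ (subOf N)).codRestrict N (incl_mem N))
    ⟨fun m m' h => incl_injective _ (congrArg Subtype.val h),
      fun x => by
        obtain ⟨m, hm⟩ := hsurj x.1 x.2
        exact ⟨m, Subtype.ext hm⟩⟩
  have hfg : N.FG := by
    rw [hN]
    exact Submodule.fg_span (Set.finite_range _)
  have : Module.Finite A N := Module.Finite.iff_fg.mpr hfg
  exact Module.Finite.equiv e.symm

end SubOf

section CmpSub

/-- Functions on the chart `D₊(g)` are fractions `b / g ^ e`. -/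
theorem exists_eq_fracO_pow (g : G.s) (r : Γ(Proj 𝒜, Dp G g)) :
    ∃ (e : ℕ) (b : A), b ∈ 𝒜 e ∧ r = fracO (Dp G g) b (g.1 ^ e) := by
  obtain ⟨z, rfl⟩ := (awayToSection_bijective (G.deg1 _ g.2) one_pos).2 r
  obtain ⟨e, b, hb, rfl⟩ := HomogeneousLocalization.Away.mk_surjective 𝒜 (G.deg1 _ g.2) z
  have hb' : b ∈ 𝒜 e := by rwa [smul_eq_mul, mul_one] at hb
  refine ⟨e, b, hb', oval_ext fun x => ?_⟩
  rw [oval_awayToSection_mk (G.deg1 _ g.2) e b hb x, oval_fracO (isFr_num (nv_basicOpen g.1) hb')]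

variable (S : SubFam G F) (g₀ : G.s)

/-- The sections over `D₊(g₀)` which are `g₀`-components of homogeneous elements of `S`. -/
noncomputable def cmpSub : Submodule Γ(Proj 𝒜, Dp G g₀) Γ(F, Dp G g₀) where
  carrier := {σ | ∃ (q : ℕ) (m : M S), m ∈ gr S q ∧ cmp g₀ q m = σ}
  zero_mem' := ⟨0, 0, Submodule.zero_mem _, map_zero _⟩
  add_mem' := by
    rintro _ _ ⟨q, m, hm, rfl⟩ ⟨q', m', hm', rfl⟩
    have hg : ∀ k : ℕ, g₀.1 ^ k ∈ 𝒜 k := fun k => pow_mem_deg (G.deg1 _ g₀.2) k
    have h1 : g₀.1 ^ q' • m ∈ gr S (q' + q) := SetLike.GradedSMul.smul_mem (hg q') hm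
    have h2 : g₀.1 ^ q • m' ∈ gr S (q' + q) := by
      have := SetLike.GradedSMul.smul_mem (A := 𝒜) (B := gr S) (hg q) hm'
      rwa [vadd_eq_add, add_comm] at this
    refine ⟨q' + q, g₀.1 ^ q' • m + g₀.1 ^ q • m', Submodule.add_mem _ h1 h2, ?_⟩
    rw [map_add, cmp_smul (hg q') hm rfl g₀, cmp_smul (hg q) hm' (add_comm q' q) g₀,
      fracO_self (isFr_num (nv_basicOpen g₀.1) (hg q')), fracO_self (isFr_num (nv_basicOpen g₀.1) (hg q)),
      one_smul, one_smul]
  smul_mem' := by
    rintro r _ ⟨q, m, hm, rfl⟩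
    obtain ⟨e, b, hb, rfl⟩ := exists_eq_fracO_pow g₀ r
    exact ⟨e + q, b • m, SetLike.GradedSMul.smul_mem hb hm, cmp_smul hb hm rfl g₀⟩

theorem mem_cmpSub {σ : Γ(F, Dp G g₀)} :
    σ ∈ cmpSub S g₀ ↔ ∃ (q : ℕ) (m : M S), m ∈ gr S q ∧ cmp g₀ q m = σ := Iff.rfl

end CmpSub

/-- **A quasi-coherent module of finite type on `Proj 𝒜` is `N~` for a finitely generated graded module `N`**
(in the form of a graded submodule of `Γ_*(F)`). -/
theorem exists_finite_iso [F.IsQuasicoherent] [F.IsFiniteType] [QuasiSeparatedSpace (Proj 𝒜)]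
    (hcov : ⨆ g : G.s, Dp G g = ⊤) :
    ∃ S : SubFam G F, Module.Finite A (M S) ∧ Nonempty (GrTilde.tilde 𝒜 (gr S) 0 ≅ F) := by
  classical
  have hF : QcLike F := qcLike_of_isQuasicoherent F
  -- generators of the sections over the charts
  have h1 : ∀ g₀ : G.s, ∃ (I : Type u) (_ : Finite I) (τ : I → Γ(F, Dp G g₀)),
      Submodule.span Γ(Proj 𝒜, Dp G g₀) (Set.range τ) = ⊤ := by
    intro g₀
    obtain ⟨I, hI, τ, hτ⟩ := Groth.Agent.Lib.CohFinite.exists_sections_span_stalk_affine F (isAffineOpen_Dp g₀)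
    exact ⟨I, hI, τ, Groth.Agent.Lib.CohFinite.span_eq_top_of_forall_span_germ_eq_top F (isAffineOpen_Dp g₀) τ hτ⟩
  choose I hI τ hτ using h1
  -- extend them to compatible families
  have h2 : ∀ p : (Σ g₀ : G.s, I g₀), ∃ (q : ℕ) (x : ∀ g : G.s, Γ(F, Dp G g)),
      x ∈ Mn G F q ∧ x p.1 = τ p.1 p.2 := fun p => exists_family hF p.1 (τ p.1 p.2)
  choose q x hx hxτ using h2
  have : Finite (Σ g₀ : G.s, I g₀) := inferInstance
  let N : Submodule A (M (SubFam.top G F)) :=
    Submodule.span A (Set.range fun p => of (S := SubFam.top G F) (q p) ⟨x p, hx p⟩)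
  refine ⟨subOf N, finite_subOf N q (fun p => ⟨x p, hx p⟩) rfl, ?_⟩
  refine nonempty_iso_of hcov (fun g₀ σ => ?_)
  rw [← mem_cmpSub]
  have htop : cmpSub (subOf N) g₀ = ⊤ := by
    rw [eq_top_iff, ← hτ g₀, Submodule.span_le]
    rintro _ ⟨i, rfl⟩
    have hk : x ⟨g₀, i⟩ ∈ (subOf N).K (q ⟨g₀, i⟩) :=
      ⟨hx ⟨g₀, i⟩, Submodule.subset_span ⟨⟨g₀, i⟩, rfl⟩⟩
    exact ⟨q ⟨g₀, i⟩, of _ ⟨x ⟨g₀, i⟩, hk⟩, of_mem_gr _ _, (cmp_of_same g₀ _ _).trans (hxτ ⟨g₀, i⟩)⟩
  rw [htop]
  exact Submodule.mem_top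

end GStar

end Groth.Agent.Lib.H4GrTilde
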