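import Groth.Agent.Lib.H4GammaStarMap
import Groth.Agent.Lib.H78KeyLemma2
import Groth.Agent.Lib.H90OXModAffineIso

/-!
# `Γ_*(F)~ ≅ F` for quasi-coherent `F` on `Proj` (helper4, GrTilde cluster; S3550)

* `GStar.phi_injective`, `GStar.exists_family`, `GStar.phi_surjective_of` : the comparison map over the charts `D₊(g)`;
* `GStar.nonempty_iso_of` : `S~ ≅ F` for a graded submodule `S` of `Γ_*(F)` with enough elements;
* `GStar.nonempty_iso` : `Γ_*(F)~ ≅ F` for quasi-coherent `F`.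
-/

set_option autoImplicit false
set_option linter.unusedSectionVars false
universe u
open CategoryTheory AlgebraicGeometry TopologicalSpace Opposite DirectSum
open Groth.Agent.Lib.H4Twist Twist
open Groth.Agent.Lib.H78TensorGen Groth.Agent.Lib.H78Atlas Groth.Agent.Lib.H78KeyLemma Groth.Agent.Lib.H78SecAdd

namespace Groth.Agent.Lib.H4GrTilde

variable {R A : Type u} [CommRing R] [CommRing A] [Algebra R A] {𝒜 : ℕ → Submodule R A} [GradedAlgebra 𝒜]

theorem basicOpen_fracO {W : (Proj 𝒜).Opens} {a b : A} (h : IsFr W a b) :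
    (Proj 𝒜).basicOpen (fracO W a b) = W ⊓ Proj.basicOpen 𝒜 a := by
  ext x
  constructor
  · intro hx
    have hxW : x ∈ W := (Proj 𝒜).basicOpen_le _ hx
    exact ⟨hxW, (mem_basicOpen_iff_of_oval _ ⟨x, hxW⟩ a b (h.nv _) (oval_fracO h _)).mp hx⟩
  · rintro ⟨hxW, hxa⟩
    exact (mem_basicOpen_iff_of_oval _ ⟨x, hxW⟩ a b (h.nv _) (oval_fracO h _)).mpr hxa

theorem fracO_pow {W : (Proj 𝒜).Opens} {a b : A} (h : IsFr W a b) (n : ℕ) :
    fracO W a b ^ n = fracO W (a ^ n) (b ^ n) := by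
  refine oval_ext fun x => ?_
  rw [oval_pow, oval_fracO h, oval_fracO (h.pow n), Localization.mk_pow]
  rfl

namespace GStar

variable {G : Gens 𝒜} {F : (Proj 𝒜).Modules} {S : SubFam G F}

theorem isAffineOpen_Dp (g : G.s) : IsAffineOpen (Dp G g) :=
  Proj.isAffineOpen_basicOpen 𝒜 g.1 (G.deg1 _ g.2) one_pos

theorem phi_injective (hF : QcLike F) (g₀ : G.s) (t : Γ(GrTilde.tilde 𝒜 (gr S) 0, Dp G g₀))
    (h0 : phi (le_refl (Dp G g₀)) t = 0) : t = 0 := by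
  classical
  obtain ⟨k, i, m, hm, hi, hval⟩ := exists_frac' (G.deg1 _ g₀.2) one_pos t
  have hik : i = k := by
    have : (i : ℤ) = (k : ℤ) := by rw [hi]; push_cast; ring
    exact_mod_cast this
  subst hik
  have nv0 : NV (Dp G g₀) (g₀.1 ^ i) := (nv_basicOpen g₀.1).pow i
  have hrep : Rep t (Dp G g₀) i m (g₀.1 ^ i) :=
    ⟨le_rfl, hm, pow_mem_deg (G.deg1 _ g₀.2) i, nv0, fun y => hval y _⟩
  -- the component at `g₀` vanishes
  have hc0 : cmp g₀ i m = 0 := by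
    have := phi_spec (le_refl (Dp G g₀)) hrep
    rw [h0, rs_zero, fracO_self (isFr_den g₀ hrep.hs nv0), one_smul, rs_self] at this
    exact this.symm
  -- the other components are killed by a power of `g₀`
  have h1 : ∀ g' : G.s, ∃ n : ℕ, fracO (Dp G g') g₀.1 g'.1 ^ n • cmp g' i m = 0 := by
    intro g'
    have hfr : IsFr (Dp G g') g₀.1 g'.1 := IsFr.mk' (G.deg1 _ g₀.2) (G.deg1 _ g'.2) (nv_basicOpen g'.1)
    have hE : (Proj 𝒜).basicOpen (fracO (Dp G g') g₀.1 g'.1) = Dpp G g' g₀ := basicOpen_fracO hfr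
    refine hF.van (isAffineOpen_Dp g') _ _ ?_
    have e1 : rs F ((Proj 𝒜).basicOpen_le (fracO (Dp G g') g₀.1 g'.1)) (cmp g' i m) =
        rs F hE.le (rs F (inf_le_left : Dpp G g' g₀ ≤ Dp G g') (cmp g' i m)) := (rs_rs F _ _ _).symm
    rw [e1, cmp_compat hm g' g₀, hc0, rs_zero, smul_zero, rs_zero]
  choose n hn using h1
  let N := Finset.univ.sup n
  have hN : ∀ g' : G.s, cmp g' (N + i) (g₀.1 ^ N • m) = 0 := by
    intro g'
    have hfr : IsFr (Dp G g') g₀.1 g'.1 := IsFr.mk' (G.deg1 _ g₀.2) (G.deg1 _ g'.2) (nv_basicOpen g'.1)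
    rw [cmp_smul (pow_mem_deg (G.deg1 _ g₀.2) N) hm rfl g', ← fracO_pow hfr]
    exact pow_smul_eq_zero_of_le (hn g') (Finset.le_sup (Finset.mem_univ g'))
  have hzero : g₀.1 ^ N • m = 0 :=
    eq_zero_of_cmp (SetLike.GradedSMul.smul_mem (pow_mem_deg (G.deg1 _ g₀.2) N) hm) hN
  refine tsec_ext fun y => ?_
  rw [hrep.val y, tval_zero]
  exact mk_eq_zero_of_smul m _ (g₀.1 ^ N) _ ((nv_basicOpen g₀.1).pow N y) hzero

/-- Sections of a quasi-coherent module over a chart extend, after multiplication by a power of `g₀`, to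
compatible families (`= ` global sections of a twist). -/
theorem exists_family (hF : QcLike F) [QuasiSeparatedSpace (Proj 𝒜)] (g₀ : G.s) (σ : Γ(F, Dp G g₀)) :
    ∃ (q : ℕ) (x : ∀ g : G.s, Γ(F, Dp G g)), x ∈ Mn G F q ∧ x g₀ = σ := by
  classical
  have hfa : ∀ i : G.s, IsFr (Dp G i) g₀.1 i.1 := fun i =>
    IsFr.mk' (G.deg1 _ g₀.2) (G.deg1 _ i.2) (nv_basicOpen i.1)
  have hB : ∀ i : G.s, (Proj 𝒜).basicOpen (fracO (Dp G i) g₀.1 i.1) = Dpp G i g₀ := fun i =>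
    basicOpen_fracO (hfa i)
  have hBle : ∀ i : G.s, (Proj 𝒜).basicOpen (fracO (Dp G i) g₀.1 i.1) ≤ Dp G g₀ := fun i =>
    (hB i).le.trans inf_le_right
  obtain ⟨q₀, hq⟩ := Groth.Agent.Lib.H78KeyLemma2.key_ext_abs hF (V := fun i : G.s => Dp G i)
    (fun i => isAffineOpen_Dp i)
    (fun i => fracO (Dp G i) g₀.1 i.1) (fun i k => fracO (Dpp G i k) k.1 i.1) (fun _ _ => 1)
    (fun i k => by
      rw [rf_fracO (hfa i) _, rf_fracO (hfa k) _]
      exact (fracO_mul_eq (IsFr.mk' (G.deg1 _ g₀.2) (G.deg1 _ k.2) (nv_right i k))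
        (IsFr.mk' (G.deg1 _ k.2) (G.deg1 _ i.2) (nv_left i k))
        (IsFr.mk' (G.deg1 _ g₀.2) (G.deg1 _ i.2) (nv_left i k)) (by ring)).symm)
    (fun i => rs F (hBle i) σ)
    (fun i k Q hQi hQk hQ => by
      rw [rs_rs, rs_rs, rf, map_one, one_smul])
  obtain ⟨x, hx1, hx2⟩ := hq q₀ le_rfl
  -- the compatible family
  have hxM : x ∈ Mn G F q₀ := by
    intro g g'
    rw [hx2 g g', mul_one, fracO_pow (IsFr.mk' (G.deg1 _ g'.2) (G.deg1 _ g.2) (nv_left g g'))]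
  refine ⟨q₀, x, hxM, ?_⟩
  -- `x g₀ = σ`
  have h2 := hx1 g₀
  have e : rf ((Proj 𝒜).basicOpen_le (fracO (Dp G g₀) g₀.1 g₀.1)) (fracO (Dp G g₀) g₀.1 g₀.1) = 1 := by
    have key : ∀ {V W : (Proj 𝒜).Opens} (h : W ≤ V) (a : Γ(Proj 𝒜, V)), a = 1 → rf h a = 1 := by
      intro V W h a ha
      rw [ha, rf, map_one]
    exact key _ _ (fracO_self (hfa g₀))
  rw [e, one_pow, one_smul] at h2
  have hle : Dp G g₀ ≤ (Proj 𝒜).basicOpen (fracO (Dp G g₀) g₀.1 g₀.1) := by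
    rw [hB g₀]
    exact le_inf le_rfl le_rfl
  have h3 := congrArg (rs F hle) h2
  rw [rs_rs, rs_rs, rs_self, rs_self] at h3
  exact h3

theorem phi_surjective_of (g₀ : G.s) (σ : Γ(F, Dp G g₀))
    (h : ∃ (q : ℕ) (m : M S), m ∈ gr S q ∧ cmp g₀ q m = σ) :
    ∃ t : Γ(GrTilde.tilde 𝒜 (gr S) 0, Dp G g₀), phi (le_refl (Dp G g₀)) t = σ := by
  obtain ⟨q₀, m, hm, hmx⟩ := h
  have nv0 : NV (Dp G g₀) (g₀.1 ^ q₀) := (nv_basicOpen g₀.1).pow q₀
  have hs0 : g₀.1 ^ q₀ ∈ 𝒜 q₀ := pow_mem_deg (G.deg1 _ g₀.2) q₀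
  refine ⟨fracSec (n := 0) hm hs0 (by simp) (Dp G g₀) nv0, ?_⟩
  have hrep : Rep (fracSec (ℳ := gr S) (n := 0) hm hs0 (by simp) (Dp G g₀) nv0) (Dp G g₀) q₀ m (g₀.1 ^ q₀) :=
    ⟨le_rfl, hm, hs0, nv0, fun y => rfl⟩
  have h1 := phi_spec (le_refl (Dp G g₀)) hrep
  rw [rs_self, fracO_self (isFr_den g₀ hs0 nv0), one_smul, rs_self, hmx] at h1
  exact h1

/-- `S~ ≅ F` for a graded submodule `S` of `Γ_*(F)`, `F` quasi-coherent, as soon as every section of `F` over a chart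
`D₊(g₀)` is the `g₀`-component of a homogeneous element of `S`. -/
theorem nonempty_iso_of [F.IsQuasicoherent] (hcov : ⨆ g : G.s, Dp G g = ⊤)
    (hsurj : ∀ (g₀ : G.s) (σ : Γ(F, Dp G g₀)), ∃ (q : ℕ) (m : M S), m ∈ gr S q ∧ cmp g₀ q m = σ) :
    Nonempty (GrTilde.tilde 𝒜 (gr S) 0 ≅ F) := by
  have hF : QcLike F := qcLike_of_isQuasicoherent F
  obtain ⟨f, hf⟩ := exists_hom (S := S) hcov
  have : (GrTilde.tilde 𝒜 (gr S) 0).IsQuasicoherent := isQCoh_tilde (ℳ := gr S) 0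
  have : IsIso f := Groth.Agent.Lib.H90OXModAffineIso.isIso_of_bijective_app_affine_cover f
    (fun g : G.s => Dp G g) hcov (fun g => isAffineOpen_Dp g) (fun g => by
      constructor
      · intro t t' htt
        have h0 : phi (le_refl (Dp G g)) (t - t') = 0 := by
          have e : t = (t - t') + t' := (sub_add_cancel t t').symm
          have h1 : phi (le_refl (Dp G g)) t = phi (le_refl (Dp G g)) (t - t') + phi (le_refl (Dp G g)) t' := by
            conv_lhs => rw [e]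
            exact phi_add _ _ _
          rw [← hf g _ (le_refl _) t, ← hf g _ (le_refl _) t', htt] at h1
          exact (add_eq_right.mp h1.symm)
        exact sub_eq_zero.mp (phi_injective hF g _ h0)
      · intro σ
        obtain ⟨t, ht⟩ := phi_surjective_of g σ (hsurj g σ)
        exact ⟨t, (hf g _ (le_refl _) t).trans ht⟩)
  exact ⟨asIso f⟩

/-- **`Γ_*(F)~ ≅ F`** for a quasi-coherent module `F` on `Proj 𝒜`, when the charts `D₊(g)`, `g ∈ G.s`, cover. -/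
theorem nonempty_iso [F.IsQuasicoherent] [QuasiSeparatedSpace (Proj 𝒜)] (hcov : ⨆ g : G.s, Dp G g = ⊤) :
    Nonempty (GrTilde.tilde 𝒜 (gr (SubFam.top G F)) 0 ≅ F) := by
  refine nonempty_iso_of hcov (fun g₀ σ => ?_)
  obtain ⟨q, x, hx, hxσ⟩ := exists_family (qcLike_of_isQuasicoherent F) g₀ σ
  obtain ⟨m, hm, hmx⟩ := exists_of_compat (S := SubFam.top G F) hx
  exact ⟨q, m, hm, (hmx g₀).trans hxσ⟩

end GStar

end Groth.Agent.Lib.H4GrTilde
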