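import Groth.Agent.Lib.H4GammaStar
import Groth.Agent.S3587
import Groth.Agent.Lib.H90OXModLocal

/-!
# The comparison map `Γ_*(F)~ ⟶ F` on `Proj` (helper4, GrTilde cluster; towards S3550/S3551)

* `GStar.cmp g n : Γ_*(F) →+ Γ(D₊(g), F)` : the `g`-component in degree `n`; `cmp_smul`, `cmp_compat`;
* `GStar.ind` : independence of the local section `(g^j / s) • m|_g` of the fraction `m / s`;
* `GStar.phi g hW : Γ(Γ_*(F)~, W) → Γ(F, W)` for `W ≤ D₊(g)`, characterized by `phi_spec`, `phi_eq_of`;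
* `GStar.exists_hom` : the morphism `Γ_*(F)~ ⟶ F`.
-/

set_option autoImplicit false
set_option linter.unusedSectionVars false
universe u
open CategoryTheory AlgebraicGeometry TopologicalSpace Opposite DirectSum
open Groth.Agent.Lib.H4Twist Twist
open Groth.Agent.Lib.H78TensorGen Groth.Agent.Lib.H78Atlas Groth.Agent.Lib.H78KeyLemma Groth.Agent.Lib.H78SecAdd

namespace Groth.Agent.Lib.H4GrTilde

variable {R A : Type u} [CommRing R] [CommRing A] [Algebra R A] {𝒜 : ℕ → Submodule R A} [GradedAlgebra 𝒜]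

/-- An element outside a homogeneous prime has a homogeneous component outside it. -/
theorem exists_component_notMem (x : ProjectiveSpectrum 𝒜) {u : A} (hu : u ∉ x.asHomogeneousIdeal) :
    ∃ e, (DirectSum.decompose 𝒜 u e : A) ∉ x.asHomogeneousIdeal := by
  classical
  by_contra hcon
  apply hu
  rw [← DirectSum.sum_support_decompose 𝒜 u]
  refine Ideal.sum_mem _ (fun e _ => ?_)
  by_contra he
  exact hcon ⟨e, he⟩

namespace GStar

variable {G : Gens 𝒜} {F : (Proj 𝒜).Modules} {S : SubFam G F}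

/-- The `g`-component in degree `n`. -/
noncomputable def cmp (g : G.s) (n : ℕ) : M S →+ Γ(F, Dp G g) where
  toFun m := (m n).1 g
  map_zero' := rfl
  map_add' _ _ := rfl

theorem cmp_of_same (g : G.s) (n : ℕ) (τ : S.K n) : cmp g n (of n τ) = τ.1 g := by
  show ((DirectSum.of (fun n => S.K n) n τ) n).1 g = τ.1 g
  rw [DirectSum.of_eq_same]

theorem cmp_smul {i n N : ℕ} {a : A} (ha : a ∈ 𝒜 i) {m : M S} (hm : m ∈ gr S n) (hN : N = i + n)
    (g : G.s) : cmp g N (a • m) = fracO (Dp G g) a (g.1 ^ i) • cmp g n m := by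
  obtain ⟨τ, rfl⟩ := hm
  subst hN
  rw [smul_of ha τ, cmp_of_same, cmp_of_same]

theorem cmp_compat {n : ℕ} {m : M S} (hm : m ∈ gr S n) (g g' : G.s) :
    rs F (inf_le_left : Dpp G g g' ≤ Dp G g) (cmp g n m) =
      fracO (Dpp G g g') (g'.1 ^ n) (g.1 ^ n) • rs F (inf_le_right : Dpp G g g' ≤ Dp G g') (cmp g' n m) := by
  obtain ⟨τ, rfl⟩ := hm
  rw [cmp_of_same, cmp_of_same]
  exact S.le n τ.2 g g'

theorem exists_of_compat {n : ℕ} {τ : ∀ g : G.s, Γ(F, Dp G g)} (hτ : τ ∈ S.K n) :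
    ∃ m : M S, m ∈ gr S n ∧ ∀ g, cmp g n m = τ g :=
  ⟨of n ⟨τ, hτ⟩, of_mem_gr _ _, fun g => cmp_of_same g n _⟩

theorem eq_zero_of_cmp {n : ℕ} {m : M S} (hm : m ∈ gr S n) (h : ∀ g, cmp g n m = 0) : m = 0 := by
  obtain ⟨τ, rfl⟩ := hm
  have : τ = 0 := by
    apply Subtype.ext
    funext g
    rw [← cmp_of_same g n τ, h g]
    rfl
  rw [this, map_zero]

/-- Change of chart for the local section attached to a fraction. -/
theorem chart_indep {V : (Proj 𝒜).Opens} {g g' : G.s} (hV : V ≤ Dp G g) (hV' : V ≤ Dp G g') {j : ℕ}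
    {m : M S} (hm : m ∈ gr S j) {s : A} (hs : s ∈ 𝒜 j) (nv : NV V s) :
    fracO V (g.1 ^ j) s • rs F hV (cmp g j m) = fracO V (g'.1 ^ j) s • rs F hV' (cmp g' j m) := by
  have hle : V ≤ Dpp G g g' := le_inf hV hV'
  have e1 : rs F hV (cmp g j m) = rs F hle (rs F inf_le_left (cmp g j m)) := (rs_rs F _ _ _).symm
  have e2 : rs F hV' (cmp g' j m) = rs F hle (rs F inf_le_right (cmp g' j m)) := (rs_rs F _ _ _).symm
  have nvg : NV V g.1 := (nv_basicOpen g.1).mono hV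
  rw [e1, e2, cmp_compat hm g g', rs_smul, rf_fracO (isFr_tr g g' (nv_left g g') j) hle, ← mul_smul,
    fracO_mul_eq (isFr_den g hs nv) (isFr_tr g g' nvg j) (isFr_den g' hs nv) (by ring)]

/-- Independence of the local section `(g^j / s) • m|_g` of the representation of the fraction `m / s`. -/
theorem ind {V : (Proj 𝒜).Opens} {g : G.s} (hV : V ≤ Dp G g) {j j' : ℕ} {m m' : M S}
    (hm : m ∈ gr S j) (hm' : m' ∈ gr S j') {s s' : A} (hs : s ∈ 𝒜 j) (hs' : s' ∈ 𝒜 j')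
    (nv : NV V s) (nv' : NV V s')
    (h : ∀ y : V, (LocalizedModule.mk m ⟨s, nv y⟩ : GrTilde.LocMod 𝒜 (M := M S) y.1) =
      LocalizedModule.mk m' ⟨s', nv' y⟩) :
    fracO V (g.1 ^ j) s • rs F hV (cmp g j m) = fracO V (g.1 ^ j') s' • rs F hV (cmp g j' m') := by
  refine sec_ext F _ _ (fun y hy => ?_)
  -- a homogeneous multiplier
  obtain ⟨u, hu⟩ := LocalizedModule.mk_eq.mp (h ⟨y, hy⟩)
  have hu' : u.1 • (s' • m - s • m') = 0 := by
    have : (u : A) • s' • m = (u : A) • s • m' := hu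
    rw [smul_sub, this, sub_self]
  have hz : s' • m - s • m' ∈ gr S (j + j') := by
    refine Submodule.sub_mem _ ?_ (SetLike.GradedSMul.smul_mem hs hm')
    have := SetLike.GradedSMul.smul_mem (A := 𝒜) (B := gr S) hs' hm
    rwa [vadd_eq_add, add_comm] at this
  have hhom := Groth.Agent.S3587.ann_isHomogeneous 𝒜 (gr S) (j + j') _ hz
  obtain ⟨e, he⟩ := exists_component_notMem y u.2
  have hw : (DirectSum.decompose 𝒜 u.1 e : A) • (s' • m - s • m') = 0 :=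
    (Groth.Agent.S3587.mem_ann _ _).mp (hhom e ((Groth.Agent.S3587.mem_ann _ _).mpr hu'))
  obtain ⟨w, hwdef⟩ : ∃ w : A, w = (DirectSum.decompose 𝒜 u.1 e : A) := ⟨_, rfl⟩
  have hwe : w ∈ 𝒜 e := hwdef ▸ (DirectSum.decompose 𝒜 u.1 e).2
  rw [← hwdef] at hw he
  have hkey : (w * s') • m = (w * s) • m' := by
    rw [mul_smul, mul_smul, ← sub_eq_zero, ← smul_sub, hw]
  -- the neighbourhood
  let V' : (Proj 𝒜).Opens := V ⊓ Proj.basicOpen 𝒜 w
  have hV' : V' ≤ V := inf_le_left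
  have nvw : NV V' w := nv_inf_right V w
  have nvs : NV V' s := nv.mono hV'
  have nvs' : NV V' s' := nv'.mono hV'
  have nvg : NV V' g.1 := (nv_basicOpen g.1).mono (hV'.trans hV)
  refine ⟨V', hV', ⟨hy, he⟩, ?_⟩
  -- the key identity on components
  have hc := congrArg (cmp g (e + j' + j)) hkey
  rw [cmp_smul (SetLike.mul_mem_graded hwe hs') hm rfl g,
    cmp_smul (SetLike.mul_mem_graded hwe hs) hm' (by omega) g] at hc
  have hc' := congrArg (rs F (hV'.trans hV)) hc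
  rw [rs_smul, rs_smul, rf_fracO (isFr_num (nv_basicOpen g.1) (SetLike.mul_mem_graded hwe hs')) _,
    rf_fracO (isFr_num (nv_basicOpen g.1) (SetLike.mul_mem_graded hwe hs)) _] at hc'
  have hK : IsFr V' (g.1 ^ (e + j + j')) (w * s * s') :=
    isFr_den g (SetLike.mul_mem_graded (SetLike.mul_mem_graded hwe hs) hs') ((nvw.mul nvs).mul nvs')
  have e1 : fracO V' (g.1 ^ (e + j + j')) (w * s * s') * fracO V' (w * s') (g.1 ^ (e + j')) =
      fracO V' (g.1 ^ j) s :=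
    fracO_mul_eq hK (isFr_num nvg (SetLike.mul_mem_graded hwe hs')) (isFr_den g hs nvs) (by ring)
  have e2 : fracO V' (g.1 ^ (e + j + j')) (w * s * s') * fracO V' (w * s) (g.1 ^ (e + j)) =
      fracO V' (g.1 ^ j') s' :=
    fracO_mul_eq hK (isFr_num nvg (SetLike.mul_mem_graded hwe hs)) (isFr_den g hs' nvs') (by ring)
  rw [rs_smul, rs_smul, rs_rs, rs_rs, rf_fracO (isFr_den g hs nv) hV', rf_fracO (isFr_den g hs' nv') hV',
    ← e1, ← e2, mul_smul, mul_smul, hc']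

section Phi

variable {W : (Proj 𝒜).Opens}

/-- `t` is the fraction `m / s` on `V`. -/
structure Rep (t : Γ(GrTilde.tilde 𝒜 (gr S) 0, W)) (V : (Proj 𝒜).Opens) (j : ℕ) (m : M S) (s : A) :
    Prop where
  le : V ≤ W
  hm : m ∈ gr S j
  hs : s ∈ 𝒜 j
  nv : NV V s
  val : ∀ y : V, tval t ⟨y.1, le y.2⟩ = LocalizedModule.mk m ⟨s, nv y⟩

theorem exists_rep (t : Γ(GrTilde.tilde 𝒜 (gr S) 0, W)) (x : W) :
    ∃ (V : (Proj 𝒜).Opens) (j : ℕ) (m : M S) (s : A), x.1 ∈ V ∧ Rep t V j m s := by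
  obtain ⟨V, hxV, iVW, i, j, m, s, s_nin, hdeg, hval⟩ :=
    (show GrTilde.sect 𝒜 (gr S) 0 (op W) from t).2 x
  rcases hdeg with hdeg | hdeg
  · have hij : i = j := by
      have : (i : ℤ) = (j : ℤ) := by rw [hdeg, add_zero]
      exact_mod_cast this
    subst hij
    exact ⟨V, i, m.1, s.1, hxV, ⟨iVW.le, m.2, s.2, s_nin, fun y => hval y⟩⟩
  · refine ⟨V, j, 0, s.1, hxV, ⟨iVW.le, Submodule.zero_mem _, s.2, s_nin, fun y => ?_⟩⟩
    have := hval y
    rw [hdeg] at this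
    exact this

theorem Rep.mono {t : Γ(GrTilde.tilde 𝒜 (gr S) 0, W)} {V V' : (Proj 𝒜).Opens} {j : ℕ} {m : M S} {s : A}
    (h : Rep t V j m s) (hV : V' ≤ V) : Rep t V' j m s :=
  ⟨hV.trans h.le, h.hm, h.hs, h.nv.mono hV, fun y => h.val ⟨y.1, hV y.2⟩⟩

variable {g : G.s} (hW : W ≤ Dp G g)

/-- Two representations of `t` give the same local section on the overlap. -/
theorem rep_ind {t : Γ(GrTilde.tilde 𝒜 (gr S) 0, W)} {V V' : (Proj 𝒜).Opens} {j j' : ℕ} {m m' : M S}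
    {s s' : A} (h : Rep t V j m s) (h' : Rep t V' j' m' s') :
    rs F (inf_le_left : V ⊓ V' ≤ V) (fracO V (g.1 ^ j) s • rs F (h.le.trans hW) (cmp g j m)) =
      rs F (inf_le_right : V ⊓ V' ≤ V') (fracO V' (g.1 ^ j') s' • rs F (h'.le.trans hW) (cmp g j' m')) := by
  have h1 := h.mono (inf_le_left : V ⊓ V' ≤ V)
  have h2 := h'.mono (inf_le_right : V ⊓ V' ≤ V')
  rw [rs_smul, rs_smul, rs_rs, rs_rs, rf_fracO (isFr_den g h.hs h.nv) _, rf_fracO (isFr_den g h'.hs h'.nv) _]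
  exact ind (h1.le.trans hW) h.hm h'.hm h.hs h'.hs h1.nv h2.nv (fun y => (h1.val y).symm.trans (h2.val y))

theorem exists_phi (t : Γ(GrTilde.tilde 𝒜 (gr S) 0, W)) :
    ∃ σ : Γ(F, W), ∀ (V : (Proj 𝒜).Opens) (j : ℕ) (m : M S) (s : A) (h : Rep t V j m s),
      rs F h.le σ = fracO V (g.1 ^ j) s • rs F (h.le.trans hW) (cmp g j m) := by
  choose V j m s hxV hrep using exists_rep t
  obtain ⟨σ, hσ⟩ := sec_glue F V (fun x => (hrep x).le)
    (fun y hy => Opens.mem_iSup.2 ⟨⟨y, hy⟩, hxV ⟨y, hy⟩⟩)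
    (fun x => fracO (V x) (g.1 ^ j x) (s x) • rs F ((hrep x).le.trans hW) (cmp g (j x) (m x)))
    (fun x x' => rep_ind hW (hrep x) (hrep x'))
  refine ⟨σ, fun V' j' m' s' h' => sec_ext F _ _ (fun y hy => ?_)⟩
  let x : W := ⟨y, h'.le hy⟩
  refine ⟨V' ⊓ V x, inf_le_left, ⟨hy, hxV x⟩, ?_⟩
  have e1 : rs F (inf_le_left : V' ⊓ V x ≤ V') (rs F h'.le σ) =
      rs F (inf_le_right : V' ⊓ V x ≤ V x) (rs F (hrep x).le σ) := by
    rw [rs_rs, rs_rs]
  rw [e1, hσ x]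
  exact (rep_ind hW h' (hrep x)).symm

/-- The comparison map on sections over an open contained in the chart `D₊(g)`. -/
noncomputable def phi (t : Γ(GrTilde.tilde 𝒜 (gr S) 0, W)) : Γ(F, W) := (exists_phi hW t).choose

theorem phi_spec {t : Γ(GrTilde.tilde 𝒜 (gr S) 0, W)} {V : (Proj 𝒜).Opens} {j : ℕ} {m : M S} {s : A}
    (h : Rep t V j m s) :
    rs F h.le (phi hW t) = fracO V (g.1 ^ j) s • rs F (h.le.trans hW) (cmp g j m) :=
  (exists_phi hW t).choose_spec V j m s h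

/-- Characterization of `phi`. -/
theorem phi_eq_of {t : Γ(GrTilde.tilde 𝒜 (gr S) 0, W)} (σ : Γ(F, W))
    (H : ∀ x : W, ∃ (V : (Proj 𝒜).Opens) (j : ℕ) (m : M S) (s : A) (h : Rep t V j m s), x.1 ∈ V ∧
      rs F h.le σ = fracO V (g.1 ^ j) s • rs F (h.le.trans hW) (cmp g j m)) :
    phi hW t = σ := by
  refine sec_ext F _ _ (fun y hy => ?_)
  obtain ⟨V, j, m, s, h, hyV, hσ⟩ := H ⟨y, hy⟩
  exact ⟨V, h.le, hyV, by rw [phi_spec hW h, hσ]⟩

end Phi

section PhiProps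

variable {W : (Proj 𝒜).Opens} {g : G.s} (hW : W ≤ Dp G g)

theorem phi_add (t t' : Γ(GrTilde.tilde 𝒜 (gr S) 0, W)) : phi hW (t + t') = phi hW t + phi hW t' := by
  refine phi_eq_of hW _ (fun x => ?_)
  obtain ⟨V, j, m, s, hxV, h⟩ := exists_rep t x
  obtain ⟨V', j', m', s', hxV', h'⟩ := exists_rep t' x
  have h1 := h.mono (inf_le_left : V ⊓ V' ≤ V)
  have h2 := h'.mono (inf_le_right : V ⊓ V' ≤ V')
  have hm'' : s' • m + s • m' ∈ gr S (j + j') := by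
    refine Submodule.add_mem _ ?_ (SetLike.GradedSMul.smul_mem h.hs h'.hm)
    have := SetLike.GradedSMul.smul_mem (A := 𝒜) (B := gr S) h'.hs h.hm
    rwa [vadd_eq_add, add_comm] at this
  have hrep : Rep (t + t') (V ⊓ V') (j + j') (s' • m + s • m') (s * s') :=
    ⟨h1.le, hm'', SetLike.mul_mem_graded h.hs h'.hs, h1.nv.mul h2.nv, fun y => by
      rw [tval_add, h1.val y, h2.val y, LocalizedModule.mk_add_mk]
      rfl⟩
  refine ⟨V ⊓ V', j + j', s' • m + s • m', s * s', hrep, ⟨hxV, hxV'⟩, ?_⟩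
  have nvg : NV (V ⊓ V') g.1 := (nv_basicOpen g.1).mono (h1.le.trans hW)
  have hK : IsFr (V ⊓ V') (g.1 ^ (j + j')) (s * s') := isFr_den g hrep.hs hrep.nv
  rw [rs_add, phi_spec hW h1, phi_spec hW h2, map_add, cmp_smul h'.hs h.hm (add_comm j j') g,
    cmp_smul h.hs h'.hm rfl g, rs_add, rs_smul, rs_smul,
    rf_fracO (isFr_num (nv_basicOpen g.1) h'.hs) _, rf_fracO (isFr_num (nv_basicOpen g.1) h.hs) _,
    smul_add, ← mul_smul, ← mul_smul,
    fracO_mul_eq hK (isFr_num nvg h'.hs) (isFr_den g h.hs h1.nv) (by ring),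
    fracO_mul_eq hK (isFr_num nvg h.hs) (isFr_den g h'.hs h2.nv) (by ring)]

theorem phi_smul (r : Γ(Proj 𝒜, W)) (t : Γ(GrTilde.tilde 𝒜 (gr S) 0, W)) :
    phi hW (r • t) = r • phi hW t := by
  refine phi_eq_of hW _ (fun x => ?_)
  obtain ⟨V, j, m, s, hxV, h⟩ := exists_rep t x
  obtain ⟨V', hV', a, b, hxV', hfr, hr⟩ := exists_rf_eq_fracO r x
  obtain ⟨d, ha, hb⟩ := hfr.deg
  have h1 := h.mono (inf_le_left : V ⊓ V' ≤ V)
  have hfr1 : IsFr (V ⊓ V') a b := hfr.mono inf_le_right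
  have hr1 : rf h1.le r = fracO (V ⊓ V') a b := by
    rw [← rf_fracO hfr (inf_le_right : V ⊓ V' ≤ V'), ← hr, rf_rf]
  have hrep : Rep (r • t) (V ⊓ V') (d + j) (a • m) (b * s) :=
    ⟨h1.le, SetLike.GradedSMul.smul_mem ha h.hm, SetLike.mul_mem_graded hb h.hs, hfr1.nv.mul h1.nv, fun y => by
      have e : oval r ⟨y.1, h1.le y.2⟩ = Localization.mk a ⟨b, hfr1.nv y⟩ := by
        rw [← oval_fracO hfr1 y, ← hr1]
        rfl
      rw [tval_smul, h1.val y, e, LocalizedModule.mk_smul_mk]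
      rfl⟩
  refine ⟨V ⊓ V', d + j, a • m, b * s, hrep, ⟨hxV, hxV'⟩, ?_⟩
  have nvg : NV (V ⊓ V') g.1 := (nv_basicOpen g.1).mono (h1.le.trans hW)
  have hK : IsFr (V ⊓ V') (a * g.1 ^ j) (b * s) :=
    IsFr.mk' (SetLike.mul_mem_graded ha (pow_mem_deg (G.deg1 _ g.2) j)) hrep.hs hrep.nv
  rw [rs_smul, hr1, phi_spec hW h1, cmp_smul ha h.hm rfl g, rs_smul,
    rf_fracO (isFr_num (nv_basicOpen g.1) ha) _, ← mul_smul, ← mul_smul,
    fracO_mul_eq hfr1 (isFr_den g h.hs h1.nv) hK (by ring),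
    fracO_mul_eq (isFr_den g hrep.hs hrep.nv) (isFr_num nvg ha) hK (by ring)]

theorem phi_chart {g' : G.s} (hW' : W ≤ Dp G g') (t : Γ(GrTilde.tilde 𝒜 (gr S) 0, W)) :
    phi hW t = phi hW' t := by
  refine phi_eq_of hW _ (fun x => ?_)
  obtain ⟨V, j, m, s, hxV, h⟩ := exists_rep t x
  refine ⟨V, j, m, s, h, hxV, ?_⟩
  rw [phi_spec hW' h]
  exact (chart_indep (h.le.trans hW) (h.le.trans hW') h.hm h.hs h.nv).symm

theorem phi_res {W' : (Proj 𝒜).Opens} (hWW : W' ≤ W) (t : Γ(GrTilde.tilde 𝒜 (gr S) 0, W)) :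
    rs F hWW (phi hW t) = phi (hWW.trans hW) (rs (GrTilde.tilde 𝒜 (gr S) 0) hWW t) := by
  symm
  refine phi_eq_of _ _ (fun x => ?_)
  obtain ⟨V, j, m, s, hxV, h⟩ := exists_rep t ⟨x.1, hWW x.2⟩
  have hrep : Rep (rs (GrTilde.tilde 𝒜 (gr S) 0) hWW t) (V ⊓ W') j m s :=
    ⟨inf_le_right, h.hm, h.hs, h.nv.mono inf_le_left, fun y => by
      rw [tval_res]
      exact h.val ⟨y.1, y.2.1⟩⟩
  refine ⟨V ⊓ W', j, m, s, hrep, ⟨hxV, x.2⟩, ?_⟩
  rw [rs_rs]
  exact phi_spec hW (h.mono (inf_le_left : V ⊓ W' ≤ V))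

end PhiProps

/-- The comparison morphism `Γ_*(F)~ ⟶ F`. -/
theorem exists_hom (hcov : ⨆ g : G.s, Dp G g = ⊤) :
    ∃ f : GrTilde.tilde 𝒜 (gr S) 0 ⟶ F, ∀ (g : G.s) (W : (Proj 𝒜).Opens) (hW : W ≤ Dp G g)
      (t : Γ(GrTilde.tilde 𝒜 (gr S) 0, W)), f.app W t = phi hW t := by
  obtain ⟨f, hf⟩ := Groth.Agent.Lib.H90OXModLocal.exists_hom_of_small (U := fun g : G.s => Dp G g) hcov
    (M := GrTilde.tilde 𝒜 (gr S) 0) (N := F)
    (fun W hW => AddCommGrpCat.ofHom (AddMonoidHom.mk' (phi hW.choose_spec) (phi_add hW.choose_spec)))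
    (fun W W' hW hW' h t => by
      change rs F h (phi hW.choose_spec t) = phi hW'.choose_spec (rs (GrTilde.tilde 𝒜 (gr S) 0) h t)
      rw [phi_res hW.choose_spec h t]
      exact phi_chart _ _ _)
    (fun W hW r t => phi_smul hW.choose_spec r t)
  refine ⟨f, fun g W hW t => ?_⟩
  rw [hf W ⟨g, hW⟩]
  exact phi_chart (Exists.choose_spec (⟨g, hW⟩ : ∃ i : G.s, W ≤ Dp G i)) hW t

end GStar

end Groth.Agent.Lib.H4GrTilde
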