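import Groth.Agent.Lib.H4GrTildeQCoh

/-!
# Graded algebra for `M~ = 0 ⇔ (TN)` (helper4, GrTilde cluster)

* `mem_irrelevant_pow` : if `A₊` is generated by `A₁` then `A_t ⊆ (A₊)^t`;
* `exists_pow_smul_eq_zero_of_TN` : if `M_k = 0` for `k ≥ n` then every `z` is killed by `f ^ n`, `f` homogeneous of
  positive degree;
* `TN_of_forall_exists_pow_smul_eq_zero` : conversely, under (TF), `A₊` finitely generated and generated in degree one.
-/

set_option autoImplicit false
set_option linter.unusedSectionVars false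
universe u
open CategoryTheory AlgebraicGeometry TopologicalSpace Opposite

namespace Groth.Agent.Lib.H4GrTilde

variable {R A : Type u} [CommRing R] [CommRing A] [Algebra R A] {𝒜 : ℕ → Submodule R A} [GradedAlgebra 𝒜]

/-- If the irrelevant ideal is generated in degree one, then `A_t ⊆ (A₊)^t`. -/
theorem mem_irrelevant_pow (hgen : (HomogeneousIdeal.irrelevant 𝒜).toIdeal = Ideal.span (𝒜 1 : Set A)) :
    ∀ (t : ℕ) (a : A), a ∈ 𝒜 t → a ∈ (HomogeneousIdeal.irrelevant 𝒜).toIdeal ^ t := by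
  classical
  intro t
  induction t with
  | zero => intro a _; simp
  | succ t ih =>
    intro a ha
    have h1 : a ∈ (HomogeneousIdeal.irrelevant 𝒜).toIdeal :=
      HomogeneousIdeal.mem_irrelevant_of_mem 𝒜 (Nat.succ_pos t) ha
    rw [hgen] at h1
    obtain ⟨n, f, g, hfg⟩ := Submodule.mem_span_set'.mp h1
    have h2 : a = ∑ i, (DirectSum.decompose 𝒜 (f i) t : A) * (g i : A) := by
      have := congrArg (fun x => (DirectSum.decompose 𝒜 x (t + 1) : A)) hfg
      simp only at this
      rw [DirectSum.decompose_of_mem_same 𝒜 ha] at this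
      rw [← this, DirectSum.decompose_sum, DFinsupp.finsetSum_apply, AddSubmonoidClass.coe_finsetSum]
      refine Finset.sum_congr rfl fun i _ => ?_
      rw [smul_eq_mul]
      exact DirectSum.coe_decompose_mul_add_of_right_mem 𝒜 (a := f i) (i := t) (g i).2
    rw [h2, pow_succ]
    refine Ideal.sum_mem _ fun i _ => Ideal.mul_mem_mul (ih _ (SetLike.coe_mem _)) ?_
    rw [hgen]
    exact Ideal.subset_span (g i).2

variable {M : Type u} [AddCommGroup M] [Module R M] [Module A M] [IsScalarTower R A M]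
  {ℳ : ℕ → Submodule R M} [DirectSum.Decomposition ℳ] [SetLike.GradedSMul 𝒜 ℳ]

/-- (TN) implies that every element is killed by powers of homogeneous elements of positive degree. -/
theorem exists_pow_smul_eq_zero_of_TN {n : ℕ} (hn : ∀ k : ℕ, n ≤ k → ℳ k = ⊥)
    (z : M) (d : ℕ) (f : A) (hd : 0 < d) (hf : f ∈ 𝒜 d) : ∃ k : ℕ, f ^ k • z = 0 := by
  classical
  refine ⟨n, ?_⟩
  rw [← DirectSum.sum_support_decompose ℳ z, Finset.smul_sum]
  refine Finset.sum_eq_zero fun i _ => ?_
  have h1 : f ^ n ∈ 𝒜 (n • d) := SetLike.pow_mem_graded n hf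
  have h0 : (DirectSum.decompose ℳ z i : M) ∈ ℳ i := SetLike.coe_mem _
  have h2 : f ^ n • (DirectSum.decompose ℳ z i : M) ∈ ℳ (n • d + i) :=
    SetLike.GradedSMul.smul_mem h1 h0
  have h3 : n ≤ n • d + i := by
    rw [smul_eq_mul]
    have := Nat.le_mul_of_pos_right n hd
    omega
  rw [hn _ h3] at h2
  exact (Submodule.mem_bot R).mp h2

/-- Under (TF), with `A₊` finitely generated and generated in degree one: if every element is killed by powers of
the degree-one elements, then (TN) holds. -/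
theorem TN_of_forall_exists_pow_smul_eq_zero
    (hfg : (HomogeneousIdeal.irrelevant 𝒜).toIdeal.FG)
    (hgen : (HomogeneousIdeal.irrelevant 𝒜).toIdeal = Ideal.span (𝒜 1 : Set A))
    (hTF : ∃ n : ℕ, (Submodule.span A (⋃ k ∈ Set.Ici n, (ℳ k : Set M))).FG)
    (H : ∀ (z : M) (f : A), f ∈ 𝒜 1 → ∃ k : ℕ, f ^ k • z = 0) :
    ∃ n : ℕ, ∀ k : ℕ, n ≤ k → ℳ k = ⊥ := by
  classical
  obtain ⟨n₀, hN⟩ := hTF
  obtain ⟨T, hTsub, hTspan⟩ := (Submodule.fg_span_iff_fg_span_finset_subset _).mp hN
  -- degrees of the generators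
  have hdeg : ∀ z : M, ∃ d : ℕ, z ∈ (T : Set M) → z ∈ ℳ d := by
    intro z
    by_cases hz : z ∈ (T : Set M)
    · have := hTsub hz
      simp only [Set.mem_iUnion] at this
      obtain ⟨d, -, hd⟩ := this
      exact ⟨d, fun _ => hd⟩
    · exact ⟨0, fun h => absurd h hz⟩
  choose dg hdg using hdeg
  -- powers of the irrelevant ideal kill the generators
  have hkill : ∀ z : M, ∃ m : ℕ, ∀ a ∈ (HomogeneousIdeal.irrelevant 𝒜).toIdeal ^ m, a • z = 0 := by
    intro z
    have hle : (HomogeneousIdeal.irrelevant 𝒜).toIdeal ≤ (Groth.Agent.S3587.ann (A := A) z).radical := by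
      rw [hgen, Ideal.span_le]
      intro g hg
      obtain ⟨k, hk⟩ := H z g hg
      exact ⟨k, (Groth.Agent.S3587.mem_ann z _).mpr hk⟩
    obtain ⟨m, hm⟩ := Ideal.exists_pow_le_of_le_radical_of_fg hle hfg
    exact ⟨m, fun a ha => (Groth.Agent.S3587.mem_ann z a).mp (hm ha)⟩
  choose mk hmk using hkill
  refine ⟨n₀ + T.sup dg + T.sup mk, fun k hk => ?_⟩
  rw [eq_bot_iff]
  intro w hw
  rw [Submodule.mem_bot]
  have hkn : n₀ ≤ k := by omega
  have hwN : w ∈ Submodule.span A (T : Set M) := by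
    rw [← hTspan]
    apply Submodule.subset_span
    simp only [Set.mem_iUnion]
    exact ⟨k, hkn, hw⟩
  obtain ⟨c, -, hc⟩ := Submodule.mem_span_finset.mp hwN
  have h1 := congrArg (fun x => (DirectSum.decompose ℳ x k : M)) hc
  simp only at h1
  rw [DirectSum.decompose_of_mem_same ℳ hw] at h1
  rw [← h1, DirectSum.decompose_sum, DFinsupp.finsetSum_apply, AddSubmonoidClass.coe_finsetSum]
  refine Finset.sum_eq_zero fun z hz => ?_
  have hzd : z ∈ ℳ (dg z) := hdg z hz
  have hd1 : dg z ≤ T.sup dg := Finset.le_sup hz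
  have hm1 : mk z ≤ T.sup mk := Finset.le_sup hz
  have hk' : k = (k - dg z) + dg z := by omega
  rw [hk', Groth.Agent.S3587.decompose_smul_homog 𝒜 ℳ (dg z) z hzd (k - dg z) (c z)]
  apply hmk z
  have h2 := mem_irrelevant_pow hgen (k - dg z) _ (SetLike.coe_mem (DirectSum.decompose 𝒜 (c z) (k - dg z)))
  exact Ideal.pow_le_pow_right (by omega) h2

end Groth.Agent.Lib.H4GrTilde
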