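/-
helper42: pinching lemma for modules. Algebra: `subsingleton_of_pinch` (R → B surjective with kernel I, R → A with
kernel K, K ⊓ I = ⊥ and I·A = image of I; if A ⊗ M = 0 and B ⊗ M = 0 then M = 0). Geometry: `isZero_of_pinch`
(G qcoh on Y, f : X → Y affine, u : Y' → Y closed immersion, pinching conditions on all affine opens; u^*G = 0 and
f^*G = 0 imply G = 0). Also `subsingleton_sections_of_isZero`, `subsingleton_stalk_of_subsingleton_sections`.
-/
import Groth.Agent.Lib.H72PullbackStalk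
import Groth.Agent.Lib.SupportTensor
import Groth.Agent.Lib.ModPullback
import Mathlib.AlgebraicGeometry.Morphisms.ClosedImmersion

set_option autoImplicit false
set_option linter.style.haveILetI false
universe u
open TensorProduct

namespace Groth.Agent.Lib.PinchZero

section Algebra
variable {R A B : Type*} [CommRing R] [CommRing A] [CommRing B] [Algebra R A] [Algebra R B]
  (M : Type*) [AddCommGroup M] [Module R M]

theorem mem_smul_top_of_subsingleton_tensor (hB : Function.Surjective (algebraMap R B))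
    [Subsingleton (B ⊗[R] M)] (m : M) :
    m ∈ RingHom.ker (algebraMap R B) • (⊤ : Submodule R M) := by
  have hsurj : Function.Surjective (Algebra.ofId R B) := hB
  let e1 : (R ⧸ RingHom.ker (Algebra.ofId R B)) ≃ₗ[R] B :=
    (Ideal.quotientKerAlgEquivOfSurjective hsurj).toLinearEquiv
  have hs : Subsingleton ((R ⧸ RingHom.ker (Algebra.ofId R B)) ⊗[R] M) :=
    (TensorProduct.congr e1 (LinearEquiv.refl R M)).toEquiv.subsingleton
  have hs2 : Subsingleton (M ⧸ (RingHom.ker (Algebra.ofId R B) • (⊤ : Submodule R M))) :=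
    (TensorProduct.quotTensorEquivQuotSMul M (RingHom.ker (Algebra.ofId R B))).symm.toEquiv.subsingleton
  have : Submodule.Quotient.mk (p := RingHom.ker (Algebra.ofId R B) • (⊤ : Submodule R M)) m = 0 :=
    Subsingleton.elim _ _
  exact (Submodule.Quotient.mk_eq_zero _).mp this

/-- Pinching lemma: `R → B` surjective with kernel `I`, `R → A` arbitrary with kernel `K`, `K ⊓ I = ⊥`,
and the ideal of `A` generated by the image of `I` consists of images of elements of `I`. If
`A ⊗ M = 0` and `B ⊗ M = 0` then `M = 0`. -/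
theorem subsingleton_of_pinch (hB : Function.Surjective (algebraMap R B))
    (h0 : RingHom.ker (algebraMap R A) ⊓ RingHom.ker (algebraMap R B) = ⊥)
    (h1 : ∀ a ∈ Ideal.map (algebraMap R A) (RingHom.ker (algebraMap R B)),
      ∃ i ∈ RingHom.ker (algebraMap R B), algebraMap R A i = a)
    [Subsingleton (A ⊗[R] M)] [Subsingleton (B ⊗[R] M)] : Subsingleton M := by
  set I := RingHom.ker (algebraMap R B) with hI
  set J : Ideal A := Ideal.map (algebraMap R A) I with hJ
  have hIM : ∀ m : M, m ∈ I • (⊤ : Submodule R M) :=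
    mem_smul_top_of_subsingleton_tensor M hB
  have hkill : ∀ i ∈ I, ∀ m : M, i • m = 0 := by
    intro i hi m
    have : Subsingleton (J ⊗[A] (A ⊗[R] M)) := inferInstance
    have hs : Subsingleton (J ⊗[R] M) :=
      (AlgebraTensorModule.cancelBaseChange R A A J M).symm.toEquiv.subsingleton
    let φ : I →ₗ[R] J :=
      { toFun := fun x => ⟨algebraMap R A x.1, Ideal.mem_map_of_mem _ x.2⟩
        map_add' := fun x y => Subtype.ext (map_add _ _ _)
        map_smul' := fun r x => Subtype.ext (by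
          simp only [RingHom.id_apply]
          change algebraMap R A (r • x.1) = r • algebraMap R A x.1
          rw [smul_eq_mul, map_mul, Algebra.smul_def]) }
    have hφ : Function.Bijective φ := by
      constructor
      · intro x y hxy
        have h2 : algebraMap R A (x.1 - y.1) = 0 := by
          rw [map_sub, sub_eq_zero]
          exact congrArg Subtype.val hxy
        have h3 : x.1 - y.1 ∈ RingHom.ker (algebraMap R A) ⊓ I :=
          ⟨h2, I.sub_mem x.2 y.2⟩
        rw [h0, Ideal.mem_bot, sub_eq_zero] at h3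
        exact Subtype.ext h3
      · rintro ⟨a, ha⟩
        obtain ⟨i, hi, hia⟩ := h1 a ha
        exact ⟨⟨i, hi⟩, Subtype.ext hia⟩
    let e : I ≃ₗ[R] J := LinearEquiv.ofBijective φ hφ
    have hs2 : Subsingleton (I ⊗[R] M) :=
      (TensorProduct.congr e (LinearEquiv.refl R M)).toEquiv.subsingleton
    let μ : I ⊗[R] M →ₗ[R] M := TensorProduct.lift
      ((LinearMap.lsmul R M).comp I.subtype)
    have : μ ((⟨i, hi⟩ : I) ⊗ₜ m) = i • m := by
      simp [μ]
    rw [← this, Subsingleton.elim ((⟨i, hi⟩ : I) ⊗ₜ[R] m) 0, map_zero]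
  refine ⟨fun x y => ?_⟩
  have hx : ∀ m : M, m = 0 := by
    intro m
    have := hIM m
    refine Submodule.smul_induction_on this (fun r hr n _ => hkill r hr n) (fun x y hx hy => ?_)
    rw [hx, hy, add_zero]
  rw [hx x, hx y]

end Algebra

section Geometric

open AlgebraicGeometry CategoryTheory CategoryTheory.Limits TopologicalSpace Opposite

variable {X Y Y' : Scheme.{u}}

/-- Sections of a zero module vanish. -/
theorem subsingleton_sections_of_isZero (N : X.Modules) (h : IsZero N) (W : X.Opens) :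
    Subsingleton Γ(N, W) := by
  have h1 : (𝟙 N : N ⟶ N) = 0 := (IsZero.iff_id_eq_zero N).mp h
  have hs : ∀ s : Γ(N, W), s = 0 := fun s => by
    have h2 : ((𝟙 N : N ⟶ N).app W) s = ((0 : N ⟶ N).app W) s := by rw [h1]
    simpa using h2
  exact ⟨fun s t => by rw [hs s, hs t]⟩

/-- If the sections of a quasi-coherent module over an affine open vanish, so do the stalks there. -/
theorem subsingleton_stalk_of_subsingleton_sections (G : X.Modules) [G.IsQuasicoherent]
    {U : X.Opens} (hU : IsAffineOpen U) (h : Subsingleton Γ(G, U)) (x : U) :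
    Subsingleton (G.presheaf.stalk (x : X)) := by
  by_contra hne
  have h1 : (x : X) ∈ CohB1.support G := hne
  rw [Groth.Agent.Lib.SupportTensor.mem_support_iff_of_affine G hU x] at h1
  have h2 : Module.support Γ(X, U) Γ(G, U) = ∅ := Module.support_eq_empty
  rw [h2] at h1
  exact h1

/-- A quasi-coherent module whose sections over all affine opens vanish is zero. -/
theorem isZero_of_forall_affine_subsingleton (G : X.Modules) [G.IsQuasicoherent]
    (h : ∀ V : X.affineOpens, Subsingleton Γ(G, V.1)) : IsZero G := by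
  apply Groth.Agent.Lib.ModPullback.isZero_of_forall_subsingleton_stalk
  intro y
  obtain ⟨V, hyV⟩ := Opens.mem_iSup.mp ((iSup_affineOpens_eq_top X).ge (Set.mem_univ y))
  exact subsingleton_stalk_of_subsingleton_sections G V.2 (h V) ⟨y, hyV⟩

/-- Pinching: if `f` is affine, `u` a closed immersion, satisfying the pinching conditions on all affine
opens, a quasi-coherent module `G` with `u^*G = 0` and `f^*G = 0` is zero. -/
theorem isZero_of_pinch (f : X ⟶ Y) (u : Y' ⟶ Y) [IsAffineHom f] [IsClosedImmersion u]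
    (hM : ∀ V ∈ Y.affineOpens,
      RingHom.ker (f.app V).hom ⊓ RingHom.ker (u.app V).hom = ⊥ ∧
      ∀ a ∈ Ideal.map (f.app V).hom (RingHom.ker (u.app V).hom),
        ∃ i ∈ RingHom.ker (u.app V).hom, (f.app V).hom i = a)
    (G : Y.Modules) [G.IsQuasicoherent]
    (h1 : IsZero ((Scheme.Modules.pullback u).obj G)) (h2 : IsZero ((Scheme.Modules.pullback f).obj G)) :
    IsZero G := by
  apply isZero_of_forall_affine_subsingleton
  intro V
  have hV : IsAffineOpen V.1 := V.2
  have hfV : IsAffineOpen (f ⁻¹ᵁ V.1) := hV.preimage f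
  have huV : IsAffineOpen (u ⁻¹ᵁ V.1) := hV.preimage u
  have hfle : f ⁻¹ᵁ V.1 ≤ f ⁻¹ᵁ V.1 := le_rfl
  have hule : u ⁻¹ᵁ V.1 ≤ u ⁻¹ᵁ V.1 := le_rfl
  have ef : f.appLE V.1 (f ⁻¹ᵁ V.1) hfle = f.app V.1 := Scheme.Hom.appLE_eq_app _
  have eu : u.appLE V.1 (u ⁻¹ᵁ V.1) hule = u.app V.1 := Scheme.Hom.appLE_eq_app _
  letI algA : Algebra Γ(Y, V.1) Γ(X, f ⁻¹ᵁ V.1) := (f.appLE V.1 (f ⁻¹ᵁ V.1) hfle).hom.toAlgebra
  letI algB : Algebra Γ(Y, V.1) Γ(Y', u ⁻¹ᵁ V.1) := (u.appLE V.1 (u ⁻¹ᵁ V.1) hule).hom.toAlgebra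
  letI : Module Γ(Y, V.1) Γ((Scheme.Modules.pullback f).obj G, f ⁻¹ᵁ V.1) :=
      Module.compHom _ (f.appLE V.1 (f ⁻¹ᵁ V.1) hfle).hom
  haveI : IsScalarTower Γ(Y, V.1) Γ(X, f ⁻¹ᵁ V.1) Γ((Scheme.Modules.pullback f).obj G, f ⁻¹ᵁ V.1) :=
      .of_algebraMap_smul fun _ _ => rfl
  letI : Module Γ(Y, V.1) Γ((Scheme.Modules.pullback u).obj G, u ⁻¹ᵁ V.1) :=
      Module.compHom _ (u.appLE V.1 (u ⁻¹ᵁ V.1) hule).hom
  haveI : IsScalarTower Γ(Y, V.1) Γ(Y', u ⁻¹ᵁ V.1) Γ((Scheme.Modules.pullback u).obj G, u ⁻¹ᵁ V.1) :=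
      .of_algebraMap_smul fun _ _ => rfl
  obtain ⟨θf, hθf⟩ := Groth.Agent.Lib.H72PullbackStalk.exists_isBaseChange_sections f G hfV hV hfle
  obtain ⟨θu, hθu⟩ := Groth.Agent.Lib.H72PullbackStalk.exists_isBaseChange_sections u G huV hV hule
  haveI := subsingleton_sections_of_isZero _ h2 (f ⁻¹ᵁ V.1)
  haveI := subsingleton_sections_of_isZero _ h1 (u ⁻¹ᵁ V.1)
  haveI : Subsingleton (Γ(X, f ⁻¹ᵁ V.1) ⊗[Γ(Y, V.1)] Γ(G, V.1)) := hθf.equiv.toEquiv.subsingleton
  haveI : Subsingleton (Γ(Y', u ⁻¹ᵁ V.1) ⊗[Γ(Y, V.1)] Γ(G, V.1)) := hθu.equiv.toEquiv.subsingleton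
  have hAeq : algebraMap Γ(Y, V.1) Γ(X, f ⁻¹ᵁ V.1) = (f.app V.1).hom := by
    rw [← ef]; rfl
  have hBeq : algebraMap Γ(Y, V.1) Γ(Y', u ⁻¹ᵁ V.1) = (u.app V.1).hom := by
    rw [← eu]; rfl
  obtain ⟨hM0, hM1⟩ := hM V.1 V.2
  refine subsingleton_of_pinch (R := Γ(Y, V.1)) (A := Γ(X, f ⁻¹ᵁ V.1)) (B := Γ(Y', u ⁻¹ᵁ V.1))
    Γ(G, V.1) ?_ ?_ ?_
  · rw [hBeq]
    exact u.app_surjective V.1 hV
  · rw [hAeq, hBeq]
    exact hM0
  · rw [hAeq, hBeq]
    exact hM1

end Geometric
end Groth.Agent.Lib.PinchZero
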