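import Groth.Agent.Lib.FinLocFreeMor
import Groth.Agent.Lib.QCohStalk
import Groth.Agent.Lib.StructureModule
import Mathlib.AlgebraicGeometry.FunctionField
import Mathlib.AlgebraicGeometry.Stalk

/-! The sheaf of rational functions `ξ_* O_{Spec K}` of an integral scheme (helper82). -/

set_option autoImplicit false
universe u
open CategoryTheory AlgebraicGeometry TopologicalSpace Opposite

namespace Groth.Agent.Lib.RatFun82

variable (X : Scheme.{u}) [IsIntegral X]

/-- The function field, as the stalk at the generic point. -/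
noncomputable abbrev KK : CommRingCat.{u} := X.presheaf.stalk (genericPoint X)

/-- The canonical morphism from the spectrum of the function field. -/
noncomputable abbrev xi : Spec (KK X) ⟶ X := X.fromSpecStalk (genericPoint X)

/-- The sheaf of rational functions. -/
noncomputable abbrev RatSh : X.Modules :=
  (Scheme.Modules.pushforward (X.fromSpecStalk (genericPoint X))).obj
    (Coh.structureModule (Spec (X.presheaf.stalk (genericPoint X))))

variable {X}

theorem genericPoint_mem_of_mem {U : X.Opens} {x : X} (hx : x ∈ U) : genericPoint X ∈ U :=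
  ((genericPoint_spec X).specializes (Set.mem_univ x)).mem_open U.2 hx

theorem preimage_eq_top {U : X.Opens} (hη : genericPoint X ∈ U) : xi X ⁻¹ᵁ U = ⊤ := by
  ext y
  simp only [Opens.coe_top, Set.mem_univ, iff_true]
  have h1 : (xi X) y ∈ Set.range (xi X) := ⟨y, rfl⟩
  rw [Scheme.range_fromSpecStalk] at h1
  exact (h1 : (xi X) y ⤳ genericPoint X).mem_open U.2 hη

theorem preimage_eq_bot {U : X.Opens} (hη : genericPoint X ∉ U) : xi X ⁻¹ᵁ U = ⊥ := by
  ext y
  simp only [Opens.coe_bot, Set.mem_empty_iff_false, iff_false]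
  intro hy
  exact hη (genericPoint_mem_of_mem (x := (xi X) y) hy)

/-- An element of the function field as a section over the preimage of `U`. -/
noncomputable def toSecK (U : X.Opens) : KK X ⟶ Γ(Spec (KK X), xi X ⁻¹ᵁ U) :=
  (Scheme.ΓSpecIso (KK X)).inv ≫ (Spec (KK X)).presheaf.map (homOfLE le_top).op

theorem app_eq {U : X.Opens} (hη : genericPoint X ∈ U) :
    (xi X).app U = X.presheaf.germ U (genericPoint X) hη ≫ toSecK U :=
  Scheme.fromSpecStalk_app hη

theorem map_top_bijective (Y : Scheme.{u}) (V : Y.Opens) (hV : V = ⊤) :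
    Function.Bijective (Y.presheaf.map (homOfLE (le_top : V ≤ ⊤)).op) := by
  subst hV
  have : (homOfLE (le_top : (⊤ : Y.Opens) ≤ ⊤)) = 𝟙 _ := rfl
  rw [this, op_id, Y.presheaf.map_id]
  exact Function.bijective_id

theorem toSecK_bijective {U : X.Opens} (hη : genericPoint X ∈ U) :
    Function.Bijective (toSecK (X := X) U) := by
  unfold toSecK
  change Function.Bijective
    (⇑(ConcreteCategory.hom ((Spec (KK X)).presheaf.map (homOfLE le_top).op)) ∘
      ⇑(ConcreteCategory.hom (Scheme.ΓSpecIso (KK X)).inv))
  refine Function.Bijective.comp (map_top_bijective _ _ (preimage_eq_top hη)) ?_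
  exact ConcreteCategory.bijective_of_isIso (Scheme.ΓSpecIso (KK X)).inv

theorem toSecK_res {U V : X.Opens} (h : V ≤ U) (k : KK X) :
    (Spec (KK X)).presheaf.map (homOfLE ((xi X).preimage_mono h)).op (toSecK U k) = toSecK V k := by
  unfold toSecK
  rw [CommRingCat.comp_apply, CommRingCat.comp_apply, ← CommRingCat.comp_apply,
    ← Functor.map_comp]
  rfl

theorem subsingleton_sections {U : X.Opens} (hη : genericPoint X ∉ U) :
    Subsingleton Γ(Spec (KK X), xi X ⁻¹ᵁ U) := by
  rw [preimage_eq_bot hη]
  infer_instance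

end Groth.Agent.Lib.RatFun82
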