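import Groth.Agent.Lib.CurveVB67E
import Groth.Agent.Lib.PinchZero
import Groth.Agent.S4350

/-!
# Torsion-free modules on integral schemes (helper4)

Namespace `Groth.Agent.Lib.H4TF`.  `TF` is `Groth.Agent.Lib.CurveVB67.TF` (stalkwise torsion-free).

* `isZero_of_tf_of_subsingleton` : a quasi-coherent torsion-free module with zero generic stalk is zero.
* `isZero_of_tf_of_rk_eq_zero` : a coherent torsion-free module of generic rank `0` is zero (no PID hypothesis).
* `mono_of_ne_zero` : a nonzero morphism from a coherent torsion-free module of generic rank one to a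
  torsion-free coherent module is a monomorphism.
-/

set_option autoImplicit false
universe u
open CategoryTheory CategoryTheory.Limits AlgebraicGeometry

namespace Groth.Agent.Lib.H4TF

open Groth.Agent.Lib.CurveVB67

variable {X : Scheme.{u}} [IsIntegral X]

theorem isZero_of_tf_of_subsingleton (F : X.Modules) [F.IsQuasicoherent] (hF : TF F)
    (h : Subsingleton (F.presheaf.stalk (genericPoint X))) : IsZero F := by
  apply Groth.Agent.Lib.PinchZero.isZero_of_forall_affine_subsingleton
  intro V
  refine ⟨fun s t => ?_⟩
  by_cases hV : genericPoint X ∈ V.1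
  · have := Groth.Agent.S4350.eq_zero_of_germ_genericPoint_eq_zero F hF V.2 hV (s - t)
      (Subsingleton.elim _ _)
    exact sub_eq_zero.mp this
  · apply Groth.Agent.S4350.section_ext
    intro z hz
    exact absurd (genericPoint_mem V.1 hz) hV

theorem isZero_of_tf_of_rk_eq_zero {F : X.Modules} (hF : Coh.IsCoh F) (htf : TF F) (h0 : rk F = 0) :
    IsZero F := by
  have : F.IsQuasicoherent := hF.1
  apply isZero_of_tf_of_subsingleton F htf
  let _ : Field (X.presheaf.stalk (genericPoint X)) := inferInstanceAs (Field X.functionField)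
  have := finite_generic_stalk hF
  exact Module.finrank_zero_iff.mp h0

theorem mono_of_ne_zero [IsLocallyNoetherian X] {L E : X.Modules} (hL : Coh.IsCoh L) (hE : Coh.IsCoh E)
    (hLtf : TF L) (hEtf : TF E) (hrk : rk L = 1) (σ : L ⟶ E) (hσ : σ ≠ 0) : Mono σ := by
  have : E.IsQuasicoherent := hE.1
  have hKc : Coh.IsCoh (kernel σ) := Groth.Agent.Lib.H90OXModExact.isCoh_kernel σ hL
  have hIc : Coh.IsCoh (Abelian.image σ) := isCoh_image σ hL hE
  have hz : kernel.ι σ ≫ Abelian.factorThruImage σ = 0 := by
    rw [← cancel_mono (Abelian.image.ι σ), Category.assoc, Abelian.image.fac, kernel.condition,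
      zero_comp]
  have hS : (ShortComplex.mk (kernel.ι σ) (Abelian.factorThruImage σ) hz).ShortExact :=
    { exact := ShortComplex.exact_of_f_is_kernel _
        (isKernelOfComp (Abelian.image.ι σ) σ (kernelIsKernel σ) hz (Abelian.image.fac σ)) }
  have hadd := rk_add _ hS hKc hIc
  simp only at hadd
  rw [hrk] at hadd
  rcases Nat.eq_zero_or_pos (rk (kernel σ)) with h0 | hpos
  · exact Preadditive.mono_of_isZero_kernel σ
      (isZero_of_tf_of_rk_eq_zero hKc (tf_kernel σ hLtf) h0)
  · exfalso
    have h0 : rk (Abelian.image σ) = 0 := by omega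
    exact hσ ((isZero_image_iff σ).mp (isZero_of_tf_of_rk_eq_zero hIc (tf_image σ hEtf) h0))

end Groth.Agent.Lib.H4TF
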