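import Groth.Agent.Lib.H4Horrocks5
import Groth.Agent.Lib.H4TF
import Groth.Agent.Lib.CurveVB67P
import Groth.Agent.Lib.CurveVB67K
import Groth.Agent.Lib.H43PnPairing
import Groth.Agent.Lib.H4H0Nat
import Groth.Agent.Lib.SemilocalFree3

/-!
# Horrocks' splitting criterion on `P^n_k` (helper4), part 6: vector bundles

* `finrank_H0_twist_le` : if `E` is locally free and `H^0(E(t)) ≠ 0` then `h^0(O(N)) ≤ h^0(E(t)(N))`.
* `subsingleton_H0_tw` : for `E` locally free on `P^n_k`, `n ≥ 1`: `H^0(E(t)) = 0` for `t ≤ -h^0(E)`.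
-/

set_option autoImplicit false
universe u
open CategoryTheory CategoryTheory.Limits AlgebraicGeometry TopologicalSpace Opposite Twist

namespace Groth.Agent.Lib.H4Horrocks

open Groth.Agent.Lib.OXModTensor Groth.Agent.Lib.TwistEquiv Groth.Agent.Lib.CohLES
open Groth.Agent.Lib.H4MumfordStep Groth.Agent.Lib.CurveVB67

variable {n : ℕ} {k : Type u} [Field k]

local notation "𝐏" => CohB1.ProjSpace n k

/-- a nonzero global section of a locally free module on `P^n_k` is a monomorphism `O ⟶ F` -/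
theorem exists_mono_of_not_subsingleton {r : ℕ} {F : (𝐏).Modules} (hF : FlatMod.IsFinLocFreeOfRank r F)
    (h : ¬ Subsingleton (Coh.HH 𝐏 F 0)) : ∃ σ : Coh.structureModule 𝐏 ⟶ F, Mono σ := by
  have := isLocallyNoetherian_projSpace (k := k) (n := n)
  have := Groth.Agent.Lib.H43PnPairing.isIntegral_projSpace n k
  rw [not_subsingleton_iff_nontrivial] at h
  obtain ⟨x, hx⟩ := exists_ne (0 : Coh.HH 𝐏 F 0)
  have hs : Groth.Agent.Lib.H4Twist.h0Equiv F x ≠ 0 := fun h0 =>
    hx ((Groth.Agent.Lib.H4Twist.h0Equiv F).injective (by rw [h0, map_zero]))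
  refine ⟨Groth.Agent.Lib.FreeModSch.ofSection F (Groth.Agent.Lib.H4Twist.h0Equiv F x), ?_⟩
  have h1 := isFinLocFreeOfRank_one_structureModule (X := 𝐏)
  refine Groth.Agent.Lib.H4TF.mono_of_ne_zero (isCoh_of_rank h1) (isCoh_of_rank hF)
    (tf_of_isFinLocFree (isFinLocFree_of_rank h1)) (tf_of_isFinLocFree (isFinLocFree_of_rank hF))
    (eq_rk_of_isFinLocFreeOfRank h1).symm _ ?_
  intro h0
  apply hs
  rw [← Groth.Agent.Lib.FreeModSch.toSection_ofSection F (Groth.Agent.Lib.H4Twist.h0Equiv F x), h0]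
  have : (0 : Coh.structureModule 𝐏 ⟶ F) = 𝟙 _ ≫ 0 := by simp
  rw [this, Groth.Agent.Lib.FreeModSch.toSection_comp]
  rfl

/-- if `H^0(F) ≠ 0` for `F` locally free, then `h^0(O(N)) ≤ h^0(F(N))` -/
theorem finrank_H0_twist_le {r : ℕ} {F : (𝐏).Modules} (hF : FlatMod.IsFinLocFreeOfRank r F)
    (h : ¬ Subsingleton (Coh.HH 𝐏 F 0)) (N : ℤ) :
    Module.finrank k (Coh.HH 𝐏 (Twist.twistProjSpace n k N) 0) ≤
      Module.finrank k (Coh.HH 𝐏 (tw k n F N) 0) := by
  obtain ⟨σ, hσ⟩ := exists_mono_of_not_subsingleton hF h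
  have hS : (ShortComplex.mk σ (cokernel.π σ) (cokernel.condition σ)).ShortExact :=
    { exact := ShortComplex.exact_cokernel σ }
  have hT := shortExact_tw hS N
  have hinj := Groth.Agent.Lib.CohLES.map_f_injective_zero hT
  have b0 : (tensorRightFunctor (Twist.twistProjSpace n k N)).obj (Coh.structureModule 𝐏) ≅
      Twist.twistProjSpace n k N :=
    eqToIso (tensorRightFunctor_obj _ _) ≪≫ Groth.Agent.Lib.OXModTensor.leftUnitor _
  have b1 : (tensorRightFunctor (Twist.twistProjSpace n k N)).obj F ≅ tw k n F N :=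
    eqToIso (tensorRightFunctor_obj _ _)
  have hfin : Module.Finite k (Coh.HH 𝐏 (tw k n F N) 0) :=
    Groth.Agent.Lib.ProjSpaceFin.finite_HH_projSpace n k _ (isCoh_tw (isCoh_of_rank hF) N) 0
  rw [← (mapEquivₗ k b0 0).finrank_eq]
  have hfin' : Module.Finite k
      (Coh.HH 𝐏 ((tensorRightFunctor (Twist.twistProjSpace n k N)).obj F) 0) :=
    Module.Finite.equiv (mapEquivₗ k b1 0).symm
  rw [← (mapEquivₗ k b1 0).finrank_eq]
  exact LinearMap.finrank_le_finrank_of_injective
    (f := mapₗ k ((tensorRightFunctor (Twist.twistProjSpace n k N)).map σ) 0) hinj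

/-- `H^0(E(t)) = 0` for `t ≤ -h^0(E)`, for `E` locally free on `P^n_k`, `n ≥ 1` -/
theorem subsingleton_H0_tw (hn : 1 ≤ n) {r : ℕ} {E : (𝐏).Modules} (hE : FlatMod.IsFinLocFreeOfRank r E)
    (t : ℤ) (ht : t ≤ -(Module.finrank k (Coh.HH 𝐏 E 0) : ℤ)) :
    Subsingleton (Coh.HH 𝐏 (tw k n E t) 0) := by
  classical
  by_contra h
  have hF : FlatMod.IsFinLocFreeOfRank r (tw k n E t) :=
    isFinLocFreeOfRank_twist hE (Groth.Agent.Lib.H4Twist.isInvertible_twistProjSpace n k t)
  have hle := finrank_H0_twist_le hF h (-t)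
  obtain ⟨e0⟩ := nonempty_iso_tw_tw E t
  rw [← (mapEquivₗ k e0 0).finrank_eq] at hle
  obtain ⟨d, hd⟩ : ∃ d : ℕ, -t = d := ⟨(-t).toNat, by omega⟩
  rw [hd, (Groth.Agent.Lib.H4Twist.gammaLinearEquiv n k d).finrank_eq,
    Groth.Agent.Lib.H78PlanePoints.finrank_homogeneousSubmodule, Fintype.card_fin] at hle
  have h1 : (d + 1).choose d ≤ (n + 1 + d - 1).choose d := Nat.choose_le_choose d (by omega)
  rw [Nat.choose_succ_self_right] at h1
  omega

attribute [local instance] CategoryTheory.Abelian.hasFiniteBiproducts in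
/-- the generic rank of `∐_{j < s} O(a j)` is `s` -/
theorem rk_sigma_twist : ∀ (s : ℕ) (a : Fin s → ℤ),
    @rk 𝐏 (Groth.Agent.Lib.H43PnPairing.isIntegral_projSpace n k)
      (∐ fun j : Fin s => Twist.twistProjSpace n k (a j)) = s := by
  have := Groth.Agent.Lib.H43PnPairing.isIntegral_projSpace n k
  have hcoh : ∀ (s : ℕ) (a : Fin s → ℤ), Coh.IsCoh (∐ fun j : Fin s => Twist.twistProjSpace n k (a j)) :=
    fun s a => Groth.Agent.Lib.CohFinAmple.isCoh_of_iso (biproduct.isoCoproduct _)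
      (Groth.Agent.Lib.H90CohSum.isCoh_biproduct _ fun j => isCoh_twist (a j))
  intro s
  induction s with
  | zero =>
    intro a
    exact rk_of_isZero (Groth.Agent.Lib.P1Split.isZero_sigma_of_isEmpty _)
  | succ s ih =>
    intro a
    obtain ⟨es⟩ := Groth.Agent.Lib.P1Split.nonempty_sigma_fin_succ_iso
      (fun j : Fin (s + 1) => Twist.twistProjSpace n k (a j))
    rw [rk_congr (es ≪≫ (biprod.isoCoprod _ _).symm)]
    have hS := (ShortComplex.Splitting.ofHasBinaryBiproduct (Twist.twistProjSpace n k (a 0))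
      (∐ fun i : Fin s => Twist.twistProjSpace n k (a i.succ))).shortExact
    have h := rk_add _ hS (isCoh_twist (a 0)) (hcoh s fun i => a i.succ)
    simp only at h
    rw [h, ih fun i => a i.succ]
    have h1 : FlatMod.IsFinLocFreeOfRank 1 (Twist.twistProjSpace n k (a 0)) :=
      (Groth.Agent.Lib.H90Invertible.isInvertible_iff_isFinLocFreeOfRank_one _).mp
        (Groth.Agent.Lib.H4Twist.isInvertible_twistProjSpace n k (a 0))
    rw [← eq_rk_of_isFinLocFreeOfRank h1]
    omega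

open MvPolynomial in
/-- a form of degree `d` in one variable is `c X^d` -/
theorem eq_C_mul_X_pow_of_isHomogeneous (d : ℕ) (g : MvPolynomial (Fin 1) k) (hg : g.IsHomogeneous d) :
    g = C (coeff (Finsupp.single 0 d) g) * X 0 ^ d := by
  have huniq : ∀ m : Fin 1 →₀ ℕ, m.degree = d → m = Finsupp.single 0 d := by
    intro m hm
    rw [Finsupp.degree_eq_sum, Fin.sum_univ_one] at hm
    refine Finsupp.ext fun i => ?_
    obtain rfl : i = 0 := Fin.ext (by omega)
    simp [hm]
  ext m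
  rw [X_pow_eq_monomial, C_mul_monomial, mul_one, coeff_monomial]
  split_ifs with h
  · rw [h]
  · by_contra h0
    exact h (huniq m (by rw [Finsupp.degree_eq_weight_one]; exact hg h0)).symm

open MvPolynomial in
theorem asHomogeneousIdeal_eq_bot (p : ProjectiveSpectrum (CohB1.polyGrading 0 k)) :
    p.asHomogeneousIdeal.toIdeal = ⊥ := by
  rw [eq_bot_iff]
  intro f hf
  rw [Ideal.mem_bot]
  by_contra hf0
  obtain ⟨m, hm⟩ := MvPolynomial.ne_zero_iff.mp hf0
  have hg : (DirectSum.decompose (CohB1.polyGrading 0 k) f m.degree : MvPolynomial (Fin (0 + 1)) k) ∈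
      p.asHomogeneousIdeal.toIdeal := p.asHomogeneousIdeal.isHomogeneous m.degree hf
  have hg' : (DirectSum.decompose (CohB1.polyGrading 0 k) f m.degree : MvPolynomial (Fin (0 + 1)) k) =
      homogeneousComponent m.degree f := MvPolynomial.decomposition.decompose'_apply f m.degree
  rw [hg'] at hg
  have hm1 : m = Finsupp.single 0 m.degree := by
    refine Finsupp.ext fun i => ?_
    obtain rfl : i = 0 := Fin.ext (by omega)
    rw [Finsupp.degree_eq_sum, Fin.sum_univ_one]
    simp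
  rw [eq_C_mul_X_pow_of_isHomogeneous m.degree _ (homogeneousComponent_isHomogeneous _ _)] at hg
  rw [coeff_homogeneousComponent, if_pos (by rw [Finsupp.degree_single]), ← hm1] at hg
  have hX : (X 0 : MvPolynomial (Fin (0 + 1)) k) ∈ p.asHomogeneousIdeal.toIdeal := by
    have h1 : (X 0 : MvPolynomial (Fin (0 + 1)) k) ^ m.degree ∈ p.asHomogeneousIdeal.toIdeal := by
      have := Ideal.mul_mem_left _ (C (coeff m f)⁻¹) hg
      rwa [← mul_assoc, ← C_mul, inv_mul_cancel₀ hm, C_1, one_mul] at this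
    exact p.isPrime.mem_of_pow_mem _ h1
  apply p.not_irrelevant_le
  rw [HomogeneousIdeal.irrelevant_le]
  intro i hi x hx
  have hx' : x.IsHomogeneous i := hx
  change x ∈ p.asHomogeneousIdeal.toIdeal
  rw [eq_C_mul_X_pow_of_isHomogeneous i x hx']
  obtain ⟨j, rfl⟩ : ∃ j, i = j + 1 := ⟨i - 1, by omega⟩
  rw [pow_succ]
  exact Ideal.mul_mem_left _ _ (Ideal.mul_mem_left _ _ hX)

theorem subsingleton_projSpace_zero : Subsingleton (CohB1.ProjSpace 0 k) := by
  refine ⟨fun p q => ?_⟩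
  change ProjectiveSpectrum (CohB1.polyGrading 0 k) at p q
  apply ProjectiveSpectrum.ext
  apply HomogeneousIdeal.toIdeal_injective
  rw [asHomogeneousIdeal_eq_bot p, asHomogeneousIdeal_eq_bot q]

/-- on `P^0_k` every locally free module of rank `r` is `O^r` -/
theorem nonempty_iso_sigma_of_zero {r : ℕ} {E : (CohB1.ProjSpace 0 k).Modules}
    (hE : FlatMod.IsFinLocFreeOfRank r E) :
    ∃ a : Fin r → ℤ, Nonempty (E ≅ ∐ fun j : Fin r => Twist.twistProjSpace 0 k (a j)) := by
  have := subsingleton_projSpace_zero (k := k)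
  have := Groth.Agent.Lib.H43PnPairing.isIntegral_projSpace 0 k
  obtain ⟨x⟩ := (inferInstance : Nonempty (CohB1.ProjSpace 0 k))
  obtain ⟨U, hxU, ⟨e⟩⟩ := hE x
  have hU : U = ⊤ := by
    ext y
    simp [Subsingleton.elim y x, hxU]
  subst hU
  obtain ⟨e'⟩ := Groth.Agent.Lib.SemilocalFree.nonempty_iso_freeMod_of_restrict_top e
  obtain ⟨e0⟩ := Groth.Agent.Lib.H4Twist.nonempty_twistZeroIso (CohB1.polyGrading 0 k)
  exact ⟨fun _ => 0, ⟨e' ≪≫ Sigma.mapIso fun _ => e0.symm⟩⟩

/-- **Horrocks' criterion for vector bundles**: a locally free module of rank `r` on `P^n_k` without intermediate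
cohomology is a direct sum of `r` twisting sheaves -/
theorem exists_iso_sigma_of_rank {r : ℕ} {E : (𝐏).Modules} (hE : FlatMod.IsFinLocFreeOfRank r E)
    (hi : ∀ (t : ℤ) (i : ℕ), 1 ≤ i → i < n → Subsingleton (Coh.HH 𝐏 (tw k n E t) i)) :
    ∃ a : Fin r → ℤ, Nonempty (E ≅ ∐ fun j : Fin r => Twist.twistProjSpace n k (a j)) := by
  rcases Nat.eq_zero_or_pos n with rfl | hn
  · exact nonempty_iso_sigma_of_zero hE
  · obtain ⟨r', a, ⟨e⟩⟩ := horrocks E (isCoh_of_rank hE) _
      (fun t ht => subsingleton_H0_tw hn hE t ht) hi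
    have := Groth.Agent.Lib.H43PnPairing.isIntegral_projSpace n k
    have h1 : r = rk E := eq_rk_of_isFinLocFreeOfRank hE
    have h2 : rk E = r' := by rw [rk_congr e, rk_sigma_twist]
    obtain rfl : r' = r := by omega
    exact ⟨a, ⟨e⟩⟩

end Groth.Agent.Lib.H4Horrocks
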