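import Groth.Agent.Lib.ConeQuasiIso
import Mathlib.Algebra.Homology.HomotopyCategory.Pretriangulated
import Mathlib.Algebra.Homology.HomotopyCategory.ShiftSequence
import Mathlib.Algebra.Homology.QuasiIso
import Mathlib.Algebra.Homology.Single

/-!
# Abstract Koszul complexes as iterated mapping cones (helper4)

A *twist system* `T : TwSys 𝒟` is a `ℤ`-indexed family of objects `T.obj d` with pairwise commuting
"multiplication" maps `T.x c d : T.obj d ⟶ T.obj (d + 1)`, `c : ℕ`.

* `TwSys.single T` : the system of complexes concentrated in degree `0`;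
* `TwSys.cone T r` : `d ↦ mappingCone (T.x r d)`, with the induced multiplication maps;
* `TwSys.kos T r` : the Koszul system on the first `r` multiplication maps (iterated cones); `(kos T r).obj d`
  lives in degrees `[-r, 0]`, its term of degree `-j` is a sum of `choose r j` copies of `T.obj (d + r - j)`
  (`nonempty_kos_X_iso`, `isZero_kos_X`);
* `acyclic_map_kos` : if `G` is an additive functor (to an abelian category) such that `G (T.x c d)` is an isomorphism
  for all `d` and some `c < r`, then `G` maps `(kos T r).obj d` to an acyclic complex.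
-/

set_option autoImplicit false
set_option linter.unusedSectionVars false

universe v u v' u'

open CategoryTheory CategoryTheory.Limits CochainComplex HomologicalComplex

namespace Groth.Agent.Lib.H4Koszul

/-- a `ℤ`-indexed family of objects with pairwise commuting maps `obj d ⟶ obj (d + 1)` -/
structure TwSys (𝒟 : Type u) [Category.{v} 𝒟] where
  obj : ℤ → 𝒟
  x : ℕ → ∀ d, obj d ⟶ obj (d + 1)
  comm : ∀ c c' d, x c d ≫ x c' (d + 1) = x c' d ≫ x c (d + 1)

variable {𝒞 : Type u} [Category.{v} 𝒞] [Abelian 𝒞]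

section ConeMap

variable {K₁ L₁ K₂ L₂ : CochainComplex 𝒞 ℤ} (φ₁ : K₁ ⟶ L₁) (φ₂ : K₂ ⟶ L₂)

lemma map_congr {a a' : K₁ ⟶ K₂} {b b' : L₁ ⟶ L₂} (ha : a = a') (hb : b = b')
    (comm : φ₁ ≫ b = a ≫ φ₂) :
    mappingCone.map φ₁ φ₂ a b comm = mappingCone.map φ₁ φ₂ a' b' (by rw [← ha, ← hb]; exact comm) := by
  subst ha hb
  rfl

lemma map_f_eq (a : K₁ ⟶ K₂) (b : L₁ ⟶ L₂) (comm : φ₁ ≫ b = a ≫ φ₂) (i : ℤ) :
    (mappingCone.map φ₁ φ₂ a b comm).f i =
      (mappingCone.fst φ₁).1.v i (i + 1) rfl ≫ a.f (i + 1) ≫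
        (mappingCone.inl φ₂).v (i + 1) i (by omega) +
      (mappingCone.snd φ₁).v i i (add_zero i) ≫ b.f i ≫ (mappingCone.inr φ₂).f i := by
  rw [mappingCone.ext_from_iff _ (i + 1) i rfl]
  simp [mappingCone.map]

/-- an additive functor maps `mappingCone.map` of two "`G`-isomorphisms" to a `G`-isomorphism, degreewise -/
lemma isIso_map_map_f {𝒟 : Type u'} [Category.{v'} 𝒟] [Preadditive 𝒟] (G : 𝒞 ⥤ 𝒟) [G.Additive]
    (a : K₁ ⟶ K₂) (b : L₁ ⟶ L₂) (comm : φ₁ ≫ b = a ≫ φ₂) (i : ℤ)
    (ha : IsIso (G.map (a.f (i + 1)))) (hb : IsIso (G.map (b.f i))) :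
    IsIso (G.map ((mappingCone.map φ₁ φ₂ a b comm).f i)) := by
  refine ⟨⟨G.map ((mappingCone.fst φ₂).1.v i (i + 1) rfl) ≫ inv (G.map (a.f (i + 1))) ≫
        G.map ((mappingCone.inl φ₁).v (i + 1) i (by omega)) +
      G.map ((mappingCone.snd φ₂).v i i (add_zero i)) ≫ inv (G.map (b.f i)) ≫
        G.map ((mappingCone.inr φ₁).f i), ?_, ?_⟩⟩
  · rw [map_f_eq, G.map_add, G.map_comp, G.map_comp, G.map_comp, G.map_comp]
    simp only [Preadditive.add_comp, Preadditive.comp_add, Category.assoc]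
    rw [← G.map_comp_assoc ((mappingCone.inl φ₂).v (i + 1) i (by omega)),
      ← G.map_comp_assoc ((mappingCone.inl φ₂).v (i + 1) i (by omega)),
      ← G.map_comp_assoc ((mappingCone.inr φ₂).f i),
      ← G.map_comp_assoc ((mappingCone.inr φ₂).f i)]
    simp only [mappingCone.inl_v_fst_v, mappingCone.inl_v_snd_v, mappingCone.inr_f_fst_v,
      mappingCone.inr_f_snd_v, G.map_id, G.map_zero, Category.id_comp, Limits.zero_comp,
      Limits.comp_zero, add_zero, zero_add, IsIso.hom_inv_id_assoc]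
    rw [← G.map_comp, ← G.map_comp, ← G.map_add, mappingCone.id_X, G.map_id]
  · rw [map_f_eq, G.map_add, G.map_comp, G.map_comp, G.map_comp, G.map_comp]
    simp only [Preadditive.add_comp, Preadditive.comp_add, Category.assoc]
    rw [← G.map_comp_assoc ((mappingCone.inl φ₁).v (i + 1) i (by omega)),
      ← G.map_comp_assoc ((mappingCone.inl φ₁).v (i + 1) i (by omega)),
      ← G.map_comp_assoc ((mappingCone.inr φ₁).f i),
      ← G.map_comp_assoc ((mappingCone.inr φ₁).f i)]
    simp only [mappingCone.inl_v_fst_v, mappingCone.inl_v_snd_v, mappingCone.inr_f_fst_v,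
      mappingCone.inr_f_snd_v, G.map_id, G.map_zero, Category.id_comp, Limits.zero_comp,
      Limits.comp_zero, add_zero, zero_add, IsIso.inv_hom_id_assoc]
    rw [← G.map_comp, ← G.map_comp, ← G.map_add, mappingCone.id_X, G.map_id]

end ConeMap

section Coprod

lemma isZero_biprod {A B : 𝒞} (hA : IsZero A) (hB : IsZero B) : IsZero (A ⊞ B) := by
  rw [IsZero.iff_id_eq_zero]
  apply biprod.hom_ext'
  · exact hA.eq_of_src _ _
  · exact hB.eq_of_src _ _

/-- `A ⊞ B ≅ B` if `A` is zero -/
noncomputable def biprodIsoOfIsZeroLeft {A B : 𝒞} (hA : IsZero A) : A ⊞ B ≅ B where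
  hom := biprod.snd
  inv := biprod.inr
  hom_inv_id := by
    have h := biprod.total (X := A) (Y := B)
    rw [hA.eq_of_tgt biprod.fst 0, Limits.zero_comp, zero_add] at h
    exact h
  inv_hom_id := biprod.inr_snd

/-- constant coproducts over `Fin N` only depend on `N` and on the isomorphism class of the object -/
noncomputable def sigmaConstIso {M M' : 𝒞} {N N' : ℕ} (h : N = N') (e : M ≅ M') :
    (∐ fun _ : Fin N => M) ≅ ∐ fun _ : Fin N' => M' := by
  subst h
  exact Sigma.mapIso fun _ => e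

lemma nonempty_iso_sigma_of_isZero {A : 𝒞} (hA : IsZero A) (M : 𝒞) {N : ℕ} (hN : N = 0) :
    Nonempty (A ≅ ∐ fun _ : Fin N => M) := by
  subst hN
  refine ⟨hA.iso ?_⟩
  rw [IsZero.iff_id_eq_zero]
  apply Sigma.hom_ext
  intro i
  exact i.elim0

/-- a coproduct over `Fin 1` -/
noncomputable def sigmaFinOneIso (M : 𝒞) : M ≅ ∐ fun _ : Fin 1 => M where
  hom := Sigma.ι (fun _ : Fin 1 => M) 0
  inv := Sigma.desc fun _ => 𝟙 M
  hom_inv_id := Sigma.ι_desc _ _
  inv_hom_id := by
    apply Sigma.hom_ext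
    intro i
    have hi : i = 0 := Subsingleton.elim _ _
    subst hi
    simp

/-- a constant coproduct over `Fin (a + b)` -/
noncomputable def sigmaFinAddIso (M : 𝒞) (a b : ℕ) :
    (∐ fun _ : Fin a => M) ⊞ (∐ fun _ : Fin b => M) ≅ ∐ fun _ : Fin (a + b) => M where
  hom := biprod.desc (Sigma.desc fun i => Sigma.ι (fun _ : Fin (a + b) => M) (Fin.castAdd b i))
    (Sigma.desc fun i => Sigma.ι (fun _ : Fin (a + b) => M) (Fin.natAdd a i))
  inv := Sigma.desc fun k => Fin.addCases (motive := fun _ => M ⟶ _)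
    (fun i => Sigma.ι (fun _ : Fin a => M) i ≫ biprod.inl)
    (fun i => Sigma.ι (fun _ : Fin b => M) i ≫ biprod.inr) k
  hom_inv_id := by
    apply biprod.hom_ext'
    · apply Sigma.hom_ext
      intro i
      simp
    · apply Sigma.hom_ext
      intro i
      simp
  inv_hom_id := by
    apply Sigma.hom_ext
    intro k
    refine Fin.addCases (fun i => ?_) (fun i => ?_) k
    · simp
    · simp

end Coprod

namespace TwSys

/-- the system of complexes concentrated in degree `0` -/
noncomputable def single (T : TwSys 𝒞) : TwSys (CochainComplex 𝒞 ℤ) where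
  obj d := (HomologicalComplex.single 𝒞 (ComplexShape.up ℤ) 0).obj (T.obj d)
  x c d := (HomologicalComplex.single 𝒞 (ComplexShape.up ℤ) 0).map (T.x c d)
  comm c c' d := by rw [← Functor.map_comp, ← Functor.map_comp, T.comm]

/-- the system of mapping cones of the `r`-th multiplication map -/
noncomputable def cone (T : TwSys (CochainComplex 𝒞 ℤ)) (r : ℕ) : TwSys (CochainComplex 𝒞 ℤ) where
  obj d := mappingCone (T.x r d)
  x c d := mappingCone.map (T.x r d) (T.x r (d + 1)) (T.x c d) (T.x c (d + 1)) (T.comm r c d)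
  comm c c' d := by
    rw [← mappingCone.map_comp, ← mappingCone.map_comp]
    exact map_congr _ _ (T.comm c c' d) (T.comm c c' (d + 1)) _

/-- the Koszul system on the first `r` multiplication maps -/
noncomputable def kos (T : TwSys 𝒞) : ℕ → TwSys (CochainComplex 𝒞 ℤ)
  | 0 => single T
  | r + 1 => cone (kos T r) r

lemma kos_zero (T : TwSys 𝒞) : kos T 0 = single T := rfl
lemma kos_succ (T : TwSys 𝒞) (r : ℕ) : kos T (r + 1) = cone (kos T r) r := rfl

section Terms

/-- the complexes of `kos T r` vanish outside `[-r, 0]` -/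
theorem isZero_kos_X (T : TwSys 𝒞) (r : ℕ) : ∀ (d i : ℤ), (0 < i ∨ i < -(r : ℤ)) →
    IsZero (((kos T r).obj d).X i) := by
  induction r with
  | zero =>
    intro d i hi
    exact HomologicalComplex.isZero_single_obj_X _ _ _ _ (by omega)
  | succ r ih =>
    intro d i hi
    refine IsZero.of_iso ?_
      (HomologicalComplex.homotopyCofiber.XIsoBiprod ((kos T r).x r d) i (i + 1) rfl)
    exact isZero_biprod (ih d (i + 1) (by omega)) (ih (d + 1) i (by omega))

/-- the term of degree `-j` of `(kos T r).obj d` is a sum of `choose r j` copies of `T.obj (d + r - j)` -/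
theorem nonempty_kos_X_iso (T : TwSys 𝒞) (r : ℕ) : ∀ (d i : ℤ) (j : ℕ), i + j = 0 →
    Nonempty (((kos T r).obj d).X i ≅ ∐ fun _ : Fin (r.choose j) => T.obj (d + r + i)) := by
  induction r with
  | zero =>
    intro d i j hij
    rcases Nat.eq_zero_or_pos j with hj | hj
    · subst hj
      have hi : i = 0 := by omega
      subst hi
      exact ⟨(HomologicalComplex.singleObjXSelf (ComplexShape.up ℤ) 0 (T.obj d)) ≪≫
        eqToIso (congrArg T.obj (by simp)) ≪≫ sigmaFinOneIso _⟩
    · exact nonempty_iso_sigma_of_isZero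
        (HomologicalComplex.isZero_single_obj_X _ _ _ _ (by omega)) _
        (Nat.choose_eq_zero_of_lt hj)
  | succ r ih =>
    intro d i j hij
    let e0 := HomologicalComplex.homotopyCofiber.XIsoBiprod ((kos T r).x r d) i (i + 1) rfl
    rcases Nat.eq_zero_or_pos j with hj | hj
    · subst hj
      have hi : i = 0 := by omega
      subst hi
      obtain ⟨e1⟩ := ih (d + 1) 0 0 (by simp)
      refine ⟨e0 ≪≫ biprodIsoOfIsZeroLeft (isZero_kos_X T r d (0 + 1) (by omega)) ≪≫ e1 ≪≫
        sigmaConstIso (by simp) (eqToIso (congrArg T.obj (by push_cast; ring)))⟩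
    · obtain ⟨j', rfl⟩ : ∃ j', j = j' + 1 := ⟨j - 1, by omega⟩
      obtain ⟨e1⟩ := ih d (i + 1) j' (by push_cast at hij ⊢; omega)
      obtain ⟨e2⟩ := ih (d + 1) i (j' + 1) hij
      refine ⟨e0 ≪≫ biprod.mapIso
          (e1 ≪≫ sigmaConstIso rfl (eqToIso (congrArg T.obj (by push_cast; ring))))
          (e2 ≪≫ sigmaConstIso rfl (eqToIso (congrArg T.obj (by push_cast; ring)))) ≪≫
        sigmaFinAddIso _ _ _ ≪≫ sigmaConstIso (Nat.choose_succ_succ r j').symm (Iso.refl _)⟩

end Terms

section Functor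

variable {𝒟 : Type u'} [Category.{v'} 𝒟] [Abelian 𝒟] (G : 𝒞 ⥤ 𝒟) [G.Additive]

/-- `G` maps the `c`-th multiplication maps to degreewise isomorphisms -/
def GIso (T : TwSys (CochainComplex 𝒞 ℤ)) (c : ℕ) : Prop :=
  ∀ d i, IsIso (G.map ((T.x c d).f i))

/-- `G` maps all complexes of the system to acyclic complexes -/
def GAcyclic (T : TwSys (CochainComplex 𝒞 ℤ)) : Prop :=
  ∀ d, ((G.mapHomologicalComplex (ComplexShape.up ℤ)).obj (T.obj d)).Acyclic

lemma cone_GIso {T : TwSys (CochainComplex 𝒞 ℤ)} {c : ℕ} (h : T.GIso G c) (r : ℕ) :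
    (T.cone r).GIso G c := fun d i =>
  isIso_map_map_f (T.x r d) (T.x r (d + 1)) G (T.x c d) (T.x c (d + 1)) (T.comm r c d) i
    (h d (i + 1)) (h (d + 1) i)

lemma acyclic_of_iso {K L : CochainComplex 𝒟 ℤ} (e : K ≅ L) (h : L.Acyclic) : K.Acyclic := by
  intro i
  rw [exactAt_iff_isZero_homology]
  exact IsZero.of_iso ((h i).isZero_homology)
    ((HomologicalComplex.homologyFunctor 𝒟 (ComplexShape.up ℤ) i).mapIso e)

lemma cone_GAcyclic_of_GIso {T : TwSys (CochainComplex 𝒞 ℤ)} {r : ℕ} (h : T.GIso G r) :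
    (T.cone r).GAcyclic G := by
  intro d
  let φ := (G.mapHomologicalComplex (ComplexShape.up ℤ)).map (T.x r d)
  have h1 : ∀ i, IsIso (φ.f i) := fun i => h d i
  have h2 : IsIso φ := HomologicalComplex.Hom.isIso_of_components φ
  have hq : QuasiIso φ := inferInstance
  have hc := (ConeQuasiIso.quasiIso_iff_acyclic_mappingCone φ).1 hq
  exact acyclic_of_iso (mappingCone.mapHomologicalComplexIso (T.x r d) G) hc

lemma cone_GAcyclic_of_GAcyclic {T : TwSys (CochainComplex 𝒞 ℤ)} (h : T.GAcyclic G) (r : ℕ) :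
    (T.cone r).GAcyclic G := by
  intro d
  let φ := (G.mapHomologicalComplex (ComplexShape.up ℤ)).map (T.x r d)
  have hq : QuasiIso φ := ⟨fun i => (quasiIsoAt_iff_exactAt φ i (h d i)).2 (h (d + 1) i)⟩
  have hc := (ConeQuasiIso.quasiIso_iff_acyclic_mappingCone φ).1 hq
  exact acyclic_of_iso (mappingCone.mapHomologicalComplexIso (T.x r d) G) hc

lemma isIso_map_single_map_f {A B : 𝒞} (f : A ⟶ B) (h : IsIso (G.map f)) :
    IsIso (G.map (((HomologicalComplex.single 𝒞 (ComplexShape.up ℤ) 0).map f).f 0)) := by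
  rw [HomologicalComplex.single_map_f_self, G.map_comp, G.map_comp]
  infer_instance

lemma single_GIso (T : TwSys 𝒞) (c : ℕ) (h : ∀ d, IsIso (G.map (T.x c d))) :
    (single T).GIso G c := by
  intro d i
  by_cases hi : i = 0
  · subst hi
    exact isIso_map_single_map_f G (T.x c d) (h d)
  · have hz1 : IsZero (G.obj (((single T).obj d).X i)) :=
      G.map_isZero (HomologicalComplex.isZero_single_obj_X _ _ _ _ hi)
    have hz2 : IsZero (G.obj (((single T).obj (d + 1)).X i)) :=
      G.map_isZero (HomologicalComplex.isZero_single_obj_X _ _ _ _ hi)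
    exact ⟨⟨0, hz1.eq_of_src _ _, hz2.eq_of_src _ _⟩⟩

lemma kos_GIso (T : TwSys 𝒞) (c : ℕ) (h : ∀ d, IsIso (G.map (T.x c d))) (r : ℕ) :
    (kos T r).GIso G c := by
  induction r with
  | zero => exact single_GIso G T c h
  | succ r ih => exact cone_GIso G ih r

/-- **Local acyclicity of Koszul systems**: if `G` inverts the `c`-th multiplication maps, `c < r`, then
`G` maps the complexes of `kos T r` to acyclic complexes. -/
theorem kos_GAcyclic (T : TwSys 𝒞) (c : ℕ) (h : ∀ d, IsIso (G.map (T.x c d))) (r : ℕ) (hr : c < r) :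
    (kos T r).GAcyclic G := by
  induction r with
  | zero => omega
  | succ r ih =>
    rcases Nat.lt_succ_iff_lt_or_eq.1 hr with h1 | h1
    · exact cone_GAcyclic_of_GAcyclic G (ih h1) r
    · subst h1
      exact cone_GAcyclic_of_GIso G (kos_GIso G T c h c)

end Functor

section Detect

/-- a family of homology-preserving additive functors which jointly detect zero objects detects acyclicity -/
theorem acyclic_of_forall_map {ι : Type*} {𝒟 : ι → Type u'} [∀ c, Category.{v'} (𝒟 c)]
    [∀ c, Abelian (𝒟 c)] (G : ∀ c, 𝒞 ⥤ 𝒟 c) [∀ c, (G c).Additive] [∀ c, (G c).PreservesHomology]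
    (hdet : ∀ M : 𝒞, (∀ c, IsZero ((G c).obj M)) → IsZero M) (K : CochainComplex 𝒞 ℤ)
    (h : ∀ c, (((G c).mapHomologicalComplex (ComplexShape.up ℤ)).obj K).Acyclic) : K.Acyclic := by
  intro i
  rw [exactAt_iff_isZero_homology]
  apply hdet
  intro c
  exact IsZero.of_iso ((h c i).isZero_homology) ((K.sc i).mapHomologyIso (G c)).symm

end Detect

section KosCx

lemma acyclic_shift (K : CochainComplex 𝒞 ℤ) (k : ℤ) (h : K.Acyclic) :
    ((CategoryTheory.shiftFunctor (CochainComplex 𝒞 ℤ) k).obj K).Acyclic := by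
  intro i
  rw [exactAt_iff_isZero_homology]
  exact IsZero.of_iso ((h (k + i)).isZero_homology)
    ((CochainComplex.ShiftSequence.shiftIso 𝒞 k i (k + i) rfl).app K)

/-- the Koszul complex on the first `N` multiplication maps, placed in degrees `[0, N]`: its term of degree
`i` is a sum of `choose N i` copies of `T.obj (a + i)` -/
noncomputable def kosCx (T : TwSys 𝒞) (N : ℕ) (a : ℤ) : CochainComplex 𝒞 ℤ :=
  (CategoryTheory.shiftFunctor (CochainComplex 𝒞 ℤ) (-(N : ℤ))).obj ((kos T N).obj a)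

lemma kosCx_acyclic (T : TwSys 𝒞) (N : ℕ) (a : ℤ) (h : ((kos T N).obj a).Acyclic) :
    (kosCx T N a).Acyclic := acyclic_shift _ _ h

lemma isZero_kosCx_X (T : TwSys 𝒞) (N : ℕ) (a i : ℤ) (hi : i < 0 ∨ (N : ℤ) < i) :
    IsZero ((kosCx T N a).X i) :=
  isZero_kos_X T N a (i + -(N : ℤ)) (by omega)

lemma nonempty_kosCx_X_iso (T : TwSys 𝒞) (N : ℕ) (a : ℤ) (i : ℕ) (hi : i ≤ N) :
    Nonempty ((kosCx T N a).X (i : ℤ) ≅ ∐ fun _ : Fin (N.choose i) => T.obj (a + i)) := by
  obtain ⟨e⟩ := nonempty_kos_X_iso T N a ((i : ℤ) + -(N : ℤ)) (N - i) (by omega)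
  exact ⟨e ≪≫ sigmaConstIso (Nat.choose_symm hi) (eqToIso (congrArg T.obj (by ring)))⟩

end KosCx

end TwSys

end Groth.Agent.Lib.H4Koszul
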