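import Groth.Agent.Lib.H4KoszulSurjGen
import Groth.Agent.Lib.H4KoszulPn
import Groth.Agent.Lib.H4ChaseOff
import Groth.Agent.Lib.H4Regularity

/-!
# Surjectivity of multiplication maps on global sections from the Koszul complex (helper4)

* `ΓF X` : the global sections functor `X.Modules ⥤ Ab`;
* `kos_acyclic` : the (unshifted) Koszul complex of `F` on `P^n_R` is acyclic;
* `exists_sum_mul` : if `H^{l-1}(F(t - l)) = 0` for `l = 2, …, n + 1` then every global section of `F(t)` is a sum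
  `∑_c x_c · s_c` with `s_c` global sections of `F(t - 1)`.
-/

set_option autoImplicit false
universe u
open CategoryTheory CategoryTheory.Limits AlgebraicGeometry TopologicalSpace Opposite

namespace Groth.Agent.Lib.H4KoszulSurj

open Groth.Agent.Lib.H4Koszul Groth.Agent.Lib.H4KoszulPn Groth.Agent.Lib.CohLES
open Groth.Agent.Lib.H4Regularity

variable (n : ℕ) (R : Type u) [CommRing R] (F : (CohB1.ProjSpace n R).Modules)

/-- the unshifted Koszul complex of `F` is acyclic -/
theorem kos_acyclic (a : ℤ) : ((TwSys.kos (twSys n R F) (n + 1)).obj a).Acyclic := by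
  refine TwSys.acyclic_of_forall_map
    (𝒟 := fun c : Fin (n + 1) => ((stdOpen n R c : (CohB1.ProjSpace n R).Opens) : Scheme.{u}).Modules)
    (fun c => Scheme.Modules.restrictFunctor (stdOpen n R c).ι)
    (fun M hM => isZero_of_forall_restrict M _ (iSup_stdOpen n R) hM) _ (fun c => ?_)
  exact TwSys.kos_GAcyclic _ (twSys n R F) c.1 (fun d => isIso_restrict_twSys_x n R F c d)
    (n + 1) c.2 a

/-- the last differential of the Koszul complex of `F` is surjective on global sections, if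
`H^{l-1}(F(t - l)) = 0` for `l = 2, …, n + 1` -/
theorem surjective_kos_d_app_top (t a : ℤ) (hat : a + ((n + 1 : ℕ) : ℤ) = t)
    (h : ∀ l : ℕ, 2 ≤ l → l ≤ n + 1 → Subsingleton (Coh.HH (CohB1.ProjSpace n R)
      (CohB1.tensorMod F (Twist.twistProjSpace n R (t - l))) (l - 1))) :
    Function.Surjective ((((TwSys.kos (twSys n R F) (n + 1)).obj a).d (-1) 0).app ⊤) := by
  refine Groth.Agent.Lib.H4Chase.surjective_d_app_top _ (kos_acyclic n R F a) (-((n + 1 : ℕ) : ℤ))
    (TwSys.isZero_kos_X (twSys n R F) (n + 1) a _ (Or.inr (by omega))) (n + 1) (by omega)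
    (TwSys.isZero_kos_X (twSys n R F) (n + 1) a _ (Or.inl (by omega))) ?_ (-1) 0
    (by push_cast; ring) (by push_cast; ring)
  intro j hj
  obtain ⟨e⟩ := TwSys.nonempty_kos_X_iso (twSys n R F) (n + 1) a (-((n + 1 : ℕ) : ℤ) + j)
    (n + 1 - j) (by rw [Nat.cast_sub (by omega)]; push_cast; ring)
  have h1 := h (n + 1 - j) (by omega) (by omega)
  have h2 := subsingleton_HH_congr n R F
    (show t - ((n + 1 - j : ℕ) : ℤ) = a + ((n + 1 : ℕ) : ℤ) + (-((n + 1 : ℕ) : ℤ) + j) by
      rw [Nat.cast_sub (by omega), ← hat]; push_cast; ring)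
    (show n + 1 - j - 1 = n + 1 - 1 - j by omega) h1
  have h3 := subsingleton_HH_sigma_fintype
    (fun _ : Fin (Nat.choose (n + 1) (n + 1 - j)) =>
      (twSys n R F).obj (a + ((n + 1 : ℕ) : ℤ) + (-((n + 1 : ℕ) : ℤ) + j)))
    (n + 1 - 1 - j) (fun _ => h2)
  exact subsingleton_of_iso e _

/-- **Surjectivity of multiplication**: if `H^{l-1}(F(t - l)) = 0` for `l = 2, …, n + 1` then every global
section of `F(t)` is a sum `∑_c x_c · s_c` with `s_c` global sections of `F(t - 1)`. -/
theorem exists_sum_mul (t₀ t : ℤ) (ht : t₀ + 1 = t)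
    (h : ∀ l : ℕ, 2 ≤ l → l ≤ n + 1 → Subsingleton (Coh.HH (CohB1.ProjSpace n R)
      (CohB1.tensorMod F (Twist.twistProjSpace n R (t - l))) (l - 1)))
    (τ : Γ((twSys n R F).obj t, ⊤)) :
    ∃ s : ℕ → Γ((twSys n R F).obj t₀, ⊤),
      τ = ∑ c ∈ Finset.range (n + 1),
        ((twSys n R F).x' c t₀ t ht).app ⊤ (s c) := by
  have hat : t - ((n + 1 : ℕ) : ℤ) + ((n + 1 : ℕ) : ℤ) = t := by ring
  exact exists_sum_mul_of_surjective (twSys n R F) (n + 1) _ t₀ t hat ht
    (surjective_kos_d_app_top n R F t _ hat h) τ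

end Groth.Agent.Lib.H4KoszulSurj
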