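import Groth.Agent.Lib.H4KoszulTop
import Mathlib.AlgebraicGeometry.Modules.Sheaf

/-!
# Sections of the top term of an abstract Koszul complex of modules on a scheme (helper4)

* `ΓF X` : the global sections functor `X.Modules ⥤ Ab`;
* `exists_sum_mul_of_surjective` : for a twist system `T` of `O_X`-modules, if the last differential of
  `(kos T r).obj d` is surjective on global sections then every global section of `T.obj e` (`e = d + r`) is a sum
  `∑_{c<r} x_c · s_c` with `s_c` global sections of `T.obj (e - 1)`.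
-/

set_option autoImplicit false
universe u
open CategoryTheory CategoryTheory.Limits AlgebraicGeometry TopologicalSpace Opposite

namespace Groth.Agent.Lib.H4KoszulSurj

open Groth.Agent.Lib.H4Koszul

/-- the global sections functor -/
noncomputable def ΓF (X : Scheme.{u}) : X.Modules ⥤ AddCommGrpCat.{u} :=
  Scheme.Modules.toPresheaf X ⋙ (evaluation _ _).obj (op ⊤)

instance (X : Scheme.{u}) : (ΓF X).Additive := ⟨fun {_ _ _ _} => rfl⟩

lemma ΓF_map_hom_apply {X : Scheme.{u}} {M N : X.Modules} (f : M ⟶ N) (z : (ΓF X).obj M) :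
    ((ΓF X).map f).hom z = f.app ⊤ z := rfl

lemma app_comp_apply {X : Scheme.{u}} {M N P : X.Modules} (f : M ⟶ N) (g : N ⟶ P) (z : Γ(M, ⊤)) :
    (f ≫ g).app ⊤ z = g.app ⊤ (f.app ⊤ z) := rfl

lemma iso_inv_hom_app_apply {X : Scheme.{u}} {M N : X.Modules} (e : M ≅ N) (z : Γ(N, ⊤)) :
    e.hom.app ⊤ (e.inv.app ⊤ z) = z := by
  rw [← app_comp_apply, e.inv_hom_id]
  rfl

lemma sum_ΓF_eq {X : Scheme.{u}} {M N : X.Modules} (r : ℕ) (f : ℕ → (M ⟶ N)) (s : ℕ → Γ(M, ⊤)) :
    (∑ c ∈ Finset.range r, ((ΓF X).map (f c)).hom (s c)) =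
      ∑ c ∈ Finset.range r, (f c).app ⊤ (s c) := rfl

/-- if the last differential of an abstract Koszul complex of modules is surjective on global sections, every global
section of the top term is a sum of multiples -/
theorem exists_sum_mul_of_surjective {X : Scheme.{u}} (T : TwSys X.Modules) (r : ℕ) (d e₀ e : ℤ)
    (h : d + r = e) (he : e₀ + 1 = e)
    (hsurj : Function.Surjective ((((TwSys.kos T r).obj d).d (-1) 0).app ⊤))
    (τ : Γ(T.obj e, ⊤)) :
    ∃ s : ℕ → Γ(T.obj e₀, ⊤),
      τ = ∑ c ∈ Finset.range r, (T.x' c e₀ e he).app ⊤ (s c) := by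
  obtain ⟨z, hz⟩ := hsurj ((TwSys.topIso T r d e h).inv.app ⊤ τ)
  obtain ⟨s, hs⟩ := TwSys.exists_sum_of_top_d (ΓF X) T r d e₀ e h he z
  refine ⟨s, ?_⟩
  rw [ΓF_map_hom_apply, app_comp_apply, hz, iso_inv_hom_app_apply, sum_ΓF_eq] at hs
  exact hs

end Groth.Agent.Lib.H4KoszulSurj
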