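import Groth.Agent.Lib.H4Koszul

/-!
# The top differential of abstract Koszul complexes (helper4)

For a twist system `T` and `K = (kos T r).obj d` (degrees `[-r, 0]`):
* `topIso T r d e h : K.X 0 ≅ T.obj e` for `d + r = e`;
* `kos_x_f_zero_topIso` : the multiplication maps of `kos T r` are, in degree `0`, the multiplication maps of `T`;
* `exists_sum_of_top_d` : for an additive functor `Φ` to abelian groups, the image of `Φ(K^{-1}) → Φ(K^0) ≅ Φ(T.obj e)` is
  contained in `∑_{c < r} Φ(x_c) (Φ(T.obj (e - 1)))`.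
-/

set_option autoImplicit false
set_option linter.unusedSectionVars false

universe w v u

open CategoryTheory CategoryTheory.Limits CochainComplex HomologicalComplex

namespace Groth.Agent.Lib.H4Koszul

variable {𝒞 : Type u} [Category.{v} 𝒞] [Abelian 𝒞]

namespace TwSys

/-- multiplication maps with a flexible target index -/
def x' (T : TwSys 𝒞) (c : ℕ) (e e' : ℤ) (h : e + 1 = e') : T.obj e ⟶ T.obj e' :=
  T.x c e ≫ eqToHom (by rw [h])

section ConeZero

variable {A B : CochainComplex 𝒞 ℤ} (φ : A ⟶ B)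

/-- `(mappingCone φ).X 0 ≅ B.X 0` if `A.X 1 = 0` -/
noncomputable def coneXZeroIso (hA : IsZero (A.X 1)) : (mappingCone φ).X 0 ≅ B.X 0 where
  hom := (mappingCone.snd φ).v 0 0 (add_zero 0)
  inv := (mappingCone.inr φ).f 0
  hom_inv_id := by
    have h := mappingCone.id_X φ 0 1 (by omega)
    rw [hA.eq_of_tgt ((mappingCone.fst φ).1.v 0 1 (by omega)) 0, Limits.zero_comp, zero_add] at h
    exact h
  inv_hom_id := mappingCone.inr_f_snd_v φ 0

end ConeZero

/-- the canonical isomorphism between the degree `0` term of `(kos T r).obj d` and `T.obj (d + r)` -/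
noncomputable def topIso (T : TwSys 𝒞) : ∀ (r : ℕ) (d e : ℤ), d + r = e → (((kos T r).obj d).X 0 ≅ T.obj e)
  | 0, d, e, h => HomologicalComplex.singleObjXSelf (ComplexShape.up ℤ) 0 (T.obj d) ≪≫
      eqToIso (congrArg T.obj (by simpa using h))
  | r + 1, d, e, h => coneXZeroIso ((kos T r).x r d) (isZero_kos_X T r d 1 (by omega)) ≪≫
      topIso T r (d + 1) e (by push_cast at h; omega)

lemma topIso_succ_hom (T : TwSys 𝒞) (r : ℕ) (d e : ℤ) (h : d + (r + 1 : ℕ) = e) :
    (topIso T (r + 1) d e h).hom =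
      (mappingCone.snd ((kos T r).x r d)).v 0 0 (add_zero 0) ≫
        (topIso T r (d + 1) e (by push_cast at h; omega)).hom := rfl

/-- in degree `0`, `mappingCone.map` is the map on the targets -/
lemma map_f_zero_snd {K₁ L₁ K₂ L₂ : CochainComplex 𝒞 ℤ} (φ₁ : K₁ ⟶ L₁) (φ₂ : K₂ ⟶ L₂)
    (a : K₁ ⟶ K₂) (b : L₁ ⟶ L₂) (comm : φ₁ ≫ b = a ≫ φ₂) (i : ℤ) :
    (mappingCone.map φ₁ φ₂ a b comm).f i ≫ (mappingCone.snd φ₂).v i i (add_zero i) =
      (mappingCone.snd φ₁).v i i (add_zero i) ≫ b.f i := by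
  rw [map_f_eq]
  simp

/-- the multiplication maps of `kos T r` in degree `0` -/
theorem kos_x_f_zero_topIso (T : TwSys 𝒞) (c : ℕ) : ∀ (r : ℕ) (d e e' : ℤ) (h : d + r = e)
    (hee' : e + 1 = e'),
    ((kos T r).x c d).f 0 ≫ (topIso T r (d + 1) e' (by omega)).hom =
      (topIso T r d e h).hom ≫ T.x' c e e' hee'
  | 0, d, e, e', h, hee' => by
    obtain rfl : d = e := by simpa using h
    subst hee'
    change ((HomologicalComplex.single 𝒞 (ComplexShape.up ℤ) 0).map (T.x c d)).f 0 ≫ _ = _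
    simp [topIso, x', HomologicalComplex.single_map_f_self]
    rfl
  | r + 1, d, e, e', h, hee' => by
    rw [topIso_succ_hom, topIso_succ_hom]
    change (mappingCone.map ((kos T r).x r d) ((kos T r).x r (d + 1)) ((kos T r).x c d)
      ((kos T r).x c (d + 1)) ((kos T r).comm r c d)).f 0 ≫ _ = _
    rw [← Category.assoc, map_f_zero_snd, Category.assoc,
      kos_x_f_zero_topIso T c r (d + 1) e e' (by push_cast at h; omega) hee']
    exact (Category.assoc _ _ _).symm

section Phi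

variable (Φ : 𝒞 ⥤ AddCommGrpCat.{w}) [Φ.Additive]

theorem cone_top_apply {A B : CochainComplex 𝒞 ℤ} (φ : A ⟶ B) {Y : 𝒞} (ε : B.X 0 ⟶ Y)
    (z : Φ.obj ((mappingCone φ).X (-1))) :
    (Φ.map ((mappingCone φ).d (-1) 0 ≫ (mappingCone.snd φ).v 0 0 (add_zero 0) ≫ ε)).hom z =
      (Φ.map (φ.f 0 ≫ ε)).hom ((Φ.map ((mappingCone.fst φ).1.v (-1) 0 (by omega))).hom z) +
      (Φ.map (B.d (-1) 0 ≫ ε)).hom
        ((Φ.map ((mappingCone.snd φ).v (-1) (-1) (add_zero _))).hom z) := by
  have key : (mappingCone φ).d (-1) 0 ≫ (mappingCone.snd φ).v 0 0 (add_zero 0) ≫ ε =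
      (mappingCone.fst φ).1.v (-1) 0 (by omega) ≫ φ.f 0 ≫ ε +
      (mappingCone.snd φ).v (-1) (-1) (add_zero _) ≫ B.d (-1) 0 ≫ ε := by
    rw [← Category.assoc, mappingCone.d_snd_v φ (-1) 0 (by omega), Preadditive.add_comp,
      Category.assoc, Category.assoc]
  rw [key, Φ.map_add, AddCommGrpCat.hom_add, AddMonoidHom.add_apply,
    Φ.map_comp ((mappingCone.fst φ).1.v (-1) 0 (by omega)) (φ.f 0 ≫ ε),
    Φ.map_comp ((mappingCone.snd φ).v (-1) (-1) (add_zero _)) (B.d (-1) 0 ≫ ε)]
  rfl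

/-- the image of the top differential of a Koszul complex under an additive functor to abelian groups lies in
the sum of the images of the multiplication maps -/
theorem exists_sum_of_top_d (T : TwSys 𝒞) : ∀ (r : ℕ) (d e₀ e : ℤ) (h : d + r = e) (he : e₀ + 1 = e)
    (z : Φ.obj (((kos T r).obj d).X (-1))),
    ∃ s : ℕ → Φ.obj (T.obj e₀),
      (Φ.map (((kos T r).obj d).d (-1) 0 ≫ (topIso T r d e h).hom)).hom z =
        ∑ c ∈ Finset.range r, (Φ.map (T.x' c e₀ e he)).hom (s c)
  | 0, d, e₀, e, h, he, z => by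
    refine ⟨fun _ => 0, ?_⟩
    have h0 : ((kos T 0).obj d).d (-1) 0 = 0 := HomologicalComplex.single_obj_d _ _ _ _ _
    rw [h0, Limits.zero_comp, Φ.map_zero]
    simp
  | r + 1, d, e₀, e, h, he, z => by
    have hd : d + (r : ℤ) = e₀ := by push_cast at h; omega
    have hd' : d + 1 + (r : ℤ) = e := by push_cast at h; omega
    have h1 := cone_top_apply Φ ((kos T r).x r d) (topIso T r (d + 1) e hd').hom z
    obtain ⟨s', hs'⟩ := exists_sum_of_top_d T r (d + 1) e₀ e hd' he
      ((Φ.map ((mappingCone.snd ((kos T r).x r d)).v (-1) (-1) (add_zero _))).hom z)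
    refine ⟨fun c => if c = r then
      (Φ.map (topIso T r d e₀ hd).hom).hom
        ((Φ.map ((mappingCone.fst ((kos T r).x r d)).1.v (-1) 0 (by omega))).hom z)
      else s' c, ?_⟩
    refine h1.trans ?_
    rw [hs', kos_x_f_zero_topIso T r r d e₀ e hd he, Finset.sum_range_succ]
    dsimp only
    rw [if_pos rfl, add_comm]
    congr 1
    · refine Finset.sum_congr rfl fun c hc => ?_
      rw [if_neg (by have := Finset.mem_range.1 hc; omega)]
    · rw [Φ.map_comp]
      rfl

end Phi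

end TwSys

end Groth.Agent.Lib.H4Koszul
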