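import Mathlib.Algebra.MvPolynomial.Basic
import Mathlib.RingTheory.MvPolynomial.Homogeneous
import Mathlib.Data.Finsupp.Weight
import Mathlib.Tactic.Linarith
import Mathlib.Tactic.Ring

/-!
# Laurent expansions of fractions `B / X^μ` as bare finitely supported functions (helper4, CohChain W5)

`Lau σ R = (σ →₀ ℤ) →₀ R` is used only as an additive group.
* `val B μ` : the Laurent expansion of `B / X^μ` (`B : MvPolynomial σ R`, `μ : σ →₀ ℕ`);
  `val_mul_monomial`, `val_eq_val_iff : val B μ = val B' μ' ↔ B * X^μ' = B' * X^μ`;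
* `lauSub d J` : Laurent polynomials of total degree `d` with non-negative exponents outside `J`;
* `negPart c` : projection onto the monomials with negative `c`-exponent; `sub_negPart_mem`, `prod_negPart_eq_zero`.
-/

set_option autoImplicit false

open MvPolynomial

namespace Groth.Agent.Lib.H4Laurent

variable {σ : Type*} {R : Type*} [CommRing R]

/-- Laurent polynomials, as an additive group. -/
abbrev Lau (σ R : Type*) [CommRing R] := (σ →₀ ℤ) →₀ R

/-- Exponent vectors: from `ℕ`-valued to `ℤ`-valued. -/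
noncomputable def toZ : (σ →₀ ℕ) →+ (σ →₀ ℤ) := Finsupp.mapRange.addMonoidHom (Nat.castAddMonoidHom ℤ)

@[simp] lemma toZ_apply (m : σ →₀ ℕ) (i : σ) : toZ m i = (m i : ℤ) := rfl

lemma toZ_injective : Function.Injective (toZ (σ := σ)) := by
  intro m m' h
  ext i
  have := DFunLike.congr_fun h i
  simpa using this

lemma toZ_single (i : σ) (k : ℕ) : toZ (Finsupp.single i k) = Finsupp.single i (k : ℤ) := by
  classical
  ext j
  simp only [toZ_apply, Finsupp.single_apply]
  split_ifs <;> simp

/-- `m ↦ m - μ`. -/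
noncomputable def shift (μ : σ →₀ ℕ) (m : σ →₀ ℕ) : σ →₀ ℤ := toZ m - toZ μ

lemma shift_injective (μ : σ →₀ ℕ) : Function.Injective (shift μ) := by
  intro m m' h
  exact toZ_injective (sub_left_injective h)

/-- The Laurent expansion of `B / X^μ`. -/
noncomputable def val (B : MvPolynomial σ R) (μ : σ →₀ ℕ) : Lau σ R :=
  Finsupp.mapDomain (shift μ) (AddMonoidAlgebra.coeff B)

lemma val_add (B B' : MvPolynomial σ R) (μ : σ →₀ ℕ) : val (B + B') μ = val B μ + val B' μ :=
  Finsupp.mapDomain_add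

@[simp] lemma val_zero (μ : σ →₀ ℕ) : val (0 : MvPolynomial σ R) μ = 0 :=
  Finsupp.mapDomain_zero

/-- `val · μ` as an additive map. -/
noncomputable def valHom (μ : σ →₀ ℕ) : MvPolynomial σ R →+ Lau σ R where
  toFun B := val B μ
  map_zero' := val_zero μ
  map_add' B B' := val_add B B' μ

lemma val_sub (B B' : MvPolynomial σ R) (μ : σ →₀ ℕ) : val (B - B') μ = val B μ - val B' μ :=
  map_sub (valHom μ) B B'

lemma val_sum {ι : Type*} (s : Finset ι) (f : ι → MvPolynomial σ R) (μ : σ →₀ ℕ) :
    val (∑ i ∈ s, f i) μ = ∑ i ∈ s, val (f i) μ :=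
  map_sum (valHom μ) f s

lemma val_monomial (m μ : σ →₀ ℕ) (r : R) :
    val (monomial m r) μ = Finsupp.single (toZ m - toZ μ) r := by
  unfold val
  exact Finsupp.mapDomain_single

lemma val_injective (μ : σ →₀ ℕ) : Function.Injective (fun B : MvPolynomial σ R => val B μ) := by
  intro B B' h
  exact AddMonoidAlgebra.coeff_injective (Finsupp.mapDomain_injective (shift_injective μ) h)

/-- Shift invariance: `(B X^ν) / X^(μ+ν) = B / X^μ`. -/
lemma val_mul_monomial (B : MvPolynomial σ R) (μ ν : σ →₀ ℕ) :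
    val (B * monomial ν 1) (μ + ν) = val B μ := by
  induction B using MvPolynomial.induction_on' with
  | monomial m r =>
    rw [monomial_mul, mul_one, val_monomial, val_monomial, map_add, map_add]
    congr 1
    abel
  | add p q hp hq => rw [add_mul, val_add, val_add, hp, hq]

lemma val_eq_val_iff (B B' : MvPolynomial σ R) (μ μ' : σ →₀ ℕ) :
    val B μ = val B' μ' ↔ B * monomial μ' 1 = B' * monomial μ 1 := by
  rw [← val_mul_monomial B μ μ', ← val_mul_monomial B' μ' μ, add_comm μ' μ]
  exact (val_injective (μ + μ')).eq_iff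

lemma val_apply_shift (B : MvPolynomial σ R) (μ m : σ →₀ ℕ) : val B μ (shift μ m) = coeff m B :=
  Finsupp.mapDomain_apply (shift_injective μ) _ _

lemma exists_of_mem_support_val {B : MvPolynomial σ R} {μ : σ →₀ ℕ} {z : σ →₀ ℤ}
    (hz : z ∈ (val B μ).support) : ∃ m ∈ B.support, z = toZ m - toZ μ := by
  classical
  have := Finsupp.mapDomain_support hz
  rw [Finset.mem_image] at this
  obtain ⟨m, hm, rfl⟩ := this
  exact ⟨m, hm, rfl⟩

section Sub

variable [Fintype σ]

/-- Total degree of a `ℤ`-valued exponent vector. -/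
def deg (z : σ →₀ ℤ) : ℤ := ∑ i, z i

lemma deg_add (z z' : σ →₀ ℤ) : deg (z + z') = deg z + deg z' := by
  simp [deg, Finset.sum_add_distrib]

lemma deg_sub (z z' : σ →₀ ℤ) : deg (z - z') = deg z - deg z' := by
  simp [deg, Finset.sum_sub_distrib]

lemma deg_toZ (m : σ →₀ ℕ) : deg (toZ m) = ((Finsupp.degree m : ℕ) : ℤ) := by
  simp [deg, Finsupp.degree_eq_sum]

/-- Laurent polynomials of total degree `d` with non-negative exponents outside `J`. -/
def lauSub (d : ℤ) (J : Set σ) : AddSubgroup (Lau σ R) where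
  carrier := {e | ∀ z ∈ e.support, deg z = d ∧ ∀ j, j ∉ J → 0 ≤ z j}
  zero_mem' := by intro z hz; simp at hz
  add_mem' := by
    classical
    intro e e' he he' z hz
    rcases Finset.mem_union.mp (Finsupp.support_add hz) with h | h
    · exact he z h
    · exact he' z h
  neg_mem' := by
    intro e he z hz
    rw [Finsupp.support_neg] at hz
    exact he z hz

lemma mem_lauSub {d : ℤ} {J : Set σ} {e : Lau σ R} :
    e ∈ lauSub d J ↔ ∀ z ∈ e.support, deg z = d ∧ ∀ j, j ∉ J → 0 ≤ z j := Iff.rfl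

lemma lauSub_mono {d : ℤ} {J J' : Set σ} (h : J ⊆ J') : lauSub (R := R) d J ≤ lauSub d J' := by
  intro e he z hz
  exact ⟨(he z hz).1, fun j hj => (he z hz).2 j (fun hj' => hj (h hj'))⟩

/-- `B / X^μ ∈ lauSub d J` if `B` is homogeneous of degree `|μ| + d` and `μ` is supported in `J`. -/
lemma val_mem_lauSub {d : ℤ} {J : Set σ} {B : MvPolynomial σ R} {μ : σ →₀ ℕ} {e : ℕ}
    (hB : B.IsHomogeneous e) (he : (e : ℤ) = Finsupp.degree μ + d) (hμ : ∀ j, j ∉ J → μ j = 0) :
    val B μ ∈ lauSub d J := by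
  intro z hz
  obtain ⟨m, hm, rfl⟩ := exists_of_mem_support_val hz
  have hdeg : Finsupp.degree m = e := by
    by_contra hne
    exact (mem_support_iff.mp hm) (hB.coeff_eq_zero hne)
  refine ⟨?_, fun j hj => ?_⟩
  · rw [deg_sub, deg_toZ, deg_toZ, hdeg, he]; ring
  · simp [hμ j hj]

end Sub

section NegPart

/-- Projection onto the Laurent monomials with negative `c`-exponent. -/
noncomputable def negPart (c : σ) : AddMonoid.End (Lau σ R) :=
  Finsupp.filterAddHom (fun z : σ →₀ ℤ => z c < 0)

lemma negPart_apply (c : σ) (e : Lau σ R) : negPart c e = Finsupp.filter (fun z => z c < 0) e := rfl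

lemma sub_negPart (c : σ) (e : Lau σ R) :
    e - negPart c e = Finsupp.filter (fun z : σ →₀ ℤ => ¬ z c < 0) e := by
  rw [negPart_apply, sub_eq_iff_eq_add, add_comm]
  exact (Finsupp.filter_add_filter_not e _).symm

variable [Fintype σ]

/-- `1 - negPart c` maps `lauSub d (insert c J)` into `lauSub d J`. -/
lemma sub_negPart_mem {d : ℤ} {J : Set σ} (c : σ) {e : Lau σ R} (he : e ∈ lauSub d (insert c J)) :
    e - negPart c e ∈ lauSub d J := by
  classical
  rw [sub_negPart]
  intro z hz
  rw [Finsupp.support_filter, Finset.mem_filter] at hz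
  refine ⟨(he z hz.1).1, fun j hj => ?_⟩
  by_cases hjc : j = c
  · subst hjc; exact not_lt.mp hz.2
  · exact (he z hz.1).2 j (fun h => by
      rcases Set.mem_insert_iff.mp h with h | h
      · exact hjc h
      · exact hj h)

omit [Fintype σ] in
lemma support_prod_negPart (cs : List σ) (e : Lau σ R) :
    ∀ z ∈ ((cs.map negPart).prod e).support, z ∈ e.support ∧ ∀ c ∈ cs, z c < 0 := by
  classical
  induction cs with
  | nil => intro z hz; exact ⟨by simpa using hz, fun c hc => by simp at hc⟩
  | cons c cs ih =>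
    intro z hz
    rw [List.map_cons, List.prod_cons] at hz
    change z ∈ (negPart c ((cs.map negPart).prod e)).support at hz
    rw [negPart_apply, Finsupp.support_filter, Finset.mem_filter] at hz
    obtain ⟨h1, h2⟩ := ih z hz.1
    refine ⟨h1, fun c' hc' => ?_⟩
    rcases List.mem_cons.mp hc' with rfl | h
    · exact hz.2
    · exact h2 c' h

/-- The product of all the `negPart c` kills `lauSub d J` when `J ≠ univ` or `d > -(card σ)`. -/
lemma prod_negPart_eq_zero {d : ℤ} {J : Set σ} (cs : List σ) (hcs : ∀ c : σ, c ∈ cs)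
    (h : (∃ j, j ∉ J) ∨ -(Fintype.card σ : ℤ) < d) {e : Lau σ R} (he : e ∈ lauSub d J) :
    (cs.map negPart).prod e = 0 := by
  classical
  rw [← Finsupp.support_eq_empty, Finset.eq_empty_iff_forall_notMem]
  intro z hz
  obtain ⟨hze, hneg⟩ := support_prod_negPart cs e z hz
  obtain ⟨hdeg, hJ⟩ := he z hze
  rcases h with ⟨j, hj⟩ | hd
  · exact absurd (hneg j (hcs j)) (not_lt.mpr (hJ j hj))
  · have : deg z ≤ -(Fintype.card σ : ℤ) := by
      unfold deg
      calc ∑ i, z i ≤ ∑ _i : σ, (-1 : ℤ) := Finset.sum_le_sum fun i _ => by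
            have := hneg i (hcs i); omega
        _ = -(Fintype.card σ : ℤ) := by simp
    omega

end NegPart

section Lift

variable [Fintype σ]

/-- Clearing denominators: a `ℤ`-valued exponent vector which is non-negative outside `J` becomes `ℕ`-valued after
adding a multiple of any `γ` which is positive on `J`. -/
lemma exists_toZ_eq (z : σ →₀ ℤ) (J : Set σ) (hz : ∀ j, j ∉ J → 0 ≤ z j) (γ : σ →₀ ℕ)
    (hγ : ∀ j, j ∈ J → 1 ≤ γ j) : ∃ (k : ℕ) (m : σ →₀ ℕ), toZ m = z + toZ (k • γ) := by
  classical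
  refine ⟨∑ i, (z i).natAbs, Finsupp.equivFunOnFinite.symm
    (fun i => (z i + ((∑ i, (z i).natAbs) * γ i : ℕ)).toNat), ?_⟩
  ext i
  simp only [toZ_apply, Finsupp.equivFunOnFinite_symm_apply_apply, Finsupp.coe_add, Pi.add_apply,
    Finsupp.coe_smul, Pi.smul_apply, smul_eq_mul]
  rw [Int.toNat_of_nonneg]
  by_cases hi : i ∈ J
  · have h1 := hγ i hi
    have h2 : (z i).natAbs ≤ ∑ i, (z i).natAbs :=
      Finset.single_le_sum (f := fun i => (z i).natAbs) (fun _ _ => Nat.zero_le _) (Finset.mem_univ i)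
    have h3 : (z i).natAbs ≤ (∑ i, (z i).natAbs) * γ i :=
      h2.trans (Nat.le_mul_of_pos_right _ h1)
    have h4 : -(z i) ≤ ((z i).natAbs : ℤ) := by omega
    have h5 : (((z i).natAbs : ℕ) : ℤ) ≤ (((∑ i, (z i).natAbs) * γ i : ℕ) : ℤ) := by exact_mod_cast h3
    omega
  · have := hz i hi
    positivity

end Lift

end Groth.Agent.Lib.H4Laurent
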