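import Groth.Agent.Lib.H4KoszulSurj
import Groth.Agent.Lib.H4TwistUnit
import Groth.Agent.Lib.ProjSpaceFin

/-!
# Surjectivity of the multiplication `H^0(M) ⊗ H^0(O(1)) → H^0(M(1))` on `P^n_R` (helper4)

* `nonempty_twist_twist` : `(F ⊗ O(a)) ⊗ O(b) ≅ F ⊗ O(a + b)`;
* `xSec n R c : Γ(O(1), ⊤)` : the coordinate sections;
* `exists_sum_tmul` : if `H^i(M(-i)) = 0` for `1 ≤ i ≤ n`, every global section of `M ⊗ O(1)` is a sum
  `∑_c s_c ⊗ x_c` with `s_c` global sections of `M`;
* `surjective_toSheafify_top` : the same, as surjectivity of `toSheafify` on global sections of the presheaf tensor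
  product.
-/

set_option autoImplicit false
universe u
open CategoryTheory CategoryTheory.Limits AlgebraicGeometry TopologicalSpace Opposite Twist
open Groth.Agent.Lib.H90Invertible Groth.Agent.Lib.H4TensorPair Groth.Agent.Lib.H4Twist

namespace Groth.Agent.Lib.H4MulSurj

open Groth.Agent.Lib.H4Koszul Groth.Agent.Lib.H4KoszulPn Groth.Agent.Lib.H4KoszulSurj
open Groth.Agent.Lib.OXModTensor Groth.Agent.Lib.H78TensorGen

variable (n : ℕ) (R : Type u) [CommRing R]

/-- `(F ⊗ O(a)) ⊗ O(b) ≅ F ⊗ O(c)` for `a + b = c`. -/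
theorem nonempty_twist_twist (F : (CohB1.ProjSpace n R).Modules)
    (a b c : ℤ) (h : a + b = c) :
    Nonempty (CohB1.tensorMod (CohB1.tensorMod F (Twist.twistProjSpace n R a)) (Twist.twistProjSpace n R b) ≅
      CohB1.tensorMod F (Twist.twistProjSpace n R c)) :=
  ⟨Groth.Agent.Lib.OXModTensor.associator _ _ _ ≪≫
    Groth.Agent.Lib.OXModTensor.tensorModIso (CategoryTheory.Iso.refl F)
      (Groth.Agent.Lib.H4Twist.twistMulIso_of_cover (CohB1.polyGrading n R)
        (Groth.Agent.Lib.ProjSpaceFin.hcov n R) a b ≪≫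
        CategoryTheory.eqToIso (congrArg (Twist.twist (CohB1.polyGrading n R)) h))⟩

/-- the sections `x_c · 1` of `O(e)`, `d + 1 = e`, obtained from a section of `O(d)` -/
noncomputable def mulX (c : ℕ) (d e : ℤ) (h : d + 1 = e) {V : (CohB1.ProjSpace n R).Opens}
    (b : Γ(Twist.twistProjSpace n R d, V)) : Γ(Twist.twistProjSpace n R e, V) :=
  if hc : c < n + 1 then
    mulSec (𝒜 := CohB1.polyGrading n R) h b (fSec (Groth.Agent.Lib.ProjSpaceCover.X_mem n R ⟨c, hc⟩) V)
  else 0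

variable (M : (CohB1.ProjSpace n R).Modules)

lemma x'_app_tmul (c : ℕ) (hc : c < n + 1) (d e : ℤ) (h : d + 1 = e) {V : (CohB1.ProjSpace n R).Opens}
    (a : Γ(M, V)) (b : Γ(Twist.twistProjSpace n R d, V)) :
    ((twSys n R M).x' c d e h).app V (tmul a b) = tmul a (mulX n R c d e h b) := by
  subst h
  have h1 : (twSys n R M).x' c d (d + 1) rfl = tensorModMap (𝟙 M)
      (show Twist.twistProjSpace n R d ⟶ Twist.twistProjSpace n R (d + 1) from
        mulHom (Groth.Agent.Lib.ProjSpaceCover.X_mem n R ⟨c, hc⟩) d) := by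
    have h2 : (twSys n R M).x c d = tensorModMap (𝟙 M)
      (show Twist.twistProjSpace n R d ⟶ Twist.twistProjSpace n R (d + 1) from
        mulHom (Groth.Agent.Lib.ProjSpaceCover.X_mem n R ⟨c, hc⟩) d) := dif_pos hc
    rw [TwSys.x', h2]
    exact Category.comp_id _
  rw [h1]
  refine (tensorModMap_tmul (𝟙 M) _ a b).trans ?_
  rw [mulX, dif_pos hc]
  rfl

/-- multiplication by the coordinate `x_c`, as a morphism `M(d) ⟶ M(e)`, `d + 1 = e` (zero for `c > n`); kernel-opaque, use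
`mulXHom_def`, `mulXHom_app_tmul`, `exists_sum_mulXHom` -/
noncomputable irreducible_def mulXHom (c : ℕ) (d e : ℤ) (h : d + 1 = e) :
    CohB1.tensorMod M (Twist.twistProjSpace n R d) ⟶ CohB1.tensorMod M (Twist.twistProjSpace n R e) :=
  (twSys n R M).x' c d e h

lemma mulXHom_app_tmul (c : ℕ) (hc : c < n + 1) (d e : ℤ) (h : d + 1 = e) {V : (CohB1.ProjSpace n R).Opens}
    (a : Γ(M, V)) (b : Γ(Twist.twistProjSpace n R d, V)) :
    (mulXHom n R M c d e h).app V (tmul a b) = tmul a (mulX n R c d e h b) := by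
  rw [mulXHom_def]
  exact x'_app_tmul n R M c hc d e h a b

/-- **Surjectivity of multiplication**, in terms of `mulXHom`: if `H^{l-1}(M(t - l)) = 0` for `l = 2, …, n + 1` then every
global section of `M(t)` is a sum `∑_c x_c · s_c` with `s_c` global sections of `M(t - 1)`. -/
theorem exists_sum_mulXHom (t₀ t : ℤ) (ht : t₀ + 1 = t)
    (h : ∀ l : ℕ, 2 ≤ l → l ≤ n + 1 → Subsingleton (Coh.HH (CohB1.ProjSpace n R)
      (CohB1.tensorMod M (Twist.twistProjSpace n R (t - l))) (l - 1)))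
    (τ : Γ(CohB1.tensorMod M (Twist.twistProjSpace n R t), ⊤)) :
    ∃ s : ℕ → Γ(CohB1.tensorMod M (Twist.twistProjSpace n R t₀), ⊤),
      τ = ∑ c ∈ Finset.range (n + 1), (mulXHom n R M c t₀ t ht).app ⊤ (s c) := by
  simp only [mulXHom_def]
  exact exists_sum_mul n R M t₀ t ht h τ

/-- the coordinate sections `x_c` of `O(1)` (zero for `c > n`) -/
noncomputable def xSec (c : ℕ) : Γ(Twist.twistProjSpace n R 1, ⊤) :=
  mulX n R c 0 1 (by norm_num) (oneSec (𝒜 := CohB1.polyGrading n R) ⊤)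

/-- **Surjectivity of multiplication by linear forms**: if `H^i(M(-i)) = 0` for `1 ≤ i ≤ n`, every global section
of `M ⊗ O(1)` is a sum `∑_c s_c ⊗ x_c` with `s_c` global sections of `M`. -/
theorem exists_sum_tmul
    (hvan : ∀ i : ℕ, 1 ≤ i → i ≤ n → Subsingleton (Coh.HH (CohB1.ProjSpace n R)
      (CohB1.tensorMod M (Twist.twistProjSpace n R (-(i : ℤ)))) i))
    (τ : Γ(CohB1.tensorMod M (Twist.twistProjSpace n R 1), ⊤)) :
    ∃ σ : ℕ → Γ(M, ⊤), τ = ∑ c ∈ Finset.range (n + 1), tmul (σ c) (xSec n R c) := by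
  have hv : ∀ l : ℕ, 2 ≤ l → l ≤ n + 1 → Subsingleton (Coh.HH (CohB1.ProjSpace n R)
      (CohB1.tensorMod M (Twist.twistProjSpace n R (1 - l))) (l - 1)) := by
    intro l hl2 hln
    have := hvan (l - 1) (by omega) (by omega)
    exact Groth.Agent.Lib.H4Regularity.subsingleton_HH_congr n R M
      (by rw [Nat.cast_sub (by omega)]; push_cast; ring) rfl this
  obtain ⟨s, hs⟩ := exists_sum_mul n R M 0 1 (by norm_num) hv τ
  · have hb := tmul_gen_bijective M (isGen_oneSec (𝒜 := CohB1.polyGrading n R) ⊤) (le_refl ⊤)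
    choose σ hσ using fun c => hb.2 (s c)
    refine ⟨σ, hs.trans (Finset.sum_congr rfl fun c hc => ?_)⟩
    have h1 : s c = tmul (σ c) (oneSec (𝒜 := CohB1.polyGrading n R) ⊤) := by
      rw [← hσ c]
      dsimp only
      rw [rs_self]
    rw [h1]
    exact x'_app_tmul n R M c (Finset.mem_range.1 hc) 0 1 _ (σ c) (oneSec ⊤)

/-- if every global section of `M ⊗ N` is a finite sum of pure tensors of global sections, the sheafification map of
the presheaf tensor product is surjective on global sections -/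
theorem surjective_toSheafify_of_sum {X : Scheme.{u}} (M N : X.Modules)
    (h : ∀ τ : Γ(CohB1.tensorMod M N, ⊤), ∃ (r : ℕ) (a : ℕ → Γ(M, ⊤)) (b : ℕ → Γ(N, ⊤)),
      τ = ∑ c ∈ Finset.range r, tmul (a c) (b c)) :
    Function.Surjective
      ((toSheafify (Opens.grothendieckTopology X) (CohB1.tensorPre M N).presheaf).app (op ⊤)) := by
  intro τ
  obtain ⟨r, a, b, hτ⟩ := h τ
  refine ⟨∑ c ∈ Finset.range r, ptmul (a c) (b c), ?_⟩
  have h1 := toPresheaf_unitT M N
  have h2 : ((toSheafify (Opens.grothendieckTopology X) (CohB1.tensorPre M N).presheaf).app (op ⊤)) =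
      ((PresheafOfModules.toPresheaf _).map (unitT M N)).app (op ⊤) := by rw [h1]; rfl
  rw [h2]
  change ((unitT M N).app (op ⊤)).hom (∑ c ∈ Finset.range r, ptmul (a c) (b c)) = τ
  rw [map_sum]
  exact hτ.symm

/-- **Surjectivity of `H^0(M) ⊗ H^0(O(1)) → H^0(M(1))`** on `P^n_R`, if `H^i(M(-i)) = 0` for `1 ≤ i ≤ n`. -/
theorem surjective_toSheafify_top
    (hvan : ∀ i : ℕ, 1 ≤ i → i ≤ n → Subsingleton (Coh.HH (CohB1.ProjSpace n R)
      (CohB1.tensorMod M (Twist.twistProjSpace n R (-(i : ℤ)))) i)) :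
    Function.Surjective
      ((toSheafify (Opens.grothendieckTopology (CohB1.ProjSpace n R))
        (CohB1.tensorPre M (Twist.twistProjSpace n R 1)).presheaf).app (op ⊤)) := by
  refine surjective_toSheafify_of_sum M _ fun τ => ?_
  obtain ⟨σ, hσ⟩ := exists_sum_tmul n R M hvan τ
  exact ⟨n + 1, σ, xSec n R, hσ⟩

end Groth.Agent.Lib.H4MulSurj
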