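import Groth.Agent.Lib.H4RegRes
import Groth.Agent.Lib.CohLESLinear
import Groth.Agent.Lib.SerreVanPN

/-!
# Mumford's lemma on hyperplane sections and regularity (helper4)

For `ι : F(-1) ↪ F` on `P^n_k` with cokernel `G` being `m`-regular:
`H^i(F(j)) = 0` for `i ≥ 2`, `j ≥ m - i`; `h^1(F(j))` is non-increasing for `j ≥ m - 1` and vanishes for `j ≥ m - 1 + h^1(F(m-1))`.
-/

set_option autoImplicit false
universe u
open CategoryTheory CategoryTheory.Limits AlgebraicGeometry TopologicalSpace Opposite Twist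

namespace Groth.Agent.Lib.H4Mumford

open Groth.Agent.Lib.OXModTensor Groth.Agent.Lib.TwistEquiv Groth.Agent.Lib.CohLES
open Groth.Agent.Lib.H78TensorGen Groth.Agent.Lib.H4KoszulPn

section General

variable {X : Scheme.{u}}

/-- `(- ⊗ K) ⊗ M ≅ - ⊗ (M ⊗ K)`, naturally -/
noncomputable def tensorRightCompIso (K M : X.Modules) :
    tensorRightFunctor K ⋙ tensorRightFunctor M ≅ tensorRightFunctor (CohB1.tensorMod M K) :=
  Functor.isoWhiskerRight (tensorRightIsoLeft K) (tensorRightFunctor M) ≪≫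
    Functor.isoWhiskerLeft (tensorLeftFunctor K) (tensorRightIsoLeft M) ≪≫
    (locData X).tensLeftCompIso M K ≪≫ (tensorRightIsoLeft (CohB1.tensorMod M K)).symm

/-- `- ⊗ N` only depends on the isomorphism class of `N` -/
noncomputable def tensorRightMapIso {N N' : X.Modules} (e : N ≅ N') :
    tensorRightFunctor N ≅ tensorRightFunctor N' :=
  tensorRightIsoLeft N ≪≫ (locData X).tensLeftMapIso e ≪≫ (tensorRightIsoLeft N').symm

/-- surjectivity on global sections is invariant under natural isomorphisms -/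
theorem surjective_app_top_of_natIso {Φ Ψ : X.Modules ⥤ X.Modules} (θ : Φ ≅ Ψ) {F G : X.Modules}
    (π : F ⟶ G) (h : Function.Surjective ((Φ.map π).app ⊤)) :
    Function.Surjective ((Ψ.map π).app ⊤) := by
  intro y
  obtain ⟨z, hz⟩ := h ((θ.inv.app G).app ⊤ y)
  refine ⟨(θ.hom.app F).app ⊤ z, ?_⟩
  have h1 : θ.hom.app F ≫ Ψ.map π = Φ.map π ≫ θ.hom.app G := (θ.hom.naturality π).symm
  have h2 : (θ.hom.app F ≫ Ψ.map π).app ⊤ z = (Φ.map π ≫ θ.hom.app G).app ⊤ z := by rw [h1]
  refine h2.trans ?_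
  change (θ.hom.app G).app ⊤ ((Φ.map π).app ⊤ z) = y
  rw [hz]
  change (θ.inv.app G ≫ θ.hom.app G).app ⊤ y = y
  rw [Iso.inv_hom_id_app]
  rfl

end General

section Pn

open Groth.Agent.Lib.H4RegRes Groth.Agent.Lib.H4MulSurj

variable (n : ℕ) (R : Type u) [CommRing R] {F : (CohB1.ProjSpace n R).Modules}
  (ι : CohB1.tensorMod F (Twist.twistProjSpace n R (-1)) ⟶ F) [Mono ι]

/-- the twisted sequence `0 → F(-1)(j) → F(j) → G(j) → 0` -/
noncomputable abbrev SC (j : ℤ) : ShortComplex (CohB1.ProjSpace n R).Modules :=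
  (ShortComplex.mk ι (cokernel.π ι) (cokernel.condition ι)).map
    (tensorRightFunctor (Twist.twistProjSpace n R j))

theorem shortExact_SC (j : ℤ) : (SC n R ι j).ShortExact := by
  obtain ⟨e⟩ := nonempty_twist_inv n R j
  have hS : (ShortComplex.mk ι (cokernel.π ι) (cokernel.condition ι)).ShortExact :=
    { exact := ShortComplex.exact_cokernel ι }
  exact shortExact_map_tensorRight e hS

omit [Mono ι] in
/-- `H^q(F(-1)(j)) = 0` iff `H^q(F(j - 1)) = 0` -/
theorem subsingleton_X₁_iff (j : ℤ) (q : ℕ) :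
    Subsingleton (Coh.HH (CohB1.ProjSpace n R) (SC n R ι j).X₁ q) ↔
      Subsingleton (Coh.HH (CohB1.ProjSpace n R)
        (CohB1.tensorMod F (Twist.twistProjSpace n R (j - 1))) q) := by
  obtain ⟨u⟩ := nonempty_twist_twist n R F (-1) j (j - 1) (by ring)
  constructor
  · intro h
    exact @Groth.Agent.Lib.H4Twist.subsingleton_HH_of_iso _ _ _ u.symm q h
  · intro h
    exact @Groth.Agent.Lib.H4Twist.subsingleton_HH_of_iso _ _ _ u q h

/-- descending step in degrees `≥ 2` -/
theorem step_high (q : ℕ) (j : ℤ)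
    (hG : Subsingleton (Coh.HH (CohB1.ProjSpace n R)
      (CohB1.tensorMod (cokernel ι) (Twist.twistProjSpace n R j)) q))
    (hF : Subsingleton (Coh.HH (CohB1.ProjSpace n R)
      (CohB1.tensorMod F (Twist.twistProjSpace n R j)) (q + 1))) :
    Subsingleton (Coh.HH (CohB1.ProjSpace n R)
      (CohB1.tensorMod F (Twist.twistProjSpace n R (j - 1))) (q + 1)) := by
  rw [← subsingleton_X₁_iff n R ι j (q + 1)]
  have h2 : Subsingleton (Coh.HH (CohB1.ProjSpace n R) (SC n R ι j).X₂ (q + 1)) := hF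
  have h3 : Subsingleton (Coh.HH (CohB1.ProjSpace n R) (SC n R ι j).X₃ q) := hG
  exact subsingleton_left (shortExact_SC n R ι j) q

/-- descending induction in degrees `≥ 2` -/
theorem descend_high (m : ℤ) (q : ℕ) (hq : 1 ≤ q)
    (hG : ∀ r : ℤ, m - q ≤ r → Subsingleton (Coh.HH (CohB1.ProjSpace n R)
      (CohB1.tensorMod (cokernel ι) (Twist.twistProjSpace n R r)) q)) :
    ∀ (t : ℕ) (j : ℤ), m - q ≤ j + 1 →
      Subsingleton (Coh.HH (CohB1.ProjSpace n R)
        (CohB1.tensorMod F (Twist.twistProjSpace n R (j + t))) (q + 1)) →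
      Subsingleton (Coh.HH (CohB1.ProjSpace n R)
        (CohB1.tensorMod F (Twist.twistProjSpace n R j)) (q + 1))
  | 0, j, _, h => Groth.Agent.Lib.H4Regularity.subsingleton_HH_congr n R F (by simp) rfl h
  | t + 1, j, hj, h => by
    have h1 := descend_high m q hq hG t (j + 1) (by omega)
      (Groth.Agent.Lib.H4Regularity.subsingleton_HH_congr n R F (by push_cast; ring) rfl h)
    have h2 := step_high n R ι q (j + 1) (hG (j + 1) hj) h1
    exact Groth.Agent.Lib.H4Regularity.subsingleton_HH_congr n R F (by ring) rfl h2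

/-- **Mumford's lemma (i)**: `H^i(F(j)) = 0` for `i ≥ 2`, `j ≥ m - i` -/
theorem subsingleton_HH_high (m : ℤ)
    (hSerre : ∃ d₀ : ℤ, ∀ d : ℤ, d₀ ≤ d → ∀ q : ℕ, 0 < q →
      Subsingleton (Coh.HH (CohB1.ProjSpace n R) (CohB1.tensorMod F (Twist.twistProjSpace n R d)) q))
    (hG : ∀ (q : ℕ), 1 ≤ q → ∀ r : ℤ, m - q ≤ r → Subsingleton (Coh.HH (CohB1.ProjSpace n R)
      (CohB1.tensorMod (cokernel ι) (Twist.twistProjSpace n R r)) q))
    (i : ℕ) (j : ℤ) (hi : 2 ≤ i) (hj : m - i ≤ j) :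
    Subsingleton (Coh.HH (CohB1.ProjSpace n R) (CohB1.tensorMod F (Twist.twistProjSpace n R j)) i) := by
  obtain ⟨d₀, hd₀⟩ := hSerre
  obtain ⟨q, rfl⟩ : ∃ q, i = q + 1 := ⟨i - 1, by omega⟩
  refine descend_high n R ι m q (by omega) (hG q (by omega)) (d₀ - j).toNat j (by push_cast at hj; omega) ?_
  exact hd₀ _ (by omega) (q + 1) (by omega)

/-- the isomorphism `F(-1)(j) ≅ F(j - 1)` -/
noncomputable def uIso (j : ℤ) :
    (SC n R ι j).X₁ ≅ CohB1.tensorMod F (Twist.twistProjSpace n R (j - 1)) :=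
  (nonempty_twist_twist n R F (-1) j (j - 1) (by ring)).some

/-- the natural isomorphism `(- ⊗ O(j)) ⊗ O(1) ≅ - ⊗ O(j + 1)` -/
noncomputable def thetaIso (j : ℤ) :
    tensorRightFunctor (X := CohB1.ProjSpace n R) (Twist.twistProjSpace n R j) ⋙
      tensorRightFunctor (Twist.twistProjSpace n R 1) ≅
    tensorRightFunctor (Twist.twistProjSpace n R (j + 1)) :=
  tensorRightCompIso (Twist.twistProjSpace n R j) (Twist.twistProjSpace n R 1) ≪≫
    tensorRightMapIso (Groth.Agent.Lib.H4Twist.twistMulIso_of_cover (CohB1.polyGrading n R)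
      (Groth.Agent.Lib.ProjSpaceFin.hcov n R) 1 j ≪≫
        eqToIso (congrArg (Twist.twist (CohB1.polyGrading n R)) (add_comm 1 j)))

omit [Mono ι] in
/-- if `Γ(F(j)) → Γ(G(j))` is surjective and `G(j)` is `0`-regular, then `Γ(F(j+1)) → Γ(G(j+1))` is surjective -/
theorem surjective_g_succ (j : ℤ)
    (hvan : ∀ i : ℕ, 1 ≤ i → i ≤ n → Subsingleton (Coh.HH (CohB1.ProjSpace n R)
      (CohB1.tensorMod (cokernel ι) (Twist.twistProjSpace n R (j - i))) i))
    (hA : Function.Surjective ((SC n R ι j).g.app ⊤)) :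
    Function.Surjective ((SC n R ι (j + 1)).g.app ⊤) := by
  -- vanishing for `G(j)`
  have hvan' : ∀ i : ℕ, 1 ≤ i → i ≤ n → Subsingleton (Coh.HH (CohB1.ProjSpace n R)
      (CohB1.tensorMod (CohB1.tensorMod (cokernel ι) (Twist.twistProjSpace n R j))
        (Twist.twistProjSpace n R (-(i : ℤ)))) i) := by
    intro i hi hin
    obtain ⟨e⟩ := nonempty_twist_twist n R (cokernel ι) j (-(i : ℤ)) (j - i) (by ring)
    exact @Groth.Agent.Lib.H4Twist.subsingleton_HH_of_iso _ _ _ e i (hvan i hi hin)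
  -- surjectivity after tensoring with `O(1)`
  have h1 : Function.Surjective ((tensorModMap (SC n R ι j).g (𝟙 (Twist.twistProjSpace n R 1))).app ⊤) := by
    intro τ
    obtain ⟨σ, hσ⟩ := exists_sum_tmul n R _ hvan' τ
    choose σ' hσ' using fun c => hA (σ c)
    refine ⟨∑ c ∈ Finset.range (n + 1), tmul (σ' c) (xSec n R c), ?_⟩
    rw [map_sum, hσ]
    refine Finset.sum_congr rfl fun c _ => ?_
    refine (tensorModMap_tmul _ _ _ _).trans ?_
    rw [hσ' c]
    rfl
  have h2 : Function.Surjective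
      (((tensorRightFunctor (X := CohB1.ProjSpace n R) (Twist.twistProjSpace n R j) ⋙
        tensorRightFunctor (Twist.twistProjSpace n R 1)).map (cokernel.π ι)).app ⊤) := by
    have h3 : (tensorRightFunctor (X := CohB1.ProjSpace n R) (Twist.twistProjSpace n R j) ⋙
        tensorRightFunctor (Twist.twistProjSpace n R 1)).map (cokernel.π ι) =
        tensorModMap (SC n R ι j).g (𝟙 (Twist.twistProjSpace n R 1)) :=
      tensorRightFunctor_map _ _
    rw [h3]
    exact h1
  exact surjective_app_top_of_natIso (thetaIso n R j) (cokernel.π ι) h2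

end Pn

end Groth.Agent.Lib.H4Mumford
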