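import Groth.Agent.Lib.H4Mumford

/-!
# Mumford's lemma, numerical part (helper4)

`cmp j : H^1(F(j-1)) →ₗ[k] H^1(F(j))`, surjective for `j ≥ m - 1`; if it is also injective for some `j ≥ m` then `H^1(F(j-1)) = 0`.
-/

set_option autoImplicit false
universe u
open CategoryTheory CategoryTheory.Limits AlgebraicGeometry TopologicalSpace Opposite Twist

namespace Groth.Agent.Lib.H4Mumford

open Groth.Agent.Lib.OXModTensor Groth.Agent.Lib.TwistEquiv Groth.Agent.Lib.CohLES
open Groth.Agent.Lib.H4RegRes Groth.Agent.Lib.H4MulSurj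

section Numerical

/-- a non-increasing function `h` on `[m - 1, ∞)` which, from `m` on, can only stay constant at `0`, vanishes from
`m - 1 + h (m - 1)` on -/
theorem eq_zero_of_strict_decrease (h : ℤ → ℕ) (m : ℤ)
    (ha : ∀ j, m - 1 ≤ j → h j ≤ h (j - 1))
    (hb : ∀ j, m ≤ j → h j = h (j - 1) → h (j - 1) = 0) :
    ∀ j, m - 1 + (h (m - 1) : ℤ) ≤ j → h j = 0 := by
  have key : ∀ t : ℕ, h (m - 1 + t) + t ≤ h (m - 1) ∨ h (m - 1 + t) = 0 := by
    intro t
    induction t with
    | zero => left; simp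
    | succ t ih =>
      have e1 : m - 1 + ((t + 1 : ℕ) : ℤ) - 1 = m - 1 + t := by push_cast; ring
      have h1 := ha (m - 1 + ((t + 1 : ℕ) : ℤ)) (by push_cast; omega)
      rw [e1] at h1
      have h2 := hb (m - 1 + ((t + 1 : ℕ) : ℤ)) (by push_cast; omega)
      rw [e1] at h2
      rcases ih with ih | ih
      · by_cases heq : h (m - 1 + ((t + 1 : ℕ) : ℤ)) = h (m - 1 + t)
        · right
          rw [heq]
          exact h2 heq
        · left
          omega
      · right
        omega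
  intro j hj
  obtain ⟨t, rfl⟩ : ∃ t : ℕ, j = m - 1 + t := ⟨(j - (m - 1)).toNat, by omega⟩
  rcases key t with h1 | h1
  · have : (h (m - 1) : ℤ) ≤ t := by omega
    omega
  · exact h1

end Numerical

section Field

variable (n : ℕ) (k : Type u) [Field k] {F : (CohB1.ProjSpace n k).Modules}
  (ι : CohB1.tensorMod F (Twist.twistProjSpace n k (-1)) ⟶ F) [Mono ι]

/-- the comparison map `H^1(F(j - 1)) → H^1(F(j))` -/
noncomputable def cmp (j : ℤ) :
    Coh.HH (CohB1.ProjSpace n k) (CohB1.tensorMod F (Twist.twistProjSpace n k (j - 1))) 1 →ₗ[k]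
      Coh.HH (CohB1.ProjSpace n k) (CohB1.tensorMod F (Twist.twistProjSpace n k j)) 1 :=
  (mapₗ k (SC n k ι j).f 1) ∘ₗ (mapEquivₗ k (uIso n k ι j) 1).symm.toLinearMap

theorem cmp_apply (j : ℤ) (x) : cmp n k ι j x = map (SC n k ι j).f 1 ((mapEquivₗ k (uIso n k ι j) 1).symm x) := rfl

/-- `cmp j` is surjective when `H^1(G(j)) = 0` -/
theorem cmp_surjective (j : ℤ)
    (hG : Subsingleton (Coh.HH (CohB1.ProjSpace n k)
      (CohB1.tensorMod (cokernel ι) (Twist.twistProjSpace n k j)) 1)) :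
    Function.Surjective (cmp n k ι j) := by
  intro y
  have h3 : Subsingleton (Coh.HH (CohB1.ProjSpace n k) (SC n k ι j).X₃ 1) := hG
  obtain ⟨x, hx⟩ := exact₂ (shortExact_SC n k ι j) 1 y (Subsingleton.elim _ _)
  refine ⟨mapEquivₗ k (uIso n k ι j) 1 x, ?_⟩
  rw [cmp_apply, LinearEquiv.symm_apply_apply]
  exact hx

/-- `cmp j` is injective when `Γ(F(j)) → Γ(G(j))` is surjective -/
theorem cmp_injective (j : ℤ) (hA : Function.Surjective ((SC n k ι j).g.app ⊤)) :
    Function.Injective (cmp n k ι j) := by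
  rw [← LinearMap.ker_eq_bot, LinearMap.ker_eq_bot']
  intro x hx
  rw [cmp_apply] at hx
  obtain ⟨y, hy⟩ := exact₁ (shortExact_SC n k ι j) 0 _ hx
  obtain ⟨z, rfl⟩ := map_zero_surjective (SC n k ι j).g hA y
  rw [δ_map_g] at hy
  have := (mapEquivₗ k (uIso n k ι j) 1).symm.injective (hy.symm.trans (map_zero _).symm)
  exact this

/-- `Γ(F(j)) → Γ(G(j))` is surjective when `cmp j` is injective -/
theorem surjective_g_of_cmp_injective (j : ℤ) (h : Function.Injective (cmp n k ι j)) :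
    Function.Surjective ((SC n k ι j).g.app ⊤) := by
  intro τ
  set y := (Groth.Agent.Lib.H4Twist.h0Equiv (SC n k ι j).X₃).symm τ with hy
  have h1 : δ (shortExact_SC n k ι j) 0 y = 0 := by
    have h2 : cmp n k ι j (mapEquivₗ k (uIso n k ι j) 1 (δ (shortExact_SC n k ι j) 0 y)) = 0 := by
      rw [cmp_apply, LinearEquiv.symm_apply_apply]
      exact map_f_δ (shortExact_SC n k ι j) 0 y
    have h3 := h (h2.trans (map_zero _).symm)
    exact (mapEquivₗ k (uIso n k ι j) 1).injective (h3.trans (map_zero _).symm)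
  obtain ⟨z, hz⟩ := exact₃ (shortExact_SC n k ι j) 0 y h1
  refine ⟨Groth.Agent.Lib.H4Twist.h0Equiv _ z, ?_⟩
  rw [← Groth.Agent.Lib.H4Twist.h0Equiv_map, hz, hy, AddEquiv.apply_symm_apply]

end Field

end Groth.Agent.Lib.H4Mumford
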