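import Groth.Agent.Lib.H4Mumford2

/-!
# Mumford's lemma, assembly (helper4)
-/

set_option autoImplicit false
universe u
open CategoryTheory CategoryTheory.Limits AlgebraicGeometry TopologicalSpace Opposite Twist

namespace Groth.Agent.Lib.H4Mumford

open Groth.Agent.Lib.OXModTensor Groth.Agent.Lib.TwistEquiv Groth.Agent.Lib.CohLES
open Groth.Agent.Lib.H4RegRes Groth.Agent.Lib.H4MulSurj

section Field

variable (n : ℕ) (k : Type u) [Field k] {F : (CohB1.ProjSpace n k).Modules}
  (ι : CohB1.tensorMod F (Twist.twistProjSpace n k (-1)) ⟶ F) [Mono ι]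

/-- propagation of the surjectivity of `Γ(F(j)) → Γ(G(j))` -/
theorem surjective_g_add (m : ℤ)
    (hG : ∀ (q : ℕ), 1 ≤ q → ∀ r : ℤ, m - q ≤ r → Subsingleton (Coh.HH (CohB1.ProjSpace n k)
      (CohB1.tensorMod (cokernel ι) (Twist.twistProjSpace n k r)) q))
    (j : ℤ) (hj : m ≤ j) (hA : Function.Surjective ((SC n k ι j).g.app ⊤)) :
    ∀ (t : ℕ) (j' : ℤ), j' = j + t → Function.Surjective ((SC n k ι j').g.app ⊤)
  | 0, j', h => by
    obtain rfl : j' = j := by simpa using h
    exact hA
  | t + 1, j', h => by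
    obtain rfl : j' = (j + t) + 1 := by rw [h]; push_cast; ring
    refine surjective_g_succ n k ι (j + t) (fun i hi _ => hG i hi _ (by omega)) ?_
    exact surjective_g_add m hG j hj hA t (j + t) rfl

/-- descending induction in degree `1` along injective comparison maps -/
theorem descend_one (j : ℤ) (hinj : ∀ t : ℕ, Function.Injective (cmp n k ι (j + t))) :
    ∀ t : ℕ, Subsingleton (Coh.HH (CohB1.ProjSpace n k)
        (CohB1.tensorMod F (Twist.twistProjSpace n k (j - 1 + t))) 1) →
      Subsingleton (Coh.HH (CohB1.ProjSpace n k)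
        (CohB1.tensorMod F (Twist.twistProjSpace n k (j - 1))) 1)
  | 0, h => Groth.Agent.Lib.H4Regularity.subsingleton_HH_congr n k F (by simp) rfl h
  | t + 1, h => by
    refine descend_one j hinj t ?_
    have h1 : Subsingleton (Coh.HH (CohB1.ProjSpace n k)
        (CohB1.tensorMod F (Twist.twistProjSpace n k (j + t))) 1) :=
      Groth.Agent.Lib.H4Regularity.subsingleton_HH_congr n k F (by push_cast; ring) rfl h
    have h2 := (hinj t).subsingleton
    exact Groth.Agent.Lib.H4Regularity.subsingleton_HH_congr n k F (by ring) rfl h2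

/-- for `j ≥ m`, if `h^1(F(j)) = h^1(F(j - 1))` then `H^1(F(j - 1)) = 0` -/
theorem subsingleton_of_finrank_eq (m : ℤ)
    (hfin : ∀ j : ℤ, Module.Finite k (Coh.HH (CohB1.ProjSpace n k)
      (CohB1.tensorMod F (Twist.twistProjSpace n k j)) 1))
    (hSerre : ∃ d₀ : ℤ, ∀ d : ℤ, d₀ ≤ d → ∀ q : ℕ, 0 < q →
      Subsingleton (Coh.HH (CohB1.ProjSpace n k) (CohB1.tensorMod F (Twist.twistProjSpace n k d)) q))
    (hG : ∀ (q : ℕ), 1 ≤ q → ∀ r : ℤ, m - q ≤ r → Subsingleton (Coh.HH (CohB1.ProjSpace n k)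
      (CohB1.tensorMod (cokernel ι) (Twist.twistProjSpace n k r)) q))
    (j : ℤ) (hj : m ≤ j)
    (heq : Module.finrank k (Coh.HH (CohB1.ProjSpace n k)
        (CohB1.tensorMod F (Twist.twistProjSpace n k j)) 1) =
      Module.finrank k (Coh.HH (CohB1.ProjSpace n k)
        (CohB1.tensorMod F (Twist.twistProjSpace n k (j - 1))) 1)) :
    Subsingleton (Coh.HH (CohB1.ProjSpace n k)
      (CohB1.tensorMod F (Twist.twistProjSpace n k (j - 1))) 1) := by
  have := hfin j
  have := hfin (j - 1)
  have hsurj := cmp_surjective n k ι j (hG 1 le_rfl j (by omega))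
  have hinj : Function.Injective (cmp n k ι j) :=
    (LinearMap.injective_iff_surjective_of_finrank_eq_finrank heq.symm).2 hsurj
  have hA := surjective_g_add n k ι m hG j hj (surjective_g_of_cmp_injective n k ι j hinj)
  have hinj' : ∀ t : ℕ, Function.Injective (cmp n k ι (j + t)) := fun t =>
    cmp_injective n k ι (j + t) (hA t (j + t) rfl)
  obtain ⟨d₀, hd₀⟩ := hSerre
  refine descend_one n k ι j hinj' (d₀ - (j - 1)).toNat ?_
  exact hd₀ _ (by omega) 1 (by omega)

end Field

end Groth.Agent.Lib.H4Mumford
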