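import Groth.Agent.Lib.H4MumfordStep

/-!
# Mumford's uniform regularity theorem over an algebraically closed field (helper4)

`main` : for `k` algebraically closed, a coherent quotient `φ : O^r ⟶ F` on `P^n_k` with `χ(F(t)) = P(t)` for all
`t ≥ c` has an `mfun (n + 1) c P`-regular kernel; the bound only depends on `n`, `c` and `P`.
-/

set_option autoImplicit false
universe u
open CategoryTheory CategoryTheory.Limits AlgebraicGeometry TopologicalSpace Opposite Twist Polynomial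

namespace Groth.Agent.Lib.H4MumfordThm

open Groth.Agent.Lib.OXModTensor Groth.Agent.Lib.TwistEquiv Groth.Agent.Lib.CohLES
open Groth.Agent.Lib.H4VanOn Groth.Agent.Lib.H4LinForm Groth.Agent.Lib.H4MumfordStep
open Groth.Agent.Lib.H78TensorGen

/-- the regularity bound -/
noncomputable def mfun : ℕ → ℤ → ℚ[X] → ℤ
  | 0, _, _ => 0
  | e + 1, c, P => max (mfun e (c + 1) (P - P.comp (X - 1))) (max 1 (c + 1)) +
      ((⌈P.eval (((max (mfun e (c + 1) (P - P.comp (X - 1))) (max 1 (c + 1)) - 1 : ℤ)) : ℚ)⌉₊ : ℕ) : ℤ)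

variable {k : Type u} [Field k] [IsAlgClosed k] {n : ℕ}

theorem mum : ∀ (e : ℕ) (c : ℤ) (P : ℚ[X]) (S : ShortComplex (CohB1.ProjSpace n k).Modules), S.ShortExact →
    Coh.IsCoh S.X₂ → Coh.IsCoh S.X₃ → Good k n e S.X₂ → Lin k n e S.X₂ →
    (∀ t : ℤ, c ≤ t →
      (Curv2.euler k (CohB1.ProjSpace n k) (tw k n S.X₃ t) : ℚ) = P.eval (t : ℚ)) →
    Curv2.IsMRegular k n S.X₁ (mfun e c P)
  | 0, c, P, S, hS, _, _, _, hL, _ => by
    have := hS.mono_f
    exact isMRegular_of_isZero (IsZero.of_mono S.f (isZero_of_lin_zero hL)) _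
  | e + 1, c, P, S, hS, h₂, h₃, hG, hL, hP =>
    step e c P (mfun e (c + 1) (P - P.comp (X - 1)))
      (fun S' hS' h₂' h₃' hG' hL' hP' => mum e (c + 1) _ S' hS' h₂' h₃' hG' hL' hP') S hS h₂ h₃ hG hL hP

omit [IsAlgClosed k] in
theorem vanOn_DP_zero (E : (CohB1.ProjSpace n k).Modules) : VanOn E (DP k n 0) := by
  intro W hW s
  refine sec_ext E s 0 fun x hx => ?_
  exact absurd (Submodule.zero_mem _) (hW hx)

omit [IsAlgClosed k] in
theorem lin_bot (E : (CohB1.ProjSpace n k).Modules) : Lin k n (n + 1) E := by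
  refine ⟨⊥, by rw [finrank_bot]; omega, fun ℓ hℓ => ?_⟩
  rw [(Submodule.mem_bot k).1 hℓ]
  exact vanOn_DP_zero E

omit [IsAlgClosed k] in
theorem good_freeMod (r : ℕ) : Good k n (n + 1) (FlatMod.freeMod (CohB1.ProjSpace n k) r) :=
  fun i j hi hj =>
    Groth.Agent.Lib.H4RegRes.subsingleton_HH_sigma_structure_tensor n k r j i (by omega)
      (Or.inr (by push_cast at hj; omega))

/-- **Mumford's theorem** over an algebraically closed field: it suffices to know the Hilbert polynomial for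
`t ≥ c` -/
theorem main (r : ℕ) (c : ℤ) (P : ℚ[X]) (F : (CohB1.ProjSpace n k).Modules)
    (φ : FlatMod.freeMod (CohB1.ProjSpace n k) r ⟶ F) (hF : Coh.IsCoh F) [Epi φ]
    (hP : ∀ t : ℤ, c ≤ t → (Curv2.euler k (CohB1.ProjSpace n k)
      (CohB1.tensorMod F (Twist.twistProjSpace n k t)) : ℚ) = P.eval (t : ℚ)) :
    Curv2.IsMRegular k n (kernel φ) (mfun (n + 1) c P) :=
  mum (n + 1) c P (ShortComplex.mk (kernel.ι φ) φ (kernel.condition φ))
    (Groth.Agent.Lib.H4RegRes.shortExact_kernel_epi φ)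
    (Groth.Agent.Lib.H90Invertible.isCoh_of_isFinLocFree
      (Groth.Agent.Lib.H90Invertible.isFinLocFree_freeMod _ r)) hF (good_freeMod r)
    (lin_bot _) hP

end Groth.Agent.Lib.H4MumfordThm
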