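/-
helper78: twisting sheaves on `P^N_R` for all integers.
* `twistMulIsoPn m n : O(m) ⊗ O(n) ≅ O(m+n)` on `P^N_R` (any ring `R`).
* `nonempty_inverse_twist (m : ℕ) : O(-m) ⊗ O(m) ≅ O`.
* `nonempty_iso_of_inverse`: uniqueness of tensor inverses.
* `nonempty_pullback_twist_iso_int d : β^* O_A(d) ≅ O_B(d)` for all `d : ℤ`.
-/
import Groth.Agent.Lib.H90TwistBC
import Groth.Agent.Lib.H4TwistMul
import Groth.Agent.Lib.H4ProjSpaceCoh
import Groth.Agent.Lib.H78AtlasIso

set_option autoImplicit false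
universe u
open CategoryTheory CategoryTheory.Limits AlgebraicGeometry CohB1 MvPolynomial TopologicalSpace Opposite Twist
open Groth.Agent.Lib.H90Invertible Groth.Agent.Lib.H4Twist Groth.Agent.Lib.H4TensorPair
open Groth.Agent.Lib.OXModTensor

namespace Groth.Agent.Lib.H78TwistBCInt

section Mul

variable (N : ℕ) (R : Type u) [CommRing R]

local notation "𝒜" => CohB1.polyGrading N R

/-- `O(m) ⊗ O(n) ≅ O(m + n)` on `P^N_R`. -/
noncomputable def twistMulIsoPn (m n : ℤ) :
    CohB1.tensorMod (twistProjSpace N R m) (twistProjSpace N R n) ≅ twistProjSpace N R (m + n) :=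
  (mulPairing 𝒜 m n (m + n) rfl).iso (by
    intro x
    obtain ⟨i, hfx⟩ := exists_X_notMem (n := N) (R := R) x
    have hf1 := ProjSpaceCover.X_mem N R i
    have hU : ∀ y : Proj.basicOpen 𝒜 (X i), (X i : MvPolynomial (Fin (N + 1)) R) ∉ y.1.asHomogeneousIdeal :=
      fun y => y.2
    refine ⟨Proj.basicOpen 𝒜 (X i), genAt hf1 hU m m (by simp), genAt hf1 hU n n (by simp), hfx,
      isGen_genAt hf1 hU m m _, isGen_genAt hf1 hU n n _, ?_⟩
    have : (mulPairing 𝒜 m n (m + n) rfl).toFun (Proj.basicOpen 𝒜 (X i)) (genAt hf1 hU m m (by simp))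
        (genAt hf1 hU n n (by simp)) = genAt hf1 hU (m + n) (m + n) (by simp) :=
      sec_ext fun y => by
        show sval (genAt hf1 hU m m _) y * sval (genAt hf1 hU n n _) y = _
        rw [sval_genAt, sval_genAt, sval_genAt, ← Units.val_mul, ← zpow_add]
    rw [this]
    exact isGen_genAt hf1 hU (m + n) (m + n) _)

theorem nonempty_inverse_twist (m : ℤ) :
    Nonempty (CohB1.tensorMod (twistProjSpace N R (-m)) (twistProjSpace N R m) ≅
      Coh.structureModule (CohB1.ProjSpace N R)) := by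
  obtain ⟨e0⟩ := nonempty_twistZeroIso 𝒜
  exact ⟨twistMulIsoPn N R (-m) m ≪≫ eqToIso (by rw [neg_add_cancel]; rfl) ≪≫ e0⟩

end Mul

/-- Uniqueness of tensor inverses. -/
theorem nonempty_iso_of_inverse {X : Scheme.{u}} {M M' P : X.Modules}
    (e : CohB1.tensorMod M P ≅ Coh.structureModule X) (e' : CohB1.tensorMod M' P ≅ Coh.structureModule X) :
    Nonempty (M ≅ M') :=
  ⟨(rightUnitor M).symm ≪≫ tensorModIso (Iso.refl M) (e'.symm ≪≫ braiding M' P) ≪≫
    (associator M P M').symm ≪≫ tensorModIso e (Iso.refl M') ≪≫ leftUnitor M'⟩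

section BC

variable (N : ℕ) (A B : Type u) [CommRing A] [CommRing B] [Algebra A B]

open Groth.Agent.Lib.H90ProjBC

/-- **Base change of twisting sheaves, all integers.** -/
theorem nonempty_pullback_twist_iso_int (d : ℤ) :
    Nonempty ((Scheme.Modules.pullback (β N A B)).obj (Twist.twistProjSpace N A d) ≅
      Twist.twistProjSpace N B d) := by
  rcases Int.le_total 0 d with hd | hd
  · obtain ⟨m, rfl⟩ := Int.eq_ofNat_of_zero_le hd
    exact nonempty_pullback_twist_iso N A B m
  · obtain ⟨m, hm⟩ := Int.eq_ofNat_of_zero_le (neg_nonneg.2 hd)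
    obtain rfl : d = -(m : ℤ) := by omega
    obtain ⟨eA⟩ := nonempty_inverse_twist N A (m : ℤ)
    obtain ⟨eB⟩ := nonempty_inverse_twist N B (m : ℤ)
    obtain ⟨em⟩ := nonempty_pullback_twist_iso N A B m
    obtain ⟨et⟩ := Groth.Agent.Lib.H78AtlasIso.nonempty_pullback_tensorMod_iso (β N A B)
      (isInvertible_twistProjSpace N A (-(m : ℤ))) (isInvertible_twistProjSpace N A (m : ℤ))
    have e1 : CohB1.tensorMod ((Scheme.Modules.pullback (β N A B)).obj (Twist.twistProjSpace N A (-(m : ℤ))))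
        (Twist.twistProjSpace N B (m : ℤ)) ≅ Coh.structureModule (CohB1.ProjSpace N B) :=
      tensorModIso (Iso.refl _) em.symm ≪≫ et.symm ≪≫ (Scheme.Modules.pullback (β N A B)).mapIso eA ≪≫
        (Groth.Agent.Lib.ModPullback.pullbackUnitIso (β N A B)).symm
    exact nonempty_iso_of_inverse e1 eB

end BC

end Groth.Agent.Lib.H78TwistBCInt
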