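import Groth.Agent.Lib.ExtAdjEdge
import Groth.Agent.Lib.HBridge
import Groth.Agent.Lib.HUInst
import Mathlib.CategoryTheory.Sites.Pullback
import Mathlib.Topology.Sheaves.SheafCondition.Sites

/-!
# Leray edge isomorphism for acyclic sheaves on topological spaces (helper49)

For a continuous map `f : X' ⟶ X` and an abelian sheaf `F` on `X'` with `R^q f_* F = 0` for `q > 0`:
* `edgeEquiv f W F hF n : H^n(W, f_* F) ≃+ H^n(f⁻¹W, F)` (`CohTop.HU`), natural in `F` (`edge_mapH`);
* `pushEquiv f F hF n : H^n(X, f_* F) ≃+ H^n(X', F)` (`CohTop.H`), natural in `F` (`pushEquiv_map`).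
The maps are the edge maps `θ` of `Lib/ExtAdjEdge` for the adjunction `f⁻¹ ⊣ f_*`.
Also `HEquivHUTop_map` (naturality of helper's `HBridge.HEquivHUTop`) and named instances `abelianAb`, `hasExtAb`
(kernel-time savers), and exactness/additivity instances for `CohTop.pull f`.
-/

set_option autoImplicit false
universe u
open CategoryTheory CategoryTheory.Limits TopologicalSpace Opposite Abelian

namespace Groth.Agent.Lib.PushCohEdge

open Groth.Agent.Lib.FlasqueAcyclic Groth.Agent.Lib.HUInst Groth.Agent.Lib.ExtAdjEdge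

/-- the `Abelian` instance of abelian sheaves on a space, as a constant (keeps kernel terms small);
scoped, so that importing this file does not change instance resolution elsewhere -/
noncomputable scoped instance (priority := 2000) abelianAb (X : TopCat.{u}) : Abelian (CohTop.Ab X) :=
  inferInstance

/-- the `HasExt` instance of abelian sheaves on a space, as a constant -/
scoped instance (priority := 2000) hasExtAb (X : TopCat.{u}) : HasExt.{u} (CohTop.Ab X) := inferInstance

variable {X' X : TopCat.{u}} (f : X' ⟶ X)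

example : (Opens.map f).obj ⊤ = ⊤ := rfl

/-- the adjunction `f⁻¹ ⊣ f_*` for abelian sheaves -/
noncomputable abbrev adj : CohTop.pull f ⊣ CohTop.push f :=
  TopCat.Sheaf.pullbackPushforwardAdjunction AddCommGrpCat.{u} f

instance : PreservesFiniteLimits (CohTop.pull f) :=
  Functor.SmallCategories.instPreservesFiniteLimitsSheafSheafPullbackOfRepresentablyFlat _ _ _ _

instance : (CohTop.pull f).Additive := (adj f).left_adjoint_additive

instance : PreservesFiniteColimits (CohTop.pull f) := by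
  have := (adj f).leftAdjoint_preservesColimits
  infer_instance

/-- the section of `f⁻¹ ℤ_W` over `f⁻¹ W` given by the unit -/
noncomputable def cSec (W : Opens X) :
    ((CohTop.pull f).obj (freeSh W)).obj.obj (op ((Opens.map f).obj W)) :=
  homEquiv W ((CohTop.push f).obj ((CohTop.pull f).obj (freeSh W))) ((adj f).unit.app (freeSh W))

/-- the canonical map `ℤ_{f⁻¹W} ⟶ f⁻¹ ℤ_W` -/
noncomputable def c (W : Opens X) :
    freeSh ((Opens.map f).obj W) ⟶ (CohTop.pull f).obj (freeSh W) :=
  (homEquiv ((Opens.map f).obj W) ((CohTop.pull f).obj (freeSh W))).symm (cSec f W)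

lemma homEquiv_c (W : Opens X) :
    homEquiv ((Opens.map f).obj W) ((CohTop.pull f).obj (freeSh W)) (c f W) = cSec f W :=
  Equiv.apply_symm_apply _ _

lemma homEquiv_c_comp (W : Opens X) (F : CohTop.Ab X') (a : freeSh W ⟶ (CohTop.push f).obj F) :
    homEquiv ((Opens.map f).obj W) F (c f W ≫ ((adj f).homEquiv (freeSh W) F).symm a) =
      homEquiv W ((CohTop.push f).obj F) a := by
  have h1 := homEquiv_comp W ((adj f).unit.app (freeSh W))
    ((CohTop.push f).map (((adj f).homEquiv (freeSh W) F).symm a))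
  have h2 : (adj f).unit.app (freeSh W) ≫
      (CohTop.push f).map (((adj f).homEquiv (freeSh W) F).symm a) = a := by
    exact ((adj f).homEquiv_unit _ _ _).symm.trans (Equiv.apply_symm_apply _ _)
  rw [h2] at h1
  refine (homEquiv_comp _ _ _).trans ?_
  rw [homEquiv_c]
  exact h1.symm

/-- the edge map `H^n(W, f_* F) → H^n(f⁻¹W, F)` -/
noncomputable def edge (W : Opens X) (F : CohTop.Ab X') (n : ℕ)
    (x : CohTop.HU ((CohTop.push f).obj F) n W) : CohTop.HU F n ((Opens.map f).obj W) :=
  θ.{u, u} (adj f) (c f W) F n x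

theorem edge_bijective_zero (W : Opens X) (F : CohTop.Ab X') :
    Function.Bijective (θ.{u, u} (adj f) (c f W) F 0) := by
  have hb : Function.Bijective (fun a : freeSh W ⟶ (CohTop.push f).obj F =>
      c f W ≫ ((adj f).homEquiv (freeSh W) F).symm a) := by
    have : (fun a : freeSh W ⟶ (CohTop.push f).obj F =>
        c f W ≫ ((adj f).homEquiv (freeSh W) F).symm a) =
        (homEquiv ((Opens.map f).obj W) F).symm ∘ (homEquiv W ((CohTop.push f).obj F)) := by
      funext a
      apply (homEquiv ((Opens.map f).obj W) F).injective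
      rw [homEquiv_c_comp]
      exact (Equiv.apply_symm_apply _ _).symm
    rw [this]
    exact (homEquiv ((Opens.map f).obj W) F).symm.bijective.comp
      (homEquiv W ((CohTop.push f).obj F)).bijective
  constructor
  · intro x₁ x₂ h
    obtain ⟨a₁, rfl⟩ := (Ext.mk₀_bijective _ _).2 x₁
    obtain ⟨a₂, rfl⟩ := (Ext.mk₀_bijective _ _).2 x₂
    rw [θ_mk₀, θ_mk₀] at h
    rw [hb.1 ((Ext.mk₀_bijective _ _).1 h)]
  · intro y
    obtain ⟨b, rfl⟩ := (Ext.mk₀_bijective _ _).2 y
    obtain ⟨a, ha⟩ := hb.2 b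
    exact ⟨Ext.mk₀ a, (θ_mk₀ _ _ _ _).trans (congrArg Ext.mk₀ ha)⟩

/-- **Leray edge isomorphism** for `f_*`-acyclic sheaves: `H^n(W, f_* F) ≃ H^n(f⁻¹W, F)`. -/
theorem edge_bijective (W : Opens X) (F : CohTop.Ab X')
    (hF : ∀ q : ℕ, IsZero ((CohTop.Rpush f (q + 1)).obj F)) (n : ℕ) :
    Function.Bijective (edge f W F n) :=
  θ_bijective.{u, u} (adj f) (c f W) (fun F => edge_bijective_zero f W F) n F hF

/-- the edge map is natural in the sheaf -/
lemma edge_mapH (W : Opens X) {F F' : CohTop.Ab X'} (φ : F ⟶ F') (n : ℕ)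
    (x : CohTop.HU ((CohTop.push f).obj F) n W) :
    edge f W F' n (mapH ((CohTop.push f).map φ) n W x) =
      mapH φ n ((Opens.map f).obj W) (edge f W F n x) :=
  θ_comp_mk₀ (adj f) (c f W) φ n x

/-- the edge map, as an additive map -/
noncomputable def edgeHom (W : Opens X) (F : CohTop.Ab X') (n : ℕ) :
    CohTop.HU ((CohTop.push f).obj F) n W →+ CohTop.HU F n ((Opens.map f).obj W) where
  toFun := edge f W F n
  map_zero' := θ_zero (adj f) (c f W) F n
  map_add' := θ_add (adj f) (c f W) F n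

/-- the edge isomorphism, as an additive equivalence -/
noncomputable def edgeEquiv (W : Opens X) (F : CohTop.Ab X')
    (hF : ∀ q : ℕ, IsZero ((CohTop.Rpush f (q + 1)).obj F)) (n : ℕ) :
    CohTop.HU ((CohTop.push f).obj F) n W ≃+ CohTop.HU F n ((Opens.map f).obj W) :=
  AddEquiv.ofBijective (edgeHom f W F n) (edge_bijective f W F hF n)

lemma edgeEquiv_apply (W : Opens X) (F : CohTop.Ab X')
    (hF : ∀ q : ℕ, IsZero ((CohTop.Rpush f (q + 1)).obj F)) (n : ℕ)
    (x : CohTop.HU ((CohTop.push f).obj F) n W) : edgeEquiv f W F hF n x = edge f W F n x := rfl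

/-- the edge isomorphism for `W = ⊤` -/
noncomputable def edgeEquivTop (F : CohTop.Ab X')
    (hF : ∀ q : ℕ, IsZero ((CohTop.Rpush f (q + 1)).obj F)) (n : ℕ) :
    CohTop.HU ((CohTop.push f).obj F) n (⊤ : Opens X) ≃+ CohTop.HU F n (⊤ : Opens X') :=
  edgeEquiv f ⊤ F hF n

lemma edgeEquivTop_mapH {F F' : CohTop.Ab X'} (φ : F ⟶ F')
    (hF : ∀ q : ℕ, IsZero ((CohTop.Rpush f (q + 1)).obj F))
    (hF' : ∀ q : ℕ, IsZero ((CohTop.Rpush f (q + 1)).obj F')) (n : ℕ)
    (x : CohTop.HU ((CohTop.push f).obj F) n (⊤ : Opens X)) :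
    edgeEquivTop f F' hF' n (mapH ((CohTop.push f).map φ) n ⊤ x) =
      mapH φ n ⊤ (edgeEquivTop f F hF n x) :=
  edge_mapH f ⊤ φ n x

open Groth.Agent.Lib.HBridge in
/-- `HEquivHUTop` is natural in the sheaf -/
lemma HEquivHUTop_map {Y : TopCat.{u}} {F F' : CohTop.Ab Y} (φ : F ⟶ F') (n : ℕ)
    (x : CohTop.H F n) :
    HEquivHUTop F' n (Sheaf.H.map φ n x) = mapH φ n ⊤ (HEquivHUTop F n x) := by
  rw [HEquivHUTop_apply, HEquivHUTop_apply]
  exact (Ext.comp_assoc _ _ _ (zero_add n) (add_zero n) (by omega)).symm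

open Groth.Agent.Lib.HBridge in
/-- **Leray for acyclic sheaves**: `H^n(X, f_* F) ≃ H^n(X', F)` when `R^q f_* F = 0` for `q > 0`. -/
noncomputable def pushEquiv (F : CohTop.Ab X')
    (hF : ∀ q : ℕ, IsZero ((CohTop.Rpush f (q + 1)).obj F)) (n : ℕ) :
    CohTop.H ((CohTop.push f).obj F) n ≃+ CohTop.H F n :=
  (HEquivHUTop ((CohTop.push f).obj F) n).trans
    ((edgeEquivTop f F hF n).trans (HEquivHUTop F n).symm)

open Groth.Agent.Lib.HBridge in
/-- `pushEquiv` is natural in the sheaf -/
lemma pushEquiv_map {F F' : CohTop.Ab X'} (φ : F ⟶ F')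
    (hF : ∀ q : ℕ, IsZero ((CohTop.Rpush f (q + 1)).obj F))
    (hF' : ∀ q : ℕ, IsZero ((CohTop.Rpush f (q + 1)).obj F')) (n : ℕ)
    (x : CohTop.H ((CohTop.push f).obj F) n) :
    pushEquiv f F' hF' n (Sheaf.H.map ((CohTop.push f).map φ) n x) =
      Sheaf.H.map φ n (pushEquiv f F hF n x) := by
  apply (HEquivHUTop F' n).injective
  rw [HEquivHUTop_map]
  simp only [pushEquiv, AddEquiv.trans_apply, AddEquiv.apply_symm_apply]
  rw [HEquivHUTop_map, edgeEquivTop_mapH f φ hF hF']

end Groth.Agent.Lib.PushCohEdge
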