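import Groth.Agent.Lib.H4PullTensor
import Groth.Agent.Lib.H4MumfordThm
import Groth.Agent.Lib.H90ProjBC
import Groth.Agent.Lib.H78TwistBCInt
import Groth.Agent.Lib.EulerBC54
import Groth.Agent.S0034
import Groth.Agent.Lib.PullbackStalk81
import Groth.Agent.Lib.ConsLocusMod

/-!
# Mumford's uniform regularity theorem over an arbitrary field (helper4)

By base change to the algebraic closure.
* `nonempty_pullback_tw_iso` : `β^*(M ⊗ O_k(d)) ≅ β^*M ⊗ O_K(d)` for the base change `β : P^n_K ⟶ P^n_k`;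
* `flat_β`;
* `main_field` : the theorem.
-/

set_option autoImplicit false
universe u
open CategoryTheory CategoryTheory.Limits AlgebraicGeometry TopologicalSpace Opposite Twist Polynomial

namespace Groth.Agent.Lib.H4MumfordBC

open Groth.Agent.Lib.OXModTensor Groth.Agent.Lib.TwistEquiv Groth.Agent.Lib.CohLES
open Groth.Agent.Lib.H4MumfordStep Groth.Agent.Lib.H4MumfordThm Groth.Agent.Lib.H90ProjBC

variable (k : Type u) [Field k] (K : Type u) [Field K] [Algebra k K] (n : ℕ)

/-- the statement of S0034, as used by `EulerBC54` -/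
theorem fbcHyp : Groth.Agent.Lib.EulerBC54.FBCHyp.{u} :=
  fun A B _ _ _ _ X X' _ _ _ _ g' h M _ i => Groth.Agent.S0034.result A B X X' g' h M i

theorem flat_β : Flat (β n k K) := by
  have h1 : Flat (Spec.map (CommRingCat.ofHom (algebraMap k K))) := by
    rw [Flat.SpecMap_iff]
    exact (RingHom.flat_algebraMap_iff).2 inferInstance
  exact MorphismProperty.of_isPullback (P := @Flat) (isPullback_β n k K).flip h1

/-- `β^*(M ⊗ O_k(d)) ≅ β^*M ⊗ O_K(d)` -/
theorem nonempty_pullback_tw_iso (M : (CohB1.ProjSpace n k).Modules) (d : ℤ) :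
    Nonempty ((Scheme.Modules.pullback (β n k K)).obj (tw k n M d) ≅
      tw K n ((Scheme.Modules.pullback (β n k K)).obj M) d) := by
  obtain ⟨e⟩ := Groth.Agent.Lib.H4RegRes.nonempty_twist_inv n k d
  obtain ⟨e1⟩ := Groth.Agent.Lib.H4PullTensor.nonempty_pullback_tensor_iso (β n k K) M
    (Groth.Agent.Lib.H4Twist.isInvertible_twistProjSpace n k d)
    (Groth.Agent.Lib.H4Twist.isInvertible_twistProjSpace n k (-d)) e
  obtain ⟨e2⟩ := Groth.Agent.Lib.H78TwistBCInt.nonempty_pullback_twist_iso_int n k K d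
  exact ⟨e1 ≪≫ tensorModIso (Iso.refl _) e2⟩

section Main

variable {k n}

instance : QuasiSeparatedSpace (CohB1.ProjSpace n k) := by
  haveI := isLocallyNoetherian_projSpace (k := k) (n := n)
  infer_instance

set_option maxHeartbeats 1600000 in
/-- **Mumford's theorem** over an arbitrary field -/
theorem main_field (r : ℕ) (P : ℚ[X]) (F : (CohB1.ProjSpace n k).Modules)
    (φ : FlatMod.freeMod (CohB1.ProjSpace n k) r ⟶ F) (hF : Coh.IsCoh F) [Epi φ]
    (hP : ∀ t : ℤ, (Curv2.euler k (CohB1.ProjSpace n k)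
      (CohB1.tensorMod F (Twist.twistProjSpace n k t)) : ℚ) = P.eval (t : ℚ)) :
    Curv2.IsMRegular k n (kernel φ) (mfun (n + 1) 0 P) := by
  haveI := isLocallyNoetherian_projSpace (k := k) (n := n)
  have hflat : Flat (β n k (AlgebraicClosure k)) := flat_β k (AlgebraicClosure k) n
  have hpb := isPullback_β n k (AlgebraicClosure k)
  have qF := hF.1
  have cfree : Coh.IsCoh (FlatMod.freeMod (CohB1.ProjSpace n k) r) :=
    Groth.Agent.Lib.H90Invertible.isCoh_of_isFinLocFree
      (Groth.Agent.Lib.H90Invertible.isFinLocFree_freeMod _ r)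
  have hKer : Coh.IsCoh (kernel φ) := Groth.Agent.Lib.H90OXModExact.isCoh_kernel φ cfree
  -- the pulled back quotient
  have hF' : Coh.IsCoh ((Scheme.Modules.pullback (β n k (AlgebraicClosure k))).obj F) :=
    Groth.Agent.Lib.ConsLocusMod.isCoh_pullback _ F hF
  have hepi : Epi ((Scheme.Modules.pullback (β n k (AlgebraicClosure k))).map φ) := by
    haveI := (Scheme.Modules.pullbackPushforwardAdjunction (β n k (AlgebraicClosure k))).isLeftAdjoint
    infer_instance
  have hφ' : Epi ((Groth.Agent.Lib.H90Invertible.pullbackFreeModIso (β n k (AlgebraicClosure k)) r).inv ≫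
      (Scheme.Modules.pullback (β n k (AlgebraicClosure k))).map φ) := epi_comp _ _
  have hP' : ∀ t : ℤ, 0 ≤ t → (Curv2.euler (AlgebraicClosure k) (CohB1.ProjSpace n (AlgebraicClosure k))
      (CohB1.tensorMod ((Scheme.Modules.pullback (β n k (AlgebraicClosure k))).obj F)
        (Twist.twistProjSpace n (AlgebraicClosure k) t)) : ℚ) = P.eval (t : ℚ) := by
    intro t _
    obtain ⟨e⟩ := nonempty_pullback_tw_iso k (AlgebraicClosure k) n F t
    have q1 : Coh.IsQCoh (tw k n F t) := (isCoh_tw hF t).1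
    rw [← Groth.Agent.Lib.H59EulerClosed.euler_congr (AlgebraicClosure k) e,
      Groth.Agent.Lib.EulerBC54.euler_bc fbcHyp k (AlgebraicClosure k) (CohB1.ProjSpace n k)
        (CohB1.ProjSpace n (AlgebraicClosure k)) (β n k (AlgebraicClosure k)) hpb (tw k n F t)]
    exact hP t
  have hreg := Groth.Agent.Lib.H4MumfordThm.main r 0 P
    ((Scheme.Modules.pullback (β n k (AlgebraicClosure k))).obj F)
    ((Groth.Agent.Lib.H90Invertible.pullbackFreeModIso (β n k (AlgebraicClosure k)) r).inv ≫
      (Scheme.Modules.pullback (β n k (AlgebraicClosure k))).map φ) hF' hP'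
  -- the kernel
  haveI : PreservesFiniteLimits (Scheme.Modules.pullback (β n k (AlgebraicClosure k))) :=
    Groth.Agent.Lib.PullbackStalk81.preservesFiniteLimits_pullback_of_flat _
  let ek : kernel ((Groth.Agent.Lib.H90Invertible.pullbackFreeModIso (β n k (AlgebraicClosure k)) r).inv ≫
      (Scheme.Modules.pullback (β n k (AlgebraicClosure k))).map φ) ≅
      (Scheme.Modules.pullback (β n k (AlgebraicClosure k))).obj (kernel φ) :=
    kernelIsIsoComp _ _ ≪≫ (PreservesKernel.iso (Scheme.Modules.pullback (β n k (AlgebraicClosure k))) φ).symm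
  have hreg' := isMRegular_of_iso ek hreg
  intro i h1 h2
  have h3 := hreg' i h1 h2
  obtain ⟨e⟩ := nonempty_pullback_tw_iso k (AlgebraicClosure k) n (kernel φ) (mfun (n + 1) 0 P - i)
  have h4 : Subsingleton (Coh.HH (CohB1.ProjSpace n (AlgebraicClosure k))
      ((Scheme.Modules.pullback (β n k (AlgebraicClosure k))).obj
        (tw k n (kernel φ) (mfun (n + 1) 0 P - i))) i) :=
    @Groth.Agent.Lib.H4Twist.subsingleton_HH_of_iso _ _ _ e i h3
  have q2 : Coh.IsQCoh (tw k n (kernel φ) (mfun (n + 1) 0 P - i)) := (isCoh_tw hKer _).1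
  have h5 := Groth.Agent.Lib.EulerBC54.finrank_HH_bc fbcHyp k (AlgebraicClosure k) (CohB1.ProjSpace n k)
    (CohB1.ProjSpace n (AlgebraicClosure k)) (β n k (AlgebraicClosure k)) hpb
    (tw k n (kernel φ) (mfun (n + 1) 0 P - i)) i
  rw [Module.finrank_zero_of_subsingleton] at h5
  have hfin : Module.Finite k (Coh.HH (CohB1.ProjSpace n k)
      (tw k n (kernel φ) (mfun (n + 1) 0 P - i)) i) :=
    Groth.Agent.Lib.ProjSpaceFin.finite_HH_projSpace n k _ (isCoh_tw hKer _) i
  exact Module.finrank_zero_iff.1 h5.symm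

end Main

end Groth.Agent.Lib.H4MumfordBC
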