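import Groth.Agent.Lib.H4MumfordThm
import Groth.Agent.Lib.H4ClosedReg
import Groth.Agent.Lib.H90UnitKer
import Groth.Agent.Lib.H90OXModPushFinite
import Groth.Agent.Lib.H78AtlasIso
import Groth.Agent.Lib.CounitEpi
import Groth.Agent.Lib.QuasiAffineGlobGen
import Groth.Agent.Lib.GlobGenDescent
import Groth.Agent.S1647
import Groth.Prelude.Def_ShStab
import Mathlib.CategoryTheory.Abelian.DiagramLemmas.KernelCokernelComp

/-!
# Mumford's uniform regularity for quotients of `O_X^N` on a closed subscheme of `P^n_k` (helper4)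
-/

set_option autoImplicit false
universe u
open CategoryTheory CategoryTheory.Limits AlgebraicGeometry TopologicalSpace Opposite Twist Polynomial

namespace Groth.Agent.Lib.H4MumfordClosed

open Groth.Agent.Lib.OXModTensor Groth.Agent.Lib.TwistEquiv Groth.Agent.Lib.CohLES
open Groth.Agent.Lib.H4MumfordStep Groth.Agent.Lib.H4MumfordThm

section Abstract

variable {C : Type*} [Category C] [Abelian C] {A B D : C} (f : A ⟶ B) (g : B ⟶ D)

/-- `0 → ker f → ker (f ≫ g) → ker g → 0` for an epimorphism `f` -/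
theorem shortExact_kernel_comp [Epi f] :
    (ShortComplex.mk (kernel.map f (f ≫ g) (𝟙 _) g (by simp))
      (kernel.map (f ≫ g) g f (𝟙 _) (by simp)) (by ext; simp)).ShortExact := by
  have h0 := (kernelCokernelCompSequence_exact f g).exact 0
  have h1 := (kernelCokernelCompSequence_exact f g).exact 1
  have hm : Mono (kernel.map f (f ≫ g) (𝟙 _) g (by simp)) :=
    inferInstanceAs (Mono ((kernelCokernelCompSequence f g).map' 0 1))
  have hz : IsZero (cokernel f) := isZero_cokernel_of_epi f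
  have he : Epi (kernel.map (f ≫ g) g f (𝟙 _) (by simp)) := h1.epi_f (hz.eq_of_tgt _ _)
  exact ShortComplex.ShortExact.mk h0

end Abstract

section GlobGen

variable {X : Scheme.{u}}

theorem isGloballyGenerated_of_epi {M M' : X.Modules} (π : M ⟶ M') [hπ : Epi π]
    (h : Curv2.IsGloballyGenerated M) : Curv2.IsGloballyGenerated M' := by
  obtain ⟨K, p, hp⟩ := h
  exact ⟨K, p ≫ π, @epi_comp _ _ _ _ _ p hp π hπ⟩

theorem isGloballyGenerated_of_iso {M M' : X.Modules} (e : M ≅ M')
    (h : Curv2.IsGloballyGenerated M) : Curv2.IsGloballyGenerated M' :=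
  isGloballyGenerated_of_epi e.hom h

end GlobGen

section Closed

variable (k : Type u) [Field k] {n : ℕ} {X : Scheme.{u}} [X.Over (Spec (CommRingCat.of k))]
  (ι : X ⟶ CohB1.ProjSpace n k) [IsClosedImmersion ι]

omit [X.Over (Spec (CommRingCat.of k))] [IsClosedImmersion ι] in
/-- `F ⊗ L^l ≅ F ⊗ ι^*O(l)` for `L ≅ ι^*O(1)` -/
theorem nonempty_twist_iso (L : X.Modules)
    (hL : Nonempty (L ≅ (Scheme.Modules.pullback ι).obj (Twist.twistProjSpace n k 1)))
    (F : X.Modules) (l : ℕ) :
    Nonempty (ShStab.twist X L F l ≅ Pic13.twistOn k ι F (l : ℤ)) := by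
  obtain ⟨e⟩ := hL
  obtain ⟨e2⟩ := Groth.Agent.Lib.H78AtlasIso.nonempty_pullback_tensorPow_iso ι
    (Groth.Agent.Lib.H4Twist.isInvertible_twistProjSpace n k 1) l
  obtain ⟨e3⟩ := Groth.Agent.Lib.H4Twist.nonempty_twistPowIso_of_cover (CohB1.polyGrading n k)
    (Groth.Agent.Lib.ProjSpaceFin.hcov n k) l
  exact ⟨tensorModIso (Iso.refl F) (tensorPowIso e l ≪≫ e2.symm ≪≫
    (Scheme.Modules.pullback ι).mapIso e3.symm)⟩

/-- `H^q(X, F ⊗ L^l) ≃ H^q(P^n, ι_*F ⊗ O(l))` -/
theorem nonempty_linearEquiv_twist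
    (hι : ι ≫ CohB1.ProjSpace.toSpec n k = X ↘ Spec (CommRingCat.of k)) (L : X.Modules)
    (hL : Nonempty (L ≅ (Scheme.Modules.pullback ι).obj (Twist.twistProjSpace n k 1)))
    (F : X.Modules) (hF : Coh.IsCoh F) (l : ℕ) (q : ℕ) :
    Nonempty (Coh.HH X (ShStab.twist X L F l) q ≃ₗ[k]
      Coh.HH (CohB1.ProjSpace n k)
        (CohB1.tensorMod ((Scheme.Modules.pushforward ι).obj F) (Twist.twistProjSpace n k (l : ℤ))) q) := by
  obtain ⟨e⟩ := nonempty_twist_iso k ι L hL F l
  obtain ⟨e'⟩ := Groth.Agent.Lib.H4ClosedReg.nonempty_linearEquiv_twistOn k n ι hι F hF (l : ℤ) q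
  exact ⟨(mapEquivₗ k e q).trans e'⟩

theorem euler_twist
    (hι : ι ≫ CohB1.ProjSpace.toSpec n k = X ↘ Spec (CommRingCat.of k)) (L : X.Modules)
    (hL : Nonempty (L ≅ (Scheme.Modules.pullback ι).obj (Twist.twistProjSpace n k 1)))
    (F : X.Modules) (hF : Coh.IsCoh F) (l : ℕ) :
    Curv2.euler k X (ShStab.twist X L F l) =
      Curv2.euler k (CohB1.ProjSpace n k)
        (CohB1.tensorMod ((Scheme.Modules.pushforward ι).obj F) (Twist.twistProjSpace n k (l : ℤ))) := by
  unfold Curv2.euler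
  refine finsum_congr fun i => ?_
  obtain ⟨e⟩ := nonempty_linearEquiv_twist k ι hι L hL F hF l i
  rw [e.finrank_eq]

end Closed

section Main

variable (k : Type u) [Field k] [IsAlgClosed k] {n : ℕ} {X : Scheme.{u}}
  [X.Over (Spec (CommRingCat.of k))] (ι : X ⟶ CohB1.ProjSpace n k) [IsClosedImmersion ι]

theorem isCoh_freeMod (Y : Scheme.{u}) (N : ℕ) : Coh.IsCoh (FlatMod.freeMod Y N) :=
  Groth.Agent.Lib.H90Invertible.isCoh_of_isFinLocFree
    (Groth.Agent.Lib.H90Invertible.isFinLocFree_freeMod _ N)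

/-- the epimorphism `O_P^N → ι_* O_X^N` -/
noncomputable def bMap (N : ℕ) : FlatMod.freeMod (CohB1.ProjSpace n k) N ⟶
    (Scheme.Modules.pushforward ι).obj (FlatMod.freeMod X N) :=
  (Scheme.Modules.pullbackPushforwardAdjunction ι).unit.app (FlatMod.freeMod (CohB1.ProjSpace n k) N) ≫
    (Scheme.Modules.pushforward ι).map (Groth.Agent.Lib.H90Invertible.pullbackFreeModIso ι N).hom

omit [IsAlgClosed k] [X.Over (Spec (CommRingCat.of k))] in
theorem epi_bMap (N : ℕ) : Epi (bMap k ι N) := by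
  have := (isCoh_freeMod (CohB1.ProjSpace n k) N).1
  have h1 := Groth.Agent.Lib.H90UnitKer.epi_unit ι (FlatMod.freeMod (CohB1.ProjSpace n k) N)
  unfold bMap
  exact epi_comp _ _

set_option maxHeartbeats 1600000 in
/-- **Uniform vanishing and global generation** for quotients of `O_X^N` with fixed Hilbert polynomial on a closed
subscheme `X` of `P^n_k`, `k` algebraically closed. -/
theorem main_closed
    (hι : ι ≫ CohB1.ProjSpace.toSpec n k = X ↘ Spec (CommRingCat.of k)) (L : X.Modules)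
    (hL : Nonempty (L ≅ (Scheme.Modules.pullback ι).obj (Twist.twistProjSpace n k 1)))
    (N : ℕ) (P : ℚ[X]) :
    ∃ l₀ : ℕ, ∀ (F : X.Modules) (q : FlatMod.freeMod X N ⟶ F),
      Coh.IsCoh F → Epi q → ShStab.IsHilbPoly k X L F P →
        ∀ l : ℕ, l₀ ≤ l →
          (∀ i : ℕ, 0 < i → Subsingleton (Coh.HH X (ShStab.twist X L F l) i)) ∧
          (∀ i : ℕ, 0 < i → Subsingleton (Coh.HH X (ShStab.twist X L (kernel q) l) i)) ∧
          Curv2.IsGloballyGenerated (ShStab.twist X L (kernel q) l) := by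
  haveI := isLocallyNoetherian_projSpace (k := k) (n := n)
  haveI : IsLocallyNoetherian X := LocallyOfFiniteType.isLocallyNoetherian ι
  have cX := isCoh_freeMod X N
  have cP := isCoh_freeMod (CohB1.ProjSpace n k) N
  have qX := cX.1
  have qP := cP.1
  have qpX : ((Scheme.Modules.pushforward ι).obj (FlatMod.freeMod X N)).IsQuasicoherent :=
    Groth.Agent.Lib.H90OXModPush.isQuasicoherent_pushforward ι _
  have hb := epi_bMap k ι N
  have hK₀ : Coh.IsCoh (kernel (bMap k ι N)) :=
    Groth.Agent.Lib.H90OXModExact.isCoh_kernel (bMap k ι N) cP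
  obtain ⟨d₀, hd₀⟩ := Groth.Agent.Lib.SerreVanPN.serre_vanishing n k (kernel (bMap k ι N)) hK₀
  refine ⟨(max (mfun (n + 1) 0 P) d₀).toNat, ?_⟩
  intro F q hF hq hHP l hl
  have hlm : mfun (n + 1) 0 P ≤ (l : ℤ) := by
    have := Int.toNat_le.1 hl
    exact le_trans (le_max_left _ _) this
  have hld : d₀ ≤ (l : ℤ) := by
    have := Int.toNat_le.1 hl
    exact le_trans (le_max_right _ _) this
  have qF := hF.1
  have hq' : Epi ((Scheme.Modules.pushforward ι).map q) :=
    Groth.Agent.Lib.H4ClosedReg.epi_pushforward_map ι q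
  have hF' : Coh.IsCoh ((Scheme.Modules.pushforward ι).obj F) :=
    Groth.Agent.Lib.H90OXModPushFinite.isCoh_pushforward ι F hF
  have qF' := hF'.1
  have hφ : Epi (bMap k ι N ≫ (Scheme.Modules.pushforward ι).map q) := epi_comp _ _
  have hP : ∀ t : ℤ, 0 ≤ t → (Curv2.euler k (CohB1.ProjSpace n k)
      (CohB1.tensorMod ((Scheme.Modules.pushforward ι).obj F) (Twist.twistProjSpace n k t)) : ℚ) =
        P.eval (t : ℚ) := by
    intro t ht
    obtain ⟨l', rfl⟩ := Int.eq_ofNat_of_zero_le ht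
    rw [← euler_twist k ι hι L hL F hF l']
    exact_mod_cast hHP l'
  have hreg := Groth.Agent.Lib.H4MumfordThm.main N 0 P ((Scheme.Modules.pushforward ι).obj F)
    (bMap k ι N ≫ (Scheme.Modules.pushforward ι).map q) hF' hP
  have hS := shortExact_kernel_comp (bMap k ι N) ((Scheme.Modules.pushforward ι).map q)
  have hKφ : Coh.IsCoh (kernel (bMap k ι N ≫ (Scheme.Modules.pushforward ι).map q)) :=
    Groth.Agent.Lib.H90OXModExact.isCoh_kernel _ cP
  have v1 : ∀ i : ℕ, 1 ≤ i → Subsingleton (Coh.HH (CohB1.ProjSpace n k)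
      (tw k n (kernel (bMap k ι N ≫ (Scheme.Modules.pushforward ι).map q)) (l : ℤ)) i) :=
    fun i hi => subsingleton_of_isMRegular hKφ hreg i (l : ℤ) hi (by omega)
  have v0 : ∀ i : ℕ, 1 ≤ i → Subsingleton (Coh.HH (CohB1.ProjSpace n k)
      (tw k n (kernel (bMap k ι N)) (l : ℤ)) i) := fun i hi => hd₀ (l : ℤ) hld i hi
  have hSl := shortExact_tw hS (l : ℤ)
  have v2 : ∀ i : ℕ, 1 ≤ i → Subsingleton (Coh.HH (CohB1.ProjSpace n k)
      (tw k n (kernel ((Scheme.Modules.pushforward ι).map q)) (l : ℤ)) i) := by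
    intro i hi
    have a := v1 i hi
    have b := v0 (i + 1) (by omega)
    exact @subsingleton_right _ _ hSl i a b
  have hG : Coh.IsCoh (kernel q) := Groth.Agent.Lib.H90OXModExact.isCoh_kernel q cX
  let ek : (Scheme.Modules.pushforward ι).obj (kernel q) ≅ kernel ((Scheme.Modules.pushforward ι).map q) :=
    PreservesKernel.iso (Scheme.Modules.pushforward ι) q
  refine ⟨fun i hi => ?_, fun i hi => ?_, ?_⟩
  · -- `F`
    have hT := shortExact_tw (Groth.Agent.Lib.H4RegRes.shortExact_kernel_epi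
      (bMap k ι N ≫ (Scheme.Modules.pushforward ι).map q)) (l : ℤ)
    have a : Subsingleton (Coh.HH (CohB1.ProjSpace n k)
        (tw k n (FlatMod.freeMod (CohB1.ProjSpace n k) N) (l : ℤ)) i) :=
      good_freeMod N i (l : ℤ) hi (by push_cast; omega)
    have b := v1 (i + 1) (by omega)
    have c : Subsingleton (Coh.HH (CohB1.ProjSpace n k)
        (tw k n ((Scheme.Modules.pushforward ι).obj F) (l : ℤ)) i) := @subsingleton_right _ _ hT i a b
    obtain ⟨e⟩ := nonempty_linearEquiv_twist k ι hι L hL F hF l i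
    exact e.toEquiv.subsingleton
  · -- `G`
    have c : Subsingleton (Coh.HH (CohB1.ProjSpace n k)
        (tw k n ((Scheme.Modules.pushforward ι).obj (kernel q)) (l : ℤ)) i) :=
      @Groth.Agent.Lib.H4Twist.subsingleton_HH_of_iso _ _ _ (twIso ek (l : ℤ)) i (v2 i hi)
    obtain ⟨e⟩ := nonempty_linearEquiv_twist k ι hι L hL (kernel q) hG l i
    exact e.toEquiv.subsingleton
  · -- global generation
    have hreg_l : Curv2.IsMRegular k n (kernel (bMap k ι N ≫ (Scheme.Modules.pushforward ι).map q))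
        (l : ℤ) := isMRegular_of_le hKφ hreg hlm
    have g1 := Groth.Agent.S1647.result k n _ hKφ (l : ℤ) hreg_l
    have hepi : Epi ((tensorRightFunctor (Twist.twistProjSpace n k (l : ℤ))).map
        (kernel.map (bMap k ι N ≫ (Scheme.Modules.pushforward ι).map q)
          ((Scheme.Modules.pushforward ι).map q) (bMap k ι N) (𝟙 _) (by simp))) := hSl.epi_g
    have g2 : Curv2.IsGloballyGenerated
        (tw k n (kernel ((Scheme.Modules.pushforward ι).map q)) (l : ℤ)) :=
      @isGloballyGenerated_of_epi _ _ _ _ hepi g1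
    have g3 : Curv2.IsGloballyGenerated
        (tw k n ((Scheme.Modules.pushforward ι).obj (kernel q)) (l : ℤ)) :=
      isGloballyGenerated_of_iso (twIso ek (l : ℤ)).symm g2
    have g4 : Curv2.IsGloballyGenerated
        ((Scheme.Modules.pushforward ι).obj (Pic13.twistOn k ι (kernel q) (l : ℤ))) :=
      isGloballyGenerated_of_iso (Groth.Agent.Lib.H4ProjFormula.projFormulaIso ι (kernel q)
        (Groth.Agent.Lib.H4Twist.isInvertible_twistProjSpace n k (l : ℤ))) g3
    have g5 := Groth.Agent.Lib.GlobGenDescent.isGloballyGenerated_pullback ι g4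
    have qM : (Pic13.twistOn k ι (kernel q) (l : ℤ)).IsQuasicoherent :=
      (Groth.Agent.Lib.H4ClosedReg.isQuasicoherent_twistOn k n ι (kernel q) hG (l : ℤ)).1
    have hcounit : Epi ((Scheme.Modules.pullbackPushforwardAdjunction ι).counit.app
        (Pic13.twistOn k ι (kernel q) (l : ℤ))) := by
      refine Groth.Agent.Lib.CounitEpi.epi_counit_of_locally_globGen ι _ fun x => ?_
      obtain ⟨U, hU, hxU, -⟩ := Opens.isBasis_iff_nbhd.1 (CohB1.ProjSpace n k).isBasis_affineOpens
        (show ι x ∈ (⊤ : (CohB1.ProjSpace n k).Opens) from trivial)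
      refine ⟨U, hxU, ?_⟩
      have hU' : IsAffineOpen (ι ⁻¹ᵁ U) := IsAffineOpen.preimage hU ι
      haveI : IsAffine (ι ⁻¹ᵁ U).toScheme := hU'
      exact Groth.Agent.Lib.QuasiAffineGlobGen.isGloballyGenerated_of_isQuasiAffine _ _ inferInstance
    have g6 : Curv2.IsGloballyGenerated (Pic13.twistOn k ι (kernel q) (l : ℤ)) :=
      @isGloballyGenerated_of_epi _ _ _ _ hcounit g5
    obtain ⟨e⟩ := nonempty_twist_iso k ι L hL (kernel q) l
    exact isGloballyGenerated_of_iso e.symm g6

end Main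

end Groth.Agent.Lib.H4MumfordClosed
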