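import Mathlib.Algebra.Homology.ShortComplex.SnakeLemma
import Mathlib.Algebra.Homology.ShortComplex.ShortExact

/-!
# The 3×3 lemma (cokernel row) in an abelian category (helper4, Mathlib only)

`exists_cokernel_row` : for a morphism `v : S₁ ⟶ S₂` of short exact sequences with `v.τ₃` a monomorphism, there are a
short exact sequence `S₃` and `π : S₂ ⟶ S₃` such that each `π.τᵢ` is a cokernel of `v.τᵢ`
(i.e. the three columns `S₁.Xᵢ ⟶ S₂.Xᵢ ⟶ S₃.Xᵢ ⟶ 0` are exact and `π.τᵢ` is an epimorphism).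
-/

set_option autoImplicit false
universe v u
open CategoryTheory CategoryTheory.Limits

namespace Groth.Agent.Lib.H4ThreeByThree

variable {C : Type u} [Category.{v} C] [Abelian C]

/-- the snake input attached to a morphism of short exact sequences -/
noncomputable def snake {S₁ S₂ : ShortComplex C} (h₁ : S₁.ShortExact) (h₂ : S₂.ShortExact) (v : S₁ ⟶ S₂) :
    ShortComplex.SnakeInput C where
  L₀ := kernel v
  L₁ := S₁
  L₂ := S₂
  L₃ := cokernel v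
  v₀₁ := kernel.ι v
  v₁₂ := v
  v₂₃ := cokernel.π v
  w₀₂ := kernel.condition v
  w₁₃ := cokernel.condition v
  h₀ := kernelIsKernel v
  h₃ := cokernelIsCokernel v
  L₁_exact := h₁.exact
  epi_L₁_g := h₁.epi_g
  L₂_exact := h₂.exact
  mono_L₂_f := h₂.mono_f

theorem exists_cokernel_row {S₁ S₂ : ShortComplex C} (h₁ : S₁.ShortExact) (h₂ : S₂.ShortExact)
    (v : S₁ ⟶ S₂) [Mono v.τ₃] :
    ∃ (S₃ : ShortComplex C) (π : S₂ ⟶ S₃) (w₁ : v.τ₁ ≫ π.τ₁ = 0) (w₂ : v.τ₂ ≫ π.τ₂ = 0)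
      (w₃ : v.τ₃ ≫ π.τ₃ = 0), S₃.ShortExact ∧
      (ShortComplex.mk v.τ₁ π.τ₁ w₁).Exact ∧ Epi π.τ₁ ∧
      (ShortComplex.mk v.τ₂ π.τ₂ w₂).Exact ∧ Epi π.τ₂ ∧
      (ShortComplex.mk v.τ₃ π.τ₃ w₃).Exact ∧ Epi π.τ₃ := by
  let S := snake h₁ h₂ v
  have hz : IsZero S.L₀.X₃ := by
    have hk : IsLimit (KernelFork.ofι S.v₀₁.τ₃ S.w₀₂_τ₃) := S.h₀τ₃
    have hm : Mono S.v₁₂.τ₃ := (inferInstance : Mono v.τ₃)
    have h0 : S.v₀₁.τ₃ = 0 := by
      rw [← cancel_mono S.v₁₂.τ₃, S.w₀₂_τ₃, zero_comp]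
    have : Mono S.v₀₁.τ₃ := inferInstance
    rw [IsZero.iff_id_eq_zero, ← cancel_mono S.v₀₁.τ₃, h0, comp_zero, comp_zero]
  have hmono : Mono S.L₃.f := by
    have hex := S.L₂'_exact
    exact hex.mono_g (hz.eq_of_src _ _)
  have : Epi S.L₂.g := h₂.epi_g
  have hepi : Epi S.L₃.g := inferInstance
  refine ⟨S.L₃, S.v₂₃, S.w₁₃_τ₁, S.w₁₃_τ₂, S.w₁₃_τ₃, ?_, S.exact_C₁_down, S.epi_v₂₃_τ₁,
    S.exact_C₂_down, S.epi_v₂₃_τ₂, S.exact_C₃_down, S.epi_v₂₃_τ₃⟩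
  exact ShortComplex.ShortExact.mk S.L₃_exact

/-- an epimorphism `π` which makes `X ⟶ Y ⟶ Z` exact identifies `Z` with the cokernel -/
theorem exists_cokernel_iso {X Y Z : C} (f : X ⟶ Y) (π : Y ⟶ Z) (w : f ≫ π = 0)
    (hex : (ShortComplex.mk f π w).Exact) [Epi π] :
    ∃ e : cokernel f ≅ Z, cokernel.π f ≫ e.hom = π := by
  have hc : IsColimit (CokernelCofork.ofπ π w) := hex.gIsCokernel
  refine ⟨(colimit.isColimit (parallelPair f 0)).coconePointUniqueUpToIso hc, ?_⟩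
  exact IsColimit.comp_coconePointUniqueUpToIso_hom (colimit.isColimit (parallelPair f 0)) hc
    WalkingParallelPair.one

end Groth.Agent.Lib.H4ThreeByThree
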