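import Mathlib

/-!
# helper59: small polynomial lemmas (Mathlib only)

* `eq_of_eval_nat_eq` : polynomials over `ℚ` in `Fin n` variables agreeing on `ℕ^n` are equal.
* `coeff_one_eq_sub` : for `P : MvPolynomial (Fin 1) ℚ` of total degree `≤ 1`, the coefficient of `n` is `P(1) - P(0)`.
-/

set_option autoImplicit false

namespace Groth.Agent.Lib.H59PolyNat

open MvPolynomial

theorem eq_of_eval_nat_eq {σ : Type*} (P Q : MvPolynomial σ ℚ)
    (h : ∀ m : σ → ℕ, eval (fun i => (m i : ℚ)) P = eval (fun i => (m i : ℚ)) Q) : P = Q := by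
  refine funext_set (fun _ => Set.range (Nat.cast : ℕ → ℚ))
    (fun _ => Set.infinite_range_of_injective Nat.cast_injective) fun x hx => ?_
  have hx' : ∀ i, ∃ n : ℕ, (n : ℚ) = x i := fun i => hx i (Set.mem_univ i)
  choose m hm using hx'
  have : x = fun i => (m i : ℚ) := funext fun i => (hm i).symm
  rw [this]
  exact h m

theorem coeff_one_eq_sub (P : MvPolynomial (Fin 1) ℚ) (hP : P.totalDegree ≤ 1) :
    coeff (Finsupp.equivFunOnFinite.symm fun _ : Fin 1 => 1) P =
      eval (fun _ => (1 : ℚ)) P - eval (fun _ => (0 : ℚ)) P := by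
  classical
  set e1 : Fin 1 →₀ ℕ := Finsupp.equivFunOnFinite.symm fun _ : Fin 1 => 1 with he1
  have hsupp : ∀ m ∈ P.support, m = 0 ∨ m = e1 := by
    intro m hm
    have h1 := (le_totalDegree hm).trans hP
    have h2 : (m.sum fun _ e => e) = m 0 := by
      rw [Finsupp.sum_fintype _ _ (fun _ => rfl)]
      simp
    rw [h2] at h1
    rcases Nat.le_one_iff_eq_zero_or_eq_one.1 h1 with h0 | h0
    · left
      refine Finsupp.ext fun i => ?_
      have : i = 0 := Subsingleton.elim _ _
      subst this
      simpa using h0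
    · right
      refine Finsupp.ext fun i => ?_
      have : i = 0 := Subsingleton.elim _ _
      subst this
      simpa [he1] using h0
  have hne : (0 : Fin 1 →₀ ℕ) ≠ e1 := by
    intro h
    have := DFunLike.congr_fun h 0
    simp [he1] at this
  have key : ∀ x : Fin 1 → ℚ, eval x P = coeff 0 P + coeff e1 P * x 0 := by
    intro x
    rw [eval_eq']
    have hsub : P.support ⊆ {0, e1} := by
      intro m hm
      rcases hsupp m hm with rfl | rfl <;> simp
    rw [Finset.sum_subset hsub (fun m _ hm => by
      rw [notMem_support_iff.1 hm, zero_mul])]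
    rw [Finset.sum_pair hne]
    simp [he1, Fin.prod_univ_one]
  rw [key, key]
  ring

end Groth.Agent.Lib.H59PolyNat
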