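import Groth.Agent.Lib.H59EulerClosed
import Groth.Agent.Lib.H59PolyNat
import Groth.Agent.S3230

/-!
# helper59: Snapper's theorem in the `Curv2.euler` / `Curv2.tensorPows` language

* `vanHyp`, `properFinHyp` : the two hypotheses of the `EulerLE48` API, discharged.
* `snapper` : `n ↦ χ(X, F ⊗ L^n)` is a polynomial of total degree `≤ dim Supp F`.
* `euler_add` : additivity of `Curv2.euler` on short exact sequences of coherent modules.
-/

set_option autoImplicit false
universe u
open CategoryTheory CategoryTheory.Limits AlgebraicGeometry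

namespace Groth.Agent.Lib.H59SnapperCurv

open Groth.Agent.Lib Groth.Agent.Lib.IsoCls13 Groth.Agent.Lib.H59EulerClosed

theorem vanHyp : Groth.Agent.Lib.EulerLE48.VanHyp.{u} := fun X _ d hd F p hp =>
  Groth.Agent.Lib.GrothVanish.subsingleton_HH_of_dim_lt X d hd F p hp

theorem properFinHyp : ProperFinHyp.Hyp.{u} :=
  fun A _ _ X _ _ M hM n => Groth.Agent.S0002.result A X M hM n

variable (k : Type u) [Field k] (X : Scheme.{u}) [X.Over (Spec (CommRingCat.of k))]
  [IsProper (X ↘ Spec (CommRingCat.of k))]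

/-- **Snapper's theorem** for `Curv2.euler` and `Curv2.tensorPows`. -/
theorem snapper (d : ℕ) (hd : topologicalKrullDim X ≤ d) {r : ℕ} (L : Fin r → X.Modules)
    (hL : ∀ i, PicF.IsInvertible (L i)) (F : X.Modules) (hF : Coh.IsCoh F) (s : ℕ)
    (hs : topologicalKrullDim (CohB1.support F) ≤ s) :
    ∃ P : MvPolynomial (Fin r) ℚ, P.totalDegree ≤ s ∧
      ∀ n : Fin r → ℕ, (Curv2.euler k X (Curv2.tensorPows F r L n) : ℚ) =
        MvPolynomial.eval (fun i => (n i : ℚ)) P := by
  obtain ⟨P, hP, h⟩ := Groth.Agent.S3230.result k X d hd L hL F hF s hs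
  refine ⟨P, hP, fun n => ?_⟩
  rw [← h n, Groth.Agent.Lib.EulerLE48.eulerCharLE_eq_euler k X vanHyp d hd]
  congr 1
  refine euler_eq_of_cls_eq k ?_
  rw [cls_tensorPows, cls_tensorMod, cls_multiTwist, mul_comm]

theorem euler_add (S : ShortComplex X.Modules) (hS : S.ShortExact) (h₁ : Coh.IsCoh S.X₁)
    (h₂ : Coh.IsCoh S.X₂) (h₃ : Coh.IsCoh S.X₃) :
    Curv2.euler k X S.X₂ = Curv2.euler k X S.X₁ + Curv2.euler k X S.X₃ :=
  Groth.Agent.Lib.EulerChar54.euler_add properFinHyp k X S hS h₁ h₂ h₃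

end Groth.Agent.Lib.H59SnapperCurv
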