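import Mathlib.RingTheory.MvPolynomial.Homogeneous
import Mathlib.RingTheory.MvPolynomial.Basic
import Mathlib.Data.Sym.Card
import Mathlib.Data.Finsupp.Multiset
import Mathlib.LinearAlgebra.Basis.VectorSpace
import Mathlib.LinearAlgebra.Dimension.StrongRankCondition
import Mathlib.LinearAlgebra.FiniteDimensional.Basic
import Mathlib.LinearAlgebra.Dimension.Constructions

/-!
# helper78: forms on the projective plane vanishing at finitely many rational points
(namespace `Groth.Agent.Lib.H78PlanePoints`)

* `linPoly φ`: the linear form (homogeneous polynomial of degree one) attached to a functional on `ι → k`.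
* `exists_form_of_finset`: a product of linear forms vanishing on a finite set of vectors but not at `v`.
* `finrank_homogeneousSubmodule`: the space of forms of degree `m` in `Fintype.card σ` variables has
  dimension `(card σ + m - 1).choose m`.
-/

set_option autoImplicit false
universe u
open MvPolynomial

namespace Groth.Agent.Lib.H78PlanePoints

variable {k : Type u} [Field k] {ι : Type*} [Fintype ι] [DecidableEq ι]

/-- the linear form attached to a functional -/
noncomputable def linPoly (φ : (ι → k) →ₗ[k] k) : MvPolynomial ι k :=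
  ∑ i, C (φ (fun j => if i = j then 1 else 0)) * X i

lemma linPoly_isHomogeneous (φ : (ι → k) →ₗ[k] k) : (linPoly φ).IsHomogeneous 1 := by
  refine IsHomogeneous.sum _ _ _ (fun i _ => ?_)
  have := (isHomogeneous_C ι (φ (fun j => if i = j then 1 else 0))).mul (isHomogeneous_X k i)
  simpa using this

lemma aeval_linPoly (φ : (ι → k) →ₗ[k] k) (v : ι → k) : aeval v (linPoly φ) = φ v := by
  rw [LinearMap.pi_apply_eq_sum_univ φ v, linPoly, map_sum]
  refine Finset.sum_congr rfl (fun i _ => ?_)
  simp [mul_comm]

/-- a linear form vanishing on a subspace but not at a vector outside it -/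
lemma exists_linForm (p : Submodule k (ι → k)) (v : ι → k) (hv : v ∉ p) :
    ∃ ℓ : MvPolynomial ι k, ℓ.IsHomogeneous 1 ∧ (∀ w ∈ p, aeval w ℓ = 0) ∧ aeval v ℓ ≠ 0 := by
  obtain ⟨φ, hφv, hφp⟩ := Submodule.exists_le_ker_of_notMem hv
  refine ⟨linPoly φ, linPoly_isHomogeneous φ, fun w hw => ?_, ?_⟩
  · rw [aeval_linPoly]
    exact hφp hw
  · rwa [aeval_linPoly]

/-- a product of linear forms vanishing on a finite set `s` of vectors, none of which is proportional to `v`,
and not vanishing at `v` -/
lemma exists_form_of_finset (s : Finset (ι → k)) (v : ι → k)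
    (h : ∀ w ∈ s, v ∉ Submodule.span k {w}) :
    ∃ p : MvPolynomial ι k, p.IsHomogeneous s.card ∧ (∀ w ∈ s, aeval w p = 0) ∧ aeval v p ≠ 0 := by
  classical
  induction s using Finset.induction_on with
  | empty =>
    refine ⟨1, ?_, by simp, by simp⟩
    simpa using isHomogeneous_one ι k
  | insert a s ha ih =>
    obtain ⟨p, hp, hps, hpv⟩ := ih (fun w hw => h w (Finset.mem_insert_of_mem hw))
    obtain ⟨ℓ, hℓ, hℓa, hℓv⟩ := exists_linForm (Submodule.span k {a}) v (h a (Finset.mem_insert_self a s))
    refine ⟨ℓ * p, ?_, ?_, ?_⟩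
    · rw [Finset.card_insert_of_notMem ha, add_comm]
      exact hℓ.mul hp
    · intro w hw
      rw [map_mul]
      rcases Finset.mem_insert.1 hw with rfl | hw
      · rw [hℓa w (Submodule.mem_span_singleton_self w), zero_mul]
      · rw [hps w hw, mul_zero]
    · rw [map_mul]
      exact mul_ne_zero hℓv hpv

variable (k) in
/-- Stars and bars: the dimension of the space of forms of degree `m` in the variables `σ`. -/
lemma finrank_homogeneousSubmodule (σ : Type*) [Fintype σ] [DecidableEq σ] (m : ℕ) :
    Module.finrank k (homogeneousSubmodule σ k m) = (Fintype.card σ + m - 1).choose m := by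
  rw [homogeneousSubmodule_eq_finsupp_supported]
  have e := basisRestrictSupport k {d : σ →₀ ℕ | d.degree = m}
  change Module.finrank k (restrictSupport k {d : σ →₀ ℕ | d.degree = m}) = _
  rw [Module.finrank_eq_nat_card_basis e]
  have e2 : Sym σ m ≃ {d : σ →₀ ℕ | d.degree = m} := Sym.equivNatSum σ m
  rw [← Nat.card_congr e2, Nat.card_eq_fintype_card, Sym.card_sym_eq_choose]

/-- If a finite set `s` (with at least two elements) of vectors of `k³` lies on no line, and `v` is proportional to no
element of `s`, then some line through two distinct points of `s` misses `v`. -/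
lemma exists_pair_notMem_span (s : Finset (Fin 3 → k)) (hs : 2 ≤ s.card) (v : Fin 3 → k)
    (hv : ∀ w ∈ s, v ∉ Submodule.span k {w})
    (hline : ¬ ∃ ℓ : (Fin 3 → k) →ₗ[k] k, ℓ ≠ 0 ∧ ∀ w ∈ s, ℓ w = 0) :
    ∃ w₁ ∈ s, ∃ w₂ ∈ s, w₁ ≠ w₂ ∧ v ∉ Submodule.span k {w₁, w₂} := by
  classical
  by_contra hcon
  push Not at hcon
  obtain ⟨w₁, h₁, w₂, h₂, h₁₂⟩ := Finset.one_lt_card.1 (by omega : 1 < s.card)
  have hvP : v ∈ Submodule.span k {w₁, w₂} := hcon w₁ h₁ w₂ h₂ h₁₂
  have hsub : ∀ w ∈ s, w ∈ Submodule.span k {w₁, w₂} := by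
    intro w hw
    by_cases e1 : w = w₁
    · subst e1
      exact Submodule.subset_span (by simp)
    by_cases e2 : w = w₂
    · subst e2
      exact Submodule.subset_span (by simp)
    obtain ⟨c, d, hcd⟩ := Submodule.mem_span_pair.1 (hcon w₁ h₁ w hw (Ne.symm e1))
    have hd : d ≠ 0 := by
      rintro rfl
      refine hv w₁ h₁ (Submodule.mem_span_singleton.2 ⟨c, ?_⟩)
      rw [← hcd, zero_smul, add_zero]
    have hw' : w = d⁻¹ • (v - c • w₁) := by
      rw [← hcd, add_sub_cancel_left, smul_smul, inv_mul_cancel₀ hd, one_smul]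
    rw [hw']
    refine Submodule.smul_mem _ _ (Submodule.sub_mem _ hvP (Submodule.smul_mem _ _ ?_))
    exact Submodule.subset_span (by simp)
  have hP : Submodule.span k {w₁, w₂} ≠ ⊤ := by
    intro htop
    have h1 : Module.finrank k (Submodule.span k ((({w₁, w₂} : Finset (Fin 3 → k)) : Set (Fin 3 → k)))) ≤ 2 :=
      (finrank_span_finset_le_card _).trans Finset.card_le_two
    rw [Finset.coe_pair, htop, finrank_top, Module.finrank_fintype_fun_eq_card, Fintype.card_fin] at h1
    omega
  obtain ⟨f, hf0, hf⟩ := Submodule.exists_le_ker_of_lt_top _ (lt_top_iff_ne_top.2 hP)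
  exact hline ⟨f, hf0, fun w hw => hf (hsub w hw)⟩

end Groth.Agent.Lib.H78PlanePoints
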