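import Mathlib.RingTheory.Localization.AtPrime.Basic
import Mathlib.RingTheory.Ideal.Maps

/-!
# Localizations of a product of domains at a prime

For a family of domains `R i` and a prime `P` of `Π i, R i`:
* `supp a` : the indicator idempotent of the support of `a`;
* `algebraMap_eq_zero_iff` : `a` dies in the localization at `P` iff `supp a ∈ P`;
* `isDomain_localization` : the localization at `P` is a domain;
* `algebraMap_eq_of_mul_eq` : equalities in `Π` after multiplying by an element outside `P` give
  equalities in the localization;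
* `exists_algebraMap_mul_unit` : every element of the localization is `algebraMap a * unit`.
-/

set_option autoImplicit false

universe u

namespace Groth.Agent.Lib.H4PiLocalization

variable {ι : Type u} {R : ι → Type u} [∀ i, CommRing (R i)]

open Classical in
/-- The indicator idempotent of the support of `a`. -/
noncomputable def supp (a : ∀ i, R i) : ∀ i, R i := fun i => if a i = 0 then 0 else 1

open Classical in
theorem supp_apply (a : ∀ i, R i) (i : ι) : supp a i = if a i = 0 then 0 else 1 := rfl

theorem mul_supp (a : ∀ i, R i) : a * supp a = a := by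
  classical
  funext i
  rw [Pi.mul_apply, supp_apply]
  split_ifs with h
  · rw [h, mul_zero]
  · rw [mul_one]

theorem one_sub_supp_mul (a : ∀ i, R i) : (1 - supp a) * a = 0 := by
  rw [sub_mul, one_mul, mul_comm, mul_supp, sub_self]

theorem supp_mul [∀ i, IsDomain (R i)] (a b : ∀ i, R i) : supp (a * b) = supp a * supp b := by
  classical
  funext i
  simp only [Pi.mul_apply, supp_apply, mul_eq_zero]
  by_cases ha : a i = 0 <;> by_cases hb : b i = 0 <;> simp [ha, hb]

theorem supp_notMem_of_notMem (P : Ideal (∀ i, R i)) {u : ∀ i, R i} (hu : u ∉ P) : supp u ∉ P := by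
  intro h
  apply hu
  rw [← mul_supp u]
  exact P.mul_mem_left _ h

theorem one_sub_supp_notMem (P : Ideal (∀ i, R i)) [P.IsPrime] {a : ∀ i, R i} (ha : supp a ∈ P) :
    1 - supp a ∉ P := by
  intro h
  apply (Ideal.IsPrime.ne_top ‹_›)
  rw [Ideal.eq_top_iff_one]
  have := P.add_mem h ha
  rwa [sub_add_cancel] at this

variable (P : Ideal (∀ i, R i)) [P.IsPrime]
variable (S : Type*) [CommRing S] [Algebra (∀ i, R i) S] [IsLocalization.AtPrime S P]

include P in
theorem algebraMap_eq_zero_iff [∀ i, IsDomain (R i)] (a : ∀ i, R i) :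
    algebraMap (∀ i, R i) S a = 0 ↔ supp a ∈ P := by
  rw [IsLocalization.map_eq_zero_iff P.primeCompl S]
  constructor
  · rintro ⟨⟨u, hu⟩, hua⟩
    have h0 : supp u * supp a = 0 := by
      rw [← supp_mul, show (u * a) = 0 from hua]
      funext i
      simp [supp_apply]
    have : supp u * supp a ∈ P := by rw [h0]; exact P.zero_mem
    rcases (Ideal.IsPrime.mem_or_mem ‹_› this) with h | h
    · exact absurd h (supp_notMem_of_notMem P hu)
    · exact h
  · intro h
    exact ⟨⟨1 - supp a, one_sub_supp_notMem P h⟩, one_sub_supp_mul a⟩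

include P in
/-- The localization of a product of domains at a prime is a domain. -/
theorem isDomain_localization [∀ i, IsDomain (R i)] : IsDomain S := by
  have hloc : IsLocalRing S := IsLocalization.AtPrime.isLocalRing S P
  have hnt : Nontrivial S := inferInstance
  have hnzd : NoZeroDivisors S := by
    refine ⟨fun {x y} hxy => ?_⟩
    obtain ⟨a, s, rfl⟩ := IsLocalization.exists_mk'_eq P.primeCompl x
    obtain ⟨b, t, rfl⟩ := IsLocalization.exists_mk'_eq P.primeCompl y
    rw [← IsLocalization.mk'_mul, IsLocalization.mk'_eq_zero_iff] at hxy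
    obtain ⟨⟨u, hu⟩, huab⟩ := hxy
    have hab : algebraMap (∀ i, R i) S (a * b) = 0 := by
      rw [IsLocalization.map_eq_zero_iff P.primeCompl S]
      exact ⟨⟨u, hu⟩, huab⟩
    rw [algebraMap_eq_zero_iff P S, supp_mul] at hab
    rcases (Ideal.IsPrime.mem_or_mem ‹_› hab) with h | h
    · left
      rw [IsLocalization.mk'_eq_zero_iff]
      exact ⟨⟨1 - supp a, one_sub_supp_notMem P h⟩, one_sub_supp_mul a⟩
    · right
      rw [IsLocalization.mk'_eq_zero_iff]
      exact ⟨⟨1 - supp b, one_sub_supp_notMem P h⟩, one_sub_supp_mul b⟩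
  exact NoZeroDivisors.to_isDomain S

include P in
theorem algebraMap_eq_of_mul_eq {u a b : ∀ i, R i} (hu : u ∉ P) (h : u * a = u * b) :
    algebraMap (∀ i, R i) S a = algebraMap (∀ i, R i) S b := by
  rw [IsLocalization.eq_iff_exists P.primeCompl S]
  exact ⟨⟨u, hu⟩, h⟩

include P in
theorem exists_algebraMap_mul_unit (x : S) :
    ∃ (a : ∀ i, R i) (v : Sˣ), x = algebraMap (∀ i, R i) S a * v := by
  obtain ⟨a, s, rfl⟩ := IsLocalization.exists_mk'_eq P.primeCompl x
  have hs : IsUnit (algebraMap (∀ i, R i) S s) := IsLocalization.map_units S s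
  refine ⟨a, hs.unit⁻¹, ?_⟩
  rw [IsLocalization.mk'_eq_iff_eq_mul, mul_assoc, IsUnit.val_inv_mul, mul_one]

end Groth.Agent.Lib.H4PiLocalization
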