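import Mathlib.Topology.Algebra.Category.ProfiniteGrp.Completion

/-!
# Components of the profinite completion of a discrete group

`proj G H : completion G →* G ⧸ H`, the component at a finite-index normal subgroup, with:
* `proj_etaFn`, `isOpen_proj_preimage`, `ext_proj`, `proj_compat`;
* `monoidHom_ext_of_etaFn` : locally constant homomorphisms agreeing on the image of `G` agree;
* `map_etaFn` : naturality of `etaFn`;
* `proj_map` : the components of `profiniteCompletion.map f`;
* `isClosed_range_map`, `surjective_map`;
* `exists_etaFn_proj_eq` : density in terms of components.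
-/

set_option autoImplicit false

universe u

open CategoryTheory ProfiniteGrp ProfiniteGrp.ProfiniteCompletion

namespace Groth.Agent.Lib.H4ProCompl

variable (G : GrpCat.{u})

/-- The component of an element of the completion at a finite-index normal subgroup. -/
def proj (H : FiniteIndexNormalSubgroup G) : completion G →* G ⧸ H.toSubgroup where
  toFun x := x.val H
  map_one' := rfl
  map_mul' _ _ := rfl

variable {G}

theorem proj_apply (H : FiniteIndexNormalSubgroup G) (x : completion G) : proj G H x = x.val H := rfl

@[simp] theorem proj_etaFn (H : FiniteIndexNormalSubgroup G) (g : G) :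
    proj G H (etaFn G g) = QuotientGroup.mk g := rfl

theorem isOpen_proj_preimage (H : FiniteIndexNormalSubgroup G) (s : Set (G ⧸ H.toSubgroup)) :
    IsOpen (proj G H ⁻¹' s) := by
  have hc : Continuous (fun x : completion G => (x.val H : (ProfiniteCompletion.diagram G).obj H)) :=
    (continuous_apply H).comp continuous_subtype_val
  have hd : DiscreteTopology ((ProfiniteCompletion.diagram G).obj H) := ⟨rfl⟩
  exact hc.isOpen_preimage s (isOpen_discrete _)

theorem ext_proj {x y : completion G} (h : ∀ H, proj G H x = proj G H y) : x = y :=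
  Subtype.ext (funext h)

theorem proj_compat {H K : FiniteIndexNormalSubgroup G} (h : H ≤ K) (x : completion G) :
    QuotientGroup.map H.toSubgroup K.toSubgroup (MonoidHom.id G) h (proj G H x) = proj G K x :=
  x.property (homOfLE h)

/-- Every element of the completion has, at any given level, the same component as some element
of `G`. -/
theorem exists_etaFn_proj_eq (H : FiniteIndexNormalSubgroup G) (x : completion G) :
    ∃ g : G, proj G H (etaFn G g) = proj G H x := by
  obtain ⟨g, hg⟩ := QuotientGroup.mk_surjective (proj G H x)
  exact ⟨g, hg⟩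

/-- Two homomorphisms out of the completion with open fibres which agree on `G` are equal. -/
theorem monoidHom_ext_of_etaFn {D : Type*} [Group D] (φ ψ : completion G →* D)
    (hφ : ∀ d : D, IsOpen (φ ⁻¹' {d})) (hψ : ∀ d : D, IsOpen (ψ ⁻¹' {d}))
    (h : ∀ g : G, φ (etaFn G g) = ψ (etaFn G g)) : φ = ψ := by
  ext x
  have hopen : IsOpen (φ ⁻¹' {φ x} ∩ ψ ⁻¹' {ψ x}) := (hφ _).inter (hψ _)
  have hne : (φ ⁻¹' {φ x} ∩ ψ ⁻¹' {ψ x}).Nonempty := ⟨x, rfl, rfl⟩
  obtain ⟨y, ⟨hy1, hy2⟩, g, rfl⟩ := (denseRange (G := G)).inter_open_nonempty _ hopen hne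
  rw [← (hy1 : φ (etaFn G g) = φ x), ← (hy2 : ψ (etaFn G g) = ψ x), h]

variable {G' : GrpCat.{u}}

/-- Naturality of the map to the completion. -/
theorem map_etaFn (f : G ⟶ G') (g : G) :
    (profiniteCompletion.map f).hom (etaFn G g) = etaFn G' (f.hom g) := by
  have := lift_eta (f ≫ eta G')
  exact ConcreteCategory.congr_hom this g

/-- The components of the map induced on completions. -/
theorem proj_map (f : G ⟶ G') (K : FiniteIndexNormalSubgroup G') (x : completion G) :
    proj G' K ((profiniteCompletion.map f).hom x) =
      QuotientGroup.map (K.comap f.hom).toSubgroup K.toSubgroup f.hom (fun _ h => h)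
        (proj G (K.comap f.hom) x) := by
  set φ : completion G →* G' ⧸ K.toSubgroup :=
    (proj G' K).comp (profiniteCompletion.map f).hom.toMonoidHom with hφ
  set ψ : completion G →* G' ⧸ K.toSubgroup :=
    (QuotientGroup.map (K.comap f.hom).toSubgroup K.toSubgroup f.hom (fun _ h => h)).comp
      (proj G (K.comap f.hom)) with hψ
  have hφo : ∀ d, IsOpen (φ ⁻¹' {d}) := by
    intro d
    have hc : Continuous (profiniteCompletion.map f).hom := (profiniteCompletion.map f).hom.continuous_toFun
    exact (isOpen_proj_preimage K {d}).preimage hc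
  have hψo : ∀ d, IsOpen (ψ ⁻¹' {d}) := by
    intro d
    exact isOpen_proj_preimage (K.comap f.hom)
      ((QuotientGroup.map (K.comap f.hom).toSubgroup K.toSubgroup f.hom (fun _ h => h)) ⁻¹' {d})
  have : φ = ψ := by
    refine monoidHom_ext_of_etaFn φ ψ hφo hψo fun g => ?_
    show proj G' K ((profiniteCompletion.map f).hom (etaFn G g)) = _
    rw [map_etaFn]
    rfl
  exact DFunLike.congr_fun this x

theorem isClosed_range_map (f : G ⟶ G') :
    IsClosed (Set.range (profiniteCompletion.map f).hom) :=
  (isCompact_range (profiniteCompletion.map f).hom.continuous_toFun).isClosed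

/-- A surjection of groups induces a surjection of completions. -/
theorem surjective_map (f : G ⟶ G') (hf : Function.Surjective f.hom) :
    Function.Surjective (profiniteCompletion.map f).hom := by
  intro y
  have hy : y ∈ closure (Set.range (etaFn G')) := denseRange (G := G') y
  have hsub : Set.range (etaFn G') ⊆ Set.range (profiniteCompletion.map f).hom := by
    rintro _ ⟨g', rfl⟩
    obtain ⟨g, rfl⟩ := hf g'
    exact ⟨etaFn G g, map_etaFn f g⟩
  exact (isClosed_range_map f).closure_subset (closure_mono hsub hy)

/-- Membership in a closed set of the completion can be tested on components. -/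
theorem mem_of_isClosed_of_forall_proj {S : Set (completion G)} (hS : IsClosed S) (x : completion G)
    (h : ∀ H : FiniteIndexNormalSubgroup G, ∃ y ∈ S, proj G H y = proj G H x) : x ∈ S := by
  rw [← hS.closure_eq, mem_closure_iff]
  intro U hU hxU
  -- find a level `H` such that the fibre of `proj H` through `x` lies in `U`
  obtain ⟨s, hsO, hsv⟩ := hU
  have hxs : x.val ∈ s := by rw [← hsv] at hxU; exact hxU
  obtain ⟨J, fJ, hJ1, hJ2⟩ := (isOpen_pi_iff.mp hsO) _ hxs
  let M : Subgroup G := iInf fun (j : J) => j.val.toSubgroup
  have hM : M.Normal := Subgroup.normal_iInf_normal fun j => inferInstance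
  have hMFinite : M.FiniteIndex := by
    apply Subgroup.finiteIndex_iInf
    infer_instance
  let m : FiniteIndexNormalSubgroup G := { toSubgroup := M }
  obtain ⟨y, hyS, hy⟩ := h m
  refine ⟨y, ?_, hyS⟩
  rw [← hsv]
  apply hJ2
  intro a haJ
  have hle : m ≤ a := iInf_le (fun (j : J) => (j.val.toSubgroup)) ⟨a, haJ⟩
  have h1 := proj_compat hle y
  have h2 := proj_compat hle x
  rw [hy, h2] at h1
  show y.val a ∈ fJ a
  have : y.val a = x.val a := h1.symm
  rw [this]
  exact (hJ1 a haJ).2

end Groth.Agent.Lib.H4ProCompl
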