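import Groth.Agent.Lib.H4ProjSpaceGamma
import Groth.Agent.Lib.H4Laurent
import Groth.Agent.Lib.H4CechContract

/-!
# Čech cohomology of `O(d)` on projective space for the standard cover (helper4, CohChain W5)

Sections of `O(d)` over `D₊(X^γ)` are expanded as Laurent polynomials (`Lib/H4Laurent`) through representations
`t · X^μ = B`; the contraction criterion of `Lib/H4CechContract` (helper9's trick) then gives the vanishing of the
Čech cohomology groups `Ȟ^{p+1}` of `O(d)` when `p + 2 ≤ n` or `d > -(n+1)`.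
-/

set_option autoImplicit false
universe u
open CategoryTheory AlgebraicGeometry TopologicalSpace Opposite Twist MvPolynomial
open Groth.Agent.Lib.H90Invertible Groth.Agent.Lib.H4Laurent

namespace Groth.Agent.Lib.H4Twist

section Rep

variable {n : ℕ} {R : Type u} [CommRing R]

local notation "𝒜" => CohB1.polyGrading n R

/-- `monomial γ (1 : R) * p = 0 → p = 0`. -/
theorem monomial_mul_eq_zero (γ : Fin (n + 1) →₀ ℕ) (p : MvPolynomial (Fin (n + 1)) R)
    (h : monomial γ (1 : R) * p = 0) : p = 0 := by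
  ext m
  have := congrArg (coeff (γ + m)) h
  rwa [coeff_monomial_mul, one_mul] at this

theorem monomial_mem (γ : Fin (n + 1) →₀ ℕ) (r : R) :
    monomial γ r ∈ 𝒜 (Finsupp.degree γ) :=
  (mem_homogeneousSubmodule _ _).mpr (isHomogeneous_monomial r rfl)

variable (n R) in
/-- The basic open `D₊(X^γ)` of projective space. -/
noncomputable abbrev bo (γ : Fin (n + 1) →₀ ℕ) : (Proj 𝒜).Opens :=
  Proj.basicOpen 𝒜 (monomial γ (1 : R))

/-- `t · X^μ = B` on `U`, with `X^μ` nowhere vanishing on `U` and `B` homogeneous of degree `|μ| + d`. -/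
structure Rep {d : ℤ} {U : (Proj 𝒜).Opens} (t : Γ(twist 𝒜 d, U)) (B : MvPolynomial (Fin (n + 1)) R)
    (μ : Fin (n + 1) →₀ ℕ) : Prop where
  homog : ∃ e : ℕ, B ∈ 𝒜 e ∧ (e : ℤ) = Finsupp.degree μ + d
  notMem : ∀ x : U, monomial μ (1 : R) ∉ x.1.asHomogeneousIdeal
  eqn : ∀ x : U, sval t x * (Localization.mk (monomial μ (1 : R)) 1 : Loc 𝒜 x.1) = Localization.mk B 1

namespace Rep

variable {d : ℤ} {B B' : MvPolynomial (Fin (n + 1)) R} {μ μ' : Fin (n + 1) →₀ ℕ}

theorem res {U W : (Proj 𝒜).Opens} {t : Γ(twist 𝒜 d, U)} (h : Rep t B μ) (hW : W ≤ U) :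
    Rep ((twist 𝒜 d).presheaf.map (homOfLE hW).op t) B μ :=
  ⟨h.homog, fun x => h.notMem ⟨x.1, hW x.2⟩, fun x => h.eqn ⟨x.1, hW x.2⟩⟩

theorem add {U : (Proj 𝒜).Opens} {t t' : Γ(twist 𝒜 d, U)} (h : Rep t B μ) (h' : Rep t' B' μ') :
    Rep (t + t') (B * monomial μ' (1 : R) + B' * monomial μ (1 : R)) (μ + μ') := by
  obtain ⟨e, hB, he⟩ := h.homog
  obtain ⟨e', hB', he'⟩ := h'.homog
  refine ⟨⟨e + Finsupp.degree μ', ?_, ?_⟩, fun x => ?_, fun x => ?_⟩
  · refine Submodule.add_mem _ (SetLike.mul_mem_graded hB (monomial_mem μ' 1)) ?_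
    have : e + Finsupp.degree μ' = e' + Finsupp.degree μ := by omega
    rw [this]
    exact SetLike.mul_mem_graded hB' (monomial_mem μ 1)
  · rw [map_add]; push_cast; omega
  · rw [← add_zero (1 : R), ← one_mul (1 : R), add_zero, ← monomial_mul]
    intro hx
    rcases x.1.isPrime.mem_or_mem hx with h1 | h1
    · exact h.notMem x h1
    · exact h'.notMem x h1
  · have e1 := h.eqn x
    have e2 := h'.eqn x
    have hm : (Localization.mk (monomial (μ + μ') (1 : R)) 1 : Loc 𝒜 x.1) =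
        Localization.mk (monomial μ (1 : R)) 1 * Localization.mk (monomial μ' (1 : R)) 1 := by
      rw [Localization.mk_mul, mul_one, monomial_mul, mul_one]
    have hs : (Localization.mk (B * monomial μ' (1 : R) + B' * monomial μ (1 : R)) 1 : Loc 𝒜 x.1) =
        Localization.mk B 1 * Localization.mk (monomial μ' (1 : R)) 1 +
          Localization.mk B' 1 * Localization.mk (monomial μ (1 : R)) 1 := by
      rw [Localization.mk_mul, Localization.mk_mul, mul_one, Localization.add_mk_self]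
    rw [sval_add, hm, hs, ← e1, ← e2]
    ring

/-- Two representations of the same section over `D₊(X^γ)` define the same fraction. -/
theorem unique {γ : Fin (n + 1) →₀ ℕ} (hγ : 0 < Finsupp.degree γ) {t : Γ(twist 𝒜 d, bo n R γ)}
    (h : Rep t B μ) (h' : Rep t B' μ') : B * monomial μ' (1 : R) = B' * monomial μ (1 : R) := by
  obtain ⟨e, hB, he⟩ := h.homog
  obtain ⟨e', hB', he'⟩ := h'.homog
  have hdeg : e + Finsupp.degree μ' = e' + Finsupp.degree μ := by omega
  have hδ : B * monomial μ' (1 : R) - B' * monomial μ (1 : R) ∈ 𝒜 (e + Finsupp.degree μ') :=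
    Submodule.sub_mem _ (SetLike.mul_mem_graded hB (monomial_mem μ' 1))
      (hdeg ▸ SetLike.mul_mem_graded hB' (monomial_mem μ 1))
  obtain ⟨N, hN⟩ := exists_pow_mul_eq_zero hδ (monomial_mem γ (1 : R)) hγ (by
    intro x hx
    have e1 := h.eqn ⟨x, hx⟩
    have e2 := h'.eqn ⟨x, hx⟩
    have hs : (Localization.mk (B * monomial μ' (1 : R) - B' * monomial μ (1 : R)) 1 : Loc 𝒜 x) =
        Localization.mk B 1 * Localization.mk (monomial μ' (1 : R)) 1 -
          Localization.mk B' 1 * Localization.mk (monomial μ (1 : R)) 1 := by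
      rw [Localization.mk_mul, Localization.mk_mul, mul_one, Localization.mk_one_eq_algebraMap,
        Localization.mk_one_eq_algebraMap, Localization.mk_one_eq_algebraMap, map_sub]
    rw [hs, ← e1, ← e2]
    ring)
  rw [monomial_pow, one_pow] at hN
  exact sub_eq_zero.mp (monomial_mul_eq_zero _ _ hN)

theorem val_eq {γ : Fin (n + 1) →₀ ℕ} (hγ : 0 < Finsupp.degree γ) {t : Γ(twist 𝒜 d, bo n R γ)}
    (h : Rep t B μ) (h' : Rep t B' μ') : val B μ = val B' μ' :=
  (val_eq_val_iff B B' μ μ').mpr (unique hγ h h')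

/-- A section with a representation `B = 0` vanishes. -/
theorem eq_zero {U : (Proj 𝒜).Opens} {t : Γ(twist 𝒜 d, U)} (h : Rep t (0 : MvPolynomial (Fin (n + 1)) R) μ) : t = 0 := by
  refine sec_ext fun x => ?_
  have e1 := h.eqn x
  rw [Localization.mk_zero] at e1
  have hu : IsUnit (Localization.mk (monomial μ (1 : R)) 1 : Loc 𝒜 x.1) := by
    rw [Localization.mk_one_eq_algebraMap]
    exact (IsLocalization.AtPrime.isUnit_to_map_iff (Loc 𝒜 x.1) x.1.asHomogeneousIdeal.toIdeal _).mpr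
      (h.notMem x)
  rw [sval_zero]
  exact (hu.mul_left_eq_zero).mp e1

end Rep

/-- `D₊(X^γ) ≤ D₊(X i)` if `γ i ≠ 0`. -/
theorem bo_le {γ : Fin (n + 1) →₀ ℕ} {i : Fin (n + 1)} (hi : γ i ≠ 0) :
    bo n R γ ≤ Proj.basicOpen 𝒜 (X i : MvPolynomial (Fin (n + 1)) R) := by
  intro x hx hXi
  apply hx
  have hdvd : (X i : MvPolynomial (Fin (n + 1)) R) ∣ monomial γ (1 : R) :=
    X_dvd_monomial.mpr (Or.inr hi)
  obtain ⟨c, hc⟩ := hdvd
  change monomial γ (1 : R) ∈ x.asHomogeneousIdeal.toIdeal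
  rw [hc]
  exact Ideal.mul_mem_right _ _ hXi

theorem degree_pos_of_ne {γ : Fin (n + 1) →₀ ℕ} {i : Fin (n + 1)} (hi : γ i ≠ 0) :
    0 < Finsupp.degree γ := by
  rw [Finsupp.degree_eq_sum]
  have : γ i ≤ ∑ l, γ l :=
    Finset.single_le_sum (f := fun l => γ l) (fun _ _ => Nat.zero_le _) (Finset.mem_univ i)
  omega

/-- Every section of `O(d)` over `D₊(X^γ)`, `γ ≠ 0`, has a representation with denominator supported in the support
of `γ`. -/
theorem exists_rep {γ : Fin (n + 1) →₀ ℕ} {i : Fin (n + 1)} (hi : γ i ≠ 0) (d : ℤ)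
    (t : Γ(twist 𝒜 d, bo n R γ)) :
    ∃ (B : MvPolynomial (Fin (n + 1)) R) (μ : Fin (n + 1) →₀ ℕ), Rep t B μ ∧ ∀ j, γ j = 0 → μ j = 0 := by
  have hX := ProjSpaceCover.X_mem n R i
  have hγ := degree_pos_of_ne hi
  obtain ⟨k, A, hA, h⟩ := exists_eq_mk_mul_zpow hX (monomial_mem γ (1 : R)) hγ (bo_le hi) d t
  have hgk : (monomial γ (1 : R)) ^ k = monomial (k • γ) (1 : R) := by rw [monomial_pow, one_pow]
  have hAk : A ∈ 𝒜 (Finsupp.degree (k • γ)) := by
    rw [map_nsmul]; exact hA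
  have hnin : ∀ x : bo n R γ, monomial (k • γ) (1 : R) ∉ x.1.asHomogeneousIdeal := fun x hx => by
    rw [← hgk] at hx
    exact x.2 (x.1.isPrime.mem_of_pow_mem k hx)
  have hXnin : ∀ x : bo n R γ, (X i : MvPolynomial (Fin (n + 1)) R) ∉ x.1.asHomogeneousIdeal :=
    fun x => bo_le hi x.2
  obtain ⟨q, rfl | rfl⟩ := d.eq_nat_or_neg
  · refine ⟨A * X i ^ q, k • γ, ⟨⟨Finsupp.degree (k • γ) + q,
      SetLike.mul_mem_graded hAk (pow_mem_of_one 𝒜 hX q), by push_cast; ring⟩, hnin, fun x => ?_⟩,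
      fun j hj => by simp [hj]⟩
    rw [h x, zpow_natCast, Units.val_pow_eq_pow_val, fUnit_val, Localization.mk_pow, one_pow, mul_right_comm]
    have := mk_mul_mk_self x.1 A ((monomial γ (1 : R)) ^ k)
      (fun hx => x.2 (x.1.isPrime.mem_of_pow_mem k hx))
    rw [← hgk, this, Localization.mk_mul, mul_one]
  · refine ⟨A, k • γ + Finsupp.single i q, ⟨⟨Finsupp.degree (k • γ), hAk, ?_⟩, fun x hx => ?_, fun x => ?_⟩,
      fun j hj => ?_⟩
    · rw [map_add, Finsupp.degree_single]; push_cast; ring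
    · have hm : monomial (k • γ + Finsupp.single i q) (1 : R) =
          monomial (k • γ) (1 : R) * X i ^ q := by
        rw [X_pow_eq_monomial, monomial_mul, mul_one]
      rw [hm] at hx
      rcases x.1.isPrime.mem_or_mem hx with h1 | h1
      · exact hnin x h1
      · exact hXnin x (x.1.isPrime.mem_of_pow_mem q h1)
    · have hm : (Localization.mk (monomial (k • γ + Finsupp.single i q) (1 : R)) 1 : Loc 𝒜 x.1) =
          Localization.mk (monomial (k • γ) (1 : R)) 1 *
            (((fUnit x.1 (X i) (hXnin x)) ^ (q : ℤ) : (Loc 𝒜 x.1)ˣ) : Loc 𝒜 x.1) := by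
        rw [zpow_natCast, Units.val_pow_eq_pow_val, fUnit_val, Localization.mk_pow, one_pow, Localization.mk_mul,
          mul_one, X_pow_eq_monomial, monomial_mul, mul_one]
      have := mk_mul_mk_self x.1 A ((monomial γ (1 : R)) ^ k)
        (fun hx => x.2 (x.1.isPrime.mem_of_pow_mem k hx))
      rw [h x, hm, ← hgk, mul_mul_mul_comm, this, ← Units.val_mul, ← zpow_add, neg_add_cancel, zpow_zero, Units.val_one, mul_one]
    · have hji : j ≠ i := fun hji => hi (hji ▸ hj)
      simp [hj, Ne.symm hji]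

/-- The set of indices where `γ` is non-zero. -/
def suppSet (γ : Fin (n + 1) →₀ ℕ) : Set (Fin (n + 1)) := {j | γ j ≠ 0}

/-- The expansion of a represented section lies in `lauSub d (suppSet γ)`. -/
theorem Rep.val_mem {γ : Fin (n + 1) →₀ ℕ} {d : ℤ} {U : (Proj 𝒜).Opens} {t : Γ(twist 𝒜 d, U)}
    {B : MvPolynomial (Fin (n + 1)) R} {μ : Fin (n + 1) →₀ ℕ} (h : Rep t B μ)
    (hμ : ∀ j, γ j = 0 → μ j = 0) : val B μ ∈ lauSub (R := R) d (suppSet γ) := by
  obtain ⟨e, hB, he⟩ := h.homog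
  exact val_mem_lauSub ((mem_homogeneousSubmodule _ _).mp hB) he
    (fun j hj => hμ j (by simpa [suppSet] using hj))

theorem exists_section_single {γ : Fin (n + 1) →₀ ℕ} (d : ℤ)
    (z : Fin (n + 1) →₀ ℤ) (hz : deg z = d) (hzJ : ∀ j, γ j = 0 → 0 ≤ z j) (r : R) :
    ∃ (t : Γ(twist 𝒜 d, bo n R γ)) (B : MvPolynomial (Fin (n + 1)) R) (μ : Fin (n + 1) →₀ ℕ),
      Rep t B μ ∧ val B μ = Finsupp.single z r := by
  obtain ⟨k, m, hm⟩ := exists_toZ_eq z (suppSet γ) (fun j hj => hzJ j (by simpa [suppSet] using hj)) γ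
    (fun j hj => Nat.one_le_iff_ne_zero.mpr hj)
  have hdeg : ((Finsupp.degree m : ℕ) : ℤ) = Finsupp.degree (k • γ) + d := by
    have := congrArg deg hm
    rw [deg_add, deg_toZ, deg_toZ, hz] at this
    rw [this]; ring
  have hg := monomial_mem (n := n) γ (1 : R)
  have hU : ∀ x : bo n R γ, monomial γ (1 : R) ∉ x.1.asHomogeneousIdeal := fun x => x.2
  have hgk : (monomial γ (1 : R)) ^ k = monomial (k • γ) (1 : R) := by rw [monomial_pow, one_pow]
  have hsum : ((Finsupp.degree m : ℕ) : ℤ) + (-(k : ℤ)) * (Finsupp.degree γ : ℕ) = d := by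
    rw [hdeg, map_nsmul, smul_eq_mul]; push_cast; ring
  let t : Γ(twist 𝒜 d, bo n R γ) := mulSec hsum
    ((twist 𝒜 ((Finsupp.degree m : ℕ) : ℤ)).presheaf.map (homOfLE (le_top : bo n R γ ≤ ⊤)).op
      (numSec (monomial_mem m r) ((Finsupp.degree m : ℕ) : ℤ) rfl))
    (genAt hg hU (-(k : ℤ)) _ rfl)
  refine ⟨t, monomial m r, k • γ, ⟨⟨Finsupp.degree m, monomial_mem m r, hdeg⟩, fun x hx => ?_, fun x => ?_⟩, ?_⟩
  · rw [← hgk] at hx
    exact x.2 (x.1.isPrime.mem_of_pow_mem k hx)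
  · change sval (numSec (monomial_mem m r) _ rfl) ⟨x.1, trivial⟩ *
      sval (genAt hg hU (-(k : ℤ)) _ rfl) x * _ = _
    rw [sval_numSec, sval_genAt]
    have hm' : (Localization.mk (monomial (k • γ) (1 : R)) 1 : Loc 𝒜 x.1) =
        (((fUnit x.1 (monomial γ (1 : R)) (hU x)) ^ (k : ℤ) : (Loc 𝒜 x.1)ˣ) : Loc 𝒜 x.1) := by
      rw [zpow_natCast, Units.val_pow_eq_pow_val, fUnit_val, Localization.mk_pow, one_pow, hgk]
    rw [hm', mul_assoc, ← Units.val_mul, ← zpow_add, neg_add_cancel, zpow_zero, Units.val_one, mul_one]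
  · rw [val_monomial, hm, add_sub_cancel_right]

/-- Every element of `lauSub d (suppSet γ)` is the expansion of a section of `O(d)` over `D₊(X^γ)`. -/
theorem exists_section {γ : Fin (n + 1) →₀ ℕ} {i : Fin (n + 1)} (hi : γ i ≠ 0) (d : ℤ)
    (e : Lau (Fin (n + 1)) R) (he : e ∈ lauSub d (suppSet γ)) :
    ∃ (t : Γ(twist 𝒜 d, bo n R γ)) (B : MvPolynomial (Fin (n + 1)) R) (μ : Fin (n + 1) →₀ ℕ),
      Rep t B μ ∧ val B μ = e := by
  classical
  rw [← Finsupp.sum_single e]
  unfold Finsupp.sum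
  refine Finset.sum_induction (fun z => Finsupp.single z (e z))
    (fun e' => ∃ (t : Γ(twist 𝒜 d, bo n R γ)) (B : MvPolynomial (Fin (n + 1)) R)
      (μ : Fin (n + 1) →₀ ℕ), Rep t B μ ∧ val B μ = e') ?_ ?_ ?_
  · rintro e₁ e₂ ⟨t₁, B₁, μ₁, h₁, rfl⟩ ⟨t₂, B₂, μ₂, h₂, rfl⟩
    refine ⟨t₁ + t₂, _, _, h₁.add h₂, ?_⟩
    rw [val_add, val_mul_monomial, add_comm μ₁ μ₂, val_mul_monomial]
  · -- the zero section
    have hγ := degree_pos_of_ne hi
    refine ⟨0, 0, d.natAbs • γ, ⟨⟨(((Finsupp.degree (d.natAbs • γ) : ℕ) : ℤ) + d).toNat, zero_mem _, ?_⟩,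
      fun x hx => ?_, fun x => ?_⟩, val_zero _⟩
    · rw [Int.toNat_of_nonneg]
      rw [map_nsmul]
      have : (d.natAbs : ℤ) ≤ ((d.natAbs • Finsupp.degree γ : ℕ) : ℤ) := by
        have : d.natAbs ≤ d.natAbs • Finsupp.degree γ := by
          rw [smul_eq_mul]; exact Nat.le_mul_of_pos_right _ hγ
        exact_mod_cast this
      omega
    · have hgk : (monomial γ (1 : R)) ^ d.natAbs = monomial (d.natAbs • γ) (1 : R) := by
        rw [monomial_pow, one_pow]
      rw [← hgk] at hx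
      exact x.2 (x.1.isPrime.mem_of_pow_mem _ hx)
    · rw [sval_zero, zero_mul, Localization.mk_zero]
  · intro z hz
    obtain ⟨hzd, hzJ⟩ := he z hz
    exact exists_section_single d z hzd
      (fun j hj => hzJ j (by simpa [suppSet] using hj)) (e z)

variable (n R) in
/-- Good opens: the `D₊(X^γ)` with `γ ≠ 0`. -/
def Good (V : (Proj 𝒜).Opens) : Prop :=
  ∃ (γ : Fin (n + 1) →₀ ℕ) (i : Fin (n + 1)), γ i ≠ 0 ∧ V = bo n R γ

open Classical in
/-- The Laurent expansion of a section of `O(d)` (zero if the section has no representation). -/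
noncomputable def expand (d : ℤ) (V : (Proj 𝒜).Opens) (t : Γ(twist 𝒜 d, V)) : Lau (Fin (n + 1)) R :=
  if h : ∃ (B : MvPolynomial (Fin (n + 1)) R) (μ : Fin (n + 1) →₀ ℕ), Rep t B μ then
    val h.choose h.choose_spec.choose else 0

theorem expand_eq {γ : Fin (n + 1) →₀ ℕ} {i : Fin (n + 1)} (hi : γ i ≠ 0) {d : ℤ}
    {t : Γ(twist 𝒜 d, bo n R γ)} {B : MvPolynomial (Fin (n + 1)) R} {μ : Fin (n + 1) →₀ ℕ}
    (h : Rep t B μ) : expand d (bo n R γ) t = val B μ := by
  have hex : ∃ (B : MvPolynomial (Fin (n + 1)) R) (μ : Fin (n + 1) →₀ ℕ), Rep t B μ := ⟨B, μ, h⟩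
  unfold expand
  rw [dif_pos hex]
  exact Rep.val_eq (degree_pos_of_ne hi) hex.choose_spec.choose_spec h

theorem expand_add {d : ℤ} {V : (Proj 𝒜).Opens} (hV : Good n R V) (t t' : Γ(twist 𝒜 d, V)) :
    expand d V (t + t') = expand d V t + expand d V t' := by
  obtain ⟨γ, i, hi, rfl⟩ := hV
  obtain ⟨B, μ, h, -⟩ := exists_rep hi d t
  obtain ⟨B', μ', h', -⟩ := exists_rep hi d t'
  rw [expand_eq hi h, expand_eq hi h', expand_eq hi (h.add h'), val_add, val_mul_monomial,
    add_comm μ μ', val_mul_monomial]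

open Classical in
/-- The expansion maps `ρ V : Γ(V, O(d)) →+ Lau`. -/
noncomputable def rho (d : ℤ) (V : (Proj 𝒜).Opens) : Γ(twist 𝒜 d, V) →+ Lau (Fin (n + 1)) R :=
  if hV : Good n R V then AddMonoidHom.mk' (expand d V) (expand_add hV) else 0

theorem rho_apply {d : ℤ} {V : (Proj 𝒜).Opens} (hV : Good n R V) (t : Γ(twist 𝒜 d, V)) :
    rho d V t = expand d V t := by
  unfold rho
  rw [dif_pos hV]
  rfl

theorem good_bo {γ : Fin (n + 1) →₀ ℕ} {i : Fin (n + 1)} (hi : γ i ≠ 0) : Good n R (bo n R γ) :=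
  ⟨γ, i, hi, rfl⟩

theorem rho_eq {γ : Fin (n + 1) →₀ ℕ} {i : Fin (n + 1)} (hi : γ i ≠ 0) {d : ℤ}
    {t : Γ(twist 𝒜 d, bo n R γ)} {B : MvPolynomial (Fin (n + 1)) R} {μ : Fin (n + 1) →₀ ℕ}
    (h : Rep t B μ) : rho d (bo n R γ) t = val B μ := by
  rw [rho_apply (good_bo hi), expand_eq hi h]

/-- Compatibility of the expansions with restriction between good opens. -/
theorem rho_res {d : ℤ} {V W : (Proj 𝒜).Opens} (hWV : W ≤ V) (hV : Good n R V) (hW : Good n R W)
    (t : Γ(twist 𝒜 d, V)) :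
    rho d W ((twist 𝒜 d).presheaf.map (homOfLE hWV).op t) = rho d V t := by
  obtain ⟨γ, i, hi, rfl⟩ := hV
  obtain ⟨γ', i', hi', rfl⟩ := hW
  obtain ⟨B, μ, h, -⟩ := exists_rep hi d t
  rw [rho_eq hi h, rho_eq hi' (h.res hWV)]

theorem rho_injective {γ : Fin (n + 1) →₀ ℕ} {i : Fin (n + 1)} (hi : γ i ≠ 0) (d : ℤ) :
    Function.Injective (rho (n := n) (R := R) d (bo n R γ)) := by
  rw [injective_iff_map_eq_zero]
  intro t ht
  obtain ⟨B, μ, h, -⟩ := exists_rep hi d t
  rw [rho_eq hi h, ← val_zero (R := R) μ] at ht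
  have hB : B = 0 := Groth.Agent.Lib.H4Laurent.val_injective μ ht
  subst hB
  exact h.eq_zero

theorem range_rho {γ : Fin (n + 1) →₀ ℕ} {i : Fin (n + 1)} (hi : γ i ≠ 0) (d : ℤ) :
    (rho (n := n) (R := R) d (bo n R γ)).range = lauSub d (suppSet γ) := by
  ext e
  constructor
  · rintro ⟨t, rfl⟩
    obtain ⟨B, μ, h, hμ⟩ := exists_rep hi d t
    rw [rho_eq hi h]
    exact h.val_mem hμ
  · intro he
    obtain ⟨t, B, μ, h, rfl⟩ := exists_section hi d e he
    exact ⟨t, rho_eq hi h⟩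

end Rep

section Cover

variable (n : ℕ) (R : Type u) [CommRing R]

local notation "𝒜" => CohB1.polyGrading n R

/-- The standard cover of `P^n_R`, indexed by `ULift (Fin (n + 1))`. -/
noncomputable def stdCover (c : ULift.{u} (Fin (n + 1))) : (Proj 𝒜).Opens :=
  bo n R (Finsupp.single c.down 1)

variable {n}

/-- The exponent vector of the product of the variables of a tuple. -/
noncomputable def tupleExp {p : ℕ} (a : Fin (p + 1) → ULift.{u} (Fin (n + 1))) : Fin (n + 1) →₀ ℕ :=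
  ∑ k, Finsupp.single (a k).down 1

theorem tupleExp_apply {p : ℕ} (a : Fin (p + 1) → ULift.{u} (Fin (n + 1))) (j : Fin (n + 1)) :
    tupleExp a j = ∑ k, if (a k).down = j then 1 else 0 := by
  classical
  unfold tupleExp
  rw [Finsupp.finsetSum_apply]
  exact Finset.sum_congr rfl fun k _ => Finsupp.single_apply

theorem tupleExp_ne_zero_iff {p : ℕ} (a : Fin (p + 1) → ULift.{u} (Fin (n + 1))) (j : Fin (n + 1)) :
    tupleExp a j ≠ 0 ↔ ∃ k, (a k).down = j := by
  classical
  rw [tupleExp_apply]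
  constructor
  · intro h
    by_contra hne
    simp only [not_exists] at hne
    exact h (Finset.sum_eq_zero fun k _ => if_neg (hne k))
  · rintro ⟨k, hk⟩ h
    have := (Finset.sum_eq_zero_iff.mp h) k (Finset.mem_univ k)
    rw [if_pos hk] at this
    exact one_ne_zero this

theorem suppSet_tupleExp {p : ℕ} (a : Fin (p + 1) → ULift.{u} (Fin (n + 1))) :
    suppSet (tupleExp a) = Set.range fun k => (a k).down := by
  ext j
  exact tupleExp_ne_zero_iff a j

theorem suppSet_single_add (c : Fin (n + 1)) (γ : Fin (n + 1) →₀ ℕ) :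
    suppSet (Finsupp.single c 1 + γ) = insert c (suppSet γ) := by
  classical
  ext j
  simp only [suppSet, Set.mem_ofPred_eq, Finsupp.coe_add, Pi.add_apply, Set.mem_insert_iff,
    Finsupp.single_apply]
  by_cases h : c = j
  · subst h; simp
  · simp [h, Ne.symm h]

variable {R}

theorem monomial_tupleExp {p : ℕ} (a : Fin (p + 1) → ULift.{u} (Fin (n + 1))) :
    monomial (tupleExp a) (1 : R) = ∏ k, (X (a k).down : MvPolynomial (Fin (n + 1)) R) := by
  unfold tupleExp
  rw [monomial_sum_one]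
  rfl

theorem iInf_stdCover {p : ℕ} (a : Fin (p + 1) → ULift.{u} (Fin (n + 1))) :
    ⨅ k, stdCover n R (a k) = bo n R (tupleExp a) := by
  ext x
  rw [TopologicalSpace.Opens.coe_iInf, Set.mem_iInter]
  change (∀ k, (X (a k).down : MvPolynomial (Fin (n + 1)) R) ∉ x.asHomogeneousIdeal) ↔
    monomial (tupleExp a) (1 : R) ∉ x.asHomogeneousIdeal
  rw [monomial_tupleExp]
  constructor
  · intro h hprod
    obtain ⟨k, -, hk⟩ := (x.isPrime.prod_mem_iff).mp hprod
    exact h k hk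
  · intro h k hk
    exact h ((x.isPrime.prod_mem_iff).mpr ⟨k, Finset.mem_univ k, hk⟩)

theorem inf_stdCover {p : ℕ} (c : ULift.{u} (Fin (n + 1))) (a : Fin (p + 1) → ULift.{u} (Fin (n + 1))) :
    stdCover n R c ⊓ ⨅ k, stdCover n R (a k) = bo n R (Finsupp.single c.down 1 + tupleExp a) := by
  rw [iInf_stdCover]
  unfold stdCover bo
  rw [← Proj.basicOpen_mul, monomial_mul, mul_one]

/-- **Vanishing of Čech cohomology of `O(d)` on `P^n_R` for the standard cover**, in degree `p + 1`, when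
`p + 2 ≤ n` or `d > -(n + 1)`. -/
theorem isZero_cechHTop_twist (d : ℤ) (p : ℕ) (h : p + 2 ≤ n ∨ -((n : ℤ) + 1) < d) :
    CategoryTheory.Limits.IsZero (CohB1.cechHTop (stdCover n R) (twist 𝒜 d).presheaf (p + 1)) := by
  classical
  refine Groth.Agent.Lib.H4CechContract.isZero_cechH_of_contraction (stdCover n R)
    (twist 𝒜 d).presheaf (fun V => rho d V) (Good n R) ?_ ?_
    (fun c => negPart c.down) p ?_ ((List.finRange (n + 1)).map ULift.up) ?_ ?_
  · intro m a
    rw [iInf_stdCover]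
    exact good_bo ((tupleExp_ne_zero_iff a _).mpr ⟨0, rfl⟩)
  · intro V W hWV hV hW x
    exact rho_res hWV hV hW x
  · intro a
    rw [iInf_stdCover]
    exact rho_injective ((tupleExp_ne_zero_iff a _).mpr ⟨0, rfl⟩) d
  · intro c _ a y hy
    have hi : (Finsupp.single c.down 1 + tupleExp a : Fin (n + 1) →₀ ℕ) c.down ≠ 0 := by simp
    rw [inf_stdCover, range_rho hi, suppSet_single_add] at hy
    rw [iInf_stdCover, range_rho ((tupleExp_ne_zero_iff a _).mpr ⟨0, rfl⟩)]
    exact sub_negPart_mem c.down hy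
  · intro a y hy
    rw [iInf_stdCover, range_rho ((tupleExp_ne_zero_iff a _).mpr ⟨0, rfl⟩), suppSet_tupleExp] at hy
    rw [List.map_map]
    refine prod_negPart_eq_zero (List.finRange (n + 1)) (fun c => List.mem_finRange c) ?_ hy
    rcases h with h | h
    · left
      by_contra hall
      simp only [not_exists, not_not] at hall
      have hsurj : Function.Surjective fun k : Fin (p + 2) => (a k).down := fun j => hall j
      have := Fintype.card_le_of_surjective _ hsurj
      simp only [Fintype.card_fin] at this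
      omega
    · right
      simp only [Fintype.card_fin]
      push_cast
      linarith

end Cover

end Groth.Agent.Lib.H4Twist
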