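import Groth.Agent.Lib.H4ProjFormula
import Groth.Agent.Lib.H78AtlasIso
import Groth.Agent.Lib.ModPullback
import Groth.Agent.Lib.TwistEquiv
import Groth.Agent.Lib.H4KoszulPn

/-!
# Pullback commutes with tensoring by an invertible module (helper4)

For any morphism of schemes `f : X ⟶ Y`, any `O_Y`-module `M` and any invertible `O_Y`-module `L`:
`f^*(M ⊗ L) ≅ f^*M ⊗ f^*L` (`nonempty_pullback_tensor_iso`).

The proof is by uniqueness of left adjoints: both `M ↦ f^*(M ⊗ L)` and `M ↦ f^*M ⊗ f^*L` are left adjoint to
`P ↦ f_*P ⊗ L⁻¹ ≅ f_*(P ⊗ f^*L⁻¹)` (projection formula, which is natural in `P`).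

* `Pairing.hom_app_tmul`, `hom_ext_tmul` : maps out of a tensor product and pure tensors;
* `projFormulaIso_naturality`, `projFormulaNatIso`;
* `tensorRightAdj e : (- ⊗ L) ⊣ (- ⊗ L')` for `e : L ⊗ L' ≅ O`.
-/

set_option autoImplicit false
universe u
open CategoryTheory CategoryTheory.Limits AlgebraicGeometry TopologicalSpace Opposite
open Groth.Agent.Lib.H90Invertible Groth.Agent.Lib.H4TensorPair Groth.Agent.Lib.H78TensorGen
open Groth.Agent.Lib.H78PullSec Groth.Agent.Lib.OXModTensor Groth.Agent.Lib.TwistEquiv
open Groth.Agent.Lib.H78SecCoord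

namespace Groth.Agent.Lib.H4PullTensor

section Pure

variable {X : Scheme.{u}}

/-- the morphism induced by a pairing, on pure tensors -/
theorem Pairing.hom_app_tmul {L L' N : X.Modules} (β : Pairing L L' N) {V : X.Opens} (a : Γ(L, V))
    (b : Γ(L', V)) : β.hom.app V (tmul a b) = β.toFun V a b := by
  have h0 : (Groth.Agent.Lib.H4TensorPair.adj X).homEquiv
      (show X.PresheafOfModules from CohB1.tensorPre L L') N β.hom = β.preHom :=
    Equiv.apply_symm_apply _ _
  rw [Adjunction.homEquiv_unit] at h0
  have h1 := congrArg (fun ψ => (ψ.app (op V)).hom (ptmul a b)) h0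
  exact h1

/-- morphisms out of a tensor product are determined by their values on pure tensors (as in helper54's
`CurveSerreVan54.hom_ext_tmul`) -/
theorem hom_ext_tmul {M N G : X.Modules} (f g : CohB1.tensorMod M N ⟶ G)
    (h : ∀ (V : X.Opens) (a : Γ(M, V)) (b : Γ(N, V)), f.app V (tmul a b) = g.app V (tmul a b)) :
    f = g := by
  have key : ∀ (W : X.Opens) (p : (tpre M N).obj (op W)),
      f.app W (((unitT M N).app (op W)).hom p) = g.app W (((unitT M N).app (op W)).hom p) := by
    intro W p
    induction p using TensorProduct.induction_on with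
    | zero =>
      have e0 : ((unitT M N).app (op W)).hom (0 : (tpre M N).obj (op W)) = 0 := map_zero _
      exact (congrArg (fun t => f.app W t) e0).trans (((f.app W).hom.map_zero).trans
        (((g.app W).hom.map_zero).symm.trans (congrArg (fun t => g.app W t) e0).symm))
    | tmul a b => exact h W a b
    | add p p' hp1 hp2 =>
      have e1 := ((unitT M N).app (op W)).hom.map_add p p'
      exact (congrArg (fun t => f.app W t) e1).trans (((f.app W).hom.map_add _ _).trans
        ((congrArg₂ (· + ·) hp1 hp2).trans (((g.app W).hom.map_add _ _).symm.trans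
          (congrArg (fun t => g.app W t) e1).symm)))
  ext V q
  refine sec_ext G _ _ fun x hx => ?_
  obtain ⟨W, hW, hxW, p, hp⟩ := exists_local_rep M N q x hx
  refine ⟨W, hW, hxW, ?_⟩
  rw [← app_rs, ← app_rs, ← hp]
  exact key W p

end Pure

section ProjFormula

variable {X Y : Scheme.{u}} (f : X ⟶ Y)

open Groth.Agent.Lib.H4ProjFormula Groth.Agent.Lib.H4KoszulPn

/-- the projection formula isomorphism is natural in `F` -/
theorem projFormulaIso_naturality {F F' : X.Modules} (ψ : F ⟶ F') {L : Y.Modules}
    (hL : PicF.IsInvertible L) :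
    tensorModMap ((Scheme.Modules.pushforward f).map ψ) (𝟙 L) ≫ (projFormulaIso f F' hL).hom =
      (projFormulaIso f F hL).hom ≫
        (Scheme.Modules.pushforward f).map (tensorModMap ψ (𝟙 ((Scheme.Modules.pullback f).obj L))) := by
  refine hom_ext_tmul _ _ fun V a b => ?_
  change (projPairing f F' L).hom.app V
      ((tensorModMap ((Scheme.Modules.pushforward f).map ψ) (𝟙 L)).app V (tmul a b)) =
    ((Scheme.Modules.pushforward f).map
      (tensorModMap ψ (𝟙 ((Scheme.Modules.pullback f).obj L)))).app V
        ((projPairing f F L).hom.app V (tmul a b))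
  rw [tensorModMap_tmul, Pairing.hom_app_tmul, Pairing.hom_app_tmul]
  change tmul (ofPush f F' V (((Scheme.Modules.pushforward f).map ψ).app V a)) (pb f L b) =
    (tensorModMap ψ (𝟙 ((Scheme.Modules.pullback f).obj L))).app (f ⁻¹ᵁ V)
      (tmul (ofPush f F V a) (pb f L b))
  rw [tensorModMap_tmul]
  rfl

/-- the projection formula as a natural isomorphism `f_*(- ⊗ f^*L) ≅ f_*(-) ⊗ L` -/
noncomputable def projFormulaNatIso {L : Y.Modules} (hL : PicF.IsInvertible L) :
    tensorRightFunctor ((Scheme.Modules.pullback f).obj L) ⋙ Scheme.Modules.pushforward f ≅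
      Scheme.Modules.pushforward f ⋙ tensorRightFunctor L :=
  (NatIso.ofComponents (fun F => projFormulaIso f F hL) (by
    intro F F' ψ
    change (tensorRightFunctor L).map ((Scheme.Modules.pushforward f).map ψ) ≫ _ =
      _ ≫ (Scheme.Modules.pushforward f).map
        ((tensorRightFunctor ((Scheme.Modules.pullback f).obj L)).map ψ)
    rw [tensorRightFunctor_map, tensorRightFunctor_map]
    exact projFormulaIso_naturality f ψ hL)).symm

end ProjFormula

section Adj

variable {X : Scheme.{u}}

/-- `(- ⊗ L) ⊣ (- ⊗ L')` for `e : L ⊗ L' ≅ O_X` -/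
noncomputable def tensorRightAdj {L L' : X.Modules}
    (e : CohB1.tensorMod L L' ≅ Coh.structureModule X) :
    tensorRightFunctor L ⊣ tensorRightFunctor L' :=
  (((locData X).tensLeftEquiv e).toAdjunction.ofNatIsoLeft (tensorRightIsoLeft L).symm).ofNatIsoRight
    (tensorRightIsoLeft L').symm

end Adj

section Main

variable {X Y : Scheme.{u}} (f : X ⟶ Y)

/-- **pullback commutes with tensoring by an invertible module** -/
theorem nonempty_pullback_tensor_iso (M : Y.Modules) {L L' : Y.Modules} (hL : PicF.IsInvertible L)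
    (hL' : PicF.IsInvertible L') (e : CohB1.tensorMod L L' ≅ Coh.structureModule Y) :
    Nonempty ((Scheme.Modules.pullback f).obj (CohB1.tensorMod M L) ≅
      CohB1.tensorMod ((Scheme.Modules.pullback f).obj M) ((Scheme.Modules.pullback f).obj L)) := by
  obtain ⟨e0⟩ := Groth.Agent.Lib.H78AtlasIso.nonempty_pullback_tensorMod_iso f hL hL'
  let e' : CohB1.tensorMod ((Scheme.Modules.pullback f).obj L) ((Scheme.Modules.pullback f).obj L') ≅
      Coh.structureModule X :=
    e0.symm ≪≫ (Scheme.Modules.pullback f).mapIso e ≪≫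
      (Groth.Agent.Lib.ModPullback.pullbackUnitIso f).symm
  let adj₁ := (tensorRightAdj e).comp (Scheme.Modules.pullbackPushforwardAdjunction f)
  let adj₂ := (Scheme.Modules.pullbackPushforwardAdjunction f).comp (tensorRightAdj e')
  let θ := projFormulaNatIso f hL'
  exact ⟨(adj₁.leftAdjointUniq (adj₂.ofNatIsoRight θ)).app M⟩

end Main

end Groth.Agent.Lib.H4PullTensor
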