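import Groth.Agent.Lib.H4GlobGen
import Groth.Agent.Lib.H4ProjSpaceCoh
import Groth.Agent.Lib.CohLESExact
import Groth.Agent.Lib.H4H0Nat
import Groth.Agent.Lib.H90OXModExact

/-!
# Regularity and one-step linear resolutions on `P^n` (helper4)

* `nonempty_sigma_tensor_iso` : `(∐_{Fin b} N) ⊗ L ≅ ∐_{Fin b} (N ⊗ L)`;
* `subsingleton_HH_sigma_twist_tensor` : vanishing of `H^q((∐_{Fin b} O(a)) ⊗ O(d))`;
* `regular_of_epi_sigma` : if `O(-m)^b ↠ F` has an `(m+1)`-regular kernel, `F` is `m`-regular (vanishing for all `i ≥ 1` assumed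
  for the kernel).
-/

set_option autoImplicit false
universe u
open CategoryTheory CategoryTheory.Limits AlgebraicGeometry TopologicalSpace Opposite Twist

namespace Groth.Agent.Lib.H4RegRes

open Groth.Agent.Lib.OXModTensor Groth.Agent.Lib.TwistEquiv Groth.Agent.Lib.CohLES

section General

variable {X : Scheme.{u}}

/-- tensoring commutes with finite coproducts -/
theorem nonempty_sigma_tensor_iso (N L : X.Modules) (b : ℕ) :
    Nonempty (CohB1.tensorMod (∐ fun _ : Fin b => N) L ≅ ∐ fun _ : Fin b => CohB1.tensorMod N L) := by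
  have : PreservesColimitsOfSize.{0, 0} (tensorRightFunctor (X := X) L) :=
    preservesSmallestColimits_of_preservesColimits _
  exact ⟨PreservesCoproduct.iso (tensorRightFunctor L) (fun _ : Fin b => N)⟩

/-- a morphism which is surjective on global sections onto a globally generated module is an epimorphism -/
theorem epi_of_surjective_top {P M : X.Modules} (ψ : P ⟶ M) (hsurj : Function.Surjective (ψ.app ⊤))
    (hM : Curv2.IsGloballyGenerated M) : Epi ψ := by
  obtain ⟨K, p, hp⟩ := hM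
  refine Preadditive.epi_of_cokernel_zero ?_
  have h1 : ∀ s : Γ(M, ⊤), (cokernel.π ψ).app ⊤ s = 0 := by
    intro s
    obtain ⟨σ, rfl⟩ := hsurj s
    change (ψ ≫ cokernel.π ψ).app ⊤ σ = 0
    rw [cokernel.condition]
    rfl
  have h2 := Groth.Agent.Lib.H4GlobGen.comp_eq_zero_of_forall_app_top p _ h1
  exact (cancel_epi p).1 (h2.trans comp_zero.symm)

/-- `H^0(ψ)` is surjective if `Γ(ψ)` is -/
theorem map_zero_surjective {P M : X.Modules} (ψ : P ⟶ M) (hsurj : Function.Surjective (ψ.app ⊤)) :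
    Function.Surjective (map ψ 0) := by
  intro y
  obtain ⟨σ, hσ⟩ := hsurj (Groth.Agent.Lib.H4Twist.h0Equiv M y)
  refine ⟨(Groth.Agent.Lib.H4Twist.h0Equiv P).symm σ, ?_⟩
  apply (Groth.Agent.Lib.H4Twist.h0Equiv M).injective
  rw [Groth.Agent.Lib.H4Twist.h0Equiv_map, AddEquiv.apply_symm_apply, hσ]

/-- the kernel of an epimorphism `P ↠ M` which is surjective on global sections has no `H^1` if `P` has none -/
theorem subsingleton_HH_one_kernel {P M : X.Modules} (ψ : P ⟶ M) [Epi ψ]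
    (hsurj : Function.Surjective (ψ.app ⊤)) (hP : Subsingleton (Coh.HH X P 1)) :
    Subsingleton (Coh.HH X (kernel ψ) 1) := by
  have hS : (ShortComplex.mk (kernel.ι ψ) ψ (kernel.condition ψ)).ShortExact :=
    { exact := ShortComplex.exact_kernel ψ }
  refine subsingleton_of_forall_eq 0 fun x => ?_
  obtain ⟨y, rfl⟩ := exact₁ hS 0 x (@Subsingleton.elim _ hP _ _)
  obtain ⟨z, rfl⟩ := map_zero_surjective ψ hsurj y
  exact δ_map_g hS 0 z

open Groth.Agent.Lib.H90Invertible Groth.Agent.Lib.StructureModule in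
/-- the morphism `O_X^b ⟶ M` attached to `b` global sections -/
noncomputable def ofSectionsFin (M : X.Modules) {b : ℕ} (ξ : Fin b → Γ(M, ⊤)) :
    (∐ fun _ : Fin b => Coh.structureModule X) ⟶ M :=
  Sigma.desc fun j => ofSection (ξ j)

open Groth.Agent.Lib.H90Invertible Groth.Agent.Lib.StructureModule Groth.Agent.Lib.H78TensorGen in
/-- if the `ξ j` span the global sections over the global functions, `ofSectionsFin` is surjective on global sections -/
theorem ofSectionsFin_surjective (M : X.Modules) {b : ℕ} (ξ : Fin b → Γ(M, ⊤))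
    (h : ∀ τ : Γ(M, ⊤), ∃ a : Fin b → Γ(X, ⊤), τ = ∑ j, a j • ξ j) :
    Function.Surjective ((ofSectionsFin M ξ).app ⊤) := by
  intro τ
  obtain ⟨a, rfl⟩ := h τ
  refine ⟨∑ j, (Sigma.ι (fun _ : Fin b => Coh.structureModule X) j).app ⊤ (toSec ⊤ (a j)), ?_⟩
  rw [map_sum]
  refine Finset.sum_congr rfl fun j _ => ?_
  have h1 : Sigma.ι (fun _ : Fin b => Coh.structureModule X) j ≫ ofSectionsFin M ξ = ofSection (ξ j) :=
    Sigma.ι_desc _ _
  have h2 := congrArg (fun φ : Coh.structureModule X ⟶ M => φ.app ⊤ (toSec ⊤ (a j))) h1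
  refine h2.trans ?_
  rw [ofSection_app]
  congr 1
  exact rs_self M (ξ j)

end General

section Pn

variable (n : ℕ) (R : Type u) [CommRing R] {m : ℤ}

/-- `H^q((∐_{Fin b} O(a)) ⊗ O(d)) = 0` when `H^q(O(a + d)) = 0` -/
theorem subsingleton_HH_sigma_twist_tensor (b : ℕ) (a d : ℤ) (q : ℕ) (hq : 0 < q)
    (h : q < n ∨ -((n : ℤ) + 1) < a + d) :
    Subsingleton (Coh.HH (CohB1.ProjSpace n R)
      (CohB1.tensorMod (∐ fun _ : Fin b => Twist.twistProjSpace n R a) (Twist.twistProjSpace n R d)) q) := by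
  obtain ⟨e⟩ := nonempty_sigma_tensor_iso (Twist.twistProjSpace n R a) (Twist.twistProjSpace n R d) b
  have h1 : Subsingleton (Coh.HH (CohB1.ProjSpace n R)
      (CohB1.tensorMod (Twist.twistProjSpace n R a) (Twist.twistProjSpace n R d)) q) := by
    have h0 := Groth.Agent.Lib.H4Twist.subsingleton_HH_twist n R (a + d) q hq h
    exact @Groth.Agent.Lib.H4Twist.subsingleton_HH_of_iso _ _ _
      (Groth.Agent.Lib.H4Twist.twistMulIso_of_cover (CohB1.polyGrading n R)
        (Groth.Agent.Lib.ProjSpaceFin.hcov n R) a d) q h0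
  have h2 := Groth.Agent.Lib.H4Regularity.subsingleton_HH_sigma_fintype
    (fun _ : Fin b => CohB1.tensorMod (Twist.twistProjSpace n R a) (Twist.twistProjSpace n R d)) q
    (fun _ => h1)
  exact Groth.Agent.Lib.H4Twist.subsingleton_HH_of_iso e q

/-- `O(d) ⊗ O(-d) ≅ O` on `P^n_R`. -/
theorem nonempty_twist_inv (d : ℤ) :
    Nonempty (CohB1.tensorMod (Twist.twistProjSpace n R d) (Twist.twistProjSpace n R (-d)) ≅
      Coh.structureModule (CohB1.ProjSpace n R)) := by
  obtain ⟨e0⟩ := Groth.Agent.Lib.H4Twist.nonempty_twistZeroIso (CohB1.polyGrading n R)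
  exact ⟨Groth.Agent.Lib.H4Twist.twistMulIso_of_cover (CohB1.polyGrading n R)
    (Groth.Agent.Lib.ProjSpaceFin.hcov n R) d (-d) ≪≫
      CategoryTheory.eqToIso (congrArg (Twist.twist (CohB1.polyGrading n R)) (by ring)) ≪≫ e0⟩

/-- the short exact sequence `0 → ker φ → P → F → 0` of an epimorphism -/
theorem shortExact_kernel_epi {X : Scheme.{u}} {P F : X.Modules} (φ : P ⟶ F) [Epi φ] :
    (ShortComplex.mk (kernel.ι φ) φ (kernel.condition φ)).ShortExact :=
  { exact := ShortComplex.exact_kernel φ }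

/-- if `O(a)^b ↠ F` has kernel `K` then `H^i(F(d)) = 0` as soon as `H^i(O(a + d)) = 0` and `H^{i+1}(K(d)) = 0` -/
theorem subsingleton_HH_of_epi_sigma {F : (CohB1.ProjSpace n R).Modules} (b : ℕ) (a : ℤ)
    (φ : (∐ fun _ : Fin b => Twist.twistProjSpace n R a) ⟶ F) [Epi φ] (d : ℤ) (i : ℕ) (hi : 0 < i)
    (hO : i < n ∨ -((n : ℤ) + 1) < a + d)
    (hK : Subsingleton (Coh.HH (CohB1.ProjSpace n R)
      (CohB1.tensorMod (kernel φ) (Twist.twistProjSpace n R d)) (i + 1))) :
    Subsingleton (Coh.HH (CohB1.ProjSpace n R) (CohB1.tensorMod F (Twist.twistProjSpace n R d)) i) := by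
  obtain ⟨e⟩ := nonempty_twist_inv n R d
  have hT := shortExact_map_tensorRight e (shortExact_kernel_epi φ)
  have h2 : Subsingleton (Coh.HH (CohB1.ProjSpace n R)
      ((ShortComplex.mk (kernel.ι φ) φ (kernel.condition φ)).map
        (tensorRightFunctor (Twist.twistProjSpace n R d))).X₂ i) :=
    subsingleton_HH_sigma_twist_tensor n R b a d i hi hO
  have h1 : Subsingleton (Coh.HH (CohB1.ProjSpace n R)
      ((ShortComplex.mk (kernel.ι φ) φ (kernel.condition φ)).map
        (tensorRightFunctor (Twist.twistProjSpace n R d))).X₁ (i + 1)) := hK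
  exact subsingleton_right hT i

/-- on `P^n_R`, `R` Noetherian, the global sections of a coherent module are spanned over the global functions by finitely
many of them -/
theorem exists_finite_span_sections [IsNoetherianRing R] (M : (CohB1.ProjSpace n R).Modules)
    (hM : Coh.IsCoh M) :
    ∃ (b : ℕ) (ξ : Fin b → Γ(M, ⊤)), ∀ τ : Γ(M, ⊤),
      ∃ a : Fin b → Γ(CohB1.ProjSpace n R, ⊤), τ = ∑ j, a j • ξ j := by
  have hfin := Groth.Agent.Lib.ProjSpaceFin.finite_HH_projSpace n R M hM 0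
  obtain ⟨b, s, hs⟩ := Module.Finite.exists_fin (R := R) (M := Coh.HH (CohB1.ProjSpace n R) M 0)
  refine ⟨b, fun j => Groth.Agent.Lib.H4Twist.h0Equiv M (s j), fun τ => ?_⟩
  have hx : (Groth.Agent.Lib.H4Twist.h0Equiv M).symm τ ∈ Submodule.span R (Set.range s) := by
    rw [hs]; trivial
  obtain ⟨c, hc⟩ := (Submodule.mem_span_range_iff_exists_fun R).1 hx
  refine ⟨fun j => (show Γ(CohB1.ProjSpace n R, ⊤) from
    Coh.toGlobal (CohB1.ProjSpace n R ↘ Spec (CommRingCat.of R)) (c j)), ?_⟩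
  have h1 : τ = Groth.Agent.Lib.H4Twist.h0Equiv M (∑ j, c j • s j) := by
    rw [hc, AddEquiv.apply_symm_apply]
  rw [h1, map_sum]
  refine Finset.sum_congr rfl fun j _ => ?_
  exact Groth.Agent.Lib.H4Twist.h0Equiv_smul M _ (s j)

/-- `F ⊗ O(0) ≅ F` -/
theorem nonempty_twist_zero (F : (CohB1.ProjSpace n R).Modules) :
    Nonempty (CohB1.tensorMod F (Twist.twistProjSpace n R 0) ≅ F) := by
  obtain ⟨e0⟩ := Groth.Agent.Lib.H4Twist.nonempty_twistZeroIso (CohB1.polyGrading n R)
  exact ⟨tensorModIso (Iso.refl F) e0 ≪≫ rightUnitor F⟩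

/-- `H^q((∐_{Fin b} O) ⊗ O(d)) = 0` when `H^q(O(d)) = 0` -/
theorem subsingleton_HH_sigma_structure_tensor (b : ℕ) (d : ℤ) (q : ℕ) (hq : 0 < q)
    (h : q < n ∨ -((n : ℤ) + 1) < d) :
    Subsingleton (Coh.HH (CohB1.ProjSpace n R)
      (CohB1.tensorMod (∐ fun _ : Fin b => Coh.structureModule (CohB1.ProjSpace n R))
        (Twist.twistProjSpace n R d)) q) := by
  obtain ⟨e⟩ := nonempty_sigma_tensor_iso (Coh.structureModule (CohB1.ProjSpace n R))
    (Twist.twistProjSpace n R d) b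
  have h1 : Subsingleton (Coh.HH (CohB1.ProjSpace n R)
      (CohB1.tensorMod (Coh.structureModule (CohB1.ProjSpace n R)) (Twist.twistProjSpace n R d)) q) := by
    have h0 := Groth.Agent.Lib.H4Twist.subsingleton_HH_twist n R d q hq h
    exact @Groth.Agent.Lib.H4Twist.subsingleton_HH_of_iso _ _ _
      (leftUnitor (Twist.twistProjSpace n R d)) q h0
  have h2 := Groth.Agent.Lib.H4Regularity.subsingleton_HH_sigma_fintype
    (fun _ : Fin b => CohB1.tensorMod (Coh.structureModule (CohB1.ProjSpace n R))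
      (Twist.twistProjSpace n R d)) q (fun _ => h1)
  exact Groth.Agent.Lib.H4Twist.subsingleton_HH_of_iso e q

/-- `H^q(∐_{Fin b} O) = 0` for `q > 0` -/
theorem subsingleton_HH_sigma_structure (b : ℕ) (q : ℕ) (hq : 0 < q) :
    Subsingleton (Coh.HH (CohB1.ProjSpace n R)
      (∐ fun _ : Fin b => Coh.structureModule (CohB1.ProjSpace n R)) q) := by
  obtain ⟨e0⟩ := Groth.Agent.Lib.H4Twist.nonempty_twistZeroIso (CohB1.polyGrading n R)
  have h0 := Groth.Agent.Lib.H4Twist.subsingleton_HH_twist n R 0 q hq (Or.inr (by omega))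
  have h1 : Subsingleton (Coh.HH (CohB1.ProjSpace n R) (Coh.structureModule (CohB1.ProjSpace n R)) q) :=
    @Groth.Agent.Lib.H4Twist.subsingleton_HH_of_iso _ _ _ e0.symm q h0
  exact Groth.Agent.Lib.H4Regularity.subsingleton_HH_sigma_fintype
    (fun _ : Fin b => Coh.structureModule (CohB1.ProjSpace n R)) q (fun _ => h1)

/-- higher cohomology of twists of the kernel of `O^b ↠ M` -/
theorem subsingleton_HH_kernel_twist {M : (CohB1.ProjSpace n R).Modules} (b : ℕ)
    (ψ : (∐ fun _ : Fin b => Coh.structureModule (CohB1.ProjSpace n R)) ⟶ M) [Epi ψ] (j : ℕ) (d : ℤ)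
    (hd : d = -(j : ℤ)) (hjn : j + 1 ≤ n)
    (hM : Subsingleton (Coh.HH (CohB1.ProjSpace n R)
      (CohB1.tensorMod M (Twist.twistProjSpace n R d)) j)) :
    Subsingleton (Coh.HH (CohB1.ProjSpace n R)
      (CohB1.tensorMod (kernel ψ) (Twist.twistProjSpace n R d)) (j + 1)) := by
  obtain ⟨e⟩ := nonempty_twist_inv n R d
  have hT := shortExact_map_tensorRight e (shortExact_kernel_epi ψ)
  have h2 : Subsingleton (Coh.HH (CohB1.ProjSpace n R)
      ((ShortComplex.mk (kernel.ι ψ) ψ (kernel.condition ψ)).map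
        (tensorRightFunctor (Twist.twistProjSpace n R d))).X₂ (j + 1)) :=
    subsingleton_HH_sigma_structure_tensor n R b d (j + 1) (by omega) (Or.inr (by omega))
  have h3 : Subsingleton (Coh.HH (CohB1.ProjSpace n R)
      ((ShortComplex.mk (kernel.ι ψ) ψ (kernel.condition ψ)).map
        (tensorRightFunctor (Twist.twistProjSpace n R d))).X₃ j) := hM
  exact subsingleton_left hT j

/-- twisting an epimorphism `ψ : O^b ↠ F(m)` back by `O(-m)`: an epimorphism `O(-m)^b ↠ F` whose kernel is the twist of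
the kernel of `ψ` -/
theorem exists_twisted_epi (F : (CohB1.ProjSpace n R).Modules) (m : ℤ) (b : ℕ)
    (ψ : (∐ fun _ : Fin b => Coh.structureModule (CohB1.ProjSpace n R)) ⟶
      CohB1.tensorMod F (Twist.twistProjSpace n R m)) [Epi ψ] :
    ∃ φ : (∐ fun _ : Fin b => Twist.twistProjSpace n R (-m)) ⟶ F, Epi φ ∧
      Nonempty (kernel φ ≅ CohB1.tensorMod (kernel ψ) (Twist.twistProjSpace n R (-m))) := by
  obtain ⟨e'⟩ := nonempty_twist_inv n R (-m)
  have hE := isEquivalence_tensorRightFunctor e'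
  obtain ⟨α₁⟩ := nonempty_sigma_tensor_iso (Coh.structureModule (CohB1.ProjSpace n R))
    (Twist.twistProjSpace n R (-m)) b
  let α₂ : (∐ fun _ : Fin b => CohB1.tensorMod (Coh.structureModule (CohB1.ProjSpace n R))
      (Twist.twistProjSpace n R (-m))) ≅ ∐ fun _ : Fin b => Twist.twistProjSpace n R (-m) :=
    Sigma.mapIso fun _ => leftUnitor (Twist.twistProjSpace n R (-m))
  obtain ⟨β₁⟩ := Groth.Agent.Lib.H4MulSurj.nonempty_twist_twist n R F m (-m) 0 (by ring)
  obtain ⟨β₂⟩ := nonempty_twist_zero n R F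
  let T := tensorRightFunctor (X := CohB1.ProjSpace n R) (Twist.twistProjSpace n R (-m))
  have hTψ : Epi (T.map ψ) := inferInstance
  let g : (∐ fun _ : Fin b => Twist.twistProjSpace n R (-m)) ⟶ T.obj (CohB1.tensorMod F (Twist.twistProjSpace n R m)) :=
    (α₁ ≪≫ α₂).inv ≫ T.map ψ
  have hg : Epi g := by
    exact @epi_comp _ _ _ _ _ (α₁ ≪≫ α₂).inv inferInstance (T.map ψ) hTψ
  refine ⟨g ≫ (β₁ ≪≫ β₂).hom, @epi_comp _ _ _ _ _ g hg _ inferInstance, ⟨?_⟩⟩
  exact kernelCompMono g (β₁ ≪≫ β₂).hom ≪≫ kernelIsIsoComp (α₁ ≪≫ α₂).inv (T.map ψ) ≪≫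
    (PreservesKernel.iso T ψ).symm

/-- **One-step linear resolution of a regular module**: if `F` is coherent on `P^n_R` (`R` Noetherian), `F(m)` is globally
generated and `H^i(F(m - i)) = 0` for `1 ≤ i ≤ n`, there is an epimorphism `O(-m)^b ↠ F` whose kernel `K` satisfies
`H^i(K(m + 1 - i)) = 0` for `1 ≤ i ≤ n`. -/
theorem exists_epi_sigma_regular_kernel [IsNoetherianRing R] (F : (CohB1.ProjSpace n R).Modules)
    (hM : Coh.IsCoh (CohB1.tensorMod F (Twist.twistProjSpace n R m)))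
    (hgg : Curv2.IsGloballyGenerated (CohB1.tensorMod F (Twist.twistProjSpace n R m)))
    (hreg : ∀ i : ℕ, 1 ≤ i → i ≤ n → Subsingleton (Coh.HH (CohB1.ProjSpace n R)
      (CohB1.tensorMod F (Twist.twistProjSpace n R (m - i))) i)) :
    ∃ (b : ℕ) (φ : (∐ fun _ : Fin b => Twist.twistProjSpace n R (-m)) ⟶ F), Epi φ ∧
      ∀ i : ℕ, 1 ≤ i → i ≤ n → Subsingleton (Coh.HH (CohB1.ProjSpace n R)
        (CohB1.tensorMod (kernel φ) (Twist.twistProjSpace n R (m + 1 - i))) i) := by
  obtain ⟨b, ξ, hξ⟩ := exists_finite_span_sections n R _ hM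
  have hsurj := ofSectionsFin_surjective _ ξ hξ
  have hψ : Epi (ofSectionsFin _ ξ) := epi_of_surjective_top _ hsurj hgg
  obtain ⟨φ, hφ, ⟨κ⟩⟩ := exists_twisted_epi n R F m b (ofSectionsFin _ ξ)
  refine ⟨b, φ, hφ, fun i hi hin => ?_⟩
  -- reduce to the kernel of `ψ`
  obtain ⟨e1⟩ := Groth.Agent.Lib.H4MulSurj.nonempty_twist_twist n R (kernel (ofSectionsFin _ ξ))
    (-m) (m + 1 - i) (1 - i) (by ring)
  have key : Subsingleton (Coh.HH (CohB1.ProjSpace n R)
      (CohB1.tensorMod (kernel (ofSectionsFin _ ξ)) (Twist.twistProjSpace n R (1 - i))) i) := by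
    obtain ⟨j, rfl⟩ : ∃ j, i = j + 1 := ⟨i - 1, by omega⟩
    rcases Nat.eq_zero_or_pos j with hj | hj
    · subst hj
      obtain ⟨e0⟩ := nonempty_twist_zero n R (kernel (ofSectionsFin _ ξ))
      have h1 := subsingleton_HH_one_kernel (ofSectionsFin _ ξ) hsurj
        (subsingleton_HH_sigma_structure n R b 1 (by omega))
      have h2 : Subsingleton (Coh.HH (CohB1.ProjSpace n R)
          (CohB1.tensorMod (kernel (ofSectionsFin _ ξ)) (Twist.twistProjSpace n R 0)) 1) :=
        @Groth.Agent.Lib.H4Twist.subsingleton_HH_of_iso _ _ _ e0 1 h1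
      exact Groth.Agent.Lib.H4Regularity.subsingleton_HH_congr n R _ (by norm_num) rfl h2
    · obtain ⟨e2⟩ := Groth.Agent.Lib.H4MulSurj.nonempty_twist_twist n R F m (1 - ((j + 1 : ℕ) : ℤ))
        (m - j) (by push_cast; ring)
      have h3 := hreg j hj (by omega)
      have h4 : Subsingleton (Coh.HH (CohB1.ProjSpace n R)
          (CohB1.tensorMod (CohB1.tensorMod F (Twist.twistProjSpace n R m))
            (Twist.twistProjSpace n R (1 - ((j + 1 : ℕ) : ℤ)))) j) :=
        @Groth.Agent.Lib.H4Twist.subsingleton_HH_of_iso _ _ _ e2 j h3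
      exact subsingleton_HH_kernel_twist n R b (ofSectionsFin _ ξ) j _ (by push_cast; ring) (by omega) h4
  have h5 : Subsingleton (Coh.HH (CohB1.ProjSpace n R)
      (CohB1.tensorMod (CohB1.tensorMod (kernel (ofSectionsFin _ ξ)) (Twist.twistProjSpace n R (-m)))
        (Twist.twistProjSpace n R (m + 1 - i))) i) :=
    @Groth.Agent.Lib.H4Twist.subsingleton_HH_of_iso _ _ _ e1 i key
  exact @Groth.Agent.Lib.H4Twist.subsingleton_HH_of_iso _ _ _
    (tensorModIso κ (Iso.refl (Twist.twistProjSpace n R (m + 1 - i)))) i h5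

end Pn

end Groth.Agent.Lib.H4RegRes
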