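import Groth.Agent.Lib.H4H0Nat
import Groth.Agent.Lib.TwistEquiv

/-!
# Splitting of extensions after twisting (helper4)

`nonempty_splitting_of_twist` : let `L` be an `O_X`-module with a tensor inverse `L'`, and `0 → X₁ → X₂ → X₃ → 0` a short
exact sequence with `X₃ ⊗ L ≅ O_X` and `H^1(X, X₁ ⊗ L) = 0`. Then the sequence splits.
-/

set_option autoImplicit false
universe u
open CategoryTheory AlgebraicGeometry TopologicalSpace Opposite
open Groth.Agent.Lib.TwistEquiv

namespace Groth.Agent.Lib.H4Twist

variable {X : Scheme.{u}}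

/-- Abstract form: an exact functor `T` which is an equivalence, a short exact `S` whose image under `T` has third term
isomorphic to `O_X` and first term with vanishing `H^1`. -/
theorem nonempty_splitting_of_equivalence (T : X.Modules ⥤ X.Modules) [T.IsEquivalence]
    (S : ShortComplex X.Modules) (hS : S.ShortExact) (hS' : (S.map T).ShortExact)
    (e₃ : T.obj S.X₃ ≅ Coh.structureModule X)
    [h1 : Subsingleton (Coh.HH X (T.obj S.X₁) 1)] : Nonempty S.Splitting := by
  have hT0 : T.map (0 : S.X₁ ⟶ S.X₃) = 0 := T.map_zero _ _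
  let S'' : ShortComplex X.Modules := ShortComplex.mk (T.map S.f) (T.map S.g ≫ e₃.hom) (by
    rw [← Category.assoc, ← T.map_comp, S.zero, hT0, Limits.zero_comp])
  have hiso : S.map T ≅ S'' :=
    ShortComplex.isoMk (Iso.refl _) (Iso.refl _) e₃
      (by
        change 𝟙 _ ≫ T.map S.f = T.map S.f ≫ 𝟙 _
        rw [Category.id_comp, Category.comp_id])
      (by
        change 𝟙 _ ≫ (T.map S.g ≫ e₃.hom) = T.map S.g ≫ e₃.hom
        rw [Category.id_comp])
  have hS'' : S''.ShortExact := ShortComplex.shortExact_of_iso hiso hS'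
  obtain ⟨s', hs'⟩ := exists_splitting_of_H1 (T.map S.f) (T.map S.g ≫ e₃.hom) S''.zero hS''
  -- a section of `T.map S.g`
  have hσ : (e₃.hom ≫ s') ≫ T.map S.g = 𝟙 _ := by
    have : (e₃.hom ≫ s' ≫ T.map S.g) ≫ e₃.hom = 𝟙 _ ≫ e₃.hom := by
      rw [Category.assoc, Category.assoc, hs', Category.comp_id, Category.id_comp]
    rw [Category.assoc]
    exact (cancel_mono e₃.hom).mp this
  obtain ⟨τ, hτ⟩ := T.map_surjective (e₃.hom ≫ s')
  have hτg : τ ≫ S.g = 𝟙 _ := by
    apply T.map_injective
    rw [T.map_comp, hτ, hσ, T.map_id]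
  exact ⟨ShortComplex.Splitting.ofExactOfSection S hS.exact τ hτg hS.mono_f⟩

theorem nonempty_splitting_of_twist {L L' : X.Modules}
    (e : CohB1.tensorMod L L' ≅ Coh.structureModule X)
    (S : ShortComplex X.Modules) (hS : S.ShortExact)
    (e₃ : CohB1.tensorMod S.X₃ L ≅ Coh.structureModule X)
    [h1 : Subsingleton (Coh.HH X (CohB1.tensorMod S.X₁ L) 1)] : Nonempty S.Splitting := by
  have hT := isEquivalence_tensorRightFunctor e
  have hS' := shortExact_map_tensorRight e hS
  have h1' : Subsingleton (Coh.HH X ((tensorRightFunctor L).obj S.X₁) 1) := h1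
  exact nonempty_splitting_of_equivalence (tensorRightFunctor L) S hS hS' e₃

end Groth.Agent.Lib.H4Twist
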