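import Groth.Agent.Lib.H4Horrocks4
import Groth.Agent.Lib.H4RegRes
import Groth.Agent.Lib.HHSigmaFin
import Groth.Agent.Lib.H43ExtShCohScheme
import Groth.Agent.S1647

/-!
# Hilbert's syzygy theorem on `P^n_k` via Horrocks (helper4), part 1: the minimal linear step

For a coherent `μ`-regular module `K` on `P^n_k`, the evaluation map `H^0(K(μ)) ⊗ O(-μ) ⟶ K` attached to a *basis* of
`H^0(K(μ))` is an epimorphism whose kernel `K'` is `(μ+1)`-regular, has `H^0(K'(μ)) = 0`, and whose intermediate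
cohomology is controlled by that of `K`.
-/

set_option autoImplicit false
universe u
open CategoryTheory CategoryTheory.Limits AlgebraicGeometry TopologicalSpace Opposite Twist

namespace Groth.Agent.Lib.H4Syzygy

open Groth.Agent.Lib.OXModTensor Groth.Agent.Lib.TwistEquiv Groth.Agent.Lib.CohLES
open Groth.Agent.Lib.H4MumfordStep Groth.Agent.Lib.H4RegRes

variable {n : ℕ} {k : Type u} [Field k]

local notation "𝐏" => CohB1.ProjSpace n k

/-- a basis of the global sections -/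
theorem exists_basis_sections (M : (𝐏).Modules) (hM : Coh.IsCoh M) :
    ∃ (b : ℕ) (ξ : Fin b → Γ(M, ⊤)),
      (∀ τ : Γ(M, ⊤), ∃ a : Fin b → Γ(𝐏, ⊤), τ = ∑ j, a j • ξ j) ∧
      Module.finrank k (Coh.HH 𝐏 M 0) = b := by
  have hfin := Groth.Agent.Lib.ProjSpaceFin.finite_HH_projSpace n k M hM 0
  let s := Module.finBasis k (Coh.HH 𝐏 M 0)
  refine ⟨Module.finrank k (Coh.HH 𝐏 M 0), fun j => Groth.Agent.Lib.H4Twist.h0Equiv M (s j),
    fun τ => ?_, rfl⟩
  have hx : (Groth.Agent.Lib.H4Twist.h0Equiv M).symm τ ∈ Submodule.span k (Set.range s) := by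
    rw [s.span_eq]; trivial
  obtain ⟨c, hc⟩ := (Submodule.mem_span_range_iff_exists_fun k).1 hx
  refine ⟨fun j => (show Γ(𝐏, ⊤) from
    Coh.toGlobal (CohB1.ProjSpace n k ↘ Spec (CommRingCat.of k)) (c j)), ?_⟩
  have h1 : τ = Groth.Agent.Lib.H4Twist.h0Equiv M (∑ j, c j • s j) := by
    rw [hc, AddEquiv.apply_symm_apply]
  rw [h1, map_sum]
  refine Finset.sum_congr rfl fun j _ => ?_
  exact Groth.Agent.Lib.H4Twist.h0Equiv_smul M _ (s j)

/-- `h^0(O) = 1` -/
theorem finrank_H0_structure : Module.finrank k (Coh.HH 𝐏 (Coh.structureModule 𝐏) 0) = 1 := by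
  classical
  obtain ⟨e0⟩ := Groth.Agent.Lib.H4Twist.nonempty_twistZeroIso (CohB1.polyGrading n k)
  have e1 : Coh.structureModule 𝐏 ≅ Twist.twistProjSpace n k ((0 : ℕ) : ℤ) := e0.symm
  rw [(mapEquivₗ k e1 0).finrank_eq, (Groth.Agent.Lib.H4Twist.gammaLinearEquiv n k 0).finrank_eq,
    Groth.Agent.Lib.H78PlanePoints.finrank_homogeneousSubmodule]
  simp

/-- for a basis cover `ψ : O^b ⟶ M`, the kernel has no global sections -/
theorem subsingleton_H0_kernel (M : (𝐏).Modules) (hM : Coh.IsCoh M) {b : ℕ}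
    (ψ : (∐ fun _ : Fin b => Coh.structureModule 𝐏) ⟶ M) [Epi ψ]
    (hsurj : Function.Surjective (ψ.app ⊤)) (hb : Module.finrank k (Coh.HH 𝐏 M 0) = b) :
    Subsingleton (Coh.HH 𝐏 (kernel ψ) 0) := by
  have hS := shortExact_kernel_epi ψ
  have hO : Coh.IsCoh (Coh.structureModule 𝐏) :=
    Groth.Agent.Lib.H90Invertible.isCoh_of_isInvertible
      (Groth.Agent.Lib.H90Invertible.isInvertible_structureModule _)
  have hfO := Groth.Agent.Lib.ProjSpaceFin.finite_HH_projSpace n k _ hO 0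
  obtain ⟨hfin, hrk⟩ := Groth.Agent.Lib.HHSigmaFin.finite_and_finrank_sigma (k := k) (X := 𝐏) 0
    (fun _ : Fin b => Coh.structureModule 𝐏) (fun _ => hfO)
  have hfM := Groth.Agent.Lib.ProjSpaceFin.finite_HH_projSpace n k M hM 0
  have hrk' : Module.finrank k (Coh.HH 𝐏 (∐ fun _ : Fin b => Coh.structureModule 𝐏) 0) =
      Module.finrank k (Coh.HH 𝐏 M 0) := by
    rw [hrk, hb]
    simp [finrank_H0_structure]
  have hs : Function.Surjective (mapₗ k ψ 0) := map_zero_surjective ψ hsurj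
  have hi : Function.Injective (mapₗ k ψ 0) :=
    (LinearMap.injective_iff_surjective_of_finrank_eq_finrank hrk').2 hs
  refine subsingleton_of_forall_eq 0 fun x => ?_
  apply map_f_injective_zero hS
  apply hi
  change map ψ 0 (map (kernel.ι ψ) 0 x) = map ψ 0 (map (kernel.ι ψ) 0 0)
  rw [map_g_map_f (S := ShortComplex.mk (kernel.ι ψ) ψ (kernel.condition ψ)) 0 x,
    map_g_map_f (S := ShortComplex.mk (kernel.ι ψ) ψ (kernel.condition ψ)) 0 0]

/-- `H^0((∐ O)(s)) = 0` for `s < 0`, `n ≥ 1` -/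
theorem subsingleton_H0_sigma_structure_tensor (hn : 1 ≤ n) (b : ℕ) (s : ℤ) (hs : s < 0) :
    Subsingleton (Coh.HH 𝐏 (CohB1.tensorMod (∐ fun _ : Fin b => Coh.structureModule 𝐏)
      (Twist.twistProjSpace n k s)) 0) := by
  obtain ⟨e⟩ := nonempty_sigma_tensor_iso (Coh.structureModule 𝐏) (Twist.twistProjSpace n k s) b
  have h1 : Subsingleton (Coh.HH 𝐏
      (CohB1.tensorMod (Coh.structureModule 𝐏) (Twist.twistProjSpace n k s)) 0) := by
    have h0 := Groth.Agent.Lib.H4Twist.subsingleton_HH_zero_of_neg n k hn s hs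
    exact @Groth.Agent.Lib.H4Twist.subsingleton_HH_of_iso _ _ _
      (leftUnitor (Twist.twistProjSpace n k s)) 0 h0
  have h2 := Groth.Agent.Lib.H4Regularity.subsingleton_HH_sigma_fintype
    (fun _ : Fin b => CohB1.tensorMod (Coh.structureModule 𝐏) (Twist.twistProjSpace n k s)) 0
    (fun _ => h1)
  exact Groth.Agent.Lib.H4Twist.subsingleton_HH_of_iso e 0

section Kernel

variable {M : (CohB1.ProjSpace n k).Modules} {b : ℕ}
  (ψ : (∐ fun _ : Fin b => Coh.structureModule (CohB1.ProjSpace n k)) ⟶ M) [Epi ψ]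

/-- `H^0(N(s)) = 0` for `s < 0`, `N` the kernel of `O^b ↠ M` -/
theorem subsingleton_H0_kernel_twist (hn : 1 ≤ n) (s : ℤ) (hs : s < 0) :
    Subsingleton (Coh.HH 𝐏 (CohB1.tensorMod (kernel ψ) (Twist.twistProjSpace n k s)) 0) := by
  have hT := shortExact_tw (shortExact_kernel_epi ψ) s
  have h2 : Subsingleton (Coh.HH 𝐏
      ((ShortComplex.mk (kernel.ι ψ) ψ (kernel.condition ψ)).map
        (tensorRightFunctor (Twist.twistProjSpace n k s))).X₂ 0) :=
    subsingleton_H0_sigma_structure_tensor hn b s hs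
  exact (map_f_injective_zero hT).subsingleton

/-- `H^j(M(d)) = 0` and `j + 1 < n` imply `H^{j+1}(N(d)) = 0` -/
theorem subsingleton_HH_kernel_twist_of_lt (j : ℕ) (d : ℤ) (hjn : j + 1 < n)
    (hM : Subsingleton (Coh.HH 𝐏 (CohB1.tensorMod M (Twist.twistProjSpace n k d)) j)) :
    Subsingleton (Coh.HH 𝐏 (CohB1.tensorMod (kernel ψ) (Twist.twistProjSpace n k d)) (j + 1)) := by
  have hT := shortExact_tw (shortExact_kernel_epi ψ) d
  have h2 : Subsingleton (Coh.HH 𝐏
      ((ShortComplex.mk (kernel.ι ψ) ψ (kernel.condition ψ)).map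
        (tensorRightFunctor (Twist.twistProjSpace n k d))).X₂ (j + 1)) :=
    subsingleton_HH_sigma_structure_tensor n k b d (j + 1) (by omega) (Or.inl hjn)
  have h3 : Subsingleton (Coh.HH 𝐏
      ((ShortComplex.mk (kernel.ι ψ) ψ (kernel.condition ψ)).map
        (tensorRightFunctor (Twist.twistProjSpace n k d))).X₃ j) := hM
  exact subsingleton_left hT j

/-- if `M` is `0`-regular, the kernel of a cover `O^b ↠ M` which is surjective on global sections is `1`-regular -/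
theorem kernel_isMRegular_one (hsurj : Function.Surjective (ψ.app ⊤))
    (hreg : Curv2.IsMRegular k n M 0) : Curv2.IsMRegular k n (kernel ψ) 1 := by
  intro i hi hin
  obtain ⟨j, rfl⟩ : ∃ j, i = j + 1 := ⟨i - 1, by omega⟩
  rcases Nat.eq_zero_or_pos j with hj | hj
  · subst hj
    obtain ⟨e0⟩ := nonempty_twist_zero n k (kernel ψ)
    have h1 := subsingleton_HH_one_kernel ψ hsurj (subsingleton_HH_sigma_structure n k b 1 (by omega))
    have h2 : Subsingleton (Coh.HH 𝐏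
        (CohB1.tensorMod (kernel ψ) (Twist.twistProjSpace n k 0)) 1) :=
      @Groth.Agent.Lib.H4Twist.subsingleton_HH_of_iso _ _ _ e0 1 h1
    exact Groth.Agent.Lib.H4Regularity.subsingleton_HH_congr n k _ (by norm_num) rfl h2
  · have h3 := hreg j hj (by omega)
    have h4 := subsingleton_HH_kernel_twist n k b ψ j ((0 : ℤ) - j) (by ring) (by omega) h3
    exact Groth.Agent.Lib.H4Regularity.subsingleton_HH_congr n k _ (by push_cast; ring) rfl h4

end Kernel

/-- **The minimal linear step.** -/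
theorem exists_linear_step {K : (𝐏).Modules} (hK : Coh.IsCoh K) (μ : ℤ)
    (hreg : Curv2.IsMRegular k n K μ) :
    ∃ (b : ℕ) (φ : (∐ fun _ : Fin b => Twist.twistProjSpace n k (-μ)) ⟶ K), Epi φ ∧
      Coh.IsCoh (kernel φ) ∧ Curv2.IsMRegular k n (kernel φ) (μ + 1) ∧
      Subsingleton (Coh.HH 𝐏 (tw k n (kernel φ) μ) 0) ∧
      (1 ≤ n → ∀ t : ℤ, t < μ → Subsingleton (Coh.HH 𝐏 (tw k n (kernel φ) t) 0)) ∧
      (∀ (j : ℕ) (t : ℤ), j + 1 < n → Subsingleton (Coh.HH 𝐏 (tw k n K t) j) →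
        Subsingleton (Coh.HH 𝐏 (tw k n (kernel φ) t) (j + 1))) := by
  have hN := isLocallyNoetherian_projSpace (k := k) (n := n)
  have hKq := hK.1
  have hM : Coh.IsCoh (tw k n K μ) := isCoh_tw hK μ
  have hgg := Groth.Agent.S1647.result k n K hK μ hreg
  obtain ⟨b, ξ, hξ, hb⟩ := exists_basis_sections (tw k n K μ) hM
  have hsurj := ofSectionsFin_surjective _ ξ hξ
  have hψ : Epi (ofSectionsFin _ ξ) := epi_of_surjective_top _ hsurj hgg
  obtain ⟨φ, hφ, ⟨κ⟩⟩ := exists_twisted_epi n k K μ b (ofSectionsFin _ ξ)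
  -- `M = K(μ)` is `0`-regular
  have hM0 : Curv2.IsMRegular k n (tw k n K μ) 0 := by
    intro i hi hin
    obtain ⟨u⟩ := Groth.Agent.Lib.H4MulSurj.nonempty_twist_twist n k K μ ((0 : ℤ) - i) (μ - i) (by ring)
    exact @Groth.Agent.Lib.H4Twist.subsingleton_HH_of_iso _ _ _ u i (hreg i hi hin)
  have hN1 := kernel_isMRegular_one (ofSectionsFin _ ξ) hsurj hM0
  -- the comparison isomorphisms
  have hu : ∀ t : ℤ, Nonempty (tw k n (kernel φ) t ≅
      CohB1.tensorMod (kernel (ofSectionsFin _ ξ)) (Twist.twistProjSpace n k (t - μ))) := by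
    intro t
    obtain ⟨e1⟩ := Groth.Agent.Lib.H4MulSurj.nonempty_twist_twist n k (kernel (ofSectionsFin _ ξ))
      (-μ) t (t - μ) (by ring)
    exact ⟨tensorModIso κ (Iso.refl (Twist.twistProjSpace n k t)) ≪≫ e1⟩
  have hO : Coh.IsCoh (∐ fun _ : Fin b => Twist.twistProjSpace n k (-μ)) :=
    Groth.Agent.Lib.H43ExtShCohScheme.isCoh_sigma_fin (isCoh_twist (-μ)) b
  refine ⟨b, φ, hφ, Groth.Agent.Lib.H90OXModExact.isCoh_kernel φ hO, ?_, ?_, ?_, ?_⟩
  · intro i hi hin
    obtain ⟨u⟩ := hu (μ + 1 - i)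
    have h1 := hN1 i hi hin
    have h2 : Subsingleton (Coh.HH 𝐏 (CohB1.tensorMod (kernel (ofSectionsFin _ ξ))
        (Twist.twistProjSpace n k (μ + 1 - i - μ))) i) :=
      Groth.Agent.Lib.H4Regularity.subsingleton_HH_congr n k _ (by ring) rfl h1
    exact @Groth.Agent.Lib.H4Twist.subsingleton_HH_of_iso _ _ _ u i h2
  · obtain ⟨u⟩ := hu μ
    obtain ⟨e0⟩ := nonempty_twist_zero n k (kernel (ofSectionsFin _ ξ))
    have h1 := subsingleton_H0_kernel _ hM (ofSectionsFin _ ξ) hsurj hb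
    have h2 : Subsingleton (Coh.HH 𝐏 (CohB1.tensorMod (kernel (ofSectionsFin _ ξ))
        (Twist.twistProjSpace n k 0)) 0) :=
      @Groth.Agent.Lib.H4Twist.subsingleton_HH_of_iso _ _ _ e0 0 h1
    have h3 : Subsingleton (Coh.HH 𝐏 (CohB1.tensorMod (kernel (ofSectionsFin _ ξ))
        (Twist.twistProjSpace n k (μ - μ))) 0) :=
      Groth.Agent.Lib.H4Regularity.subsingleton_HH_congr n k _ (by ring) rfl h2
    exact @Groth.Agent.Lib.H4Twist.subsingleton_HH_of_iso _ _ _ u 0 h3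
  · intro hn t ht
    obtain ⟨u⟩ := hu t
    have h1 := subsingleton_H0_kernel_twist (ofSectionsFin _ ξ) hn (t - μ) (by omega)
    exact @Groth.Agent.Lib.H4Twist.subsingleton_HH_of_iso _ _ _ u 0 h1
  · intro j t hj hKt
    obtain ⟨u⟩ := hu t
    obtain ⟨v⟩ := Groth.Agent.Lib.H4MulSurj.nonempty_twist_twist n k K μ (t - μ) t (by ring)
    have h0 : Subsingleton (Coh.HH 𝐏 (CohB1.tensorMod (tw k n K μ) (Twist.twistProjSpace n k (t - μ))) j) :=
      @Groth.Agent.Lib.H4Twist.subsingleton_HH_of_iso _ _ _ v j hKt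
    have h1 := subsingleton_HH_kernel_twist_of_lt (ofSectionsFin _ ξ) j (t - μ) hj h0
    exact @Groth.Agent.Lib.H4Twist.subsingleton_HH_of_iso _ _ _ u (j + 1) h1

end Groth.Agent.Lib.H4Syzygy
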