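import Groth.Agent.Lib.H4Syzygy1
import Groth.Agent.Lib.H43K0ResC
import Groth.Agent.Lib.H4Slope2
import Mathlib.Algebra.Homology.SingleHomology

/-!
# Hilbert's syzygy theorem on `P^n_k` via Horrocks (helper4), part 2: the resolution

`exists_resolution` : every coherent module on `P^n_k` has a resolution of length `≤ n + 1` by finite direct sums of
twisting sheaves.
-/

set_option autoImplicit false
universe u
open CategoryTheory CategoryTheory.Limits AlgebraicGeometry TopologicalSpace Opposite Twist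

namespace Groth.Agent.Lib.H4Syzygy

open Groth.Agent.Lib.OXModTensor Groth.Agent.Lib.TwistEquiv Groth.Agent.Lib.CohLES
open Groth.Agent.Lib.H4MumfordStep Groth.Agent.Lib.H4RegRes Groth.Agent.Lib.H43K0ResC

section General

variable {C : Type*} [Category C] [Abelian C]

/-- an object of `P₀` has a resolution of length `0` -/
theorem exists_isRes_single (P₀ : ObjectProperty C) (hz : ∀ Z : C, IsZero Z → P₀ Z) {K : C} (hK : P₀ K) :
    ∃ (L : ChainComplex C ℕ) (ε : L.X 0 ⟶ K), IsRes P₀ K L ε ∧ ∀ i, 0 < i → IsZero (L.X i) := by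
  refine ⟨(ChainComplex.single₀ C).obj K, 𝟙 K, ⟨?_, ?_, ?_, ?_, ?_⟩, ?_⟩
  · intro i
    cases i with
    | zero => exact hK
    | succ i => exact hz _ (HomologicalComplex.isZero_single_obj_X _ _ _ _ (by omega))
  · intro i hi
    exact HomologicalComplex.exactAt_single_obj _ _ _ _ (by omega)
  · exact inferInstanceAs (Epi (𝟙 K))
  · exact zero_comp
  · exact (ShortComplex.exact_iff_mono _ rfl).2 (inferInstanceAs (Mono (𝟙 K)))
  · intro i hi
    exact HomologicalComplex.isZero_single_obj_X _ _ _ _ (by omega)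

end General

variable {n : ℕ} {k : Type u} [Field k]

local notation "𝐏" => CohB1.ProjSpace n k

/-- finite direct sums of twisting sheaves -/
def sumTw (n : ℕ) (k : Type u) [Field k] : ObjectProperty (CohB1.ProjSpace n k).Modules :=
  fun M => ∃ (m : ℕ) (d : Fin m → ℤ), Nonempty (M ≅ ∐ fun j : Fin m => Twist.twistProjSpace n k (d j))

theorem sumTw_of_isZero (Z : (𝐏).Modules) (hZ : IsZero Z) : sumTw n k Z :=
  ⟨0, Fin.elim0, ⟨hZ.iso (Groth.Agent.Lib.P1Split.isZero_sigma_of_isEmpty _)⟩⟩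

theorem sumTw_sigma (b : ℕ) (a : ℤ) : sumTw n k (∐ fun _ : Fin b => Twist.twistProjSpace n k a) :=
  ⟨b, fun _ => a, ⟨Iso.refl _⟩⟩

/-- the inductive hypothesis on the syzygy modules -/
def Cond (K : (CohB1.ProjSpace n k).Modules) (μ : ℤ) (c : ℕ) : Prop :=
  Coh.IsCoh K ∧ Curv2.IsMRegular k n K μ ∧
    (∀ t : ℤ, t < μ → Subsingleton (Coh.HH (CohB1.ProjSpace n k) (tw k n K t) 0)) ∧
    ∀ (i : ℕ) (t : ℤ), 1 ≤ i → i ≤ c → i < n → Subsingleton (Coh.HH (CohB1.ProjSpace n k) (tw k n K t) i)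

/-- one step of the minimal resolution -/
theorem exists_step (hn : 1 ≤ n) {K : (𝐏).Modules} {μ : ℤ} {c : ℕ} (h : Cond K μ c) :
    ∃ (b : ℕ) (φ : (∐ fun _ : Fin b => Twist.twistProjSpace n k (-μ)) ⟶ K), Epi φ ∧
      Cond (kernel φ) (μ + 1) (c + 1) := by
  obtain ⟨hK, hreg, h0, hi⟩ := h
  obtain ⟨b, φ, hφ, hK', hreg', h00, h0', htr⟩ := exists_linear_step hK μ hreg
  refine ⟨b, φ, hφ, hK', hreg', fun t ht => ?_, fun i t h1 hic hin => ?_⟩
  · rcases eq_or_lt_of_le (show t ≤ μ by omega) with rfl | hlt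
    · exact h00
    · exact h0' hn t hlt
  · obtain ⟨j, rfl⟩ : ∃ j, i = j + 1 := ⟨i - 1, by omega⟩
    rcases Nat.eq_zero_or_pos j with rfl | hj
    · -- `H^1`
      rcases lt_or_ge t μ with hlt | hge
      · exact htr 0 t hin (h0 t hlt)
      · exact subsingleton_of_isMRegular hK' hreg' 1 t le_rfl (by omega)
    · exact htr j t hin (hi j t hj (by omega) (by omega))

/-- the first step, from an arbitrary coherent module -/
theorem exists_step_zero (hn : 1 ≤ n) {F : (𝐏).Modules} (hF : Coh.IsCoh F) {μ : ℤ}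
    (hreg : Curv2.IsMRegular k n F μ) :
    ∃ (b : ℕ) (φ : (∐ fun _ : Fin b => Twist.twistProjSpace n k (-μ)) ⟶ F), Epi φ ∧
      Cond (kernel φ) (μ + 1) 0 := by
  obtain ⟨b, φ, hφ, hK', hreg', h00, h0', -⟩ := exists_linear_step hF μ hreg
  refine ⟨b, φ, hφ, hK', hreg', fun t ht => ?_, fun i t h1 hic hin => by omega⟩
  rcases eq_or_lt_of_le (show t ≤ μ by omega) with rfl | hlt
  · exact h00
  · exact h0' hn t hlt

/-- resolutions of the syzygy modules -/
theorem exists_isRes_of_cond (hn : 1 ≤ n) : ∀ (d c : ℕ) (μ : ℤ) (K : (𝐏).Modules), n ≤ c + d + 1 → Cond K μ c →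
    ∃ (L : ChainComplex (𝐏).Modules ℕ) (ε : L.X 0 ⟶ K), IsRes (sumTw n k) K L ε ∧
      ∀ i, d < i → IsZero (L.X i) := by
  intro d
  induction d with
  | zero =>
    intro c μ K hc h
    obtain ⟨hK, hreg, h0, hi⟩ := h
    obtain ⟨r, a, ⟨e⟩⟩ := Groth.Agent.Lib.H4Horrocks.horrocks K hK (μ - 1) (fun t ht => h0 t (by omega))
      (fun t i h1 h2 => hi i t h1 (by omega) h2)
    exact exists_isRes_single (sumTw n k) sumTw_of_isZero ⟨r, a, ⟨e⟩⟩
  | succ d ih =>
    intro c μ K hc h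
    obtain ⟨b, φ, hφ, h'⟩ := exists_step hn h
    obtain ⟨L', ε', hL', hz'⟩ := ih (c + 1) (μ + 1) (kernel φ) (by omega) h'
    have hS := shortExact_kernel_epi φ
    have hA := hL'.augment (kernel.ι φ) φ (kernel.condition φ) hS (sumTw_sigma b (-μ))
    refine ⟨L'.augment (ε' ≫ kernel.ι φ) (comp_comp_zero _ _ _ hL'.w), φ, hA, ?_⟩
    intro i hi
    obtain ⟨j, rfl⟩ : ∃ j, i = j + 1 := ⟨i - 1, by omega⟩
    exact hz' j (by omega)

/-- **Hilbert's syzygy theorem on `P^n_k`**: every coherent module has a resolution of length `≤ n + 1` by finite direct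
sums of twisting sheaves -/
theorem exists_resolution (F : (𝐏).Modules) (hF : Coh.IsCoh F) :
    ∃ (L : ChainComplex (𝐏).Modules ℕ) (ε : L.X 0 ⟶ F), IsRes (sumTw n k) F L ε ∧
      ∀ i, n + 1 < i → IsZero (L.X i) := by
  rcases Nat.eq_zero_or_pos n with rfl | hn
  · -- `P^0`: `F` itself is a sum of twisting sheaves
    have hreg : Curv2.IsMRegular k 0 F 0 := fun i h1 h2 => by omega
    obtain ⟨b, φ, hφ, hK', hreg', h00, -, -⟩ := exists_linear_step hF 0 hreg
    have hreg0 : Curv2.IsMRegular k 0 (kernel φ) 0 := fun i h1 h2 => by omega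
    have hgg := Groth.Agent.S1647.result k 0 (kernel φ) hK' 0 hreg0
    have hz : IsZero (kernel φ) := Groth.Agent.Lib.H4Horrocks.isZero_of_isZero_tw 0
      (Groth.Agent.Lib.H4Horrocks.isZero_of_globGen_of_subsingleton hgg h00)
    have hm : Mono φ := Preadditive.mono_of_isZero_kernel φ hz
    have hiso : IsIso φ := isIso_of_mono_of_epi φ
    obtain ⟨L, ε, hL, hLz⟩ := exists_isRes_single (sumTw 0 k) sumTw_of_isZero
      (K := F) ⟨b, fun _ => -0, ⟨(asIso φ).symm⟩⟩
    exact ⟨L, ε, hL, fun i hi => hLz i (by omega)⟩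
  · obtain ⟨d₀, hd₀⟩ := Groth.Agent.Lib.H4Slope.exists_vanishing hF
    have hreg : Curv2.IsMRegular k n F (d₀ + n) := fun i h1 _ => hd₀ (d₀ + n - i) (by omega) i h1
    obtain ⟨b, φ, hφ, h'⟩ := exists_step_zero hn hF hreg
    obtain ⟨L', ε', hL', hz'⟩ := exists_isRes_of_cond hn n 0 (d₀ + n + 1) (kernel φ) (by omega) h'
    have hS := shortExact_kernel_epi φ
    have hA := hL'.augment (kernel.ι φ) φ (kernel.condition φ) hS (sumTw_sigma b (-(d₀ + n)))
    refine ⟨L'.augment (ε' ≫ kernel.ι φ) (comp_comp_zero _ _ _ hL'.w), φ, hA, ?_⟩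
    intro i hi
    obtain ⟨j, rfl⟩ : ∃ j, i = j + 1 := ⟨i - 1, by omega⟩
    exact hz' j (by omega)

end Groth.Agent.Lib.H4Syzygy
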