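import Groth.Prelude.Def_Twist2
import Mathlib.Tactic.Ring
import Mathlib.Tactic.Linarith

/-!
# Serre twists on `Proj`: pointwise algebra of `Twist.twistAt` (helper4, OXMod M6)

For `x : ProjectiveSpectrum 𝒜`, `Twist.twistAt 𝒜 n x ⊆ A_x` is the `A_(x)`-module of fractions of degree `n`.
* `mk_mem_twistAt` : `a / s ∈ twistAt n x` when `deg a = deg s + n`;
* `one_mem_twistAt`, `mul_mem_twistAt` (degrees add), `pow_mem_twistAt`;
* `mem_twistAt_zero_iff` : degree-zero fractions are exactly the image of `A_(x)`;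
* `fUnit x f hf : (A_x)ˣ` for `f ∉ x`, `fUnit_zpow_mem` : `f ^ n ∈ twistAt (n * d) x` for `f ∈ 𝒜 d`, `n : ℤ`;
* `mem_twistAt_mul_iff` : `q ∈ twistAt (n * d) x ↔ ∃ c : A_(x), q = c.val * f ^ n`.
-/

set_option autoImplicit false
universe u

open Twist

namespace Groth.Agent.Lib.H4Twist

variable {R A : Type u} [CommRing R] [CommRing A] [Algebra R A] {𝒜 : ℕ → Submodule R A} [GradedAlgebra 𝒜]

section Pointwise

variable (x : ProjectiveSpectrum 𝒜)

theorem mk_mem_twistAt {n : ℤ} {i j : ℕ} (h : (i : ℤ) = j + n) {a s : A} (ha : a ∈ 𝒜 i) (hs : s ∈ 𝒜 j)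
    (hsx : s ∉ x.asHomogeneousIdeal) :
    (Localization.mk a ⟨s, hsx⟩ : Loc 𝒜 x) ∈ twistAt 𝒜 n x :=
  Submodule.subset_span ⟨i, j, ⟨a, ha⟩, ⟨s, hs⟩, hsx, h, rfl⟩

theorem one_notMem : (1 : A) ∉ x.asHomogeneousIdeal :=
  fun h => x.isPrime.ne_top ((Ideal.eq_top_iff_one _).mpr h)

theorem one_mem_twistAt : (1 : Loc 𝒜 x) ∈ twistAt 𝒜 0 x := by
  have := mk_mem_twistAt x (n := 0) (i := 0) (j := 0) (by simp) (a := 1) (s := 1)
    SetLike.GradedOne.one_mem SetLike.GradedOne.one_mem (one_notMem x)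
  rwa [show (Localization.mk (1 : A) ⟨1, one_notMem x⟩ : Loc 𝒜 x) = 1 from Localization.mk_one] at this

theorem twistAt_congr {m n : ℤ} (h : m = n) {q : Loc 𝒜 x} (hq : q ∈ twistAt 𝒜 m x) :
    q ∈ twistAt 𝒜 n x := h ▸ hq

theorem mul_mem_twistAt {m n : ℤ} {p q : Loc 𝒜 x} (hp : p ∈ twistAt 𝒜 m x)
    (hq : q ∈ twistAt 𝒜 n x) : p * q ∈ twistAt 𝒜 (m + n) x := by
  unfold twistAt at hp
  induction hp using Submodule.span_induction with
  | mem p hp =>
    obtain ⟨i, j, a, s, hs, hij, rfl⟩ := hp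
    unfold twistAt at hq
    induction hq using Submodule.span_induction with
    | mem q hq =>
      obtain ⟨i', j', a', s', hs', hij', rfl⟩ := hq
      rw [Localization.mk_mul]
      have hss : s.1 * s'.1 ∉ x.asHomogeneousIdeal := fun h =>
        (x.isPrime.mem_or_mem h).elim hs hs'
      exact mk_mem_twistAt x (i := i + i') (j := j + j') (by push_cast; linarith)
        (SetLike.mul_mem_graded a.2 a'.2) (SetLike.mul_mem_graded s.2 s'.2) hss
    | zero => rw [mul_zero]; exact Submodule.zero_mem _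
    | add q q' _ _ ih ih' => rw [mul_add]; exact Submodule.add_mem _ ih ih'
    | smul c q _ ih => rw [mul_smul_comm]; exact Submodule.smul_mem _ c ih
  | zero => rw [zero_mul]; exact Submodule.zero_mem _
  | add p p' _ _ ih ih' => rw [add_mul]; exact Submodule.add_mem _ ih ih'
  | smul c p _ ih => rw [smul_mul_assoc]; exact Submodule.smul_mem _ c ih

theorem pow_mem_twistAt {m : ℤ} {p : Loc 𝒜 x} (hp : p ∈ twistAt 𝒜 m x) (k : ℕ) :
    p ^ k ∈ twistAt 𝒜 (k * m) x := by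
  induction k with
  | zero => simpa using one_mem_twistAt x
  | succ k ih =>
    rw [pow_succ]
    exact twistAt_congr x (by push_cast; ring) (mul_mem_twistAt x ih hp)

theorem val_mem_twistAt_zero (c : A0 𝒜 x) : (c.val : Loc 𝒜 x) ∈ twistAt 𝒜 0 x := by
  obtain ⟨⟨i, a, s, hs⟩, rfl⟩ := HomogeneousLocalization.mk_surjective c
  rw [HomogeneousLocalization.val_mk]
  exact mk_mem_twistAt x (i := i) (j := i) (by simp) a.2 s.2 hs

theorem mem_twistAt_zero_iff {q : Loc 𝒜 x} : q ∈ twistAt 𝒜 0 x ↔ ∃ c : A0 𝒜 x, c.val = q := by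
  constructor
  · intro hq
    unfold twistAt at hq
    induction hq using Submodule.span_induction with
    | mem q hq =>
      obtain ⟨i, j, a, s, hs, hij, rfl⟩ := hq
      have hji : j = i := by
        have : (i : ℤ) = j := by simpa using hij
        exact_mod_cast this.symm
      subst hji
      exact ⟨HomogeneousLocalization.mk ⟨j, a, s, hs⟩, HomogeneousLocalization.val_mk _⟩
    | zero => exact ⟨0, HomogeneousLocalization.val_zero⟩
    | add q q' _ _ ih ih' =>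
      obtain ⟨c, rfl⟩ := ih
      obtain ⟨c', rfl⟩ := ih'
      exact ⟨c + c', HomogeneousLocalization.val_add _ _⟩
    | smul c q _ ih =>
      obtain ⟨c', rfl⟩ := ih
      refine ⟨c * c', ?_⟩
      rw [HomogeneousLocalization.val_mul, Algebra.smul_def,
        HomogeneousLocalization.algebraMap_apply]
  · rintro ⟨c, rfl⟩
    exact val_mem_twistAt_zero x c

/-- The unit `f / 1` of the localization at `x`, for `f ∉ x`. -/
def fUnit (f : A) (hf : f ∉ x.asHomogeneousIdeal) : (Loc 𝒜 x)ˣ where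
  val := Localization.mk f 1
  inv := Localization.mk 1 ⟨f, hf⟩
  val_inv := by
    rw [Localization.mk_mul, mul_one, one_mul]
    exact Localization.mk_self (⟨f, hf⟩ : x.asHomogeneousIdeal.toIdeal.primeCompl)
  inv_val := by
    rw [Localization.mk_mul, mul_one, one_mul]
    exact Localization.mk_self (⟨f, hf⟩ : x.asHomogeneousIdeal.toIdeal.primeCompl)

variable {x}

theorem fUnit_val {f : A} (hf : f ∉ x.asHomogeneousIdeal) :
    ((fUnit x f hf : (Loc 𝒜 x)ˣ) : Loc 𝒜 x) = Localization.mk f 1 := rfl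

theorem fUnit_inv_val {f : A} (hf : f ∉ x.asHomogeneousIdeal) :
    (((fUnit x f hf)⁻¹ : (Loc 𝒜 x)ˣ) : Loc 𝒜 x) = Localization.mk 1 ⟨f, hf⟩ := rfl

theorem fUnit_mem {f : A} (hf : f ∉ x.asHomogeneousIdeal) {d : ℕ} (hfd : f ∈ 𝒜 d) :
    ((fUnit x f hf : (Loc 𝒜 x)ˣ) : Loc 𝒜 x) ∈ twistAt 𝒜 d x :=
  mk_mem_twistAt x (i := d) (j := 0) (by simp) hfd SetLike.GradedOne.one_mem (one_notMem x)

theorem fUnit_inv_mem {f : A} (hf : f ∉ x.asHomogeneousIdeal) {d : ℕ} (hfd : f ∈ 𝒜 d) :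
    (((fUnit x f hf)⁻¹ : (Loc 𝒜 x)ˣ) : Loc 𝒜 x) ∈ twistAt 𝒜 (-(d : ℤ)) x :=
  mk_mem_twistAt x (i := 0) (j := d) (by simp) SetLike.GradedOne.one_mem hfd hf

theorem fUnit_zpow_mem {f : A} (hf : f ∉ x.asHomogeneousIdeal) {d : ℕ} (hfd : f ∈ 𝒜 d) (n : ℤ) :
    (((fUnit x f hf) ^ n : (Loc 𝒜 x)ˣ) : Loc 𝒜 x) ∈ twistAt 𝒜 (n * d) x := by
  obtain ⟨k, rfl | rfl⟩ := n.eq_nat_or_neg
  · rw [zpow_natCast, Units.val_pow_eq_pow_val]
    exact pow_mem_twistAt x (fUnit_mem hf hfd) k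
  · rw [zpow_neg, zpow_natCast, ← inv_pow, Units.val_pow_eq_pow_val]
    exact twistAt_congr x (by ring) (pow_mem_twistAt x (fUnit_inv_mem hf hfd) k)

/-- Fractions of degree `n * d` at `x` are the degree-zero fractions times `f ^ n`, for `f ∈ 𝒜 d`, `f ∉ x`. -/
theorem mem_twistAt_mul_iff {f : A} (hf : f ∉ x.asHomogeneousIdeal) {d : ℕ} (hfd : f ∈ 𝒜 d) (n : ℤ)
    {q : Loc 𝒜 x} :
    q ∈ twistAt 𝒜 (n * d) x ↔
      ∃ c : A0 𝒜 x, q = c.val * (((fUnit x f hf) ^ n : (Loc 𝒜 x)ˣ) : Loc 𝒜 x) := by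
  constructor
  · intro hq
    have h0 : q * (((fUnit x f hf) ^ (-n) : (Loc 𝒜 x)ˣ) : Loc 𝒜 x) ∈ twistAt 𝒜 0 x :=
      twistAt_congr x (by ring) (mul_mem_twistAt x hq (fUnit_zpow_mem hf hfd (-n)))
    obtain ⟨c, hc⟩ := (mem_twistAt_zero_iff x).mp h0
    refine ⟨c, ?_⟩
    rw [hc, mul_assoc, ← Units.val_mul, ← zpow_add, neg_add_cancel, zpow_zero, Units.val_one, mul_one]
  · rintro ⟨c, rfl⟩
    exact twistAt_congr x (by ring)
      (mul_mem_twistAt x (val_mem_twistAt_zero x c) (fUnit_zpow_mem hf hfd n))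

theorem val_injective : Function.Injective (fun c : A0 𝒜 x => (c.val : Loc 𝒜 x)) :=
  HomogeneousLocalization.val_injective _

end Pointwise

end Groth.Agent.Lib.H4Twist
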