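import Groth.Agent.Lib.H4TwistUnit

/-!
# Serre twists on `Proj`: the unit `(a / b) ^ n` on `D₊(ab)` (helper4)

* `fracPow_mem` : for `a ∈ 𝒜 i`, `b ∈ 𝒜 j`, `i = j + d`, `a, b ∉ x`: `(a/b)^n ∈ twistAt (n * d) x`, a unit;
* `exists_isGen_basicOpen_mul` : `O(n * d)` has a free generator over `D₊(ab)` (S9575).
-/

set_option autoImplicit false
universe u
open CategoryTheory AlgebraicGeometry TopologicalSpace Opposite Twist
open Groth.Agent.Lib.H90Invertible Groth.Agent.Lib.H4TensorPair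

namespace Groth.Agent.Lib.H4Twist

variable {R A : Type u} [CommRing R] [CommRing A] [Algebra R A] {𝒜 : ℕ → Submodule R A} [GradedAlgebra 𝒜]

theorem fracPow_mem {x : ProjectiveSpectrum 𝒜} {i j d : ℕ} {a b : A} (ha : a ∈ 𝒜 i) (hb : b ∈ 𝒜 j)
    (hij : i = j + d) (hax : a ∉ x.asHomogeneousIdeal) (hbx : b ∉ x.asHomogeneousIdeal) (n k : ℤ)
    (hk : k = n * d) :
    (((fUnit x a hax) ^ n * (fUnit x b hbx) ^ (-n) : (Loc 𝒜 x)ˣ) : Loc 𝒜 x) ∈ twistAt 𝒜 k x := by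
  rw [Units.val_mul]
  refine twistAt_congr x ?_ (mul_mem_twistAt x (fUnit_zpow_mem hax ha n) (fUnit_zpow_mem hbx hb (-n)))
  rw [hk, hij]; push_cast; ring

variable (𝒜) in
/-- `O(n * d)` has a free generator over `D₊(ab)` when `deg a = deg b + d`. -/
theorem exists_isGen_basicOpen_mul {i j d : ℕ} {a b : A} (ha : a ∈ 𝒜 i) (hb : b ∈ 𝒜 j)
    (hij : i = j + d) (n : ℤ) {V : (Proj 𝒜).Opens} (hV : V ≤ Proj.basicOpen 𝒜 (a * b)) :
    ∃ s : Γ(twist 𝒜 (n * d), V), IsGen (twist 𝒜 (n * d)) V s := by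
  have hVa : ∀ x : V, a ∉ x.1.asHomogeneousIdeal := fun x hx =>
    (hV x.2) (x.1.asHomogeneousIdeal.toIdeal.mul_mem_right b hx)
  have hVb : ∀ x : V, b ∉ x.1.asHomogeneousIdeal := fun x hx =>
    (hV x.2) (x.1.asHomogeneousIdeal.toIdeal.mul_mem_left a hx)
  have h1 : n * (i : ℤ) + (-n) * (j : ℤ) = n * d := by rw [hij]; push_cast; ring
  have h2 : (-n) * (i : ℤ) + n * (j : ℤ) = -(n * d) := by rw [hij]; push_cast; ring
  refine ⟨mulSec h1 (genAt ha hVa n _ rfl) (genAt hb hVb (-n) _ rfl), ?_⟩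
  refine isGen_of_mul_eq_one (k' := -(n * d)) (by ring) _
    (mulSec h2 (genAt ha hVa (-n) _ rfl) (genAt hb hVb n _ rfl)) (fun x => ?_)
  simp only [sval_mulSec, sval_genAt]
  rw [mul_mul_mul_comm, ← Units.val_mul, ← Units.val_mul, ← zpow_add, ← zpow_add, add_neg_cancel,
    neg_add_cancel, zpow_zero, zpow_zero, Units.val_one, mul_one]

end Groth.Agent.Lib.H4Twist
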