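import Groth.Agent.Lib.H4TwistAmple
import Groth.Prelude.Def_FlatMod2

/-!
# Serre twists on `Proj`: `O(n)`, `n ≥ 0`, is globally generated (helper4, OXMod M6)

* `epi_sigmaDesc_ofSection` (any scheme): sections `t i ∈ Γ(L, ⊤)` such that every point has a neighbourhood on
  which some `t i` is a free generator define an epimorphism `∐ O_X ⟶ L`;
* `exists_epi_freeMod_twist` (S4401).
-/

set_option autoImplicit false
universe u
open CategoryTheory CategoryTheory.Limits AlgebraicGeometry TopologicalSpace Opposite Twist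
open Groth.Agent.Lib.H90Invertible Groth.Agent.Lib.H4TensorPair
open Groth.Agent.Lib.StructureModule

namespace Groth.Agent.Lib.H4Twist

section General

variable {X : Scheme.{u}} (L : X.Modules)

/-- Global sections which locally contain a free generator define an epimorphism from a free module. -/
theorem epi_sigmaDesc_ofSection {k : ℕ} (t : Fin k → Γ(L, ⊤))
    (h : ∀ x : X, ∃ (i : Fin k) (V : X.Opens), x ∈ V ∧
      IsGen L V (L.presheaf.map (homOfLE le_top).op (t i))) :
    Epi (Sigma.desc (fun i => ofSection (t i)) : FlatMod.freeMod X k ⟶ L) := by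
  apply Groth.Agent.Lib.IdealMod.epi_of_locally_surjective
  intro U s x hxU
  obtain ⟨i, V, hxV, hgen⟩ := h x
  refine ⟨U ⊓ V, inf_le_left, ⟨hxU, hxV⟩, ?_⟩
  obtain ⟨a, ha⟩ := (hgen (U ⊓ V) inf_le_right).2 (L.presheaf.map (homOfLE (inf_le_left : U ⊓ V ≤ U)).op s)
  refine ⟨(Sigma.ι (fun _ : Fin k => Coh.structureModule X) i).app (U ⊓ V) (toSec (U ⊓ V) a), ?_⟩
  have h1 : (Sigma.ι (fun _ : Fin k => Coh.structureModule X) i ≫
      (Sigma.desc (fun i => ofSection (t i)) : FlatMod.freeMod X k ⟶ L)).app (U ⊓ V) (toSec (U ⊓ V) a) =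
      (ofSection (t i)).app (U ⊓ V) (toSec (U ⊓ V) a) := by
    rw [Sigma.ι_desc]
  rw [ofSection_app] at h1
  refine Eq.trans ?_ (h1.trans (Eq.trans ?_ ha))
  · rfl
  · congr 1
    rw [← ConcreteCategory.comp_apply, ← Functor.map_comp]
    rfl

end General

variable {R A : Type u} [CommRing R] [CommRing A] [Algebra R A] (𝒜 : ℕ → Submodule R A) [GradedAlgebra 𝒜]

/-- `O(n)`, `n ≥ 0`, is a quotient of a finite free module when the irrelevant ideal is generated by finitely
many elements of degree one (S4401). -/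
theorem exists_epi_freeMod_twist (s : Finset A) (hs1 : ∀ f ∈ s, f ∈ 𝒜 1)
    (hs : (HomogeneousIdeal.irrelevant 𝒜).toIdeal = Ideal.span (s : Set A)) (n : ℕ) :
    ∃ (k : ℕ) (p : FlatMod.freeMod (Proj 𝒜) k ⟶ twist 𝒜 (n : ℤ)), Epi p := by
  classical
  let e : Fin s.card ≃ s := s.equivFin.symm
  have hmem : ∀ i : Fin s.card, ((e i : A) ^ n) ∈ 𝒜 (n • 1) := fun i =>
    SetLike.pow_mem_graded n (hs1 _ (e i).2)
  let t : Fin s.card → Γ(twist 𝒜 (n : ℤ), ⊤) := fun i => numSec (hmem i) (n : ℤ) (by simp)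
  refine ⟨s.card, Sigma.desc (fun i => ofSection (t i)), epi_sigmaDesc_ofSection _ t ?_⟩
  intro x
  obtain ⟨f, hf, hfx⟩ := exists_mem_finset_notMem 𝒜 s hs x
  refine ⟨e.symm ⟨f, hf⟩, Proj.basicOpen 𝒜 f, hfx, ?_⟩
  have hef : (e (e.symm ⟨f, hf⟩) : A) = f := by rw [Equiv.apply_symm_apply]
  exact isGen_numSec_of_le (hs1 f hf) n (by rw [hef]) (hmem _) (by simp) (n : ℤ) (by simp) le_rfl

end Groth.Agent.Lib.H4Twist
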