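import Groth.Agent.Lib.H4Twist
import Groth.Agent.Lib.H90Invertible

/-!
# Serre twists on `Proj`: sections by values, free generators `f ^ n` (helper4, OXMod M6)

* `sval t x`, `oval r x` : values in `A_x` of sections of `O(n)` and of `O`; `sec_ext`, `oval_ext`,
  `sval_smul`, `sval_map`, `oval_map`, ...
* `exists_zpow_eq_mk` : `f ^ n = N / D` uniformly in `x`, with `deg N = deg D + n * d`.
* `gen hfd n hU : Γ(O(n * d), U)` : the section `x ↦ f ^ n` over an open `U` on which `f ∈ 𝒜 d` does not vanish;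
* `isGen_gen` : it is a free generator of `O(n * d)` over `U` (helper90's `IsGen`);
* `isInvertible_twist_restrict`, `isInvertible_twist` : S4399 and the invertibility part of S2352.
-/

set_option autoImplicit false
universe u
open CategoryTheory AlgebraicGeometry TopologicalSpace Opposite Twist
open Groth.Agent.Lib.H90Invertible

namespace Groth.Agent.Lib.H4Twist

variable {R A : Type u} [CommRing R] [CommRing A] [Algebra R A] {𝒜 : ℕ → Submodule R A} [GradedAlgebra 𝒜]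

/-- The value in `A_x` of a section of `O(n)` at a point `x`. -/
def sval {n : ℤ} {U : (Proj 𝒜).Opens} (t : Γ(twist 𝒜 n, U)) (x : U) : Loc 𝒜 x.1 :=
  ((show sectN (𝒜 := 𝒜) n (op U) from t).1 x : Loc 𝒜 x.1)

/-- The value in `A_x` of a section of the structure sheaf at a point `x`. -/
def oval {U : (Proj 𝒜).Opens} (r : Γ(Proj 𝒜, U)) (x : U) : Loc 𝒜 x.1 :=
  ((show O (𝒜 := 𝒜) (op U) from r).1 x).val

section Basic

variable {n : ℤ} {U V : (Proj 𝒜).Opens}

theorem sval_mem (t : Γ(twist 𝒜 n, U)) (x : U) : sval t x ∈ twistAt 𝒜 n x.1 :=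
  ((show sectN (𝒜 := 𝒜) n (op U) from t).1 x).2

theorem sec_ext {t t' : Γ(twist 𝒜 n, U)} (h : ∀ x : U, sval t x = sval t' x) : t = t' := by
  apply Subtype.ext
  funext x
  exact Subtype.ext (h x)

theorem oval_ext {r r' : Γ(Proj 𝒜, U)} (h : ∀ x : U, oval r x = oval r' x) : r = r' := by
  apply Subtype.ext
  funext x
  exact HomogeneousLocalization.val_injective _ (h x)

@[simp] theorem sval_smul (r : Γ(Proj 𝒜, U)) (t : Γ(twist 𝒜 n, U)) (x : U) :
    sval (r • t) x = oval r x * sval t x :=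
  coe_smul_val n x.1 _ _

@[simp] theorem sval_add (t t' : Γ(twist 𝒜 n, U)) (x : U) : sval (t + t') x = sval t x + sval t' x := rfl

@[simp] theorem sval_zero (x : U) : sval (0 : Γ(twist 𝒜 n, U)) x = 0 := rfl

@[simp] theorem sval_map (h : V ≤ U) (t : Γ(twist 𝒜 n, U)) (x : V) :
    sval ((twist 𝒜 n).presheaf.map (homOfLE h).op t) x = sval t ⟨x.1, h x.2⟩ := rfl

@[simp] theorem oval_map (h : V ≤ U) (r : Γ(Proj 𝒜, U)) (x : V) :
    oval ((Proj 𝒜).presheaf.map (homOfLE h).op r) x = oval r ⟨x.1, h x.2⟩ := rfl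

@[simp] theorem oval_mul (r r' : Γ(Proj 𝒜, U)) (x : U) : oval (r * r') x = oval r x * oval r' x :=
  HomogeneousLocalization.val_mul _ _

@[simp] theorem oval_one (x : U) : oval (1 : Γ(Proj 𝒜, U)) x = 1 :=
  HomogeneousLocalization.val_one

/-- Sections of `O(n)` are locally a single fraction. -/
theorem exists_frac (t : Γ(twist 𝒜 n, U)) (x : U) :
    ∃ (V : (Proj 𝒜).Opens) (_ : x.1 ∈ V) (hVU : V ≤ U) (i j : ℕ) (a : 𝒜 i) (s : 𝒜 j)
      (s_nin : ∀ y : V, s.1 ∉ y.1.asHomogeneousIdeal),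
      ((i : ℤ) = j + n ∨ a.1 = 0) ∧
        ∀ y : V, sval t ⟨y.1, hVU y.2⟩ = Localization.mk a.1 ⟨s.1, s_nin y⟩ := by
  obtain ⟨V, hxV, iVU, i, j, a, s, s_nin, h, w⟩ := (show sectN (𝒜 := 𝒜) n (op U) from t).2 x
  exact ⟨V, hxV, iVU.le, i, j, a, s, s_nin, h, fun y => w y⟩

end Basic

section Gen

variable {f : A} {d : ℕ} (hfd : f ∈ 𝒜 d)

include hfd in
/-- `f ^ n`, `n : ℤ`, is uniformly in `x` a fraction `N / D` with `deg N = deg D + n * d`. -/
theorem exists_zpow_eq_mk (n : ℤ) :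
    ∃ (p q : ℕ) (N D : A) (_ : N ∈ 𝒜 p) (_ : D ∈ 𝒜 q), (p : ℤ) = q + n * d ∧
      ∀ (x : ProjectiveSpectrum 𝒜) (hf : f ∉ x.asHomogeneousIdeal),
        ∃ hD : D ∉ x.asHomogeneousIdeal,
          (((fUnit x f hf) ^ n : (Loc 𝒜 x)ˣ) : Loc 𝒜 x) = Localization.mk N ⟨D, hD⟩ := by
  obtain ⟨k, rfl | rfl⟩ := n.eq_nat_or_neg
  · refine ⟨k • d, 0, f ^ k, 1, SetLike.pow_mem_graded k hfd, SetLike.GradedOne.one_mem,
      by simp, fun x hf => ⟨one_notMem x, ?_⟩⟩
    rw [zpow_natCast, Units.val_pow_eq_pow_val, fUnit_val, Localization.mk_pow]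
    congr 1
    exact Subtype.ext (by simp)
  · refine ⟨0, k • d, 1, f ^ k, SetLike.GradedOne.one_mem, SetLike.pow_mem_graded k hfd,
      by simp, fun x hf => ⟨fun h => hf (x.isPrime.mem_of_pow_mem k h), ?_⟩⟩
    rw [zpow_neg, zpow_natCast, ← inv_pow, Units.val_pow_eq_pow_val, fUnit_inv_val,
      Localization.mk_pow, one_pow]
    congr 1

variable {U : (Proj 𝒜).Opens} (hU : ∀ x : U, f ∉ x.1.asHomogeneousIdeal)

/-- The section `x ↦ f ^ n` of `O(n * d)` over an open on which `f ∈ 𝒜 d` vanishes nowhere. -/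
def gen (n : ℤ) : Γ(twist 𝒜 (n * d), U) :=
  (⟨fun x => ⟨(((fUnit x.1 f (hU x)) ^ n : (Loc 𝒜 x.1)ˣ) : Loc 𝒜 x.1),
      fUnit_zpow_mem (hU x) hfd n⟩, by
    intro x
    obtain ⟨p, q, N, D, hN, hD, hpq, h⟩ := exists_zpow_eq_mk hfd n
    exact ⟨U, x.2, 𝟙 U, p, q, ⟨N, hN⟩, ⟨D, hD⟩, fun y => (h y.1 (hU y)).1, Or.inl hpq,
      fun y => (h y.1 (hU y)).2⟩⟩ : sectN (𝒜 := 𝒜) (n * d) (op U))

@[simp] theorem sval_gen (n : ℤ) (x : U) :
    sval (gen hfd hU n) x = (((fUnit x.1 f (hU x)) ^ n : (Loc 𝒜 x.1)ˣ) : Loc 𝒜 x.1) := rfl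

/-- `f ^ n` is a free generator of `O(n * d)` over any open on which `f ∈ 𝒜 d` vanishes nowhere. -/
theorem isGen_gen (n : ℤ) : IsGen (twist 𝒜 (n * d)) U (gen hfd hU n) := by
  intro W hW
  constructor
  · intro a b hab
    dsimp only at hab
    refine oval_ext fun x => ?_
    have h1 := congrArg (fun t => sval t x) hab
    simp only [sval_smul, sval_map, sval_gen] at h1
    exact (Units.mul_left_inj _).mp h1
  · intro t
    -- choose the degree-zero part pointwise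
    have hc : ∀ x : W, ∃ c : A0 𝒜 x.1, sval t x =
        c.val * (((fUnit x.1 f (hU ⟨x.1, hW x.2⟩)) ^ n : (Loc 𝒜 x.1)ˣ) : Loc 𝒜 x.1) :=
      fun x => (mem_twistAt_mul_iff (hU ⟨x.1, hW x.2⟩) hfd n).mp (sval_mem t x)
    choose c hc using hc
    have hloc : (ProjectiveSpectrum.StructureSheaf.isLocallyFraction 𝒜).pred c := by
      intro x
      obtain ⟨V, hxV, hVW, i, j, a, s, s_nin, hij, w⟩ := exists_frac t x
      obtain ⟨p, q, N, D, hN, hD, hpq, h⟩ := exists_zpow_eq_mk hfd (-n)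
      have hfV : ∀ y : V, f ∉ y.1.asHomogeneousIdeal := fun y => hU ⟨y.1, hW (hVW y.2)⟩
      have hsD : ∀ y : V, s.1 * D ∉ y.1.asHomogeneousIdeal := fun y hy =>
        (y.1.isPrime.mem_or_mem hy).elim (s_nin y) (h y.1 (hfV y)).1
      have hval : ∀ y : V, (c ⟨y.1, hVW y.2⟩).val = Localization.mk (a.1 * N) ⟨s.1 * D, hsD y⟩ := by
        intro y
        have h1 := hc ⟨y.1, hVW y.2⟩
        have h2 : (c ⟨y.1, hVW y.2⟩).val = sval t ⟨y.1, hVW y.2⟩ *
            (((fUnit y.1 f (hfV y)) ^ (-n) : (Loc 𝒜 y.1)ˣ) : Loc 𝒜 y.1) := by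
          rw [h1, mul_assoc, ← Units.val_mul, ← zpow_add, add_neg_cancel, zpow_zero, Units.val_one,
            mul_one]
        rw [h2, w y, (h y.1 (hfV y)).2, Localization.mk_mul]
        rfl
      have hsDmem : s.1 * D ∈ 𝒜 (j + q) := SetLike.mul_mem_graded s.2 hD
      rcases hij with hij | ha
      · have hdeg : i + p = j + q := by
          have : ((i + p : ℕ) : ℤ) = ((j + q : ℕ) : ℤ) := by push_cast; linarith
          exact_mod_cast this
        have haN : a.1 * N ∈ 𝒜 (j + q) := hdeg ▸ SetLike.mul_mem_graded a.2 hN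
        refine ⟨V, hxV, homOfLE hVW, j + q, ⟨a.1 * N, haN⟩, ⟨s.1 * D, hsDmem⟩, hsD, fun y => ?_⟩
        apply HomogeneousLocalization.val_injective
        rw [HomogeneousLocalization.val_mk]
        exact hval y
      · refine ⟨V, hxV, homOfLE hVW, j + q, ⟨0, zero_mem _⟩, ⟨s.1 * D, hsDmem⟩, hsD, fun y => ?_⟩
        apply HomogeneousLocalization.val_injective
        rw [HomogeneousLocalization.val_mk]
        have := hval y
        rw [ha, zero_mul] at this
        exact this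
    refine ⟨(⟨c, hloc⟩ : O (𝒜 := 𝒜) (op W)), sec_ext fun x => ?_⟩
    rw [sval_smul, sval_map, sval_gen]
    exact (hc x).symm

end Gen

end Groth.Agent.Lib.H4Twist
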