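import Groth.Agent.Lib.H4GrTildeQCoh
import Groth.Agent.Lib.H4ModHom

/-!
# `O(n) ≅ A(n)~` on `Proj` and quasi-coherence of `O(n)` for an arbitrary graded ring (helper4; S3546)

* `loc_smul_eq_mul` : the action of `A_x` on `LocalizedModule _ A = A_x` is multiplication;
* `toT`, `ofT` : the identifications `Γ(O(n), U) ↔ Γ(A(n)~, U)`;
* `twistTildeIso n : twist 𝒜 n ≅ GrTilde.tilde 𝒜 𝒜 n`;
* `isQCoh_twist n` (S3546).
-/

set_option autoImplicit false
set_option linter.unusedSectionVars false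
universe u
open CategoryTheory AlgebraicGeometry TopologicalSpace Opposite
open Groth.Agent.Lib.H4Twist Twist

namespace Groth.Agent.Lib.H4GrTilde

variable {R A : Type u} [CommRing R] [CommRing A] [Algebra R A] {𝒜 : ℕ → Submodule R A} [GradedAlgebra 𝒜]

/-- The action of `A_x` on `LocalizedModule _ A = A_x` is multiplication. -/
theorem loc_smul_eq_mul (x : ProjectiveSpectrum 𝒜) (l q : Loc 𝒜 x) :
    (l • (show GrTilde.LocMod 𝒜 (M := A) x from q) : GrTilde.LocMod 𝒜 (M := A) x) =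
      (show GrTilde.LocMod 𝒜 (M := A) x from l * q) := by
  induction l using Localization.induction_on with
  | H b =>
    induction q using Localization.induction_on with
    | H a =>
      change Localization.mk b.1 b.2 • LocalizedModule.mk a.1 a.2 = _
      rw [LocalizedModule.mk_smul_mk, Localization.mk_mul]
      rfl

variable {n : ℤ} {U V : (Proj 𝒜).Opens}

/-- A section of `O(n)` as a section of `A(n)~`. -/
def toT (τ : Γ(twist 𝒜 n, U)) : Γ(GrTilde.tilde 𝒜 𝒜 n, U) :=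
  show GrTilde.sect 𝒜 𝒜 n (op U) from
  ⟨fun x => ⟨(show GrTilde.LocMod 𝒜 (M := A) x.1 from sval τ x), by
      obtain ⟨W, hxW, hWU, i, j, a, s, s_nin, hd, w⟩ := Groth.Agent.Lib.H4Twist.exists_frac τ x
      have e : sval τ x = Localization.mk a.1 ⟨s.1, s_nin ⟨x.1, hxW⟩⟩ := w ⟨x.1, hxW⟩
      rw [e]
      rcases hd with hd | hd
      · exact Submodule.subset_span ⟨i, j, a, s, s_nin ⟨x.1, hxW⟩, hd, rfl⟩
      · rw [hd, Localization.mk_zero]
        exact Submodule.zero_mem _⟩, by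
    intro x
    obtain ⟨W, hxW, hWU, i, j, a, s, s_nin, hd, w⟩ := Groth.Agent.Lib.H4Twist.exists_frac τ x
    exact ⟨W, hxW, homOfLE hWU, i, j, a, s, s_nin, hd, fun y => w y⟩⟩

/-- A section of `A(n)~` as a section of `O(n)`. -/
def ofT (t : Γ(GrTilde.tilde 𝒜 𝒜 n, U)) : Γ(twist 𝒜 n, U) :=
  show sectN (𝒜 := 𝒜) n (op U) from
  ⟨fun x => ⟨(show Loc 𝒜 x.1 from tval t x), by
      obtain ⟨W, hxW, iWU, i, j, a, s, s_nin, hd, w⟩ := (show GrTilde.sect 𝒜 𝒜 n (op U) from t).2 x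
      have e : tval t x = LocalizedModule.mk a.1 ⟨s.1, s_nin ⟨x.1, hxW⟩⟩ := w ⟨x.1, hxW⟩
      rw [e]
      rcases hd with hd | hd
      · exact Submodule.subset_span ⟨i, j, a, s, s_nin ⟨x.1, hxW⟩, hd, rfl⟩
      · rw [hd, LocalizedModule.zero_mk]
        exact Submodule.zero_mem _⟩, by
    intro x
    obtain ⟨W, hxW, iWU, i, j, a, s, s_nin, hd, w⟩ := (show GrTilde.sect 𝒜 𝒜 n (op U) from t).2 x
    exact ⟨W, hxW, iWU, i, j, a, s, s_nin, hd, fun y => w y⟩⟩

@[simp] theorem tval_toT (τ : Γ(twist 𝒜 n, U)) (x : U) :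
    tval (toT τ) x = (show GrTilde.LocMod 𝒜 (M := A) x.1 from sval τ x) := rfl

@[simp] theorem sval_ofT (t : Γ(GrTilde.tilde 𝒜 𝒜 n, U)) (x : U) :
    sval (ofT t) x = (show Loc 𝒜 x.1 from tval t x) := rfl

variable (𝒜) in
/-- `O(n) ≅ A(n)~`. -/
noncomputable def twistTildeIso (n : ℤ) : twist 𝒜 n ≅ GrTilde.tilde 𝒜 𝒜 n :=
  Groth.Agent.Lib.H4ModHom.isoOfSections (fun _ τ => toT τ) (fun _ t => ofT t)
    (fun _ τ => sec_ext fun x => rfl) (fun _ t => tsec_ext fun x => rfl)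
    (fun _ a b => tsec_ext fun x => rfl)
    (fun _ r a => tsec_ext fun x => by
      rw [tval_toT, sval_smul, tval_smul, tval_toT]
      exact (loc_smul_eq_mul x.1 _ _).symm)
    (fun _ _ => rfl)

variable (𝒜) in
/-- S3546: `O(n)` is quasi-coherent on `Proj` of any graded ring. -/
theorem isQCoh_twist (n : ℤ) : Coh.IsQCoh (twist 𝒜 n) := by
  have h : Coh.IsQCoh (GrTilde.tilde 𝒜 𝒜 n) := isQCoh_tilde (𝒜 := 𝒜) (ℳ := 𝒜) n
  exact (SheafOfModules.isQuasicoherent (Proj 𝒜).ringCatSheaf).prop_of_iso (twistTildeIso 𝒜 n).symm h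

end Groth.Agent.Lib.H4GrTilde
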