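import Groth.Agent.Lib.H79FlatGenFibDim
import Groth.Agent.Lib.H56LocDimSch
import Groth.Agent.Lib.H56LocDimRing2
import Groth.Agent.Lib.H56FibDimSmooth
import Groth.Agent.Lib.H30DimFieldRing
import Groth.Agent.Lib.CMQF33b
import Groth.Agent.Lib.TrdegTransfer
import Groth.Agent.Lib.GenericFibrePoint2
import Mathlib

/-!
# helper79: flatness and the local dimension of fibres, ring level (no finite presentation)

* `fibLocDim_eq_add`: for `A → C` of finite type and a prime `q` of `C` over `p`:
  `dim_q (fibre) = dim (C_q ⧸ p C_q) + trdeg (A ⧸ p) (C ⧸ q)`;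
* `exists_prime_fibLocDim_eq_of_flat`: if `C_q` is `A`-flat and `p' ⊆ q ∩ A`, there is `q' ⊆ q`
  over `p'` with the same local fibre dimension (flat going-down with dimension);
* `fibLocDim_eq_trdeg_of_flat`: for domains `A ⊆ C`, `C_q` flat: `dim_q (fibre) = trdeg_A C`;
* `trdeg_square`: transcendence degrees in a commutative square, stated with ring homs only.
-/

set_option autoImplicit false
set_option linter.style.haveILetI false
universe u v
open TensorProduct CategoryTheory AlgebraicGeometry

namespace Groth.Agent.Lib.H79FlatGenFibDimRing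

open Groth.Agent.Lib.H56LocDim

/-- an element `x` with `c x = d`, `c ≠ 0`, is algebraic. -/
theorem isAlgebraic_of_mul_eq {R S : Type*} [CommRing R] [CommRing S] [Algebra R S] [Nontrivial R]
    (x : S) (c d : R) (hc : c ≠ 0) (h : algebraMap R S c * x = algebraMap R S d) :
    IsAlgebraic R x := by
  refine ⟨Polynomial.C c * Polynomial.X - Polynomial.C d, ?_, ?_⟩
  · intro h0
    have := congrArg (fun P => Polynomial.coeff P 1) h0
    simp at this
    exact hc this
  · simp [h]

/-- **Transcendence degree in a commutative square with "fraction-like" vertical maps**, in terms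
of ring homomorphisms only (to avoid instance clashes). -/
theorem trdeg_square {A₀ : Type u} {B₀ K L : Type v} [CommRing A₀] [Nontrivial A₀] [CommRing B₀]
    [Nontrivial B₀] [Field K] [CommRing L] [IsDomain L]
    (f : A₀ →+* B₀) (g : A₀ →+* K) (h : K →+* L) (j : B₀ →+* L) (comm : h.comp g = j.comp f)
    (hf : Function.Injective f) (hg : Function.Injective g) (hj : Function.Injective j)
    (alg1 : ∀ x : K, ∃ a : A₀, a ≠ 0 ∧ ∃ b : A₀, g a * x = g b)
    (alg2 : ∀ y : L, ∃ c : B₀, c ≠ 0 ∧ ∃ d : B₀, j c * y = j d) :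
    @Algebra.trdeg K L _ _ h.toAlgebra = @Algebra.trdeg A₀ B₀ _ _ f.toAlgebra := by
  letI i1 : Algebra A₀ B₀ := f.toAlgebra
  letI i2 : Algebra A₀ K := g.toAlgebra
  letI i3 : Algebra K L := h.toAlgebra
  letI i4 : Algebra B₀ L := j.toAlgebra
  letI i5 : Algebra A₀ L := (h.comp g).toAlgebra
  haveI : IsScalarTower A₀ K L := .of_algebraMap_eq fun _ => rfl
  haveI : IsScalarTower A₀ B₀ L := .of_algebraMap_eq fun x => by
    change (h.comp g) x = (j.comp f) x
    rw [comm]
  haveI : FaithfulSMul A₀ K := (faithfulSMul_iff_algebraMap_injective _ _).mpr hg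
  haveI : FaithfulSMul K L := (faithfulSMul_iff_algebraMap_injective _ _).mpr h.injective
  haveI : FaithfulSMul A₀ B₀ := (faithfulSMul_iff_algebraMap_injective _ _).mpr hf
  haveI : FaithfulSMul B₀ L := (faithfulSMul_iff_algebraMap_injective _ _).mpr hj
  haveI : Algebra.IsAlgebraic A₀ K := ⟨fun x => by
    obtain ⟨a, ha, b, hab⟩ := alg1 x
    exact isAlgebraic_of_mul_eq x a b ha hab⟩
  haveI : Algebra.IsAlgebraic B₀ L := ⟨fun y => by
    obtain ⟨c, hc, d, hcd⟩ := alg2 y
    exact isAlgebraic_of_mul_eq y c d hc hcd⟩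
  exact Groth.Agent.Lib.TrdegTransfer.trdeg_eq_of_isAlgebraic_square (A := A₀) (B := B₀) (K := K)
    (L := L)

section Field

variable (k : Type u) {S : Type u} [Field k] [CommRing S] [Algebra k S]

/-- `trdeg_k κ(P) = trdeg_k (S ⧸ P)`. -/
theorem trdeg_residueField_eq_quotient (P : Ideal S) [P.IsPrime] :
    Algebra.trdeg k P.ResidueField = Algebra.trdeg k (S ⧸ P) := by
  haveI : Algebra.IsAlgebraic (S ⧸ P) P.ResidueField :=
    IsLocalization.isAlgebraic P.ResidueField (nonZeroDivisors (S ⧸ P))
  haveI : FaithfulSMul (S ⧸ P) P.ResidueField :=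
    (faithfulSMul_iff_algebraMap_injective _ _).mpr
      (IsFractionRing.injective (S ⧸ P) P.ResidueField)
  haveI : FaithfulSMul k (S ⧸ P) :=
    (faithfulSMul_iff_algebraMap_injective _ _).mpr (algebraMap k (S ⧸ P)).injective
  haveI : FaithfulSMul k P.ResidueField :=
    (faithfulSMul_iff_algebraMap_injective _ _).mpr (algebraMap k P.ResidueField).injective
  exact Groth.Agent.Lib.TrdegTransfer.trdeg_eq_of_isAlgebraic_square (A := k) (B := S ⧸ P) (K := k)
    (L := P.ResidueField)

/-- local dimension of `Spec S` at `P` in terms of `trdeg_k (S ⧸ P)`. -/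
theorem localDim_primeSpectrum_quotient [Algebra.FiniteType k S] (P : Ideal S) [P.IsPrime] (r : ℕ)
    (hr : Algebra.trdeg k (S ⧸ P) = r) :
    FlatMor.localDim (PrimeSpectrum S) ⟨P, inferInstance⟩ =
      ringKrullDim (Localization.AtPrime P) + (r : WithBot ℕ∞) :=
  Groth.Agent.Lib.H30DimFieldRing.localDim_primeSpectrum (k := k) P r
    ((trdeg_residueField_eq_quotient k P).trans hr)

end Field

variable {A C : Type u} [CommRing A] [CommRing C] [Algebra A C]

section Formula

/-- transport of the fibre local ring dimension along an equality of primes. -/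
theorem ringKrullDim_fibreLocalRing_congr (p : Ideal A) (q₁ q₂ : Ideal C) [q₁.IsPrime] [q₂.IsPrime]
    (h : q₁ = q₂) :
    ringKrullDim (Localization.AtPrime q₁ ⧸ p.map (algebraMap A (Localization.AtPrime q₁))) =
      ringKrullDim (Localization.AtPrime q₂ ⧸ p.map (algebraMap A (Localization.AtPrime q₂))) := by
  subst h; rfl

/-- the quotient of the fibre ring by a prime has the transcendence degree of `C ⧸ q` over
`A ⧸ q ∩ A`. -/
theorem trdeg_fiber_quotient_eq (q : Ideal C) [q.IsPrime]
    (Q : Ideal ((q.under A).Fiber C)) [Q.IsPrime]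
    (hQ : Q.comap (Algebra.TensorProduct.includeRight : C →ₐ[A] (q.under A).Fiber C) = q) :
    Algebra.trdeg (q.under A).ResidueField ((q.under A).Fiber C ⧸ Q) =
      Algebra.trdeg (A ⧸ q.under A) (C ⧸ q) := by
  let p := q.under A
  let incl : C →ₐ[A] p.Fiber C := Algebra.TensorProduct.includeRight
  have hle : q ≤ Q.comap (incl : C →+* p.Fiber C) := hQ.ge
  let f : A ⧸ p →+* C ⧸ q := algebraMap (A ⧸ p) (C ⧸ q)
  let g : A ⧸ p →+* p.ResidueField := algebraMap (A ⧸ p) p.ResidueField
  let h : p.ResidueField →+* p.Fiber C ⧸ Q := algebraMap p.ResidueField (p.Fiber C ⧸ Q)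
  let j : C ⧸ q →+* p.Fiber C ⧸ Q := Ideal.quotientMap Q (incl : C →+* p.Fiber C) hle
  have key := trdeg_square (A₀ := A ⧸ p) (B₀ := C ⧸ q) (K := p.ResidueField) (L := p.Fiber C ⧸ Q)
    f g h j ?_ ?_ ?_ ?_ ?_ ?_
  · convert key using 2
    · rfl
    · exact Algebra.algebra_ext _ _ (fun r => rfl)
    · exact Algebra.algebra_ext _ _ (fun r => rfl)
  · -- commutativity
    ext a
    have h1 : ((h.comp g).comp (Ideal.Quotient.mk p)) a =
        Ideal.Quotient.mk Q (algebraMap A (p.Fiber C) a) := by
      change h (g (Ideal.Quotient.mk p a)) = _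
      have : g (Ideal.Quotient.mk p a) = algebraMap A p.ResidueField a := rfl
      rw [this, IsScalarTower.algebraMap_apply A p.ResidueField (p.Fiber C)]
      rfl
    have h2 : ((j.comp f).comp (Ideal.Quotient.mk p)) a =
        Ideal.Quotient.mk Q ((1 : p.ResidueField) ⊗ₜ[A] (algebraMap A C a)) := by
      change j (Ideal.Quotient.mk q (algebraMap A C a)) = _
      rfl
    rw [h1, h2]
    congr 1
    rw [Algebra.algebraMap_eq_smul_one, Algebra.algebraMap_eq_smul_one a,
      Algebra.TensorProduct.one_def, TensorProduct.tmul_smul]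
  · exact FaithfulSMul.algebraMap_injective (A ⧸ p) (C ⧸ q)
  · exact Ideal.injective_algebraMap_quotient_residueField p
  · exact Ideal.quotientMap_injective' (le_of_eq hQ)
  · intro x
    obtain ⟨⟨b, a⟩, hab⟩ := IsLocalization.surj (nonZeroDivisors (A ⧸ p)) x
    exact ⟨a.1, nonZeroDivisors.ne_zero a.2, b, by rw [mul_comm]; exact hab⟩
  · intro y
    obtain ⟨x, rfl⟩ := Ideal.Quotient.mk_surjective y
    obtain ⟨r, hr, s, hrs⟩ := Ideal.Fiber.exists_smul_eq_one_tmul p x
    refine ⟨Ideal.Quotient.mk q (algebraMap A C r), ?_, Ideal.Quotient.mk q s, ?_⟩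
    · rw [Ne, Ideal.Quotient.eq_zero_iff_mem]
      exact hr
    · have hj : ∀ c : C, j (Ideal.Quotient.mk q c) =
          Ideal.Quotient.mk Q ((1 : p.ResidueField) ⊗ₜ[A] c) := fun c => rfl
      rw [hj, hj, ← map_mul]
      congr 1
      change ((1 : p.ResidueField) ⊗ₜ[A] (algebraMap A C r)) * x = (1 : p.ResidueField) ⊗ₜ[A] s
      rw [← hrs, Algebra.smul_def, Algebra.algebraMap_eq_smul_one r,
        Algebra.algebraMap_eq_smul_one (A := p.Fiber C) r,
        Algebra.TensorProduct.one_def, TensorProduct.tmul_smul]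

/-- **The local dimension of the fibre at a prime, ring level**: for `A → C` of finite type and a
prime `q` of `C` over `p = q ∩ A`:
`dim_q (Spec C)_p = dim (C_q ⧸ p C_q) + trdeg (A ⧸ p) (C ⧸ q)`. -/
theorem fibLocDim_eq_add [Algebra.FiniteType A C] (q : Ideal C) [q.IsPrime] (r : ℕ)
    (hr : Algebra.trdeg (A ⧸ q.under A) (C ⧸ q) = r) :
    fibLocDim (PrimeSpectrum.comap (algebraMap A C)) ⟨q, inferInstance⟩ =
      ringKrullDim (Localization.AtPrime q ⧸
        (q.under A).map (algebraMap A (Localization.AtPrime q))) + (r : WithBot ℕ∞) := by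
  obtain ⟨Q, hQprime, hQ⟩ := Groth.Agent.Lib.CMQF33.exists_fiber_prime (q.under A) q rfl
  have h1 := fibLocDim_eq_localDim_fiber (R := A) (S := C) ⟨q.under A, inferInstance⟩ ⟨Q, hQprime⟩
  have hpt : PrimeSpectrum.comap (Algebra.TensorProduct.includeRight.toRingHom :
      C →+* (q.under A).Fiber C) ⟨Q, hQprime⟩ = ⟨q, inferInstance⟩ := PrimeSpectrum.ext hQ
  rw [hpt] at h1
  rw [h1, localDim_primeSpectrum_quotient (q.under A).ResidueField Q r
    ((trdeg_fiber_quotient_eq q Q hQ).trans hr),
    ringKrullDim_eq_of_ringEquiv (Groth.Agent.Lib.CMQF33.fiberLocEquiv (q.under A) Q),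
    ringKrullDim_fibreLocalRing_congr (q.under A) _ q hQ]

end Formula

section Bridge

/-- `fibreDimAt` of `Spec.map` is `fibLocDim` of `comap`. -/
theorem fibreDimAt_specMap (x : ↥(Spec (CommRingCat.of C))) :
    FlatMor.fibreDimAt (Spec.map (CommRingCat.ofHom (algebraMap A C))) x =
      fibLocDim (PrimeSpectrum.comap (algebraMap A C)) (show PrimeSpectrum C from x) := by
  rw [fibreDimAt_eq_fibLocDim]
  rfl

/-- flatness of the stalk map of `Spec.map` from flatness of the localization. -/
theorem flat_stalkMap_specMap (q : PrimeSpectrum C) [Module.Flat A (Localization.AtPrime q.asIdeal)] :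
    ((Spec.map (CommRingCat.ofHom (algebraMap A C))).stalkMap
      (show ↥(Spec (CommRingCat.of C)) from q)).hom.Flat := by
  have h1 : (Localization.localRingHom (q.asIdeal.comap (algebraMap A C)) q.asIdeal
      (algebraMap A C) rfl).Flat := by
    set p' := q.asIdeal.comap (algebraMap A C) with hp'
    algebraize [Localization.localRingHom p' q.asIdeal (algebraMap A C) rfl]
    have : IsScalarTower A (Localization.AtPrime p') (Localization.AtPrime q.asIdeal) :=
      .of_algebraMap_eq fun x ↦ (Localization.localRingHom_to_map _ _ _ rfl x).symm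
    rw [RingHom.Flat, Module.flat_iff_of_isLocalization
      (S := (Localization.AtPrime p')) (p := p'.primeCompl)]
    infer_instance
  exact (RingHom.Flat.respectsIso.arrow_mk_iso_iff
    (Scheme.arrowStalkMapSpecIso (CommRingCat.ofHom (algebraMap A C)) q)).2 h1

/-- **Flat going-down with fibre dimension, ring level.** -/
theorem exists_prime_fibLocDim_eq_of_flat [Algebra.FiniteType A C] (q : PrimeSpectrum C)
    [Module.Flat A (Localization.AtPrime q.asIdeal)] (p' : PrimeSpectrum A)
    (hp' : p' ⤳ PrimeSpectrum.comap (algebraMap A C) q) :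
    ∃ q' : PrimeSpectrum C, q' ⤳ q ∧ PrimeSpectrum.comap (algebraMap A C) q' = p' ∧
      fibLocDim (PrimeSpectrum.comap (algebraMap A C)) q' =
        fibLocDim (PrimeSpectrum.comap (algebraMap A C)) q := by
  have : LocallyOfFiniteType (Spec.map (CommRingCat.ofHom (algebraMap A C))) := by
    rw [HasRingHomProperty.Spec_iff (P := @LocallyOfFiniteType)]
    exact (RingHom.finiteType_algebraMap (A := A) (B := C)).2 inferInstance
  obtain ⟨ξ, h1, h2, h3⟩ :=
    Groth.Agent.Lib.H79FlatGenFibDim.exists_generization_fibreDimAt_eq_of_flat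
      (Spec.map (CommRingCat.ofHom (algebraMap A C))) (show ↥(Spec (CommRingCat.of C)) from q)
      (flat_stalkMap_specMap q) (show ↥(Spec (CommRingCat.of A)) from p') hp'
  refine ⟨ξ, h1, h2, ?_⟩
  rw [fibreDimAt_specMap, fibreDimAt_specMap] at h3
  exact h3

end Bridge

section GenericFibre

variable [IsDomain A] [IsDomain C] [FaithfulSMul A C]

/-- the canonical map from the generic fibre ring to the fraction field. -/
noncomputable def fiberBotToFrac : (⊥ : Ideal A).Fiber C →ₐ[A] FractionRing C :=
  Algebra.TensorProduct.lift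
    (Ideal.ResidueField.liftₐ (⊥ : Ideal A) (Algebra.ofId A (FractionRing C)) (by simp)
      (by
        intro x hx
        have hx0 : x ≠ 0 := fun h => hx (by simp [h])
        have : algebraMap A (FractionRing C) x ≠ 0 := by
          rw [IsScalarTower.algebraMap_apply A C (FractionRing C)]
          intro h
          have h1 := (IsFractionRing.injective C (FractionRing C)) (h.trans (map_zero _).symm)
          exact hx0 ((FaithfulSMul.algebraMap_injective A C) (h1.trans (map_zero _).symm))
        exact this.isUnit))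
    (IsScalarTower.toAlgHom A C (FractionRing C)) (fun _ _ => Commute.all _ _)

theorem fiberBotToFrac_one_tmul (c : C) :
    fiberBotToFrac (A := A) ((1 : (⊥ : Ideal A).ResidueField) ⊗ₜ[A] c) =
      algebraMap C (FractionRing C) c := by
  simp [fiberBotToFrac]

theorem fiberBotToFrac_injective : Function.Injective (fiberBotToFrac (A := A) (C := C)) := by
  rw [injective_iff_map_eq_zero]
  intro x hx
  obtain ⟨r, hr, c, hrc⟩ := Ideal.Fiber.exists_smul_eq_one_tmul (⊥ : Ideal A) x
  have hr0 : r ≠ 0 := fun h => hr (by simp [h])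
  have h1 : fiberBotToFrac (A := A) (r • x) = 0 := by rw [map_smul, hx, smul_zero]
  rw [hrc, fiberBotToFrac_one_tmul] at h1
  have hc : c = 0 := (IsFractionRing.injective C (FractionRing C)) (h1.trans (map_zero _).symm)
  rw [hc, tmul_zero] at hrc
  have hunit : IsUnit (algebraMap A (⊥ : Ideal A).ResidueField r) := by
    apply IsUnit.mk0
    intro h
    rw [Ideal.algebraMap_residueField_eq_zero] at h
    exact hr h
  obtain ⟨u, hu⟩ := hunit
  have : x = (↑u⁻¹ : (⊥ : Ideal A).ResidueField) • (r • x) := by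
    rw [← algebraMap_smul (⊥ : Ideal A).ResidueField r x, ← hu, smul_smul, Units.inv_mul, one_smul]
  rw [this, hrc, smul_zero]

instance isDomain_fiber_bot : IsDomain ((⊥ : Ideal A).Fiber C) :=
  Function.Injective.isDomain (fiberBotToFrac (A := A) (C := C)).toRingHom fiberBotToFrac_injective

/-- the local fibre dimension is constant on the generic fibre of a finite type extension of
domains. -/
theorem fibLocDim_eq_of_under_eq_bot [Algebra.FiniteType A C] (q₁ q₂ : Ideal C) [q₁.IsPrime]
    [q₂.IsPrime] (h₁ : q₁.under A = ⊥) (h₂ : q₂.under A = ⊥) :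
    fibLocDim (PrimeSpectrum.comap (algebraMap A C)) ⟨q₁, inferInstance⟩ =
      fibLocDim (PrimeSpectrum.comap (algebraMap A C)) ⟨q₂, inferInstance⟩ := by
  have key : ∀ (q : Ideal C) [q.IsPrime], q.under A = ⊥ →
      fibLocDim (PrimeSpectrum.comap (algebraMap A C)) ⟨q, inferInstance⟩ =
        ringKrullDim ((⊥ : Ideal A).Fiber C) := by
    intro q _ hq
    obtain ⟨Q, hQprime, hQ⟩ := Groth.Agent.Lib.CMQF33.exists_fiber_prime (⊥ : Ideal A) q hq
    have h1 := fibLocDim_eq_localDim_fiber (R := A) (S := C) ⟨⊥, Ideal.isPrime_bot⟩ ⟨Q, hQprime⟩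
    have hpt : PrimeSpectrum.comap (Algebra.TensorProduct.includeRight.toRingHom :
        C →+* (⊥ : Ideal A).Fiber C) ⟨Q, hQprime⟩ = ⟨q, inferInstance⟩ := PrimeSpectrum.ext hQ
    rw [hpt] at h1
    rw [h1]
    exact localDim_primeSpectrum_of_isDomain (⊥ : Ideal A).ResidueField _ _
  rw [key q₁ h₁, key q₂ h₂]

/-- at the generic point of a finite type extension of domains, the local fibre dimension is the
transcendence degree. -/
theorem fibLocDim_bot [Algebra.FiniteType A C] (n : ℕ) (hn : Algebra.trdeg A C = n) :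
    fibLocDim (PrimeSpectrum.comap (algebraMap A C)) ⟨⊥, Ideal.isPrime_bot⟩ = (n : WithBot ℕ∞) := by
  have hbot : (⊥ : Ideal C).under A = ⊥ := by
    rw [Ideal.under_def]
    exact Ideal.comap_bot_of_injective _ (FaithfulSMul.algebraMap_injective A C)
  haveI : (⊥ : Ideal C).IsPrime := Ideal.isPrime_bot
  have hr : Algebra.trdeg (A ⧸ (⊥ : Ideal C).under A) (C ⧸ (⊥ : Ideal C)) = n := by
    rw [← hn]
    refine Groth.Agent.Lib.TrdegTransfer.trdeg_eq_of_ringEquiv
      ((Ideal.quotEquivOfEq hbot).trans (RingEquiv.quotientBot A)) (RingEquiv.quotientBot C) ?_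
    intro a'
    obtain ⟨a, rfl⟩ := Ideal.Quotient.mk_surjective a'
    rfl
  rw [fibLocDim_eq_add (⊥ : Ideal C) n hr]
  have h0 : ringKrullDim (Localization.AtPrime (⊥ : Ideal C) ⧸
      ((⊥ : Ideal C).under A).map (algebraMap A (Localization.AtPrime (⊥ : Ideal C)))) = 0 := by
    apply le_antisymm
    · refine (ringKrullDim_quotient_le _).trans ?_
      rw [IsLocalization.AtPrime.ringKrullDim_eq_height (⊥ : Ideal C), Ideal.height_bot]
      rfl
    · haveI : Nontrivial (Localization.AtPrime (⊥ : Ideal C) ⧸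
          ((⊥ : Ideal C).under A).map (algebraMap A (Localization.AtPrime (⊥ : Ideal C)))) := by
        rw [Ideal.Quotient.nontrivial_iff, hbot, Ideal.map_bot]
        exact bot_ne_top
      exact ringKrullDim_nonneg_of_nontrivial
  rw [h0, zero_add]

/-- **Flatness and the transcendence degree**: for a finite type extension of domains `A ⊆ C` and a
prime `q` with `C_q` flat over `A`, the local dimension at `q` of its fibre is `trdeg_A C`. -/
theorem fibLocDim_eq_trdeg_of_flat [Algebra.FiniteType A C] (q : Ideal C) [q.IsPrime]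
    [Module.Flat A (Localization.AtPrime q)] (n : ℕ) (hn : Algebra.trdeg A C = n) :
    fibLocDim (PrimeSpectrum.comap (algebraMap A C)) ⟨q, inferInstance⟩ = (n : WithBot ℕ∞) := by
  obtain ⟨q', -, hq'2, hq'3⟩ := exists_prime_fibLocDim_eq_of_flat (A := A)
    (⟨q, inferInstance⟩ : PrimeSpectrum C) ⟨⊥, Ideal.isPrime_bot⟩
    ((PrimeSpectrum.le_iff_specializes _ _).1 bot_le)
  rw [← hq'3, ← fibLocDim_bot n hn]
  haveI : (⊥ : Ideal C).IsPrime := Ideal.isPrime_bot
  have h1 : q'.asIdeal.under A = ⊥ := congrArg PrimeSpectrum.asIdeal hq'2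
  have hbot : (⊥ : Ideal C).under A = ⊥ := by
    rw [Ideal.under_def]
    exact Ideal.comap_bot_of_injective _ (FaithfulSMul.algebraMap_injective A C)
  exact fibLocDim_eq_of_under_eq_bot q'.asIdeal ⊥ h1 hbot

end GenericFibre

end Groth.Agent.Lib.H79FlatGenFibDimRing
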