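import Mathlib
import Groth.Agent.Lib.H80UnibranchOpen2
import Groth.Agent.Lib.OpenAt45
import Groth.Agent.Lib.H79FlatGenFibDimRing

/-!
# helper56: closed points of the generic fibre specializing to a closed point of a special fibre
(ring-level tools, part 1)

* `isOpenAt_of_isIntegrallyClosed`, `exists_le_comap_eq`: openness / generization lifting at a
  quasi-finite point over a normal domain (via helper80's ZMT openness).
* `isAlgebraic_of_quasiFinite`: a quasi-finite extension of domains is algebraic.
* `exists_prime_polynomial`: horizontal primes `(H + c)` of `V[X]` through a closed point of the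
  special fibre, avoiding a given nonzero polynomial.
-/

set_option autoImplicit false
universe u
open PrimeSpectrum TensorProduct Polynomial

namespace Groth.Agent.Lib.H56ClosedFib

/-- openness at a quasi-finite point over a normal domain -/
theorem isOpenAt_of_isIntegrallyClosed {A B : Type u} [CommRing A] [IsDomain A]
    [IsIntegrallyClosed A] [CommRing B] [IsDomain B] [Algebra A B]
    (hinj : Function.Injective (algebraMap A B)) [Algebra.FiniteType A B] (q : PrimeSpectrum B)
    [Algebra.QuasiFiniteAt A q.asIdeal] :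
    EGA43.IsOpenAt (comap (algebraMap A B)) q := by
  have hD : IsIntegrallyClosed (Localization.AtPrime (q.asIdeal.comap (algebraMap A B))) :=
    isIntegrallyClosed_of_isLocalization _ (q.asIdeal.comap (algebraMap A B)).primeCompl
      (Ideal.primeCompl_le_nonZeroDivisors _)
  have hbot : integralClosure (Localization.AtPrime (q.asIdeal.comap (algebraMap A B)))
      (FractionRing A) = ⊥ :=
    IsIntegrallyClosed.integralClosure_eq_bot _ _
  have hloc : IsLocalRing (integralClosure (Localization.AtPrime (q.asIdeal.comap (algebraMap A B)))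
      (FractionRing A)) := by
    rw [hbot]
    exact RingEquiv.isLocalRing
      (Algebra.botEquivOfInjective (IsFractionRing.injective _ _)).toRingEquiv.symm
  exact Groth.Agent.Lib.H80UnibranchOpen.isOpenAt_comap_of_quasiFiniteAt hinj q
    (Localization.AtPrime (q.asIdeal.comap (algebraMap A B)))
    (FractionRing A)

/-- generization lifting at a quasi-finite point over a normal domain -/
theorem exists_le_comap_eq {A B : Type u} [CommRing A] [IsDomain A]
    [IsIntegrallyClosed A] [CommRing B] [IsDomain B] [Algebra A B]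
    (hinj : Function.Injective (algebraMap A B)) [Algebra.FiniteType A B] (q : Ideal B)
    [q.IsPrime] [Algebra.QuasiFiniteAt A q] (P : Ideal A) [P.IsPrime]
    (hP : P ≤ q.comap (algebraMap A B)) :
    ∃ Q : Ideal B, Q.IsPrime ∧ Q ≤ q ∧ Q.comap (algebraMap A B) = P := by
  have hopen := isOpenAt_of_isIntegrallyClosed hinj (⟨q, inferInstance⟩ : PrimeSpectrum B)
  obtain ⟨x', hx', hfx'⟩ := Groth.Agent.Lib.OpenAt45.exists_generization_of_isOpenAt
    (AlgebraicGeometry.Spec.map (CommRingCat.ofHom (algebraMap A B)))
    (⟨q, inferInstance⟩ : PrimeSpectrum B) hopen (⟨P, inferInstance⟩ : PrimeSpectrum A)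
    ((PrimeSpectrum.le_iff_specializes _ _).mp hP)
  refine ⟨x'.asIdeal, x'.2, (PrimeSpectrum.le_iff_specializes x' ⟨q, inferInstance⟩).mpr hx', ?_⟩
  exact congrArg PrimeSpectrum.asIdeal hfx'

end Groth.Agent.Lib.H56ClosedFib

namespace Groth.Agent.Lib.H56ClosedFib

open Groth.Agent.Lib.H79FlatGenFibDimRing in
/-- a quasi-finite extension of domains is algebraic -/
theorem isAlgebraic_of_quasiFinite {R S : Type u} [CommRing R] [IsDomain R] [CommRing S]
    [IsDomain S] [Algebra R S] [FaithfulSMul R S] [Algebra.QuasiFinite R S] :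
    Algebra.IsAlgebraic R S := by
  refine ⟨fun s => ?_⟩
  have hfin : Module.Finite (⊥ : Ideal R).ResidueField ((⊥ : Ideal R).Fiber S) := inferInstance
  have h1 : IsAlgebraic (⊥ : Ideal R).ResidueField
      ((1 : (⊥ : Ideal R).ResidueField) ⊗ₜ[R] s : (⊥ : Ideal R).Fiber S) :=
    (Algebra.IsIntegral.isIntegral (R := (⊥ : Ideal R).ResidueField) _).isAlgebraic
  have h2 : Algebra.IsAlgebraic (R ⧸ (⊥ : Ideal R)) (⊥ : Ideal R).ResidueField :=
    IsLocalization.isAlgebraic _ (nonZeroDivisors (R ⧸ (⊥ : Ideal R)))
  have h2' : Algebra.IsAlgebraic R (R ⧸ (⊥ : Ideal R)) :=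
    have : Algebra.IsIntegral R (R ⧸ (⊥ : Ideal R)) :=
      Algebra.isIntegral_of_surjective Ideal.Quotient.mk_surjective
    inferInstance
  have h3 : Algebra.IsAlgebraic R (⊥ : Ideal R).ResidueField :=
    Algebra.IsAlgebraic.trans R (R ⧸ (⊥ : Ideal R)) _
  have h4 : IsAlgebraic R
      ((1 : (⊥ : Ideal R).ResidueField) ⊗ₜ[R] s : (⊥ : Ideal R).Fiber S) :=
    h1.restrictScalars R
  have h5 : IsAlgebraic R (fiberBotToFrac (A := R) (C := S)
      ((1 : (⊥ : Ideal R).ResidueField) ⊗ₜ[R] s)) := h4.algHom _
  rw [fiberBotToFrac_one_tmul] at h5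
  exact (isAlgebraic_algebraMap_iff (IsFractionRing.injective S (FractionRing S))).mp h5

end Groth.Agent.Lib.H56ClosedFib

namespace Groth.Agent.Lib.H56ClosedFib

/-- a nonzero ideal of a domain that is not a field contains a sequence of distinct elements -/
theorem exists_injective_seq_maximalIdeal {V : Type u} [CommRing V] [IsDomain V] [IsLocalRing V]
    (hm : IsLocalRing.maximalIdeal V ≠ ⊥) :
    ∃ c : ℕ → V, Function.Injective c ∧ ∀ k, c k ∈ IsLocalRing.maximalIdeal V := by
  obtain ⟨π, hπm, hπ0⟩ := Submodule.exists_mem_ne_zero_of_ne_bot hm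
  refine ⟨fun k => π ^ (k + 1), ?_, fun k => Ideal.pow_mem_of_mem _ hπm _ (Nat.succ_pos k)⟩
  have hnu : ¬ IsUnit π := (IsLocalRing.mem_maximalIdeal π).mp hπm
  intro i j hij
  have := pow_injective_of_not_isUnit hnu hπ0 hij
  omega

/-- Over a field, a nonzero polynomial is divisible by only finitely many members of a family of
pairwise coprime monic polynomials of positive degree. -/
theorem exists_not_dvd_of_pairwise_isCoprime {K : Type u} [Field K] (G : ℕ → K[X])
    (hmonic : ∀ k, (G k).Monic) (hdeg : ∀ k, 0 < (G k).natDegree)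
    (hcop : Pairwise (fun i j => IsCoprime (G i) (G j))) (h : K[X]) (hh : h ≠ 0) :
    ∃ k, ¬ G k ∣ h := by
  by_contra hall
  push Not at hall
  have hprod : ∀ n : ℕ, (∏ k ∈ Finset.range n, G k) ∣ h := fun n =>
    Finset.prod_dvd_of_coprime (fun i _ j _ hij => hcop hij) (fun i _ => hall i)
  have hdegprod : ∀ n : ℕ, n ≤ (∏ k ∈ Finset.range n, G k).natDegree := by
    intro n
    rw [Polynomial.natDegree_prod_of_monic _ _ (fun i _ => hmonic i)]
    calc n = ∑ _k ∈ Finset.range n, 1 := by simp
      _ ≤ ∑ k ∈ Finset.range n, (G k).natDegree := Finset.sum_le_sum (fun k _ => hdeg k)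
  have := Polynomial.natDegree_le_of_dvd (hprod (h.natDegree + 1)) hh
  have := hdegprod (h.natDegree + 1)
  omega

end Groth.Agent.Lib.H56ClosedFib

namespace Groth.Agent.Lib.H56ClosedFib

/-- Over an integrally closed local domain `V` which is not a field: given a monic `H ∈ V[X]` with
irreducible reduction and `h ≠ 0`, there is `c ∈ 𝔪` and a nonzero prime `P₂` of `V[X]` over `⊥`,
avoiding `h`, all of whose elements are multiples of `H + c`. -/
theorem exists_prime_polynomial {V : Type u} [CommRing V] [IsDomain V] [IsLocalRing V]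
    [IsIntegrallyClosed V] (hm : IsLocalRing.maximalIdeal V ≠ ⊥)
    (H : V[X]) (hH : H.Monic) (hirr : Irreducible (H.map (IsLocalRing.residue V)))
    (h : V[X]) (hh : h ≠ 0) :
    ∃ c ∈ IsLocalRing.maximalIdeal V, ∃ P₂ : Ideal V[X], P₂.IsPrime ∧ P₂ ≠ ⊥ ∧
      P₂.comap (C : V →+* V[X]) = ⊥ ∧ h ∉ P₂ ∧ ∀ F ∈ P₂, (H + C c) ∣ F := by
  classical
  have hιinj : Function.Injective (algebraMap V (FractionRing V)) :=
    IsFractionRing.injective V (FractionRing V)
  have hdegH : 0 < H.natDegree := by
    have h1 : (H.map (IsLocalRing.residue V)).natDegree = H.natDegree := hH.natDegree_map _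
    rw [← h1]
    exact hirr.natDegree_pos
  -- the perturbed polynomials
  have hmonic : ∀ c : V, (H + C c).Monic := fun c =>
    hH.add_of_left (by
      rw [Polynomial.degree_eq_natDegree hH.ne_zero]
      exact lt_of_le_of_lt Polynomial.degree_C_le (by exact_mod_cast hdegH))
  have hnat : ∀ c : V, (H + C c).natDegree = H.natDegree := fun c => by
    apply Polynomial.natDegree_add_eq_left_of_degree_lt
    rw [Polynomial.degree_eq_natDegree hH.ne_zero]
    exact lt_of_le_of_lt Polynomial.degree_C_le (by exact_mod_cast hdegH)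
  have hirrK : ∀ c ∈ IsLocalRing.maximalIdeal V,
      Irreducible ((H + C c).map (algebraMap V (FractionRing V))) := by
    intro c hc
    have h1 : (H + C c).map (IsLocalRing.residue V) = H.map (IsLocalRing.residue V) := by
      rw [Polynomial.map_add, Polynomial.map_C, (IsLocalRing.residue_eq_zero_iff c).mpr hc, map_zero,
        add_zero]
    have h2 : Irreducible (H + C c) :=
      Polynomial.Monic.irreducible_of_irreducible_map (IsLocalRing.residue V) _ (hmonic c)
        (h1 ▸ hirr)
    exact (Polynomial.Monic.irreducible_iff_irreducible_map_fraction_map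
      (K := FractionRing V) (hmonic c)).mp h2
  -- choice of `c`
  obtain ⟨cs, hcsinj, hcsm⟩ := exists_injective_seq_maximalIdeal hm
  have hhK : h.map (algebraMap V (FractionRing V)) ≠ 0 :=
    (Polynomial.map_ne_zero_iff hιinj).mpr hh
  obtain ⟨k, hk⟩ := exists_not_dvd_of_pairwise_isCoprime
    (fun k => (H + C (cs k)).map (algebraMap V (FractionRing V)))
    (fun k => (hmonic (cs k)).map _)
    (fun k => by rw [(hmonic (cs k)).natDegree_map, hnat]; exact hdegH)
    (by
      intro i j hij
      have hne : algebraMap V (FractionRing V) (cs i) - algebraMap V (FractionRing V) (cs j) ≠ 0 := by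
        rw [sub_ne_zero]
        exact fun h => hij (hcsinj (hιinj h))
      refine ⟨C (algebraMap V (FractionRing V) (cs i) - algebraMap V (FractionRing V) (cs j))⁻¹,
        - C (algebraMap V (FractionRing V) (cs i) - algebraMap V (FractionRing V) (cs j))⁻¹, ?_⟩
      simp only [Polynomial.map_add, Polynomial.map_C]
      have : C (algebraMap V (FractionRing V) (cs i) - algebraMap V (FractionRing V) (cs j))⁻¹ *
          (Polynomial.map (algebraMap V (FractionRing V)) H + C (algebraMap V (FractionRing V) (cs i))) +
          -C (algebraMap V (FractionRing V) (cs i) - algebraMap V (FractionRing V) (cs j))⁻¹ *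
          (Polynomial.map (algebraMap V (FractionRing V)) H + C (algebraMap V (FractionRing V) (cs j))) =
          C ((algebraMap V (FractionRing V) (cs i) - algebraMap V (FractionRing V) (cs j))⁻¹ *
            (algebraMap V (FractionRing V) (cs i) - algebraMap V (FractionRing V) (cs j))) := by
        rw [C_mul, C_sub]; ring
      rw [this, inv_mul_cancel₀ hne, C_1])
    _ hhK
  refine ⟨cs k, hcsm k, Ideal.comap (Polynomial.mapRingHom (algebraMap V (FractionRing V)))
    (Ideal.span {(H + C (cs k)).map (algebraMap V (FractionRing V))}), ?_, ?_, ?_, ?_, ?_⟩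
  · have : (Ideal.span {(H + C (cs k)).map (algebraMap V (FractionRing V))}).IsMaximal :=
      PrincipalIdealRing.isMaximal_of_irreducible (hirrK _ (hcsm k))
    exact Ideal.comap_isPrime _ _
  · intro hbot
    have h1 : (H + C (cs k)) ∈ Ideal.comap (Polynomial.mapRingHom (algebraMap V (FractionRing V)))
        (Ideal.span {(H + C (cs k)).map (algebraMap V (FractionRing V))}) := by
      rw [Ideal.mem_comap]
      exact Ideal.subset_span rfl
    rw [hbot] at h1
    exact (hmonic (cs k)).ne_zero h1
  · rw [eq_bot_iff]
    intro a ha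
    rw [Ideal.mem_comap, Ideal.mem_comap, Ideal.mem_span_singleton] at ha
    rw [Ideal.mem_bot]
    by_contra ha0
    have hu : IsUnit (Polynomial.mapRingHom (algebraMap V (FractionRing V)) (C a)) := by
      rw [Polynomial.coe_mapRingHom, Polynomial.map_C]
      exact Polynomial.isUnit_C.mpr (IsUnit.mk0 _ (fun h => ha0 (hιinj (h.trans (map_zero _).symm))))
    exact (hirrK _ (hcsm k)).not_isUnit (isUnit_of_dvd_unit ha hu)
  · intro hmem
    rw [Ideal.mem_comap, Ideal.mem_span_singleton] at hmem
    exact hk hmem
  · intro F hF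
    rw [Ideal.mem_comap, Ideal.mem_span_singleton, Polynomial.coe_mapRingHom] at hF
    rw [← Polynomial.modByMonic_eq_zero_iff_dvd ((hmonic (cs k)).map _),
      ← Polynomial.map_modByMonic _ (hmonic (cs k))] at hF
    rw [← Polynomial.modByMonic_eq_zero_iff_dvd (hmonic (cs k))]
    exact (Polynomial.map_eq_zero_iff hιinj).mp hF

end Groth.Agent.Lib.H56ClosedFib
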