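import Mathlib
import Groth.Agent.Lib.H56ClosedFib1

/-!
# helper56: closed points of fibres (ring level, part 2): the key lemma over a valuation ring

* `key_chart`, `key_val`: `V ⊆ B` finite type extension of domains of transcendence degree one over
  a valuation ring `V` (not a field), `Q'` a maximal ideal over `𝔪_V`, `g ≠ 0`: there is a nonzero
  prime `Q₂ ⊆ Q'` with `Q₂ ∩ V = 0` and `g ∉ Q₂` (quasi-finite chart `V[X] → B_{g₀}` + openness over
  the normal domain `V[X]` + horizontal primes `(H + c)` of `V[X]`).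
-/

set_option autoImplicit false
universe u
open PrimeSpectrum TensorProduct Polynomial

namespace Groth.Agent.Lib.H56ClosedFib

/-- Key lemma over a valuation ring, given a quasi-finite chart `V[X] → B₀`. -/
theorem key_chart {V B₀ : Type u} [CommRing V] [IsDomain V] [ValuationRing V] [CommRing B₀]
    [IsDomain B₀] [Algebra V B₀] [Algebra.FiniteType V B₀] [FaithfulSMul V B₀]
    (htr : 1 ≤ Algebra.trdeg V B₀) (t₀ : B₀)
    (hqf : (Polynomial.aeval (R := V) t₀).toRingHom.QuasiFinite)
    (Q₀ : Ideal B₀) [Q₀.IsMaximal] (hQ₀ : Q₀.under V = IsLocalRing.maximalIdeal V)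
    (hm : IsLocalRing.maximalIdeal V ≠ ⊥) (g : B₀) (hg : g ≠ 0) :
    ∃ Q₂ : Ideal B₀, Q₂.IsPrime ∧ Q₂ ≠ ⊥ ∧ Q₂ ≤ Q₀ ∧ Q₂.under V = ⊥ ∧ g ∉ Q₂ := by
  let ψ : V[X] →ₐ[V] B₀ := Polynomial.aeval t₀
  let _ : Algebra V[X] B₀ := ψ.toRingHom.toAlgebra
  have htower : IsScalarTower V V[X] B₀ :=
    IsScalarTower.of_algebraMap_eq fun v => (ψ.commutes v).symm
  have hQF : Algebra.QuasiFinite V[X] B₀ := hqf
  have hFT : Algebra.FiniteType V[X] B₀ := Algebra.FiniteType.of_restrictScalars_finiteType V V[X] B₀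
  -- `B₀` is algebraic over the image of `ψ`
  let _ : Algebra V[X] ψ.range := ψ.rangeRestrict.toRingHom.toAlgebra
  have htower2 : IsScalarTower V[X] ψ.range B₀ := IsScalarTower.of_algebraMap_eq fun p => rfl
  have hQF2 : Algebra.QuasiFinite ψ.range B₀ := Algebra.QuasiFinite.of_restrictScalars V[X] _ _
  have halg2 : Algebra.IsAlgebraic ψ.range B₀ := isAlgebraic_of_quasiFinite
  -- `ψ` is injective
  have hrange : Algebra.adjoin V (Set.range fun _ : PUnit.{u+1} => t₀) = ψ.range := by
    rw [Set.range_const, Algebra.adjoin_singleton_eq_range_aeval]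
  have halg3 : Algebra.IsAlgebraic (Algebra.adjoin V (Set.range fun _ : PUnit.{u+1} => t₀)) B₀ := by
    rw [hrange]; exact halg2
  have hbasis : IsTranscendenceBasis V (fun _ : PUnit.{u+1} => t₀) :=
    Algebra.IsAlgebraic.isTranscendenceBasis_of_le_trdeg_of_finite (R := V) (fun _ : PUnit.{u+1} => t₀)
      (by simpa using htr)
  have htrans : Transcendental V t₀ := by
    have := hbasis.1
    rwa [algebraicIndependent_unique_type_iff] at this
  have hψinj : Function.Injective ψ := transcendental_iff_injective.mp htrans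
  have hfaith : FaithfulSMul V[X] B₀ := (faithfulSMul_iff_algebraMap_injective _ _).mpr hψinj
  have halg : Algebra.IsAlgebraic V[X] B₀ := isAlgebraic_of_quasiFinite
  -- the residue field extension
  have hlies : Q₀.LiesOver (IsLocalRing.maximalIdeal V) := ⟨hQ₀.symm⟩
  let _ : Field (B₀ ⧸ Q₀) := Ideal.Quotient.field Q₀
  let _ : Algebra (IsLocalRing.ResidueField V) (B₀ ⧸ Q₀) :=
    inferInstanceAs (Algebra (V ⧸ IsLocalRing.maximalIdeal V) (B₀ ⧸ Q₀))
  have htower3 : IsScalarTower V (IsLocalRing.ResidueField V) (B₀ ⧸ Q₀) :=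
    inferInstanceAs (IsScalarTower V (V ⧸ IsLocalRing.maximalIdeal V) (B₀ ⧸ Q₀))
  have hFT3 : Algebra.FiniteType (IsLocalRing.ResidueField V) (B₀ ⧸ Q₀) :=
    have : Algebra.FiniteType V (B₀ ⧸ Q₀) :=
      Algebra.FiniteType.of_surjective (Ideal.Quotient.mkₐ V Q₀) Ideal.Quotient.mk_surjective
    Algebra.FiniteType.of_restrictScalars_finiteType V _ _
  have hfin3 : Module.Finite (IsLocalRing.ResidueField V) (B₀ ⧸ Q₀) :=
    finite_of_finite_type_of_isJacobsonRing _ _
  have hint : IsIntegral (IsLocalRing.ResidueField V) (Ideal.Quotient.mk Q₀ t₀) :=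
    Algebra.IsIntegral.isIntegral _
  obtain ⟨H, hHmap, -, hHmonic⟩ := Polynomial.lifts_and_degree_eq_and_monic
    (f := IsLocalRing.residue V) (p := minpoly (IsLocalRing.ResidueField V) (Ideal.Quotient.mk Q₀ t₀))
    ((Polynomial.mem_lifts _).mpr
      (Polynomial.map_surjective _ IsLocalRing.residue_surjective _)) (minpoly.monic hint)
  have hHirr : Irreducible (H.map (IsLocalRing.residue V)) := hHmap ▸ minpoly.irreducible hint
  have hHmem : ψ H ∈ Q₀ := by
    rw [← Ideal.Quotient.eq_zero_iff_mem]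
    have h1 : Ideal.Quotient.mk Q₀ (ψ H) = Polynomial.aeval (Ideal.Quotient.mk Q₀ t₀) H :=
      (Polynomial.aeval_algHom_apply (Ideal.Quotient.mkₐ V Q₀) t₀ H).symm
    rw [h1, ← Polynomial.aeval_map_algebraMap (IsLocalRing.ResidueField V)]
    change Polynomial.aeval _ (H.map (IsLocalRing.residue V)) = 0
    rw [hHmap, minpoly.aeval]
  -- a nonzero polynomial `h` with `g ∣ ψ h`
  obtain ⟨h, hh0, hgh⟩ := (halg.isAlgebraic g).exists_nonzero_dvd
    (mem_nonZeroDivisors_of_ne_zero hg)
  obtain ⟨c, hc, P₂, hP₂prime, hP₂ne, hP₂V, hhP₂, hP₂dvd⟩ :=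
    exists_prime_polynomial hm H hHmonic hHirr h hh0
  have hcQ₀ : algebraMap V B₀ c ∈ Q₀ := by
    have : c ∈ Q₀.under V := hQ₀ ▸ hc
    exact this
  have hHc : ψ (H + C c) ∈ Q₀ := by
    rw [map_add]
    refine Q₀.add_mem hHmem ?_
    have : ψ (C c) = algebraMap V B₀ c := by simp [ψ]
    rw [this]; exact hcQ₀
  have hP₂le : P₂ ≤ Q₀.comap (algebraMap V[X] B₀) := by
    intro F hF
    obtain ⟨G, rfl⟩ := hP₂dvd F hF
    rw [Ideal.mem_comap, map_mul]
    exact Q₀.mul_mem_right _ hHc
  obtain ⟨Q₂, hQ₂prime, hQ₂le, hQ₂comap⟩ :=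
    exists_le_comap_eq hψinj Q₀ P₂ hP₂le
  refine ⟨Q₂, hQ₂prime, ?_, hQ₂le, ?_, ?_⟩
  · rintro rfl
    apply hP₂ne
    rw [← hQ₂comap, eq_bot_iff]
    intro F hF
    rw [Ideal.mem_comap, Ideal.mem_bot] at hF
    rw [Ideal.mem_bot]
    exact hψinj (hF.trans (map_zero _).symm)
  · rw [eq_bot_iff]
    intro a ha
    have h1 : C a ∈ P₂ := by
      rw [← hQ₂comap, Ideal.mem_comap]
      have : algebraMap V[X] B₀ (C a) = algebraMap V B₀ a := by
        change ψ (C a) = _
        simp [ψ]
      rw [this]; exact ha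
    have h2 : a ∈ P₂.comap (C : V →+* V[X]) := h1
    rw [hP₂V] at h2
    exact h2
  · intro hgQ₂
    apply hhP₂
    rw [← hQ₂comap, Ideal.mem_comap]
    obtain ⟨b, hb⟩ := hgh
    rw [hb]
    exact Q₂.mul_mem_right _ hgQ₂

end Groth.Agent.Lib.H56ClosedFib

namespace Groth.Agent.Lib.H56ClosedFib

open Groth.Agent.Lib.H56LocDim in
/-- **Key lemma over a valuation ring**: `V ⊆ B` a finite type extension of domains of
transcendence degree one over a valuation ring which is not a field, `Q'` a maximal ideal of `B`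
over the maximal ideal of `V`, `g ≠ 0`: there is a nonzero prime `Q₂ ⊆ Q'` of the generic fibre
not containing `g`. -/
theorem key_val {V B : Type u} [CommRing V] [IsDomain V] [ValuationRing V] [CommRing B]
    [IsDomain B] [Algebra V B] [Algebra.FiniteType V B] [FaithfulSMul V B]
    (htr : Algebra.trdeg V B = 1)
    (Q' : Ideal B) [hQ'max : Q'.IsMaximal] (hQ' : Q'.under V = IsLocalRing.maximalIdeal V)
    (hm : IsLocalRing.maximalIdeal V ≠ ⊥) (g : B) (hg : g ≠ 0) :
    ∃ Q₂ : Ideal B, Q₂.IsPrime ∧ Q₂ ≠ ⊥ ∧ Q₂ ≤ Q' ∧ Q₂.under V = ⊥ ∧ g ∉ Q₂ := by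
  have hflat : Module.Flat V B := by
    rw [Module.Flat.flat_iff_torsion_eq_bot_of_isBezout,
      ← Submodule.isTorsionFree_iff_torsion_eq_bot]
    infer_instance
  have hflat' : Module.Flat V (Localization.AtPrime Q') := Module.Flat.trans V B _
  have hfib := Groth.Agent.Lib.H79FlatGenFibDimRing.fibLocDim_eq_trdeg_of_flat (A := V) Q' 1
    (by simpa using htr)
  obtain ⟨g₀, hg₀, φ, -, hφqf⟩ := exists_away_quasiFinite_mvPolynomial (R := V) (S := B)
    ⟨Q', inferInstance⟩ 1 hfib
  have hg₀Q' : g₀ ∉ Q' := hg₀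
  have hg₀ne : g₀ ≠ 0 := fun h => hg₀Q' (h ▸ Q'.zero_mem)
  have hle : Submonoid.powers g₀ ≤ nonZeroDivisors B :=
    powers_le_nonZeroDivisors_of_noZeroDivisors hg₀ne
  have hdom : IsDomain (Localization.Away g₀) :=
    IsLocalization.isDomain_localization hle
  have hinjB : Function.Injective (algebraMap B (Localization.Away g₀)) :=
    IsLocalization.injective _ hle
  have hfaith : FaithfulSMul V (Localization.Away g₀) := by
    rw [faithfulSMul_iff_algebraMap_injective, IsScalarTower.algebraMap_eq V B]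
    exact hinjB.comp (FaithfulSMul.algebraMap_injective V B)
  have hft : Algebra.FiniteType V (Localization.Away g₀) :=
    Algebra.FiniteType.trans (inferInstance : Algebra.FiniteType V B)
      (IsLocalization.finiteType_of_monoid_fg (Submonoid.powers g₀) (Localization.Away g₀))
  -- the chart as a polynomial algebra map
  have hqf : (Polynomial.aeval (R := V) (φ (MvPolynomial.X 0))).toRingHom.QuasiFinite := by
    have h1 : (Polynomial.aeval (R := V) (φ (MvPolynomial.X 0))).toRingHom =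
        φ.toRingHom.comp (MvPolynomial.uniqueAlgEquiv V (Fin 1)).symm.toRingEquiv.toRingHom := by
      apply Polynomial.ringHom_ext
      · intro a
        simp
      · simp [MvPolynomial.uniqueAlgEquiv]
    rw [h1]
    exact RingHom.QuasiFinite.respectsIso.2 _ _ hφqf
  have htr' : 1 ≤ Algebra.trdeg V (Localization.Away g₀) := by
    rw [← htr]
    exact trdeg_le_of_injective (IsScalarTower.toAlgHom V B (Localization.Away g₀)) hinjB
  -- the maximal ideal upstairs
  have hdisj : Disjoint (Submonoid.powers g₀ : Set B) (Q' : Set B) := by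
    rw [Set.disjoint_left]
    rintro _ ⟨n, rfl⟩ hn
    exact hg₀Q' (hQ'max.isPrime.mem_of_pow_mem n hn)
  have hQ₀prime : (Q'.map (algebraMap B (Localization.Away g₀))).IsPrime :=
    IsLocalization.isPrime_of_isPrime_disjoint (Submonoid.powers g₀) _ Q' hQ'max.isPrime hdisj
  have hQ₀comap : (Q'.map (algebraMap B (Localization.Away g₀))).comap
      (algebraMap B (Localization.Away g₀)) = Q' :=
    IsLocalization.comap_map_of_isPrime_disjoint (Submonoid.powers g₀) _ hQ'max.isPrime hdisj
  have hQ₀max : (Q'.map (algebraMap B (Localization.Away g₀))).IsMaximal := by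
    obtain ⟨M, hMmax, hM⟩ := Ideal.exists_le_maximal _ hQ₀prime.ne_top
    have h1 : Q' ≤ M.comap (algebraMap B (Localization.Away g₀)) := by
      rw [← hQ₀comap]; exact Ideal.comap_mono hM
    have h2 : M.comap (algebraMap B (Localization.Away g₀)) = Q' :=
      (hQ'max.eq_of_le (Ideal.comap_ne_top _ hMmax.ne_top) h1).symm
    have h3 : M = Q'.map (algebraMap B (Localization.Away g₀)) := by
      rw [← h2, IsLocalization.map_comap (Submonoid.powers g₀)]
    rw [← h3]; exact hMmax
  have hQ₀V : (Q'.map (algebraMap B (Localization.Away g₀))).under V =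
      IsLocalRing.maximalIdeal V := by
    rw [← hQ', Ideal.under_def, Ideal.under_def, IsScalarTower.algebraMap_eq V B
      (Localization.Away g₀), ← Ideal.comap_comap, hQ₀comap]
  have hg' : algebraMap B (Localization.Away g₀) g ≠ 0 := fun h =>
    hg (hinjB (h.trans (map_zero _).symm))
  obtain ⟨Q₂, hQ₂prime, hQ₂ne, hQ₂le, hQ₂V, hgQ₂⟩ :=
    key_chart htr' (φ (MvPolynomial.X 0)) hqf _ hQ₀V hm _ hg'
  refine ⟨Q₂.comap (algebraMap B (Localization.Away g₀)), Ideal.comap_isPrime _ _, ?_, ?_, ?_, ?_⟩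
  · intro hbot
    apply hQ₂ne
    have h1 := IsLocalization.map_comap (Submonoid.powers g₀) (Localization.Away g₀) Q₂
    rw [Ideal.under_def, hbot, Ideal.map_bot] at h1
    exact h1.symm
  · rw [← hQ₀comap]; exact Ideal.comap_mono hQ₂le
  · rw [← hQ₂V, Ideal.under_def, Ideal.under_def, IsScalarTower.algebraMap_eq V B
      (Localization.Away g₀), ← Ideal.comap_comap]
  · exact hgQ₂

end Groth.Agent.Lib.H56ClosedFib
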