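import Mathlib
import Groth.Agent.Lib.H56ClosedFib2
import Groth.Agent.Lib.TrdegTransfer

/-!
# helper56: closed points of fibres (ring level, part 3): reduction to a valuation ring

* `valV`, `subB`, ...: for a valuation ring `W` of `Frac B` containing `B`, the valuation ring
  `V = W ∩ Frac A` and the `V`-subalgebra `B' = V[B]` of `Frac B` (finite type, same trdeg).
* `key_tr1`: the key lemma for a finite type extension of domains `A ⊆ B` of trdeg one.
-/

set_option autoImplicit false
universe u
open PrimeSpectrum TensorProduct Polynomial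

namespace Groth.Agent.Lib.H56ClosedFib

attribute [local instance] FractionRing.liftAlgebra

section Aux
variable {A B : Type u} [CommRing A] [IsDomain A] [CommRing B] [IsDomain B] [Algebra A B]
  [FaithfulSMul A B]

/-- the valuation ring of `Frac A` induced by a valuation ring of `Frac B` -/
noncomputable abbrev valV (W : ValuationSubring (FractionRing B)) : ValuationSubring (FractionRing A) :=
  W.comap (algebraMap (FractionRing A) (FractionRing B))

noncomputable instance algVL (W : ValuationSubring (FractionRing B)) :
    Algebra (valV (A := A) W) (FractionRing B) :=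
  ((algebraMap (FractionRing A) (FractionRing B)).comp (valV (A := A) W).subtype).toAlgebra

instance towerVKL (W : ValuationSubring (FractionRing B)) :
    IsScalarTower (valV (A := A) W) (FractionRing A) (FractionRing B) :=
  IsScalarTower.of_algebraMap_eq fun _ => rfl

/-- the `V`-subalgebra of `Frac B` generated by `B` -/
noncomputable abbrev subB (W : ValuationSubring (FractionRing B)) :
    Subalgebra (valV (A := A) W) (FractionRing B) :=
  Algebra.adjoin (valV (A := A) W) (Set.range (algebraMap B (FractionRing B)))


variable (W : ValuationSubring (FractionRing B))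

theorem algebraMap_mem_valV (hW : ∀ b : B, algebraMap B (FractionRing B) b ∈ W) (a : A) :
    algebraMap A (FractionRing A) a ∈ valV (A := A) W := by
  rw [ValuationSubring.mem_comap, ← IsScalarTower.algebraMap_apply A (FractionRing A) (FractionRing B),
    IsScalarTower.algebraMap_apply A B (FractionRing B)]
  exact hW _

/-- `A → V` -/
noncomputable def toV (hW : ∀ b : B, algebraMap B (FractionRing B) b ∈ W) : A →+* valV (A := A) W :=
  (algebraMap A (FractionRing A)).codRestrict (valV (A := A) W).toSubring (algebraMap_mem_valV W hW)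

theorem toV_injective (hW : ∀ b : B, algebraMap B (FractionRing B) b ∈ W) :
    Function.Injective (toV (A := A) W hW) := by
  intro x y h
  exact IsFractionRing.injective A (FractionRing A) (congrArg Subtype.val h)

/-- `B → B'` -/
noncomputable def toSubB : B →+* subB (A := A) W :=
  (algebraMap B (FractionRing B)).codRestrict (subB (A := A) W).toSubring
    (fun b => Algebra.subset_adjoin ⟨b, rfl⟩)

theorem toSubB_injective : Function.Injective (toSubB (A := A) W) := by
  intro x y h
  exact IsFractionRing.injective B (FractionRing B) (congrArg Subtype.val h)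

theorem toSubB_comp (hW : ∀ b : B, algebraMap B (FractionRing B) b ∈ W) (a : A) :
    toSubB (A := A) W (algebraMap A B a) = algebraMap (valV (A := A) W) (subB (A := A) W) (toV W hW a) := by
  apply Subtype.ext
  change algebraMap B (FractionRing B) (algebraMap A B a) =
    algebraMap (FractionRing A) (FractionRing B) (algebraMap A (FractionRing A) a)
  rw [← IsScalarTower.algebraMap_apply, ← IsScalarTower.algebraMap_apply]


/-- `W` as a `V`-subalgebra of `Frac B` -/
noncomputable def subW : Subalgebra (valV (A := A) W) (FractionRing B) :=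
  { W.toSubring with
    algebraMap_mem' := fun v => v.2 }

theorem subB_le_subW (hW : ∀ b : B, algebraMap B (FractionRing B) b ∈ W) :
    subB (A := A) W ≤ subW (A := A) W := by
  apply Algebra.adjoin_le
  rintro _ ⟨b, rfl⟩
  exact hW b

/-- `B' → W` -/
noncomputable def toW (hW : ∀ b : B, algebraMap B (FractionRing B) b ∈ W) :
    subB (A := A) W →+* W :=
  (subB (A := A) W).val.toRingHom.codRestrict W.toSubring (fun x => subB_le_subW W hW x.2)

theorem finiteType_subB [Algebra.FiniteType A B]
    (hW : ∀ b : B, algebraMap B (FractionRing B) b ∈ W) :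
    Algebra.FiniteType (valV (A := A) W) (subB (A := A) W) := by
  classical
  obtain ⟨s, hs⟩ := (inferInstance : Algebra.FiniteType A B).out
  have key : subB (A := A) W =
      Algebra.adjoin (valV (A := A) W) ((s.image (algebraMap B (FractionRing B)) : Finset _) : Set _) := by
    apply le_antisymm
    · apply Algebra.adjoin_le
      rintro _ ⟨b, rfl⟩
      have hb : b ∈ Algebra.adjoin A (s : Set B) := by rw [hs]; trivial
      induction hb using Algebra.adjoin_induction with
      | mem x hx =>
        apply Algebra.subset_adjoin
        rw [Finset.coe_image]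
        exact ⟨x, hx, rfl⟩
      | algebraMap a =>
        have : algebraMap B (FractionRing B) (algebraMap A B a) =
            algebraMap (valV (A := A) W) (FractionRing B) (toV W hW a) := by
          change _ = algebraMap (FractionRing A) (FractionRing B) (algebraMap A (FractionRing A) a)
          rw [← IsScalarTower.algebraMap_apply, ← IsScalarTower.algebraMap_apply]
        rw [this]
        exact Subalgebra.algebraMap_mem _ _
      | add x y _ _ hx hy => rw [map_add]; exact Subalgebra.add_mem _ hx hy
      | mul x y _ _ hx hy => rw [map_mul]; exact Subalgebra.mul_mem _ hx hy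
    · apply Algebra.adjoin_mono
      rw [Finset.coe_image]
      exact Set.image_subset_range _ _
  rw [← Subalgebra.fg_iff_finiteType, key]
  exact Subalgebra.fg_adjoin_finset _


instance faithful_subB : FaithfulSMul (valV (A := A) W) (subB (A := A) W) := by
  rw [faithfulSMul_iff_algebraMap_injective]
  intro x y hxy
  have := congrArg Subtype.val hxy
  exact Subtype.ext ((algebraMap (FractionRing A) (FractionRing B)).injective this)

theorem trdeg_subB : Algebra.trdeg (valV (A := A) W) (subB (A := A) W) = Algebra.trdeg A B := by
  have h1 : Algebra.trdeg (FractionRing A) (FractionRing B) = Algebra.trdeg A B :=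
    have : Algebra.IsAlgebraic A (FractionRing A) :=
      IsLocalization.isAlgebraic _ (nonZeroDivisors A)
    have : Algebra.IsAlgebraic B (FractionRing B) :=
      IsLocalization.isAlgebraic _ (nonZeroDivisors B)
    Groth.Agent.Lib.TrdegTransfer.trdeg_eq_of_isAlgebraic_square
  have h2 : Algebra.trdeg (FractionRing A) (FractionRing B) =
      Algebra.trdeg (valV (A := A) W) (subB (A := A) W) := by
    have : Algebra.IsAlgebraic (valV (A := A) W) (FractionRing A) :=
      IsLocalization.isAlgebraic _ (nonZeroDivisors (valV (A := A) W))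
    have : Algebra.IsAlgebraic (subB (A := A) W) (FractionRing B) := by
      refine ⟨fun x => ?_⟩
      have hx : IsAlgebraic B x := (IsLocalization.isAlgebraic (FractionRing B) (nonZeroDivisors B)).isAlgebraic x
      obtain ⟨p, hp0, hp⟩ := hx
      refine ⟨p.map (toSubB (A := A) W), ?_, ?_⟩
      · rwa [Ne, Polynomial.map_eq_zero_iff (toSubB_injective W)]
      · rw [Polynomial.aeval_def, Polynomial.eval₂_map]
        exact hp
    have : FaithfulSMul (valV (A := A) W) (FractionRing A) :=
      (faithfulSMul_iff_algebraMap_injective _ _).mpr Subtype.val_injective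
    have : FaithfulSMul (subB (A := A) W) (FractionRing B) :=
      (faithfulSMul_iff_algebraMap_injective _ _).mpr Subtype.val_injective
    exact Groth.Agent.Lib.TrdegTransfer.trdeg_eq_of_isAlgebraic_square
  rw [← h2, h1]


theorem mem_maximalIdeal_valV_iff (v : valV (A := A) W) :
    v ∈ IsLocalRing.maximalIdeal (valV (A := A) W) ↔
      (⟨algebraMap (FractionRing A) (FractionRing B) v, v.2⟩ : W) ∈ IsLocalRing.maximalIdeal W := by
  rw [← ValuationSubring.coe_mem_nonunits_iff, ← ValuationSubring.coe_mem_nonunits_iff,
    ValuationSubring.mem_nonunits_iff_or, ValuationSubring.mem_nonunits_iff_or,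
    ValuationSubring.mem_comap, map_inv₀, map_eq_zero]

theorem toW_toSubB (hW : ∀ b : B, algebraMap B (FractionRing B) b ∈ W) (b : B) :
    toW (A := A) W hW (toSubB (A := A) W b) = ⟨algebraMap B (FractionRing B) b, hW b⟩ := rfl

theorem toW_algebraMap (hW : ∀ b : B, algebraMap B (FractionRing B) b ∈ W) (v : valV (A := A) W) :
    toW (A := A) W hW (algebraMap (valV (A := A) W) (subB (A := A) W) v) =
      ⟨algebraMap (FractionRing A) (FractionRing B) v, v.2⟩ := rfl


/-- **Key lemma, transcendence degree one**: `A ⊆ B` a finite type extension of domains of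
transcendence degree one, `q'` a prime of `B` over a nonzero prime `p'` of `A`, maximal among the
primes over `p'`, `g ≠ 0`: there is a nonzero prime `Q₂ ⊆ q'` of the generic fibre not
containing `g`. -/
theorem key_tr1 [Algebra.FiniteType A B] (htr : Algebra.trdeg A B = 1)
    (q' : Ideal B) [hq' : q'.IsPrime] (hp' : q'.under A ≠ ⊥)
    (hmax : ∀ Q : Ideal B, Q.IsPrime → q' ≤ Q → Q.under A = q'.under A → Q = q')
    (g : B) (hg : g ≠ 0) :
    ∃ Q₂ : Ideal B, Q₂.IsPrime ∧ Q₂ ≠ ⊥ ∧ Q₂ ≤ q' ∧ Q₂.under A = ⊥ ∧ g ∉ Q₂ := by
  -- a valuation ring of `Frac B` dominating `B_{q'}`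
  obtain ⟨W, hWmem, hWloc⟩ := IsLocalRing.exists_factor_valuationRing
    (algebraMap (Localization.AtPrime q') (FractionRing B))
  have hW : ∀ b : B, algebraMap B (FractionRing B) b ∈ W := fun b => by
    rw [IsScalarTower.algebraMap_apply B (Localization.AtPrime q') (FractionRing B)]
    exact hWmem _
  -- the prime of `B'` cut out by the maximal ideal of `W`
  have hft := finiteType_subB (A := A) W hW
  have hQ₀prime : ((IsLocalRing.maximalIdeal W).comap (toW (A := A) W hW)).IsPrime :=
    Ideal.comap_isPrime _ _
  have hQ₀B : ((IsLocalRing.maximalIdeal W).comap (toW (A := A) W hW)).comap (toSubB (A := A) W) = q' := by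
    have hlocW : IsLocalRing ↥W.toSubring := inferInstanceAs (IsLocalRing W)
    have h1 := IsLocalRing.maximalIdeal_comap
      ((algebraMap (Localization.AtPrime q') (FractionRing B)).codRestrict W.toSubring hWmem)
    have h2 := Localization.AtPrime.comap_maximalIdeal (I := q')
    ext b
    rw [← h2, Ideal.under_def, Ideal.mem_comap, Ideal.mem_comap, Ideal.mem_comap, ← h1,
      Ideal.mem_comap]
    have h3 : (toW (A := A) W hW (toSubB (A := A) W b) : W) =
        ((algebraMap (Localization.AtPrime q') (FractionRing B)).codRestrict W.toSubring hWmem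
          (algebraMap B (Localization.AtPrime q') b)) :=
      Subtype.ext (IsScalarTower.algebraMap_apply B (Localization.AtPrime q') (FractionRing B) b)
    rw [h3]
    rfl
  have hQ₀V : ((IsLocalRing.maximalIdeal W).comap (toW (A := A) W hW)).under (valV (A := A) W) =
      IsLocalRing.maximalIdeal (valV (A := A) W) := by
    ext v
    rw [Ideal.under_def, Ideal.mem_comap, Ideal.mem_comap, toW_algebraMap,
      mem_maximalIdeal_valV_iff]
  -- contraction of `𝔪_V` to `A`
  have hmV : (IsLocalRing.maximalIdeal (valV (A := A) W)).comap (toV W hW) = q'.under A := by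
    rw [← hQ₀V, ← hQ₀B]
    ext a
    simp only [Ideal.under_def, Ideal.mem_comap]
    rw [toSubB_comp W hW]
  have hm : IsLocalRing.maximalIdeal (valV (A := A) W) ≠ ⊥ := fun h =>
    hp' (by rw [← hmV, h, Ideal.comap_bot_of_injective _ (toV_injective W hW)])
  -- a maximal ideal of `B'` above
  obtain ⟨Q', hQ'max, hQ₀le⟩ := Ideal.exists_le_maximal _ hQ₀prime.ne_top
  have hQ'V : Q'.under (valV (A := A) W) = IsLocalRing.maximalIdeal (valV (A := A) W) := by
    have h1 : IsLocalRing.maximalIdeal (valV (A := A) W) ≤ Q'.under (valV (A := A) W) :=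
      hQ₀V ▸ Ideal.comap_mono hQ₀le
    exact ((IsLocalRing.maximalIdeal.isMaximal _).eq_of_le
      (Ideal.comap_ne_top _ hQ'max.ne_top) h1).symm
  have hQ'B : Q'.comap (toSubB (A := A) W) = q' := by
    apply hmax _ (Ideal.comap_isPrime _ _)
    · rw [← hQ₀B]; exact Ideal.comap_mono hQ₀le
    · rw [← hmV, ← hQ'V]
      ext a
      simp only [Ideal.under_def, Ideal.mem_comap]
      rw [toSubB_comp W hW]
  have htr' : Algebra.trdeg (valV (A := A) W) (subB (A := A) W) = 1 := (trdeg_subB W).trans htr
  have hg' : toSubB (A := A) W g ≠ 0 := fun h =>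
    hg (toSubB_injective W (h.trans (map_zero _).symm))
  obtain ⟨Q₂, hQ₂prime, hQ₂ne, hQ₂le, hQ₂V, hgQ₂⟩ := key_val htr' Q' hQ'V hm _ hg'
  refine ⟨Q₂.comap (toSubB (A := A) W), Ideal.comap_isPrime _ _, ?_, ?_, ?_, hgQ₂⟩
  · obtain ⟨b', hb'mem, hb'ne⟩ := Submodule.exists_mem_ne_zero_of_ne_bot hQ₂ne
    obtain ⟨⟨b₁, b₂⟩, hb⟩ := IsLocalization.surj (nonZeroDivisors B) (b' : FractionRing B)
    intro hbot
    have h1 : b₁ ∈ Q₂.comap (toSubB (A := A) W) := by
      rw [Ideal.mem_comap]
      have : toSubB (A := A) W b₁ = b' * toSubB (A := A) W b₂ := Subtype.ext hb.symm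
      rw [this]; exact Q₂.mul_mem_right _ hb'mem
    rw [hbot, Ideal.mem_bot] at h1
    rw [h1, map_zero] at hb
    have h2 : (b' : FractionRing B) = 0 := by
      rcases mul_eq_zero.mp hb with h | h
      · exact h
      · exact absurd ((IsFractionRing.injective B (FractionRing B)) (h.trans (map_zero _).symm))
          (nonZeroDivisors.ne_zero b₂.2)
    exact hb'ne (Subtype.ext h2)
  · rw [← hQ'B]; exact Ideal.comap_mono hQ₂le
  · rw [eq_bot_iff]
    intro a ha
    have h1 : toV W hW a ∈ Q₂.under (valV (A := A) W) := by
      rw [Ideal.under_def, Ideal.mem_comap, ← toSubB_comp]; exact ha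
    rw [hQ₂V, Ideal.mem_bot] at h1
    rw [Ideal.mem_bot]
    exact toV_injective W hW (h1.trans (map_zero _).symm)

end Aux

end Groth.Agent.Lib.H56ClosedFib
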