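import Mathlib
import Groth.Agent.Lib.H56ClosedFib3

/-!
# helper56: closed points of fibres (ring level, part 4)

* `key_general`: key lemma for non-algebraic finite type extensions of domains.
* `exists_closed_prime`: `A → B` finite type, `q ⊆ q'` over `p ≠ p'`, `q'` closed in its fibre,
  `g ∉ q`: there is `q ⊆ q₁ ⊆ q'` over `p`, closed in the fibre over `p`, with `g ∉ q₁`
  (Stacks-type lemma: closed points of the generic fibre specializing to a closed point of the
  special fibre are dense), no Noetherian hypotheses.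
-/

set_option autoImplicit false
universe u
open PrimeSpectrum TensorProduct Polynomial

namespace Groth.Agent.Lib.H56ClosedFib

section General
variable {A B : Type u} [CommRing A] [IsDomain A] [CommRing B] [IsDomain B] [Algebra A B]
  [FaithfulSMul A B] [Algebra.FiniteType A B]

/-- **Key lemma**: `A ⊆ B` a finite type, non-algebraic extension of domains, `q'` a prime of `B`
over a nonzero prime `p'` of `A`, maximal among the primes over `p'`, `g ≠ 0`: there is a nonzero
prime `Q₂ ⊆ q'` of the generic fibre not containing `g`. -/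
theorem key_general (hna : ¬ Algebra.IsAlgebraic A B)
    (q' : Ideal B) [hq' : q'.IsPrime] (hp' : q'.under A ≠ ⊥)
    (hmax : ∀ Q : Ideal B, Q.IsPrime → q' ≤ Q → Q.under A = q'.under A → Q = q')
    (g : B) (hg : g ≠ 0) :
    ∃ Q₂ : Ideal B, Q₂.IsPrime ∧ Q₂ ≠ ⊥ ∧ Q₂ ≤ q' ∧ Q₂.under A = ⊥ ∧ g ∉ Q₂ := by
  classical
  obtain ⟨s, hs⟩ := (inferInstance : Algebra.FiniteType A B).out
  have hPs : Algebra.IsAlgebraic (Algebra.adjoin A (s : Set B)) B := by
    rw [hs]
    exact ⟨fun b => isAlgebraic_algebraMap (⟨b, trivial⟩ : (⊤ : Subalgebra A B))⟩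
  clear hs
  induction s using Finset.induction_on with
  | empty =>
    exfalso
    apply hna
    rw [Finset.coe_empty, Algebra.adjoin_empty] at hPs
    have h1 : Algebra.IsAlgebraic A (⊥ : Subalgebra A B) :=
      ⟨fun x => by
        obtain ⟨a, ha⟩ := Algebra.mem_bot.mp x.2
        have : x = algebraMap A (⊥ : Subalgebra A B) a := Subtype.ext ha.symm
        rw [this]
        exact isAlgebraic_algebraMap a⟩
    exact Algebra.IsAlgebraic.trans A (⊥ : Subalgebra A B) B
  | insert t s₁ _ ih =>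
    by_cases hP₁ : Algebra.IsAlgebraic (Algebra.adjoin A (s₁ : Set B)) B
    · exact ih hP₁
    · -- `B` has transcendence degree one over `A₁ = A[s₁]`
      have hmem : ∀ x ∈ Algebra.adjoin A ((insert t s₁ : Finset B) : Set B),
          x ∈ Algebra.adjoin (Algebra.adjoin A (s₁ : Set B)) ({t} : Set B) := by
        intro x hx
        rw [Finset.coe_insert, Set.insert_eq, Set.union_comm,
          Algebra.adjoin_union_eq_adjoin_adjoin] at hx
        exact hx
      have halg1 : Algebra.IsAlgebraic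
          (Algebra.adjoin (Algebra.adjoin A (s₁ : Set B)) ({t} : Set B)) B :=
        Algebra.IsAlgebraic.ringHom_of_comp_eq
          (R := Algebra.adjoin A ((insert t s₁ : Finset B) : Set B)) (A := B)
          ((Algebra.adjoin A ((insert t s₁ : Finset B) : Set B)).val.toRingHom.codRestrict
            (Algebra.adjoin (Algebra.adjoin A (s₁ : Set B)) ({t} : Set B)).toSubring
            (fun x => hmem x x.2))
          (RingHom.id B)
          (fun x y hxy => Subtype.ext (by
            have h := congrArg Subtype.val hxy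
            exact h))
          Function.surjective_id
          (by ext x; rfl)
      have htr : Algebra.trdeg (Algebra.adjoin A (s₁ : Set B)) B = 1 := by
        apply le_antisymm
        · have := Algebra.IsAlgebraic.trdeg_le_cardinalMk (Algebra.adjoin A (s₁ : Set B))
            (A := B) ({t} : Set B)
          simpa using this
        · rw [Cardinal.one_le_iff_ne_zero, Ne, trdeg_eq_zero_iff]
          exact hP₁
      have hp₁ : q'.under (Algebra.adjoin A (s₁ : Set B)) ≠ ⊥ := by
        intro hbot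
        apply hp'
        rw [eq_bot_iff]
        intro a ha
        have h1 : algebraMap A (Algebra.adjoin A (s₁ : Set B)) a ∈
            q'.under (Algebra.adjoin A (s₁ : Set B)) := by
          rw [Ideal.under_def, Ideal.mem_comap, ← IsScalarTower.algebraMap_apply]
          exact ha
        rw [hbot, Ideal.mem_bot] at h1
        rw [Ideal.mem_bot]
        have h2 := congrArg Subtype.val h1
        exact (FaithfulSMul.algebraMap_injective A B) (h2.trans (map_zero _).symm)
      have hmax₁ : ∀ Q : Ideal B, Q.IsPrime → q' ≤ Q →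
          Q.under (Algebra.adjoin A (s₁ : Set B)) = q'.under (Algebra.adjoin A (s₁ : Set B)) →
          Q = q' := by
        intro Q hQ hle h
        apply hmax Q hQ hle
        have := congrArg (Ideal.comap (algebraMap A (Algebra.adjoin A (s₁ : Set B)))) h
        simpa only [Ideal.under_def, Ideal.comap_comap, ← IsScalarTower.algebraMap_eq] using this
      have hft₁ : Algebra.FiniteType (Algebra.adjoin A (s₁ : Set B)) B :=
        Algebra.FiniteType.of_restrictScalars_finiteType A _ B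
      obtain ⟨Q₂, hQ₂prime, hQ₂ne, hQ₂le, hQ₂A₁, hgQ₂⟩ :=
        key_tr1 (A := Algebra.adjoin A (s₁ : Set B)) htr q' hp₁ hmax₁ g hg
      refine ⟨Q₂, hQ₂prime, hQ₂ne, hQ₂le, ?_, hgQ₂⟩
      have := congrArg (Ideal.comap (algebraMap A (Algebra.adjoin A (s₁ : Set B)))) hQ₂A₁
      rw [Ideal.under_def, Ideal.comap_comap, ← IsScalarTower.algebraMap_eq] at this
      rw [Ideal.under_def, this]
      exact Ideal.comap_bot_of_injective _ (FaithfulSMul.algebraMap_injective A _)

end General


section Ring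

/-- the supremum of a nonempty chain of prime ideals is prime -/
theorem isPrime_sSup_of_isChain {R : Type*} [CommRing R] {c : Set (Ideal R)} (hc : c.Nonempty)
    (hchain : IsChain (· ≤ ·) c) (hprime : ∀ I ∈ c, I.IsPrime) : (sSup c).IsPrime := by
  have hmem : ∀ z : R, z ∈ sSup c ↔ ∃ I ∈ c, z ∈ I := fun z =>
    Submodule.mem_sSup_of_directed hc hchain.directedOn
  refine ⟨?_, ?_⟩
  · rw [Ne, Ideal.eq_top_iff_one, hmem]
    rintro ⟨I, hI, h1⟩
    exact (hprime I hI).ne_top ((Ideal.eq_top_iff_one I).mpr h1)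
  · intro x y hxy
    obtain ⟨I, hI, hxyI⟩ := (hmem _).mp hxy
    rcases (hprime I hI).mem_or_mem hxyI with h | h
    · exact Or.inl ((hmem _).mpr ⟨I, hI, h⟩)
    · exact Or.inr ((hmem _).mpr ⟨I, hI, h⟩)


/-- **Ring-level theorem.** `A → B` of finite type, `q ⊆ q'` primes of `B` over distinct primes
`p ≠ p'` of `A`, `q'` maximal among the primes over `p'`, `g ∉ q`. Then there is a prime `q₁` with
`q ⊆ q₁ ⊆ q'`, over `p`, maximal among the primes over `p`, and not containing `g`. -/
theorem exists_closed_prime {A B : Type u} [CommRing A] [CommRing B] [Algebra A B]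
    [Algebra.FiniteType A B] (q q' : Ideal B) [hq : q.IsPrime] [hq' : q'.IsPrime] (hqq' : q ≤ q')
    (hne : q.under A ≠ q'.under A)
    (hmax : ∀ Q : Ideal B, Q.IsPrime → q' ≤ Q → Q.under A = q'.under A → Q = q')
    (g : B) (hg : g ∉ q) :
    ∃ q₁ : Ideal B, q₁.IsPrime ∧ q ≤ q₁ ∧ q₁ ≤ q' ∧ q₁.under A = q.under A ∧ g ∉ q₁ ∧
      ∀ Q : Ideal B, Q.IsPrime → q₁ ≤ Q → Q.under A = q.under A → Q = q₁ := by
  classical
  obtain ⟨q₁, hqq₁, hq₁max⟩ := zorn_le_nonempty₀
    {I : Ideal B | I.IsPrime ∧ q ≤ I ∧ I ≤ q' ∧ I.under A = q.under A ∧ g ∉ I}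
    (by
      intro c hcS hchain y hy
      have hmem : ∀ z : B, z ∈ sSup c ↔ ∃ I ∈ c, z ∈ I := fun z =>
        Submodule.mem_sSup_of_directed ⟨y, hy⟩ hchain.directedOn
      refine ⟨sSup c, ⟨isPrime_sSup_of_isChain ⟨y, hy⟩ hchain (fun I hI => (hcS hI).1), ?_, ?_, ?_, ?_⟩,
        fun z hz => le_sSup hz⟩
      · exact (hcS hy).2.1.trans (le_sSup hy)
      · exact sSup_le fun I hI => (hcS hI).2.2.1
      · apply le_antisymm
        · intro a ha
          rw [Ideal.under_def, Ideal.mem_comap, hmem] at ha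
          obtain ⟨I, hI, haI⟩ := ha
          rw [← (hcS hI).2.2.2.1]
          exact haI
        · rw [← (hcS hy).2.2.2.1]
          exact Ideal.comap_mono (le_sSup hy)
      · rw [hmem]
        rintro ⟨I, hI, hgI⟩
        exact (hcS hI).2.2.2.2 hgI)
    q ⟨hq, le_rfl, hqq', rfl, hg⟩
  obtain ⟨⟨hq₁prime, -, hq₁q', hq₁A, hgq₁⟩, hq₁maximal⟩ := hq₁max
  refine ⟨q₁, hq₁prime, hqq₁, hq₁q', hq₁A, hgq₁, ?_⟩
  intro Q hQprime hq₁Q hQA
  by_contra hQne
  -- pass to the quotient domains
  have hlies : q₁.LiesOver (q.under A) := ⟨hq₁A.symm⟩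
  have hpprime : (q.under A).IsPrime := Ideal.comap_isPrime _ _
  have hft : Algebra.FiniteType (A ⧸ q.under A) (B ⧸ q₁) :=
    have : Algebra.FiniteType A (B ⧸ q₁) :=
      Algebra.FiniteType.of_surjective (Ideal.Quotient.mkₐ A q₁) Ideal.Quotient.mk_surjective
    Algebra.FiniteType.of_restrictScalars_finiteType A _ _
  have hunder : ∀ (J : Ideal (B ⧸ q₁)) (a : A),
      Ideal.Quotient.mk (q.under A) a ∈ J.under (A ⧸ q.under A) ↔
        a ∈ (J.comap (Ideal.Quotient.mk q₁)).under A := by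
    intro J a
    exact Iff.rfl
  -- `B ⧸ q₁` is not algebraic over `A ⧸ p`
  have hna : ¬ Algebra.IsAlgebraic (A ⧸ q.under A) (B ⧸ q₁) := by
    intro halg
    obtain ⟨b, hbQ, hbq₁⟩ : ∃ b ∈ Q, b ∉ q₁ := by
      by_contra hcon
      push Not at hcon
      exact hQne (le_antisymm hcon hq₁Q)
    have hb0 : Ideal.Quotient.mk q₁ b ≠ 0 := by
      rwa [Ne, Ideal.Quotient.eq_zero_iff_mem]
    obtain ⟨r', hr'0, c', hc'⟩ := (halg.isAlgebraic (Ideal.Quotient.mk q₁ b)).exists_nonzero_dvd
      (mem_nonZeroDivisors_of_ne_zero hb0)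
    obtain ⟨r, rfl⟩ := Ideal.Quotient.mk_surjective r'
    obtain ⟨c, rfl⟩ := Ideal.Quotient.mk_surjective c'
    rw [Ideal.Quotient.algebraMap_mk_of_liesOver, ← map_mul, Ideal.Quotient.eq] at hc'
    have h1 : algebraMap A B r ∈ Q := by
      have := Q.add_mem (hq₁Q hc') (Q.mul_mem_right c hbQ)
      rwa [sub_add_cancel] at this
    have h2 : r ∈ q.under A := hQA ▸ h1
    exact hr'0 (Ideal.Quotient.eq_zero_iff_mem.mpr h2)
  -- the image of `q'`
  have hqbprime : (q'.map (Ideal.Quotient.mk q₁)).IsPrime :=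
    Ideal.isPrime_map_quotientMk_of_isPrime hq₁q'
  have hqbcomap : (q'.map (Ideal.Quotient.mk q₁)).comap (Ideal.Quotient.mk q₁) = q' :=
    Ideal.comap_map_mk hq₁q'
  have hpb : (q'.map (Ideal.Quotient.mk q₁)).under (A ⧸ q.under A) ≠ ⊥ := by
    obtain ⟨a, haq', haq⟩ : ∃ a ∈ q'.under A, a ∉ q.under A := by
      by_contra hcon
      push Not at hcon
      exact hne (le_antisymm (Ideal.comap_mono hqq') hcon)
    intro hbot
    have h1 : Ideal.Quotient.mk (q.under A) a ∈
        (q'.map (Ideal.Quotient.mk q₁)).under (A ⧸ q.under A) := by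
      rw [hunder, hqbcomap]; exact haq'
    rw [hbot, Ideal.mem_bot, Ideal.Quotient.eq_zero_iff_mem] at h1
    exact haq h1
  have hmaxb : ∀ Q' : Ideal (B ⧸ q₁), Q'.IsPrime → q'.map (Ideal.Quotient.mk q₁) ≤ Q' →
      Q'.under (A ⧸ q.under A) = (q'.map (Ideal.Quotient.mk q₁)).under (A ⧸ q.under A) →
      Q' = q'.map (Ideal.Quotient.mk q₁) := by
    intro Q' hQ'prime hle hQ'A
    have h1 : Q'.comap (Ideal.Quotient.mk q₁) = q' := by
      apply hmax _ (Ideal.comap_isPrime _ _)
      · rw [← hqbcomap]; exact Ideal.comap_mono hle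
      · ext a
        rw [← hunder, hQ'A, hunder, hqbcomap]
    rw [← h1, Ideal.map_comap_of_surjective _ Ideal.Quotient.mk_surjective]
  have hgb : Ideal.Quotient.mk q₁ g ≠ 0 := by
    rwa [Ne, Ideal.Quotient.eq_zero_iff_mem]
  obtain ⟨Q₂, hQ₂prime, hQ₂ne, hQ₂le, hQ₂A, hgQ₂⟩ :=
    key_general hna (q'.map (Ideal.Quotient.mk q₁)) hpb hmaxb _ hgb
  have hq₁le : q₁ ≤ Q₂.comap (Ideal.Quotient.mk q₁) := by
    intro x hx
    rw [Ideal.mem_comap, Ideal.Quotient.eq_zero_iff_mem.mpr hx]
    exact Q₂.zero_mem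
  have hS : Q₂.comap (Ideal.Quotient.mk q₁) ∈
      {I : Ideal B | I.IsPrime ∧ q ≤ I ∧ I ≤ q' ∧ I.under A = q.under A ∧ g ∉ I} := by
    refine ⟨Ideal.comap_isPrime _ _, hqq₁.trans hq₁le, ?_, ?_, hgQ₂⟩
    · rw [← hqbcomap]; exact Ideal.comap_mono hQ₂le
    · ext a
      rw [← hunder, hQ₂A, Ideal.mem_bot, Ideal.Quotient.eq_zero_iff_mem]
  have hle := hq₁maximal hS hq₁le
  apply hQ₂ne
  rw [eq_bot_iff, ← Ideal.map_comap_of_surjective _ Ideal.Quotient.mk_surjective Q₂]
  refine (Ideal.map_mono hle).trans ?_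
  rw [Ideal.map_quotient_self]

end Ring

end Groth.Agent.Lib.H56ClosedFib
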