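import Mathlib
import Groth.Agent.Lib.H56OpenFibDim
import Groth.Agent.Lib.H30FlatDim
import Groth.Agent.Lib.H30LocDimTop

/-!
# Local fibre dimension and transcendence degree
-/

set_option autoImplicit false
open CategoryTheory AlgebraicGeometry TopologicalSpace
universe u

namespace Groth.Agent.Lib.H80Max

open Groth.Agent.Lib.H56OpenDim Groth.Agent.Lib.H56LocDim Groth.Agent.Lib.H30FibRes
  Groth.Agent.Lib.H30DimField

variable {X Y : Scheme.{u}}

theorem fibreDimAt_eq_stalk_add (f : X ⟶ Y) [LocallyOfFiniteType f] (x : X) :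
    FlatMor.fibreDimAt f x =
      ringKrullDim ((f.fiber (f x)).presheaf.stalk (f.asFiber x)) + (tdeg f x : WithBot ℕ∞) := by
  let _ := fiberOver f (f x)
  have := lft_fiber f (f x)
  unfold FlatMor.fibreDimAt
  rw [localDim_eq (Y.residueField (f x)) (f.fiber (f x)) (f.asFiber x),
    td_fiber_eq f (f x) (f.asFiber x), Int.toNat_natCast]
  congr 3
  exact f.fiberι_asFiber x

/-- The local fibre dimension is at least the transcendence degree of the residue field. -/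
theorem tdeg_le_fibreDimAt (f : X ⟶ Y) [LocallyOfFiniteType f] (x : X) :
    (tdeg f x : WithBot ℕ∞) ≤ FlatMor.fibreDimAt f x := by
  rw [fibreDimAt_eq_stalk_add]
  exact le_add_of_nonneg_left ringKrullDim_nonneg_of_nontrivial

/-- At a maximal point of a fibre, the local fibre dimension is the transcendence degree of the
residue field. -/
theorem fibreDimAt_eq_tdeg_of_maximal (f : X ⟶ Y) [LocallyOfFiniteType f] (x : X)
    (hmax : ∀ x' : X, f x' = f x → x' ⤳ x → x' = x) :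
    FlatMor.fibreDimAt f x = (tdeg f x : WithBot ℕ∞) := by
  rw [fibreDimAt_eq_stalk_add, Groth.Agent.Lib.H30FlatDim.stalk_fiber_dim_zero f x hmax, zero_add]

/-- Local dimension is monotone in the ambient subspace. -/
theorem localDim_subtype_mono {T : Type*} [TopologicalSpace T] {A B : Set T} (h : A ⊆ B) (x : T)
    (hx : x ∈ A) : FlatMor.localDim ↥A ⟨x, hx⟩ ≤ FlatMor.localDim ↥B ⟨x, h hx⟩ := by
  unfold FlatMor.localDim
  refine le_iInf fun W => ?_
  obtain ⟨W, hW⟩ := W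
  obtain ⟨W', hW'open, hW'⟩ := isOpen_induced_iff.mp W.2
  let WA : Opens ↥A := ⟨Subtype.val ⁻¹' W', hW'open.preimage continuous_subtype_val⟩
  have hxWA : (⟨x, hx⟩ : ↥A) ∈ WA := by
    have : (⟨x, h hx⟩ : ↥B) ∈ Subtype.val ⁻¹' W' := by rw [hW']; exact hW
    exact this
  refine (iInf_le _ (⟨WA, hxWA⟩ : {W : Opens ↥A // (⟨x, hx⟩ : ↥A) ∈ W})).trans ?_
  change topologicalKrullDim ↥(Subtype.val ⁻¹' W' : Set ↥A) ≤ topologicalKrullDim ↥(W : Set ↥B)
  refine Groth.Agent.Lib.TopKrullDim.dim_le_of_range_subset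
    (fun t : ↥(Subtype.val ⁻¹' W' : Set ↥A) => (t.1.1 : T))
    (fun t : ↥(W : Set ↥B) => (t.1.1 : T))
    (Topology.IsInducing.subtypeVal.comp Topology.IsInducing.subtypeVal)
    (Topology.IsInducing.subtypeVal.comp Topology.IsInducing.subtypeVal) ?_
  rintro _ ⟨⟨⟨t, htA⟩, htW⟩, rfl⟩
  have htW' : t ∈ W' := htW
  have : (⟨t, h htA⟩ : ↥B) ∈ (W : Set ↥B) := by
    change (⟨t, h htA⟩ : ↥B) ∈ W.carrier
    rw [← hW']
    exact htW'
  exact ⟨⟨⟨t, h htA⟩, this⟩, rfl⟩

/-- The local dimension at `x` of a subspace `A` is at most the dimension of `U ∩ A` for every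
open neighbourhood `U` of `x`. -/
theorem localDim_le_dim_inter {T : Type*} [TopologicalSpace T] (A : Set T) (U : Set T)
    (hU : IsOpen U) (x : T) (hxA : x ∈ A) (hxU : x ∈ U) :
    FlatMor.localDim ↥A ⟨x, hxA⟩ ≤ topologicalKrullDim ↥(U ∩ A) := by
  unfold FlatMor.localDim
  let W : Opens ↥A := ⟨Subtype.val ⁻¹' U, hU.preimage continuous_subtype_val⟩
  have hxW : (⟨x, hxA⟩ : ↥A) ∈ W := hxU
  refine (iInf_le _ (⟨W, hxW⟩ : {W : Opens ↥A // (⟨x, hxA⟩ : ↥A) ∈ W})).trans ?_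
  change topologicalKrullDim ↥(Subtype.val ⁻¹' U : Set ↥A) ≤ topologicalKrullDim ↥(U ∩ A)
  refine Groth.Agent.Lib.TopKrullDim.dim_le_of_range_subset
    (fun t : ↥(Subtype.val ⁻¹' U : Set ↥A) => (t.1.1 : T))
    (fun t : ↥(U ∩ A) => (t.1 : T))
    (Topology.IsInducing.subtypeVal.comp Topology.IsInducing.subtypeVal)
    Topology.IsInducing.subtypeVal ?_
  rintro _ ⟨⟨⟨t, htA⟩, htU⟩, rfl⟩
  exact ⟨⟨t, htU, htA⟩, rfl⟩

/-- The local fibre dimension at `x` is at most the dimension of `U ∩ f⁻¹(f x)`. -/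
theorem fibreDimAt_le_dim_inter (f : X ⟶ Y) (U : X.Opens) (x : X) (hx : x ∈ U) :
    FlatMor.fibreDimAt f x ≤ topologicalKrullDim ↥((U : Set X) ∩ f.base ⁻¹' {f.base x}) := by
  rw [fibreDimAt_eq_fibLocDim]
  exact localDim_le_dim_inter (f.base ⁻¹' {f.base x}) (U : Set X) U.isOpen x rfl hx

end Groth.Agent.Lib.H80Max
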