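/-
V coverings are universally submersive (helper12).
-/
import Groth.Agent.Lib.ValSpecialize
import Groth.Agent.Lib.HTopBasic
import Groth.Prelude.Def_SGA1

set_option autoImplicit false
universe w w' u
open CategoryTheory CategoryTheory.Limits AlgebraicGeometry IsLocalRing

namespace Groth.Agent.Lib.VCoverSubmersive

open HTop Groth.Agent.Lib.ValSpecialize Groth.Agent.Lib.HTopBasic

/-- A V covering has the valuative lifting property. -/
theorem hasValLift_of_isVCover {T : Scheme.{u}} (E : PreZeroHypercover.{w} T) (hV : IsVCover E) :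
    HasValLift E := by
  intro V _ _ g
  obtain ⟨U, hU, hcU, -⟩ := exists_isAffineOpen_mem_and_subset (X := T)
    (x := g (closedPoint V)) (U := ⊤) trivial
  have hsub : Set.range g ⊆ (U : Set T) :=
    range_subset_of_closedPoint_mem V g _ U.2 hcU
  let gU : Spec V ⟶ (U : Scheme.{u}) :=
    IsOpenImmersion.lift U.ι g (by rw [Scheme.Opens.range_ι]; exact hsub)
  have hgU : gU ≫ U.ι = g := IsOpenImmersion.lift_fac _ _ _
  obtain ⟨F, hF, href⟩ := hV ⟨U, hU⟩
  obtain ⟨W, hWd, hWv, φ, hφ, j, g', hg'⟩ := hF.lift V gU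
  obtain ⟨i, h, hh⟩ := href j
  refine ⟨W, hWd, hWv, φ, hφ, i, g' ≫ h, ?_⟩
  rw [Category.assoc, hh, ← Category.assoc, hg', Category.assoc, hgU]

/-- A family with the valuative lifting property is jointly surjective (lift field-valued
points). -/
theorem exists_mem_of_hasValLift {T : Scheme.{u}} (E : PreZeroHypercover.{w} T)
    (hL : HasValLift E) (t : T) : ∃ (i : E.I₀) (x : E.X i), E.f i x = t := by
  obtain ⟨W, hWd, hWv, φ, hφ, i, g', hg'⟩ := hL (T.residueField t) (T.fromSpecResidueField t)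
  refine ⟨i, g' (closedPoint W), ?_⟩
  rw [← Scheme.Hom.comp_apply, hg', Scheme.Hom.comp_apply, Scheme.fromSpecResidueField_apply]

/-- A family with the valuative lifting property lifts specializations. -/
theorem exists_specializes_of_hasValLift {T : Scheme.{u}} (E : PreZeroHypercover.{w} T)
    (hL : HasValLift E) {t' t : T} (h : t' ⤳ t) :
    ∃ (i : E.I₀) (x' x : E.X i), x' ⤳ x ∧ E.f i x' = t' ∧ E.f i x = t := by
  obtain ⟨A, l, hl1, hl2⟩ := exists_valuationSubring_of_specializes' h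
  obtain ⟨W, hWd, hWv, φ, hφ, i, g', hg'⟩ := hL (CommRingCat.of A) l
  refine ⟨i, g' (⟨⊥, Ideal.isPrime_bot⟩ : PrimeSpectrum W), g' (closedPoint W), ?_, ?_, ?_⟩
  · exact (specializes_closedPoint (R := W) _).map g'.continuous
  · rw [← Scheme.Hom.comp_apply, hg', Scheme.Hom.comp_apply]
    exact (congrArg _ (IsExtVal.specMap_bot hφ)).trans hl2
  · rw [← Scheme.Hom.comp_apply, hg', Scheme.Hom.comp_apply]
    exact (congrArg _ (IsExtVal.specMap_closedPoint hφ)).trans hl1

/-- For a morphism of affine schemes, a point in the closure of the image of a closed set is a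
specialization of a point of the image. -/
theorem exists_specializes_of_mem_closure_image {X Y : Scheme.{u}} [IsAffine X] [IsAffine Y]
    (f : X ⟶ Y) (C : Set X) (hC : IsClosed C) (y : Y) (hy : y ∈ closure (f '' C)) :
    ∃ c ∈ C, f c ⤳ y := by
  let eX := X.isoSpec.hom
  let eY := Y.isoSpec.hom
  have hnat : eX ≫ Spec.map f.appTop = f ≫ eY := Scheme.isoSpec_hom_naturality f
  have hXhomeo : IsHomeomorph eX := eX.homeomorph.isHomeomorph
  have hYhomeo : IsHomeomorph eY := eY.homeomorph.isHomeomorph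
  have hC' : IsClosed (eX '' C) := hXhomeo.isClosedMap _ hC
  obtain ⟨I, hI⟩ := (PrimeSpectrum.isClosed_iff_zeroLocus_ideal _).mp hC'
  -- `eY y` lies in the closure of the image
  have h1 : eY y ∈ closure (eY '' (f '' C)) :=
    image_closure_subset_closure_image eY.continuous ⟨y, hy, rfl⟩
  have h2 : eY '' (f '' C) = Spec.map f.appTop '' (eX '' C) := by
    rw [Set.image_image, Set.image_image]
    congr 1
    ext c
    have := congrArg (fun ψ : X ⟶ Spec Γ(Y, ⊤) => ψ c) hnat
    simp only [Scheme.Hom.comp_apply] at this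
    rw [← this]
  rw [h2, hI] at h1
  have h3 : closure (Spec.map f.appTop '' PrimeSpectrum.zeroLocus (I : Set Γ(X, ⊤))) ⊆
      PrimeSpectrum.zeroLocus ((I.comap f.appTop.hom : Ideal Γ(Y, ⊤)) : Set Γ(Y, ⊤)) := by
    refine closure_minimal ?_ (PrimeSpectrum.isClosed_zeroLocus _)
    rintro _ ⟨q, hq, rfl⟩
    exact Ideal.comap_mono (f := f.appTop.hom) hq
  have h4 := h3 h1
  obtain ⟨q, hqI, hq, hqle⟩ :=
    (eY y : PrimeSpectrum Γ(Y, ⊤)).asIdeal.exists_ideal_comap_le_prime I h4
  have hqC : (⟨q, hq⟩ : PrimeSpectrum Γ(X, ⊤)) ∈ eX '' C := by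
    rw [hI]; exact hqI
  obtain ⟨c, hcC, hc⟩ := hqC
  refine ⟨c, hcC, ?_⟩
  rw [← hYhomeo.isInducing.specializes_iff]
  have h5 : eY (f c) = Spec.map f.appTop (eX c) := by
    have := congrArg (fun ψ : X ⟶ Spec Γ(Y, ⊤) => ψ c) hnat
    simp only [Scheme.Hom.comp_apply] at this
    exact this.symm
  rw [h5, hc]
  exact (PrimeSpectrum.le_iff_specializes
    (⟨q.comap f.appTop.hom, inferInstance⟩ : PrimeSpectrum Γ(Y, ⊤)) (eY y)).mp hqle

/-- A subset of an affine scheme whose preimages under the members of a standard V covering are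
all closed is closed. -/
theorem isClosed_of_isStandardV {Z : Scheme.{u}} (F : PreZeroHypercover.{w} Z) (hF : IsStandardV F)
    (T : Set Z) (hT : ∀ j, IsClosed (F.f j ⁻¹' T)) : IsClosed T := by
  have hZ : IsAffine Z := hF.isAffine
  have hfin : Finite F.I₀ := hF.finite_index
  have haff : ∀ j, IsAffine (F.X j) := hF.isAffine_obj
  -- `T` is the union of the images
  have hTeq : T = ⋃ j, F.f j '' (F.f j ⁻¹' T) := by
    ext z
    simp only [Set.mem_iUnion, Set.mem_image, Set.mem_preimage]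
    constructor
    · intro hz
      obtain ⟨j, x, hx⟩ := exists_mem_of_hasValLift F hF.lift z
      exact ⟨j, x, by rw [hx]; exact hz, hx⟩
    · rintro ⟨j, x, hx, rfl⟩
      exact hx
  -- `T` is stable under specialization
  have hstab : ∀ z' z : Z, z' ⤳ z → z' ∈ T → z ∈ T := by
    intro z' z hz hz'T
    obtain ⟨j, x', x, hx, hx', hxz⟩ := exists_specializes_of_hasValLift F hF.lift hz
    have : x' ∈ F.f j ⁻¹' T := by
      show F.f j x' ∈ T
      rw [hx']; exact hz'T
    have hxT : x ∈ F.f j ⁻¹' T := hx.mem_closed (hT j) this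
    rw [← hxz]; exact hxT
  rw [← closure_subset_iff_isClosed]
  intro z hz
  rw [hTeq, closure_iUnion_of_finite] at hz
  obtain ⟨j, hj⟩ := Set.mem_iUnion.mp hz
  obtain ⟨c, hcC, hc⟩ := exists_specializes_of_mem_closure_image (F.f j) _ (hT j) z hj
  exact hstab _ _ hc hcC

section Main

variable {X : Scheme.{u}} (E : PreZeroHypercover.{u} X) (hE : IsVCover E)
  {Z Y' : Scheme.{u}} {f' : Y' ⟶ Z} {g' : Y' ⟶ ∐ E.X} {g : Z ⟶ X}
  (hpb : IsPullback f' g' g (Sigma.desc E.f))

include hpb in
/-- lifting a map into a member of the family to the pullback of the coproduct -/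
theorem exists_lift_pullback {P : Scheme.{u}} (a : P ⟶ Z) (i : E.I₀) (b : P ⟶ E.X i)
    (hab : b ≫ E.f i = a ≫ g) : ∃ k : P ⟶ Y', k ≫ f' = a :=
  ⟨hpb.lift a (b ≫ Sigma.ι E.X i) (by rw [Category.assoc, Sigma.ι_desc, hab]),
    hpb.lift_fst _ _ _⟩

include hE hpb in
theorem surjective_of_isPullback : Function.Surjective f' := by
  intro z
  have hL := hasValLift_of_isVCover E hE
  obtain ⟨W, hWd, hWv, φ, hφ, i, g₁, hg₁⟩ :=
    hL (Z.residueField z) (Z.fromSpecResidueField z ≫ g)
  obtain ⟨k, hk⟩ := exists_lift_pullback E hpb (Spec.map φ ≫ Z.fromSpecResidueField z) i g₁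
    (by rw [hg₁, Category.assoc])
  refine ⟨k (closedPoint W), ?_⟩
  rw [← Scheme.Hom.comp_apply, hk, Scheme.Hom.comp_apply, Scheme.fromSpecResidueField_apply]

include hE hpb in
theorem isClosed_of_isPullback_of_isAffine [IsAffine Z] (T : Set Z)
    (hT : IsClosed (f' ⁻¹' T)) : IsClosed T := by
  obtain ⟨F, hF, href⟩ := exists_standardV_refinesOver g E hE
  refine isClosed_of_isStandardV F hF T (fun j => ?_)
  obtain ⟨i, h, hh⟩ := href j
  obtain ⟨k, hk⟩ := exists_lift_pullback E hpb (F.f j) i h hh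
  have : F.f j ⁻¹' T = k ⁻¹' (f' ⁻¹' T) := by
    rw [← Set.preimage_comp]
    congr 1
    ext x
    simp only [Function.comp_apply, ← Scheme.Hom.comp_apply, hk]
  rw [this]
  exact hT.preimage k.continuous

include hE hpb in
theorem isClosed_of_isPullback (T : Set Z) (hT : IsClosed (f' ⁻¹' T)) : IsClosed T := by
  have hcov : TopologicalSpace.IsOpenCover (fun U : Z.affineOpens => (U : Z.Opens)) :=
    AlgebraicGeometry.iSup_affineOpens_eq_top Z
  rw [hcov.isClosed_iff_coe_preimage]
  intro Z₀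
  have hZ₀ : IsAffine ((Z₀ : Z.Opens) : Scheme.{u}) := Z₀.2
  have sq := ((isPullback_morphismRestrict f' (Z₀ : Z.Opens)).flip.paste_horiz hpb.flip).flip
  have := isClosed_of_isPullback_of_isAffine E hE sq ((Z₀ : Z.Opens).ι ⁻¹' T) ?_
  · exact this
  · have heq : (f' ∣_ (Z₀ : Z.Opens)) ⁻¹' ((Z₀ : Z.Opens).ι ⁻¹' T) =
        (f' ⁻¹ᵁ (Z₀ : Z.Opens)).ι ⁻¹' (f' ⁻¹' T) := by
      ext x
      simp only [Set.mem_preimage]
      have := congrArg (fun ψ : ((f' ⁻¹ᵁ (Z₀ : Z.Opens) : Y'.Opens) : Scheme.{u}) ⟶ Z => ψ x)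
        (morphismRestrict_ι f' (Z₀ : Z.Opens))
      simp only [Scheme.Hom.comp_apply] at this
      rw [← this]
    rw [heq]
    exact hT.preimage (f' ⁻¹ᵁ (Z₀ : Z.Opens)).ι.continuous

include hE in
/-- A V covering is universally submersive. -/
theorem univSubmersive_of_isVCover : SGA1.UnivSubmersive (Sigma.desc E.f) := by
  intro Y' Z g' g f' hpb
  show Topology.IsQuotientMap f'
  rw [Topology.isQuotientMap_iff_isClosed]
  exact ⟨surjective_of_isPullback E hE hpb, fun s =>
    ⟨fun hs => hs.preimage f'.continuous, isClosed_of_isPullback E hE hpb s⟩⟩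

end Main

end Groth.Agent.Lib.VCoverSubmersive
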