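/-
S-subtrusive morphisms (Rydh): basic API (helper52).

* `IsSSubtrusive.surjective`, `isSSubtrusive_of_comp`, `univSSubtrusive_of_comp`
* surjective generalizing maps (e.g. flat surjective morphisms) are (universally) S-subtrusive
* `univSSubtrusive_of_valuationRing`: the lifting property descends from valuation rings
* `exists_specializes_of_mem_closure_fibre`: a point in the closure of a fibre is a specialization
  of a point of the fibre (affine target)
* `isClosed_of_specializationStable`: for a quasi-compact morphism, a specialization-stable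
  subset of the image with closed preimage is closed.
-/
import Groth.Prelude.Def_W4c2submetdescSubtr
import Groth.Agent.Lib.VCoverSubmersive
import Groth.Prelude.Def_SGA1
import Mathlib.AlgebraicGeometry.Morphisms.Flat
import Mathlib.RingTheory.Flat.TorsionFree
import Mathlib.RingTheory.Flat.FaithfullyFlat.Algebra

set_option autoImplicit false
universe u
open CategoryTheory CategoryTheory.Limits AlgebraicGeometry IsLocalRing

namespace Groth.Agent.Lib.SubtrH52

open Subtr HTop Groth.Agent.Lib.ValSpecialize Groth.Agent.Lib.VCoverSubmersive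

theorem IsSSubtrusive.surjective {X Y : Scheme.{u}} {f : X ⟶ Y} (hf : IsSSubtrusive f) :
    Function.Surjective f := fun y => by
  obtain ⟨x, _, _, hx, _⟩ := hf (specializes_rfl : y ⤳ y)
  exact ⟨x, hx⟩

theorem isSSubtrusive_of_comp {X Y Z : Scheme.{u}} (h : X ⟶ Y) (f : Y ⟶ Z)
    (H : IsSSubtrusive (h ≫ f)) : IsSSubtrusive f := by
  intro z z' hz
  obtain ⟨x, x', hx, h1, h2⟩ := H hz
  refine ⟨h x, h x', hx.map h.continuous, ?_, ?_⟩
  · rw [← Scheme.Hom.comp_apply]; exact h1
  · rw [← Scheme.Hom.comp_apply]; exact h2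

theorem univSSubtrusive_of_comp {X Y Z : Scheme.{u}} (h : X ⟶ Y) (f : Y ⟶ Z)
    (H : UnivSSubtrusive (h ≫ f)) : UnivSSubtrusive f := by
  intro Y' Z' i₁ i₂ f' hpb
  -- `hpb : IsPullback f' i₁ i₂ f`
  have sq : IsPullback (pullback.snd h i₁) (pullback.fst h i₁) i₁ h :=
    (IsPullback.of_hasPullback h i₁).flip
  have big : IsPullback (pullback.snd h i₁ ≫ f') (pullback.fst h i₁) i₂ (h ≫ f) :=
    sq.paste_horiz hpb
  exact isSSubtrusive_of_comp _ _ (H _ _ _ big)

theorem isSSubtrusive_of_surjective_of_generalizingMap {X Y : Scheme.{u}} (f : X ⟶ Y)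
    (hs : Function.Surjective f) (hg : GeneralizingMap f) : IsSSubtrusive f := by
  intro y y' hy
  obtain ⟨x, rfl⟩ := hs y
  obtain ⟨x', hx', hx'y⟩ := hg hy
  exact ⟨x, x', hx', rfl, hx'y⟩

theorem univSSubtrusive_of_flat_of_surjective {X Y : Scheme.{u}} (f : X ⟶ Y) [Flat f]
    [Surjective f] : UnivSSubtrusive f := by
  intro X' Y' i₁ i₂ f' hpb
  have h1 : Flat f' := MorphismProperty.of_isPullback hpb.flip inferInstance
  have h2 : Surjective f' := MorphismProperty.of_isPullback hpb.flip inferInstance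
  exact isSSubtrusive_of_surjective_of_generalizingMap f' f'.surjective (Flat.generalizingMap f')

/-- The lifting property for ordered pairs descends from valuation rings. -/
theorem univSSubtrusive_of_valuationRing {X Y : Scheme.{u}} (f : X ⟶ Y)
    (H : ∀ (V : Type u) [CommRing V] [IsDomain V] [ValuationRing V]
      (g : Spec (CommRingCat.of V) ⟶ Y), IsSSubtrusive (pullback.snd f g)) :
    UnivSSubtrusive f := by
  intro X' Y' i₁ i₂ f' hpb y y' hy
  obtain ⟨A, l, hl1, hl2⟩ := exists_valuationSubring_of_specializes' hy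
  have hS := H A (l ≫ i₂)
  obtain ⟨z, z', hz, hz1, hz2⟩ := hS (bot_specializes (closedPoint A))
  let k : pullback f (l ≫ i₂) ⟶ X' :=
    hpb.lift (pullback.snd f (l ≫ i₂) ≫ l) (pullback.fst f (l ≫ i₂))
      (by rw [Category.assoc, ← pullback.condition])
  have hk : k ≫ f' = pullback.snd f (l ≫ i₂) ≫ l := hpb.lift_fst _ _ _
  refine ⟨k z, k z', hz.map k.continuous, ?_, ?_⟩
  · rw [← Scheme.Hom.comp_apply, hk, Scheme.Hom.comp_apply, hz1, hl1]
  · rw [← Scheme.Hom.comp_apply, hk, Scheme.Hom.comp_apply, hz2, hl2]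

theorem isSSubtrusive_snd_of_univSSubtrusive {X Y Y' : Scheme.{u}} (f : X ⟶ Y) (g : Y' ⟶ Y)
    (hf : UnivSSubtrusive f) : IsSSubtrusive (pullback.snd f g) :=
  hf _ _ _ (IsPullback.of_hasPullback f g).flip

theorem flat_of_injective_of_isBezout {V W : Type u} [CommRing V] [IsDomain V] [IsBezout V]
    [CommRing W] [IsDomain W] (φ : V →+* W) (hφ : Function.Injective φ) : φ.Flat := by
  algebraize [φ]
  show Module.Flat V W
  rw [Module.Flat.flat_iff_torsion_eq_bot_of_isBezout, eq_bot_iff]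
  intro w hw
  obtain ⟨⟨v, hv⟩, hvw⟩ := (Submodule.mem_torsion_iff w).mp hw
  have hv0 : v ≠ 0 := nonZeroDivisors.ne_zero hv
  have h1 : φ v * w = 0 := by
    have : (⟨v, hv⟩ : nonZeroDivisors V) • w = 0 := hvw
    rw [Submonoid.mk_smul, Algebra.smul_def] at this
    exact this
  rcases mul_eq_zero.mp h1 with h2 | h2
  · exact absurd (hφ (h2.trans (map_zero φ).symm)) hv0
  · exact h2

theorem IsExtVal.surjective {V W : CommRingCat.{u}} [IsDomain V] [ValuationRing V] [IsDomain W]
    [ValuationRing W] {φ : V ⟶ W} (hφ : IsExtVal V W φ) : Function.Surjective (Spec.map φ) := by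
  have hflat : φ.hom.Flat := flat_of_injective_of_isBezout φ.hom hφ.1
  algebraize [φ.hom]
  have : IsLocalHom (algebraMap V W) := hφ.2
  have : Module.FaithfullyFlat V W := Module.FaithfullyFlat.of_flat_of_isLocalHom
  intro p
  obtain ⟨q, hq⟩ := PrimeSpectrum.comap_surjective_of_faithfullyFlat (A := V) (B := W) p
  exact ⟨q, hq⟩

/-- the generic point of the spectrum of a domain has no proper generization -/
theorem eq_bot_of_specializes_bot {R : Type u} [CommRing R] [IsDomain R] (x : PrimeSpectrum R)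
    (h : x ⤳ (⟨⊥, Ideal.isPrime_bot⟩ : PrimeSpectrum R)) :
    x = (⟨⊥, Ideal.isPrime_bot⟩ : PrimeSpectrum R) := by
  rw [← PrimeSpectrum.le_iff_specializes] at h
  exact le_antisymm h (bot_le (a := x.asIdeal))

/-- A specialization in `X ×_Y Spec V` over `generic ⤳ closed` gives a lift of `Spec V ⟶ Y` to `X`
after a surjective extension of valuation rings. -/
theorem exists_lift_of_specializes {X Y : Scheme.{u}} (f : X ⟶ Y)
    (V : Type u) [CommRing V] [IsDomain V] [ValuationRing V] (g : Spec (CommRingCat.of V) ⟶ Y)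
    (z' z : ↑(pullback f g)) (hz'z : z' ⤳ z)
    (hz : pullback.snd f g z = closedPoint V)
    (hz' : pullback.snd f g z' = (⟨⊥, Ideal.isPrime_bot⟩ : PrimeSpectrum V)) :
    ∃ (V' : Type u) (_ : CommRing V') (_ : IsDomain V') (_ : ValuationRing V')
      (a : Spec (CommRingCat.of V') ⟶ X) (b : Spec (CommRingCat.of V') ⟶ Spec (CommRingCat.of V)),
      Surjective b ∧ a ≫ f = b ≫ g := by
  obtain ⟨A, l, hl1, hl2⟩ := exists_valuationSubring_of_specializes' hz'z
  let φ : CommRingCat.of V ⟶ CommRingCat.of A := Spec.preimage (l ≫ pullback.snd f g)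
  have hφ : Spec.map φ = l ≫ pullback.snd f g := Spec.map_preimage _
  have hext : IsExtVal (CommRingCat.of V) (CommRingCat.of A) φ := by
    apply isExtVal_of_points
    · rw [hφ]
      exact (congrArg (pullback.snd f g) hl1).trans hz
    · rw [hφ]
      exact (congrArg (pullback.snd f g) hl2).trans hz'
  refine ⟨A, inferInstance, inferInstance, inferInstance, l ≫ pullback.fst f g, Spec.map φ,
    ⟨IsExtVal.surjective hext⟩, ?_⟩
  rw [Category.assoc, pullback.condition, ← Category.assoc, ← hφ]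

theorem exists_lift_of_isSSubtrusive {X Y : Scheme.{u}} (f : X ⟶ Y)
    (V : Type u) [CommRing V] [IsDomain V] [ValuationRing V] (g : Spec (CommRingCat.of V) ⟶ Y)
    (H : IsSSubtrusive (pullback.snd f g)) :
    ∃ (V' : Type u) (_ : CommRing V') (_ : IsDomain V') (_ : ValuationRing V')
      (a : Spec (CommRingCat.of V') ⟶ X) (b : Spec (CommRingCat.of V') ⟶ Spec (CommRingCat.of V)),
      Surjective b ∧ a ≫ f = b ≫ g := by
  obtain ⟨z, z', hz, hz1, hz2⟩ := H (bot_specializes (closedPoint V))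
  exact exists_lift_of_specializes f V g z' z hz hz1 hz2

/-- Conversely, a lift after a surjective map of spectra of valuation rings lifts
`generic ⤳ closed`. -/
theorem exists_specializes_of_lift {X Y : Scheme.{u}} (f : X ⟶ Y)
    (V : Type u) [CommRing V] [IsDomain V] [ValuationRing V] (g : Spec (CommRingCat.of V) ⟶ Y)
    (V' : Type u) [CommRing V'] [IsDomain V'] [ValuationRing V']
    (a : Spec (CommRingCat.of V') ⟶ X) (b : Spec (CommRingCat.of V') ⟶ Spec (CommRingCat.of V))
    (hb : Function.Surjective b) (hab : a ≫ f = b ≫ g) :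
    ∃ z z' : ↑(pullback f g), z' ⤳ z ∧ pullback.snd f g z = closedPoint V ∧
      pullback.snd f g z' = (⟨⊥, Ideal.isPrime_bot⟩ : PrimeSpectrum V) := by
  let k : Spec (CommRingCat.of V') ⟶ pullback f g := pullback.lift a b hab
  have hk : k ≫ pullback.snd f g = b := pullback.lift_snd _ _ _
  obtain ⟨w, hw⟩ := hb (closedPoint V)
  obtain ⟨w', hw'⟩ := hb (⟨⊥, Ideal.isPrime_bot⟩ : PrimeSpectrum V)
  let η' : ↥(Spec (CommRingCat.of V')) := (⟨⊥, Ideal.isPrime_bot⟩ : PrimeSpectrum V')
  have hη' : b η' = (⟨⊥, Ideal.isPrime_bot⟩ : PrimeSpectrum V) := by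
    apply eq_bot_of_specializes_bot
    rw [← hw']
    exact (bot_specializes w').map b.continuous
  refine ⟨k w, k η', (bot_specializes w).map k.continuous, ?_, ?_⟩
  · rw [← Scheme.Hom.comp_apply, hk, hw]
  · rw [← Scheme.Hom.comp_apply, hk, hη']

theorem exists_specializes_of_mem_closure_fibre {X Y : Scheme.{u}} [IsAffine Y] (f : X ⟶ Y)
    (y : Y) (x : X) (hx : x ∈ closure (f ⁻¹' {y})) : ∃ x' : X, f x' = y ∧ x' ⤳ x := by
  obtain ⟨U, hU, hxU, -⟩ := exists_isAffineOpen_mem_and_subset (X := X) (x := x) (U := ⊤) trivial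
  have : IsAffine (U : Scheme.{u}) := hU
  let φ : pullback (U.ι ≫ f) (Y.fromSpecResidueField y) ⟶ (U : Scheme.{u}) := pullback.fst _ _
  have hrange : Set.range φ = (U.ι ≫ f) ⁻¹' {y} := by
    rw [Scheme.Pullback.range_fst, Scheme.range_fromSpecResidueField]
  have hmem : (⟨x, hxU⟩ : U) ∈ closure (φ '' Set.univ) := by
    rw [Set.image_univ, hrange,
      U.ι.isOpenEmbedding.isInducing.closure_eq_preimage_closure_image]
    show U.ι ⟨x, hxU⟩ ∈ closure (U.ι '' (U.ι ⁻¹' (f ⁻¹' {y})))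
    rw [Set.image_preimage_eq_inter_range, Scheme.Opens.range_ι, Set.inter_comm]
    exact U.2.inter_closure ⟨hxU, hx⟩
  obtain ⟨c, -, hc⟩ := exists_specializes_of_mem_closure_image φ Set.univ isClosed_univ _ hmem
  refine ⟨U.ι (φ c), ?_, ?_⟩
  · have h1 : φ c ∈ (U.ι ≫ f) ⁻¹' {y} := hrange ▸ Set.mem_range_self c
    exact h1
  · exact hc.map U.ι.continuous

/-- affine target, compact source -/
theorem isClosed_of_specializationStable_of_isAffine {X Y : Scheme.{u}} [IsAffine Y]
    [CompactSpace X] (f : X ⟶ Y) (Z : Set Y) (hZf : IsClosed (f ⁻¹' Z))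
    (hsub : Z ⊆ Set.range f) (hstab : ∀ y' y : Y, y' ⤳ y → y' ∈ Z → y ∈ Z) : IsClosed Z := by
  let 𝒰 := X.affineCover.finiteSubcover
  have hZeq : Z = ⋃ j, (𝒰.f j ≫ f) '' ((𝒰.f j ≫ f) ⁻¹' Z) := by
    ext z
    simp only [Set.mem_iUnion, Set.mem_image, Set.mem_preimage]
    constructor
    · intro hz
      obtain ⟨x, rfl⟩ := hsub hz
      obtain ⟨j, c, rfl⟩ := 𝒰.exists_eq x
      exact ⟨j, c, hz, rfl⟩
    · rintro ⟨j, c, hc, rfl⟩
      exact hc
  rw [← closure_subset_iff_isClosed]
  intro z hz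
  rw [hZeq, closure_iUnion_of_finite] at hz
  obtain ⟨j, hj⟩ := Set.mem_iUnion.mp hz
  have hcl : IsClosed ((𝒰.f j ≫ f) ⁻¹' Z) := by
    have : (𝒰.f j ≫ f) ⁻¹' Z = (𝒰.f j) ⁻¹' (f ⁻¹' Z) := rfl
    rw [this]
    exact hZf.preimage (𝒰.f j).continuous
  obtain ⟨c, hcC, hc⟩ := exists_specializes_of_mem_closure_image (𝒰.f j ≫ f) _ hcl z hj
  exact hstab _ _ hc hcC

/-- For a quasi-compact morphism, a specialization-stable subset of the image with closed
preimage is closed. -/
theorem isClosed_of_specializationStable {X Y : Scheme.{u}} (f : X ⟶ Y) [QuasiCompact f]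
    (Z : Set Y) (hZf : IsClosed (f ⁻¹' Z))
    (hsub : Z ⊆ Set.range f) (hstab : ∀ y' y : Y, y' ⤳ y → y' ∈ Z → y ∈ Z) : IsClosed Z := by
  have hcov : TopologicalSpace.IsOpenCover (fun U : Y.affineOpens => (U : Y.Opens)) :=
    AlgebraicGeometry.iSup_affineOpens_eq_top Y
  rw [hcov.isClosed_iff_coe_preimage]
  intro Y₀
  have hY₀ : IsAffine ((Y₀ : Y.Opens) : Scheme.{u}) := Y₀.2
  have hcomp : CompactSpace ((f ⁻¹ᵁ (Y₀ : Y.Opens) : X.Opens) : Scheme.{u}) :=
    isCompact_iff_compactSpace.mp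
      (QuasiCompact.isCompact_preimage (f := f) _ (Y₀ : Y.Opens).2 Y₀.2.isCompact)
  have hι : ∀ x : ((f ⁻¹ᵁ (Y₀ : Y.Opens) : X.Opens) : Scheme.{u}),
      (Y₀ : Y.Opens).ι ((f ∣_ (Y₀ : Y.Opens)) x) = f ((f ⁻¹ᵁ (Y₀ : Y.Opens)).ι x) := by
    intro x
    have := congrArg (fun ψ : ((f ⁻¹ᵁ (Y₀ : Y.Opens) : X.Opens) : Scheme.{u}) ⟶ Y => ψ x)
      (morphismRestrict_ι f (Y₀ : Y.Opens))
    exact this
  refine isClosed_of_specializationStable_of_isAffine (f ∣_ (Y₀ : Y.Opens))
    ((Y₀ : Y.Opens).ι ⁻¹' Z) ?_ ?_ ?_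
  · have heq : (f ∣_ (Y₀ : Y.Opens)) ⁻¹' ((Y₀ : Y.Opens).ι ⁻¹' Z) =
        (f ⁻¹ᵁ (Y₀ : Y.Opens)).ι ⁻¹' (f ⁻¹' Z) := by
      ext x
      simp only [Set.mem_preimage]
      exact Iff.of_eq (congrArg (· ∈ Z) (hι x))
    rw [heq]
    exact hZf.preimage (f ⁻¹ᵁ (Y₀ : Y.Opens)).ι.continuous
  · intro y hy
    obtain ⟨x, hx⟩ := hsub hy
    have hxmem : x ∈ f ⁻¹ᵁ (Y₀ : Y.Opens) := by
      show f x ∈ (Y₀ : Y.Opens)
      rw [hx]; exact y.2
    refine ⟨⟨x, hxmem⟩, ?_⟩
    apply (Y₀ : Y.Opens).ι.isOpenEmbedding.injective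
    exact (hι _).trans hx
  · intro y' y hy hy'
    exact hstab _ _ (hy.map (Y₀ : Y.Opens).ι.continuous) hy'

/-- A quasi-compact surjective morphism along which closed-preimage subsets are
specialization-stable is a quotient map. -/
theorem isQuotientMap_of_specializationStable {X Y : Scheme.{u}} (f : X ⟶ Y) [QuasiCompact f]
    (hs : Function.Surjective f)
    (hstab : ∀ Z : Set Y, IsClosed (f ⁻¹' Z) → ∀ y' y : Y, y' ⤳ y → y' ∈ Z → y ∈ Z) :
    Topology.IsQuotientMap f := by
  rw [Topology.isQuotientMap_iff_isClosed]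
  refine ⟨hs, fun Z => ⟨fun hZ => hZ.preimage f.continuous, fun hZ => ?_⟩⟩
  exact isClosed_of_specializationStable f Z hZ (fun z _ => hs z) (hstab Z hZ)

theorem isQuotientMap_of_isSSubtrusive {X Y : Scheme.{u}} (f : X ⟶ Y) [QuasiCompact f]
    (hf : IsSSubtrusive f) : Topology.IsQuotientMap f := by
  refine isQuotientMap_of_specializationStable f (IsSSubtrusive.surjective hf) ?_
  intro Z hZ y' y hy hy'
  obtain ⟨x, x', hx, h1, h2⟩ := hf hy
  have : x' ∈ f ⁻¹' Z := by
    show f x' ∈ Z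
    rw [h2]; exact hy'
  have hxZ : x ∈ f ⁻¹' Z := hx.mem_closed hZ this
  rw [← h1]; exact hxZ

/-- quasi-compact + universally S-subtrusive implies universally submersive -/
theorem univSubmersive_of_univSSubtrusive {X Y : Scheme.{u}} (f : X ⟶ Y) [QuasiCompact f]
    (hf : UnivSSubtrusive f) : SGA1.UnivSubmersive f := by
  intro X' Y' i₁ i₂ f' hpb
  have : QuasiCompact f' := MorphismProperty.of_isPullback hpb.flip inferInstance
  exact isQuotientMap_of_isSSubtrusive f' (hf _ _ _ hpb)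

/-- universal submersiveness of a quasi-compact morphism can be tested on valuation rings -/
theorem univSubmersive_of_forall_valuationRing {X Y : Scheme.{u}} (f : X ⟶ Y) [QuasiCompact f]
    (H : ∀ (V : Type u) [CommRing V] [IsDomain V] [ValuationRing V]
      (g : Spec (CommRingCat.of V) ⟶ Y), Topology.IsQuotientMap (pullback.snd f g)) :
    SGA1.UnivSubmersive f := by
  intro X' Y' i₁ i₂ f' hpb
  have : QuasiCompact f' := MorphismProperty.of_isPullback hpb.flip inferInstance
  show Topology.IsQuotientMap f'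
  -- the comparison map from the base change along `Spec V ⟶ Y' ⟶ Y`
  have key : ∀ (V : Type u) [CommRing V] [IsDomain V] [ValuationRing V]
      (l : Spec (CommRingCat.of V) ⟶ Y'),
      ∃ k : pullback f (l ≫ i₂) ⟶ X', k ≫ f' = pullback.snd f (l ≫ i₂) ≫ l := by
    intro V _ _ _ l
    exact ⟨hpb.lift (pullback.snd f (l ≫ i₂) ≫ l) (pullback.fst f (l ≫ i₂))
      (by rw [Category.assoc, ← pullback.condition]), hpb.lift_fst _ _ _⟩
  refine isQuotientMap_of_specializationStable f' ?_ ?_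
  · intro y
    have h1 : IsDomain (Y'.residueField y) := inferInstance
    have h2 : ValuationRing (Y'.residueField y) := inferInstance
    obtain ⟨k, hk⟩ := @key (Y'.residueField y) _ h1 h2 (Y'.fromSpecResidueField y)
    obtain ⟨z, -⟩ := (@H (Y'.residueField y) _ h1 h2 (Y'.fromSpecResidueField y ≫ i₂)).surjective
      (closedPoint (Y'.residueField y))
    refine ⟨k z, ?_⟩
    rw [← Scheme.Hom.comp_apply, hk, Scheme.Hom.comp_apply, Scheme.fromSpecResidueField_apply]
  · intro Z hZ y' y hy hy'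
    obtain ⟨A, l, hl1, hl2⟩ := exists_valuationSubring_of_specializes' hy
    obtain ⟨k, hk⟩ := key A l
    have hq := H A (l ≫ i₂)
    have hT : IsClosed (l ⁻¹' Z) := by
      rw [← hq.isClosed_preimage]
      have : pullback.snd f (l ≫ i₂) ⁻¹' (l ⁻¹' Z) = k ⁻¹' (f' ⁻¹' Z) := by
        ext z
        simp only [Set.mem_preimage]
        rw [← Scheme.Hom.comp_apply, ← Scheme.Hom.comp_apply, hk]
      rw [this]
      exact hZ.preimage k.continuous
    have h1 : (⟨⊥, Ideal.isPrime_bot⟩ : PrimeSpectrum A) ∈ l ⁻¹' Z := by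
      show l _ ∈ Z
      rw [hl2]; exact hy'
    have h2 : closedPoint A ∈ l ⁻¹' Z := (bot_specializes (closedPoint A)).mem_closed hT h1
    rw [← hl1]; exact h2

end Groth.Agent.Lib.SubtrH52
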