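import Groth.Agent.Lib.ValChainH52
import Groth.Agent.Lib.SubtrH52

set_option autoImplicit false
universe u
open CategoryTheory CategoryTheory.Limits AlgebraicGeometry IsLocalRing Topology

namespace Groth.Agent.Lib.ValChainH52

open Subtr Groth.Agent.Lib.SubtrH52 Groth.Agent.Lib.ValSpecialize

/-- Every finite chain of specializations in a scheme is the image of a chain of primes of a
valuation ring. -/
theorem exists_valuationRing_of_chain {Y : Scheme.{u}} (n : ℕ) (y : Fin (n + 1) → Y)
    (hy : ∀ i j, i ≤ j → y i ⤳ y j) :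
    ∃ (k : Type u) (_ : Field k) (B : ValuationSubring k) (g : Spec (CommRingCat.of B) ⟶ Y)
      (q : Fin (n + 1) → PrimeSpectrum B), (∀ i j, i ≤ j → q i ≤ q j) ∧ ∀ i, g (q i) = y i := by
  obtain ⟨U, hU, hlast, -⟩ := exists_isAffineOpen_mem_and_subset (X := Y)
    (x := y (Fin.last n)) (U := ⊤) trivial
  have hmem : ∀ i, y i ∈ U := fun i => (hy i (Fin.last n) (Fin.le_last i)).mem_open U.2 hlast
  let P : Fin (n + 1) → PrimeSpectrum Γ(Y, U) := fun i => hU.primeIdealOf ⟨y i, hmem i⟩
  have hPy : ∀ i, hU.fromSpec (P i) = y i := fun i => hU.fromSpec_primeIdealOf ⟨y i, hmem i⟩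
  have hP : ∀ i j, i ≤ j → P i ≤ P j := by
    intro i j hij
    rw [PrimeSpectrum.le_iff_specializes]
    have hind : IsInducing hU.fromSpec := hU.fromSpec.isOpenEmbedding.isInducing
    have h1 : hU.fromSpec (P i) ⤳ hU.fromSpec (P j) := by
      rw [hPy, hPy]; exact hy i j hij
    exact hind.specializes_iff.mp h1
  let k := (P 0).asIdeal.ResidueField
  let φ : Γ(Y, U) →+* k := algebraMap Γ(Y, U) k
  have hker : RingHom.ker φ = (P 0).asIdeal := Ideal.ker_algebraMap_residueField _
  obtain ⟨B, hB, q, hq, hcomap⟩ := exists_valuationSubring_of_chain n k φ P hP hker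
  refine ⟨k, inferInstance, B,
    Spec.map (CommRingCat.ofHom (φ.codRestrict B.toSubring hB)) ≫ hU.fromSpec, q, hq, ?_⟩
  intro i
  let c : ↥(Spec (CommRingCat.of B)) := q i
  show (Spec.map (CommRingCat.ofHom (φ.codRestrict B.toSubring hB)) ≫ hU.fromSpec) c = y i
  rw [Scheme.Hom.comp_apply]
  have : Spec.map (CommRingCat.ofHom (φ.codRestrict B.toSubring hB)) c = P i := hcomap i
  rw [this, hPy]

/-- the spectrum of a valuation ring is totally ordered by specialization -/
theorem specializes_total {V : Type u} [CommRing V] [IsDomain V] [ValuationRing V]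
    (p q : PrimeSpectrum V) : p ⤳ q ∨ q ⤳ p := by
  rw [← PrimeSpectrum.le_iff_specializes, ← PrimeSpectrum.le_iff_specializes]
  exact (ValuationRing.iff_ideal_total.mp inferInstance).total p.asIdeal q.asIdeal

/-- chains lift along surjective maps from the spectrum of a valuation ring -/
theorem exists_chain_lift_of_valuationRing {V : Type u} [CommRing V] [IsDomain V] [ValuationRing V]
    {T : Scheme.{u}} (b : Spec (CommRingCat.of V) ⟶ T) (hb : Function.Surjective b)
    (n : ℕ) (t : Fin (n + 1) → T) (ht : ∀ i j, i ≤ j → t i ⤳ t j) :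
    ∃ w : Fin (n + 1) → Spec (CommRingCat.of V), (∀ i j, i ≤ j → w i ⤳ w j) ∧ ∀ i, b (w i) = t i := by
  choose σ hσ using hb
  refine ⟨fun i => σ (t i), ?_, fun i => hσ _⟩
  intro i j hij
  rcases specializes_total (V := V) (σ (t i)) (σ (t j)) with h | h
  · exact h
  · have h1 : t j ⤳ t i := by
      have := h.map b.continuous
      rwa [hσ, hσ] at this
    have h2 : t i = t j := ((ht i j hij).antisymm h1).eq
    show σ (t i) ⤳ σ (t j)
    rw [h2]

/-- **Lifting of chains**: if every base change of `f` lifts ordered pairs of points, then `f`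
lifts finite chains of specializations. -/
theorem exists_chain_lift {X Y : Scheme.{u}} (f : X ⟶ Y) (hf : UnivSSubtrusive f) (n : ℕ)
    (y : Fin (n + 1) → Y) (hy : ∀ i j, i ≤ j → y i ⤳ y j) :
    ∃ x : Fin (n + 1) → X, (∀ i j, i ≤ j → x i ⤳ x j) ∧ ∀ i, f (x i) = y i := by
  obtain ⟨k, _, B, g, q, hq, hgq⟩ := exists_valuationRing_of_chain n y hy
  obtain ⟨V', _, _, _, a, b, hb, hab⟩ := exists_lift_of_isSSubtrusive f B g
    (isSSubtrusive_snd_of_univSSubtrusive f g hf)
  obtain ⟨w, hw, hbw⟩ := exists_chain_lift_of_valuationRing b hb.surj n q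
    (fun i j hij => (PrimeSpectrum.le_iff_specializes _ _).mp (hq i j hij))
  refine ⟨fun i => a (w i), fun i j hij => (hw i j hij).map a.continuous, ?_⟩
  intro i
  rw [← Scheme.Hom.comp_apply, hab, Scheme.Hom.comp_apply]
  exact (congrArg g (hbw i)).trans (hgq i)

end Groth.Agent.Lib.ValChainH52
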