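import Mathlib
import Groth.Prelude.Def_EGA43
import Groth.Agent.Lib.H56ValFib
import Groth.Agent.Lib.H30FibBC
import Groth.Agent.Lib.ValChainSchH52
import Groth.Agent.Lib.OpenAt45
import Groth.Agent.Lib.H80Max1
import Groth.Agent.S5924

/-!
# EGA IV 14.3.x without Noetherian hypotheses (helper56)

For `f : X ⟶ Y` locally of finite type and `x` a maximal point of its fibre:

* `fibreDimAt_le_dim_inter_of_isUnivOpenAt`: if `f` is universally open at `x`, then for every open
  `U ∋ x` and every generization `y'` of `f x`, `dim_x (X_{f x}) ≤ dim (U ∩ X_{y'})`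
  (proof: base change to a valuation ring through `y' ⤳ f x`, then the valuation ring inequality
  `tdeg_le_of_specializes_Spec`).
* `exists_component_of_forall_le_dim_inter`: conversely, if these inequalities hold then for every
  irreducible component `Y₀ ∋ f x` of `Y` there is an irreducible component `Z ∋ x` of `X`
  dominating `Y₀` with `dim_x (X_{f x}) = dim_x (Z ∩ X_{f x}) = dim (Z ∩ X_η)`.
-/

set_option autoImplicit false
universe u
open CategoryTheory CategoryTheory.Limits AlgebraicGeometry TopologicalSpace Topology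

namespace Groth.Agent.Lib.H56UnivOpenDim

open Groth.Agent.Lib.H56OpenDim Groth.Agent.Lib.H56ValTrdeg

variable {X Y : Scheme.{u}}

/-- **EGA IV 14.3.x, a) ⇒ b')** (no Noetherian hypothesis). -/
theorem fibreDimAt_le_dim_inter_of_isUnivOpenAt (f : X ⟶ Y) [LocallyOfFiniteType f] (x : X)
    (hmax : ∀ x' : X, f.base x' = f.base x → x ∈ closure {x'} → x' = x)
    (hUO : EGA43.IsUnivOpenAt f x) (U : X.Opens) (hxU : x ∈ U) (y' : Y) (hy' : y' ⤳ f.base x) :
    FlatMor.fibreDimAt f x ≤ topologicalKrullDim ↥((U : Set X) ∩ f.base ⁻¹' {y'}) := by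
  obtain ⟨k, _, B, g, q, hq, hgq⟩ :=
    Groth.Agent.Lib.ValChainH52.exists_valuationRing_of_chain 1 ![y', f x] (by
      intro i j hij
      fin_cases i <;> fin_cases j
      · exact specializes_rfl
      · exact hy'
      · exact absurd hij (by decide)
      · exact specializes_rfl)
  have hg0 : g (q 0) = y' := hgq 0
  have hg1 : g (q 1) = f x := hgq 1
  have hq01 : q 0 ⤳ q 1 := (PrimeSpectrum.le_iff_specializes _ _).mp (hq 0 1 (by decide))
  have hsq : IsPullback (pullback.fst f g) (pullback.snd f g) f g := IsPullback.of_hasPullback f g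
  have hlft : LocallyOfFiniteType (pullback.snd f g) :=
    MorphismProperty.pullback_snd (P := @LocallyOfFiniteType) f g inferInstance
  obtain ⟨x₀, hx₀1, hx₀2⟩ := Scheme.Pullback.exists_preimage_pullback (f := f) (g := g) x (q 1)
    hg1.symm
  obtain ⟨w, hwx, hfw, hwmax, hw⟩ := exists_maxInFibre_fibreDimAt_eq (pullback.snd f g) x₀
  have hcond : ∀ z : ↥(pullback f g), f (pullback.fst f g z) = g (pullback.snd f g z) := by
    intro z
    rw [← Scheme.Hom.comp_apply, ← Scheme.Hom.comp_apply, pullback.condition]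
  have hgw : pullback.fst f g w = x := by
    apply hmax
    · rw [hcond, hfw, hx₀2, hg1]
    · have := hwx.map (pullback.fst f g).continuous
      rw [hx₀1] at this
      exact specializes_iff_mem_closure.mp this
  have hbc := Groth.Agent.Lib.H30FibBC.fibreDimAt_eq_of_isPullback f g (pullback.fst f g)
    (pullback.snd f g) hsq x₀
  rw [hx₀1] at hbc
  have hopen := hUO _ g w hgw
  obtain ⟨v, hvw, hfv⟩ := Groth.Agent.Lib.OpenAt45.exists_generization_of_isOpenAt
    (pullback.snd f g) w hopen (q 0) (by rw [hfw, hx₀2]; exact hq01)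
  have h1 : tdeg (pullback.snd f g) w ≤ tdeg (pullback.snd f g) v :=
    tdeg_le_of_specializes_Spec B (pullback.snd f g) w v hvw
  have h2 := tdeg_le_fibreDimAt (pullback.snd f g) v
  have h3 := Groth.Agent.Lib.H30FibBC.fibreDimAt_eq_of_isPullback f g (pullback.fst f g)
    (pullback.snd f g) hsq v
  have h4 : pullback.fst f g v ∈ U := by
    have := hvw.map (pullback.fst f g).continuous
    rw [hgw] at this
    exact this.mem_open U.isOpen hxU
  have h5 : f (pullback.fst f g v) = y' := by rw [hcond, hfv, hg0]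
  have h6 := Groth.Agent.Lib.H80Max.fibreDimAt_le_dim_inter f U (pullback.fst f g v) h4
  rw [h5] at h6
  calc FlatMor.fibreDimAt f x = (tdeg (pullback.snd f g) w : WithBot ℕ∞) := by rw [← hbc, hw]
    _ ≤ (tdeg (pullback.snd f g) v : WithBot ℕ∞) := by exact_mod_cast h1
    _ ≤ FlatMor.fibreDimAt (pullback.snd f g) v := h2
    _ = FlatMor.fibreDimAt f (pullback.fst f g v) := h3
    _ ≤ _ := h6

/-- **EGA IV 14.3.x, b') ⇒ b)** (no Noetherian hypothesis). -/
theorem exists_component_of_forall_le_dim_inter (f : X ⟶ Y) [LocallyOfFiniteType f] (x : X)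
    (hmax : ∀ x' : X, f.base x' = f.base x → x ∈ closure {x'} → x' = x)
    (hb' : ∀ U : X.Opens, x ∈ U → ∀ y' : Y, y' ⤳ f.base x →
      FlatMor.fibreDimAt f x ≤ topologicalKrullDim ↥((U : Set X) ∩ f.base ⁻¹' {y'})) :
    ∀ Y₀ ∈ irreducibleComponents (Y : Type u), f.base x ∈ Y₀ →
      ∃ Z ∈ irreducibleComponents (X : Type u), ∃ hx : x ∈ Z, closure (f.base '' Z) = Y₀ ∧
        ∀ η : Y, closure ({η} : Set Y) = Y₀ →
          FlatMor.fibreDimAt f x = FlatMor.localDim ↥(Z ∩ f.base ⁻¹' {f.base x}) ⟨x, ⟨hx, rfl⟩⟩ ∧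
          FlatMor.localDim ↥(Z ∩ f.base ⁻¹' {f.base x}) ⟨x, ⟨hx, rfl⟩⟩ =
            topologicalKrullDim ↥(Z ∩ f.base ⁻¹' {η}) := by
  intro Y₀ hY₀ hyY₀
  obtain ⟨η₀, hη₀⟩ := QuasiSober.sober hY₀.1 (isClosed_of_mem_irreducibleComponents Y₀ hY₀)
  have hη₀cl : closure ({η₀} : Set Y) = Y₀ := hη₀.def
  have hη₀x : η₀ ⤳ f x := by
    rw [specializes_iff_mem_closure, hη₀cl]
    exact hyY₀
  have hη₀max : ∀ η' : Y, η' ⤳ η₀ → η' = η₀ := by
    rw [← Groth.Agent.Lib.H30DimField.closure_mem_irreducibleComponents_iff, hη₀cl]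
    exact hY₀
  have hmax' : ∀ w : X, w ⤳ x → f w = f x → w = x := fun w hw hfw =>
    hmax w hfw (specializes_iff_mem_closure.mp hw)
  have hn : FlatMor.fibreDimAt f x = (tdeg f x : WithBot ℕ∞) :=
    fibreDimAt_eq_tdeg_of_maximal' f x hmax'
  -- affine charts
  obtain ⟨_, ⟨V, hV, rfl⟩, hfxV, -⟩ := Y.isBasis_affineOpens.exists_subset_of_mem_open
    (Set.mem_univ (f x)) isOpen_univ
  have hxV : x ∈ f ⁻¹ᵁ V := hfxV
  obtain ⟨_, ⟨U₀, hU₀, rfl⟩, hxU₀, hU₀V⟩ := X.isBasis_affineOpens.exists_subset_of_mem_open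
    hxV (f ⁻¹ᵁ V).isOpen
  replace hV : IsAffineOpen V := hV
  replace hU₀ : IsAffineOpen U₀ := hU₀
  have e : U₀ ≤ f ⁻¹ᵁ V := hU₀V
  have hfin := Groth.Agent.S5924.finite_max_fibre f η₀ U₀ V hU₀ hV e
  set W : Set X := {z : X | z ∈ U₀ ∧ f z = η₀ ∧ ∀ z' : X, f z' = η₀ → z' ⤳ z → z' = z} with hW
  set W' : Set X := {z ∈ W | ¬ z ⤳ x} with hW'
  have hfin' : W'.Finite := hfin.subset (fun z hz => hz.1)
  have hCcl : IsClosed (⋃ z ∈ W', closure ({z} : Set X)) :=
    hfin'.isClosed_biUnion (fun z _ => isClosed_closure)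
  let U : X.Opens := U₀ ⊓ ⟨(⋃ z ∈ W', closure ({z} : Set X))ᶜ, hCcl.isOpen_compl⟩
  have hxU : x ∈ U := by
    refine ⟨hxU₀, ?_⟩
    change x ∉ ⋃ z ∈ W', closure ({z} : Set X)
    simp only [Set.mem_iUnion, not_exists]
    intro z hz hxz
    exact hz.2 (specializes_iff_mem_closure.mpr hxz)
  have hdim := hb' U hxU η₀ hη₀x
  rw [hn, dim_inter_preimage_eq f U η₀] at hdim
  obtain ⟨u, hu, hnu⟩ := exists_le_tdeg_of_le_dim_fiber (U.ι ≫ f) η₀ (tdeg f x) hdim
  have h2 := tdeg_le_fibreDimAt (U.ι ≫ f) u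
  rw [fibreDimAt_ι_comp f U u] at h2
  obtain ⟨w, hwu, hfw, hwmax, hw⟩ := exists_maxInFibre_fibreDimAt_eq f (U.ι.base u)
  have hfu : f (U.ι.base u) = η₀ := by
    rw [← Scheme.Hom.comp_apply]; exact hu
  have hfw' : f w = η₀ := hfw.trans hfu
  have hwU : w ∈ U := hwu.mem_open U.isOpen u.2
  have hnw : tdeg f x ≤ tdeg f w := by
    have h3 : (tdeg (U.ι ≫ f) u : WithBot ℕ∞) ≤ (tdeg f w : WithBot ℕ∞) := by
      rw [← hw]; exact h2
    have h4 : tdeg (U.ι ≫ f) u ≤ tdeg f w := by exact_mod_cast h3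
    exact hnu.trans h4
  have hwW : w ∈ W := by
    refine ⟨hwU.1, hfw', ?_⟩
    intro z' hz' hz'w
    exact hwmax z' hz'w (hz'.trans hfw'.symm)
  have hwx : w ⤳ x := by
    by_contra hcon
    have h5 : w ∈ ⋃ z ∈ W', closure ({z} : Set X) := by
      simp only [Set.mem_iUnion]
      exact ⟨w, ⟨hwW, hcon⟩, subset_closure rfl⟩
    exact hwU.2 h5
  have hwmaxX : ∀ v : X, v ⤳ w → v = w := by
    intro v hv
    apply hwmax v hv
    have h6 : f v ⤳ f w := hv.map f.continuous
    rw [hfw'] at h6 ⊢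
    exact hη₀max _ h6
  have hxZ : x ∈ closure ({w} : Set X) := specializes_iff_mem_closure.mp hwx
  have hle : tdeg f w ≤ tdeg f x := by
    have h7 := fibreDimAt_le_of_specializes f w x hwx
    rw [fibreDimAt_eq_tdeg_of_maximal' f w hwmax, hn] at h7
    exact_mod_cast h7
  have heq : tdeg f w = tdeg f x := le_antisymm hle hnw
  refine ⟨closure {w}, (Groth.Agent.Lib.H30DimField.closure_mem_irreducibleComponents_iff w).mpr
    hwmaxX, hxZ, ?_, ?_⟩
  · rw [← hη₀cl, ← hfw']
    apply le_antisymm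
    · apply closure_minimal _ isClosed_closure
      refine (image_closure_subset_closure_image f.continuous).trans ?_
      rw [Set.image_singleton]
    · apply closure_mono
      rw [Set.singleton_subset_iff]
      exact ⟨w, subset_closure rfl, rfl⟩
  · intro η hη
    have hηeq : η = η₀ := by
      have : closure ({η} : Set Y) = closure {η₀} := hη.trans hη₀cl.symm
      exact (inseparable_iff_closure_eq.mpr this).eq
    subst hηeq
    have h8 := localDim_inter_fiber_of_maximal f x hmax' (closure {w}) isClosed_closure hxZ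
    refine ⟨by rw [h8, hn], ?_⟩
    rw [h8]
    have h9 := dim_closure_inter_fiber f w
    rw [hfw', heq] at h9
    exact h9.symm

end Groth.Agent.Lib.H56UnivOpenDim
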