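import Mathlib
import Groth.Prelude.Def_EGA43
import Groth.Agent.Lib.H56UnivOpenDim
import Groth.Agent.Lib.EquidimRestrict

/-!
# Irreducible components equidimensional at a point (helper56)

For `f : X ⟶ S` locally of finite type (no Noetherian hypothesis):

* `exists_isEquidimAt_redSub`: if `ζ ⤳ x`, `f ζ` is a maximal point of `S` and
  `dim_x (X_{f x}) ≤ trdeg κ(ζ)/κ(f ζ)`, then the reduced closed subscheme on `closure {ζ}` is
  equidimensional over `S` at (the point over) `x`.
* `exists_component_isEquidimAt`: packaged with `ζ` a maximal point of `X`.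
* `exists_component_isEquidimAt_of_isUnivOpenAt`: if `f` is universally open at the maximal points
  of the fibre through `x`, then `x` lies on an irreducible component `W` with `W ⟶ S`
  equidimensional at `x`.
-/

set_option autoImplicit false
universe u
open CategoryTheory CategoryTheory.Limits AlgebraicGeometry TopologicalSpace Topology

namespace Groth.Agent.Lib.H56EquidimComp

open Groth.Agent.Lib.H56OpenDim Groth.Agent.Lib.H56ValTrdeg Groth.Agent.Lib.H30GenFib
  Groth.Agent.Lib.H30DimRel Groth.Agent.Lib.H30IrrFib Groth.Agent.Lib.EquidimRestrict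
  Groth.Agent.Lib.H69RedInduced

variable {X S : Scheme.{u}}

/-- the reduced closed subscheme on the closure of `ζ` is equidimensional at `x` as soon as `f ζ`
is a maximal point and the local fibre dimension of `f` at `x` is at most `trdeg κ(ζ)/κ(f ζ)` -/
theorem exists_isEquidimAt_redSub (f : X ⟶ S) [LocallyOfFiniteType f] (ζ x : X) (hζx : ζ ⤳ x)
    (hfζ : IsMaxPt (f ζ)) (hle : FlatMor.fibreDimAt f x ≤ ((tdeg f ζ : ℕ) : WithBot ℕ∞)) :
    ∃ w : ↥(redSub (clos ζ)), (redSubι (clos ζ)) w = x ∧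
      EGA43.IsEquidimAt (redSubι (clos ζ) ≫ f) w := by
  obtain ⟨ξZ, hξZ, hξ⟩ := exists_redSub_generic ζ
  obtain ⟨w, hw⟩ := exists_redSub_pt ζ x hζx
  refine ⟨w, hw, isEquidimAt_of_generic (redSubι (clos ζ) ≫ f) ξZ hξ ?_ w ?_⟩
  · rw [Scheme.Hom.comp_apply, hξZ]
    exact hfζ
  · rw [rt_comp_of_isPreimmersion, hξZ]
    refine (fibreDimAt_comp_le (redSubι (clos ζ)) (redSubι (clos ζ)).isEmbedding.isInducing f w).trans
      ?_
    rw [hw]
    exact hle

/-- packaged form: the component is an irreducible component of `X` -/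
theorem exists_component_isEquidimAt (f : X ⟶ S) [LocallyOfFiniteType f] (ζ x : X) (hζx : ζ ⤳ x)
    (hζ : IsMaxPt ζ) (hfζ : IsMaxPt (f ζ))
    (hle : FlatMor.fibreDimAt f x ≤ ((tdeg f ζ : ℕ) : WithBot ℕ∞)) :
    ∃ W : TopologicalSpace.Closeds X, (W : Set X) ∈ irreducibleComponents (X : Type u) ∧
      ∃ w : ↥((Scheme.IdealSheafData.vanishingIdeal W).subscheme),
        (Scheme.IdealSheafData.vanishingIdeal W).subschemeι.base w = x ∧
        EGA43.IsEquidimAt ((Scheme.IdealSheafData.vanishingIdeal W).subschemeι ≫ f) w := by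
  obtain ⟨w, hw, hE⟩ := exists_isEquidimAt_redSub f ζ x hζx hfζ hle
  exact ⟨clos ζ, (Groth.Agent.Lib.H30DimField.closure_mem_irreducibleComponents_iff ζ).mpr hζ,
    w, hw, hE⟩

/-- if `f` is universally open at the maximal points of the fibre through `x`, then `x` lies on an
irreducible component `W` of `X` such that `W ⟶ S` is equidimensional at `x` -/
theorem exists_component_isEquidimAt_of_isUnivOpenAt (f : X ⟶ S) [LocallyOfFiniteType f] (x : X)
    (hUO : ∀ w : X, w ⤳ x → f w = f x → IsMaxInFibre f w → EGA43.IsUnivOpenAt f w) :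
    ∃ W : TopologicalSpace.Closeds X, (W : Set X) ∈ irreducibleComponents (X : Type u) ∧
      ∃ w : ↥((Scheme.IdealSheafData.vanishingIdeal W).subscheme),
        (Scheme.IdealSheafData.vanishingIdeal W).subschemeι.base w = x ∧
        EGA43.IsEquidimAt ((Scheme.IdealSheafData.vanishingIdeal W).subschemeι ≫ f) w := by
  obtain ⟨w₀, hw₀x, hfw₀, hw₀max, hw₀⟩ := exists_maxInFibre_fibreDimAt_eq f x
  have hmax : ∀ x' : X, f.base x' = f.base w₀ → w₀ ∈ closure {x'} → x' = w₀ := fun x' h1 h2 =>
    hw₀max x' (specializes_iff_mem_closure.mpr h2) h1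
  have hb' := fun U hU y' hy' =>
    Groth.Agent.Lib.H56UnivOpenDim.fibreDimAt_le_dim_inter_of_isUnivOpenAt f w₀ hmax
      (hUO w₀ hw₀x hfw₀ hw₀max) U hU y' hy'
  obtain ⟨Z, hZ, hw₀Z, hZdom, hZdim⟩ :=
    Groth.Agent.Lib.H56UnivOpenDim.exists_component_of_forall_le_dim_inter f w₀ hmax hb'
      (irreducibleComponent (f w₀)) (irreducibleComponent_mem_irreducibleComponents _)
      mem_irreducibleComponent
  obtain ⟨ζ, hζ⟩ := QuasiSober.sober hZ.1 (isClosed_of_mem_irreducibleComponents Z hZ)
  have hζcl : closure ({ζ} : Set X) = Z := hζ.def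
  have hζmax : IsMaxPt ζ := by
    rw [IsMaxPt, ← Groth.Agent.Lib.H30DimField.closure_mem_irreducibleComponents_iff, hζcl]
    exact hZ
  have hfζcl : closure ({f ζ} : Set S) = irreducibleComponent (f w₀) := by
    rw [← hZdom, ← hζcl]
    apply le_antisymm
    · apply closure_mono
      rw [Set.singleton_subset_iff]
      exact ⟨ζ, subset_closure rfl, rfl⟩
    · apply closure_minimal _ isClosed_closure
      refine (image_closure_subset_closure_image f.continuous).trans ?_
      rw [Set.image_singleton]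
  have hfζmax : IsMaxPt (f ζ) := by
    rw [IsMaxPt, ← Groth.Agent.Lib.H30DimField.closure_mem_irreducibleComponents_iff, hfζcl]
    exact irreducibleComponent_mem_irreducibleComponents _
  have hζw₀ : ζ ⤳ w₀ := by
    rw [specializes_iff_mem_closure, hζcl]
    exact hw₀Z
  obtain ⟨h1, h2⟩ := hZdim (f ζ) hfζcl
  have h3 := dim_closure_inter_fiber f ζ
  rw [hζcl] at h3
  have h4 : FlatMor.fibreDimAt f w₀ = ((tdeg f ζ : ℕ) : WithBot ℕ∞) := by
    rw [h1, h2, h3]
  have h5 : FlatMor.fibreDimAt f w₀ = ((tdeg f w₀ : ℕ) : WithBot ℕ∞) :=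
    fibreDimAt_eq_tdeg_of_maximal' f w₀ hw₀max
  refine exists_component_isEquidimAt f ζ x (hζw₀.trans hw₀x) hζmax hfζmax ?_
  rw [hw₀, ← h5, h4]

end Groth.Agent.Lib.H56EquidimComp
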