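import Mathlib.RingTheory.Henselian
import Mathlib.RingTheory.AdjoinRoot
import Mathlib.RingTheory.Nakayama
import Mathlib.RingTheory.Spectrum.Prime.RingHom
import Mathlib.RingTheory.LocalRing.ResidueField.Basic

set_option autoImplicit false
universe u

namespace Groth.Agent.Lib.H56HenselCore

open IsLocalRing Polynomial

section Core

variable {R : Type u} [CommRing R] [IsLocalRing R]

/-- Core of the "finite algebra splits => henselian" arguments: if `B = R[X]/(f)` (`f` monic)
contains an idempotent `e`, not killed by the evaluation `χ : B → κ` at a residual root `ā₀`,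
with `e (x - a₀) ∈ m B`, then `f` has a root `a ≡ a₀`. -/
theorem exists_root_of_idem (f : R[X]) (hf : f.Monic) (a₀ : R)
    (χ : AdjoinRoot f →+* ResidueField R)
    (hχof : ∀ r, χ (AdjoinRoot.of f r) = residue R r)
    (hχroot : χ (AdjoinRoot.root f) = residue R a₀)
    (e : AdjoinRoot f) (he : IsIdempotentElem e) (hχe : χ e ≠ 0)
    (hy : e * (AdjoinRoot.root f - AdjoinRoot.of f a₀) ∈
      (maximalIdeal R • ⊤ : Submodule R (AdjoinRoot f))) :
    ∃ a : R, f.IsRoot a ∧ a - a₀ ∈ maximalIdeal R := by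
  classical
  let pb := AdjoinRoot.powerBasis' hf
  have hfin : Module.Finite R (AdjoinRoot f) := pb.finite
  have hsmul : ∀ (r : R) (b : AdjoinRoot f), r • b = AdjoinRoot.of f r * b := fun r b => by
    rw [Algebra.smul_def, AdjoinRoot.algebraMap_eq]
  -- `χ` kills `m B`
  have hχm : ∀ b ∈ (maximalIdeal R • ⊤ : Submodule R (AdjoinRoot f)), χ b = 0 := by
    intro b hb
    induction hb using Submodule.smul_induction_on' with
    | smul r hr b _ =>
      rw [hsmul, map_mul, hχof, (residue_eq_zero_iff r).mpr hr, zero_mul]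
    | add x _ y _ hx hy => rw [map_add, hx, hy, add_zero]
  -- the summand `N = e B`
  let N : Submodule R (AdjoinRoot f) := LinearMap.range (LinearMap.mulLeft R e)
  have hNfg : N.FG := by
    change (LinearMap.range (LinearMap.mulLeft R e)).FG
    rw [LinearMap.range_eq_map]
    exact Submodule.FG.map _ Module.Finite.fg_top
  have hmemN : ∀ b, e * b ∈ N := fun b => ⟨b, rfl⟩
  -- elements of `m B` times `e w` lie in `m N`
  have hmul : ∀ z ∈ (maximalIdeal R • ⊤ : Submodule R (AdjoinRoot f)), ∀ w,
      z * (e * w) ∈ maximalIdeal R • N := by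
    intro z hz w
    induction hz using Submodule.smul_induction_on' with
    | smul r hr b _ =>
      have : r • b * (e * w) = r • (e * (b * w)) := by
        rw [smul_mul_assoc]; congr 1; ring
      rw [this]
      exact Submodule.smul_mem_smul hr (hmemN _)
    | add x _ y _ hx hy => rw [add_mul]; exact Submodule.add_mem _ hx hy
  have hNle : N ≤ Submodule.span R {e} ⊔ maximalIdeal R • N := by
    rintro _ ⟨b, rfl⟩
    obtain ⟨p, rfl⟩ := AdjoinRoot.mk_surjective b
    obtain ⟨w, hw⟩ := Polynomial.sub_dvd_eval_sub (AdjoinRoot.root f) (AdjoinRoot.of f a₀)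
      (p.map (AdjoinRoot.of f))
    have h1 : (p.map (AdjoinRoot.of f)).eval (AdjoinRoot.root f) = AdjoinRoot.mk f p := by
      rw [Polynomial.eval_map, ← AdjoinRoot.aeval_eq, Polynomial.aeval_def,
        AdjoinRoot.algebraMap_eq]
    have h2 : (p.map (AdjoinRoot.of f)).eval (AdjoinRoot.of f a₀) =
        AdjoinRoot.of f (p.eval a₀) := by
      rw [Polynomial.eval_map, Polynomial.eval₂_at_apply]
    rw [h1, h2] at hw
    have h3 : e * AdjoinRoot.mk f p = p.eval a₀ • e +
        (e * (AdjoinRoot.root f - AdjoinRoot.of f a₀)) * (e * w) := by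
      have : AdjoinRoot.mk f p = AdjoinRoot.of f (p.eval a₀) +
          (AdjoinRoot.root f - AdjoinRoot.of f a₀) * w := by rw [← hw]; ring
      rw [this, hsmul]
      calc e * (AdjoinRoot.of f (p.eval a₀) + (AdjoinRoot.root f - AdjoinRoot.of f a₀) * w)
          = AdjoinRoot.of f (p.eval a₀) * e +
            (e * e) * ((AdjoinRoot.root f - AdjoinRoot.of f a₀) * w) := by rw [he.eq]; ring
        _ = _ := by ring
    change LinearMap.mulLeft R e (AdjoinRoot.mk f p) ∈ _
    rw [LinearMap.mulLeft_apply, h3]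
    exact Submodule.add_mem_sup (Submodule.smul_mem _ _ (Submodule.subset_span rfl))
      (hmul _ hy w)
  have hNspan : N ≤ Submodule.span R {e} :=
    Submodule.le_of_le_smul_of_le_jacobson_bot hNfg
      (IsLocalRing.jacobson_eq_maximalIdeal ⊥ bot_ne_top).ge hNle
  obtain ⟨a, ha⟩ := Submodule.mem_span_singleton.mp (hNspan (hmemN (AdjoinRoot.root f)))
  -- `f(a) e = 0`
  have hfae : f.eval a • e = 0 := by
    obtain ⟨w, hw⟩ := Polynomial.sub_dvd_eval_sub (AdjoinRoot.root f) (AdjoinRoot.of f a)
      (f.map (AdjoinRoot.of f))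
    have h1 : (f.map (AdjoinRoot.of f)).eval (AdjoinRoot.root f) = 0 := by
      rw [Polynomial.eval_map, AdjoinRoot.eval₂_root]
    have h2 : (f.map (AdjoinRoot.of f)).eval (AdjoinRoot.of f a) =
        AdjoinRoot.of f (f.eval a) := by
      rw [Polynomial.eval_map, Polynomial.eval₂_at_apply]
    rw [h1, h2, zero_sub] at hw
    have h3 : e * AdjoinRoot.root f - AdjoinRoot.of f a * e = 0 := by
      rw [← hsmul, ha, sub_self]
    rw [hsmul]
    calc AdjoinRoot.of f (f.eval a) * e
        = -((e * AdjoinRoot.root f - AdjoinRoot.of f a * e) * w) := by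
          rw [← neg_eq_iff_eq_neg, ← neg_mul, hw]; ring
      _ = 0 := by rw [h3, zero_mul, neg_zero]
  refine ⟨a, ?_, ?_⟩
  · -- `f(a) = 0` using a basis of `B` and `e ∉ m B`
    by_contra hne
    have hcoord : ∀ i, pb.basis.repr e i ∈ maximalIdeal R := by
      intro i
      by_contra hi
      have hu : IsUnit (pb.basis.repr e i) := by
        by_contra hnu
        exact hi ((IsLocalRing.mem_maximalIdeal _).mpr hnu)
      have h0 : pb.basis.repr (f.eval a • e) i = 0 := by rw [hfae]; simp
      rw [map_smul, Finsupp.smul_apply, smul_eq_mul] at h0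
      exact hne (hu.mul_left_eq_zero.mp h0)
    have hemem : e ∈ (maximalIdeal R • ⊤ : Submodule R (AdjoinRoot f)) := by
      rw [← pb.basis.sum_repr e]
      exact Submodule.sum_mem _ fun i _ => Submodule.smul_mem_smul (hcoord i) Submodule.mem_top
    exact hχe (hχm e hemem)
  · rw [← Ideal.Quotient.eq]
    change residue R a = residue R a₀
    have h1 : χ (a • e) = χ (e * AdjoinRoot.root f) := by rw [ha]
    rw [hsmul, map_mul, map_mul, hχof, hχroot, mul_comm] at h1
    exact mul_left_cancel₀ hχe h1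

end Core

section Pi

/-- In a ring isomorphic to a finite product of local rings, every maximal ideal `n` is cut out
by an idempotent `e ∉ n` such that every `b ∉ n` divides `e`. -/
lemma exists_idem_of_pi {B : Type*} [CommRing B] {ι : Type*} [Finite ι] {A : ι → Type*}
    [∀ i, CommRing (A i)] [∀ i, IsLocalRing (A i)] (φ : B ≃+* ∀ i, A i)
    (n : Ideal B) [hn : n.IsMaximal] :
    ∃ e : B, IsIdempotentElem e ∧ e ∉ n ∧ ∀ b ∉ n, ∃ b', b * b' = e := by
  classical
  have hn'max : (n.comap φ.symm.toRingHom).IsMaximal :=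
    Ideal.comap_isMaximal_of_surjective _ φ.symm.surjective
  let n' : PrimeSpectrum (∀ i, A i) := ⟨n.comap φ.symm.toRingHom, hn'max.isPrime⟩
  obtain ⟨⟨i₀, 𝔭⟩, h⟩ := (PrimeSpectrum.sigmaToPi_bijective A).2 n'
  have h1 : Ideal.comap (Pi.evalRingHom A i₀) 𝔭.asIdeal = n.comap φ.symm.toRingHom := by
    have := congrArg PrimeSpectrum.asIdeal h
    rwa [PrimeSpectrum.sigmaToPi_apply] at this
  have h2 : n.comap φ.symm.toRingHom =
      Ideal.comap (Pi.evalRingHom A i₀) (maximalIdeal (A i₀)) := by
    refine hn'max.eq_of_le (Ideal.comap_ne_top _ (maximalIdeal.isMaximal _).ne_top) ?_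
    rw [← h1]
    exact Ideal.comap_mono (IsLocalRing.le_maximalIdeal 𝔭.isPrime.ne_top)
  have hmem : ∀ b, b ∈ n ↔ ¬ IsUnit (φ b i₀) := by
    intro b
    have : b ∈ n ↔ φ b ∈ n.comap φ.symm.toRingHom := by
      rw [Ideal.mem_comap]
      change _ ↔ φ.symm (φ b) ∈ n
      rw [RingEquiv.symm_apply_apply]
    rw [this, h2, Ideal.mem_comap, IsLocalRing.mem_maximalIdeal]
    rfl
  refine ⟨φ.symm (Pi.single i₀ 1), ?_, ?_, ?_⟩
  · change _ * _ = _
    rw [← map_mul, ← Pi.single_mul, one_mul]
  · rw [hmem, not_not, RingEquiv.apply_symm_apply, Pi.single_eq_same]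
    exact isUnit_one
  · intro b hb
    rw [hmem, not_not] at hb
    refine ⟨φ.symm (Pi.single i₀ ↑hb.unit⁻¹), φ.injective ?_⟩
    rw [map_mul, RingEquiv.apply_symm_apply, RingEquiv.apply_symm_apply]
    ext j
    by_cases hj : j = i₀
    · subst hj
      rw [Pi.mul_apply, Pi.single_eq_same, Pi.single_eq_same]
      exact hb.mul_val_inv
    · rw [Pi.mul_apply, Pi.single_eq_of_ne hj, Pi.single_eq_of_ne hj, mul_zero]

end Pi

section Henselian

/-- If every module-finite algebra over a local ring is a finite product of local rings, the ring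
is henselian. -/
theorem henselian_of_finite_pi (R : Type u) [CommRing R] [IsLocalRing R]
    (h : ∀ (S : Type u) [CommRing S] [Algebra R S], Module.Finite R S →
      ∃ (ι : Type u) (_ : Fintype ι) (A : ι → Type u) (_ : ∀ i, CommRing (A i)),
        (∀ i, IsLocalRing (A i)) ∧ Nonempty (S ≃+* (∀ i, A i))) :
    HenselianLocalRing R := by
  refine ⟨fun f hf a₀ h₁ h₂ => ?_⟩
  have hroot : f.eval₂ (residue R) (residue R a₀) = 0 := by
    rw [Polynomial.eval₂_at_apply, residue_eq_zero_iff]; exact h₁
  let χ : AdjoinRoot f →+* ResidueField R := AdjoinRoot.lift (residue R) (residue R a₀) hroot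
  have hχof : ∀ r, χ (AdjoinRoot.of f r) = residue R r := fun r => AdjoinRoot.lift_of hroot
  have hχroot : χ (AdjoinRoot.root f) = residue R a₀ := AdjoinRoot.lift_root hroot
  have hχsurj : Function.Surjective χ := fun x => by
    obtain ⟨r, rfl⟩ := residue_surjective x
    exact ⟨AdjoinRoot.of f r, hχof r⟩
  obtain ⟨ι, _, A, _, hA, ⟨φ⟩⟩ := h (AdjoinRoot f) (AdjoinRoot.powerBasis' hf).finite
  have hnmax : (RingHom.ker χ).IsMaximal := RingHom.ker_isMaximal_of_surjective χ hχsurj
  obtain ⟨e, he, hen, hunit⟩ := exists_idem_of_pi φ (RingHom.ker χ)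
  have hχe : χ e ≠ 0 := fun h0 => hen (RingHom.mem_ker.mpr h0)
  obtain ⟨k, hk⟩ := Polynomial.binomExpansion (f.map (AdjoinRoot.of f)) (AdjoinRoot.of f a₀)
    (AdjoinRoot.root f - AdjoinRoot.of f a₀)
  rw [add_sub_cancel, Polynomial.derivative_map, Polynomial.eval_map, Polynomial.eval_map,
    Polynomial.eval_map, AdjoinRoot.eval₂_root, Polynomial.eval₂_at_apply,
    Polynomial.eval₂_at_apply] at hk
  set y := AdjoinRoot.root f - AdjoinRoot.of f a₀ with hy_def
  have hχy : χ y = 0 := by rw [hy_def, map_sub, hχroot, hχof, sub_self]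
  let b := AdjoinRoot.of f (f.derivative.eval a₀) + k * y
  have hby : b * y = -AdjoinRoot.of f (f.eval a₀) := by
    rw [eq_neg_iff_add_eq_zero, hk]; ring
  have hχb : χ b ≠ 0 := by
    change χ (AdjoinRoot.of f (f.derivative.eval a₀) + k * y) ≠ 0
    rw [map_add, map_mul, hχy, mul_zero, add_zero, hχof]
    exact (residue_ne_zero_iff_isUnit _).mpr h₂
  obtain ⟨b', hb'⟩ := hunit b (fun hmem => hχb (RingHom.mem_ker.mp hmem))
  have hy : e * y ∈ (maximalIdeal R • ⊤ : Submodule R (AdjoinRoot f)) := by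
    have : e * y = f.eval a₀ • (-b') := by
      rw [← hb', mul_right_comm, hby, Algebra.smul_def, AdjoinRoot.algebraMap_eq]; ring
    rw [this]
    exact Submodule.smul_mem_smul h₁ Submodule.mem_top
  exact exists_root_of_idem f hf a₀ χ hχof hχroot e he hχe hy

end Henselian

end Groth.Agent.Lib.H56HenselCore
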