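import Groth.Agent.S17972
import Mathlib.RingTheory.Polynomial.Resultant.Basic
import Mathlib.RingTheory.Henselian
import Mathlib.Algebra.MvPolynomial.PDeriv

set_option autoImplicit false
universe u

namespace Groth.Agent.Lib.H56HenselFactor

open Polynomial

section Polys

variable {A : Type*} [CommRing A]

/-- The monic polynomial of degree `d` with lower coefficients `b`. -/
noncomputable def gPoly (d : ℕ) (b : Fin d → A) : A[X] :=
  X ^ d + ∑ i : Fin d, C (b i) * X ^ (i : ℕ)

/-- The polynomial of degree at most `e` with coefficients `c`. -/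
noncomputable def hPoly (e : ℕ) (c : Fin (e + 1) → A) : A[X] :=
  ∑ j : Fin (e + 1), C (c j) * X ^ (j : ℕ)

/-- The polynomial of degree less than `d` with coefficients `b`. -/
noncomputable def lPoly (d : ℕ) (b : Fin d → A) : A[X] :=
  ∑ i : Fin d, C (b i) * X ^ (i : ℕ)

lemma coeff_lPoly (d : ℕ) (b : Fin d → A) (k : ℕ) :
    (lPoly d b).coeff k = if h : k < d then b ⟨k, h⟩ else 0 := by
  simp only [lPoly, Polynomial.finsetSum_coeff, Polynomial.coeff_C_mul, Polynomial.coeff_X_pow,
    mul_ite, mul_one, mul_zero]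
  by_cases h : k < d
  · rw [dif_pos h, Finset.sum_eq_single (⟨k, h⟩ : Fin d)]
    · simp
    · intro i _ hi
      rw [if_neg]
      intro hk
      exact hi (Fin.ext hk.symm)
    · simp
  · rw [dif_neg h]
    refine Finset.sum_eq_zero fun i _ => ?_
    rw [if_neg]
    intro hk
    exact h (hk ▸ i.2)

lemma hPoly_eq_lPoly (e : ℕ) (c : Fin (e + 1) → A) : hPoly e c = lPoly (e + 1) c := rfl

lemma gPoly_eq (d : ℕ) (b : Fin d → A) : gPoly d b = X ^ d + lPoly d b := rfl

lemma coeff_gPoly (d : ℕ) (b : Fin d → A) (k : ℕ) :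
    (gPoly d b).coeff k = if h : k < d then b ⟨k, h⟩ else if k = d then 1 else 0 := by
  rw [gPoly_eq, Polynomial.coeff_add, coeff_lPoly, Polynomial.coeff_X_pow]
  by_cases h : k < d
  · simp only [dif_pos h, if_neg (show ¬ k = d by omega), zero_add]
  · simp only [dif_neg h, add_zero]

lemma degree_lPoly_lt (d : ℕ) (b : Fin d → A) : (lPoly d b).degree < d :=
  Polynomial.degree_sum_fin_lt b

lemma natDegree_lPoly_le (e : ℕ) (c : Fin (e + 1) → A) : (lPoly (e + 1) c).natDegree ≤ e := by
  rw [Polynomial.natDegree_le_iff_coeff_eq_zero]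
  intro k hk
  rw [coeff_lPoly, dif_neg (by omega)]

lemma gPoly_monic (d : ℕ) (b : Fin d → A) : (gPoly d b).Monic := by
  exact Polynomial.monic_X_pow_add (degree_lPoly_lt d b)

lemma natDegree_gPoly_le (d : ℕ) (b : Fin d → A) : (gPoly d b).natDegree ≤ d := by
  rw [Polynomial.natDegree_le_iff_coeff_eq_zero]
  intro k hk
  rw [coeff_gPoly, dif_neg (by omega), if_neg (by omega)]

lemma natDegree_lPoly_lt (d : ℕ) (b : Fin d → A) (hd : 0 < d) : (lPoly d b).natDegree < d := by
  obtain ⟨e, rfl⟩ : ∃ e, d = e + 1 := ⟨d - 1, by omega⟩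
  exact Nat.lt_succ_of_le (natDegree_lPoly_le e b)

lemma lPoly_map {B : Type*} [CommRing B] (φ : A →+* B) (d : ℕ) (b : Fin d → A) :
    (lPoly d b).map φ = lPoly d (fun i => φ (b i)) := by
  simp [lPoly, Polynomial.map_sum]

lemma gPoly_map {B : Type*} [CommRing B] (φ : A →+* B) (d : ℕ) (b : Fin d → A) :
    (gPoly d b).map φ = gPoly d (fun i => φ (b i)) := by
  rw [gPoly_eq, gPoly_eq, Polynomial.map_add, Polynomial.map_pow, Polynomial.map_X, lPoly_map]

lemma eq_gPoly_of_monic {g : A[X]} (hg : g.Monic) {d : ℕ} (hd : g.natDegree = d) :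
    g = gPoly d (fun i => g.coeff i) := by
  ext k
  rw [coeff_gPoly]
  by_cases h : k < d
  · rw [dif_pos h]
  · rw [dif_neg h]
    by_cases h2 : k = d
    · rw [if_pos h2, h2, ← hd]; exact hg.coeff_natDegree
    · rw [if_neg h2]; exact Polynomial.coeff_eq_zero_of_natDegree_lt (by omega)

lemma eq_lPoly_of_natDegree_lt {h : A[X]} {d : ℕ} (hd : h.natDegree < d) :
    h = lPoly d (fun i => h.coeff i) := by
  ext k
  rw [coeff_lPoly]
  by_cases hk : k < d
  · rw [dif_pos hk]
  · rw [dif_neg hk]; exact Polynomial.coeff_eq_zero_of_natDegree_lt (by omega)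

end Polys

section Deriv

variable {R : Type*} [CommRing R] {M : Type*} [CommRing M] [Algebra R M]

/-- Apply a derivation to the coefficients of a polynomial. -/
noncomputable def dmap (D : Derivation R M M) (p : M[X]) : M[X] :=
  ∑ i ∈ p.support, Polynomial.monomial i (D (p.coeff i))

lemma coeff_dmap (D : Derivation R M M) (p : M[X]) (k : ℕ) :
    (dmap D p).coeff k = D (p.coeff k) := by
  classical
  simp only [dmap, Polynomial.finsetSum_coeff, Polynomial.coeff_monomial]
  rw [Finset.sum_ite_eq']
  split_ifs with h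
  · rfl
  · rw [Polynomial.notMem_support_iff.mp h, map_zero]

lemma D_coeff_mul (D : Derivation R M M) (p q : M[X]) (k : ℕ) :
    D ((p * q).coeff k) = (dmap D p * q + p * dmap D q).coeff k := by
  rw [Polynomial.coeff_add, Polynomial.coeff_mul, Polynomial.coeff_mul, Polynomial.coeff_mul,
    map_sum, ← Finset.sum_add_distrib]
  refine Finset.sum_congr rfl fun x _ => ?_
  rw [Derivation.leibniz, coeff_dmap, coeff_dmap, smul_eq_mul, smul_eq_mul]
  ring

lemma dmap_lPoly (D : Derivation R M M) (d : ℕ) (b : Fin d → M) :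
    dmap D (lPoly d b) = lPoly d (fun i => D (b i)) := by
  ext k
  rw [coeff_dmap, coeff_lPoly, coeff_lPoly]
  split_ifs
  · rfl
  · exact map_zero D

lemma dmap_gPoly (D : Derivation R M M) (d : ℕ) (b : Fin d → M) :
    dmap D (gPoly d b) = lPoly d (fun i => D (b i)) := by
  ext k
  rw [coeff_dmap, coeff_gPoly, coeff_lPoly]
  split_ifs
  · rfl
  · exact Derivation.map_one_eq_zero D
  · exact map_zero D

end Deriv

section System

variable {R : Type u} [CommRing R] (d e : ℕ) (f : R[X])

lemma lPoly_single {A : Type*} [CommRing A] (d : ℕ) (i₁ : Fin d) :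
    lPoly d (fun i => if i = i₁ then (1 : A) else 0) = X ^ (i₁ : ℕ) := by
  ext k
  rw [coeff_lPoly, Polynomial.coeff_X_pow]
  by_cases h : k < d
  · rw [dif_pos h]
    by_cases h2 : k = i₁
    · rw [if_pos h2, if_pos (Fin.ext h2)]
    · rw [if_neg h2, if_neg (fun h3 => h2 (congrArg Fin.val h3))]
  · rw [dif_neg h, if_neg]
    intro h2
    exact h (h2 ▸ i₁.2)

lemma lPoly_zero {A : Type*} [CommRing A] (d : ℕ) : lPoly d (fun _ => (0 : A)) = 0 := by
  simp [lPoly]

/-- The variables standing for the lower coefficients of `g`. -/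
noncomputable def bVar (i : Fin d) : MvPolynomial (Fin (d + (e + 1))) R :=
  MvPolynomial.X (Fin.castAdd (e + 1) i)

/-- The variables standing for the coefficients of `h`. -/
noncomputable def cVar (j : Fin (e + 1)) : MvPolynomial (Fin (d + (e + 1))) R :=
  MvPolynomial.X (Fin.natAdd d j)

/-- The system of equations `coeff_k (g h) = coeff_k f`. -/
noncomputable def sysP (k : Fin (d + (e + 1))) : MvPolynomial (Fin (d + (e + 1))) R :=
  (gPoly d (bVar d e) * lPoly (e + 1) (cVar d e)).coeff k - MvPolynomial.C (f.coeff k)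

lemma eval_sysP (a : Fin (d + (e + 1)) → R) (k : Fin (d + (e + 1))) :
    MvPolynomial.eval a (sysP d e f k) =
      (gPoly d (fun i => a (Fin.castAdd (e + 1) i)) *
        lPoly (e + 1) (fun j => a (Fin.natAdd d j))).coeff k - f.coeff k := by
  rw [sysP, map_sub, MvPolynomial.eval_C, ← Polynomial.coeff_map, Polynomial.map_mul, gPoly_map,
    lPoly_map]
  simp [bVar, cVar]

lemma jacobian_sysP (a : Fin (d + (e + 1)) → R) :
    Matrix.of (fun i j => MvPolynomial.eval a (MvPolynomial.pderiv j (sysP d e f i))) =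
      Polynomial.sylvester (gPoly d (fun i => a (Fin.castAdd (e + 1) i)))
        (lPoly (e + 1) (fun j => a (Fin.natAdd d j))) d (e + 1) := by
  classical
  ext k v
  rw [Matrix.of_apply]
  have h1 : MvPolynomial.pderiv v (sysP d e f k) =
      (lPoly d (fun i => MvPolynomial.pderiv v (bVar d e i)) * lPoly (e + 1) (cVar d e) +
        gPoly d (bVar d e) * lPoly (e + 1) (fun j => MvPolynomial.pderiv v (cVar d e j))).coeff k := by
    rw [sysP, map_sub, MvPolynomial.pderiv_C, sub_zero, D_coeff_mul, dmap_gPoly, dmap_lPoly]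
  rw [h1, ← Polynomial.coeff_map, Polynomial.map_add, Polynomial.map_mul, Polynomial.map_mul,
    gPoly_map, lPoly_map, lPoly_map, lPoly_map]
  have hb : ∀ i, MvPolynomial.eval a (bVar d e i) = a (Fin.castAdd (e + 1) i) := fun i => by
    simp [bVar]
  have hc : ∀ j, MvPolynomial.eval a (cVar d e j) = a (Fin.natAdd d j) := fun j => by
    simp [cVar]
  simp only [hb, hc]
  have hg := natDegree_gPoly_le d (fun i => a (Fin.castAdd (e + 1) i))
  have hh := natDegree_lPoly_le e (fun j => a (Fin.natAdd d j))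
  set g := gPoly d (fun i => a (Fin.castAdd (e + 1) i))
  set h := lPoly (e + 1) (fun j => a (Fin.natAdd d j))
  refine Fin.addCases (fun i₁ => ?_) (fun j₁ => ?_) v
  · have e1 : (fun i => MvPolynomial.eval a (MvPolynomial.pderiv (Fin.castAdd (e + 1) i₁)
        (bVar (R := R) d e i))) = fun i => if i = i₁ then (1 : R) else 0 := by
      funext i
      rw [bVar, MvPolynomial.pderiv_X, Pi.single_apply]
      by_cases hi : i = i₁
      · rw [if_pos hi, if_pos (by rw [hi]), map_one]
      · rw [if_neg hi, if_neg (fun h3 => hi (Fin.castAdd_injective _ _ h3)), map_zero]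
    have e2 : (fun j => MvPolynomial.eval a (MvPolynomial.pderiv (Fin.castAdd (e + 1) i₁)
        (cVar (R := R) d e j))) = fun _ => (0 : R) := by
      funext j
      rw [cVar, MvPolynomial.pderiv_X, Pi.single_apply, if_neg, map_zero]
      intro h3
      have := congrArg Fin.val h3
      simp only [Fin.val_natAdd, Fin.val_castAdd] at this
      omega
    rw [e1, e2, lPoly_single, lPoly_zero, mul_zero, add_zero, Polynomial.coeff_X_pow_mul',
      Polynomial.sylvester, Matrix.of_apply, Fin.addCases_left]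
    simp only [Set.mem_Icc]
    by_cases h5 : (i₁ : ℕ) ≤ k
    · rw [if_pos h5]
      by_cases h6 : (k : ℕ) ≤ i₁ + (e + 1)
      · rw [if_pos ⟨h5, h6⟩]
      · rw [if_neg (fun h7 => h6 h7.2)]
        exact Polynomial.coeff_eq_zero_of_natDegree_lt (by omega)
    · rw [if_neg h5, if_neg (fun h7 => h5 h7.1)]
  · have e1 : (fun i => MvPolynomial.eval a (MvPolynomial.pderiv (Fin.natAdd d j₁)
        (bVar (R := R) d e i))) = fun _ => (0 : R) := by
      funext i
      rw [bVar, MvPolynomial.pderiv_X, Pi.single_apply, if_neg, map_zero]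
      intro h3
      have := congrArg Fin.val h3
      simp only [Fin.val_natAdd, Fin.val_castAdd] at this
      omega
    have e2 : (fun j => MvPolynomial.eval a (MvPolynomial.pderiv (Fin.natAdd d j₁)
        (cVar (R := R) d e j))) = fun j => if j = j₁ then (1 : R) else 0 := by
      funext j
      rw [cVar, MvPolynomial.pderiv_X, Pi.single_apply]
      by_cases hj : j = j₁
      · rw [if_pos hj, if_pos (by rw [hj]), map_one]
      · rw [if_neg hj, if_neg (fun h3 => hj (Fin.natAdd_injective _ _ h3)), map_zero]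
    rw [e1, e2, lPoly_single, lPoly_zero, zero_mul, zero_add, Polynomial.coeff_mul_X_pow',
      Polynomial.sylvester, Matrix.of_apply, Fin.addCases_right]
    simp only [Set.mem_Icc]
    by_cases h5 : (j₁ : ℕ) ≤ k
    · rw [if_pos h5]
      by_cases h6 : (k : ℕ) ≤ j₁ + d
      · rw [if_pos ⟨h5, h6⟩]
      · rw [if_neg (fun h7 => h6 h7.2)]
        exact Polynomial.coeff_eq_zero_of_natDegree_lt (by omega)
    · rw [if_neg h5, if_neg (fun h7 => h5 h7.1)]

end System

section Main

open IsLocalRing

/-- Over a henselian local ring, a factorization `f̄ = g₀ h₀` of the reduction of an arbitrary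
polynomial with `g₀` monic and coprime to `h₀` lifts to `f = g h` with `g` monic. -/
theorem exists_factor (R : Type u) [CommRing R] [HenselianLocalRing R]
    (f : R[X]) (g₀ h₀ : (ResidueField R)[X]) (hg : g₀.Monic)
    (hc : IsCoprime g₀ h₀) (hf : f.map (residue R) = g₀ * h₀) :
    ∃ g h : R[X], f = g * h ∧ g.Monic ∧ g.map (residue R) = g₀ ∧ h.map (residue R) = h₀ := by
  classical
  obtain ⟨d, hd⟩ : ∃ d, d = g₀.natDegree := ⟨_, rfl⟩
  obtain ⟨e, he⟩ : ∃ e, e = f.natDegree + h₀.natDegree := ⟨_, rfl⟩
  choose lift hlift using (residue_surjective : Function.Surjective (residue R))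
  let a₀ : Fin (d + (e + 1)) → R :=
    Fin.addCases (fun i => lift (g₀.coeff i)) (fun j => lift (h₀.coeff j))
  have hga₀ : (gPoly d (fun i => a₀ (Fin.castAdd (e + 1) i))).map (residue R) = g₀ := by
    rw [gPoly_map]
    simp only [a₀, Fin.addCases_left, hlift]
    exact (eq_gPoly_of_monic hg hd.symm).symm
  have hha₀ : (lPoly (e + 1) (fun j => a₀ (Fin.natAdd d j))).map (residue R) = h₀ := by
    rw [lPoly_map]
    simp only [a₀, Fin.addCases_right, hlift]
    exact (eq_lPoly_of_natDegree_lt (by omega)).symm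
  have h₀' : ∀ k, MvPolynomial.eval a₀ (sysP d e f k) ∈ maximalIdeal R := by
    intro k
    rw [eval_sysP, ← residue_eq_zero_iff, map_sub, ← Polynomial.coeff_map, Polynomial.map_mul,
      hga₀, hha₀, ← Polynomial.coeff_map, hf, sub_self]
  have hJ : IsUnit (Matrix.of
      (fun i j => MvPolynomial.eval a₀ (MvPolynomial.pderiv j (sysP d e f i)))).det := by
    rw [jacobian_sysP, ← Polynomial.resultant, ← residue_ne_zero_iff_isUnit,
      ← Polynomial.resultant_map_map, hga₀, hha₀]
    have h1 : e + 1 = h₀.natDegree + (f.natDegree + 1) := by omega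
    rw [h1, Polynomial.resultant_add_right_deg _ _ _ _ _ le_rfl, hd, hg.coeff_natDegree, one_pow,
      one_mul]
    exact ((Polynomial.isUnit_resultant_iff_isCoprime hg).mpr hc).ne_zero
  obtain ⟨a, ha, haa₀⟩ := Groth.Agent.S17972.result R (d + (e + 1)) (sysP d e f) a₀ h₀' hJ
  have hres : ∀ j, residue R (a j) = residue R (a₀ j) := fun j =>
    Ideal.Quotient.eq.mpr (haa₀ j)
  refine ⟨gPoly d (fun i => a (Fin.castAdd (e + 1) i)),
    lPoly (e + 1) (fun j => a (Fin.natAdd d j)), ?_, gPoly_monic _ _, ?_, ?_⟩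
  · ext k
    by_cases hk : k < d + (e + 1)
    · have := ha ⟨k, hk⟩
      rw [eval_sysP, sub_eq_zero] at this
      exact this.symm
    · rw [Polynomial.coeff_eq_zero_of_natDegree_lt (by omega : f.natDegree < k),
        Polynomial.coeff_eq_zero_of_natDegree_lt]
      calc (gPoly d (fun i => a (Fin.castAdd (e + 1) i)) *
            lPoly (e + 1) (fun j => a (Fin.natAdd d j))).natDegree
          ≤ (gPoly d (fun i => a (Fin.castAdd (e + 1) i))).natDegree +
            (lPoly (e + 1) (fun j => a (Fin.natAdd d j))).natDegree := Polynomial.natDegree_mul_le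
        _ ≤ d + e := add_le_add (natDegree_gPoly_le _ _) (natDegree_lPoly_le _ _)
        _ < k := by omega
  · rw [← hga₀, gPoly_map, gPoly_map]
    congr 1
    funext i
    exact hres _
  · rw [← hha₀, lPoly_map, lPoly_map]
    congr 1
    funext j
    exact hres _

end Main

end Groth.Agent.Lib.H56HenselFactor
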