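import Groth.Agent.Lib.H56HenselEtale
import Mathlib.RingTheory.Etale.QuasiFinite
import Mathlib.RingTheory.Idempotents
import Mathlib.RingTheory.ZariskisMainTheorem
import Mathlib.RingTheory.Localization.Away.Lemmas

set_option autoImplicit false
universe u v

namespace Groth.Agent.Lib.H56HenselQF

open IsLocalRing TensorProduct

section Psi

variable {R : Type u} [CommRing R] {R' : Type v} [CommRing R'] [Algebra R R']
  (σ : R' →ₐ[R] R) (S : Type*) [CommRing S] [Algebra R S]

/-- The retraction `R' ⊗[R] S → S` induced by a section `σ : R' → R`. -/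
noncomputable def psi : R' ⊗[R] S →ₐ[R] S :=
  Algebra.TensorProduct.productMap ((Algebra.ofId R S).comp σ) (AlgHom.id R S)

lemma psi_tmul (r' : R') (s : S) : psi σ S (r' ⊗ₜ[R] s) = algebraMap R S (σ r') * s := by
  simp [psi]

lemma psi_one_tmul (s : S) : psi σ S ((1 : R') ⊗ₜ[R] s) = s := by
  simp [psi_tmul]

lemma psi_surjective : Function.Surjective (psi σ S) := fun s => ⟨1 ⊗ₜ[R] s, psi_one_tmul σ S s⟩

lemma comap_includeRight_comap_psi (M : Ideal S) :
    (M.comap (psi σ S).toRingHom).comap
      (Algebra.TensorProduct.includeRight : S →ₐ[R] R' ⊗[R] S).toRingHom = M := by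
  ext s
  simp only [Ideal.mem_comap]
  change psi σ S ((1 : R') ⊗ₜ[R] s) ∈ M ↔ _
  rw [psi_one_tmul]

variable {σ} {P : Ideal R'} (hσ : ∀ r' : R', r' - algebraMap R R' (σ r') ∈ P)
include hσ

lemma sub_mem_of_liesOver (Q : Ideal (R' ⊗[R] S)) [Q.IsPrime] [Q.LiesOver P] (z : R' ⊗[R] S) :
    z - (1 : R') ⊗ₜ[R] psi σ S z ∈ Q := by
  induction z using TensorProduct.induction_on with
  | zero => simp
  | tmul r' s =>
    have h1 : r' ⊗ₜ[R] s - (1 : R') ⊗ₜ[R] psi σ S (r' ⊗ₜ[R] s) =
        algebraMap R' (R' ⊗[R] S) (r' - algebraMap R R' (σ r')) * ((1 : R') ⊗ₜ[R] s) := by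
      rw [psi_tmul, Algebra.TensorProduct.algebraMap_apply, Algebra.TensorProduct.tmul_mul_tmul,
        one_mul, Algebra.algebraMap_self_apply, mul_one, TensorProduct.sub_tmul]
      congr 1
      rw [← Algebra.smul_def, TensorProduct.tmul_smul, TensorProduct.smul_tmul',
        Algebra.smul_def, mul_one]
    rw [h1]
    apply Ideal.mul_mem_right
    rw [← Ideal.mem_comap, ← Ideal.under_def, ← Ideal.over_def Q P]
    exact hσ r'
  | add x y hx hy =>
    have : x + y - (1 : R') ⊗ₜ[R] psi σ S (x + y) =
        (x - (1 : R') ⊗ₜ[R] psi σ S x) + (y - (1 : R') ⊗ₜ[R] psi σ S y) := by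
      rw [map_add, TensorProduct.tmul_add]; ring
    rw [this]
    exact Ideal.add_mem _ hx hy

lemma ker_psi_le (Q : Ideal (R' ⊗[R] S)) [Q.IsPrime] [Q.LiesOver P] :
    RingHom.ker (psi σ S) ≤ Q := by
  intro z hz
  have := sub_mem_of_liesOver S hσ Q z
  rwa [RingHom.mem_ker.mp hz, TensorProduct.tmul_zero, sub_zero] at this

/-- A prime of `R' ⊗ S` over `P` is the pullback along `ψ` of its own pullback to `S`. -/
lemma comap_psi_comap_includeRight (Q : Ideal (R' ⊗[R] S)) [Q.IsPrime] [Q.LiesOver P] :
    (Q.comap (Algebra.TensorProduct.includeRight : S →ₐ[R] R' ⊗[R] S).toRingHom).comap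
      (psi σ S).toRingHom = Q := by
  ext z
  simp only [Ideal.mem_comap]
  change (1 : R') ⊗ₜ[R] psi σ S z ∈ Q ↔ _
  have := sub_mem_of_liesOver S hσ Q z
  constructor
  · intro h
    have := Q.add_mem this h
    rwa [sub_add_cancel] at this
  · intro h
    have := Q.sub_mem h this
    rwa [sub_sub_cancel] at this

end Psi

section LiesOver

variable {R : Type u} [CommRing R] [IsLocalRing R] {R' : Type v} [CommRing R'] [Algebra R R']
  {σ : R' →ₐ[R] R} (S : Type*) [CommRing S] [Algebra R S] {P : Ideal R'}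

lemma comap_psi_liesOver (hσP : Ideal.comap σ.toRingHom (maximalIdeal R) = P)
    (M : Ideal S) [M.LiesOver (maximalIdeal R)] :
    (M.comap (psi σ S).toRingHom).LiesOver P := by
  constructor
  ext r'
  rw [Ideal.under_def, Ideal.mem_comap, Ideal.mem_comap, Algebra.TensorProduct.algebraMap_apply]
  change _ ↔ psi σ S (algebraMap R' R' r' ⊗ₜ[R] (1 : S)) ∈ M
  rw [Algebra.algebraMap_self_apply, psi_tmul, mul_one, ← Ideal.mem_comap, ← Ideal.under_def,
    ← Ideal.over_def M (maximalIdeal R), ← hσP]
  rfl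

end LiesOver

section Step1

/-- Step 1: at a prime `q` of a finite type algebra `S` over a henselian local ring `R`, lying over
the maximal ideal, at which `S` is quasi-finite, there is an idempotent `ε ∉ q` of `S` with
`S/(1-ε)` finite over `R` and `q` the only prime over the maximal ideal not containing `ε`. -/
theorem exists_idem_of_quasiFiniteAt (R : Type u) [CommRing R] [HenselianLocalRing R]
    (S : Type v) [CommRing S] [Algebra R S] [Algebra.FiniteType R S]
    (q : Ideal S) [q.IsPrime] [q.LiesOver (maximalIdeal R)] [Algebra.QuasiFiniteAt R q] :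
    ∃ ε : S, IsIdempotentElem ε ∧ ε ∉ q ∧ Module.Finite R (S ⧸ Ideal.span {1 - ε}) ∧
      ∀ q' : Ideal S, q'.IsPrime → q'.LiesOver (maximalIdeal R) → ε ∉ q' → q' = q := by
  classical
  obtain ⟨R', _, _, _, P, _, _, e, he, P', _, _, hP'q, heP', hres, hfin, H⟩ :=
    Algebra.exists_etale_isIdempotentElem_forall_liesOver_eq (maximalIdeal R) q
  have hsurj : Function.Surjective (algebraMap R P.ResidueField) := by
    intro x
    obtain ⟨y, rfl⟩ := hres.2 x
    obtain ⟨r, rfl⟩ := Ideal.algebraMap_residueField_surjective (maximalIdeal R) y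
    exact ⟨r, ((Ideal.ResidueField.mapₐ (maximalIdeal R) P (Algebra.ofId _ _)
      (P.over_def (maximalIdeal R))).commutes r).symm⟩
  obtain ⟨σ, hσP, hσ⟩ := Groth.Agent.Lib.H56HenselEtale.exists_section R R' P hsurj
  have hP'eq : q.comap (psi σ S).toRingHom = P' := by
    rw [← hP'q]; exact comap_psi_comap_includeRight S hσ P'
  refine ⟨psi σ S e, he.map (psi σ S), fun h => heP' (hP'eq ▸ h), ?_, ?_⟩
  · -- finiteness
    have hloc : IsLocalization.Away e ((R' ⊗[R] S) ⧸ Ideal.span {1 - e}) :=
      IsLocalization.Away.quotient_of_isIdempotentElem he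
    let eq1 : Localization.Away e ≃ₐ[R' ⊗[R] S] ((R' ⊗[R] S) ⧸ Ideal.span {1 - e}) :=
      IsLocalization.algEquiv (Submonoid.powers e) _ _
    have hfin' : Module.Finite R' ((R' ⊗[R] S) ⧸ Ideal.span {1 - e}) :=
      Module.Finite.of_surjective (eq1.restrictScalars R').toLinearMap
        (eq1.restrictScalars R').surjective
    have hle : Ideal.span {1 - e} ≤ (Ideal.span {1 - psi σ S e}).comap (psi σ S).toRingHom := by
      rw [Ideal.span_singleton_le_iff_mem, Ideal.mem_comap]
      change psi σ S (1 - e) ∈ _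
      rw [map_sub, map_one]
      exact Ideal.subset_span rfl
    let φ : ((R' ⊗[R] S) ⧸ Ideal.span {1 - e}) →+* (S ⧸ Ideal.span {1 - psi σ S e}) :=
      Ideal.quotientMap _ (psi σ S).toRingHom hle
    have hφsurj : Function.Surjective φ :=
      Ideal.quotientMap_surjective (psi_surjective σ S)
    have hσsurj : Function.Surjective σ := fun r => ⟨algebraMap R R' r, σ.commutes r⟩
    have : RingHomSurjective σ.toRingHom := ⟨hσsurj⟩
    let φl : ((R' ⊗[R] S) ⧸ Ideal.span {1 - e}) →ₛₗ[σ.toRingHom]
        (S ⧸ Ideal.span {1 - psi σ S e}) :=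
      { toFun := φ
        map_add' := map_add φ
        map_smul' := by
          intro r' a
          obtain ⟨a, rfl⟩ := Ideal.Quotient.mk_surjective a
          have h1 : r' • Ideal.Quotient.mk (Ideal.span {1 - e}) a =
              Ideal.Quotient.mk _ (algebraMap R' (R' ⊗[R] S) r' * a) := by
            rw [← Algebra.smul_def]; rfl
          have h2 : ∀ (r : R) (s : S), r • Ideal.Quotient.mk (Ideal.span {1 - psi σ S e}) s =
              Ideal.Quotient.mk _ (algebraMap R S r * s) := by
            intro r s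
            rw [← Algebra.smul_def]; rfl
          change φ (r' • Ideal.Quotient.mk _ a) = σ r' • φ (Ideal.Quotient.mk _ a)
          rw [h1]
          change Ideal.Quotient.mk _ (psi σ S (algebraMap R' (R' ⊗[R] S) r' * a)) =
            σ r' • Ideal.Quotient.mk _ (psi σ S a)
          rw [h2, map_mul, Algebra.TensorProduct.algebraMap_apply, Algebra.algebraMap_self_apply,
            psi_tmul, mul_one] }
    have htop : (⊤ : Submodule R (S ⧸ Ideal.span {1 - psi σ S e})) =
        Submodule.map φl (⊤ : Submodule R' ((R' ⊗[R] S) ⧸ Ideal.span {1 - e})) := by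
      rw [Submodule.map_top, LinearMap.range_eq_top.mpr hφsurj]
    refine ⟨?_⟩
    rw [htop]
    exact Submodule.FG.map φl hfin'.1
  · -- uniqueness
    intro q' hq'prime hq'over hεq'
    have := hq'prime
    have := hq'over
    have : (q'.comap (psi σ S).toRingHom).LiesOver P := comap_psi_liesOver S hσP q'
    have h1 : q'.comap (psi σ S).toRingHom = P' :=
      H _ (Ideal.comap_isPrime _ _) inferInstance (fun h => hεq' h)
    rw [← comap_includeRight_comap_psi σ S q', h1, hP'q]

end Step1

section Combine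

variable {R : Type u} [CommRing R] {S : Type v} [CommRing S] [Algebra R S]

/-- If `S/(1-α)` and `S/(1-β)` are module-finite for idempotents `α`, `β`, then so is
`S/((1-α)(1-β))`. -/
lemma finite_quot_one_sub_mul {α β : S} (hα : IsIdempotentElem α) (hβ : IsIdempotentElem β)
    (h1 : Module.Finite R (S ⧸ Ideal.span {1 - α})) (h2 : Module.Finite R (S ⧸ Ideal.span {1 - β})) :
    Module.Finite R (S ⧸ Ideal.span {(1 - α) * (1 - β)}) := by
  let J : Ideal S := Ideal.span {(1 - α) * (1 - β)}
  let f1 : (S ⧸ Ideal.span {1 - α}) →ₗ[S] S ⧸ J :=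
    Submodule.liftQ _ ((Submodule.mkQ J).comp (LinearMap.mulLeft S α)) (by
      rw [Ideal.span, Submodule.span_le, Set.singleton_subset_iff]
      change (Submodule.mkQ J) (α * (1 - α)) = 0
      rw [mul_sub, mul_one, hα.eq, sub_self, map_zero])
  let f2 : (S ⧸ Ideal.span {1 - β}) →ₗ[S] S ⧸ J :=
    Submodule.liftQ _ ((Submodule.mkQ J).comp (LinearMap.mulLeft S ((1 - α) * β))) (by
      rw [Ideal.span, Submodule.span_le, Set.singleton_subset_iff]
      change (Submodule.mkQ J) ((1 - α) * β * (1 - β)) = 0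
      rw [mul_assoc, mul_sub β, mul_one, hβ.eq, sub_self, mul_zero, map_zero])
  let f : (S ⧸ Ideal.span {1 - α}) × (S ⧸ Ideal.span {1 - β}) →ₗ[R] S ⧸ J :=
    (f1.restrictScalars R).coprod (f2.restrictScalars R)
  have hf : Function.Surjective f := by
    intro y
    obtain ⟨s, rfl⟩ := Ideal.Quotient.mk_surjective y
    refine ⟨(Ideal.Quotient.mk _ s, Ideal.Quotient.mk _ s), ?_⟩
    change Ideal.Quotient.mk J (α * s) + Ideal.Quotient.mk J ((1 - α) * β * s) = _
    rw [← map_add, Ideal.Quotient.eq, Ideal.mem_span_singleton]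
    exact ⟨-s, by ring⟩
  exact Module.Finite.of_surjective f hf

lemma finite_quot_prod_one_sub {ι : Type*} (ε : ι → S) (hε : ∀ i, IsIdempotentElem (ε i))
    (hfin : ∀ i, Module.Finite R (S ⧸ Ideal.span {1 - ε i})) (T : Finset ι) :
    ∃ γ : S, IsIdempotentElem γ ∧ 1 - γ = ∏ i ∈ T, (1 - ε i) ∧
      Module.Finite R (S ⧸ Ideal.span {1 - γ}) := by
  classical
  induction T using Finset.induction_on with
  | empty =>
    refine ⟨0, IsIdempotentElem.zero, by simp, ?_⟩
    have : Subsingleton (S ⧸ Ideal.span {(1 : S) - 0}) := by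
      rw [sub_zero, Ideal.span_singleton_one]
      exact Ideal.Quotient.subsingleton_iff.mpr rfl
    infer_instance
  | insert a T ha ih =>
    obtain ⟨γ, hγ, hγe, hγfin⟩ := ih
    refine ⟨1 - (1 - ε a) * (1 - γ), ?_, ?_, ?_⟩
    · exact ((hε a).one_sub.mul hγ.one_sub).one_sub
    · rw [sub_sub_cancel, Finset.prod_insert ha, hγe]
    · rw [sub_sub_cancel]
      exact finite_quot_one_sub_mul (hε a) hγ (hfin a) hγfin

/-- Quasi-finiteness at a prime of `S/(e)`, `e` idempotent, gives quasi-finiteness at its pullback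
to `S`. -/
lemma quasiFiniteAt_of_quotient_idem {e : S} (he : IsIdempotentElem e)
    (qb : Ideal (S ⧸ Ideal.span {e})) [qb.IsPrime] [Algebra.QuasiFiniteAt R qb]
    (q : Ideal S) [q.IsPrime] (hq : q = qb.comap (algebraMap S (S ⧸ Ideal.span {e}))) :
    Algebra.QuasiFiniteAt R q := by
  subst hq
  have hloc : IsLocalization.Away (1 - e) (S ⧸ Ideal.span {e}) :=
    IsLocalization.away_of_isIdempotentElem he.one_sub
      (by rw [Ideal.Quotient.algebraMap_eq, Ideal.mk_ker, sub_sub_cancel])
      Ideal.Quotient.mk_surjective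
  have : IsLocalization.AtPrime (Localization.AtPrime qb)
      (qb.comap (algebraMap S (S ⧸ Ideal.span {e}))) :=
    IsLocalization.isLocalization_isLocalization_atPrime_isLocalization
      (Submonoid.powers (1 - e)) _ qb
  let eq : Localization.AtPrime (qb.comap (algebraMap S (S ⧸ Ideal.span {e}))) ≃ₐ[S]
      Localization.AtPrime qb :=
    IsLocalization.algEquiv (qb.comap (algebraMap S (S ⧸ Ideal.span {e}))).primeCompl _ _
  exact (Algebra.QuasiFinite.iff_of_algEquiv (eq.restrictScalars R)).mpr ‹_›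

end Combine

section Main

/-- Stacks 04GG/04GJ: a finite type algebra `S` over a henselian local ring `R` has an idempotent
`e` with `S/(1-e)` module-finite and `S/(e)` quasi-finite at no prime over the maximal ideal. -/
theorem exists_idem_finite_and_not_quasiFiniteAt (R : Type u) [CommRing R] [HenselianLocalRing R]
    (S : Type v) [CommRing S] [Algebra R S] [Algebra.FiniteType R S] :
    ∃ e : S, IsIdempotentElem e ∧ Module.Finite R (S ⧸ Ideal.span ({1 - e} : Set S)) ∧
      ∀ (q : Ideal (S ⧸ Ideal.span ({e} : Set S))) [q.IsPrime],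
        q.LiesOver (maximalIdeal R) → ¬ Algebra.QuasiFiniteAt R q := by
  classical
  let Q := {x : PrimeSpectrum S //
    x.asIdeal.LiesOver (maximalIdeal R) ∧ Algebra.QuasiFiniteAt R x.asIdeal}
  have hex : ∀ x : Q, ∃ ε : S, IsIdempotentElem ε ∧ ε ∉ x.1.asIdeal ∧
      Module.Finite R (S ⧸ Ideal.span {1 - ε}) ∧
      ∀ q' : Ideal S, q'.IsPrime → q'.LiesOver (maximalIdeal R) → ε ∉ q' → q' = x.1.asIdeal := by
    intro x
    have := x.2.1
    have := x.2.2
    exact exists_idem_of_quasiFiniteAt R S x.1.asIdeal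
  choose ε hεidem hεnot hεfin hεuniq using hex
  -- finiteness of `Q`
  have hQfin : Finite Q := by
    let F := S ⧸ (maximalIdeal R).map (algebraMap R S)
    have hnoeth : IsNoetherianRing F := by
      let := Ideal.Quotient.field (maximalIdeal R)
      have : Algebra.FiniteType (R ⧸ maximalIdeal R) F := by
        apply Algebra.FiniteType.of_restrictScalars_finiteType R
      exact Algebra.FiniteType.isNoetherianRing (R ⧸ maximalIdeal R) _
    let π : S →+* F := Ideal.Quotient.mk _
    have hfg : (Submodule.span F (π '' Set.range ε)).FG := IsNoetherian.noetherian _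
    obtain ⟨s', hs's, hspan⟩ := (Submodule.fg_span_iff_fg_span_finset_subset _).mp hfg
    have hs'ex : ∀ y ∈ s', ∃ x : Q, π (ε x) = y := fun y hy => by
      obtain ⟨_, ⟨x, rfl⟩, rfl⟩ := hs's hy
      exact ⟨x, rfl⟩
    by_cases hemp : IsEmpty Q
    · infer_instance
    rw [not_isEmpty_iff] at hemp
    choose! g hg using hs'ex
    apply Finite.of_surjective (fun y : s' => g y.1)
    intro x
    by_contra hne
    push Not at hne
    have hall : ∀ y ∈ s', y ∈ Ideal.map π x.1.asIdeal := by
      intro y hy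
      have hgy : g y ≠ x := hne ⟨y, hy⟩
      have : ε (g y) ∈ x.1.asIdeal := by
        by_contra hnot
        exact hgy (Subtype.ext (PrimeSpectrum.ext
          (hεuniq (g y) x.1.asIdeal x.1.isPrime x.2.1 hnot)).symm)
      rw [← hg y hy]
      exact Ideal.mem_map_of_mem _ this
    have h1 : π (ε x) ∈ Submodule.span F (π '' Set.range ε) :=
      Submodule.subset_span ⟨_, ⟨x, rfl⟩, rfl⟩
    rw [hspan] at h1
    have h2 : π (ε x) ∈ Ideal.map π x.1.asIdeal := (Submodule.span_le.mpr hall) h1
    have hker : RingHom.ker π ≤ x.1.asIdeal := by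
      rw [Ideal.mk_ker, Ideal.map_le_iff_le_comap, ← Ideal.under_def]
      exact (x.2.1.over).le
    have h3 : ε x ∈ x.1.asIdeal := by
      have := Ideal.mem_comap.mpr h2
      rw [Ideal.comap_map_of_surjective _ Ideal.Quotient.mk_surjective] at this
      exact (sup_le le_rfl hker) this
    exact hεnot x h3
  have : Fintype Q := Fintype.ofFinite Q
  obtain ⟨e, he, hee, hefin⟩ := finite_quot_prod_one_sub (R := R) ε hεidem hεfin Finset.univ
  refine ⟨e, he, hefin, ?_⟩
  intro qb hqbprime hqbover hqf
  let q : Ideal S := qb.comap (algebraMap S (S ⧸ Ideal.span {e}))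
  have hqprime : q.IsPrime := Ideal.comap_isPrime _ _
  have hqover : q.LiesOver (maximalIdeal R) := by
    constructor
    rw [hqbover.over, Ideal.under_def, Ideal.under_def,
      IsScalarTower.algebraMap_eq R S (S ⧸ Ideal.span {e}), ← Ideal.comap_comap]
  have hqqf : Algebra.QuasiFiniteAt R q := quasiFiniteAt_of_quotient_idem he qb q rfl
  let x : Q := ⟨⟨q, hqprime⟩, hqover, hqqf⟩
  have heq : e ∈ q := by
    change algebraMap S (S ⧸ Ideal.span {e}) e ∈ qb
    rw [Ideal.Quotient.algebraMap_eq]
    have h0 : (Ideal.Quotient.mk (Ideal.span {e})) e = 0 :=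
      Ideal.Quotient.eq_zero_iff_mem.mpr (Ideal.subset_span rfl)
    rw [h0]
    exact zero_mem _
  have hzero : ε x * (1 - e) = 0 := by
    rw [hee, ← Finset.mul_prod_erase Finset.univ _ (Finset.mem_univ x), ← mul_assoc, mul_sub,
      mul_one, (hεidem x).eq, sub_self, zero_mul]
  have : ε x ∈ q := by
    have h : ε x = ε x * e := by
      rw [mul_sub, mul_one, sub_eq_zero] at hzero
      exact hzero
    rw [h]
    exact Ideal.mul_mem_left _ _ heq
  exact hεnot x this

end Main

end Groth.Agent.Lib.H56HenselQF
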