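/-
helper56: a generic criterion for an algebra to be ind-étale.

`isIndEtale_of_gen_of_ker`: let `B` be an `A`-algebra such that
* (gen) every element of `B` lies in the image of an étale `A`-algebra `E` (in the same universe),
* (ker) for every étale `A`-algebra `E`, `φ : E →ₐ[A] B` and `w ∈ ker φ` there is `t : E` with
  `φ t` a unit and `t * w = 0`.
Then `EtPBC.IsIndEtale A B`: `B` is the colimit of the small filtered category of étale
`A`-algebras of the form `A[X₁, …, Xₙ] / K` equipped with a map to `B`.

(Pattern of helper96's `HznIndEtale96`, with the maps to `B` recorded in the index category.)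
-/
import Groth.Agent.Lib.H15IndZariski
import Groth.Prelude.Def_PBC
import Mathlib.RingTheory.Etale.Basic

set_option autoImplicit false
universe u

namespace Groth.Agent.Lib.H56IndEtale

open CategoryTheory CategoryTheory.Limits TensorProduct

variable (A B : Type u) [CommRing A] [CommRing B] [Algebra A B]

/-- The small skeleton of étale `A`-algebras over `B`: étale quotients of polynomial rings in
finitely many variables, with an `A`-algebra map to `B`. -/
structure Sk : Type u where
  /-- number of variables -/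
  n : ℕ
  /-- ideal of relations -/
  K : Ideal (MvPolynomial (Fin n) A)
  /-- the quotient is étale -/
  etale : Algebra.Etale A (MvPolynomial (Fin n) A ⧸ K)
  /-- the map to `B` -/
  ψ : (MvPolynomial (Fin n) A ⧸ K) →ₐ[A] B

variable {A B}

/-- The underlying algebra of a skeleton object. -/
abbrev Sk.alg (X : Sk A B) : Type u := MvPolynomial (Fin X.n) A ⧸ X.K

instance (X : Sk A B) : Algebra.Etale A X.alg := X.etale

noncomputable instance : Category (Sk A B) where
  Hom X Y := {f : X.alg →ₐ[A] Y.alg // Y.ψ.comp f = X.ψ}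
  id X := ⟨AlgHom.id A X.alg, AlgHom.comp_id _⟩
  comp f g := ⟨g.1.comp f.1, by rw [← AlgHom.comp_assoc, g.2, f.2]⟩

/-- Every étale algebra over `B` is isomorphic to a skeleton one. -/
theorem exists_sk {E : Type u} [CommRing E] [Algebra A E] [Algebra.Etale A E] (φ : E →ₐ[A] B) :
    ∃ (X : Sk A B) (e : E ≃ₐ[A] X.alg), X.ψ.comp e.toAlgHom = φ := by
  have hft : Algebra.FiniteType A E := inferInstance
  obtain ⟨n, f, hf⟩ := Algebra.FiniteType.iff_quotient_mvPolynomial''.1 hft
  let e : (MvPolynomial (Fin n) A ⧸ RingHom.ker (f : MvPolynomial (Fin n) A →+* E)) ≃ₐ[A] E :=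
    Ideal.quotientKerAlgEquivOfSurjective hf
  refine ⟨⟨n, RingHom.ker (f : MvPolynomial (Fin n) A →+* E), Algebra.Etale.of_equiv e.symm,
    φ.comp e.toAlgHom⟩, e.symm, ?_⟩
  ext x
  simp

/-- Inverting an element which becomes a unit in `B`. -/
theorem exists_away (X : Sk A B) (t : X.alg) (ht : IsUnit (X.ψ t)) :
    ∃ (Z : Sk A B) (h : X ⟶ Z), ∀ w : X.alg, t * w = 0 → h.1 w = 0 := by
  have hf : ∀ y : Submonoid.powers t, IsUnit (X.ψ y) := by
    rintro ⟨_, n, rfl⟩
    rw [map_pow]
    exact ht.pow n
  let ψ' : Localization.Away t →ₐ[A] B := IsLocalization.liftAlgHom (M := Submonoid.powers t) hf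
  obtain ⟨Z, e, he⟩ := exists_sk ψ'
  have hcomp : ψ'.comp (IsScalarTower.toAlgHom A X.alg (Localization.Away t)) = X.ψ := by
    ext x
    exact IsLocalization.lift_eq _ _
  refine ⟨Z, ⟨e.toAlgHom.comp (IsScalarTower.toAlgHom A X.alg (Localization.Away t)), ?_⟩, ?_⟩
  · rw [← AlgHom.comp_assoc, he, hcomp]
  · intro w hw
    have hunit : IsUnit (algebraMap X.alg (Localization.Away t) t) :=
      IsLocalization.Away.algebraMap_isUnit t
    have h2 : algebraMap X.alg (Localization.Away t) t *
        algebraMap X.alg (Localization.Away t) w = 0 := by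
      rw [← map_mul, hw, map_zero]
    have h0 : algebraMap X.alg (Localization.Away t) w = 0 := (hunit.mul_right_eq_zero).mp h2
    change e (algebraMap X.alg (Localization.Away t) w) = 0
    rw [h0, map_zero]

/-- The kernel condition. -/
def KerCond (A B : Type u) [CommRing A] [CommRing B] [Algebra A B] : Prop :=
  ∀ (E : Type u) [CommRing E] [Algebra A E] [Algebra.Etale A E] (φ : E →ₐ[A] B) (w : E),
    φ w = 0 → ∃ t : E, IsUnit (φ t) ∧ t * w = 0

/-- The generation condition. -/
def GenCond (A B : Type u) [CommRing A] [CommRing B] [Algebra A B] : Prop :=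
  ∀ b : B, ∃ (E : Type u) (_ : CommRing E) (_ : Algebra A E) (_ : Algebra.Etale A E)
    (φ : E →ₐ[A] B), b ∈ φ.range

theorem exists_kill_finset (hker : KerCond A B) (X : Sk A B) (W : Finset X.alg)
    (hW : ∀ w ∈ W, X.ψ w = 0) : ∃ t : X.alg, IsUnit (X.ψ t) ∧ ∀ w ∈ W, t * w = 0 := by
  classical
  induction W using Finset.induction_on with
  | empty => exact ⟨1, by simp, by simp⟩
  | insert a F ha ih =>
    obtain ⟨t, ht, htF⟩ := ih (fun w hw => hW w (Finset.mem_insert_of_mem hw))
    obtain ⟨t', ht', hta⟩ := hker X.alg X.ψ a (hW a (Finset.mem_insert_self a F))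
    refine ⟨t' * t, by rw [map_mul]; exact ht'.mul ht, ?_⟩
    intro w hw
    rcases Finset.mem_insert.1 hw with rfl | hw
    · rw [mul_comm t' t, mul_assoc, hta, mul_zero]
    · rw [mul_assoc, htF w hw, mul_zero]

theorem isFiltered_sk (hker : KerCond A B) : IsFiltered (Sk A B) where
  nonempty := by
    obtain ⟨X, -, -⟩ := exists_sk (Algebra.ofId A B)
    exact ⟨X⟩
  cocone_objs X Y := by
    have : Algebra.Etale A (X.alg ⊗[A] Y.alg) := Algebra.Etale.comp A X.alg (X.alg ⊗[A] Y.alg)
    obtain ⟨Z, e, he⟩ := exists_sk (E := X.alg ⊗[A] Y.alg)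
      (Algebra.TensorProduct.productMap X.ψ Y.ψ)
    refine ⟨Z, ⟨e.toAlgHom.comp Algebra.TensorProduct.includeLeft, ?_⟩,
      ⟨e.toAlgHom.comp Algebra.TensorProduct.includeRight, ?_⟩, trivial⟩
    · rw [← AlgHom.comp_assoc, he, Algebra.TensorProduct.productMap_left]
    · rw [← AlgHom.comp_assoc, he, Algebra.TensorProduct.productMap_right]
  cocone_maps {X Y} f g := by
    classical
    let gen : Fin X.n → X.alg := fun i => Ideal.Quotient.mk X.K (MvPolynomial.X i)
    obtain ⟨t, ht, htW⟩ := exists_kill_finset hker Y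
      (Finset.univ.image (fun i => f.1 (gen i) - g.1 (gen i))) (by
        intro w hw
        obtain ⟨i, -, rfl⟩ := Finset.mem_image.1 hw
        rw [map_sub, sub_eq_zero]
        have h1 := AlgHom.congr_fun f.2 (gen i)
        have h2 := AlgHom.congr_fun g.2 (gen i)
        exact h1.trans h2.symm)
    obtain ⟨Z, h, hZ⟩ := exists_away Y t ht
    refine ⟨Z, h, ?_⟩
    apply Subtype.ext
    change h.1.comp f.1 = h.1.comp g.1
    apply Ideal.Quotient.algHom_ext
    apply MvPolynomial.algHom_ext
    intro i
    have := hZ _ (htW _ (Finset.mem_image_of_mem _ (Finset.mem_univ i)))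
    rw [map_sub, sub_eq_zero] at this
    exact this

/-- The diagram of skeleton objects. -/
noncomputable def diag : Sk A B ⥤ Under (CommRingCat.of A) where
  obj X := Under.mk (CommRingCat.ofHom (algebraMap A X.alg))
  map {X Y} f := Under.homMk (CommRingCat.ofHom (f.1 : X.alg →ₐ[A] Y.alg).toRingHom)
    (by ext a; exact (f.1 : X.alg →ₐ[A] Y.alg).commutes a)
  map_id X := by ext x; rfl
  map_comp f g := by ext x; rfl

/-- The cocone with point `B`. -/
noncomputable def cocone : Cocone (diag (A := A) (B := B)) where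
  pt := Under.mk (CommRingCat.ofHom (algebraMap A B))
  ι :=
    { app := fun X => Under.homMk (CommRingCat.ofHom X.ψ.toRingHom)
        (by ext a; exact X.ψ.commutes a)
      naturality := fun X Y f => by
        ext x
        exact AlgHom.congr_fun f.2 x }

theorem isColimit_cocone (hgen : GenCond A B) (hker : KerCond A B) :
    Nonempty (IsColimit (cocone (A := A) (B := B))) := by
  have := isFiltered_sk hker
  refine Groth.Agent.Lib.H15IndZariski.isColimit_under_of_elementwise _ _ ?_ ?_
  · intro b
    obtain ⟨E, _, _, _, φ, s, hs⟩ := hgen (b : B)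
    obtain ⟨X, e, he⟩ := exists_sk φ
    refine ⟨X, e s, ?_⟩
    have := AlgHom.congr_fun he s
    rw [← hs]
    exact this
  · intro X (x : X.alg) (y : X.alg) hxy
    replace hxy : X.ψ x = X.ψ y := hxy
    have hxy' : X.ψ (x - y) = 0 := by
      rw [map_sub, sub_eq_zero]; exact hxy
    obtain ⟨t, ht, hts⟩ := hker X.alg X.ψ (x - y) hxy'
    obtain ⟨Z, h, hZ⟩ := exists_away X t ht
    refine ⟨Z, h, ?_⟩
    have h0 := hZ _ hts
    rw [map_sub, sub_eq_zero] at h0
    exact h0

/-- **Criterion for ind-étaleness**: generation by étale algebras plus the kernel condition. -/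
theorem isIndEtale_of_gen_of_ker (hgen : GenCond A B) (hker : KerCond A B) :
    EtPBC.IsIndEtale A B := by
  obtain ⟨hc⟩ := isColimit_cocone hgen hker
  refine ⟨Sk A B, inferInstance, isFiltered_sk hker, diag, cocone, hc, ?_, ⟨Iso.refl _⟩⟩
  intro X
  have heq : ((diag (A := A) (B := B)).obj X).hom.hom.toAlgebra =
      (inferInstance : Algebra A X.alg) := by
    apply Algebra.algebra_ext
    intro r
    rfl
  show @Algebra.Etale A X.alg _ _ ((diag (A := A) (B := B)).obj X).hom.hom.toAlgebra
  rw [heq]
  exact X.etale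

end Groth.Agent.Lib.H56IndEtale
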