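import Mathlib

/-!
# helper56: local lifts through a morphism `f : X ⟶ Y` (EGA IV 14.5.10, formal part)

For `f : X ⟶ Y` and `k : W ⟶ Y`, a point `w : W` *has a local lift* if there are an open
immersion `j : U ⟶ W` with `w` in its range and a morphism `t : U ⟶ X` with `t ≫ f = j ≫ k`.

* `HasLocalLift.comp`, `HasLocalLift.of_isOpenImmersion`, `HasLocalLift.of_snd`: functoriality.
* `isOpen_setOf_hasLocalLift`: the good set is open.
* `exists_of_finite`: finitely many points of `W` handled simultaneously (fibre products).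
* `exists_of_pointwise`: Noetherian induction on the bad set.
* `HasLocalLift.exists_section`: translation into sections of the base change.
-/

set_option autoImplicit false
universe u

open CategoryTheory CategoryTheory.Limits AlgebraicGeometry TopologicalSpace

namespace Groth.Agent.Lib.H56LocSec

variable {X Y : Scheme.{u}}

/-- `w : W` has a local lift through `f` (relative to `k : W ⟶ Y`). -/
def HasLocalLift (f : X ⟶ Y) {W : Scheme.{u}} (k : W ⟶ Y) (w : W) : Prop :=
  ∃ (U : Scheme.{u}) (j : U ⟶ W), IsOpenImmersion j ∧ w ∈ Set.range j ∧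
    ∃ t : U ⟶ X, t ≫ f = j ≫ k

theorem HasLocalLift.comp {f : X ⟶ Y} {W W' : Scheme.{u}} {k : W ⟶ Y} (h : W' ⟶ W) (w' : W')
    (H : HasLocalLift f k (h w')) : HasLocalLift f (h ≫ k) w' := by
  obtain ⟨U, j, hj, hw, t, ht⟩ := H
  refine ⟨pullback j h, pullback.snd j h, inferInstance, ?_, pullback.fst j h ≫ t, ?_⟩
  · rw [Scheme.Pullback.range_snd]
    exact hw
  · rw [Category.assoc, ht, ← Category.assoc, pullback.condition, Category.assoc]

theorem HasLocalLift.of_isOpenImmersion {f : X ⟶ Y} {W W₀ : Scheme.{u}} {k : W ⟶ Y}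
    (j₀ : W₀ ⟶ W) [IsOpenImmersion j₀] (w₀ : W₀) (H : HasLocalLift f (j₀ ≫ k) w₀) :
    HasLocalLift f k (j₀ w₀) := by
  obtain ⟨U, j, hj, hw, t, ht⟩ := H
  refine ⟨U, j ≫ j₀, inferInstance, ?_, t, ?_⟩
  · obtain ⟨u, rfl⟩ := hw
    exact ⟨u, rfl⟩
  · rw [ht, Category.assoc]

theorem HasLocalLift.congr {f : X ⟶ Y} {W : Scheme.{u}} {k k' : W ⟶ Y} (e : k = k') {w : W}
    (H : HasLocalLift f k w) : HasLocalLift f k' w := e ▸ H

/-- A local lift through a base change of `f` gives a local lift through `f`. -/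
theorem HasLocalLift.of_snd {f : X ⟶ Y} {Y₁ W : Scheme.{u}} (g₁ : Y₁ ⟶ Y) {k : W ⟶ Y₁} {w : W}
    (H : HasLocalLift (pullback.snd f g₁) k w) : HasLocalLift f (k ≫ g₁) w := by
  obtain ⟨U, j, hj, hw, t, ht⟩ := H
  refine ⟨U, j, hj, hw, t ≫ pullback.fst f g₁, ?_⟩
  rw [Category.assoc, pullback.condition, ← Category.assoc, ht, Category.assoc]

theorem isOpen_setOf_hasLocalLift (f : X ⟶ Y) {W : Scheme.{u}} (k : W ⟶ Y) :
    IsOpen {w : W | HasLocalLift f k w} := by
  rw [isOpen_iff_forall_mem_open]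
  intro w hw
  obtain ⟨U, j, hj, hwj, t, ht⟩ := hw
  refine ⟨Set.range j, ?_, j.isOpenEmbedding.isOpen_range, hwj⟩
  rintro _ ⟨u, rfl⟩
  exact ⟨U, j, hj, ⟨u, rfl⟩, t, ht⟩

/-- Translation into sections of the base change over an open neighbourhood. -/
theorem HasLocalLift.exists_section {f : X ⟶ Y} {Y' : Scheme.{u}} {g : Y' ⟶ Y} {y' : Y'}
    (H : HasLocalLift f g y') :
    ∃ U : Y'.Opens, y' ∈ U ∧
      ∃ s : (↑U : Scheme.{u}) ⟶ pullback f g, s ≫ pullback.snd f g = U.ι := by
  obtain ⟨U, j, hj, hw, t, ht⟩ := H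
  refine ⟨j.opensRange, hw, pullback.lift (j.isoOpensRange.inv ≫ t) j.opensRange.ι ?_, ?_⟩
  · rw [Category.assoc, ht, ← Category.assoc, Scheme.Hom.isoOpensRange_inv_comp]
  · exact pullback.lift_snd _ _ _

/-- Finitely many points can be treated simultaneously. -/
theorem exists_of_finite (f : X ⟶ Y) {W : Scheme.{u}} (k : W ⟶ Y) (S : Set W) (hS : S.Finite)
    (H : ∀ w ∈ S, ∃ (Z : Scheme.{u}) (h : Z ⟶ W), IsFinite h ∧ Surjective h ∧
      ∀ z : Z, h z = w → HasLocalLift f (h ≫ k) z) :
    ∃ (Z : Scheme.{u}) (h : Z ⟶ W), IsFinite h ∧ Surjective h ∧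
      ∀ z : Z, h z ∈ S → HasLocalLift f (h ≫ k) z := by
  induction S, hS using Set.Finite.induction_on with
  | empty =>
    exact ⟨W, 𝟙 W, inferInstance, inferInstance, fun z hz => absurd hz (Set.notMem_empty _)⟩
  | @insert a S _ _ ih =>
    obtain ⟨Z₁, h₁, hfin₁, hsurj₁, H₁⟩ := ih (fun w hw => H w (Set.mem_insert_of_mem a hw))
    obtain ⟨Z₂, h₂, hfin₂, hsurj₂, H₂⟩ := H a (Set.mem_insert a S)
    refine ⟨pullback h₁ h₂, pullback.fst h₁ h₂ ≫ h₁, inferInstance, inferInstance, ?_⟩
    intro z hz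
    rcases hz with hz | hz
    · have e : pullback.fst h₁ h₂ ≫ h₁ = pullback.snd h₁ h₂ ≫ h₂ := pullback.condition
      have hz' : h₂ ((pullback.snd h₁ h₂) z) = a := by
        rw [← Scheme.Hom.comp_apply, ← e]; exact hz
      have := (H₂ _ hz').comp (pullback.snd h₁ h₂) z
      refine this.congr ?_
      rw [← Category.assoc, ← e]
    · have hz' : h₁ ((pullback.fst h₁ h₂) z) ∈ S := by
        rw [← Scheme.Hom.comp_apply]; exact hz
      have := (H₁ _ hz').comp (pullback.fst h₁ h₂) z
      refine this.congr ?_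
      rw [Category.assoc]

/-- **Noetherian induction on the bad set.** If for every point `y` there is a finite surjective
cover all of whose points over `y` have local lifts, then there is a finite surjective cover all of
whose points have local lifts. -/
theorem exists_of_pointwise [IsNoetherian Y] (f : X ⟶ Y)
    (H : ∀ y : Y, ∃ (Z : Scheme.{u}) (h : Z ⟶ Y), IsFinite h ∧ Surjective h ∧
      ∀ z : Z, h z = y → HasLocalLift f h z) :
    ∃ (Y' : Scheme.{u}) (g : Y' ⟶ Y), IsFinite g ∧ Surjective g ∧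
      ∀ y' : Y', HasLocalLift f g y' := by
  have key : ∀ B : Closeds Y,
      (∃ (Y' : Scheme.{u}) (g : Y' ⟶ Y), IsFinite g ∧ Surjective g ∧
        ∀ y' : Y', g y' ∉ B → HasLocalLift f g y') →
      ∃ (Y' : Scheme.{u}) (g : Y' ⟶ Y), IsFinite g ∧ Surjective g ∧
        ∀ y' : Y', HasLocalLift f g y' := by
    intro B
    induction B using WellFoundedLT.induction with
    | ind B ih =>
      rintro ⟨Y', g, hgfin, hgsurj, hg⟩
      by_cases hB : (B : Set Y) = ∅
      · exact ⟨Y', g, hgfin, hgsurj, fun y' => hg y' (by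
          intro hmem
          have : g y' ∈ (B : Set Y) := hmem
          rw [hB] at this
          exact this)⟩
      obtain ⟨y, hy⟩ := Set.nonempty_iff_ne_empty.mpr hB
      obtain ⟨Z, h, hhfin, hhsurj, hh⟩ := H y
      have hcl : IsClosed (h '' {z : Z | HasLocalLift f h z}ᶜ) :=
        h.isClosedMap _ (isOpen_setOf_hasLocalLift f h).isClosed_compl
      let Bh : Closeds Y := ⟨_, hcl⟩
      have hyBh : y ∉ (Bh : Set Y) := by
        rintro ⟨z, hz, hzy⟩
        exact hz (hh z hzy)
      have hlt : B ⊓ Bh < B := by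
        refine lt_of_le_of_ne inf_le_left ?_
        intro heq
        have : y ∈ ((B ⊓ Bh : Closeds Y) : Set Y) := by rw [heq]; exact hy
        exact hyBh this.2
      refine ih (B ⊓ Bh) hlt ⟨pullback g h, pullback.fst g h ≫ g, inferInstance, inferInstance, ?_⟩
      intro p hp
      have e : pullback.fst g h ≫ g = pullback.snd g h ≫ h := pullback.condition
      by_cases hpB : (pullback.fst g h ≫ g) p ∈ B
      · have hpBh : (pullback.fst g h ≫ g) p ∉ (Bh : Set Y) := fun hmem => hp ⟨hpB, hmem⟩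
        have hgood : HasLocalLift f h ((pullback.snd g h) p) := by
          by_contra hbad
          apply hpBh
          refine ⟨(pullback.snd g h) p, hbad, ?_⟩
          rw [e, Scheme.Hom.comp_apply]
        exact (hgood.comp (pullback.snd g h) p).congr e.symm
      · have hgood : HasLocalLift f g ((pullback.fst g h) p) := by
          apply hg
          rw [← Scheme.Hom.comp_apply]
          exact hpB
        exact hgood.comp (pullback.fst g h) p
  exact key ⊤ ⟨Y, 𝟙 Y, inferInstance, inferInstance, fun y' hy' => absurd (Set.mem_univ _) hy'⟩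

end Groth.Agent.Lib.H56LocSec
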