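import Mathlib
import Groth.Prelude.Def_CAlg2
import Groth.Prelude.Def_EGA43
import Groth.Agent.Lib.UnivOpenAt
import Groth.Agent.Lib.OpenAt45
import Groth.Agent.Lib.H80Equi4
import Groth.Agent.Lib.H30EquidimAt
import Groth.Agent.Lib.QFAt91
import Groth.Agent.Lib.H80PolyGU4
import Groth.Agent.Lib.H80PolyGU6

/-!
# helper56: EGA IV 14.5.10, the ring-level core

`exists_finite_cover_with_lifts`: `A` Noetherian, `B` a domain of finite type over `A`, quasi-finite
at a prime `q` lying over a geometrically unibranch prime `p` of `A`, `ker (A → B)` nilpotent. Then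
there is a finite `A`-algebra `A'` with `Spec A' → Spec A` surjective such that every prime `p'` of
`A'` over `p` has a basic open neighbourhood `D(s)` with an `A`-algebra map `B → A'_s`.

Ingredients: Zariski's main theorem (finite `C₀ ⊆ B` with `C₀[1/r] = B[1/r]`), a finite domain
cover `A₂` of `A` over which integral equations of generators of `C₀` split
(`exists_splitting_cover`), and universal openness of `Spec C₀ → Spec A` over the unibranch point
(helper80), which forces every prime of `A₂` over `p` to be the pullback of `q ∩ C₀` along some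
`A`-algebra map `C₀ → A₂` (`exists_algHom_comap_eq`).
-/

set_option autoImplicit false
universe u
open Polynomial CategoryTheory AlgebraicGeometry TensorProduct

namespace Groth.Agent.Lib.H56LocSec

/-- A finite domain cover of `A` in which given monic polynomials split. -/
theorem exists_splitting_cover (A : Type u) [CommRing A] [IsDomain A] {ι : Type*} [Finite ι]
    (P : ι → Polynomial A) (hP : ∀ i, (P i).Monic) :
    ∃ (A₂ : Type u) (_ : CommRing A₂) (_ : IsDomain A₂) (_ : Algebra A A₂), Module.Finite A A₂ ∧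
      Function.Injective (algebraMap A A₂) ∧
      ∀ i, ∃ m : Multiset A₂, (P i).map (algebraMap A A₂) = (m.map (fun a => X - C a)).prod := by
  classical
  let N := AlgebraicClosure (FractionRing A)
  let S : Set N := ⋃ i, (P i).rootSet N
  have hSfin : S.Finite := Set.finite_iUnion (fun i => rootSet_finite (P i) N)
  have hSint : ∀ x ∈ S, IsIntegral A x := by
    intro x hx
    obtain ⟨i, hi⟩ := Set.mem_iUnion.mp hx
    rw [mem_rootSet'] at hi
    exact ⟨P i, hP i, hi.2⟩
  let A₂ : Subalgebra A N := Algebra.adjoin A S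
  have hfin : Module.Finite A A₂ := ⟨(Submodule.fg_top _).mpr (fg_adjoin_of_finite hSfin hSint)⟩
  have hinjN : Function.Injective (algebraMap A N) := by
    rw [IsScalarTower.algebraMap_eq A (FractionRing A) N]
    exact (algebraMap (FractionRing A) N).injective.comp (IsFractionRing.injective A (FractionRing A))
  have hinj : Function.Injective (algebraMap A A₂) := by
    intro a b hab
    apply hinjN
    exact congrArg Subtype.val hab
  refine ⟨A₂, inferInstance, inferInstance, inferInstance, hfin, hinj, fun i => ?_⟩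
  have hmon : ((P i).map (algebraMap A N)).Monic := (hP i).map _
  have hsplit : ((P i).map (algebraMap A N)).Splits := IsAlgClosed.splits _
  have hprod := hsplit.eq_prod_roots_of_monic hmon
  have hmem : ∀ a ∈ ((P i).map (algebraMap A N)).roots, a ∈ A₂ := by
    intro a ha
    apply Algebra.subset_adjoin
    refine Set.mem_iUnion.mpr ⟨i, ?_⟩
    rw [mem_rootSet']
    refine ⟨hmon.ne_zero, ?_⟩
    have := (mem_roots hmon.ne_zero).mp ha
    rwa [IsRoot.def, eval_map_algebraMap] at this
  refine ⟨((P i).map (algebraMap A N)).roots.pmap (fun a ha => (⟨a, ha⟩ : A₂)) hmem, ?_⟩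
  apply Polynomial.map_injective (algebraMap A₂ N) Subtype.val_injective
  rw [Polynomial.map_map, ← IsScalarTower.algebraMap_eq, Polynomial.map_multiset_prod,
    Multiset.map_map, Multiset.map_pmap]
  conv_lhs => rw [hprod]
  congr 1
  have : (fun (a : N) (h : a ∈ A₂) => (Polynomial.map (algebraMap (↥A₂) N) ∘ fun a => X - C a) ⟨a, h⟩) =
      fun (a : N) (_ : a ∈ A₂) => (X - C a : Polynomial N) := by
    funext a h
    simp only [Function.comp_apply, Polynomial.map_sub, Polynomial.map_X, Polynomial.map_C]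
    rfl
  rw [this, Multiset.pmap_eq_map]

theorem exists_algHom_of_splits {A C₀ A₂ D : Type*} [CommRing A] [CommRing C₀] [CommRing A₂]
    [CommRing D] [IsDomain D] [Algebra A C₀] [Algebra A A₂] (ρ : C₀ →+* D) (ι : A₂ →+* D)
    (hι : Function.Injective ι)
    (hcomp : ρ.comp (algebraMap A C₀) = ι.comp (algebraMap A A₂))
    (s : Set C₀) (hs : Algebra.adjoin A s = ⊤)
    (hsplit : ∀ c ∈ s, ∃ (P : Polynomial A) (m : Multiset A₂),
      P.map (algebraMap A A₂) = (m.map (fun a => X - C a)).prod ∧ aeval c P = 0) :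
    ∃ τ : C₀ →ₐ[A] A₂, ∀ c, ι (τ c) = ρ c := by
  have hmem : ∀ c : C₀, ρ c ∈ ι.range := by
    intro c
    have hc : c ∈ Algebra.adjoin A s := by rw [hs]; trivial
    induction hc using Algebra.adjoin_induction with
    | mem c hc =>
      obtain ⟨P, m, hPm, hPc⟩ := hsplit c hc
      have h1 : (P.map (ι.comp (algebraMap A A₂))).eval (ρ c) = 0 := by
        rw [← hcomp, Polynomial.eval_map, ← Polynomial.hom_eval₂, ← Polynomial.aeval_def, hPc, map_zero]
      rw [← Polynomial.map_map, hPm, Polynomial.map_multiset_prod, Polynomial.eval_multiset_prod,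
        Multiset.map_map, Multiset.map_map, Multiset.prod_eq_zero_iff, Multiset.mem_map] at h1
      obtain ⟨a, -, ha⟩ := h1
      simp only [Function.comp_apply, Polynomial.map_sub, Polynomial.map_X, Polynomial.map_C,
        Polynomial.eval_sub, Polynomial.eval_X, Polynomial.eval_C] at ha
      exact ⟨a, (sub_eq_zero.mp ha).symm⟩
    | algebraMap r =>
      refine ⟨algebraMap A A₂ r, ?_⟩
      exact (RingHom.congr_fun hcomp r).symm
    | add x y _ _ hx hy =>
      rw [map_add]; exact ι.range.add_mem hx hy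
    | mul x y _ _ hx hy =>
      rw [map_mul]; exact ι.range.mul_mem hx hy
  let e : A₂ ≃+* ι.range := RingEquiv.ofBijective ι.rangeRestrict
    ⟨fun a b hab => hι (congrArg Subtype.val hab), ι.rangeRestrict_surjective⟩
  let τ₀ : C₀ →+* A₂ := e.symm.toRingHom.comp (ρ.codRestrict ι.range hmem)
  have hτ₀ : ∀ c, ι (τ₀ c) = ρ c := by
    intro c
    have : e (τ₀ c) = ρ.codRestrict ι.range hmem c := e.apply_symm_apply _
    exact congrArg Subtype.val this
  refine ⟨{ τ₀ with commutes' := fun r => ?_ }, hτ₀⟩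
  apply hι
  change ι (τ₀ (algebraMap A C₀ r)) = _
  rw [hτ₀]
  exact RingHom.congr_fun hcomp r

theorem exists_algHom_comap_eq {A C₀ A₂ : Type u} [CommRing A] [CommRing C₀] [CommRing A₂]
    [IsDomain A₂] [Algebra A C₀] [Algebra A A₂]
    (s : Set C₀) (hs : Algebra.adjoin A s = ⊤)
    (hsplit : ∀ c ∈ s, ∃ (P : Polynomial A) (m : Multiset A₂),
      P.map (algebraMap A A₂) = (m.map (fun a => X - C a)).prod ∧ aeval c P = 0)
    (qC : Ideal C₀) [hqC : qC.IsPrime] (p₂ : Ideal A₂) [hp₂ : p₂.IsPrime]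
    (hover : qC.comap (algebraMap A C₀) = p₂.comap (algebraMap A A₂))
    (hU : EGA43.IsUnivOpenAt (Spec.map (CommRingCat.ofHom (algebraMap A C₀)))
      (⟨qC, hqC⟩ : PrimeSpectrum C₀)) :
    ∃ τ : C₀ →ₐ[A] A₂, p₂.comap τ.toRingHom = qC := by
  have sq := isPullback_SpecMap_of_isPushout _ _ _ _ (CommRingCat.isPushout_tensorProduct A C₀ A₂)
  obtain ⟨z, hz1, hz2⟩ := Scheme.exists_preimage_of_isPullback sq
    (⟨qC, hqC⟩ : PrimeSpectrum C₀) (⟨p₂, hp₂⟩ : PrimeSpectrum A₂)
    (PrimeSpectrum.ext hover)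
  have hopen := Groth.Agent.Lib.UnivOpenAt.isOpenAt_snd_of_isPullback sq hU z hz1
  have hspec : (⟨⊥, Ideal.isPrime_bot⟩ : PrimeSpectrum A₂) ⤳ (⟨p₂, hp₂⟩ : PrimeSpectrum A₂) :=
    (PrimeSpectrum.le_iff_specializes _ _).mp bot_le
  rw [← hz2] at hspec
  obtain ⟨z', hz'z, hz'⟩ := Groth.Agent.Lib.OpenAt45.exists_generization_of_isOpenAt _ z hopen _ hspec
  -- translate to ideals
  obtain ⟨Q, hQ⟩ : ∃ Q : Ideal (C₀ ⊗[A] A₂), Q = (z' : PrimeSpectrum (C₀ ⊗[A] A₂)).asIdeal := ⟨_, rfl⟩
  obtain ⟨Z, hZ⟩ : ∃ Z : Ideal (C₀ ⊗[A] A₂), Z = (z : PrimeSpectrum (C₀ ⊗[A] A₂)).asIdeal := ⟨_, rfl⟩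
  have hQprime : Q.IsPrime := hQ ▸ (z' : PrimeSpectrum (C₀ ⊗[A] A₂)).isPrime
  have hQZ : Q ≤ Z := by
    rw [hQ, hZ]
    exact (PrimeSpectrum.le_iff_specializes (z' : PrimeSpectrum (C₀ ⊗[A] A₂)) z).mpr hz'z
  have hQbot : Q.comap (Algebra.TensorProduct.includeRight (R := A) (A := C₀) (B := A₂)).toRingHom = ⊥ := by
    rw [hQ]
    exact congrArg PrimeSpectrum.asIdeal hz'
  have hZ1 : Z.comap (Algebra.TensorProduct.includeLeftRingHom (R := A) (A := C₀) (B := A₂)) = qC := by
    rw [hZ]
    exact congrArg PrimeSpectrum.asIdeal hz1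
  have hZ2 : Z.comap (Algebra.TensorProduct.includeRight (R := A) (A := C₀) (B := A₂)).toRingHom = p₂ := by
    rw [hZ]
    exact congrArg PrimeSpectrum.asIdeal hz2
  -- the two maps to the domain `(C₀ ⊗ A₂) / Q`
  let ρ : C₀ →+* (C₀ ⊗[A] A₂) ⧸ Q := (Ideal.Quotient.mk Q).comp
    (Algebra.TensorProduct.includeLeftRingHom (R := A) (A := C₀) (B := A₂))
  let ι : A₂ →+* (C₀ ⊗[A] A₂) ⧸ Q := (Ideal.Quotient.mk Q).comp
    (Algebra.TensorProduct.includeRight (R := A) (A := C₀) (B := A₂)).toRingHom
  have hι : Function.Injective ι := by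
    rw [RingHom.injective_iff_ker_eq_bot, ← hQbot]
    ext a
    rw [RingHom.mem_ker, Ideal.mem_comap]
    exact Ideal.Quotient.eq_zero_iff_mem
  have hcomp : ρ.comp (algebraMap A C₀) = ι.comp (algebraMap A A₂) := by
    ext a
    change Ideal.Quotient.mk Q ((algebraMap A C₀ a) ⊗ₜ[A] (1 : A₂)) =
      Ideal.Quotient.mk Q ((1 : C₀) ⊗ₜ[A] (algebraMap A A₂ a))
    rw [Algebra.algebraMap_eq_smul_one, Algebra.algebraMap_eq_smul_one, TensorProduct.smul_tmul]
  obtain ⟨τ, hτ⟩ := exists_algHom_of_splits ρ ι hι hcomp s hs hsplit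
  refine ⟨τ, ?_⟩
  have hdiff : ∀ c : C₀, c ⊗ₜ[A] (1 : A₂) - (1 : C₀) ⊗ₜ[A] τ c ∈ Z := by
    intro c
    apply hQZ
    rw [← Ideal.Quotient.eq]
    exact (hτ c).symm
  ext c
  rw [Ideal.mem_comap, ← hZ2, ← hZ1, Ideal.mem_comap, Ideal.mem_comap]
  change (1 : C₀) ⊗ₜ[A] τ c ∈ Z ↔ c ⊗ₜ[A] (1 : A₂) ∈ Z
  constructor
  · intro h
    have := Z.add_mem (hdiff c) h
    rwa [sub_add_cancel] at this
  · intro h
    have := Z.sub_mem h (hdiff c)
    rwa [sub_sub_cancel] at this

/-- (helper80, `H80GeomCompLSC`) A locally quasi-finite morphism all of whose maximal points map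
to the generic point of the irreducible locally Noetherian target is universally open at the points
over geometrically unibranch points. -/
theorem isUnivOpenAt_of_locallyQuasiFinite_of_dominant {Y' Y : Scheme.{u}} [IrreducibleSpace Y]
    [IsLocallyNoetherian Y] (g : Y' ⟶ Y) [LocallyOfFiniteType g] [LocallyQuasiFinite g]
    (hdom : ∀ ζ : Y', Groth.Agent.Lib.H30GenFib.IsMaxPt ζ → g ζ = genericPoint Y) (y' : Y')
    (hy : CAlg2.IsGeomUnibranch (Y.presheaf.stalk (g y'))) : EGA43.IsUnivOpenAt g y' := by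
  apply Groth.Agent.Lib.H80Equi.isUnivOpenAt_of_isEquidimAt g y' hy
  rw [Groth.Agent.Lib.H30EquidimAt.isEquidimAt_iff]
  refine ⟨0, ⊤, trivial, ?_, ?_⟩
  · intro ζ _ hζ
    rw [hdom ζ hζ]
    refine ⟨?_, (genericPoint_spec Y).specializes (by simp)⟩
    intro ξ hξ
    exact ((genericPoint_spec Y).specializes (by simp) |>.antisymm hξ).eq.symm
  · intro z _
    rw [Nat.cast_zero]
    exact (Groth.Agent.Lib.QFAt91.fibreDimAt_eq_zero_iff g z).mpr (g.quasiFiniteAt z)

theorem isUnivOpenAt_SpecMap_of_isGeomUnibranch {A C₀ : Type u} [CommRing A] [IsDomain A]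
    [IsNoetherianRing A] [CommRing C₀] [IsDomain C₀] [Algebra A C₀] [Module.Finite A C₀]
    (hinj : Function.Injective (algebraMap A C₀)) (qC : Ideal C₀) [hqC : qC.IsPrime]
    (hGU : CAlg2.IsGeomUnibranch (Localization.AtPrime (qC.comap (algebraMap A C₀)))) :
    EGA43.IsUnivOpenAt (Spec.map (CommRingCat.ofHom (algebraMap A C₀)))
      (⟨qC, hqC⟩ : PrimeSpectrum C₀) := by
  have hfin : IsFinite (Spec.map (CommRingCat.ofHom (algebraMap A C₀))) := by
    rw [IsFinite.SpecMap_iff]
    exact RingHom.finite_algebraMap.mpr inferInstance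
  have hirr : IrreducibleSpace (Spec (CommRingCat.of A)) := inferInstance
  apply isUnivOpenAt_of_locallyQuasiFinite_of_dominant
  · intro ζ hζ
    have h1 : ζ = (⟨⊥, Ideal.isPrime_bot⟩ : PrimeSpectrum C₀) := by
      refine (hζ _ ?_).symm
      exact (PrimeSpectrum.le_iff_specializes _ _).mp bot_le
    rw [h1, genericPoint_eq_bot_of_affine]
    apply PrimeSpectrum.ext
    change (⊥ : Ideal C₀).comap (algebraMap A C₀) = ⊥
    rw [← RingHom.ker_eq_comap_bot]
    exact (RingHom.injective_iff_ker_eq_bot _).mp hinj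
  · rw [Groth.Agent.Lib.H80PolyGU.isGeomUnibranch_stalk_Spec_iff]
    exact hGU

/-- the local lift at ring level -/
theorem exists_algHom_away {A B A₂ : Type u} [CommRing A] [CommRing B] [CommRing A₂] [Algebra A B]
    [Algebra A A₂] (C₀ : Subalgebra A B) (r : C₀)
    (hbij : Function.Bijective (Localization.awayMap C₀.val.toRingHom r))
    (τ : C₀ →ₐ[A] A₂) : Nonempty (B →ₐ[A] Localization.Away (τ r)) := by
  let e : Localization.Away r ≃+* Localization.Away (C₀.val.toRingHom r) :=
    RingEquiv.ofBijective _ hbij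
  let ψ₀ : B →+* Localization.Away (τ r) :=
    (Localization.awayMap τ.toRingHom r).comp
      (e.symm.toRingHom.comp (algebraMap B (Localization.Away (C₀.val.toRingHom r))))
  refine ⟨{ ψ₀ with commutes' := fun a => ?_ }⟩
  change Localization.awayMap τ.toRingHom r
    (e.symm (algebraMap B (Localization.Away (C₀.val.toRingHom r)) (algebraMap A B a))) = _
  have h1 : algebraMap B (Localization.Away (C₀.val.toRingHom r)) (algebraMap A B a) =
      e (algebraMap C₀ (Localization.Away r) (algebraMap A C₀ a)) := by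
    change _ = Localization.awayMap C₀.val.toRingHom r _
    rw [Localization.awayMap, IsLocalization.Away.map, IsLocalization.map_eq]
    rfl
  rw [h1, RingEquiv.symm_apply_apply, Localization.awayMap, IsLocalization.Away.map,
    IsLocalization.map_eq]
  change algebraMap A₂ _ (τ (algebraMap A C₀ a)) = _
  rw [τ.commutes, ← IsScalarTower.algebraMap_apply]
  rfl

theorem gu_congr {R : Type u} [CommRing R] {I J : Ideal R} [I.IsPrime] [hJ : J.IsPrime]
    (h : I = J) (H : CAlg2.IsGeomUnibranch (Localization.AtPrime I)) :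
    CAlg2.IsGeomUnibranch (Localization.AtPrime J) := by
  subst h
  exact H

theorem exists_finite_cover_with_lifts_of_isDomain
    {A B : Type u} [CommRing A] [IsDomain A] [IsNoetherianRing A] [CommRing B] [IsDomain B]
    [Algebra A B] [Algebra.FiniteType A B] (hinj : Function.Injective (algebraMap A B))
    (q : Ideal B) [hq : q.IsPrime] [Algebra.QuasiFiniteAt A q]
    (hGU : CAlg2.IsGeomUnibranch (Localization.AtPrime (q.comap (algebraMap A B)))) :
    ∃ (A' : Type u) (_ : CommRing A') (_ : IsDomain A') (_ : Algebra A A'), Module.Finite A A' ∧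
      Function.Injective (algebraMap A A') ∧
      ∀ (p' : Ideal A') [p'.IsPrime], p'.comap (algebraMap A A') = q.comap (algebraMap A B) →
        ∃ s : A', s ∉ p' ∧ Nonempty (B →ₐ[A] Localization.Away s) := by
  classical
  obtain ⟨C₀, hfg, r, hrq, hbij⟩ :=
    Algebra.QuasiFiniteAt.exists_fg_and_exists_notMem_and_awayMap_bijective (R := A) q
  have hfinC : Module.Finite A C₀ := ⟨(Submodule.fg_top _).mpr hfg⟩
  have hinjC : Function.Injective (algebraMap A C₀) := by
    intro a b hab
    exact hinj (congrArg Subtype.val hab)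
  obtain ⟨t, ht⟩ : (⊤ : Subalgebra A C₀).FG := Algebra.FiniteType.out
  have hint : ∀ c : C₀, IsIntegral A c := fun c => Algebra.IsIntegral.isIntegral c
  choose P hPmonic hPeval using hint
  obtain ⟨A₂, _, _, _, hfin₂, hinj₂, hsplit₂⟩ :=
    exists_splitting_cover A (fun c : (t : Set C₀) => P c.1) (fun c => hPmonic c.1)
  refine ⟨A₂, inferInstance, inferInstance, inferInstance, hfin₂, hinj₂, ?_⟩
  intro p' hp' hover
  obtain ⟨qC, hqCdef⟩ : ∃ qC : Ideal C₀, qC = q.comap (algebraMap C₀ B) := ⟨_, rfl⟩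
  have hqC : qC.IsPrime := hqCdef ▸ Ideal.comap_isPrime _ _
  have hqCA : qC.comap (algebraMap A C₀) = q.comap (algebraMap A B) := by
    rw [hqCdef, Ideal.comap_comap, ← IsScalarTower.algebraMap_eq]
  have hU := isUnivOpenAt_SpecMap_of_isGeomUnibranch hinjC qC (gu_congr hqCA.symm hGU)
  obtain ⟨τ, hτ⟩ := exists_algHom_comap_eq (A := A) (C₀ := C₀) (A₂ := A₂) (t : Set C₀) ht
    (fun c hc => by
      obtain ⟨m, hm⟩ := hsplit₂ ⟨c, hc⟩
      exact ⟨P c, m, hm, hPeval c⟩) qC p' (by rw [hqCA, hover]) hU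
  refine ⟨τ r, ?_, exists_algHom_away C₀ r hbij τ⟩
  intro hmem
  have : r ∈ qC := by rw [← hτ]; exact hmem
  rw [hqCdef] at this
  exact hrq this

theorem gu_transfer {R S : Type u} [CommRing R] [CommRing S]
    (f : R →+* S) (hf : Function.Surjective f) (P : Ideal S) [P.IsPrime] (P' : Ideal R)
    [hP'prime : P'.IsPrime] (hP' : P' = P.comap f)
    (hker : RingHom.ker f ≤ nilradical R)
    (H : CAlg2.IsGeomUnibranch (Localization.AtPrime P')) :
    CAlg2.IsGeomUnibranch (Localization.AtPrime P) := by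
  refine (Groth.Agent.Lib.H80PolyGU.isGeomUnibranch_atPrime_iff_of_surjective' f hf P P' hP' ?_).mp H
  intro x hx
  rw [Ideal.mem_comap]
  exact (mem_nilradical.mp (hker hx)).map _

theorem comap_surjective_of_isIntegral {R S : Type*} [CommRing R] [CommRing S] [IsDomain S]
    [Algebra R S] [Algebra.IsIntegral R S] (hinj : Function.Injective (algebraMap R S)) :
    Function.Surjective (PrimeSpectrum.comap (algebraMap R S)) := by
  intro Q
  obtain ⟨P, hP, hPQ⟩ := Ideal.exists_ideal_over_prime_of_isIntegral_of_isDomain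
    (S := S) Q.asIdeal (by
      rw [(RingHom.injective_iff_ker_eq_bot _).mp hinj]; exact bot_le)
  exact ⟨⟨P, hP⟩, PrimeSpectrum.ext hPQ⟩

theorem exists_finite_cover_with_lifts
    {A B : Type u} [CommRing A] [IsNoetherianRing A] [CommRing B] [IsDomain B]
    [Algebra A B] [Algebra.FiniteType A B] (hker : RingHom.ker (algebraMap A B) ≤ nilradical A)
    (q : Ideal B) [hq : q.IsPrime] [Algebra.QuasiFiniteAt A q]
    (hGU : CAlg2.IsGeomUnibranch (Localization.AtPrime (q.comap (algebraMap A B)))) :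
    ∃ (A' : Type u) (_ : CommRing A') (_ : Algebra A A'), Module.Finite A A' ∧
      Function.Surjective (PrimeSpectrum.comap (algebraMap A A')) ∧
      ∀ (p' : Ideal A') [p'.IsPrime], p'.comap (algebraMap A A') = q.comap (algebraMap A B) →
        ∃ s : A', s ∉ p' ∧ Nonempty (B →ₐ[A] Localization.Away s) := by
  obtain ⟨I, hI⟩ : ∃ I : Ideal A, I = RingHom.ker (algebraMap A B) := ⟨_, rfl⟩
  have hIprime : I.IsPrime := hI ▸ RingHom.ker_isPrime _
  let φ : A ⧸ I →+* B := Ideal.Quotient.lift I (algebraMap A B) (fun a ha => by rwa [hI] at ha)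
  let _ : Algebra (A ⧸ I) B := φ.toAlgebra
  have htow : IsScalarTower A (A ⧸ I) B := IsScalarTower.of_algebraMap_eq (fun a => rfl)
  have hinj : Function.Injective (algebraMap (A ⧸ I) B) := by
    rw [RingHom.injective_iff_ker_eq_bot, eq_bot_iff]
    intro x hx
    obtain ⟨a, rfl⟩ := Ideal.Quotient.mk_surjective x
    rw [RingHom.mem_ker] at hx
    change algebraMap A B a = 0 at hx
    rw [Ideal.mem_bot, Ideal.Quotient.eq_zero_iff_mem, hI]
    exact hx
  have hft : Algebra.FiniteType (A ⧸ I) B := Algebra.FiniteType.of_restrictScalars_finiteType A _ _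
  have htow2 : IsScalarTower A (A ⧸ I) (Localization.AtPrime q) :=
    IsScalarTower.of_algebraMap_eq (fun a => by
      rw [IsScalarTower.algebraMap_apply A B (Localization.AtPrime q),
        IsScalarTower.algebraMap_apply (A ⧸ I) B (Localization.AtPrime q)]
      rfl)
  have hqf : Algebra.QuasiFiniteAt (A ⧸ I) q :=
    Algebra.QuasiFinite.of_restrictScalars A (A ⧸ I) (Localization.AtPrime q)
  have hcomap : q.comap (algebraMap A B) = (q.comap (algebraMap (A ⧸ I) B)).comap (Ideal.Quotient.mk I) := by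
    rw [Ideal.comap_comap]
    rfl
  have hGU' : CAlg2.IsGeomUnibranch (Localization.AtPrime (q.comap (algebraMap (A ⧸ I) B))) :=
    gu_transfer (Ideal.Quotient.mk I) Ideal.Quotient.mk_surjective _ _ hcomap
      (by rw [Ideal.mk_ker, hI]; exact hker) hGU
  obtain ⟨A', _, _, _, hfin, hinj', hlift⟩ :=
    exists_finite_cover_with_lifts_of_isDomain hinj q hGU'
  let _ : Algebra A A' := ((algebraMap (A ⧸ I) A').comp (Ideal.Quotient.mk I)).toAlgebra
  have htow3 : IsScalarTower A (A ⧸ I) A' := IsScalarTower.of_algebraMap_eq (fun a => rfl)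
  have hfinA : Module.Finite A A' := Module.Finite.trans (A ⧸ I) A'
  refine ⟨A', inferInstance, inferInstance, hfinA, ?_, ?_⟩
  · intro P
    have hIP : I ≤ P.asIdeal := by
      rw [hI]
      exact hker.trans (nilradical_le_prime P.asIdeal)
    have hPprime : (P.asIdeal.map (Ideal.Quotient.mk I)).IsPrime :=
      Ideal.map_isPrime_of_surjective Ideal.Quotient.mk_surjective (by rwa [Ideal.mk_ker])
    have : Algebra.IsIntegral (A ⧸ I) A' := inferInstance
    obtain ⟨P', hP'⟩ := comap_surjective_of_isIntegral hinj'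
      (⟨P.asIdeal.map (Ideal.Quotient.mk I), hPprime⟩ : PrimeSpectrum (A ⧸ I))
    refine ⟨P', ?_⟩
    apply PrimeSpectrum.ext
    change P'.asIdeal.comap (algebraMap A A') = P.asIdeal
    have h1 : P'.asIdeal.comap (algebraMap (A ⧸ I) A') = P.asIdeal.map (Ideal.Quotient.mk I) :=
      congrArg PrimeSpectrum.asIdeal hP'
    rw [IsScalarTower.algebraMap_eq A (A ⧸ I) A', ← Ideal.comap_comap, h1]
    change (P.asIdeal.map (Ideal.Quotient.mk I)).comap (Ideal.Quotient.mk I) = _
    rw [Ideal.comap_map_of_surjective _ Ideal.Quotient.mk_surjective, ← RingHom.ker_eq_comap_bot,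
      Ideal.mk_ker, sup_eq_left]
    exact hIP
  · intro p' hp' hover
    have h1 : p'.comap (algebraMap (A ⧸ I) A') = q.comap (algebraMap (A ⧸ I) B) := by
      apply Ideal.comap_injective_of_surjective (Ideal.Quotient.mk I) Ideal.Quotient.mk_surjective
      change (p'.comap (algebraMap (A ⧸ I) A')).comap (Ideal.Quotient.mk I) = _
      rw [← hcomap, ← hover, Ideal.comap_comap]
      rfl
    obtain ⟨s, hs, ⟨ψ⟩⟩ := hlift p' h1
    have htow4 : IsScalarTower A (A ⧸ I) (Localization.Away s) :=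
      IsScalarTower.of_algebraMap_eq (fun a => by
        rw [IsScalarTower.algebraMap_apply A A' (Localization.Away s),
          IsScalarTower.algebraMap_apply (A ⧸ I) A' (Localization.Away s)]
        rfl)
    exact ⟨s, hs, ⟨ψ.restrictScalars A⟩⟩

end Groth.Agent.Lib.H56LocSec
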