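import Mathlib
import Groth.Prelude.Def_CAlgX
import Groth.Prelude.Def_CAlg2

/-!
# helper69: minimal primes under ring isomorphisms and injective ring maps; unique minimal prime <-> prime nilradical
-/

set_option autoImplicit false
universe u v

namespace Groth.Agent.Lib.H69MinPrimes

variable {A : Type u} {B : Type v} [CommRing A] [CommRing B]

theorem minimalPrimes_eq_image_of_ringEquiv (e : A ≃+* B) :
    minimalPrimes A = Ideal.comap (e : A →+* B) '' minimalPrimes B := by
  have h := Ideal.comap_minimalPrimes_eq_of_surjective (f := (e : A →+* B)) e.surjective (⊥ : Ideal B)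
  have h0 : Ideal.comap (e : A →+* B) (⊥ : Ideal B) = ⊥ :=
    Ideal.comap_bot_of_injective (e : A →+* B) e.injective
  rw [h0] at h
  exact h

theorem encard_minimalPrimes_of_ringEquiv (e : A ≃+* B) :
    (minimalPrimes A).encard = (minimalPrimes B).encard := by
  rw [minimalPrimes_eq_image_of_ringEquiv e]
  exact (Ideal.comap_injective_of_surjective (e : A →+* B) e.surjective).encard_image _

theorem hasUniqueMinimalPrime_iff_isPrime_nilradical :
    CAlgX.HasUniqueMinimalPrime A ↔ (nilradical A).IsPrime := by
  constructor
  · rintro ⟨𝔭, h𝔭, huniq⟩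
    have h1 : minimalPrimes A = {𝔭} := by
      ext q
      exact ⟨fun hq => huniq q hq, fun hq => hq ▸ h𝔭⟩
    have h2 : sInf (minimalPrimes A) = nilradical A := by
      have := Ideal.sInf_minimalPrimes (I := (⊥ : Ideal A))
      exact this
    rw [h1, sInf_singleton] at h2
    rw [← h2]
    exact h𝔭.1.1
  · intro h
    have h1 : minimalPrimes A = {nilradical A} := by
      have h2 : (⊥ : Ideal A).radical.minimalPrimes = (⊥ : Ideal A).minimalPrimes := Ideal.radical_minimalPrimes
      have h3 : (nilradical A).minimalPrimes = {nilradical A} := Ideal.minimalPrimes_eq_subsingleton_self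
      exact h2.symm.trans h3
    refine ⟨nilradical A, by rw [h1]; rfl, fun q hq => ?_⟩
    rw [h1] at hq
    exact hq

theorem hasUniqueMinimalPrime_iff_of_ringEquiv (e : A ≃+* B) :
    CAlgX.HasUniqueMinimalPrime A ↔ CAlgX.HasUniqueMinimalPrime B := by
  have key : ∀ {A' : Type u} {B' : Type v} [CommRing A'] [CommRing B'] (e' : A' ≃+* B'),
      (nilradical B').IsPrime → (nilradical A').IsPrime := by
    intro A' B' _ _ e' h
    have h1 : nilradical A' = (nilradical B').comap (e' : A' →+* B') := by
      ext x
      rw [Ideal.mem_comap, mem_nilradical, mem_nilradical]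
      exact (IsNilpotent.map_iff e'.injective).symm
    rw [h1]
    exact Ideal.comap_isPrime _ _
  rw [hasUniqueMinimalPrime_iff_isPrime_nilradical, hasUniqueMinimalPrime_iff_isPrime_nilradical]
  constructor
  · intro h
    have h1 : nilradical B = (nilradical A).comap (e.symm : B →+* A) := by
      ext x
      rw [Ideal.mem_comap, mem_nilradical, mem_nilradical]
      exact (IsNilpotent.map_iff e.symm.injective).symm
    rw [h1]
    exact Ideal.comap_isPrime _ _
  · exact key e

theorem isPrime_nilradical_of_injective (f : A →+* B) (hf : Function.Injective f)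
    (h : (nilradical B).IsPrime) : (nilradical A).IsPrime := by
  have h1 : nilradical A = (nilradical B).comap f := by
    ext x
    rw [Ideal.mem_comap, mem_nilradical, mem_nilradical]
    exact (IsNilpotent.map_iff hf).symm
  rw [h1]
  exact Ideal.comap_isPrime _ _

theorem hasUniqueMinimalPrime_of_isGeomUnibranch {A : Type u} [CommRing A] [IsLocalRing A]
    (h : CAlg2.IsGeomUnibranch A) : CAlgX.HasUniqueMinimalPrime A := by
  rw [hasUniqueMinimalPrime_iff_isPrime_nilradical]
  have h1 : IsDomain (A ⧸ nilradical A) := h.1.1
  exact (Ideal.Quotient.isDomain_iff_prime _).1 h1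

end Groth.Agent.Lib.H69MinPrimes
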