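import Mathlib
import Groth.Agent.S0540
import Groth.Agent.S9238
import Groth.Agent.S9236
import Groth.Agent.Lib.StrictHenselization
import Groth.Agent.Lib.IntClosRadicial96

/-!
# helper80: finite geometrically unibranch covers — ring level, part 1

* `numGeomBranches_ne_top`: a Noetherian local ring has finitely many geometric branches
  (its strict henselization is Noetherian, S0540, and its minimal primes count the geometric
  branches, S9238).
* `finite_homOver`: for a Noetherian domain `B`, a prime `p` and a fraction field `K`, there are
  finitely many extensions of `B → κ(p)^alg` to the integral closure of `B` in `K`.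
-/

set_option autoImplicit false
universe u

namespace Groth.Agent.Lib.H80GUCover

open IsLocalRing Groth.Agent.Lib.BrnchSum98 Groth.Agent.Lib.NormBranches96

theorem numGeomBranches_ne_top (A : Type u) [CommRing A] [IsLocalRing A] [IsNoetherianRing A] :
    Brnch.numGeomBranches A ≠ ⊤ := by
  obtain ⟨S, _, _, _, _, hS⟩ := Groth.Agent.Lib.StrictHenselization.exists_isStrictHenselization A
  have hN : IsNoetherianRing S := (Groth.Agent.S0540.result A S).mp inferInstance
  rw [← Groth.Agent.S9238.result A S]
  have hfin : (minimalPrimes S).Finite := minimalPrimes.finite_of_isNoetherianRing S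
  have : Finite ↥(minimalPrimes S) := hfin.to_subtype
  exact (ENat.card_lt_top.mpr this).ne

variable (B : Type u) [CommRing B] [IsDomain B] (K : Type u) [Field K] [Algebra B K]
  [IsFractionRing B K] (p : Ideal B) [p.IsPrime]

/-- The canonical map `B → B_p → κ(p) → κ(p)^alg`. -/
noncomputable def gK : B →+* AlgebraicClosure (ResidueField (Localization.AtPrime p)) :=
  (Brnch.toClosure (Localization.AtPrime p)).comp (algebraMap B (Localization.AtPrime p))

theorem numGeomBranches_eq_card :
    Brnch.numGeomBranches (Localization.AtPrime p) =
      ENat.card (HomOver (algebraMap B (integralClosure B K)) (gK B p)) := by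
  have hfin : (minimalPrimes (Localization.AtPrime p)).Finite := by
    rw [IsDomain.minimalPrimes_eq_singleton_bot]
    exact Set.finite_singleton _
  unfold Brnch.numGeomBranches
  rw [if_pos hfin, card_sigma_emb]
  exact (ring_main B (Localization.AtPrime p) K p).2

theorem finite_homOver [IsNoetherianRing B] :
    Finite (HomOver (algebraMap B (integralClosure B K)) (gK B p)) := by
  have h := numGeomBranches_ne_top (Localization.AtPrime p)
  rw [numGeomBranches_eq_card B K p] at h
  by_contra hinf
  rw [not_finite_iff_infinite] at hinf
  exact h (ENat.card_eq_top_of_infinite)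

theorem isGeomUnibranch_iff_card :
    CAlg2.IsGeomUnibranch (Localization.AtPrime p) ↔
      ENat.card (HomOver (algebraMap B (integralClosure B K)) (gK B p)) = 1 := by
  rw [← Groth.Agent.S9236.result, numGeomBranches_eq_card B K p]

theorem nonempty_homOver :
    Nonempty (HomOver (algebraMap B (integralClosure B K)) (gK B p)) := by
  rw [← ENat.card_ne_zero_iff_nonempty, ← numGeomBranches_eq_card B K p,
    Groth.Agent.Lib.IntClosRadicial96.numGeomBranches_eq B p, ENat.card_ne_zero_iff_nonempty]
  exact Groth.Agent.Lib.IntClosRadicial96.nonempty_homOver B p

theorem isGeomUnibranch_iff_subsingleton :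
    CAlg2.IsGeomUnibranch (Localization.AtPrime p) ↔
      Subsingleton (HomOver (algebraMap B (integralClosure B K)) (gK B p)) := by
  rw [isGeomUnibranch_iff_card B K p, ENat.card_eq_one_iff_unique,
    unique_iff_subsingleton_and_nonempty]
  exact and_iff_left (nonempty_homOver B K p)

end Groth.Agent.Lib.H80GUCover
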