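import Mathlib
import Groth.Agent.Lib.H80GUCover1

/-!
# helper80: finite geometrically unibranch covers — ring level, part 2

`exists_subalgebra_isGeomUnibranch`: for a Noetherian domain `B` with fraction field `K` and a
prime `p`, there is a finitely generated subalgebra `B ⊆ B' ⊆ K` of the integral closure such
that `B'_q` is geometrically unibranch for every prime `q` of `B'` over `p`
(EGA IV 6.15.5-type statement).
-/

set_option autoImplicit false
universe u

namespace Groth.Agent.Lib.H80GUCover

open IsLocalRing Groth.Agent.Lib.BrnchSum98 Groth.Agent.Lib.NormBranches96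
  Groth.Agent.Lib.IntClosRadicial96

variable (B : Type u) [CommRing B] [IsDomain B] (K : Type u) [Field K] [Algebra B K]
  [IsFractionRing B K] (p : Ideal B) [p.IsPrime]

/-- Key step: if a subalgebra `B'` of the integral closure contains separating elements for the
finitely many extensions of `B → κ(p)^alg`, its localizations over `p` are geometrically
unibranch. -/
theorem isGeomUnibranch_of_separating (B' : Subalgebra B K) (hle : B' ≤ integralClosure B K)
    (hsep : ∀ χ χ' : HomOver (algebraMap B (integralClosure B K)) (gK B p), χ ≠ χ' →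
      ∃ s : integralClosure B K, (s : K) ∈ B' ∧ χ.1 s ≠ χ'.1 s)
    (q : Ideal B') [q.IsPrime] (hq : q.comap (algebraMap B B') = p) :
    CAlg2.IsGeomUnibranch (Localization.AtPrime q) := by
  rw [isGeomUnibranch_iff_subsingleton B' K q]
  refine ⟨fun χ₁ χ₂ => ?_⟩
  -- `B'` is integral over `B`
  have hint : Algebra.IsIntegral B B' := by
    refine ⟨fun x => ?_⟩
    have hx : IsIntegral B (x : K) := hle x.2
    exact (isIntegral_algHom_iff (B'.val) Subtype.val_injective).mp hx
  -- the comparison of integral closures
  let ι : integralClosure B K →+* integralClosure B' K :=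
    { toFun := fun b => ⟨b.1, IsIntegral.tower_top b.2⟩
      map_one' := rfl
      map_mul' := fun _ _ => rfl
      map_zero' := rfl
      map_add' := fun _ _ => rfl }
  have hι : Function.Surjective ι := by
    intro x
    have hx : IsIntegral B (x : K) := isIntegral_trans (x : K) x.2
    exact ⟨⟨x.1, hx⟩, Subtype.ext rfl⟩
  have hιB' : ∀ (s : integralClosure B K) (hs : (s : K) ∈ B'),
      ι s = algebraMap B' (integralClosure B' K) ⟨(s : K), hs⟩ := fun s hs => Subtype.ext rfl
  have hιB : ∀ b : B, ι (algebraMap B (integralClosure B K) b) =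
      algebraMap B' (integralClosure B' K) (algebraMap B B' b) := fun b => Subtype.ext rfl
  -- residue fields
  let lh : Localization.AtPrime p →+* Localization.AtPrime q :=
    Localization.localRingHom p q (algebraMap B B') hq.symm
  have hlh : IsLocalHom lh := Localization.isLocalHom_localRingHom p q (algebraMap B B') hq.symm
  let θ : ResidueField (Localization.AtPrime p) →+* ResidueField (Localization.AtPrime q) :=
    ResidueField.map lh
  let algκ : Algebra (ResidueField (Localization.AtPrime p))
      (AlgebraicClosure (ResidueField (Localization.AtPrime q))) :=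
    ((algebraMap (ResidueField (Localization.AtPrime q))
      (AlgebraicClosure (ResidueField (Localization.AtPrime q)))).comp θ).toAlgebra
  have : Module.IsTorsionFree (ResidueField (Localization.AtPrime p))
      (AlgebraicClosure (ResidueField (Localization.AtPrime p))) := isTorsionFree_of_field _ _
  have : Module.IsTorsionFree (ResidueField (Localization.AtPrime p))
      (AlgebraicClosure (ResidueField (Localization.AtPrime q))) := isTorsionFree_of_field _ _
  let ψ₀ : AlgebraicClosure (ResidueField (Localization.AtPrime p))
      →ₐ[ResidueField (Localization.AtPrime p)]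
      AlgebraicClosure (ResidueField (Localization.AtPrime q)) := IsAlgClosed.lift
  let ψ : AlgebraicClosure (ResidueField (Localization.AtPrime p)) →+*
      AlgebraicClosure (ResidueField (Localization.AtPrime q)) := ψ₀.toRingHom
  have hψ : ψ.comp (gK B p) = (gK B' q).comp (algebraMap B B') := by
    ext b
    have h1 : gK B p b = algebraMap (ResidueField (Localization.AtPrime p))
        (AlgebraicClosure (ResidueField (Localization.AtPrime p)))
        (residue _ (algebraMap B (Localization.AtPrime p) b)) := rfl
    rw [RingHom.comp_apply, h1]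
    have h2 := ψ₀.commutes (residue _ (algebraMap B (Localization.AtPrime p) b))
    have h3 : algebraMap (ResidueField (Localization.AtPrime p))
        (AlgebraicClosure (ResidueField (Localization.AtPrime q)))
        (residue _ (algebraMap B (Localization.AtPrime p) b)) =
        algebraMap (ResidueField (Localization.AtPrime q))
          (AlgebraicClosure (ResidueField (Localization.AtPrime q)))
          (θ (residue _ (algebraMap B (Localization.AtPrime p) b))) := rfl
    have h4 : θ (residue _ (algebraMap B (Localization.AtPrime p) b)) =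
        residue _ (algebraMap B' (Localization.AtPrime q) (algebraMap B B' b)) := by
      change residue _ (lh (algebraMap B (Localization.AtPrime p) b)) = _
      rw [Localization.localRingHom_to_map]
    rw [h3, h4] at h2
    exact h2
  let φ := algebraMap B (integralClosure B K)
  have hφint : φ.IsIntegral := algebraMap_isIntegral_iff.mpr inferInstance
  have hcomm : ∀ χ : HomOver (algebraMap B' (integralClosure B' K)) (gK B' q),
      (χ.1.comp ι).comp φ = ψ.comp (gK B p) := by
    intro χ
    rw [hψ]
    ext b
    rw [RingHom.comp_apply, RingHom.comp_apply, hιB, RingHom.comp_apply]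
    exact RingHom.congr_fun χ.2 (algebraMap B B' b)
  obtain ⟨c₁, hc₁, hc₁'⟩ := descend φ hφint ψ (gK B p) (χ₁.1.comp ι) (hcomm χ₁)
  obtain ⟨c₂, hc₂, hc₂'⟩ := descend φ hφint ψ (gK B p) (χ₂.1.comp ι) (hcomm χ₂)
  have hcc : c₁ = c₂ := by
    by_contra hne
    have hne' : (⟨c₁, hc₁'⟩ : HomOver φ (gK B p)) ≠ ⟨c₂, hc₂'⟩ := fun h => hne (congrArg Subtype.val h)
    obtain ⟨s, hs, hsne⟩ := hsep _ _ hne'
    apply hsne
    apply ψ.injective
    have e1 : ψ (c₁ s) = χ₁.1 (ι s) := RingHom.congr_fun hc₁ s
    have e2 : ψ (c₂ s) = χ₂.1 (ι s) := RingHom.congr_fun hc₂ s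
    change ψ (c₁ s) = ψ (c₂ s)
    rw [e1, e2, hιB' s hs]
    exact (RingHom.congr_fun χ₁.2 ⟨(s : K), hs⟩).trans (RingHom.congr_fun χ₂.2 ⟨(s : K), hs⟩).symm
  have hfin : χ₁.1.comp ι = χ₂.1.comp ι := by rw [← hc₁, ← hc₂, hcc]
  apply Subtype.ext
  exact (RingHom.cancel_right hι).mp hfin

theorem exists_subalgebra_isGeomUnibranch [IsNoetherianRing B] :
    ∃ B' : Subalgebra B K, B' ≤ integralClosure B K ∧ B'.FG ∧
      ∀ (q : Ideal B') [q.IsPrime], q.comap (algebraMap B B') = p →
        CAlg2.IsGeomUnibranch (Localization.AtPrime q) := by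
  classical
  have hfin := finite_homOver B K p
  have hex : ∀ pr : HomOver (algebraMap B (integralClosure B K)) (gK B p) ×
      HomOver (algebraMap B (integralClosure B K)) (gK B p),
      ∃ s : integralClosure B K, pr.1 ≠ pr.2 → pr.1.1 s ≠ pr.2.1 s := by
    intro pr
    by_cases h : pr.1 = pr.2
    · exact ⟨0, fun h' => absurd h h'⟩
    · have : pr.1.1 ≠ pr.2.1 := fun h' => h (Subtype.ext h')
      obtain ⟨s, hs⟩ : ∃ s, pr.1.1 s ≠ pr.2.1 s := by
        by_contra hcon
        push Not at hcon
        exact this (RingHom.ext hcon)
      exact ⟨s, fun _ => hs⟩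
  choose sep hsep using hex
  let S : Set K := Set.range fun pr => (sep pr : K)
  have hSfin : S.Finite := Set.finite_range _
  refine ⟨Algebra.adjoin B S, ?_, ?_, ?_⟩
  · apply Algebra.adjoin_le
    rintro _ ⟨pr, rfl⟩
    exact (sep pr).2
  · obtain ⟨t, ht⟩ := hSfin.exists_finset_coe
    exact ⟨t, by rw [ht]⟩
  · intro q _ hq
    refine isGeomUnibranch_of_separating B K p (Algebra.adjoin B S) ?_ ?_ q hq
    · apply Algebra.adjoin_le
      rintro _ ⟨pr, rfl⟩
      exact (sep pr).2
    · intro χ χ' hne
      exact ⟨sep (χ, χ'), Algebra.subset_adjoin ⟨(χ, χ'), rfl⟩, hsep (χ, χ') hne⟩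

end Groth.Agent.Lib.H80GUCover
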