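import Mathlib
import Groth.Agent.Lib.H80GUCover2
import Groth.Agent.Lib.H80PolyGU4

/-!
# helper80: finite geometrically unibranch covers — ring level, part 3

`exists_finite_algebra_isGeomUnibranch`: for a Noetherian ring `B` and a prime `p` there is a
finite `B`-algebra `B'` with `Spec B' → Spec B` surjective whose localizations at all primes
over `p` are geometrically unibranch.
-/

set_option autoImplicit false
universe u

namespace Groth.Agent.Lib.H80GUCover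

open IsLocalRing

theorem exists_component (B : Type u) [CommRing B] [IsNoetherianRing B] (p : Ideal B) [p.IsPrime]
    (𝔭 : Ideal B) [h𝔭 : 𝔭.IsPrime] :
    ∃ C : Subalgebra (B ⧸ 𝔭) (FractionRing (B ⧸ 𝔭)),
      C ≤ integralClosure (B ⧸ 𝔭) (FractionRing (B ⧸ 𝔭)) ∧ C.FG ∧
      (𝔭 ≤ p → ∀ (q : Ideal C) [q.IsPrime],
        q.comap (algebraMap (B ⧸ 𝔭) C) = p.map (Ideal.Quotient.mk 𝔭) →
        CAlg2.IsGeomUnibranch (Localization.AtPrime q)) := by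
  by_cases h : 𝔭 ≤ p
  · have hprime : (p.map (Ideal.Quotient.mk 𝔭)).IsPrime :=
      Ideal.isPrime_map_quotientMk_of_isPrime h
    obtain ⟨C, h1, h2, h3⟩ := exists_subalgebra_isGeomUnibranch (B ⧸ 𝔭) (FractionRing (B ⧸ 𝔭))
      (p.map (Ideal.Quotient.mk 𝔭))
    exact ⟨C, h1, h2, fun _ q _ hq => h3 q hq⟩
  · exact ⟨⊥, bot_le, Subalgebra.fg_bot, fun h' => absurd h' h⟩

theorem exists_finite_algebra_isGeomUnibranch (B : Type u) [CommRing B] [IsNoetherianRing B]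
    (p : Ideal B) [p.IsPrime] :
    ∃ (B' : Type u) (_ : CommRing B') (_ : Algebra B B'), Module.Finite B B' ∧
      Function.Surjective (PrimeSpectrum.comap (algebraMap B B')) ∧
      ∀ (q : Ideal B') [q.IsPrime], q.comap (algebraMap B B') = p →
        CAlg2.IsGeomUnibranch (Localization.AtPrime q) := by
  classical
  have hfin : (minimalPrimes B).Finite := minimalPrimes.finite_of_isNoetherianRing B
  have hfin' : Finite ↥(minimalPrimes B) := hfin.to_subtype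
  have hpr : ∀ 𝔭 : ↥(minimalPrimes B), 𝔭.1.IsPrime := fun 𝔭 => 𝔭.2.1.1
  have hex : ∀ 𝔭 : ↥(minimalPrimes B),
      ∃ C : Subalgebra (B ⧸ 𝔭.1) (FractionRing (B ⧸ 𝔭.1)),
      C ≤ integralClosure (B ⧸ 𝔭.1) (FractionRing (B ⧸ 𝔭.1)) ∧ C.FG ∧
      (𝔭.1 ≤ p → ∀ (q : Ideal C) [q.IsPrime],
        q.comap (algebraMap (B ⧸ 𝔭.1) C) = p.map (Ideal.Quotient.mk 𝔭.1) →
        CAlg2.IsGeomUnibranch (Localization.AtPrime q)) := fun 𝔭 => by
    have := hpr 𝔭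
    exact exists_component B p 𝔭.1
  choose C hC1 hC2 hC3 using hex
  let φ : ∀ 𝔭 : ↥(minimalPrimes B), B →+* C 𝔭 := fun 𝔭 =>
    (algebraMap (B ⧸ 𝔭.1) (C 𝔭)).comp (Ideal.Quotient.mk 𝔭.1)
  let algC : ∀ 𝔭 : ↥(minimalPrimes B), Algebra B (C 𝔭) := fun 𝔭 => (φ 𝔭).toAlgebra
  have htower : ∀ 𝔭 : ↥(minimalPrimes B), IsScalarTower B (B ⧸ 𝔭.1) (C 𝔭) := fun 𝔭 =>
    IsScalarTower.of_algebraMap_eq fun _ => rfl
  have hint : ∀ 𝔭 : ↥(minimalPrimes B), Algebra.IsIntegral (B ⧸ 𝔭.1) (C 𝔭) := fun 𝔭 => by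
    refine ⟨fun x => ?_⟩
    have hx : IsIntegral (B ⧸ 𝔭.1) (x : FractionRing (B ⧸ 𝔭.1)) := hC1 𝔭 x.2
    exact (isIntegral_algHom_iff ((C 𝔭).val) Subtype.val_injective).mp hx
  have hinj : ∀ 𝔭 : ↥(minimalPrimes B), Function.Injective (algebraMap (B ⧸ 𝔭.1) (C 𝔭)) := by
    intro 𝔭 a b hab
    have := hpr 𝔭
    apply IsFractionRing.injective (B ⧸ 𝔭.1) (FractionRing (B ⧸ 𝔭.1))
    exact congrArg Subtype.val hab
  have hfinC : ∀ 𝔭 : ↥(minimalPrimes B), Module.Finite B (C 𝔭) := fun 𝔭 => by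
    have := htower 𝔭
    have := hint 𝔭
    have : Algebra.FiniteType (B ⧸ 𝔭.1) (C 𝔭) := (Subalgebra.fg_iff_finiteType _).mp (hC2 𝔭)
    have : Module.Finite (B ⧸ 𝔭.1) (C 𝔭) := Algebra.IsIntegral.finite
    exact Module.Finite.trans (B ⧸ 𝔭.1) (C 𝔭)
  have hcomap : ∀ (𝔭 : ↥(minimalPrimes B)) (q : Ideal (C 𝔭)),
      (q.comap (Pi.evalRingHom (fun 𝔭 => C 𝔭) 𝔭)).comap (algebraMap B (∀ 𝔭, C 𝔭)) =
        (q.comap (algebraMap (B ⧸ 𝔭.1) (C 𝔭))).comap (Ideal.Quotient.mk 𝔭.1) := by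
    intro 𝔭 q
    rw [Ideal.comap_comap, Ideal.comap_comap]
    rfl
  refine ⟨∀ 𝔭, C 𝔭, inferInstance, inferInstance, Module.Finite.pi, ?_, ?_⟩
  · intro P
    obtain ⟨𝔭, h𝔭min, h𝔭le⟩ := Ideal.exists_minimalPrimes_le (bot_le : (⊥ : Ideal B) ≤ P.asIdeal)
    let 𝔭' : ↥(minimalPrimes B) := ⟨𝔭, h𝔭min⟩
    have := hpr 𝔭'
    have := hint 𝔭'
    have hprime : (P.asIdeal.map (Ideal.Quotient.mk 𝔭)).IsPrime :=
      Ideal.isPrime_map_quotientMk_of_isPrime h𝔭le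
    obtain ⟨Q, -, hQprime, hQ⟩ := Ideal.exists_ideal_over_prime_of_isIntegral
      (S := C 𝔭') (P.asIdeal.map (Ideal.Quotient.mk 𝔭)) ⊥ (by
        rw [← RingHom.ker_eq_comap_bot, (RingHom.injective_iff_ker_eq_bot _).mp (hinj 𝔭')]
        exact bot_le)
    refine ⟨⟨Q.comap (Pi.evalRingHom (fun 𝔭 => C 𝔭) 𝔭'), inferInstance⟩, ?_⟩
    apply PrimeSpectrum.ext
    change (Q.comap (Pi.evalRingHom (fun 𝔭 => C 𝔭) 𝔭')).comap (algebraMap B (∀ 𝔭, C 𝔭)) = P.asIdeal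
    rw [hcomap 𝔭' Q, hQ]
    exact Ideal.comap_map_mk h𝔭le
  · intro Q hQprime hQ
    obtain ⟨⟨𝔭, q⟩, hq⟩ := (PrimeSpectrum.sigmaToPi_bijective (fun 𝔭 => C 𝔭)).2 ⟨Q, hQprime⟩
    have hQeq : Q = q.asIdeal.comap (Pi.evalRingHom (fun 𝔭 => C 𝔭) 𝔭) := by
      have := congrArg PrimeSpectrum.asIdeal hq
      rw [PrimeSpectrum.sigmaToPi_apply] at this
      exact this.symm
    have hp1 : (q.asIdeal.comap (algebraMap (B ⧸ 𝔭.1) (C 𝔭))).comap (Ideal.Quotient.mk 𝔭.1) = p := by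
      rw [← hcomap 𝔭 q.asIdeal, ← hQeq, hQ]
    have h𝔭p : 𝔭.1 ≤ p := by
      intro b hb
      rw [← hp1, Ideal.mem_comap, Ideal.mem_comap, Ideal.Quotient.eq_zero_iff_mem.mpr hb, map_zero]
      exact Ideal.zero_mem _
    have hp2 : q.asIdeal.comap (algebraMap (B ⧸ 𝔭.1) (C 𝔭)) = p.map (Ideal.Quotient.mk 𝔭.1) := by
      rw [← hp1, Ideal.map_comap_of_surjective _ Ideal.Quotient.mk_surjective]
    have hGU := hC3 𝔭 h𝔭p q.asIdeal hp2
    refine (Groth.Agent.Lib.H80PolyGU.isGeomUnibranch_atPrime_iff_of_surjective'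
      (Pi.evalRingHom (fun 𝔭 => C 𝔭) 𝔭) (Function.surjective_eval 𝔭) q.asIdeal Q hQeq ?_).mpr hGU
    intro x hx
    rw [RingHom.mem_ker, Pi.evalRingHom_apply] at hx
    rw [Ideal.mem_comap]
    have h0 : algebraMap (∀ 𝔭, C 𝔭) (Localization.AtPrime Q) x = 0 := by
      rw [IsLocalization.map_eq_zero_iff Q.primeCompl]
      refine ⟨⟨Pi.single 𝔭 1, ?_⟩, ?_⟩
      · intro hmem
        have hmem' : Pi.single 𝔭 1 ∈ Q := hmem
        rw [hQeq, Ideal.mem_comap, Pi.evalRingHom_apply, Pi.single_eq_same] at hmem'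
        exact q.2.ne_top ((Ideal.eq_top_iff_one _).mpr hmem')
      · funext i
        by_cases hi : i = 𝔭
        · subst hi
          simp [hx]
        · simp [Pi.single_eq_of_ne hi]
    rw [h0]
    exact Ideal.zero_mem _

end Groth.Agent.Lib.H80GUCover
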