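import Mathlib
import Groth.Agent.Lib.H80GUCover3
import Groth.Agent.Lib.H80PolyGU6
import Groth.Agent.Lib.FinExt

/-!
# helper80: finite geometrically unibranch covers — scheme level

`exists_finite_surjective_isGeomUnibranch`: for a Noetherian scheme `Y` and a point `y` there is a
finite surjective morphism `g : Y' ⟶ Y` such that `Y'` is geometrically unibranch at every point
over `y` (EGA IV 6.15.5 + extension of finite morphisms).
-/

set_option autoImplicit false
universe u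

open CategoryTheory CategoryTheory.Limits AlgebraicGeometry

namespace Groth.Agent.Lib.H80GUCover

theorem exists_finite_surjective_isGeomUnibranch (Y : Scheme.{u}) [IsNoetherian Y] (y : Y) :
    ∃ (Y' : Scheme.{u}) (g : Y' ⟶ Y), IsFinite g ∧ Surjective g ∧
      ∀ y' : Y', g y' = y → CAlg2.IsGeomUnibranch (Y'.presheaf.stalk y') := by
  obtain ⟨_, ⟨V, hV, rfl⟩, hyV, -⟩ := Y.isBasis_affineOpens.exists_subset_of_mem_open
    (Set.mem_univ y) isOpen_univ
  replace hV : IsAffineOpen V := hV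
  have hN : IsNoetherianRing Γ(Y, V) := IsLocallyNoetherian.component_noetherian ⟨V, hV⟩
  obtain ⟨p, hp⟩ : ∃ p : PrimeSpectrum Γ(Y, V), p = hV.primeIdealOf ⟨y, hyV⟩ := ⟨_, rfl⟩
  obtain ⟨B', _, _, hfin, hsurj, hGU⟩ := exists_finite_algebra_isGeomUnibranch Γ(Y, V) p.asIdeal
  obtain ⟨v₀, hv₀⟩ : ∃ v₀ : Spec (CommRingCat.of B') ⟶ Spec Γ(Y, V),
      v₀ = Spec.map (CommRingCat.ofHom (algebraMap Γ(Y, V) B')) := ⟨_, rfl⟩
  have hv₀fin : IsFinite v₀ := by
    rw [hv₀, IsFinite.SpecMap_iff]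
    exact RingHom.finite_algebraMap.mpr hfin
  have hv₀surj : Surjective v₀ := by
    rw [hv₀]
    exact ⟨hsurj⟩
  obtain ⟨v, hv⟩ : ∃ v : Spec (CommRingCat.of B') ⟶ Scheme.Opens.toScheme V, v = v₀ ≫ hV.isoSpec.inv := ⟨_, rfl⟩
  have hvfin : IsFinite v := by rw [hv]; infer_instance
  have hvsurj : Surjective v := by rw [hv]; infer_instance
  obtain ⟨Y', π, i, hπsurj, hπfin, hpb⟩ :=
    Groth.Agent.Lib.FinExt.exists_finite_surjective_extension V hV.isCompact v
  refine ⟨Y', π, hπfin, hπsurj, ?_⟩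
  intro y' hy'
  have hi : IsOpenImmersion i :=
    MorphismProperty.of_isPullback (P := @IsOpenImmersion) hpb.flip inferInstance
  obtain ⟨w, hw1, hw2⟩ := Scheme.exists_preimage_of_isPullback hpb y' (⟨y, hyV⟩ : Scheme.Opens.toScheme V)
    (by rw [hy']; rfl)
  rw [← hw1, Groth.Agent.Lib.H80PolyGU.isGeomUnibranch_stalk_iff_of_isOpenImmersion i w,
    Groth.Agent.Lib.H80PolyGU.isGeomUnibranch_stalk_Spec_iff]
  apply hGU
  have h1 : v₀ w = p := by
    have h2 : hV.isoSpec.inv (v₀ w) = (⟨y, hyV⟩ : Scheme.Opens.toScheme V) := by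
      rw [← Scheme.Hom.comp_apply, ← hv]; exact hw2
    have h3 : hV.isoSpec.hom (hV.isoSpec.inv (v₀ w)) = hV.isoSpec.hom ⟨y, hyV⟩ :=
      congrArg (fun t => hV.isoSpec.hom t) h2
    rw [← Scheme.Hom.comp_apply, Iso.inv_hom_id] at h3
    rw [hp]
    exact h3
  rw [← h1, hv₀]
  rfl

end Groth.Agent.Lib.H80GUCover
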