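import Mathlib
import Groth.Agent.Lib.H80QuasiSec3

/-!
# helper80: closed points of fibres

`exists_closed_point_fibre` : for `f : X ⟶ Y` locally of finite type and a closed subset `S` of `X` meeting the fibre
over `y`, there is a point of `S` in the fibre which is closed in the fibre (the fibre is a Jacobson space).
-/

set_option autoImplicit false
universe u
open CategoryTheory AlgebraicGeometry TopologicalSpace

namespace Groth.Agent.Lib.H80QuasiSec

theorem exists_closed_point_fibre {X Y : Scheme.{u}} (f : X ⟶ Y) [LocallyOfFiniteType f] (y : Y)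
    (S : Set X) (hS : IsClosed S) (hne : (S ∩ f ⁻¹' {y}).Nonempty) :
    ∃ x : X, x ∈ S ∧ f x = y ∧ ∀ x' : X, f x' = y → x ⤳ x' → x' = x := by
  have hlft : LocallyOfFiniteType (f.fiberToSpecResidueField y) :=
    locallyOfFiniteType_fiberToSpecResidueField f y
  have hJ : JacobsonSpace (f.fiber y) :=
    LocallyOfFiniteType.jacobsonSpace (f.fiberToSpecResidueField y)
  obtain ⟨x₁, hx₁S, hx₁y⟩ := hne
  have hcl : IsClosed ((f.fiberι y) ⁻¹' S) := hS.preimage (f.fiberι y).continuous
  have hne' : ((f.fiberι y) ⁻¹' S).Nonempty := by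
    refine ⟨(f.fiberHomeo y).symm ⟨x₁, hx₁y⟩, ?_⟩
    rw [Set.mem_preimage, f.fiberι_fiberHomeo_symm]
    exact hx₁S
  obtain ⟨a, haS, hacl⟩ := nonempty_inter_closedPoints hne' hcl.isLocallyClosed
  rw [mem_closedPoints_iff] at hacl
  have hfa : f ((f.fiberι y) a) = y := ((f.fiberHomeo y) a).2
  refine ⟨(f.fiberι y) a, haS, hfa, ?_⟩
  intro x' hx' hsp
  have h1 : (f.fiberHomeo y) a ⤳ ⟨x', hx'⟩ := by
    rw [subtype_specializes_iff]
    exact hsp
  have h2 : a ⤳ (f.fiberHomeo y).symm ⟨x', hx'⟩ := by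
    have := h1.map (f.fiberHomeo y).symm.continuous
    rwa [Homeomorph.symm_apply_apply] at this
  have h3 : (f.fiberHomeo y).symm ⟨x', hx'⟩ ∈ closure ({a} : Set (f.fiber y)) :=
    specializes_iff_mem_closure.mp h2
  rw [hacl.closure_eq, Set.mem_singleton_iff] at h3
  rw [← h3, f.fiberι_fiberHomeo_symm]

end Groth.Agent.Lib.H80QuasiSec
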