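import Mathlib
import Groth.Agent.Lib.H80Max1
import Groth.Agent.Lib.H80Equi4

/-!
# The reduced closed subscheme `closure {ζ} ∩ f⁻¹ V` over an irreducible open `V`
-/

set_option autoImplicit false
open CategoryTheory AlgebraicGeometry Limits TopologicalSpace
universe u

namespace Groth.Agent.Lib.H80Max

open Groth.Agent.Lib.H56LocDim Groth.Agent.Lib.UnivOpenAt Groth.Agent.Lib.H69RedInduced
  Groth.Agent.Lib.H80Equi

variable {X Y : Scheme.{u}}

/-- An integral subscheme `Z ↪ X` with underlying set `closure {ζ} ∩ f⁻¹ V`, dominating the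
irreducible open `V` of `Y` whose generic point is `η`. -/
structure Setup (f : X ⟶ Y) (V : Y.Opens) (η : Y) (ζ : X) where
  Z : Scheme.{u}
  j : Z ⟶ X
  g : Z ⟶ (V : Scheme.{u})
  comm : g ≫ V.ι = j ≫ f
  emb : Topology.IsEmbedding j
  range_j : Set.range j = closure {ζ} ∩ f ⁻¹' V
  irrZ : IrreducibleSpace Z
  irrV : IrreducibleSpace ↥(V : Scheme.{u})
  dom : IsDominant g
  lft : LocallyOfFiniteType g
  ηV : ↥(V : Scheme.{u})
  ι_ηV : V.ι ηV = η
  ηV_spec : ∀ z : ↥(V : Scheme.{u}), ηV ⤳ z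
  ζZ : Z
  j_ζZ : j ζZ = ζ
  ζZ_spec : ∀ z : Z, ζZ ⤳ z

theorem exists_setup (f : X ⟶ Y) [LocallyOfFiniteType f] (V : Y.Opens)
    (η : Y) (hηV : η ∈ V) (hη : ∀ z ∈ V, η ⤳ z) (ζ : X) (hfζ : f ζ = η) :
    Nonempty (Setup f V η ζ) := by
  obtain ⟨U₁, hU₁⟩ : ∃ U₁ : X.Opens, U₁ = f ⁻¹ᵁ V := ⟨_, rfl⟩
  have hU₁V : U₁ ≤ f ⁻¹ᵁ V := hU₁.le
  have hζU₁ : ζ ∈ U₁ := by
    rw [hU₁]
    change f ζ ∈ V
    rw [hfζ]
    exact hηV
  have hptU₁ : ∀ t : X, t ∈ U₁ → ∃ t₁ : (U₁ : Scheme.{u}), U₁.ι t₁ = t := by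
    intro t ht
    have : t ∈ Set.range U₁.ι := by rw [Scheme.Opens.range_ι]; exact ht
    exact this
  have hU₁pt : ∀ t₁ : (U₁ : Scheme.{u}), U₁.ι t₁ ∈ U₁ := by
    intro t₁
    have : U₁.ι t₁ ∈ Set.range U₁.ι := ⟨t₁, rfl⟩
    rwa [Scheme.Opens.range_ι] at this
  obtain ⟨ζ₁, hζ₁⟩ := hptU₁ ζ hζU₁
  obtain ⟨S, hS⟩ : ∃ S : Closeds (U₁ : Scheme.{u}), (S : Set (U₁ : Scheme.{u})) = closure {ζ₁} :=
    ⟨⟨closure {ζ₁}, isClosed_closure⟩, rfl⟩
  have hrange : Set.range (redSubι S) = closure {ζ₁} := by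
    rw [range_redSubι, hS]
  have hmemS : ∀ t : X, t ∈ U₁ → ζ ⤳ t → ∃ z : ↥(redSub S), U₁.ι (redSubι S z) = t := by
    intro t ht hsp
    obtain ⟨t₁, ht₁⟩ := hptU₁ t ht
    have h1 : t₁ ∈ Set.range (redSubι S) := by
      rw [hrange, ← specializes_iff_mem_closure]
      apply U₁.ι.isEmbedding.isInducing.specializes_iff.mp
      rw [hζ₁, ht₁]
      exact hsp
    obtain ⟨z, hz⟩ := h1
    exact ⟨z, by rw [hz, ht₁]⟩
  obtain ⟨ζZ, hζZ⟩ := hmemS ζ hζU₁ specializes_rfl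
  obtain ⟨j, hj⟩ : ∃ j : redSub S ⟶ X, j = redSubι S ≫ U₁.ι := ⟨_, rfl⟩
  obtain ⟨g, hg⟩ : ∃ g : redSub S ⟶ V, g = redSubι S ≫ f.resLE V U₁ hU₁V := ⟨_, rfl⟩
  have hgj : g ≫ V.ι = j ≫ f := by
    rw [hg, hj, Category.assoc, Category.assoc, Scheme.Hom.resLE_comp_ι]
  have hjζZ : j ζZ = ζ := by
    rw [hj, Scheme.Hom.comp_apply, hζZ]
  have hgpt : ∀ z : ↥(redSub S), V.ι (g z) = f (j z) := by
    intro z
    have := congrArg (fun k : redSub S ⟶ Y => k.base z) hgj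
    simpa using this
  have hVpt : ∀ t₁ : (V : Scheme.{u}), V.ι t₁ ∈ V := by
    intro t₁
    have : V.ι t₁ ∈ Set.range V.ι := ⟨t₁, rfl⟩
    rwa [Scheme.Opens.range_ι] at this
  obtain ⟨ηV, hηV'⟩ : ∃ ηV : (V : Scheme.{u}), V.ι ηV = η := by
    have : η ∈ Set.range V.ι := by rw [Scheme.Opens.range_ι]; exact hηV
    exact this
  have hηVspec : ∀ z : (V : Scheme.{u}), ηV ⤳ z := by
    intro z
    apply V.ι.isEmbedding.isInducing.specializes_iff.mp
    rw [hηV']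
    exact hη _ (hVpt z)
  have hζZ' : redSubι S ζZ = ζ₁ := by
    apply U₁.ι.isEmbedding.injective
    rw [hζZ, hζ₁]
  have hζZspec : ∀ z : ↥(redSub S), ζZ ⤳ z := by
    apply forall_specializes_of_range_eq_closure (redSubι S) (redSubι S).isEmbedding.isInducing
    rw [hζZ', hrange]
  have hirrZ : IrreducibleSpace ↥(redSub S) :=
    Groth.Agent.Lib.H80QuasiSec.irreducibleSpace_of_forall_specializes ζZ hζZspec
  have hirrV : IrreducibleSpace ↥(V : Scheme.{u}) :=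
    Groth.Agent.Lib.H80QuasiSec.irreducibleSpace_of_forall_specializes ηV hηVspec
  have hgenZ : genericPoint ↥(redSub S) = ζZ := by
    have h1 : IsGenericPoint ζZ (Set.univ : Set ↥(redSub S)) := by
      rw [isGenericPoint_def]
      ext z
      simp only [Set.mem_univ, iff_true]
      exact specializes_iff_mem_closure.mp (hζZspec z)
    exact (genericPoint_spec _).eq h1
  have hgenV : genericPoint ↥(V : Scheme.{u}) = ηV := by
    have h1 : IsGenericPoint ηV (Set.univ : Set ↥(V : Scheme.{u})) := by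
      rw [isGenericPoint_def]
      ext z
      simp only [Set.mem_univ, iff_true]
      exact specializes_iff_mem_closure.mp (hηVspec z)
    exact (genericPoint_spec _).eq h1
  have hgζZ : g ζZ = ηV := by
    apply V.ι.isEmbedding.injective
    rw [hgpt, hjζZ, hfζ, hηV']
  have hdom : IsDominant g := by
    refine ⟨?_⟩
    have h1 : closure ({g ζZ} : Set ↥(V : Scheme.{u})) = Set.univ := by
      rw [hgζZ, ← hgenV]
      exact (genericPoint_spec ↥(V : Scheme.{u})).def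
    have h2 : closure ({g ζZ} : Set ↥(V : Scheme.{u})) ⊆ closure (Set.range g) :=
      closure_mono (Set.singleton_subset_iff.mpr ⟨ζZ, rfl⟩)
    rw [DenseRange, dense_iff_closure_eq]
    exact Set.eq_univ_of_univ_subset (h1 ▸ h2)
  have hlft : LocallyOfFiniteType g := by
    rw [hg]
    infer_instance
  have hjemb : Topology.IsEmbedding j := by
    rw [hj]
    exact (redSubι S ≫ U₁.ι).isEmbedding
  have hrj : Set.range j = closure {ζ} ∩ f ⁻¹' V := by
    ext t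
    constructor
    · rintro ⟨z, rfl⟩
      refine ⟨?_, ?_⟩
      · rw [← specializes_iff_mem_closure, ← hjζZ]
        exact (hζZspec z).map j.continuous
      · have h1 : j z ∈ U₁ := by
          rw [hj, Scheme.Hom.comp_apply]
          exact hU₁pt _
        exact hU₁V h1
    · rintro ⟨h1, h2⟩
      have h3 : t ∈ U₁ := by
        rw [hU₁]
        exact h2
      obtain ⟨z, hz⟩ := hmemS t h3 (specializes_iff_mem_closure.mpr h1)
      exact ⟨z, by rw [hj, Scheme.Hom.comp_apply, hz]⟩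
  exact ⟨⟨redSub S, j, g, hgj, hjemb, hrj, hirrZ, hirrV, hdom, hlft, ηV, hηV', hηVspec,
    ζZ, hjζZ, hζZspec⟩⟩

end Groth.Agent.Lib.H80Max
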