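import Mathlib
import Groth.Agent.Lib.H80Max2

/-!
# Fibre dimensions of the subscheme `closure {ζ} ∩ f⁻¹ V`
-/

set_option autoImplicit false
open CategoryTheory AlgebraicGeometry Limits TopologicalSpace
universe u

namespace Groth.Agent.Lib.H80Max

open Groth.Agent.Lib.H56LocDim Groth.Agent.Lib.UnivOpenAt Groth.Agent.Lib.H80Equi

variable {X Y : Scheme.{u}} {f : X ⟶ Y} {V : Y.Opens} {η : Y} {ζ : X}

namespace Setup

variable (S : Setup f V η ζ)

theorem ι_g (z : S.Z) : V.ι (S.g z) = f (S.j z) := by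
  have := congrArg (fun k : S.Z ⟶ Y => k.base z) S.comm
  simpa using this

theorem j_mem (z : S.Z) : S.j z ∈ closure ({ζ} : Set X) := by
  have : S.j z ∈ Set.range S.j := ⟨z, rfl⟩
  rw [S.range_j] at this
  exact this.1

theorem exists_of_mem (t : X) (h1 : t ∈ closure ({ζ} : Set X)) (h2 : f t ∈ V) :
    ∃ z : S.Z, S.j z = t := by
  have : t ∈ Set.range S.j := by
    rw [S.range_j]
    exact ⟨h1, h2⟩
  exact this

theorem mem_V (z : S.Z) : f (S.j z) ∈ V := by
  have : S.j z ∈ Set.range S.j := ⟨z, rfl⟩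
  rw [S.range_j] at this
  exact this.2

/-- (S1) the local fibre dimension of `g` is the local dimension of `closure {ζ} ∩ f⁻¹(f t)`. -/
theorem fibreDimAt_g (z : S.Z) :
    FlatMor.fibreDimAt S.g z =
      FlatMor.localDim ↥(closure ({ζ} : Set X) ∩ f.base ⁻¹' {f.base (S.j z)})
        ⟨S.j z, ⟨S.j_mem z, rfl⟩⟩ := by
  rw [fibreDimAt_eq_fibLocDim]
  unfold fibLocDim
  let J : ↥(S.g.base ⁻¹' {S.g.base z}) → ↥(closure ({ζ} : Set X) ∩ f.base ⁻¹' {f.base (S.j z)}) :=
    fun w => ⟨S.j w.1, ⟨S.j_mem w.1, by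
      have hw : S.g w.1 = S.g z := w.2
      change f (S.j w.1) = f (S.j z)
      rw [← S.ι_g, hw, S.ι_g]⟩⟩
  have hJemb : Topology.IsEmbedding J := by
    have h1 : Topology.IsEmbedding (fun w : ↥(S.g.base ⁻¹' {S.g.base z}) => S.j w.1) :=
      S.emb.comp Topology.IsEmbedding.subtypeVal
    exact Topology.IsEmbedding.of_comp (Continuous.subtype_mk h1.continuous _)
      continuous_subtype_val h1
  have hJsurj : Function.Surjective J := by
    rintro ⟨t, ht1, ht2⟩
    have ht2' : f t = f (S.j z) := ht2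
    obtain ⟨w, hw⟩ := S.exists_of_mem t ht1 (by rw [ht2']; exact S.mem_V z)
    have hgw : S.g w = S.g z := by
      apply V.ι.isEmbedding.injective
      rw [S.ι_g, S.ι_g, hw, ht2']
    exact ⟨⟨w, hgw⟩, Subtype.ext hw⟩
  have hJ : Topology.IsOpenEmbedding J :=
    ⟨hJemb, by rw [hJsurj.range_eq]; exact isOpen_univ⟩
  exact localDim_eq_of_isOpenEmbedding hJ ⟨z, rfl⟩

theorem genericPoint_V :
    @genericPoint ↥(V : Scheme.{u}) _ _ S.irrV = S.ηV := by
  have := S.irrV
  have h1 : IsGenericPoint S.ηV (Set.univ : Set ↥(V : Scheme.{u})) := by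
    rw [isGenericPoint_def]
    ext z
    simp only [Set.mem_univ, iff_true]
    exact specializes_iff_mem_closure.mp (S.ηV_spec z)
  exact (genericPoint_spec _).eq h1

theorem genericPoint_Z :
    @genericPoint ↥S.Z _ _ S.irrZ = S.ζZ := by
  have := S.irrZ
  have h1 : IsGenericPoint S.ζZ (Set.univ : Set ↥S.Z) := by
    rw [isGenericPoint_def]
    ext z
    simp only [Set.mem_univ, iff_true]
    exact specializes_iff_mem_closure.mp (S.ζZ_spec z)
  exact (genericPoint_spec _).eq h1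

/-- (S2) the dimension of the generic fibre of `g`. -/
theorem dim_fiber_g :
    topologicalKrullDim ↥(S.g.fiber S.ηV) =
      topologicalKrullDim ↥(closure ({ζ} : Set X) ∩ f.base ⁻¹' {η}) := by
  have ha : Topology.IsInducing
      (fun w : ↥(S.g.fiber S.ηV) => S.j ((S.g.fiberι _) w)) :=
    S.emb.isInducing.comp (S.g.fiberι _).isEmbedding.isInducing
  have hb : Topology.IsInducing
      (fun t : ↥(closure ({ζ} : Set X) ∩ f.base ⁻¹' {η}) => (t.1 : X)) :=
    Topology.IsInducing.subtypeVal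
  apply le_antisymm
  · refine Groth.Agent.Lib.TopKrullDim.dim_le_of_range_subset _ _ ha hb ?_
    rintro _ ⟨w, rfl⟩
    have h1 : (S.g.fiberι S.ηV) w ∈ Set.range (S.g.fiberι S.ηV) := ⟨w, rfl⟩
    rw [Scheme.Hom.range_fiberι] at h1
    have h2 : S.g ((S.g.fiberι S.ηV) w) = S.ηV := h1
    refine ⟨⟨_, ⟨S.j_mem _, ?_⟩⟩, rfl⟩
    change f (S.j _) = η
    rw [← S.ι_g, h2, S.ι_ηV]
  · refine Groth.Agent.Lib.TopKrullDim.dim_le_of_range_subset _ _ hb ha ?_
    rintro _ ⟨⟨t, ht1, ht2⟩, rfl⟩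
    have ht2' : f t = η := ht2
    have hηV : η ∈ V := by
      rw [← S.ι_ηV]
      have : V.ι S.ηV ∈ Set.range V.ι := ⟨_, rfl⟩
      rwa [Scheme.Opens.range_ι] at this
    obtain ⟨z, hz⟩ := S.exists_of_mem t ht1 (by rw [ht2']; exact hηV)
    have hgz : S.g z = S.ηV := by
      apply V.ι.isEmbedding.injective
      rw [S.ι_g, hz, ht2', S.ι_ηV]
    have hzr : z ∈ Set.range (S.g.fiberι S.ηV) := by
      rw [Scheme.Hom.range_fiberι]
      exact hgz
    obtain ⟨w, hw⟩ := hzr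
    exact ⟨w, by simp only [hw, hz]⟩

/-- the local fibre dimension of `g` at the generic point -/
theorem g_ζZ : S.g S.ζZ = S.ηV := by
  apply V.ι.isEmbedding.injective
  rw [S.ι_g, S.j_ζZ, S.ι_ηV]
  have h1 : f ζ ⤳ η := by
    have h2 := S.ηV_spec (S.g S.ζZ)
    have h3 := h2.map V.ι.continuous
    rw [S.ι_ηV, S.ι_g, S.j_ζZ] at h3
    have := S.dom
    have := S.irrZ
    have := S.irrV
    have h4 : IsGenericPoint (S.g S.ζZ) (Set.univ : Set ↥(V : Scheme.{u})) := by
      have h5 : IsGenericPoint S.ζZ (Set.univ : Set ↥S.Z) := by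
        rw [isGenericPoint_def]
        ext z
        simp only [Set.mem_univ, iff_true]
        exact specializes_iff_mem_closure.mp (S.ζZ_spec z)
      have := h5.image S.g.continuous
      rwa [Set.image_univ, S.dom.denseRange.closure_range] at this
    have h6 : S.g S.ζZ ⤳ S.ηV := by
      rw [specializes_iff_mem_closure, h4.def]
      trivial
    have h7 := h6.map V.ι.continuous
    rwa [S.ι_ηV, S.ι_g, S.j_ζZ] at h7
  have h2 := S.ηV_spec (S.g S.ζZ)
  have h3 := h2.map V.ι.continuous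
  rw [S.ι_ηV, S.ι_g, S.j_ζZ] at h3
  exact (h1.antisymm h3).eq

theorem fibreDimAt_g_genericPoint :
    FlatMor.fibreDimAt S.g S.ζZ =
      topologicalKrullDim ↥(closure ({ζ} : Set X) ∩ f.base ⁻¹' {η}) := by
  have := S.irrZ
  have := S.irrV
  have := S.lft
  have hdom := S.dom
  have hirrF : IrreducibleSpace ↥(S.g.fiber (genericPoint ↥(V : Scheme.{u}))) :=
    Groth.Agent.Lib.H77GeomIrr.irreducibleSpace_fiber_genericPoint S.g hdom.denseRange
  have hgV : genericPoint ↥(V : Scheme.{u}) = S.ηV := S.genericPoint_V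
  rw [hgV] at hirrF
  rw [fibreDimAt_eq_dim_fiber_of_irreducible S.g S.ηV S.ζZ S.g_ζZ]
  exact S.dim_fiber_g

/-- (S3) -/
theorem isUnivOpenAt_of_g (z : S.Z) (h : EGA43.IsUnivOpenAt S.g z) :
    EGA43.IsUnivOpenAt f (S.j z) :=
  isUnivOpenAt_of_subscheme V f S.j S.g S.comm z h

/-- Chevalley's criterion for the subscheme. -/
theorem isUnivOpenAt_of_localDim_le (z : S.Z)
    (hY : CAlg2.IsGeomUnibranch (Y.presheaf.stalk (f (S.j z))))
    (hle : FlatMor.localDim ↥(closure ({ζ} : Set X) ∩ f.base ⁻¹' {f.base (S.j z)})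
        ⟨S.j z, ⟨S.j_mem z, rfl⟩⟩ ≤
      topologicalKrullDim ↥(closure ({ζ} : Set X) ∩ f.base ⁻¹' {η})) :
    EGA43.IsUnivOpenAt f (S.j z) := by
  have := S.irrZ
  have := S.irrV
  have := S.lft
  have := S.dom
  apply S.isUnivOpenAt_of_g
  have hGU : CAlg2.IsGeomUnibranch ((V : Scheme.{u}).presheaf.stalk (S.g z)) := by
    rw [← Groth.Agent.Lib.H80PolyGU.isGeomUnibranch_stalk_iff_of_isOpenImmersion V.ι (S.g z)]
    exact (Groth.Agent.Lib.H80PolyGU.isGeomUnibranch_stalk_congr (S.ι_g z)).mpr hY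
  apply Groth.Agent.Lib.H80Chev.isUnivOpenAt_of_fibreDimAt_le S.g z hGU
  have hgZ : genericPoint ↥S.Z = S.ζZ := S.genericPoint_Z
  rw [hgZ, S.fibreDimAt_g, S.fibreDimAt_g_genericPoint]
  exact hle

end Setup

end Groth.Agent.Lib.H80Max
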