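import Mathlib
import Groth.Agent.Lib.H80Equi1

/-!
# Finitely many irreducible components through a point of a locally Noetherian scheme
-/

set_option autoImplicit false
open CategoryTheory AlgebraicGeometry TopologicalSpace
universe u

namespace Groth.Agent.Lib.H80Max

/-- Ring level: there is `g ∉ q₀` such that every prime not containing `g` contains a minimal
prime contained in `q₀`. -/
theorem exists_notMem_forall_exists_le {B : Type*} [CommRing B] (hfin : (minimalPrimes B).Finite)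
    (q₀ : Ideal B) [q₀.IsPrime] :
    ∃ g : B, g ∉ q₀ ∧ ∀ Q : Ideal B, Q.IsPrime → g ∉ Q →
      ∃ m ∈ minimalPrimes B, m ≤ q₀ ∧ m ≤ Q := by
  classical
  have key : ∀ m ∈ minimalPrimes B, ¬ m ≤ q₀ → ∃ a ∈ m, a ∉ q₀ := by
    intro m _ hne
    by_contra hcon
    push Not at hcon
    exact hne hcon
  choose! a ha1 ha2 using key
  let T : Finset (Ideal B) := hfin.toFinset.filter (fun m => ¬ m ≤ q₀)
  refine ⟨∏ m ∈ T, a m, ?_, ?_⟩
  · intro hmem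
    obtain ⟨m, hmT, hm⟩ := (Ideal.IsPrime.prod_mem_iff).mp hmem
    have hm' := Finset.mem_filter.mp hmT
    exact ha2 m (hfin.mem_toFinset.mp hm'.1) hm'.2 hm
  · intro Q hQ hgQ
    obtain ⟨m, hm, hmQ⟩ := Ideal.exists_minimalPrimes_le (I := (⊥ : Ideal B)) (J := Q) bot_le
    have hm' : m ∈ minimalPrimes B := hm
    refine ⟨m, hm', ?_, hmQ⟩
    by_contra hmq
    apply hgQ
    apply hmQ
    have hmT : m ∈ T := Finset.mem_filter.mpr ⟨hfin.mem_toFinset.mpr hm', hmq⟩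
    exact Ideal.mem_of_dvd _ (Finset.dvd_prod_of_mem a hmT) (ha1 m hm' hmq)

/-- In a locally Noetherian scheme, a point has an open neighbourhood covered by the closures of
finitely many maximal points, all of them generizations of the point. -/
theorem exists_open_finite_maximal_cover {X : Scheme.{u}} [IsLocallyNoetherian X] (x : X) :
    ∃ (U : X.Opens) (M : Set X), x ∈ U ∧ M.Finite ∧
      (∀ ζ ∈ M, ζ ⤳ x ∧ ∀ ζ' : X, ζ' ⤳ ζ → ζ ⤳ ζ') ∧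
      (U : Set X) ⊆ ⋃ ζ ∈ M, closure {ζ} := by
  obtain ⟨_, ⟨U₀, hU₀, rfl⟩, hxU₀, -⟩ := X.isBasis_affineOpens.exists_subset_of_mem_open
    (Set.mem_univ x) isOpen_univ
  replace hU₀ : IsAffineOpen U₀ := hU₀
  have hnoeth : IsNoetherianRing Γ(X, U₀) := IsLocallyNoetherian.component_noetherian ⟨U₀, hU₀⟩
  have hfin : (minimalPrimes Γ(X, U₀)).Finite := minimalPrimes.finite_of_isNoetherianRing _
  obtain ⟨g, hgq, hQ⟩ := exists_notMem_forall_exists_le hfin (hU₀.primeIdealOf ⟨x, hxU₀⟩).asIdeal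
  have hmem : ∀ Q : Spec Γ(X, U₀), hU₀.fromSpec Q ∈ X.basicOpen g ↔ g ∉ Q.asIdeal := by
    intro Q
    have h1 : hU₀.fromSpec Q ∈ X.basicOpen g ↔ Q ∈ hU₀.fromSpec ⁻¹ᵁ (X.basicOpen g) := Iff.rfl
    rw [h1, hU₀.fromSpec_preimage_basicOpen]
    rfl
  let M₀ : Set (PrimeSpectrum Γ(X, U₀)) :=
    {Q | Q.asIdeal ∈ minimalPrimes Γ(X, U₀) ∧ Q.asIdeal ≤ (hU₀.primeIdealOf ⟨x, hxU₀⟩).asIdeal}
  have hM₀fin : M₀.Finite := by
    have h1 : (PrimeSpectrum.asIdeal ⁻¹' (minimalPrimes Γ(X, U₀))).Finite :=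
      hfin.preimage (fun a _ b _ h => PrimeSpectrum.ext h)
    exact h1.subset (fun Q hQ => hQ.1)
  refine ⟨X.basicOpen g, hU₀.fromSpec '' M₀, ?_, hM₀fin.image _, ?_, ?_⟩
  · have h1 := (hmem (hU₀.primeIdealOf ⟨x, hxU₀⟩)).mpr hgq
    rw [hU₀.fromSpec_primeIdealOf ⟨x, hxU₀⟩] at h1
    exact h1
  · rintro _ ⟨Q, ⟨hQmin, hQle⟩, rfl⟩
    constructor
    · have hsp : Q ⤳ hU₀.primeIdealOf ⟨x, hxU₀⟩ := (PrimeSpectrum.le_iff_specializes _ _).mp hQle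
      have := hsp.map hU₀.fromSpec.continuous
      rwa [hU₀.fromSpec_primeIdealOf ⟨x, hxU₀⟩] at this
    · intro ζ' hζ'
      have hζ'U₀ : ζ' ∈ U₀ := by
        have h1 : hU₀.fromSpec Q ∈ U₀ := by
          have : hU₀.fromSpec Q ∈ Set.range hU₀.fromSpec := ⟨Q, rfl⟩
          rwa [hU₀.range_fromSpec] at this
        exact hζ'.mem_open U₀.isOpen h1
      have hζ'eq : hU₀.fromSpec (hU₀.primeIdealOf ⟨ζ', hζ'U₀⟩) = ζ' :=
        hU₀.fromSpec_primeIdealOf ⟨ζ', hζ'U₀⟩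
      rw [← hζ'eq] at hζ' ⊢
      have h2 : hU₀.primeIdealOf ⟨ζ', hζ'U₀⟩ ⤳ Q :=
        hU₀.fromSpec.isOpenEmbedding.isInducing.specializes_iff.mp hζ'
      have h3 : (hU₀.primeIdealOf ⟨ζ', hζ'U₀⟩).asIdeal ≤ Q.asIdeal :=
        (PrimeSpectrum.le_iff_specializes _ _).mpr h2
      have h4 : Q.asIdeal ≤ (hU₀.primeIdealOf ⟨ζ', hζ'U₀⟩).asIdeal :=
        hQmin.2 ⟨(hU₀.primeIdealOf ⟨ζ', hζ'U₀⟩).isPrime, bot_le⟩ h3
      have h5 : Q ⤳ hU₀.primeIdealOf ⟨ζ', hζ'U₀⟩ := (PrimeSpectrum.le_iff_specializes _ _).mp h4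
      exact h5.map hU₀.fromSpec.continuous
  · intro t ht
    have htU₀ : t ∈ U₀ := X.basicOpen_le g ht
    have hteq : hU₀.fromSpec (hU₀.primeIdealOf ⟨t, htU₀⟩) = t :=
      hU₀.fromSpec_primeIdealOf ⟨t, htU₀⟩
    rw [← hteq] at ht
    have hgt := (hmem _).mp ht
    obtain ⟨m, hm, hmq, hmt⟩ := hQ _ inferInstance hgt
    have hmprime : m.IsPrime := hm.1.1
    refine Set.mem_iUnion₂.mpr ⟨hU₀.fromSpec ⟨m, hmprime⟩, ⟨⟨m, hmprime⟩, ⟨hm, hmq⟩, rfl⟩, ?_⟩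
    rw [← specializes_iff_mem_closure, ← hteq]
    have hsp : (⟨m, hmprime⟩ : PrimeSpectrum Γ(X, U₀)) ⤳ hU₀.primeIdealOf ⟨t, htU₀⟩ :=
      (PrimeSpectrum.le_iff_specializes _ _).mp hmt
    exact hsp.map hU₀.fromSpec.continuous

end Groth.Agent.Lib.H80Max
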