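import Mathlib
import Groth.Agent.Lib.H80Max3
import Groth.Agent.Lib.H80Max4

/-!
# EGA IV 14.4.1: universal openness at maximal points of fibres over geometrically unibranch
points
-/

set_option autoImplicit false
open CategoryTheory AlgebraicGeometry Limits TopologicalSpace
universe u

namespace Groth.Agent.Lib.H80Max

open Groth.Agent.Lib.H56LocDim Groth.Agent.Lib.UnivOpenAt Groth.Agent.Lib.H80Equi
  Groth.Agent.Lib.H56OpenDim

variable {X Y : Scheme.{u}}

theorem isOpenAt_of_isUnivOpenAt (f : X ⟶ Y) (x : X) (h : EGA43.IsUnivOpenAt f x) :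
    EGA43.IsOpenAt f.base x :=
  isOpenAt_snd_of_isPullback (IsPullback.id_horiz f) h x rfl

theorem eq_of_closure_singleton_eq {T : Type*} [TopologicalSpace T] [T0Space T] {a b : T}
    (h : closure ({a} : Set T) = closure {b}) : a = b :=
  (inseparable_iff_closure_eq.mpr h).eq

/-- The generic point of an irreducible open neighbourhood is the generic point of every
irreducible component through the point. -/
theorem eq_generic_of_mem_irreducibleComponents {V : Y.Opens} {ηV : Y}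
    (hη : ∀ z ∈ V, ηV ⤳ z) {y : Y} (hyV : y ∈ V) {Y₀ : Set Y}
    (hY₀ : Y₀ ∈ irreducibleComponents Y) (hy : y ∈ Y₀) {η : Y} (hηY₀ : closure {η} = Y₀) :
    η = ηV := by
  have h1 : η ⤳ y := by
    rw [specializes_iff_mem_closure, hηY₀]
    exact hy
  have h2 : η ∈ V := h1.mem_open V.isOpen hyV
  have h3 : ηV ⤳ η := hη η h2
  have h4 : η ⤳ ηV := specializes_of_isGenericPoint_of_mem_irreducibleComponents hY₀
    (isGenericPoint_def.mpr hηY₀) ηV h3
  exact (h4.antisymm h3).eq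

theorem closure_generic_mem_irreducibleComponents {V : Y.Opens} {ηV : Y} (hηV : ηV ∈ V)
    (hη : ∀ z ∈ V, ηV ⤳ z) : closure ({ηV} : Set Y) ∈ irreducibleComponents Y := by
  apply closure_singleton_mem_irreducibleComponents
  intro ζ' hζ'
  exact hη ζ' (hζ'.mem_open V.isOpen hηV)

/-- (b) ⇒ (a) -/
theorem isUnivOpenAt_of_component [IsLocallyNoetherian Y] (f : X ⟶ Y) [LocallyOfFiniteType f]
    (x : X) (hy : CAlg2.IsGeomUnibranch (Y.presheaf.stalk (f.base x)))
    (hb : ∀ Y₀ ∈ irreducibleComponents (Y : Type u), f.base x ∈ Y₀ →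
      ∃ Z ∈ irreducibleComponents (X : Type u), ∃ hx : x ∈ Z, closure (f.base '' Z) = Y₀ ∧
        ∀ η : Y, closure ({η} : Set Y) = Y₀ →
          FlatMor.localDim ↥(Z ∩ f.base ⁻¹' {f.base x}) ⟨x, ⟨hx, rfl⟩⟩ =
            topologicalKrullDim ↥(Z ∩ f.base ⁻¹' {η})) :
    EGA43.IsUnivOpenAt f x := by
  have hnil : (nilradical (Y.presheaf.stalk (f x))).IsPrime :=
    (Ideal.Quotient.isDomain_iff_prime _).1 hy.1.1
  obtain ⟨V, hV, hyV, ηV, hηV, hη⟩ := exists_irreducible_affine_nhd (f x) hnil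
  have hY₀ := closure_generic_mem_irreducibleComponents hηV hη
  have hyY₀ : f x ∈ closure ({ηV} : Set Y) := specializes_iff_mem_closure.mp (hη _ hyV)
  obtain ⟨Z, hZ, hx, hcl, hdim⟩ := hb _ hY₀ hyY₀
  obtain ⟨ζ, hζ⟩ := QuasiSober.sober hZ.1 (isClosed_of_mem_irreducibleComponents Z hZ)
  obtain rfl := hζ.def
  have hfζ : f ζ = ηV := by
    apply eq_of_closure_singleton_eq
    rw [← hcl, closure_image_closure f.continuous, Set.image_singleton]
  obtain ⟨S⟩ := exists_setup f V ηV hηV hη ζ hfζ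
  obtain ⟨z, rfl⟩ := S.exists_of_mem x hx hyV
  exact S.isUnivOpenAt_of_localDim_le z hy (hdim ηV rfl).le

/-- (c) ⇒ (b') -/
theorem fibreDimAt_le_dim_inter_of_isOpenAt [IsLocallyNoetherian Y] (f : X ⟶ Y)
    [LocallyOfFiniteType f] (x : X)
    (hmax : ∀ x' : X, f.base x' = f.base x → x ∈ closure {x'} → x' = x)
    (hopen : EGA43.IsOpenAt f.base x) (U : X.Opens) (hxU : x ∈ U) (y' : Y)
    (hy' : y' ⤳ f.base x) :
    FlatMor.fibreDimAt f x ≤ topologicalKrullDim ↥((U : Set X) ∩ f.base ⁻¹' {y'}) := by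
  obtain ⟨ξ, hξx, hξ, htr⟩ := exists_generization_trdeg_le f x hopen y' hy'
  rw [trdeg_eq_tdeg f x, trdeg_eq_tdeg f ξ] at htr
  have h1 : tdeg f x ≤ tdeg f ξ := by exact_mod_cast htr
  have hmax' : ∀ x' : X, f x' = f x → x' ⤳ x → x' = x := fun x' h1 h2 =>
    hmax x' h1 (specializes_iff_mem_closure.mp h2)
  rw [fibreDimAt_eq_tdeg_of_maximal f x hmax']
  have hξU : ξ ∈ U := hξx.mem_open U.isOpen hxU
  have h2 := fibreDimAt_le_dim_inter f U ξ hξU
  have hξ' : f.base ξ = y' := hξ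
  rw [hξ'] at h2
  refine le_trans ?_ ((tdeg_le_fibreDimAt f ξ).trans h2)
  exact_mod_cast h1

end Groth.Agent.Lib.H80Max
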