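/-
helper80: openness at a quasi-finite point over a unibranch point, scheme level
(EGA IV 14.4.1.2-type / SGA3 VI_B): `f : X ⟶ Y` dominant, locally of finite type between
irreducible schemes, quasi-finite at `x`, with `O_{Y,f(x)}` unibranch, is open at `x`.
-/
import Mathlib
import Groth.Prelude.Def_CAlg2
import Groth.Agent.Lib.H80UnibranchOpen3
import Groth.Agent.Lib.OpenAt45

set_option autoImplicit false
universe u
open CategoryTheory AlgebraicGeometry

namespace Groth.Agent.Lib.H80UnibranchOpen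

theorem isOpenAt_of_quasiFiniteAt_of_isUnibranch {X Y : Scheme.{u}} [IrreducibleSpace X]
    [IrreducibleSpace Y] (f : X ⟶ Y) [LocallyOfFiniteType f] (hdense : DenseRange f.base)
    (x : X) (hqf : f.QuasiFiniteAt x)
    (hUni : CAlg2.IsUnibranch (Y.presheaf.stalk (f.base x))) : EGA43.IsOpenAt f.base x := by
  obtain ⟨_, ⟨V, hV, rfl⟩, hfxV, -⟩ := Y.isBasis_affineOpens.exists_subset_of_mem_open
    (Set.mem_univ (f x)) isOpen_univ
  have hxV : x ∈ f ⁻¹ᵁ V := hfxV
  obtain ⟨_, ⟨U, hU, rfl⟩, hxU, hUV⟩ := X.isBasis_affineOpens.exists_subset_of_mem_open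
    hxV (f ⁻¹ᵁ V).isOpen
  replace hV : IsAffineOpen V := hV
  replace hU : IsAffineOpen U := hU
  have e : U ≤ f ⁻¹ᵁ V := hUV
  -- the chart square
  have hsq : ∀ t : Spec Γ(X, U), hV.fromSpec.base ((Spec.map (f.appLE V U e)).base t) =
      f.base (hU.fromSpec.base t) := fun t =>
    (Groth.Agent.Lib.OpenAt45.map_fromSpec f hU hV e t).symm
  have hq₀ : hU.fromSpec.base (hU.primeIdealOf ⟨x, hxU⟩) = x := hU.fromSpec_primeIdealOf ⟨x, hxU⟩
  suffices H : EGA43.IsOpenAt (Spec.map (f.appLE V U e)).base (hU.primeIdealOf ⟨x, hxU⟩) by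
    have := Groth.Agent.Lib.H80UnivOpenPoly.isOpenAt_of_comm_square hU.fromSpec.base
      (Spec.map (f.appLE V U e)).base hV.fromSpec.base f.base hsq hU.fromSpec.continuous
      hV.fromSpec.isOpenEmbedding.isOpenMap _ H
    rwa [hq₀] at this
  -- ring-level hypotheses
  algebraize [(f.appLE V U e).hom]
  have hft : Algebra.FiniteType Γ(Y, V) Γ(X, U) := f.finiteType_appLE hV hU e
  have hne : Nonempty (Spec Γ(X, U)) := ⟨hU.primeIdealOf ⟨x, hxU⟩⟩
  have hne' : Nonempty (Spec Γ(Y, V)) := ⟨hV.primeIdealOf ⟨f x, hfxV⟩⟩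
  have hirrX : IrreducibleSpace (PrimeSpectrum Γ(X, U)) :=
    hU.fromSpec.isOpenEmbedding.irreducibleSpace
  have hirrY : IrreducibleSpace (PrimeSpectrum Γ(Y, V)) :=
    hV.fromSpec.isOpenEmbedding.irreducibleSpace
  have hA : (nilradical Γ(Y, V)).IsPrime :=
    PrimeSpectrum.irreducibleSpace_iff_isPrime_nilradical.mp hirrY
  have hB : (nilradical Γ(X, U)).IsPrime :=
    PrimeSpectrum.irreducibleSpace_iff_isPrime_nilradical.mp hirrX
  -- density
  have hker : RingHom.ker (algebraMap Γ(Y, V) Γ(X, U)) ≤ nilradical Γ(Y, V) := by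
    rw [← PrimeSpectrum.denseRange_comap_iff_ker_le_nilRadical]
    have h1 : DenseRange hU.fromSpec.base := by
      rw [DenseRange, hU.range_fromSpec]
      exact U.isOpen.dense ⟨x, hxU⟩
    have h2 : DenseRange (f.base ∘ hU.fromSpec.base) := hdense.comp h1 f.continuous
    have h3 : DenseRange (hV.fromSpec.base ∘ (Spec.map (f.appLE V U e)).base) := by
      convert h2 using 2
      funext t
      exact hsq t
    intro y
    have hcl := hV.fromSpec.isOpenEmbedding.isInducing.closure_eq_preimage_closure_image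
      (Set.range (Spec.map (f.appLE V U e)).base)
    change y ∈ closure (Set.range (Spec.map (f.appLE V U e)).base)
    rw [hcl, ← Set.range_comp]
    exact h3 _
  -- quasi-finiteness
  have hqf' : Algebra.QuasiFiniteAt Γ(Y, V) (hU.primeIdealOf ⟨x, hxU⟩).asIdeal :=
    hqf.quasiFiniteAt hU hV e hxU
  -- the stalk as localization
  let _ := Y.presheaf.algebra_section_stalk ⟨f x, hfxV⟩
  have hloc := hV.isLocalization_stalk ⟨f x, hfxV⟩
  have hp : (hV.primeIdealOf ⟨f x, hfxV⟩).asIdeal =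
      (hU.primeIdealOf ⟨x, hxU⟩).asIdeal.comap (algebraMap Γ(Y, V) Γ(X, U)) := by
    have h1 : hV.fromSpec.base (hV.primeIdealOf ⟨f x, hfxV⟩) =
        hV.fromSpec.base ((Spec.map (f.appLE V U e)).base (hU.primeIdealOf ⟨x, hxU⟩)) := by
      rw [hsq, hq₀]
      exact hV.fromSpec_primeIdealOf ⟨f x, hfxV⟩
    exact congrArg PrimeSpectrum.asIdeal (hV.fromSpec.isOpenEmbedding.injective h1)
  have hloc' : IsLocalization.AtPrime (Y.presheaf.stalk (f x))
      ((hU.primeIdealOf ⟨x, hxU⟩).asIdeal.comap (algebraMap Γ(Y, V) Γ(X, U))) :=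
    atPrime_congr _ hp.symm
  exact isOpenAt_comap_of_quasiFiniteAt_of_isUnibranch Γ(Y, V) Γ(X, U) hker
    (hU.primeIdealOf ⟨x, hxU⟩) (Y.presheaf.stalk (f x)) hUni

end Groth.Agent.Lib.H80UnibranchOpen
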