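import Mathlib
import Groth.Agent.Lib.RegularLocal

/-!
# helper80: quasi-sections in a Noetherian local ring (ring level)

* `eq_maximalIdeal_of_forall_mem` : in a Noetherian local domain in which every nonzero prime contains a fixed
  nonzero nonunit `b`, the only prime containing `b` is the maximal ideal (prime avoidance + Krull's PIT).
* `eq_maximalIdeal_of_maximal_avoiding` : `B` Noetherian local, `b ∈ 𝔪`, `P` a prime maximal among the primes
  not containing `b`; then every prime `Q ⊇ P` with `b ∈ Q` is `𝔪`.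
* `exists_quasiSection_prime` : `O` regular local of dimension `≤ 1`, `φ : O → B` local, `B` Noetherian local,
  `𝔭₀` a prime of `B` over `⊥`; then there is a prime `P ⊇ 𝔭₀` over `⊥` such that the only prime `Q ⊇ P` over the
  maximal ideal of `O` is the maximal ideal of `B`.
-/

set_option autoImplicit false
universe u

namespace Groth.Agent.Lib.H80QuasiSec

open IsLocalRing

theorem eq_maximalIdeal_of_forall_mem {D : Type*} [CommRing D] [IsDomain D] [IsNoetherianRing D]
    [IsLocalRing D] (b : D) (hb0 : b ≠ 0) (hbm : b ∈ maximalIdeal D)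
    (H : ∀ Q : Ideal D, Q.IsPrime → Q ≠ ⊥ → b ∈ Q) (Q : Ideal D) [hQ : Q.IsPrime] (hbQ : b ∈ Q) :
    Q = maximalIdeal D := by
  classical
  have hspan_le : Ideal.span {b} ≤ maximalIdeal D := (Ideal.span_singleton_le_iff_mem _).mpr hbm
  have key : maximalIdeal D ∈ (Ideal.span {b}).minimalPrimes := by
    by_contra hm
    have hfin : (Ideal.span {b}).minimalPrimes.Finite :=
      Ideal.finite_minimalPrimes_of_isNoetherianRing D _
    obtain ⟨Q₀, hQ₀, -⟩ := Ideal.exists_minimalPrimes_le hspan_le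
    have hnot : ¬ ((maximalIdeal D : Set D) ⊆ ⋃ Q ∈ (hfin.toFinset : Set (Ideal D)), (Q : Set D)) := by
      rw [Ideal.subset_union_prime (f := fun Q : Ideal D => Q) Q₀ Q₀ (fun Q hQ _ _ =>
        (hfin.mem_toFinset.mp hQ).1.1)]
      rintro ⟨Q, hQ, hle⟩
      have hQM := hfin.mem_toFinset.mp hQ
      have hQp : Q.IsPrime := hQM.1.1
      have : Q = maximalIdeal D := le_antisymm (le_maximalIdeal hQp.ne_top) hle
      exact hm (this ▸ hQM)
    rw [Set.not_subset] at hnot
    obtain ⟨a, ham, haU⟩ := hnot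
    have haQ : ∀ Q ∈ (Ideal.span {b}).minimalPrimes, a ∉ Q := by
      intro Q hQ haQ
      exact haU (Set.mem_biUnion (show Q ∈ (hfin.toFinset : Set (Ideal D)) from
        hfin.mem_toFinset.mpr hQ) haQ)
    have ha0 : a ≠ 0 := by
      rintro rfl
      exact haQ Q₀ hQ₀ Q₀.zero_mem
    have hspana : Ideal.span {a} ≤ maximalIdeal D := (Ideal.span_singleton_le_iff_mem _).mpr ham
    obtain ⟨Q', hQ', -⟩ := Ideal.exists_minimalPrimes_le hspana
    have hQ'p : Q'.IsPrime := hQ'.1.1
    have haQ' : a ∈ Q' := hQ'.1.2 (Ideal.mem_span_singleton_self a)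
    have hQ'ne : Q' ≠ ⊥ := by
      rintro rfl
      exact ha0 (by simpa using haQ')
    have hbQ' : b ∈ Q' := H Q' hQ'p hQ'ne
    obtain ⟨Q₁, hQ₁, hQ₁le⟩ := Ideal.exists_minimalPrimes_le
      (show Ideal.span {b} ≤ Q' from (Ideal.span_singleton_le_iff_mem _).mpr hbQ')
    have hQ₁p : Q₁.IsPrime := hQ₁.1.1
    have hbQ₁ : b ∈ Q₁ := hQ₁.1.2 (Ideal.mem_span_singleton_self b)
    have hht : Q'.height ≤ 1 :=
      Ideal.height_le_one_of_isPrincipal_of_mem_minimalPrimes (Ideal.span {a}) Q' hQ'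
    rcases hQ₁le.lt_or_eq with hlt | heq
    · have h1 : Q₁.height < Q'.height := Ideal.height_strict_mono_of_isPrime hlt
      have h0 : Q₁.height = 0 := by
        have : Q₁.height < 1 := lt_of_lt_of_le h1 hht
        exact Order.lt_one_iff.mp this
      rw [Ideal.height_eq_zero_iff, IsDomain.minimalPrimes_eq_singleton_bot] at h0
      have : Q₁ = ⊥ := h0
      rw [this] at hbQ₁
      exact hb0 (by simpa using hbQ₁)
    · exact haQ Q₁ hQ₁ (heq ▸ haQ')
  have hle : Q ≤ maximalIdeal D := le_maximalIdeal hQ.ne_top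
  exact le_antisymm hle (key.2 ⟨hQ, (Ideal.span_singleton_le_iff_mem _).mpr hbQ⟩ hle)

theorem eq_maximalIdeal_of_maximal_avoiding {B : Type*} [CommRing B] [IsNoetherianRing B]
    [IsLocalRing B] (b : B) (hbm : b ∈ maximalIdeal B) (P : Ideal B) [hP : P.IsPrime] (hbP : b ∉ P)
    (H : ∀ Q : Ideal B, Q.IsPrime → P < Q → b ∈ Q) (Q : Ideal B) [hQ : Q.IsPrime] (hPQ : P ≤ Q)
    (hbQ : b ∈ Q) : Q = maximalIdeal B := by
  have hsurj : Function.Surjective (Ideal.Quotient.mk P) := Ideal.Quotient.mk_surjective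
  have : IsLocalRing (B ⧸ P) := IsLocalRing.of_surjective' (Ideal.Quotient.mk P) hsurj
  have hker : RingHom.ker (Ideal.Quotient.mk P) = P := Ideal.mk_ker
  have hQ' : (Q.map (Ideal.Quotient.mk P)).IsPrime :=
    Ideal.map_isPrime_of_surjective hsurj (by rw [hker]; exact hPQ)
  have hcomapQ : (Q.map (Ideal.Quotient.mk P)).comap (Ideal.Quotient.mk P) = Q := by
    rw [Ideal.comap_map_of_surjective _ hsurj, ← RingHom.ker_eq_comap_bot, hker]
    exact sup_eq_left.mpr hPQ
  have hmax : (maximalIdeal (B ⧸ P)).comap (Ideal.Quotient.mk P) = maximalIdeal B := by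
    have hloc : IsLocalHom (Ideal.Quotient.mk P) := IsLocalHom.of_surjective _ hsurj
    exact ((IsLocalRing.local_hom_TFAE (Ideal.Quotient.mk P)).out 0 4).mp hloc
  have := eq_maximalIdeal_of_forall_mem (D := B ⧸ P) (Ideal.Quotient.mk P b)
    (by rwa [Ne, Ideal.Quotient.eq_zero_iff_mem])
    (by
      rw [← hmax] at hbm
      exact hbm)
    (by
      intro Q₁ hQ₁ hne
      have hlt : P < Q₁.comap (Ideal.Quotient.mk P) := by
        refine lt_of_le_of_ne ?_ ?_
        · intro z hz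
          rw [Ideal.mem_comap, Ideal.Quotient.eq_zero_iff_mem.mpr hz]
          exact Q₁.zero_mem
        · intro heq
          apply hne
          rw [← Ideal.map_comap_of_surjective _ hsurj Q₁, ← heq]
          exact Ideal.map_quotient_self P
      exact H _ (Ideal.comap_isPrime _ _) hlt)
    (Q.map (Ideal.Quotient.mk P)) (Ideal.mem_map_of_mem _ hbQ)
  rw [← hcomapQ, this, hmax]

theorem exists_quasiSection_prime {O : Type u} {B : Type*} [CommRing O] [CommRing B]
    [IsRegularLocalRing O] (hdim : ringKrullDim O ≤ 1) [IsNoetherianRing B] [IsLocalRing B]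
    (φ : O →+* B) [hφ : IsLocalHom φ] (𝔭₀ : Ideal B) [h𝔭₀ : 𝔭₀.IsPrime] (h0 : 𝔭₀.comap φ = ⊥) :
    ∃ P : Ideal B, P.IsPrime ∧ 𝔭₀ ≤ P ∧ P.comap φ = ⊥ ∧
      ∀ Q : Ideal B, Q.IsPrime → P ≤ Q → Q.comap φ = maximalIdeal O → Q = maximalIdeal B := by
  have hdom : IsDomain O := Groth.Agent.Lib.RegularLocal.isDomain O
  have hK : Ring.KrullDimLE 1 O := Ring.krullDimLE_iff.mpr hdim
  have hprimes : ∀ I : Ideal O, I.IsPrime → I = ⊥ ∨ I = maximalIdeal O := by
    intro I hI
    by_cases h : I = ⊥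
    · exact Or.inl h
    · right
      have := Ring.krullDimLE_one_iff_of_noZeroDivisors.mp hK I h hI
      exact IsLocalRing.eq_maximalIdeal this
  obtain ⟨t, ht⟩ : ∃ t : O, maximalIdeal O = Ideal.span {t} := by
    have hfg : (maximalIdeal O).FG := IsNoetherian.noetherian _
    have hsf : (maximalIdeal O).spanFinrank ≤ 1 := by
      have := IsRegularLocalRing.spanFinrank_maximalIdeal (R := O)
      rw [← this] at hdim
      exact_mod_cast hdim
    rcases Nat.le_one_iff_eq_zero_or_eq_one.mp hsf with h | h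
    · refine ⟨0, ?_⟩
      rw [(Submodule.spanFinrank_eq_zero_iff_eq_bot hfg).mp h]; simp
    · obtain ⟨⟨a, ha⟩, -⟩ := (Submodule.spanFinrank_eq_one_iff _).mp h
      exact ⟨a, ha⟩
  have hmaxc : (maximalIdeal B).comap φ = maximalIdeal O :=
    ((IsLocalRing.local_hom_TFAE φ).out 0 4).mp hφ
  let S : Set (Ideal B) := {P | P.IsPrime ∧ 𝔭₀ ≤ P ∧ P.comap φ = ⊥}
  have hS : S.Nonempty := ⟨𝔭₀, h𝔭₀, le_rfl, h0⟩
  obtain ⟨P, hPS, hPmax⟩ :=
    set_has_maximal_iff_noetherian.mpr (inferInstance : IsNoetherian B B) S hS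
  obtain ⟨hPp, h𝔭₀P, hPc⟩ := hPS
  refine ⟨P, hPp, h𝔭₀P, hPc, ?_⟩
  intro Q hQ hPQ hQc
  by_cases ht0 : t = 0
  · have hm0 : maximalIdeal O = ⊥ := by rw [ht, ht0]; simp
    have hmS : maximalIdeal B ∈ S :=
      ⟨inferInstance, le_maximalIdeal h𝔭₀.ne_top, by rw [hmaxc, hm0]⟩
    have hPm : P = maximalIdeal B := by
      by_contra hne
      exact hPmax _ hmS (lt_of_le_of_ne (le_maximalIdeal hPp.ne_top) hne)
    exact le_antisymm (le_maximalIdeal hQ.ne_top) (hPm ▸ hPQ)
  · have htm : t ∈ maximalIdeal O := by rw [ht]; exact Ideal.mem_span_singleton_self t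
    have hbm : φ t ∈ maximalIdeal B := by
      have : t ∈ (maximalIdeal B).comap φ := by rw [hmaxc]; exact htm
      exact this
    have hbP : φ t ∉ P := by
      intro h
      have : t ∈ Ideal.comap φ P := h
      rw [hPc] at this
      exact ht0 (by simpa using this)
    refine eq_maximalIdeal_of_maximal_avoiding (φ t) hbm P hbP ?_ Q hPQ ?_
    · intro Q₁ hQ₁ hlt
      have hnS : Q₁ ∉ S := fun h => hPmax Q₁ h hlt
      have hc : Q₁.comap φ ≠ ⊥ := fun h => hnS ⟨hQ₁, h𝔭₀P.trans hlt.le, h⟩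
      have := (hprimes _ (Ideal.comap_isPrime φ Q₁)).resolve_left hc
      have htQ : t ∈ Q₁.comap φ := this ▸ htm
      exact htQ
    · have htQ : t ∈ Q.comap φ := hQc ▸ htm
      exact htQ

end Groth.Agent.Lib.H80QuasiSec
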