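import Mathlib
import Groth.Agent.Lib.H80QuasiSec1

/-!
# helper80: quasi-sections through a point over a regular one-dimensional base (point level)

`exists_quasiSection_point` : `Y` irreducible locally Noetherian, `f : X ⟶ Y` locally of finite type, `x : X` with
`𝒪_{Y, f x}` regular of dimension `≤ 1`, `ξ ⤳ x` a point over the generic point of `Y`.  Then there is a point
`ζ` with `ξ ⤳ ζ ⤳ x`, lying over the generic point of `Y`, such that `x` is the only point of
`closure {ζ}` generizing to `x` in the fibre of `f x`.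
-/

set_option autoImplicit false
universe u
open CategoryTheory AlgebraicGeometry

namespace Groth.Agent.Lib.H80QuasiSec

open IsLocalRing

theorem exists_quasiSection_point {X Y : Scheme.{u}} [IrreducibleSpace Y] [IsLocallyNoetherian Y]
    (f : X ⟶ Y) [LocallyOfFiniteType f] (x : X)
    (hreg : IsRegularLocalRing (Y.presheaf.stalk (f x)))
    (hdim : ringKrullDim (Y.presheaf.stalk (f x)) ≤ 1)
    (ξ : X) (hξx : ξ ⤳ x) (hξ : f ξ = genericPoint Y) :
    ∃ ζ : X, ξ ⤳ ζ ∧ ζ ⤳ x ∧ f ζ = genericPoint Y ∧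
      ∀ z : X, ζ ⤳ z → z ⤳ x → f z = f x → z = x := by
  have hXN : IsLocallyNoetherian X := LocallyOfFiniteType.isLocallyNoetherian f
  have hdom : IsDomain (Y.presheaf.stalk (f x)) := Groth.Agent.Lib.RegularLocal.isDomain _
  have hsq : ∀ p : Spec (X.presheaf.stalk x),
      (Y.fromSpecStalk (f x)) ((Spec.map (f.stalkMap x)) p) = f ((X.fromSpecStalk x) p) := by
    intro p
    have := congrArg (fun g => g.base p) (Scheme.SpecMap_stalkMap_fromSpecStalk (f := f) (x := x))
    exact this
  have hinjy : Function.Injective (Y.fromSpecStalk (f x)) :=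
    (Y.fromSpecStalk (f x)).isEmbedding.injective
  obtain ⟨p₀, hp₀⟩ : ξ ∈ Set.range (X.fromSpecStalk x) := by
    rw [Scheme.range_fromSpecStalk]; exact hξx
  obtain ⟨bot, hbotdef⟩ : ∃ b : Spec (Y.presheaf.stalk (f x)), b.asIdeal = ⊥ :=
    ⟨⟨⊥, Ideal.isPrime_bot⟩, rfl⟩
  have hbot : (Y.fromSpecStalk (f x)) bot = genericPoint Y := by
    have hη : genericPoint Y ⤳ f x := genericPoint_specializes _
    obtain ⟨p', hp'⟩ : genericPoint Y ∈ Set.range (Y.fromSpecStalk (f x)) := by
      rw [Scheme.range_fromSpecStalk]; exact hη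
    have h1 : bot ⤳ p' := (PrimeSpectrum.le_iff_specializes _ _).mp (by
      change bot.asIdeal ≤ p'.asIdeal
      rw [hbotdef]; exact bot_le)
    have h2 : (Y.fromSpecStalk (f x)) bot ⤳ genericPoint Y :=
      hp' ▸ h1.map (Y.fromSpecStalk (f x)).continuous
    exact (h2.antisymm (genericPoint_specializes _)).eq
  have h0 : p₀.asIdeal.comap (f.stalkMap x).hom = ⊥ := by
    have h1 : (Spec.map (f.stalkMap x)) p₀ = bot := by
      apply hinjy
      rw [hsq, hp₀, hξ, hbot]
    rw [← hbotdef, ← h1]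
    rfl
  obtain ⟨P, hPp, hp₀P, hPc, hPQ⟩ := exists_quasiSection_prime hdim (f.stalkMap x).hom p₀.asIdeal h0
  obtain ⟨pP, hpP⟩ : ∃ b : Spec (X.presheaf.stalk x), b.asIdeal = P := ⟨⟨P, hPp⟩, rfl⟩
  refine ⟨(X.fromSpecStalk x) pP, ?_, ?_, ?_, ?_⟩
  · rw [← hp₀]
    refine Specializes.map ?_ (X.fromSpecStalk x).continuous
    refine (PrimeSpectrum.le_iff_specializes _ _).mp ?_
    change p₀.asIdeal ≤ pP.asIdeal
    rw [hpP]; exact hp₀P
  · have : (X.fromSpecStalk x) pP ∈ Set.range (X.fromSpecStalk x) := ⟨pP, rfl⟩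
    rw [Scheme.range_fromSpecStalk] at this
    exact this
  · rw [← hsq, ← hbot]
    congr 1
    apply PrimeSpectrum.ext
    rw [hbotdef, ← hPc, ← hpP]
    rfl
  · intro z hζz hzx hfz
    obtain ⟨Q, hQ⟩ : z ∈ Set.range (X.fromSpecStalk x) := by
      rw [Scheme.range_fromSpecStalk]; exact hzx
    have hPQ' : P ≤ Q.asIdeal := by
      rw [← hpP]
      have h1 : pP ⤳ Q := by
        rw [← (X.fromSpecStalk x).isEmbedding.isInducing.specializes_iff, hQ]
        exact hζz
      exact (PrimeSpectrum.le_iff_specializes _ _).mpr h1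
    have hQc : Q.asIdeal.comap (f.stalkMap x).hom = maximalIdeal (Y.presheaf.stalk (f x)) := by
      have h1 : (Spec.map (f.stalkMap x)) Q = closedPoint (Y.presheaf.stalk (f x)) := by
        apply hinjy
        rw [hsq, hQ, hfz, Scheme.fromSpecStalk_closedPoint]
      have := congrArg PrimeSpectrum.asIdeal h1
      exact this
    have hQm := hPQ Q.asIdeal Q.isPrime hPQ' hQc
    have hQcl : Q = closedPoint (X.presheaf.stalk x) := PrimeSpectrum.ext hQm
    rw [← hQ, hQcl, Scheme.fromSpecStalk_closedPoint]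

end Groth.Agent.Lib.H80QuasiSec
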