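import Mathlib
import Groth.Agent.Lib.H80QuasiSec2
import Groth.Agent.Lib.H80QuasiSec3
import Groth.Agent.Lib.H69RedInduced

/-!
# helper80: existence of quasi-sections over a regular one-dimensional base (EGA IV 14.5.x)

`exists_quasiSection` : `Y` irreducible locally Noetherian, `f : X ⟶ Y` locally of finite type, `x : X` closed in its
fibre with `𝒪_{Y, f x}` regular of dimension `≤ 1`, `ξ ⤳ x` a point over the generic point of `Y`.  Then there is an
integral subscheme `T` of `X` through `x`, contained in `closure {ξ}`, quasi-finite, quasi-compact and dominant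
over `Y`.
-/

set_option autoImplicit false
universe u
open CategoryTheory AlgebraicGeometry TopologicalSpace

namespace Groth.Agent.Lib.H80QuasiSec

open Groth.Agent.Lib.H69RedInduced

theorem exists_quasiSection {X Y : Scheme.{u}} [IrreducibleSpace Y] [IsLocallyNoetherian Y]
    (f : X ⟶ Y) [LocallyOfFiniteType f] (x : X)
    (hreg : IsRegularLocalRing (Y.presheaf.stalk (f x)))
    (hdim : ringKrullDim (Y.presheaf.stalk (f x)) ≤ 1)
    (hx : ∀ x' : X, f x' = f x → x ⤳ x' → x' = x)
    (ξ : X) (hξx : ξ ⤳ x) (hξ : f ξ = genericPoint Y) :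
    ∃ (T : Scheme.{u}) (i : T ⟶ X), IsImmersion i ∧ IrreducibleSpace ↥T ∧ IsReduced T ∧
      x ∈ Set.range i.base ∧ Set.range i.base ⊆ closure {ξ} ∧
      LocallyOfFiniteType (i ≫ f) ∧ LocallyQuasiFinite (i ≫ f) ∧ QuasiCompact (i ≫ f) ∧
      IsDominant (i ≫ f) := by
  obtain ⟨ζ, hξζ, hζx, hfζ, hζmax⟩ := exists_quasiSection_point f x hreg hdim ξ hξx hξ
  obtain ⟨C, hC⟩ : ∃ C : Closeds X, (C : Set X) = closure {ζ} := ⟨⟨closure {ζ}, isClosed_closure⟩, rfl⟩
  have hrange : Set.range (redSubι C) = closure {ζ} := by rw [range_redSubι, hC]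
  have hinj : Function.Injective (redSubι C) := (redSubι C).isClosedEmbedding.injective
  have hind : Topology.IsInducing (redSubι C) := (redSubι C).isClosedEmbedding.isInducing
  -- points
  obtain ⟨x₀, hx₀⟩ : x ∈ Set.range (redSubι C) := by
    rw [hrange]; exact specializes_iff_mem_closure.mp hζx
  obtain ⟨ζ₀, hζ₀⟩ : ζ ∈ Set.range (redSubι C) := by
    rw [hrange]; exact subset_closure rfl
  have hζ₀gen : ∀ z : redSub C, ζ₀ ⤳ z := by
    intro z
    rw [← hind.specializes_iff, hζ₀, specializes_iff_mem_closure, ← hrange]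
    exact ⟨z, rfl⟩
  -- quasi-finiteness at `x₀`
  have hqf : (redSubι C ≫ f).QuasiFiniteAt x₀ := by
    apply quasiFiniteAt_of_closed_of_maximal
    · intro z hgz hsp
      apply hinj
      rw [hx₀]
      refine hx _ ?_ ?_
      · have : f ((redSubι C) z) = f ((redSubι C) x₀) := hgz
        rw [this, hx₀]
      · rw [← hx₀]; exact hsp.map (redSubι C).continuous
    · intro z hgz hsp
      apply hinj
      rw [hx₀]
      refine hζmax _ ?_ ?_ ?_
      · rw [← hζ₀]; exact (hζ₀gen z).map (redSubι C).continuous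
      · rw [← hx₀]; exact hsp.map (redSubι C).continuous
      · have : f ((redSubι C) z) = f ((redSubι C) x₀) := hgz
        rw [this, hx₀]
  -- an affine open neighbourhood of `x₀` inside the quasi-finite locus
  obtain ⟨_, ⟨W, hW, rfl⟩, hx₀W, hWle⟩ := (redSub C).isBasis_affineOpens.exists_subset_of_mem_open
    (show x₀ ∈ ((redSubι C ≫ f).quasiFiniteLocus : Set (redSub C)) from hqf)
    (redSubι C ≫ f).quasiFiniteLocus.isOpen
  replace hW : IsAffineOpen W := hW
  obtain ⟨W', hW'⟩ : ∃ W' : (redSub C).Opens, W' = W := ⟨W, rfl⟩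
  subst hW'
  have hζ₀W : ζ₀ ∈ W' := (hζ₀gen x₀).mem_open W'.isOpen hx₀W
  refine ⟨W', W'.ι ≫ redSubι C, inferInstance, ?_, inferInstance, ?_, ?_, ?_, ?_, ?_, ?_⟩
  · apply irreducibleSpace_of_forall_specializes (⟨ζ₀, hζ₀W⟩ : W')
    intro z
    exact (subtype_specializes_iff _ _).mpr (hζ₀gen z.1)
  · exact ⟨⟨x₀, hx₀W⟩, hx₀⟩
  · rintro _ ⟨z, rfl⟩
    have h1 : (redSubι C) (W'.ι z) ∈ closure {ζ} := by rw [← hrange]; exact ⟨_, rfl⟩
    have h2 : closure {ζ} ⊆ closure {ξ} :=
      closure_minimal (Set.singleton_subset_iff.mpr (specializes_iff_mem_closure.mp hξζ))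
        isClosed_closure
    exact h2 h1
  · rw [Category.assoc]; infer_instance
  · rw [Category.assoc, ← Scheme.Hom.quasiFiniteLocus_eq_top_iff, Scheme.Hom.quasiFiniteLocus_comp]
    rw [eq_top_iff]
    rintro z -
    exact hWle z.2
  · have : CompactSpace W' := isCompact_iff_compactSpace.mp hW.isCompact
    infer_instance
  · refine ⟨?_⟩
    have h1 : (W'.ι ≫ redSubι C ≫ f) ⟨ζ₀, hζ₀W⟩ = genericPoint Y := by
      change f ((redSubι C) ζ₀) = _
      rw [hζ₀, hfζ]
    rw [Category.assoc]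
    intro z
    have h2 : genericPoint Y ⤳ z := genericPoint_specializes z
    rw [specializes_iff_mem_closure] at h2
    exact closure_mono (Set.singleton_subset_iff.mpr (Set.mem_range.mpr ⟨(⟨ζ₀, hζ₀W⟩ : W'), h1⟩)) h2

end Groth.Agent.Lib.H80QuasiSec
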