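import Groth.Agent.Lib.EquidimRestrict2
import Groth.Agent.Lib.DimIneqComponent
import Groth.Agent.Lib.H80QuasiSec4
import Mathlib

/-!
# Quasi-sections of equidimensional morphisms (helper63)

EGA IV 14.5-type statement: if `f` is equidimensional at a point `x` closed in its fibre, there is
an irreducible reduced subscheme through `x` which is quasi-finite and dominant over the base.

* `rt_eq_td`, `rt_lt_of_specializes_ne`, `rt_eq_zero_of_closed_in_fibre`: relative transcendence
  degrees inside a fibre.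
* `exists_cut`: cutting by a parameter of the fibre.
-/

set_option autoImplicit false
universe u
open CategoryTheory AlgebraicGeometry TopologicalSpace Topology

namespace Groth.Agent.Lib.QuasiSection

open Groth.Agent.Lib.H30GenFib Groth.Agent.Lib.H30DimRel Groth.Agent.Lib.H30IrrFib
  Groth.Agent.Lib.H30EquidimAt Groth.Agent.Lib.EquidimOpen Groth.Agent.Lib.H56LocDim
  Groth.Agent.Lib.H69RedInduced Groth.Agent.Lib.EquidimRestrict Groth.Agent.Lib.H30DimField
  Groth.Agent.Lib.H30FibRes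

section Fib

variable {X Y : Scheme.{u}} (f : X ⟶ Y) [LocallyOfFiniteType f]

/-- the relative transcendence degree at a point of a fibre is the transcendence degree over the
residue field of the base point -/
theorem rt_eq_td (y : Y) (w : f.fiber y) :
    letI := fiberOver f y
    haveI := lft_fiber f y
    td (Y.residueField y) (f.fiber y) w = (rt f (f.fiberι y w) : ℤ) := by
  letI := fiberOver f y
  haveI := lft_fiber f y
  apply td_eq_of_trdeg_eq
  rw [trdeg_fiber_eq f y w]
  exact trdeg_eq_rt f _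

/-- inside a fibre the relative transcendence degree drops strictly along proper
specializations -/
theorem rt_lt_of_specializes_ne (w' τ : X) (h : w' ⤳ τ) (hf : f w' = f τ) (hne : w' ≠ τ) :
    rt f τ < rt f w' := by
  letI := fiberOver f (f τ)
  haveI := lft_fiber f (f τ)
  obtain ⟨a, ha⟩ : w' ∈ Set.range (f.fiberι (f τ)) := by rw [f.range_fiberι]; exact hf
  obtain ⟨b, hb⟩ : τ ∈ Set.range (f.fiberι (f τ)) := by rw [f.range_fiberι]; rfl
  have hab : a ⤳ b := by
    apply (f.fiberι (f τ)).isEmbedding.isInducing.specializes_iff.mp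
    rw [ha, hb]; exact h
  have hne' : a ≠ b := by
    intro heq
    apply hne
    exact ha.symm.trans ((congrArg (f.fiberι (f τ)) heq).trans hb)
  have h1 := (isDimFun (Y.residueField (f τ)) (f.fiber (f τ)) a b hab hne').1
  rw [rt_eq_td f (f τ) a, rt_eq_td f (f τ) b, ha, hb] at h1
  exact_mod_cast h1

/-- a point closed in its fibre has residue field algebraic over that of its image -/
theorem rt_eq_zero_of_closed_in_fibre (x : X)
    (hcl : ∀ x' : X, f x' = f x → x ⤳ x' → x' = x) : rt f x = 0 := by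
  letI := fiberOver f (f x)
  haveI := lft_fiber f (f x)
  have hclosed : IsClosed ({f.asFiber x} : Set (f.fiber (f x))) := by
    rw [← closure_eq_iff_isClosed]
    apply Set.Subset.antisymm _ subset_closure
    intro b hb
    have h1 : f.asFiber x ⤳ b := specializes_iff_mem_closure.mpr hb
    have h2 := h1.map (f.fiberι (f x)).continuous
    rw [f.fiberι_asFiber] at h2
    have hfb : f (f.fiberι (f x) b) = f x := by
      have : f.fiberι (f x) b ∈ Set.range (f.fiberι (f x)) := ⟨b, rfl⟩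
      rw [f.range_fiberι (f x)] at this
      exact this
    have h3 := hcl _ hfb h2
    have h4 : b = f.asFiber x := by
      apply (f.fiberι (f x)).isEmbedding.injective
      rw [h3, f.fiberι_asFiber]
    rw [h4]; rfl
  have h0 := td_eq_zero_of_isClosed (Y.residueField (f x)) (f.fiber (f x)) (f.asFiber x) hclosed
  rw [rt_eq_td f (f x) (f.asFiber x), f.fiberι_asFiber] at h0
  exact_mod_cast h0

end Fib

section Cut

variable {X Y : Scheme.{u}}

/-- the set of maximal points of the fibre through `x` generizing `x` is finite -/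
theorem finite_max_fibre_pts (f : X ⟶ Y) [LocallyOfFiniteType f] (x : X) :
    {w : X | w ⤳ x ∧ f w = f x ∧ ∀ w' : X, f w' = f x → w' ⤳ w → w' = w}.Finite := by
  letI := fiberOver f (f x)
  haveI := lft_fiber f (f x)
  haveI := isLocallyNoetherian (Y.residueField (f x)) (f.fiber (f x))
  obtain ⟨V, hV, hxV, -⟩ := exists_isAffineOpen_mem_and_subset (X := f.fiber (f x))
    (x := f.asFiber x) (U := ⊤) trivial
  haveI : IsNoetherianRing Γ(f.fiber (f x), V) :=
    IsLocallyNoetherian.component_noetherian ⟨V, hV⟩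
  haveI : NoetherianSpace V := noetherianSpace_of_isAffineOpen V hV
  have hfin : {ζ : f.fiber (f x) | ζ ∈ V ∧ IsMaxPt ζ}.Finite := by
    refine ((Groth.Agent.S2594.finite_isMax V.toScheme).image V.ι).subset ?_
    rintro ζ ⟨hζV, hζmax⟩
    obtain ⟨ζ₀, rfl⟩ : ζ ∈ Set.range V.ι := by rw [Scheme.Opens.range_ι]; exact hζV
    exact ⟨ζ₀, Groth.Agent.S2594.isMax_of_ι V ζ₀ hζmax, rfl⟩
  refine (hfin.image (f.fiberι (f x))).subset ?_
  rintro w ⟨hwx, hfw, hwmax⟩
  obtain ⟨ζ, rfl⟩ : w ∈ Set.range (f.fiberι (f x)) := by rw [f.range_fiberι]; exact hfw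
  have hζx : ζ ⤳ f.asFiber x := by
    apply (f.fiberι (f x)).isEmbedding.isInducing.specializes_iff.mp
    rw [f.fiberι_asFiber]; exact hwx
  refine ⟨ζ, ⟨hζx.mem_open V.isOpen hxV, ?_⟩, rfl⟩
  intro ζ' hζ'
  have h1 := hζ'.map (f.fiberι (f x)).continuous
  have h2 : f (f.fiberι (f x) ζ') = f x := by
    have : f.fiberι (f x) ζ' ∈ Set.range (f.fiberι (f x)) := ⟨ζ', rfl⟩
    rw [f.range_fiberι (f x)] at this
    exact this
  exact (f.fiberι (f x)).isEmbedding.injective (hwmax _ h2 h1)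

/-- **Cutting by a parameter of the fibre.**  If all local fibre dimensions near `x` equal `e ≥ 1`
and `x` is closed in its fibre, there is a generization `x'` of `x` of codimension at most one such
that the points of the fibre through `x` lying between `x'` and `x` have relative transcendence
degree at most `e - 1`. -/
theorem exists_cut [IsLocallyNoetherian Y] (f : X ⟶ Y) [LocallyOfFiniteType f] (x : X) (e : ℕ)
    (U : X.Opens) (hxU : x ∈ U) (hfib : ∀ z ∈ U, FlatMor.fibreDimAt f z = (e : WithBot ℕ∞))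
    (he : 1 ≤ e) (hcl : ∀ x' : X, f x' = f x → x ⤳ x' → x' = x) :
    ∃ x' : X, x' ⤳ x ∧ ringKrullDim (X.presheaf.stalk x') ≤ 1 ∧
      ∀ τ : X, x' ⤳ τ → τ ⤳ x → f τ = f x → rt f τ + 1 ≤ e := by
  classical
  haveI : IsLocallyNoetherian X := LocallyOfFiniteType.isLocallyNoetherian f
  obtain ⟨W, hW, hxW, hWU⟩ := exists_isAffineOpen_mem_and_subset (x := x) (U := U) hxU
  haveI : IsNoetherianRing Γ(X, W) := IsLocallyNoetherian.component_noetherian ⟨W, hW⟩
  obtain ⟨M, hM⟩ : ∃ M : Set X,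
      M = {w : X | w ⤳ x ∧ f w = f x ∧ ∀ w' : X, f w' = f x → w' ⤳ w → w' = w} := ⟨_, rfl⟩
  have hMfin : M.Finite := by rw [hM]; exact finite_max_fibre_pts f x
  have hMWfin : {w : ↥W | w.1 ∈ M}.Finite := hMfin.preimage Subtype.val_injective.injOn
  -- `x` is not a maximal point of its fibre
  have hxM : x ∉ M := by
    intro hx
    rw [hM] at hx
    obtain ⟨w, hfw, hwx, -, hrt⟩ := exists_rt_eq_fibreDimAt f x
    have hwx' : w = x := hx.2.2 w hfw hwx
    rw [hwx', rt_eq_zero_of_closed_in_fibre f x hcl, hfib x hxU] at hrt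
    have : (0 : ℕ) = e := by exact_mod_cast hrt
    omega
  -- prime avoidance
  have hnot : ¬ (((hW.primeIdealOf ⟨x, hxW⟩).asIdeal : Set Γ(X, W)) ⊆
      ⋃ w ∈ ((hMWfin.toFinset : Finset ↥W) : Set ↥W),
        ((hW.primeIdealOf w).asIdeal : Set Γ(X, W))) := by
    rw [Ideal.subset_union_prime (⟨x, hxW⟩ : ↥W) ⟨x, hxW⟩
      (fun w _ _ _ => (hW.primeIdealOf w).isPrime)]
    rintro ⟨w, hw, hle⟩
    rw [Set.Finite.mem_toFinset] at hw
    have hwM : w.1 ∈ M := hw
    have hwx : w.1 ⤳ x := by rw [hM] at hwM; exact hwM.1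
    -- `p_x ≤ p_w` gives `x ⤳ w`
    have h0 : hW.primeIdealOf ⟨x, hxW⟩ ⤳ hW.primeIdealOf w :=
      (PrimeSpectrum.le_iff_specializes _ _).mp hle
    have h1 := h0.map hW.fromSpec.continuous
    rw [hW.fromSpec_primeIdealOf, hW.fromSpec_primeIdealOf] at h1
    have : w.1 = x := (hwx.antisymm h1).eq
    exact hxM (this ▸ hwM)
  rw [Set.not_subset] at hnot
  obtain ⟨t, htx, htM⟩ := hnot
  have htM' : ∀ w : X, ∀ hw : w ∈ W, w ∈ M → t ∉ (hW.primeIdealOf ⟨w, hw⟩).asIdeal := by
    intro w hw hwM hmem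
    apply htM
    simp only [Set.mem_iUnion]
    exact ⟨⟨w, hw⟩, by simpa using hwM, hmem⟩
  -- a minimal prime over `t` below `p_x`
  obtain ⟨q, hq, hqx⟩ := Ideal.exists_minimalPrimes_le
    (show Ideal.span {t} ≤ (hW.primeIdealOf ⟨x, hxW⟩).asIdeal from
      (Ideal.span_singleton_le_iff_mem _).mpr htx)
  haveI : q.IsPrime := hq.1.1
  have htq : t ∈ q := hq.1.2 (Ideal.mem_span_singleton_self t)
  obtain ⟨Q, hQ⟩ : ∃ Q : ↥(Spec Γ(X, W)), Q.asIdeal = q :=
    ⟨(⟨q, inferInstance⟩ : PrimeSpectrum Γ(X, W)), rfl⟩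
  obtain ⟨x', hx'⟩ : ∃ x' : X, x' = hW.fromSpec Q := ⟨_, rfl⟩
  have hx'W : x' ∈ W := by
    rw [hx', ← SetLike.mem_coe, ← hW.range_fromSpec]; exact ⟨_, rfl⟩
  have hpx' : hW.primeIdealOf ⟨x', hx'W⟩ = Q := by
    apply hW.fromSpec.isOpenEmbedding.injective
    rw [hW.fromSpec_primeIdealOf]
    exact hx'
  have hx'x : x' ⤳ x := by
    have h0 : Q ⤳ hW.primeIdealOf ⟨x, hxW⟩ := by
      refine (PrimeSpectrum.le_iff_specializes Q (hW.primeIdealOf ⟨x, hxW⟩)).mp ?_
      show Q.asIdeal ≤ _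
      rw [hQ]; exact hqx
    have h1 := h0.map hW.fromSpec.continuous
    rw [hW.fromSpec_primeIdealOf, ← hx'] at h1
    exact h1
  refine ⟨x', hx'x, ?_, ?_⟩
  · rw [Groth.Agent.Lib.DimIneqComponent.ringKrullDim_stalk_eq_height hW x' hx'W, hpx', hQ]
    have := Ideal.height_le_one_of_isPrincipal_of_mem_minimalPrimes (Ideal.span {t}) q hq
    exact_mod_cast this
  · intro τ hx'τ hτx hfτ
    have hτW : τ ∈ W := hτx.mem_open W.isOpen hxW
    have hτU : τ ∈ U := hWU hτW
    have htτ : t ∈ (hW.primeIdealOf ⟨τ, hτW⟩).asIdeal := by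
      have hle := Groth.Agent.Lib.H30DimFormulaGen.primeIdealOf_le_of_specializes hW τ x' hτW
        hx'τ hx'W
      rw [hpx', hQ] at hle
      exact hle htq
    obtain ⟨w₀, hfw₀, hw₀τ, hw₀max, hrt⟩ := exists_rt_eq_fibreDimAt f τ
    rw [hfib τ hτU] at hrt
    have hrt' : rt f w₀ = e := by exact_mod_cast hrt
    have hw₀M : w₀ ∈ M := by
      rw [hM]
      refine ⟨hw₀τ.trans hτx, hfw₀.trans hfτ, ?_⟩
      intro w' hfw' hw'
      exact hw₀max w' (hfw'.trans hfτ.symm) hw'
    have hw₀W : w₀ ∈ W := (hw₀τ.trans hτx).mem_open W.isOpen hxW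
    have hne : w₀ ≠ τ := by
      rintro rfl
      exact htM' w₀ hw₀W hw₀M htτ
    have := rt_lt_of_specializes_ne f w₀ τ hw₀τ hfw₀ hne
    omega

end Cut

section Point

variable {Y : Scheme.{u}} [IsLocallyNoetherian Y]

/-- the local dimension in the statement of `restrict_main` is the local fibre dimension of the
restriction -/
theorem fibreDimAt_redSub_eq {X : Scheme.{u}} (f : X ⟶ Y) (X' : Closeds X) (xZ : ↥(redSub X'))
    (x : X) (hxZ : redSubι X' xZ = x) (hx : x ∈ X') :
    FlatMor.fibreDimAt (redSubι X' ≫ f) xZ =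
      FlatMor.localDim ↥((X' : Set X) ∩ f.base ⁻¹' {f.base x}) ⟨x, ⟨hx, rfl⟩⟩ := by
  subst hxZ
  rw [fibreDimAt_eq_fibLocDim]
  exact fibLocDim_eq_localDim_inter (redSubι X') (redSubι X').isEmbedding f.base
    (redSubι X' ≫ f).base (fun _ => rfl) xZ (X' : Set X) (range_redSubι X') hx

/-- **Key point of the quasi-section.**  If `f` is equidimensional at a point `x` closed in its
fibre, there is a generization `ζ` of `x` over a maximal point of `Y` such that `x` is the only
point of its fibre between `ζ` and `x`. -/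
theorem exists_quasiSection_point_aux (e : ℕ) : ∀ (X : Scheme.{u}) (f : X ⟶ Y)
    [LocallyOfFiniteType f] (x : X), EGA43.IsEquidimAt f x →
    FlatMor.fibreDimAt f x = (e : WithBot ℕ∞) → (∀ x' : X, f x' = f x → x ⤳ x' → x' = x) →
    ∃ ζ : X, ζ ⤳ x ∧ IsMaxPt (f ζ) ∧ ∀ z : X, ζ ⤳ z → z ⤳ x → f z = f x → z = x := by
  induction e with
  | zero =>
    intro X f _ x hf he hcl
    obtain ⟨e₀, U, hxU, hmaxU, hfibU⟩ := (isEquidimAt_iff f x).mp hf
    obtain ⟨ζ, hζmax, hζx⟩ := exists_max_generization x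
    have hζU : ζ ∈ U := hζx.mem_open U.isOpen hxU
    refine ⟨ζ, hζx, (hmaxU ζ hζU hζmax).1, ?_⟩
    intro z _ hzx hfz
    by_contra hne
    have h1 := rt_lt_of_specializes_ne f z x hzx hfz hne
    have h2 := Groth.Agent.Lib.FibreDimStrata.rt_le_fibreDimAt f z
    have hzU : z ∈ U := hzx.mem_open U.isOpen hxU
    rw [hfibU z hzU, ← hfibU x hxU, he] at h2
    have h3 : rt f z ≤ 0 := by exact_mod_cast h2
    omega
  | succ e ih =>
    intro X f _ x hf he hcl
    obtain ⟨e₀, U, hxU, hmaxU, hfibU⟩ := (isEquidimAt_iff f x).mp hf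
    have he₀ : e₀ = e + 1 := by
      have := hfibU x hxU
      rw [he] at this
      exact_mod_cast this.symm
    subst he₀
    obtain ⟨x', hx'x, hdimx', hrtx'⟩ := exists_cut f x (e + 1) U hxU hfibU (by omega) hcl
    -- the closed subset
    have hxX' : x ∈ clos x' := specializes_iff_mem_closure.mp hx'x
    obtain ⟨xZ, hxZ⟩ := exists_redSub_pt x' x hx'x
    obtain ⟨g, hg⟩ : ∃ g : redSub (clos x') ⟶ Y, g = redSubι (clos x') ≫ f := ⟨_, rfl⟩
    haveI : LocallyOfFiniteType g := by rw [hg]; infer_instance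
    have hgpt : ∀ z : ↥(redSub (clos x')), g z = f (redSubι (clos x') z) := by
      intro z; rw [hg]; rfl
    have hL := fibreDimAt_redSub_eq f (clos x') xZ x hxZ hxX'
    rw [← hg] at hL
    -- the bound on the fibre dimension of the restriction
    have hbound : FlatMor.fibreDimAt g xZ ≤ ((e : ℕ) : WithBot ℕ∞) := by
      obtain ⟨w, hgw, hwxZ, -, hrt⟩ := exists_rt_eq_fibreDimAt g xZ
      rw [← hrt]
      have h1 : x' ⤳ redSubι (clos x') w := specializes_redSubι x' w
      have h2 : redSubι (clos x') w ⤳ x := by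
        rw [← hxZ]; exact hwxZ.map (redSubι (clos x')).continuous
      have h3 : f (redSubι (clos x') w) = f x := by
        rw [← hgpt, hgw, hgpt, hxZ]
      have h4 := hrtx' _ h1 h2 h3
      have h5 : rt g w = rt f (redSubι (clos x') w) := by
        rw [hg]; exact rt_comp_of_isPreimmersion f _ w
      rw [h5]
      have : rt f (redSubι (clos x') w) ≤ e := by omega
      exact_mod_cast this
    have hdim : FlatMor.localDim ↥(((clos x' : Closeds X) : Set X) ∩ f.base ⁻¹' {f.base x})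
        ⟨x, ⟨hxX', rfl⟩⟩ + ((1 : ℕ) : WithBot ℕ∞) ≤ FlatMor.fibreDimAt f x := by
      rw [← hL, he]
      have : FlatMor.fibreDimAt g xZ + ((1 : ℕ) : WithBot ℕ∞) ≤
          ((e : ℕ) : WithBot ℕ∞) + ((1 : ℕ) : WithBot ℕ∞) := add_le_add_left hbound _
      refine this.trans (le_of_eq ?_)
      push_cast; rfl
    obtain ⟨-, hsum, hEq⟩ := restrict_main f x hf (clos x') x' rfl hxX' 1
      (by exact_mod_cast hdimx') hdim
    have hEg : EGA43.IsEquidimAt g xZ := by rw [hg]; exact hEq xZ hxZ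
    have hfdg : FlatMor.fibreDimAt g xZ = ((e : ℕ) : WithBot ℕ∞) := by
      rw [← hL, he] at hsum
      obtain ⟨C, hC, hCe⟩ := exists_nat_of_add_eq _ 1 (e + 1) hsum
      rw [hC]
      have : C = e := by omega
      rw [this]
    have hclZ : ∀ z' : ↥(redSub (clos x')), g z' = g xZ → xZ ⤳ z' → z' = xZ := by
      intro z' hgz' hsp
      apply (redSubι (clos x')).isEmbedding.injective
      rw [hxZ]
      refine hcl _ ?_ ?_
      · rw [← hgpt, hgz', hgpt, hxZ]
      · rw [← hxZ]; exact hsp.map (redSubι (clos x')).continuous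
    obtain ⟨ζZ, hζZx, hζZmax, hζZ⟩ := ih (redSub (clos x')) g xZ hEg hfdg hclZ
    refine ⟨redSubι (clos x') ζZ, ?_, ?_, ?_⟩
    · rw [← hxZ]; exact hζZx.map (redSubι (clos x')).continuous
    · rw [← hgpt]; exact hζZmax
    · intro z hζz hzx hfz
      have hx'z : x' ⤳ z := (specializes_redSubι x' ζZ).trans hζz
      obtain ⟨zZ, hzZ⟩ := exists_redSub_pt x' z hx'z
      have hind := (redSubι (clos x')).isEmbedding.isInducing
      have h1 : ζZ ⤳ zZ := by
        apply hind.specializes_iff.mp; rw [hzZ]; exact hζz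
      have h2 : zZ ⤳ xZ := by
        apply hind.specializes_iff.mp; rw [hzZ, hxZ]; exact hzx
      have h3 : g zZ = g xZ := by rw [hgpt, hgpt, hzZ, hxZ, hfz]
      rw [← hzZ, hζZ zZ h1 h2 h3, hxZ]

end Point

section Package

open Groth.Agent.Lib.H80QuasiSec

/-- Packaging of a quasi-section from its generic point (adapted from helper80's
`H80QuasiSec.exists_quasiSection`). -/
theorem exists_quasiSection_of_point {X Y : Scheme.{u}} [IrreducibleSpace Y] [IsLocallyNoetherian Y]
    (f : X ⟶ Y) [LocallyOfFiniteType f] (x : X)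
    (hx : ∀ x' : X, f x' = f x → x ⤳ x' → x' = x)
    (ζ : X) (hζx : ζ ⤳ x) (hfζ : f ζ = genericPoint Y)
    (hζmax : ∀ z : X, ζ ⤳ z → z ⤳ x → f z = f x → z = x) :
    ∃ (T : Scheme.{u}) (i : T ⟶ X), IsImmersion i ∧ IrreducibleSpace ↥T ∧ IsReduced T ∧
      x ∈ Set.range i.base ∧
      LocallyOfFiniteType (i ≫ f) ∧ LocallyQuasiFinite (i ≫ f) ∧ QuasiCompact (i ≫ f) ∧
      IsDominant (i ≫ f) := by
  obtain ⟨C, hC⟩ : ∃ C : Closeds X, (C : Set X) = closure {ζ} :=
    ⟨⟨closure {ζ}, isClosed_closure⟩, rfl⟩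
  have hrange : Set.range (redSubι C) = closure {ζ} := by rw [range_redSubι, hC]
  have hinj : Function.Injective (redSubι C) := (redSubι C).isClosedEmbedding.injective
  have hind : Topology.IsInducing (redSubι C) := (redSubι C).isClosedEmbedding.isInducing
  -- points
  obtain ⟨x₀, hx₀⟩ : x ∈ Set.range (redSubι C) := by
    rw [hrange]; exact specializes_iff_mem_closure.mp hζx
  obtain ⟨ζ₀, hζ₀⟩ : ζ ∈ Set.range (redSubι C) := by
    rw [hrange]; exact subset_closure rfl
  have hζ₀gen : ∀ z : redSub C, ζ₀ ⤳ z := by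
    intro z
    rw [← hind.specializes_iff, hζ₀, specializes_iff_mem_closure, ← hrange]
    exact ⟨z, rfl⟩
  -- quasi-finiteness at `x₀`
  have hqf : (redSubι C ≫ f).QuasiFiniteAt x₀ := by
    apply quasiFiniteAt_of_closed_of_maximal
    · intro z hgz hsp
      apply hinj
      rw [hx₀]
      refine hx _ ?_ ?_
      · have : f ((redSubι C) z) = f ((redSubι C) x₀) := hgz
        rw [this, hx₀]
      · rw [← hx₀]; exact hsp.map (redSubι C).continuous
    · intro z hgz hsp
      apply hinj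
      rw [hx₀]
      refine hζmax _ ?_ ?_ ?_
      · rw [← hζ₀]; exact (hζ₀gen z).map (redSubι C).continuous
      · rw [← hx₀]; exact hsp.map (redSubι C).continuous
      · have : f ((redSubι C) z) = f ((redSubι C) x₀) := hgz
        rw [this, hx₀]
  -- an affine open neighbourhood of `x₀` inside the quasi-finite locus
  obtain ⟨_, ⟨W, hW, rfl⟩, hx₀W, hWle⟩ := (redSub C).isBasis_affineOpens.exists_subset_of_mem_open
    (show x₀ ∈ ((redSubι C ≫ f).quasiFiniteLocus : Set (redSub C)) from hqf)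
    (redSubι C ≫ f).quasiFiniteLocus.isOpen
  replace hW : IsAffineOpen W := hW
  obtain ⟨W', hW'⟩ : ∃ W' : (redSub C).Opens, W' = W := ⟨W, rfl⟩
  subst hW'
  have hζ₀W : ζ₀ ∈ W' := (hζ₀gen x₀).mem_open W'.isOpen hx₀W
  refine ⟨W', W'.ι ≫ redSubι C, inferInstance, ?_, inferInstance, ?_, ?_, ?_, ?_, ?_⟩
  · apply irreducibleSpace_of_forall_specializes (⟨ζ₀, hζ₀W⟩ : W')
    intro z
    exact (subtype_specializes_iff _ _).mpr (hζ₀gen z.1)
  · exact ⟨⟨x₀, hx₀W⟩, hx₀⟩
  · rw [Category.assoc]; infer_instance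
  · rw [Category.assoc, ← Scheme.Hom.quasiFiniteLocus_eq_top_iff, Scheme.Hom.quasiFiniteLocus_comp]
    rw [eq_top_iff]
    rintro z -
    exact hWle z.2
  · have : CompactSpace W' := isCompact_iff_compactSpace.mp hW.isCompact
    infer_instance
  · refine ⟨?_⟩
    have h1 : (W'.ι ≫ redSubι C ≫ f) ⟨ζ₀, hζ₀W⟩ = genericPoint Y := by
      change f ((redSubι C) ζ₀) = _
      rw [hζ₀, hfζ]
    rw [Category.assoc]
    intro z
    have h2 : genericPoint Y ⤳ z := genericPoint_specializes z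
    rw [specializes_iff_mem_closure] at h2
    exact closure_mono (Set.singleton_subset_iff.mpr (Set.mem_range.mpr ⟨(⟨ζ₀, hζ₀W⟩ : W'), h1⟩)) h2

/-- **EGA IV 14.5-type quasi-sections.**  (`S4944`) -/
theorem exists_quasiSection {X Y : Scheme.{u}} [IrreducibleSpace Y] [IsLocallyNoetherian Y]
    (f : X ⟶ Y) [LocallyOfFiniteType f] (x : X) (hf : EGA43.IsEquidimAt f x)
    (hcl : ∀ x' : X, f x' = f x → x ⤳ x' → x' = x) :
    ∃ (T : Scheme.{u}) (i : T ⟶ X), IsImmersion i ∧ IrreducibleSpace ↥T ∧ IsReduced T ∧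
      x ∈ Set.range i.base ∧
      LocallyOfFiniteType (i ≫ f) ∧ LocallyQuasiFinite (i ≫ f) ∧ QuasiCompact (i ≫ f) ∧
      IsDominant (i ≫ f) := by
  obtain ⟨e₀, U, hxU, -, hfibU⟩ := (isEquidimAt_iff f x).mp hf
  obtain ⟨ζ, hζx, hζmax, hζ⟩ := exists_quasiSection_point_aux e₀ X f x hf (hfibU x hxU) hcl
  have hfζ : f ζ = genericPoint Y := (hζmax _ (genericPoint_specializes (f ζ))).symm
  exact exists_quasiSection_of_point f x hcl ζ hζx hfζ hζ

end Package

end Groth.Agent.Lib.QuasiSection
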