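import Mathlib
import Groth.Agent.Lib.QuasiSection
import Groth.Agent.Lib.H80Max1
import Groth.Agent.Lib.H80UnibranchOpen4
import Groth.Agent.Lib.H56FibDimGen

/-!
# helper80: quasi-sections and openness over a geometrically unibranch point (EGA IV 14.5.9)

* `dim_inter_le_rt`: the dimension of `closure {ζ} ∩ f⁻¹(η)` is at most the relative transcendence
  degree at the generic point of the reduced subscheme `closure {ζ}`.
* `exists_quasiSection_of_component`: condition c) of EGA IV 14.5.9 gives quasi-sections through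
  the points closed in the fibre.
* `isOpenAt_of_quasiSections`: quasi-sections through the closed points of the fibre over a
  unibranch point give openness at all points of the fibre.
-/

set_option autoImplicit false
universe u
open CategoryTheory AlgebraicGeometry TopologicalSpace Topology

namespace Groth.Agent.Lib.H80QuasiSecGU

open Groth.Agent.Lib.H30GenFib Groth.Agent.Lib.H30DimRel Groth.Agent.Lib.H30IrrFib
  Groth.Agent.Lib.H56LocDim Groth.Agent.Lib.H69RedInduced Groth.Agent.Lib.EquidimRestrict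
  Groth.Agent.Lib.QuasiSection

variable {X Y : Scheme.{u}}

theorem localDim_inter_congr (f : X ⟶ Y) (A : Set X) (z : X) (hz : z ∈ A) (y : Y) (h : f z = y) :
    FlatMor.localDim ↥(A ∩ f.base ⁻¹' {f.base z}) ⟨z, ⟨hz, rfl⟩⟩ =
      FlatMor.localDim ↥(A ∩ f.base ⁻¹' {y}) ⟨z, ⟨hz, h⟩⟩ := by
  subst h; rfl

/-- The dimension of the generic fibre of `closure {ζ} → Y` is the relative transcendence degree
at `ζ`. -/
theorem dim_inter_le_rt [IrreducibleSpace Y] (f : X ⟶ Y) [LocallyOfFiniteType f] (ζ : X)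
    (hfζ : f ζ = genericPoint Y) (ξZ : ↥(redSub (clos ζ))) (hξZ : redSubι (clos ζ) ξZ = ζ)
    (hspec : ∀ z : ↥(redSub (clos ζ)), ξZ ⤳ z) :
    topologicalKrullDim ↥(closure ({ζ} : Set X) ∩ f.base ⁻¹' {genericPoint Y}) ≤
      ((rt (redSubι (clos ζ) ≫ f) ξZ : ℕ) : WithBot ℕ∞) := by
  obtain ⟨g, hg⟩ : ∃ g : redSub (clos ζ) ⟶ Y, g = redSubι (clos ζ) ≫ f := ⟨_, rfl⟩
  rw [← hg]
  have hlft : LocallyOfFiniteType g := by rw [hg]; infer_instance
  have hgpt : ∀ z : ↥(redSub (clos ζ)), g z = f (redSubι (clos ζ) z) := by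
    intro z; rw [hg]; rfl
  have hirr : IrreducibleSpace ↥(redSub (clos ζ)) :=
    Groth.Agent.Lib.H80QuasiSec.irreducibleSpace_of_forall_specializes ξZ hspec
  have hgξ : g ξZ = genericPoint Y := by rw [hgpt, hξZ, hfζ]
  have hdense : DenseRange g.base := by
    rw [DenseRange, dense_iff_closure_eq, Set.eq_univ_iff_forall]
    intro y
    have h1 : genericPoint Y ⤳ y := genericPoint_specializes y
    rw [specializes_iff_mem_closure] at h1
    have hsub : ({genericPoint Y} : Set Y) ⊆ Set.range g.base :=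
      Set.singleton_subset_iff.mpr (Set.mem_range.mpr ⟨ξZ, hgξ⟩)
    exact closure_mono hsub h1
  have hirrF : IrreducibleSpace ↥(g.fiber (genericPoint Y)) :=
    Groth.Agent.Lib.H77GeomIrr.irreducibleSpace_fiber_genericPoint g hdense
  have h1 := fibreDimAt_eq_dim_fiber_of_irreducible g (genericPoint Y) ξZ hgξ
  have h2 := fibreDimAt_of_maximal g ξZ (fun ξ hξ => (hξ.antisymm (hspec ξ)).eq)
  rw [← h2, h1]
  have ha : Topology.IsInducing
      (fun w : ↥(g.fiber (genericPoint Y)) => redSubι (clos ζ) ((g.fiberι _) w)) :=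
    (redSubι (clos ζ)).isEmbedding.isInducing.comp (g.fiberι _).isEmbedding.isInducing
  have hb : Topology.IsInducing
      (fun t : ↥(closure ({ζ} : Set X) ∩ f.base ⁻¹' {genericPoint Y}) => (t.1 : X)) :=
    Topology.IsInducing.subtypeVal
  refine Groth.Agent.Lib.TopKrullDim.dim_le_of_range_subset _ _ hb ha ?_
  rintro _ ⟨⟨t, ht1, ht2⟩, rfl⟩
  have ht2' : f t = genericPoint Y := ht2
  obtain ⟨z, hz⟩ := exists_redSub_pt ζ t (specializes_iff_mem_closure.mpr ht1)
  have hgz : g z = genericPoint Y := by rw [hgpt, hz, ht2']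
  have hzr : z ∈ Set.range (g.fiberι (genericPoint Y)) := by
    rw [Scheme.Hom.range_fiberι]
    exact hgz
  obtain ⟨w, hw⟩ := hzr
  exact ⟨w, by simp only [hw, hz]⟩

/-- Condition c) of EGA IV 14.5.9 (at the maximal points of the fibre through `x`) yields a
quasi-section through the point `x` closed in its fibre. -/
theorem exists_quasiSection_of_component [IrreducibleSpace Y] [IsLocallyNoetherian Y]
    (f : X ⟶ Y) [LocallyOfFiniteType f] (x : X)
    (hcl : ∀ x' : X, f x' = f x → x ⤳ x' → x' = x)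
    (hc : ∀ z : X, ∀ hzy : f z = f x, (∀ z' : X, f z' = f x → z ∈ closure {z'} → z' = z) →
        ∃ Z ∈ irreducibleComponents (X : Type u), ∃ hz : z ∈ Z, Dense (f '' Z) ∧
          FlatMor.localDim ↥(Z ∩ f.base ⁻¹' {f.base x}) ⟨z, ⟨hz, hzy⟩⟩ =
            topologicalKrullDim ↥(Z ∩ f.base ⁻¹' {genericPoint Y})) :
    ∃ (T : Scheme.{u}) (i : T ⟶ X), IsImmersion i ∧ IrreducibleSpace ↥T ∧ IsReduced T ∧
      x ∈ Set.range i.base ∧
      LocallyOfFiniteType (i ≫ f) ∧ LocallyQuasiFinite (i ≫ f) ∧ QuasiCompact (i ≫ f) ∧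
      IsDominant (i ≫ f) := by
  obtain ⟨z, hfz, hzx, hzmax, hrt⟩ := exists_rt_eq_fibreDimAt f x
  obtain ⟨Z, hZ, hz, hdense, hdim⟩ := hc z hfz
    (fun z' hz' hcl' => hzmax z' hz' (specializes_iff_mem_closure.mpr hcl'))
  obtain ⟨ζ, hζ⟩ := QuasiSober.sober hZ.1 (isClosed_of_mem_irreducibleComponents Z hZ)
  have hZeq : closure {ζ} = Z := hζ.def
  subst hZeq
  have hζz : ζ ⤳ z := specializes_iff_mem_closure.mpr hz
  have hζx : ζ ⤳ x := hζz.trans hzx
  have hx : x ∈ closure ({ζ} : Set X) := specializes_iff_mem_closure.mp hζx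
  have hfζ : f ζ = genericPoint Y := by
    have h1 : closure (f '' closure {ζ}) = Set.univ := hdense.closure_eq
    rw [closure_image_closure f.continuous, Set.image_singleton] at h1
    have h2 : IsGenericPoint (f ζ) (Set.univ : Set Y) := h1
    exact h2.eq (genericPoint_spec Y)
  obtain ⟨ξZ, hξZ, hξZspec⟩ := exists_redSub_generic ζ
  obtain ⟨xZ, hxZ⟩ := exists_redSub_pt ζ x hζx
  obtain ⟨zZ, hzZ⟩ := exists_redSub_pt ζ z hζz
  obtain ⟨g, hg⟩ : ∃ g : redSub (clos ζ) ⟶ Y, g = redSubι (clos ζ) ≫ f := ⟨_, rfl⟩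
  have hlft : LocallyOfFiniteType g := by rw [hg]; infer_instance
  have hgpt : ∀ w : ↥(redSub (clos ζ)), g w = f (redSubι (clos ζ) w) := by
    intro w; rw [hg]; rfl
  have hmaxg : IsMaxPt (g ξZ) := by
    rw [hgpt, hξZ, hfζ]
    intro ξ hξ
    exact (hξ.antisymm (genericPoint_specializes ξ)).eq
  have hle : FlatMor.fibreDimAt g xZ ≤ ((rt g ξZ : ℕ) : WithBot ℕ∞) := by
    have h1 : FlatMor.fibreDimAt g xZ =
        FlatMor.localDim ↥(closure ({ζ} : Set X) ∩ f.base ⁻¹' {f.base x}) ⟨x, ⟨hx, rfl⟩⟩ := by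
      rw [hg]; exact fibreDimAt_redSub_eq f (clos ζ) xZ x hxZ hx
    have h2 : FlatMor.localDim ↥(closure ({ζ} : Set X) ∩ f.base ⁻¹' {f.base x}) ⟨x, ⟨hx, rfl⟩⟩ ≤
        FlatMor.fibreDimAt f x := by
      rw [fibreDimAt_eq_fibLocDim]
      exact Groth.Agent.Lib.H80Max.localDim_subtype_mono
        (A := closure ({ζ} : Set X) ∩ f.base ⁻¹' {f.base x}) (B := f.base ⁻¹' {f.base x})
        Set.inter_subset_right x ⟨hx, rfl⟩
    have h4 : rt g zZ = rt f z := by
      rw [hg, rt_comp_of_isPreimmersion f _ zZ, hzZ]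
    have h5 := Groth.Agent.Lib.FibreDimStrata.rt_le_fibreDimAt g zZ
    have h6 : FlatMor.fibreDimAt g zZ =
        FlatMor.localDim ↥(closure ({ζ} : Set X) ∩ f.base ⁻¹' {f.base z}) ⟨z, ⟨hz, rfl⟩⟩ := by
      rw [hg]; exact fibreDimAt_redSub_eq f (clos ζ) zZ z hzZ hz
    have h7 := localDim_inter_congr f (closure ({ζ} : Set X)) z hz (f x) hfz
    have h9 := dim_inter_le_rt f ζ hfζ ξZ hξZ hξZspec
    rw [← hg] at h9
    calc FlatMor.fibreDimAt g xZ ≤ FlatMor.fibreDimAt f x := h1.le.trans h2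
      _ = ((rt f z : ℕ) : WithBot ℕ∞) := hrt.symm
      _ = ((rt g zZ : ℕ) : WithBot ℕ∞) := by rw [h4]
      _ ≤ FlatMor.fibreDimAt g zZ := h5
      _ = topologicalKrullDim ↥(closure ({ζ} : Set X) ∩ f.base ⁻¹' {genericPoint Y}) := by
          rw [h6, h7, hdim]
      _ ≤ ((rt g ξZ : ℕ) : WithBot ℕ∞) := h9
  have hEq : EGA43.IsEquidimAt g xZ := isEquidimAt_of_generic g ξZ hξZspec hmaxg xZ hle
  have hclZ : ∀ z' : ↥(redSub (clos ζ)), g z' = g xZ → xZ ⤳ z' → z' = xZ := by
    intro z' hgz' hsp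
    apply (redSubι (clos ζ)).isEmbedding.injective
    rw [hxZ]
    refine hcl _ ?_ ?_
    · rw [← hgpt, hgz', hgpt, hxZ]
    · rw [← hxZ]; exact hsp.map (redSubι (clos ζ)).continuous
  obtain ⟨T, i, hi, hTirr, hTred, hxT, h1, h2, h3, h4⟩ := exists_quasiSection g xZ hEq hclZ
  have hassoc : (i ≫ redSubι (clos ζ)) ≫ f = i ≫ g := by rw [hg, Category.assoc]
  refine ⟨T, i ≫ redSubι (clos ζ), inferInstance, hTirr, hTred, ?_, ?_, ?_, ?_, ?_⟩
  · obtain ⟨t, ht⟩ := hxT
    exact ⟨t, by rw [Scheme.Hom.comp_apply, ht, hxZ]⟩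
  · rw [hassoc]; exact h1
  · rw [hassoc]; exact h2
  · rw [hassoc]; exact h3
  · rw [hassoc]; exact h4

/-- Quasi-sections through the points closed in the fibre over a unibranch point give openness
at every point of the fibre. -/
theorem isOpenAt_of_quasiSections [IrreducibleSpace Y] [IsLocallyNoetherian Y]
    (f : X ⟶ Y) [LocallyOfFiniteType f] (y : Y) (hy : CAlg2.IsUnibranch (Y.presheaf.stalk y))
    (hd : ∀ x : X, f x = y → (∀ x' : X, f x' = y → x ⤳ x' → x' = x) →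
      ∃ (T : Scheme.{u}) (i : T ⟶ X), IsImmersion i ∧ IrreducibleSpace ↥T ∧ IsReduced T ∧
        x ∈ Set.range i.base ∧
        LocallyOfFiniteType (i ≫ f) ∧ LocallyQuasiFinite (i ≫ f) ∧ QuasiCompact (i ≫ f) ∧
        IsDominant (i ≫ f))
    (x : X) (hx : f x = y) : EGA43.IsOpenAt f.base x := by
  subst hx
  intro N hN
  -- a point of the fibre, closed in the fibre, inside the interior of `N`
  have hlftF : LocallyOfFiniteType (f.fiberToSpecResidueField (f x)) := by
    unfold Scheme.Hom.fiberToSpecResidueField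
    exact MorphismProperty.pullback_snd (P := @LocallyOfFiniteType) f _ inferInstance
  have hJ : JacobsonSpace ↥(f.fiber (f x)) :=
    LocallyOfFiniteType.jacobsonSpace (f.fiberToSpecResidueField (f x))
  let W : Set ↥(f.fiber (f x)) := (f.fiberι (f x)) ⁻¹' interior N
  have hWopen : IsOpen W := isOpen_interior.preimage (f.fiberι (f x)).continuous
  have hWne : W.Nonempty := ⟨f.asFiber x, by
    change f.fiberι (f x) (f.asFiber x) ∈ interior N
    rw [Scheme.Hom.fiberι_asFiber]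
    exact mem_interior_iff_mem_nhds.mpr hN⟩
  obtain ⟨w, hwW, hwcl⟩ : ∃ w ∈ W, w ∈ closedPoints ↥(f.fiber (f x)) := by
    have hdense : Dense (closedPoints ↥(f.fiber (f x))) := by
      rw [dense_iff_closure_eq]
      exact closure_closedPoints
    exact hdense.inter_open_nonempty W hWopen hWne |>.imp fun w hw => ⟨hw.1, hw.2⟩
  obtain ⟨x₀, hx₀⟩ : ∃ x₀ : X, x₀ = f.fiberι (f x) w := ⟨_, rfl⟩
  have hfx₀ : f x₀ = f x := by
    have : f.fiberι (f x) w ∈ f ⁻¹' {f x} := by
      rw [← Scheme.Hom.range_fiberι]; exact ⟨w, rfl⟩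
    rw [hx₀]; exact this
  have hx₀cl : ∀ x' : X, f x' = f x → x₀ ⤳ x' → x' = x₀ := by
    intro x' hfx' hsp
    have hx'r : x' ∈ f ⁻¹' {f x} := hfx'
    rw [← Scheme.Hom.range_fiberι] at hx'r
    obtain ⟨w', hw'⟩ := hx'r
    have hsp' : w ⤳ w' := by
      rw [← (f.fiberι (f x)).isEmbedding.isInducing.specializes_iff, hw', ← hx₀]
      exact hsp
    have hclosed : IsClosed ({w} : Set ↥(f.fiber (f x))) := hwcl
    have : w' ∈ ({w} : Set ↥(f.fiber (f x))) := hsp'.mem_closed hclosed (Set.mem_singleton w)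
    rw [← hw', this, hx₀]
  obtain ⟨T, i, hi, hTirr, hTred, ⟨t₀, ht₀⟩, h1, h2, h3, h4⟩ := hd x₀ hfx₀ hx₀cl
  have hqf : (i ≫ f).QuasiFiniteAt t₀ := Scheme.Hom.quasiFiniteAt (i ≫ f) t₀
  have hft₀ : (i ≫ f) t₀ = f x := by rw [Scheme.Hom.comp_apply, ht₀, hfx₀]
  have hopen := Groth.Agent.Lib.H80UnibranchOpen.isOpenAt_of_quasiFiniteAt_of_isUnibranch (i ≫ f)
    h4.denseRange t₀ hqf (by rw [hft₀]; exact hy)
  have hN' : i.base ⁻¹' interior N ∈ nhds t₀ := by
    apply (isOpen_interior.preimage i.continuous).mem_nhds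
    change i t₀ ∈ interior N
    rw [ht₀, hx₀]
    exact hwW
  have h5 := hopen _ hN'
  rw [hft₀] at h5
  refine Filter.mem_of_superset h5 ?_
  rintro _ ⟨t, ht, rfl⟩
  exact ⟨i t, interior_subset ht, rfl⟩

end Groth.Agent.Lib.H80QuasiSecGU
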