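import Mathlib
import Groth.Prelude.Def_EGA43
import Groth.Agent.Lib.OpenAt45
import Groth.Agent.Lib.CMBaseChange33

/-!
# helper80: universal openness at a point passes to specializations inside the fibre

For `f` locally of finite presentation: if `f` is universally open at `ξ`, `ξ ⤳ x` and
`f ξ = f x`, then `f` is universally open at `x` (the fibres of a base change are flat over the
fibres of `f`, so the generization `ξ` of `x` lifts to the base change inside the fibre).
-/

set_option autoImplicit false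
universe u

open CategoryTheory CategoryTheory.Limits AlgebraicGeometry

namespace Groth.Agent.Lib.H80UnivOpenSpecialize

open Groth.Agent.Lib.CMBaseChange33

/-- Lifting a generization inside the fibre along a base change. -/
theorem exists_generization_in_fibre {X Y X' Y' : Scheme.{u}} {f : X ⟶ Y} {f' : X' ⟶ Y'}
    {g' : X' ⟶ X} {g : Y' ⟶ Y} (hc : IsPullback g' f' f g) (x' : X') (ξ : X)
    (hsp : ξ ⤳ g' x') (hf : f ξ = f (g' x')) :
    ∃ ξ' : X', ξ' ⤳ x' ∧ g' ξ' = ξ ∧ f' ξ' = f' x' := by
  have hfl : Flat (Spec.map (g.residueFieldMap (f' x'))) := inferInstance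
  have hflat : Flat (fibMap hc (f' x')) :=
    MorphismProperty.of_isPullback (P := @Flat) (isPullback_fibMap hc (f' x')).flip hfl
  have hgen : GeneralizingMap (fibMap hc (f' x')) := Flat.generalizingMap _
  have hξmem : ξ ∈ f ⁻¹' {g (f' x')} := by
    change f ξ = g (f' x')
    rw [hf, ← Scheme.Hom.comp_apply, ← Scheme.Hom.comp_apply, hc.w]
  rw [← Scheme.Hom.range_fiberι] at hξmem
  obtain ⟨ξ₀, hξ₀⟩ := hξmem
  have hsp₀ : ξ₀ ⤳ fibMap hc (f' x') (f'.asFiber x') := by
    rw [← (f.fiberι (g (f' x'))).isEmbedding.isInducing.specializes_iff, hξ₀, fibMap_asFiber]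
    exact hsp
  obtain ⟨ζ', hζ'1, hζ'2⟩ := hgen hsp₀
  refine ⟨f'.fiberι (f' x') ζ', ?_, ?_, ?_⟩
  · have := hζ'1.map (f'.fiberι (f' x')).continuous
    rwa [Scheme.Hom.fiberι_asFiber] at this
  · rw [← Scheme.Hom.comp_apply, ← fibMap_fiberι hc, Scheme.Hom.comp_apply, hζ'2, hξ₀]
  · have : f'.fiberι (f' x') ζ' ∈ f' ⁻¹' {f' x'} := by
      rw [← Scheme.Hom.range_fiberι]; exact ⟨ζ', rfl⟩
    exact this

/-- Universal openness at a point passes to its specializations inside the fibre. -/
theorem isUnivOpenAt_of_specializes {X Y : Scheme.{u}} (f : X ⟶ Y)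
    [LocallyOfFinitePresentation f] (ξ x : X) (hsp : ξ ⤳ x) (hf : f ξ = f x)
    (hξ : EGA43.IsUnivOpenAt f ξ) : EGA43.IsUnivOpenAt f x := by
  intro Y' g x' hx'
  have hlfp : LocallyOfFinitePresentation (pullback.snd f g) :=
    MorphismProperty.pullback_snd (P := @LocallyOfFinitePresentation) f g inferInstance
  obtain ⟨ξ', hξ'1, hξ'2, hξ'3⟩ := exists_generization_in_fibre (IsPullback.of_hasPullback f g)
    x' ξ (by rw [hx']; exact hsp) (by rw [hx']; exact hf)
  have hopen := hξ Y' g ξ' hξ'2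
  apply Groth.Agent.Lib.OpenAt45.isOpenAt_of_forall_generization
  intro y'' hy''
  obtain ⟨z, hz1, hz2⟩ := Groth.Agent.Lib.OpenAt45.exists_generization_of_isOpenAt
    (pullback.snd f g) ξ' hopen y'' (by rw [hξ'3]; exact hy'')
  exact ⟨z, hz1.trans hξ'1, hz2⟩

end Groth.Agent.Lib.H80UnivOpenSpecialize
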