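import Mathlib
import Groth.Agent.Lib.H80Max5

/-!
# EGA IV 14.4.1, (b') ⇒ (b)
-/

set_option autoImplicit false
open CategoryTheory AlgebraicGeometry Limits TopologicalSpace
universe u

namespace Groth.Agent.Lib.H80Max

open Groth.Agent.Lib.H56LocDim Groth.Agent.Lib.UnivOpenAt Groth.Agent.Lib.H80Equi
  Groth.Agent.Lib.H56OpenDim

variable {X Y : Scheme.{u}}

/-- Semicontinuity for the subscheme: the generic fibre dimension is at most the local fibre
dimension at every point. -/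
theorem Setup.dim_le_localDim {f : X ⟶ Y} {V : Y.Opens} {η : Y} {ζ : X} (S : Setup f V η ζ)
    (z : S.Z) :
    topologicalKrullDim ↥(closure ({ζ} : Set X) ∩ f.base ⁻¹' {η}) ≤
      FlatMor.localDim ↥(closure ({ζ} : Set X) ∩ f.base ⁻¹' {f.base (S.j z)})
        ⟨S.j z, ⟨S.j_mem z, rfl⟩⟩ := by
  have := S.irrZ
  have := S.irrV
  have := S.lft
  have hdom := S.dom
  have h1 := dim_generic_fiber_le_fibreDimAt S.g hdom.denseRange z
  have hgV : genericPoint ↥(V : Scheme.{u}) = S.ηV := S.genericPoint_V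
  rw [hgV, S.dim_fiber_g, S.fibreDimAt_g] at h1
  exact h1

/-- (b') ⇒ (b) -/
theorem exists_component_of_dim_le [IsLocallyNoetherian Y] (f : X ⟶ Y) [LocallyOfFiniteType f]
    (x : X) (hy : CAlg2.IsGeomUnibranch (Y.presheaf.stalk (f.base x)))
    (hb' : ∀ U : X.Opens, x ∈ U → ∀ y' : Y, y' ⤳ f.base x →
      FlatMor.fibreDimAt f x ≤ topologicalKrullDim ↥((U : Set X) ∩ f.base ⁻¹' {y'})) :
    ∀ Y₀ ∈ irreducibleComponents (Y : Type u), f.base x ∈ Y₀ →
      ∃ Z ∈ irreducibleComponents (X : Type u), ∃ hx : x ∈ Z, closure (f.base '' Z) = Y₀ ∧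
        ∀ η : Y, closure ({η} : Set Y) = Y₀ →
          FlatMor.localDim ↥(Z ∩ f.base ⁻¹' {f.base x}) ⟨x, ⟨hx, rfl⟩⟩ =
            topologicalKrullDim ↥(Z ∩ f.base ⁻¹' {η}) := by
  intro Y₀ hY₀ hyY₀
  have hnil : (nilradical (Y.presheaf.stalk (f x))).IsPrime :=
    (Ideal.Quotient.isDomain_iff_prime _).1 hy.1.1
  obtain ⟨V, hV, hyV, ηV, hηV, hη⟩ := exists_irreducible_affine_nhd (f x) hnil
  obtain ⟨η, hηgen⟩ := QuasiSober.sober hY₀.1 (isClosed_of_mem_irreducibleComponents Y₀ hY₀)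
  have hηeq : η = ηV := eq_generic_of_mem_irreducibleComponents hη hyV hY₀ hyY₀ hηgen.def
  subst hηeq
  have hXnoeth : IsLocallyNoetherian X := LocallyOfFiniteType.isLocallyNoetherian f
  obtain ⟨U, M, hxU, hMfin, hM, hUM⟩ := exists_open_finite_maximal_cover x
  have hd := hb' U hxU η (hη _ hyV)
  -- the finite closed cover
  have hMne : Nonempty ↥M := by
    obtain ⟨ζ, hζM, -⟩ := Set.mem_iUnion₂.mp (hUM hxU)
    exact ⟨⟨ζ, hζM⟩⟩
  have hMfin' : Finite ↥M := hMfin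
  let C : ↥M → Set ↥((U : Set X) ∩ f.base ⁻¹' {η}) := fun ζ => {t | t.1 ∈ closure ({ζ.1} : Set X)}
  have hCclosed : ∀ ζ, IsClosed (C ζ) := fun ζ =>
    isClosed_closure.preimage continuous_subtype_val
  have hCcov : ⋃ ζ, C ζ = Set.univ := by
    ext t
    simp only [Set.mem_iUnion, Set.mem_univ, iff_true]
    obtain ⟨ζ, hζM, hζ⟩ := Set.mem_iUnion₂.mp (hUM t.2.1)
    exact ⟨⟨ζ, hζM⟩, hζ⟩
  have hdim := Groth.Agent.Lib.TopKrullDim.dim_eq_iSup_of_finite_closed_cover C hCclosed hCcov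
  obtain ⟨ζ', hζ'⟩ := exists_eq_ciSup_of_finite (f := fun ζ : ↥M => topologicalKrullDim ↥(C ζ))
  obtain ⟨ζ, hζM⟩ := ζ'
  rw [hdim, ← hζ'] at hd
  have hd' : FlatMor.fibreDimAt f x ≤
      topologicalKrullDim ↥(closure ({ζ} : Set X) ∩ f.base ⁻¹' {η}) := by
    refine hd.trans ?_
    refine Groth.Agent.Lib.TopKrullDim.dim_le_of_range_subset
      (fun t : ↥(C ⟨ζ, hζM⟩) => (t.1.1 : X))
      (fun t : ↥(closure ({ζ} : Set X) ∩ f.base ⁻¹' {η}) => (t.1 : X))
      (Topology.IsInducing.subtypeVal.comp Topology.IsInducing.subtypeVal)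
      Topology.IsInducing.subtypeVal ?_
    rintro _ ⟨⟨⟨t, htU, htη⟩, htC⟩, rfl⟩
    exact ⟨⟨t, htC, htη⟩, rfl⟩
  obtain ⟨hζx, hζmax⟩ := hM ζ hζM
  have hZ : closure ({ζ} : Set X) ∈ irreducibleComponents X :=
    closure_singleton_mem_irreducibleComponents ζ hζmax
  have hxZ : x ∈ closure ({ζ} : Set X) := specializes_iff_mem_closure.mp hζx
  -- `f ζ = η`
  have hne : Nonempty ↥(closure ({ζ} : Set X) ∩ f.base ⁻¹' {η}) := by
    by_contra hcon
    rw [not_nonempty_iff] at hcon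
    have h0 : topologicalKrullDim ↥(closure ({ζ} : Set X) ∩ f.base ⁻¹' {η}) = ⊥ := by
      unfold topologicalKrullDim
      rw [Order.krullDim_eq_bot_iff]
      refine ⟨fun T => ?_⟩
      obtain ⟨t, -⟩ := T.isIrreducible.nonempty
      exact hcon.false t
    rw [h0] at hd'
    have := (fibreDimAt_nonneg f x).trans hd'
    simp at this
  obtain ⟨⟨t, htZ, htη⟩⟩ := hne
  have htη' : f t = η := htη
  have hfζ : f ζ = η := by
    have h1 : f ζ ⤳ η := by
      rw [← htη']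
      exact (specializes_iff_mem_closure.mpr htZ).map f.continuous
    have h2 : η ⤳ f ζ := hη _ ((hζx.map f.continuous).mem_open V.isOpen hyV)
    exact (h1.antisymm h2).eq
  refine ⟨closure {ζ}, hZ, hxZ, ?_, ?_⟩
  · rw [closure_image_closure f.continuous, Set.image_singleton, hfζ]
    exact hηgen.def
  · intro η' hη'
    have hη'eq : η' = η := eq_generic_of_mem_irreducibleComponents hη hyV hY₀ hyY₀ hη'
    subst hη'eq
    apply le_antisymm
    · refine le_trans ?_ hd'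
      rw [fibreDimAt_eq_fibLocDim]
      exact localDim_subtype_mono (A := closure ({ζ} : Set X) ∩ f.base ⁻¹' {f.base x})
        (B := f.base ⁻¹' {f.base x}) Set.inter_subset_right x ⟨hxZ, rfl⟩
    · obtain ⟨S⟩ := exists_setup f V η' hηV hη ζ hfζ
      obtain ⟨z, hz⟩ := S.exists_of_mem x hxZ hyV
      subst hz
      exact S.dim_le_localDim z

end Groth.Agent.Lib.H80Max
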