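import Mathlib
import Groth.Agent.Lib.H56LocSec1
import Groth.Agent.Lib.H56LocSec2
import Groth.Agent.Lib.FinExt
import Groth.Agent.Lib.H80GUCover4
import Groth.Agent.Lib.H80QuasiSec5
import Groth.Agent.Lib.H30EquidimAt
import Groth.Agent.Lib.H69MinPrimes
import Groth.Agent.Lib.GeomUnibranchEquiv96
import Groth.Agent.S4945

/-!
# helper56: EGA IV 14.5.10, scheme-level core

`exists_cover_of_isGeomUnibranch`: `Y` Noetherian, `f : X ⟶ Y` universally open, surjective, locally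
of finite type, `y` a geometrically unibranch point of `Y`: there is a finite surjective
`h : Z ⟶ Y` all of whose points over `y` have local lifts through `f`.

`exists_cover_pointwise`: the same for an arbitrary point `y` (via a geometrically unibranch finite
cover, helper80).

`exists_finite_surjective_local_sections`: EGA IV 14.5.10.
-/

set_option autoImplicit false
universe u

open CategoryTheory CategoryTheory.Limits AlgebraicGeometry TopologicalSpace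

namespace Groth.Agent.Lib.H56LocSec

theorem exists_isOpen_isIrreducible {α : Type*} [TopologicalSpace α] [NoetherianSpace α] (y : α)
    (huniq : ∀ Z₁ ∈ irreducibleComponents α, ∀ Z₂ ∈ irreducibleComponents α,
      y ∈ Z₁ → y ∈ Z₂ → Z₁ = Z₂) :
    ∃ U : Set α, IsOpen U ∧ y ∈ U ∧ IsIrreducible U := by
  let 𝒮 : Set (Set α) := {Z | Z ∈ irreducibleComponents α ∧ y ∉ Z}
  have h𝒮fin : 𝒮.Finite :=
    (NoetherianSpace.finite_irreducibleComponents (α := α)).subset (fun Z hZ => hZ.1)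
  have hcl : IsClosed (⋃₀ 𝒮) := by
    rw [Set.sUnion_eq_biUnion]
    exact h𝒮fin.isClosed_biUnion (fun Z hZ => isClosed_of_mem_irreducibleComponents Z hZ.1)
  refine ⟨(⋃₀ 𝒮)ᶜ, hcl.isOpen_compl, ?_, ?_⟩
  · rintro ⟨Z, hZ, hyZ⟩
    exact hZ.2 hyZ
  · have hsub : (⋃₀ 𝒮)ᶜ ⊆ irreducibleComponent y := by
      intro u hu
      have hyu : y ∈ irreducibleComponent u := by
        by_contra hcon
        exact hu ⟨_, ⟨irreducibleComponent_mem_irreducibleComponents u, hcon⟩, mem_irreducibleComponent⟩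
      rw [huniq _ (irreducibleComponent_mem_irreducibleComponents y) _
        (irreducibleComponent_mem_irreducibleComponents u) mem_irreducibleComponent hyu]
      exact mem_irreducibleComponent
    refine ⟨⟨y, ?_⟩, isIrreducible_irreducibleComponent.isPreirreducible.open_subset
      hcl.isOpen_compl hsub⟩
    rintro ⟨Z, hZ, hyZ⟩
    exact hZ.2 hyZ

theorem eq_of_specializes_of_isGenericPoint {α : Type*} [TopologicalSpace α] [T0Space α]
    {W : Set α} (hW : W ∈ irreducibleComponents α) {y y' : α} (hy : IsGenericPoint y W)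
    (h : y' ⤳ y) : y' = y := by
  have h1 : W ⊆ closure {y'} := by
    rw [← hy.def]
    exact specializes_iff_closure_subset.mp h
  have hirr : IsIrreducible (closure ({y'} : Set α)) := isIrreducible_singleton.closure
  have h2 : closure {y'} ⊆ W := hW.2 hirr h1
  have hy' : IsGenericPoint y' W := le_antisymm h2 h1
  exact hy'.eq hy

/-- A geometrically unibranch point lies on a unique irreducible component. -/
theorem unique_irreducibleComponent_of_isGeomUnibranch (Y : Scheme.{u}) (y : Y)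
    (hy : CAlg2.IsGeomUnibranch (Y.presheaf.stalk y)) :
    ∀ Z₁ ∈ irreducibleComponents Y, ∀ Z₂ ∈ irreducibleComponents Y,
      y ∈ Z₁ → y ∈ Z₂ → Z₁ = Z₂ := by
  intro Z₁ hZ₁ Z₂ hZ₂ hy₁ hy₂
  obtain ⟨ζ₁, hζ₁⟩ := QuasiSober.sober hZ₁.1 (isClosed_of_mem_irreducibleComponents Z₁ hZ₁)
  obtain ⟨ζ₂, hζ₂⟩ := QuasiSober.sober hZ₂.1 (isClosed_of_mem_irreducibleComponents Z₂ hZ₂)
  have hs₁ : ζ₁ ⤳ y := by rw [specializes_iff_mem_closure, hζ₁.def]; exact hy₁
  have hs₂ : ζ₂ ⤳ y := by rw [specializes_iff_mem_closure, hζ₂.def]; exact hy₂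
  have hm₁ : Groth.Agent.Lib.H30GenFib.IsMaxPt ζ₁ := fun ξ hξ =>
    eq_of_specializes_of_isGenericPoint hZ₁ hζ₁ hξ
  have hm₂ : Groth.Agent.Lib.H30GenFib.IsMaxPt ζ₂ := fun ξ hξ =>
    eq_of_specializes_of_isGenericPoint hZ₂ hζ₂ hξ
  have hk₁ := (Groth.Agent.Lib.H30EquidimAt.ker_mem_minimalPrimes_iff y ζ₁ hs₁).mpr hm₁
  have hk₂ := (Groth.Agent.Lib.H30EquidimAt.ker_mem_minimalPrimes_iff y ζ₂ hs₂).mpr hm₂
  have huniq := Groth.Agent.Lib.H69MinPrimes.hasUniqueMinimalPrime_of_isGeomUnibranch hy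
  have hkeq := huniq.unique hk₁ hk₂
  have hζ : ζ₁ = ζ₂ := by
    rw [← Groth.Agent.Lib.H30EquidimAt.fromSpecStalk_ker y ζ₁ hs₁,
      ← Groth.Agent.Lib.H30EquidimAt.fromSpecStalk_ker y ζ₂ hs₂]
    congr 1
    exact PrimeSpectrum.ext hkeq
  rw [← hζ₁.def, ← hζ₂.def, hζ]

/-- the kernel of the chart of a dominant morphism from an irreducible scheme is nilpotent -/
theorem ker_appLE_le_nilradical {T Y : Scheme.{u}} [IrreducibleSpace T] (F : T ⟶ Y)
    (V₀ : Y.Opens)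
    (hdense : ∀ D : Y.Opens, D ≤ V₀ → (D : Set Y).Nonempty → ∃ t : T, F t ∈ D)
    {W : Y.Opens} (hW : IsAffineOpen W) (hWV : W ≤ V₀) {T' : T.Opens} (hT'ne : (T' : Set T).Nonempty)
    (e : T' ≤ F ⁻¹ᵁ W) :
    RingHom.ker (F.appLE W T' e).hom ≤ nilradical Γ(Y, W) := by
  intro a ha
  rw [RingHom.mem_ker] at ha
  rw [mem_nilradical, nilpotent_iff_mem_prime]
  intro P hP
  by_contra haP
  -- the point of `W` corresponding to `P` lies in `D(a)`
  have hD : (Y.basicOpen a : Set Y).Nonempty := by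
    refine ⟨hW.fromSpec (⟨P, hP⟩ : PrimeSpectrum Γ(Y, W)), ?_⟩
    have h1 : (⟨P, hP⟩ : PrimeSpectrum Γ(Y, W)) ∈ hW.fromSpec ⁻¹ᵁ Y.basicOpen a := by
      rw [hW.fromSpec_preimage_basicOpen]
      exact haP
    exact h1
  obtain ⟨t, ht⟩ := hdense (Y.basicOpen a) ((Y.basicOpen_le a).trans hWV) hD
  -- `F ⁻¹ D(a)` and `T'` meet
  have hopen : IsOpen ((F ⁻¹ᵁ Y.basicOpen a : T.Opens) : Set T) := (F ⁻¹ᵁ Y.basicOpen a).isOpen
  obtain ⟨t', ht'1, ht'2⟩ := nonempty_preirreducible_inter hopen T'.isOpen ⟨t, ht⟩ hT'ne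
  have hmem : t' ∈ T.basicOpen ((F.appLE W T' e).hom a) := by
    rw [Scheme.basicOpen_appLE]
    exact ⟨ht'2, ht'1⟩
  rw [ha, Scheme.basicOpen_zero] at hmem
  exact hmem

theorem exists_cover_of_isGeomUnibranch {X Y : Scheme.{u}} [IsNoetherian Y] (f : X ⟶ Y)
    [UniversallyOpen f] [Surjective f] [LocallyOfFiniteType f] (y : Y)
    (hy : CAlg2.IsGeomUnibranch (Y.presheaf.stalk y)) :
    ∃ (Z : Scheme.{u}) (h : Z ⟶ Y), IsFinite h ∧ Surjective h ∧
      ∀ z : Z, h z = y → HasLocalLift f h z := by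
  -- an irreducible open neighbourhood of `y`
  obtain ⟨U₀, hU₀open, hyU₀, hU₀irr⟩ := exists_isOpen_isIrreducible y
    (unique_irreducibleComponent_of_isGeomUnibranch Y y hy)
  obtain ⟨V₀, hV₀⟩ : ∃ V₀ : Y.Opens, (V₀ : Set Y) = U₀ := ⟨⟨U₀, hU₀open⟩, rfl⟩
  have hyV₀ : y ∈ V₀ := by
    change y ∈ (V₀ : Set Y)
    rw [hV₀]; exact hyU₀
  have hirr : IrreducibleSpace (V₀ : Scheme.{u}) := by
    have h1 : IsIrreducible (V₀ : Set Y) := by rw [hV₀]; exact hU₀irr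
    exact Subtype.irreducibleSpace h1
  obtain ⟨f₀, hf₀⟩ : ∃ f₀ : pullback f V₀.ι ⟶ (V₀ : Scheme.{u}), f₀ = pullback.snd f V₀.ι := ⟨_, rfl⟩
  have hf₀lft : LocallyOfFiniteType f₀ := by rw [hf₀]; infer_instance
  have hf₀uo : UniversallyOpen f₀ := by rw [hf₀]; infer_instance
  have hf₀surj : Surjective f₀ := by rw [hf₀]; infer_instance
  obtain ⟨y₀, hy₀def⟩ : ∃ y₀ : (V₀ : Scheme.{u}), y₀ = ⟨y, hyV₀⟩ := ⟨_, rfl⟩
  have hιy₀ : V₀.ι y₀ = y := by rw [hy₀def]; rfl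
  have hy₀ : CAlg2.IsGeomUnibranch ((V₀ : Scheme.{u}).presheaf.stalk y₀) := by
    rw [← Groth.Agent.Lib.H80PolyGU.isGeomUnibranch_stalk_iff_of_isOpenImmersion V₀.ι y₀]
    exact (Groth.Agent.Lib.H80PolyGU.isGeomUnibranch_stalk_congr hιy₀).mpr hy
  -- a point of the fibre closed in the fibre
  obtain ⟨x₁, hx₁⟩ := hf₀surj.surj y₀
  obtain ⟨x₀, -, hx₀y, hx₀cl⟩ := Groth.Agent.Lib.H80QuasiSec.exists_closed_point_fibre f₀ y₀
    Set.univ isClosed_univ ⟨x₁, trivial, hx₁⟩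
  -- quasi-section through `x₀`
  have hUO : ∀ x : ↥(pullback f V₀.ι), f₀.base x = y₀ → EGA43.IsUnivOpenAt f₀ x := by
    intro x _ Y' g x' _
    exact Groth.Agent.Lib.UnivOpenAt.isOpenAt_of_isOpenMap
      (pullback.snd f₀ g).isOpenMap x'
  have hTFAE := (Groth.Agent.S4945.result f₀ y₀ hy₀).out 0 3
  obtain ⟨T, i, himm, hTirr, hTred, hx₀T, hlft, hlqf, hqc, hdom⟩ :=
    hTFAE.mp hUO x₀ hx₀y hx₀cl
  obtain ⟨t₀, ht₀⟩ := hx₀T
  have hTint : IsIntegral T := isIntegral_of_irreducibleSpace_of_isReduced T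
  -- the morphism `F : T ⟶ Y`
  obtain ⟨F, hFdef⟩ : ∃ F : T ⟶ Y, F = (i ≫ f₀) ≫ V₀.ι := ⟨_, rfl⟩
  have hFlft : LocallyOfFiniteType F := by rw [hFdef]; infer_instance
  have hFlqf : LocallyQuasiFinite F := by rw [hFdef]; infer_instance
  have hFt₀ : F t₀ = y := by
    rw [hFdef, Scheme.Hom.comp_apply, Scheme.Hom.comp_apply, ht₀, hx₀y, hιy₀]
  have hFX : F = (i ≫ pullback.fst f V₀.ι) ≫ f := by
    rw [hFdef, hf₀, Category.assoc, Category.assoc, pullback.condition]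
  have hFV₀ : ∀ t : T, F t ∈ V₀ := by
    intro t
    rw [hFdef, Scheme.Hom.comp_apply]
    exact ((i ≫ f₀) t).2
  have hFdense : ∀ D : Y.Opens, D ≤ V₀ → (D : Set Y).Nonempty → ∃ t : T, F t ∈ D := by
    intro D hDV ⟨d, hd⟩
    have hopen : IsOpen (V₀.ι ⁻¹' (D : Set Y)) := D.isOpen.preimage V₀.ι.continuous
    obtain ⟨t, ht⟩ := hdom.1.exists_mem_open hopen ⟨⟨d, hDV hd⟩, hd⟩
    refine ⟨t, ?_⟩
    rw [hFdef, Scheme.Hom.comp_apply]
    exact ht
  -- affine charts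
  obtain ⟨_, ⟨W, hW, rfl⟩, hyW, hWV₀⟩ := Y.isBasis_affineOpens.exists_subset_of_mem_open
    hyV₀ V₀.isOpen
  replace hW : IsAffineOpen W := hW
  have ht₀W : t₀ ∈ F ⁻¹ᵁ W := by
    change F t₀ ∈ W
    rw [hFt₀]; exact hyW
  obtain ⟨_, ⟨T', hT', rfl⟩, ht₀T', hT'W⟩ := T.isBasis_affineOpens.exists_subset_of_mem_open
    ht₀W (F ⁻¹ᵁ W).isOpen
  replace hT' : IsAffineOpen T' := hT'
  have e : T' ≤ F ⁻¹ᵁ W := hT'W
  have hT'ne : (T' : Set T).Nonempty := ⟨t₀, ht₀T'⟩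
  have hT'nonempty : Nonempty T' := ⟨⟨t₀, ht₀T'⟩⟩
  have hdomB : IsDomain Γ(T, T') := inferInstance
  have hnoeth : IsNoetherianRing Γ(Y, W) := IsLocallyNoetherian.component_noetherian ⟨W, hW⟩
  have hker := ker_appLE_le_nilradical F V₀ hFdense hW hWV₀ hT'ne e
  have hqf : F.QuasiFiniteAt t₀ := F.quasiFiniteAt t₀
  algebraize [(F.appLE W T' e).hom]
  have hft : Algebra.FiniteType Γ(Y, W) Γ(T, T') := F.finiteType_appLE hW hT' e
  have hqf' : Algebra.QuasiFiniteAt Γ(Y, W) (hT'.primeIdealOf ⟨t₀, ht₀T'⟩).asIdeal :=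
    hqf.quasiFiniteAt hT' hW e ht₀T'
  -- comparison of primes
  have hp : (hW.primeIdealOf ⟨y, hyW⟩).asIdeal =
      (hT'.primeIdealOf ⟨t₀, ht₀T'⟩).asIdeal.comap (algebraMap Γ(Y, W) Γ(T, T')) := by
    have h1 : hW.fromSpec.base (hW.primeIdealOf ⟨y, hyW⟩) =
        hW.fromSpec.base ((Spec.map (F.appLE W T' e)).base (hT'.primeIdealOf ⟨t₀, ht₀T'⟩)) := by
      rw [← Groth.Agent.Lib.OpenAt45.map_fromSpec F hT' hW e, hT'.fromSpec_primeIdealOf ⟨t₀, ht₀T'⟩,
        hW.fromSpec_primeIdealOf ⟨y, hyW⟩]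
      exact hFt₀.symm
    exact congrArg PrimeSpectrum.asIdeal (hW.fromSpec.isOpenEmbedding.injective h1)
  -- geometric unibranchness of the localization
  have hGU : CAlg2.IsGeomUnibranch (Localization.AtPrime
      ((hT'.primeIdealOf ⟨t₀, ht₀T'⟩).asIdeal.comap (algebraMap Γ(Y, W) Γ(T, T')))) := by
    let _ := Y.presheaf.algebra_section_stalk ⟨y, hyW⟩
    have hloc := hW.isLocalization_stalk ⟨y, hyW⟩
    have h1 : CAlg2.IsGeomUnibranch (Localization.AtPrime (hW.primeIdealOf ⟨y, hyW⟩).asIdeal) :=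
      (Groth.Agent.Lib.GeomUnibranchEquiv96.isGeomUnibranch_iff_of_ringEquiv
        (IsLocalization.algEquiv (hW.primeIdealOf ⟨y, hyW⟩).asIdeal.primeCompl
          (Localization.AtPrime (hW.primeIdealOf ⟨y, hyW⟩).asIdeal)
          (Y.presheaf.stalk y)).toRingEquiv).mpr hy
    exact gu_congr hp h1
  obtain ⟨A', _, _, hfinA', hsurjA', hlift⟩ :=
    exists_finite_cover_with_lifts hker (hT'.primeIdealOf ⟨t₀, ht₀T'⟩).asIdeal hGU
  -- the finite surjective morphism `Spec A' ⟶ W`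
  obtain ⟨v₀, hv₀⟩ : ∃ v₀ : Spec (CommRingCat.of A') ⟶ Spec Γ(Y, W),
      v₀ = Spec.map (CommRingCat.ofHom (algebraMap Γ(Y, W) A')) := ⟨_, rfl⟩
  have hv₀fin : IsFinite v₀ := by
    rw [hv₀, IsFinite.SpecMap_iff]
    exact RingHom.finite_algebraMap.mpr hfinA'
  have hv₀surj : Surjective v₀ := by
    rw [hv₀]
    exact ⟨hsurjA'⟩
  obtain ⟨v, hv⟩ : ∃ v : Spec (CommRingCat.of A') ⟶ Scheme.Opens.toScheme W,
      v = v₀ ≫ hW.isoSpec.inv := ⟨_, rfl⟩
  have hvfin : IsFinite v := by rw [hv]; infer_instance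
  have hvsurj : Surjective v := by rw [hv]; infer_instance
  obtain ⟨Z, π, j, hπsurj, hπfin, hpb⟩ :=
    Groth.Agent.Lib.FinExt.exists_finite_surjective_extension W hW.isCompact v
  refine ⟨Z, π, hπfin, hπsurj, ?_⟩
  intro z hz
  have hj : IsOpenImmersion j :=
    MorphismProperty.of_isPullback (P := @IsOpenImmersion) hpb.flip inferInstance
  obtain ⟨w, hw1, hw2⟩ := Scheme.exists_preimage_of_isPullback hpb z
    (⟨y, hyW⟩ : Scheme.Opens.toScheme W) (by rw [hz]; rfl)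
  -- the prime of `A'` at `w` lies over the prime of `y`
  have hv₀w : v₀ w = hW.primeIdealOf ⟨y, hyW⟩ := by
    have h2 : hW.isoSpec.inv (v₀ w) = (⟨y, hyW⟩ : Scheme.Opens.toScheme W) := by
      rw [← Scheme.Hom.comp_apply, ← hv]; exact hw2
    have h3 : hW.isoSpec.hom (hW.isoSpec.inv (v₀ w)) = hW.isoSpec.hom ⟨y, hyW⟩ :=
      congrArg (fun t => hW.isoSpec.hom t) h2
    rw [← Scheme.Hom.comp_apply, Iso.inv_hom_id] at h3
    exact h3
  have hover : (w : PrimeSpectrum A').asIdeal.comap (algebraMap Γ(Y, W) A') =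
      (hT'.primeIdealOf ⟨t₀, ht₀T'⟩).asIdeal.comap (algebraMap Γ(Y, W) Γ(T, T')) := by
    rw [← hp, ← hv₀w, hv₀]
    rfl
  obtain ⟨s, hs, ⟨ψ⟩⟩ := hlift (w : PrimeSpectrum A').asIdeal hover
  rw [← hw1]
  apply HasLocalLift.of_isOpenImmersion j w
  refine HasLocalLift.congr hpb.w.symm ?_
  refine ⟨Spec (CommRingCat.of (Localization.Away s)),
    Spec.map (CommRingCat.ofHom (algebraMap A' (Localization.Away s))), inferInstance, ?_,
    Spec.map (CommRingCat.ofHom ψ.toRingHom) ≫ hT'.fromSpec ≫ i ≫ pullback.fst f V₀.ι, ?_⟩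
  · change (w : PrimeSpectrum A') ∈ Set.range (PrimeSpectrum.comap (algebraMap A' (Localization.Away s)))
    rw [PrimeSpectrum.localization_away_comap_range (Localization.Away s) s]
    exact hs
  · have h1 : hT'.fromSpec ≫ F = Spec.map (F.appLE W T' e) ≫ hW.fromSpec :=
      (IsAffineOpen.SpecMap_appLE_fromSpec F hW hT' e).symm
    have h2 : (Spec.map (CommRingCat.ofHom ψ.toRingHom) ≫ hT'.fromSpec ≫ i ≫ pullback.fst f V₀.ι) ≫ f =
        Spec.map (CommRingCat.ofHom ψ.toRingHom) ≫ hT'.fromSpec ≫ F := by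
      rw [hFX]
      simp only [Category.assoc]
    rw [h2, h1, hv, hv₀]
    have h3 : hW.isoSpec.inv ≫ Scheme.Opens.ι W = hW.fromSpec := rfl
    simp only [Category.assoc]
    rw [h3, ← Spec.map_comp_assoc, ← Spec.map_comp_assoc]
    congr 2
    ext a
    change ψ (algebraMap Γ(Y, W) Γ(T, T') a) = algebraMap A' (Localization.Away s) (algebraMap Γ(Y, W) A' a)
    rw [ψ.commutes, ← IsScalarTower.algebraMap_apply]

/-- the pointwise claim of EGA IV 14.5.10 at an arbitrary point -/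
theorem exists_cover_pointwise {X Y : Scheme.{u}} [IsNoetherian Y] (f : X ⟶ Y)
    [UniversallyOpen f] [Surjective f] [LocallyOfFiniteType f] (y : Y) :
    ∃ (Z : Scheme.{u}) (h : Z ⟶ Y), IsFinite h ∧ Surjective h ∧
      ∀ z : Z, h z = y → HasLocalLift f h z := by
  obtain ⟨Y₁, g₁, hg₁fin, hg₁surj, hGU⟩ :=
    Groth.Agent.Lib.H80GUCover.exists_finite_surjective_isGeomUnibranch Y y
  have hN₁ : IsNoetherian Y₁ :=
    { __ := LocallyOfFiniteType.isLocallyNoetherian g₁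
      __ := QuasiCompact.compactSpace_of_compactSpace g₁ }
  have hfib : (g₁ ⁻¹' {y}).Finite := g₁.finite_preimage_singleton y
  obtain ⟨Z, h, hfin, hsurj, H⟩ := exists_of_finite (pullback.snd f g₁) (𝟙 Y₁) (g₁ ⁻¹' {y}) hfib
    (fun w hw => by
      obtain ⟨Z', h', a, b, c⟩ := exists_cover_of_isGeomUnibranch (pullback.snd f g₁) w (hGU w hw)
      exact ⟨Z', h', a, b, fun z hz => (c z hz).congr (Category.comp_id _).symm⟩)
  refine ⟨Z, h ≫ g₁, inferInstance, inferInstance, fun z hz => ?_⟩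
  have hmem : h z ∈ g₁ ⁻¹' {y} := by
    rw [Set.mem_preimage, ← Scheme.Hom.comp_apply]
    exact hz
  have h1 : HasLocalLift (pullback.snd f g₁) h z := (H z hmem).congr (Category.comp_id _)
  exact h1.of_snd g₁

/-- **EGA IV 14.5.10.** -/
theorem exists_finite_surjective_local_sections {X Y : Scheme.{u}} [IsNoetherian Y] (f : X ⟶ Y)
    [UniversallyOpen f] [Surjective f] [LocallyOfFiniteType f] :
    ∃ (Y' : Scheme.{u}) (g : Y' ⟶ Y), IsFinite g ∧ Surjective g ∧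
      ∀ y' : Y', ∃ U : Y'.Opens, y' ∈ U ∧
        ∃ s : (↑U : Scheme.{u}) ⟶ pullback f g, s ≫ pullback.snd f g = U.ι := by
  obtain ⟨Y', g, hfin, hsurj, H⟩ := exists_of_pointwise f (exists_cover_pointwise f)
  exact ⟨Y', g, hfin, hsurj, fun y' => (H y').exists_section⟩

end Groth.Agent.Lib.H56LocSec
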