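/-
helper56: towards the refined relative Noether normalization (Stacks 00QE with prescribed
contraction).  Pieces:
* `isOpen_singleton_fiber_of_minimalPrimes`: a prime `Q` of a Noetherian ring `T` which is minimal
  over an ideal `J` contained in all primes of its `ψ`-fibre and such that every nonzero element
  of `T ⧸ Q` divides a nonzero element coming from `P'` is isolated in its `ψ`-fibre.
* `quasiFiniteAt_of_isOpen_fiber`: quasi-finiteness at a prime can be tested on the fibre over
  the base prime.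
* `ker_aeval_eq_span_X`: kernel of an evaluation of `MvPolynomial` when part of the values are
  algebraically independent and the others vanish.
-/
import Mathlib

set_option autoImplicit false
universe u

open TopologicalSpace Topology TensorProduct

namespace Groth.Agent.Lib.H56NNRefine

/-- Isolatedness in the fibre of `ψ : P' → T` for a prime minimal over an ideal `J`. -/
theorem isOpen_singleton_fiber_of_minimalPrimes {T P' : Type*} [CommRing T] [IsNoetherianRing T]
    [CommRing P'] (ψ : P' →+* T) (J : Ideal T) (Q : PrimeSpectrum T)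
    (hJ : ∀ Q' : PrimeSpectrum T, PrimeSpectrum.comap ψ Q' = PrimeSpectrum.comap ψ Q →
      J ≤ Q'.asIdeal)
    (hmin : Q.asIdeal ∈ J.minimalPrimes)
    (halg : ∀ z : T, z ∉ Q.asIdeal → ∃ c : P', ψ c ∉ Q.asIdeal ∧ ∃ w : T,
      ψ c - z * w ∈ Q.asIdeal) :
    IsOpen ({⟨Q, rfl⟩} :
      Set (PrimeSpectrum.comap ψ ⁻¹' {PrimeSpectrum.comap ψ Q})) := by
  classical
  have hfin : J.minimalPrimes.Finite := Ideal.finite_minimalPrimes_of_isNoetherianRing T J
  have hex : ∀ P₁ : Ideal T, P₁ ∈ J.minimalPrimes → P₁ ≠ Q.asIdeal →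
      ∃ a : T, a ∈ P₁ ∧ a ∉ Q.asIdeal := by
    intro P₁ hP₁ hne
    by_contra hcon
    have hle : P₁ ≤ Q.asIdeal := fun a ha => by
      by_contra h
      exact hcon ⟨a, ha, h⟩
    exact hne (le_antisymm hle (hmin.2 hP₁.1 hle))
  -- choose the elements
  let a : Ideal T → T := fun P₁ =>
    if h : P₁ ∈ J.minimalPrimes ∧ P₁ ≠ Q.asIdeal then (hex P₁ h.1 h.2).choose else 1
  have ha1 : ∀ P₁, P₁ ∈ J.minimalPrimes → P₁ ≠ Q.asIdeal → a P₁ ∈ P₁ := by
    intro P₁ h1 h2
    simp only [a, dif_pos (And.intro h1 h2)]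
    exact (hex P₁ h1 h2).choose_spec.1
  have ha2 : ∀ P₁, a P₁ ∉ Q.asIdeal := by
    intro P₁
    by_cases h : P₁ ∈ J.minimalPrimes ∧ P₁ ≠ Q.asIdeal
    · simp only [a, dif_pos h]
      exact (hex P₁ h.1 h.2).choose_spec.2
    · simp only [a, dif_neg h]
      exact fun h1 => Q.isPrime.ne_top ((Ideal.eq_top_iff_one _).mpr h1)
  let A : T := ∏ P₁ ∈ hfin.toFinset, a P₁
  have hAQ : A ∉ Q.asIdeal := by
    intro h
    obtain ⟨P₁, -, h1⟩ := (Ideal.IsPrime.prod_mem_iff).mp h
    exact ha2 P₁ h1
  have hA : ∀ P₁, P₁ ∈ J.minimalPrimes → P₁ ≠ Q.asIdeal → A ∈ P₁ := by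
    intro P₁ h1 h2
    obtain ⟨c, hc⟩ := Finset.dvd_prod_of_mem a (hfin.mem_toFinset.mpr h1)
    change A = a P₁ * c at hc
    rw [hc]
    exact Ideal.mul_mem_right _ _ (ha1 P₁ h1 h2)
  have hU : IsOpen (Subtype.val ⁻¹' (PrimeSpectrum.basicOpen A : Set (PrimeSpectrum T)) :
      Set (PrimeSpectrum.comap ψ ⁻¹' {PrimeSpectrum.comap ψ Q})) :=
    (PrimeSpectrum.basicOpen A).isOpen.preimage continuous_subtype_val
  convert hU using 1
  ext ⟨Q', hQ'⟩
  simp only [Set.mem_singleton_iff, Subtype.mk.injEq, Set.mem_preimage, SetLike.mem_coe,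
    PrimeSpectrum.mem_basicOpen]
  constructor
  · rintro rfl
    exact hAQ
  · intro hAQ'
    have hQ'' : PrimeSpectrum.comap ψ Q' = PrimeSpectrum.comap ψ Q := hQ'
    have hJQ' := hJ Q' hQ''
    obtain ⟨P₁, hP₁, hP₁Q'⟩ := Ideal.exists_minimalPrimes_le hJQ'
    have hP₁Q : P₁ = Q.asIdeal := by
      by_contra hne
      exact hAQ' (hP₁Q' (hA P₁ hP₁ hne))
    have hle : Q.asIdeal ≤ Q'.asIdeal := hP₁Q ▸ hP₁Q'
    have hge : Q'.asIdeal ≤ Q.asIdeal := by
      intro z hz
      by_contra hzQ
      obtain ⟨c, hc, w, hw⟩ := halg z hzQ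
      have h1 : ψ c ∈ Q'.asIdeal := by
        have h2 : ψ c = (ψ c - z * w) + z * w := by ring
        rw [h2]
        exact Ideal.add_mem _ (hle hw) (Ideal.mul_mem_right _ _ hz)
      have h3 : c ∈ (PrimeSpectrum.comap ψ Q').asIdeal := h1
      rw [hQ''] at h3
      exact hc h3
    exact PrimeSpectrum.ext (le_antisymm hge hle)

section QuasiFiniteAt

variable {R P B : Type*} [CommRing R] [CommRing P] [CommRing B] [Algebra R P] [Algebra R B]
  [Algebra P B] [IsScalarTower R P B]

/-- Quasi-finiteness of `P → B` at a prime `Q` of `B` over the prime `p` of `R` can be tested on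
the fibre rings over `p`: it suffices that the point of `Spec (κ(p) ⊗ B)` corresponding to `Q` is
isolated in its fibre over `Spec (κ(p) ⊗ P)`. -/
theorem quasiFiniteAt_of_isOpen_fiber [Algebra.FiniteType P B] (p : Ideal R) [p.IsPrime]
    (Q : PrimeSpectrum B) (hQ : PrimeSpectrum.comap (algebraMap R B) Q = ⟨p, inferInstance⟩)
    (H : IsOpen ({⟨PrimeSpectrum.preimageHomeomorphFiber R B ⟨p, inferInstance⟩ ⟨Q, hQ⟩, rfl⟩} :
      Set (PrimeSpectrum.comap (Algebra.TensorProduct.map (AlgHom.id p.ResidueField p.ResidueField)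
        (IsScalarTower.toAlgHom R P B)).toRingHom ⁻¹'
        {PrimeSpectrum.comap (Algebra.TensorProduct.map (AlgHom.id p.ResidueField p.ResidueField)
        (IsScalarTower.toAlgHom R P B)).toRingHom
          (PrimeSpectrum.preimageHomeomorphFiber R B ⟨p, inferInstance⟩ ⟨Q, hQ⟩)}))) :
    Algebra.QuasiFiniteAt P Q.asIdeal := by
  let pp : PrimeSpectrum R := ⟨p, inferInstance⟩
  let θ := Algebra.TensorProduct.map (AlgHom.id p.ResidueField p.ResidueField)
      (IsScalarTower.toAlgHom R P B)
  let hB := PrimeSpectrum.preimageHomeomorphFiber R B pp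
  let hP := PrimeSpectrum.preimageHomeomorphFiber R P pp
  let α := PrimeSpectrum.comap (algebraMap P B)
  let β := PrimeSpectrum.comap θ.toRingHom
  let ιB : PrimeSpectrum (p.Fiber B) → PrimeSpectrum B := fun w => (hB.symm w).1
  let ιP : PrimeSpectrum (p.Fiber P) → PrimeSpectrum P := fun w => (hP.symm w).1
  have hιP : Function.Injective ιP := Subtype.val_injective.comp hP.symm.injective
  have hsq : ∀ w, α (ιB w) = ιP (β w) := by
    intro w
    change PrimeSpectrum.comap (algebraMap P B)
        (PrimeSpectrum.comap (Algebra.TensorProduct.includeRight.toRingHom) w) =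
      PrimeSpectrum.comap (Algebra.TensorProduct.includeRight.toRingHom)
        (PrimeSpectrum.comap θ.toRingHom w)
    rw [← PrimeSpectrum.comap_comp_apply, ← PrimeSpectrum.comap_comp_apply]
    congr 1
  have hRB : ∀ Q' : PrimeSpectrum B, α Q' = α Q → PrimeSpectrum.comap (algebraMap R B) Q' = pp := by
    intro Q' h
    have h1 : ∀ Q'' : PrimeSpectrum B, PrimeSpectrum.comap (algebraMap R B) Q'' =
        PrimeSpectrum.comap (algebraMap R P) (α Q'') := by
      intro Q''
      rw [← PrimeSpectrum.comap_comp_apply, ← IsScalarTower.algebraMap_eq]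
    rw [h1, h, ← h1, hQ]
  let w0 := hB ⟨Q, hQ⟩
  have hw0 : ιB w0 = Q := congrArg Subtype.val (hB.symm_apply_apply ⟨Q, hQ⟩)
  let m : (α ⁻¹' {α Q}) → (β ⁻¹' {β w0}) := fun Q' =>
    ⟨hB ⟨Q'.1, hRB Q'.1 Q'.2⟩, by
      have h1 : ιB (hB ⟨Q'.1, hRB Q'.1 Q'.2⟩) = Q'.1 :=
        congrArg Subtype.val (hB.symm_apply_apply ⟨Q'.1, hRB Q'.1 Q'.2⟩)
      apply hιP
      rw [← hsq, ← hsq, h1, hw0]
      exact Q'.2⟩
  have hmc : Continuous m := by
    refine Continuous.subtype_mk ?_ _
    exact hB.continuous.comp (Continuous.subtype_mk continuous_subtype_val _)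
  have hmi : Function.Injective m := by
    intro a b hab
    have h1 := congrArg Subtype.val hab
    have h2 := hB.injective h1
    exact Subtype.ext (congrArg (fun z => z.1) h2)
  have hopen : IsOpen (m ⁻¹' {⟨w0, rfl⟩}) := H.preimage hmc
  have hpre : m ⁻¹' {⟨w0, rfl⟩} = {⟨Q, rfl⟩} := by
    ext Q'
    simp only [Set.mem_preimage, Set.mem_singleton_iff]
    constructor
    · intro h
      apply hmi
      rw [h]
    · rintro rfl
      exact Subtype.ext rfl
  rw [hpre] at hopen
  exact Algebra.QuasiFiniteAt.of_isOpen_singleton_fiber Q hopen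

end QuasiFiniteAt

section Kernel

open MvPolynomial

/-- Kernel of an evaluation whose values are algebraically independent on the range of an
injection `ι` and zero elsewhere. -/
theorem ker_aeval_eq_span_X {D L σ τ : Type*} [CommRing D] [CommRing L] [Algebra D L]
    (ι : τ → σ) (hι : Function.Injective ι) (t : σ → L)
    (hind : AlgebraicIndependent D (t ∘ ι)) (hzero : ∀ i, i ∉ Set.range ι → t i = 0) :
    RingHom.ker (MvPolynomial.aeval t : MvPolynomial σ D →ₐ[D] L) =
      Ideal.span (MvPolynomial.X '' (Set.range ι)ᶜ) := by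
  classical
  set I : Ideal (MvPolynomial σ D) := Ideal.span (MvPolynomial.X '' (Set.range ι)ᶜ) with hI
  let θ : MvPolynomial σ D →ₐ[D] MvPolynomial σ D := (rename ι).comp (killCompl hι)
  have hθX : ∀ i, X i - θ (X i) ∈ I := by
    intro i
    by_cases hi : i ∈ Set.range ι
    · obtain ⟨j, rfl⟩ := hi
      have : θ (X (ι j) : MvPolynomial σ D) = X (ι j) := by
        change rename ι (killCompl hι (X (ι j))) = _
        rw [← rename_X (R := D) ι j, killCompl_rename_app]
      rw [this, sub_self]
      exact I.zero_mem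
    · have : θ (X i : MvPolynomial σ D) = 0 := by
        change rename ι (killCompl hι (X i)) = _
        rw [killCompl, aeval_X, dif_neg hi, map_zero]
      rw [this, sub_zero]
      exact Ideal.subset_span ⟨i, hi, rfl⟩
  have hθ : ∀ P : MvPolynomial σ D, P - θ P ∈ I := by
    intro P
    induction P using MvPolynomial.induction_on with
    | C a =>
      have : θ (C a) = C a := by
        change rename ι (killCompl hι (C a)) = _
        rw [killCompl_C, rename_C]
      rw [this, sub_self]
      exact I.zero_mem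
    | add P₁ P₂ h1 h2 =>
      have : P₁ + P₂ - θ (P₁ + P₂) = (P₁ - θ P₁) + (P₂ - θ P₂) := by rw [map_add]; ring
      rw [this]
      exact I.add_mem h1 h2
    | mul_X P₁ i h1 =>
      have : P₁ * X i - θ (P₁ * X i) = P₁ * (X i - θ (X i)) + (P₁ - θ P₁) * θ (X i) := by
        rw [map_mul]; ring
      rw [this]
      exact I.add_mem (I.mul_mem_left _ (hθX i)) (I.mul_mem_right _ h1)
  have hI0 : ∀ P ∈ I, aeval t P = 0 := by
    intro P hP
    have hle : I ≤ RingHom.ker (MvPolynomial.aeval t : MvPolynomial σ D →ₐ[D] L) := by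
      rw [hI, Ideal.span_le]
      rintro _ ⟨i, hi, rfl⟩
      simp only [SetLike.mem_coe, RingHom.mem_ker, aeval_X]
      exact hzero i hi
    exact hle hP
  apply le_antisymm
  · intro P hP
    rw [RingHom.mem_ker] at hP
    have h1 : aeval t (θ P) = 0 := by
      have h2 := hI0 _ (hθ P)
      rw [map_sub, hP, zero_sub, neg_eq_zero] at h2
      exact h2
    have h3 : aeval (t ∘ ι) (killCompl hι P) = 0 := by
      rw [← aeval_rename]
      exact h1
    have h4 : killCompl hι P = 0 := by
      have := hind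
      rw [AlgebraicIndependent] at this
      exact this (by rw [h3, map_zero])
    have h5 : θ P = 0 := by
      change rename ι (killCompl hι P) = 0
      rw [h4, map_zero]
    have h6 := hθ P
    rw [h5, sub_zero] at h6
    exact h6
  · intro P hP
    exact hI0 P hP

/-- Variant over a base ring `R` acting on `L` through `R ⧸ p`. -/
theorem ker_aeval_eq_map_sup_span {R L σ τ : Type*} [CommRing R] [CommRing L] [Algebra R L]
    (p : Ideal R) [Algebra (R ⧸ p) L] [IsScalarTower R (R ⧸ p) L]
    (ι : τ → σ) (hι : Function.Injective ι) (t : σ → L)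
    (hind : AlgebraicIndependent (R ⧸ p) (t ∘ ι)) (hzero : ∀ i, i ∉ Set.range ι → t i = 0) :
    RingHom.ker (MvPolynomial.aeval t : MvPolynomial σ R →ₐ[R] L) =
      p.map (MvPolynomial.C : R →+* MvPolynomial σ R) ⊔
        Ideal.span (MvPolynomial.X '' (Set.range ι)ᶜ) := by
  have hcomp : ∀ P : MvPolynomial σ R, aeval t P =
      aeval t (MvPolynomial.map (Ideal.Quotient.mk p) P) := by
    intro P
    induction P using MvPolynomial.induction_on with
    | C a =>
      simp only [algHom_C, map_C]
      rw [IsScalarTower.algebraMap_apply R (R ⧸ p) L]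
      rfl
    | add P₁ P₂ h1 h2 => rw [map_add, map_add, map_add, h1, h2]
    | mul_X P₁ i h1 => rw [map_mul, map_mul, map_mul, h1, aeval_X, map_X, aeval_X]
  have hker : RingHom.ker (MvPolynomial.aeval t : MvPolynomial σ R →ₐ[R] L) =
      Ideal.comap (MvPolynomial.map (Ideal.Quotient.mk p))
        (RingHom.ker (MvPolynomial.aeval t : MvPolynomial σ (R ⧸ p) →ₐ[R ⧸ p] L)) := by
    ext P
    rw [RingHom.mem_ker, Ideal.mem_comap, RingHom.mem_ker, hcomp]
  rw [hker, ker_aeval_eq_span_X ι hι t hind hzero]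
  have hsurj : Function.Surjective (MvPolynomial.map (σ := σ) (Ideal.Quotient.mk p)) :=
    MvPolynomial.map_surjective _ Ideal.Quotient.mk_surjective
  have hmap : Ideal.span (MvPolynomial.X '' (Set.range ι)ᶜ : Set (MvPolynomial σ (R ⧸ p))) =
      Ideal.map (MvPolynomial.map (Ideal.Quotient.mk p))
        (Ideal.span (MvPolynomial.X '' (Set.range ι)ᶜ : Set (MvPolynomial σ R))) := by
    rw [Ideal.map_span, ← Set.image_comp]
    congr 1
    apply Set.image_congr
    intro i _
    simp
  rw [hmap, Ideal.comap_map_of_surjective _ hsurj, sup_comm, ← RingHom.ker_eq_comap_bot,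
    MvPolynomial.ker_map, Ideal.mk_ker]

end Kernel

end Groth.Agent.Lib.H56NNRefine
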