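/-
helper56: refined relative Noether normalization (Stacks 00QE with prescribed contraction):
for `R → S` of finite type, `q` a prime of `S` over `p` with fibre of local dimension `n` at `q` and
`trdeg κ(q)/κ(p) = r`, there are `g ∉ q` and a quasi-finite `R[x_1..x_n] → S_g` such that the
contraction of `q S_g` is `(p, x_{r+1}, …, x_n)`.
-/
import Mathlib
import Groth.Prelude.Def_Flat
import Groth.Agent.Lib.H56NNRefine1
import Groth.Agent.Lib.H56LocDimRing2
import Groth.Agent.Lib.H30DimFieldRing

set_option autoImplicit false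
set_option linter.unusedSectionVars false
universe u

open TopologicalSpace Topology TensorProduct

namespace Groth.Agent.Lib.H56NNRefine

/-- Instance-agnostic form of the dimension formula `dim_Q Spec T = dim T_Q + trdeg_k κ(Q)`:
the residue field may be replaced by any field `L` with a bijection onto `κ(Q)` compatible with
the maps from `k`. -/
theorem localDim_eq_of_bijective {k T : Type u} [Field k] [CommRing T] [Algebra k T]
    [Algebra.FiniteType k T] (Q : Ideal T) [Q.IsPrime] (L : Type u) [Field L] [Algebra k L]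
    (f : L →+* Q.ResidueField) (hf : Function.Bijective f)
    (hcomp : ∀ c : k, f (algebraMap k L c) = algebraMap T Q.ResidueField (algebraMap k T c))
    (r : ℕ) (hr : Algebra.trdeg k L = r) :
    FlatMor.localDim (PrimeSpectrum T) ⟨Q, inferInstance⟩ =
      ringKrullDim (Localization.AtPrime Q) + (r : WithBot ℕ∞) := by
  apply H30DimFieldRing.localDim_primeSpectrum (k := k)
  rw [← hr]
  let fa : L →ₐ[k] Q.ResidueField :=
    { f with
      commutes' := fun c => by
        change f (algebraMap k L c) = _
        rw [hcomp, ← IsScalarTower.algebraMap_apply] }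
  let e : L ≃ₐ[k] Q.ResidueField := AlgEquiv.ofBijective fa hf
  exact e.symm.trdeg_eq

/-- A prime of height `h` in a Noetherian ring is minimal over an ideal generated by `h`
elements. -/
theorem exists_fin_span_minimalPrimes {T : Type*} [CommRing T] [IsNoetherianRing T] (Q : Ideal T)
    [Q.IsPrime] (h : ℕ) (hh : Q.height = h) :
    ∃ j : Fin h → T, Q ∈ (Ideal.span (Set.range j)).minimalPrimes := by
  obtain ⟨J, hJQ, hrank, hht⟩ := Ideal.exists_spanRank_eq_and_height_eq Q Ideal.IsPrime.ne_top'
  obtain ⟨s, hs, hspan⟩ := Submodule.exists_span_set_card_eq_spanRank J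
  rw [hrank, hh] at hs
  have hs' : Cardinal.mk s = (h : Cardinal) := by simpa using hs
  obtain ⟨e⟩ := Cardinal.mk_eq_nat_iff.mp hs'
  refine ⟨fun i => (e.symm i : T), ?_⟩
  have hrange : Set.range (fun i => (e.symm i : T)) = s := by
    ext x
    constructor
    · rintro ⟨i, rfl⟩
      exact (e.symm i).2
    · intro hx
      exact ⟨e ⟨x, hx⟩, by simp⟩
  rw [hrange]
  have hJ : Ideal.span s = J := hspan
  rw [hJ]
  exact Ideal.mem_minimalPrimes_of_height_le hJQ hht.ge

/-- every element of `T` outside `Q` divides, modulo `Q`, a polynomial expression in (lifts of) a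
transcendence basis of the residue field which is nonzero modulo `Q` -/
theorem exists_dvd_aeval_gen {k T : Type*} [Field k] [CommRing T] [Algebra k T] (Q : Ideal T)
    [Q.IsPrime] (L : Type*) [Field L] [Algebra k L] (ρ : L →+* Q.ResidueField)
    (hρ : Function.Bijective ρ) {σ : Type*} (bT : σ → T) (bL : σ → L)
    (hcompat : ∀ G : MvPolynomial σ k, ρ (MvPolynomial.aeval bL G) =
      algebraMap T Q.ResidueField (MvPolynomial.aeval bT G))
    (hb : IsTranscendenceBasis k bL) (z : T) (hz : z ∉ Q) :
    ∃ G : MvPolynomial σ k, MvPolynomial.aeval bT G ∉ Q ∧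
      ∃ w : T, MvPolynomial.aeval bT G - z * w ∈ Q := by
  let ev : MvPolynomial σ k →ₐ[k] T := MvPolynomial.aeval bT
  let α : MvPolynomial σ k →+* (T ⧸ Q) := (Ideal.Quotient.mk Q).comp ev.toRingHom
  let algD : Algebra (MvPolynomial σ k) (T ⧸ Q) := RingHom.toAlgebra α
  let resEquiv : L ≃+* Q.ResidueField := RingEquiv.ofBijective ρ hρ
  let g : (T ⧸ Q) →+* L :=
    resEquiv.symm.toRingHom.comp (algebraMap (T ⧸ Q) Q.ResidueField)
  have hginj : Function.Injective g :=
    resEquiv.symm.injective.comp Q.injective_algebraMap_quotient_residueField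
  let evb : MvPolynomial σ k →ₐ[k] L := MvPolynomial.aeval bL
  let f : MvPolynomial σ k →+* evb.range := evb.rangeRestrict.toRingHom
  have hfsurj : Function.Surjective f := evb.rangeRestrict_surjective
  have halgA : Algebra.IsAlgebraic evb.range L := by
    have := hb.isAlgebraic
    rwa [Algebra.adjoin_range_eq_range_aeval] at this
  have hgα : ∀ G, g (α G) = evb G := by
    intro G
    change resEquiv.symm (algebraMap (T ⧸ Q) Q.ResidueField (Ideal.Quotient.mk Q (ev G))) = _
    rw [Ideal.algebraMap_quotient_residueField_mk, RingEquiv.symm_apply_eq]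
    exact (hcompat G).symm
  have hcomp : (algebraMap evb.range L).comp f =
      g.comp (algebraMap (MvPolynomial σ k) (T ⧸ Q)) := by
    refine RingHom.ext fun G => ?_
    exact (hgα G).symm
  have hx : Ideal.Quotient.mk Q z ≠ 0 := fun h => hz (Ideal.Quotient.eq_zero_iff_mem.mp h)
  have halgx : IsAlgebraic (MvPolynomial σ k) (Ideal.Quotient.mk Q z) :=
    IsAlgebraic.of_ringHom_of_comp_eq f g (halgA.isAlgebraic _) hfsurj hginj hcomp
  obtain ⟨G, hG0, hdvd⟩ := halgx.exists_nonzero_dvd (mem_nonZeroDivisors_of_ne_zero hx)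
  refine ⟨G, ?_, ?_⟩
  · intro hmem
    have h1 : α G = 0 := Ideal.Quotient.eq_zero_iff_mem.mpr hmem
    have h2 : evb G = 0 := by rw [← hgα, h1, map_zero]
    have h3 : Function.Injective evb := hb.1
    exact hG0 (h3 (by rw [h2, map_zero]))
  · obtain ⟨wbar, hw⟩ := hdvd
    obtain ⟨w, rfl⟩ := Ideal.Quotient.mk_surjective wbar
    refine ⟨w, ?_⟩
    have h1 : Ideal.Quotient.mk Q (ev G) = Ideal.Quotient.mk Q (z * w) := by
      rw [map_mul]
      exact hw
    exact Ideal.Quotient.eq.mp h1

section Fibre

variable {R S : Type u} [CommRing R] [CommRing S] [Algebra R S] (p : Ideal R) [p.IsPrime]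
  (q : Ideal S) [q.IsPrime] [q.LiesOver p]
  [Algebra (Localization.AtPrime p) (Localization.AtPrime q)]
  [Localization.AtPrime.IsLiesOverAlgebra p q]
  (Q : Ideal (p.Fiber S)) [Q.IsPrime]
  (hQ : Q.comap (Algebra.TensorProduct.includeRight.toRingHom) = q)

theorem isScalarTower_residueField : IsScalarTower R p.ResidueField q.ResidueField := by
  have h1 : IsScalarTower R (Localization.AtPrime p) q.ResidueField := inferInstance
  have h2 : IsScalarTower (Localization.AtPrime p) p.ResidueField q.ResidueField := inferInstance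
  exact IsScalarTower.to₁₃₄ R (Localization.AtPrime p) p.ResidueField q.ResidueField

/-- the residue field map `κ(q) → κ(Q)` for the prime `Q` of the fibre over `q` -/
noncomputable def resMap : q.ResidueField →+* Q.ResidueField :=
  Ideal.ResidueField.map q Q (Algebra.TensorProduct.includeRight.toRingHom) hQ.symm

include hQ in
theorem resMap_bijective : Function.Bijective (resMap p q Q hQ) := by
  have h1 : (Algebra.TensorProduct.includeRight (R := R) (A := p.ResidueField)
      (B := S)).toRingHom.SurjectiveOnStalks :=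
    RingHom.SurjectiveOnStalks.baseChange' p.surjectiveOnStalks_residueField
  exact h1.residueFieldMap_bijective q Q hQ.symm

theorem resMap_algebraMap (s : S) :
    resMap p q Q hQ (algebraMap S q.ResidueField s) =
      algebraMap (p.Fiber S) Q.ResidueField ((1 : p.ResidueField) ⊗ₜ[R] s) :=
  Ideal.ResidueField.map_algebraMap q Q _ hQ.symm s

theorem resMap_comp (c : p.ResidueField) :
    resMap p q Q hQ (algebraMap p.ResidueField q.ResidueField c) =
      algebraMap (p.Fiber S) Q.ResidueField (algebraMap p.ResidueField (p.Fiber S) c) := by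
  have hst := isScalarTower_residueField p q
  have key : (resMap p q Q hQ).comp (algebraMap p.ResidueField q.ResidueField) =
      (algebraMap (p.Fiber S) Q.ResidueField).comp (algebraMap p.ResidueField (p.Fiber S)) := by
    apply Ideal.ResidueField.ringHom_ext
    ext a
    simp only [RingHom.comp_apply]
    rw [← IsScalarTower.algebraMap_apply R p.ResidueField q.ResidueField,
      IsScalarTower.algebraMap_apply R S q.ResidueField, resMap_algebraMap]
    congr 1
    rw [Algebra.TensorProduct.algebraMap_apply, Algebra.algebraMap_self, RingHom.id_apply,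
      Algebra.algebraMap_eq_smul_one a, Algebra.algebraMap_eq_smul_one a, smul_tmul]
  exact congrArg (fun φ => φ c) key

omit [q.IsPrime] [q.LiesOver p] [Algebra (Localization.AtPrime p) (Localization.AtPrime q)]
  [Localization.AtPrime.IsLiesOverAlgebra p q] in
/-- In the fibre ring, a prime of height `h` is minimal over an ideal generated by `h` elements
of the form `1 ⊗ s`. -/
theorem exists_fin_one_tmul_minimalPrimes [IsNoetherianRing (p.Fiber S)] (h : ℕ)
    (hh : Q.height = h) :
    ∃ s : Fin h → S, Q ∈ (Ideal.span (Set.range fun i =>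
      ((1 : p.ResidueField) ⊗ₜ[R] s i : p.Fiber S))).minimalPrimes := by
  obtain ⟨j, hj⟩ := exists_fin_span_minimalPrimes Q h hh
  have hex : ∀ i, ∃ ρ : R, ρ ∉ p ∧ ∃ s : S, ρ • j i = (1 : p.ResidueField) ⊗ₜ[R] s := fun i => by
    obtain ⟨ρ, hρ, s, e⟩ := Ideal.Fiber.exists_smul_eq_one_tmul p (j i)
    exact ⟨ρ, hρ, s, e⟩
  choose ρ hρ s hs using hex
  refine ⟨s, ?_⟩
  have hunit : ∀ i, IsUnit (algebraMap R (p.Fiber S) (ρ i)) := by
    intro i
    rw [IsScalarTower.algebraMap_apply R p.ResidueField (p.Fiber S)]
    apply IsUnit.map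
    rw [isUnit_iff_ne_zero]
    exact fun h0 => hρ i ((Ideal.algebraMap_residueField_eq_zero (I := p)).mp h0)
  have heq : Ideal.span (Set.range fun i => ((1 : p.ResidueField) ⊗ₜ[R] s i : p.Fiber S)) =
      Ideal.span (Set.range j) := by
    apply le_antisymm
    · rw [Ideal.span_le]
      rintro _ ⟨i, rfl⟩
      change (1 : p.ResidueField) ⊗ₜ[R] s i ∈ Ideal.span (Set.range j)
      rw [← hs i, Algebra.smul_def]
      exact Ideal.mul_mem_left _ _ (Ideal.subset_span ⟨i, rfl⟩)
    · rw [Ideal.span_le]
      rintro _ ⟨i, rfl⟩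
      obtain ⟨v, hv⟩ := (hunit i).exists_left_inv
      have h1 : j i = v * ((1 : p.ResidueField) ⊗ₜ[R] s i) := by
        rw [← hs i, Algebra.smul_def, ← mul_assoc, hv, one_mul]
      change j i ∈ _
      rw [h1]
      exact Ideal.mul_mem_left _ _ (Ideal.subset_span ⟨i, rfl⟩)
  rw [heq]
  exact hj

omit [q.LiesOver p] [Algebra (Localization.AtPrime p) (Localization.AtPrime q)]
  [Localization.AtPrime.IsLiesOverAlgebra p q] in
/-- `κ(q)` is algebraic over any subalgebra containing the image of `S`. -/
theorem isAlgebraic_adjoin_range (k : Type*) [Field k] [Algebra k q.ResidueField] :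
    Algebra.IsAlgebraic (Algebra.adjoin k (Set.range (algebraMap S q.ResidueField)))
      q.ResidueField := by
  constructor
  intro y
  obtain ⟨a, b, hb, rfl⟩ := IsFractionRing.div_surjective (A := S ⧸ q) y
  obtain ⟨a', rfl⟩ := Ideal.Quotient.mk_surjective a
  obtain ⟨b', rfl⟩ := Ideal.Quotient.mk_surjective b
  rw [Ideal.algebraMap_quotient_residueField_mk, Ideal.algebraMap_quotient_residueField_mk]
  have hb0 : algebraMap S q.ResidueField b' ≠ 0 := by
    rw [← Ideal.algebraMap_quotient_residueField_mk]
    exact IsFractionRing.to_map_ne_zero_of_mem_nonZeroDivisors hb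
  let A' : Algebra.adjoin k (Set.range (algebraMap S q.ResidueField)) :=
    ⟨algebraMap S q.ResidueField a', Algebra.subset_adjoin ⟨a', rfl⟩⟩
  let B' : Algebra.adjoin k (Set.range (algebraMap S q.ResidueField)) :=
    ⟨algebraMap S q.ResidueField b', Algebra.subset_adjoin ⟨b', rfl⟩⟩
  have hB' : B' ≠ 0 := fun h => hb0 (congrArg Subtype.val h)
  refine ⟨Polynomial.C B' * Polynomial.X - Polynomial.C A', ?_, ?_⟩
  · intro h
    have h1 := congrArg (fun f => Polynomial.coeff f 1) h
    simp at h1
    exact hB' h1
  · simp only [map_sub, map_mul, Polynomial.aeval_C, Polynomial.aeval_X]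
    change algebraMap S q.ResidueField b' * (algebraMap S q.ResidueField a' /
      algebraMap S q.ResidueField b') - algebraMap S q.ResidueField a' = 0
    field_simp
    ring

/-- A transcendence basis of `κ(q)` over `κ(p)` can be chosen among the images of elements
of `S`. -/
theorem exists_isTranscendenceBasis_of_trdeg (r : ℕ)
    (hr : Algebra.trdeg p.ResidueField q.ResidueField = r) :
    ∃ a : Fin r → S,
      IsTranscendenceBasis p.ResidueField (fun i => algebraMap S q.ResidueField (a i)) := by
  have halg := isAlgebraic_adjoin_range q p.ResidueField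
  obtain ⟨t, htS, ht⟩ := exists_isTranscendenceBasis_subset (R := p.ResidueField)
    (Set.range (algebraMap S q.ResidueField))
  have hcard : Cardinal.mk t = (r : Cardinal) := by
    rw [← hr]
    exact ht.cardinalMk_eq_trdeg
  obtain ⟨e⟩ := Cardinal.mk_eq_nat_iff.mp hcard
  have hb : IsTranscendenceBasis p.ResidueField ((Subtype.val : t → q.ResidueField) ∘ e.symm) :=
    ht.comp_equiv e.symm
  have hex : ∀ i : Fin r, ∃ a : S, algebraMap S q.ResidueField a = (e.symm i : q.ResidueField) :=
    fun i => htS (e.symm i).2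
  choose a ha using hex
  refine ⟨a, ?_⟩
  convert hb using 1
  ext i
  exact ha i

theorem resMap_aeval {σ : Type*} (a : σ → S) (G : MvPolynomial σ p.ResidueField) :
    resMap p q Q hQ (MvPolynomial.aeval (fun i => algebraMap S q.ResidueField (a i)) G) =
      algebraMap (p.Fiber S) Q.ResidueField
        (MvPolynomial.aeval (fun i => ((1 : p.ResidueField) ⊗ₜ[R] a i : p.Fiber S)) G) := by
  induction G using MvPolynomial.induction_on with
  | C c =>
    rw [MvPolynomial.algHom_C, MvPolynomial.algHom_C, resMap_comp]
  | add G₁ G₂ h1 h2 => rw [map_add, map_add, map_add, map_add, h1, h2]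
  | mul_X G₁ i h1 =>
    rw [map_mul, map_mul, map_mul, map_mul, h1, MvPolynomial.aeval_X, MvPolynomial.aeval_X,
      resMap_algebraMap]

include hQ in
/-- every element of the fibre ring outside `Q` divides, modulo `Q`, a polynomial expression in the
chosen transcendence basis which is nonzero modulo `Q` -/
theorem exists_dvd_aeval (r : ℕ) (a : Fin r → S)
    (hb : IsTranscendenceBasis p.ResidueField (fun i => algebraMap S q.ResidueField (a i)))
    (z : p.Fiber S) (hz : z ∉ Q) :
    ∃ G : MvPolynomial (Fin r) p.ResidueField,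
      MvPolynomial.aeval (fun i => ((1 : p.ResidueField) ⊗ₜ[R] a i : p.Fiber S)) G ∉ Q ∧
      ∃ w : p.Fiber S,
        MvPolynomial.aeval (fun i => ((1 : p.ResidueField) ⊗ₜ[R] a i : p.Fiber S)) G - z * w ∈ Q :=
  exists_dvd_aeval_gen Q q.ResidueField (resMap p q Q hQ) (resMap_bijective p q Q hQ) _ _
    (resMap_aeval p q Q hQ a) hb z hz

end Fibre

/-- **Stacks 00QE, refined form**: relative Noether normalization with prescribed contraction. -/
theorem exists_quasiFinite_comap_eq {R S : Type u} [CommRing R] [CommRing S] [Algebra R S]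
    [Algebra.FiniteType R S] (p : Ideal R) [p.IsPrime] (q : Ideal S) [q.IsPrime] [q.LiesOver p]
    [Algebra (Localization.AtPrime p) (Localization.AtPrime q)]
    [Localization.AtPrime.IsLiesOverAlgebra p q] (Q : PrimeSpectrum (p.Fiber S))
    (hQ : Q.asIdeal.comap (Algebra.TensorProduct.includeRight.toRingHom) = q) (n r : ℕ)
    (hdim : FlatMor.localDim (PrimeSpectrum (p.Fiber S)) Q = (n : WithBot ℕ∞))
    (hr : Algebra.trdeg p.ResidueField q.ResidueField = r) :
    ∃ g : S, g ∉ q ∧ ∃ φ : MvPolynomial (Fin n) R →ₐ[R] Localization.Away g,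
      φ.toRingHom.FiniteType ∧ φ.toRingHom.QuasiFinite ∧
      (q.map (algebraMap S (Localization.Away g))).comap φ =
        p.map (MvPolynomial.C : R →+* MvPolynomial (Fin n) R) ⊔
          Ideal.span (Set.range fun i : {i : Fin n // r ≤ (i : ℕ)} =>
            (MvPolynomial.X (i : Fin n) : MvPolynomial (Fin n) R)) := by
  have hft : Algebra.FiniteType p.ResidueField (p.Fiber S) :=
    Algebra.FiniteType.baseChange p.ResidueField
  have hnoeth : IsNoetherianRing (p.Fiber S) :=
    Algebra.FiniteType.isNoetherianRing p.ResidueField (p.Fiber S)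
  -- the height of `Q`
  have hloc := localDim_eq_of_bijective (k := p.ResidueField) (T := p.Fiber S) Q.asIdeal
    q.ResidueField (resMap p q Q.asIdeal hQ) (resMap_bijective p q Q.asIdeal hQ)
    (resMap_comp p q Q.asIdeal hQ) r hr
  have hQeq : (⟨Q.asIdeal, inferInstance⟩ : PrimeSpectrum (p.Fiber S)) = Q := rfl
  rw [hQeq, hdim, IsLocalization.AtPrime.ringKrullDim_eq_height Q.asIdeal] at hloc
  have hne : Q.asIdeal.height ≠ ⊤ := by
    intro htop
    rw [htop] at hloc
    have h1 : ((n : ℕ∞) : WithBot ℕ∞) = ((⊤ + (r : ℕ∞) : ℕ∞) : WithBot ℕ∞) := by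
      push_cast
      exact hloc
    have h2 : (n : ℕ∞) = ⊤ + (r : ℕ∞) := WithBot.coe_injective h1
    rw [top_add] at h2
    exact ENat.natCast_ne_top n h2
  obtain ⟨h, hh⟩ := ENat.ne_top_iff_exists.mp hne
  have hnhr : n = h + r := by
    rw [← hh] at hloc
    exact_mod_cast hloc
  obtain ⟨s, hs⟩ := exists_fin_one_tmul_minimalPrimes p Q.asIdeal h hh.symm
  obtain ⟨a, ha⟩ := exists_isTranscendenceBasis_of_trdeg p q r hr
  subst hnhr
  -- the elements `s i` lie in `q`
  have hsq : ∀ i, s i ∈ q := by
    intro i
    rw [← hQ]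
    change ((1 : p.ResidueField) ⊗ₜ[R] s i : p.Fiber S) ∈ Q.asIdeal
    exact hs.1.2 (Ideal.subset_span ⟨i, rfl⟩)
  -- the parameters
  let t : Fin (h + r) → S := fun i =>
    if hi : (i : ℕ) < r then a ⟨i, hi⟩ else s ⟨i - r, by have := i.2; omega⟩
  have htlt : ∀ (i : Fin (h + r)) (hi : (i : ℕ) < r), t i = a ⟨i, hi⟩ := fun i hi => dif_pos hi
  have htge : ∀ (i : Fin (h + r)) (hi : ¬ (i : ℕ) < r),
      t i = s ⟨i - r, by have := i.2; omega⟩ := fun i hi => dif_neg hi
  let ψ₀ : MvPolynomial (Fin (h + r)) R →ₐ[R] S := MvPolynomial.aeval t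
  let _ : Algebra (MvPolynomial (Fin (h + r)) R) S := ψ₀.toRingHom.toAlgebra
  have hst : IsScalarTower R (MvPolynomial (Fin (h + r)) R) S :=
    IsScalarTower.of_algebraMap_eq (fun x => (ψ₀.commutes x).symm)
  have hftP : Algebra.FiniteType (MvPolynomial (Fin (h + r)) R) S :=
    Algebra.FiniteType.of_restrictScalars_finiteType R _ _
  have hψ₀ : IsScalarTower.toAlgHom R (MvPolynomial (Fin (h + r)) R) S = ψ₀ := by
    ext x; rfl
  have hqp : PrimeSpectrum.comap (algebraMap R S) ⟨q, inferInstance⟩ = ⟨p, inferInstance⟩ :=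
    PrimeSpectrum.ext (q.over_def p).symm
  have hw0 : PrimeSpectrum.preimageHomeomorphFiber R S ⟨p, inferInstance⟩
      ⟨⟨q, inferInstance⟩, hqp⟩ = Q := by
    rw [← Homeomorph.eq_symm_apply]
    apply Subtype.ext
    exact PrimeSpectrum.ext hQ.symm
  let θ := Algebra.TensorProduct.map (AlgHom.id p.ResidueField p.ResidueField)
      (IsScalarTower.toAlgHom R (MvPolynomial (Fin (h + r)) R) S)
  have hθ : ∀ (c : p.ResidueField) (G : MvPolynomial (Fin (h + r)) R),
      θ (c ⊗ₜ[R] G) = c ⊗ₜ[R] ψ₀ G := by
    intro c G
    rw [← hψ₀]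
    rfl
  have hqf : Algebra.QuasiFiniteAt (MvPolynomial (Fin (h + r)) R) q := by
    have key : ∀ w : PrimeSpectrum (p.Fiber S), w = Q →
        IsOpen ({⟨w, rfl⟩} : Set (PrimeSpectrum.comap θ.toRingHom ⁻¹'
          {PrimeSpectrum.comap θ.toRingHom w})) := by
      rintro w rfl
      refine isOpen_singleton_fiber_of_minimalPrimes θ.toRingHom
        (Ideal.span (Set.range fun i => ((1 : p.ResidueField) ⊗ₜ[R] s i : p.Fiber S))) w ?_ hs ?_
      · intro Q' hQ'
        rw [Ideal.span_le]
        rintro _ ⟨i, rfl⟩
        have hlt : r + (i : ℕ) < h + r := by have := i.2; omega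
        have hi : ¬ ((⟨r + i, hlt⟩ : Fin (h + r)) : ℕ) < r := by simp
        have h1 : θ ((1 : p.ResidueField) ⊗ₜ[R]
            (MvPolynomial.X ⟨r + i, hlt⟩ : MvPolynomial (Fin (h + r)) R)) =
            (1 : p.ResidueField) ⊗ₜ[R] s i := by
          rw [hθ]
          congr 1
          change MvPolynomial.aeval t (MvPolynomial.X _) = _
          rw [MvPolynomial.aeval_X, htge _ hi]
          congr 1
          apply Fin.ext
          simp
        have h2 : ((1 : p.ResidueField) ⊗ₜ[R]
            (MvPolynomial.X ⟨r + i, hlt⟩ : MvPolynomial (Fin (h + r)) R)) ∈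
            (PrimeSpectrum.comap θ.toRingHom w).asIdeal := by
          change θ _ ∈ w.asIdeal
          rw [h1]
          exact hs.1.2 (Ideal.subset_span ⟨i, rfl⟩)
        rw [← hQ'] at h2
        change θ _ ∈ Q'.asIdeal at h2
        rw [h1] at h2
        exact h2
      · intro z hz
        obtain ⟨G, hG, w', hw'⟩ := exists_dvd_aeval p q w.asIdeal hQ r a ha z hz
        let v : Fin r → p.Fiber (MvPolynomial (Fin (h + r)) R) := fun i =>
          (1 : p.ResidueField) ⊗ₜ[R] MvPolynomial.X (Fin.castLE (Nat.le_add_left r h) i)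
        have hv : θ.toRingHom (MvPolynomial.aeval v G) =
            MvPolynomial.aeval (fun i => ((1 : p.ResidueField) ⊗ₜ[R] a i : p.Fiber S)) G := by
          change θ (MvPolynomial.aeval v G) = _
          rw [MvPolynomial.comp_aeval_apply]
          congr 2
          funext i
          rw [hθ]
          congr 1
          change MvPolynomial.aeval t (MvPolynomial.X _) = _
          rw [MvPolynomial.aeval_X, htlt _ (by simp)]
          rfl
        refine ⟨MvPolynomial.aeval v G, ?_, w', ?_⟩
        · rw [hv]; exact hG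
        · rw [hv]; exact hw'
    have := quasiFiniteAt_of_isOpen_fiber (R := R) (P := MvPolynomial (Fin (h + r)) R) (B := S) p
      ⟨q, inferInstance⟩ hqp (key _ hw0)
    exact this
  obtain ⟨g, hg, hqfg⟩ := H56LocDim.exists_away_quasiFinite (P := MvPolynomial (Fin (h + r)) R) q
  refine ⟨g, hg, ?_⟩
  have hst' : IsScalarTower R (MvPolynomial (Fin (h + r)) R) (Localization.Away g) :=
    IsScalarTower.of_algebraMap_eq (fun x => by
      rw [IsScalarTower.algebraMap_apply R S (Localization.Away g),
        IsScalarTower.algebraMap_apply (MvPolynomial (Fin (h + r)) R) S (Localization.Away g),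
        ← IsScalarTower.algebraMap_apply R (MvPolynomial (Fin (h + r)) R) S])
  have hftg : Algebra.FiniteType R (Localization.Away g) :=
    Algebra.FiniteType.trans (inferInstance : Algebra.FiniteType R S)
      (IsLocalization.finiteType_of_monoid_fg (Submonoid.powers g) (Localization.Away g))
  have hftPg : Algebra.FiniteType (MvPolynomial (Fin (h + r)) R) (Localization.Away g) :=
    Algebra.FiniteType.of_restrictScalars_finiteType R _ _
  let φ : MvPolynomial (Fin (h + r)) R →ₐ[R] Localization.Away g :=
    IsScalarTower.toAlgHom R (MvPolynomial (Fin (h + r)) R) (Localization.Away g)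
  have hφ : φ.toRingHom = algebraMap (MvPolynomial (Fin (h + r)) R) (Localization.Away g) := rfl
  refine ⟨φ, ?_, ?_, ?_⟩
  · rw [hφ]
    exact RingHom.finiteType_algebraMap.mpr hftPg
  · rw [hφ]
    exact RingHom.quasiFinite_algebraMap.mpr hqfg
  · -- the contraction
    have hdisj : Disjoint (Submonoid.powers g : Set S) (q : Set S) := by
      rw [Set.disjoint_left]
      rintro _ ⟨k, rfl⟩ hk
      exact hg (Ideal.IsPrime.mem_of_pow_mem inferInstance k hk)
    have hunder : Ideal.comap (algebraMap S (Localization.Away g))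
        (q.map (algebraMap S (Localization.Away g))) = q :=
      IsLocalization.under_map_of_isPrime_disjoint (Submonoid.powers g) (Localization.Away g)
        inferInstance hdisj
    have hcomap : (q.map (algebraMap S (Localization.Away g))).comap φ =
        Ideal.comap (algebraMap (MvPolynomial (Fin (h + r)) R) S) q := by
      rw [← hunder]
      rw [Ideal.comap_comap]
      rw [hunder]
      rfl
    let tL : Fin (h + r) → q.ResidueField := fun i => algebraMap S q.ResidueField (t i)
    have hker : Ideal.comap (algebraMap (MvPolynomial (Fin (h + r)) R) S) q =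
        RingHom.ker (MvPolynomial.aeval tL : MvPolynomial (Fin (h + r)) R →ₐ[R] q.ResidueField) := by
      ext G
      rw [Ideal.mem_comap, RingHom.mem_ker]
      have h1 : MvPolynomial.aeval tL G = algebraMap S q.ResidueField (MvPolynomial.aeval t G) :=
        MvPolynomial.aeval_algebraMap_apply q.ResidueField t G
      rw [h1, ← RingHom.mem_ker, Ideal.ker_algebraMap_residueField]
      rfl
    rw [hcomap, hker]
    -- the algebra structure of `κ(q)` over `R ⧸ p`
    have hkerR : ∀ x ∈ p, algebraMap R q.ResidueField x = 0 := by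
      intro x hx
      rw [IsScalarTower.algebraMap_apply R S q.ResidueField,
        ← RingHom.mem_ker, Ideal.ker_algebraMap_residueField]
      have : p = Ideal.comap (algebraMap R S) q := q.over_def p
      rw [this] at hx
      exact hx
    let _ : Algebra (R ⧸ p) q.ResidueField :=
      (Ideal.Quotient.lift p (algebraMap R q.ResidueField) hkerR).toAlgebra
    have hst1 : IsScalarTower R (R ⧸ p) q.ResidueField :=
      IsScalarTower.of_algebraMap_eq (fun x => rfl)
    have hst0 := isScalarTower_residueField p q
    have hst2 : IsScalarTower (R ⧸ p) p.ResidueField q.ResidueField := by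
      refine IsScalarTower.of_algebraMap_eq (fun x => ?_)
      obtain ⟨x, rfl⟩ := Ideal.Quotient.mk_surjective x
      change algebraMap R q.ResidueField x = _
      rw [Ideal.algebraMap_quotient_residueField_mk,
        ← IsScalarTower.algebraMap_apply R p.ResidueField q.ResidueField]
    have hle : r ≤ h + r := Nat.le_add_left r h
    have hind : AlgebraicIndependent (R ⧸ p) (tL ∘ Fin.castLE hle) := by
      have h1 : tL ∘ Fin.castLE hle = fun i => algebraMap S q.ResidueField (a i) := by
        funext i
        change algebraMap S q.ResidueField (t (Fin.castLE hle i)) = _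
        rw [htlt _ (by simp)]
        rfl
      rw [h1]
      exact AlgebraicIndependent.restrictScalars (K := p.ResidueField)
        p.injective_algebraMap_quotient_residueField ha.1
    have hzero : ∀ i, i ∉ Set.range (Fin.castLE hle) → tL i = 0 := by
      intro i hi
      rw [Fin.range_castLE, Set.mem_ofPred_eq] at hi
      change algebraMap S q.ResidueField (t i) = 0
      rw [htge i hi, ← RingHom.mem_ker, Ideal.ker_algebraMap_residueField]
      exact hsq _
    rw [ker_aeval_eq_map_sup_span p (Fin.castLE hle) (Fin.castLE_injective hle) tL hind hzero]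
    congr 2
    ext G
    constructor
    · rintro ⟨i, hi, rfl⟩
      rw [Fin.range_castLE, Set.mem_compl_iff, Set.mem_ofPred_eq, not_lt] at hi
      exact ⟨⟨i, hi⟩, rfl⟩
    · rintro ⟨⟨i, hi⟩, rfl⟩
      refine ⟨i, ?_, rfl⟩
      rw [Fin.range_castLE, Set.mem_compl_iff, Set.mem_ofPred_eq, not_lt]
      exact hi

end Groth.Agent.Lib.H56NNRefine
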