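import Mathlib
import Groth.Agent.Lib.H56ValFib
import Groth.Agent.Lib.DimIneqLocal

/-!
# Fibre dimension over Prüfer bases (helper56)

Generalization of `H56ValTrdeg2` / `H56ValFib` from valuation rings to rings whose localization at
the relevant prime is a valuation ring.

* `trdeg_le_of_prime_le_of_valuationRing_at`: `Q₀ ≤ q` primes of an `R`-algebra `B` with
  `R_{q ∩ R}` a valuation ring: `trdeg (R/q∩R) (B/q) ≤ trdeg (R/Q₀∩R) (B/Q₀)`.
* `tdeg_le_of_specializes_of_valuationRing_at`, `tdeg_le_of_specializes_Spec_prufer`: scheme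
  versions.
* `compDims_eq_singleton_of_tdeg_mono`, `dim_fiber_eq_of_irreducible_of_tdeg_mono`: if the relative
  transcendence degree is monotone under generization and `X` is irreducible, all irreducible
  components of all nonempty fibres have the same dimension.
* `dim_fiber_eq_of_irreducible_Spec_prufer`.
-/

set_option autoImplicit false
universe u

namespace Groth.Agent.Lib.H56Prufer

open Groth.Agent.Lib.H56ValTrdeg Groth.Agent.Lib.DimIneqLocal Groth.Agent.Lib.TrdegTransfer

section Ring

variable {R B : Type u} [CommRing R] [CommRing B] [Algebra R B]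

theorem trdeg_le_of_prime_le_of_valuationRing_at
    (q : Ideal B) [q.IsPrime] [IsDomain (Localization.AtPrime (q.under R))]
    [ValuationRing (Localization.AtPrime (q.under R))]
    (Q₀ : Ideal B) [Q₀.IsPrime] (hle : Q₀ ≤ q) :
    Algebra.trdeg (R ⧸ q.under R) (B ⧸ q) ≤ Algebra.trdeg (R ⧸ Q₀.under R) (B ⧸ Q₀) := by
  let M := (q.under R).primeCompl
  let R' := Localization.AtPrime (q.under R)
  let B' := Localization (Algebra.algebraMapSubmonoid B M)
  have hdisj : Disjoint (Algebra.algebraMapSubmonoid B M : Set B) (q : Set B) :=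
    disjoint_algebraMapSubmonoid_under q
  have hdisj₀ : Disjoint (Algebra.algebraMapSubmonoid B M : Set B) (Q₀ : Set B) :=
    hdisj.mono_right hle
  let q' : Ideal B' := q.map (algebraMap B B')
  let Q₀' : Ideal B' := Q₀.map (algebraMap B B')
  have hq' : q'.IsPrime :=
    IsLocalization.isPrime_of_isPrime_disjoint (Algebra.algebraMapSubmonoid B M) B' q
      inferInstance hdisj
  have hQ₀' : Q₀'.IsPrime :=
    IsLocalization.isPrime_of_isPrime_disjoint (Algebra.algebraMapSubmonoid B M) B' Q₀
      inferInstance hdisj₀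
  have hq'q : q'.under B = q :=
    IsLocalization.under_map_of_isPrime_disjoint (Algebra.algebraMapSubmonoid B M) B'
      inferInstance hdisj
  have hQ₀'Q₀ : Q₀'.under B = Q₀ :=
    IsLocalization.under_map_of_isPrime_disjoint (Algebra.algebraMapSubmonoid B M) B'
      inferInstance hdisj₀
  have hle' : Q₀' ≤ q' := Ideal.map_mono hle
  have hmain := trdeg_le_of_prime_le_of_valuationRing (R := R') (B := B') q' Q₀' hle'
  rw [trdeg_quotient_localization M q' q hq'q, trdeg_quotient_localization M Q₀' Q₀ hQ₀'Q₀]
    at hmain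
  exact hmain

end Ring

open AlgebraicGeometry CategoryTheory Groth.Agent.Lib.DimIneqScheme Groth.Agent.Lib.H56OpenDim

variable {X Y : Scheme.{u}}

/-- over an affine open of the base all of whose localizations at primes are valuation rings, the
relative transcendence degree of the residue field grows under generization -/
theorem tdeg_le_of_specializes_of_valuationRing_at (f : X ⟶ Y) [LocallyOfFiniteType f]
    {V : Y.Opens} (hV : IsAffineOpen V)
    (hdom : ∀ (P : Ideal Γ(Y, V)) [P.IsPrime], IsDomain (Localization.AtPrime P))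
    (hval : ∀ (P : Ideal Γ(Y, V)) [P.IsPrime], ValuationRing (Localization.AtPrime P))
    (x x' : X) (h : x' ⤳ x) (hx : f x ∈ V) : tdeg f x ≤ tdeg f x' := by
  obtain ⟨U, hU, hxU, e⟩ : ∃ U : X.Opens, IsAffineOpen U ∧ x ∈ U ∧ U ≤ f ⁻¹ᵁ V := by
    obtain ⟨_, ⟨U, hU, rfl⟩, hxU, hUV⟩ := X.isBasis_affineOpens.exists_subset_of_mem_open
      (show x ∈ ((f ⁻¹ᵁ V : X.Opens) : Set X) from hx) (f ⁻¹ᵁ V).isOpen
    exact ⟨U, hU, hxU, hUV⟩
  have hx'U : x' ∈ U := h.mem_open U.isOpen hxU
  let alg := (f.appLE V U e).hom.toAlgebra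
  have hle := Groth.Agent.Lib.DimIneqComponent.primeIdealOf_le_of_specializes hU x' x hx'U hxU h
  have := hdom ((hU.primeIdealOf ⟨x, hxU⟩).asIdeal.under Γ(Y, V))
  have := hval ((hU.primeIdealOf ⟨x, hxU⟩).asIdeal.under Γ(Y, V))
  have h1 := trdeg_le_of_prime_le_of_valuationRing_at (R := Γ(Y, V)) (B := Γ(X, U))
    (hU.primeIdealOf ⟨x, hxU⟩).asIdeal (hU.primeIdealOf ⟨x', hx'U⟩).asIdeal hle
  rw [← trdeg_residueField_eq f hU hV e x hxU, ← trdeg_residueField_eq f hU hV e x' hx'U,
    trdeg_eq_tdeg f x, trdeg_eq_tdeg f x'] at h1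
  exact_mod_cast h1

/-- the Prüfer property transfers along ring isomorphisms -/
theorem valuationRing_localization_of_ringEquiv {R R' : Type u} [CommRing R] [CommRing R']
    [IsDomain R] (e : R ≃+* R')
    (hR : ∀ (p : Ideal R) [p.IsPrime], ValuationRing (Localization.AtPrime p))
    (P : Ideal R') [P.IsPrime] :
    ∃ _ : IsDomain (Localization.AtPrime P), ValuationRing (Localization.AtPrime P) := by
  have hdomR' : IsDomain R' := MulEquiv.isDomain R e.symm.toMulEquiv
  refine ⟨inferInstance, ?_⟩
  let p : Ideal R := P.comap e.toRingHom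
  have hp : p.IsPrime := Ideal.comap_isPrime _ _
  have := hR p
  have hmap : Submonoid.map e.toMonoidHom p.primeCompl = P.primeCompl := by
    ext y
    constructor
    · rintro ⟨x, hx, rfl⟩
      exact hx
    · intro hy
      refine ⟨e.symm y, ?_, e.apply_symm_apply y⟩
      change e.symm y ∉ p
      intro hcon
      apply hy
      have : e (e.symm y) ∈ P := hcon
      rwa [e.apply_symm_apply] at this
  let ε : Localization.AtPrime p ≃+* Localization.AtPrime P :=
    IsLocalization.ringEquivOfRingEquiv (Localization.AtPrime p) (Localization.AtPrime P) e hmap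
  exact Function.Surjective.valuationRing ε.toRingHom ε.surjective

/-- over the spectrum of a Prüfer domain, the relative transcendence degree of the residue field
grows under generization -/
theorem tdeg_le_of_specializes_Spec_prufer (R : Type u) [CommRing R] [IsDomain R]
    (hR : ∀ (p : Ideal R) [p.IsPrime], ValuationRing (Localization.AtPrime p))
    (f : X ⟶ Spec (CommRingCat.of R)) [LocallyOfFiniteType f] (x x' : X) (h : x' ⤳ x) :
    tdeg f x ≤ tdeg f x' := by
  have hV : IsAffineOpen (⊤ : (Spec (CommRingCat.of R)).Opens) := isAffineOpen_top _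
  let e : R ≃+* Γ(Spec (CommRingCat.of R), ⊤) :=
    (Scheme.ΓSpecIso (CommRingCat.of R)).symm.commRingCatIsoToRingEquiv
  exact tdeg_le_of_specializes_of_valuationRing_at f hV
    (fun P _ => (valuationRing_localization_of_ringEquiv e hR P).1)
    (fun P _ => (valuationRing_localization_of_ringEquiv e hR P).2) x x' h trivial

/-- `X` irreducible and the relative transcendence degree monotone under generization: all
irreducible components of all nonempty fibres have dimension `tdeg f ξ`, for `ξ` the generic point
of `X` -/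
theorem compDims_eq_singleton_of_tdeg_mono (f : X ⟶ Y) [LocallyOfFiniteType f] [IrreducibleSpace X]
    (hmono : ∀ x x' : X, x' ⤳ x → tdeg f x ≤ tdeg f x')
    (s : Y) (hs : ∃ x : X, f x = s) :
    compDims f s = {tdeg f (genericPoint X)} := by
  have hξmax : IsMaxInFibre f (genericPoint X) := fun v hv _ =>
    (hv.antisymm (genericPoint_specializes v)).eq
  have key : ∀ z : X, IsMaxInFibre f z → tdeg f z = tdeg f (genericPoint X) := by
    intro z hz
    apply le_antisymm (hmono z _ (genericPoint_specializes z))
    have h4 := fibreDimAt_le_of_specializes f _ z (genericPoint_specializes z)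
    rw [fibreDimAt_eq_tdeg_of_maximal' f z hz, fibreDimAt_eq_tdeg_of_maximal' f _ hξmax] at h4
    exact_mod_cast h4
  apply Set.Subset.antisymm
  · rintro n ⟨z, -, hzmax, rfl⟩
    exact key z hzmax
  · rintro n rfl
    obtain ⟨x, hx⟩ := hs
    obtain ⟨w, -, hfw, hwmax, -⟩ := exists_maxInFibre_fibreDimAt_eq f x
    exact ⟨w, hfw.trans hx, hwmax, key w hwmax⟩

theorem dim_fiber_eq_of_irreducible_of_tdeg_mono (f : X ⟶ Y) [LocallyOfFiniteType f]
    [IrreducibleSpace X] (hmono : ∀ x x' : X, x' ⤳ x → tdeg f x ≤ tdeg f x')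
    (s s' : Y) (hs : ∃ x : X, f x = s) (hs' : ∃ x : X, f x = s') :
    topologicalKrullDim (f.fiber s) = topologicalKrullDim (f.fiber s') := by
  have h1 := compDims_eq_singleton_of_tdeg_mono f hmono s hs
  have h2 := compDims_eq_singleton_of_tdeg_mono f hmono s' hs'
  exact le_antisymm (dim_fiber_le_of_compDims_subset f s s' (h1.trans h2.symm).le)
    (dim_fiber_le_of_compDims_subset f s' s (h2.trans h1.symm).le)

/-- `X` irreducible, locally of finite type over a Prüfer domain: all nonempty fibres have the same
dimension. -/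
theorem dim_fiber_eq_of_irreducible_Spec_prufer (R : Type u) [CommRing R] [IsDomain R]
    (hR : ∀ (p : Ideal R) [p.IsPrime], ValuationRing (Localization.AtPrime p))
    (f : X ⟶ Spec (CommRingCat.of R)) [LocallyOfFiniteType f] [IrreducibleSpace X]
    (s s' : Spec (CommRingCat.of R)) (hs : ∃ x : X, f x = s) (hs' : ∃ x : X, f x = s') :
    topologicalKrullDim (f.fiber s) = topologicalKrullDim (f.fiber s') :=
  dim_fiber_eq_of_irreducible_of_tdeg_mono f
    (fun x x' h => tdeg_le_of_specializes_Spec_prufer R hR f x x' h) s s' hs hs'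

end Groth.Agent.Lib.H56Prufer
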