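import Mathlib
import Groth.Agent.Lib.DimIneqScheme
import Groth.Agent.Lib.H56OpenFibDim

/-!
# Residue field transcendence degrees on `Spec` (helper56)

Bridge between the scheme-level relative transcendence degree `tdeg f x` for
`f = Spec.map (algebraMap R S)` and the ring-level `Algebra.trdeg (R ⧸ q ∩ R) (S ⧸ q)`.

* `trdeg_Spec_eq`, `tdeg_Spec_eq`.
-/

set_option autoImplicit false
universe u

open AlgebraicGeometry CategoryTheory

namespace Groth.Agent.Lib.H56SpecTrdeg

open Groth.Agent.Lib.DimIneqScheme Groth.Agent.Lib.H56OpenDim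

variable {R S : Type u} [CommRing R] [CommRing S] [Algebra R S]

/-- The morphism `Spec S ⟶ Spec R`. -/
noncomputable abbrev sp (R S : Type u) [CommRing R] [CommRing S] [Algebra R S] :
    Spec (CommRingCat.of S) ⟶ Spec (CommRingCat.of R) :=
  Spec.map (CommRingCat.ofHom (algebraMap R S))

theorem sp_apply (x : PrimeSpectrum S) :
    (sp R S) x = PrimeSpectrum.comap (algebraMap R S) x := rfl

theorem trdeg_Spec_eq (x : PrimeSpectrum S) :
    (letI := ((sp R S).residueFieldMap x).hom.toAlgebra
     Algebra.trdeg ((Spec (CommRingCat.of R)).residueField ((sp R S) x))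
      ((Spec (CommRingCat.of S)).residueField x)) =
      Algebra.trdeg (R ⧸ x.asIdeal.under R) (S ⧸ x.asIdeal) := by
  let _ := ((sp R S).residueFieldMap x).hom.toAlgebra
  let evR : R →+* (Spec (CommRingCat.of R)).residueField ((sp R S) x) :=
    ((Spec (CommRingCat.of R)).Γevaluation ((sp R S) x)).hom.comp
      (Scheme.ΓSpecIso (CommRingCat.of R)).inv.hom
  let evB : S →+* (Spec (CommRingCat.of S)).residueField x :=
    ((Spec (CommRingCat.of S)).Γevaluation x).hom.comp (Scheme.ΓSpecIso (CommRingCat.of S)).inv.hom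
  refine trdeg_eq_of_evaluations evR evB ?_ ?_ ?_ x.asIdeal ?_
  · intro r
    change (Spec (CommRingCat.of S)).Γevaluation x
        ((Scheme.ΓSpecIso (CommRingCat.of S)).inv (algebraMap R S r)) =
      (sp R S).residueFieldMap x ((Spec (CommRingCat.of R)).Γevaluation ((sp R S) x)
        ((Scheme.ΓSpecIso (CommRingCat.of R)).inv r))
    rw [Scheme.Γevaluation_naturality_apply]
    congr 1
    have := Scheme.ΓSpecIso_inv_naturality (CommRingCat.ofHom (algebraMap R S))
    exact congrArg (fun φ => φ.hom r) this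
  · intro k
    obtain ⟨b, t, ht, h⟩ := exists_evaluation_frac (isAffineOpen_top (Spec (CommRingCat.of R)))
      ((sp R S) x) trivial k
    refine ⟨(Scheme.ΓSpecIso (CommRingCat.of R)).hom b, (Scheme.ΓSpecIso (CommRingCat.of R)).hom t,
      ?_, ?_⟩
    · change (Spec (CommRingCat.of R)).Γevaluation ((sp R S) x)
        ((Scheme.ΓSpecIso (CommRingCat.of R)).inv ((Scheme.ΓSpecIso (CommRingCat.of R)).hom t)) ≠ 0
      rw [Iso.hom_inv_id_apply]
      exact ht
    · change k * (Spec (CommRingCat.of R)).Γevaluation ((sp R S) x)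
        ((Scheme.ΓSpecIso (CommRingCat.of R)).inv ((Scheme.ΓSpecIso (CommRingCat.of R)).hom t)) =
        (Spec (CommRingCat.of R)).Γevaluation ((sp R S) x)
        ((Scheme.ΓSpecIso (CommRingCat.of R)).inv ((Scheme.ΓSpecIso (CommRingCat.of R)).hom b))
      rw [Iso.hom_inv_id_apply, Iso.hom_inv_id_apply]
      exact h
  · intro l
    obtain ⟨b, t, ht, h⟩ := exists_evaluation_frac (isAffineOpen_top (Spec (CommRingCat.of S)))
      x trivial l
    refine ⟨(Scheme.ΓSpecIso (CommRingCat.of S)).hom b, (Scheme.ΓSpecIso (CommRingCat.of S)).hom t,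
      ?_, ?_⟩
    · change (Spec (CommRingCat.of S)).Γevaluation x
        ((Scheme.ΓSpecIso (CommRingCat.of S)).inv ((Scheme.ΓSpecIso (CommRingCat.of S)).hom t)) ≠ 0
      rw [Iso.hom_inv_id_apply]
      exact ht
    · change l * (Spec (CommRingCat.of S)).Γevaluation x
        ((Scheme.ΓSpecIso (CommRingCat.of S)).inv ((Scheme.ΓSpecIso (CommRingCat.of S)).hom t)) =
        (Spec (CommRingCat.of S)).Γevaluation x
        ((Scheme.ΓSpecIso (CommRingCat.of S)).inv ((Scheme.ΓSpecIso (CommRingCat.of S)).hom b))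
      rw [Iso.hom_inv_id_apply, Iso.hom_inv_id_apply]
      exact h
  · ext s
    rw [RingHom.mem_ker]
    change (Spec (CommRingCat.of S)).evaluation ⊤ x trivial
      ((Scheme.ΓSpecIso (CommRingCat.of S)).inv s) = 0 ↔ _
    rw [Scheme.evaluation_eq_zero_iff_notMem_basicOpen, basicOpen_eq_of_affine]
    change ¬ (s ∉ x.asIdeal) ↔ _
    rw [not_not]

theorem tdeg_Spec_eq (x : PrimeSpectrum S) :
    tdeg (sp R S) x = Cardinal.toNat (Algebra.trdeg (R ⧸ x.asIdeal.under R) (S ⧸ x.asIdeal)) := by
  unfold tdeg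
  rw [trdeg_Spec_eq x]

end Groth.Agent.Lib.H56SpecTrdeg
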