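import Mathlib
import Groth.Agent.Lib.H56SpecTrdeg
import Groth.Agent.Lib.H56Prufer
import Groth.Agent.Lib.H30KrullCut
import Groth.Agent.Lib.H30IrrFib
import Groth.Agent.Lib.H56OpenComp3

/-!
# The dimension function `δ(P) = trdeg (S/P over R/p) - ht p` over a Prüfer domain (helper56)

`R` a Prüfer domain (all localizations at primes are valuation rings), `S` an `R`-algebra of finite
type.  For a prime `P` of `S` put `tr P = trdeg (R/P∩R) (S/P)`.

* `tr_mono`, `tr_lt_of_under_eq`, `tr_eq_add_one_of_covBy` : behaviour of `tr` along `P ≤ Q`.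
* `tr_eq_of_covBy_of_under_lt`, `exists_prime_between` : the case `P ∩ R < Q ∩ R`.
* `height_eq_add_one_of_covBy` : heights of primes in a Prüfer domain.
-/

set_option autoImplicit false
universe u

open AlgebraicGeometry CategoryTheory

namespace Groth.Agent.Lib.H56PruferDim

open Groth.Agent.Lib.H56SpecTrdeg Groth.Agent.Lib.H56OpenDim Groth.Agent.Lib.H56ValTrdeg
  Groth.Agent.Lib.H56Prufer

section Spec

variable (R : Type u) [CommRing R] (S : Type u) [CommRing S] [Algebra R S]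

instance lft_sp [Algebra.FiniteType R S] : LocallyOfFiniteType (sp R S) := by
  refine (HasRingHomProperty.Spec_iff (P := @LocallyOfFiniteType)).mpr ?_
  change (algebraMap R S).FiniteType
  rw [RingHom.finiteType_algebraMap]
  infer_instance

/-- `trdeg (R/P∩R) (S/P)` as a natural number. -/
noncomputable def tr (P : Ideal S) : ℕ :=
  Cardinal.toNat (Algebra.trdeg (R ⧸ P.under R) (S ⧸ P))

variable {S}

theorem tr_eq_tdeg (P : PrimeSpectrum S) : tr R S P.asIdeal = tdeg (sp R S) P :=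
  (tdeg_Spec_eq (R := R) P).symm

variable {R}

theorem specializes_of_le {P Q : PrimeSpectrum S} (h : P.asIdeal ≤ Q.asIdeal) :
    (show (Spec (CommRingCat.of S) : Type u) from P) ⤳ (show (Spec (CommRingCat.of S) : Type u) from Q) :=
  (PrimeSpectrum.le_iff_specializes P Q).mp h

theorem le_of_specializes {P Q : PrimeSpectrum S}
    (h : (show (Spec (CommRingCat.of S) : Type u) from P) ⤳
      (show (Spec (CommRingCat.of S) : Type u) from Q)) : P.asIdeal ≤ Q.asIdeal :=
  (PrimeSpectrum.le_iff_specializes P Q).mpr h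

end Spec

section Prufer

variable {R : Type u} [CommRing R] [IsDomain R]
  (hR : ∀ (p : Ideal R) [p.IsPrime], ValuationRing (Localization.AtPrime p))
  {S : Type u} [CommRing S] [Algebra R S] [Algebra.FiniteType R S]

include hR in
theorem tr_mono (P Q : Ideal S) [hP : P.IsPrime] [hQ : Q.IsPrime] (h : P ≤ Q) :
    tr R S Q ≤ tr R S P := by
  have h1 := tdeg_le_of_specializes_Spec_prufer R hR (sp R S) (⟨Q, hQ⟩ : PrimeSpectrum S)
    (⟨P, hP⟩ : PrimeSpectrum S) (specializes_of_le (P := ⟨P, hP⟩) (Q := ⟨Q, hQ⟩) h)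
  rw [← tr_eq_tdeg R ⟨Q, hQ⟩, ← tr_eq_tdeg R ⟨P, hP⟩] at h1
  exact h1

omit [IsDomain R] in
theorem tr_lt_of_under_eq (P Q : Ideal S) [hP : P.IsPrime] [hQ : Q.IsPrime] (h : P < Q)
    (hu : P.under R = Q.under R) : tr R S Q < tr R S P := by
  have h1 := tdeg_lt_of_specializes_of_ne (sp R S) (⟨P, hP⟩ : PrimeSpectrum S)
    (⟨Q, hQ⟩ : PrimeSpectrum S) (specializes_of_le (P := ⟨P, hP⟩) (Q := ⟨Q, hQ⟩) h.le)
    (by
      rw [sp_apply, sp_apply]
      exact PrimeSpectrum.ext hu)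
    (fun he => h.ne (congrArg PrimeSpectrum.asIdeal he))
  rw [← tr_eq_tdeg R ⟨Q, hQ⟩, ← tr_eq_tdeg R ⟨P, hP⟩] at h1
  exact h1

omit [IsDomain R] in
theorem tr_eq_add_one_of_covBy (P Q : Ideal S) [hP : P.IsPrime] [hQ : Q.IsPrime] (h : P < Q)
    (hcov : ∀ P' : Ideal S, P'.IsPrime → P < P' → ¬ P' < Q)
    (hu : P.under R = Q.under R) : tr R S P = tr R S Q + 1 := by
  have h1 := Groth.Agent.Lib.H30KrullCut.rt_eq_add_one_of_immediate (sp R S)
    (⟨Q, hQ⟩ : PrimeSpectrum S) (⟨P, hP⟩ : PrimeSpectrum S)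
    (by
      rw [sp_apply, sp_apply]
      exact PrimeSpectrum.ext hu)
    (specializes_of_le (P := ⟨P, hP⟩) (Q := ⟨Q, hQ⟩) h.le)
    (fun he => h.ne (congrArg PrimeSpectrum.asIdeal he))
    (fun t ht1 ht2 => by
      obtain ⟨T, hT⟩ : ∃ T : PrimeSpectrum S, T = t := ⟨t, rfl⟩
      subst hT
      have h1 : P ≤ T.asIdeal := le_of_specializes (P := ⟨P, hP⟩) (Q := T) ht1
      have h2 : T.asIdeal ≤ Q := le_of_specializes (P := T) (Q := ⟨Q, hQ⟩) ht2
      by_cases h3 : P = T.asIdeal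
      · left
        exact PrimeSpectrum.ext h3.symm
      · right
        have h4 : P < T.asIdeal := lt_of_le_of_ne h1 h3
        have h5 := hcov T.asIdeal T.2 h4
        have h6 : T.asIdeal = Q := by
          by_contra hne
          exact h5 (lt_of_le_of_ne h2 hne)
        exact PrimeSpectrum.ext h6)
  have h2 : tdeg (sp R S) (⟨P, hP⟩ : PrimeSpectrum S) =
      tdeg (sp R S) (⟨Q, hQ⟩ : PrimeSpectrum S) + 1 := h1
  rw [← tr_eq_tdeg R ⟨Q, hQ⟩, ← tr_eq_tdeg R ⟨P, hP⟩] at h2
  exact h2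

end Prufer

section Step1

variable {R : Type u} [CommRing R] [IsDomain R]
  (hR : ∀ (p : Ideal R) [p.IsPrime], ValuationRing (Localization.AtPrime p))
  {D : Type u} [CommRing D] [IsDomain D] [Algebra R D] [Algebra.FiniteType R D]

/-- the generic point of `Spec D` -/
def botPt (D : Type u) [CommRing D] [IsDomain D] : PrimeSpectrum D := ⟨⊥, Ideal.isPrime_bot⟩

theorem botPt_specializes (w : PrimeSpectrum D) :
    (show (Spec (CommRingCat.of D) : Type u) from botPt D) ⤳
      (show (Spec (CommRingCat.of D) : Type u) from w) :=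
  specializes_of_le (P := botPt D) (Q := w) bot_le

include hR in
theorem tdeg_eq_bot_of_isMaxInFibre (w : PrimeSpectrum D) (hw : IsMaxInFibre (sp R D) w) :
    tdeg (sp R D) w = tdeg (sp R D) (botPt D) := by
  have hξmax : IsMaxInFibre (sp R D) (botPt D) := fun v hv _ => by
    obtain ⟨V, hV⟩ : ∃ V : PrimeSpectrum D, V = v := ⟨v, rfl⟩
    subst hV
    have h1 : V.asIdeal ≤ ⊥ := le_of_specializes (P := V) (Q := botPt D) hv
    exact PrimeSpectrum.ext (le_bot_iff.mp h1)
  apply le_antisymm (tdeg_le_of_specializes_Spec_prufer R hR (sp R D) w (botPt D)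
    (botPt_specializes w))
  have h4 := fibreDimAt_le_of_specializes (sp R D) (botPt D) w (botPt_specializes w)
  rw [fibreDimAt_eq_tdeg_of_maximal' (sp R D) w hw,
    fibreDimAt_eq_tdeg_of_maximal' (sp R D) _ hξmax] at h4
  exact_mod_cast h4

end Step1

section Step2

variable {R : Type u} [CommRing R] {S : Type u} [CommRing S] [Algebra R S]

/-- the closed immersion `Spec (S/P) ⟶ Spec S` -/
noncomputable abbrev qi (P : Ideal S) : Spec (CommRingCat.of (S ⧸ P)) ⟶ Spec (CommRingCat.of S) :=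
  Spec.map (CommRingCat.ofHom (Ideal.Quotient.mk P))

theorem qi_apply (P : Ideal S) (z : PrimeSpectrum (S ⧸ P)) :
    (qi P) z = PrimeSpectrum.comap (Ideal.Quotient.mk P) z := rfl

theorem sp_quot (P : Ideal S) : sp R (S ⧸ P) = qi P ≫ sp R S := by
  unfold sp qi
  rw [← Spec.map_comp]
  rfl

instance (P : Ideal S) : IsClosedImmersion (qi P) :=
  IsClosedImmersion.spec_of_surjective _ Ideal.Quotient.mk_surjective

theorem tdeg_quot [Algebra.FiniteType R S] (P : Ideal S) (z : PrimeSpectrum (S ⧸ P)) :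
    tdeg (sp R (S ⧸ P)) z = tdeg (sp R S) (PrimeSpectrum.comap (Ideal.Quotient.mk P) z) := by
  have h := Groth.Agent.Lib.H30IrrFib.rt_comp_of_isPreimmersion (sp R S) (qi P) z
  rw [← sp_quot] at h
  exact h

end Step2

section Step3

variable {R : Type u} [CommRing R] [IsDomain R]
  (hR : ∀ (p : Ideal R) [p.IsPrime], ValuationRing (Localization.AtPrime p))
  {S : Type u} [CommRing S] [Algebra R S] [Algebra.FiniteType R S]

include hR in
theorem tr_eq_of_covBy_of_under_ne (P Q : Ideal S) [hP : P.IsPrime] [hQ : Q.IsPrime] (h : P < Q)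
    (hcov : ∀ P' : Ideal S, P'.IsPrime → P < P' → ¬ P' < Q)
    (hu : P.under R ≠ Q.under R) : tr R S Q = tr R S P := by
  have hQb : (Q.map (Ideal.Quotient.mk P)).IsPrime :=
    Ideal.map_isPrime_of_surjective Ideal.Quotient.mk_surjective (by rw [Ideal.mk_ker]; exact h.le)
  let Qb : PrimeSpectrum (S ⧸ P) := ⟨Q.map (Ideal.Quotient.mk P), hQb⟩
  obtain ⟨w, hwQ, hfw, hwmax, -⟩ := exists_maxInFibre_fibreDimAt_eq (sp R (S ⧸ P)) Qb
  obtain ⟨W, hW⟩ : ∃ W : PrimeSpectrum (S ⧸ P), W = w := ⟨w, rfl⟩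
  subst hW
  have hcQ : PrimeSpectrum.comap (Ideal.Quotient.mk P) Qb = ⟨Q, hQ⟩ :=
    PrimeSpectrum.ext (Ideal.comap_map_mk h.le)
  have hcb : PrimeSpectrum.comap (Ideal.Quotient.mk P) (botPt (S ⧸ P)) = ⟨P, hP⟩ :=
    PrimeSpectrum.ext (by
      change Ideal.comap (Ideal.Quotient.mk P) ⊥ = P
      rw [← RingHom.ker_eq_comap_bot, Ideal.mk_ker])
  -- the prime `P' = comap mk W`
  have h1 : P ≤ (PrimeSpectrum.comap (Ideal.Quotient.mk P) W).asIdeal := by
    intro x hx
    change Ideal.Quotient.mk P x ∈ W.asIdeal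
    rw [Ideal.Quotient.eq_zero_iff_mem.mpr hx]
    exact W.asIdeal.zero_mem
  have h2 : (PrimeSpectrum.comap (Ideal.Quotient.mk P) W).asIdeal ≤ Q := by
    have h3 : W.asIdeal ≤ Qb.asIdeal := le_of_specializes (P := W) (Q := Qb) hwQ
    have h4 := Ideal.comap_mono (f := Ideal.Quotient.mk P) h3
    rw [show Ideal.comap (Ideal.Quotient.mk P) Qb.asIdeal = Q from Ideal.comap_map_mk h.le] at h4
    exact h4
  have h5 : (PrimeSpectrum.comap (Ideal.Quotient.mk P) W).asIdeal.under R = Q.under R := by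
    have h6 : PrimeSpectrum.comap (algebraMap R (S ⧸ P)) W =
        PrimeSpectrum.comap (algebraMap R (S ⧸ P)) Qb := hfw
    have h7 := congrArg PrimeSpectrum.asIdeal h6
    change Ideal.comap (algebraMap R (S ⧸ P)) W.asIdeal =
      Ideal.comap (algebraMap R (S ⧸ P)) (Q.map (Ideal.Quotient.mk P)) at h7
    rw [← Ideal.Quotient.mk_comp_algebraMap R P, ← Ideal.comap_comap, ← Ideal.comap_comap,
      Ideal.comap_map_mk h.le] at h7
    exact h7
  have h8 : (PrimeSpectrum.comap (Ideal.Quotient.mk P) W).asIdeal = Q := by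
    by_contra hne
    have h9 : P < (PrimeSpectrum.comap (Ideal.Quotient.mk P) W).asIdeal := by
      refine lt_of_le_of_ne h1 (fun he => hu ?_)
      rw [← h5, ← he]
    exact hcov _ (PrimeSpectrum.comap (Ideal.Quotient.mk P) W).2 h9 (lt_of_le_of_ne h2 hne)
  have h10 : PrimeSpectrum.comap (Ideal.Quotient.mk P) W = ⟨Q, hQ⟩ := PrimeSpectrum.ext h8
  have h11 := tdeg_eq_bot_of_isMaxInFibre hR W hwmax
  rw [tdeg_quot (R := R) P W, tdeg_quot (R := R) P (botPt (S ⧸ P)), h10, hcb,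
    ← tr_eq_tdeg R ⟨Q, hQ⟩, ← tr_eq_tdeg R ⟨P, hP⟩] at h11
  exact h11

end Step3

end Groth.Agent.Lib.H56PruferDim
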