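import Mathlib
import Groth.Agent.Lib.H56PruferDim
import Groth.Agent.Lib.OrdCat

/-!
# The dimension function over a Prüfer domain, part 2 (helper56)

* `valuationRing_localization_quotient`, `flat_of_prufer_of_injective`,
  `exists_prime_between_of_under` : going down for algebras over a Prüfer domain.
* `prime_le_total`, `height_eq_add_one_of_covBy` : primes of a Prüfer domain.
* `isCat_of_delta` : a partial order with a `ℤ`-valued dimension function is catenary.
* `delta_lt`, `delta_eq_add_one_of_covBy` : `δ(P) = trdeg (S/P over R/p) - ht p` is a dimension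
  function on `Spec S` for `S` of finite type over a finite-dimensional Prüfer domain.
-/

set_option autoImplicit false
universe u

namespace Groth.Agent.Lib.H56PruferDim

section GoingDown

/-- quotient of a Prüfer domain by a prime is Prüfer -/
theorem valuationRing_localization_quotient {R : Type u} [CommRing R] [IsDomain R]
    (hR : ∀ (p : Ideal R) [p.IsPrime], ValuationRing (Localization.AtPrime p))
    (p : Ideal R) [p.IsPrime] (m : Ideal (R ⧸ p)) [m.IsPrime] :
    ValuationRing (Localization.AtPrime m) := by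
  have h1 := RingHom.surjective_localRingHom_of_surjective (Ideal.Quotient.mk p)
    Ideal.Quotient.mk_surjective m
  have := hR (m.comap (Ideal.Quotient.mk p))
  exact Function.Surjective.valuationRing _ h1

/-- a domain containing a Prüfer domain is flat over it -/
theorem flat_of_prufer_of_injective {R : Type u} [CommRing R] [IsDomain R]
    (hR : ∀ (p : Ideal R) [p.IsPrime], ValuationRing (Localization.AtPrime p))
    (D : Type u) [CommRing D] [IsDomain D] [Algebra R D] [FaithfulSMul R D] :
    Module.Flat R D := by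
  rw [Module.Flat.flat_iff_torsion_eq_bot_of_valuationRing_localization_isMaximal
    (fun P _ => hR P), ← Submodule.isTorsionFree_iff_torsion_eq_bot]
  infer_instance

/-- going down between two primes of an algebra over a Prüfer domain -/
theorem exists_prime_between_of_under {R : Type u} [CommRing R] [IsDomain R]
    (hR : ∀ (p : Ideal R) [p.IsPrime], ValuationRing (Localization.AtPrime p))
    {S : Type u} [CommRing S] [Algebra R S]
    (P Q : Ideal S) [hP : P.IsPrime] [hQ : Q.IsPrime] (h : P ≤ Q)
    (p' : Ideal R) [hp' : p'.IsPrime] (h1 : P.under R ≤ p') (h2 : p' ≤ Q.under R) :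
    ∃ P' : Ideal S, P'.IsPrime ∧ P ≤ P' ∧ P' ≤ Q ∧ P'.under R = p' := by
  have hRb : ∀ (m : Ideal (R ⧸ P.under R)) [m.IsPrime], ValuationRing (Localization.AtPrime m) :=
    fun m _ => valuationRing_localization_quotient hR (P.under R) m
  have hflat : Module.Flat (R ⧸ P.under R) (S ⧸ P) := flat_of_prufer_of_injective hRb (S ⧸ P)
  have hQb : (Q.map (Ideal.Quotient.mk P)).IsPrime :=
    Ideal.map_isPrime_of_surjective Ideal.Quotient.mk_surjective (by rw [Ideal.mk_ker]; exact h)
  have hpb : (p'.map (Ideal.Quotient.mk (P.under R))).IsPrime :=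
    Ideal.map_isPrime_of_surjective Ideal.Quotient.mk_surjective (by rw [Ideal.mk_ker]; exact h1)
  have hle : p'.map (Ideal.Quotient.mk (P.under R)) ≤
      (Q.map (Ideal.Quotient.mk P)).under (R ⧸ P.under R) := by
    rw [Ideal.map_le_iff_le_comap]
    intro x hx
    change algebraMap (R ⧸ P.under R) (S ⧸ P) (Ideal.Quotient.mk (P.under R) x) ∈
      Q.map (Ideal.Quotient.mk P)
    rw [Ideal.Quotient.algebraMap_mk_of_liesOver]
    exact Ideal.mem_map_of_mem _ (h2 hx)
  obtain ⟨Pb, hPbQ, hPbprime, hPbover⟩ :=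
    Ideal.exists_ideal_le_liesOver_of_le (Q.map (Ideal.Quotient.mk P))
      (p := p'.map (Ideal.Quotient.mk (P.under R)))
      (q := (Q.map (Ideal.Quotient.mk P)).under (R ⧸ P.under R)) hle
  refine ⟨Pb.comap (Ideal.Quotient.mk P), Ideal.comap_isPrime _ _, ?_, ?_, ?_⟩
  · intro x hx
    change Ideal.Quotient.mk P x ∈ Pb
    rw [Ideal.Quotient.eq_zero_iff_mem.mpr hx]
    exact Pb.zero_mem
  · have := Ideal.comap_mono (f := Ideal.Quotient.mk P) hPbQ
    rwa [Ideal.comap_map_mk h] at this
  · have h3 : p'.map (Ideal.Quotient.mk (P.under R)) = Pb.under (R ⧸ P.under R) := hPbover.over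
    have h4 : (Pb.comap (Ideal.Quotient.mk P)).under R =
        (Pb.under (R ⧸ P.under R)).comap (Ideal.Quotient.mk (P.under R)) := by
      ext x
      change Ideal.Quotient.mk P (algebraMap R S x) ∈ Pb ↔
        algebraMap (R ⧸ P.under R) (S ⧸ P) (Ideal.Quotient.mk (P.under R) x) ∈ Pb
      rw [Ideal.Quotient.algebraMap_mk_of_liesOver]
    rw [h4, ← h3, Ideal.comap_map_mk h1]

end GoingDown

section Heights

variable {R : Type u} [CommRing R] [IsDomain R]
  (hR : ∀ (p : Ideal R) [p.IsPrime], ValuationRing (Localization.AtPrime p))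

include hR in
/-- the primes below a given prime of a Prüfer domain form a chain -/
theorem prime_le_total (q : Ideal R) [hq : q.IsPrime] (p₁ p₂ : Ideal R) [hp₁ : p₁.IsPrime]
    [hp₂ : p₂.IsPrime] (h₁ : p₁ ≤ q) (h₂ : p₂ ≤ q) : p₁ ≤ p₂ ∨ p₂ ≤ p₁ := by
  have := hR q
  have hd : ∀ p : Ideal R, p ≤ q → Disjoint (q.primeCompl : Set R) (p : Set R) := fun p hp =>
    Set.disjoint_left.mpr (fun x hx hxp => hx (hp hxp))
  have e₁ := IsLocalization.under_map_of_isPrime_disjoint q.primeCompl (Localization.AtPrime q)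
    hp₁ (hd p₁ h₁)
  have e₂ := IsLocalization.under_map_of_isPrime_disjoint q.primeCompl (Localization.AtPrime q)
    hp₂ (hd p₂ h₂)
  rcases (ValuationRing.le_total_ideal (A := Localization.AtPrime q)).total
    (p₁.map (algebraMap R (Localization.AtPrime q)))
    (p₂.map (algebraMap R (Localization.AtPrime q))) with h | h
  · left
    rw [← e₁, ← e₂]
    exact Ideal.comap_mono h
  · right
    rw [← e₁, ← e₂]
    exact Ideal.comap_mono h

include hR in
theorem height_eq_add_one_of_covBy (p q : Ideal R) [hp : p.IsPrime] [hq : q.IsPrime] (h : p < q)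
    (hcov : ∀ p' : Ideal R, p'.IsPrime → p < p' → ¬ p' < q) (hfin : p.height ≠ ⊤) :
    q.height = p.height + 1 := by
  apply le_antisymm _ (Ideal.height_add_one_le_of_lt_of_isPrime h)
  obtain ⟨n, hn⟩ := ENat.ne_top_iff_exists.mp hfin
  rw [← hn]
  have : ((n : ℕ∞) + 1) = ((n + 1 : ℕ) : ℕ∞) := by push_cast; rfl
  rw [this, Ideal.height_le_iff]
  intro q' hq' hlt
  rcases prime_le_total hR q q' p hlt.le h.le with h1 | h1
  · have := Ideal.height_mono h1
    rw [← hn] at this
    have h2 : (n : ℕ∞) < ((n + 1 : ℕ) : ℕ∞) := by exact_mod_cast Nat.lt_succ_self n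
    exact lt_of_le_of_lt this h2
  · by_cases he : p = q'
    · subst he
      rw [← hn]
      exact_mod_cast Nat.lt_succ_self n
    · exact absurd hlt (hcov q' hq' (lt_of_le_of_ne h1 he))

omit [IsDomain R] in
theorem height_ne_top_of_dim (hdim : ringKrullDim R < ⊤) (p : Ideal R) [hp : p.IsPrime] :
    p.height ≠ ⊤ := by
  intro h
  have h1 := Ideal.height_le_ringKrullDim_of_ne_top (I := p) Ideal.IsPrime.ne_top'
  rw [h] at h1
  exact absurd (lt_of_le_of_lt h1 hdim) (lt_irrefl _)

end Heights

section Order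

open Groth.Agent.Lib.OrdCat

variable {α : Type u} [PartialOrder α] (δ : α → ℤ)

theorem delta_apply_le (hlt : ∀ a b : α, a < b → δ b < δ a) (s : LTSeries α) :
    ∀ (i : ℕ) (hi : i ≤ s.length), δ (s ⟨i, Nat.lt_succ_of_le hi⟩) + i ≤ δ s.head := by
  intro i
  induction i with
  | zero =>
    intro _
    simp only [Nat.cast_zero, add_zero]
    exact le_of_eq rfl
  | succ j ih =>
    intro hj
    have h1 : s ⟨j, Nat.lt_succ_of_le (Nat.le_of_succ_le hj)⟩ < s ⟨j + 1, Nat.lt_succ_of_le hj⟩ :=
      s.strictMono (by simp [Fin.lt_def])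
    have h2 := hlt _ _ h1
    have h3 := ih (Nat.le_of_succ_le hj)
    push_cast
    omega

theorem length_le_of_delta (hlt : ∀ a b : α, a < b → δ b < δ a) (s : LTSeries α) :
    (s.length : ℤ) ≤ δ s.head - δ s.last := by
  have := delta_apply_le δ hlt s s.length le_rfl
  have h2 : s ⟨s.length, Nat.lt_succ_of_le le_rfl⟩ = s.last := rfl
  rw [h2] at this
  omega

theorem delta_apply_eq (hcov : ∀ a b : α, a ⋖ b → δ a = δ b + 1) (s : LTSeries α)
    (hs : ∀ i : Fin s.length, s (Fin.castSucc i) ⋖ s (Fin.succ i)) :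
    ∀ (i : ℕ) (hi : i ≤ s.length), δ (s ⟨i, Nat.lt_succ_of_le hi⟩) + i = δ s.head := by
  intro i
  induction i with
  | zero =>
    intro _
    simp only [Nat.cast_zero, add_zero]
    rfl
  | succ j ih =>
    intro hj
    have h1 := hs ⟨j, hj⟩
    have h2 := hcov _ _ h1
    have h3 := ih (Nat.le_of_succ_le hj)
    change δ (s ⟨j, _⟩) = δ (s ⟨j + 1, _⟩) + 1 at h2
    push_cast
    omega

theorem length_eq_of_delta (hcov : ∀ a b : α, a ⋖ b → δ a = δ b + 1) (s : LTSeries α)
    (hs : ∀ i : Fin s.length, s (Fin.castSucc i) ⋖ s (Fin.succ i)) :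
    (s.length : ℤ) = δ s.head - δ s.last := by
  have := delta_apply_eq δ hcov s hs s.length le_rfl
  have h2 : s ⟨s.length, Nat.lt_succ_of_le le_rfl⟩ = s.last := rfl
  rw [h2] at this
  omega

/-- a partial order with a `ℤ`-valued dimension function is catenary -/
theorem isCat_of_delta (hlt : ∀ a b : α, a < b → δ b < δ a)
    (hcov : ∀ a b : α, a ⋖ b → δ a = δ b + 1) : IsCat α := by
  refine ⟨fun p q _ => ⟨(δ p - δ q).toNat, fun s hp hq => ?_⟩, fun s t hh hl hs ht => ?_⟩
  · have := length_le_of_delta δ hlt s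
    rw [hp, hq] at this
    omega
  · have h1 := length_eq_of_delta δ hcov s hs
    have h2 := length_eq_of_delta δ hcov t ht
    rw [hh, hl] at h1
    omega

end Order

end Groth.Agent.Lib.H56PruferDim
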