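import Mathlib
import Groth.Agent.Lib.H56PruferDim2

/-!
# The dimension function over a Prüfer domain, part 3 (helper56)

`δ(P) = trdeg (S/P over R/p) - ht p` is a dimension function on `Spec S` for `S` of finite type
over a finite-dimensional Prüfer domain `R`:

* `delta_lt` : `P < Q → δ Q < δ P`.
* `delta_eq_add_one_of_covBy` : `P ⋖ Q → δ P = δ Q + 1`.
* `tr_le_of_surjective` : `trdeg (R/p) (S/P) ≤ n` when `S` is generated by `n` elements.
-/

set_option autoImplicit false
universe u

namespace Groth.Agent.Lib.H56PruferDim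

section Assembly

variable {R : Type u} [CommRing R] [IsDomain R]
  (hR : ∀ (p : Ideal R) [p.IsPrime], ValuationRing (Localization.AtPrime p))
  (hdim : ringKrullDim R < ⊤)
  {S : Type u} [CommRing S] [Algebra R S] [Algebra.FiniteType R S]

/-- `δ(P) = trdeg (S/P over R/p) - ht p` -/
noncomputable def delta (R : Type u) [CommRing R] (S : Type u) [CommRing S] [Algebra R S]
    (P : Ideal S) : ℤ :=
  (tr R S P : ℤ) - ((P.under R).height.toNat : ℤ)

include hR hdim in
theorem delta_lt (P Q : Ideal S) [hP : P.IsPrime] [hQ : Q.IsPrime] (h : P < Q) :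
    delta R S Q < delta R S P := by
  unfold delta
  have hle : P.under R ≤ Q.under R := Ideal.comap_mono h.le
  by_cases hu : P.under R = Q.under R
  · have h1 := tr_lt_of_under_eq P Q h hu
    rw [hu]
    omega
  · have h1 := tr_mono hR P Q h.le
    have hlt : P.under R < Q.under R := lt_of_le_of_ne hle hu
    have hfQ := height_ne_top_of_dim hdim (Q.under R)
    have hfP := height_ne_top_of_dim hdim (P.under R)
    have : (Q.under R).FiniteHeight := (Ideal.finiteHeight_iff _).mpr (Or.inr hfQ)
    have h2 := Ideal.height_strict_mono_of_isPrime_of_isPrime hlt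
    obtain ⟨n, hn⟩ := ENat.ne_top_iff_exists.mp hfP
    obtain ⟨m, hm⟩ := ENat.ne_top_iff_exists.mp hfQ
    rw [← hn, ← hm] at h2 ⊢
    have h3 : n < m := by exact_mod_cast h2
    simp only [ENat.toNat_natCast]
    omega

include hR hdim in
theorem delta_eq_add_one_of_covBy (P Q : Ideal S) [hP : P.IsPrime] [hQ : Q.IsPrime] (h : P < Q)
    (hcov : ∀ P' : Ideal S, P'.IsPrime → P < P' → ¬ P' < Q) :
    delta R S P = delta R S Q + 1 := by
  unfold delta
  have hle : P.under R ≤ Q.under R := Ideal.comap_mono h.le
  by_cases hu : P.under R = Q.under R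
  · have h1 := tr_eq_add_one_of_covBy P Q h hcov hu
    rw [hu, h1]
    push_cast
    ring
  · have h1 := tr_eq_of_covBy_of_under_ne hR P Q h hcov hu
    have hlt : P.under R < Q.under R := lt_of_le_of_ne hle hu
    have hfP := height_ne_top_of_dim hdim (P.under R)
    have hc : ∀ p' : Ideal R, p'.IsPrime → P.under R < p' → ¬ p' < Q.under R := by
      intro p' hp' h2 h3
      obtain ⟨P', hP', hPP', hP'Q, hP'u⟩ :=
        exists_prime_between_of_under hR P Q h.le p' h2.le h3.le
      have h4 : P < P' := lt_of_le_of_ne hPP' (fun he => h2.ne (by rw [← hP'u, ← he]))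
      have h5 : P' < Q := lt_of_le_of_ne hP'Q (fun he => h3.ne (by rw [← hP'u, he]))
      exact hcov P' hP' h4 h5
    have h2 := height_eq_add_one_of_covBy hR (P.under R) (Q.under R) hlt hc hfP
    obtain ⟨n, hn⟩ := ENat.ne_top_iff_exists.mp hfP
    rw [h1, h2, ← hn]
    have : ((n : ℕ∞) + 1) = ((n + 1 : ℕ) : ℕ∞) := by push_cast; rfl
    rw [this]
    simp only [ENat.toNat_natCast]
    push_cast
    ring

end Assembly

end Groth.Agent.Lib.H56PruferDim
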