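import Mathlib
import Groth.Agent.Lib.H56PruferDim3
import Groth.Agent.Lib.Catenary

/-!
# Finite type algebras over a finite-dimensional Prüfer domain are catenary (helper56)

* `tr_le_of_surjective` : `trdeg (R/p) (S/P) ≤ n` when `S` is generated by `n` elements.
* `isCatenary_of_prufer`, `ringKrullDim_lt_top_of_prufer`.
-/

set_option autoImplicit false
universe u

namespace Groth.Agent.Lib.H56PruferDim

open Cardinal in
/-- the transcendence degree of `S/P` over `R/p` is at most the number of generators of `S` -/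
theorem tr_le_of_surjective {R S : Type u} [CommRing R] [CommRing S] [Algebra R S] (n : ℕ)
    (f : MvPolynomial (Fin n) R →ₐ[R] S) (hf : Function.Surjective f) (P : Ideal S)
    [hP : P.IsPrime] : tr R S P ≤ n := by
  let s : Set (S ⧸ P) := Set.range (fun i : Fin n => Ideal.Quotient.mk P (f (MvPolynomial.X i)))
  have claim : ∀ y : S, Ideal.Quotient.mk P y ∈ Algebra.adjoin (R ⧸ P.under R) s := by
    intro y
    obtain ⟨q, rfl⟩ := hf y
    induction q using MvPolynomial.induction_on with
    | C r =>
      have h1 : f (MvPolynomial.C r) = algebraMap R S r := by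
        rw [← MvPolynomial.algebraMap_eq, AlgHom.commutes]
      rw [h1, ← Ideal.Quotient.algebraMap_mk_of_liesOver P (P.under R)]
      exact Subalgebra.algebraMap_mem _ _
    | add p q hp hq =>
      rw [map_add, map_add]
      exact add_mem hp hq
    | mul_X p i hp =>
      rw [map_mul, map_mul]
      exact mul_mem hp (Algebra.subset_adjoin ⟨i, rfl⟩)
  have halg : Algebra.IsAlgebraic (Algebra.adjoin (R ⧸ P.under R) s) (S ⧸ P) :=
    ⟨fun x => by
      obtain ⟨y, rfl⟩ := Ideal.Quotient.mk_surjective x
      exact isAlgebraic_algebraMap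
        (⟨Ideal.Quotient.mk P y, claim y⟩ : Algebra.adjoin (R ⧸ P.under R) s)⟩
  have h1 := Algebra.IsAlgebraic.trdeg_le_cardinalMk (R ⧸ P.under R) s
  have h2 : #s ≤ (n : Cardinal) := by
    have := Cardinal.mk_range_le_lift
      (f := fun i : Fin n => Ideal.Quotient.mk P (f (MvPolynomial.X i)))
    simpa using this
  unfold tr
  have h3 := Cardinal.toNat_le_toNat (h1.trans h2) (Cardinal.natCast_lt_aleph0 (n := n))
  simpa using h3

section Main

variable {R : Type u} [CommRing R] [IsDomain R]
  (hR : ∀ (p : Ideal R) [p.IsPrime], ValuationRing (Localization.AtPrime p))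
  (hdim : ringKrullDim R < ⊤)
  (S : Type u) [CommRing S] [Algebra R S] [Algebra.FiniteType R S]

include hR hdim in
theorem isCatenary_of_prufer : CAlg.IsCatenary S := by
  rw [Groth.Agent.Lib.Catenary.isCatenary_iff_isCat]
  refine isCat_of_delta (fun p : PrimeSpectrum S => delta R S p.asIdeal) ?_ ?_
  · intro a b hab
    exact delta_lt hR hdim a.asIdeal b.asIdeal hab
  · intro a b hab
    refine delta_eq_add_one_of_covBy hR hdim a.asIdeal b.asIdeal hab.1 (fun P' hP' h1 h2 => ?_)
    exact hab.2 (c := (⟨P', hP'⟩ : PrimeSpectrum S)) h1 h2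

omit [IsDomain R] in
include hdim in
theorem exists_height_toNat_le : ∃ d : ℕ, ∀ (p : Ideal R) [p.IsPrime], p.height.toNat ≤ d := by
  by_cases hne : ∃ p : Ideal R, p.IsPrime
  · obtain ⟨p₀, hp₀⟩ := hne
    have h0 := Ideal.height_le_ringKrullDim_of_ne_top (I := p₀) Ideal.IsPrime.ne_top'
    generalize hv : ringKrullDim R = v at hdim h0
    induction v using WithBot.recBotCoe with
    | bot => simp at h0
    | coe e =>
      have he : e ≠ ⊤ := by
        rintro rfl
        exact lt_irrefl _ hdim
      obtain ⟨d, rfl⟩ := ENat.ne_top_iff_exists.mp he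
      refine ⟨d, fun p _ => ?_⟩
      have h1 := Ideal.height_le_ringKrullDim_of_ne_top (I := p) Ideal.IsPrime.ne_top'
      rw [hv] at h1
      have h2 : p.height ≤ (d : ℕ∞) := by exact_mod_cast h1
      exact ENat.toNat_le_of_le_natCast h2
  · exact ⟨0, fun p hp => absurd ⟨p, hp⟩ hne⟩

include hR hdim in
theorem ringKrullDim_lt_top_of_prufer : ringKrullDim S < ⊤ := by
  obtain ⟨n, f, hf⟩ := Algebra.FiniteType.iff_quotient_mvPolynomial''.mp
    (inferInstance : Algebra.FiniteType R S)
  obtain ⟨d, hd⟩ := exists_height_toNat_le hdim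
  have hb : ∀ l : LTSeries (PrimeSpectrum S), l.length < n + d + 1 := by
    intro l
    have h1 := length_le_of_delta (fun p : PrimeSpectrum S => delta R S p.asIdeal)
      (fun a b hab => delta_lt hR hdim a.asIdeal b.asIdeal hab) l
    have h2 := tr_le_of_surjective n f hf l.head.asIdeal
    have h3 := hd (l.last.asIdeal.under R)
    simp only [delta] at h1
    omega
  have h4 : ringKrullDim S < ((n + d + 1 : ℕ) : WithBot ℕ∞) :=
    Order.krullDim_lt_coe_iff.mpr (fun l => hb l)
  refine lt_trans h4 ?_
  have h5 : ((n + d + 1 : ℕ) : ℕ∞) < ⊤ := ENat.natCast_lt_top _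
  have h6 : (((n + d + 1 : ℕ) : ℕ∞) : WithBot ℕ∞) < ((⊤ : ℕ∞) : WithBot ℕ∞) :=
    WithBot.coe_lt_coe.mpr h5
  exact h6

end Main

end Groth.Agent.Lib.H56PruferDim
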