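/-
helper56: towards Stacks 00UK — splitting off the quasi-finite part of a finite type algebra
étale-locally on the base.

* `quasiFiniteAt_comap_of_isLocalization` : quasi-finiteness at a prime of a localization implies
  quasi-finiteness at the contracted prime.
* `quasiFiniteAt_comap_includeRight` : converse base change of `Algebra.QuasiFiniteAt` along
  `R → R'` with trivial residue field extension at the prime considered.
* `qfSet`, `finite_qfSet` : the primes over `p` at which a finite type algebra is quasi-finite are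
  finite in number.
* `prodAssocAlg` : associativity of binary products as an `AlgEquiv`.
* `ncard_qfSet_lt` : the number of quasi-finite primes drops after one step of Stacks 00UJ.
* `exists_split_aux` : étale-locally at `p`, `R' ⊗ S ≅ A × B` with `A` finite and `B` quasi-finite
  at no prime over `P` (induction on the number of quasi-finite primes over `p`).
* `closure_range_algebraMap_eq_top` : `κ(P)` is generated by `R` when `κ(p) → κ(P)` is bijective.
-/
import Mathlib

set_option autoImplicit false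
universe u

open TensorProduct

namespace Groth.Agent.Lib.H56QFSplit

section Loc

variable {R T T' : Type*} [CommRing R] [CommRing T] [CommRing T'] [Algebra R T] [Algebra T T']
  [Algebra R T'] [IsScalarTower R T T']

/-- Quasi-finiteness at a prime of a localization `T'` of `T` implies quasi-finiteness at the
contracted prime of `T`. -/
theorem quasiFiniteAt_comap_of_isLocalization (M : Submonoid T) [IsLocalization M T']
    (Q : Ideal T') [Q.IsPrime] [Algebra.QuasiFiniteAt R Q] :
    Algebra.QuasiFiniteAt R (Q.comap (algebraMap T T')) := by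
  have h1 : IsLocalization.AtPrime (Localization.AtPrime Q) (Q.comap (algebraMap T T')) :=
    IsLocalization.isLocalization_isLocalization_atPrime_isLocalization M _ Q
  let e : Localization.AtPrime (Q.comap (algebraMap T T')) ≃ₐ[T] Localization.AtPrime Q :=
    IsLocalization.algEquiv (Q.comap (algebraMap T T')).primeCompl _ _
  exact Algebra.QuasiFinite.of_surjective_algHom (e.symm.restrictScalars R).toAlgHom
    (e.symm.restrictScalars R).surjective

end Loc
section BC

variable {R R' S : Type u} [CommRing R] [CommRing R'] [CommRing S] [Algebra R R'] [Algebra R S]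
  [Algebra.FiniteType R S]
  {p : Ideal R} {q : Ideal R'} [p.IsPrime] [q.IsPrime] [q.LiesOver p]

theorem liesOver_comap_includeRight (P : Ideal (R' ⊗[R] S)) [P.IsPrime] [P.LiesOver q] :
    (P.comap (Algebra.TensorProduct.includeRight (R := R) (A := R') (B := S)).toRingHom).LiesOver p :=
  ⟨by
    have h1 : q = P.under R' := P.over_def q
    have h2 : p = q.under R := q.over_def p
    have h3 : (Algebra.TensorProduct.includeRight (R := R) (A := R') (B := S)).toRingHom.comp
        (algebraMap R S) = algebraMap R (R' ⊗[R] S) := by ext; simp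
    rw [h2, h1, Ideal.under_under]
    simp only [Ideal.under, Ideal.comap_comap]
    rw [h3]⟩

theorem quasiFiniteAt_comap_includeRight
    (H : Function.Bijective (Ideal.ResidueField.mapₐ p q (Algebra.ofId _ _) (q.over_def p)))
    (P : Ideal (R' ⊗[R] S)) [P.IsPrime] [P.LiesOver q] [Algebra.QuasiFiniteAt R' P] :
    Algebra.QuasiFiniteAt R (P.comap
      (Algebra.TensorProduct.includeRight (R := R) (A := R') (B := S)).toRingHom) := by
  let := Localization.AtPrime.algebraOfLiesOver p q
  let e : q.Fiber (R' ⊗[R] S) ≃ₐ[p.ResidueField] p.Fiber S :=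
    ((Algebra.TensorProduct.cancelBaseChange _ _ q.ResidueField _ _).restrictScalars _).trans
      (Algebra.TensorProduct.congr (.symm <| .ofBijective (Algebra.ofId _ _) H) .refl)
  let Q' : Ideal (q.Fiber (R' ⊗[R] S)) :=
    (PrimeSpectrum.primesOverOrderIsoFiber R' (R' ⊗[R] S) q ⟨P, ‹_›, ‹_›⟩).asIdeal
  have hQ' : P = Q'.comap Algebra.TensorProduct.includeRight.toRingHom :=
    congr($((PrimeSpectrum.primesOverOrderIsoFiber R' (R' ⊗[R] S) q).symm_apply_apply
      ⟨P, ‹_›, ‹_›⟩).1).symm
  have h1 : Algebra.QuasiFiniteAt q.ResidueField Q' := .baseChange P _ hQ'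
  have hfin : Module.Finite p.ResidueField q.ResidueField :=
    Module.Finite.of_surjective (Algebra.linearMap p.ResidueField q.ResidueField) H.2
  have h3 : Algebra.QuasiFiniteAt p.ResidueField Q' :=
    Algebra.QuasiFinite.trans _ q.ResidueField _
  have hP := liesOver_comap_includeRight (p := p) (q := q) P
  have h4 : Algebra.QuasiFiniteAt p.ResidueField (Q'.comap e.symm.toRingHom) :=
    Algebra.QuasiFiniteAt.comap_algEquiv Q' e.symm
  refine Algebra.QuasiFiniteAt.of_quasiFiniteAt_residueField p _ (Q'.comap e.symm.toRingHom) ?_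
  conv_rhs => rw [hQ']
  ext s
  simp only [Ideal.mem_comap]
  have : e.symm.toRingHom ((Algebra.TensorProduct.includeRight (R := R) (A := p.ResidueField)
      (B := S)).toRingHom s) =
      (Algebra.TensorProduct.includeRight (R := R') (A := q.ResidueField)
        (B := R' ⊗[R] S)).toRingHom
        ((Algebra.TensorProduct.includeRight (R := R) (A := R') (B := S)).toRingHom s) := by
    change e.symm _ = _
    rw [AlgEquiv.symm_apply_eq]
    simp [e]
  rw [this]

end BC
section Fin

variable (R S : Type u) [CommRing R] [CommRing S] [Algebra R S]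

/-- The set of primes of `S` over `p` at which `S` is quasi-finite over `R`. -/
def qfSet (p : Ideal R) : Set (Ideal S) :=
  {q | ∃ (_ : q.IsPrime), q.LiesOver p ∧ Algebra.QuasiFiniteAt R q}

variable {R S}

theorem finite_qfSet [Algebra.FiniteType R S] (p : Ideal R) [p.IsPrime] : (qfSet R S p).Finite := by
  have hN : IsNoetherianRing (p.Fiber S) :=
    Algebra.FiniteType.isNoetherianRing p.ResidueField (p.Fiber S)
  have hfin : (minimalPrimes (p.Fiber S)).Finite :=
    Ideal.finite_minimalPrimes_of_isNoetherianRing _ ⊥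
  refine (hfin.image (fun Q : Ideal (p.Fiber S) =>
    Q.comap (Algebra.TensorProduct.includeRight (R := R) (A := p.ResidueField)
      (B := S)).toRingHom)).subset ?_
  rintro q ⟨hq, hqp, hqf⟩
  let Q : Ideal (p.Fiber S) := (PrimeSpectrum.primesOverOrderIsoFiber R S p ⟨q, ‹_›, ‹_›⟩).asIdeal
  have hQ : q = Q.comap Algebra.TensorProduct.includeRight.toRingHom :=
    congr($((PrimeSpectrum.primesOverOrderIsoFiber R S p).symm_apply_apply ⟨q, ‹_›, ‹_›⟩).1).symm
  have h1 : Algebra.QuasiFiniteAt p.ResidueField Q := .baseChange q _ hQ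
  refine ⟨Q, ⟨⟨inferInstance, bot_le⟩, ?_⟩, hQ.symm⟩
  rintro Q' ⟨hQ'prime, -⟩ hle
  have : Q' = Q := Algebra.QuasiFiniteAt.eq_of_le_of_under_eq (R := p.ResidueField) hle
    (by rw [Ideal.eq_bot_of_prime (Q'.under p.ResidueField), Ideal.eq_bot_of_prime (Q.under p.ResidueField)])
  exact this.ge

end Fin

section Assoc

variable (R X Y Z : Type*) [CommSemiring R] [Semiring X] [Semiring Y] [Semiring Z]
  [Algebra R X] [Algebra R Y] [Algebra R Z]

/-- Associativity of binary products of algebras. -/
def prodAssocAlg : (X × (Y × Z)) ≃ₐ[R] ((X × Y) × Z) :=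
  AlgEquiv.ofAlgHom
    (AlgHom.prod (AlgHom.prod (AlgHom.fst R X (Y × Z)) ((AlgHom.fst R Y Z).comp (AlgHom.snd R X (Y × Z))))
      ((AlgHom.snd R Y Z).comp (AlgHom.snd R X (Y × Z))))
    (AlgHom.prod ((AlgHom.fst R X Y).comp (AlgHom.fst R (X × Y) Z))
      (AlgHom.prod ((AlgHom.snd R X Y).comp (AlgHom.fst R (X × Y) Z)) (AlgHom.snd R (X × Y) Z)))
    (AlgHom.ext fun _ => rfl) (AlgHom.ext fun _ => rfl)

end Assoc

/-- The count of quasi-finite primes drops after splitting off one of them. -/
theorem ncard_qfSet_lt {R S : Type u} [CommRing R] [CommRing S] [Algebra R S]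
    [Algebra.FiniteType R S] (p : Ideal R) [p.IsPrime] (q : Ideal S) [q.IsPrime] [q.LiesOver p]
    [Algebra.QuasiFiniteAt R q]
    (R1 : Type u) [CommRing R1] [Algebra R R1] (P1 : Ideal R1) [P1.IsPrime] [P1.LiesOver p]
    (e : R1 ⊗[R] S) (he : IsIdempotentElem e)
    (P' : Ideal (R1 ⊗[R] S)) [P'.IsPrime] [P'.LiesOver P1]
    (hP'q : P'.comap (Algebra.TensorProduct.includeRight (R := R) (A := R1) (B := S)).toRingHom = q)
    (heP' : e ∉ P')
    (hκ1 : Function.Bijective (Ideal.ResidueField.mapₐ p P1 (Algebra.ofId _ _) (P1.over_def p))) :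
    (qfSet R1 ((R1 ⊗[R] S) ⧸ Ideal.span {e}) P1).ncard < (qfSet R S p).ncard := by
  have hloc : IsLocalization.Away (1 - e) ((R1 ⊗[R] S) ⧸ Ideal.span {e}) :=
    IsLocalization.away_of_isIdempotentElem he.one_sub
      (by rw [sub_sub_cancel]; exact Ideal.mk_ker) Ideal.Quotient.mk_surjective
  have hfin := finite_qfSet (S := S) p
  have hq : q ∈ qfSet R S p := ⟨‹_›, ‹_›, ‹_›⟩
  let g : Ideal ((R1 ⊗[R] S) ⧸ Ideal.span {e}) → Ideal S := fun Q =>
    (Q.under (R1 ⊗[R] S)).comap (Algebra.TensorProduct.includeRight (R := R) (A := R1) (B := S)).toRingHom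
  have hmaps : Set.MapsTo g (qfSet R1 ((R1 ⊗[R] S) ⧸ Ideal.span {e}) P1) (qfSet R S p \ {q}) := by
    rintro Q ⟨hQprime, hQover, hQf⟩
    have h1 : (Q.under (R1 ⊗[R] S)).LiesOver P1 := Ideal.under_liesOver_of_liesOver (B := (R1 ⊗[R] S)) Q P1
    have h2 : Algebra.QuasiFiniteAt R1 (Q.under (R1 ⊗[R] S)) :=
      quasiFiniteAt_comap_of_isLocalization (Submonoid.powers (1 - e)) Q
    have h3 := liesOver_comap_includeRight (p := p) (q := P1) (Q.under (R1 ⊗[R] S))
    have h4 := quasiFiniteAt_comap_includeRight hκ1 (Q.under (R1 ⊗[R] S))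
    refine ⟨⟨inferInstance, h3, h4⟩, ?_⟩
    intro hgq
    rw [Set.mem_singleton_iff] at hgq
    have : Q.under (R1 ⊗[R] S) = P' :=
      Ideal.eq_of_comap_eq_comap_of_bijective_residueFieldMap hκ1 _ _ (hgq.trans hP'q.symm)
    apply heP'
    rw [← this]
    change Ideal.Quotient.mk _ e ∈ Q
    rw [Ideal.Quotient.eq_zero_iff_mem.mpr (Ideal.mem_span_singleton_self e)]
    exact Q.zero_mem
  have hinj : Set.InjOn g (qfSet R1 ((R1 ⊗[R] S) ⧸ Ideal.span {e}) P1) := by
    rintro Q1 ⟨hQ1prime, hQ1over, hQ1f⟩ Q2 ⟨hQ2prime, hQ2over, hQ2f⟩ h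
    have h1 : (Q1.under (R1 ⊗[R] S)).LiesOver P1 := Ideal.under_liesOver_of_liesOver (B := (R1 ⊗[R] S)) Q1 P1
    have h2 : (Q2.under (R1 ⊗[R] S)).LiesOver P1 := Ideal.under_liesOver_of_liesOver (B := (R1 ⊗[R] S)) Q2 P1
    have : Q1.under (R1 ⊗[R] S) = Q2.under (R1 ⊗[R] S) :=
      Ideal.eq_of_comap_eq_comap_of_bijective_residueFieldMap hκ1 _ _ h
    exact Ideal.comap_injective_of_surjective _ Ideal.Quotient.mk_surjective this
  calc (qfSet R1 ((R1 ⊗[R] S) ⧸ Ideal.span {e}) P1).ncard ≤ (qfSet R S p \ {q}).ncard :=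
        Set.ncard_le_ncard_of_injOn g hmaps hinj (hfin.subset Set.sdiff_subset)
    _ < (qfSet R S p).ncard := Set.ncard_sdiff_singleton_lt_of_mem hq hfin


/-- The unique algebra map to the zero ring. -/
def toPUnitAlgHom (R T : Type u) [CommSemiring R] [Semiring T] [Algebra R T] :
    T →ₐ[R] PUnit.{u+1} where
  toFun _ := PUnit.unit
  map_one' := rfl
  map_mul' _ _ := rfl
  map_zero' := rfl
  map_add' _ _ := rfl
  commutes' _ := rfl

/-- `T ≅ 0 × T` as algebras. -/
noncomputable def punitProdAlgEquiv (R T : Type u) [CommSemiring R] [Semiring T] [Algebra R T] :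
    T ≃ₐ[R] (PUnit.{u+1} × T) :=
  AlgEquiv.ofBijective (AlgHom.prod (toPUnitAlgHom R T) (AlgHom.id R T))
    ⟨fun x y h => congrArg Prod.snd h, fun ⟨_, t⟩ => ⟨t, rfl⟩⟩

theorem exists_split_aux (N : ℕ) : ∀ (R S : Type u) [CommRing R] [CommRing S] [Algebra R S]
    [Algebra.FiniteType R S] (p : Ideal R) [p.IsPrime], (qfSet R S p).ncard = N →
    ∃ (R' : Type u) (_ : CommRing R') (_ : Algebra R R') (_ : Algebra.Etale R R') (P : Ideal R')
      (_ : P.IsPrime) (_ : P.LiesOver p) (A B : Type u) (_ : CommRing A) (_ : CommRing B)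
      (_ : Algebra R' A) (_ : Algebra R' B),
      Function.Bijective (Ideal.ResidueField.mapₐ p P (Algebra.ofId _ _) (P.over_def p)) ∧
      Nonempty ((R' ⊗[R] S) ≃ₐ[R'] (A × B)) ∧ Module.Finite R' A ∧
      ∀ (Q : Ideal B) [Q.IsPrime], Q.LiesOver P → ¬ Algebra.QuasiFiniteAt R' Q := by
  induction N using Nat.strong_induction_on with
  | _ N IH =>
    intro R S _ _ _ _ p _ hN
    by_cases hempty : qfSet R S p = ∅
    · have hpp : p.LiesOver p := ⟨rfl⟩
      have hid : Function.Bijective (Ideal.ResidueField.mapₐ p p (Algebra.ofId R R)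
          (Ideal.over_def p p)) := by
        rw! [Algebra.ofId_self, Ideal.ResidueField.mapₐ_id]; exact Function.bijective_id
      refine ⟨R, inferInstance, inferInstance, inferInstance, p, inferInstance, hpp,
        PUnit.{u+1}, R ⊗[R] S, inferInstance, inferInstance, inferInstance, inferInstance,
        hid, ⟨punitProdAlgEquiv R (R ⊗[R] S)⟩, inferInstance, ?_⟩
      intro Q _ hQover hQf
      have h3 := liesOver_comap_includeRight (p := p) (q := p) Q
      have h4 := quasiFiniteAt_comap_includeRight hid Q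
      have : Q.comap (Algebra.TensorProduct.includeRight (R := R) (A := R) (B := S)).toRingHom ∈
          qfSet R S p := ⟨inferInstance, h3, h4⟩
      rw [hempty] at this
      exact this
    · obtain ⟨q, hq⟩ := Set.nonempty_iff_ne_empty.mpr hempty
      obtain ⟨hqprime, hqover, hqf⟩ := hq
      obtain ⟨R1, _, _, _, P1, _, _, e, he, P', _, _, hP'q, heP', hκ1, hfin1, -⟩ :=
        Algebra.exists_etale_isIdempotentElem_forall_liesOver_eq p q
      have hlt := ncard_qfSet_lt p q R1 P1 e he P' hP'q heP' hκ1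
      rw [hN] at hlt
      obtain ⟨R2, _, _, _, P2, _, _, A2, B2, _, _, _, _, hκ2, ⟨iso2⟩, hfin2, hB2⟩ :=
        IH _ hlt R1 ((R1 ⊗[R] S) ⧸ Ideal.span {e}) P1 rfl
      let : Algebra R R2 := .compHom _ (algebraMap R R1)
      have : IsScalarTower R R1 R2 := .of_algebraMap_eq' rfl
      have hP2p : P2.LiesOver p := .trans _ P1 _
      have hκ : Function.Bijective (Ideal.ResidueField.mapₐ p P2 (Algebra.ofId _ _)
          (P2.over_def p)) := by
        convert hκ2.comp hκ1
        rw [← @AlgHom.coe_restrictScalars' R R1, ← AlgHom.coe_comp]; congr 1; ext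
      -- the first splitting
      have hbij : Function.Bijective ((Ideal.Quotient.mk (Ideal.span {1 - e})).prod
          (Ideal.Quotient.mk (Ideal.span {e}))) :=
        RingHom.prod_bijective_of_isIdempotentElem he.one_sub he (by ring)
          (by rw [sub_mul, one_mul, he.eq, sub_self])
      let iso1 : (R1 ⊗[R] S) ≃ₐ[R1]
          (((R1 ⊗[R] S) ⧸ Ideal.span {1 - e}) × ((R1 ⊗[R] S) ⧸ Ideal.span {e})) :=
        AlgEquiv.ofBijective (AlgHom.prod (Ideal.Quotient.mkₐ R1 _) (Ideal.Quotient.mkₐ R1 _)) hbij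
      have hfinA1 : Module.Finite R1 ((R1 ⊗[R] S) ⧸ Ideal.span {1 - e}) := by
        have hl : IsLocalization.Away e ((R1 ⊗[R] S) ⧸ Ideal.span {1 - e}) :=
          IsLocalization.Away.quotient_of_isIdempotentElem he
        let f : Localization.Away e ≃ₐ[R1 ⊗[R] S] ((R1 ⊗[R] S) ⧸ Ideal.span {1 - e}) :=
          IsLocalization.algEquiv (Submonoid.powers e) _ _
        exact Module.Finite.equiv (f.restrictScalars R1).toLinearEquiv
      let iso : (R2 ⊗[R] S) ≃ₐ[R2]
          (((R2 ⊗[R1] ((R1 ⊗[R] S) ⧸ Ideal.span {1 - e})) × A2) × B2) :=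
        ((Algebra.TensorProduct.cancelBaseChange R R1 R2 R2 S).symm.trans
          ((Algebra.TensorProduct.congr AlgEquiv.refl iso1).trans
            ((Algebra.TensorProduct.prodRight R1 R2 R2 _ _).trans
              (AlgEquiv.prodCongr AlgEquiv.refl iso2)))).trans (prodAssocAlg R2 _ _ _)
      exact ⟨R2, inferInstance, inferInstance, .comp R R1 R2, P2, inferInstance, hP2p,
        (R2 ⊗[R1] ((R1 ⊗[R] S) ⧸ Ideal.span {1 - e})) × A2, B2, inferInstance, inferInstance,
        inferInstance, inferInstance, hκ, ⟨iso⟩, inferInstance, hB2⟩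

/-- If `κ(p) → κ(P)` is bijective, the residue field `κ(P)` is generated by the image of `R`. -/
theorem closure_range_algebraMap_eq_top {R R' : Type u} [CommRing R] [CommRing R'] [Algebra R R']
    (p : Ideal R) [p.IsPrime] (P : Ideal R') [P.IsPrime] [P.LiesOver p]
    (H : Function.Bijective (Ideal.ResidueField.mapₐ p P (Algebra.ofId _ _) (P.over_def p))) :
    Subfield.closure (Set.range (algebraMap R P.ResidueField)) = ⊤ := by
  rw [eq_top_iff]
  rintro y -
  obtain ⟨x, rfl⟩ := H.2 y
  obtain ⟨a, b, hb, rfl⟩ := IsFractionRing.div_surjective (A := R ⧸ p) x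
  obtain ⟨a, rfl⟩ := Ideal.Quotient.mk_surjective a
  obtain ⟨b, rfl⟩ := Ideal.Quotient.mk_surjective b
  rw [map_div₀]
  have h1 : ∀ r : R, Ideal.ResidueField.mapₐ p P (Algebra.ofId _ _) (P.over_def p)
      (algebraMap (R ⧸ p) p.ResidueField (Ideal.Quotient.mk p r)) =
      algebraMap R P.ResidueField r := by
    intro r
    have : algebraMap (R ⧸ p) p.ResidueField (Ideal.Quotient.mk p r) =
        algebraMap R p.ResidueField r := by
      rw [← Ideal.Quotient.algebraMap_eq, ← IsScalarTower.algebraMap_apply]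
    rw [this, AlgHom.commutes]
  rw [h1, h1]
  exact Subfield.div_mem _ (Subfield.subset_closure ⟨a, rfl⟩) (Subfield.subset_closure ⟨b, rfl⟩)

end Groth.Agent.Lib.H56QFSplit
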