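import Mathlib
import Groth.Agent.Lib.H56ValFib

/-!
# Pure dimensionality of fibres over a valuation ring

* `dim_fiber_eq_of_compDims_eq_singleton`
* `dim_irreducibleComponent_fiber_Spec`: `X` irreducible, locally of finite type over a valuation
  ring: every irreducible component of a fibre has the dimension of every other nonempty fibre.
-/

set_option autoImplicit false
universe u

namespace Groth.Agent.Lib.H56ValTrdeg

open AlgebraicGeometry CategoryTheory Groth.Agent.Lib.H56LocDim Groth.Agent.Lib.H56OpenDim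

variable {X Y : Scheme.{u}}

theorem dim_fiber_eq_of_compDims_eq_singleton (f : X ⟶ Y) [LocallyOfFiniteType f] (y : Y) (n : ℕ)
    (h : compDims f y = {n}) : topologicalKrullDim (f.fiber y) = (n : WithBot ℕ∞) := by
  apply le_antisymm
  · rw [dim_fiber_le_iff]
    intro x hx
    obtain ⟨w, -, hfw, hwmax, hw⟩ := exists_maxInFibre_fibreDimAt_eq f x
    have hmem : tdeg f w ∈ compDims f y := ⟨w, hfw.trans hx, hwmax, rfl⟩
    rw [h] at hmem
    rw [hw, Set.mem_singleton_iff.mp hmem]
  · have hmem : n ∈ compDims f y := by rw [h]; exact rfl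
    obtain ⟨w, hfw, -, rfl⟩ := hmem
    exact tdeg_le_dim_fiber' f w y hfw

theorem dim_irreducibleComponent_fiber_Spec (R : Type u) [CommRing R] [IsDomain R] [ValuationRing R]
    (f : X ⟶ Spec (CommRingCat.of R)) [LocallyOfFiniteType f] [IrreducibleSpace X]
    (s s' : Spec (CommRingCat.of R)) (hs' : ∃ x : X, f x = s')
    (Z : Set ↥(f.fiber s)) (hZ : Z ∈ irreducibleComponents ↥(f.fiber s)) :
    topologicalKrullDim ↥Z = topologicalKrullDim ↥(f.fiber s') := by
  have hmem : topologicalKrullDim ↥Z ∈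
      (fun Z : Set ↥(f.fiber s) => topologicalKrullDim ↥Z) '' irreducibleComponents ↥(f.fiber s) :=
    ⟨Z, hZ, rfl⟩
  rw [image_dim_irreducibleComponents_fiber] at hmem
  obtain ⟨n, hn, hnZ⟩ := hmem
  have hs : ∃ x : X, f x = s := by
    obtain ⟨x, hx, -, -⟩ := hn
    exact ⟨x, hx⟩
  rw [compDims_eq_singleton_Spec R f s hs] at hn
  rw [← hnZ, Set.mem_singleton_iff.mp hn,
    dim_fiber_eq_of_compDims_eq_singleton f s' _ (compDims_eq_singleton_Spec R f s' hs')]

end Groth.Agent.Lib.H56ValTrdeg
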