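import Mathlib
import Groth.Agent.Lib.H56ValFib

/-!
# Fibres of `Spec S ⟶ Spec R` and the rings `κ(p) ⊗[R] S`; EGA IV 14.3.10 for rings

* `dim_fiber_Spec_map`: `dim (Spec S)_p = dim κ(p) ⊗[R] S`.
* `ringKrullDim_residueField_tensor`, `ringKrullDim_fractionRing_tensor`: identification of
  `κ ⊗[R] S`, `Frac R ⊗[R] S` with the fibre rings at the closed and generic point.
* `ringKrullDim_fiber_eq_of_valuationRing`: `R` a valuation ring, `S` a domain of finite type over
  `R`: all nonzero fibre rings have the same dimension.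
-/

set_option autoImplicit false
universe u

namespace Groth.Agent.Lib.H56ValTrdeg

open AlgebraicGeometry CategoryTheory TensorProduct

variable (R S : Type u) [CommRing R] [CommRing S] [Algebra R S]

theorem dim_fiber_Spec_map (p : PrimeSpectrum R) :
    topologicalKrullDim ((Spec.map (CommRingCat.ofHom (algebraMap R S))).fiber
      (p : Spec (CommRingCat.of R))) = ringKrullDim (p.asIdeal.Fiber S) := by
  rw [← PrimeSpectrum.topologicalKrullDim_eq_ringKrullDim]
  let f := Spec.map (CommRingCat.ofHom (algebraMap R S))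
  have h1 := IsHomeomorph.topologicalKrullDim_eq _
    (f.fiberHomeo (p : Spec (CommRingCat.of R))).isHomeomorph
  have h2 := IsHomeomorph.topologicalKrullDim_eq _
    (PrimeSpectrum.preimageHomeomorphFiber R S p).isHomeomorph
  exact h1.trans h2

theorem exists_map_eq_of_nontrivial_fiber (p : PrimeSpectrum R) [Nontrivial (p.asIdeal.Fiber S)] :
    ∃ x : Spec (CommRingCat.of S),
      (Spec.map (CommRingCat.ofHom (algebraMap R S))) x = (p : Spec (CommRingCat.of R)) := by
  obtain ⟨q⟩ : Nonempty (PrimeSpectrum (p.asIdeal.Fiber S)) := inferInstance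
  let x := (PrimeSpectrum.preimageHomeomorphFiber R S p).symm q
  exact ⟨x.1, x.2⟩

/-- `κ ⊗[R] S ≃ κ(𝔪) ⊗[R] S` -/
noncomputable def residueFieldTensorEquiv [IsLocalRing R] :
    (IsLocalRing.ResidueField R ⊗[R] S) ≃ₐ[R] (IsLocalRing.maximalIdeal R).Fiber S :=
  Algebra.TensorProduct.congr
    (AlgEquiv.ofBijective (IsScalarTower.toAlgHom R (R ⧸ IsLocalRing.maximalIdeal R)
      (IsLocalRing.maximalIdeal R).ResidueField)
      (Ideal.bijective_algebraMap_quotient_residueField (IsLocalRing.maximalIdeal R)))
    AlgEquiv.refl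

/-- `Frac R ⊗[R] S ≃ κ(0) ⊗[R] S` -/
noncomputable def fractionRingTensorEquiv [IsDomain R] :
    (FractionRing R ⊗[R] S) ≃ₐ[R] (⊥ : Ideal R).Fiber S :=
  Algebra.TensorProduct.congr (FractionRing.algEquiv R (⊥ : Ideal R).ResidueField) AlgEquiv.refl

variable {R S}

/-- **EGA IV 14.3.10 (ring form)**: a domain of finite type over a valuation ring has all its nonzero
fibre rings of the same dimension. -/
theorem ringKrullDim_fiber_eq_of_valuationRing [IsDomain R] [ValuationRing R] [IsDomain S]
    [Algebra.FiniteType R S] (p p' : PrimeSpectrum R) [Nontrivial (p.asIdeal.Fiber S)]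
    [Nontrivial (p'.asIdeal.Fiber S)] :
    ringKrullDim (p.asIdeal.Fiber S) = ringKrullDim (p'.asIdeal.Fiber S) := by
  rw [← dim_fiber_Spec_map, ← dim_fiber_Spec_map]
  have : IrreducibleSpace (Spec (CommRingCat.of S)) := inferInstance
  have hft : LocallyOfFiniteType (Spec.map (CommRingCat.ofHom (algebraMap R S))) := by
    rw [HasRingHomProperty.Spec_iff (P := @LocallyOfFiniteType)]
    exact (RingHom.finiteType_algebraMap (A := R) (B := S)).mpr inferInstance
  exact dim_fiber_eq_of_irreducible_Spec R (Spec.map (CommRingCat.ofHom (algebraMap R S))) _ _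
    (exists_map_eq_of_nontrivial_fiber R S p) (exists_map_eq_of_nontrivial_fiber R S p')

end Groth.Agent.Lib.H56ValTrdeg
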