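import Groth.Agent.Lib.CurveDeg48f

/-!
# Additive invariants on a Noetherian scheme of dimension `≤ 1` with several components (helper59)

Multi-component version of helper48's `AddInv.eq_glen_mul`: if `S` is a finite set of points which are maximal for
generization and such that the closure of every point outside `S` has dimension `≤ 0`, then for every coherent `M`
`φ(M) = ∑_{ξ ∈ S} length(M_ξ) · φ(hub (closure ξ))`.
-/

set_option autoImplicit false
universe u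
open CategoryTheory CategoryTheory.Limits AlgebraicGeometry Opposite TopologicalSpace

namespace Groth.Agent.Lib.H59AddInvComp

open Groth.Agent.Lib.CurveDeg48 Groth.Agent.Lib.H90DevHub2 Groth.Agent.Lib.H90DevHub
  Groth.Agent.Lib.H90DevCanon Groth.Agent.Lib.ModStalkLin

variable {X : Scheme.{u}}

/-- the closure of a point as a closed subset -/
noncomputable abbrev cl (ξ : X) : Closeds X := Closeds.closure {ξ}

theorem AddInv.eq_sum_glen_mul [AlgebraicGeometry.IsNoetherian X] (A : AddInv X) (S : Finset X)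
    (hmax : ∀ ξ ∈ S, ∀ η : X, ξ ∈ closure ({η} : Set X) → η = ξ)
    (hout : ∀ η : X, η ∉ S → topologicalKrullDim ↥(closure ({η} : Set X)) ≤ 0)
    (M : X.Modules) (hM : Coh.IsCoh M) :
    (∀ ξ ∈ S, glen ξ M ≠ ⊤) ∧
      A.φ M = ∑ ξ ∈ S, ((glen ξ M).toNat : ℤ) * A.φ (hub (cl ξ)) := by
  classical
  refine Groth.Agent.Lib.H90DevSubset.devissage_two_of_three_subset X Set.univ
    (fun M => (∀ ξ ∈ S, glen ξ M ≠ ⊤) ∧
      A.φ M = ∑ ξ ∈ S, ((glen ξ M).toNat : ℤ) * A.φ (hub (cl ξ))) ?_ ?_ ?_ ?_ M hM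
    (Set.subset_univ _)
  · rintro M N ⟨e⟩ ⟨h1, h2⟩
    refine ⟨fun ξ hξ => ?_, ?_⟩
    · rw [← glen_congr ξ e]
      exact h1 ξ hξ
    · rw [← A.iso e, h2]
      refine Finset.sum_congr rfl fun ξ _ => ?_
      rw [glen_congr ξ e]
  · intro N hN
    have h0 : ∀ ξ : X, glen ξ N = 0 := fun ξ => by
      haveI := Groth.Agent.Lib.CurveDeg48.subsingleton_stalk_of_isZero hN ξ
      exact Module.length_eq_zero
    refine ⟨fun ξ _ => by rw [h0 ξ]; simp, ?_⟩
    rw [A.zero hN]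
    symm
    refine Finset.sum_eq_zero fun ξ _ => ?_
    rw [h0 ξ]
    simp
  · intro T hT h₁ h₂ h₃
    have hl := fun ξ : X => glen_add ξ hT
    have ha := A.add T hT h₁ h₂ h₃
    have hsum : ∀ (f₁ : ∀ ξ ∈ S, glen ξ T.X₁ ≠ ⊤) (f₃ : ∀ ξ ∈ S, glen ξ T.X₃ ≠ ⊤),
        ∑ ξ ∈ S, ((glen ξ T.X₂).toNat : ℤ) * A.φ (hub (cl ξ)) =
          ∑ ξ ∈ S, ((glen ξ T.X₁).toNat : ℤ) * A.φ (hub (cl ξ)) +
            ∑ ξ ∈ S, ((glen ξ T.X₃).toNat : ℤ) * A.φ (hub (cl ξ)) := by
      intro f₁ f₃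
      rw [← Finset.sum_add_distrib]
      refine Finset.sum_congr rfl fun ξ hξ => ?_
      rw [hl ξ, ENat.toNat_add (f₁ ξ hξ) (f₃ ξ hξ)]
      push_cast
      ring
    refine ⟨fun p₁ p₂ => ?_, fun p₁ p₃ => ?_, fun p₂ p₃ => ?_⟩
    · obtain ⟨f₁, e₁⟩ := p₁
      obtain ⟨f₂, e₂⟩ := p₂
      have f₃ : ∀ ξ ∈ S, glen ξ T.X₃ ≠ ⊤ := by
        intro ξ hξ h
        have := hl ξ
        rw [h, add_top] at this
        exact f₂ ξ hξ this
      refine ⟨f₃, ?_⟩
      have hs := hsum f₁ f₃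
      rw [e₁, e₂, hs] at ha
      linear_combination (-1 : ℤ) * ha
    · obtain ⟨f₁, e₁⟩ := p₁
      obtain ⟨f₃, e₃⟩ := p₃
      have f₂ : ∀ ξ ∈ S, glen ξ T.X₂ ≠ ⊤ := by
        intro ξ hξ
        rw [hl ξ]
        exact WithTop.add_ne_top.mpr ⟨f₁ ξ hξ, f₃ ξ hξ⟩
      refine ⟨f₂, ?_⟩
      rw [ha, e₁, e₃, hsum f₁ f₃]
    · obtain ⟨f₂, e₂⟩ := p₂
      obtain ⟨f₃, e₃⟩ := p₃
      have f₁ : ∀ ξ ∈ S, glen ξ T.X₁ ≠ ⊤ := by
        intro ξ hξ h
        have := hl ξ
        rw [h, top_add] at this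
        exact f₂ ξ hξ this
      refine ⟨f₁, ?_⟩
      have hs := hsum f₁ f₃
      rw [e₂, e₃, hs] at ha
      linear_combination (-1 : ℤ) * ha
  · intro Zc hirrc _ η hgen
    obtain ⟨hs, he⟩ := Groth.Agent.Lib.H90DevSummand.hub_props Zc hirrc η hgen
    refine ⟨hub Zc, isCoh_hub Zc, hs, he, ?_⟩
    have hη : IsGenericPoint η (Zc : Set X) := hgen
    -- points of `S` other than `η` are not in `Zc`
    have hnot : ∀ ξ ∈ S, ξ ≠ η → glen ξ (hub Zc) = 0 := by
      intro ξ hξ hne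
      apply glen_eq_zero_of_notMem_support
      rw [hs]
      intro hmem
      apply hne
      have : ξ ∈ closure ({η} : Set X) := by rw [hgen]; exact hmem
      exact (hmax ξ hξ η this).symm
    have hZc : Zc = cl η := by
      apply SetLike.coe_injective
      exact hgen.symm
    by_cases hηS : η ∈ S
    · haveI := isSimpleModule_hub hirrc hη
      have h1 : glen η (hub Zc) = 1 := Module.length_eq_one _ _
      refine ⟨fun ξ hξ => ?_, ?_⟩
      · by_cases hne : ξ = η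
        · rw [hne, h1]; simp
        · rw [hnot ξ hξ hne]; simp
      · rw [Finset.sum_eq_single_of_mem η hηS]
        · rw [h1, ← hZc]; simp
        · intro ξ hξ hne
          rw [hnot ξ hξ hne]; simp
    · have hne : ∀ ξ ∈ S, ξ ≠ η := fun ξ hξ h => hηS (h ▸ hξ)
      refine ⟨fun ξ hξ => by rw [hnot ξ hξ (hne ξ hξ)]; simp, ?_⟩
      have hd : topologicalKrullDim ↥(Zc : Set X) ≤ 0 := by
        have := hout η hηS
        rwa [hgen] at this
      rw [A.tors (hub Zc) (isCoh_hub Zc) (by rw [hs]; exact hd)]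
      symm
      refine Finset.sum_eq_zero fun ξ hξ => ?_
      rw [hnot ξ hξ (hne ξ hξ)]
      simp

end Groth.Agent.Lib.H59AddInvComp
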