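import Mathlib.Topology.Sets.Opens
import Mathlib.Combinatorics.Colex
import Mathlib.Data.Prod.Lex
import Mathlib.Order.Fin.Basic
import Mathlib.AlgebraicGeometry.IdealSheaf.Subscheme
import Mathlib.AlgebraicGeometry.Morphisms.ClosedImmersion
import Mathlib.AlgebraicGeometry.Morphisms.Immersion
import Mathlib.AlgebraicGeometry.Morphisms.Affine
import Mathlib.AlgebraicGeometry.Morphisms.QuasiSeparated

/-!
# Affine stratifications of quasi-compact quasi-separated schemes (helper59)

Topological core: given finitely many opens `U i` and finitely many opens `W a` such that every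
point `x` lies in some `W a` contained in all the `U i` containing `x`, the function
`x ↦ (type of x, first admissible a)` into a finite linear order has closed sublevel sets and
level sets which are relatively closed in some `W a`.
-/

set_option autoImplicit false
set_option linter.style.haveILetI false
universe u
open TopologicalSpace

namespace Groth.Agent.Lib.H59AffStrat

section topological

variable {X : Type*} [TopologicalSpace X] {n m : ℕ} (U : Fin n → Opens X) (W : Fin m → Opens X)

open Classical in
/-- The set of indices `i` with `x ∈ U i`. -/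
noncomputable def typ (x : X) : Finset (Fin n) := Finset.univ.filter (fun i => x ∈ U i)

theorem mem_typ {x : X} {i : Fin n} : i ∈ typ U x ↔ x ∈ U i := by
  classical
  simp [typ]

/-- `a` is admissible for `x`. -/
def Adm (x : X) (a : Fin m) : Prop := x ∈ W a ∧ ∀ y ∈ W a, typ U x ⊆ typ U y

variable (h : ∀ x : X, ∃ a, Adm U W x a)

open Classical in
/-- The first admissible index. -/
noncomputable def fst (x : X) : Fin m :=
  (Finset.univ.filter (fun a => Adm U W x a)).min' (by
    obtain ⟨a, ha⟩ := h x
    exact ⟨a, by simp [ha]⟩)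

theorem adm_fst (x : X) : Adm U W x (fst U W h x) := by
  classical
  have := Finset.min'_mem (Finset.univ.filter (fun a => Adm U W x a)) (by
    obtain ⟨a, ha⟩ := h x
    exact ⟨a, by simp [ha]⟩)
  simpa [fst] using this

theorem fst_le (x : X) (a : Fin m) (ha : Adm U W x a) : fst U W h x ≤ a := by
  classical
  exact Finset.min'_le _ _ (by simp [ha])

/-- The index type of the stratification. -/
abbrev Idx (n m : ℕ) : Type := Lex (Colex (Finset (Fin n)) × (Fin m)ᵒᵈ)

/-- The stratifying function. -/
noncomputable def sig (x : X) : Idx n m :=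
  toLex (toColex (typ U x), OrderDual.toDual (fst U W h x))

theorem sig_le_of_mem (x y : X) (hy : y ∈ W (fst U W h x)) : sig U W h x ≤ sig U W h y := by
  have hadm := adm_fst U W h x
  have hsub : typ U x ⊆ typ U y := hadm.2 y hy
  rcases eq_or_ssubset_of_subset hsub with heq | hss
  · have hadmy : Adm U W y (fst U W h x) := ⟨hy, fun z hz => heq ▸ hadm.2 z hz⟩
    have hle := fst_le U W h y _ hadmy
    unfold sig
    rw [Prod.Lex.toLex_le_toLex]
    right
    exact ⟨by rw [heq], OrderDual.toDual_le_toDual.mpr hle⟩
  · unfold sig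
    rw [Prod.Lex.toLex_le_toLex]
    left
    exact Finset.Colex.toColex_lt_toColex_of_ssubset hss

theorem isOpen_setOf_le_sig (p : Idx n m) : IsOpen {x : X | p ≤ sig U W h x} := by
  rw [isOpen_iff_forall_mem_open]
  intro x hx
  exact ⟨W (fst U W h x), fun y hy => le_trans hx (sig_le_of_mem U W h x y hy), (W _).2,
    (adm_fst U W h x).1⟩

theorem isOpen_setOf_lt_sig (p : Idx n m) : IsOpen {x : X | p < sig U W h x} := by
  rw [isOpen_iff_forall_mem_open]
  intro x hx
  exact ⟨W (fst U W h x), fun y hy => lt_of_lt_of_le hx (sig_le_of_mem U W h x y hy), (W _).2,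
    (adm_fst U W h x).1⟩

theorem isClosed_setOf_sig_le (p : Idx n m) : IsClosed {x : X | sig U W h x ≤ p} := by
  have : {x : X | sig U W h x ≤ p} = {x : X | p < sig U W h x}ᶜ := by
    ext x
    simp
  rw [this]
  exact (isOpen_setOf_lt_sig U W h p).isClosed_compl

/-- A nonempty level set is the intersection of a `W a` with a closed set. -/
theorem setOf_sig_eq (p : Idx n m) (x₀ : X) (hx₀ : sig U W h x₀ = p) :
    {x : X | sig U W h x = p} = (W (fst U W h x₀) : Set X) ∩ {x : X | sig U W h x ≤ p} := by
  ext x
  constructor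
  · intro hx
    have hx' : sig U W h x = p := hx
    refine ⟨?_, le_of_eq hx'⟩
    have h1 : fst U W h x = fst U W h x₀ := by
      have := hx'.trans hx₀.symm
      unfold sig at this
      have h2 := congrArg (fun q => (ofLex q).2) this
      exact OrderDual.toDual_inj.mp h2
    rw [← h1]
    exact (adm_fst U W h x).1
  · rintro ⟨hxW, hxle⟩
    exact le_antisymm hxle (hx₀ ▸ sig_le_of_mem U W h x₀ x hxW)

theorem typ_eq_of_sig_eq (x y : X) (hxy : sig U W h x = sig U W h y) : typ U x = typ U y := by
  unfold sig at hxy
  have h2 := congrArg (fun q => (ofLex q).1) hxy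
  exact toColex_inj.mp h2

end topological

section scheme

open AlgebraicGeometry CategoryTheory

/-- A relatively closed subset of an affine open which is contained in or disjoint from each
member of an affine open cover is the image of an affine immersion from an affine scheme. -/
theorem exists_affine_immersion {X : Scheme.{u}} (Wa : X.Opens) (hW : IsAffineOpen Wa)
    (C : Set X) (hC : IsClosed C) (Ucov : X → X.Opens)
    (hU : ∀ x, x ∈ Ucov x ∧ IsAffineOpen (Ucov x))
    (hL : ∀ x, (Wa : Set X) ∩ C ⊆ Ucov x ∨ Disjoint ((Wa : Set X) ∩ C) (Ucov x)) :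
    ∃ (Z : Scheme.{u}) (ι : Z ⟶ X), IsImmersion ι ∧ IsAffine Z ∧ IsAffineHom ι ∧
      Set.range ι = (Wa : Set X) ∩ C := by
  let Cl : Closeds Wa.toScheme := ⟨Wa.ι ⁻¹' C, hC.preimage Wa.ι.continuous⟩
  let I := Scheme.IdealSheafData.vanishingIdeal Cl
  have hrange : Set.range (I.subschemeι ≫ Wa.ι) = (Wa : Set X) ∩ C := by
    rw [Scheme.Hom.comp_base, TopCat.coe_comp, Set.range_comp, I.range_subschemeι]
    change Wa.ι '' (Wa.ι ⁻¹' C) = _
    rw [Set.image_preimage_eq_inter_range, Scheme.Opens.range_ι, Set.inter_comm]
  haveI : IsAffine Wa.toScheme := hW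
  haveI : IsAffine I.subscheme := isAffine_of_isAffineHom I.subschemeι
  refine ⟨I.subscheme, I.subschemeι ≫ Wa.ι, inferInstance, inferInstance, ?_, hrange⟩
  refine isAffineHom_of_forall_exists_isAffineOpen _ fun x => ⟨Ucov x, (hU x).1, (hU x).2, ?_⟩
  rcases hL x with hsub | hdis
  · have : (I.subschemeι ≫ Wa.ι) ⁻¹ᵁ (Ucov x) = ⊤ := by
      ext z
      simp only [Scheme.Hom.coe_preimage, Set.mem_preimage, SetLike.mem_coe, Opens.coe_top,
        Set.mem_univ, iff_true]
      exact hsub (hrange ▸ Set.mem_range_self z)
    rw [this]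
    exact isAffineOpen_top _
  · have : (I.subschemeι ≫ Wa.ι) ⁻¹ᵁ (Ucov x) = ⊥ := by
      ext z
      simp only [Scheme.Hom.coe_preimage, Set.mem_preimage, SetLike.mem_coe, Opens.coe_bot,
        Set.mem_empty_iff_false, iff_false]
      intro hz
      exact Set.disjoint_left.mp hdis (hrange ▸ Set.mem_range_self z) hz
    rw [this]
    exact isAffineOpen_bot _

end scheme

end Groth.Agent.Lib.H59AffStrat
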