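import Groth.Agent.Lib.H59AffStrat
import Groth.Prelude.Def_MoreMor

/-!
# Quasi-compact quasi-separated schemes have finite affine stratifications (helper59)
-/

set_option autoImplicit false
set_option linter.style.haveILetI false
universe u
open TopologicalSpace AlgebraicGeometry CategoryTheory

namespace Groth.Agent.Lib.H59AffStrat

noncomputable instance instFintypeIdx (n m : ℕ) : Fintype (Idx n m) :=
  inferInstanceAs (Fintype (Finset (Fin n) × Fin m))

variable (X : Scheme.{u})

/-- Finite intersections of compact opens of a quasi-separated space are compact. -/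
theorem isCompact_biInter_of_quasiSeparated {α : Type*} [TopologicalSpace α] [CompactSpace α]
    [QuasiSeparatedSpace α] {n : ℕ} (U : Fin n → Opens α) (hU : ∀ i, IsCompact (U i : Set α))
    (J : Finset (Fin n)) : IsCompact (⋂ i ∈ J, (U i : Set α)) ∧ IsOpen (⋂ i ∈ J, (U i : Set α)) := by
  classical
  induction J using Finset.induction_on with
  | empty => simpa using isCompact_univ
  | insert a s _ ih =>
    rw [Finset.set_biInter_insert]
    exact ⟨QuasiSeparatedSpace.inter_isCompact _ _ (U a).2 (hU a) ih.2 ih.1, (U a).2.inter ih.2⟩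

theorem exists_hasAffineStratification [CompactSpace X] [QuasiSeparatedSpace X] :
    ∃ n : ℕ, MoreMor.HasAffineStratification X n := by
  classical
  rcases isEmpty_or_nonempty X with hX | hX
  · refine ⟨0, fun _ => 0, fun i => ?_, fun i => ⟨X, 𝟙 X, inferInstance, isAffine_of_isEmpty,
      inferInstance, ?_⟩⟩
    · have : {x : X | (0 : Fin (0 + 1)) ≤ i} = ∅ := Set.eq_empty_of_isEmpty _
      rw [this]
      exact isClosed_empty
    · rw [Set.eq_empty_of_isEmpty (Set.range _), Set.eq_empty_of_isEmpty {x : X | _}]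
  -- a finite affine open cover
  obtain ⟨sU, hsUfin, hsU⟩ := (isCompact_iff_finite_and_eq_biUnion_affineOpens
    (U := (⊤ : X.Opens))).mp isCompact_univ
  obtain ⟨n, eU, -, heU⟩ := hsUfin.fin_param
  let U : Fin n → X.Opens := fun i => (eU i : X.Opens)
  have hUaff : ∀ i, IsAffineOpen (U i) := fun i => (eU i).2
  have hUcov : ∀ x : X, ∃ i, x ∈ U i := by
    intro x
    have hx : x ∈ (⊤ : X.Opens) := trivial
    rw [hsU] at hx
    simp only [Opens.mem_iSup] at hx
    obtain ⟨V, hV, hxV⟩ := hx
    obtain ⟨i, rfl⟩ : V ∈ Set.range eU := heU ▸ hV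
    exact ⟨i, hxV⟩
  -- the intersections
  have hUJ := isCompact_biInter_of_quasiSeparated U (fun i => (hUaff i).isCompact)
  let UJ : Finset (Fin n) → X.Opens := fun J => ⟨⋂ i ∈ J, (U i : Set X), (hUJ J).2⟩
  have hUJc : ∀ J, ∃ s : Set X.affineOpens, s.Finite ∧ UJ J = ⨆ i ∈ s, (i : X.Opens) := fun J =>
    isCompact_iff_finite_and_eq_biUnion_affineOpens.mp (hUJ J).1
  choose sJ hsJfin hsJ using hUJc
  have hSfin : (⋃ J, sJ J).Finite := Set.finite_iUnion hsJfin
  obtain ⟨m, eW, -, heW⟩ := hSfin.fin_param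
  let W : Fin m → X.Opens := fun a => (eW a : X.Opens)
  have hWaff : ∀ a, IsAffineOpen (W a) := fun a => (eW a).2
  have h : ∀ x : X, ∃ a, Adm U W x a := by
    intro x
    have hx : x ∈ UJ (typ U x) := by
      change x ∈ ⋂ i ∈ typ U x, (U i : Set X)
      simp only [Set.mem_iInter, SetLike.mem_coe]
      exact fun i hi => (mem_typ U).mp hi
    rw [hsJ] at hx
    simp only [Opens.mem_iSup] at hx
    obtain ⟨V, hV, hxV⟩ := hx
    obtain ⟨a, rfl⟩ : V ∈ Set.range eW := heW ▸ Set.mem_iUnion.mpr ⟨_, hV⟩
    refine ⟨a, hxV, fun y hy i hi => ?_⟩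
    have hy' : y ∈ UJ (typ U x) := by
      rw [hsJ]
      simp only [Opens.mem_iSup]
      exact ⟨_, hV, hy⟩
    have hy'' : y ∈ ⋂ i ∈ typ U x, (U i : Set X) := hy'
    simp only [Set.mem_iInter, SetLike.mem_coe] at hy''
    exact (mem_typ U).mpr (hy'' i hi)
  -- the index set
  obtain ⟨x₁⟩ := hX
  haveI : Nonempty (Idx n m) := ⟨sig U W h x₁⟩
  have hcard : Fintype.card (Idx n m) ≠ 0 := Fintype.card_ne_zero
  obtain ⟨N, hN⟩ := Nat.exists_eq_succ_of_ne_zero hcard
  let e : Fin (N + 1) ≃o Idx n m := Fintype.orderIsoFinOfCardEq (Idx n m) hN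
  refine ⟨N, fun x => e.symm (sig U W h x), fun i => ?_, fun i => ?_⟩
  · have : {x : X | e.symm (sig U W h x) ≤ i} = {x : X | sig U W h x ≤ e i} := by
      ext x
      simp only [Set.mem_ofPred_eq]
      rw [OrderIso.symm_apply_le]
    rw [this]
    exact isClosed_setOf_sig_le U W h _
  · have hset : {x : X | e.symm (sig U W h x) = i} = {x : X | sig U W h x = e i} := by
      ext x
      simp only [Set.mem_ofPred_eq]
      rw [OrderIso.symm_apply_eq]
    rw [hset]
    choose iU hiU using hUcov
    by_cases hne : ∃ x₀ : X, sig U W h x₀ = e i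
    · obtain ⟨x₀, hx₀⟩ := hne
      rw [setOf_sig_eq U W h (e i) x₀ hx₀]
      refine exists_affine_immersion (W (fst U W h x₀)) (hWaff _) _
        (isClosed_setOf_sig_le U W h (e i)) (fun x => U (iU x)) (fun x => ⟨hiU x, hUaff _⟩) ?_
      intro x
      rw [← setOf_sig_eq U W h (e i) x₀ hx₀]
      by_cases hj : iU x ∈ typ U x₀
      · left
        intro y hy
        have hy' : sig U W h y = e i := hy
        have := typ_eq_of_sig_eq U W h y x₀ (hy'.trans hx₀.symm)
        exact (mem_typ U).mp (this ▸ hj)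
      · right
        rw [Set.disjoint_left]
        intro y hy hyU
        have hy' : sig U W h y = e i := hy
        have := typ_eq_of_sig_eq U W h y x₀ (hy'.trans hx₀.symm)
        exact hj (this ▸ (mem_typ U).mpr hyU)
    · have hempty : {x : X | sig U W h x = e i} = ((⊥ : X.Opens) : Set X) ∩ ∅ := by
        rw [Set.inter_empty]
        ext x
        simp only [Set.mem_ofPred_eq, Set.mem_empty_iff_false, iff_false]
        exact fun hx => hne ⟨x, hx⟩
      rw [hempty]
      refine exists_affine_immersion ⊥ (isAffineOpen_bot X) ∅ isClosed_empty (fun x => U (iU x))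
        (fun x => ⟨hiU x, hUaff _⟩) (fun x => Or.inl (by simp))

end Groth.Agent.Lib.H59AffStrat
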