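import Groth.Agent.Lib.ThickAffine
import Groth.Prelude.Def_MoreMor

/-!
# Affine stratifications: geometric part (helper59)

* `isAffineOpen_of_range_immersion`: if an immersion from an affine scheme has open range `O`, then `O`
  is an affine open.
* `isAffineHom_ι_of_range_immersion`: if moreover the immersion is an affine morphism, the inclusion of
  `O` is an affine morphism.
* `compactSpace_of_hasAffineStratification`, `quasiSeparatedSpace_of_hasAffineStratification`.
* `hasAffineStratification_of_isClosedImmersion`: a closed subscheme missing the top stratum has an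
  affine stratification with one index less.
-/

set_option autoImplicit false
set_option linter.style.haveILetI false
universe u
open CategoryTheory AlgebraicGeometry CategoryTheory.Limits

namespace Groth.Agent.Lib.H59AffStratCoh

/-- If an immersion from an affine scheme has open range `O`, then `O` is an affine open. -/
theorem isAffineOpen_of_range_immersion {Z Y : Scheme.{u}} (ι : Z ⟶ Y) [IsImmersion ι] [IsAffine Z]
    (O : Y.Opens) (h : Set.range ι = (O : Set Y)) : IsAffineOpen O := by
  have hle : Set.range ι ⊆ Set.range O.ι := by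
    rw [h, Scheme.Opens.range_ι]
  let g : Z ⟶ O.toScheme := IsOpenImmersion.lift O.ι ι hle
  have hg : g ≫ O.ι = ι := IsOpenImmersion.lift_fac _ _ _
  haveI : IsImmersion (g ≫ O.ι) := by rw [hg]; infer_instance
  haveI : IsImmersion g := IsImmersion.of_comp g O.ι
  have hsurj : Function.Surjective g := by
    intro y
    have hy : O.ι y ∈ Set.range ι := by
      rw [h]
      exact y.2
    obtain ⟨z, hz⟩ := hy
    refine ⟨z, ?_⟩
    apply O.ι.isOpenEmbedding.injective
    rw [← hz, ← hg]
    rfl
  haveI : IsClosedImmersion g := .of_isPreimmersion _ (by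
    rw [hsurj.range_eq]
    exact isClosed_univ)
  exact Groth.Agent.Lib.ThickAffine.isAffine_of_isClosedImmersion_of_surjective g hsurj

/-- If an affine immersion from an affine scheme has open range `O`, then the inclusion of `O` is an
affine morphism. -/
theorem isAffineHom_ι_of_range_immersion {Z Y : Scheme.{u}} (ι : Z ⟶ Y) [IsImmersion ι]
    [IsAffineHom ι] (O : Y.Opens) (h : Set.range ι = (O : Set Y)) : IsAffineHom O.ι := by
  refine ⟨fun V hV => ?_⟩
  have hpre : IsAffineOpen (ι ⁻¹ᵁ V) := hV.preimage ι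
  haveI : IsAffine (ι ⁻¹ᵁ V).toScheme := hpre
  have hOV : IsAffineOpen (O ⊓ V) := by
    refine isAffineOpen_of_range_immersion ((ι ⁻¹ᵁ V).ι ≫ ι) (O ⊓ V) ?_
    ext y
    simp only [Scheme.Hom.comp_base, TopCat.hom_comp, ContinuousMap.coe_comp, Set.mem_range,
      Function.comp_apply, TopologicalSpace.Opens.coe_inf, Set.mem_inter_iff, SetLike.mem_coe]
    constructor
    · rintro ⟨z, rfl⟩
      refine ⟨?_, z.2⟩
      have : ι ((ι ⁻¹ᵁ V).ι z) ∈ Set.range ι := ⟨_, rfl⟩
      rw [h] at this
      exact this
    · rintro ⟨hyO, hyV⟩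
      have : y ∈ Set.range ι := by rw [h]; exact hyO
      obtain ⟨z, rfl⟩ := this
      exact ⟨⟨z, hyV⟩, rfl⟩
  rw [← Scheme.Hom.isAffineOpen_iff_of_isOpenImmersion O.ι, Scheme.Hom.image_preimage_eq_opensRange_inf,
    Scheme.Opens.opensRange_ι]
  exact hOV

theorem compactSpace_of_hasAffineStratification {X : Scheme.{u}} {n : ℕ}
    (h : MoreMor.HasAffineStratification X n) : CompactSpace X := by
  obtain ⟨s, -, hstr⟩ := h
  choose Z ι hι using hstr
  refine ⟨?_⟩
  have huniv : (Set.univ : Set X) = ⋃ i, Set.range (ι i) := by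
    ext x
    simp only [Set.mem_univ, Set.mem_iUnion, true_iff]
    refine ⟨s x, ?_⟩
    rw [(hι (s x)).2.2.2]
    rfl
  rw [huniv]
  refine isCompact_iUnion fun i => ?_
  haveI : IsAffine (Z i) := (hι i).2.1
  exact isCompact_range (ι i).continuous

theorem quasiSeparatedSpace_of_hasAffineStratification {X : Scheme.{u}} {n : ℕ}
    (h : MoreMor.HasAffineStratification X n) : QuasiSeparatedSpace X := by
  obtain ⟨s, -, hstr⟩ := h
  choose Z ι hι using hstr
  rw [quasiSeparatedSpace_iff_forall_affineOpens]
  intro V W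
  have hVW : (V.1 ∩ W.1 : Set X) =
      ⋃ i, (ι i) '' ((ι i ⁻¹ᵁ V.1 : Set (Z i)) ∩ (ι i ⁻¹ᵁ W.1 : Set (Z i))) := by
    ext x
    simp only [Set.mem_inter_iff, SetLike.mem_coe, Set.mem_iUnion, Set.mem_image]
    constructor
    · rintro ⟨hxV, hxW⟩
      have hx : x ∈ Set.range (ι (s x)) := by
        rw [(hι (s x)).2.2.2]
        rfl
      obtain ⟨z, hz⟩ := hx
      refine ⟨_, z, ⟨?_, ?_⟩, hz⟩
      · change ι (s x) z ∈ V.1
        rw [hz]
        exact hxV
      · change ι (s x) z ∈ W.1
        rw [hz]
        exact hxW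
    · rintro ⟨i, z, ⟨hzV, hzW⟩, rfl⟩
      exact ⟨hzV, hzW⟩
  rw [hVW]
  refine isCompact_iUnion fun i => ?_
  haveI : IsAffine (Z i) := (hι i).2.1
  haveI : IsAffineHom (ι i) := (hι i).2.2.1
  refine IsCompact.image ?_ (ι i).continuous
  exact QuasiSeparatedSpace.inter_isCompact _ _ (ι i ⁻¹ᵁ V.1).2 (V.2.preimage (ι i)).isCompact
    (ι i ⁻¹ᵁ W.1).2 (W.2.preimage (ι i)).isCompact

/-- A closed subscheme missing the top stratum of an affine stratification with index set
`{0, …, n+1}` has an affine stratification with index set `{0, …, n}`. -/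
theorem hasAffineStratification_of_isClosedImmersion {X Z' : Scheme.{u}} (i : Z' ⟶ X)
    [IsClosedImmersion i] {n : ℕ} (s : X → Fin (n + 2))
    (hs : ∀ k : Fin (n + 2), IsClosed {x : X | s x ≤ k})
    (hstr : ∀ k : Fin (n + 2), ∃ (Z : Scheme.{u}) (ι : Z ⟶ X),
      IsImmersion ι ∧ IsAffine Z ∧ IsAffineHom ι ∧ Set.range ι = {x : X | s x = k})
    (hdisj : ∀ z : Z', s (i z) ≠ Fin.last (n + 1)) :
    MoreMor.HasAffineStratification Z' n := by
  refine ⟨fun z => (s (i z)).castPred (hdisj z), fun k => ?_, fun k => ?_⟩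
  · have : {z : Z' | (s (i z)).castPred (hdisj z) ≤ k} = i ⁻¹' {x : X | s x ≤ k.castSucc} := by
      ext z
      simp only [Set.mem_setOf_eq, Set.mem_preimage, Fin.le_def, Fin.coe_castPred, Fin.val_castSucc]
    rw [this]
    exact (hs k.castSucc).preimage i.continuous
  · obtain ⟨Z, ι, himm, haff, haffhom, hrange⟩ := hstr k.castSucc
    haveI := himm
    haveI := haff
    haveI := haffhom
    refine ⟨pullback ι i, pullback.snd ι i, inferInstance, ?_,
      MorphismProperty.pullback_snd (P := @IsAffineHom) ι i haffhom, ?_⟩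
    · haveI : IsAffineHom (pullback.fst ι i) :=
        MorphismProperty.pullback_fst (P := @IsAffineHom) ι i inferInstance
      exact isAffine_of_isAffineHom (pullback.fst ι i)
    · rw [Scheme.Pullback.range_snd, hrange]
      ext z
      simp only [Set.mem_setOf_eq, Set.mem_preimage, Fin.ext_iff, Fin.coe_castPred, Fin.val_castSucc]

end Groth.Agent.Lib.H59AffStratCoh
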