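import Groth.Agent.Lib.AffVanCover

/-!
# Uniform vanishing bounds on the preimages of affine opens

For a quasi-compact quasi-separated morphism `f : X ⟶ S` and an affine open `T ⊆ S`, there is `d` such
that `H'^n(f⁻¹V, F) = 0` for all `n ≥ d`, all quasi-coherent `F` and all affine opens `V ⊆ T`
(`exists_uniform_bound_preimage`).
-/

set_option autoImplicit false
universe u
open CategoryTheory CategoryTheory.Limits AlgebraicGeometry TopologicalSpace Opposite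

namespace Groth.Agent.Lib.AffVan

open Groth.Agent.Lib.AffVanSections Groth.Agent.Lib.AffVanTop

variable {X S : Scheme.{u}} (f : X ⟶ S)

/-- An affine open mapping into an affine open `T` meets the preimage of an affine open of `T` in an
affine open. -/
lemma isAffineOpen_inf_preimage {U : X.Opens} (hU : IsAffineOpen U) {T : S.Opens}
    (hT : IsAffineOpen T) (hUT : U ≤ f ⁻¹ᵁ T) {V : S.Opens} (hV : IsAffineOpen V) (hVT : V ≤ T) :
    IsAffineOpen (U ⊓ f ⁻¹ᵁ V) := by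
  have : IsAffine U.toScheme := hU
  have : IsAffine T.toScheme := hT
  have hV' : IsAffineOpen (T.ι ⁻¹ᵁ V) :=
    hV.preimage_of_isOpenImmersion T.ι (by rw [Scheme.Opens.opensRange_ι]; exact hVT)
  have h1 : IsAffineOpen ((f.resLE T U hUT) ⁻¹ᵁ (T.ι ⁻¹ᵁ V)) := hV'.preimage _
  have h2 := h1.image_of_isOpenImmersion U.ι
  have : U.ι ''ᵁ ((f.resLE T U hUT) ⁻¹ᵁ (T.ι ⁻¹ᵁ V)) = U ⊓ f ⁻¹ᵁ V := by
    rw [Scheme.Hom.resLE_preimage, Scheme.Hom.image_preimage_eq_opensRange_inf,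
      Scheme.Opens.opensRange_ι, Scheme.Hom.image_preimage_eq_opensRange_inf,
      Scheme.Opens.opensRange_ι, inf_eq_right.2 hVT]
  rwa [this] at h2

/-- uniform vanishing bound for the opens `W ⊓ f⁻¹V`, `V` affine inside `T` -/
def HasUniformBound (T : S.Opens) (W : X.Opens) : Prop :=
  ∃ d : ℕ, ∀ V : S.Opens, IsAffineOpen V → V ≤ T → ∀ (F : X.Modules), Coh.IsQCoh F →
    ∀ n : ℕ, d ≤ n → ∀ α : CohTop.HU (Coh.toAb F) n (W ⊓ f ⁻¹ᵁ V), α = 0

variable {f}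

lemma hasUniformBound_bot (T : S.Opens) : HasUniformBound f T ⊥ :=
  ⟨0, fun _ _ _ F _ n _ α => HU_eq_zero_of_eq_bot (Coh.toAb F) n (bot_inf_eq _) α⟩

lemma hasUniformBound_of_isAffineOpen {T : S.Opens} (hT : IsAffineOpen T) {U : X.Opens}
    (hU : IsAffineOpen U) (hUT : U ≤ f ⁻¹ᵁ T) : HasUniformBound f T U :=
  ⟨1, fun V hV hVT F hF n hn α => by
    obtain ⟨m, rfl⟩ := Nat.exists_eq_succ_of_ne_zero (by omega : n ≠ 0)
    exact HU_eq_zero_of_isAffineOpen F hF m (isAffineOpen_inf_preimage f hU hT hUT hV hVT) α⟩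

lemma HasUniformBound.sup {T : S.Opens} {W₁ W₂ : X.Opens} (h1 : HasUniformBound f T W₁)
    (h2 : HasUniformBound f T W₂) (h12 : HasUniformBound f T (W₁ ⊓ W₂)) :
    HasUniformBound f T (W₁ ⊔ W₂) := by
  obtain ⟨d1, hd1⟩ := h1
  obtain ⟨d2, hd2⟩ := h2
  obtain ⟨d12, hd12⟩ := h12
  refine ⟨max (max d1 d2) (d12 + 1), fun V hV hVT F hF n hn α => ?_⟩
  obtain ⟨m, rfl⟩ := Nat.exists_eq_succ_of_ne_zero (by omega : n ≠ 0)
  refine HU_eq_zero_of_eq (Coh.toAb F) (m + 1) (inf_sup_right W₁ W₂ (f ⁻¹ᵁ V)) ?_ α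
  apply HU_sup_eq_zero (Coh.toAb F) m (hd1 V hV hVT F hF _ (by omega))
    (hd2 V hV hVT F hF _ (by omega))
  exact HU_eq_zero_of_eq (Coh.toAb F) m (inf_inf_distrib_right W₁ W₂ (f ⁻¹ᵁ V)).symm
    (hd12 V hV hVT F hF _ (by omega))

lemma hasUniformBound_of_le_affine {T : S.Opens} (hT : IsAffineOpen T) {U : X.Opens}
    (hU : IsAffineOpen U) (hUT : U ≤ f ⁻¹ᵁ T) {W : X.Opens} (hWU : W ≤ U)
    (hW : IsCompact (W : Set X)) : HasUniformBound f T W := by
  obtain ⟨s, rfl⟩ := exists_finset_basicOpen_eq hU hWU hW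
  refine ⟨s.card, fun V hV hVT F hF n hn α => ?_⟩
  refine HU_eq_zero_of_eq (Coh.toAb F) n
    (Finset.sup_inf_distrib_right s (fun g => X.basicOpen g) (f ⁻¹ᵁ V)) ?_ α
  refine HU_finsetSup_eq_zero F hF
    (fun W => ∃ g : Γ(X, U), W = X.basicOpen g ⊓ f ⁻¹ᵁ V) ?_ ?_ s _ ?_ n hn
  · rintro _ ⟨g, rfl⟩
    exact isAffineOpen_inf_preimage f (hU.basicOpen g) hT ((X.basicOpen_le g).trans hUT) hV hVT
  · rintro _ _ ⟨g, rfl⟩ ⟨g', rfl⟩
    refine ⟨g * g', ?_⟩
    rw [X.basicOpen_mul]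
    exact (inf_inf_distrib_right _ _ _).symm
  · intro g _
    exact ⟨g, rfl⟩

/-- Every quasi-compact open of the preimage of an affine open has a uniform bound. -/
theorem hasUniformBound_of_isCompact [QuasiSeparated f] {T : S.Opens} (hT : IsAffineOpen T)
    (W : X.Opens) (hW : IsCompact (W : Set X)) (hWT : W ≤ f ⁻¹ᵁ T) : HasUniformBound f T W := by
  have hqs : IsQuasiSeparated (f ⁻¹ᵁ T : Set X) := f.isQuasiSeparated_preimage hT.isQuasiSeparated
  refine compact_open_induction_on (P := fun W => W ≤ f ⁻¹ᵁ T → HasUniformBound f T W) W hW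
    (fun _ => hasUniformBound_bot T) ?_ hWT
  intro W' hW' U hWb hsup
  have hW'T : W' ≤ f ⁻¹ᵁ T := le_sup_left.trans hsup
  have hUT : U.1 ≤ f ⁻¹ᵁ T := le_sup_right.trans hsup
  refine (hWb hW'T).sup (hasUniformBound_of_isAffineOpen hT U.2 hUT) ?_
  exact hasUniformBound_of_le_affine hT U.2 hUT inf_le_right
    (hqs W' U.1 hW'T W'.2 hW' hUT U.1.2 U.2.isCompact)

/-- **Uniform bound on preimages**: for `f` quasi-compact and quasi-separated and `T ⊆ S` affine,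
there is `d` with `H'^n(f⁻¹V, F) = 0` for `n ≥ d`, `F` quasi-coherent, `V ⊆ T` affine. -/
theorem exists_uniform_bound_preimage [QuasiCompact f] [QuasiSeparated f] {T : S.Opens}
    (hT : IsAffineOpen T) :
    ∃ d : ℕ, ∀ V : S.Opens, IsAffineOpen V → V ≤ T → ∀ (F : X.Modules), Coh.IsQCoh F →
      ∀ n : ℕ, d ≤ n → ∀ α : CohTop.HU (Coh.toAb F) n (f ⁻¹ᵁ V), α = 0 := by
  obtain ⟨d, hd⟩ := hasUniformBound_of_isCompact (f := f) hT (f ⁻¹ᵁ T)
    (f.isCompact_preimage hT.isCompact) le_rfl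
  refine ⟨d, fun V hV hVT F hF n hn α => ?_⟩
  exact HU_eq_zero_of_eq (Coh.toAb F) n
    (inf_eq_right.2 (f.preimage_mono hVT)).symm (hd V hV hVT F hF n hn) α

end Groth.Agent.Lib.AffVan
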