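import Groth.Agent.Lib.CohSigmaNeg
import Groth.Agent.Lib.CohLESExact
import Groth.Agent.Lib.H90AnnIdeal
import Groth.Agent.Lib.ClosedImmCoh23
import Groth.Agent.Lib.H90OXModExact
import Groth.Agent.Lib.QCohBiprod
import Groth.Agent.Lib.RestrictExact
import Groth.Agent.Lib.QcqsVanishingBound
import Groth.Agent.Lib.CohFinite
import Groth.Agent.Lib.ModStalk
import Groth.Agent.Lib.H72PullbackQCoh

/-!
# Dévissage for quasi-coherent modules supported off an open (helper59)

On a qcqs scheme `X` with an open `U`: if quasi-coherent modules on closed subschemes of `X` missing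
`U` have no cohomology above degree `m`, then the same holds for every quasi-coherent module on `X`
whose restriction to `U` vanishes.
-/

set_option autoImplicit false
set_option linter.style.haveILetI false
universe u
open CategoryTheory AlgebraicGeometry CategoryTheory.Limits Opposite TopologicalSpace

namespace Groth.Agent.Lib.H59AffStratCoh

variable {X : Scheme.{u}}

/-- A quasi-coherent module on a qcqs scheme is a quotient of a coproduct of finite type quasi-coherent
submodules (with the inclusions recorded as monomorphisms). -/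
theorem epi_sigma_subsheaves_mono [CompactSpace X] [QuasiSeparatedSpace X] (M : X.Modules)
    [M.IsQuasicoherent] :
    ∃ (J : Type u) (G : J → X.Modules) (i : ∀ j, G j ⟶ M),
      (∀ j, Mono (i j)) ∧ (∀ j, Coh.IsCoh (G j)) ∧ Epi (Sigma.desc i) := by
  classical
  let J : Type u := Σ U : X.affineOpens, Γ(M, U.1)
  have hsub : ∀ a : J, ∃ (G' : X.Modules) (i' : G' ⟶ M),
      Mono i' ∧ G'.IsQuasicoherent ∧ CohB1.IsFT G' ∧ ∃ g : Γ(G', a.1.1), i'.app a.1.1 g = a.2 := by
    intro a
    refine Groth.Agent.Lib.H90QCohSection.exists_subsheaf_through_section M a.1.2 a.2 ?_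
    intro G i _ _ hG
    exact Groth.Agent.S10848.result a.1.1 a.1.2.isCompact M G hG i
  choose G iG hmono hGq hGft g hg using hsub
  refine ⟨J, G, iG, hmono, fun a => ⟨hGq a, hGft a⟩, ?_⟩
  refine Groth.Agent.Lib.IdealMod.epi_of_locally_surjective _ ?_
  intro U s x hx
  obtain ⟨V, hV, hxV, hVU⟩ := Opens.isBasis_iff_nbhd.1 X.isBasis_affineOpens hx
  let a : J := ⟨⟨V, hV⟩, M.val.map (homOfLE hVU).op s⟩
  refine ⟨V, hVU, hxV, (Sigma.ι G a).val.app (op V) (g a), ?_⟩
  have h1 : Sigma.ι G a ≫ Sigma.desc iG = iG a := Sigma.ι_desc _ _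
  have h2 := congrArg (fun φ : G a ⟶ M => φ.val.app (op V) (g a)) h1
  exact h2.trans (hg a)

/-- Finite cohomological dimension of a qcqs scheme for quasi-coherent modules. -/
theorem exists_vanishing_bound_of_qcqs [CompactSpace X] [QuasiSeparatedSpace X] :
    ∃ d : ℕ, ∀ F : X.Modules, Coh.IsQCoh F → ∀ p : ℕ, d ≤ p → Subsingleton (Coh.HH X F p) := by
  haveI : QuasiCompact (terminal.from X) :=
    (compactSpace_iff_quasiCompact X).mp inferInstance
  haveI : QuasiSeparated (terminal.from X) :=
    (quasiSeparatedSpace_iff_quasiSeparated X).mp inferInstance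
  obtain ⟨d, hd⟩ := Groth.Agent.Lib.AffVan.exists_uniform_bound_preimage (f := terminal.from X)
    (isAffineOpen_top (⊤_ Scheme.{u}))
  refine ⟨d, fun F hF p hp => ?_⟩
  exact Groth.Agent.Lib.AffVanTop.subsingleton_H_of_HU_top (Coh.toAb F) p
    (hd ⊤ (isAffineOpen_top _) le_rfl F hF p hp)

/-- The hypothesis of the dévissage: quasi-coherent modules on closed subschemes of `X` missing `U`
have no cohomology above degree `m`. -/
def ClosedVanishing (U : X.Opens) (m : ℕ) : Prop :=
  ∀ (Z' : Scheme.{u}) (i : Z' ⟶ X) [IsClosedImmersion i], (∀ z : Z', i z ∉ U) →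
    ∀ N : Z'.Modules, Coh.IsQCoh N → ∀ p : ℕ, m < p → Subsingleton (Coh.HH Z' N p)

/-- Step 1 of the dévissage: finite type quasi-coherent modules vanishing on `U`. -/
theorem subsingleton_HH_of_isCoh_of_isZero_restrict (U : X.Opens) (m : ℕ)
    (hZ : ClosedVanishing U m) (G : X.Modules) (hG : Coh.IsCoh G)
    (hGU : IsZero ((Scheme.Modules.restrictFunctor U.ι).obj G)) (p : ℕ) (hp : m < p) :
    Subsingleton (Coh.HH X G p) := by
  haveI : G.IsQuasicoherent := hG.1
  have hft : ∀ V : X.affineOpens, Module.Finite Γ(X, V.1) Γ(G, V.1) :=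
    fun V => Groth.Agent.Lib.CohFinite.finite_sections_of_isCoh G hG V.2
  let J := Groth.Agent.Lib.H90AnnIdeal.annIdeal G hft
  have hdisj : ∀ z : J.subscheme, J.subschemeι z ∉ U := by
    intro z hz
    have h1 : J.subschemeι z ∈ Set.range J.subschemeι := ⟨z, rfl⟩
    rw [Scheme.IdealSheafData.range_subschemeι, Groth.Agent.Lib.H90AnnIdeal.support_annIdeal] at h1
    exact h1 (Groth.Agent.Lib.ModStalk.subsingleton_stalk_of_isZero_restrict G U hGU _ hz)
  haveI := Groth.Agent.Lib.H90AnnIdeal.isIso_unit_annIdeal G hft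
  let e : G ≅ (Scheme.Modules.pushforward J.subschemeι).obj
      ((Scheme.Modules.pullback J.subschemeι).obj G) :=
    asIso ((Scheme.Modules.pullbackPushforwardAdjunction J.subschemeι).unit.app G)
  haveI : Subsingleton (Coh.HH J.subscheme ((Scheme.Modules.pullback J.subschemeι).obj G) p) :=
    hZ J.subscheme J.subschemeι hdisj _ inferInstance p hp
  haveI : Subsingleton (Coh.HH X ((Scheme.Modules.pushforward J.subschemeι).obj
      ((Scheme.Modules.pullback J.subschemeι).obj G)) p) :=
    (Groth.Agent.Lib.ClosedImmCoh23.cmpEquiv J.subschemeι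
      ((Scheme.Modules.pullback J.subschemeι).obj G) p).symm.subsingleton
  exact Groth.Agent.Lib.CohLES.subsingleton_of_iso e p

theorem isZero_restrict_of_mono (U : X.Opens) {G' G : X.Modules} (i : G' ⟶ G) [Mono i]
    (h : IsZero ((Scheme.Modules.restrictFunctor U.ι).obj G)) :
    IsZero ((Scheme.Modules.restrictFunctor U.ι).obj G') :=
  IsZero.of_mono ((Scheme.Modules.restrictFunctor U.ι).map i) h

theorem isZero_restrict_of_epi (U : X.Opens) {G G' : X.Modules} (i : G ⟶ G') [Epi i]
    (h : IsZero ((Scheme.Modules.restrictFunctor U.ι).obj G)) :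
    IsZero ((Scheme.Modules.restrictFunctor U.ι).obj G') :=
  IsZero.of_epi ((Scheme.Modules.restrictFunctor U.ι).map i) h

theorem isZero_restrict_sigma (U : X.Opens) {J : Type u} (G : J → X.Modules)
    (h : ∀ j, IsZero ((Scheme.Modules.restrictFunctor U.ι).obj (G j))) :
    IsZero ((Scheme.Modules.restrictFunctor U.ι).obj (∐ G)) := by
  have e : (Scheme.Modules.restrictFunctor U.ι).obj (∐ G) ≅
      ∐ fun j => (Scheme.Modules.restrictFunctor U.ι).obj (G j) :=
    PreservesCoproduct.iso (Scheme.Modules.restrictFunctor U.ι) G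
  refine IsZero.of_iso ?_ e
  rw [IsZero.iff_id_eq_zero]
  refine Sigma.hom_ext _ _ fun j => ?_
  exact (h j).eq_of_src _ _

/-- Step 2 of the dévissage: all quasi-coherent modules vanishing on `U`. -/
theorem subsingleton_HH_of_isZero_restrict [CompactSpace X] [QuasiSeparatedSpace X] (U : X.Opens)
    (m : ℕ) (hZ : ClosedVanishing U m) (G : X.Modules) (hG : Coh.IsQCoh G)
    (hGU : IsZero ((Scheme.Modules.restrictFunctor U.ι).obj G)) (p : ℕ) (hp : m < p) :
    Subsingleton (Coh.HH X G p) := by
  obtain ⟨d, hd⟩ := exists_vanishing_bound_of_qcqs (X := X)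
  suffices H : ∀ k : ℕ, ∀ G : X.Modules, Coh.IsQCoh G →
      IsZero ((Scheme.Modules.restrictFunctor U.ι).obj G) → ∀ p : ℕ, m < p → d ≤ p + k →
        Subsingleton (Coh.HH X G p) from H d G hG hGU p hp (by omega)
  intro k
  induction k with
  | zero =>
    intro G hG _ p _ hpk
    exact hd G hG p (by omega)
  | succ k ih =>
    intro G hG hGU p hp hpk
    haveI : G.IsQuasicoherent := hG
    obtain ⟨J, P, i, hmono, hcoh, hepi⟩ := epi_sigma_subsheaves_mono G
    haveI : ∀ j, (P j).IsQuasicoherent := fun j => (hcoh j).1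
    haveI hsigq : (∐ P).IsQuasicoherent :=
      Groth.Agent.Lib.QCohBiprod.isQuasicoherent_sigmaObj P inferInstance
    have hKq : (kernel (Sigma.desc i)).IsQuasicoherent :=
      Groth.Agent.Lib.H90OXModExact.isQuasicoherent_kernel (Sigma.desc i)
    have hPU : ∀ j, IsZero ((Scheme.Modules.restrictFunctor U.ι).obj (P j)) := fun j =>
      haveI := hmono j
      isZero_restrict_of_mono U (i j) hGU
    have hsigU : IsZero ((Scheme.Modules.restrictFunctor U.ι).obj (∐ P)) :=
      isZero_restrict_sigma U P hPU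
    have hKU : IsZero ((Scheme.Modules.restrictFunctor U.ι).obj (kernel (Sigma.desc i))) :=
      isZero_restrict_of_mono U (kernel.ι (Sigma.desc i)) hsigU
    let S : ShortComplex X.Modules :=
      ShortComplex.mk (kernel.ι (Sigma.desc i)) (Sigma.desc i) (kernel.condition _)
    have hS : S.ShortExact :=
      { exact := ShortComplex.exact_kernel (Sigma.desc i)
        mono_f := inferInstanceAs (Mono (kernel.ι (Sigma.desc i)))
        epi_g := hepi }
    haveI : Subsingleton (Coh.HH X S.X₂ p) :=
      Groth.Agent.Lib.CohSigmaNeg.subsingleton_HH_sigma_family P p fun j =>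
        subsingleton_HH_of_isCoh_of_isZero_restrict U m hZ (P j) (hcoh j) (hPU j) p hp
    haveI : Subsingleton (Coh.HH X S.X₁ (p + 1)) :=
      ih (kernel (Sigma.desc i)) hKq hKU (p + 1) (by omega) (by omega)
    exact Groth.Agent.Lib.CohLES.subsingleton_right hS p

end Groth.Agent.Lib.H59AffStratCoh
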