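import Groth.Agent.Lib.H59AffStratCoh
import Groth.Agent.Lib.H59AffStratCoh2
import Groth.Agent.Lib.AffMorCoh
import Groth.Agent.Lib.AffVan
import Groth.Agent.Lib.H90OXModPush

/-!
# Cohomology vanishes above the affine stratification number (helper59)
-/

set_option autoImplicit false
set_option linter.style.haveILetI false
universe u
open CategoryTheory AlgebraicGeometry CategoryTheory.Limits Opposite TopologicalSpace

namespace Groth.Agent.Lib.H59AffStratCoh

variable {X : Scheme.{u}}

/-- Pushforward of a quasi-coherent module along an affine morphism from an affine scheme has no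
higher cohomology. -/
theorem subsingleton_HH_pushforward_of_isAffine {Y : Scheme.{u}} (j : Y ⟶ X) [IsAffineHom j]
    [IsAffine Y] (M : Y.Modules) (hM : Coh.IsQCoh M) (p : ℕ) :
    Subsingleton (Coh.HH X ((Scheme.Modules.pushforward j).obj M) (p + 1)) := by
  obtain ⟨e⟩ := Groth.Agent.Lib.AffMorAcyclic.nonempty_H_addEquiv j (p + 1) (Coh.toAb M)
    (Groth.Agent.Lib.AffMorAcyclic.isAcyclicOver_toAb M hM)
  have h0 : Subsingleton (Coh.HH Y M (p + 1)) :=
    Groth.Agent.Lib.AffVan.subsingleton_HH_of_isAffine M hM p
  exact @Equiv.subsingleton _ _ e.symm.toEquiv h0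

/-- The inductive step: removing an affine open whose inclusion is affine raises the vanishing
bound by at most one. -/
theorem subsingleton_HH_of_affine_open [CompactSpace X] [QuasiSeparatedSpace X] (U : X.Opens)
    (hU : IsAffineOpen U) (hj : IsAffineHom U.ι) (m : ℕ) (hZ : ClosedVanishing U m)
    (F : X.Modules) (hF : Coh.IsQCoh F) (p : ℕ) (hp : m + 1 < p) :
    Subsingleton (Coh.HH X F p) := by
  haveI : IsAffine U.toScheme := hU
  haveI : F.IsQuasicoherent := hF
  let r := Scheme.Modules.restrictFunctor U.ι
  let adj := Scheme.Modules.restrictAdjunction U.ι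
  let η : F ⟶ (Scheme.Modules.pushforward U.ι).obj (r.obj F) := adj.unit.app F
  haveI hrF : (r.obj F).IsQuasicoherent := Scheme.Modules.isQuasicoherent_restrictFunctor _ _
  haveI hJ : ((Scheme.Modules.pushforward U.ι).obj (r.obj F)).IsQuasicoherent :=
    Groth.Agent.Lib.H90OXModPush.isQuasicoherent_pushforward U.ι (r.obj F)
  -- `r η` is an isomorphism
  haveI hiso : IsIso (r.map η) := by
    have h1 : r.map η ≫ adj.counit.app (r.obj F) = 𝟙 _ := adj.left_triangle_components F
    haveI : IsIso (r.map η ≫ adj.counit.app (r.obj F)) := by rw [h1]; infer_instance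
    exact IsIso.of_isIso_comp_right (r.map η) (adj.counit.app (r.obj F))
  have hKU : IsZero (r.obj (kernel η)) :=
    IsZero.of_iso (isZero_kernel_of_mono (r.map η)) (PreservesKernel.iso r η)
  have hQU : IsZero (r.obj (cokernel η)) :=
    IsZero.of_iso (isZero_cokernel_of_epi (r.map η)) (PreservesCokernel.iso r η)
  have hKq : (kernel η).IsQuasicoherent := Groth.Agent.Lib.H90OXModExact.isQuasicoherent_kernel η
  have hQq : (cokernel η).IsQuasicoherent :=
    Groth.Agent.Lib.H90OXModExact.isQuasicoherent_cokernel η
  obtain ⟨n, rfl⟩ : ∃ n, p = n + 1 := ⟨p - 1, by omega⟩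
  -- the image
  let S₂ : ShortComplex X.Modules :=
    ShortComplex.mk (kernel.ι (cokernel.π η)) (cokernel.π η) (kernel.condition _)
  have hS₂ : S₂.ShortExact :=
    { exact := ShortComplex.exact_kernel (cokernel.π η)
      mono_f := inferInstanceAs (Mono (kernel.ι (cokernel.π η)))
      epi_g := inferInstanceAs (Epi (cokernel.π η)) }
  haveI : Subsingleton (Coh.HH X S₂.X₂ (n + 1)) :=
    subsingleton_HH_pushforward_of_isAffine U.ι (r.obj F) hrF n
  haveI : Subsingleton (Coh.HH X S₂.X₃ n) :=
    subsingleton_HH_of_isZero_restrict U m hZ (cokernel η) hQq hQU n (by omega)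
  haveI himg : Subsingleton (Coh.HH X (Abelian.image η) (n + 1)) :=
    Groth.Agent.Lib.CohLES.subsingleton_left hS₂ n
  haveI hcoimg : Subsingleton (Coh.HH X (Abelian.coimage η) (n + 1)) :=
    Groth.Agent.Lib.CohLES.subsingleton_of_iso (Abelian.coimageIsoImage η) (n + 1)
  let S₁ : ShortComplex X.Modules :=
    ShortComplex.mk (kernel.ι η) (cokernel.π (kernel.ι η)) (cokernel.condition _)
  have hS₁ : S₁.ShortExact :=
    { exact := ShortComplex.exact_cokernel (kernel.ι η)
      mono_f := inferInstanceAs (Mono (kernel.ι η))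
      epi_g := inferInstanceAs (Epi (cokernel.π (kernel.ι η))) }
  haveI : Subsingleton (Coh.HH X S₁.X₁ (n + 1)) :=
    subsingleton_HH_of_isZero_restrict U m hZ (kernel η) hKq hKU (n + 1) (by omega)
  haveI : Subsingleton (Coh.HH X S₁.X₃ (n + 1)) := hcoimg
  exact Groth.Agent.Lib.CohLES.subsingleton_mid hS₁ (n + 1)

/-- **Cohomology vanishes above the affine stratification number.** -/
theorem subsingleton_HH_of_hasAffineStratification : ∀ (n : ℕ) (X : Scheme.{u}),
    MoreMor.HasAffineStratification X n → ∀ F : X.Modules, Coh.IsQCoh F → ∀ p : ℕ, n < p →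
      Subsingleton (Coh.HH X F p) := by
  intro n
  induction n with
  | zero =>
    intro X hX F hF p hp
    obtain ⟨s, -, hstr⟩ := hX
    obtain ⟨Z, ι, himm, haff, -, hrange⟩ := hstr 0
    haveI := himm
    haveI := haff
    have htop : IsAffineOpen (⊤ : X.Opens) := by
      refine isAffineOpen_of_range_immersion ι ⊤ ?_
      rw [hrange]
      ext x
      simp only [Set.mem_setOf_eq, Opens.coe_top, Set.mem_univ, iff_true]
      exact Fin.ext (by have := (s x).2; simp at this ⊢)
    haveI : IsAffine (⊤ : X.Opens).toScheme := htop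
    haveI : IsAffine X := .of_isIso X.topIso.inv
    obtain ⟨q, rfl⟩ : ∃ q, p = q + 1 := ⟨p - 1, by omega⟩
    exact Groth.Agent.Lib.AffVan.subsingleton_HH_of_isAffine F hF q
  | succ n ih =>
    intro X hX F hF p hp
    haveI := compactSpace_of_hasAffineStratification hX
    haveI := quasiSeparatedSpace_of_hasAffineStratification hX
    obtain ⟨s, hs, hstr⟩ := hX
    let U : X.Opens := ⟨{x : X | s x ≤ Fin.castSucc (Fin.last n)}ᶜ, (hs _).isOpen_compl⟩
    have hmemU : ∀ x : X, x ∈ U ↔ s x = Fin.last (n + 1) := by
      intro x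
      change ¬ (s x ≤ Fin.castSucc (Fin.last n)) ↔ _
      rw [Fin.le_def, Fin.ext_iff]
      simp only [Fin.val_castSucc, Fin.val_last]
      have := (s x).2
      omega
    obtain ⟨Z, ι, himm, haff, haffhom, hrange⟩ := hstr (Fin.last (n + 1))
    haveI := himm
    haveI := haff
    haveI := haffhom
    have hrU : Set.range ι = (U : Set X) := by
      rw [hrange]
      ext x
      exact (hmemU x).symm
    have hU : IsAffineOpen U := isAffineOpen_of_range_immersion ι U hrU
    have hj : IsAffineHom U.ι := isAffineHom_ι_of_range_immersion ι U hrU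
    have hZ : ClosedVanishing U n := by
      intro Z' i _ hdisj N hN q hq
      refine ih Z' (hasAffineStratification_of_isClosedImmersion i s hs hstr fun z hz => ?_) N hN q hq
      exact hdisj z ((hmemU _).mpr hz)
    exact subsingleton_HH_of_affine_open U hU hj n hZ F hF p hp

end Groth.Agent.Lib.H59AffStratCoh
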