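import Mathlib
import Groth.Prelude.Def_MoreMor

/-!
# Noetherian schemes of dimension `d` have affine stratification number at most `d` (helper59)
-/

set_option autoImplicit false
set_option linter.style.haveILetI false
universe u
open CategoryTheory AlgebraicGeometry CategoryTheory.Limits TopologicalSpace

namespace Groth.Agent.Lib.H59AffStratDim

section Topology

variable {X : Type*} [TopologicalSpace X]

/-- The complement of the union of the other irreducible components. -/
def compOpen (hfin : (irreducibleComponents X).Finite) (C : Set X) : Opens X :=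
  ⟨(⋃₀ (irreducibleComponents X \ {C}))ᶜ, by
    rw [Set.sUnion_eq_biUnion]
    exact ((hfin.subset Set.diff_subset).isClosed_biUnion fun t ht =>
      isClosed_of_mem_irreducibleComponents t ht.1).isOpen_compl⟩

theorem compOpen_subset (hfin : (irreducibleComponents X).Finite) (C : Set X) :
    (compOpen hfin C : Set X) ⊆ C := by
  intro x hx
  have hx' : x ∈ ⋃₀ irreducibleComponents X := by
    rw [sUnion_irreducibleComponents]; trivial
  obtain ⟨C', hC', hxC'⟩ := hx'
  by_cases h : C' = C
  · exact h ▸ hxC'
  · exact absurd (Set.mem_sUnion.mpr ⟨C', ⟨hC', h⟩, hxC'⟩ :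
      x ∈ ⋃₀ (irreducibleComponents X \ {C})) hx

theorem disjoint_compOpen (hfin : (irreducibleComponents X).Finite) {C C' : Set X}
    (hC : C ∈ irreducibleComponents X) (hne : C ≠ C') :
    Disjoint (compOpen hfin C) (compOpen hfin C') := by
  rw [← Opens.coe_disjoint, Set.disjoint_left]
  intro x hx hx'
  exact hx' (Set.mem_sUnion.mpr ⟨C, ⟨hC, hne⟩, compOpen_subset hfin C hx⟩)

theorem mem_compOpen_of_closure_eq (hfin : (irreducibleComponents X).Finite) {C : Set X}
    (hC : C ∈ irreducibleComponents X) {η : X} (hη : closure {η} = C) : η ∈ compOpen hfin C := by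
  rintro ⟨C', ⟨hC', hne⟩, hηC'⟩
  have h1 : C ⊆ C' := by
    rw [← hη]
    exact (isClosed_of_mem_irreducibleComponents C' hC').closure_subset_iff.mpr
      (Set.singleton_subset_iff.mpr hηC')
  exact hne (Set.Subset.antisymm (hC.2 hC'.1 h1) h1)

theorem disjoint_compOpen_of_notMem (hfin : (irreducibleComponents X).Finite) {C : Set X}
    {η : X} (hη : closure {η} = C) (V : Opens X) (hV : η ∉ V) :
    Disjoint (compOpen hfin C) V := by
  rw [← Opens.coe_disjoint, Set.disjoint_left]
  intro x hx hxV
  have hxC : x ∈ closure ({η} : Set X) := hη ▸ compOpen_subset hfin C hx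
  obtain ⟨y, hyV, hy⟩ := mem_closure_iff.mp hxC V V.2 hxV
  rw [Set.mem_singleton_iff.mp hy] at hyV
  exact hV hyV

/-- A closed subspace containing no generic point of an irreducible component has smaller dimension. -/
theorem topologicalKrullDim_lt_of_isClosedEmbedding {Z : Type*} [TopologicalSpace Z] {f : Z → X}
    (hf : Topology.IsClosedEmbedding f)
    (h : ∀ C ∈ irreducibleComponents X, ∃ x ∈ C, x ∉ Set.range f) (n : ℕ)
    (hX : topologicalKrullDim X < ((n + 1 : ℕ) : WithBot ℕ∞)) :
    topologicalKrullDim Z < ((n : ℕ) : WithBot ℕ∞) := by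
  unfold topologicalKrullDim at hX ⊢
  rw [Order.krullDim_lt_coe_iff] at hX ⊢
  intro l
  let l' : LTSeries (IrreducibleCloseds X) :=
    l.map (IrreducibleCloseds.map f hf.continuous)
      (IrreducibleCloseds.map_strictMono_of_isInducing hf.isInducing)
  have hlast : (l'.last : Set X) ⊆ Set.range f := by
    change closure (f '' (l.last : Set Z)) ⊆ Set.range f
    exact (hf.isClosed_range.closure_subset_iff).mpr (Set.image_subset_range _ _)
  obtain ⟨C, hCirr, hsub, hmax⟩ := exists_preirreducible (l'.last : Set X)
    l'.last.isIrreducible.isPreirreducible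
  have hCne : C.Nonempty := l'.last.isIrreducible.nonempty.mono hsub
  have hCmem : C ∈ irreducibleComponents X :=
    ⟨⟨hCne, hCirr⟩, fun u hu hCu => (hmax u hu.2 hCu).le⟩
  let C' : IrreducibleCloseds X :=
    ⟨C, ⟨hCne, hCirr⟩, isClosed_of_mem_irreducibleComponents C hCmem⟩
  have hlt : l'.last < C' := by
    refine lt_of_le_of_ne hsub ?_
    intro heq
    obtain ⟨x, hxC, hx⟩ := h C hCmem
    apply hx
    apply hlast
    rw [heq]
    exact hxC
  have := hX (l'.snoc C' hlt)
  simp only [RelSeries.snoc_length, l', LTSeries.map_length] at this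
  omega

end Topology

section Scheme

variable {X : Scheme.{u}}

/-- Every open neighbourhood of a point contains an affine open neighbourhood. -/
theorem exists_isAffineOpen_mem_le (O : X.Opens) {x : X} (hx : x ∈ O) :
    ∃ W : X.Opens, IsAffineOpen W ∧ x ∈ W ∧ W ≤ O := by
  obtain ⟨_, ⟨W, hW, rfl⟩, hxW, hWO⟩ :=
    X.isBasis_affineOpens.exists_subset_of_mem_open hx O.2
  exact ⟨W, hW, hxW, hWO⟩

/-- **A dense affine open with affine inclusion.**  On a Noetherian scheme there is an affine open,
with affine inclusion morphism, meeting every irreducible component in (a neighbourhood of) its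
generic point. -/
theorem exists_affine_open_affine_inclusion [IsNoetherian X] :
    ∃ U : X.Opens, IsAffineOpen U ∧ IsAffineHom U.ι ∧
      ∀ C ∈ irreducibleComponents X, ∃ x ∈ C, x ∈ U := by
  classical
  have hfin : (irreducibleComponents X).Finite :=
    TopologicalSpace.NoetherianSpace.finite_irreducibleComponents
  haveI : Finite (irreducibleComponents X) := hfin.to_subtype
  -- generic points
  have hη : ∀ C : irreducibleComponents X, ∃ η : X, closure {η} = (C : Set X) := fun C =>
    ⟨C.2.1.genericPoint,
      C.2.1.closure_genericPoint (isClosed_of_mem_irreducibleComponents _ C.2)⟩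
  choose η hηC using hη
  have hηmem : ∀ C : irreducibleComponents X, η C ∈ (C : Set X) := fun C => by
    rw [← hηC C]; exact subset_closure rfl
  have hηO : ∀ C : irreducibleComponents X, η C ∈ compOpen hfin (C : Set X) := fun C =>
    mem_compOpen_of_closure_eq hfin C.2 (hηC C)
  -- Step 1: affine opens containing a given point and all generic points
  have step1 : ∀ x : X, ∃ V : X.Opens, IsAffineOpen V ∧ x ∈ V ∧ ∀ C, η C ∈ V := by
    intro x
    obtain ⟨V₀, hV₀, hxV₀, -⟩ := exists_isAffineOpen_mem_le (⊤ : X.Opens) (x := x) trivial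
    have hW : ∀ C : irreducibleComponents X, ∃ W : X.Opens, IsAffineOpen W ∧ η C ∈ W ∧
        W ≤ compOpen hfin (C : Set X) := fun C => exists_isAffineOpen_mem_le _ (hηO C)
    choose W hWaff hηW hWO using hW
    let I₁ : Set (irreducibleComponents X) := {C | η C ∉ V₀}
    have hWsup : IsAffineOpen (⨆ C ∈ I₁, W C) := by
      refine IsAffineOpen.biSup_of_disjoint (Set.toFinite I₁) (fun C _ => hWaff C) ?_
      intro C _ C' _ hne
      exact (disjoint_compOpen hfin C.2 (fun h => hne (Subtype.ext h))).mono (hWO C) (hWO C')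
    have hdisj : Disjoint V₀ (⨆ C ∈ I₁, W C) := by
      rw [disjoint_iSup₂_iff]
      intro C hC
      exact ((disjoint_compOpen_of_notMem hfin (hηC C) V₀ hC).mono_left (hWO C)).symm
    refine ⟨V₀ ⊔ ⨆ C ∈ I₁, W C, hV₀.sup_of_disjoint hWsup hdisj, Or.inl hxV₀, fun C => ?_⟩
    by_cases hC : η C ∈ V₀
    · exact Or.inl hC
    · refine Or.inr ?_
      exact (le_iSup₂ (f := fun C (_ : C ∈ I₁) => W C) C hC) (hηW C)
  choose V hVaff hxV hηV using step1
  -- Step 2: finite subcover
  obtain ⟨t, ht⟩ := isCompact_univ.elim_finite_subcover (fun x => (V x : Set X))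
    (fun x => (V x).2) (fun x _ => Set.mem_iUnion.mpr ⟨x, hxV x⟩)
  -- Step 3: the intersection
  let O : X.Opens := ⟨⋂ x ∈ t, (V x : Set X), isOpen_biInter_finset fun x _ => (V x).2⟩
  have hηOO : ∀ C, η C ∈ O := fun C => Set.mem_iInter₂.mpr fun x _ => hηV x C
  have hW' : ∀ C : irreducibleComponents X, ∃ W : X.Opens, IsAffineOpen W ∧ η C ∈ W ∧
      W ≤ O ⊓ compOpen hfin (C : Set X) := fun C =>
    exists_isAffineOpen_mem_le _ ⟨hηOO C, hηO C⟩
  choose W' hW'aff hηW' hW'O using hW'
  have hU : IsAffineOpen (⨆ C, W' C) := by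
    refine IsAffineOpen.iSup_of_disjoint hW'aff ?_
    intro C C' hne
    exact (disjoint_compOpen hfin C.2 (fun h => hne (Subtype.ext h))).mono
      ((hW'O C).trans inf_le_right) ((hW'O C').trans inf_le_right)
  have hUO : (⨆ C, W' C) ≤ O := iSup_le fun C => (hW'O C).trans inf_le_left
  refine ⟨⨆ C, W' C, hU, ?_, fun C hC => ⟨η ⟨C, hC⟩, hηmem ⟨C, hC⟩, ?_⟩⟩
  · haveI : IsAffine (⨆ C, W' C).toScheme := hU
    refine isAffineHom_of_forall_exists_isAffineOpen _ fun x => ?_
    obtain ⟨x₀, hx₀⟩ := Set.mem_iUnion.mp (ht (Set.mem_univ x))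
    obtain ⟨hx₀t, hxV₀⟩ := Set.mem_iUnion.mp hx₀
    refine ⟨V x₀, hxV₀, hVaff x₀, ?_⟩
    have : (⨆ C, W' C).ι ⁻¹ᵁ V x₀ = ⊤ := by
      rw [eq_top_iff]
      intro y _
      exact Set.mem_iInter₂.mp (hUO y.2) x₀ hx₀t
    rw [this]
    exact isAffineOpen_top _
  · exact (le_iSup W' ⟨C, hC⟩) (hηW' ⟨C, hC⟩)

/-- Adding an affine open stratum, with affine inclusion, on top of an affine stratification of the
closed complement. -/
theorem hasAffineStratification_succ (U : X.Opens) (hU : IsAffineOpen U) (hj : IsAffineHom U.ι)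
    {Z' : Scheme.{u}} (i : Z' ⟶ X) [IsClosedImmersion i] (hi : Set.range i = (U : Set X)ᶜ) (m : ℕ)
    (hZ : MoreMor.HasAffineStratification Z' m) : MoreMor.HasAffineStratification X (m + 1) := by
  classical
  obtain ⟨s, hs, hstr⟩ := hZ
  have hex : ∀ x : X, x ∉ U → ∃ z, i z = x := fun x hx => by
    have : x ∈ Set.range i := by rw [hi]; exact hx
    exact this
  have hiU : ∀ z : Z', i z ∉ U := fun z => by
    have : i z ∈ Set.range i := ⟨z, rfl⟩
    rw [hi] at this
    exact this
  let s' : X → Fin (m + 2) := fun x =>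
    if h : x ∈ U then Fin.last (m + 1) else Fin.castSucc (s (Classical.choose (hex x h)))
  have hs'i : ∀ z : Z', s' (i z) = Fin.castSucc (s z) := by
    intro z
    have h : i z ∉ U := hiU z
    simp only [s', dif_neg h]
    congr 2
    exact i.isClosedEmbedding.injective (Classical.choose_spec (hex (i z) h))
  have hs'U : ∀ x : X, x ∈ U → s' x = Fin.last (m + 1) := fun x hx => by
    simp only [s', dif_pos hx]
  have hs'last : ∀ x : X, s' x = Fin.last (m + 1) → x ∈ U := by
    intro x hx
    by_contra hxU
    obtain ⟨z, rfl⟩ := hex x hxU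
    rw [hs'i] at hx
    exact (Fin.castSucc_lt_last (s z)).ne hx
  refine ⟨s', fun k => ?_, fun k => ?_⟩
  · rcases Fin.eq_castSucc_or_eq_last k with ⟨k', rfl⟩ | rfl
    · have : {x : X | s' x ≤ Fin.castSucc k'} = i '' {z : Z' | s z ≤ k'} := by
        ext x
        simp only [Set.mem_setOf_eq, Set.mem_image]
        constructor
        · intro hx
          have hxU : x ∉ U := fun h => by
            rw [hs'U x h] at hx
            exact absurd hx (not_le.mpr (Fin.castSucc_lt_last k'))
          obtain ⟨z, rfl⟩ := hex x hxU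
          rw [hs'i, Fin.castSucc_le_castSucc_iff] at hx
          exact ⟨z, hx, rfl⟩
        · rintro ⟨z, hz, rfl⟩
          rw [hs'i, Fin.castSucc_le_castSucc_iff]
          exact hz
      rw [this]
      exact i.isClosedEmbedding.isClosedMap _ (hs k')
    · have : {x : X | s' x ≤ Fin.last (m + 1)} = Set.univ := by
        ext x
        simp only [Set.mem_setOf_eq, Set.mem_univ, iff_true]
        exact Fin.le_last _
      rw [this]
      exact isClosed_univ
  · rcases Fin.eq_castSucc_or_eq_last k with ⟨k', rfl⟩ | rfl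
    · obtain ⟨W, ι', himm, haff, haffhom, hrange⟩ := hstr k'
      haveI := himm
      haveI := haffhom
      refine ⟨W, ι' ≫ i, inferInstance, haff, inferInstance, ?_⟩
      ext x
      simp only [Scheme.Hom.comp_base, TopCat.hom_comp, ContinuousMap.coe_comp, Set.mem_range,
        Function.comp_apply, Set.mem_setOf_eq]
      constructor
      · rintro ⟨w, rfl⟩
        rw [hs'i]
        congr 1
        have : ι' w ∈ Set.range ι' := ⟨w, rfl⟩
        rw [hrange] at this
        exact this
      · intro hx
        have hxU : x ∉ U := fun h => by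
          rw [hs'U x h] at hx
          exact (Fin.castSucc_lt_last k').ne hx.symm
        obtain ⟨z, rfl⟩ := hex x hxU
        rw [hs'i] at hx
        have hz : z ∈ Set.range ι' := by
          rw [hrange]
          exact Fin.castSucc_injective _ hx
        obtain ⟨w, rfl⟩ := hz
        exact ⟨w, rfl⟩
    · refine ⟨U, U.ι, inferInstance, hU, hj, ?_⟩
      rw [Scheme.Opens.range_ι]
      ext x
      exact ⟨hs'U x, hs'last x⟩

theorem hasAffineStratification_zero_of_isAffine [IsAffine X] :
    MoreMor.HasAffineStratification X 0 := by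
  refine ⟨fun _ => 0, fun k => ?_, fun k => ⟨X, 𝟙 X, inferInstance, inferInstance, inferInstance, ?_⟩⟩
  · have : {x : X | (0 : Fin 1) ≤ k} = Set.univ := by
      ext x
      simp
    rw [this]
    exact isClosed_univ
  · ext x
    simp only [Scheme.Hom.id_base, TopCat.hom_id, ContinuousMap.coe_id, Set.range_id, Set.mem_univ,
      Set.mem_setOf_eq, true_iff]
    exact Fin.ext (by have := k.2; omega)

/-- **A Noetherian scheme of dimension `≤ d` has an affine stratification indexed by `0, …, d`.** -/
theorem hasAffineStratification_of_dim_lt : ∀ (d : ℕ) (X : Scheme.{u}) [IsNoetherian X],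
    topologicalKrullDim X < ((d + 1 : ℕ) : WithBot ℕ∞) → MoreMor.HasAffineStratification X d := by
  intro d
  induction d with
  | zero =>
    intro X _ hX
    obtain ⟨U, hU, -, hgen⟩ := exists_affine_open_affine_inclusion (X := X)
    let Zc : Closeds X := ⟨(U : Set X)ᶜ, U.2.isClosed_compl⟩
    let I := Scheme.IdealSheafData.vanishingIdeal Zc
    have hrange : Set.range I.subschemeι = (U : Set X)ᶜ := by
      rw [Scheme.IdealSheafData.range_subschemeι,
        Scheme.IdealSheafData.coe_support_vanishingIdeal]
      rfl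
    have hdim := topologicalKrullDim_lt_of_isClosedEmbedding I.subschemeι.isClosedEmbedding
      (fun C hC => by
        obtain ⟨x, hxC, hxU⟩ := hgen C hC
        exact ⟨x, hxC, fun h => (hrange ▸ h : x ∈ (U : Set X)ᶜ) hxU⟩) 0 hX
    have hempty : IsEmpty I.subscheme := by
      by_contra hne
      rw [not_isEmpty_iff] at hne
      obtain ⟨z⟩ := hne
      unfold topologicalKrullDim at hdim
      rw [Order.krullDim_lt_coe_iff] at hdim
      have := hdim (RelSeries.singleton _
        ⟨closure {z}, isIrreducible_singleton.closure, isClosed_closure⟩)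
      simp at this
    have hUtop : U = ⊤ := by
      rw [eq_top_iff]
      intro x _
      by_contra hx
      have : x ∈ Set.range I.subschemeι := by rw [hrange]; exact hx
      obtain ⟨z, -⟩ := this
      exact hempty.false z
    haveI : IsAffine (⊤ : X.Opens).toScheme := hUtop ▸ hU
    haveI : IsAffine X := .of_isIso X.topIso.inv
    exact hasAffineStratification_zero_of_isAffine
  | succ d ih =>
    intro X _ hX
    obtain ⟨U, hU, hj, hgen⟩ := exists_affine_open_affine_inclusion (X := X)
    let Zc : Closeds X := ⟨(U : Set X)ᶜ, U.2.isClosed_compl⟩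
    let I := Scheme.IdealSheafData.vanishingIdeal Zc
    have hrange : Set.range I.subschemeι = (U : Set X)ᶜ := by
      rw [Scheme.IdealSheafData.range_subschemeι,
        Scheme.IdealSheafData.coe_support_vanishingIdeal]
      rfl
    have hdim := topologicalKrullDim_lt_of_isClosedEmbedding I.subschemeι.isClosedEmbedding
      (fun C hC => by
        obtain ⟨x, hxC, hxU⟩ := hgen C hC
        exact ⟨x, hxC, fun h => (hrange ▸ h : x ∈ (U : Set X)ᶜ) hxU⟩) (d + 1) hX
    haveI : IsLocallyNoetherian I.subscheme :=
      LocallyOfFiniteType.isLocallyNoetherian I.subschemeι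
    haveI : CompactSpace I.subscheme :=
      I.subschemeι.isClosedEmbedding.compactSpace
    haveI : IsNoetherian I.subscheme := {}
    exact hasAffineStratification_succ U hU hj I.subschemeι hrange d (ih I.subscheme hdim)

end Scheme

end Groth.Agent.Lib.H59AffStratDim
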