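import Groth.Prelude.Def_ArtFun3
import Groth.Agent.Lib.ArtFunFibre
import Mathlib.RingTheory.FiniteType
import Mathlib.RingTheory.Adjoin.FG
import Mathlib.RingTheory.Ideal.Quotient.Nilpotent

/-!
# Artinian covers of square-zero extensions (helper59)

`exists_art_cover`: given an object `Q` of `Art Λ k`, an arbitrary `Λ`-algebra `A'` with a square-zero ideal `J` and a
`Λ`-algebra map `ψ̄ : Q → A'/J`, there are an object `C` of `Art Λ k`, a surjective morphism `μ : C ⟶ Q` and an algebra
map `s : C → A'` with `ψ̄ ∘ μ = (mod J) ∘ s`.  (`C` is a finitely generated subalgebra of the fibre product `Q ×_{A'/J} A'`.)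
This reduces lifting problems against arbitrary square-zero extensions to lifting problems inside `Art Λ k`.
-/

set_option autoImplicit false
universe u

open CategoryTheory ArtFun ArtFun.Art IsLocalRing

namespace Groth.Agent.Lib.H59ArtFunCover

variable {Λ : Type u} {k : Type u} [CommRing Λ] [Field k] [Algebra Λ k]

theorem exists_art_cover [IsNoetherianRing Λ] [Module.Finite Λ k] (Q : Art Λ k)
    {A' : Type u} [CommRing A'] [Algebra Λ A'] (J : Ideal A') (hJ : J ^ 2 = ⊥)
    (ψ : Q →ₐ[Λ] A' ⧸ J) :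
    ∃ (C : Art Λ k) (μ : C ⟶ Q) (s : C →ₐ[Λ] A'), Function.Surjective μ ∧
      ∀ c, ψ (μ c) = Ideal.Quotient.mk J (s c) := by
  classical
  have hfin : Module.Finite Λ Q := Groth.Agent.Lib.ArtFunFibre.finite_carrier Q
  obtain ⟨G, hG⟩ := (Module.Finite.fg_top : (⊤ : Submodule Λ Q).FG)
  choose σ hσ using fun q : Q => Ideal.Quotient.mk_surjective (ψ q)
  let S : Finset (Q × A') := G.image (fun q => (q, σ q))
  let Cs : Subalgebra Λ (Q × A') := Algebra.adjoin Λ (S : Set (Q × A'))
  let E : Subalgebra Λ (Q × A') := AlgHom.equalizer (ψ.comp (AlgHom.fst Λ Q A'))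
    ((Ideal.Quotient.mkₐ Λ J).comp (AlgHom.snd Λ Q A'))
  have hCE : Cs ≤ E := by
    apply Algebra.adjoin_le
    intro x hx
    rw [Finset.coe_image] at hx
    obtain ⟨q, _, rfl⟩ := hx
    rw [SetLike.mem_coe, AlgHom.mem_equalizer]
    exact (hσ q).symm
  have hcomm : ∀ c : Cs, ψ c.1.1 = Ideal.Quotient.mk J c.1.2 := fun c =>
    (AlgHom.mem_equalizer _ _ _).1 (hCE c.2)
  let fstC : Cs →ₐ[Λ] Q := (AlgHom.fst Λ Q A').comp Cs.val
  let sndC : Cs →ₐ[Λ] A' := (AlgHom.snd Λ Q A').comp Cs.val
  have hfst_surj : Function.Surjective fstC := by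
    intro q
    have hq : q ∈ Submodule.span Λ (G : Set Q) := by rw [hG]; trivial
    induction hq using Submodule.span_induction with
    | mem q hq =>
      refine ⟨⟨(q, σ q), Algebra.subset_adjoin ?_⟩, rfl⟩
      rw [Finset.coe_image]
      exact ⟨q, hq, rfl⟩
    | zero => exact ⟨0, map_zero _⟩
    | add a b _ _ ha hb =>
      obtain ⟨ca, rfl⟩ := ha
      obtain ⟨cb, rfl⟩ := hb
      exact ⟨ca + cb, map_add _ _ _⟩
    | smul r a _ ha =>
      obtain ⟨ca, rfl⟩ := ha
      exact ⟨r • ca, map_smul _ _ _⟩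
  -- the kernel of `fstC` is square zero
  have hker : ∀ c c' : Cs, fstC c = 0 → fstC c' = 0 → c * c' = 0 := by
    intro c c' hc hc'
    have h1 : c.1.2 ∈ J := by
      rw [← Ideal.Quotient.eq_zero_iff_mem, ← hcomm c, show c.1.1 = 0 from hc, map_zero]
    have h2 : c'.1.2 ∈ J := by
      rw [← Ideal.Quotient.eq_zero_iff_mem, ← hcomm c', show c'.1.1 = 0 from hc', map_zero]
    apply Subtype.ext
    apply Prod.ext
    · change c.1.1 * c'.1.1 = 0
      rw [show c.1.1 = 0 from hc, zero_mul]
    · change c.1.2 * c'.1.2 = 0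
      have : c.1.2 * c'.1.2 ∈ J ^ 2 := by rw [sq]; exact Ideal.mul_mem_mul h1 h2
      rw [hJ] at this
      exact this
  have hFT : Algebra.FiniteType Λ Cs :=
    (Subalgebra.fg_iff_finiteType Cs).1 (Subalgebra.fg_adjoin_finset S)
  have hNoeth : IsNoetherianRing Cs := Algebra.FiniteType.isNoetherianRing Λ Cs
  -- units
  have hunit : ∀ c : Cs, IsUnit (fstC c) → IsUnit c := by
    intro c hc
    obtain ⟨u, hu⟩ := hc
    obtain ⟨d, hd⟩ := hfst_surj (↑u⁻¹ : Q)
    have h1 : fstC (c * d - 1) = 0 := by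
      rw [map_sub, map_mul, map_one, hd, ← hu, Units.mul_inv, sub_self]
    have h2 : (c * d - 1) * (c * d - 1) = 0 := hker _ _ h1 h1
    have : c * (d * (2 - c * d)) = 1 - (c * d - 1) * (c * d - 1) := by ring
    rw [h2, sub_zero] at this
    exact IsUnit.of_mul_eq_one _ this
  have hnontriv : Nontrivial Cs := by
    refine ⟨⟨0, 1, fun h => ?_⟩⟩
    have := congrArg fstC h
    rw [map_zero, map_one] at this
    exact zero_ne_one this
  have hloc : IsLocalRing Cs := by
    refine IsLocalRing.of_isUnit_or_isUnit_one_sub_self fun c => ?_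
    rcases IsLocalRing.isUnit_or_isUnit_one_sub_self (fstC c) with h | h
    · exact Or.inl (hunit c h)
    · refine Or.inr (hunit (1 - c) ?_)
      rw [map_sub, map_one]
      exact h
  have hmax : ∀ c : Cs, c ∈ maximalIdeal Cs → fstC c ∈ maximalIdeal Q := by
    intro c hc
    rw [mem_maximalIdeal, mem_nonunits_iff] at hc ⊢
    exact fun h => hc (hunit c h)
  have hArt : IsArtinianRing Cs := by
    rw [isArtinianRing_iff_isNilpotent_maximalIdeal]
    obtain ⟨N, hN⟩ : IsNilpotent (maximalIdeal Q) := by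
      have := (isArtinianRing_iff_isNilpotent_maximalIdeal Q).1 inferInstance
      exact this
    have hpow : maximalIdeal Cs ^ N ≤ RingHom.ker (fstC : Cs →+* Q) := by
      have h1 : (maximalIdeal Cs).map (fstC : Cs →+* Q) ≤ maximalIdeal Q := by
        rw [Ideal.map_le_iff_le_comap]
        intro c hc
        exact hmax c hc
      have h2 : (maximalIdeal Cs ^ N).map (fstC : Cs →+* Q) ≤ ⊥ := by
        rw [Ideal.map_pow, ← Ideal.zero_eq_bot, ← hN]
        exact Ideal.pow_right_mono h1 N
      intro x hx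
      have := h2 (Ideal.mem_map_of_mem _ hx)
      rw [Ideal.mem_bot] at this
      exact this
    refine ⟨N + N, ?_⟩
    rw [Ideal.zero_eq_bot, eq_bot_iff, pow_add]
    rw [Ideal.mul_le]
    intro x hx y hy
    rw [Ideal.mem_bot]
    exact hker x y (hpow hx) (hpow hy)
  let C : Art Λ k := Art.of Cs (Q.res.comp fstC) (Q.res_surjective.comp hfst_surj)
  let μ : C ⟶ Q := homMk fstC rfl
  exact ⟨C, μ, sndC, hfst_surj, fun c => hcomm c⟩

end Groth.Agent.Lib.H59ArtFunCover
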