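import Groth.Prelude.Def_ArtFun
import Groth.Agent.Lib.ArtFunBasic

/-!
# `k[ε] → k` is a small extension (helper59)
-/

set_option autoImplicit false
universe u
open CategoryTheory ArtFun ArtFun.Art IsLocalRing

namespace Groth.Agent.Lib.H59ArtFunDualSmall

variable {Λ : Type u} {k : Type u} [CommRing Λ] [Field k] [Algebra Λ k]

theorem mem_ker_toBase_dual (x : dual Λ k) :
    x ∈ RingHom.ker (toBase (dual Λ k)).toAlgHom ↔
      TrivSqZeroExt.fst (show TrivSqZeroExt k k from x) = 0 := Iff.rfl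

theorem isSmallExt_toBase_dual : IsSmallExt (toBase (dual Λ k)) := by
  have hε : (show dual Λ k from (TrivSqZeroExt.inr 1 : TrivSqZeroExt k k)) ∈
      RingHom.ker (toBase (dual Λ k)).toAlgHom :=
    (mem_ker_toBase_dual _).2 (TrivSqZeroExt.fst_inr k 1)
  refine ⟨Groth.Agent.Lib.ArtFunBasic.toBase_surjective _, ?_,
    ⟨⟨(show dual Λ k from (TrivSqZeroExt.inr 1 : TrivSqZeroExt k k)), ?_⟩⟩, ?_⟩
  · intro hbot
    rw [hbot] at hε
    have h2 : (TrivSqZeroExt.inr 1 : TrivSqZeroExt k k) = 0 := Ideal.mem_bot.1 hε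
    have h3 := congrArg TrivSqZeroExt.snd h2
    rw [TrivSqZeroExt.snd_inr, TrivSqZeroExt.snd_zero] at h3
    exact one_ne_zero h3
  · apply le_antisymm
    · intro x hx
      have hfst : TrivSqZeroExt.fst (show TrivSqZeroExt k k from x) = 0 :=
        (mem_ker_toBase_dual x).1 hx
      change x ∈ Ideal.span {(show dual Λ k from (TrivSqZeroExt.inr 1 : TrivSqZeroExt k k))}
      rw [Ideal.mem_span_singleton']
      refine ⟨(show dual Λ k from
        (TrivSqZeroExt.inl (TrivSqZeroExt.snd (show TrivSqZeroExt k k from x)) :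
          TrivSqZeroExt k k)), ?_⟩
      change (TrivSqZeroExt.inl (TrivSqZeroExt.snd (show TrivSqZeroExt k k from x)) :
          TrivSqZeroExt k k) * (TrivSqZeroExt.inr 1 : TrivSqZeroExt k k) =
        (show TrivSqZeroExt k k from x)
      apply TrivSqZeroExt.ext
      · rw [hfst, TrivSqZeroExt.fst_mul, TrivSqZeroExt.fst_inr, mul_zero]
      · rw [TrivSqZeroExt.snd_mul, TrivSqZeroExt.fst_inl, TrivSqZeroExt.snd_inr,
          TrivSqZeroExt.snd_inl, smul_zero, add_zero, smul_eq_mul, mul_one]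
    · change Ideal.span {(show dual Λ k from (TrivSqZeroExt.inr 1 : TrivSqZeroExt k k))} ≤ _
      rw [Ideal.span_singleton_le_iff_mem]
      exact hε
  · rw [eq_bot_iff, Ideal.mul_le]
    intro x hx y hy
    have h1 : TrivSqZeroExt.fst (show TrivSqZeroExt k k from x) = 0 :=
      (Art.mem_maximalIdeal_iff _ x).1 hx
    have h2 : TrivSqZeroExt.fst (show TrivSqZeroExt k k from y) = 0 := (mem_ker_toBase_dual y).1 hy
    rw [Ideal.mem_bot]
    change (show TrivSqZeroExt k k from x) * (show TrivSqZeroExt k k from y) = 0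
    apply TrivSqZeroExt.ext
    · rw [TrivSqZeroExt.fst_mul, h1, zero_mul, TrivSqZeroExt.fst_zero]
    · rw [TrivSqZeroExt.snd_mul, h1, h2, zero_smul, MulOpposite.op_zero, zero_smul, add_zero,
        TrivSqZeroExt.snd_zero]

end Groth.Agent.Lib.H59ArtFunDualSmall
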