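import Groth.Prelude.Def_ArtFun3
import Groth.Agent.Lib.ArtFunFibre
import Groth.Agent.Lib.HenselPair
import Mathlib.FieldTheory.Separable
import Mathlib.FieldTheory.Minpoly.Field
import Mathlib.Algebra.Polynomial.Identities
import Mathlib.Algebra.Polynomial.Lifts

/-!
# Fibre products in `ArtFun.Art Λ k` when `k` is separable over the image of `Λ` (helper59)

* `exists_isFibreProd_of_res`: the set-theoretic fibre product `A₁ ×_A A₂` is an object as soon as it surjects onto `k`.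
* `exists_root`, `root_unique`: Hensel's lemma (existence and uniqueness of simple roots) in objects of `Art Λ k`.
* `exists_isFibreProd_of_isSeparable`: all fibre products exist in the separable case.
-/

set_option autoImplicit false
universe u

open CategoryTheory ArtFun ArtFun.Art IsLocalRing Polynomial

namespace Groth.Agent.Lib.H59ArtFunFibreSep

variable {Λ : Type u} {k : Type u} [CommRing Λ] [Field k] [Algebra Λ k]

open Groth.Agent.Lib.ArtFunFibre in
theorem exists_isFibreProd_of_res [IsNoetherianRing Λ] [Module.Finite Λ k]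
    {A A₁ A₂ : Art Λ k} (f₁ : A₁ ⟶ A) (f₂ : A₂ ⟶ A)
    (hres : ∀ c : k, ∃ (a₁ : A₁) (a₂ : A₂), f₁ a₁ = f₂ a₂ ∧ A₁.res a₁ = c) :
    ∃ (B : Art Λ k) (p₁ : B ⟶ A₁) (p₂ : B ⟶ A₂), IsFibreProd p₁ p₂ f₁ f₂ := by
  have hl₁ : IsLocalHom f₁.toAlgHom := Art.isLocalHom f₁
  have hl₂ : IsLocalHom f₂.toAlgHom := Art.isLocalHom f₂
  have hloc : IsLocalRing (AlgHom.pullback f₁.toAlgHom f₂.toAlgHom) :=
    AlgHom.isLocalRing_pullback f₁.toAlgHom f₂.toAlgHom
  have hfin₁ : Module.Finite Λ A₁ := finite_carrier A₁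
  have hfin₂ : Module.Finite Λ A₂ := finite_carrier A₂
  have hN : IsNoetherian Λ (A₁ × A₂) := inferInstance
  have hN' : IsNoetherian Λ (AlgHom.pullback f₁.toAlgHom f₂.toAlgHom) :=
    isNoetherian_submodule' (Subalgebra.toSubmodule (AlgHom.pullback f₁.toAlgHom f₂.toAlgHom))
  have hNR : IsNoetherianRing (AlgHom.pullback f₁.toAlgHom f₂.toAlgHom) :=
    isNoetherian_of_tower Λ hN'
  have hfst_loc : IsLocalHom (AlgHom.pullbackFst f₁.toAlgHom f₂.toAlgHom) :=
    ⟨fun x hx => (RingHom.isLocalHom_pullbackFst (f₁.toAlgHom : A₁ →+* A)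
      (f₂.toAlgHom : A₂ →+* A)).map_nonunit x hx⟩
  have hsnd_loc : IsLocalHom (AlgHom.pullbackSnd f₁.toAlgHom f₂.toAlgHom) :=
    ⟨fun x hx => (RingHom.isLocalHom_pullbackSnd (f₁.toAlgHom : A₁ →+* A)
      (f₂.toAlgHom : A₂ →+* A)).map_nonunit x hx⟩
  have hArt : IsArtinianRing (AlgHom.pullback f₁.toAlgHom f₂.toAlgHom) := by
    rw [isArtinianRing_iff_isNilpotent_maximalIdeal,
      Ideal.FG.isNilpotent_iff_le_nilradical (IsNoetherian.noetherian _)]
    intro x hx
    obtain ⟨n₁, hn₁⟩ := exists_pow_eq_zero_of_mem_maximalIdeal A₁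
    obtain ⟨n₂, hn₂⟩ := exists_pow_eq_zero_of_mem_maximalIdeal A₂
    have hx1 : AlgHom.pullbackFst f₁.toAlgHom f₂.toAlgHom x ∈ maximalIdeal A₁ := by
      rw [mem_maximalIdeal, mem_nonunits_iff] at hx ⊢
      exact fun h => hx (hfst_loc.map_nonunit x h)
    have hx2 : AlgHom.pullbackSnd f₁.toAlgHom f₂.toAlgHom x ∈ maximalIdeal A₂ := by
      rw [mem_maximalIdeal, mem_nonunits_iff] at hx ⊢
      exact fun h => hx (hsnd_loc.map_nonunit x h)
    refine ⟨n₁ + n₂, ?_⟩
    apply Subtype.ext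
    apply Prod.ext
    · change (AlgHom.pullbackFst f₁.toAlgHom f₂.toAlgHom (x ^ (n₁ + n₂))) = 0
      rw [map_pow, pow_add, hn₁ _ hx1, zero_mul]
    · change (AlgHom.pullbackSnd f₁.toAlgHom f₂.toAlgHom (x ^ (n₁ + n₂))) = 0
      rw [map_pow, pow_add, hn₂ _ hx2, mul_zero]
  have hres_surj : Function.Surjective
      (A₁.res.comp (AlgHom.pullbackFst f₁.toAlgHom f₂.toAlgHom)) := by
    intro c
    obtain ⟨a₁, a₂, h12, hc⟩ := hres c
    exact ⟨⟨(a₁, a₂), h12⟩, hc⟩
  let B : Art Λ k := Art.of (AlgHom.pullback f₁.toAlgHom f₂.toAlgHom)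
    (A₁.res.comp (AlgHom.pullbackFst f₁.toAlgHom f₂.toAlgHom)) hres_surj
  let p₁ : B ⟶ A₁ := homMk (AlgHom.pullbackFst f₁.toAlgHom f₂.toAlgHom) rfl
  let p₂ : B ⟶ A₂ := homMk (AlgHom.pullbackSnd f₁.toAlgHom f₂.toAlgHom) (by
    apply AlgHom.ext
    intro x
    change A₂.res (AlgHom.pullbackSnd f₁.toAlgHom f₂.toAlgHom x) =
      A₁.res (AlgHom.pullbackFst f₁.toAlgHom f₂.toAlgHom x)
    rw [← res_app f₂, ← res_app f₁]
    exact congrArg A.res (DFunLike.congr_fun
      (AlgHom.pullback_comm_sq f₁.toAlgHom f₂.toAlgHom) x).symm)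
  refine ⟨B, p₁, p₂, ?_, ?_, ?_⟩
  · apply hom_ext
    exact AlgHom.pullback_comm_sq f₁.toAlgHom f₂.toAlgHom
  · intro b₁ b₂ h1 h2
    apply Subtype.ext
    exact Prod.ext h1 h2
  · intro a₁ a₂ h
    exact ⟨⟨(a₁, a₂), h⟩, rfl, rfl⟩

/-- a monic polynomial over `Λ` having `c` as a simple root. -/
theorem exists_monic_lift [Algebra.IsSeparable (↥(algebraMap Λ k).range) k] (c : k) :
    ∃ G : Λ[X], G.Monic ∧ aeval c G = 0 ∧ aeval c (derivative G) ≠ 0 := by
  set k₀ := (algebraMap Λ k).range with hk₀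
  have hint : IsIntegral ↥k₀ c := Algebra.IsSeparable.isIntegral ↥k₀ c
  have hmonic : (minpoly ↥k₀ c).Monic := minpoly.monic hint
  have hsep : (minpoly ↥k₀ c).Separable := Algebra.IsSeparable.isSeparable ↥k₀ c
  let ρ : Λ →+* ↥k₀ := (algebraMap Λ k).rangeRestrict
  have hρ : Function.Surjective ρ := (algebraMap Λ k).rangeRestrict_surjective
  have hlifts : minpoly ↥k₀ c ∈ lifts ρ := by
    rw [lifts_iff_coeff_lifts]
    intro n
    exact hρ _
  obtain ⟨G, hG, -, hGm⟩ := lifts_and_natDegree_eq_and_monic hlifts hmonic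
  have hcomp : algebraMap Λ k = (algebraMap ↥k₀ k).comp ρ := by
    ext x
    rfl
  have key : ∀ P : Λ[X], aeval c P = aeval c (P.map ρ) := by
    intro P
    rw [aeval_def, aeval_def, eval₂_map, ← hcomp]
  refine ⟨G, hGm, ?_, ?_⟩
  · rw [key, hG, minpoly.aeval]
  · rw [key, ← derivative_map, hG]
    exact hsep.aeval_derivative_ne_zero (minpoly.aeval _ _)

theorem res_aeval (A : Art Λ k) (G : Λ[X]) (a : A) : A.res (aeval a G) = aeval (A.res a) G :=
  (aeval_algHom_apply A.res a G).symm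

theorem isUnit_of_res_ne_zero (A : Art Λ k) {a : A} (h : A.res a ≠ 0) : IsUnit a := by
  by_contra hnu
  exact h ((mem_maximalIdeal_iff A a).1 ((mem_maximalIdeal a).2 hnu))

/-- Hensel: a simple root in `k` of a monic polynomial over `Λ` lifts to every object. -/
theorem exists_root (A : Art Λ k) (G : Λ[X]) (hG : G.Monic) (c : k) (h0 : aeval c G = 0)
    (h1 : aeval c (derivative G) ≠ 0) : ∃ a : A, aeval a G = 0 ∧ A.res a = c := by
  have hH : HenselianRing A (maximalIdeal A) := by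
    apply Groth.Agent.Lib.HenselPair.henselian_of_nilpotent
    obtain ⟨n, hn⟩ := Groth.Agent.Lib.ArtFunFibre.exists_pow_eq_zero_of_mem_maximalIdeal A
    exact fun x hx => ⟨n, hn x hx⟩
  obtain ⟨a₀, ha₀⟩ := A.res_surjective c
  have e1 : (G.map (algebraMap Λ A)).eval a₀ ∈ maximalIdeal A := by
    rw [eval_map_algebraMap, mem_maximalIdeal_iff, res_aeval, ha₀, h0]
  have e2 : IsUnit (Ideal.Quotient.mk (maximalIdeal A)
      ((derivative (G.map (algebraMap Λ A))).eval a₀)) := by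
    apply IsUnit.map
    apply isUnit_of_res_ne_zero
    rw [derivative_map, eval_map_algebraMap, res_aeval, ha₀]
    exact h1
  obtain ⟨a, ha, ha'⟩ := hH.is_henselian (G.map (algebraMap Λ A)) (hG.map _) a₀ e1 e2
  refine ⟨a, ?_, ?_⟩
  · rw [← eval_map_algebraMap]
    exact ha
  · rw [mem_maximalIdeal_iff, map_sub, sub_eq_zero] at ha'
    rw [ha', ha₀]

/-- uniqueness of the Hensel lift. -/
theorem root_unique (A : Art Λ k) (G : Λ[X]) (b b' : A) (hb : aeval b G = 0) (hb' : aeval b' G = 0)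
    (hres : A.res b = A.res b') (h1 : aeval (A.res b) (derivative G) ≠ 0) : b = b' := by
  obtain ⟨κ, hκ⟩ := (G.map (algebraMap Λ A)).binomExpansion b (b' - b)
  rw [add_sub_cancel, eval_map_algebraMap, eval_map_algebraMap, hb, hb', derivative_map,
    eval_map_algebraMap, zero_add] at hκ
  have hu : IsUnit (aeval b (derivative G) + κ * (b' - b)) := by
    apply isUnit_of_res_ne_zero
    rw [map_add, map_mul, map_sub, hres, sub_self, mul_zero, add_zero, res_aeval]
    exact h1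
  have h2 : (aeval b (derivative G) + κ * (b' - b)) * (b' - b) = 0 := by
    rw [hκ]; ring
  have h3 := (hu.mul_right_eq_zero).1 h2
  exact (sub_eq_zero.1 h3).symm

theorem exists_isFibreProd_of_isSeparable [IsNoetherianRing Λ] [Module.Finite Λ k]
    [Algebra.IsSeparable (↥(algebraMap Λ k).range) k]
    {A A₁ A₂ : Art Λ k} (f₁ : A₁ ⟶ A) (f₂ : A₂ ⟶ A) :
    ∃ (B : Art Λ k) (p₁ : B ⟶ A₁) (p₂ : B ⟶ A₂), IsFibreProd p₁ p₂ f₁ f₂ := by
  apply exists_isFibreProd_of_res
  intro c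
  obtain ⟨G, hG, h0, h1⟩ := exists_monic_lift (Λ := Λ) c
  obtain ⟨a₁, ha₁, hc₁⟩ := exists_root A₁ G hG c h0 h1
  obtain ⟨a₂, ha₂, hc₂⟩ := exists_root A₂ G hG c h0 h1
  refine ⟨a₁, a₂, ?_, hc₁⟩
  apply root_unique A G
  · rw [aeval_algHom_apply, ha₁, map_zero]
  · rw [aeval_algHom_apply, ha₂, map_zero]
  · rw [res_app, res_app, hc₁, hc₂]
  · rw [res_app, hc₁]
    exact h1

end Groth.Agent.Lib.H59ArtFunFibreSep
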