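import Groth.Prelude.Def_ArtFun5
import Groth.Agent.Lib.ArtFunBasic

/-!
# Families over a complete local ring vs. formal elements (helper71)

Every map `φ : R → A` from a coefficient ring to an Artinian object factors through a truncation
`R/m^(n+1)`; hence a family `h_R → F` is determined by, and can be reconstructed from, its formal
element.
-/

set_option autoImplicit false
universe u v

namespace Groth.Agent.Lib.H71ArtFunFormal

open CategoryTheory ArtFun ArtFun.Art

variable {Λ : Type u} {k : Type u} [CommRing Λ] [Field k] [Algebra Λ k]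

section Factor

variable (R : CRing Λ k) {A : Art Λ k} (φ : HomSet R.carrier R.res A)

theorem map_mem_maximalIdeal {a : R.carrier} (ha : a ∈ IsLocalRing.maximalIdeal R.carrier) :
    φ.1 a ∈ IsLocalRing.maximalIdeal A := by
  rw [Art.mem_maximalIdeal_iff]
  have h1 : A.res (φ.1 a) = R.res a := DFunLike.congr_fun φ.2 a
  rw [h1]
  exact (R.mem_maximalIdeal_iff a).1 ha

theorem map_maximalIdeal_pow_le (N : ℕ) :
    (IsLocalRing.maximalIdeal R.carrier ^ N).map (φ.1 : R.carrier →+* A) ≤
      IsLocalRing.maximalIdeal A ^ N := by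
  rw [Ideal.map_pow]
  apply Ideal.pow_right_mono
  rw [Ideal.map_le_iff_le_comap]
  intro a ha
  exact map_mem_maximalIdeal R φ ha

theorem exists_mpow_le_ker : ∃ n : ℕ, R.mpow n ≤ RingHom.ker (φ.1 : R.carrier →+* A) := by
  have hnil : IsNilpotent (IsLocalRing.maximalIdeal A) := by
    have h := IsArtinianRing.isNilpotent_jacobson_bot (R := A)
    rwa [IsLocalRing.jacobson_eq_maximalIdeal ⊥ bot_ne_top] at h
  obtain ⟨N, hN⟩ := hnil
  refine ⟨N, ?_⟩
  intro a ha
  have ha' : a ∈ IsLocalRing.maximalIdeal R.carrier ^ N :=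
    Ideal.pow_le_pow_right (Nat.le_succ N) ha
  have h1 : φ.1 a ∈ IsLocalRing.maximalIdeal A ^ N :=
    map_maximalIdeal_pow_le R φ N (Ideal.mem_map_of_mem _ ha')
  rw [hN] at h1
  exact h1

theorem mpow_succ_le {n : ℕ} (h : R.mpow n ≤ RingHom.ker (φ.1 : R.carrier →+* A)) :
    R.mpow (n + 1) ≤ RingHom.ker (φ.1 : R.carrier →+* A) :=
  le_trans (Ideal.pow_le_pow_right (Nat.le_succ _)) h

theorem mpow_le_of_le {n n' : ℕ} (hn : n ≤ n')
    (h : R.mpow n ≤ RingHom.ker (φ.1 : R.carrier →+* A)) :
    R.mpow n' ≤ RingHom.ker (φ.1 : R.carrier →+* A) :=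
  le_trans (Ideal.pow_le_pow_right (Nat.succ_le_succ hn)) h

/-- The factorization of `φ : R → A` through the truncation `R/m^(n+1)`. -/
noncomputable def factor (n : ℕ) (h : R.mpow n ≤ RingHom.ker (φ.1 : R.carrier →+* A)) :
    R.trunc n ⟶ A :=
  ⟨Ideal.Quotient.liftₐ (R.mpow n) φ.1 (fun _ ha => h ha), by
    apply AlgHom.ext
    intro x
    obtain ⟨a, rfl⟩ := Ideal.Quotient.mk_surjective x
    exact DFunLike.congr_fun φ.2 a⟩

theorem map_factor_truncHom (n : ℕ) (h : R.mpow n ≤ RingHom.ker (φ.1 : R.carrier →+* A)) :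
    HomSet.map (factor R φ n h) (R.truncHom n) = φ :=
  Subtype.ext (AlgHom.ext fun _ => rfl)

theorem truncMap_comp_factor (n : ℕ) (h : R.mpow n ≤ RingHom.ker (φ.1 : R.carrier →+* A)) :
    R.truncMap n ≫ factor R φ n h = factor R φ (n + 1) (mpow_succ_le R φ h) := by
  apply Art.hom_ext
  apply AlgHom.ext
  intro x
  obtain ⟨a, rfl⟩ := Ideal.Quotient.mk_surjective x
  rfl

theorem factor_comp {B : Art Λ k} (f : A ⟶ B) (n : ℕ)
    (h : R.mpow n ≤ RingHom.ker (φ.1 : R.carrier →+* A))
    (h' : R.mpow n ≤ RingHom.ker ((HomSet.map f φ).1 : R.carrier →+* B)) :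
    factor R (HomSet.map f φ) n h' = factor R φ n h ≫ f := by
  apply Art.hom_ext
  apply AlgHom.ext
  intro x
  obtain ⟨a, rfl⟩ := Ideal.Quotient.mk_surjective x
  rfl

theorem mpow_le_ker_map {B : Art Λ k} (f : A ⟶ B) {n : ℕ}
    (h : R.mpow n ≤ RingHom.ker (φ.1 : R.carrier →+* A)) :
    R.mpow n ≤ RingHom.ker ((HomSet.map f φ).1 : R.carrier →+* B) := by
  intro a ha
  have h1 : φ.1 a = 0 := h ha
  change f.toAlgHom (φ.1 a) = 0
  rw [h1, map_zero]

theorem mpow_le_ker_truncHom (n : ℕ) :
    R.mpow n ≤ RingHom.ker ((R.truncHom n).1 : R.carrier →+* R.trunc n) := by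
  intro a ha
  exact Ideal.Quotient.eq_zero_iff_mem.2 ha

theorem factor_truncHom (n : ℕ) :
    factor R (R.truncHom n) n (mpow_le_ker_truncHom R n) = 𝟙 (R.trunc n) := by
  apply Art.hom_ext
  apply AlgHom.ext
  intro x
  obtain ⟨a, rfl⟩ := Ideal.Quotient.mk_surjective x
  rfl

end Factor

section Family

variable {R : CRing Λ k} {F : Art Λ k ⥤ Type v}

/-- A family is computed from its formal element. -/
theorem family_app_eq (ξ : Family R.carrier R.res F) {A : Art Λ k} (φ : HomSet R.carrier R.res A)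
    (n : ℕ) (h : R.mpow n ≤ RingHom.ker (φ.1 : R.carrier →+* A)) :
    ξ.app A φ = F.map (factor R φ n h) (ξ.toFormalElt.elt n) := by
  change _ = F.map (factor R φ n h) (ξ.app _ (R.truncHom n))
  rw [← ξ.natural, map_factor_truncHom]

theorem family_ext {ξ ξ' : Family R.carrier R.res F} (h : ∀ A φ, ξ.app A φ = ξ'.app A φ) :
    ξ = ξ' := by
  cases ξ; cases ξ'; congr; funext A φ; exact h A φ

theorem toFormalElt_injective :
    Function.Injective (fun ξ : Family R.carrier R.res F => ξ.toFormalElt) := by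
  intro ξ ξ' hξ
  apply family_ext
  intro A φ
  obtain ⟨n, hn⟩ := exists_mpow_le_ker R φ
  rw [family_app_eq ξ φ n hn, family_app_eq ξ' φ n hn]
  have : ξ.toFormalElt = ξ'.toFormalElt := hξ
  rw [this]

variable (u : FormalElt F R)

theorem map_factor_succ {A : Art Λ k} (φ : HomSet R.carrier R.res A) (n : ℕ)
    (h : R.mpow n ≤ RingHom.ker (φ.1 : R.carrier →+* A)) :
    F.map (factor R φ (n + 1) (mpow_succ_le R φ h)) (u.elt (n + 1)) =
      F.map (factor R φ n h) (u.elt n) := by
  rw [← truncMap_comp_factor R φ n h, F.map_comp]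
  change F.map (factor R φ n h) (F.map (R.truncMap n) (u.elt (n + 1))) = _
  rw [u.compat]

theorem map_factor_of_le {A : Art Λ k} (φ : HomSet R.carrier R.res A) (n n' : ℕ) (hn : n ≤ n')
    (h : R.mpow n ≤ RingHom.ker (φ.1 : R.carrier →+* A)) :
    F.map (factor R φ n' (mpow_le_of_le R φ hn h)) (u.elt n') =
      F.map (factor R φ n h) (u.elt n) := by
  induction n', hn using Nat.le_induction with
  | base => rfl
  | succ m hm ih =>
    rw [← ih]
    exact map_factor_succ u φ m (mpow_le_of_le R φ hm h)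

theorem map_factor_indep {A : Art Λ k} (φ : HomSet R.carrier R.res A) (n n' : ℕ)
    (h : R.mpow n ≤ RingHom.ker (φ.1 : R.carrier →+* A))
    (h' : R.mpow n' ≤ RingHom.ker (φ.1 : R.carrier →+* A)) :
    F.map (factor R φ n h) (u.elt n) = F.map (factor R φ n' h') (u.elt n') := by
  rw [← map_factor_of_le u φ n (max n n') (le_max_left _ _) h,
    ← map_factor_of_le u φ n' (max n n') (le_max_right _ _) h']

/-- The value at `φ` of the family attached to a formal element. -/
noncomputable def ofFormalEltApp (A : Art Λ k) (φ : HomSet R.carrier R.res A) : F.obj A :=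
  F.map (factor R φ (Classical.choose (exists_mpow_le_ker R φ))
    (Classical.choose_spec (exists_mpow_le_ker R φ))) (u.elt _)

theorem ofFormalEltApp_eq {A : Art Λ k} (φ : HomSet R.carrier R.res A) (n : ℕ)
    (h : R.mpow n ≤ RingHom.ker (φ.1 : R.carrier →+* A)) :
    ofFormalEltApp u A φ = F.map (factor R φ n h) (u.elt n) :=
  map_factor_indep u φ _ n _ h

/-- The family `h_R → F` attached to a formal element of `F` over `R`. -/
noncomputable def ofFormalElt : Family R.carrier R.res F where
  app := ofFormalEltApp u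
  natural {A B} f φ := by
    obtain ⟨n, hn⟩ := exists_mpow_le_ker R φ
    rw [ofFormalEltApp_eq u φ n hn, ofFormalEltApp_eq u (HomSet.map f φ) n (mpow_le_ker_map R φ f hn),
      factor_comp R φ f n hn, F.map_comp]
    rfl

theorem toFormalElt_ofFormalElt : (ofFormalElt u).toFormalElt = u := by
  apply FormalElt.ext'
  intro n
  change ofFormalEltApp u _ (R.truncHom n) = u.elt n
  rw [ofFormalEltApp_eq u (R.truncHom n) n (mpow_le_ker_truncHom R n), factor_truncHom, F.map_id]
  rfl

theorem toFormalElt_bijective :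
    Function.Bijective (fun ξ : Family R.carrier R.res F => ξ.toFormalElt) :=
  ⟨toFormalElt_injective, fun u => ⟨ofFormalElt u, toFormalElt_ofFormalElt u⟩⟩

end Family

end Groth.Agent.Lib.H71ArtFunFormal
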