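import Groth.Prelude.Def_W4sfdMinVersal
import Groth.Agent.Lib.H59ArtFunDer
import Groth.Agent.Lib.H71ArtFunFormal
import Groth.Agent.S12716

/-!
# Tools for minimal versal families (helper59)

* `toFormalElt_along`: the formal element of `ξ.along f` is the pushforward of the formal element of `ξ`.
* `surjective_of_injective_on_dual`: a morphism `f : R' → R` of coefficient rings such that `ψ ↦ ψ ∘ f` is injective on
  `h_R(k[ε])` is surjective.
* `injective_of_surjective_endo`: surjective ring endomorphisms of Noetherian rings are injective.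
-/

set_option autoImplicit false
universe u v

open CategoryTheory ArtFun ArtFun.Art

namespace Groth.Agent.Lib.H59ArtFunMinimal

variable {Λ : Type u} {k : Type u} [CommRing Λ] [Field k] [Algebra Λ k]

theorem toFormalElt_along {F : Art Λ k ⥤ Type v} {R' R : CRing Λ k}
    (ξ : Family R'.carrier R'.res F) (f : R'.carrier →ₐ[Λ] R.carrier) (hf : R.res.comp f = R'.res) :
    (ξ.along f hf).toFormalElt = ξ.toFormalElt.push f hf := by
  apply FormalElt.ext'
  intro n
  change ξ.app _ ⟨(R.truncHom n).1.comp f, _⟩ =
    F.map (CRing.truncMapOfHom f hf n) (ξ.app _ (R'.truncHom n))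
  rw [← ξ.natural]
  congr 1

/-- a surjective endomorphism of a Noetherian ring is injective. -/
theorem injective_of_surjective_endo {R : Type*} [CommRing R] [IsNoetherianRing R] (f : R →+* R)
    (hf : Function.Surjective f) : Function.Injective f := by
  let K : ℕ →o Ideal R :=
    { toFun := fun n => RingHom.ker (f ^ n)
      monotone' := by
        apply monotone_nat_of_le_succ
        intro n x hx
        rw [RingHom.mem_ker] at hx ⊢
        rw [pow_succ', RingHom.mul_def, RingHom.comp_apply, hx, map_zero] }
  obtain ⟨n, hn⟩ := monotone_stabilizes_iff_noetherian.mpr inferInstance K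
  rw [injective_iff_map_eq_zero]
  intro x hx
  have hsurj : Function.Surjective (f ^ n) := by
    rw [RingHom.coe_pow]
    exact hf.iterate n
  obtain ⟨y, rfl⟩ := hsurj x
  have hy : y ∈ K (n + 1) := by
    change y ∈ RingHom.ker (f ^ (n + 1))
    rw [RingHom.mem_ker, pow_succ', RingHom.mul_def, RingHom.comp_apply, hx]
  rw [← hn (n + 1) (Nat.le_succ n)] at hy
  exact hy

open Groth.Agent.Lib.H59ArtFunDer in
/-- If composition with `f : R' → R` is injective on `h_R(k[ε])` then `f` is surjective. -/
theorem surjective_of_injective_on_dual [IsNoetherianRing Λ] [Module.Finite Λ k] {R' R : CRing Λ k}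
    (f : R'.carrier →ₐ[Λ] R.carrier) (hf : R.res.comp f = R'.res)
    (hinj : ∀ ψ₁ ψ₂ : HomSet R.carrier R.res (dual Λ k), ψ₁.1.comp f = ψ₂.1.comp f → ψ₁ = ψ₂) :
    Function.Surjective f := by
  let _ : Algebra R.carrier k := R.res.toRingHom.toAlgebra
  have hst : IsScalarTower Λ R.carrier k :=
    IsScalarTower.of_algebraMap_eq (fun c => (R.res.commutes c).symm)
  have hac : IsAdicComplete (IsLocalRing.maximalIdeal R.carrier) R.carrier := R.isAdicComplete
  have hres : Function.Surjective (algebraMap R.carrier k) := R.res_surjective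
  have hsmul : ∀ (a : R.carrier) (y : k), a • y = R.res a * y := fun a y => rfl
  refine Groth.Agent.S12716.result R' R.carrier hres f ?_ ?_
  · apply AlgHom.ext
    intro x
    exact DFunLike.congr_fun hf x
  · intro D₁ D₂ h12
    let ψ : Derivation Λ R.carrier k → HomSet R.carrier R.res (dual Λ k) := fun D =>
      ⟨toTsze (M := k) R.res D (fun x y => map_add D x y)
        (fun x y => by rw [Derivation.leibniz, hsmul, hsmul, smul_eq_mul, smul_eq_mul])
        (fun c => D.map_algebraMap c), AlgHom.ext fun _ => rfl⟩
    have h1 : (ψ D₁).1.comp f = (ψ D₂).1.comp f := by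
      apply AlgHom.ext
      intro x
      exact TrivSqZeroExt.ext rfl (h12 x)
    have h3 : ψ D₁ = ψ D₂ := hinj _ _ h1
    ext x
    have h4 := congrArg (fun θ : HomSet R.carrier R.res (dual Λ k) =>
      (show TrivSqZeroExt k k from θ.1 x).snd) h3
    exact h4

end Groth.Agent.Lib.H59ArtFunMinimal
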