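import Groth.Prelude.Def_ArtFun3
import Groth.Agent.Lib.ArtFunBasic
import Groth.Agent.Lib.ArtFunFibre
import Groth.Agent.Lib.ArtFunFactor

/-!
# The torsor square of a small extension (helper59)

For a small extension `μ : B ⟶ A` in `ArtFun.Art Λ k` the fibre product `P = B ×_A B` is also a fibre product
`B ×_k k[ε]` (`exists_torsor_square`).  Consequences for functors: `exists_adjust` (the basic lifting lemma behind
"smooth iff tangent-surjective + liftable") and `eq_of_tangent_injective`.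
-/

set_option autoImplicit false
universe u v w

open CategoryTheory ArtFun ArtFun.Art IsLocalRing

namespace Groth.Agent.Lib.H59ArtFunTorsor

variable {Λ : Type u} {k : Type u} [CommRing Λ] [Field k] [Algebra Λ k]

/-- A morphism to the dual numbers from a derivation-like function. -/
noncomputable def mkDual (P : Art Λ k) (D : P → k) (hadd : ∀ x y, D (x + y) = D x + D y)
    (hmul : ∀ x y, D (x * y) = P.res x * D y + P.res y * D x)
    (hΛ : ∀ c : Λ, D (algebraMap Λ P c) = 0) : P ⟶ dual Λ k :=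
  have h0 : D 0 = 0 := by
    have := hadd 0 0
    rw [add_zero] at this
    exact left_eq_add.mp this
  have h1 : D 1 = 0 := by
    have := hmul 1 1
    rw [mul_one, map_one, one_mul] at this
    exact left_eq_add.mp this
  ⟨{ toFun := fun x => ((P.res x, D x) : TrivSqZeroExt k k)
     map_one' := TrivSqZeroExt.ext (map_one P.res) h1
     map_mul' := fun x y => TrivSqZeroExt.ext (map_mul P.res x y) (by
       change D (x * y) = P.res x • D y + MulOpposite.op (P.res y) • D x
       rw [hmul, op_smul_eq_smul, smul_eq_mul, smul_eq_mul])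
     map_zero' := TrivSqZeroExt.ext (map_zero P.res) h0
     map_add' := fun x y => TrivSqZeroExt.ext (map_add P.res x y) (hadd x y)
     commutes' := fun c => TrivSqZeroExt.ext (by
         change P.res (algebraMap Λ P c) = (algebraMap Λ (TrivSqZeroExt k k) c).fst
         rw [TrivSqZeroExt.algebraMap_eq_inl', TrivSqZeroExt.fst_inl, AlgHom.commutes]) (by
         change D (algebraMap Λ P c) = (algebraMap Λ (TrivSqZeroExt k k) c).snd
         rw [TrivSqZeroExt.algebraMap_eq_inl', TrivSqZeroExt.snd_inl, hΛ]) },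
    AlgHom.ext fun _ => rfl⟩

theorem mkDual_apply (P : Art Λ k) (D : P → k) (hadd hmul hΛ) (x : P) :
    (mkDual P D hadd hmul hΛ) x = ((P.res x, D x) : TrivSqZeroExt k k) := rfl

section Lift

variable {B A A' A'' : Art Λ k} {p' : B ⟶ A'} {p'' : B ⟶ A''} {f' : A' ⟶ A} {f'' : A'' ⟶ A}

/-- universal property of a fibre product square inside `Art`. -/
theorem exists_hom_of_isFibreProd (h : IsFibreProd p' p'' f' f'') {C : Art Λ k}
    (g' : C ⟶ A') (g'' : C ⟶ A'') (hc : g' ≫ f' = g'' ≫ f'') :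
    ∃ l : C ⟶ B, l ≫ p' = g' ∧ l ≫ p'' = g'' := by
  obtain ⟨θ, h1, h2⟩ := Groth.Agent.Lib.ArtFunBasic.exists_lift_of_isFibreProd (R := C) (resR := C.res) h
    ⟨g'.toAlgHom, g'.res_comp⟩ ⟨g''.toAlgHom, g''.res_comp⟩ (by
      apply Subtype.ext
      exact congrArg Hom.toAlgHom hc)
  refine ⟨⟨θ.1, θ.2⟩, ?_, ?_⟩
  · apply hom_ext
    exact congrArg Subtype.val h1
  · apply hom_ext
    exact congrArg Subtype.val h2

theorem hom_ext_of_isFibreProd (h : IsFibreProd p' p'' f' f'') {C : Art Λ k}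
    (l₁ l₂ : C ⟶ B) (h' : l₁ ≫ p' = l₂ ≫ p') (h'' : l₁ ≫ p'' = l₂ ≫ p'') : l₁ = l₂ := by
  apply hom_ext
  apply AlgHom.ext
  intro c
  apply h.inj
  · change (l₁ ≫ p') c = (l₂ ≫ p') c
    rw [h']
  · change (l₁ ≫ p'') c = (l₂ ≫ p'') c
    rw [h'']

end Lift

section Square

variable {B A : Art Λ k} (μ : B ⟶ A) (t : B)

theorem mul_eq_zero_of_res_eq_zero (hm : maximalIdeal B * RingHom.ker μ.toAlgHom = ⊥)
    {b x : B} (hb : B.res b = 0) (hx : μ x = 0) : b * x = 0 := by
  have : b * x ∈ maximalIdeal B * RingHom.ker μ.toAlgHom :=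
    Ideal.mul_mem_mul ((mem_maximalIdeal_iff B b).2 hb) (by rw [RingHom.mem_ker]; exact hx)
  rw [hm] at this
  exact this

theorem mul_eq_mul_of_res_eq (hm : maximalIdeal B * RingHom.ker μ.toAlgHom = ⊥)
    {b b' x : B} (hb : B.res b = B.res b') (hx : μ x = 0) : b * x = b' * x := by
  have := mul_eq_zero_of_res_eq_zero μ hm (b := b - b') (by rw [map_sub, hb, sub_self]) hx
  rw [sub_mul, sub_eq_zero] at this
  exact this

theorem res_eq_of_mul_eq (ht0 : t ≠ 0) {b b' : B} (h : b * t = b' * t) : B.res b = B.res b' := by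
  by_contra hne
  apply ht0
  have hu : IsUnit (b - b') := by
    by_contra hnu
    have := (mem_maximalIdeal_iff B (b - b')).1 ((mem_maximalIdeal _).2 hnu)
    rw [map_sub, sub_eq_zero] at this
    exact hne this
  have h0 : (b - b') * t = 0 := by rw [sub_mul, h, sub_self]
  exact (hu.mul_right_eq_zero).1 h0

/-- The torsor square: for a small extension `μ : B ⟶ A` with kernel generated by `t`, the fibre product
`P = B ×_A B` is also `B ×_k k[ε]`, via `w ↦ (res w, c)` where `p₂ w - p₁ w = c t`. -/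
theorem exists_torsor_square [IsNoetherianRing Λ] [Module.Finite Λ k]
    (hsurj : Function.Surjective μ) (ht : RingHom.ker μ.toAlgHom = Ideal.span {t}) (ht0 : t ≠ 0)
    (hm : maximalIdeal B * RingHom.ker μ.toAlgHom = ⊥) :
    ∃ (P : Art Λ k) (p₁ p₂ : P ⟶ B) (q : P ⟶ dual Λ k),
      IsFibreProd p₁ p₂ μ μ ∧ IsFibreProd p₁ q (toBase B) (toBase (dual Λ k)) ∧
      ∀ (w : P) (b : B), p₂ w - p₁ w = b * t →
        q w = ((B.res (p₁ w), B.res b) : TrivSqZeroExt k k) := by
  obtain ⟨P, p₁, p₂, hP⟩ := Groth.Agent.Lib.ArtFunFibre.exists_isFibreProd_of_surjective μ μ hsurj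
  have htker : μ t = 0 := by
    have : t ∈ RingHom.ker μ.toAlgHom := by rw [ht]; exact Ideal.mem_span_singleton_self t
    exact this
  have hex : ∀ w : P, ∃ b : B, p₂ w - p₁ w = b * t := by
    intro w
    have : p₂ w - p₁ w ∈ RingHom.ker μ.toAlgHom := by
      rw [RingHom.mem_ker]
      rw [map_sub, ← hP.w_apply w, sub_self]
    rw [ht] at this
    obtain ⟨b, hb⟩ := Ideal.mem_span_singleton'.1 this
    exact ⟨b, hb.symm⟩
  choose β hβ using hex
  let D : P → k := fun w => B.res (β w)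
  have hD : ∀ (w : P) (b : B), p₂ w - p₁ w = b * t → D w = B.res b := by
    intro w b hb
    exact res_eq_of_mul_eq t ht0 ((hβ w).symm.trans hb)
  have hres₂ : ∀ w : P, B.res (p₂ w) = B.res (p₁ w) := fun w => by
    rw [res_app, res_app]
  have hadd : ∀ x y, D (x + y) = D x + D y := by
    intro x y
    rw [hD (x + y) (β x + β y) (by rw [map_add, map_add, add_mul, ← hβ, ← hβ]; ring), map_add]
  have hmul : ∀ x y, D (x * y) = P.res x * D y + P.res y * D x := by
    intro x y
    rw [hD (x * y) (p₂ x * β y + p₁ y * β x) (by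
      rw [map_mul, map_mul, add_mul, mul_assoc, mul_assoc, ← hβ, ← hβ]; ring), map_add, map_mul,
      map_mul, res_app, res_app]
  have hΛ : ∀ c : Λ, D (algebraMap Λ P c) = 0 := by
    intro c
    rw [hD (algebraMap Λ P c) 0 (by
      rw [zero_mul, sub_eq_zero]
      exact (p₂.toAlgHom.commutes c).trans (p₁.toAlgHom.commutes c).symm), map_zero]
  refine ⟨P, p₁, p₂, mkDual P D hadd hmul hΛ, hP, ?_, ?_⟩
  · refine ⟨?_, ?_, ?_⟩
    · rw [eq_toBase (p₁ ≫ toBase B), eq_toBase (mkDual P D hadd hmul hΛ ≫ toBase _)]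
    · intro w w' h1 h2
      apply hP.inj _ _ h1
      have h3 : D w = D w' := congrArg TrivSqZeroExt.snd h2
      have h4 : β w * t = β w' * t := mul_eq_mul_of_res_eq μ hm h3 htker
      have h5 : p₂ w - p₁ w = p₂ w' - p₁ w' := by rw [hβ w, hβ w', h4]
      rw [h1] at h5
      exact sub_left_injective h5
    · intro b e hbe
      obtain ⟨b', hb'⟩ := B.res_surjective e.snd
      obtain ⟨w, hw1, hw2⟩ := hP.surj b (b + b' * t) (by
        rw [map_add, map_mul, htker, mul_zero, add_zero])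
      refine ⟨w, hw1, ?_⟩
      rw [mkDual_apply]
      apply TrivSqZeroExt.ext
      · change P.res w = e.fst
        have : B.res b = e.fst := hbe
        rw [← this, ← hw1, res_app]
      · change D w = e.snd
        rw [hD w b' (by rw [hw1, hw2]; ring), hb']
  · intro w b hb
    rw [mkDual_apply, hD w b hb, ← res_app p₁ w]

end Square

section Functor

variable [IsNoetherianRing Λ] [Module.Finite Λ k]

/-- the torsor square of a small extension, hiding the generator. -/
theorem exists_torsor_square' {B A : Art Λ k} (μ : B ⟶ A) (hμ : IsSmallExt μ) :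
    ∃ (P : Art Λ k) (p₁ p₂ : P ⟶ B) (q : P ⟶ dual Λ k),
      IsFibreProd p₁ p₂ μ μ ∧ IsFibreProd p₁ q (toBase B) (toBase (dual Λ k)) := by
  obtain ⟨hsurj, hne, ⟨t, ht⟩, hm⟩ := hμ
  have ht' : RingHom.ker μ.toAlgHom = Ideal.span {t} := ht
  have ht0 : t ≠ 0 := by
    intro h0
    apply hne
    rw [ht', h0]
    exact Ideal.span_singleton_eq_bot.2 rfl
  obtain ⟨P, p₁, p₂, q, hP, hQ, _⟩ := exists_torsor_square μ t hsurj ht' ht0 hm
  exact ⟨P, p₁, p₂, q, hP, hQ⟩

/-- The basic adjusting lemma: `η : F → G` a natural family of maps, surjective on tangent spaces.  If `x' ∈ F(B)` and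
`y ∈ G(B)` have the same image in `G(A)` (for a small extension `B → A`) then `x'` can be moved inside its fibre
over `F(A)` to an element mapping to `y`. -/
theorem exists_adjust {F : Art Λ k ⥤ Type v} {G : Art Λ k ⥤ Type w}
    (η : ∀ A, F.obj A → G.obj A)
    (hη : ∀ {A B : Art Λ k} (f : A ⟶ B) (x : F.obj A), η B (F.map f x) = G.map f (η A x))
    (hFk : Subsingleton (F.obj (base Λ k)))
    (hFeps : ∀ ⦃P B : Art Λ k⦄ (p : P ⟶ B) (q : P ⟶ dual Λ k)
      (h : IsFibreProd p q (toBase B) (toBase (dual Λ k))), Function.Surjective (cmp F h))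
    (hGbar : Hbar G)
    (hGeps : ∀ ⦃P B : Art Λ k⦄ (p : P ⟶ B) (q : P ⟶ dual Λ k)
      (h : IsFibreProd p q (toBase B) (toBase (dual Λ k))), Function.Injective (cmp G h))
    (htan : Function.Surjective (η (dual Λ k)))
    {B A : Art Λ k} (μ : B ⟶ A) (hμ : IsSmallExt μ) (x' : F.obj B) (y : G.obj B)
    (hxy : G.map μ (η B x') = G.map μ y) :
    ∃ z : F.obj B, F.map μ z = F.map μ x' ∧ η B z = y := by
  obtain ⟨P, p₁, p₂, q, hP, hQ⟩ := exists_torsor_square' μ hμ
  obtain ⟨wG, hwG⟩ := hGbar p₁ p₂ μ μ hP hμ ⟨(η B x', y), hxy⟩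
  have hwG1 : G.map p₁ wG = η B x' := congrArg (fun t => t.1.1) hwG
  have hwG2 : G.map p₂ wG = y := congrArg (fun t => t.1.2) hwG
  obtain ⟨s, hs⟩ := htan (G.map q wG)
  obtain ⟨wF, hwF⟩ := hFeps p₁ q hQ ⟨(x', s), Subsingleton.elim _ _⟩
  have hwF1 : F.map p₁ wF = x' := congrArg (fun t => t.1.1) hwF
  have hwF2 : F.map q wF = s := congrArg (fun t => t.1.2) hwF
  have hw : η P wF = wG := by
    apply hGeps p₁ q hQ
    apply FibProd.ext
    · change G.map p₁ (η P wF) = G.map p₁ wG
      rw [← hη, hwF1, hwG1]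
    · change G.map q (η P wF) = G.map q wG
      rw [← hη, hwF2, hs]
  refine ⟨F.map p₂ wF, ?_, ?_⟩
  · rw [← hwF1, ← Functor.map_comp_apply, ← Functor.map_comp_apply, hP.w]
  · rw [hη, hw, hwG2]

/-- injectivity propagates along a small extension when the tangent map is injective. -/
theorem eq_of_tangent_injective {F : Art Λ k ⥤ Type v} {G : Art Λ k ⥤ Type w}
    (η : ∀ A, F.obj A → G.obj A)
    (hη : ∀ {A B : Art Λ k} (f : A ⟶ B) (x : F.obj A), η B (F.map f x) = G.map f (η A x))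
    (hFbar : Hbar F)
    (hFeps : ∀ ⦃P B : Art Λ k⦄ (p : P ⟶ B) (q : P ⟶ dual Λ k)
      (h : IsFibreProd p q (toBase B) (toBase (dual Λ k))), Function.Injective (cmp F h))
    (hGsq : ∀ ⦃P B A : Art Λ k⦄ (p₁ p₂ : P ⟶ B) (μ : B ⟶ A) (h : IsFibreProd p₁ p₂ μ μ),
      IsSmallExt μ → Function.Injective (cmp G h))
    (htan : Function.Injective (η (dual Λ k)))
    {B A : Art Λ k} (μ : B ⟶ A) (hμ : IsSmallExt μ) (x x' : F.obj B)
    (hx : F.map μ x = F.map μ x') (hxy : η B x = η B x') : x = x' := by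
  obtain ⟨P, p₁, p₂, q, hP, hQ⟩ := exists_torsor_square' μ hμ
  obtain ⟨w, hw⟩ := hFbar p₁ p₂ μ μ hP hμ ⟨(x, x'), hx⟩
  have hw1 : F.map p₁ w = x := congrArg (fun t => t.1.1) hw
  have hw2 : F.map p₂ w = x' := congrArg (fun t => t.1.2) hw
  obtain ⟨δ, hδ1, hδ2⟩ := exists_hom_of_isFibreProd hP (𝟙 B) (𝟙 B) rfl
  have h1 : η P w = η P (F.map δ x) := by
    apply hGsq p₁ p₂ μ hP hμ
    apply FibProd.ext
    · change G.map p₁ (η P w) = G.map p₁ (η P (F.map δ x))
      rw [← hη, ← hη, hw1, ← Functor.map_comp_apply, hδ1, Functor.map_id_apply]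
    · change G.map p₂ (η P w) = G.map p₂ (η P (F.map δ x))
      rw [← hη, ← hη, hw2, ← Functor.map_comp_apply, hδ2, Functor.map_id_apply, hxy]
  have h2 : w = F.map δ x := by
    apply hFeps p₁ q hQ
    apply FibProd.ext
    · change F.map p₁ w = F.map p₁ (F.map δ x)
      rw [hw1, ← Functor.map_comp_apply, hδ1, Functor.map_id_apply]
    · change F.map q w = F.map q (F.map δ x)
      apply htan
      rw [hη, hη, h1]
  rw [← hw2, h2, ← Functor.map_comp_apply, hδ2, Functor.map_id_apply]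

/-- if the tangent space is a point, fibres of `F(B) → F(A)` are subsingletons for small extensions. -/
theorem eq_of_subsingleton_tangent {F : Art Λ k ⥤ Type v}
    (hFbar : Hbar F)
    (hFeps : ∀ ⦃P B : Art Λ k⦄ (p : P ⟶ B) (q : P ⟶ dual Λ k)
      (h : IsFibreProd p q (toBase B) (toBase (dual Λ k))), Function.Injective (cmp F h))
    (htan : Subsingleton (F.obj (dual Λ k)))
    {B A : Art Λ k} (μ : B ⟶ A) (hμ : IsSmallExt μ) (x x' : F.obj B)
    (hx : F.map μ x = F.map μ x') : x = x' := by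
  obtain ⟨P, p₁, p₂, q, hP, hQ⟩ := exists_torsor_square' μ hμ
  obtain ⟨w, hw⟩ := hFbar p₁ p₂ μ μ hP hμ ⟨(x, x'), hx⟩
  have hw1 : F.map p₁ w = x := congrArg (fun t => t.1.1) hw
  have hw2 : F.map p₂ w = x' := congrArg (fun t => t.1.2) hw
  obtain ⟨δ, hδ1, hδ2⟩ := exists_hom_of_isFibreProd hP (𝟙 B) (𝟙 B) rfl
  have h2 : w = F.map δ x := by
    apply hFeps p₁ q hQ
    apply FibProd.ext
    · change F.map p₁ w = F.map p₁ (F.map δ x)
      rw [hw1, ← Functor.map_comp_apply, hδ1, Functor.map_id_apply]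
    · exact Subsingleton.elim _ _
  rw [← hw2, h2, ← Functor.map_comp_apply, hδ2, Functor.map_id_apply]

end Functor

end Groth.Agent.Lib.H59ArtFunTorsor
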