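import Groth.Agent.Lib.H71ArtFunFormal
import Mathlib.RingTheory.AdicCompletion.RingHom

/-!
# Maps out of a pro-representing ring (helper71)

For a universal family `ξ` over `R`, maps `R → S` of coefficient rings correspond bijectively to
families over `S` (Yoneda for pro-representable functors).
-/

set_option autoImplicit false
universe u v

namespace Groth.Agent.Lib.H71ArtFunProRep

open CategoryTheory ArtFun ArtFun.Art Groth.Agent.Lib.ArtFunBasic Groth.Agent.Lib.H71ArtFunFormal

variable {Λ : Type u} {k : Type u} [CommRing Λ] [Field k] [Algebra Λ k]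

variable {F : Art Λ k ⥤ Type v}

section Along

variable {R S T : Type u} [CommRing R] [Algebra Λ R] {resR : R →ₐ[Λ] k}
  [CommRing S] [Algebra Λ S] {resS : S →ₐ[Λ] k} [CommRing T] [Algebra Λ T] {resT : T →ₐ[Λ] k}

theorem family_ext' {ξ ξ' : Family R resR F} (h : ∀ A φ, ξ.app A φ = ξ'.app A φ) : ξ = ξ' := by
  cases ξ; cases ξ'; congr; funext A φ; exact h A φ

theorem along_id (ξ : Family R resR F) : ξ.along (AlgHom.id Λ R) (AlgHom.comp_id _) = ξ :=
  family_ext' fun _ _ => rfl

theorem along_along (ξ : Family R resR F) (g : R →ₐ[Λ] S) (hg : resS.comp g = resR)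
    (h : S →ₐ[Λ] T) (hh : resT.comp h = resS) :
    (ξ.along g hg).along h hh =
      ξ.along (h.comp g) (by rw [← AlgHom.comp_assoc, hh, hg]) :=
  family_ext' fun _ _ => rfl

end Along

section Lift

variable (R S : CRing Λ k)

/-- Gluing a compatible system of maps `R → S/m^(n+1)` into a map `R → S`. -/
theorem exists_algHom_of_compatible
    (g : ∀ n : ℕ, HomSet R.carrier R.res (S.trunc n))
    (hg : ∀ n, HomSet.map (S.truncMap n) (g (n + 1)) = g n) :
    ∃ (G : R.carrier →ₐ[Λ] S.carrier) (hG : S.res.comp G = R.res),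
      ∀ n, (⟨(S.truncHom n).1.comp G, by rw [← AlgHom.comp_assoc, (S.truncHom n).2, hG]⟩ :
        HomSet R.carrier R.res (S.trunc n)) = g n := by
  have : IsAdicComplete (IsLocalRing.maximalIdeal S.carrier) S.carrier := S.isAdicComplete
  let a : ℕ → ℕ := fun n => n + 1
  have ha : StrictMono a := fun _ _ h => Nat.succ_lt_succ h
  let f : (n : ℕ) → R.carrier →+* S.carrier ⧸ (IsLocalRing.maximalIdeal S.carrier) ^ a n :=
    fun n => ((g n).1 : R.carrier →+* S.trunc n)
  have hf : ∀ {m : ℕ}, (Ideal.Quotient.factorPow (IsLocalRing.maximalIdeal S.carrier)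
      (ha.monotone m.le_succ)).comp (f (m + 1)) = f m := by
    intro m
    ext x
    have h1 : (HomSet.map (S.truncMap m) (g (m + 1))).1 x = (g m).1 x := by rw [hg m]
    change (S.truncMap m).toAlgHom ((g (m + 1)).1 x) = (g m).1 x at h1
    change Ideal.Quotient.factorPow (IsLocalRing.maximalIdeal S.carrier) (ha.monotone m.le_succ) ((g (m + 1)).1 x) = (g m).1 x
    rw [← h1]
    obtain ⟨y, hy⟩ := Ideal.Quotient.mk_surjective ((g (m + 1)).1 x)
    rw [← hy]
    rfl
  let G₀ : R.carrier →+* S.carrier :=
    IsAdicComplete.StrictMono.liftRingHom (IsLocalRing.maximalIdeal S.carrier) ha f hf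
  have hG₀ : ∀ (n : ℕ) (x : R.carrier), Ideal.Quotient.mk (S.mpow n) (G₀ x) = (g n).1 x := by
    intro n x
    exact IsAdicComplete.StrictMono.mk_liftRingHom (IsLocalRing.maximalIdeal S.carrier) ha f hf x
  have hsep : ∀ x y : S.carrier, (∀ n, Ideal.Quotient.mk (S.mpow n) x = Ideal.Quotient.mk (S.mpow n) y) →
      x = y := by
    intro x y hxy
    rw [← sub_eq_zero]
    have hmem : x - y ∈ ⨅ i : ℕ, IsLocalRing.maximalIdeal S.carrier ^ i := by
      rw [Ideal.mem_iInf]
      intro i
      have h2 := hxy i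
      rw [Ideal.Quotient.eq] at h2
      exact Ideal.pow_le_pow_right (Nat.le_succ i) h2
    rw [Ideal.iInf_pow_eq_bot_of_isLocalRing _ Ideal.IsPrime.ne_top'] at hmem
    exact hmem
  let G : R.carrier →ₐ[Λ] S.carrier :=
    { G₀ with
      commutes' := by
        intro r
        apply hsep
        intro n
        change Ideal.Quotient.mk (S.mpow n) (G₀ (algebraMap Λ R.carrier r)) = _
        rw [hG₀ n, (g n).1.commutes]
        rfl }
  have hGx : ∀ (n : ℕ) (x : R.carrier), Ideal.Quotient.mk (S.mpow n) (G x) = (g n).1 x := hG₀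
  have hG : S.res.comp G = R.res := by
    apply AlgHom.ext
    intro x
    have h0 : (S.trunc 0).res ((g 0).1 x) = R.res x := DFunLike.congr_fun (g 0).2 x
    rw [← h0, ← hGx 0 x]
    rfl
  refine ⟨G, hG, fun n => ?_⟩
  apply Subtype.ext
  apply AlgHom.ext
  intro x
  exact hGx n x

end Lift

section Universal

variable {R S : CRing Λ k} (ξ : Family R.carrier R.res F) (hξ : IsUniversal ξ)

include hξ in
theorem along_injective (g g' : R.carrier →ₐ[Λ] S.carrier) (hg : S.res.comp g = R.res)
    (hg' : S.res.comp g' = R.res) (h : ξ.along g hg = ξ.along g' hg') : g = g' := by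
  apply algHom_eq_of_forall_trunc_eq S
  intro n
  have h1 : (ξ.along g hg).app (S.trunc n) (S.truncHom n) =
      (ξ.along g' hg').app (S.trunc n) (S.truncHom n) := by rw [h]
  have h2 := (hξ (S.trunc n)).1 h1
  exact congrArg Subtype.val h2

include hξ in
theorem along_surjective (ζ : Family S.carrier S.res F) :
    ∃ (g : R.carrier →ₐ[Λ] S.carrier) (hg : S.res.comp g = R.res), ξ.along g hg = ζ := by
  choose g hgn using fun n : ℕ => (hξ (S.trunc n)).2 (ζ.toFormalElt.elt n)
  have hcompat : ∀ n, HomSet.map (S.truncMap n) (g (n + 1)) = g n := by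
    intro n
    apply (hξ (S.trunc n)).1
    rw [ξ.natural, hgn, hgn, ζ.toFormalElt.compat]
  obtain ⟨G, hG, hGn⟩ := exists_algHom_of_compatible R S g hcompat
  refine ⟨G, hG, ?_⟩
  apply toFormalElt_injective
  apply FormalElt.ext'
  intro n
  change (ξ.along G hG).toFormalElt.elt n = ζ.toFormalElt.elt n
  rw [toFormalElt_along_elt, hGn n, hgn]

end Universal

/-- Two pro-representing pairs of the same functor are uniquely isomorphic. -/
theorem existsUnique_algEquiv (P Q : ProRep F) :
    ∃! e : P.ring.carrier ≃ₐ[Λ] Q.ring.carrier,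
      ∃ he : Q.ring.res.comp e.toAlgHom = P.ring.res, P.family.along e.toAlgHom he = Q.family := by
  obtain ⟨g, hg, hgξ⟩ := along_surjective P.family P.universal Q.family
  obtain ⟨h, hh, hhζ⟩ := along_surjective Q.family Q.universal P.family
  have hhg : h.comp g = AlgHom.id Λ _ := by
    apply along_injective P.family P.universal _ _ (by rw [← AlgHom.comp_assoc, hh, hg])
      (AlgHom.comp_id _)
    rw [← along_along P.family g hg h hh, hgξ, hhζ, along_id]
  have hgh : g.comp h = AlgHom.id Λ _ := by
    apply along_injective Q.family Q.universal _ _ (by rw [← AlgHom.comp_assoc, hg, hh])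
      (AlgHom.comp_id _)
    rw [← along_along Q.family h hh g hg, hhζ, hgξ, along_id]
  refine ⟨AlgEquiv.ofAlgHom g h hgh hhg, ⟨hg, hgξ⟩, ?_⟩
  rintro e' ⟨he', hfam⟩
  have : e'.toAlgHom = g :=
    along_injective P.family P.universal _ _ he' hg (hfam.trans hgξ.symm)
  apply AlgEquiv.ext
  intro x
  exact DFunLike.congr_fun this x

end Groth.Agent.Lib.H71ArtFunProRep
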