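import Groth.Prelude.Def_W4sfdMinVersal
import Groth.Agent.Lib.ArtFunBasic
import Groth.Agent.Lib.ArtFunFormal
import Groth.Agent.Lib.ArtFunFibre
import Groth.Agent.Lib.H59ArtFunTorsor
import Groth.Agent.Lib.H59ArtFunVersal
import Groth.Agent.Lib.H71ArtFunProRep

/-!
# Sections of surjections of coefficient rings from relative smoothness (helper59)

`exists_section`: let `u : P → S` be a surjection of coefficient rings under an augmented algebra `R` (`c : R → P`,
`g = u ∘ c : R → S`).  If `h_S → h_R` is smooth (the family `(self R).along g` is versal) then `u` has a section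
`s : S → P` with `s ∘ g = c`.
-/

set_option autoImplicit false
set_option linter.unusedSectionVars false
universe u v
open CategoryTheory ArtFun ArtFun.Art IsLocalRing

namespace Groth.Agent.Lib.H59ArtFunSection

variable {Λ : Type u} {k : Type u} [CommRing Λ] [Field k] [Algebra Λ k]

/-- elements of a coefficient ring agreeing in all truncations are equal. -/
theorem eq_of_forall_truncHom_eq (S : CRing Λ k) (x y : S.carrier)
    (h : ∀ n, (S.truncHom n).1 x = (S.truncHom n).1 y) : x = y := by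
  rw [← sub_eq_zero]
  have hmem : x - y ∈ ⨅ i : ℕ, maximalIdeal S.carrier ^ i := by
    rw [Ideal.mem_iInf]
    intro i
    have h2 : Ideal.Quotient.mk (CRing.mpow S i) x = Ideal.Quotient.mk (CRing.mpow S i) y := h i
    rw [Ideal.Quotient.eq] at h2
    exact Ideal.pow_le_pow_right (Nat.le_succ i) h2
  rw [Ideal.iInf_pow_eq_bot_of_isLocalRing _ Ideal.IsPrime.ne_top'] at hmem
  exact hmem

/-- the residue map of the `0`-th truncation is injective. -/
theorem res_trunc_zero_injective (S : CRing Λ k) : Function.Injective (S.trunc 0).res := by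
  rw [injective_iff_map_eq_zero]
  intro x hx
  obtain ⟨a, rfl⟩ := Ideal.Quotient.mk_surjective x
  have ha : S.res a = 0 := hx
  change (Ideal.Quotient.mk (CRing.mpow S 0) a : S.carrier ⧸ CRing.mpow S 0) = 0
  rw [Ideal.Quotient.eq_zero_iff_mem]
  change a ∈ maximalIdeal S.carrier ^ (0 + 1)
  rw [zero_add, pow_one]
  exact (CRing.mem_maximalIdeal_iff S a).2 ha

theorem truncHom_surjective (S : CRing Λ k) (n : ℕ) : Function.Surjective (S.truncHom n).1 :=
  Ideal.Quotient.mk_surjective

theorem truncHom_eq_iff (S : CRing Λ k) (n : ℕ) (x y : S.carrier) :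
    (S.truncHom n).1 x = (S.truncHom n).1 y ↔ x - y ∈ maximalIdeal S.carrier ^ (n + 1) :=
  Ideal.Quotient.eq

theorem truncMapOfHom_truncHom {P S : CRing Λ k} (u : P.carrier →ₐ[Λ] S.carrier)
    (hu : S.res.comp u = P.res) (n : ℕ) (p : P.carrier) :
    CRing.truncMapOfHom u hu n ((P.truncHom n).1 p) = (S.truncHom n).1 (u p) := rfl

theorem truncMap_truncHom_apply (S : CRing Λ k) (n : ℕ) (x : S.carrier) :
    S.truncMap n ((S.truncHom (n + 1)).1 x) = (S.truncHom n).1 x := rfl

section Section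

variable [IsNoetherianRing Λ] [Module.Finite Λ k]
variable {R : Type u} [CommRing R] [Algebra Λ R] {resR : R →ₐ[Λ] k} (S P : CRing Λ k)
  (g : R →ₐ[Λ] S.carrier) (hg : S.res.comp g = resR)
  (c : R →ₐ[Λ] P.carrier) (hc : P.res.comp c = resR)
  (u : P.carrier →ₐ[Λ] S.carrier) (hu : S.res.comp u = P.res) (huc : u.comp c = g)
  (husurj : Function.Surjective u)
  (hvers : IsVersal ((Family.self R resR).along g hg))

/-- the structure map to the truncations of `P`. -/
noncomputable def cN (n : ℕ) : HomSet R resR (P.trunc n) :=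
  ⟨(P.truncHom n).1.comp c, by rw [← AlgHom.comp_assoc, (P.truncHom n).2, hc]⟩

/-- restriction along `g`. -/
def alongG {A : Art Λ k} (ψ : HomSet S.carrier S.res A) : HomSet R resR A :=
  ⟨ψ.1.comp g, by rw [← AlgHom.comp_assoc, ψ.2, hg]⟩

include hu husurj in
theorem pow_le_map (n : ℕ) (x : S.carrier) (hx : x ∈ maximalIdeal S.carrier ^ n) :
    ∃ p ∈ maximalIdeal P.carrier ^ n, u p = x := by
  have h1 : maximalIdeal S.carrier ≤ (maximalIdeal P.carrier).map (u : P.carrier →+* S.carrier) := by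
    intro y hy
    obtain ⟨p, rfl⟩ := husurj y
    refine Ideal.mem_map_of_mem _ ?_
    rw [CRing.mem_maximalIdeal_iff] at hy ⊢
    rw [← hy, ← hu]
    rfl
  have h2 : x ∈ (maximalIdeal P.carrier ^ n).map (u : P.carrier →+* S.carrier) := by
    rw [Ideal.map_pow]
    exact Ideal.pow_right_mono h1 n hx
  obtain ⟨p, hp, hpx⟩ := (Ideal.mem_map_iff_of_surjective (u : P.carrier →+* S.carrier) husurj).1 h2
  exact ⟨p, hp, hpx⟩

include huc husurj hvers in
theorem exists_step (n : ℕ) (s : HomSet S.carrier S.res (P.trunc n))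
    (hs1 : HomSet.map (CRing.truncMapOfHom u hu n) s = S.truncHom n)
    (hs2 : alongG S g hg s = cN P c hc n) :
    ∃ s' : HomSet S.carrier S.res (P.trunc (n + 1)),
      HomSet.map (CRing.truncMapOfHom u hu (n + 1)) s' = S.truncHom (n + 1) ∧
      alongG S g hg s' = cN P c hc (n + 1) ∧ HomSet.map (P.truncMap n) s' = s := by
  have htsurj : Function.Surjective (S.truncMap n) := by
    intro y
    obtain ⟨a, rfl⟩ := Ideal.Quotient.mk_surjective y
    exact ⟨Ideal.Quotient.mk _ a, rfl⟩
  obtain ⟨Q, p₁, p₂, hQ⟩ := Groth.Agent.Lib.ArtFunFibre.exists_isFibreProd_of_surjective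
    (CRing.truncMapOfHom u hu n) (S.truncMap n) htsurj
  obtain ⟨μ, hμ1, hμ2⟩ := Groth.Agent.Lib.H59ArtFunTorsor.exists_hom_of_isFibreProd hQ
    (P.truncMap n) (CRing.truncMapOfHom u hu (n + 1)) (CRing.truncMapOfHom_truncMap u hu n).symm
  have hμ1a : ∀ z, p₁ (μ z) = P.truncMap n z := fun z =>
    congrArg (fun f : P.trunc (n + 1) ⟶ P.trunc n => f z) hμ1
  have hμ2a : ∀ z, p₂ (μ z) = CRing.truncMapOfHom u hu (n + 1) z := fun z =>
    congrArg (fun f : P.trunc (n + 1) ⟶ S.trunc (n + 1) => f z) hμ2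
  have hμsurj : Function.Surjective μ := by
    intro q
    obtain ⟨p, hp⟩ := truncHom_surjective P n (p₁ q)
    obtain ⟨x, hx⟩ := truncHom_surjective S (n + 1) (p₂ q)
    have hcomp := hQ.w_apply q
    rw [← hp, ← hx, truncMapOfHom_truncHom, truncMap_truncHom_apply, truncHom_eq_iff] at hcomp
    have hxup : x - u p ∈ maximalIdeal S.carrier ^ (n + 1) := by
      have : x - u p = -(u p - x) := by ring
      rw [this]
      exact neg_mem hcomp
    obtain ⟨p', hp', hp'x⟩ := pow_le_map S P u hu husurj (n + 1) (x - u p) hxup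
    refine ⟨(P.truncHom (n + 1)).1 (p + p'), ?_⟩
    apply hQ.inj
    · rw [hμ1a, truncMap_truncHom_apply, ← hp, truncHom_eq_iff]
      have : p + p' - p = p' := by ring
      rw [this]
      exact hp'
    · rw [hμ2a, truncMapOfHom_truncHom, ← hx, map_add, hp'x]
      have : u p + (x - u p) = x := by ring
      rw [this]
  obtain ⟨φ, hφ1, hφ2⟩ := Groth.Agent.Lib.ArtFunBasic.exists_lift_of_isFibreProd hQ s
    (S.truncHom (n + 1)) (by rw [hs1, CRing.truncMap_truncHom])
  obtain ⟨ψ, hψ1, hψ2⟩ := hvers μ hμsurj φ (cN P c hc (n + 1)) (by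
    change HomSet.map μ (cN P c hc (n + 1)) = alongG S g hg φ
    apply Groth.Agent.Lib.ArtFunBasic.eq_of_isFibreProd hQ
    · apply Groth.Agent.Lib.ArtFunBasic.homSet_ext
      intro r
      change p₁ (μ ((P.truncHom (n + 1)).1 (c r))) = p₁ (φ.1 (g r))
      rw [hμ1a, truncMap_truncHom_apply]
      have h1 : p₁ (φ.1 (g r)) = s.1 (g r) :=
        congrArg (fun t : HomSet S.carrier S.res _ => t.1 (g r)) hφ1
      have h2 : s.1 (g r) = (P.truncHom n).1 (c r) :=
        congrArg (fun t : HomSet R resR _ => t.1 r) hs2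
      rw [h1, h2]
    · apply Groth.Agent.Lib.ArtFunBasic.homSet_ext
      intro r
      change p₂ (μ ((P.truncHom (n + 1)).1 (c r))) = p₂ (φ.1 (g r))
      rw [hμ2a, truncMapOfHom_truncHom]
      have h1 : p₂ (φ.1 (g r)) = (S.truncHom (n + 1)).1 (g r) :=
        congrArg (fun t : HomSet S.carrier S.res _ => t.1 (g r)) hφ2
      rw [h1, ← huc]
      rfl)
  have hψ1a : ∀ x, μ (ψ.1 x) = φ.1 x := fun x =>
    congrArg (fun t : HomSet S.carrier S.res _ => t.1 x) hψ1
  refine ⟨ψ, ?_, hψ2, ?_⟩
  · apply Groth.Agent.Lib.ArtFunBasic.homSet_ext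
    intro x
    change CRing.truncMapOfHom u hu (n + 1) (ψ.1 x) = _
    rw [← hμ2a, hψ1a]
    exact congrArg (fun t : HomSet S.carrier S.res _ => t.1 x) hφ2
  · apply Groth.Agent.Lib.ArtFunBasic.homSet_ext
    intro x
    change P.truncMap n (ψ.1 x) = _
    rw [← hμ1a, hψ1a]
    exact congrArg (fun t : HomSet S.carrier S.res _ => t.1 x) hφ1

include hc hu huc husurj hvers in
/-- a surjection of coefficient rings onto a relatively smooth one has a section. -/
theorem exists_section : ∃ s : S.carrier →ₐ[Λ] P.carrier, P.res.comp s = S.res ∧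
    u.comp s = AlgHom.id Λ S.carrier ∧ s.comp g = c := by
  have hbase : ∃ s : HomSet S.carrier S.res (P.trunc 0),
      HomSet.map (CRing.truncMapOfHom u hu 0) s = S.truncHom 0 ∧ alongG S g hg s = cN P c hc 0 := by
    obtain ⟨ψ, _, hψ2⟩ := hvers (toBase (P.trunc 0)) (Groth.Agent.Lib.ArtFunBasic.toBase_surjective _)
      (Groth.Agent.Lib.ArtFunBasic.homSetBase S.carrier S.res) (cN P c hc 0)
      (Subsingleton.elim (α := HomSet R resR (base Λ k)) _ _)
    refine ⟨ψ, ?_, hψ2⟩
    apply Groth.Agent.Lib.ArtFunBasic.homSet_ext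
    intro x
    apply res_trunc_zero_injective S
    rw [Groth.Agent.Lib.ArtFunBasic.homSet_res_apply, Groth.Agent.Lib.ArtFunBasic.homSet_res_apply]
  have step : ∀ (n : ℕ) (s : {s : HomSet S.carrier S.res (P.trunc n) //
      HomSet.map (CRing.truncMapOfHom u hu n) s = S.truncHom n ∧ alongG S g hg s = cN P c hc n}),
      ∃ s' : {s : HomSet S.carrier S.res (P.trunc (n + 1)) //
        HomSet.map (CRing.truncMapOfHom u hu (n + 1)) s = S.truncHom (n + 1) ∧
          alongG S g hg s = cN P c hc (n + 1)}, HomSet.map (P.truncMap n) s'.1 = s.1 := by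
    intro n s
    obtain ⟨s', h1, h2, h3⟩ := exists_step S P g hg c hc u hu huc husurj hvers n s.1 s.2.1 s.2.2
    exact ⟨⟨s', h1, h2⟩, h3⟩
  choose next hnext using step
  obtain ⟨s0, hs0⟩ := hbase
  let seq : ∀ n : ℕ, {s : HomSet S.carrier S.res (P.trunc n) //
      HomSet.map (CRing.truncMapOfHom u hu n) s = S.truncHom n ∧ alongG S g hg s = cN P c hc n} :=
    fun n => Nat.rec (motive := fun n => {s : HomSet S.carrier S.res (P.trunc n) //
      HomSet.map (CRing.truncMapOfHom u hu n) s = S.truncHom n ∧ alongG S g hg s = cN P c hc n})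
      ⟨s0, hs0⟩ (fun n prev => next n prev) n
  have hseq : ∀ n, HomSet.map (P.truncMap n) (seq (n + 1)).1 = (seq n).1 := fun n => hnext n (seq n)
  obtain ⟨G, hG, hGn⟩ := Groth.Agent.Lib.H71ArtFunProRep.exists_algHom_of_compatible S P
    (fun n => (seq n).1) hseq
  have hGn' : ∀ n x, (P.truncHom n).1 (G x) = (seq n).1.1 x := fun n x =>
    congrArg (fun t : HomSet S.carrier S.res (P.trunc n) => t.1 x) (hGn n)
  refine ⟨G, hG, ?_, ?_⟩
  · apply Groth.Agent.Lib.ArtFunBasic.algHom_eq_of_forall_trunc_eq S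
    intro n
    apply AlgHom.ext
    intro x
    change (S.truncHom n).1 (u (G x)) = (S.truncHom n).1 x
    rw [← truncMapOfHom_truncHom u hu n, hGn']
    exact congrArg (fun t : HomSet S.carrier S.res (S.trunc n) => t.1 x) (seq n).2.1
  · apply Groth.Agent.Lib.ArtFunBasic.algHom_eq_of_forall_trunc_eq P
    intro n
    apply AlgHom.ext
    intro r
    change (P.truncHom n).1 (G (g r)) = (P.truncHom n).1 (c r)
    rw [hGn']
    exact congrArg (fun t : HomSet R resR (P.trunc n) => t.1 r) (seq n).2.2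

end Section

end Groth.Agent.Lib.H59ArtFunSection
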