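import Groth.Agent.Lib.H59PowerSeriesSmooth

/-!
# The base ring as a coefficient ring (helper59)

When `Λ` is a complete local Noetherian ring with `Λ → k` surjective, `Λ` itself is a coefficient ring
(`baseCRing`), `h_Λ` is the one-point functor, and smoothness of `h_R` is versality of `h_R → h_Λ`.
-/

set_option autoImplicit false
set_option linter.unusedSectionVars false
universe u v
open CategoryTheory ArtFun ArtFun.Art IsLocalRing

namespace Groth.Agent.Lib.H59BaseCRing

variable {Λ : Type u} {k : Type u} [CommRing Λ] [Field k] [Algebra Λ k]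

/-- `Λ` as a coefficient ring. -/
noncomputable def baseCRing [IsLocalRing Λ] [IsNoetherianRing Λ]
    [IsAdicComplete (maximalIdeal Λ) Λ] (hk : Function.Surjective (algebraMap Λ k)) : CRing Λ k where
  carrier := Λ
  res := Algebra.ofId Λ k
  res_surjective := hk
  isAdicComplete := inferInstance

/-- `h_Λ(A)` has at most one element. -/
theorem homSet_base_subsingleton (resΛ : Λ →ₐ[Λ] k) (A : Art Λ k) :
    Subsingleton (HomSet Λ resΛ A) := by
  refine ⟨fun φ ψ => Groth.Agent.Lib.ArtFunBasic.homSet_ext fun l => ?_⟩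
  have h1 : φ.1 l = algebraMap Λ A l := φ.1.commutes l
  have h2 : ψ.1 l = algebraMap Λ A l := ψ.1.commutes l
  rw [h1, h2]

/-- the element of `h_Λ(A)`. -/
def homSetBaseElt (A : Art Λ k) : HomSet Λ (Algebra.ofId Λ k) A :=
  ⟨Algebra.ofId Λ A, by
    apply AlgHom.ext
    intro l
    change A.res (algebraMap Λ A l) = algebraMap Λ k l
    exact A.res.commutes l⟩

/-- smoothness of `h_R` is versality over the base. -/
theorem isSmoothFunctor_iff_isVersal {R : Type u} [CommRing R] [Algebra Λ R] (resR : R →ₐ[Λ] k)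
    (hRS : resR.comp (Algebra.ofId Λ R) = Algebra.ofId Λ k) :
    IsSmoothFunctor (hR R resR) ↔
      IsVersal ((Family.self Λ (Algebra.ofId Λ k)).along (Algebra.ofId Λ R) hRS) := by
  constructor
  · intro h B A μ hμ φ y hy
    obtain ⟨ψ, hψ⟩ := h μ hμ φ
    have hsub := homSet_base_subsingleton (Λ := Λ) (k := k) (Algebra.ofId Λ k) B
    exact ⟨ψ, hψ, hsub.elim _ _⟩
  · intro h B A μ hμ φ
    have hsub := homSet_base_subsingleton (Λ := Λ) (k := k) (Algebra.ofId Λ k) A
    obtain ⟨ψ, hψ, _⟩ := h μ hμ φ (homSetBaseElt B) (hsub.elim _ _)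
    exact ⟨ψ, hψ⟩

end Groth.Agent.Lib.H59BaseCRing
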