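import Groth.Agent.Lib.AdicNoeth
import Groth.Agent.Lib.ArtFunFormal
import Groth.Agent.Lib.H59ObsGensArt
import Mathlib.RingTheory.AdicCompletion.LocalRing

/-!
# The completion of an augmented Noetherian local `k`-algebra pro-represents its functor (helper59)

For a Noetherian local `k`-algebra `O` with an augmentation `ρ : O → k`, the completion `Ô` is a coefficient ring and
`h_Ô ≃ h_O` naturally on Artinian objects.
-/

set_option autoImplicit false
set_option linter.unusedSectionVars false
universe u
open CategoryTheory ArtFun ArtFun.Art IsLocalRing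

namespace Groth.Agent.Lib.H59CompletionCRing

open Groth.Agent.Lib.H59ObsGensArt

variable (k : Type u) [Field k]
variable (O : Type u) [CommRing O] [IsLocalRing O] [IsNoetherianRing O] [Algebra k O]
variable {k}
variable (ρ : O →ₐ[k] k)
variable (k)

/-- the canonical map to the completion as a `k`-algebra map. -/
noncomputable def ofₐ : O →ₐ[k] AdicCompletion (maximalIdeal O) O :=
  { (algebraMap O (AdicCompletion (maximalIdeal O) O)) with
    commutes' := fun _ => rfl }

theorem ofₐ_apply (x : O) : ofₐ k O x = AdicCompletion.of (maximalIdeal O) O x := rfl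

/-- evaluation at level `n` as a `k`-algebra map. -/
noncomputable def evalK (n : ℕ) : AdicCompletion (maximalIdeal O) O →ₐ[k] O ⧸ maximalIdeal O ^ n :=
  { (AdicCompletion.evalₐ (maximalIdeal O) n : AdicCompletion (maximalIdeal O) O →+* _) with
    commutes' := fun c => by
      change AdicCompletion.evalₐ (maximalIdeal O) n
        (AdicCompletion.of (maximalIdeal O) O (algebraMap k O c)) = _
      rw [AdicCompletion.evalₐ_of]
      rfl }

theorem evalK_of (n : ℕ) (x : O) :
    evalK k O n (AdicCompletion.of (maximalIdeal O) O x) = Ideal.Quotient.mk _ x :=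
  AdicCompletion.evalₐ_of _ n x

theorem evalK_surjective (n : ℕ) : Function.Surjective (evalK k O n) :=
  AdicCompletion.surjective_evalₐ _ n

variable {k}

/-- the augmentation of the completion. -/
noncomputable def compRes : AdicCompletion (maximalIdeal O) O →ₐ[k] k :=
  (Ideal.Quotient.liftₐ (maximalIdeal O ^ 1) ρ (fun x hx => by
    rw [pow_one] at hx
    exact (mem_maximalIdeal_iff_aug ρ x).1 hx)).comp (evalK k O 1)

theorem compRes_of (x : O) : compRes O ρ (AdicCompletion.of (maximalIdeal O) O x) = ρ x := by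
  rw [compRes, AlgHom.comp_apply, evalK_of]
  rfl

theorem compRes_comp_ofₐ : (compRes O ρ).comp (ofₐ k O) = ρ :=
  AlgHom.ext fun x => compRes_of O ρ x

/-- the completion as a coefficient ring. -/
noncomputable def compCRing : CRing k k where
  carrier := AdicCompletion (maximalIdeal O) O
  isNoetherianRing := Groth.Agent.Lib.AdicNoeth.isNoetherianRing_adicCompletion _
  res := compRes O ρ
  res_surjective := fun c => ⟨algebraMap k _ c, by simp⟩
  isAdicComplete := inferInstance

variable (k) in
/-- elements of the completion killed by evaluation at level `n` lie in the `n`-th power of the maximal ideal. -/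
theorem mem_pow_of_evalK_eq_zero (n : ℕ) (z : AdicCompletion (maximalIdeal O) O)
    (hz : evalK k O n z = 0) :
    z ∈ maximalIdeal (AdicCompletion (maximalIdeal O) O) ^ n := by
  have fg : (maximalIdeal O).FG := Ideal.fg_of_isNoetherianRing _
  have h1 : z ∈ (maximalIdeal O ^ n • ⊤ : Submodule O (AdicCompletion (maximalIdeal O) O)) := by
    rw [AdicCompletion.pow_smul_top_eq_ker_eval fg, LinearMap.mem_ker]
    have h2 : AdicCompletion.evalₐ (maximalIdeal O) n z = 0 := hz
    rw [← AdicCompletion.factor_evalₐ_eq_eval (h := by simp), h2, map_zero]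
  rw [AdicCompletion.maximalIdeal_eq_map, ← Ideal.map_pow, ← Submodule.restrictScalars_mem O,
    ← Ideal.smul_top_eq_map]
  exact h1

variable {O ρ}

/-- an augmentation-compatible map sends the maximal ideal into the maximal ideal. -/
theorem map_mem_maximalIdeal {S : Type u} [CommRing S] [IsLocalRing S] [Algebra k S] (σ : S →ₐ[k] k)
    (A : Art k k) (φ : HomSet S σ A) (x : S) (hx : x ∈ maximalIdeal S) : φ.1 x ∈ maximalIdeal A := by
  rw [Art.mem_maximalIdeal_iff]
  have h1 : A.res (φ.1 x) = σ x := DFunLike.congr_fun φ.2 x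
  rw [h1]
  exact (mem_maximalIdeal_iff_aug σ x).1 hx

theorem map_pow_eq_zero {S : Type u} [CommRing S] [IsLocalRing S] [Algebra k S] (σ : S →ₐ[k] k)
    (A : Art k k) (φ : HomSet S σ A) (N : ℕ) (hN : maximalIdeal A ^ N = ⊥) (x : S)
    (hx : x ∈ maximalIdeal S ^ N) : φ.1 x = 0 := by
  have h1 : φ.1 x ∈ (maximalIdeal S ^ N).map (φ.1 : S →+* A) := Ideal.mem_map_of_mem _ hx
  rw [Ideal.map_pow] at h1
  have hle : (maximalIdeal S).map (φ.1 : S →+* A) ≤ maximalIdeal A := by
    rw [Ideal.map_le_iff_le_comap]
    intro y hy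
    exact map_mem_maximalIdeal σ A φ y hy
  have h2 := Ideal.pow_right_mono hle N h1
  rwa [hN, Ideal.mem_bot] at h2

variable (O ρ)

/-- restriction along `O → Ô`. -/
noncomputable def restrict (A : Art k k) :
    HomSet (AdicCompletion (maximalIdeal O) O) (compRes O ρ) A → HomSet O ρ A :=
  fun φ => ⟨φ.1.comp (ofₐ k O), by rw [← AlgHom.comp_assoc, φ.2, compRes_comp_ofₐ]⟩

theorem restrict_injective (A : Art k k) : Function.Injective (restrict O ρ A) := by
  intro φ φ' h
  obtain ⟨N, hN⟩ := Groth.Agent.Lib.ArtFunFormal.isNilpotent_maximalIdeal A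
  have hN' : maximalIdeal A ^ N = ⊥ := hN
  apply Subtype.ext
  apply AlgHom.ext
  intro x
  obtain ⟨y, hy⟩ := Ideal.Quotient.mk_surjective (evalK k O N x)
  have hz : evalK k O N (x - AdicCompletion.of (maximalIdeal O) O y) = 0 := by
    rw [map_sub, evalK_of, hy, sub_self]
  have hmem := mem_pow_of_evalK_eq_zero k O N _ hz
  have e1 := map_pow_eq_zero (compRes O ρ) A φ N hN' _ hmem
  have e2 := map_pow_eq_zero (compRes O ρ) A φ' N hN' _ hmem
  rw [map_sub, sub_eq_zero] at e1 e2
  have e3 : φ.1 (AdicCompletion.of (maximalIdeal O) O y) =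
      φ'.1 (AdicCompletion.of (maximalIdeal O) O y) :=
    DFunLike.congr_fun (congrArg Subtype.val h) y
  rw [e1, e2, e3]

theorem restrict_surjective (A : Art k k) : Function.Surjective (restrict O ρ A) := by
  intro ψ
  obtain ⟨N, hN⟩ := Groth.Agent.Lib.ArtFunFormal.isNilpotent_maximalIdeal A
  have hN' : maximalIdeal A ^ N = ⊥ := hN
  let ψbar : (O ⧸ maximalIdeal O ^ N) →ₐ[k] A :=
    Ideal.Quotient.liftₐ (maximalIdeal O ^ N) ψ.1 (fun x hx => map_pow_eq_zero ρ A ψ N hN' x hx)
  let φ : AdicCompletion (maximalIdeal O) O →ₐ[k] A := ψbar.comp (evalK k O N)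
  have hφof : ∀ x : O, φ (AdicCompletion.of (maximalIdeal O) O x) = ψ.1 x := by
    intro x
    change ψbar (evalK k O N (AdicCompletion.of (maximalIdeal O) O x)) = _
    rw [evalK_of]
    rfl
  have hφres : A.res.comp φ = compRes O ρ := by
    apply AlgHom.ext
    intro x
    -- both sides are augmentations of the local ring `Ô`
    have key : ∀ (θ : AdicCompletion (maximalIdeal O) O →ₐ[k] k) (x), θ x = compRes O ρ x := by
      intro θ x
      have h1 : x - algebraMap k _ (compRes O ρ x) ∈
          maximalIdeal (AdicCompletion (maximalIdeal O) O) := by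
        rw [mem_maximalIdeal_iff_aug (compRes O ρ), map_sub, AlgHom.commutes]
        simp
      have h2 := (mem_maximalIdeal_iff_aug θ _).1 h1
      rw [map_sub, AlgHom.commutes, sub_eq_zero] at h2
      simpa using h2
    exact key (A.res.comp φ) x
  refine ⟨⟨φ, hφres⟩, ?_⟩
  apply Subtype.ext
  apply AlgHom.ext
  intro x
  exact hφof x

/-- `h_Ô ≃ h_O` on Artinian objects. -/
noncomputable def restrictEquiv (A : Art k k) :
    HomSet (AdicCompletion (maximalIdeal O) O) (compRes O ρ) A ≃ HomSet O ρ A :=
  Equiv.ofBijective (restrict O ρ A) ⟨restrict_injective O ρ A, restrict_surjective O ρ A⟩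

theorem restrictEquiv_map {A B : Art k k} (h : A ⟶ B)
    (φ : HomSet (AdicCompletion (maximalIdeal O) O) (compRes O ρ) A) :
    restrictEquiv O ρ B (HomSet.map h φ) = HomSet.map h (restrictEquiv O ρ A φ) := rfl

end Groth.Agent.Lib.H59CompletionCRing
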