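import Groth.Agent.Lib.H59AddInvComp
import Groth.Agent.Lib.H59ProjClosed
import Groth.Agent.Lib.CurveDeg48g

/-!
# `χ(E ⊗ F) - n χ(F) = ∑_Z length(F_{ξ_Z}) · deg(E|_{Z_red})` on proper schemes of dimension `≤ 1` (helper59)

`Z` runs over the irreducible components of dimension one, `Z_red` is the reduced induced structure
(`(X.irreducibleComponentIdeal Z hZ).radical.subscheme`).  (= S17659, and S1641 for `F = O_X`.)
-/

set_option autoImplicit false
universe u
open CategoryTheory CategoryTheory.Limits AlgebraicGeometry Opposite TopologicalSpace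

namespace Groth.Agent.Lib.H59CurveComp

open Groth.Agent.Lib.CurveDeg48 Groth.Agent.Lib.H90DevHub2 Groth.Agent.Lib.H90DevHub
  Groth.Agent.Lib.H90DevCanon Groth.Agent.Lib.H90DevAtom Groth.Agent.Lib.H59AddInvComp
  Groth.Agent.Lib.H59ProjClosed

theorem le_zero_of_le_one_of_ne_one {x : WithBot ℕ∞} (h : x ≤ 1) (hne : x ≠ 1) : x ≤ 0 := by
  induction x using WithBot.recBotCoe with
  | bot => exact bot_le
  | coe y =>
    have h1 : y ≤ 1 := by exact_mod_cast h
    have hy : y ≠ ⊤ := by
      rintro rfl
      simp at h1
    lift y to ℕ using hy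
    have h2 : y ≤ 1 := by exact_mod_cast h1
    have h3 : y ≠ 1 := by
      rintro rfl
      exact hne rfl
    have h4 : y = 0 := by omega
    subst h4
    exact le_rfl

variable (H : Groth.Agent.Lib.ProperFinHyp.Hyp.{u}) (k : Type u) [Field k] (X : Scheme.{u})
  [X.Over (Spec (CommRingCat.of k))] [IsProper (X ↘ (Spec (CommRingCat.of k)))]

/-- `χ(E ⊗ i_* O_Z) - n χ(i_* O_Z) = deg(i^* E)` for a closed subscheme `Z = V(J)` -/
theorem eulerInv_OZ {n : ℕ} {E : X.Modules} (hE : FlatMod.IsFinLocFreeOfRank n E)
    (J : X.IdealSheafData) :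
    (eulerInv H k X hE).φ (OZ J.subschemeι) =
      @Curv2.deg k _ J.subscheme ⟨J.subschemeι ≫ (X ↘ (Spec (CommRingCat.of k)))⟩
        ((Scheme.Modules.pullback J.subschemeι).obj E) n := by
  haveI : X.IsSeparated :=
    Groth.Agent.Lib.H90ProperFin.isSeparated_of_over_affine (X ↘ (Spec (CommRingCat.of k)))
  letI : J.subscheme.Over (Spec (CommRingCat.of k)) :=
    ⟨J.subschemeι ≫ (X ↘ (Spec (CommRingCat.of k)))⟩
  haveI : J.subschemeι.IsOver (Spec (CommRingCat.of k)) := ⟨rfl⟩
  haveI : E.IsQuasicoherent :=
    (Groth.Agent.Lib.H90Invertible.isCoh_of_isFinLocFree (isFinLocFree_of_isFinLocFreeOfRank hE)).1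
  change Curv2.euler k X (CohB1.tensorMod E (OZ J.subschemeι)) - n * Curv2.euler k X (OZ J.subschemeι) = _
  rw [euler_tensor_OZ k J.subschemeι E, euler_OZ k J.subschemeι]
  rfl

include H in
/-- **Degree formula on the components** -/
theorem eulerInv_eq_finsum [AlgebraicGeometry.IsNoetherian X] (hdim : topologicalKrullDim X ≤ 1)
    {n : ℕ} {E : X.Modules} (hE : FlatMod.IsFinLocFreeOfRank n E) (F : X.Modules)
    (hF : Coh.IsCoh F) :
    Curv2.euler k X (CohB1.tensorMod E F) - n * Curv2.euler k X F =
      ∑ᶠ Z : irreducibleComponents (X : Type u),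
        (if topologicalKrullDim (Z.1 : Set X) = 1 then
          ((Module.length (X.presheaf.stalk Z.2.1.genericPoint)
            (F.presheaf.stalk Z.2.1.genericPoint)).toNat : ℤ) *
            @Curv2.deg k _ (X.irreducibleComponentIdeal Z.1 Z.2).radical.subscheme
              ⟨(X.irreducibleComponentIdeal Z.1 Z.2).radical.subschemeι ≫
                (X ↘ (Spec (CommRingCat.of k)))⟩
              ((Scheme.Modules.pullback
                (X.irreducibleComponentIdeal Z.1 Z.2).radical.subschemeι).obj E) n
        else 0) := by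
  classical
  set A := eulerInv H k X hE with hA
  change A.φ F = _
  have hfin : (irreducibleComponents (X : Type u)).Finite :=
    TopologicalSpace.NoetherianSpace.finite_irreducibleComponents
  haveI : Fintype (irreducibleComponents (X : Type u)) := hfin.fintype
  rw [finsum_eq_sum_of_fintype]
  -- generic points
  let gp : irreducibleComponents (X : Type u) → X := fun Z => Z.2.1.genericPoint
  have hcl : ∀ Z : irreducibleComponents (X : Type u), IsClosed (Z.1 : Set X) :=
    fun Z => isClosed_of_mem_irreducibleComponents Z.1 Z.2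
  have hgp : ∀ Z : irreducibleComponents (X : Type u), closure ({gp Z} : Set X) = Z.1 :=
    fun Z => Z.2.1.closure_genericPoint (hcl Z)
  have hinj : Function.Injective gp := by
    intro Z Z' h
    apply Subtype.ext
    rw [← hgp Z, ← hgp Z', h]
  set S : Finset X :=
    (Finset.univ.filter (fun Z : irreducibleComponents (X : Type u) =>
      topologicalKrullDim (Z.1 : Set X) = 1)).image gp with hS
  have hmax : ∀ ξ ∈ S, ∀ η : X, ξ ∈ closure ({η} : Set X) → η = ξ := by
    intro ξ hξ η hη
    rw [hS, Finset.mem_image] at hξ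
    obtain ⟨Z, -, rfl⟩ := hξ
    have h1 : (Z.1 : Set X) ⊆ closure ({η} : Set X) := by
      rw [← hgp Z]
      exact closure_minimal (Set.singleton_subset_iff.mpr hη) isClosed_closure
    have h2 : closure ({η} : Set X) ⊆ Z.1 := Z.2.2 isIrreducible_singleton.closure h1
    have h3 : closure ({η} : Set X) = closure ({gp Z} : Set X) := by
      rw [hgp Z]
      exact Set.Subset.antisymm h2 h1
    have g1 : IsGenericPoint η (closure ({η} : Set X)) := rfl
    have g2 : IsGenericPoint (gp Z) (closure ({η} : Set X)) := h3.symm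
    exact g1.eq g2
  have hout : ∀ η : X, η ∉ S → topologicalKrullDim ↥(closure ({η} : Set X)) ≤ 0 := by
    intro η hη
    obtain ⟨Z', hZ', hsub⟩ := exists_mem_irreducibleComponents_subset_of_isIrreducible
      (closure ({η} : Set X)) isIrreducible_singleton.closure
    have hdZ' : topologicalKrullDim ↥Z' ≤ 1 := (topologicalKrullDim_subspace_le X Z').trans hdim
    by_cases heq : closure ({η} : Set X) = Z'
    · have hne : topologicalKrullDim ↥Z' ≠ 1 := by
        intro h1
        apply hη
        rw [hS, Finset.mem_image]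
        refine ⟨⟨Z', hZ'⟩, ?_, ?_⟩
        · rw [Finset.mem_filter]
          exact ⟨Finset.mem_univ _, h1⟩
        · have g1 : IsGenericPoint η (closure ({η} : Set X)) := rfl
          have g2 : IsGenericPoint (gp ⟨Z', hZ'⟩) (closure ({η} : Set X)) := by
            rw [heq]
            exact hgp ⟨Z', hZ'⟩
          exact g2.eq g1
      rw [heq]
      exact le_zero_of_le_one_of_ne_one hdZ' hne
    · have h1 := Groth.Agent.Lib.DimDrop.topologicalKrullDim_add_one_le_of_ssubset
        (isClosed_closure (s := ({η} : Set X))) hZ'.1 hsub heq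
      exact le_zero_of_add_one_le_one' (h1.trans hdZ')
  obtain ⟨-, hsum⟩ := AddInv.eq_sum_glen_mul A S hmax hout F hF
  rw [hsum, hS, Finset.sum_image (fun Z _ Z' _ h => hinj h), Finset.sum_filter]
  refine Finset.sum_congr rfl fun Z _ => ?_
  split_ifs with hZ
  · congr 1
    -- identify the hub with the structure sheaf of the reduced component
    have hJ : Scheme.IdealSheafData.vanishingIdeal (cl (gp Z)) =
        (X.irreducibleComponentIdeal Z.1 Z.2).radical := by
      rw [← Scheme.IdealSheafData.vanishingIdeal_support]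
      congr 1
      apply SetLike.coe_injective
      exact hgp Z
    have key : ∀ J' : X.IdealSheafData, Scheme.IdealSheafData.vanishingIdeal (cl (gp Z)) = J' →
        A.φ (hub (cl (gp Z))) = A.φ (OZ J'.subschemeι) := by
      rintro _ rfl
      rfl
    rw [key _ hJ, hA]
    exact eulerInv_OZ H k X hE _
  · rfl

end Groth.Agent.Lib.H59CurveComp
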