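import Groth.Agent.Lib.H59GeomPoints
import Mathlib.AlgebraicGeometry.Restrict
import Mathlib.Algebra.BigOperators.Finprod

/-!
# Partial fibre integrals (helper59)

`J p S W v` is the sum, over the points `z` of the fibre of `p : P ⟶ V` over `v` lying in the subset
`S ⊆ P`, of `W z` times the separable degree of `κ(z)/κ(p z)`.  For an open `U` of `P` it is the
fibre integral (`MoreMor.fibreIntegral`) of `W` restricted to `U` along `U ⟶ P ⟶ V`.
-/

set_option autoImplicit false
set_option linter.style.haveILetI false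
universe u
open CategoryTheory AlgebraicGeometry CategoryTheory.Limits IsLocalRing

namespace Groth.Agent.Lib.H59FibInt

variable {P V : Scheme.{u}}

/-- Separable degree of the residue field extension at a point. -/
noncomputable def sepDeg (p : P ⟶ V) (z : P) : ℕ :=
  letI := (p.residueFieldMap z).hom.toAlgebra
  Field.finSepDegree (V.residueField (p z)) (P.residueField z)

/-- The partial fibre integral over the points of a subset `S` of the source. -/
noncomputable def J (p : P ⟶ V) (S : Set P) (W : P → ℤ) (v : V) : ℤ :=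
  ∑ᶠ z ∈ {z : P | p z = v ∧ z ∈ S}, W z * (sepDeg p z : ℤ)

theorem fibreIntegral_eq_J_univ (p : P ⟶ V) (W : P → ℤ) (v : V) :
    MoreMor.fibreIntegral p W v = J p Set.univ W v := by
  unfold MoreMor.fibreIntegral J
  have : {z : P | p z = v ∧ z ∈ Set.univ} = {z : P | p z = v} := by ext; simp
  rw [this, ← finsum_set_coe_eq_finsum_mem]
  rfl

/-- Precomposing with a morphism inducing an isomorphism on the residue field does not change the
separable degree. -/
theorem sepDeg_comp_of_isIso {P' : Scheme.{u}} (j : P' ⟶ P) (p : P ⟶ V) (z' : P')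
    [hiso : IsIso (j.residueFieldMap z')] : sepDeg (j ≫ p) z' = sepDeg p (j z') := by
  unfold sepDeg
  let a1 : Algebra (V.residueField (p (j z'))) (P'.residueField z') :=
    ((j ≫ p).residueFieldMap z').hom.toAlgebra
  let a2 : Algebra (V.residueField (p (j z'))) (P.residueField (j z')) :=
    (p.residueFieldMap (j z')).hom.toAlgebra
  let φ : P.residueField (j z') ≃+* P'.residueField z' :=
    (asIso (j.residueFieldMap z')).commRingCatIsoToRingEquiv
  let ψ : P.residueField (j z') ≃ₐ[V.residueField (p (j z'))] P'.residueField z' :=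
    { φ with
      commutes' := fun r => by
        change (j.residueFieldMap z') ((p.residueFieldMap (j z')) r) =
          ((j ≫ p).residueFieldMap z') r
        rw [Scheme.residueFieldMap_comp]
        rfl }
  exact (Field.finSepDegree_eq_of_equiv _ _ _ ψ).symm

theorem sepDeg_ι_comp (U : P.Opens) (p : P ⟶ V) (u : (U : Scheme.{u})) :
    sepDeg (U.ι ≫ p) u = sepDeg p (U.ι u) :=
  sepDeg_comp_of_isIso U.ι p u

/-- The fibre integral along an open of the source is the partial fibre integral. -/
theorem fibreIntegral_ι_comp (U : P.Opens) (p : P ⟶ V) (W : P → ℤ) (v : V) :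
    MoreMor.fibreIntegral (U.ι ≫ p) (fun u => W (U.ι u)) v = J p (U : Set P) W v := by
  unfold MoreMor.fibreIntegral J
  rw [← finsum_set_coe_eq_finsum_mem]
  let E : {u : (U : Scheme.{u}) // (U.ι ≫ p) u = v} ≃ ↥{z : P | p z = v ∧ z ∈ (U : Set P)} :=
    { toFun := fun u => ⟨U.ι u.1, u.2, u.1.2⟩
      invFun := fun z => ⟨⟨z.1, z.2.2⟩, z.2.1⟩
      left_inv := fun _ => rfl
      right_inv := fun _ => rfl }
  rw [← finsum_comp_equiv E]
  refine finsum_congr fun u => ?_
  change W (U.ι u.1) * _ = W (U.ι u.1) * _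
  congr 2
  exact sepDeg_ι_comp U p u.1

theorem J_congr_set (p : P ⟶ V) {S S' : Set P} (W : P → ℤ) (v : V)
    (h : ∀ z, p z = v → (z ∈ S ↔ z ∈ S')) : J p S W v = J p S' W v := by
  unfold J
  congr 1
  funext z
  have : {z : P | p z = v ∧ z ∈ S} = {z : P | p z = v ∧ z ∈ S'} := by
    ext z
    constructor
    · rintro ⟨h1, h2⟩; exact ⟨h1, (h z h1).1 h2⟩
    · rintro ⟨h1, h2⟩; exact ⟨h1, (h z h1).2 h2⟩
  rw [this]

/-- Additivity over a finite family of subsets which are pairwise disjoint on the fibre. -/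
theorem J_iUnion (p : P ⟶ V) {ι : Type*} [Finite ι] (S : ι → Set P) (W : P → ℤ) (v : V)
    (hdisj : ∀ i j, i ≠ j → ∀ z, p z = v → z ∈ S i → z ∉ S j)
    (hfin : ∀ i, {z : P | p z = v ∧ z ∈ S i}.Finite) :
    J p (⋃ i, S i) W v = ∑ᶠ i, J p (S i) W v := by
  unfold J
  have : {z : P | p z = v ∧ z ∈ ⋃ i, S i} = ⋃ i, {z : P | p z = v ∧ z ∈ S i} := by
    ext z; simp
  rw [this, finsum_mem_iUnion _ hfin]
  intro i j hij
  rw [Function.onFun, Set.disjoint_left]
  rintro z ⟨h1, h2⟩ ⟨-, h3⟩
  exact hdisj i j hij z h1 h2 h3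

/-- Monotonicity for a nonnegative weight. -/
theorem J_mono (p : P ⟶ V) {S S' : Set P} (W : P → ℤ) (v : V) (hW : ∀ z, 0 ≤ W z)
    (hSS' : ∀ z, p z = v → z ∈ S → z ∈ S') (hfin : {z : P | p z = v ∧ z ∈ S'}.Finite) :
    J p S W v ≤ J p S' W v := by
  unfold J
  have hsub : {z : P | p z = v ∧ z ∈ S} ⊆ {z : P | p z = v ∧ z ∈ S'} :=
    fun z hz => ⟨hz.1, hSS' z hz.1 hz.2⟩
  rw [← finsum_mem_inter_add_sdiff {z : P | p z = v ∧ z ∈ S} hfin,
    Set.inter_eq_self_of_subset_right hsub]
  refine le_add_of_nonneg_right (finsum_nonneg fun z => finsum_nonneg fun _ => ?_)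
  exact mul_nonneg (hW z) (Int.natCast_nonneg _)

theorem J_singleton (p : P ⟶ V) {S : Set P} (W : P → ℤ) (v : V) (z₀ : P)
    (h : ∀ z, (p z = v ∧ z ∈ S) ↔ z = z₀) : J p S W v = W z₀ * (sepDeg p z₀ : ℤ) := by
  unfold J
  have : {z : P | p z = v ∧ z ∈ S} = {z₀} := by ext z; exact h z
  rw [this, finsum_mem_singleton]

theorem J_empty (p : P ⟶ V) {S : Set P} (W : P → ℤ) (v : V)
    (h : ∀ z, p z = v → z ∉ S) : J p S W v = 0 := by
  unfold J
  have : {z : P | p z = v ∧ z ∈ S} = ∅ := by
    ext z; simp only [Set.mem_ofPred_eq, Set.mem_empty_iff_false, iff_false, not_and]; exact h z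
  rw [this, finsum_mem_empty]

section geom

open Groth.Agent.Lib.H59GeomPoints

/-- Every point is the image of a geometric point. -/
theorem exists_geomPoint (v : V) : ∃ (K : Type u) (_ : Field K) (_ : IsAlgClosed K)
    (yb : Spec (.of K) ⟶ V), yb (closedPoint K) = v := by
  refine ⟨AlgebraicClosure (V.residueField v), inferInstance, inferInstance,
    Spec.map (CommRingCat.ofHom (algebraMap (V.residueField v)
      (AlgebraicClosure (V.residueField v)))) ≫ V.fromSpecResidueField v, ?_⟩
  exact Scheme.fromSpecResidueField_apply v _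

variable {P' V' : Scheme.{u}} {h : P' ⟶ P} {p' : P' ⟶ V'} {p : P ⟶ V} {g : V' ⟶ V}

/-- Lifts of a geometric point correspond under a cartesian square. -/
noncomputable def liftsPullbackEquiv (hc : IsPullback h p' p g) {K : Type u} [Field K]
    (yb' : Spec (.of K) ⟶ V') : Lifts p' K yb' ≃ Lifts p K (yb' ≫ g) where
  toFun ub' := ⟨ub'.1 ≫ h, by rw [Category.assoc, hc.w, ← Category.assoc, ub'.2]⟩
  invFun ub := ⟨hc.lift ub.1 yb' ub.2, hc.lift_snd _ _ _⟩
  left_inv ub' := by
    apply Subtype.ext
    apply hc.hom_ext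
    · simp
    · simp [ub'.2]
  right_inv ub := by
    apply Subtype.ext
    simp

theorem liftsPullbackEquiv_apply_pt (hc : IsPullback h p' p g) {K : Type u} [Field K]
    (yb' : Spec (.of K) ⟶ V') (ub' : Lifts p' K yb') :
    (liftsPullbackEquiv hc yb' ub').1 (closedPoint K) = h (ub'.1 (closedPoint K)) := rfl

/-- If a geometric point has finitely many lifts, the fibre over its image is finite. -/
theorem finite_fibre_of_finite_lifts {K : Type u} [Field K] [IsAlgClosed K]
    (hfin : ∀ u : P, letI := (p.residueFieldMap u).hom.toAlgebra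
      Module.Finite (V.residueField (p u)) (P.residueField u))
    (yb : Spec (.of K) ⟶ V) [Finite (Lifts p K yb)] :
    (p ⁻¹' {yb (closedPoint K)}).Finite := by
  haveI hS : Finite (FibEmb p yb) := Finite.of_equiv _ (liftsEquiv p yb)
  haveI hF : Finite {u : P // p u = yb (closedPoint K)} := by
    refine Finite.of_surjective (fun q : FibEmb p yb => q.1) fun u => ?_
    obtain ⟨ψ⟩ := nonempty_emb p yb u (hfin u.1)
    exact ⟨⟨u, ψ⟩, rfl⟩
  have h2 : ({u : P | p u = yb (closedPoint K)}).Finite := Set.finite_coe_iff.mp hF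
  exact h2

/-- Finiteness of a fibre is inherited by base change (for locally quasi-finite morphisms). -/
theorem finite_fibre_of_isPullback (hc : IsPullback h p' p g) [LocallyQuasiFinite p] (v' : V')
    (hfib : (p ⁻¹' {g v'}).Finite) : (p' ⁻¹' {v'}).Finite := by
  haveI : LocallyQuasiFinite p' :=
    MorphismProperty.of_isPullback (P := @LocallyQuasiFinite) hc inferInstance
  obtain ⟨K, _, _, yb', rfl⟩ := exists_geomPoint v'
  haveI : Finite (Lifts p K (yb' ≫ g)) :=
    finite_lifts p (yb' ≫ g) hfib (fun u => finite_residueFieldMap p u)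
  haveI : Finite (Lifts p' K yb') := Finite.of_equiv _ (liftsPullbackEquiv hc yb').symm
  exact finite_fibre_of_finite_lifts (fun u => finite_residueFieldMap p' u) yb'

end geom

end Groth.Agent.Lib.H59FibInt
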