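import Mathlib.RingTheory.Ideal.Pure
import Mathlib.RingTheory.Flat.EquationalCriterion
import Mathlib.RingTheory.Flat.Stability
import Mathlib.RingTheory.Flat.Localization
import Mathlib.RingTheory.RingHom.Flat
import Mathlib.RingTheory.TensorProduct.Maps

/-!
# Stacks 092C: flat over the base + flat diagonal ⇒ flat over the algebra

`Groth.Agent.Lib.H59FlatDiag.flat_of_flat_lmul'`: if `S ⊗[R] S → S` is flat and the `S`-module `M` is
flat over `R`, then `M` is flat over `S`.
-/

open TensorProduct

namespace Groth.Agent.Lib.H59FlatDiag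

universe u v

section

variable (R : Type*) (S : Type*) (M : Type*) [CommRing R] [CommRing S] [Algebra R S]
  [AddCommGroup M] [Module R M] [Module S M] [IsScalarTower R S M]

/-- The action of `S ⊗[R] S` on `S ⊗[R] M` by `S`-linear (left structure) endomorphisms. -/
noncomputable def act : S ⊗[R] S →ₐ[R] Module.End S (S ⊗[R] M) :=
  (Module.endTensorEndAlgHom (R := R) (S := R) (A := S) (M := S) (N := M)).comp
    (Algebra.TensorProduct.map (Algebra.lmul S S |>.restrictScalars R) (Algebra.lsmul R R M))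

theorem act_tmul (a b s : S) (m : M) :
    act R S M (a ⊗ₜ b) (s ⊗ₜ m) = (a * s) ⊗ₜ (b • m) := rfl

/-- The multiplication map `S ⊗[R] M → M`. -/
noncomputable def muM : S ⊗[R] M →ₗ[S] M := LinearMap.liftBaseChange S LinearMap.id

theorem muM_tmul (s : S) (m : M) : muM R S M (s ⊗ₜ m) = s • m := rfl

theorem muM_act (t : S ⊗[R] S) (p : S ⊗[R] M) :
    muM R S M (act R S M t p) = Algebra.TensorProduct.lmul' R t • muM R S M p := by
  induction t using TensorProduct.induction_on with
  | zero => simp
  | add x y hx hy => simp only [map_add, LinearMap.add_apply, hx, hy, add_smul]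
  | tmul a b =>
    induction p using TensorProduct.induction_on with
    | zero => simp
    | add x y hx hy => simp only [map_add, hx, hy, smul_add]
    | tmul s m =>
      rw [act_tmul, muM_tmul, muM_tmul, Algebra.TensorProduct.lmul'_apply_tmul, smul_smul,
        smul_smul]
      congr 1; ring

/-- The `S`-submodule `J · (S ⊗[R] M)` for `J = ker (S ⊗[R] S → S)`. -/
noncomputable def JP : Submodule S (S ⊗[R] M) :=
  Submodule.span S {q | ∃ j ∈ RingHom.ker (Algebra.TensorProduct.lmul' R (S := S)),
    ∃ p, q = act R S M j p}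

theorem sub_mem_JP (p : S ⊗[R] M) : p - 1 ⊗ₜ muM R S M p ∈ JP R S M := by
  induction p using TensorProduct.induction_on with
  | zero => simp
  | add x y hx hy =>
    have : x + y - 1 ⊗ₜ[R] muM R S M (x + y) =
        (x - 1 ⊗ₜ muM R S M x) + (y - 1 ⊗ₜ muM R S M y) := by
      rw [map_add, tmul_add]; abel
    rw [this]; exact add_mem hx hy
  | tmul s m =>
    apply Submodule.subset_span
    refine ⟨s ⊗ₜ 1 - 1 ⊗ₜ s, ?_, 1 ⊗ₜ m, ?_⟩
    · rw [RingHom.mem_ker, map_sub, Algebra.TensorProduct.lmul'_apply_tmul,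
        Algebra.TensorProduct.lmul'_apply_tmul, mul_one, one_mul, sub_self]
    · rw [map_sub, LinearMap.sub_apply, act_tmul, act_tmul, muM_tmul, mul_one, one_smul, mul_one]

theorem exists_act_eq_of_mem_JP
    (hpure : ∀ x ∈ RingHom.ker (Algebra.TensorProduct.lmul' R (S := S)),
      ∃ y ∈ RingHom.ker (Algebra.TensorProduct.lmul' R (S := S)), x = x * y)
    (q : S ⊗[R] M) (hq : q ∈ JP R S M) :
    ∃ e ∈ RingHom.ker (Algebra.TensorProduct.lmul' R (S := S)), act R S M e q = q := by
  induction hq using Submodule.span_induction with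
  | mem q hq =>
    obtain ⟨j, hj, p, rfl⟩ := hq
    obtain ⟨e, he, hje⟩ := hpure j hj
    refine ⟨e, he, ?_⟩
    rw [← Module.End.mul_apply, ← map_mul, mul_comm, ← hje]
  | zero => exact ⟨0, Ideal.zero_mem _, by simp⟩
  | add x y _ _ hx hy =>
    obtain ⟨e₁, he₁, h₁⟩ := hx
    obtain ⟨e₂, he₂, h₂⟩ := hy
    refine ⟨e₁ + e₂ - e₁ * e₂, sub_mem (add_mem he₁ he₂) (Ideal.mul_mem_left _ _ he₂), ?_⟩
    have hx' : act R S M (e₁ + e₂ - e₁ * e₂) x = x := by
      have : e₁ + e₂ - e₁ * e₂ = e₁ + e₂ * (1 - e₁) := by ring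
      rw [this, map_add, map_mul, LinearMap.add_apply, Module.End.mul_apply, map_sub, map_one,
        LinearMap.sub_apply, Module.End.one_apply, h₁, sub_self, map_zero, add_zero]
    have hy' : act R S M (e₁ + e₂ - e₁ * e₂) y = y := by
      have : e₁ + e₂ - e₁ * e₂ = e₂ + e₁ * (1 - e₂) := by ring
      rw [this, map_add, map_mul, LinearMap.add_apply, Module.End.mul_apply, map_sub, map_one,
        LinearMap.sub_apply, Module.End.one_apply, h₂, sub_self, map_zero, add_zero]
    rw [map_add, hx', hy']
  | smul s x _ hx =>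
    obtain ⟨e, he, h⟩ := hx
    exact ⟨e, he, by rw [map_smul, h]⟩

end

/-- **Stacks 092C.** If the multiplication `S ⊗[R] S → S` is flat and the `S`-module `M` is flat over
`R`, then `M` is flat over `S`. -/
theorem flat_of_flat_lmul' {R : Type*} {S : Type*} {M : Type*} [CommRing R] [CommRing S] [Algebra R S]
    [AddCommGroup M] [Module R M] [Module S M] [IsScalarTower R S M]
    (h : (Algebra.TensorProduct.lmul' R (S := S)).toRingHom.Flat) [Module.Flat R M] :
    Module.Flat S M := by
  -- purity of the kernel of the multiplication map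
  have hpure : ∀ x ∈ RingHom.ker (Algebra.TensorProduct.lmul' R (S := S)),
      ∃ y ∈ RingHom.ker (Algebra.TensorProduct.lmul' R (S := S)), x = x * y := by
    letI : Algebra (S ⊗[R] S) S := (Algebra.TensorProduct.lmul' R (S := S)).toRingHom.toAlgebra
    have hflat : Module.Flat (S ⊗[R] S) S := h
    have hsurj : Function.Surjective (Algebra.ofId (S ⊗[R] S) S) := fun s =>
      ⟨s ⊗ₜ 1, by
        change Algebra.TensorProduct.lmul' R (S := S) (s ⊗ₜ 1) = s
        rw [Algebra.TensorProduct.lmul'_apply_tmul, mul_one]⟩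
    have hp : (RingHom.ker (Algebra.ofId (S ⊗[R] S) S)).Pure :=
      Module.Flat.of_linearEquiv
        (Ideal.quotientKerAlgEquivOfSurjective hsurj).toLinearEquiv
    intro x hx
    exact @Ideal.exists_eq_mul_of_pure _ _ _ hp x hx
  have hP : Module.Flat S (S ⊗[R] M) := inferInstance
  rw [Module.Flat.iff_forall_isTrivialRelation]
  intro l f x hfx
  set z : S ⊗[R] M := ∑ i, f i • ((1 : S) ⊗ₜ[R] x i) with hz
  have hμz : muM R S M z = 0 := by
    rw [hz, map_sum, ← hfx]
    refine Finset.sum_congr rfl fun i _ => ?_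
    rw [map_smul, muM_tmul, one_smul]
  have hzJ : z ∈ JP R S M := by
    have := sub_mem_JP R S M z
    rwa [hμz, tmul_zero, sub_zero] at this
  obtain ⟨e, he, hez⟩ := exists_act_eq_of_mem_JP R S M hpure z hzJ
  set w : S ⊗[R] S := 1 - e with hw
  have hμw : Algebra.TensorProduct.lmul' R (S := S) w = 1 := by
    rw [hw, map_sub, map_one, (RingHom.mem_ker).1 he, sub_zero]
  have hwz : act R S M w z = 0 := by
    rw [hw, map_sub, map_one, LinearMap.sub_apply, Module.End.one_apply, hez, sub_self]
  have hrel : ∑ i, f i • act R S M w ((1 : S) ⊗ₜ[R] x i) = 0 := by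
    rw [← hwz, hz, map_sum]
    refine Finset.sum_congr rfl fun i _ => ?_
    rw [map_smul]
  obtain ⟨k, a, y, hxy, hfa⟩ := Module.Flat.isTrivialRelation_of_sum_smul_eq_zero hrel
  refine ⟨k, a, fun j => muM R S M (y j), fun i => ?_, hfa⟩
  have := congrArg (muM R S M) (hxy i)
  rw [muM_act, hμw, one_smul, muM_tmul, one_smul, map_sum] at this
  rw [this]
  refine Finset.sum_congr rfl fun j _ => ?_
  rw [map_smul]

end Groth.Agent.Lib.H59FlatDiag
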