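import Groth.Agent.Lib.H59FibInt

/-!
# Fubini for fibre integrals (helper59)

For `a : U ⟶ V`, `b : V ⟶ Z` with `a` locally quasi-finite, the fibre integral along `a ≫ b` of
`u ↦ W₁ u * W₂ (a u)` is the fibre integral along `b` of `v ↦ W₂ v * ∫_a W₁ (v)`, whenever the fibre of
`a ≫ b` is finite.  Uses the tower law for separable degrees.
-/

set_option autoImplicit false
set_option linter.style.haveILetI false
universe u
open CategoryTheory AlgebraicGeometry CategoryTheory.Limits IsLocalRing

namespace Groth.Agent.Lib.H59FibInt

open Groth.Agent.Lib.H59GeomPoints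

variable {U V Z : Scheme.{u}}

/-- Tower law for the separable degrees of residue field extensions. -/
theorem sepDeg_comp (a : U ⟶ V) (b : V ⟶ Z) [LocallyQuasiFinite a] (x : U) :
    sepDeg (a ≫ b) x = sepDeg b (a x) * sepDeg a x := by
  unfold sepDeg
  letI a1 : Algebra (Z.residueField (b (a x))) (V.residueField (a x)) :=
    (b.residueFieldMap (a x)).hom.toAlgebra
  letI a2 : Algebra (V.residueField (a x)) (U.residueField x) :=
    (a.residueFieldMap x).hom.toAlgebra
  letI a3 : Algebra (Z.residueField (b (a x))) (U.residueField x) :=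
    ((a ≫ b).residueFieldMap x).hom.toAlgebra
  haveI : IsScalarTower (Z.residueField (b (a x))) (V.residueField (a x)) (U.residueField x) := by
    refine IsScalarTower.of_algebraMap_eq fun r => ?_
    change ((a ≫ b).residueFieldMap x) r = (a.residueFieldMap x) ((b.residueFieldMap (a x)) r)
    rw [Scheme.residueFieldMap_comp]
    rfl
  haveI : Module.Finite (V.residueField (a x)) (U.residueField x) := finite_residueFieldMap a x
  exact (Field.finSepDegree_mul_finSepDegree_of_isAlgebraic (Z.residueField (b (a x)))
    (V.residueField (a x)) (U.residueField x)).symm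

/-- **Fubini** for fibre integrals. -/
theorem fibreIntegral_comp (a : U ⟶ V) (b : V ⟶ Z) [LocallyQuasiFinite a] (W₁ : U → ℤ)
    (W₂ : V → ℤ) (z : Z) (hfin : {x : U | b (a x) = z}.Finite) :
    MoreMor.fibreIntegral (a ≫ b) (fun x => W₁ x * W₂ (a x)) z =
      MoreMor.fibreIntegral b (fun v => W₂ v * MoreMor.fibreIntegral a W₁ v) z := by
  rw [fibreIntegral_eq_J_univ, fibreIntegral_eq_J_univ]
  unfold J
  have hS : {x : U | (a ≫ b) x = z ∧ x ∈ Set.univ} = ⋃ v ∈ a '' {x : U | b (a x) = z},
      {x : U | a x = v} := by
    ext x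
    simp only [Set.mem_ofPred_eq, Set.mem_univ, and_true, Set.mem_iUnion, Set.mem_image,
      exists_prop]
    constructor
    · intro hx
      exact ⟨a x, ⟨x, hx, rfl⟩, rfl⟩
    · rintro ⟨v, ⟨x', hx', rfl⟩, hxv⟩
      change b (a x) = z
      rw [hxv]; exact hx'
  rw [hS, finsum_mem_biUnion]
  · -- compare the two sums over `v`
    have hinner : ∀ v : V, (∑ᶠ x ∈ {x : U | a x = v},
        W₁ x * W₂ (a x) * (sepDeg (a ≫ b) x : ℤ)) =
        W₂ v * MoreMor.fibreIntegral a W₁ v * (sepDeg b v : ℤ) := by
      intro v
      rw [fibreIntegral_eq_J_univ]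
      unfold J
      have : {x : U | a x = v ∧ x ∈ Set.univ} = {x : U | a x = v} := by ext; simp
      rw [this, mul_comm (W₂ v), mul_assoc, finsum_mem_mul]
      refine finsum_mem_congr rfl fun x hx => ?_
      have hx' : a x = v := hx
      subst hx'
      rw [sepDeg_comp]
      push_cast
      ring
    simp_rw [hinner]
    refine finsum_mem_inter_support_eq' _ _ _ fun v hv => ?_
    simp only [Set.mem_ofPred_eq, Set.mem_univ, and_true, Set.mem_image]
    constructor
    · rintro ⟨x, hx, rfl⟩
      exact hx
    · intro hvz
      -- the inner integral is nonzero, so the fibre of `a` over `v` is nonempty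
      have hne : MoreMor.fibreIntegral a W₁ v ≠ 0 := by
        intro h0
        apply hv
        simp [h0]
      have : Nonempty {x : U // a x = v} := by
        by_contra hemp
        rw [not_nonempty_iff] at hemp
        apply hne
        unfold MoreMor.fibreIntegral
        exact finsum_of_isEmpty _
      obtain ⟨⟨x, hx⟩⟩ := this
      exact ⟨x, by change b (a x) = z; rw [hx]; exact hvz, hx⟩
  · intro v _ v' _ hvv'
    rw [Function.onFun, Set.disjoint_left]
    intro x hx hx'
    exact hvv' ((show a x = v from hx).symm.trans hx')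
  · exact hfin.image _
  · rintro v ⟨x', hx', rfl⟩
    refine hfin.subset fun x hx => ?_
    change b (a x) = z
    rw [show a x = a x' from hx]; exact hx'

end Groth.Agent.Lib.H59FibInt
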