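import Groth.Agent.Lib.H59TangentStr
import Groth.Agent.Lib.H59ArtFunTorsor
import Groth.Agent.Lib.ArtFunFibre

/-!
# `H_ε` for split square-zero objects `k ⊕ V` (helper59)

If `F` satisfies `H_ε` then `F(A ×_k E) → F(A) ×_{F(k)} F(E)` is bijective for `E = k ⊕ kⁿ`, by induction on `n`
(pasting of fibre-product squares).
-/

set_option autoImplicit false
set_option linter.unusedSectionVars false
universe u v
open CategoryTheory ArtFun ArtFun.Art IsLocalRing

namespace Groth.Agent.Lib.H59HepsSplit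

open Groth.Agent.Lib.H59TangentStr Groth.Agent.Lib.H59ArtFunTorsor

variable {Λ : Type u} {k : Type u} [CommRing Λ] [Field k] [Algebra Λ k]

/-- the comparison map is bijective for all fibre products `A ×_k E`. -/
def P (F : Art Λ k ⥤ Type v) (E : Art Λ k) : Prop :=
  ∀ ⦃B A : Art Λ k⦄ (p' : B ⟶ A) (p'' : B ⟶ E)
    (h : IsFibreProd p' p'' (toBase A) (toBase E)), Function.Bijective (cmp F h)

section Paste

variable {B A E E₁ D₂ B₁ : Art Λ k}

/-- pasting: `A ×_k (E₁ ×_k D₂) = (A ×_k E₁) ×_k D₂`. -/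
theorem isFibreProd_paste {q₁ : E ⟶ E₁} {q₂ : E ⟶ D₂}
    (hE : IsFibreProd q₁ q₂ (toBase E₁) (toBase D₂))
    {p' : B ⟶ A} {p'' : B ⟶ E} (h : IsFibreProd p' p'' (toBase A) (toBase E))
    {r' : B₁ ⟶ A} {r'' : B₁ ⟶ E₁} (h₁ : IsFibreProd r' r'' (toBase A) (toBase E₁))
    (t : B ⟶ B₁) (ht' : t ≫ r' = p') (ht'' : t ≫ r'' = p'' ≫ q₁) :
    IsFibreProd t (p'' ≫ q₂) (toBase B₁) (toBase D₂) where
  w := by rw [eq_toBase (t ≫ toBase B₁), eq_toBase ((p'' ≫ q₂) ≫ toBase D₂)]
  inj b₁ b₂ e₁ e₂ := by
    have ht'a : ∀ b : B, r' (t b) = p' b := fun b => by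
      change (t ≫ r') b = p' b
      rw [ht']
    have ht''a : ∀ b : B, r'' (t b) = q₁ (p'' b) := fun b => by
      change (t ≫ r'') b = (p'' ≫ q₁) b
      rw [ht'']
    have e₂' : q₂ (p'' b₁) = q₂ (p'' b₂) := e₂
    apply h.inj
    · rw [← ht'a, ← ht'a, e₁]
    · apply hE.inj
      · rw [← ht''a, ← ht''a, e₁]
      · exact e₂'
  surj b₁' d hbd := by
    have ht'a : ∀ b : B, r' (t b) = p' b := fun b => by
      change (t ≫ r') b = p' b
      rw [ht']
    have ht''a : ∀ b : B, r'' (t b) = q₁ (p'' b) := fun b => by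
      change (t ≫ r'') b = (p'' ≫ q₁) b
      rw [ht'']
    have hbd' : B₁.res b₁' = D₂.res d := hbd
    have h1 : (toBase E₁) (r'' b₁') = (toBase D₂) d := by
      change E₁.res (r'' b₁') = D₂.res d
      rw [res_app, hbd']
    obtain ⟨e, he₁, he₂⟩ := hE.surj (r'' b₁') d h1
    have h2 : (toBase A) (r' b₁') = (toBase E) e := by
      change A.res (r' b₁') = E.res e
      rw [res_app, ← res_app q₁ e, he₁, res_app]
    obtain ⟨b, hb₁, hb₂⟩ := h.surj (r' b₁') e h2
    refine ⟨b, ?_, ?_⟩
    · apply h₁.inj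
      · rw [ht'a, hb₁]
      · rw [ht''a, hb₂, he₁]
    · change q₂ (p'' b) = d
      rw [hb₂, he₂]

end Paste

section Step

variable [IsNoetherianRing Λ] [Module.Finite Λ k]
variable {F : Art Λ k ⥤ Type v}

theorem map_comp_apply' {X Y Z : Art Λ k} (f : X ⟶ Y) (g : Y ⟶ Z) (x : F.obj X) :
    F.map (f ≫ g) x = F.map g (F.map f x) := by
  rw [F.map_comp]
  rfl

/-- the inductive step. -/
theorem P_of_isFibreProd (hF : Heps F) {E E₁ : Art Λ k} (q₁ : E ⟶ E₁) (q₂ : E ⟶ dual Λ k)
    (hE : IsFibreProd q₁ q₂ (toBase E₁) (toBase (dual Λ k))) (h₁ : P F E₁) : P F E := by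
  intro B A p' p'' h
  obtain ⟨B₁, r', r'', hB₁⟩ := Groth.Agent.Lib.ArtFunFibre.exists_isFibreProd_of_surjective
    (toBase A) (toBase E₁) E₁.res_surjective
  obtain ⟨t, ht', ht''⟩ := exists_hom_of_isFibreProd hB₁ p' (p'' ≫ q₁) (by
    rw [eq_toBase (p' ≫ toBase A), eq_toBase ((p'' ≫ q₁) ≫ toBase E₁)])
  have hpaste := isFibreProd_paste hE h hB₁ t ht' ht''
  have bijB := hF t (p'' ≫ q₂) hpaste
  have bijE := hF q₁ q₂ hE
  have bij₁ := h₁ r' r'' hB₁
  constructor
  · intro z z' hzz
    have e1 : F.map p' z = F.map p' z' := congrArg (fun w : FibProd F _ _ => w.1.1) hzz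
    have e2 : F.map p'' z = F.map p'' z' := congrArg (fun w : FibProd F _ _ => w.1.2) hzz
    apply bijB.1
    apply FibProd.ext
    · apply bij₁.1
      apply FibProd.ext
      · change F.map r' (F.map t z) = F.map r' (F.map t z')
        rw [← map_comp_apply', ← map_comp_apply', ht', e1]
      · change F.map r'' (F.map t z) = F.map r'' (F.map t z')
        rw [← map_comp_apply', ← map_comp_apply', ht'', map_comp_apply', map_comp_apply', e2]
    · change F.map (p'' ≫ q₂) z = F.map (p'' ≫ q₂) z'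
      rw [map_comp_apply', map_comp_apply', e2]
  · rintro ⟨⟨a, e⟩, hae⟩
    have hae' : F.map (toBase A) a = F.map (toBase E) e := hae
    have hq₁ : q₁ ≫ toBase E₁ = toBase E := eq_toBase _
    have hq₂ : q₂ ≫ toBase (dual Λ k) = toBase E := eq_toBase _
    have hr' : r' ≫ toBase A = toBase B₁ := eq_toBase _
    obtain ⟨b₁, hb₁⟩ := bij₁.2 ⟨(a, F.map q₁ e), by
      change F.map (toBase A) a = F.map (toBase E₁) (F.map q₁ e)
      rw [← map_comp_apply', hq₁, hae']⟩
    have hb₁a : F.map r' b₁ = a := congrArg (fun w : FibProd F _ _ => w.1.1) hb₁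
    have hb₁e : F.map r'' b₁ = F.map q₁ e := congrArg (fun w : FibProd F _ _ => w.1.2) hb₁
    obtain ⟨z, hz⟩ := bijB.2 ⟨(b₁, F.map q₂ e), by
      change F.map (toBase B₁) b₁ = F.map (toBase (dual Λ k)) (F.map q₂ e)
      rw [← map_comp_apply', hq₂, ← hr', map_comp_apply', hb₁a, hae']⟩
    have hz1 : F.map t z = b₁ := congrArg (fun w : FibProd F _ _ => w.1.1) hz
    have hz2 : F.map (p'' ≫ q₂) z = F.map q₂ e := congrArg (fun w : FibProd F _ _ => w.1.2) hz
    refine ⟨z, ?_⟩
    apply FibProd.ext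
    · change F.map p' z = a
      rw [← ht', map_comp_apply', hz1, hb₁a]
    · change F.map p'' z = e
      apply bijE.1
      apply FibProd.ext
      · change F.map q₁ (F.map p'' z) = F.map q₁ e
        rw [← map_comp_apply', ← ht'', map_comp_apply', hz1, hb₁e]
      · change F.map q₂ (F.map p'' z) = F.map q₂ e
        rw [← map_comp_apply', hz2]

end Step

section Iso

variable {F : Art Λ k ⥤ Type v}

/-- invariance under isomorphisms. -/
theorem P_of_iso {E E' : Art Λ k} (i : E ⟶ E') (j : E' ⟶ E) (hij : i ≫ j = 𝟙 E) (hji : j ≫ i = 𝟙 E')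
    (h' : P F E') : P F E := by
  intro B A p' p'' h
  have hija : ∀ e : E, j (i e) = e := fun e => by
    change (i ≫ j) e = e
    rw [hij]; rfl
  have hjia : ∀ e : E', i (j e) = e := fun e => by
    change (j ≫ i) e = e
    rw [hji]; rfl
  have hnew : IsFibreProd p' (p'' ≫ i) (toBase A) (toBase E') :=
    { w := by rw [eq_toBase (p' ≫ toBase A), eq_toBase ((p'' ≫ i) ≫ toBase E')]
      inj := fun b₁ b₂ e₁ e₂ => by
        apply h.inj _ _ e₁
        have e₂' : i (p'' b₁) = i (p'' b₂) := e₂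
        rw [← hija (p'' b₁), ← hija (p'' b₂), e₂']
      surj := fun a e' hae => by
        have hae' : A.res a = E'.res e' := hae
        obtain ⟨b, hb₁, hb₂⟩ := h.surj a (j e') (by
          change A.res a = E.res (j e')
          rw [res_app, hae'])
        refine ⟨b, hb₁, ?_⟩
        change i (p'' b) = e'
        rw [hb₂, hjia] }
  have bij := h' p' (p'' ≫ i) hnew
  have hFij : ∀ x : F.obj E, F.map j (F.map i x) = x := fun x => by
    rw [← Functor.map_comp_apply, hij, Functor.map_id_apply]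
  constructor
  · intro z z' hzz
    have e1 : F.map p' z = F.map p' z' := congrArg (fun w : FibProd F _ _ => w.1.1) hzz
    have e2 : F.map p'' z = F.map p'' z' := congrArg (fun w : FibProd F _ _ => w.1.2) hzz
    apply bij.1
    apply FibProd.ext
    · exact e1
    · change F.map (p'' ≫ i) z = F.map (p'' ≫ i) z'
      rw [Functor.map_comp_apply, Functor.map_comp_apply, e2]
  · rintro ⟨⟨a, e⟩, hae⟩
    have hae' : F.map (toBase A) a = F.map (toBase E) e := hae
    have hi : i ≫ toBase E' = toBase E := eq_toBase _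
    obtain ⟨z, hz⟩ := bij.2 ⟨(a, F.map i e), by
      change F.map (toBase A) a = F.map (toBase E') (F.map i e)
      rw [← Functor.map_comp_apply, hi, hae']⟩
    have hz1 : F.map p' z = a := congrArg (fun w : FibProd F _ _ => w.1.1) hz
    have hz2 : F.map (p'' ≫ i) z = F.map i e := congrArg (fun w : FibProd F _ _ => w.1.2) hz
    refine ⟨z, ?_⟩
    apply FibProd.ext
    · exact hz1
    · change F.map p'' z = e
      have hz2' : F.map i (F.map p'' z) = F.map i e := by
        rw [← Functor.map_comp_apply]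
        exact hz2
      rw [← hFij (F.map p'' z), hz2', hFij]

/-- the base case: `E = k`. -/
theorem P_base : P F (base Λ k) := by
  intro B A p' p'' h
  obtain ⟨l, hl', hl''⟩ := exists_hom_of_isFibreProd h (𝟙 A) (toBase A) (by
    rw [eq_toBase (𝟙 A ≫ toBase A), eq_toBase (toBase A ≫ toBase (base Λ k))])
  have hpl : p' ≫ l = 𝟙 B := by
    apply hom_ext_of_isFibreProd h
    · rw [Category.assoc, hl', Category.comp_id, Category.id_comp]
    · rw [Category.assoc, hl'', Category.id_comp, eq_toBase (p' ≫ toBase A), eq_toBase p'']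
  constructor
  · intro z z' hzz
    have e1 : F.map p' z = F.map p' z' := congrArg (fun w : FibProd F _ _ => w.1.1) hzz
    have := congrArg (F.map l) e1
    rwa [← Functor.map_comp_apply, ← Functor.map_comp_apply, hpl, Functor.map_id_apply,
      Functor.map_id_apply] at this
  · rintro ⟨⟨a, c⟩, hac⟩
    have hac' : F.map (toBase A) a = F.map (toBase (base Λ k)) c := hac
    have hid : toBase (base Λ k) = 𝟙 (base Λ k) := (eq_toBase _).symm
    rw [hid, Functor.map_id_apply] at hac'
    refine ⟨F.map l a, ?_⟩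
    apply FibProd.ext
    · change F.map p' (F.map l a) = a
      rw [← Functor.map_comp_apply, hl', Functor.map_id_apply]
    · change F.map p'' (F.map l a) = c
      rw [← Functor.map_comp_apply, hl'', hac']

end Iso

section Induction

variable [IsNoetherianRing Λ] [Module.Finite Λ k]
variable {F : Art Λ k ⥤ Type v}

/-- `H_ε` implies the comparison map is bijective for `E = k ⊕ kⁿ`. -/
theorem P_tObj_fin (hF : Heps F) (n : ℕ) : P F (tObj Λ k (Fin n → k)) := by
  induction n with
  | zero =>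
    refine P_of_iso (toBase _) (baseTo Λ k (Fin 0 → k)) ?_ ?_ P_base
    · apply Art.hom_ext
      apply AlgHom.ext
      intro x
      apply TrivSqZeroExt.ext
      · rfl
      · exact Subsingleton.elim _ _
    · rw [eq_toBase (baseTo Λ k (Fin 0 → k) ≫ toBase _)]
      exact eq_toBase _
  | succ n ih =>
    have hrank : Module.finrank k (Fin (n + 1) → k) = Module.finrank k ((Fin n → k) × k) := by
      simp
    let ℓ : (Fin (n + 1) → k) ≃ₗ[k] ((Fin n → k) × k) := LinearEquiv.ofFinrankEq _ _ hrank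
    have hstep : P F (tObj Λ k ((Fin n → k) × k)) :=
      P_of_isFibreProd hF (tHom Λ k (LinearMap.fst k (Fin n → k) k))
        (tHom Λ k (LinearMap.snd k (Fin n → k) k)) (isFibreProd_prod Λ k) ih
    refine P_of_iso (tHom Λ k ℓ.toLinearMap) (tHom Λ k ℓ.symm.toLinearMap) ?_ ?_ hstep
    · rw [tHom_comp, ← tHom_id]
      congr 1
      ext x
      simp
    · rw [tHom_comp, ← tHom_id]
      congr 1
      ext x <;> simp

end Induction

section Classify

variable [IsNoetherianRing Λ] [Module.Finite Λ k]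

/-- an object with a section and `𝔪² = 0` is isomorphic to `k ⊕ kⁿ`. -/
theorem exists_iso_tObj (E : Art Λ k) (σ : base Λ k ⟶ E) (hE : maximalIdeal E ^ 2 = ⊥) :
    ∃ (n : ℕ) (i : E ⟶ tObj Λ k (Fin n → k)) (j : tObj Λ k (Fin n → k) ⟶ E),
      i ≫ j = 𝟙 E ∧ j ≫ i = 𝟙 _ := by
  classical
  have hσres : ∀ c : k, E.res (σ c) = c := fun c => res_app σ c
  have hmul0 : ∀ x y : E, x ∈ maximalIdeal E → y ∈ maximalIdeal E → x * y = 0 := by
    intro x y hx hy
    have : x * y ∈ maximalIdeal E ^ 2 := by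
      rw [pow_two]
      exact Ideal.mul_mem_mul hx hy
    rwa [hE, Ideal.mem_bot] at this
  let σr : k →+* E := (σ.toAlgHom : (base Λ k) →+* E)
  let modk : Module k ↥(maximalIdeal E) := Module.compHom _ σr
  have hsmul : ∀ (c : k) (x : ↥(maximalIdeal E)), ((c • x : ↥(maximalIdeal E)) : E) = σ c * x :=
    fun c x => rfl
  have htower : IsScalarTower Λ k ↥(maximalIdeal E) := by
    constructor
    intro a c x
    apply Subtype.ext
    rw [hsmul]
    have hσsmul : σ.toAlgHom (a • c) = a • σ.toAlgHom c := map_smul σ.toAlgHom a c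
    change σ.toAlgHom (a • c) * (x : E) = a • (σ.toAlgHom c * (x : E))
    rw [hσsmul, smul_mul_assoc]
  have hfinE : Module.Finite Λ E := Groth.Agent.Lib.ArtFunFibre.finite_carrier E
  have hNoeth : IsNoetherian Λ E := isNoetherian_of_isNoetherianRing_of_finite Λ E
  have hfinΛ : Module.Finite Λ ↥(maximalIdeal E) :=
    Module.Finite.of_injective ((maximalIdeal E).subtype.restrictScalars Λ) Subtype.val_injective
  have hfink : Module.Finite k ↥(maximalIdeal E) := Module.Finite.of_restrictScalars_finite Λ k _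
  let n := Module.finrank k ↥(maximalIdeal E)
  let ℓ : ↥(maximalIdeal E) ≃ₗ[k] (Fin n → k) := (Module.finBasis k ↥(maximalIdeal E)).equivFun
  let g : (Fin n → k) →ₗ[Λ] E :=
    ((maximalIdeal E).subtype.restrictScalars Λ).comp (ℓ.symm.toLinearMap.restrictScalars Λ)
  have hg_apply : ∀ w, g w = ((ℓ.symm w : ↥(maximalIdeal E)) : E) := fun w => rfl
  have hg_mem : ∀ w, g w ∈ maximalIdeal E := fun w => (ℓ.symm w).2
  let α : TrivSqZeroExt k (Fin n → k) →ₐ[Λ] E :=
    TrivSqZeroExt.lift σ.toAlgHom g (fun x y => hmul0 _ _ (hg_mem x) (hg_mem y))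
      (fun r x => by
        rw [hg_apply, hg_apply, map_smul]
        rfl)
      (fun r x => by
        rw [op_smul_eq_smul, hg_apply, hg_apply, map_smul, mul_comm]
        rfl)
  have hα : ∀ x, α x = σ x.fst + g x.snd := fun x => rfl
  have hαres : ∀ x, E.res (α x) = x.fst := by
    intro x
    rw [hα, map_add, (mem_maximalIdeal_iff E _).1 (hg_mem x.snd), add_zero]
    exact hσres x.fst
  have hinj : Function.Injective α := by
    rw [injective_iff_map_eq_zero]
    intro x hx
    have h1 : x.fst = 0 := by rw [← hαres x, hx, map_zero]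
    have h2 : g x.snd = 0 := by
      rw [hα, h1] at hx
      have h0 : σ (0 : k) = 0 := map_zero σ.toAlgHom
      rw [h0, zero_add] at hx
      exact hx
    have h3 : ℓ.symm x.snd = 0 := Subtype.ext h2
    have h4 : x.snd = 0 := by
      have := congrArg ℓ h3
      rwa [ℓ.apply_symm_apply, map_zero] at this
    exact TrivSqZeroExt.ext h1 h4
  have hsurj : Function.Surjective α := by
    intro e
    have hmem : e - σ (E.res e) ∈ maximalIdeal E := by
      rw [mem_maximalIdeal_iff, map_sub, hσres, sub_self]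
    refine ⟨(E.res e, ℓ ⟨e - σ (E.res e), hmem⟩), ?_⟩
    rw [hα]
    change σ (E.res e) + g (ℓ ⟨e - σ (E.res e), hmem⟩) = e
    rw [hg_apply, ℓ.symm_apply_apply]
    change σ (E.res e) + (e - σ (E.res e)) = e
    ring
  let αe : TrivSqZeroExt k (Fin n → k) ≃ₐ[Λ] E := AlgEquiv.ofBijective α ⟨hinj, hsurj⟩
  have hαe : ∀ x, αe x = α x := fun x => rfl
  let j : tObj Λ k (Fin n → k) ⟶ E := ⟨α, AlgHom.ext fun x => hαres x⟩
  let i : E ⟶ tObj Λ k (Fin n → k) := ⟨αe.symm.toAlgHom, AlgHom.ext fun e => by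
    change (αe.symm e).fst = E.res e
    rw [← hαres (αe.symm e), ← hαe, αe.apply_symm_apply]⟩
  refine ⟨n, i, j, ?_, ?_⟩
  · apply Art.hom_ext
    apply AlgHom.ext
    intro e
    exact αe.apply_symm_apply e
  · apply Art.hom_ext
    apply AlgHom.ext
    intro x
    exact αe.symm_apply_apply x

/-- `H_ε` implies bijectivity of the comparison map for every split square-zero object. -/
theorem P_of_split {F : Art Λ k ⥤ Type v} (hF : Heps F) (E : Art Λ k) (σ : base Λ k ⟶ E)
    (hE : maximalIdeal E ^ 2 = ⊥) : P F E := by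
  obtain ⟨n, i, j, hij, hji⟩ := exists_iso_tObj E σ hE
  exact P_of_iso i j hij hji (P_tObj_fin hF n)

end Classify

end Groth.Agent.Lib.H59HepsSplit
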