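import Groth.Agent.Lib.H59SnapComp
import Groth.Agent.Lib.SnapCoeff13

/-!
# helper59: intersection numbers are carried by the top-dimensional components

`(L_1 ⋯ L_r ; F) = Σ_ξ length(F_ξ) · (L_1 ⋯ L_r ; O_{Z_ξ})` for `dim Supp F ≤ r`, the sum over the generic points of the
`r`-dimensional components of `Supp F` (`FGA.intNum` form).  From `H59SnapComp.good_of_isCoh` and the vanishing of mixed
differences of polynomials of degree `< r` (helper13's `MixedDiff13`).
-/

set_option autoImplicit false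
universe u
open CategoryTheory CategoryTheory.Limits AlgebraicGeometry TopologicalSpace

namespace Groth.Agent.Lib.H59IntNumComp

open Groth.Agent.Lib Groth.Agent.Lib.IsoCls13 Groth.Agent.Lib.H59EulerClosed
  Groth.Agent.Lib.H59SnapComp Groth.Agent.Lib.MixedDiff13 Groth.Agent.Lib.H90DevCanon

section Poly

variable {r : ℕ}

/-- the mixed difference of a polynomial function of degree `< r` in `r` variables vanishes -/
theorem sum_powerset_polyLt {f : (Fin r → ℕ) → ℚ} (hf : PolyLt r f) :
    ∑ I : Finset (Fin r), (-1 : ℚ) ^ I.card * f (indNat I) = 0 := by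
  obtain ⟨P, hP, hf⟩ := hf
  rcases Nat.eq_zero_or_pos r with h0 | hpos
  · subst h0
    have hP0 : P = 0 := by
      rw [← MvPolynomial.support_eq_empty]
      apply Finset.eq_empty_of_forall_notMem
      intro m hm
      exact absurd (hP m hm) (Nat.not_lt_zero _)
    refine Finset.sum_eq_zero fun I _ => ?_
    rw [hf, hP0]; simp
  · have hdeg : P.totalDegree < r := by
      unfold MvPolynomial.totalDegree
      rw [Finset.sup_lt_iff (by exact hpos)]
      exact hP
    have h := sum_powerset_eval_eq_zero P hdeg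
    rw [← h]
    refine Finset.sum_congr rfl fun I _ => ?_
    rw [hf, ind_eq_indNat]

end Poly

variable (k : Type u) [Field k] (X : Scheme.{u}) [X.Over (Spec (CommRingCat.of k))]
  [IsProper (X ↘ Spec (CommRingCat.of k))]

/-- the mixed difference of `n ↦ χ(G ⊗ M^n)` is `FGA.intNum` -/
theorem sum_Qe_eq_intNum (D : ℕ) (hD : topologicalKrullDim X ≤ D) {r : ℕ} (M : Fin r → X.Modules)
    (G : X.Modules) :
    ∑ I : Finset (Fin r), (-1 : ℤ) ^ I.card * Qe k X M G (indNat I) = FGA.intNum k X D M G := by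
  rw [intNum_eq]
  refine Finset.sum_congr rfl fun I _ => ?_
  congr 1
  unfold Qe
  rw [← EulerLE48.eulerCharLE_eq_euler k X H59SnapperCurv.vanHyp D hD, ← chi_cls,
    H59EulerClosed.cls_tensorPows, SnapCoeff13.prod_pow_indNat, mul_comm]

/-- the closed set `closure {ξ}` -/
abbrev Zcl (ξ : X) : Closeds X := ⟨closure ({ξ} : Set X), isClosed_closure⟩

theorem Qe_hub_eq_compEuler {r : ℕ} (L : Fin r → X.Modules) (hL : ∀ i, PicF.IsInvertible (L i))
    (ξ : X) (n : Fin r → ℕ) :
    (Qe k X L (hub (Zcl X ξ)) n : ℚ) = compEuler k X L ξ n := by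
  unfold Qe compEuler
  haveI : X.IsSeparated :=
    Groth.Agent.Lib.H90ProperFin.isSeparated_of_over_affine (X ↘ (Spec (CommRingCat.of k)))
  letI : (ZZ (Zcl X ξ)).Over (Spec (CommRingCat.of k)) :=
    ⟨iZ (Zcl X ξ) ≫ (X ↘ (Spec (CommRingCat.of k)))⟩
  haveI : (iZ (Zcl X ξ)).IsOver (Spec (CommRingCat.of k)) := ⟨rfl⟩
  haveI : (Coh.structureModule (ZZ (Zcl X ξ))).IsQuasicoherent :=
    (Groth.Agent.Lib.CohFinAmple.isCoh_structureModule _).1
  congr 1
  exact euler_tensorPows_pushforward k (iZ (Zcl X ξ)) (Coh.structureModule (ZZ (Zcl X ξ))) r L hL n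

/-- **Intersection numbers are carried by the top-dimensional components of the support.** -/
theorem intNum_eq_sum (D : ℕ) (hD : topologicalKrullDim X ≤ D) {r : ℕ} (M : Fin r → X.Modules)
    (hM : ∀ i, PicF.IsInvertible (M i)) (F : X.Modules) (hF : Coh.IsCoh F)
    (hsupp : topologicalKrullDim ↥(CohB1.support F) ≤ r) (s : Finset X)
    (hs : ∀ ξ : X, ξ ∈ s ↔ ξ ∈ CohB1.support F ∧ topologicalKrullDim ↥(closure ({ξ} : Set X)) = r) :
    FGA.intNum k X D M F =
      ∑ ξ ∈ s, ((Module.length (X.presheaf.stalk ξ) (F.presheaf.stalk ξ)).toNat : ℤ) *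
        FGA.intNum k X D M (ClSub.quotMod (Scheme.IdealSheafData.vanishingIdeal
          ⟨closure ({ξ} : Set X), isClosed_closure⟩)) := by
  haveI := Groth.Agent.Lib.EulerLE48.isNoetherian k X
  have G := good_of_isCoh k r M hM hF hsupp
  have hsum : ∀ n, ∑ᶠ ξ, term k X r M F n ξ =
      ∑ ξ ∈ s, ((len X F ξ).toNat : ℚ) * (Qe k X M (hub (Zcl X ξ)) n : ℚ) := by
    intro n
    have hsub : Function.support (term k X r M F n) ⊆ ↑s := by
      intro ξ hξ
      obtain ⟨h1, h2⟩ := support_term_subset k r M F n hξ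
      exact (hs ξ).2 ⟨h2, h1⟩
    rw [finsum_eq_sum_of_support_subset _ hsub]
    refine Finset.sum_congr rfl fun ξ hξ => ?_
    unfold term
    rw [if_pos ((hs ξ).1 hξ).2, Qe_hub_eq_compEuler k X M hM]
  have hpoly : PolyLt r (fun n => (Qe k X M F n : ℚ) -
      ∑ ξ ∈ s, ((len X F ξ).toNat : ℚ) * (Qe k X M (hub (Zcl X ξ)) n : ℚ)) :=
    G.poly.congr fun n => by rw [hsum n]
  have h0 := sum_powerset_polyLt hpoly
  simp only [mul_sub, Finset.sum_sub_distrib, Finset.mul_sum] at h0
  rw [sub_eq_zero, Finset.sum_comm] at h0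
  apply Int.cast_injective (α := ℚ)
  rw [← sum_Qe_eq_intNum k X D hD M F]
  push_cast
  rw [h0]
  refine Finset.sum_congr rfl fun ξ _ => ?_
  rw [← sum_Qe_eq_intNum k X D hD M]
  push_cast
  rw [Finset.mul_sum]
  refine Finset.sum_congr rfl fun I _ => ?_
  unfold len
  ring

end Groth.Agent.Lib.H59IntNumComp
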