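import Groth.Agent.Lib.H30DimField
import Groth.Agent.Lib.H59QuotStalk

/-!
# Depth of local rings at closed points of equidimensional Cohen–Macaulay schemes over a field (helper59)

* `isClosed_singleton_of_finite_closed`: points of finite closed subsets of a Jacobson space are closed.
* `ringKrullDim_stalk_of_isClosed`: for `X` locally of finite type over a field whose irreducible components all have
  dimension `n`, `dim O_{X,x} = n` at closed points `x`.
* `depth_stalk_of_isClosed`: if moreover `O_{X,x}` is Cohen–Macaulay, `depth O_{X,x} = n`.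
-/

set_option autoImplicit false
universe u
open CategoryTheory CategoryTheory.Limits AlgebraicGeometry TopologicalSpace Opposite

namespace Groth.Agent.Lib.H59SurfDepth

open Groth.Agent.Lib.H30DimField

/-- In a Jacobson space, all points of a finite closed set are closed. -/
theorem isClosed_singleton_of_finite_closed {T : Type*} [TopologicalSpace T] [JacobsonSpace T]
    {Z : Set T} (hZ : IsClosed Z) (hfin : Z.Finite) {x : T} (hx : x ∈ Z) : IsClosed ({x} : Set T) := by
  have h1 := JacobsonSpace.closure_inter_closedPoints_eq_closure hZ.isLocallyClosed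
  rw [hZ.closure_eq] at h1
  have hfin' : (Z ∩ closedPoints T).Finite := hfin.subset Set.inter_subset_left
  have hcl : IsClosed (Z ∩ closedPoints T) := by
    rw [← Set.biUnion_of_singleton (Z ∩ closedPoints T)]
    exact hfin'.isClosed_biUnion (fun y hy => hy.2)
  rw [hcl.closure_eq] at h1
  have : x ∈ Z ∩ closedPoints T := by rw [h1]; exact hx
  exact this.2

variable (k : Type u) [Field k] (X : Scheme.{u}) [X.Over (Spec (CommRingCat.of k))]
  [LocallyOfFiniteType (X ↘ Spec (CommRingCat.of k))]

include k in
/-- `dim O_{X,x} = n` at closed points of an equidimensional scheme of dimension `n`, locally of finite type over a field. -/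
theorem ringKrullDim_stalk_of_isClosed (n : ℕ)
    (hdim : ∀ Z ∈ irreducibleComponents (X : Type u), topologicalKrullDim Z = n)
    (x : X) (hx : IsClosed ({x} : Set X)) :
    ringKrullDim (X.presheaf.stalk x) = n := by
  haveI := isLocallyNoetherian k X
  have hδ := isDimFun k X
  obtain ⟨ξ, hξmax, hξx, hdimx⟩ := stalk_dim_exists hδ x
  have hx0 := td_eq_zero_of_isClosed k X x hx
  have hcomp : closure ({ξ} : Set X) ∈ irreducibleComponents X :=
    (closure_mem_irreducibleComponents_iff ξ).mpr hξmax
  have h2 := hdim _ hcomp
  haveI : QuasiSober (closure ({ξ} : Set X)) :=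
    isClosed_closure.isClosedEmbedding_subtypeVal.quasiSober
  have hδZ := isDimFun_convex hδ (closure ({ξ} : Set X)) (fun v hv w _ z hvz _ =>
    isClosed_closure.closure_subset_iff.mpr (Set.singleton_subset_iff.mpr hv)
      (specializes_iff_mem_closure.mp hvz))
  have h3 := Groth.Agent.S6462.krullDim_eq _ hδZ (fun y => td_nonneg k X y.1)
    ⟨ξ, subset_closure rfl⟩
    (fun y => (subtype_specializes_iff _ _).mpr (specializes_iff_mem_closure.mpr y.2))
    ⟨x, specializes_iff_mem_closure.mp hξx⟩ hx0
  rw [h3] at h2
  rw [hdimx, hx0, sub_zero]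
  exact h2

include k in
/-- `depth O_{X,x} = n` at closed Cohen–Macaulay points of an equidimensional scheme of dimension `n`. -/
theorem depth_stalk_of_isClosed (n : ℕ)
    (hdim : ∀ Z ∈ irreducibleComponents (X : Type u), topologicalKrullDim Z = n)
    (x : X) (hx : IsClosed ({x} : Set X))
    (hCM : LocCoh.IsCohenMacaulayLocalRing (X.presheaf.stalk x)) :
    LocCoh.depth (X.presheaf.stalk x) (X.presheaf.stalk x) = n := by
  have h1 := hCM.supportDim_eq_depth
  rw [Module.supportDim_self_eq_ringKrullDim, ringKrullDim_stalk_of_isClosed k X n hdim x hx] at h1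
  have h2 : ((n : ℕ∞) : WithBot ℕ∞) = ((LocCoh.depth (X.presheaf.stalk x) (X.presheaf.stalk x) : ℕ∞) : WithBot ℕ∞) := h1
  exact (WithBot.coe_injective h2).symm

end Groth.Agent.Lib.H59SurfDepth
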