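import Groth.Agent.Lib.H59IntTwoCurves
import Groth.Agent.Lib.H59SurfDepth
import Groth.Agent.Lib.H80Equi1

/-!
# `(C · D) = h^0(O_{C ∩ D})` on equidimensional Cohen–Macaulay proper surfaces (helper59)
-/

set_option autoImplicit false
universe u
open CategoryTheory CategoryTheory.Limits AlgebraicGeometry

namespace Groth.Agent.Lib.H59IntTwoCM

open Groth.Agent.Lib

variable (k : Type u) [Field k] (X : Scheme.{u}) [X.Over (Spec (CommRingCat.of k))]
  [IsProper (X ↘ Spec (CommRingCat.of k))]

/-- `(C · D) = h^0(O_{C ∩ D})` on a proper scheme over a field all of whose irreducible components have dimension `2` and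
whose local rings at closed points are Cohen–Macaulay, for effective Cartier divisors `C`, `D` with `C ∩ D` finite. -/
theorem intNum_two_eq_finrank
    (hdim : ∀ Z ∈ irreducibleComponents (X : Type u), topologicalKrullDim Z = 2)
    (hCM : ∀ x : X, LocCoh.IsCohenMacaulayLocalRing (X.presheaf.stalk x))
    (IC ID : X.IdealSheafData) (hC : FGA.IsEffCartier IC) (hD : FGA.IsEffCartier ID)
    (hfin : ((IC ⊔ ID).support : Set X).Finite) :
    FGA.intNum k X 2 ![ClSub.idealMod IC, ClSub.idealMod ID] (Coh.structureModule X) =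
      (Module.finrank k (Coh.HH X (ClSub.quotMod (IC ⊔ ID)) 0) : ℤ) := by
  haveI := H30DimField.isLocallyNoetherian k X
  haveI := H30DimField.jacobsonSpace k X
  have hd : topologicalKrullDim X ≤ ((2 : ℕ) : WithBot ℕ∞) :=
    H80Equi.topologicalKrullDim_le_of_forall_irreducibleComponents _ (fun T hT => (hdim T hT).le)
  have hcl : ∀ x ∈ (IC ⊔ ID).support, IsClosed ({x} : Set X) := fun x hx =>
    H59SurfDepth.isClosed_singleton_of_finite_closed (IC ⊔ ID).support.isClosed hfin hx
  refine H59IntTwoCurves.intNum_two_eq_finrank k 2 hd IC ID hC hD (fun x hxC => ?_) hcl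
  by_cases hxD : x ∈ ID.support
  · have hx : x ∈ (IC ⊔ ID).support := by
      rw [Scheme.IdealSheafData.support_sup]
      exact ⟨hxC, hxD⟩
    obtain ⟨U, hxU, f, hf, hIU⟩ := hD x
    haveI : IsNoetherianRing (X.presheaf.stalk x) := inferInstance
    refine H59QuotStalk.not_isAssPoint_quotMod ID U f hf hIU x hxU hxD ?_
    rw [H59SurfDepth.depth_stalk_of_isClosed k X 2 (by exact_mod_cast hdim) x (hcl x hx) (hCM x)]
    rfl
  · intro hass
    have hsub : Subsingleton ((ClSub.quotMod ID).presheaf.stalk x) := by
      by_contra hns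
      have h1 : x ∈ CohB1.support (ClSub.quotMod ID) := hns
      have h2 := H90DevTwo2.support_push_subset ID.subschemeι
        (Coh.structureModule ID.subscheme) h1
      rw [ID.range_subschemeι] at h2
      exact hxD h2
    exact not_isAssociatedPrime_of_subsingleton hass

end Groth.Agent.Lib.H59IntTwoCM
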