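import Groth.Prelude.Def_ArtFun3
import Mathlib.RingTheory.Ideal.Cotangent
import Mathlib.RingTheory.LocalRing.ResidueField.Basic
import Mathlib.Algebra.BigOperators.Fin
import Mathlib.RingTheory.HopkinsLevitzki

/-!
# Towers of surjections of Artinian objects (helper59)

* `tower_exists`: every element at some level of a tower of surjections extends to a compatible sequence.
* `card_le_finrank_cotangent`: a family in `m` independent modulo `m²` has at most `dim m/m²` members.
* `exists_gens`: in a tower of Artinian objects with bounded embedding dimension, there are finitely many compatible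
  sequences in the maximal ideals generating `m_{A_n}` modulo `m_{A_n}²` at every level.
-/

set_option autoImplicit false
universe u v
open CategoryTheory ArtFun ArtFun.Art IsLocalRing

namespace Groth.Agent.Lib.H59LimTower

theorem tower_exists : ∀ (n : ℕ) {A : ℕ → Type u} (f : ∀ n, A (n + 1) → A n)
    (_ : ∀ n, Function.Surjective (f n)) (y : A n),
    ∃ a : ∀ i, A i, (∀ i, f i (a (i + 1)) = a i) ∧ a n = y := by
  intro n
  induction n with
  | zero =>
    intro A f hf y
    refine ⟨fun i => Nat.rec (motive := fun i => A i) y (fun i prev => Function.surjInv (hf i) prev) i,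
      fun i => ?_, rfl⟩
    exact Function.surjInv_eq (hf i) _
  | succ n ih =>
    intro A f hf y
    obtain ⟨a', ha', hy⟩ := ih (A := fun i => A (i + 1)) (fun i => f (i + 1)) (fun i => hf (i + 1)) y
    refine ⟨fun i => match i with
      | 0 => f 0 (a' 0)
      | i + 1 => a' i, ?_, hy⟩
    intro i
    cases i with
    | zero => rfl
    | succ i => exact ha' i

theorem card_le_finrank_cotangent {R : Type*} [CommRing R] [IsLocalRing R] [IsNoetherianRing R]
    {r : ℕ} (x : Fin r → R) (hx : ∀ i, x i ∈ maximalIdeal R)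
    (hind : ∀ c : Fin r → R, ∑ i, c i * x i ∈ maximalIdeal R ^ 2 → ∀ i, c i ∈ maximalIdeal R) :
    r ≤ Module.finrank (ResidueField R) (CotangentSpace R) := by
  classical
  let v : Fin r → CotangentSpace R := fun i => (maximalIdeal R).toCotangent ⟨x i, hx i⟩
  have hli : LinearIndependent (ResidueField R) v := by
    rw [Fintype.linearIndependent_iff]
    intro g hg i
    choose c hc using fun i => IsLocalRing.residue_surjective (g i)
    have h1 : ∑ i, g i • v i = (maximalIdeal R).toCotangent ⟨∑ i, c i * x i,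
        Ideal.sum_mem _ fun i _ => Ideal.mul_mem_left _ _ (hx i)⟩ := by
      have h2 : (⟨∑ i, c i * x i, Ideal.sum_mem _ fun i _ => Ideal.mul_mem_left _ _ (hx i)⟩ :
          maximalIdeal R) = ∑ i, c i • (⟨x i, hx i⟩ : maximalIdeal R) := by
        apply Subtype.ext
        rw [Submodule.coe_sum]
        rfl
      rw [h2, map_sum]
      apply Finset.sum_congr rfl
      intro i _
      rw [map_smul, ← hc i]
      rfl
    rw [h1, Ideal.toCotangent_eq_zero] at hg
    have := hind c hg i
    rw [← hc i]
    exact (IsLocalRing.residue_eq_zero_iff _).2 this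
  have := hli.fintype_card_le_finrank
  rwa [Fintype.card_fin] at this


variable {Λ : Type u} {k : Type u} [CommRing Λ] [Field k] [Algebra Λ k]

section Tower

variable (A : ℕ → Art Λ k) (f : ∀ n, A (n + 1) ⟶ A n)

/-- compatible sequences have constant residue. -/
theorem res_eq_of_compat (a : ∀ n, A n) (ha : ∀ n, f n (a (n + 1)) = a n) (n : ℕ) :
    (A n).res (a n) = (A 0).res (a 0) := by
  induction n with
  | zero => rfl
  | succ n ih => rw [← ih, ← ha n, res_app]

theorem mem_maximalIdeal_of_compat (a : ∀ n, A n) (ha : ∀ n, f n (a (n + 1)) = a n) (m n : ℕ)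
    (h : a m ∈ maximalIdeal (A m)) : a n ∈ maximalIdeal (A n) := by
  rw [Art.mem_maximalIdeal_iff] at h ⊢
  rw [res_eq_of_compat A f a ha n, ← res_eq_of_compat A f a ha m, h]

theorem map_mem_maximalIdeal_iff {B C : Art Λ k} (g : B ⟶ C) (b : B) :
    g b ∈ maximalIdeal C ↔ b ∈ maximalIdeal B := by
  rw [Art.mem_maximalIdeal_iff, Art.mem_maximalIdeal_iff, res_app]

theorem map_sq_le {B C : Art Λ k} (g : B ⟶ C) :
    (maximalIdeal B ^ 2).map (g.toAlgHom : B →+* C) ≤ maximalIdeal C ^ 2 := by
  rw [Ideal.map_pow]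
  apply Ideal.pow_right_mono
  rw [Ideal.map_le_iff_le_comap]
  intro b hb
  exact (map_mem_maximalIdeal_iff g b).2 hb

/-- independence modulo `m²` at level `n`. -/
def Indep (n r : ℕ) (x : Fin r → ∀ n, A n) : Prop :=
  ∀ c : Fin r → A n, ∑ i, c i * x i n ∈ maximalIdeal (A n) ^ 2 → ∀ i, c i ∈ maximalIdeal (A n)

/-- generation modulo `m²` at level `n`. -/
def Gen (n r : ℕ) (x : Fin r → ∀ n, A n) : Prop :=
  maximalIdeal (A n) ≤ Ideal.span (Set.range fun i => x i n) ⊔ maximalIdeal (A n) ^ 2

variable {A f}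

theorem indep_succ {n r : ℕ} {x : Fin r → ∀ n, A n} (hx : ∀ i n, f n (x i (n + 1)) = x i n)
    (h : Indep A n r x) : Indep A (n + 1) r x := by
  intro c hc i
  have h1 : (f n).toAlgHom (∑ i, c i * x i (n + 1)) ∈ maximalIdeal (A n) ^ 2 :=
    map_sq_le (f n) (Ideal.mem_map_of_mem _ hc)
  rw [map_sum] at h1
  have h2 : ∑ i, (fun i => f n (c i)) i * x i n ∈ maximalIdeal (A n) ^ 2 := by
    convert h1 using 1
    apply Finset.sum_congr rfl
    intro i _
    rw [map_mul]
    change f n (c i) * x i n = f n (c i) * f n (x i (n + 1))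
    rw [hx]
  exact (map_mem_maximalIdeal_iff (f n) (c i)).1 (h _ h2 i)

theorem indep_of_le {n₀ n r : ℕ} {x : Fin r → ∀ n, A n} (hx : ∀ i n, f n (x i (n + 1)) = x i n)
    (hn : n₀ ≤ n) (h : Indep A n₀ r x) : Indep A n r x := by
  induction n, hn using Nat.le_induction with
  | base => exact h
  | succ n _ ih => exact indep_succ hx ih

theorem gen_pred (hf : ∀ n, Function.Surjective (f n)) {n r : ℕ} {x : Fin r → ∀ n, A n}
    (hx : ∀ i n, f n (x i (n + 1)) = x i n) (h : Gen A (n + 1) r x) : Gen A n r x := by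
  intro a ha
  obtain ⟨b, rfl⟩ := hf n a
  have hb : b ∈ maximalIdeal (A (n + 1)) := (map_mem_maximalIdeal_iff (f n) b).1 ha
  have h1 := Ideal.mem_map_of_mem ((f n).toAlgHom : A (n + 1) →+* A n) (h hb)
  rw [Ideal.map_sup, Ideal.map_span] at h1
  refine (sup_le_sup (le_of_eq ?_) (map_sq_le (f n))) h1
  congr 1
  ext z
  constructor
  · rintro ⟨_, ⟨i, rfl⟩, rfl⟩
    exact ⟨i, (hx i n).symm⟩
  · rintro ⟨i, rfl⟩
    exact ⟨_, ⟨i, rfl⟩, hx i n⟩

theorem gen_of_le (hf : ∀ n, Function.Surjective (f n)) {n N r : ℕ} {x : Fin r → ∀ n, A n}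
    (hx : ∀ i n, f n (x i (n + 1)) = x i n) (hn : n ≤ N) (h : Gen A N r x) : Gen A n r x := by
  induction N, hn using Nat.le_induction with
  | base => exact h
  | succ N _ ih => exact ih (gen_pred hf hx h)

theorem exists_gens (hf : ∀ n, Function.Surjective (f n))
    (d : ℕ) (hd : ∀ n, Module.finrank (ResidueField (A n)) (CotangentSpace (A n)) ≤ d) :
    ∃ (r : ℕ) (x : Fin r → ∀ n, A n), (∀ i n, f n (x i (n + 1)) = x i n) ∧
      (∀ i n, x i n ∈ maximalIdeal (A n)) ∧
      ∀ n, maximalIdeal (A n) ≤ Ideal.span (Set.range fun i => x i n) ⊔ maximalIdeal (A n) ^ 2 := by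
  classical
  let P : ℕ → Prop := fun r => ∃ x : Fin r → ∀ n, A n, (∀ i n, f n (x i (n + 1)) = x i n) ∧
    (∀ i n, x i n ∈ maximalIdeal (A n)) ∧ ∃ n₀, Indep A n₀ r x
  have hP0 : P 0 := ⟨fun i => Fin.elim0 i, fun i => Fin.elim0 i, fun i => Fin.elim0 i, 0,
    fun c _ i => Fin.elim0 i⟩
  have hPle : ∀ r, P r → r ≤ d := by
    rintro r ⟨x, _, hxm, n₀, hind⟩
    exact (card_le_finrank_cotangent (fun i => x i n₀) (fun i => hxm i n₀) hind).trans (hd n₀)
  have hPr : P (Nat.findGreatest P d) := Nat.findGreatest_spec (Nat.zero_le d) hP0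
  have hPr1 : ¬ P (Nat.findGreatest P d + 1) := by
    intro h
    exact Nat.findGreatest_is_greatest (Nat.lt_succ_self _) (hPle _ h) h
  generalize Nat.findGreatest P d = r at hPr hPr1
  obtain ⟨x, hxc, hxm, n₀, hind⟩ := hPr
  refine ⟨r, x, hxc, hxm, ?_⟩
  have hgen : ∀ n, n₀ ≤ n → Gen A n r x := by
    intro n hn
    by_contra hcon
    obtain ⟨y, hym, hyT⟩ := SetLike.not_le_iff_exists.1 hcon
    obtain ⟨yy, hyyc, hyyn⟩ := tower_exists n (A := fun i => (A i : Type u)) (fun i => (f i : A (i + 1) → A i)) hf y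
    apply hPr1
    refine ⟨Fin.cons yy x, ?_, ?_, n, ?_⟩
    · intro i m
      refine Fin.cases ?_ (fun i => ?_) i
      · exact hyyc m
      · exact hxc i m
    · intro i m
      refine Fin.cases ?_ (fun i => ?_) i
      · exact mem_maximalIdeal_of_compat A f yy hyyc n m (by rw [hyyn]; exact hym)
      · exact hxm i m
    · intro c hc
      rw [Fin.sum_univ_succ] at hc
      have hc' : c 0 * y + ∑ i : Fin r, c i.succ * x i n ∈ maximalIdeal (A n) ^ 2 := by
        have h0 : (Fin.cons yy x : Fin (r + 1) → ∀ n, A n) 0 n = y := hyyn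
        rw [h0] at hc
        exact hc
      have hc0 : c 0 ∈ maximalIdeal (A n) := by
        by_contra hnm
        have hu : IsUnit (c 0) := by
          by_contra hnu
          exact hnm ((mem_maximalIdeal _).2 hnu)
        apply hyT
        have hsum : ∑ i : Fin r, c i.succ * x i n ∈
            Ideal.span (Set.range fun i => x i n) ⊔ maximalIdeal (A n) ^ 2 := by
          apply Submodule.mem_sup_left
          apply Submodule.sum_mem
          intro i _
          exact Ideal.mul_mem_left _ _ (Ideal.subset_span ⟨i, rfl⟩)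
        have h1 : c 0 * y ∈ Ideal.span (Set.range fun i => x i n) ⊔ maximalIdeal (A n) ^ 2 := by
          have h2 : c 0 * y = (c 0 * y + ∑ i : Fin r, c i.succ * x i n) -
              ∑ i : Fin r, c i.succ * x i n := by ring
          rw [h2]
          exact Ideal.sub_mem _ (Submodule.mem_sup_right hc') hsum
        have h3 : y = ↑hu.unit⁻¹ * (c 0 * y) := by
          rw [← mul_assoc, IsUnit.val_inv_mul, one_mul]
        rw [h3]
        exact Ideal.mul_mem_left _ _ h1
      have hrest : ∑ i : Fin r, c i.succ * x i n ∈ maximalIdeal (A n) ^ 2 := by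
        have h2 : ∑ i : Fin r, c i.succ * x i n = (c 0 * y + ∑ i : Fin r, c i.succ * x i n) -
            c 0 * y := by ring
        rw [h2]
        refine Ideal.sub_mem _ hc' ?_
        rw [sq]
        exact Ideal.mul_mem_mul hc0 hym
      have := indep_of_le hxc hn hind (fun i => c i.succ) hrest
      intro i
      refine Fin.cases hc0 (fun i => this i) i
  intro n
  exact gen_of_le hf hxc (le_max_left n n₀) (hgen _ (le_max_right n n₀))

end Tower

end Groth.Agent.Lib.H59LimTower
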