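import Groth.Agent.Lib.H59Weight3
import Mathlib.AlgebraicGeometry.Fiber
import Mathlib.FieldTheory.PurelyInseparable.Basic

/-!
# Geometric number of points of the fibres of a quasi-finite morphism (helper59)

For a quasi-compact locally quasi-finite morphism `f` locally of finite type, the number
`MoreMor.nGeomConnComp f y` of connected components of the geometric fibre over `y` is the fibre
integral of the constant function `1` (the sum of the separable degrees of the residue field
extensions of the points of the fibre).
-/

set_option autoImplicit false
set_option linter.style.haveILetI false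
universe u
open CategoryTheory AlgebraicGeometry CategoryTheory.Limits IsLocalRing MorphismProperty

namespace Groth.Agent.Lib.H59NGeom

open Groth.Agent.Lib.H59FibInt Groth.Agent.Lib.H59GeomPoints Groth.Agent.Lib.H59Weight

/-- Being separably closed transfers along ring isomorphisms. -/
theorem isSepClosed_of_ringEquiv {k k' : Type*} [Field k] [Field k'] (e : k ≃+* k')
    [IsSepClosed k] : IsSepClosed k' := by
  refine ⟨fun p hp => ?_⟩
  have h1 : (p.map (e.symm : k' →+* k)).Separable := hp.map
  have h2 := IsSepClosed.splits_of_separable _ h1
  have h3 := h2.map (e : k →+* k')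
  rwa [Polynomial.map_map, show (e : k →+* k').comp (e.symm : k' →+* k) = RingHom.id k' from by
    ext x; simp, Polynomial.map_id] at h3

/-- The residue field of the spectrum of a field at its point is that field. -/
theorem exists_ringEquiv_residueField_Spec (K : Type u) [Field K] (x : Spec (.of K)) :
    Nonempty (K ≃+* (Spec (.of K)).residueField x) := by
  haveI : x.asIdeal.IsMaximal := by
    have : x.asIdeal = ⊥ := by
      have := x.2
      exact (eq_bot_or_eq_top x.asIdeal).resolve_right this.ne_top
    rw [this]
    exact Ideal.bot_isMaximal
  have hsurj : Function.Surjective (algebraMap K x.asIdeal.ResidueField) :=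
    Ideal.algebraMap_residueField_surjective _
  have hinj : Function.Injective (algebraMap K x.asIdeal.ResidueField) :=
    (algebraMap K x.asIdeal.ResidueField).injective
  exact ⟨(RingEquiv.ofBijective _ ⟨hinj, hsurj⟩).trans
    (Scheme.Spec.residueFieldIso (.of K) x).symm.commRingCatIsoToRingEquiv⟩

instance (K : Type u) [Field K] [IsSepClosed K] (x : Spec (.of K)) :
    IsSepClosed ((Spec (.of K)).residueField x) := by
  obtain ⟨e⟩ := exists_ringEquiv_residueField_Spec K x
  exact isSepClosed_of_ringEquiv e

variable {G : Scheme.{u}}

/-- Over a separably closed field, a locally quasi-finite morphism has separable degrees `1`. -/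
theorem sepDeg_eq_one_of_isSepClosed (K : Type u) [Field K] [IsSepClosed K]
    (q : G ⟶ Spec (.of K)) [LocallyQuasiFinite q] (g : G) : sepDeg q g = 1 := by
  unfold sepDeg
  letI := (q.residueFieldMap g).hom.toAlgebra
  haveI : Module.Finite ((Spec (.of K)).residueField (q g)) (G.residueField g) :=
    finite_residueFieldMap q g
  haveI : IsPurelyInseparable ((Spec (.of K)).residueField (q g)) (G.residueField g) :=
    inferInstance
  exact IsPurelyInseparable.finSepDegree_eq_one _ _

section overField

variable (K : Type u) [Field K] (q : G ⟶ Spec (.of K)) [LocallyQuasiFinite q] [QuasiCompact q]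

include q in
theorem finite_of_quasiFinite_over_field : Finite G := by
  obtain ⟨x⟩ : Nonempty (Spec (.of K)) := ⟨⟨⊥, Ideal.isPrime_bot⟩⟩
  have h := q.finite_preimage_singleton x
  have huniv : q ⁻¹' {x} = Set.univ := by
    ext g
    simp only [Set.mem_preimage, Set.mem_singleton_iff, Set.mem_univ, iff_true]
    exact Subsingleton.elim (α := PrimeSpectrum K) _ _
  rw [huniv] at h
  exact Set.finite_univ_iff.mp h

include q in
theorem discreteTopology_of_quasiFinite_over_field : DiscreteTopology G := by
  obtain ⟨x⟩ : Nonempty (Spec (.of K)) := ⟨⟨⊥, Ideal.isPrime_bot⟩⟩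
  have h := q.isDiscrete_preimage_singleton x
  have huniv : q ⁻¹' {x} = Set.univ := by
    ext g
    simp only [Set.mem_preimage, Set.mem_singleton_iff, Set.mem_univ, iff_true]
    exact Subsingleton.elim (α := PrimeSpectrum K) _ _
  rw [huniv] at h
  exact isDiscrete_univ_iff.mp h

/-- Over a separably closed field, the fibre integral of `1` is the number of points. -/
theorem fibreIntegral_one_eq_card [IsSepClosed K] (x : Spec (.of K)) :
    MoreMor.fibreIntegral q (fun _ => 1) x = (Nat.card G : ℤ) := by
  haveI := finite_of_quasiFinite_over_field K q
  unfold MoreMor.fibreIntegral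
  have h1 : ∀ u : {u : G // q u = x}, (1 : ℤ) * (letI := (q.residueFieldMap u.1).hom.toAlgebra
      (Field.finSepDegree ((Spec (.of K)).residueField (q u.1)) (G.residueField u.1) : ℤ)) = 1 := by
    intro u
    have := sepDeg_eq_one_of_isSepClosed K q u.1
    unfold sepDeg at this
    rw [this]
    simp
  simp_rw [h1]
  let e : {u : G // q u = x} ≃ G :=
    { toFun := fun u => u.1
      invFun := fun g => ⟨g, Subsingleton.elim (α := PrimeSpectrum K) _ _⟩
      left_inv := fun _ => rfl
      right_inv := fun _ => rfl }
  haveI : Finite {u : G // q u = x} := Finite.of_equiv _ e.symm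
  haveI := Fintype.ofFinite {u : G // q u = x}
  rw [finsum_eq_sum_of_fintype, Finset.sum_const, Finset.card_univ, ← Nat.card_eq_fintype_card,
    Nat.card_congr e]
  simp

/-- For a finite discrete space, the connected components are the points. -/
theorem enatCard_connectedComponents_eq {α : Type*} [TopologicalSpace α] [DiscreteTopology α]
    [Finite α] : ENat.card (ConnectedComponents α) = (Nat.card α : ℕ∞) := by
  have hbij : Function.Bijective (ConnectedComponents.mk : α → ConnectedComponents α) := by
    refine ⟨fun a b hab => ?_, ConnectedComponents.surjective_coe⟩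
    rw [ConnectedComponents.coe_eq_coe, connectedComponent_eq_singleton,
      connectedComponent_eq_singleton] at hab
    exact Set.singleton_injective hab
  rw [← ENat.card_congr (Equiv.ofBijective _ hbij), ENat.card_eq_coe_natCard]

end overField

/-- A homeomorphism induces a bijection on connected components. -/
def ccEquiv {α β : Type*} [TopologicalSpace α] [TopologicalSpace β] (h : α ≃ₜ β) :
    ConnectedComponents α ≃ ConnectedComponents β where
  toFun := h.continuous.connectedComponentsMap
  invFun := h.symm.continuous.connectedComponentsMap
  left_inv c := by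
    obtain ⟨a, rfl⟩ := ConnectedComponents.surjective_coe c
    simp
  right_inv c := by
    obtain ⟨a, rfl⟩ := ConnectedComponents.surjective_coe c
    simp

section main

variable {X Y : Scheme.{u}} (f : X ⟶ Y)

/-- The geometric point over `y` given by the separable closure of the residue field. -/
noncomputable def geomPt (y : Y) : Spec (.of (SeparableClosure (Y.residueField y))) ⟶ Y :=
  Spec.map (CommRingCat.ofHom (algebraMap (Y.residueField y)
    (SeparableClosure (Y.residueField y)))) ≫ Y.fromSpecResidueField y

theorem geomPt_apply (y : Y) (x : Spec (.of (SeparableClosure (Y.residueField y)))) :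
    geomPt y x = y := by
  unfold geomPt
  rw [Scheme.Hom.comp_apply]
  exact Scheme.fromSpecResidueField_apply y _

/-- The geometric fibre as a fibre product over the base. -/
noncomputable def geomFiberIso (y : Y) : MoreMor.geomFiber f y ≅ pullback f (geomPt y) :=
  pullbackLeftPullbackSndIso f (Y.fromSpecResidueField y) _

/-- **The geometric number of points of a fibre of a quasi-finite morphism** is the fibre integral
of `1`. -/
theorem nGeomConnComp_eq [LocallyQuasiFinite f] [LocallyOfFiniteType f] [QuasiCompact f] (y : Y) :
    MoreMor.nGeomConnComp f y = ((MoreMor.fibreIntegral f (fun _ => 1) y).toNat : ℕ∞) := by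
  set K := SeparableClosure (Y.residueField y) with hK
  set q := pullback.snd f (geomPt y) with hq
  haveI : Finite ↑(pullback f (geomPt y)) := finite_of_quasiFinite_over_field K q
  haveI : DiscreteTopology ↑(pullback f (geomPt y)) :=
    discreteTopology_of_quasiFinite_over_field K q
  obtain ⟨x⟩ : Nonempty (Spec (.of K)) := ⟨⟨⊥, Ideal.isPrime_bot⟩⟩
  have h1 : MoreMor.nGeomConnComp f y = (Nat.card ↑(pullback f (geomPt y)) : ℕ∞) := by
    unfold MoreMor.nGeomConnComp
    rw [ENat.card_congr (ccEquiv (geomFiberIso f y).hom.homeomorph)]
    exact enatCard_connectedComponents_eq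
  have hfin : ∀ v : Y, (f ⁻¹' {v}).Finite := fun v => f.finite_preimage_singleton v
  have h2 := Groth.Agent.S1418.result f hfin q (pullback.fst f (geomPt y)) (geomPt y)
    (IsPullback.of_hasPullback f (geomPt y)) (fun _ => 1) x
  rw [geomPt_apply] at h2
  have h3 : MoreMor.fibreIntegral q ((fun _ => (1 : ℤ)) ∘ ⇑(pullback.fst f (geomPt y))) x =
      (Nat.card ↑(pullback f (geomPt y)) : ℤ) := fibreIntegral_one_eq_card K q x
  rw [h1, ← h2, h3]
  simp

end main

end Groth.Agent.Lib.H59NGeom
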