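import Groth.Agent.Lib.H59Weight5
import Groth.Agent.Lib.EtLocPI3

/-!
# Weightings: composition (helper59)

`comp_locallyConstant`: for composable locally quasi-finite morphisms with weightings and an open `U` of
the source finite over the target, the partial fibre integral of `w_f · (w_g ∘ f)` over `U` is locally
constant.  `isWeighting_comp`: the composition statement (given base change of weightings `BCHyp`).
-/

set_option autoImplicit false
set_option linter.style.haveILetI false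
universe u
open CategoryTheory AlgebraicGeometry CategoryTheory.Limits IsLocalRing MorphismProperty

namespace Groth.Agent.Lib.H59Weight

open Groth.Agent.Lib.H59FibInt Groth.Agent.Lib.H59GeomPoints Groth.Agent.Lib.EtLocQF

variable {X Y Z : Scheme.{u}}

theorem finite_fibre_of_isFinite_ι_comp {P E : Scheme.{u}} (p : P ⟶ E) (T : P.Opens)
    (hT : IsFinite (T.ι ≫ p)) (v : E) : {z : P | p z = v ∧ z ∈ T}.Finite := by
  haveI := hT
  have h := ((T.ι ≫ p).finite_preimage_singleton v).image T.ι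
  refine h.subset ?_
  rintro z ⟨hz, hzT⟩
  exact ⟨⟨z, hzT⟩, hz, rfl⟩

/-- Rewriting the weight of the base-changed pair. -/
theorem J_bc_eq (f : X ⟶ Y) (g : Y ⟶ Z) (wf : X → ℤ) (wg : Y → ℤ) {E : Scheme.{u}} (e : E ⟶ Z)
    (S : Set ↑(pullback (f ≫ g) e)) (ε' : E) :
    J (bcMap f g e ≫ pullback.snd g e) S
      (fun x => (wf ∘ ⇑(pullback.fst (f ≫ g) e)) x *
        (wg ∘ ⇑(pullback.fst g e)) (bcMap f g e x)) ε' =
    J (pullback.snd (f ≫ g) e) S
      (fun x => wf (pullback.fst (f ≫ g) e x) * wg (f (pullback.fst (f ≫ g) e x))) ε' := by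
  rw [bcMap_snd]
  refine J_congr_weight _ _ _ _ _ fun x _ _ => ?_
  simp only [Function.comp_apply, bcMap_fst_apply]

/-- The composition step at the level of the target: local constancy of the partial integral over an
open finite over the target. -/
theorem comp_locallyConstant (BC : BCHyp.{u}) (f : X ⟶ Y) (g : Y ⟶ Z) [LocallyQuasiFinite f]
    [LocallyOfFiniteType f] [LocallyQuasiFinite g] [LocallyOfFiniteType g]
    (wf : X → ℤ) (wg : Y → ℤ)
    (hwf : MoreMor.IsWeighting f wf) (hwg : MoreMor.IsWeighting g wg)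
    (U : X.Opens) (hU : IsFinite (U.ι ≫ f ≫ g)) :
    IsLocallyConstant (J (f ≫ g) (U : Set X) (fun x => wf x * wg (f x))) := by
  rw [IsLocallyConstant.iff_exists_open]
  intro z
  haveI := hU
  set p := U.ι ≫ f ≫ g with hp
  -- enumerate the fibre
  have hfibfin : (p ⁻¹' {z}).Finite := p.finite_preimage_singleton z
  haveI : Finite ↑(p ⁻¹' {z}) := hfibfin.to_subtype
  obtain ⟨n, ⟨eq⟩⟩ := Finite.exists_equiv_fin ↑(p ⁻¹' {z})
  let x : Fin n → (U : Scheme.{u}) := fun i => (eq.symm i).1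
  have hs : ∀ i, p (x i) = z := fun i => (eq.symm i).2
  have hx : ∀ i, p.QuasiFiniteAt (x i) := fun i => p.quasiFiniteAt (x i)
  obtain ⟨E, e, ε, he, heε, n', V, v, H, Hdisj, Hcov⟩ :=
    exists_etaleNbhd_purelyInseparable_clopen p z x hs hx
  -- the open immersion `j : U ×_Z E ⟶ X ×_Z E`
  have hsq : IsPullback (pullback.fst (f ≫ g) e ∣_ U)
      ((pullback.fst (f ≫ g) e ⁻¹ᵁ U).ι ≫ pullback.snd (f ≫ g) e) p e :=
    (isPullback_morphismRestrict (pullback.fst (f ≫ g) e) U).paste_vert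
      (IsPullback.of_hasPullback (f ≫ g) e)
  let j : pullback p e ⟶ pullback (f ≫ g) e :=
    hsq.isoPullback.inv ≫ (pullback.fst (f ≫ g) e ⁻¹ᵁ U).ι
  have hjsnd : j ≫ pullback.snd (f ≫ g) e = pullback.snd p e := by
    simp only [j, Category.assoc]
    exact hsq.isoPullback_inv_snd
  have hjfst : j ≫ pullback.fst (f ≫ g) e = pullback.fst p e ≫ U.ι := by
    simp only [j, Category.assoc]
    rw [← morphismRestrict_ι, ← Category.assoc, hsq.isoPullback_inv_fst]
  have hjinj : Function.Injective j := j.isOpenEmbedding.injective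
  have hjrange : ∀ x' : ↑(pullback (f ≫ g) e), pullback.fst (f ≫ g) e x' ∈ U → ∃ w, j w = x' := by
    intro x' hx'
    refine ⟨hsq.isoPullback.hom ⟨x', hx'⟩, ?_⟩
    have h1 : hsq.isoPullback.hom ≫ j = (pullback.fst (f ≫ g) e ⁻¹ᵁ U).ι := by
      simp only [j, Iso.hom_inv_id_assoc]
    rw [← Scheme.Hom.comp_apply, h1]
    rfl
  have hjsnd' : ∀ w, pullback.snd (f ≫ g) e (j w) = pullback.snd p e w := fun w => by
    rw [← Scheme.Hom.comp_apply, hjsnd]
  have hjfst' : ∀ w, pullback.fst (f ≫ g) e (j w) = U.ι (pullback.fst p e w) := fun w => by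
    rw [← Scheme.Hom.comp_apply, hjfst, Scheme.Hom.comp_apply]
  -- the pieces
  let T : Fin n' → (pullback (f ≫ g) e).Opens := fun m => j ''ᵁ (V m)
  have hTmem : ∀ m x', x' ∈ T m ↔ ∃ w ∈ V m, j w = x' := fun m x' => Iff.rfl
  have hTfin : ∀ m, IsFinite ((T m).ι ≫ pullback.snd (f ≫ g) e) := by
    intro m
    have h1 : (T m).ι ≫ pullback.snd (f ≫ g) e =
        (j.isoImage (V m)).inv ≫ (V m).ι ≫ pullback.snd p e := by
      rw [← hjsnd, ← Scheme.Hom.isoImage_inv_ι_assoc]
    rw [h1]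
    haveI := (H m).2.2.1
    infer_instance
  -- points over `ε`
  have hptε : ∀ w : ↑(pullback p e), pullback.snd p e w = ε → ∃ m, w = v m := by
    intro w hw
    refine Hcov w hw ?_
    have hz : p (pullback.fst p e w) = z := by
      have := congr($(pullback.condition (f := p) (g := e)) w)
      simp only [Scheme.Hom.comp_apply] at this
      rw [hw, heε] at this
      exact this
    refine ⟨eq ⟨pullback.fst p e w, hz⟩, ?_⟩
    simp only [x, Equiv.symm_apply_apply]
  -- the neighbourhood `N₀`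
  haveI : IsFinite (pullback.snd p e) := MorphismProperty.pullback_snd _ _ hU
  have hRclosed : IsClosed (pullback.snd p e '' (⋃ m, (V m : Set ↑(pullback p e)))ᶜ) :=
    (pullback.snd p e).isClosedMap _
      (isClosed_compl_iff.mpr (isOpen_iUnion fun m => (V m).isOpen))
  have hεN₀ : ε ∈ (pullback.snd p e '' (⋃ m, (V m : Set ↑(pullback p e)))ᶜ)ᶜ := by
    rintro ⟨w, hwR, hwε⟩
    obtain ⟨m, rfl⟩ := hptε w hwε
    exact hwR (Set.mem_iUnion.mpr ⟨m, (H m).2.1⟩)
  -- the base-changed weightings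
  have hwfE : MoreMor.IsWeighting (bcMap f g e) (wf ∘ ⇑(pullback.fst (f ≫ g) e)) :=
    BC f wf hwf _ _ _ (isPullback_bcMap f g e)
  have hwgE : MoreMor.IsWeighting (pullback.snd g e) (wg ∘ ⇑(pullback.fst g e)) :=
    BC g wg hwg _ _ _ (IsPullback.of_hasPullback g e)
  -- single-point step for every piece
  have hsingle : ∀ m, ∃ N : Set E, IsOpen N ∧ ε ∈ N ∧ ∀ ε' ∈ N,
      J (pullback.snd (f ≫ g) e) (T m : Set ↑(pullback (f ≫ g) e))
        (fun x => wf (pullback.fst (f ≫ g) e x) * wg (f (pullback.fst (f ≫ g) e x))) ε' =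
      J (pullback.snd (f ≫ g) e) (T m : Set ↑(pullback (f ≫ g) e))
        (fun x => wf (pullback.fst (f ≫ g) e x) * wg (f (pullback.fst (f ≫ g) e x))) ε := by
    intro m
    have hTfin' : IsFinite ((T m).ι ≫ bcMap f g e ≫ pullback.snd g e) := by
      rw [bcMap_snd]; exact hTfin m
    obtain ⟨N, hNo, hεN, hN⟩ := single_const BC (bcMap f g e) (pullback.snd g e) _ _ hwfE hwgE
      (T m) hTfin' ε (j (v m))
      (by rw [bcMap_snd_apply, hjsnd', (H m).2.2.2.1])
      (by
        rintro x' ⟨w, hwV, rfl⟩ hx'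
        change pullback.snd g e (bcMap f g e (j w)) = ε at hx'
        change j w = j (v m)
        rw [bcMap_snd_apply, hjsnd'] at hx'
        rw [(H m).2.2.2.2.1 w hwV hx'])
    refine ⟨N, hNo, hεN, fun ε' hε' => ?_⟩
    rw [← J_bc_eq, ← J_bc_eq]
    exact hN ε' hε'
  choose N hNo hεN hN using hsingle
  -- the sum formula over `N₀`
  have hsum : ∀ ε' ∈ (pullback.snd p e '' (⋃ m, (V m : Set ↑(pullback p e)))ᶜ)ᶜ,
      J (f ≫ g) (U : Set X) (fun x => wf x * wg (f x)) (e ε') =
        ∑ᶠ m, J (pullback.snd (f ≫ g) e) (T m : Set ↑(pullback (f ≫ g) e))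
          (fun x => wf (pullback.fst (f ≫ g) e x) * wg (f (pullback.fst (f ≫ g) e x))) ε' := by
    intro ε' hε'
    rw [← J_of_isPullback (IsPullback.of_hasPullback (f ≫ g) e) U hU, ← J_iUnion]
    · refine J_congr_set _ _ _ fun x' hx' => ?_
      constructor
      · intro hx'U
        obtain ⟨w, rfl⟩ := hjrange x' hx'U
        rw [hjsnd'] at hx'
        have hw : w ∈ ⋃ m, (V m : Set ↑(pullback p e)) := by
          by_contra hw
          exact hε' ⟨w, hw, hx'⟩
        obtain ⟨m, hm⟩ := Set.mem_iUnion.mp hw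
        exact Set.mem_iUnion.mpr ⟨m, w, hm, rfl⟩
      · intro hx'T
        obtain ⟨m, w, -, rfl⟩ := Set.mem_iUnion.mp hx'T
        change pullback.fst (f ≫ g) e (j w) ∈ U
        rw [hjfst']
        exact (pullback.fst p e w).2
    · rintro m m' hmm' x' - ⟨w, hw, rfl⟩ ⟨w', hw', hww'⟩
      have : w' = w := hjinj hww'
      subst this
      exact hmm' (Hdisj m m' ⟨w', hw, hw'⟩)
    · intro m
      exact finite_fibre_of_isFinite_ι_comp _ (T m) (hTfin m) ε'
  refine ⟨e '' ((pullback.snd p e '' (⋃ m, (V m : Set ↑(pullback p e)))ᶜ)ᶜ ∩ ⋂ m, N m),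
    e.isOpenMap _ (hRclosed.isOpen_compl.inter (isOpen_iInter_of_finite hNo)),
    ⟨ε, ⟨hεN₀, Set.mem_iInter.mpr hεN⟩, heε⟩, ?_⟩
  rintro _ ⟨ε', ⟨hε'0, hε'N⟩, rfl⟩
  rw [hsum ε' hε'0, ← heε, hsum ε hεN₀]
  refine finsum_congr fun m => ?_
  exact hN m ε' (Set.mem_iInter.mp hε'N m)

/-- **Composition of weightings** (Stacks 0F3A section), given base change of weightings. -/
theorem isWeighting_comp (BC : BCHyp.{u}) (f : X ⟶ Y) (g : Y ⟶ Z) [LocallyQuasiFinite f]
    [LocallyOfFiniteType f] [LocallyQuasiFinite g] [LocallyOfFiniteType g]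
    (wf : X → ℤ) (wg : Y → ℤ)
    (hwf : MoreMor.IsWeighting f wf) (hwg : MoreMor.IsWeighting g wg) :
    MoreMor.IsWeighting (f ≫ g) (fun x => wf x * wg (f x)) := by
  intro W h _ U hU
  have hwfW : MoreMor.IsWeighting (bcMap f g h) (wf ∘ ⇑(pullback.fst (f ≫ g) h)) :=
    BC f wf hwf _ _ _ (isPullback_bcMap f g h)
  have hwgW : MoreMor.IsWeighting (pullback.snd g h) (wg ∘ ⇑(pullback.fst g h)) :=
    BC g wg hwg _ _ _ (IsPullback.of_hasPullback g h)
  have hU' : IsFinite (U.ι ≫ bcMap f g h ≫ pullback.snd g h) := by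
    rw [bcMap_snd]; exact hU
  have hlc := comp_locallyConstant BC (bcMap f g h) (pullback.snd g h) _ _ hwfW hwgW U hU'
  have hfun : MoreMor.fibreIntegral (U.ι ≫ pullback.snd (f ≫ g) h)
      (fun u => (fun x => wf x * wg (f x)) (pullback.fst (f ≫ g) h (U.ι u))) =
      J (bcMap f g h ≫ pullback.snd g h) (U : Set ↑(pullback (f ≫ g) h))
        (fun x => (wf ∘ ⇑(pullback.fst (f ≫ g) h)) x *
          (wg ∘ ⇑(pullback.fst g h)) (bcMap f g h x)) := by
    funext v
    rw [J_bc_eq]
    exact fibreIntegral_ι_comp U (pullback.snd (f ≫ g) h)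
      (fun x => wf (pullback.fst (f ≫ g) h x) * wg (f (pullback.fst (f ≫ g) h x))) v
  rw [hfun]
  exact hlc

end Groth.Agent.Lib.H59Weight
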