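import Groth.Agent.Lib.H59NGeom
import Groth.Agent.Lib.EtLocPI3
import Groth.Agent.Lib.H59Weight6

/-!
# Flat quasi-finite separated morphisms: the number of geometric points of the fibres (helper59)
-/

set_option autoImplicit false
set_option linter.style.haveILetI false
universe u
open CategoryTheory AlgebraicGeometry CategoryTheory.Limits IsLocalRing MorphismProperty

namespace Groth.Agent.Lib.H59NGeom

open Groth.Agent.Lib.H59FibInt Groth.Agent.Lib.H59GeomPoints Groth.Agent.Lib.H59Weight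
  Groth.Agent.Lib.EtLocQF

variable {X Y : Scheme.{u}}

theorem sepDeg_eq_one_of_isPurelyInseparable {P V : Scheme.{u}} (p : P ⟶ V) (z : P)
    (h : (p.residueFieldMap z).hom.IsPurelyInseparable) : sepDeg p z = 1 := by
  unfold sepDeg
  letI := (p.residueFieldMap z).hom.toAlgebra
  have : IsPurelyInseparable (V.residueField (p z)) (P.residueField z) := h
  exact IsPurelyInseparable.finSepDegree_eq_one _ _

/-- Étale-local structure of a flat quasi-finite separated morphism near a point of the base: an open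
`U` of the base change, finite over the étale neighbourhood, whose partial count of geometric points
is everywhere (near `ε`) at least the number of geometric points of the fibre over `y₀`. -/
theorem exists_etale_chart_of_flat (f : X ⟶ Y) [Flat f] [LocallyOfFinitePresentation f]
    [IsSeparated f] [LocallyQuasiFinite f] [QuasiCompact f] (y₀ : Y) :
    ∃ (E : Scheme.{u}) (e : E ⟶ Y) (ε : E) (N : Set E) (U : (pullback f e).Opens),
      Etale e ∧ e ε = y₀ ∧ IsOpen N ∧ ε ∈ N ∧ IsFinite (U.ι ≫ pullback.snd f e) ∧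
      ∀ ε' ∈ N, MoreMor.fibreIntegral f (fun _ => 1) y₀ ≤
        J (pullback.snd f e) (U : Set ↑(pullback f e)) (fun _ => 1) ε' := by
  classical
  have hfin : ∀ v : Y, (f ⁻¹' {v}).Finite := fun v => f.finite_preimage_singleton v
  haveI : Finite ↑(f ⁻¹' {y₀}) := (hfin y₀).to_subtype
  obtain ⟨n, ⟨eq⟩⟩ := Finite.exists_equiv_fin ↑(f ⁻¹' {y₀})
  let x : Fin n → X := fun i => (eq.symm i).1
  have hs : ∀ i, f (x i) = y₀ := fun i => (eq.symm i).2
  have hx : ∀ i, f.QuasiFiniteAt (x i) := fun i => f.quasiFiniteAt (x i)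
  obtain ⟨E, e, ε, he, heε, r, V, v, H, Hdisj, Hcov⟩ :=
    exists_etaleNbhd_purelyInseparable_clopen f y₀ x hs hx
  set p := pullback.snd f e with hp
  -- images of the pieces
  have hopen : ∀ m, IsOpen (Set.range ((V m).ι ≫ p)) := fun m =>
    ((V m).ι ≫ p).isOpenMap.isOpen_range
  have hεm : ∀ m, ε ∈ Set.range ((V m).ι ≫ p) := fun m =>
    ⟨⟨v m, (H m).2.1⟩, (H m).2.2.2.1⟩
  have hUfin : IsFinite ((⨆ m, V m).ι ≫ p) := isFinite_iSup_ι_comp _ V (fun m => (H m).2.2.1)
  have hUcoe : ((⨆ m, V m : (pullback f e).Opens) : Set ↑(pullback f e)) =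
      ⋃ m, (V m : Set ↑(pullback f e)) := TopologicalSpace.Opens.coe_iSup _
  -- additivity
  have hadd : ∀ ε' : E, J p ((⨆ m, V m : (pullback f e).Opens) : Set ↑(pullback f e))
      (fun _ => 1) ε' = ∑ m, J p (V m : Set ↑(pullback f e)) (fun _ => 1) ε' := by
    intro ε'
    rw [hUcoe, J_iUnion, finsum_eq_sum_of_fintype]
    · intro m m' hmm' z _ hz hz'
      exact hmm' (Hdisj m m' ⟨z, hz, hz'⟩)
    · intro m
      exact finite_fibre_of_isFinite_ι_comp _ (V m) (H m).2.2.1 ε'
  -- the value at `y₀`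
  have hy₀ : MoreMor.fibreIntegral f (fun _ => 1) y₀ = (r : ℤ) := by
    rw [← heε, fibreIntegral_eq_J_pullback f hfin (fun _ => 1) e ε]
    have h1 : J p Set.univ (fun _ => 1) ε =
        J p ((⨆ m, V m : (pullback f e).Opens) : Set ↑(pullback f e)) (fun _ => 1) ε := by
      refine J_congr_set _ _ _ fun z hz => ⟨fun _ => ?_, fun _ => Set.mem_univ _⟩
      have hzy : f (pullback.fst f e z) = y₀ := by
        have := congr($(pullback.condition (f := f) (g := e)) z)
        simp only [Scheme.Hom.comp_apply] at this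
        rw [show pullback.snd f e z = ε from hz, heε] at this
        exact this
      obtain ⟨m, rfl⟩ := Hcov z hz ⟨eq ⟨pullback.fst f e z, hzy⟩, by
        simp only [x, Equiv.symm_apply_apply]⟩
      rw [hUcoe]
      exact Set.mem_iUnion.mpr ⟨m, (H m).2.1⟩
    rw [h1, hadd]
    have h2 : ∀ m, J p (V m : Set ↑(pullback f e)) (fun _ => 1) ε = 1 := by
      intro m
      rw [J_singleton p (fun _ => 1) ε (v m) (fun z => ⟨fun hz => (H m).2.2.2.2.1 z hz.2 hz.1,
        fun hz => hz ▸ ⟨(H m).2.2.2.1, (H m).2.1⟩⟩),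
        sepDeg_eq_one_of_isPurelyInseparable p (v m) (H m).2.2.2.2.2.1]
      simp
    simp [h2]
  refine ⟨E, e, ε, ⋂ m, Set.range ((V m).ι ≫ p), ⨆ m, V m, he, heε,
    isOpen_iInter_of_finite hopen, Set.mem_iInter.mpr hεm, hUfin, ?_⟩
  intro ε' hε'
  rw [hy₀, hadd]
  have h3 : ∀ m, (1 : ℤ) ≤ J p (V m : Set ↑(pullback f e)) (fun _ => 1) ε' := by
    intro m
    obtain ⟨z, hz⟩ := Set.mem_iInter.mp hε' m
    have hle : J p ({(V m).ι z} : Set ↑(pullback f e)) (fun _ => 1) ε' ≤
        J p (V m : Set ↑(pullback f e)) (fun _ => 1) ε' := by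
      refine J_mono p (fun _ => 1) ε' (fun _ => zero_le_one) ?_
        (finite_fibre_of_isFinite_ι_comp _ (V m) (H m).2.2.1 ε')
      intro z' _ hz'
      rw [Set.mem_singleton_iff] at hz'
      rw [hz']
      exact z.2
    have hsing : J p ({(V m).ι z} : Set ↑(pullback f e)) (fun _ => 1) ε' =
        1 * (sepDeg p ((V m).ι z) : ℤ) := by
      refine J_singleton p (fun _ => 1) ε' ((V m).ι z) fun z' => ⟨fun h => h.2, fun h => ?_⟩
      rw [h]
      exact ⟨hz, rfl⟩
    have hpos : (1 : ℤ) ≤ (sepDeg p ((V m).ι z) : ℤ) := by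
      exact_mod_cast sepDeg_pos p ((V m).ι z)
    linarith
  calc (r : ℤ) = ∑ _m : Fin r, (1 : ℤ) := by simp
    _ ≤ _ := Finset.sum_le_sum fun m _ => h3 m

end Groth.Agent.Lib.H59NGeom
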