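import Groth.Agent.Lib.H59NGeom2
import Mathlib.RingTheory.Unramified.LocalStructure

/-!
# Number of points of the geometric fibres of quasi-finite morphisms (helper59)
-/

set_option autoImplicit false
set_option linter.style.haveILetI false
universe u
open CategoryTheory AlgebraicGeometry CategoryTheory.Limits IsLocalRing MorphismProperty

namespace Groth.Agent.Lib.H59NGeom

open Groth.Agent.Lib.H59FibInt Groth.Agent.Lib.H59GeomPoints Groth.Agent.Lib.H59Weight
  Groth.Agent.Lib.EtLocQF

variable {X Y : Scheme.{u}}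

/-- The number of points of the geometric fibre of a quasi-finite morphism is the fibre integral of
`1`. -/
theorem enatCard_geomFiber_eq (f : X ⟶ Y) [LocallyQuasiFinite f] [LocallyOfFiniteType f]
    [QuasiCompact f] (y : Y) :
    ENat.card ↥(MoreMor.geomFiber f y) =
      ((MoreMor.fibreIntegral f (fun _ => 1) y).toNat : ℕ∞) := by
  set K := SeparableClosure (Y.residueField y) with hK
  set q := pullback.snd f (geomPt y) with hq
  haveI : Finite ↑(pullback f (geomPt y)) := finite_of_quasiFinite_over_field K q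
  obtain ⟨x⟩ : Nonempty (Spec (.of K)) := ⟨⟨⊥, Ideal.isPrime_bot⟩⟩
  have h1 : ENat.card ↥(MoreMor.geomFiber f y) = (Nat.card ↑(pullback f (geomPt y)) : ℕ∞) := by
    rw [ENat.card_congr (geomFiberIso f y).hom.homeomorph.toEquiv, ENat.card_eq_coe_natCard]
  have hfin : ∀ v : Y, (f ⁻¹' {v}).Finite := fun v => f.finite_preimage_singleton v
  have h2 := Groth.Agent.S1418.result f hfin q (pullback.fst f (geomPt y)) (geomPt y)
    (IsPullback.of_hasPullback f (geomPt y)) (fun _ => 1) x
  rw [geomPt_apply] at h2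
  have h3 : MoreMor.fibreIntegral q ((fun _ => (1 : ℤ)) ∘ ⇑(pullback.fst f (geomPt y))) x =
      (Nat.card ↑(pullback f (geomPt y)) : ℤ) := fibreIntegral_one_eq_card K q x
  rw [h1, ← h2, h3]
  simp

theorem fibreIntegral_one_nonneg (f : X ⟶ Y) (z : Y) :
    0 ≤ MoreMor.fibreIntegral f (fun _ => 1) z := by
  unfold MoreMor.fibreIntegral
  exact finsum_nonneg fun u => mul_nonneg zero_le_one (Int.natCast_nonneg _)

/-- The partial count is at most the full one. -/
theorem J_one_le_fibreIntegral (f : X ⟶ Y) [LocallyQuasiFinite f] [LocallyOfFiniteType f]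
    [QuasiCompact f] {E : Scheme.{u}} (e : E ⟶ Y) (U : Set ↑(pullback f e)) (ε' : E) :
    J (pullback.snd f e) U (fun _ => 1) ε' ≤ MoreMor.fibreIntegral f (fun _ => 1) (e ε') := by
  have hfin : ∀ v : Y, (f ⁻¹' {v}).Finite := fun v => f.finite_preimage_singleton v
  rw [fibreIntegral_eq_J_pullback f hfin (fun _ => 1) e ε']
  refine J_mono _ _ ε' (fun _ => zero_le_one) (fun _ _ _ => Set.mem_univ _) ?_
  have := finite_fibre_of_isPullback (IsPullback.of_hasPullback f e) ε' (hfin (e ε'))
  refine this.subset ?_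
  rintro z ⟨hz, -⟩
  exact hz

/-- Lower semicontinuity of the number of geometric points, in the form of an inequality on a
neighbourhood. -/
theorem exists_nhds_fibreIntegral_one_le (f : X ⟶ Y) [Flat f] [LocallyOfFinitePresentation f]
    [IsSeparated f] [LocallyQuasiFinite f] [QuasiCompact f] (y₀ : Y) :
    ∃ O : Set Y, IsOpen O ∧ y₀ ∈ O ∧ ∀ y ∈ O, MoreMor.fibreIntegral f (fun _ => 1) y₀ ≤
      MoreMor.fibreIntegral f (fun _ => 1) y := by
  obtain ⟨E, e, ε, N, U, he, heε, hN, hεN, hU, hle⟩ := exists_etale_chart_of_flat f y₀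
  refine ⟨e '' N, e.isOpenMap _ hN, ⟨ε, hεN, heε⟩, ?_⟩
  rintro _ ⟨ε', hε', rfl⟩
  exact (hle ε' hε').trans (J_one_le_fibreIntegral f e _ ε')

/-- If the number of geometric points is constant near `y₀`, then `f` is finite over a
neighbourhood of `y₀`. -/
theorem exists_isFinite_of_const (f : X ⟶ Y) [Flat f] [LocallyOfFinitePresentation f]
    [IsSeparated f] [LocallyQuasiFinite f] [QuasiCompact f] (y₀ : Y) (O₀ : Set Y)
    (hO₀open : IsOpen O₀) (hy₀O₀ : y₀ ∈ O₀)
    (hconst : ∀ z ∈ O₀, MoreMor.fibreIntegral f (fun _ => 1) z =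
      MoreMor.fibreIntegral f (fun _ => 1) y₀) :
    ∃ U : Y.Opens, y₀ ∈ U ∧ IsFinite (f ∣_ U) := by
  have hfin : ∀ v : Y, (f ⁻¹' {v}).Finite := fun v => f.finite_preimage_singleton v
  obtain ⟨E, e, ε, N, U, he, heε, hN, hεN, hU, hle⟩ := exists_etale_chart_of_flat f y₀
  have hN'open : IsOpen (N ∩ e ⁻¹' O₀) := hN.inter (hO₀open.preimage e.continuous)
  have hεN' : ε ∈ N ∩ e ⁻¹' O₀ := ⟨hεN, by change e ε ∈ O₀; rw [heε]; exact hy₀O₀⟩
  have hsub : ∀ z : ↑(pullback f e), pullback.snd f e z ∈ N ∩ e ⁻¹' O₀ → z ∈ U := by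
    intro z hz
    have hfib : {z' : ↑(pullback f e) | pullback.snd f e z' =
        pullback.snd f e z ∧ z' ∈ Set.univ}.Finite := by
      have := finite_fibre_of_isPullback (IsPullback.of_hasPullback f e) (pullback.snd f e z)
        (hfin (e (pullback.snd f e z)))
      refine this.subset ?_
      rintro z' ⟨hz', -⟩
      exact hz'
    refine mem_of_J_univ_le (pullback.snd f e) (U : Set ↑(pullback f e)) (fun _ => 1)
      (pullback.snd f e z) (fun _ => zero_lt_one) (fun z' => sepDeg_pos _ z') hfib ?_ z rfl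
    rw [← fibreIntegral_eq_J_pullback f hfin (fun _ => 1) e, hconst _ hz.2]
    exact hle _ hz.1
  exact ⟨⟨e '' (N ∩ e ⁻¹' O₀), e.isOpenMap _ hN'open⟩, ⟨ε, hεN', heε⟩,
    isFinite_morphismRestrict_of_etale f e ⟨N ∩ e ⁻¹' O₀, hN'open⟩ _ rfl
      (isFinite_morphismRestrict_of_le (pullback.snd f e) U hU
        ⟨N ∩ e ⁻¹' O₀, hN'open⟩ (fun z hz => hsub z hz))⟩

/-- Étale morphisms are locally quasi-finite. -/
theorem locallyQuasiFinite_of_etale (f : X ⟶ Y) [Etale f] : LocallyQuasiFinite f where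
  quasiFinite_appLE {U} hU {V} hV e := by
    have h := f.etale_appLE hU hV e
    algebraize [(f.appLE U V e).hom]
    rw [RingHom.QuasiFinite]
    infer_instance

end Groth.Agent.Lib.H59NGeom
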