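import Groth.Agent.Lib.H59NGeom3

/-!
# Quasi-finite separated morphisms, universally open at the points of a fibre (helper59)
-/

set_option autoImplicit false
set_option linter.style.haveILetI false
universe u
open CategoryTheory AlgebraicGeometry CategoryTheory.Limits IsLocalRing MorphismProperty

namespace Groth.Agent.Lib.H59NGeom

open Groth.Agent.Lib.H59FibInt Groth.Agent.Lib.H59GeomPoints Groth.Agent.Lib.H59Weight
  Groth.Agent.Lib.EtLocQF

variable {X Y : Scheme.{u}}

/-- Étale-local structure of a quasi-finite separated morphism near a point `y₀` of the base such that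
every base change of `f` is open at the points over the fibre of `y₀`: an open
`U` of the base change, finite over the étale neighbourhood, whose partial count of geometric points
is everywhere (near `ε`) at least the number of geometric points of the fibre over `y₀`. -/
theorem exists_etale_chart_of_openAt (f : X ⟶ Y) [LocallyOfFiniteType f]
    [IsSeparated f] [LocallyQuasiFinite f] [QuasiCompact f] (y₀ : Y)
    (hopenAt : ∀ {E : Scheme.{u}} (e : E ⟶ Y) (z : ↑(pullback f e)),
      f (pullback.fst f e z) = y₀ → ∀ U ∈ nhds z,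
        (pullback.snd f e) '' U ∈ nhds (pullback.snd f e z)) :
    ∃ (E : Scheme.{u}) (e : E ⟶ Y) (ε : E) (N : Set E) (U : (pullback f e).Opens),
      Etale e ∧ e ε = y₀ ∧ IsOpen N ∧ ε ∈ N ∧ IsFinite (U.ι ≫ pullback.snd f e) ∧
      ∀ ε' ∈ N, MoreMor.fibreIntegral f (fun _ => 1) y₀ ≤
        J (pullback.snd f e) (U : Set ↑(pullback f e)) (fun _ => 1) ε' := by
  classical
  have hfin : ∀ v : Y, (f ⁻¹' {v}).Finite := fun v => f.finite_preimage_singleton v
  haveI : Finite ↑(f ⁻¹' {y₀}) := (hfin y₀).to_subtype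
  obtain ⟨n, ⟨eq⟩⟩ := Finite.exists_equiv_fin ↑(f ⁻¹' {y₀})
  let x : Fin n → X := fun i => (eq.symm i).1
  have hs : ∀ i, f (x i) = y₀ := fun i => (eq.symm i).2
  have hx : ∀ i, f.QuasiFiniteAt (x i) := fun i => f.quasiFiniteAt (x i)
  obtain ⟨E, e, ε, he, heε, r, V, v, H, Hdisj, Hcov⟩ :=
    exists_etaleNbhd_purelyInseparable_clopen f y₀ x hs hx
  set p := pullback.snd f e with hp
  -- images of the pieces
  have hnhds : ∀ m, ∃ Nm : Set E, Nm ⊆ p '' (V m : Set ↑(pullback f e)) ∧ IsOpen Nm ∧ ε ∈ Nm := by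
    intro m
    have hvy : f (pullback.fst f e (v m)) = y₀ := by
      obtain ⟨i, hi⟩ := (H m).2.2.2.2.2.2.2
      rw [hi]; exact hs i
    have h1 := hopenAt e (v m) hvy (V m : Set ↑(pullback f e))
      ((V m).isOpen.mem_nhds (H m).2.1)
    rw [show pullback.snd f e (v m) = ε from (H m).2.2.2.1] at h1
    exact mem_nhds_iff.mp h1
  choose Nm hNmsub hopen hεm using hnhds
  have hUfin : IsFinite ((⨆ m, V m).ι ≫ p) := isFinite_iSup_ι_comp _ V (fun m => (H m).2.2.1)
  have hUcoe : ((⨆ m, V m : (pullback f e).Opens) : Set ↑(pullback f e)) =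
      ⋃ m, (V m : Set ↑(pullback f e)) := TopologicalSpace.Opens.coe_iSup _
  -- additivity
  have hadd : ∀ ε' : E, J p ((⨆ m, V m : (pullback f e).Opens) : Set ↑(pullback f e))
      (fun _ => 1) ε' = ∑ m, J p (V m : Set ↑(pullback f e)) (fun _ => 1) ε' := by
    intro ε'
    rw [hUcoe, J_iUnion, finsum_eq_sum_of_fintype]
    · intro m m' hmm' z _ hz hz'
      exact hmm' (Hdisj m m' ⟨z, hz, hz'⟩)
    · intro m
      exact finite_fibre_of_isFinite_ι_comp _ (V m) (H m).2.2.1 ε'
  -- the value at `y₀`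
  have hy₀ : MoreMor.fibreIntegral f (fun _ => 1) y₀ = (r : ℤ) := by
    rw [← heε, fibreIntegral_eq_J_pullback f hfin (fun _ => 1) e ε]
    have h1 : J p Set.univ (fun _ => 1) ε =
        J p ((⨆ m, V m : (pullback f e).Opens) : Set ↑(pullback f e)) (fun _ => 1) ε := by
      refine J_congr_set _ _ _ fun z hz => ⟨fun _ => ?_, fun _ => Set.mem_univ _⟩
      have hzy : f (pullback.fst f e z) = y₀ := by
        have := congr($(pullback.condition (f := f) (g := e)) z)
        simp only [Scheme.Hom.comp_apply] at this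
        rw [show pullback.snd f e z = ε from hz, heε] at this
        exact this
      obtain ⟨m, rfl⟩ := Hcov z hz ⟨eq ⟨pullback.fst f e z, hzy⟩, by
        simp only [x, Equiv.symm_apply_apply]⟩
      rw [hUcoe]
      exact Set.mem_iUnion.mpr ⟨m, (H m).2.1⟩
    rw [h1, hadd]
    have h2 : ∀ m, J p (V m : Set ↑(pullback f e)) (fun _ => 1) ε = 1 := by
      intro m
      rw [J_singleton p (fun _ => 1) ε (v m) (fun z => ⟨fun hz => (H m).2.2.2.2.1 z hz.2 hz.1,
        fun hz => hz ▸ ⟨(H m).2.2.2.1, (H m).2.1⟩⟩),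
        sepDeg_eq_one_of_isPurelyInseparable p (v m) (H m).2.2.2.2.2.1]
      simp
    simp [h2]
  refine ⟨E, e, ε, ⋂ m, Nm m, ⨆ m, V m, he, heε,
    isOpen_iInter_of_finite hopen, Set.mem_iInter.mpr hεm, hUfin, ?_⟩
  intro ε' hε'
  rw [hy₀, hadd]
  have h3 : ∀ m, (1 : ℤ) ≤ J p (V m : Set ↑(pullback f e)) (fun _ => 1) ε' := by
    intro m
    obtain ⟨z, hzV, hz⟩ := hNmsub m (Set.mem_iInter.mp hε' m)
    have hle : J p ({z} : Set ↑(pullback f e)) (fun _ => 1) ε' ≤
        J p (V m : Set ↑(pullback f e)) (fun _ => 1) ε' := by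
      refine J_mono p (fun _ => 1) ε' (fun _ => zero_le_one) ?_
        (finite_fibre_of_isFinite_ι_comp _ (V m) (H m).2.2.1 ε')
      intro z' _ hz'
      rw [Set.mem_singleton_iff] at hz'
      rw [hz']
      exact hzV
    have hsing : J p ({z} : Set ↑(pullback f e)) (fun _ => 1) ε' =
        1 * (sepDeg p z : ℤ) := by
      refine J_singleton p (fun _ => 1) ε' z fun z' => ⟨fun h => h.2, fun h => ?_⟩
      rw [h]
      exact ⟨hz, rfl⟩
    have hpos : (1 : ℤ) ≤ (sepDeg p z : ℤ) := by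
      exact_mod_cast sepDeg_pos p z
    linarith
  calc (r : ℤ) = ∑ _m : Fin r, (1 : ℤ) := by simp
    _ ≤ _ := Finset.sum_le_sum fun m _ => h3 m

/-- Lower semicontinuity of the number of geometric points, in the form of an inequality on a
neighbourhood. -/
theorem exists_nhds_fibreIntegral_one_le_of_openAt (f : X ⟶ Y) [LocallyOfFiniteType f]
    [IsSeparated f] [LocallyQuasiFinite f] [QuasiCompact f] (y₀ : Y)
    (hopenAt : ∀ {E : Scheme.{u}} (e : E ⟶ Y) (z : ↑(pullback f e)),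
      f (pullback.fst f e z) = y₀ → ∀ U ∈ nhds z,
        (pullback.snd f e) '' U ∈ nhds (pullback.snd f e z)) :
    ∃ O : Set Y, IsOpen O ∧ y₀ ∈ O ∧ ∀ y ∈ O, MoreMor.fibreIntegral f (fun _ => 1) y₀ ≤
      MoreMor.fibreIntegral f (fun _ => 1) y := by
  obtain ⟨E, e, ε, N, U, he, heε, hN, hεN, hU, hle⟩ := exists_etale_chart_of_openAt f y₀ hopenAt
  refine ⟨e '' N, e.isOpenMap _ hN, ⟨ε, hεN, heε⟩, ?_⟩
  rintro _ ⟨ε', hε', rfl⟩
  exact (hle ε' hε').trans (J_one_le_fibreIntegral f e _ ε')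

/-- If the number of geometric points is constant near `y₀`, then `f` is finite over a
neighbourhood of `y₀`. -/
theorem exists_isFinite_of_const_of_openAt (f : X ⟶ Y) [LocallyOfFiniteType f]
    [IsSeparated f] [LocallyQuasiFinite f] [QuasiCompact f] (y₀ : Y)
    (hopenAt : ∀ {E : Scheme.{u}} (e : E ⟶ Y) (z : ↑(pullback f e)),
      f (pullback.fst f e z) = y₀ → ∀ U ∈ nhds z,
        (pullback.snd f e) '' U ∈ nhds (pullback.snd f e z)) (O₀ : Set Y)
    (hO₀open : IsOpen O₀) (hy₀O₀ : y₀ ∈ O₀)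
    (hconst : ∀ z ∈ O₀, MoreMor.fibreIntegral f (fun _ => 1) z =
      MoreMor.fibreIntegral f (fun _ => 1) y₀) :
    ∃ U : Y.Opens, y₀ ∈ U ∧ IsFinite (f ∣_ U) := by
  have hfin : ∀ v : Y, (f ⁻¹' {v}).Finite := fun v => f.finite_preimage_singleton v
  obtain ⟨E, e, ε, N, U, he, heε, hN, hεN, hU, hle⟩ := exists_etale_chart_of_openAt f y₀ hopenAt
  have hN'open : IsOpen (N ∩ e ⁻¹' O₀) := hN.inter (hO₀open.preimage e.continuous)
  have hεN' : ε ∈ N ∩ e ⁻¹' O₀ := ⟨hεN, by change e ε ∈ O₀; rw [heε]; exact hy₀O₀⟩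
  have hsub : ∀ z : ↑(pullback f e), pullback.snd f e z ∈ N ∩ e ⁻¹' O₀ → z ∈ U := by
    intro z hz
    have hfib : {z' : ↑(pullback f e) | pullback.snd f e z' =
        pullback.snd f e z ∧ z' ∈ Set.univ}.Finite := by
      have := finite_fibre_of_isPullback (IsPullback.of_hasPullback f e) (pullback.snd f e z)
        (hfin (e (pullback.snd f e z)))
      refine this.subset ?_
      rintro z' ⟨hz', -⟩
      exact hz'
    refine mem_of_J_univ_le (pullback.snd f e) (U : Set ↑(pullback f e)) (fun _ => 1)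
      (pullback.snd f e z) (fun _ => zero_lt_one) (fun z' => sepDeg_pos _ z') hfib ?_ z rfl
    rw [← fibreIntegral_eq_J_pullback f hfin (fun _ => 1) e, hconst _ hz.2]
    exact hle _ hz.1
  exact ⟨⟨e '' (N ∩ e ⁻¹' O₀), e.isOpenMap _ hN'open⟩, ⟨ε, hεN', heε⟩,
    isFinite_morphismRestrict_of_etale f e ⟨N ∩ e ⁻¹' O₀, hN'open⟩ _ rfl
      (isFinite_morphismRestrict_of_le (pullback.snd f e) U hU
        ⟨N ∩ e ⁻¹' O₀, hN'open⟩ (fun z hz => hsub z hz))⟩

end Groth.Agent.Lib.H59NGeom
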