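import Groth.Agent.Lib.H59NGeom3
import Groth.Prelude.Def_CurvBase

/-!
# Number of geometric points of a finite scheme over a field (helper59)
-/

set_option autoImplicit false
set_option linter.style.haveILetI false
universe u
open CategoryTheory AlgebraicGeometry CategoryTheory.Limits IsLocalRing MorphismProperty

namespace Groth.Agent.Lib.H59NGeom

open Groth.Agent.Lib.H59FibInt Groth.Agent.Lib.H59GeomPoints Groth.Agent.Lib.H59Weight

/-- The separable degree does not change when the base field is replaced by a field mapping onto
it compatibly. -/
theorem finSepDegree_eq_of_surjective_base {F F' E : Type*} [Field F] [Field F'] [Field E]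
    [Algebra F E] [Algebra F' E] (e : F →+* F') (he : Function.Surjective e)
    (hcomp : (algebraMap F' E).comp e = algebraMap F E) :
    Field.finSepDegree F E = Field.finSepDegree F' E := by
  have hc : ∀ r : F, algebraMap F' E (e r) = algebraMap F E r := fun r =>
    RingHom.congr_fun hcomp r
  unfold Field.finSepDegree Field.Emb
  refine Nat.card_congr
    { toFun := fun φ => { φ.toRingHom with commutes' := ?_ }
      invFun := fun φ => { φ.toRingHom with commutes' := ?_ }
      left_inv := fun φ => by ext; rfl
      right_inv := fun φ => by ext; rfl }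
  · intro r'
    obtain ⟨r, rfl⟩ := he r'
    change φ (algebraMap F' E (e r)) = algebraMap F' (AlgebraicClosure E) (e r)
    rw [hc, φ.commutes, IsScalarTower.algebraMap_apply F E (AlgebraicClosure E),
      IsScalarTower.algebraMap_apply F' E (AlgebraicClosure E), hc]
  · intro r
    change φ (algebraMap F E r) = algebraMap F (AlgebraicClosure E) r
    rw [← hc, φ.commutes, IsScalarTower.algebraMap_apply F E (AlgebraicClosure E),
      IsScalarTower.algebraMap_apply F' E (AlgebraicClosure E), hc]

/-- The canonical map from a field to the residue field of its spectrum at a point. -/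
noncomputable def toResidueFieldSpec (k : Type u) [Field k] (y : Spec (CommRingCat.of k)) :
    k →+* (Spec (CommRingCat.of k)).residueField y :=
  ((Scheme.ΓSpecIso (CommRingCat.of k)).inv ≫
    (Spec (CommRingCat.of k)).presheaf.germ ⊤ y trivial ≫ (Spec (CommRingCat.of k)).residue y).hom

theorem toResidueFieldSpec_surjective (k : Type u) [Field k] (y : Spec (CommRingCat.of k)) :
    Function.Surjective (toResidueFieldSpec k y) := by
  haveI : y.asIdeal.IsMaximal := by
    have : y.asIdeal = ⊥ := by
      have := y.2
      exact (eq_bot_or_eq_top y.asIdeal).resolve_right this.ne_top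
    rw [this]
    exact Ideal.bot_isMaximal
  have hsurj : Function.Surjective (algebraMap k y.asIdeal.ResidueField) :=
    Ideal.algebraMap_residueField_surjective _
  unfold toResidueFieldSpec
  rw [← Scheme.Spec.algebraMap_residueFieldIso_inv (CommRingCat.of k) y]
  intro z
  obtain ⟨a, ha⟩ := hsurj ((Scheme.Spec.residueFieldIso (CommRingCat.of k) y).hom z)
  refine ⟨a, ?_⟩
  change (Scheme.Spec.residueFieldIso (CommRingCat.of k) y).inv (algebraMap k _ a) = z
  rw [ha]
  simp

variable {X : Scheme.{u}}

theorem residueFieldMap_comp_toResidueFieldSpec (k : Type u) [Field k]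
    [X.Over (Spec (CommRingCat.of k))] (x : X) :
    ((X ↘ Spec (CommRingCat.of k)).residueFieldMap x).hom.comp
      (toResidueFieldSpec k ((X ↘ Spec (CommRingCat.of k)) x)) = Curv2.resMap k X x := by
  unfold toResidueFieldSpec Curv2.resMap Curv2.stalkMap Coh.toGlobal
  have h := Scheme.evaluation_naturality (X ↘ Spec (CommRingCat.of k)) (V := ⊤) x trivial
  ext a
  have h' := congrArg (fun φ => φ.hom ((Scheme.ΓSpecIso (CommRingCat.of k)).inv.hom a)) h
  exact h'

end Groth.Agent.Lib.H59NGeom
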