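import Groth.Agent.Lib.H59NGeom6

/-!
# Points of étale schemes over a field with values in extensions (helper59)
-/

set_option autoImplicit false
set_option linter.style.haveILetI false
universe u
open CategoryTheory AlgebraicGeometry CategoryTheory.Limits IsLocalRing MorphismProperty

namespace Groth.Agent.Lib.H59NGeom

/-- The canonical morphism from the spectrum of the residue field of `Spec k` is induced by
`toResidueFieldSpec`. -/
theorem fromSpecResidueField_Spec (k : Type u) [Field k] (y : Spec (CommRingCat.of k)) :
    (Spec (CommRingCat.of k)).fromSpecResidueField y =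
      Spec.map (CommRingCat.ofHom (toResidueFieldSpec k y)) := by
  rw [← Scheme.Spec.map_residueFieldIso_inv_eq_fromSpecResidueField, ← Spec.map_comp]
  congr 1
  unfold toResidueFieldSpec
  rw [← Scheme.Spec.algebraMap_residueFieldIso_inv (CommRingCat.of k) y]
  rfl

/-- A ring homomorphism from an algebraic extension of `k` to an extension `Ω` of an algebraically
closed algebraic extension `K` of `k` factors through `K`. -/
theorem exists_factor_of_isAlgClosed (k K Ω L : Type u) [Field k] [Field K] [Field Ω] [Field L]
    [Algebra k K] [IsAlgClosed K] [Algebra K Ω] [Algebra k Ω] [IsScalarTower k K Ω]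
    (ρ : k →+* L) (hρ : ∀ a : L, ∃ p : Polynomial k, p ≠ 0 ∧ Polynomial.eval₂ ρ a p = 0)
    (φ : L →+* Ω) (hφ : φ.comp ρ = algebraMap k Ω) :
    ∃ ψ : L →+* K, (algebraMap K Ω).comp ψ = φ := by
  have hmem : ∀ a : L, φ a ∈ (algebraMap K Ω).range := by
    intro a
    obtain ⟨p, hp0, hpa⟩ := hρ a
    have hint : IsIntegral K (φ a) := by
      refine IsAlgebraic.isIntegral ⟨p.map (algebraMap k K), ?_, ?_⟩
      · exact (Polynomial.map_ne_zero_iff (algebraMap k K).injective).mpr hp0
      · rw [Polynomial.aeval_def, Polynomial.eval₂_map, ← IsScalarTower.algebraMap_eq, ← hφ,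
          ← Polynomial.hom_eval₂, hpa, map_zero]
    have hdeg : (minpoly K (φ a)).degree = 1 :=
      IsAlgClosed.degree_eq_one_of_irreducible K (minpoly.irreducible hint)
    exact minpoly.mem_range_of_degree_eq_one K (φ a) hdeg
  let e : K ≃+* (algebraMap K Ω).range :=
    RingEquiv.ofBijective (algebraMap K Ω).rangeRestrict
      ⟨fun a b hab => (algebraMap K Ω).injective (congrArg Subtype.val hab),
        (algebraMap K Ω).rangeRestrict_surjective⟩
  refine ⟨(e.symm : (algebraMap K Ω).range →+* K).comp (φ.codRestrict _ hmem), ?_⟩
  ext a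
  have : ((algebraMap K Ω).rangeRestrict (e.symm (φ.codRestrict _ hmem a)) : Ω) = φ a := by
    have := e.apply_symm_apply (φ.codRestrict _ hmem a)
    exact congrArg Subtype.val this
  exact this

end Groth.Agent.Lib.H59NGeom
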