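/-
helper90: extension of the graph of a homomorphism defined over an open subset.  On a scheme with locally Noetherian
underlying space, for coherent `N₁`, `N₂`, an open `U` and `φ : N₁|_U ⟶ N₂|_U` there is a coherent sub-module
`E ⊆ N₁ ⊞ N₂` whose first projection `a : E ⟶ N₁` is an isomorphism over `U` and whose second projection `b`
restricts to `φ` over `U` (EGA I 9.3.5 / Stacks 01PM in "graph" form, without the constraint `E ∩ N₂ = 0`).
-/
import Mathlib
import Groth.Agent.Lib.H90LocNoeth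
import Groth.Agent.Lib.H90CohCenter
import Groth.Agent.Lib.H90CohRestrict
import Groth.Agent.Lib.H90QCohLocalization

set_option autoImplicit false
set_option linter.style.haveILetI false
universe u
open CategoryTheory CategoryTheory.Limits AlgebraicGeometry Opposite TopologicalSpace

namespace Groth.Agent.Lib.H90GraphExt

open Scheme.Modules

variable {Z : Scheme.{u}}

theorem exists_graph_extension
    (hX : ∀ x : Z, ∃ V : Z.Opens, x ∈ V ∧ NoetherianSpace (V : Set Z))
    (N₁ N₂ : Z.Modules) (h₁ : Coh.IsCoh N₁) (h₂ : Coh.IsCoh N₂) (U : Z.Opens)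
    (φ : (restrictFunctor U.ι).obj N₁ ⟶ (restrictFunctor U.ι).obj N₂) :
    ∃ (E : Z.Modules) (a : E ⟶ N₁) (b : E ⟶ N₂), Coh.IsCoh E ∧ Mono (biprod.lift a b) ∧
      IsIso ((restrictFunctor U.ι).map a) ∧
      (restrictFunctor U.ι).map b = (restrictFunctor U.ι).map a ≫ φ := by
  let R := restrictFunctor U.ι
  have hcohF : Coh.IsCoh (N₁ ⊞ N₂) := Groth.Agent.Lib.H90CohCenter.isCoh_biprod h₁ h₂
  haveI : (N₁ ⊞ N₂).IsQuasicoherent := hcohF.1
  let i : R.obj N₁ ⟶ (N₁ ⊞ N₂).restrict U.ι := R.map biprod.inl + φ ≫ R.map biprod.inr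
  have hi_fst : i ≫ R.map biprod.fst = 𝟙 _ := by
    simp only [i, Preadditive.add_comp, Category.assoc, ← Functor.map_comp, biprod.inl_fst,
      biprod.inr_fst, Functor.map_zero, comp_zero, add_zero]
    exact R.map_id _
  have hi_snd : i ≫ R.map biprod.snd = φ := by
    simp only [i, Preadditive.add_comp, Category.assoc, ← Functor.map_comp, biprod.inl_snd,
      biprod.inr_snd, Functor.map_zero, zero_add]
    rw [R.map_id, Category.comp_id]
  haveI : Mono i := by
    haveI : Mono (i ≫ R.map biprod.fst) := by rw [hi_fst]; infer_instance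
    exact mono_of_mono i (R.map biprod.fst)
  have hcohU : Coh.IsCoh (R.obj N₁) := Groth.Agent.Lib.H90CohRestrict.isCoh_restrict U.ι N₁ h₁
  haveI : (R.obj N₁).IsQuasicoherent := hcohU.1
  obtain ⟨G, i', ε, hmono, hq, hft, hcompat⟩ :=
    Groth.Agent.Lib.H90LocNoeth.exists_finiteType_extension hX U (N₁ ⊞ N₂) i hcohU.2
  haveI := hmono
  have hRa : R.map (i' ≫ biprod.fst) = ε.hom := by
    rw [R.map_comp, ← hcompat, Category.assoc, hi_fst, Category.comp_id]
  have hRb : R.map (i' ≫ biprod.snd) = ε.hom ≫ φ := by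
    rw [R.map_comp, ← hcompat, Category.assoc, hi_snd]
  refine ⟨G, i' ≫ biprod.fst, i' ≫ biprod.snd, ⟨hq, hft⟩, ?_, ?_, ?_⟩
  · have : biprod.lift (i' ≫ biprod.fst) (i' ≫ biprod.snd) = i' := by
      apply biprod.hom_ext <;> simp
    rw [this]
    exact hmono
  · rw [hRa]; infer_instance
  · rw [hRb, hRa]

end Groth.Agent.Lib.H90GraphExt
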