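import Groth.Agent.Lib.H59T1Lift
import Mathlib.LinearAlgebra.Contraction

/-!
# The obstruction theory of `h_R`, `R = k[[t]]/J` (helper59)
-/

set_option autoImplicit false
set_option linter.unusedSectionVars false
universe u v
open CategoryTheory ArtFun ArtFun.Art IsLocalRing
open scoped TensorProduct

namespace Groth.Agent.Lib.H59ObsHR

open Groth.Agent.Lib.H59PowerSeries Groth.Agent.Lib.H59PowerSeriesCRing Groth.Agent.Lib.H59BaseCRing
  Groth.Agent.Lib.H59PowerSeriesLift Groth.Agent.Lib.H59T1Lift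

variable {k : Type u} [Field k] {d : ℕ}

/-- `k[[t_1..t_d]]` as a coefficient ring. -/
noncomputable def psk (k : Type u) [Field k] (d : ℕ) : CRing k k :=
  ps (baseCRing (Λ := k) (k := k) Function.surjective_id) d

theorem psk_res_apply (g : MvPowerSeries (Fin d) k) :
    (psk k d).res g = MvPowerSeries.constantCoeff g := rfl

/-- a `k`-algebra map from the power series ring to an Artinian object maps the maximal ideal into the maximal
ideal. -/
theorem map_mem_maximalIdeal (C : Art k k) (ψ : MvPowerSeries (Fin d) k →ₐ[k] C)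
    (g : MvPowerSeries (Fin d) k) (hg : g ∈ maximalIdeal (MvPowerSeries (Fin d) k)) :
    ψ g ∈ maximalIdeal C := by
  have h1 : C.res.comp ψ = (psk k d).res := res_comp_eq (psk k d) C ψ
  have h2 : C.res (ψ g) = (psk k d).res g := DFunLike.congr_fun h1 g
  rw [Art.mem_maximalIdeal_iff, h2]
  exact (CRing.mem_maximalIdeal_iff (psk k d) g).1 hg

/-- lifting maps from the power series ring along surjections. -/
theorem exists_lift {C' C : Art k k} (p : C' ⟶ C) (hp : Function.Surjective p)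
    (φ : MvPowerSeries (Fin d) k →ₐ[k] C) :
    ∃ ψ : MvPowerSeries (Fin d) k →ₐ[k] C', p.toAlgHom.comp ψ = φ := by
  classical
  have ha : ∀ i, φ (MvPowerSeries.X i) ∈ maximalIdeal C := fun i => map_X_mem_maximalIdeal d C φ i
  choose c' hc' using fun i => hp (φ (MvPowerSeries.X i))
  have hc'm : ∀ i, c' i ∈ maximalIdeal C' := by
    intro i
    rw [Art.mem_maximalIdeal_iff, ← Art.res_app p, hc' i, ← Art.mem_maximalIdeal_iff]
    exact ha i
  obtain ⟨N', hN'⟩ := Groth.Agent.Lib.ArtFunFormal.isNilpotent_maximalIdeal C'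
  obtain ⟨ψ, hψ⟩ := exists_eval (σ := Fin d) (R := k) (maximalIdeal C') N' hN' c' hc'm
  have hψX : ∀ i, ψ (MvPowerSeries.X i) = c' i := by
    intro i
    have := hψ (MvPolynomial.X i)
    rw [MvPolynomial.coe_X, MvPolynomial.aeval_X] at this
    exact this
  refine ⟨ψ, ?_⟩
  obtain ⟨N, hN⟩ := Groth.Agent.Lib.ArtFunFormal.isNilpotent_maximalIdeal C
  have hagree : ∀ i, (p.toAlgHom.comp ψ) (MvPowerSeries.X i) = φ (MvPowerSeries.X i) := by
    intro i
    change p (ψ (MvPowerSeries.X i)) = _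
    rw [hψX, hc']
  exact eval_unique (maximalIdeal C) N hN _ _ (fun i => by rw [hagree]; exact ha i) hagree

/-- two lifts along a semismall extension agree on the square of the maximal ideal. -/
theorem lift_eq_on_sq {C' C : Art k k} (p : C' ⟶ C) (hp : IsSemismallExt p)
    (ψ ψ' : MvPowerSeries (Fin d) k →ₐ[k] C') (h : p.toAlgHom.comp ψ = p.toAlgHom.comp ψ')
    (g : MvPowerSeries (Fin d) k) (hg : g ∈ maximalIdeal (MvPowerSeries (Fin d) k) ^ 2) :
    ψ g = ψ' g := by
  have hker : ∀ a, ψ a - ψ' a ∈ RingHom.ker p.toAlgHom := by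
    intro a
    rw [RingHom.mem_ker, map_sub, sub_eq_zero]
    exact DFunLike.congr_fun h a
  have hzero : ∀ x ∈ maximalIdeal C', ∀ y ∈ RingHom.ker p.toAlgHom, x * y = 0 := by
    intro x hx y hy
    have := Ideal.mul_mem_mul hx hy
    rwa [hp.2, Ideal.mem_bot] at this
  rw [sq] at hg
  refine Submodule.mul_induction_on hg ?_ ?_
  · intro a ha b hb
    have h1 : ψ (a * b) - ψ' (a * b) = ψ a * (ψ b - ψ' b) + ψ' b * (ψ a - ψ' a) := by
      rw [map_mul, map_mul]; ring
    rw [← sub_eq_zero, h1, hzero _ (map_mem_maximalIdeal C' ψ a ha) _ (hker b),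
      hzero _ (map_mem_maximalIdeal C' ψ' b hb) _ (hker a), add_zero]
  · intro x y hx hy
    rw [map_add, map_add, hx, hy]

section Q

variable (J : Ideal (MvPowerSeries (Fin d) k))

/-- `J / 𝔫 J`. -/
abbrev Q : Type u :=
  ↥J ⧸ (maximalIdeal (MvPowerSeries (Fin d) k) • (⊤ : Submodule (MvPowerSeries (Fin d) k) ↥J))

theorem smul_mk_eq (a : MvPowerSeries (Fin d) k) (x : ↥J) :
    (Submodule.Quotient.mk (a • x) : Q J) =
      (MvPowerSeries.constantCoeff a : k) • (Submodule.Quotient.mk x : Q J) := by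
  have h1 : a = algebraMap k _ (MvPowerSeries.constantCoeff a) +
      (a - algebraMap k _ (MvPowerSeries.constantCoeff a)) := by ring
  have h2 : a - algebraMap k _ (MvPowerSeries.constantCoeff a) ∈
      maximalIdeal (MvPowerSeries (Fin d) k) := by
    refine (CRing.mem_maximalIdeal_iff (psk k d) _).2 ?_
    rw [psk_res_apply, map_sub]
    change _ - MvPowerSeries.constantCoeff (MvPowerSeries.C (MvPowerSeries.constantCoeff a)) = 0
    rw [MvPowerSeries.constantCoeff_C, sub_self]
  have h3 : (Submodule.Quotient.mk ((a - algebraMap k _ (MvPowerSeries.constantCoeff a)) • x) : Q J) = 0 := by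
    rw [Submodule.Quotient.mk_eq_zero]
    exact Submodule.smul_mem_smul h2 Submodule.mem_top
  conv_lhs => rw [h1, add_smul, Submodule.Quotient.mk_add, h3, add_zero, algebraMap_smul]
  rfl

instance finite_Q : Module.Finite k (Q J) := by
  classical
  have hnoeth : IsNoetherianRing (MvPowerSeries (Fin d) k) := (psk k d).isNoetherianRing
  have hfg : (⊤ : Submodule (MvPowerSeries (Fin d) k) ↥J).FG := Module.Finite.fg_top
  obtain ⟨s, hs⟩ := hfg
  refine ⟨⟨s.image (fun x => (Submodule.Quotient.mk x : Q J)), ?_⟩⟩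
  rw [eq_top_iff]
  rintro q -
  obtain ⟨j, rfl⟩ := Submodule.Quotient.mk_surjective _ q
  have hj : j ∈ Submodule.span (MvPowerSeries (Fin d) k) (s : Set ↥J) := by rw [hs]; trivial
  induction hj using Submodule.span_induction with
  | mem x hx =>
    apply Submodule.subset_span
    rw [Finset.coe_image]
    exact ⟨x, hx, rfl⟩
  | zero =>
    rw [Submodule.Quotient.mk_zero]
    exact Submodule.zero_mem _
  | add x y _ _ hx hy =>
    rw [Submodule.Quotient.mk_add]
    exact Submodule.add_mem _ hx hy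
  | smul a x _ hx =>
    rw [smul_mk_eq]
    exact Submodule.smul_mem _ _ hx

end Q

section ObMap

variable (J : Ideal (MvPowerSeries (Fin d) k)) {C' : Art k k}

/-- the restriction of `ψ` to `J`, as a map to an ideal `I` containing `ψ(J)`. -/
noncomputable def obLin (ψ : MvPowerSeries (Fin d) k →ₐ[k] C') (I : Ideal C')
    (hψJ : ∀ j ∈ J, ψ j ∈ I) : ↥J →ₗ[k] ↥I where
  toFun j := ⟨ψ j, hψJ j j.2⟩
  map_add' x y := Subtype.ext (by
    change ψ ((x : MvPowerSeries (Fin d) k) + y) = ψ x + ψ y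
    rw [map_add])
  map_smul' c x := Subtype.ext (by
    change ψ (c • (x : MvPowerSeries (Fin d) k)) = c • ψ x
    rw [map_smul])

theorem obLin_kills (ψ : MvPowerSeries (Fin d) k →ₐ[k] C') (I : Ideal C')
    (hψJ : ∀ j ∈ J, ψ j ∈ I) (hI : maximalIdeal C' * I = ⊥) :
    (maximalIdeal (MvPowerSeries (Fin d) k) •
      (⊤ : Submodule (MvPowerSeries (Fin d) k) ↥J)).restrictScalars k ≤
      LinearMap.ker (obLin J ψ I hψJ) := by
  intro x hx
  rw [Submodule.restrictScalars_mem] at hx
  rw [LinearMap.mem_ker]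
  refine Submodule.smul_induction_on hx ?_ ?_
  · intro a ha j _
    apply Subtype.ext
    change ψ (a * (j : MvPowerSeries (Fin d) k)) = 0
    rw [map_mul]
    have := Ideal.mul_mem_mul (map_mem_maximalIdeal C' ψ a ha) (hψJ j j.2)
    rwa [hI, Ideal.mem_bot] at this
  · intro x y hx hy
    rw [map_add, hx, hy, add_zero]

/-- the map `J/𝔫J → I` induced by `ψ`. -/
noncomputable def obMap (ψ : MvPowerSeries (Fin d) k →ₐ[k] C') (I : Ideal C')
    (hψJ : ∀ j ∈ J, ψ j ∈ I) (hI : maximalIdeal C' * I = ⊥) : Q J →ₗ[k] ↥I :=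
  (Submodule.liftQ _ (obLin J ψ I hψJ) (obLin_kills J ψ I hψJ hI)).comp
    (Submodule.Quotient.restrictScalarsEquiv k _).symm.toLinearMap

theorem obMap_mk (ψ : MvPowerSeries (Fin d) k →ₐ[k] C') (I : Ideal C')
    (hψJ : ∀ j ∈ J, ψ j ∈ I) (hI : maximalIdeal C' * I = ⊥) (j : ↥J) :
    ((obMap J ψ I hψJ hI (Submodule.Quotient.mk j) : ↥I) : C') = ψ j := rfl

end ObMap

section Obs

variable (J : Ideal (MvPowerSeries (Fin d) k))
  (hJ : J ≤ maximalIdeal (MvPowerSeries (Fin d) k) ^ 2)
  (res : (MvPowerSeries (Fin d) k ⧸ J) →ₐ[k] k)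

/-- lifts of `u ∘ mk` send `J` into the kernel. -/
theorem lift_mem_ker {C' C : Art k k} (p : C' ⟶ C)
    (u : (MvPowerSeries (Fin d) k ⧸ J) →ₐ[k] C)
    (ψ : MvPowerSeries (Fin d) k →ₐ[k] C')
    (hψ : p.toAlgHom.comp ψ = u.comp (Ideal.Quotient.mkₐ k J)) (j : MvPowerSeries (Fin d) k)
    (hj : j ∈ J) : ψ j ∈ RingHom.ker p.toAlgHom := by
  rw [RingHom.mem_ker]
  have h1 : p.toAlgHom (ψ j) = u (Ideal.Quotient.mk J j) := DFunLike.congr_fun hψ j
  rw [h1, Ideal.Quotient.eq_zero_iff_mem.2 hj, map_zero]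

include hJ in
/-- the obstruction class. -/
theorem exists_obs {C' C : Art k k} (p : C' ⟶ C) (hp : IsSemismallExt p)
    (u : (MvPowerSeries (Fin d) k ⧸ J) →ₐ[k] C) :
    ∃ t : Module.Dual k (Q J) ⊗[k] ↥(RingHom.ker p.toAlgHom),
      ∀ ψ : MvPowerSeries (Fin d) k →ₐ[k] C',
        p.toAlgHom.comp ψ = u.comp (Ideal.Quotient.mkₐ k J) → ∀ j : ↥J,
          ((dualTensorHom k (Q J) ↥(RingHom.ker p.toAlgHom) t (Submodule.Quotient.mk j) :
            ↥(RingHom.ker p.toAlgHom)) : C') = ψ j := by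
  obtain ⟨ψ₀, hψ₀⟩ := exists_lift p hp.1 (u.comp (Ideal.Quotient.mkₐ k J))
  refine ⟨(dualTensorHomEquiv k (Q J) ↥(RingHom.ker p.toAlgHom)).symm
    (obMap J ψ₀ (RingHom.ker p.toAlgHom) (lift_mem_ker J p u ψ₀ hψ₀) hp.2), ?_⟩
  intro ψ hψ j
  have h1 : dualTensorHom k (Q J) ↥(RingHom.ker p.toAlgHom)
      ((dualTensorHomEquiv k (Q J) ↥(RingHom.ker p.toAlgHom)).symm
        (obMap J ψ₀ (RingHom.ker p.toAlgHom) (lift_mem_ker J p u ψ₀ hψ₀) hp.2)) =
      obMap J ψ₀ (RingHom.ker p.toAlgHom) (lift_mem_ker J p u ψ₀ hψ₀) hp.2 :=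
    (dualTensorHomEquiv k (Q J) ↥(RingHom.ker p.toAlgHom)).apply_symm_apply _
  rw [h1, obMap_mk]
  exact lift_eq_on_sq p hp ψ₀ ψ (hψ₀.trans hψ.symm) _ (hJ j.2)

/-- the obstruction theory of `h_R` for `R = k[[t]]/J`. -/
noncomputable def obsTheory :
    ObsTheory (hR (MvPowerSeries (Fin d) k ⧸ J) res) (Module.Dual k (Q J)) where
  obs := fun {C' C} p hp u => Classical.choose (exists_obs J hJ p hp u.1)
  obs_eq_zero_iff := by
    intro C' C p hp u
    have hspec := Classical.choose_spec (exists_obs J hJ p hp u.1)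
    constructor
    · intro h0
      obtain ⟨ψ, hψ⟩ := exists_lift p hp.1 (u.1.comp (Ideal.Quotient.mkₐ k J))
      have hψJ : ∀ j ∈ J, ψ j = 0 := by
        intro j hj
        have := hspec ψ hψ ⟨j, hj⟩
        rw [h0, map_zero] at this
        exact this.symm
      let u' : (MvPowerSeries (Fin d) k ⧸ J) →ₐ[k] C' := Ideal.Quotient.liftₐ J ψ hψJ
      have hpu' : p.toAlgHom.comp u' = u.1 := by
        apply AlgHom.ext
        intro x
        obtain ⟨g, rfl⟩ := Ideal.Quotient.mk_surjective x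
        exact DFunLike.congr_fun hψ g
      refine ⟨⟨u', ?_⟩, Subtype.ext hpu'⟩
      rw [← u.2, ← hpu', ← AlgHom.comp_assoc, p.res_comp]
    · rintro ⟨u', hu'⟩
      have hpu' : p.toAlgHom.comp u'.1 = u.1 := congrArg Subtype.val hu'
      have hψ' : p.toAlgHom.comp (u'.1.comp (Ideal.Quotient.mkₐ k J)) =
          u.1.comp (Ideal.Quotient.mkₐ k J) := by
        rw [← hpu']
        rfl
      have hz : dualTensorHom k (Q J) ↥(RingHom.ker p.toAlgHom)
          (Classical.choose (exists_obs J hJ p hp u.1)) = 0 := by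
        apply LinearMap.ext
        intro q
        obtain ⟨j, rfl⟩ := Submodule.Quotient.mk_surjective _ q
        apply Subtype.ext
        refine (hspec _ hψ' j).trans ?_
        change u'.1 (Ideal.Quotient.mk J (j : MvPowerSeries (Fin d) k)) = 0
        rw [Ideal.Quotient.eq_zero_iff_mem.2 j.2, map_zero]
      exact (dualTensorHom_bijective (R := k) (M := Q J) (N := ↥(RingHom.ker p.toAlgHom))).1
        (hz.trans (map_zero _).symm)
  obs_quot := by
    intro C' C p hp K hK hKJ hq u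
    have hspec := Classical.choose_spec (exists_obs J hJ p hp u.1)
    have hspec' := Classical.choose_spec (exists_obs J hJ (quotFactor hK p hKJ) hq u.1)
    apply (dualTensorHom_bijective (R := k) (M := Q J)
      (N := ↥(RingHom.ker (quotFactor hK p hKJ).toAlgHom))).1
    have hnat := LinearMap.congr_fun (dualTensorHom_comp_lTensor (R := k) (M := Q J)
      ((kerToQuot hK p hKJ).restrictScalars k)) (Classical.choose (exists_obs J hJ p hp u.1))
    rw [LinearMap.comp_apply] at hnat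
    rw [hnat]
    obtain ⟨ψ, hψ⟩ := exists_lift p hp.1 (u.1.comp (Ideal.Quotient.mkₐ k J))
    have hψ'' : (quotFactor hK p hKJ).toAlgHom.comp ((quotMk C' K hK).toAlgHom.comp ψ) =
        u.1.comp (Ideal.Quotient.mkₐ k J) := by
      rw [← hψ]
      rfl
    apply LinearMap.ext
    intro q
    obtain ⟨j, rfl⟩ := Submodule.Quotient.mk_surjective _ q
    apply Subtype.ext
    rw [hspec' _ hψ'' j]
    change Ideal.Quotient.mk K (ψ j) = Ideal.Quotient.mk K _
    rw [← hspec ψ hψ j]

end Obs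

end Groth.Agent.Lib.H59ObsHR
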