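import Groth.Agent.Lib.H59PowerSeries
import Groth.Agent.Lib.ArtFunBasic
import Groth.Agent.Lib.ArtFunFormal
import Groth.Agent.Lib.H71ArtFunProRep

/-!
# Power series rings as coefficient rings (helper59)

For a coefficient ring `R : CRing Λ k`, `ps R n` is `R[[X_1, …, X_n]]` as a coefficient ring, with its universal
property for Artinian objects (`exists_hom`, `hom_ext`) and for coefficient rings (`exists_hom_complete`).
-/

set_option autoImplicit false
universe u v
open CategoryTheory ArtFun ArtFun.Art IsLocalRing MvPowerSeries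

namespace Groth.Agent.Lib.H59PowerSeriesCRing

open Groth.Agent.Lib.H59PowerSeries

section Ring

variable {σ R : Type*} [Finite σ] [CommRing R]

theorem exists_ringHom {B : Type*} [CommRing B] (ψ : R →+* B) (𝔫 : Ideal B) (N : ℕ) (h𝔫 : 𝔫 ^ N = ⊥)
    (b : σ → B) (hb : ∀ i, b i ∈ 𝔫) :
    ∃ φ : MvPowerSeries σ R →+* B, (∀ r, φ (C r) = ψ r) ∧ ∀ i, φ (X i) = b i := by
  let _ : Algebra R B := ψ.toAlgebra
  obtain ⟨φ, hφ⟩ := exists_eval (σ := σ) (R := R) 𝔫 N h𝔫 b hb
  refine ⟨φ, fun r => ?_, fun i => ?_⟩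
  · have h1 : (C r : MvPowerSeries σ R) = algebraMap R (MvPowerSeries σ R) r := rfl
    change φ (C r) = ψ r
    rw [h1, AlgHom.commutes]
    rfl
  · have := hφ (MvPolynomial.X i)
    rw [MvPolynomial.coe_X, MvPolynomial.aeval_X] at this
    exact this

theorem ringHom_ext' {B : Type*} [CommRing B] (𝔫 : Ideal B) (N : ℕ) (h𝔫 : 𝔫 ^ N = ⊥)
    (φ φ' : MvPowerSeries σ R →+* B) (hC : ∀ r, φ (C r) = φ' (C r)) (hX𝔫 : ∀ i, φ (X i) ∈ 𝔫)
    (hX : ∀ i, φ (X i) = φ' (X i)) : φ = φ' := by
  let _ : Algebra R B := (φ.comp (C : R →+* MvPowerSeries σ R)).toAlgebra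
  let φa : MvPowerSeries σ R →ₐ[R] B := { φ with commutes' := fun r => rfl }
  let φa' : MvPowerSeries σ R →ₐ[R] B := { φ' with commutes' := fun r => (hC r).symm }
  have := eval_unique 𝔫 N h𝔫 φa φa' hX𝔫 hX
  ext f
  exact DFunLike.congr_fun this f

end Ring

variable {Λ : Type u} {k : Type u} [CommRing Λ] [Field k] [Algebra Λ k]

/-- the constant coefficient as a `Λ`-algebra map. -/
noncomputable def constCoeffₐ (σ : Type*) (A : Type*) [CommRing A] [Algebra Λ A] :
    MvPowerSeries σ A →ₐ[Λ] A :=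
  { (MvPowerSeries.constantCoeff : MvPowerSeries σ A →+* A) with
    commutes' := fun l => by
      change MvPowerSeries.constantCoeff (algebraMap Λ (MvPowerSeries σ A) l) = _
      rw [MvPowerSeries.algebraMap_apply]
      exact MvPowerSeries.constantCoeff_C _ }

theorem constCoeffₐ_apply (σ : Type*) (A : Type*) [CommRing A] [Algebra Λ A] (f : MvPowerSeries σ A) :
    constCoeffₐ (Λ := Λ) σ A f = MvPowerSeries.constantCoeff f := rfl

/-- the constants as a `Λ`-algebra map. -/
noncomputable def Cₐ (σ : Type*) (A : Type*) [CommRing A] [Algebra Λ A] :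
    A →ₐ[Λ] MvPowerSeries σ A :=
  { (MvPowerSeries.C : A →+* MvPowerSeries σ A) with
    commutes' := fun l => (MvPowerSeries.algebraMap_apply (σ := σ) (A := A) (r := l)).symm }

theorem Cₐ_apply (σ : Type*) (A : Type*) [CommRing A] [Algebra Λ A] (a : A) :
    Cₐ (Λ := Λ) σ A a = MvPowerSeries.C a := rfl

/-- `R[[X_1, …, X_n]]` as a coefficient ring. -/
noncomputable def ps (R : CRing Λ k) (n : ℕ) : CRing Λ k where
  carrier := MvPowerSeries (Fin n) R.carrier
  res := R.res.comp (constCoeffₐ (Fin n) R.carrier)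
  res_surjective := fun c => by
    obtain ⟨r, hr⟩ := R.res_surjective c
    exact ⟨MvPowerSeries.C r, by
      change R.res (MvPowerSeries.constantCoeff (MvPowerSeries.C r)) = c
      rw [MvPowerSeries.constantCoeff_C, hr]⟩
  isAdicComplete := by
    rw [maximalIdeal_eq_bigIdeal]
    have := R.isAdicComplete
    exact isAdicComplete_bigIdeal _

/-- the variables of `ps R n`. -/
noncomputable def psX (R : CRing Λ k) (n : ℕ) (i : Fin n) : (ps R n).carrier :=
  (MvPowerSeries.X i : MvPowerSeries (Fin n) R.carrier)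

/-- the structure map `R → R[[X]]`. -/
noncomputable def psC (R : CRing Λ k) (n : ℕ) : R.carrier →ₐ[Λ] (ps R n).carrier :=
  Cₐ (Fin n) R.carrier

theorem ps_res_apply (R : CRing Λ k) (n : ℕ) (f : MvPowerSeries (Fin n) R.carrier) :
    (ps R n).res f = R.res (MvPowerSeries.constantCoeff f) := rfl

theorem res_comp_psC (R : CRing Λ k) (n : ℕ) : (ps R n).res.comp (psC R n) = R.res := by
  apply AlgHom.ext
  intro r
  change R.res (MvPowerSeries.constantCoeff (MvPowerSeries.C r)) = R.res r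
  rw [MvPowerSeries.constantCoeff_C]

theorem res_psX (R : CRing Λ k) (n : ℕ) (i : Fin n) : (ps R n).res (psX R n i) = 0 := by
  change R.res (MvPowerSeries.constantCoeff (MvPowerSeries.X i)) = 0
  rw [MvPowerSeries.constantCoeff_X, map_zero]

theorem psX_mem_maximalIdeal (R : CRing Λ k) (n : ℕ) (i : Fin n) :
    psX R n i ∈ maximalIdeal (ps R n).carrier :=
  (CRing.mem_maximalIdeal_iff (ps R n) _).2 (res_psX R n i)

theorem maximalIdeal_ps (R : CRing Λ k) (n : ℕ) :
    maximalIdeal (ps R n).carrier = Ideal.span (Set.range (psX R n)) ⊔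
      (maximalIdeal R.carrier).map (psC R n : R.carrier →+* (ps R n).carrier) :=
  maximalIdeal_eq_bigIdeal

/-- existence of maps `R[[X]] → A` to Artinian objects. -/
theorem exists_hom (R : CRing Λ k) (n : ℕ) (A : Art Λ k) (ψ : HomSet R.carrier R.res A)
    (a : Fin n → A) (ha : ∀ i, a i ∈ maximalIdeal A) :
    ∃ φ : HomSet (ps R n).carrier (ps R n).res A,
      (∀ r, φ.1 (psC R n r) = ψ.1 r) ∧ ∀ i, φ.1 (psX R n i) = a i := by
  obtain ⟨N, hN⟩ := Groth.Agent.Lib.ArtFunFormal.isNilpotent_maximalIdeal A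
  have hN' : maximalIdeal A ^ N = ⊥ := hN
  obtain ⟨φ, hφC, hφX⟩ := exists_ringHom (σ := Fin n) (ψ.1 : R.carrier →+* A) (maximalIdeal A) N hN' a ha
  let φa : (ps R n).carrier →ₐ[Λ] A :=
    { φ with
      commutes' := fun l => by
        change φ (algebraMap Λ (MvPowerSeries (Fin n) R.carrier) l) = _
        rw [MvPowerSeries.algebraMap_apply, hφC]
        exact ψ.1.commutes l }
  refine ⟨⟨φa, ?_⟩, hφC, hφX⟩
  have hbot : (⊥ : Ideal k) ^ 1 = ⊥ := pow_one _
  have := ringHom_ext' (σ := Fin n) (R := R.carrier) (⊥ : Ideal k) 1 hbot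
    ((A.res : A →+* k).comp φ)
    (show MvPowerSeries (Fin n) R.carrier →+* k from ((ps R n).res : (ps R n).carrier →+* k))
    (fun r => by
      change A.res (φ (MvPowerSeries.C r)) = R.res (MvPowerSeries.constantCoeff (MvPowerSeries.C r))
      rw [hφC, MvPowerSeries.constantCoeff_C]
      exact Groth.Agent.Lib.ArtFunBasic.homSet_res_apply ψ r)
    (fun i => by
      change A.res (φ (MvPowerSeries.X i)) ∈ _
      rw [hφX, (Art.mem_maximalIdeal_iff A _).1 (ha i)]
      exact Ideal.zero_mem _)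
    (fun i => by
      change A.res (φ (MvPowerSeries.X i)) = R.res (MvPowerSeries.constantCoeff (MvPowerSeries.X i))
      rw [hφX, (Art.mem_maximalIdeal_iff A _).1 (ha i), MvPowerSeries.constantCoeff_X, map_zero])
  apply AlgHom.ext
  intro f
  exact DFunLike.congr_fun this f

/-- uniqueness of maps `R[[X]] → A` to Artinian objects. -/
theorem hom_ext (R : CRing Λ k) (n : ℕ) (A : Art Λ k) (φ φ' : HomSet (ps R n).carrier (ps R n).res A)
    (hC : ∀ r, φ.1 (psC R n r) = φ'.1 (psC R n r))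
    (hX : ∀ i, φ.1 (psX R n i) = φ'.1 (psX R n i)) : φ = φ' := by
  obtain ⟨N, hN⟩ := Groth.Agent.Lib.ArtFunFormal.isNilpotent_maximalIdeal A
  have hN' : maximalIdeal A ^ N = ⊥ := hN
  have := ringHom_ext' (σ := Fin n) (R := R.carrier) (maximalIdeal A) N hN'
    (show MvPowerSeries (Fin n) R.carrier →+* A from (φ.1 : (ps R n).carrier →+* A))
    (show MvPowerSeries (Fin n) R.carrier →+* A from (φ'.1 : (ps R n).carrier →+* A)) hC
    (fun i => by
      change φ.1 (psX R n i) ∈ _
      rw [Art.mem_maximalIdeal_iff, Groth.Agent.Lib.ArtFunBasic.homSet_res_apply]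
      exact res_psX R n i) hX
  apply Groth.Agent.Lib.ArtFunBasic.homSet_ext
  intro f
  exact DFunLike.congr_fun this f

end Groth.Agent.Lib.H59PowerSeriesCRing
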