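import Groth.Agent.Lib.H59PowerSeriesCRing
import Groth.Agent.Lib.H59ArtFunSection

/-!
# Maps from power series rings to coefficient rings (helper59)

`exists_hom_complete`, `hom_ext_complete`: the universal property of `ps R n = R[[X_1..X_n]]` among coefficient rings.
-/

set_option autoImplicit false
universe u v
open CategoryTheory ArtFun ArtFun.Art IsLocalRing

namespace Groth.Agent.Lib.H59PowerSeriesCRing

open Groth.Agent.Lib.H59ArtFunSection

variable {Λ : Type u} {k : Type u} [CommRing Λ] [Field k] [Algebra Λ k]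

theorem exists_hom_complete (R : CRing Λ k) (n : ℕ) (S : CRing Λ k) (g : R.carrier →ₐ[Λ] S.carrier)
    (hg : S.res.comp g = R.res) (x : Fin n → S.carrier) (hx : ∀ i, x i ∈ maximalIdeal S.carrier) :
    ∃ u : (ps R n).carrier →ₐ[Λ] S.carrier, S.res.comp u = (ps R n).res ∧ u.comp (psC R n) = g ∧
      ∀ i, u (psX R n i) = x i := by
  have hxN : ∀ N i, (S.truncHom N).1 (x i) ∈ maximalIdeal (S.trunc N) := by
    intro N i
    rw [Art.mem_maximalIdeal_iff, Groth.Agent.Lib.ArtFunBasic.homSet_res_apply]
    exact (CRing.mem_maximalIdeal_iff S _).1 (hx i)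
  choose uN huC huX using fun N => exists_hom R n (S.trunc N)
    ⟨(S.truncHom N).1.comp g, by rw [← AlgHom.comp_assoc, (S.truncHom N).2, hg]⟩
    (fun i => (S.truncHom N).1 (x i)) (hxN N)
  have hcompat : ∀ N, HomSet.map (S.truncMap N) (uN (N + 1)) = uN N := by
    intro N
    apply hom_ext
    · intro r
      change S.truncMap N ((uN (N + 1)).1 (psC R n r)) = _
      rw [huC, huC]
      rfl
    · intro i
      change S.truncMap N ((uN (N + 1)).1 (psX R n i)) = _
      rw [huX, huX]
      rfl
  obtain ⟨G, hG, hGN⟩ := Groth.Agent.Lib.H71ArtFunProRep.exists_algHom_of_compatible (ps R n) S uN hcompat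
  have hGN' : ∀ N f, (S.truncHom N).1 (G f) = (uN N).1 f := fun N f =>
    congrArg (fun t : HomSet (ps R n).carrier (ps R n).res (S.trunc N) => t.1 f) (hGN N)
  refine ⟨G, hG, ?_, ?_⟩
  · apply Groth.Agent.Lib.ArtFunBasic.algHom_eq_of_forall_trunc_eq S
    intro N
    apply AlgHom.ext
    intro r
    change (S.truncHom N).1 (G (psC R n r)) = (S.truncHom N).1 (g r)
    rw [hGN', huC]
    rfl
  · intro i
    apply eq_of_forall_truncHom_eq S
    intro N
    rw [hGN', huX]

theorem hom_ext_complete (R : CRing Λ k) (n : ℕ) (S : CRing Λ k)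
    (u u' : (ps R n).carrier →ₐ[Λ] S.carrier) (hu : S.res.comp u = (ps R n).res)
    (hu' : S.res.comp u' = (ps R n).res) (hC : u.comp (psC R n) = u'.comp (psC R n))
    (hX : ∀ i, u (psX R n i) = u' (psX R n i)) : u = u' := by
  apply Groth.Agent.Lib.ArtFunBasic.algHom_eq_of_forall_trunc_eq S
  intro N
  have := hom_ext R n (S.trunc N)
    ⟨(S.truncHom N).1.comp u, by rw [← AlgHom.comp_assoc, (S.truncHom N).2, hu]⟩
    ⟨(S.truncHom N).1.comp u', by rw [← AlgHom.comp_assoc, (S.truncHom N).2, hu']⟩
    (fun r => by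
      change (S.truncHom N).1 (u (psC R n r)) = (S.truncHom N).1 (u' (psC R n r))
      have : u (psC R n r) = u' (psC R n r) := DFunLike.congr_fun hC r
      rw [this])
    (fun i => by
      change (S.truncHom N).1 (u (psX R n i)) = (S.truncHom N).1 (u' (psX R n i))
      rw [hX])
  exact congrArg Subtype.val this

end Groth.Agent.Lib.H59PowerSeriesCRing
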