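import Groth.Agent.Lib.H59BaseCRing
import Mathlib.RingTheory.MvPowerSeries.Derivative
import Mathlib.RingTheory.Nilpotent.Lemmas
import Mathlib.Algebra.TrivSqZeroExt.Ideal
import Mathlib.RingTheory.Ideal.Cotangent
import Mathlib.RingTheory.LocalRing.ResidueField.Basic

/-!
# Power series rings and lifting along trivial square-zero extensions (helper59)

* `lift_powerSeries`: maps `k[[X]] → A ⊕ M` lift along `A ⊕ M' → A ⊕ M` for surjective `M' → M`.
-/

set_option autoImplicit false
set_option linter.unusedSectionVars false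
universe u v
open CategoryTheory ArtFun ArtFun.Art IsLocalRing

namespace Groth.Agent.Lib.H59PowerSeriesLift

section Tsze

variable {k : Type u} [Field k] {A : Type u} [CommRing A] [Algebra k A]
variable {M : Type u} [AddCommGroup M] [Module A M] [Module Aᵐᵒᵖ M] [IsCentralScalar A M]
  [Module k M] [IsScalarTower k A M] [IsScalarTower k Aᵐᵒᵖ M]
variable {M' : Type u} [AddCommGroup M'] [Module A M'] [Module Aᵐᵒᵖ M'] [IsCentralScalar A M']
  [Module k M'] [IsScalarTower k A M'] [IsScalarTower k Aᵐᵒᵖ M']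

/-- `x ↦ (φ₀ x, D x)` for a derivation `D` along `φ₀`. -/
def toTszeGen {P : Type*} [CommRing P] [Algebra k P] (φ₀ : P →ₐ[k] A) (D : P → M)
    (hadd : ∀ x y, D (x + y) = D x + D y)
    (hmul : ∀ x y, D (x * y) = φ₀ x • D y + φ₀ y • D x)
    (hk : ∀ c : k, D (algebraMap k P c) = 0) : P →ₐ[k] TrivSqZeroExt A M :=
  have h0 : D 0 = 0 := by
    have := hadd 0 0
    rw [add_zero] at this
    exact left_eq_add.mp this
  have h1 : D 1 = 0 := by
    have := hmul 1 1
    rw [mul_one, map_one, one_smul] at this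
    exact left_eq_add.mp this
  { toFun := fun x => ((φ₀ x, D x) : TrivSqZeroExt A M)
    map_one' := TrivSqZeroExt.ext (map_one φ₀) h1
    map_mul' := fun x y => TrivSqZeroExt.ext (map_mul φ₀ x y) (by
      change D (x * y) = φ₀ x • D y + MulOpposite.op (φ₀ y) • D x
      rw [hmul, op_smul_eq_smul])
    map_zero' := TrivSqZeroExt.ext (map_zero φ₀) h0
    map_add' := fun x y => TrivSqZeroExt.ext (map_add φ₀ x y) (hadd x y)
    commutes' := fun c => TrivSqZeroExt.ext (by
        change φ₀ (algebraMap k P c) = (algebraMap k (TrivSqZeroExt A M) c).fst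
        rw [TrivSqZeroExt.algebraMap_eq_inl', TrivSqZeroExt.fst_inl, AlgHom.commutes]) (by
        change D (algebraMap k P c) = (algebraMap k (TrivSqZeroExt A M) c).snd
        rw [TrivSqZeroExt.algebraMap_eq_inl', TrivSqZeroExt.snd_inl, hk]) }

theorem toTszeGen_fst {P : Type*} [CommRing P] [Algebra k P] (φ₀ : P →ₐ[k] A) (D : P → M)
    (hadd hmul hk) (x : P) : (toTszeGen φ₀ D hadd hmul hk x).fst = φ₀ x := rfl

theorem toTszeGen_snd {P : Type*} [CommRing P] [Algebra k P] (φ₀ : P →ₐ[k] A) (D : P → M)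
    (hadd hmul hk) (x : P) : (toTszeGen φ₀ D hadd hmul hk x).snd = D x := rfl

/-- `(a, m') ↦ (a, f m')`. -/
def tszeMapGen (f : M' →ₗ[A] M) : TrivSqZeroExt A M' →ₐ[k] TrivSqZeroExt A M where
  toFun x := (x.fst, f x.snd)
  map_one' := TrivSqZeroExt.ext rfl (by simp)
  map_mul' x y := TrivSqZeroExt.ext rfl (by
    change f (x.fst • y.snd + MulOpposite.op y.fst • x.snd) =
      x.fst • f y.snd + MulOpposite.op y.fst • f x.snd
    rw [map_add, map_smul, op_smul_eq_smul, op_smul_eq_smul, map_smul])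
  map_zero' := TrivSqZeroExt.ext rfl (by simp)
  map_add' x y := TrivSqZeroExt.ext rfl (by simp)
  commutes' r := TrivSqZeroExt.ext rfl (by
    change f (algebraMap k (TrivSqZeroExt A M') r).snd = (algebraMap k (TrivSqZeroExt A M) r).snd
    rw [TrivSqZeroExt.algebraMap_eq_inl', TrivSqZeroExt.algebraMap_eq_inl', TrivSqZeroExt.snd_inl,
      TrivSqZeroExt.snd_inl, map_zero])

theorem tszeMapGen_fst (f : M' →ₗ[A] M) (x : TrivSqZeroExt A M') :
    ((tszeMapGen (k := k) f) x).fst = x.fst := rfl

theorem tszeMapGen_snd (f : M' →ₗ[A] M) (x : TrivSqZeroExt A M') :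
    ((tszeMapGen (k := k) f) x).snd = f x.snd := rfl

/-- finitely many elements with nilpotent first component span a nilpotent ideal. -/
theorem exists_pow_span_eq_bot {ι : Type*} [Finite ι] (b : ι → TrivSqZeroExt A M)
    (hb : ∀ i, IsNilpotent (b i).fst) : ∃ N : ℕ, Ideal.span (Set.range b) ^ N = ⊥ := by
  have hfg : (Ideal.span (Set.range b)).FG := ⟨(Set.finite_range b).toFinset, by simp⟩
  have h1 : IsNilpotent (Ideal.span (Set.range b)) := by
    rw [Ideal.FG.isNilpotent_iff_le_nilradical hfg, Ideal.span_le]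
    rintro _ ⟨i, rfl⟩
    rw [SetLike.mem_coe, mem_nilradical, TrivSqZeroExt.isNilpotent_iff_isNilpotent_fst]
    exact hb i
  obtain ⟨N, hN⟩ := h1
  exact ⟨N, hN⟩

end Tsze

section LiftP

open Groth.Agent.Lib.H59PowerSeries

variable {k : Type u} [Field k] (n : ℕ)

/-- a `k`-algebra map from `k[[X]]` to an Artinian object sends the variables into the maximal ideal. -/
theorem map_X_mem_maximalIdeal (A : Art k k) (a : MvPowerSeries (Fin n) k →ₐ[k] A) (i : Fin n) :
    a (MvPowerSeries.X i) ∈ maximalIdeal A := by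
  rw [Art.mem_maximalIdeal_iff]
  by_contra hc
  set c : k := A.res (a (MvPowerSeries.X i)) with hcdef
  have hu : IsUnit ((MvPowerSeries.X i : MvPowerSeries (Fin n) k) - MvPowerSeries.C c) := by
    rw [MvPowerSeries.isUnit_iff_constantCoeff, map_sub, MvPowerSeries.constantCoeff_X,
      MvPowerSeries.constantCoeff_C, zero_sub]
    exact (IsUnit.mk0 c hc).neg
  have h0 : A.res (a ((MvPowerSeries.X i : MvPowerSeries (Fin n) k) - MvPowerSeries.C c)) = 0 := by
    have hC : a (MvPowerSeries.C c) = algebraMap k A c := a.commutes c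
    rw [map_sub, map_sub, hC, AlgHom.commutes, ← hcdef]
    exact sub_self c
  have h1 := (hu.map a).map A.res
  rw [h0] at h1
  exact not_isUnit_zero h1

variable {A : Art k k}
variable {M : Type u} [AddCommGroup M] [Module A M] [Module (↥A)ᵐᵒᵖ M] [IsCentralScalar A M]
  [Module k M] [IsScalarTower k A M] [IsScalarTower k (↥A)ᵐᵒᵖ M]
variable {M' : Type u} [AddCommGroup M'] [Module A M'] [Module (↥A)ᵐᵒᵖ M'] [IsCentralScalar A M']
  [Module k M'] [IsScalarTower k A M'] [IsScalarTower k (↥A)ᵐᵒᵖ M']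

theorem isNilpotent_fst_map_X (φ : MvPowerSeries (Fin n) k →ₐ[k] TrivSqZeroExt A M) (i : Fin n) :
    IsNilpotent (φ (MvPowerSeries.X i)).fst := by
  have h1 := map_X_mem_maximalIdeal n A ((TrivSqZeroExt.fstHom k A M).comp φ) i
  obtain ⟨N, hN⟩ := Groth.Agent.Lib.ArtFunFormal.isNilpotent_maximalIdeal A
  refine ⟨N, ?_⟩
  have h2 : (φ (MvPowerSeries.X i)).fst ^ N ∈ maximalIdeal A ^ N := Ideal.pow_mem_pow h1 N
  rw [hN] at h2
  exact h2

/-- maps from a power series ring over a field lift along `A ⊕ M' → A ⊕ M`. -/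
theorem lift_powerSeries (f : M' →ₗ[A] M) (hf : Function.Surjective f)
    (φ : MvPowerSeries (Fin n) k →ₐ[k] TrivSqZeroExt A M) :
    ∃ ψ : MvPowerSeries (Fin n) k →ₐ[k] TrivSqZeroExt A M', (tszeMapGen (k := k) f).comp ψ = φ := by
  classical
  choose m' hm' using fun i => hf (φ (MvPowerSeries.X i)).snd
  let b' : Fin n → TrivSqZeroExt A M' := fun i => ((φ (MvPowerSeries.X i)).fst, m' i)
  have hb' : ∀ i, IsNilpotent (b' i).fst := fun i => isNilpotent_fst_map_X n φ i
  obtain ⟨N', hN'⟩ := exists_pow_span_eq_bot b' hb'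
  obtain ⟨ψ, hψ⟩ := exists_eval (σ := Fin n) (R := k) (Ideal.span (Set.range b')) N' hN' b'
    (fun i => Ideal.subset_span ⟨i, rfl⟩)
  have hψX : ∀ i, ψ (MvPowerSeries.X i) = b' i := by
    intro i
    have := hψ (MvPolynomial.X i)
    rw [MvPolynomial.coe_X, MvPolynomial.aeval_X] at this
    exact this
  refine ⟨ψ, ?_⟩
  obtain ⟨N, hN⟩ := exists_pow_span_eq_bot (fun i => φ (MvPowerSeries.X i))
    (fun i => isNilpotent_fst_map_X n φ i)
  have hagree : ∀ i, ((tszeMapGen (k := k) f).comp ψ) (MvPowerSeries.X i) = φ (MvPowerSeries.X i) := by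
    intro i
    change tszeMapGen (k := k) f (ψ (MvPowerSeries.X i)) = _
    rw [hψX]
    exact TrivSqZeroExt.ext rfl (hm' i)
  exact eval_unique (Ideal.span (Set.range fun i => φ (MvPowerSeries.X i))) N hN _ _
    (fun i => by rw [hagree]; exact Ideal.subset_span ⟨i, rfl⟩) hagree

end LiftP

section Field

open Groth.Agent.Lib.H59PowerSeries Finsupp

variable {k : Type u} [Field k] {n : ℕ}

theorem mem_maximalIdeal_pow_iff (N : ℕ) (g : MvPowerSeries (Fin n) k) :
    g ∈ maximalIdeal (MvPowerSeries (Fin n) k) ^ N ↔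
      ∀ e : Fin n →₀ ℕ, e.degree < N → MvPowerSeries.coeff e g = 0 := by
  rw [maximalIdeal_eq_bigIdeal, bigIdeal_pow_eq, mem_coeffIdeal, IsLocalRing.maximalIdeal_eq_bot]
  constructor
  · intro h e he
    have := h e
    rw [Ideal.bot_pow (by omega), Ideal.mem_bot] at this
    exact this
  · intro h e
    by_cases he : e.degree < N
    · rw [h e he]
      exact Ideal.zero_mem _
    · rw [Nat.sub_eq_zero_of_le (not_lt.1 he), pow_zero, Ideal.one_eq_top]
      trivial

theorem pderiv_mem_pow (N : ℕ) (i : Fin n) (g : MvPowerSeries (Fin n) k)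
    (hg : g ∈ maximalIdeal (MvPowerSeries (Fin n) k) ^ (N + 1)) :
    MvPowerSeries.pderiv k i g ∈ maximalIdeal (MvPowerSeries (Fin n) k) ^ N := by
  rw [mem_maximalIdeal_pow_iff] at hg ⊢
  intro e he
  rw [MvPowerSeries.coeff_pderiv, hg (e + single i 1) (by rw [map_add, degree_single]; omega), zero_mul]

theorem exists_pderiv_not_mem [CharZero k] (N : ℕ) (g : MvPowerSeries (Fin n) k)
    (hg : g ∈ maximalIdeal (MvPowerSeries (Fin n) k) ^ (N + 1))
    (hg' : g ∉ maximalIdeal (MvPowerSeries (Fin n) k) ^ (N + 2)) :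
    ∃ i, MvPowerSeries.pderiv k i g ∉ maximalIdeal (MvPowerSeries (Fin n) k) ^ (N + 1) := by
  rw [mem_maximalIdeal_pow_iff] at hg hg'
  push Not at hg'
  obtain ⟨e, he, hce⟩ := hg'
  have hdeg : e.degree = N + 1 := by
    by_contra hne
    exact hce (hg e (by omega))
  have hne0 : e ≠ 0 := by
    rintro rfl
    rw [map_zero] at hdeg
    omega
  obtain ⟨i, hi⟩ : ∃ i, e i ≠ 0 := by
    by_contra hcon
    push Not at hcon
    exact hne0 (Finsupp.ext hcon)
  refine ⟨i, ?_⟩
  rw [mem_maximalIdeal_pow_iff]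
  push Not
  have hle : single i 1 ≤ e := by
    rw [Finsupp.single_le_iff]
    exact Nat.one_le_iff_ne_zero.2 hi
  have hsum : e - single i 1 + single i 1 = e := tsub_add_cancel_of_le hle
  refine ⟨e - single i 1, ?_, ?_⟩
  · have : (e - single i 1).degree + 1 = e.degree := by
      conv_rhs => rw [← hsum, map_add, degree_single]
    omega
  · rw [MvPowerSeries.coeff_pderiv, hsum]
    apply mul_ne_zero hce
    have h2 : (e - single i 1 : Fin n →₀ ℕ) i + 1 = e i := by
      rw [Finsupp.tsub_apply, Finsupp.single_eq_same]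
      exact Nat.sub_add_cancel (Nat.one_le_iff_ne_zero.2 hi)
    have h1 : (((e - single i 1 : Fin n →₀ ℕ) i : ℕ) : k) + 1 = ((e i : ℕ) : k) := by
      rw [← h2]
      push_cast
      ring
    rw [h1]
    exact Nat.cast_ne_zero.2 hi

end Field

section Main

open Groth.Agent.Lib.H59PowerSeries Groth.Agent.Lib.H59PowerSeriesCRing Groth.Agent.Lib.H59BaseCRing

variable {k : Type u} [Field k]

/-- the lifting property for trivial square-zero extensions along surjections of modules. -/
def HasTszeLifting (R : Type u) [CommRing R] [Algebra k R] : Prop :=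
  ∀ (A : ArtFun.Art k k) (M M' : Type u) [AddCommGroup M] [Module (↥A) M] [Module (↥A)ᵐᵒᵖ M]
    [IsCentralScalar (↥A) M] [Module k M] [IsScalarTower k (↥A) M] [IsScalarTower k (↥A)ᵐᵒᵖ M]
    [AddCommGroup M'] [Module (↥A) M'] [Module (↥A)ᵐᵒᵖ M'] [IsCentralScalar (↥A) M'] [Module k M']
    [IsScalarTower k (↥A) M'] [IsScalarTower k (↥A)ᵐᵒᵖ M'] (f : M' →ₗ[↥A] M),
    Function.Surjective f →
      ∀ φ : R →ₐ[k] TrivSqZeroExt (↥A) M,
        ∃ ψ : R →ₐ[k] TrivSqZeroExt (↥A) M',
          ∀ r : R, (ψ r).fst = (φ r).fst ∧ f (ψ r).snd = (φ r).snd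

variable [CharZero k] (n : ℕ)

theorem ker_eq_bot_of_lift {R : Type u} [CommRing R] [Algebra k R]
    (u : MvPowerSeries (Fin n) k →ₐ[k] R) (hu : Function.Surjective u)
    (hJ : RingHom.ker u ≤ maximalIdeal (MvPowerSeries (Fin n) k) ^ 2)
    (H : HasTszeLifting (k := k) R) : RingHom.ker u = ⊥ := by
  classical
  by_contra hne
  -- the order of the kernel
  have hex : ∃ N, ¬ RingHom.ker u ≤ maximalIdeal (MvPowerSeries (Fin n) k) ^ N := by
    by_contra hall
    push Not at hall
    apply hne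
    rw [eq_bot_iff]
    intro g hg
    have : g ∈ ⨅ i, maximalIdeal (MvPowerSeries (Fin n) k) ^ i := by
      rw [Ideal.mem_iInf]
      exact fun i => hall i hg
    rwa [Ideal.iInf_pow_eq_bot_of_isLocalRing _ Ideal.IsPrime.ne_top'] at this
  have hN₁ : ¬ RingHom.ker u ≤ maximalIdeal (MvPowerSeries (Fin n) k) ^ (Nat.find hex) :=
    Nat.find_spec hex
  have hN₁min : ∀ N < Nat.find hex, RingHom.ker u ≤ maximalIdeal (MvPowerSeries (Fin n) k) ^ N :=
    fun N hN => not_not.1 (Nat.find_min hex hN)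
  have hN₁3 : 3 ≤ Nat.find hex := by
    by_contra hlt
    push Not at hlt
    exact hN₁ (hJ.trans (Ideal.pow_le_pow_right (by omega)))
  obtain ⟨p, hp⟩ : ∃ p, Nat.find hex = p + 3 := ⟨Nat.find hex - 3, by omega⟩
  rw [hp] at hN₁
  have hJle : RingHom.ker u ≤ maximalIdeal (MvPowerSeries (Fin n) k) ^ (p + 2) :=
    hN₁min (p + 2) (by omega)
  obtain ⟨f, hfJ, hf⟩ := SetLike.not_le_iff_exists.1 hN₁
  obtain ⟨i, hi⟩ := exists_pderiv_not_mem (p + 1) f (hJle hfJ) hf
  -- the Artinian quotient
  let psk : CRing k k := ps (baseCRing (Λ := k) (k := k) Function.surjective_id) n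
  let A : Art k k := psk.trunc (p + 1)
  let qA : MvPowerSeries (Fin n) k →ₐ[k] A := (psk.truncHom (p + 1)).1
  have hqA0 : ∀ g, qA g = 0 ↔ g ∈ maximalIdeal (MvPowerSeries (Fin n) k) ^ (p + 2) := fun g =>
    Ideal.Quotient.eq_zero_iff_mem
  have hqAmax : (maximalIdeal (MvPowerSeries (Fin n) k)).map (qA : MvPowerSeries (Fin n) k →+* A) ≤
      maximalIdeal A := Groth.Agent.Lib.ArtFunFormal.map_maximalIdeal_le psk A (psk.truncHom (p + 1))
  have hqAm : ∀ j g, g ∈ maximalIdeal (MvPowerSeries (Fin n) k) ^ j → qA g ∈ maximalIdeal A ^ j := by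
    intro j g hg
    have h1 : (maximalIdeal (MvPowerSeries (Fin n) k) ^ j).map (qA : MvPowerSeries (Fin n) k →+* A) ≤
        maximalIdeal A ^ j := by
      rw [Ideal.map_pow]
      exact Ideal.pow_right_mono hqAmax j
    exact h1 (Ideal.mem_map_of_mem _ hg)
  have hmaxle : maximalIdeal A ≤
      (maximalIdeal (MvPowerSeries (Fin n) k)).map (qA : MvPowerSeries (Fin n) k →+* A) :=
    CRing.maximalIdeal_quot_le psk (p + 1)
  have hAnil : maximalIdeal A ^ (p + 2) = ⊥ := by
    rw [eq_bot_iff]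
    refine (Ideal.pow_right_mono hmaxle (p + 2)).trans ?_
    rw [← Ideal.map_pow, Ideal.map_le_iff_le_comap]
    intro g hg
    rw [Ideal.mem_comap, Ideal.mem_bot]
    exact (hqA0 g).2 hg
  let IA : Ideal A := maximalIdeal A ^ (p + 1)
  have hIAsq : ∀ a ∈ IA, ∀ b ∈ IA, a * b = 0 := by
    intro a ha b hb
    have h1 : a * b ∈ maximalIdeal A ^ (p + 1) * maximalIdeal A ^ (p + 1) := Ideal.mul_mem_mul ha hb
    rw [← pow_add] at h1
    have h2 := Ideal.pow_le_pow_right (show p + 2 ≤ p + 1 + (p + 1) by omega) h1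
    rw [hAnil, Ideal.mem_bot] at h2
    exact h2
  -- the derivation into `A / IA`
  let flin : A →ₗ[A] (A ⧸ IA) := Submodule.mkQ IA
  have hflin : Function.Surjective flin := Submodule.mkQ_surjective IA
  have hfl : ∀ a b : A, flin (a * b) = a • flin b := fun a b => by
    rw [← smul_eq_mul, map_smul]
  let Dbar : MvPowerSeries (Fin n) k → (A ⧸ IA) := fun g => flin (qA (MvPowerSeries.pderiv k i g))
  let φP : MvPowerSeries (Fin n) k →ₐ[k] TrivSqZeroExt A (A ⧸ IA) :=
    toTszeGen qA Dbar
      (fun x y => by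
        change flin (qA (MvPowerSeries.pderiv k i (x + y))) = _
        rw [map_add, map_add, map_add])
      (fun x y => by
        change flin (qA (MvPowerSeries.pderiv k i (x * y))) =
          qA x • flin (qA (MvPowerSeries.pderiv k i y)) + qA y • flin (qA (MvPowerSeries.pderiv k i x))
        have e1 : qA (MvPowerSeries.pderiv k i (x * y)) =
            qA x * qA (MvPowerSeries.pderiv k i y) + qA y * qA (MvPowerSeries.pderiv k i x) := by
          rw [Derivation.leibniz, smul_eq_mul, smul_eq_mul, map_add, map_mul, map_mul]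
        rw [e1, map_add, hfl, hfl])
      (fun c => by
        change flin (qA (MvPowerSeries.pderiv k i (algebraMap k _ c))) = 0
        rw [Derivation.map_algebraMap, map_zero, map_zero])
  have hφPkill : ∀ g ∈ RingHom.ker u, φP g = 0 := by
    intro g hg
    apply TrivSqZeroExt.ext
    · change qA g = 0
      rw [hqA0]
      exact hJle hg
    · change flin (qA (MvPowerSeries.pderiv k i g)) = 0
      change Submodule.Quotient.mk (qA (MvPowerSeries.pderiv k i g)) = 0
      rw [Submodule.Quotient.mk_eq_zero]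
      exact hqAm (p + 1) _ (pderiv_mem_pow (p + 1) i g (hJle hg))
  let φR : R →ₐ[k] TrivSqZeroExt A (A ⧸ IA) :=
    (Ideal.Quotient.liftₐ (RingHom.ker u) φP hφPkill).comp
      (Ideal.quotientKerAlgEquivOfSurjective hu).symm.toAlgHom
  have hφR : ∀ g, φR (u g) = φP g := by
    intro g
    have he : (Ideal.quotientKerAlgEquivOfSurjective hu).symm (u g) = Ideal.Quotient.mk _ g := by
      rw [AlgEquiv.symm_apply_eq]
      rfl
    change Ideal.Quotient.liftₐ (RingHom.ker u) φP hφPkill
      ((Ideal.quotientKerAlgEquivOfSurjective hu).symm (u g)) = φP g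
    rw [he]
    rfl
  -- lift
  obtain ⟨ψR, hψR⟩ := H A (A ⧸ IA) A flin hflin φR
  let Ψ : MvPowerSeries (Fin n) k →ₐ[k] TrivSqZeroExt A A := ψR.comp u
  have hΨfst : ∀ g, (Ψ g).fst = qA g := by
    intro g
    have := (hψR (u g)).1
    rw [hφR] at this
    exact this
  have hΨsnd : ∀ g, (Ψ g).snd - qA (MvPowerSeries.pderiv k i g) ∈ IA := by
    intro g
    have := (hψR (u g)).2
    rw [hφR] at this
    change flin (Ψ g).snd = flin (qA (MvPowerSeries.pderiv k i g)) at this
    rw [← sub_eq_zero, ← map_sub] at this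
    change Submodule.Quotient.mk ((Ψ g).snd - qA (MvPowerSeries.pderiv k i g)) = 0 at this
    rwa [Submodule.Quotient.mk_eq_zero] at this
  have hΨf : Ψ f = 0 := by
    change ψR (u f) = 0
    rw [(RingHom.mem_ker.1 hfJ : u f = 0), map_zero]
  -- the chain rule
  let a : Fin n → A := fun j => (Ψ (MvPowerSeries.X j)).snd
  let D₂ : MvPowerSeries (Fin n) k → A := fun g => ∑ j, qA (MvPowerSeries.pderiv k j g) * a j
  let Ψ₂ : MvPowerSeries (Fin n) k →ₐ[k] TrivSqZeroExt A A :=
    toTszeGen qA D₂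
      (fun x y => by
        change ∑ j, qA (MvPowerSeries.pderiv k j (x + y)) * a j = _
        rw [← Finset.sum_add_distrib]
        apply Finset.sum_congr rfl
        intro j _
        rw [map_add, map_add, add_mul])
      (fun x y => by
        change ∑ j, qA (MvPowerSeries.pderiv k j (x * y)) * a j =
          qA x • ∑ j, qA (MvPowerSeries.pderiv k j y) * a j +
            qA y • ∑ j, qA (MvPowerSeries.pderiv k j x) * a j
        rw [smul_eq_mul, smul_eq_mul, Finset.mul_sum, Finset.mul_sum, ← Finset.sum_add_distrib]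
        apply Finset.sum_congr rfl
        intro j _
        rw [Derivation.leibniz, map_add, smul_eq_mul, smul_eq_mul, map_mul, map_mul]
        ring)
      (fun c => by
        change ∑ j, qA (MvPowerSeries.pderiv k j (algebraMap k _ c)) * a j = 0
        apply Finset.sum_eq_zero
        intro j _
        rw [Derivation.map_algebraMap, map_zero, zero_mul])
  have hΨ₂X : ∀ j, Ψ₂ (MvPowerSeries.X j) = Ψ (MvPowerSeries.X j) := by
    intro j
    apply TrivSqZeroExt.ext
    · change qA (MvPowerSeries.X j) = _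
      rw [hΨfst]
    · change ∑ l, qA (MvPowerSeries.pderiv k l (MvPowerSeries.X j)) * a l = a j
      rw [Finset.sum_eq_single j]
      · rw [MvPowerSeries.pderiv_X_self, map_one, one_mul]
      · intro l _ hl
        rw [MvPowerSeries.pderiv_X_of_ne (Ne.symm hl), map_zero, zero_mul]
      · intro h
        exact absurd (Finset.mem_univ j) h
  obtain ⟨N, hN⟩ := exists_pow_span_eq_bot (fun j => Ψ (MvPowerSeries.X j))
    (fun j => isNilpotent_fst_map_X n Ψ j)
  have hΨeq : Ψ = Ψ₂ :=
    eval_unique (Ideal.span (Set.range fun j => Ψ (MvPowerSeries.X j))) N hN Ψ Ψ₂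
      (fun j => Ideal.subset_span ⟨j, rfl⟩) (fun j => (hΨ₂X j).symm)
  have hsum0 : ∑ j, qA (MvPowerSeries.pderiv k j f) * a j = 0 := by
    have h1 : (Ψ₂ f).snd = 0 := by rw [← hΨeq, hΨf]; rfl
    exact h1
  -- evaluate
  have hterm : ∀ j, qA (MvPowerSeries.pderiv k j f) * a j =
      qA (MvPowerSeries.pderiv k j f) * qA (MvPowerSeries.pderiv k i (MvPowerSeries.X j)) := by
    intro j
    have h1 : qA (MvPowerSeries.pderiv k j f) ∈ IA :=
      hqAm (p + 1) _ (pderiv_mem_pow (p + 1) j f (hJle hfJ))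
    have h2 := hIAsq _ h1 _ (hΨsnd (MvPowerSeries.X j))
    rw [mul_sub, sub_eq_zero] at h2
    exact h2
  have hfinal : qA (MvPowerSeries.pderiv k i f) = 0 := by
    rw [← hsum0, Finset.sum_congr rfl (fun j _ => hterm j), Finset.sum_eq_single i]
    · rw [MvPowerSeries.pderiv_X_self, map_one, mul_one]
    · intro l _ hl
      rw [MvPowerSeries.pderiv_X_of_ne hl, map_zero, mul_zero]
    · intro h
      exact absurd (Finset.mem_univ i) h
  exact hi ((hqA0 _).1 hfinal)

end Main

section Gens

/-- generators of the maximal ideal lifting a basis of the cotangent space. -/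
theorem exists_basis_gens (R : Type*) [CommRing R] [IsLocalRing R] [IsNoetherianRing R] :
    ∃ x : Fin (Module.finrank (ResidueField R) (CotangentSpace R)) → R,
      (∀ i, x i ∈ maximalIdeal R) ∧
      maximalIdeal R ≤ Ideal.span (Set.range x) ⊔ maximalIdeal R ^ 2 ∧
      ∀ c : Fin (Module.finrank (ResidueField R) (CotangentSpace R)) → R,
        ∑ i, c i * x i ∈ maximalIdeal R ^ 2 → ∀ i, c i ∈ maximalIdeal R := by
  classical
  let b := Module.finBasis (ResidueField R) (CotangentSpace R)
  choose y hy using fun i => Ideal.toCotangent_surjective (maximalIdeal R) (b i)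
  have hsum : ∀ c : Fin (Module.finrank (ResidueField R) (CotangentSpace R)) → R,
      (maximalIdeal R).toCotangent ⟨∑ i, c i * (y i : R),
        Ideal.sum_mem _ fun i _ => Ideal.mul_mem_left _ _ (y i).2⟩ =
        ∑ i, IsLocalRing.residue R (c i) • b i := by
    intro c
    have h2 : (⟨∑ i, c i * (y i : R), Ideal.sum_mem _ fun i _ => Ideal.mul_mem_left _ _ (y i).2⟩ :
        maximalIdeal R) = ∑ i, c i • y i := by
      apply Subtype.ext
      rw [Submodule.coe_sum]
      rfl
    rw [h2, map_sum]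
    apply Finset.sum_congr rfl
    intro i _
    rw [map_smul, hy i]
    rfl
  refine ⟨fun i => (y i : R), fun i => (y i).2, ?_, ?_⟩
  · intro z hz
    choose c hc using fun i => IsLocalRing.residue_surjective
      (b.repr ((maximalIdeal R).toCotangent ⟨z, hz⟩) i)
    have h1 : (maximalIdeal R).toCotangent ⟨z, hz⟩ = (maximalIdeal R).toCotangent
        ⟨∑ i, c i * (y i : R), Ideal.sum_mem _ fun i _ => Ideal.mul_mem_left _ _ (y i).2⟩ := by
      rw [hsum c]
      conv_lhs => rw [← b.sum_repr ((maximalIdeal R).toCotangent ⟨z, hz⟩)]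
      apply Finset.sum_congr rfl
      intro i _
      rw [hc i]
    rw [Ideal.toCotangent_eq] at h1
    have h2 : z = ∑ i, c i * (y i : R) + (z - ∑ i, c i * (y i : R)) := by ring
    rw [h2]
    refine Submodule.add_mem_sup ?_ h1
    apply Submodule.sum_mem
    intro i _
    exact Ideal.mul_mem_left _ _ (Ideal.subset_span ⟨i, rfl⟩)
  · intro c hc i
    have h1 : (maximalIdeal R).toCotangent ⟨∑ i, c i * (y i : R),
        Ideal.sum_mem _ fun i _ => Ideal.mul_mem_left _ _ (y i).2⟩ = 0 := by
      rw [Ideal.toCotangent_eq_zero]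
      exact hc
    rw [hsum c] at h1
    have h2 := (Fintype.linearIndependent_iff.1 b.linearIndependent) _ h1 i
    exact (IsLocalRing.residue_eq_zero_iff _).1 h2

end Gens

end Groth.Agent.Lib.H59PowerSeriesLift
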