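import Mathlib.RingTheory.LocalRing.MaximalIdeal.Basic
import Mathlib.RingTheory.Noetherian.Basic
import Mathlib.RingTheory.Finiteness.Basic
import Mathlib.Algebra.BigOperators.Fin

/-!
# Minimal generators of the maximal ideal modulo an ideal (helper59)

`exists_min_gens`: in a Noetherian local ring `R` with an ideal `I`, there are `x_1, …, x_d ∈ m` generating `m` modulo `I`
and independent modulo `I` in the sense that `∑ c_i x_i ∈ I` forces all `c_i ∈ m`.
-/

set_option autoImplicit false
open IsLocalRing

namespace Groth.Agent.Lib.H59SchlessMinGens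

theorem exists_min_gens {R : Type*} [CommRing R] [IsLocalRing R] [IsNoetherianRing R] (I : Ideal R) :
    ∃ (d : ℕ) (x : Fin d → R), (∀ i, x i ∈ maximalIdeal R) ∧
      maximalIdeal R ≤ Ideal.span (Set.range x) ⊔ I ∧
      ∀ c : Fin d → R, ∑ i, c i * x i ∈ I → ∀ i, c i ∈ maximalIdeal R := by
  classical
  have hex : ∃ d, ∃ x : Fin d → R, (∀ i, x i ∈ maximalIdeal R) ∧
      maximalIdeal R ≤ Ideal.span (Set.range x) ⊔ I := by
    obtain ⟨n, s, hs⟩ := Submodule.fg_iff_exists_fin_generating_family.1
      (IsNoetherian.noetherian (maximalIdeal R))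
    refine ⟨n, s, ?_, ?_⟩
    · intro i
      rw [← hs]
      exact Submodule.subset_span ⟨i, rfl⟩
    · intro r hr
      rw [← hs] at hr
      exact Submodule.mem_sup_left hr
  obtain ⟨x, hxm, hgen⟩ := Nat.find_spec hex
  have hmin := fun m (hm : m < Nat.find hex) => Nat.find_min hex hm
  generalize hd : Nat.find hex = d at x hxm hgen hmin
  refine ⟨d, x, hxm, hgen, ?_⟩
  intro c hc j
  by_contra hcj
  have hu : IsUnit (c j) := by
    by_contra hnu
    exact hcj ((mem_maximalIdeal _).2 hnu)
  cases d with
  | zero => exact Fin.elim0 j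
  | succ d' =>
    apply hmin d' (Nat.lt_succ_self d')
    refine ⟨x ∘ j.succAbove, fun i => hxm _, ?_⟩
    set T : Ideal R := Ideal.span (Set.range (x ∘ j.succAbove)) ⊔ I with hT
    have hsum : ∑ i, c (j.succAbove i) * x (j.succAbove i) ∈ T := by
      apply Submodule.mem_sup_left
      apply Submodule.sum_mem
      intro i _
      exact Ideal.mul_mem_left _ _ (Ideal.subset_span ⟨i, rfl⟩)
    have hcx : c j * x j ∈ T := by
      rw [Fin.sum_univ_succAbove _ j] at hc
      have h2 : c j * x j = (c j * x j + ∑ i, c (j.succAbove i) * x (j.succAbove i)) -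
          ∑ i, c (j.succAbove i) * x (j.succAbove i) := by ring
      rw [h2]
      exact T.sub_mem (Submodule.mem_sup_right hc) hsum
    have hxj : x j ∈ T := by
      have h3 : x j = ↑hu.unit⁻¹ * (c j * x j) := by
        rw [← mul_assoc, IsUnit.val_inv_mul, one_mul]
      rw [h3]
      exact Ideal.mul_mem_left _ _ hcx
    have hspan : Ideal.span (Set.range x) ≤ T := by
      rw [Ideal.span_le]
      rintro _ ⟨i, rfl⟩
      by_cases hij : i = j
      · rw [hij]; exact hxj
      · obtain ⟨i', rfl⟩ := Fin.exists_succAbove_eq hij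
        exact Submodule.mem_sup_left (Ideal.subset_span ⟨i', rfl⟩)
    exact hgen.trans (sup_le hspan le_sup_right)

end Groth.Agent.Lib.H59SchlessMinGens
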