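import Groth.Agent.Lib.H59PowerSeriesCRing2
import Groth.Agent.Lib.H59SchlessMinGens
import Groth.Agent.Lib.ArtFunSurj

/-!
# Relative smoothness and power series rings (helper59)

For a morphism `R → S` of coefficient rings: `h_S → h_R` is smooth iff `S ≅ R[[X_1, …, X_n]]` as `R`-algebras.
-/

set_option autoImplicit false
set_option linter.unusedSectionVars false
universe u v
open CategoryTheory ArtFun ArtFun.Art IsLocalRing

namespace Groth.Agent.Lib.H59PowerSeriesSmooth

open Groth.Agent.Lib.H59PowerSeriesCRing Groth.Agent.Lib.H59ArtFunSection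

variable {Λ : Type u} {k : Type u} [CommRing Λ] [Field k] [Algebra Λ k]
  [IsNoetherianRing Λ] [Module.Finite Λ k]

theorem iso_of_isVersal (R S : CRing Λ k) [Algebra R.carrier S.carrier]
    [IsScalarTower Λ R.carrier S.carrier]
    (hRS : S.res.comp (IsScalarTower.toAlgHom Λ R.carrier S.carrier) = R.res)
    (hvers : IsVersal ((Family.self R.carrier R.res).along
      (IsScalarTower.toAlgHom Λ R.carrier S.carrier) hRS)) :
    ∃ n : ℕ, Nonempty (S.carrier ≃ₐ[R.carrier] MvPowerSeries (Fin n) R.carrier) := by
  classical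
  set g : R.carrier →ₐ[Λ] S.carrier := IsScalarTower.toAlgHom Λ R.carrier S.carrier with hgdef
  have hgr : ∀ r, g r = algebraMap R.carrier S.carrier r := fun r => rfl
  have hgm : ∀ r, r ∈ maximalIdeal R.carrier → g r ∈ maximalIdeal S.carrier := by
    intro r hr
    rw [CRing.mem_maximalIdeal_iff] at hr ⊢
    rw [← hr, ← hRS]
    rfl
  obtain ⟨d, x, hxm, hgen, hind⟩ := Groth.Agent.Lib.H59SchlessMinGens.exists_min_gens
    (R := S.carrier) (maximalIdeal S.carrier ^ 2 ⊔
      (maximalIdeal R.carrier).map (algebraMap R.carrier S.carrier))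
  obtain ⟨u, hu, huc, hux⟩ := exists_hom_complete R d S g hRS x hxm
  have hucr : ∀ r, u (psC R d r) = g r := fun r => DFunLike.congr_fun huc r
  have hcomplP := (ps R d).isAdicComplete
  have hcomplS := S.isAdicComplete
  have hures : ∀ p, S.res (u p) = (ps R d).res p := fun p => DFunLike.congr_fun hu p
  have hum : ∀ p, p ∈ maximalIdeal (ps R d).carrier ↔ u p ∈ maximalIdeal S.carrier := by
    intro p
    rw [CRing.mem_maximalIdeal_iff, CRing.mem_maximalIdeal_iff, hures]
  have hmapm : (maximalIdeal (ps R d).carrier).map (u : (ps R d).carrier →+* S.carrier) ≤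
      maximalIdeal S.carrier := by
    rw [Ideal.map_le_iff_le_comap]
    intro p hp
    exact (hum p).1 hp
  have hpsCm : ∀ r, r ∈ maximalIdeal R.carrier → psC R d r ∈ maximalIdeal (ps R d).carrier := by
    intro r hr
    rw [hum, hucr]
    exact hgm r hr
  have hmapR : ((maximalIdeal R.carrier).map (psC R d : R.carrier →+* (ps R d).carrier)).map
      (u : (ps R d).carrier →+* S.carrier) =
      (maximalIdeal R.carrier).map (algebraMap R.carrier S.carrier) := by
    rw [Ideal.map_map]
    congr 1
    ext r
    exact hucr r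
  -- u is surjective
  have husurj : Function.Surjective u := by
    apply ((Groth.Agent.Lib.ArtFunSurj.tfae_surjective (ps R d).res S.res (ps R d).res_surjective
      S.res_surjective u hu).out 1 0).1
    apply le_antisymm
    · exact sup_le hmapm (Ideal.pow_le_self two_ne_zero)
    · refine hgen.trans (sup_le ?_ (sup_le le_sup_right ?_))
      · refine le_trans ?_ le_sup_left
        rw [Ideal.span_le]
        rintro _ ⟨i, rfl⟩
        rw [← hux i]
        exact Ideal.mem_map_of_mem _ (psX_mem_maximalIdeal R d i)
      · refine le_trans ?_ le_sup_left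
        rw [← hmapR]
        exact Ideal.map_mono (Ideal.map_le_iff_le_comap.2 fun r hr => hpsCm r hr)
  -- the kernel of u
  have hkeru : RingHom.ker u ≤ maximalIdeal (ps R d).carrier ^ 2 ⊔
      (maximalIdeal R.carrier).map (psC R d : R.carrier →+* (ps R d).carrier) := by
    intro t ht
    have htm : t ∈ maximalIdeal (ps R d).carrier := by
      rw [hum, (RingHom.mem_ker.1 ht : u t = 0)]
      exact Ideal.zero_mem _
    rw [maximalIdeal_ps] at htm
    obtain ⟨t₁, ht₁, v, hv, rfl⟩ := Submodule.mem_sup.1 htm
    obtain ⟨c, rfl⟩ := (Ideal.mem_span_range_iff_exists_fun).1 ht₁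
    have h0 : u (∑ i, c i * psX R d i + v) = 0 := ht
    rw [map_add, map_sum] at h0
    have huv : u v ∈ (maximalIdeal R.carrier).map (algebraMap R.carrier S.carrier) := by
      rw [← hmapR]
      exact Ideal.mem_map_of_mem _ hv
    have hsum : ∑ i, u (c i) * x i ∈ maximalIdeal S.carrier ^ 2 ⊔
        (maximalIdeal R.carrier).map (algebraMap R.carrier S.carrier) := by
      have : ∑ i, u (c i) * x i = - u v := by
        rw [eq_neg_iff_add_eq_zero, ← h0]
        congr 1
        apply Finset.sum_congr rfl
        intro i _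
        rw [map_mul, hux]
      rw [this]
      exact Submodule.mem_sup_right (neg_mem huv)
    have hc := hind (fun i => u (c i)) hsum
    refine Submodule.add_mem_sup ?_ hv
    apply Submodule.sum_mem
    intro i _
    rw [sq]
    exact Ideal.mul_mem_mul ((hum _).2 (hc i)) (psX_mem_maximalIdeal R d i)
  -- the section
  obtain ⟨s, hs, hus, hsg⟩ := exists_section S (ps R d) g hRS (psC R d) (res_comp_psC R d) u hu huc
    husurj hvers
  have husx : ∀ y, u (s y) = y := fun y => DFunLike.congr_fun hus y
  have hsgr : ∀ r, s (g r) = psC R d r := fun r => DFunLike.congr_fun hsg r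
  have hsres : ∀ y, (ps R d).res (s y) = S.res y := fun y => DFunLike.congr_fun hs y
  have hsm : ∀ y, y ∈ maximalIdeal S.carrier → s y ∈ maximalIdeal (ps R d).carrier := by
    intro y hy
    rw [CRing.mem_maximalIdeal_iff] at hy ⊢
    rw [hsres, hy]
  have hmapRs : (maximalIdeal R.carrier).map (psC R d : R.carrier →+* (ps R d).carrier) ≤
      (maximalIdeal S.carrier).map (s : S.carrier →+* (ps R d).carrier) := by
    rw [Ideal.map_le_iff_le_comap]
    intro r hr
    rw [Ideal.mem_comap]
    change psC R d r ∈ _
    rw [← hsgr]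
    exact Ideal.mem_map_of_mem _ (hgm r hr)
  have hssurj : Function.Surjective s := by
    apply ((Groth.Agent.Lib.ArtFunSurj.tfae_surjective S.res (ps R d).res S.res_surjective
      (ps R d).res_surjective s hs).out 1 0).1
    apply le_antisymm
    · refine sup_le ?_ (Ideal.pow_le_self two_ne_zero)
      rw [Ideal.map_le_iff_le_comap]
      intro y hy
      exact hsm y hy
    · rw [maximalIdeal_ps]
      refine sup_le ?_ (hmapRs.trans le_sup_left)
      rw [Ideal.span_le]
      rintro _ ⟨i, rfl⟩
      have hker : psX R d i - s (x i) ∈ RingHom.ker u := by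
        rw [RingHom.mem_ker, map_sub, husx, hux, sub_self]
      have h1 := hkeru hker
      have h2 : psX R d i = s (x i) + (psX R d i - s (x i)) := by ring
      rw [SetLike.mem_coe, h2]
      refine Ideal.add_mem _ (Submodule.mem_sup_left (Ideal.mem_map_of_mem _ (hxm i))) ?_
      rw [← maximalIdeal_ps]
      exact (sup_le le_sup_right (hmapRs.trans le_sup_left)) h1
  have hsinj : Function.Injective s := by
    intro y₁ y₂ h
    rw [← husx y₁, ← husx y₂, h]
  let sR : S.carrier →ₐ[R.carrier] MvPowerSeries (Fin d) R.carrier :=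
    { (s : S.carrier →+* (ps R d).carrier) with
      commutes' := fun r => by
        change s (g r) = _
        rw [hsgr]
        rfl }
  exact ⟨d, ⟨AlgEquiv.ofBijective sR ⟨hsinj, hssurj⟩⟩⟩

theorem isVersal_of_iso (R S : CRing Λ k) [Algebra R.carrier S.carrier]
    [IsScalarTower Λ R.carrier S.carrier]
    (hRS : S.res.comp (IsScalarTower.toAlgHom Λ R.carrier S.carrier) = R.res)
    (n : ℕ) (e : S.carrier ≃ₐ[R.carrier] MvPowerSeries (Fin n) R.carrier) :
    IsVersal ((Family.self R.carrier R.res).along
      (IsScalarTower.toAlgHom Λ R.carrier S.carrier) hRS) := by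
  classical
  set g : R.carrier →ₐ[Λ] S.carrier := IsScalarTower.toAlgHom Λ R.carrier S.carrier with hgdef
  have hgr : ∀ r, g r = algebraMap R.carrier S.carrier r := fun r => rfl
  have hgres : ∀ r, S.res (g r) = R.res r := fun r => DFunLike.congr_fun hRS r
  -- e as a map to `ps R n`
  let eP : S.carrier → (ps R n).carrier := fun y => e y
  let eS : (ps R n).carrier → S.carrier := fun f => e.symm f
  have heg : ∀ r, eP (g r) = psC R n r := fun r => e.commutes r
  have hePS : ∀ f, eP (eS f) = f := fun f => e.apply_symm_apply f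
  have heSP : ∀ y, eS (eP y) = y := fun y => e.symm_apply_apply y
  -- e preserves the maximal ideals
  have hem : ∀ y, y ∈ maximalIdeal S.carrier → eP y ∈ maximalIdeal (ps R n).carrier := by
    intro y hy
    rw [mem_maximalIdeal, mem_nonunits_iff] at hy ⊢
    intro hu
    apply hy
    have : IsUnit (e.symm (e y)) := hu.map e.symm
    rwa [e.symm_apply_apply] at this
  have hem' : ∀ f, f ∈ maximalIdeal (ps R n).carrier → eS f ∈ maximalIdeal S.carrier := by
    intro f hf
    rw [mem_maximalIdeal, mem_nonunits_iff] at hf ⊢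
    intro hu
    apply hf
    have : IsUnit (e (e.symm f)) := hu.map e
    rwa [e.apply_symm_apply] at this
  -- compatibility with the augmentations
  have heres : ∀ y, (ps R n).res (eP y) = S.res y := by
    intro y
    obtain ⟨r, hr⟩ := R.res_surjective (S.res y)
    have hym : y - g r ∈ maximalIdeal S.carrier := by
      rw [CRing.mem_maximalIdeal_iff, map_sub, hgres, hr, sub_self]
    have h1 := (CRing.mem_maximalIdeal_iff (ps R n) _).1 (hem _ hym)
    have h2 : eP (y - g r) = eP y - psC R n r := by
      rw [← heg]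
      exact map_sub e y (g r)
    rw [h2, map_sub, sub_eq_zero] at h1
    rw [h1, ← hr]
    exact DFunLike.congr_fun (res_comp_psC R n) r
  have heres' : ∀ f, S.res (eS f) = (ps R n).res f := by
    intro f
    rw [← heres, hePS]
  have hΛP : ∀ l : Λ, algebraMap Λ (MvPowerSeries (Fin n) R.carrier) l =
      algebraMap R.carrier (MvPowerSeries (Fin n) R.carrier) (algebraMap Λ R.carrier l) := by
    intro l
    rw [MvPowerSeries.algebraMap_apply, MvPowerSeries.algebraMap_apply]
    rfl
  intro B A μ hμ φ y hy
  have hy' : ∀ r, μ (y.1 r) = φ.1 (g r) := fun r =>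
    congrArg (fun t : HomSet R.carrier R.res A => t.1 r) hy
  -- images of the variables
  have ha : ∀ i, φ.1 (eS (psX R n i)) ∈ maximalIdeal A := by
    intro i
    rw [Art.mem_maximalIdeal_iff, Groth.Agent.Lib.ArtFunBasic.homSet_res_apply]
    exact (CRing.mem_maximalIdeal_iff S _).1 (hem' _ (psX_mem_maximalIdeal R n i))
  choose b hb using fun i => hμ (φ.1 (eS (psX R n i)))
  have hbm : ∀ i, b i ∈ maximalIdeal B := by
    intro i
    rw [Art.mem_maximalIdeal_iff, ← Art.res_app μ, hb, ← Art.mem_maximalIdeal_iff]
    exact ha i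
  obtain ⟨ev, hevC, hevX⟩ := exists_hom R n B y b hbm
  -- the lift
  let eΛ : S.carrier →ₐ[Λ] (ps R n).carrier :=
    { (e : S.carrier →+* MvPowerSeries (Fin n) R.carrier) with
      commutes' := fun l => by
        change e (algebraMap Λ S.carrier l) = algebraMap Λ (MvPowerSeries (Fin n) R.carrier) l
        rw [IsScalarTower.algebraMap_apply Λ R.carrier S.carrier, e.commutes, hΛP] }
  have heΛ : ∀ y, eΛ y = eP y := fun y => rfl
  let ψ : HomSet S.carrier S.res B := ⟨ev.1.comp eΛ, by
    apply AlgHom.ext
    intro y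
    change B.res (ev.1 (eΛ y)) = S.res y
    rw [Groth.Agent.Lib.ArtFunBasic.homSet_res_apply, heΛ, heres]⟩
  have hψ : ∀ y, ψ.1 y = ev.1 (eP y) := fun y => rfl
  refine ⟨ψ, ?_, ?_⟩
  · -- compare on `ps R n`
    let eSΛ : (ps R n).carrier →ₐ[Λ] S.carrier :=
      { (e.symm : MvPowerSeries (Fin n) R.carrier →+* S.carrier) with
        commutes' := fun l => by
          change e.symm (algebraMap Λ (MvPowerSeries (Fin n) R.carrier) l) = algebraMap Λ S.carrier l
          rw [IsScalarTower.algebraMap_apply Λ R.carrier S.carrier, hΛP, e.symm.commutes] }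
    have heSΛ : ∀ f, eSΛ f = eS f := fun f => rfl
    let θ₁ : HomSet (ps R n).carrier (ps R n).res A := ⟨φ.1.comp eSΛ, by
      apply AlgHom.ext
      intro f
      change A.res (φ.1 (eSΛ f)) = (ps R n).res f
      rw [Groth.Agent.Lib.ArtFunBasic.homSet_res_apply, heSΛ, heres']⟩
    have key : HomSet.map μ ev = θ₁ := by
      apply Groth.Agent.Lib.H59PowerSeriesCRing.hom_ext
      · intro r
        change μ (ev.1 (psC R n r)) = φ.1 (eS (psC R n r))
        rw [hevC, hy', ← heg, heSP]
      · intro i
        change μ (ev.1 (psX R n i)) = φ.1 (eS (psX R n i))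
        rw [hevX, hb]
    apply Groth.Agent.Lib.ArtFunBasic.homSet_ext
    intro y
    change μ (ev.1 (eP y)) = φ.1 y
    have := congrArg (fun t : HomSet (ps R n).carrier (ps R n).res A => t.1 (eP y)) key
    change μ (ev.1 (eP y)) = φ.1 (eS (eP y)) at this
    rw [this, heSP]
  · apply Groth.Agent.Lib.ArtFunBasic.homSet_ext
    intro r
    change ev.1 (eP (g r)) = y.1 r
    rw [heg, hevC]

end Groth.Agent.Lib.H59PowerSeriesSmooth
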