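import Groth.Agent.Lib.H59SchlessHull2

/-!
# Hulls when the derivations of `k` act freely (helper59)

Generalization of `hasHull_of_isVersal`: instead of `Der_Λ(k,k) = 0` it is enough that `σ ↦ F(σ)(x₀)` is injective on
the morphisms `k → k[ε]`.
-/

set_option autoImplicit false
set_option linter.unusedTactic false
universe u v
open CategoryTheory ArtFun ArtFun.Art IsLocalRing

namespace Groth.Agent.Lib.H59SchlessHull

open Groth.Agent.Lib.ArtFunBasic

variable {Λ : Type u} {k : Type u} [CommRing Λ] [Field k] [Algebra Λ k]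

section

variable {R : CRing Λ k} {F : Art Λ k ⥤ Type v}

/-- a tangent vector of `h_R` vanishing on the maximal ideal comes from a morphism `k → k[ε]`. -/
theorem exists_hom_base_dual (D : HomSet R.carrier R.res (dual Λ k))
    (hD : ∀ x ∈ maximalIdeal R.carrier, der D x = 0) :
    ∃ σ : base Λ k ⟶ dual Λ k, HomSet.map σ (homSetBase R.carrier R.res) = D := by
  have hs : ∀ c, R.res (Function.surjInv R.res_surjective c) = c :=
    Function.surjInv_eq R.res_surjective
  have hdep : ∀ r r', R.res r = R.res r' → der D r = der D r' := by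
    intro r r' hrr'
    have hm : r - r' ∈ maximalIdeal R.carrier := by
      rw [CRing.mem_maximalIdeal_iff, map_sub, hrr', sub_self]
    have h0 := hD _ hm
    have h1 : r = r' + (r - r') := by ring
    rw [h1, der_add, h0, add_zero]
  have hadd : ∀ a b : k, der D (Function.surjInv R.res_surjective (a + b)) =
      der D (Function.surjInv R.res_surjective a) + der D (Function.surjInv R.res_surjective b) := by
    intro a b
    rw [← der_add]
    apply hdep
    rw [map_add, hs, hs, hs]
  have hmul : ∀ a b : k, der D (Function.surjInv R.res_surjective (a * b)) =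
      a * der D (Function.surjInv R.res_surjective b) +
        b * der D (Function.surjInv R.res_surjective a) := by
    intro a b
    have h1 : der D (Function.surjInv R.res_surjective (a * b)) =
        der D (Function.surjInv R.res_surjective a * Function.surjInv R.res_surjective b) := by
      apply hdep
      rw [map_mul, hs, hs, hs]
    rw [h1, der_mul, hs, hs]
  have hΛ : ∀ c : Λ, der D (Function.surjInv R.res_surjective (algebraMap Λ k c)) = 0 := by
    intro c
    have h1 : der D (Function.surjInv R.res_surjective (algebraMap Λ k c)) =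
        der D (algebraMap Λ R.carrier c) := by
      apply hdep
      rw [hs, AlgHom.commutes]
    rw [h1, der_algebraMap]
  let σ : base Λ k ⟶ dual Λ k := Groth.Agent.Lib.H59ArtFunTorsor.mkDual (base Λ k)
    (fun c => der D (Function.surjInv R.res_surjective c)) hadd hmul hΛ
  refine ⟨σ, ?_⟩
  apply dual_ext
  intro r
  change der D (Function.surjInv R.res_surjective (R.res r)) = der D r
  apply hdep
  rw [hs]

/-- the freeness condition gives elements of the maximal ideal detecting tangent vectors in the kernel. -/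
theorem hc_of_injective (ξ : Family R.carrier R.res F)
    (hinj : ∀ x₀ : F.obj (base Λ k),
      Function.Injective (fun σ : base Λ k ⟶ dual Λ k => F.map σ x₀))
    (D : HomSet R.carrier R.res (dual Λ k))
    (hD : ξ.app _ D = ξ.app _ (zeroTan R.carrier R.res)) (r₀ : R.carrier) (hr₀ : der D r₀ ≠ 0) :
    ∃ x ∈ maximalIdeal R.carrier, der D x ≠ 0 := by
  by_contra hcon
  push Not at hcon
  obtain ⟨σ, hσ⟩ := exists_hom_base_dual D hcon
  have h1 : F.map σ (ξ.app _ (homSetBase R.carrier R.res)) =
      F.map baseToDual (ξ.app _ (homSetBase R.carrier R.res)) := by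
    rw [← ξ.natural, ← ξ.natural, hσ, hD]
    rfl
  have h2 : σ = baseToDual := hinj _ h1
  apply hr₀
  rw [← hσ, h2]
  rfl

end

section Good

variable [IsNoetherianRing Λ] [Module.Finite Λ k]
variable {R : CRing Λ k} {F : Art Λ k ⥤ Type v}

open Groth.Agent.Lib.H59SchlessCRingQuot Groth.Agent.Lib.H59SchlessVersal in
/-- versal ⇒ hull, when tangent vectors in the kernel are detected on the maximal ideal. -/
theorem hasHull_of_isVersal_of_hc (h0 : H0 F) (h2 : Heps F) (ξ : Family R.carrier R.res F)
    (hξ : IsVersal ξ)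
    (hc : ∀ D : HomSet R.carrier R.res (dual Λ k),
      ξ.app _ D = ξ.app _ (zeroTan R.carrier R.res) → ∀ r₀ : R.carrier, der D r₀ ≠ 0 →
        ∃ x ∈ maximalIdeal R.carrier, der D x ≠ 0) : HasHull F := by
  classical
  have hN : IsNoetherian R.carrier R.carrier := inferInstance
  obtain ⟨I, hI, hmax⟩ := set_has_maximal_iff_noetherian.mpr hN
    {I : Ideal R.carrier | Good ξ I} ⟨⊥, good_bot ξ hξ⟩
  have hI' : Good ξ I := hI
  have heps : ∀ ⦃P B : Art Λ k⦄ (p : P ⟶ B) (q : P ⟶ dual Λ k)
      (h : IsFibreProd p q (toBase B) (toBase (dual Λ k))), Function.Injective (cmp F h) :=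
    fun P B p q h => (h2 p q h).1
  have hinj : ∀ ψ₁ ψ₂ : HomSet R.carrier R.res (dual Λ k), I ≤ RingHom.ker ψ₁.1 →
      I ≤ RingHom.ker ψ₂.1 → ξ.app _ ψ₁ = ξ.app _ ψ₂ → ψ₁ = ψ₂ := by
    intro ψ₁ ψ₂ hk1 hk2 he
    by_contra hne
    obtain ⟨D, hD, hDder⟩ := exists_diff_of_heps ξ heps ψ₁ ψ₂ he
    have hex : ∃ r₀, der D r₀ ≠ 0 := by
      by_contra hall
      push Not at hall
      apply hne
      apply dual_ext
      intro r
      have := hall r
      rw [hDder, sub_eq_zero] at this
      exact this
    obtain ⟨r₀, hr₀⟩ := hex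
    obtain ⟨x, hxm, hx⟩ := hc D hD r₀ hr₀
    have hD' : ξ.app _ (HomSet.map (scale (der D x)⁻¹) D) = ξ.app _ (zeroTan R.carrier R.res) := by
      rw [ξ.natural, hD, ← ξ.natural, scale_zeroTan]
    have hD'x : der (HomSet.map (scale (der D x)⁻¹) D) x = 1 := by
      rw [der_scale, inv_mul_cancel₀ hx]
    have hDI : ∀ i ∈ I, der (HomSet.map (scale (der D x)⁻¹) D) i = 0 := by
      intro i hi
      have hDi : der D i = 0 := by
        rw [hDder, der_eq_zero_of_apply_eq_zero ψ₁ i (hk1 hi),
          der_eq_zero_of_apply_eq_zero ψ₂ i (hk2 hi), sub_zero]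
      rw [der_scale, hDi, mul_zero]
    have hgood := good_sup ξ heps hI' _ hDI hD' x hxm hD'x
    have hlt : I < I ⊔ Ideal.span {x} := by
      refine lt_of_le_of_ne le_sup_left (fun heq => ?_)
      have hxI : x ∈ I := by
        rw [heq]
        exact Ideal.mem_sup_right (Ideal.subset_span rfl)
      have := hDI x hxI
      rw [hD'x] at this
      exact one_ne_zero this
    exact hmax _ hgood hlt
  have hres := res_comp_quotMk R I hI'.1
  have hπs := quotMk_surjective R I hI'.1
  have hπk : RingHom.ker (quotMk R I hI'.1) = I := ker_quotMk R I hI'.1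
  have hversal := isVersal_along_of_good ξ hI'
  refine ⟨⟨quot R I hI'.1, ξ.along (quotMk R I hI'.1) hres, hversal, ?_,
    Groth.Agent.Lib.H71ArtFunHull.surjective_app_of_isVersal _ hversal h0 _⟩⟩
  intro ψ₁' ψ₂' he
  have hkill : ∀ (φ' : HomSet (quot R I hI'.1).carrier (quot R I hI'.1).res (dual Λ k)),
      I ≤ RingHom.ker (pull (quot R I hI'.1) (quotMk R I hI'.1) hres φ').1 := by
    intro φ' i hi
    rw [RingHom.mem_ker]
    change φ'.1 (quotMk R I hI'.1 i) = 0
    have : quotMk R I hI'.1 i = 0 := by
      have : i ∈ RingHom.ker (quotMk R I hI'.1) := by rw [hπk]; exact hi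
      exact this
    rw [this, map_zero]
  apply pull_injective (quot R I hI'.1) (quotMk R I hI'.1) hπs hres
  exact hinj _ _ (hkill ψ₁') (hkill ψ₂') he

end Good

end Groth.Agent.Lib.H59SchlessHull
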