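import Groth.Agent.Lib.H59ArtFunVersal
import Groth.Agent.Lib.H71ArtFunHull

/-!
# From a hull to a universal family (helper71)

For a functor `F` of Artin rings (general `Λ`):

* `injective_app_of_hsq`: a family `ξ : h_R → F` which is injective on `k[ε]` is injective on every object as soon as the
  comparison maps `F(B ×_A B) → F(B) ×_{F(A)} F(B)` are injective for small extensions `B → A` (half of `H₄`).
* `isUniversal_of_isMiniversal`: a miniversal family over a functor with `H0` and `H₄` is universal.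
* `isMiniversal_of_isUniversal`, `isLeftExact_of_isUniversal`: the converse directions.
-/

set_option autoImplicit false
universe u v

namespace Groth.Agent.Lib.H71Schlessinger

open CategoryTheory ArtFun ArtFun.Art

variable {Λ : Type u} {k : Type u} [CommRing Λ] [Field k] [Algebra Λ k]
variable {R : Type u} [CommRing R] [Algebra Λ R] {resR : R →ₐ[Λ] k} {F : Art Λ k ⥤ Type v}

theorem homSet_map_injective_of_bijective {B A : Art Λ k} (μ : B ⟶ A) (hμ : Function.Bijective μ) :
    Function.Injective (HomSet.map (R := R) (resR := resR) μ) := by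
  obtain ⟨ν, h1, _⟩ := Groth.Agent.Lib.ArtFunFactor.exists_inv_of_bijective μ hμ
  intro x y hxy
  have := congrArg (HomSet.map ν) hxy
  rwa [← Groth.Agent.Lib.H59ArtFunVersal.homSet_map_comp,
    ← Groth.Agent.Lib.H59ArtFunVersal.homSet_map_comp, h1,
    Groth.Agent.Lib.H59ArtFunVersal.homSet_map_id,
    Groth.Agent.Lib.H59ArtFunVersal.homSet_map_id] at this

/-- A family which is injective on `k[ε]` is injective on every object, provided the comparison maps of `F` for the squares
`B ×_A B` of small extensions are injective. -/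
theorem injective_app_of_hsq [IsNoetherianRing Λ] [Module.Finite Λ k] (ξ : Family R resR F)
    (hGsq : ∀ ⦃P B A : Art Λ k⦄ (p₁ p₂ : P ⟶ B) (μ : B ⟶ A) (h : IsFibreProd p₁ p₂ μ μ),
      IsSmallExt μ → Function.Injective (cmp F h))
    (htan : Function.Injective (ξ.app (dual Λ k))) (A : Art Λ k) :
    Function.Injective (ξ.app A) := by
  have key : ∀ {B A : Art Λ k} (μ : B ⟶ A), Function.Surjective μ →
      ∀ x x' : HomSet R resR B, HomSet.map μ x = HomSet.map μ x' → ξ.app B x = ξ.app B x' → x = x' := by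
    intro B A μ hμ
    refine Groth.Agent.Lib.ArtFunFactor.surjection_induction
      (P := fun {B A} μ => ∀ x x' : HomSet R resR B, HomSet.map μ x = HomSet.map μ x' →
        ξ.app B x = ξ.app B x' → x = x') ?_ ?_ ?_ μ hμ
    · intro B A μ hμ x x' h _
      exact homSet_map_injective_of_bijective μ hμ h
    · intro B A μ hμ x x' h1 h2
      exact Groth.Agent.Lib.H59ArtFunTorsor.eq_of_tangent_injective (F := hR R resR) (G := F)
        (fun A => ξ.app A) (fun f x => ξ.natural f x)
        (fun _ _ _ _ _ _ _ _ h _ => Groth.Agent.Lib.H59ArtFunVersal.hR_cmp_surjective h)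
        (fun _ _ _ _ h => Groth.Agent.Lib.H59ArtFunVersal.hR_cmp_injective h)
        hGsq htan μ hμ x x' h1 h2
    · intro C B A ν μ hν hμ x x' h1 h2
      apply hν x x' _ h2
      apply hμ
      · rw [← Groth.Agent.Lib.H59ArtFunVersal.homSet_map_comp,
          ← Groth.Agent.Lib.H59ArtFunVersal.homSet_map_comp]
        exact h1
      · rw [ξ.natural, ξ.natural, h2]
  intro x x' h
  exact key (toBase A) (Groth.Agent.Lib.ArtFunBasic.toBase_surjective A) x x'
    (Subsingleton.elim _ _) h

/-- A miniversal family over a functor with `H0` and `H₄` is universal. -/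
theorem isUniversal_of_isMiniversal [IsNoetherianRing Λ] [Module.Finite Λ k] (ξ : Family R resR F)
    (hξ : IsMiniversal ξ) (h0 : H0 F) (hsq : HSq F) : IsUniversal ξ := fun A =>
  ⟨injective_app_of_hsq ξ (fun _ _ _ p₁ p₂ μ h hμ => (hsq p₁ p₂ μ h hμ).1) hξ.2.1 A,
    Groth.Agent.Lib.H71ArtFunHull.surjective_app_of_isVersal ξ hξ.1 h0 A⟩

/-- A universal family is miniversal. -/
theorem isMiniversal_of_isUniversal (ξ : Family R resR F) (hξ : IsUniversal ξ) : IsMiniversal ξ := by
  refine ⟨?_, hξ _⟩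
  intro B A μ _ φ y hy
  obtain ⟨ψ, rfl⟩ := (hξ B).2 y
  refine ⟨ψ, ?_, rfl⟩
  apply (hξ A).1
  rw [ξ.natural, hy]

/-- A functor with a universal family is left exact. -/
theorem isLeftExact_of_isUniversal (ξ : Family R resR F) (hξ : IsUniversal ξ) : IsLeftExact F := by
  intro B A A' A'' p' p'' f' f'' h
  constructor
  · intro z z' hzz'
    obtain ⟨θ, rfl⟩ := (hξ B).2 z
    obtain ⟨θ', rfl⟩ := (hξ B).2 z'
    have h1 : F.map p' (ξ.app B θ) = F.map p' (ξ.app B θ') := congrArg (fun t => t.1.1) hzz'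
    have h2 : F.map p'' (ξ.app B θ) = F.map p'' (ξ.app B θ') := congrArg (fun t => t.1.2) hzz'
    rw [← ξ.natural, ← ξ.natural] at h1 h2
    rw [Groth.Agent.Lib.ArtFunBasic.eq_of_isFibreProd h θ θ' ((hξ A').1 h1) ((hξ A'').1 h2)]
  · intro t
    obtain ⟨φ', hφ'⟩ := (hξ A').2 t.1.1
    obtain ⟨φ'', hφ''⟩ := (hξ A'').2 t.1.2
    have ht := t.2
    rw [← hφ', ← hφ'', ← ξ.natural, ← ξ.natural] at ht
    obtain ⟨θ, h1, h2⟩ := Groth.Agent.Lib.ArtFunBasic.exists_lift_of_isFibreProd h φ' φ'' ((hξ A).1 ht)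
    refine ⟨ξ.app B θ, ?_⟩
    apply FibProd.ext
    · change F.map p' (ξ.app B θ) = t.1.1
      rw [← ξ.natural, h1, hφ']
    · change F.map p'' (ξ.app B θ) = t.1.2
      rw [← ξ.natural, h2, hφ'']

theorem hasHull_of_isProrepresentable (h : IsProrepresentable F) : HasHull F := by
  obtain ⟨⟨R, ξ, hξ⟩⟩ := h
  exact ⟨⟨R, ξ, isMiniversal_of_isUniversal ξ hξ⟩⟩

theorem isLeftExact_of_isProrepresentable (h : IsProrepresentable F) : IsLeftExact F := by
  obtain ⟨⟨R, ξ, hξ⟩⟩ := h
  exact isLeftExact_of_isUniversal ξ hξ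

theorem isProrepresentable_of_hasHull [IsNoetherianRing Λ] [Module.Finite Λ k]
    (h : HasHull F) (h0 : H0 F) (hsq : HSq F) : IsProrepresentable F := by
  obtain ⟨⟨R, ξ, hξ⟩⟩ := h
  exact ⟨⟨R, ξ, isUniversal_of_isMiniversal ξ hξ h0 hsq⟩⟩

end Groth.Agent.Lib.H71Schlessinger
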