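import Groth.Agent.Lib.H59TangentStr
import Groth.Agent.Lib.H71ArtFunProRep
import Groth.Agent.Lib.ArtFunFormal
import Groth.Agent.Lib.ArtFunBasic
import Groth.Agent.S12734
import Groth.Agent.S12736

/-!
# Pushouts of coefficient rings via pro-representability (helper59)

For `Λ`-algebra maps `f_i : R → S_i` into coefficient rings (with `res₁ ∘ f₁ = res₂ ∘ f₂`) the functor
`A ↦ {(φ₁, φ₂) ∈ h_{S₁}(A) × h_{S₂}(A) | φ₁ f₁ = φ₂ f₂}` is pro-representable, and the pro-representing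
ring is the pushout among coefficient rings.
-/

set_option autoImplicit false
set_option linter.unusedSectionVars false
universe u v
open CategoryTheory ArtFun ArtFun.Art IsLocalRing

namespace Groth.Agent.Lib.H59Pushout

open Groth.Agent.Lib.ArtFunBasic

variable {Λ : Type u} {k : Type u} [CommRing Λ] [Field k] [Algebra Λ k]
variable (R : Type u) [CommRing R] [Algebra Λ R] (S₁ S₂ : CRing Λ k)
  (f₁ : R →ₐ[Λ] S₁.carrier) (f₂ : R →ₐ[Λ] S₂.carrier)

/-- the value of the fibre product functor. -/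
def PObj (A : Art Λ k) : Type u :=
  {x : HomSet S₁.carrier S₁.res A × HomSet S₂.carrier S₂.res A // x.1.1.comp f₁ = x.2.1.comp f₂}

variable {R S₁ S₂ f₁ f₂}

theorem PObj.ext {A : Art Λ k} {x y : PObj R S₁ S₂ f₁ f₂ A} (h₁ : x.1.1 = y.1.1)
    (h₂ : x.1.2 = y.1.2) : x = y := Subtype.ext (Prod.ext h₁ h₂)

/-- functoriality. -/
def pMap {A B : Art Λ k} (g : A ⟶ B) (x : PObj R S₁ S₂ f₁ f₂ A) : PObj R S₁ S₂ f₁ f₂ B :=
  ⟨(HomSet.map g x.1.1, HomSet.map g x.1.2), by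
    change (g.toAlgHom.comp x.1.1.1).comp f₁ = (g.toAlgHom.comp x.1.2.1).comp f₂
    rw [AlgHom.comp_assoc, AlgHom.comp_assoc, x.2]⟩

variable (R S₁ S₂ f₁ f₂)

/-- the fibre product functor `h_{S₁} ×_{h_R} h_{S₂}`. -/
def pFun : Art Λ k ⥤ Type u where
  obj A := PObj R S₁ S₂ f₁ f₂ A
  map {A B} g := ↾fun (x : PObj R S₁ S₂ f₁ f₂ A) => (pMap g x : PObj R S₁ S₂ f₁ f₂ B)
  map_id A := ConcreteCategory.hom_ext _ _ fun x =>
    show pMap (𝟙 A) x = x from PObj.ext (Subtype.ext (AlgHom.ext fun _ => rfl))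
      (Subtype.ext (AlgHom.ext fun _ => rfl))
  map_comp f g := ConcreteCategory.hom_ext _ _ fun x =>
    show pMap (f ≫ g) x = pMap g (pMap f x) from PObj.ext (Subtype.ext (AlgHom.ext fun _ => rfl))
      (Subtype.ext (AlgHom.ext fun _ => rfl))

variable {R S₁ S₂ f₁ f₂}

theorem pFun_map {A B : Art Λ k} (g : A ⟶ B) (x : PObj R S₁ S₂ f₁ f₂ A) :
    (pFun R S₁ S₂ f₁ f₂).map g x = pMap g x := rfl

/-- the projections. -/
def pr1 : pFun R S₁ S₂ f₁ f₂ ⟶ hR S₁.carrier S₁.res where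
  app A := ↾fun (x : PObj R S₁ S₂ f₁ f₂ A) => (x.1.1 : HomSet S₁.carrier S₁.res A)
  naturality A B g := ConcreteCategory.hom_ext _ _ fun x => rfl

/-- the projections. -/
def pr2 : pFun R S₁ S₂ f₁ f₂ ⟶ hR S₂.carrier S₂.res where
  app A := ↾fun (x : PObj R S₁ S₂ f₁ f₂ A) => (x.1.2 : HomSet S₂.carrier S₂.res A)
  naturality A B g := ConcreteCategory.hom_ext _ _ fun x => rfl

section Conditions

variable (hres : S₁.res.comp f₁ = S₂.res.comp f₂)

include hres in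
theorem h0_pFun : H0 (pFun R S₁ S₂ f₁ f₂) := by
  refine ⟨⟨⟨(homSetBase _ _, homSetBase _ _), hres⟩⟩, ⟨fun x y => ?_⟩⟩
  exact PObj.ext (Subsingleton.elim _ _) (Subsingleton.elim _ _)

theorem bijective_cmp_pFun ⦃B A A' A'' : Art Λ k⦄ (p' : B ⟶ A') (p'' : B ⟶ A'') (f' : A' ⟶ A)
    (f'' : A'' ⟶ A) (h : IsFibreProd p' p'' f' f'') :
    Function.Bijective (cmp (pFun R S₁ S₂ f₁ f₂) h) := by
  constructor
  · intro z z' hzz
    have e1 : pMap p' z = pMap p' z' := congrArg (fun t : FibProd _ f' f'' => t.1.1) hzz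
    have e2 : pMap p'' z = pMap p'' z' := congrArg (fun t : FibProd _ f' f'' => t.1.2) hzz
    apply PObj.ext
    · exact eq_of_isFibreProd h _ _ (congrArg (fun t : PObj R S₁ S₂ f₁ f₂ A' => t.1.1) e1)
        (congrArg (fun t : PObj R S₁ S₂ f₁ f₂ A'' => t.1.1) e2)
    · exact eq_of_isFibreProd h _ _ (congrArg (fun t : PObj R S₁ S₂ f₁ f₂ A' => t.1.2) e1)
        (congrArg (fun t : PObj R S₁ S₂ f₁ f₂ A'' => t.1.2) e2)
  · rintro ⟨⟨a', a''⟩, hc⟩
    have hc' : pMap f' a' = pMap f'' a'' := hc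
    obtain ⟨θ₁, hθ₁', hθ₁''⟩ := exists_lift_of_isFibreProd h a'.1.1 a''.1.1
      (congrArg (fun t : PObj R S₁ S₂ f₁ f₂ A => t.1.1) hc')
    obtain ⟨θ₂, hθ₂', hθ₂''⟩ := exists_lift_of_isFibreProd h a'.1.2 a''.1.2
      (congrArg (fun t : PObj R S₁ S₂ f₁ f₂ A => t.1.2) hc')
    have hcompat : θ₁.1.comp f₁ = θ₂.1.comp f₂ := by
      apply AlgHom.ext
      intro r
      apply h.inj
      · have e1 : p'.toAlgHom (θ₁.1 (f₁ r)) = a'.1.1.1 (f₁ r) :=
          congrArg (fun t : HomSet S₁.carrier S₁.res A' => t.1 (f₁ r)) hθ₁'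
        have e2 : p'.toAlgHom (θ₂.1 (f₂ r)) = a'.1.2.1 (f₂ r) :=
          congrArg (fun t : HomSet S₂.carrier S₂.res A' => t.1 (f₂ r)) hθ₂'
        change p'.toAlgHom (θ₁.1 (f₁ r)) = p'.toAlgHom (θ₂.1 (f₂ r))
        rw [e1, e2]
        exact DFunLike.congr_fun a'.2 r
      · have e1 : p''.toAlgHom (θ₁.1 (f₁ r)) = a''.1.1.1 (f₁ r) :=
          congrArg (fun t : HomSet S₁.carrier S₁.res A'' => t.1 (f₁ r)) hθ₁''
        have e2 : p''.toAlgHom (θ₂.1 (f₂ r)) = a''.1.2.1 (f₂ r) :=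
          congrArg (fun t : HomSet S₂.carrier S₂.res A'' => t.1 (f₂ r)) hθ₂''
        change p''.toAlgHom (θ₁.1 (f₁ r)) = p''.toAlgHom (θ₂.1 (f₂ r))
        rw [e1, e2]
        exact DFunLike.congr_fun a''.2 r
    refine ⟨⟨(θ₁, θ₂), hcompat⟩, ?_⟩
    apply FibProd.ext
    · exact PObj.ext hθ₁' hθ₂'
    · exact PObj.ext hθ₁'' hθ₂''

theorem heps_pFun : Heps (pFun R S₁ S₂ f₁ f₂) := fun _ _ p' p'' h =>
  bijective_cmp_pFun p' p'' _ _ h

theorem injective_base_pFun (x₀ : (pFun R S₁ S₂ f₁ f₂).obj (base Λ k)) :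
    Function.Injective (fun σ : base Λ k ⟶ dual Λ k => (pFun R S₁ S₂ f₁ f₂).map σ x₀) := by
  intro σ τ hστ
  have e1 : pMap σ x₀ = pMap τ x₀ := hστ
  have e2 : HomSet.map σ x₀.1.1 = HomSet.map τ x₀.1.1 :=
    congrArg (fun t : PObj R S₁ S₂ f₁ f₂ (dual Λ k) => t.1.1) e1
  apply Art.hom_ext
  apply AlgHom.ext
  intro c
  obtain ⟨s, hs⟩ := S₁.res_surjective c
  have h3 : x₀.1.1.1 s = c := by
    have := homSet_res_apply x₀.1.1 s
    rw [hs] at this
    exact this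
  have h4 : σ.toAlgHom (x₀.1.1.1 s) = τ.toAlgHom (x₀.1.1.1 s) :=
    congrArg (fun t : HomSet S₁.carrier S₁.res (dual Λ k) => t.1 s) e2
  rw [h3] at h4
  exact h4

end Conditions

section HR

variable (S : CRing Λ k)

theorem h0_hR : H0 (hR S.carrier S.res) :=
  ⟨⟨homSetBase _ _⟩, ⟨fun (x y : HomSet S.carrier S.res (base Λ k)) => Subsingleton.elim x y⟩⟩

theorem bijective_cmp_hR ⦃B A A' A'' : Art Λ k⦄ (p' : B ⟶ A') (p'' : B ⟶ A'') (f' : A' ⟶ A)
    (f'' : A'' ⟶ A) (h : IsFibreProd p' p'' f' f'') :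
    Function.Bijective (cmp (hR S.carrier S.res) h) := by
  constructor
  · intro z z' hzz
    exact eq_of_isFibreProd h _ _ (congrArg (fun t : FibProd _ f' f'' => t.1.1) hzz)
      (congrArg (fun t : FibProd _ f' f'' => t.1.2) hzz)
  · rintro ⟨⟨a', a''⟩, hc⟩
    obtain ⟨θ, hθ', hθ''⟩ := exists_lift_of_isFibreProd h a' a'' hc
    exact ⟨θ, FibProd.ext hθ' hθ''⟩

theorem heps_hR : Heps (hR S.carrier S.res) := fun _ _ p' p'' h => bijective_cmp_hR S p' p'' _ _ h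

/-- `h_S` is pro-represented by `S`. -/
def proRepSelf : ProRep (hR S.carrier S.res) where
  ring := S
  family := Family.self S.carrier S.res
  universal := fun _ => Function.bijective_id

end HR

section ProRep

variable [IsNoetherianRing Λ] [Module.Finite Λ k]
variable (hres : S₁.res.comp f₁ = S₂.res.comp f₂)

theorem hfin_hR (S : CRing Λ k) :
    @Hfin Λ k _ _ _ (hR S.carrier S.res)
      (Groth.Agent.Lib.H59TangentStr.tangentStr (h0_hR S) (heps_hR S)) := by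
  let _ := Groth.Agent.Lib.H59TangentStr.tangentStr (h0_hR S) (heps_hR S)
  exact ((Groth.Agent.S12734.result (hR S.carrier S.res)).1 ⟨proRepSelf S⟩).2.1

include hres in
theorem hfin_pFun :
    @Hfin Λ k _ _ _ (pFun R S₁ S₂ f₁ f₂)
      (Groth.Agent.Lib.H59TangentStr.tangentStr (h0_pFun hres) heps_pFun) := by
  let TF := Groth.Agent.Lib.H59TangentStr.tangentStr (h0_pFun hres) (heps_pFun (f₁ := f₁) (f₂ := f₂))
  let TG₁ := Groth.Agent.Lib.H59TangentStr.tangentStr (h0_hR S₁) (heps_hR S₁)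
  let TG₂ := Groth.Agent.Lib.H59TangentStr.tangentStr (h0_hR S₂) (heps_hR S₂)
  have hfin₁ : Module.Finite k (TangentSpace (hR S₁.carrier S₁.res)) := hfin_hR S₁
  have hfin₂ : Module.Finite k (TangentSpace (hR S₂.carrier S₂.res)) := hfin_hR S₂
  obtain ⟨L₁, hL₁⟩ := Groth.Agent.S12736.result (h0_pFun hres) (heps_pFun (f₁ := f₁) (f₂ := f₂))
    (h0_hR S₁) (heps_hR S₁) (pr1 (f₁ := f₁) (f₂ := f₂))
  obtain ⟨L₂, hL₂⟩ := Groth.Agent.S12736.result (h0_pFun hres) (heps_pFun (f₁ := f₁) (f₂ := f₂))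
    (h0_hR S₂) (heps_hR S₂) (pr2 (f₁ := f₁) (f₂ := f₂))
  have hinj : Function.Injective (L₁.prod L₂) := by
    intro x y hxy
    have e1 : L₁ x = L₁ y := congrArg Prod.fst hxy
    have e2 : L₂ x = L₂ y := congrArg Prod.snd hxy
    rw [hL₁] at e1
    rw [hL₂] at e2
    exact PObj.ext e1 e2
  exact Module.Finite.of_injective (L₁.prod L₂) hinj

include hres in
theorem isProrepresentable_pFun : IsProrepresentable (pFun R S₁ S₂ f₁ f₂) := by
  let TF := Groth.Agent.Lib.H59TangentStr.tangentStr (h0_pFun hres) (heps_pFun (f₁ := f₁) (f₂ := f₂))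
  exact (Groth.Agent.S12734.result (pFun R S₁ S₂ f₁ f₂)).2
    ⟨⟨h0_pFun hres, fun _ _ _ _ p' p'' f' f'' h _ => bijective_cmp_pFun p' p'' f' f'' h⟩,
      hfin_pFun hres, injective_base_pFun⟩

end ProRep

section Main

variable [IsNoetherianRing Λ] [Module.Finite Λ k]
variable (hres : S₁.res.comp f₁ = S₂.res.comp f₂)

open Groth.Agent.Lib.H71ArtFunProRep Groth.Agent.Lib.ArtFunFormal

include hres in
/-- pushouts of coefficient rings. -/
theorem exists_pushout :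
    ∃ (P : CRing Λ k) (i₁ : S₁.carrier →ₐ[Λ] P.carrier) (i₂ : S₂.carrier →ₐ[Λ] P.carrier),
      P.res.comp i₁ = S₁.res ∧ P.res.comp i₂ = S₂.res ∧ i₁.comp f₁ = i₂.comp f₂ ∧
      ∀ (T : CRing Λ k) (g₁ : S₁.carrier →ₐ[Λ] T.carrier) (g₂ : S₂.carrier →ₐ[Λ] T.carrier),
        T.res.comp g₁ = S₁.res → T.res.comp g₂ = S₂.res → g₁.comp f₁ = g₂.comp f₂ →
          ∃! h : P.carrier →ₐ[Λ] T.carrier,
            T.res.comp h = P.res ∧ h.comp i₁ = g₁ ∧ h.comp i₂ = g₂ := by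
  classical
  obtain ⟨Q⟩ := isProrepresentable_pFun (f₁ := f₁) (f₂ := f₂) hres
  set P := Q.ring with hP
  have hnat : ∀ {A B : Art Λ k} (g : A ⟶ B) (φ : HomSet P.carrier P.res A),
      Q.family.app B (HomSet.map g φ) = pMap g (Q.family.app A φ) := fun g φ => Q.family.natural g φ
  have hbij : ∀ A : Art Λ k, Function.Bijective (Q.family.app A) := Q.universal
  -- the structure maps
  have hc₁ : ∀ n, HomSet.map (P.truncMap n) (Q.family.app _ (P.truncHom (n + 1))).1.1 =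
      (Q.family.app _ (P.truncHom n)).1.1 := by
    intro n
    have h := hnat (P.truncMap n) (P.truncHom (n + 1))
    rw [CRing.truncMap_truncHom] at h
    rw [h]
    rfl
  have hc₂ : ∀ n, HomSet.map (P.truncMap n) (Q.family.app _ (P.truncHom (n + 1))).1.2 =
      (Q.family.app _ (P.truncHom n)).1.2 := by
    intro n
    have h := hnat (P.truncMap n) (P.truncHom (n + 1))
    rw [CRing.truncMap_truncHom] at h
    rw [h]
    rfl
  obtain ⟨i₁, hi₁, hi₁n⟩ := exists_algHom_of_compatible S₁ P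
    (fun n => (Q.family.app _ (P.truncHom n)).1.1) hc₁
  obtain ⟨i₂, hi₂, hi₂n⟩ := exists_algHom_of_compatible S₂ P
    (fun n => (Q.family.app _ (P.truncHom n)).1.2) hc₂
  have hi₁n' : ∀ n, (P.truncHom n).1.comp i₁ = (Q.family.app _ (P.truncHom n)).1.1.1 :=
    fun n => congrArg Subtype.val (hi₁n n)
  have hi₂n' : ∀ n, (P.truncHom n).1.comp i₂ = (Q.family.app _ (P.truncHom n)).1.2.1 :=
    fun n => congrArg Subtype.val (hi₂n n)
  -- the components of the universal family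
  have key₁ : ∀ (A : Art Λ k) (ψ : HomSet P.carrier P.res A),
      (Q.family.app A ψ).1.1.1 = ψ.1.comp i₁ := by
    intro A ψ
    obtain ⟨n, v, rfl⟩ := exists_factor_trunc P A ψ
    rw [hnat]
    change v.toAlgHom.comp (Q.family.app _ (P.truncHom n)).1.1.1 =
      (v.toAlgHom.comp (P.truncHom n).1).comp i₁
    rw [AlgHom.comp_assoc, hi₁n']
  have key₂ : ∀ (A : Art Λ k) (ψ : HomSet P.carrier P.res A),
      (Q.family.app A ψ).1.2.1 = ψ.1.comp i₂ := by
    intro A ψ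
    obtain ⟨n, v, rfl⟩ := exists_factor_trunc P A ψ
    rw [hnat]
    change v.toAlgHom.comp (Q.family.app _ (P.truncHom n)).1.2.1 =
      (v.toAlgHom.comp (P.truncHom n).1).comp i₂
    rw [AlgHom.comp_assoc, hi₂n']
  have hcomm : i₁.comp f₁ = i₂.comp f₂ := by
    apply algHom_eq_of_forall_trunc_eq P
    intro n
    rw [← AlgHom.comp_assoc, ← AlgHom.comp_assoc, hi₁n', hi₂n']
    exact (Q.family.app _ (P.truncHom n)).2
  refine ⟨P, i₁, i₂, hi₁, hi₂, hcomm, ?_⟩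
  intro T g₁ g₂ hg₁ hg₂ hg
  -- the compatible system
  have hxn : ∀ n, ((T.truncHom n).1.comp g₁).comp f₁ = ((T.truncHom n).1.comp g₂).comp f₂ := by
    intro n
    rw [AlgHom.comp_assoc, AlgHom.comp_assoc, hg]
  let x : ∀ n, PObj R S₁ S₂ f₁ f₂ (T.trunc n) := fun n =>
    ⟨(⟨(T.truncHom n).1.comp g₁, by rw [← AlgHom.comp_assoc, (T.truncHom n).2, hg₁]⟩,
      ⟨(T.truncHom n).1.comp g₂, by rw [← AlgHom.comp_assoc, (T.truncHom n).2, hg₂]⟩), hxn n⟩
  have hxcompat : ∀ n, pMap (T.truncMap n) (x (n + 1)) = x n := by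
    intro n
    have htm : (T.truncMap n).toAlgHom.comp (T.truncHom (n + 1)).1 = (T.truncHom n).1 :=
      congrArg Subtype.val (CRing.truncMap_truncHom T n)
    apply PObj.ext
    · apply homSet_ext
      intro s
      change (T.truncMap n).toAlgHom ((T.truncHom (n + 1)).1 (g₁ s)) = (T.truncHom n).1 (g₁ s)
      exact DFunLike.congr_fun htm (g₁ s)
    · apply homSet_ext
      intro s
      change (T.truncMap n).toAlgHom ((T.truncHom (n + 1)).1 (g₂ s)) = (T.truncHom n).1 (g₂ s)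
      exact DFunLike.congr_fun htm (g₂ s)
  choose hn hhn using fun n => (hbij (T.trunc n)).2 (x n)
  have hhcompat : ∀ n, HomSet.map (T.truncMap n) (hn (n + 1)) = hn n := by
    intro n
    apply (hbij (T.trunc n)).1
    rw [hnat, hhn, hhn, hxcompat]
  obtain ⟨h, hh, hhn'⟩ := exists_algHom_of_compatible P T hn hhcompat
  have hhn'' : ∀ n, (T.truncHom n).1.comp h = (hn n).1 := fun n => congrArg Subtype.val (hhn' n)
  have hx₁ : ∀ n, (x n).1.1.1 = (T.truncHom n).1.comp g₁ := fun n => rfl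
  have hx₂ : ∀ n, (x n).1.2.1 = (T.truncHom n).1.comp g₂ := fun n => rfl
  refine ⟨h, ⟨hh, ?_, ?_⟩, ?_⟩
  · apply algHom_eq_of_forall_trunc_eq T
    intro n
    rw [← AlgHom.comp_assoc, hhn'', ← key₁, hhn, hx₁]
  · apply algHom_eq_of_forall_trunc_eq T
    intro n
    rw [← AlgHom.comp_assoc, hhn'', ← key₂, hhn, hx₂]
  · rintro h' ⟨hh', hh'₁, hh'₂⟩
    apply algHom_eq_of_forall_trunc_eq T
    intro n
    rw [hhn'']
    let ψ' : HomSet P.carrier P.res (T.trunc n) :=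
      ⟨(T.truncHom n).1.comp h', by rw [← AlgHom.comp_assoc, (T.truncHom n).2, hh']⟩
    have hψ' : ψ' = hn n := by
      apply (hbij (T.trunc n)).1
      rw [hhn]
      apply PObj.ext
      · apply Subtype.ext
        rw [key₁, hx₁]
        change ((T.truncHom n).1.comp h').comp i₁ = _
        rw [AlgHom.comp_assoc, hh'₁]
      · apply Subtype.ext
        rw [key₂, hx₂]
        change ((T.truncHom n).1.comp h').comp i₂ = _
        rw [AlgHom.comp_assoc, hh'₂]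
    exact congrArg Subtype.val hψ'

end Main

end Groth.Agent.Lib.H59Pushout
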