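import Groth.Agent.Lib.H59SchlessHull

/-!
# More on good ideals (helper59)

`exists_diff_of_heps`: the difference of two tangent vectors with the same image, without a `TangentStr`.
`exists_good_sup`: a good ideal killed by a nonzero tangent vector in the kernel of the tangent map can be enlarged.
`isVersal_along_of_good`: the restriction of the family to the quotient by a good ideal is versal.
-/

set_option autoImplicit false
set_option linter.unusedTactic false
universe u v
open CategoryTheory ArtFun ArtFun.Art IsLocalRing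

namespace Groth.Agent.Lib.H59SchlessHull

open Groth.Agent.Lib.ArtFunBasic

variable {Λ : Type u} {k : Type u} [CommRing Λ] [Field k] [Algebra Λ k]

/-- `(a, b₁, b₂) ↦ a + (b₁ - b₂)ε`. -/
def minus : dual2 Λ k ⟶ dual Λ k :=
  ⟨tszeMap (LinearMap.fst k k k - LinearMap.snd k k k), AlgHom.ext fun _ => rfl⟩

section

variable {R : Type u} [CommRing R] [Algebra Λ R] {resR : R →ₐ[Λ] k} {F : Art Λ k ⥤ Type v}

/-- the difference of two tangent vectors with the same image maps to the image of zero (no `TangentStr`). -/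
theorem exists_diff_of_heps (ξ : Family R resR F)
    (heps : ∀ ⦃P B : Art Λ k⦄ (p : P ⟶ B) (q : P ⟶ dual Λ k)
      (h : IsFibreProd p q (toBase B) (toBase (dual Λ k))), Function.Injective (cmp F h))
    (ψ₁ ψ₂ : HomSet R resR (dual Λ k)) (h : ξ.app _ ψ₁ = ξ.app _ ψ₂) :
    ∃ D : HomSet R resR (dual Λ k), ξ.app _ D = ξ.app _ (zeroTan R resR) ∧
      ∀ r, der D r = der ψ₁ r - der ψ₂ r := by
  obtain ⟨ω, h1, h2⟩ := exists_lift_of_isFibreProd (isFibreProd_dual2 (Λ := Λ) (k := k)) ψ₁ ψ₂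
    (Subsingleton.elim _ _)
  obtain ⟨Δ, hΔ1, hΔ2⟩ := Groth.Agent.Lib.H59ArtFunTorsor.exists_hom_of_isFibreProd
    (isFibreProd_dual2 (Λ := Λ) (k := k)) (𝟙 _) (𝟙 _) rfl
  have hξω : ξ.app _ ω = F.map Δ (ξ.app _ ψ₁) := by
    apply heps pr₁ pr₂ (isFibreProd_dual2 (Λ := Λ) (k := k))
    apply FibProd.ext
    · change F.map pr₁ (ξ.app _ ω) = F.map pr₁ (F.map Δ (ξ.app _ ψ₁))
      rw [← ξ.natural, h1, ← Functor.map_comp_apply, hΔ1, Functor.map_id_apply]
    · change F.map pr₂ (ξ.app _ ω) = F.map pr₂ (F.map Δ (ξ.app _ ψ₁))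
      rw [← ξ.natural, h2, ← Functor.map_comp_apply, hΔ2, Functor.map_id_apply, h]
  refine ⟨HomSet.map minus ω, ?_, fun r => ?_⟩
  · rw [ξ.natural, hξω, ← Functor.map_comp_apply, ← ξ.natural]
    congr 1
    apply dual_ext
    intro r
    rw [der_zeroTan]
    have e1 : der (HomSet.map (Δ ≫ minus) ψ₁) r =
        der (HomSet.map (Δ ≫ pr₁) ψ₁) r - der (HomSet.map (Δ ≫ pr₂) ψ₁) r := rfl
    rw [e1, hΔ1, hΔ2, sub_self]
  · have e1 : der (HomSet.map pr₁ ω) r = der ψ₁ r := by rw [h1]
    have e2 : der (HomSet.map pr₂ ω) r = der ψ₂ r := by rw [h2]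
    have e3 : der (HomSet.map minus ω) r = der (HomSet.map pr₁ ω) r - der (HomSet.map pr₂ ω) r :=
      rfl
    rw [e3, e1, e2]

end

section Good

variable [IsNoetherianRing Λ] [Module.Finite Λ k]
variable {R : CRing Λ k} {F : Art Λ k ⥤ Type v}

/-- enlarge a good ideal by an element on which a tangent vector in the kernel of the tangent map is nonzero. -/
theorem exists_good_sup (hk : Subsingleton (Derivation Λ k k)) (ξ : Family R.carrier R.res F)
    (heps : ∀ ⦃P B : Art Λ k⦄ (p : P ⟶ B) (q : P ⟶ dual Λ k)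
      (h : IsFibreProd p q (toBase B) (toBase (dual Λ k))), Function.Injective (cmp F h))
    {I : Ideal R.carrier} (hI : Good ξ I) (D : HomSet R.carrier R.res (dual Λ k))
    (hD : ξ.app _ D = ξ.app _ (zeroTan R.carrier R.res)) (hDI : ∀ i ∈ I, der D i = 0)
    (r₀ : R.carrier) (hr₀ : der D r₀ ≠ 0) :
    ∃ x ∈ maximalIdeal R.carrier, x ∉ I ∧ Good ξ (I ⊔ Ideal.span {x}) := by
  obtain ⟨x, hxm, hx⟩ := exists_mem_maximalIdeal_der_ne_zero hk D r₀ hr₀
  have hD' : ξ.app _ (HomSet.map (scale (der D x)⁻¹) D) = ξ.app _ (zeroTan R.carrier R.res) := by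
    rw [ξ.natural, hD, ← ξ.natural, scale_zeroTan]
  have hD'x : der (HomSet.map (scale (der D x)⁻¹) D) x = 1 := by
    rw [der_scale, inv_mul_cancel₀ hx]
  have hDI' : ∀ i ∈ I, der (HomSet.map (scale (der D x)⁻¹) D) i = 0 := by
    intro i hi
    rw [der_scale, hDI i hi, mul_zero]
  refine ⟨x, hxm, fun hxI => hx (hDI x hxI), good_sup ξ heps hI _ hDI' hD' x hxm hD'x⟩

omit [IsNoetherianRing Λ] [Module.Finite Λ k] in
open Groth.Agent.Lib.H59SchlessCRingQuot Groth.Agent.Lib.H59SchlessVersal in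
/-- the restriction of the family to the quotient by a good ideal is versal. -/
theorem isVersal_along_of_good (ξ : Family R.carrier R.res F) {I : Ideal R.carrier}
    (hI : Good ξ I) :
    IsVersal (ξ.along (quotMk R I hI.1) (res_comp_quotMk R I hI.1)) := by
  have hres := res_comp_quotMk R I hI.1
  have hπs := quotMk_surjective R I hI.1
  have hπk : RingHom.ker (quotMk R I hI.1) = I := ker_quotMk R I hI.1
  have hξ'app : ∀ (A : Art Λ k) (φ' : HomSet (quot R I hI.1).carrier (quot R I hI.1).res A),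
      (ξ.along (quotMk R I hI.1) hres).app A φ' =
        ξ.app A (pull (quot R I hI.1) (quotMk R I hI.1) hres φ') := fun A φ' => rfl
  have hkill : ∀ (A : Art Λ k) (φ' : HomSet (quot R I hI.1).carrier (quot R I hI.1).res A),
      I ≤ RingHom.ker (pull (quot R I hI.1) (quotMk R I hI.1) hres φ').1 := by
    intro A φ' i hi
    rw [RingHom.mem_ker]
    change φ'.1 (quotMk R I hI.1 i) = 0
    have : quotMk R I hI.1 i = 0 := by
      have : i ∈ RingHom.ker (quotMk R I hI.1) := by rw [hπk]; exact hi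
      exact this
    rw [this, map_zero]
  apply Groth.Agent.Lib.H59ArtFunVersal.isVersal_of_smallExt
  intro B A μ hμ φ' y hy
  rw [hξ'app] at hy
  obtain ⟨ψ, e1, e2, e3⟩ := hI.2 μ hμ _ y (hkill A φ') hy
  obtain ⟨ψ', hψ'⟩ := exists_descend (quot R I hI.1) (quotMk R I hI.1) hπs hres ψ (by
    rw [hπk]; exact e3)
  refine ⟨ψ', ?_, ?_⟩
  · apply pull_injective (quot R I hI.1) (quotMk R I hI.1) hπs hres
    rw [pull_map, hψ', e1]
  · rw [hξ'app, hψ', e2]

end Good

end Groth.Agent.Lib.H59SchlessHull
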