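import Groth.Agent.Lib.H59SchlessVersal

/-!
# Lifting across a small extension from the next stage (helper59)

`next_lift`: if `s'` is the minimal semismall extension of the stage `s` (as quotients of a smooth `S`), then for every
small extension `μ : B → A`, every `g : s.A → A` and every `y ∈ F(B)` over `F(g) s.x`, there is `f : s'.A → B` with
`μ ∘ f ∘ s'.σ = g ∘ s.σ`.
-/

set_option autoImplicit false
set_option linter.unusedTactic false
universe u v
open CategoryTheory ArtFun ArtFun.Art IsLocalRing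

namespace Groth.Agent.Lib.H59SchlessNextLift

open Groth.Agent.Lib.H59SchlessQuot Groth.Agent.Lib.H59SchlessStep

variable {Λ : Type u} {k : Type u} [CommRing Λ] [Field k] [Algebra Λ k]
  [IsNoetherianRing Λ] [Module.Finite Λ k]
variable {S : CRing Λ k} {F : Art Λ k ⥤ Type v}

theorem next_lift (h1 : S1 F) (hS : IsSmoothFunctor (hR S.carrier S.res)) {s s' : Stage S F}
    (hn : IsNext s s') {B A : Art Λ k} (μ : B ⟶ A) (hμ : IsSmallExt μ) (g : s.A ⟶ A) (y : F.obj B)
    (hy : F.map μ y = F.map g s.x) :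
    ∃ f : s'.A ⟶ B, HomSet.map (f ≫ μ) s'.σ = HomSet.map g s.σ := by
  classical
  obtain ⟨hμsurj, hμne, ⟨t, ht⟩, hm⟩ := hμ
  have ht' : RingHom.ker μ.toAlgHom = Ideal.span {t} := ht
  obtain ⟨P, p₁, p₂, hP⟩ := Groth.Agent.Lib.ArtFunFibre.exists_isFibreProd_of_surjective g μ hμsurj
  -- smooth lift
  obtain ⟨ψS, hψS⟩ := hS μ hμsurj (HomSet.map g s.σ)
  have hψS' : HomSet.map μ ψS = HomSet.map g s.σ := hψS
  obtain ⟨ψ', hψ'1, hψ'2⟩ := Groth.Agent.Lib.ArtFunBasic.exists_lift_of_isFibreProd hP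
    s.σ ψS (by rw [hψS'])
  have hψ'1a : ∀ r, p₁ (ψ'.1 r) = s.σ.1 r := fun r =>
    congrArg (fun θ : HomSet S.carrier S.res _ => θ.1 r) hψ'1
  have hψ'2a : ∀ r, p₂ (ψ'.1 r) = ψS.1 r := fun r =>
    congrArg (fun θ : HomSet S.carrier S.res _ => θ.1 r) hψ'2
  -- the element over P
  obtain ⟨y', hy'⟩ := h1 p₁ p₂ g μ hP hμsurj ⟨(s.x, y), hy.symm⟩
  have hy'1 : F.map p₁ y' = s.x := congrArg (fun w => w.1.1) hy'
  -- the image of S in P
  have hJ'm := ker_le_maximalIdeal ψ'
  have hJ'N := exists_pow_le_ker ψ'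
  set C : Art Λ k := artQuot S (RingHom.ker ψ'.1) hJ'm hJ'N with hC
  set τ : HomSet S.carrier S.res C := artQuotHom S (RingHom.ker ψ'.1) hJ'm hJ'N with hτ
  have hτs : Function.Surjective τ.1 := artQuotHom_surjective S _ hJ'm hJ'N
  have hτker : RingHom.ker τ.1 = RingHom.ker ψ'.1 := ker_artQuotHom S _ hJ'm hJ'N
  obtain ⟨ι, hι⟩ := exists_factor τ hτs ψ' (le_of_eq hτker)
  have hιτ : ∀ r, ι (τ.1 r) = ψ'.1 r := fun r =>
    congrArg (fun θ : HomSet S.carrier S.res _ => θ.1 r) hι
  have hιinj : Function.Injective ι := by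
    intro c₁ c₂ h
    obtain ⟨s₁, rfl⟩ := hτs c₁
    obtain ⟨s₂, rfl⟩ := hτs c₂
    rw [hιτ, hιτ] at h
    have h0 : s₁ - s₂ ∈ RingHom.ker τ.1 := by
      rw [hτker, RingHom.mem_ker, map_sub, h, sub_self]
    rw [RingHom.mem_ker, map_sub, sub_eq_zero] at h0
    exact h0
  have hq : HomSet.map (ι ≫ p₁) τ = s.σ := by
    rw [Groth.Agent.Lib.H59ArtFunVersal.homSet_map_comp, hι, hψ'1]
  have hσker : ∀ b, b ∈ s.ker → μ (ψS.1 b) = 0 := by
    intro b hb
    have h0 : s.σ.1 b = 0 := hb
    have : μ (ψS.1 b) = (HomSet.map g s.σ).1 b :=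
      congrArg (fun θ : HomSet S.carrier S.res _ => θ.1 b) hψS'
    rw [this]
    change g (s.σ.1 b) = 0
    rw [h0]
    exact map_zero _
  have hmK : maximalIdeal S.carrier * s.ker ≤ RingHom.ker τ.1 := by
    rw [hτker, Ideal.mul_le]
    intro a ha b hb
    rw [RingHom.mem_ker, map_mul]
    apply hP.inj
    · have h0 : s.σ.1 b = 0 := hb
      change p₁.toAlgHom (ψ'.1 a * ψ'.1 b) = p₁.toAlgHom 0
      rw [map_mul, map_zero]
      change p₁ (ψ'.1 a) * p₁ (ψ'.1 b) = 0
      rw [hψ'1a b, h0, mul_zero]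
    · change p₂.toAlgHom (ψ'.1 a * ψ'.1 b) = p₂.toAlgHom 0
      rw [map_mul, map_zero]
      change p₂ (ψ'.1 a) * p₂ (ψ'.1 b) = 0
      rw [hψ'2a, hψ'2a]
      apply Groth.Agent.Lib.H59ArtFunTorsor.mul_eq_zero_of_res_eq_zero μ hm
      · rw [Groth.Agent.Lib.ArtFunBasic.homSet_res_apply]
        exact (CRing.mem_maximalIdeal_iff S a).1 ha
      · exact hσker b hb
  have hclaim : ∃ y'' : F.obj C, F.map (ι ≫ p₁) y'' = s.x := by
    by_cases hsurj : Function.Surjective ι
    · obtain ⟨ν, _, hν⟩ := Groth.Agent.Lib.ArtFunFactor.exists_inv_of_bijective ι ⟨hιinj, hsurj⟩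
      refine ⟨F.map ν y', ?_⟩
      rw [← Functor.map_comp_apply, ← Category.assoc, hν, Category.id_comp, hy'1]
    · have hqbij : Function.Bijective (ι ≫ p₁) := by
        constructor
        · rw [injective_iff_map_eq_zero (ι ≫ p₁).toAlgHom]
          intro c hc
          by_contra hc0
          apply hsurj
          have hw1 : p₁ (ι c) = 0 := hc
          have hw0 : ι c ≠ 0 := fun h => hc0 (hιinj (h.trans (map_zero ι.toAlgHom).symm))
          have hw2 : μ (p₂ (ι c)) = 0 := by
            rw [← hP.w_apply, hw1]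
            exact map_zero _
          have hmem : p₂ (ι c) ∈ Ideal.span {t} := by rw [← ht']; exact hw2
          rw [Ideal.mem_span_singleton'] at hmem
          obtain ⟨b, hb⟩ := hmem
          have hbu : IsUnit b := by
            by_contra hnu
            have hbm : B.res b = 0 := (Art.mem_maximalIdeal_iff B b).1 ((mem_maximalIdeal _).2 hnu)
            have htk : μ t = 0 := by
              have : t ∈ RingHom.ker μ.toAlgHom := by
                rw [ht']; exact Ideal.mem_span_singleton_self t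
              exact this
            have hbt : b * t = 0 :=
              Groth.Agent.Lib.H59ArtFunTorsor.mul_eq_zero_of_res_eq_zero μ hm hbm htk
            apply hw0
            apply hP.inj
            · exact hw1.trans (map_zero p₁.toAlgHom).symm
            · change p₂ (ι c) = p₂.toAlgHom 0
              rw [← hb, hbt, map_zero]
          intro w'
          obtain ⟨s', hs'⟩ := s.surj (p₁ w')
          have hd1 : p₁ (w' - ψ'.1 s') = 0 := by
            change p₁.toAlgHom (w' - ψ'.1 s') = 0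
            rw [map_sub]
            change p₁ w' - p₁ (ψ'.1 s') = 0
            rw [hψ'1a, hs', sub_self]
          have hd2 : μ (p₂ (w' - ψ'.1 s')) = 0 := by
            rw [← hP.w_apply, hd1]
            exact map_zero _
          have hmem' : p₂ (w' - ψ'.1 s') ∈ Ideal.span {t} := by rw [← ht']; exact hd2
          rw [Ideal.mem_span_singleton'] at hmem'
          obtain ⟨b', hb'⟩ := hmem'
          obtain ⟨s'', hs''⟩ := S.res_surjective (B.res (b' * ↑hbu.unit⁻¹))
          have hkey : w' - ψ'.1 s' = ψ'.1 s'' * ι c := by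
            apply hP.inj
            · change p₁ (w' - ψ'.1 s') = p₁.toAlgHom (ψ'.1 s'' * ι c)
              rw [hd1, map_mul]
              change 0 = p₁ (ψ'.1 s'') * p₁ (ι c)
              rw [hw1, mul_zero]
            · change p₂ (w' - ψ'.1 s') = p₂.toAlgHom (ψ'.1 s'' * ι c)
              rw [map_mul]
              change p₂ (w' - ψ'.1 s') = p₂ (ψ'.1 s'') * p₂ (ι c)
              rw [hψ'2a, ← hb', Groth.Agent.Lib.H59ArtFunTorsor.mul_eq_mul_of_res_eq μ hm
                (b := ψS.1 s'') (b' := b' * ↑hbu.unit⁻¹) (x := p₂ (ι c)) (by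
                  rw [Groth.Agent.Lib.ArtFunBasic.homSet_res_apply, hs'']) hw2, ← hb,
                mul_assoc, ← mul_assoc (↑hbu.unit⁻¹ : B), IsUnit.val_inv_mul, one_mul]
          refine ⟨τ.1 s' + τ.1 s'' * c, ?_⟩
          change ι.toAlgHom (τ.1 s' + τ.1 s'' * c) = w'
          rw [map_add, map_mul]
          change ι (τ.1 s') + ι (τ.1 s'') * ι c = w'
          rw [hιτ, hιτ, ← hkey]
          ring
        · intro a
          obtain ⟨r, hr⟩ := s.surj a
          refine ⟨τ.1 r, ?_⟩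
          change p₁ (ι (τ.1 r)) = a
          rw [hιτ, hψ'1a, hr]
      obtain ⟨ν, _, hν⟩ := Groth.Agent.Lib.ArtFunFactor.exists_inv_of_bijective (ι ≫ p₁) hqbij
      exact ⟨F.map ν s.x, by rw [← Functor.map_comp_apply, hν, Functor.map_id_apply]⟩
  have hle := hn.2.2 C τ hτs (ι ≫ p₁) hq hmK hclaim
  obtain ⟨f₀, hf₀⟩ := exists_factor s'.σ s'.surj ψ' (hle.trans (le_of_eq hτker))
  refine ⟨f₀ ≫ p₂, ?_⟩
  rw [Category.assoc, Groth.Agent.Lib.H59ArtFunVersal.homSet_map_comp, hf₀,
    ← hψS', ← hψ'2, ← Groth.Agent.Lib.H59ArtFunVersal.homSet_map_comp]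

end Groth.Agent.Lib.H59SchlessNextLift
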