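import Groth.Agent.Lib.H59SchlessSmooth
import Mathlib.RingTheory.MvPolynomial.Ideal

/-!
# Smooth coefficient rings, with their maximal ideal (helper59)

`exists_smooth_with_vars'`: as `exists_smooth_with_vars`, exposing the map from the polynomial ring and the maximal ideal.
`exists_smooth_classical`: when `Λ → k` is surjective, `S = Λ[[X_1..X_d]]^` with `m_S = (X_i) + m_Λ S`.
-/

set_option autoImplicit false
universe u v
open CategoryTheory
open ArtFun

namespace Groth.Agent.Lib.H59SchlessSmooth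

theorem exists_smooth_with_vars' {Λ : Type u} {k : Type u} [CommRing Λ] [Field k] [Algebra Λ k]
    [IsNoetherianRing Λ] [Module.Finite Λ k] (ι : Type u) [Finite ι] (f : ι → k)
    (hπ : Function.Surjective (MvPolynomial.aeval f : MvPolynomial ι Λ →ₐ[Λ] k)) :
    ∃ (S : ArtFun.CRing Λ k) (j : MvPolynomial ι Λ →ₐ[Λ] S.carrier),
      ArtFun.IsSmoothFunctor (ArtFun.hR S.carrier S.res) ∧ (∀ p, S.res (j p) = MvPolynomial.aeval f p) ∧
      (∀ (A : ArtFun.Art Λ k) (a : ι → A), (∀ i, A.res (a i) = f i) →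
        ∃ φ : ArtFun.HomSet S.carrier S.res A, ∀ i, φ.1 (j (MvPolynomial.X i)) = a i) ∧
      IsLocalRing.maximalIdeal S.carrier =
        (RingHom.ker (MvPolynomial.aeval f : MvPolynomial ι Λ →ₐ[Λ] k)).map
          (j : MvPolynomial ι Λ →+* S.carrier) := by
  classical
  let π : MvPolynomial ι Λ →ₐ[Λ] k := MvPolynomial.aeval f
  let 𝔪 : Ideal (MvPolynomial ι Λ) := RingHom.ker π
  have h𝔪 : 𝔪.IsMaximal := RingHom.ker_isMaximal_of_surjective π hπ
  have hfg : 𝔪.FG := (inferInstance : IsNoetherianRing (MvPolynomial ι Λ)).noetherian 𝔪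
  have hmax : (𝔪.map (algebraMap (MvPolynomial ι Λ)
      (AdicCompletion 𝔪 (MvPolynomial ι Λ)))).IsMaximal :=
    AdicCompletion.isMaximal_map_of_le 𝔪 𝔪 le_rfl hfg
  have hcompl : IsAdicComplete (𝔪.map (algebraMap (MvPolynomial ι Λ)
      (AdicCompletion 𝔪 (MvPolynomial ι Λ)))) (AdicCompletion 𝔪 (MvPolynomial ι Λ)) :=
    AdicCompletion.isAdicComplete_self 𝔪 hfg
  have hloc : IsLocalRing (AdicCompletion 𝔪 (MvPolynomial ι Λ)) :=
    isLocalRing_of_isAdicComplete_maximal (𝔪.map (algebraMap (MvPolynomial ι Λ)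
      (AdicCompletion 𝔪 (MvPolynomial ι Λ))))
  have hmeq : IsLocalRing.maximalIdeal (AdicCompletion 𝔪 (MvPolynomial ι Λ)) =
      𝔪.map (algebraMap (MvPolynomial ι Λ) (AdicCompletion 𝔪 (MvPolynomial ι Λ))) :=
    (IsLocalRing.eq_maximalIdeal hmax).symm
  have hnoeth : IsNoetherianRing (AdicCompletion 𝔪 (MvPolynomial ι Λ)) :=
    Groth.Agent.Lib.AdicNoeth.isNoetherianRing_adicCompletion 𝔪
  -- evaluation maps as Λ-algebra maps
  let ev : ∀ N : ℕ, AdicCompletion 𝔪 (MvPolynomial ι Λ) →ₐ[Λ] (MvPolynomial ι Λ ⧸ 𝔪 ^ N) :=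
    fun N => { (AdicCompletion.evalₐ 𝔪 N).toRingHom with
      commutes' := fun c => by
        change AdicCompletion.evalₐ 𝔪 N (AdicCompletion.of 𝔪 _ (algebraMap Λ _ c)) = _
        rw [AdicCompletion.evalₐ_of]
        rfl }
  let e : (MvPolynomial ι Λ ⧸ 𝔪) ≃ₐ[Λ] k := Ideal.quotientKerAlgEquivOfSurjective hπ
  let ev1 : AdicCompletion 𝔪 (MvPolynomial ι Λ) →ₐ[Λ] (MvPolynomial ι Λ ⧸ 𝔪) :=
    { (AdicCompletion.evalOneₐ 𝔪).toRingHom with
      commutes' := fun c => rfl }
  let res : AdicCompletion 𝔪 (MvPolynomial ι Λ) →ₐ[Λ] k := e.toAlgHom.comp ev1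
  have hres : Function.Surjective res :=
    e.surjective.comp (AdicCompletion.evalOneₐ_surjective 𝔪)
  let R : ArtFun.CRing Λ k :=
    { carrier := AdicCompletion 𝔪 (MvPolynomial ι Λ)
      isLocalRing := hloc
      isNoetherianRing := hnoeth
      res := res
      res_surjective := hres
      isAdicComplete := by rw [hmeq]; exact hcompl }
  let ι' : MvPolynomial ι Λ →ₐ[Λ] AdicCompletion 𝔪 (MvPolynomial ι Λ) :=
    { (algebraMap (MvPolynomial ι Λ) (AdicCompletion 𝔪 (MvPolynomial ι Λ))) with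
      commutes' := fun c => rfl }
  have hresι : ∀ p, res (ι' p) = π p := fun p => rfl
  -- the key approximation property
  have happrox : ∀ (N : ℕ) (x : AdicCompletion 𝔪 (MvPolynomial ι Λ)),
      ∃ p : MvPolynomial ι Λ, AdicCompletion.evalₐ 𝔪 N x = Ideal.Quotient.mk _ p ∧
        x - ι' p ∈ IsLocalRing.maximalIdeal (AdicCompletion 𝔪 (MvPolynomial ι Λ)) ^ N := by
    intro N x
    obtain ⟨p, hp⟩ := Ideal.Quotient.mk_surjective (AdicCompletion.evalₐ 𝔪 N x)
    refine ⟨p, hp.symm, ?_⟩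
    have h1 : x - ι' p ∈ RingHom.ker (AdicCompletion.evalₐ 𝔪 N).toRingHom := by
      rw [RingHom.mem_ker]
      change AdicCompletion.evalₐ 𝔪 N (x - AdicCompletion.of 𝔪 _ p) = 0
      rw [map_sub, AdicCompletion.evalₐ_of, hp, sub_self]
    rw [Groth.Agent.S12737.ker_evalₐ_eq_map 𝔪 hfg, Ideal.map_pow, ← hmeq] at h1
    exact h1
  refine ⟨R, ι', Groth.Agent.S12721.smooth_of_formallySmooth R ?_, ?_, ?_, hmeq⟩
  · intro A' _ _ J hJ ψ hψ
    obtain ⟨n, hn⟩ := hψ
    -- lift on the polynomial ring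
    choose a ha using fun g : ι => Ideal.Quotient.mk_surjective
      (ψ (algebraMap (MvPolynomial ι Λ) (AdicCompletion 𝔪 (MvPolynomial ι Λ))
        (MvPolynomial.X g)))
    let χP : MvPolynomial ι Λ →ₐ[Λ] A' := MvPolynomial.aeval a
    have hχP : (Ideal.Quotient.mkₐ Λ J).comp χP = ψ.comp ι' := by
      apply MvPolynomial.algHom_ext
      intro g
      change Ideal.Quotient.mk J (MvPolynomial.aeval a (MvPolynomial.X g)) = _
      rw [MvPolynomial.aeval_X, ha]
      rfl
    have hχP' : ∀ p, Ideal.Quotient.mk J (χP p) = ψ (ι' p) := fun p => DFunLike.congr_fun hχP p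
    have hmapn : ∀ p ∈ 𝔪 ^ n, χP p ∈ J := by
      intro p hp
      rw [← Ideal.Quotient.eq_zero_iff_mem, hχP']
      apply hn
      change ι' p ∈ IsLocalRing.maximalIdeal (AdicCompletion 𝔪 (MvPolynomial ι Λ)) ^ n
      rw [hmeq, ← Ideal.map_pow]
      exact Ideal.mem_map_of_mem _ hp
    have hmap2n : ∀ p ∈ 𝔪 ^ (n + n), χP p = 0 := by
      intro p hp
      have h1 : (𝔪 ^ n).map (χP : MvPolynomial ι Λ →+* A') ≤ J := by
        rw [Ideal.map_le_iff_le_comap]
        exact fun p hp => hmapn p hp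
      have h2 : (𝔪 ^ (n + n)).map (χP : MvPolynomial ι Λ →+* A') ≤ ⊥ := by
        rw [pow_add, Ideal.map_mul, ← hJ, sq]
        exact Ideal.mul_mono h1 h1
      have := h2 (Ideal.mem_map_of_mem _ hp)
      rw [Ideal.mem_bot] at this
      exact this
    let χbar : (MvPolynomial ι Λ ⧸ 𝔪 ^ (n + n)) →ₐ[Λ] A' :=
      Ideal.Quotient.liftₐ (𝔪 ^ (n + n)) χP hmap2n
    refine ⟨χbar.comp (ev (n + n)), ?_⟩
    apply AlgHom.ext
    intro x
    obtain ⟨p, hp, hxp'⟩ := happrox (n + n) x
    have hxp : x - ι' p ∈ IsLocalRing.maximalIdeal (AdicCompletion 𝔪 (MvPolynomial ι Λ)) ^ n :=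
      Ideal.pow_le_pow_right (Nat.le_add_right n n) hxp'
    have hψx : ψ x = ψ (ι' p) := by
      have := hn _ hxp
      rw [map_sub, sub_eq_zero] at this
      exact this
    change Ideal.Quotient.mk J (χbar (AdicCompletion.evalₐ 𝔪 (n + n) x)) = ψ x
    rw [hp, hψx, ← hχP']
    rfl
  · intro p
    exact hresι p
  · intro A a ha
    let χP : MvPolynomial ι Λ →ₐ[Λ] A := MvPolynomial.aeval a
    have hχres : A.res.comp χP = π := by
      apply MvPolynomial.algHom_ext
      intro i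
      change A.res (MvPolynomial.aeval a (MvPolynomial.X i)) = MvPolynomial.aeval f (MvPolynomial.X i)
      rw [MvPolynomial.aeval_X, MvPolynomial.aeval_X, ha]
    have hχres' : ∀ p, A.res (χP p) = π p := fun p => DFunLike.congr_fun hχres p
    obtain ⟨N, hN⟩ := Groth.Agent.Lib.ArtFunFormal.isNilpotent_maximalIdeal A
    have hmapm : 𝔪.map (χP : MvPolynomial ι Λ →+* A) ≤ IsLocalRing.maximalIdeal A := by
      rw [Ideal.map_le_iff_le_comap]
      intro p hp
      rw [Ideal.mem_comap, ArtFun.Art.mem_maximalIdeal_iff]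
      change A.res (χP p) = 0
      rw [hχres']
      exact hp
    have hmapN : ∀ p ∈ 𝔪 ^ (N + 1), χP p = 0 := by
      intro p hp
      have h2 : (𝔪 ^ (N + 1)).map (χP : MvPolynomial ι Λ →+* A) ≤ ⊥ := by
        rw [Ideal.map_pow]
        calc _ ≤ IsLocalRing.maximalIdeal A ^ (N + 1) := Ideal.pow_right_mono hmapm _
          _ ≤ IsLocalRing.maximalIdeal A ^ N := Ideal.pow_le_pow_right (Nat.le_succ N)
          _ = ⊥ := hN
      have := h2 (Ideal.mem_map_of_mem _ hp)
      rw [Ideal.mem_bot] at this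
      exact this
    let χbar : (MvPolynomial ι Λ ⧸ 𝔪 ^ (N + 1)) →ₐ[Λ] A :=
      Ideal.Quotient.liftₐ (𝔪 ^ (N + 1)) χP hmapN
    refine ⟨⟨χbar.comp (ev (N + 1)), ?_⟩, ?_⟩
    · apply AlgHom.ext
      intro x
      obtain ⟨p, hp, hxp⟩ := happrox (N + 1) x
      change A.res (χbar (AdicCompletion.evalₐ 𝔪 (N + 1) x)) = res x
      rw [hp]
      change A.res (χP p) = res x
      rw [hχres']
      have hx0 : res (x - ι' p) = 0 := by
        have hm : x - ι' p ∈ IsLocalRing.maximalIdeal R.carrier :=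
          Ideal.pow_le_self (Nat.succ_ne_zero N) hxp
        exact (ArtFun.CRing.mem_maximalIdeal_iff R _).1 hm
      rw [map_sub, sub_eq_zero, hresι] at hx0
      exact hx0.symm
    · intro i
      change χbar (AdicCompletion.evalₐ 𝔪 (N + 1) (AdicCompletion.of 𝔪 _ (MvPolynomial.X i))) = a i
      rw [AdicCompletion.evalₐ_of]
      change χP (MvPolynomial.X i) = a i
      exact MvPolynomial.aeval_X a i



/-- the kernel of `Λ[X_1..X_d] → k`, `X_i ↦ 0`. -/
theorem ker_aeval_zero {Λ : Type u} {k : Type u} [CommRing Λ] [Field k] [Algebra Λ k] (d : ℕ) :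
    RingHom.ker (MvPolynomial.aeval (fun _ : ULift.{u} (Fin d) => (0 : k)) :
        MvPolynomial (ULift.{u} (Fin d)) Λ →ₐ[Λ] k) =
      Ideal.span (Set.range (MvPolynomial.X : ULift.{u} (Fin d) → MvPolynomial (ULift.{u} (Fin d)) Λ)) ⊔
        (RingHom.ker (algebraMap Λ k)).map (MvPolynomial.C : Λ →+* MvPolynomial (ULift.{u} (Fin d)) Λ) := by
  apply le_antisymm
  · intro p hp
    rw [RingHom.mem_ker] at hp
    have hp' : algebraMap Λ k (MvPolynomial.constantCoeff p) = 0 := by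
      rw [← MvPolynomial.aeval_zero' p]
      exact hp
    have h1 : p - MvPolynomial.C (MvPolynomial.constantCoeff p) ∈
        Ideal.span (Set.range (MvPolynomial.X : ULift.{u} (Fin d) → MvPolynomial (ULift.{u} (Fin d)) Λ)) := by
      rw [← Set.image_univ, MvPolynomial.mem_ideal_span_X_image]
      intro m hm
      by_contra hcon
      push Not at hcon
      have hm0 : m = 0 := by
        ext i
        exact hcon i (Set.mem_univ i)
      rw [MvPolynomial.mem_support_iff, hm0, MvPolynomial.coeff_sub, MvPolynomial.coeff_C,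
        if_pos rfl] at hm
      exact hm (sub_self _)
    have h2 : p = (p - MvPolynomial.C (MvPolynomial.constantCoeff p)) +
        MvPolynomial.C (MvPolynomial.constantCoeff p) := by ring
    rw [h2]
    exact Submodule.add_mem_sup h1 (Ideal.mem_map_of_mem _ (RingHom.mem_ker.2 hp'))
  · rw [sup_le_iff]
    constructor
    · rw [Ideal.span_le]
      rintro _ ⟨i, rfl⟩
      rw [SetLike.mem_coe, RingHom.mem_ker]
      exact MvPolynomial.aeval_X _ i
    · rw [Ideal.map_le_iff_le_comap]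
      intro c hc
      rw [Ideal.mem_comap, RingHom.mem_ker]
      rw [RingHom.mem_ker] at hc
      rw [MvPolynomial.aeval_C, hc]

/-- the classical smooth coefficient ring `Λ[[X_1, …, X_d]]` (as a completion), when `Λ → k` is surjective. -/
theorem exists_smooth_classical {Λ : Type u} {k : Type u} [CommRing Λ] [Field k] [Algebra Λ k]
    [IsNoetherianRing Λ] [Module.Finite Λ k] (hk : Function.Surjective (algebraMap Λ k)) (d : ℕ) :
    ∃ (S : ArtFun.CRing Λ k) (X : Fin d → S.carrier),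
      ArtFun.IsSmoothFunctor (ArtFun.hR S.carrier S.res) ∧ (∀ i, S.res (X i) = 0) ∧
      (∀ (A : ArtFun.Art Λ k) (a : Fin d → A), (∀ i, A.res (a i) = 0) →
        ∃ φ : ArtFun.HomSet S.carrier S.res A, ∀ i, φ.1 (X i) = a i) ∧
      IsLocalRing.maximalIdeal S.carrier = Ideal.span (Set.range X) ⊔
        (RingHom.ker (algebraMap Λ k)).map (algebraMap Λ S.carrier) := by
  have hπ : Function.Surjective (MvPolynomial.aeval (fun _ : ULift.{u} (Fin d) => (0 : k)) :
      MvPolynomial (ULift.{u} (Fin d)) Λ →ₐ[Λ] k) := by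
    intro c
    obtain ⟨l, rfl⟩ := hk c
    exact ⟨MvPolynomial.C l, MvPolynomial.aeval_C _ l⟩
  obtain ⟨S, j, hS, hres, huniv, hmax⟩ :=
    exists_smooth_with_vars' (ULift.{u} (Fin d)) (fun _ => (0 : k)) hπ
  refine ⟨S, fun i => j (MvPolynomial.X (ULift.up i)), hS, ?_, ?_, ?_⟩
  · intro i
    rw [hres]
    exact MvPolynomial.aeval_X _ _
  · intro A a ha
    obtain ⟨φ, hφ⟩ := huniv A (fun i => a i.down) (fun i => ha i.down)
    exact ⟨φ, fun i => hφ (ULift.up i)⟩
  · rw [hmax, ker_aeval_zero, Ideal.map_sup, Ideal.map_span, Ideal.map_map]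
    congr 1
    · congr 1
      ext s
      constructor
      · rintro ⟨_, ⟨i, rfl⟩, rfl⟩
        exact ⟨i.down, rfl⟩
      · rintro ⟨i, rfl⟩
        exact ⟨_, ⟨ULift.up i, rfl⟩, rfl⟩
    · congr 1
      ext c
      change j (MvPolynomial.C c) = algebraMap Λ S.carrier c
      rw [← MvPolynomial.algebraMap_eq, AlgHom.commutes]

end Groth.Agent.Lib.H59SchlessSmooth
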