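import Groth.Agent.Lib.H59SchlessSmooth2
import Groth.Agent.Lib.ArtFunBasic

/-!
# Smooth coefficient rings are free on their variables (helper59)

`exists_smooth_free`: as `exists_smooth_with_vars`, plus uniqueness of maps to Artinian objects with prescribed values
on the variables.
-/

set_option autoImplicit false
universe u v
open CategoryTheory
open ArtFun IsLocalRing

namespace Groth.Agent.Lib.H59SchlessSmooth

theorem exists_smooth_free {Λ : Type u} {k : Type u} [CommRing Λ] [Field k] [Algebra Λ k]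
    [IsNoetherianRing Λ] [Module.Finite Λ k] (ι : Type u) [Finite ι] (f : ι → k)
    (hπ : Function.Surjective (MvPolynomial.aeval f : MvPolynomial ι Λ →ₐ[Λ] k)) :
    ∃ (S : ArtFun.CRing Λ k) (X : ι → S.carrier),
      ArtFun.IsSmoothFunctor (ArtFun.hR S.carrier S.res) ∧ (∀ i, S.res (X i) = f i) ∧
      (∀ (A : ArtFun.Art Λ k) (a : ι → A), (∀ i, A.res (a i) = f i) →
        ∃ φ : ArtFun.HomSet S.carrier S.res A, ∀ i, φ.1 (X i) = a i) ∧
      (∀ (A : ArtFun.Art Λ k) (φ φ' : ArtFun.HomSet S.carrier S.res A),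
        (∀ i, φ.1 (X i) = φ'.1 (X i)) → φ = φ') := by
  classical
  obtain ⟨S, j, hS, hres, huniv, hmax⟩ := exists_smooth_with_vars' ι f hπ
  refine ⟨S, fun i => j (MvPolynomial.X i), hS, ?_, huniv, ?_⟩
  · intro i
    rw [hres]
    exact MvPolynomial.aeval_X f i
  -- density of polynomials
  have hdense1 : ∀ s : S.carrier, ∃ p, s - j p ∈ maximalIdeal S.carrier := by
    intro s
    obtain ⟨p, hp⟩ := hπ (S.res s)
    refine ⟨p, ?_⟩
    rw [CRing.mem_maximalIdeal_iff, map_sub, hres, hp, sub_self]
  have hdense : ∀ (N : ℕ) (s : S.carrier), ∃ p, s - j p ∈ maximalIdeal S.carrier ^ N := by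
    intro N
    induction N with
    | zero =>
      intro s
      exact ⟨0, by rw [pow_zero, Ideal.one_eq_top]; trivial⟩
    | succ N ih =>
      have hQ : ∀ t ∈ maximalIdeal S.carrier ^ N, ∃ q, t - j q ∈ maximalIdeal S.carrier ^ (N + 1) := by
        intro t ht
        have hmN : maximalIdeal S.carrier ^ N =
            Submodule.span S.carrier ((j : MvPolynomial ι Λ →+* S.carrier) ''
              ((RingHom.ker (MvPolynomial.aeval f : MvPolynomial ι Λ →ₐ[Λ] k)) ^ N : Ideal _)) := by
          rw [hmax, ← Ideal.map_pow]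
          rfl
        rw [hmN] at ht
        induction ht using Submodule.span_induction with
        | mem t ht =>
          obtain ⟨p, _, rfl⟩ := ht
          refine ⟨p, ?_⟩
          change j p - j p ∈ _
          rw [sub_self]
          exact Ideal.zero_mem _
        | zero => exact ⟨0, by rw [map_zero, sub_self]; exact Ideal.zero_mem _⟩
        | add t₁ t₂ _ _ h₁ h₂ =>
          obtain ⟨q₁, hq₁⟩ := h₁
          obtain ⟨q₂, hq₂⟩ := h₂
          refine ⟨q₁ + q₂, ?_⟩
          have : t₁ + t₂ - j (q₁ + q₂) = (t₁ - j q₁) + (t₂ - j q₂) := by rw [map_add]; ring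
          rw [this]
          exact Ideal.add_mem _ hq₁ hq₂
        | smul a t' ht' h' =>
          obtain ⟨q', hq'⟩ := h'
          obtain ⟨qa, hqa⟩ := hdense1 a
          refine ⟨qa * q', ?_⟩
          have ht'N : t' ∈ maximalIdeal S.carrier ^ N := by rw [hmN]; exact ht'
          have : a • t' - j (qa * q') = (a - j qa) * t' + j qa * (t' - j q') := by
            rw [map_mul, smul_eq_mul]; ring
          rw [this]
          refine Ideal.add_mem _ ?_ (Ideal.mul_mem_left _ _ hq')
          rw [pow_succ']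
          exact Ideal.mul_mem_mul hqa ht'N
      intro s
      obtain ⟨p, hp⟩ := ih s
      obtain ⟨q, hq⟩ := hQ _ hp
      refine ⟨p + q, ?_⟩
      have : s - j (p + q) = (s - j p) - j q := by rw [map_add]; ring
      rw [this]
      exact hq
  intro A φ φ' h
  have hcomp : φ.1.comp j = φ'.1.comp j := by
    apply MvPolynomial.algHom_ext
    intro i
    exact h i
  obtain ⟨N, hN⟩ := Groth.Agent.Lib.ArtFunFormal.isNilpotent_maximalIdeal A
  apply Groth.Agent.Lib.ArtFunBasic.homSet_ext
  intro s
  obtain ⟨p, hp⟩ := hdense N s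
  have hkill : ∀ ψ : ArtFun.HomSet S.carrier S.res A, ψ.1 (s - j p) = 0 := by
    intro ψ
    have h1 : (maximalIdeal S.carrier ^ N).map (ψ.1 : S.carrier →+* A) ≤ ⊥ := by
      rw [Ideal.map_pow]
      refine (Ideal.pow_right_mono (Groth.Agent.Lib.ArtFunFormal.map_maximalIdeal_le S A ψ) N).trans ?_
      rw [hN]
      exact le_rfl
    have := h1 (Ideal.mem_map_of_mem _ hp)
    rw [Ideal.mem_bot] at this
    exact this
  have h1 := hkill φ
  have h2 := hkill φ'
  rw [map_sub, sub_eq_zero] at h1 h2
  rw [h1, h2]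
  exact DFunLike.congr_fun hcomp p

end Groth.Agent.Lib.H59SchlessSmooth
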