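import Groth.Agent.Lib.DegTensor13
import Groth.Agent.Lib.H77DimFieldExt
import Mathlib.RingTheory.KrullDimension.Polynomial
import Mathlib.AlgebraicGeometry.Morphisms.FiniteType

/-!
# Snapper's theorem in the `Curv2.euler` / `Curv2.tensorPows` vocabulary (helper13)

* `exists_nat_dim_le k X` : a quasi-compact scheme locally of finite type over a field has finite dimension.
* `cls_tensorPows` : class of `Curv2.tensorPows F r L n` in the monoid of iso classes.
* `snapper_euler` : the statement of S1528.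
-/

set_option autoImplicit false
universe u
open CategoryTheory CategoryTheory.Limits AlgebraicGeometry

namespace Groth.Agent.Lib.SnapperCurv13

open Groth.Agent.Lib Groth.Agent.Lib.IsoCls13 Groth.Agent.Lib.IntNumAlg13 CohB1

theorem exists_ringKrullDim_le_of_finiteType_field (k F : Type*) [Field k] [CommRing F]
    [Algebra k F] [Algebra.FiniteType k F] : ∃ n : ℕ, ringKrullDim F ≤ ((n : ℕ) : WithBot ℕ∞) := by
  obtain ⟨n, f, hf⟩ := Algebra.FiniteType.iff_quotient_mvPolynomial''.mp
    (inferInstance : Algebra.FiniteType k F)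
  have h := ringKrullDim_le_of_surjective f.toRingHom hf
  rw [MvPolynomial.ringKrullDim_of_isNoetherianRing, ringKrullDim_eq_zero_of_field, zero_add,
    Nat.card_fin] at h
  exact ⟨n, h⟩

/-- An affine scheme of finite type over a field has finite dimension. -/
theorem exists_nat_dim_le_of_isAffine (k : Type u) [Field k] (U : Scheme.{u}) [IsAffine U]
    (g : U ⟶ Spec (CommRingCat.of k)) [LocallyOfFiniteType g] :
    ∃ d : ℕ, topologicalKrullDim U ≤ d := by
  have h1 : (g.appTop).hom.FiniteType :=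
    (HasRingHomProperty.iff_of_isAffine (P := @LocallyOfFiniteType) (f := g)).1 inferInstance
  let φ : k →+* Γ(U, ⊤) :=
    (g.appTop).hom.comp (Scheme.ΓSpecIso (CommRingCat.of k)).inv.hom
  have hφ : φ.FiniteType := by
    refine RingHom.FiniteType.comp h1 (RingHom.FiniteType.of_surjective _ ?_)
    exact ((ConcreteCategory.bijective_of_isIso (Scheme.ΓSpecIso (CommRingCat.of k)).inv)).2
  letI : Algebra k Γ(U, ⊤) := φ.toAlgebra
  have : Algebra.FiniteType k Γ(U, ⊤) := hφ
  obtain ⟨n, hn⟩ := exists_ringKrullDim_le_of_finiteType_field k Γ(U, ⊤)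
  refine ⟨n, ?_⟩
  have h2 : topologicalKrullDim U = topologicalKrullDim (Spec Γ(U, ⊤)) :=
    IsHomeomorph.topologicalKrullDim_eq _ (Scheme.homeoOfIso U.isoSpec).isHomeomorph
  rw [h2]
  exact (PrimeSpectrum.topologicalKrullDim_eq_ringKrullDim (R := Γ(U, ⊤))).le.trans hn

/-- A quasi-compact scheme locally of finite type over a field has finite dimension. -/
theorem exists_nat_dim_le (k : Type u) [Field k] (X : Scheme.{u}) [CompactSpace X]
    (g : X ⟶ Spec (CommRingCat.of k)) [LocallyOfFiniteType g] :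
    ∃ d : ℕ, topologicalKrullDim X ≤ d := by
  classical
  let 𝒰 := X.affineCover.finiteSubcover
  have hfin : Finite 𝒰.I₀ := inferInstance
  have : ∀ i : 𝒰.I₀, ∃ d : ℕ, topologicalKrullDim (𝒰.X i) ≤ d := fun i =>
    exists_nat_dim_le_of_isAffine k (𝒰.X i) (𝒰.f i ≫ g)
  choose d hd using this
  have := Fintype.ofFinite 𝒰.I₀
  refine ⟨Finset.univ.sup d, ?_⟩
  rw [Groth.Agent.Lib.H77DimFieldExt.dim_eq_iSup_of_openCover 𝒰]
  refine iSup_le fun i => (hd i).trans ?_
  exact_mod_cast Finset.le_sup (f := d) (Finset.mem_univ i)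

theorem cls_tensorPows {X : Scheme.{u}} (F : X.Modules) :
    ∀ (r : ℕ) (L : Fin r → X.Modules) (n : Fin r → ℕ),
      cls (Curv2.tensorPows F r L n) = cls F * ∏ i, cls (L i) ^ n i
  | 0, _, _ => by simp [Curv2.tensorPows]
  | r + 1, L, n => by
    rw [Curv2.tensorPows, cls_tensorMod, cls_tensorPows F r, cls_tensorPow, Fin.prod_univ_castSucc,
      mul_assoc]

/-- **Snapper** for `Curv2.euler` and `Curv2.tensorPows` (= S1528). -/
theorem snapper_euler (k : Type u) [Field k] (X : Scheme.{u}) [X.Over (Spec (CommRingCat.of k))]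
    [IsProper (X ↘ (Spec (CommRingCat.of k)))]
    (F : X.Modules) (hF : Coh.IsCoh F) (d : ℕ) (hsupp : topologicalKrullDim (CohB1.support F) ≤ d)
    (r : ℕ) (L : Fin r → X.Modules) (hL : ∀ i, PicF.IsInvertible (L i)) :
    ∃ P : MvPolynomial (Fin r) ℚ, P.totalDegree ≤ d ∧
      ∀ n : Fin r → ℕ, (Curv2.euler k X (Curv2.tensorPows F r L n) : ℚ) =
        MvPolynomial.eval (fun i => (n i : ℚ)) P := by
  have := EulerChar54.compactSpace_of_isProper k X
  obtain ⟨D, hD⟩ := exists_nat_dim_le k X (X ↘ (Spec (CommRingCat.of k)))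
  obtain ⟨P, hP, hPe⟩ := Groth.Agent.S3230.result k X D hD L hL F hF d hsupp
  refine ⟨P, hP, fun n => ?_⟩
  rw [← hPe n, EulerLE48.eulerCharLE_eq_euler k X DegTensor13.vanHyp D hD]
  have h : cls (Curv2.tensorPows F r L n) = cls (tensorMod (FGA.multiTwist L n) F) := by
    rw [cls_tensorPows, cls_tensorMod, cls_multiTwist, mul_comm]
  obtain ⟨e⟩ := cls_eq_iff.1 h
  rw [DegTensor13.euler_congr k e]

end Groth.Agent.Lib.SnapperCurv13
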