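import Groth.Agent.Lib.H59SnapperCurv
import Groth.Agent.Lib.SnapperCurv13
import Groth.Agent.Lib.H90Snapper

/-!
# helper59: Euler characteristics of twists minus the contributions of the top-dimensional components

For `X` proper over a field, `G` coherent with `dim Supp G ≤ d`, and invertible `L_1, …, L_r`:
`χ(G ⊗ L^n) - Σ_ξ length(G_ξ) · χ(Z_ξ, L^n|_{Z_ξ})` (sum over the points `ξ` with `dim closure {ξ} = d`) is a polynomial
all of whose monomials have degree `< d`.  Proof: induction along helper90's dévissage filtration (`Filt IsAtomC'`).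
-/

set_option autoImplicit false
universe u
open CategoryTheory CategoryTheory.Limits AlgebraicGeometry TopologicalSpace

namespace Groth.Agent.Lib.H59SnapComp

open Groth.Agent.Lib Groth.Agent.Lib.IsoCls13 Groth.Agent.Lib.H59EulerClosed

section Poly

variable {r : ℕ}

/-- `f` is given by a polynomial all of whose monomials have total degree `< d`. -/
def PolyLt (d : ℕ) (f : (Fin r → ℕ) → ℚ) : Prop :=
  ∃ P : MvPolynomial (Fin r) ℚ, (∀ m ∈ P.support, (m.sum fun _ e => e) < d) ∧
    ∀ n, f n = MvPolynomial.eval (fun i => (n i : ℚ)) P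

theorem PolyLt.zero (d : ℕ) : PolyLt d (fun _ : Fin r → ℕ => (0 : ℚ)) :=
  ⟨0, by simp, by simp⟩

theorem PolyLt.add {d : ℕ} {f g : (Fin r → ℕ) → ℚ} (hf : PolyLt d f) (hg : PolyLt d g) :
    PolyLt d (fun n => f n + g n) := by
  classical
  obtain ⟨P, hP, hf⟩ := hf
  obtain ⟨Q, hQ, hg⟩ := hg
  refine ⟨P + Q, fun m hm => ?_, fun n => by simp [hf n, hg n]⟩
  rcases Finset.mem_union.1 (MvPolynomial.support_add hm) with h | h
  exacts [hP m h, hQ m h]

theorem PolyLt.neg {d : ℕ} {f : (Fin r → ℕ) → ℚ} (hf : PolyLt d f) :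
    PolyLt d (fun n => - f n) := by
  obtain ⟨P, hP, hf⟩ := hf
  refine ⟨-P, fun m hm => ?_, fun n => by simp [hf n]⟩
  rw [MvPolynomial.support_neg] at hm
  exact hP m hm

theorem PolyLt.sub {d : ℕ} {f g : (Fin r → ℕ) → ℚ} (hf : PolyLt d f) (hg : PolyLt d g) :
    PolyLt d (fun n => f n - g n) := by
  have := hf.add hg.neg
  simpa [sub_eq_add_neg] using this

theorem PolyLt.congr {d : ℕ} {f g : (Fin r → ℕ) → ℚ} (hf : PolyLt d f) (h : ∀ n, g n = f n) :
    PolyLt d g := by
  have : g = f := funext h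
  rw [this]; exact hf

theorem polyLt_of_totalDegree_lt {d s : ℕ} (P : MvPolynomial (Fin r) ℚ) (hP : P.totalDegree ≤ s)
    (hs : s < d) : PolyLt d (fun n => MvPolynomial.eval (fun i => (n i : ℚ)) P) :=
  ⟨P, fun _ hm => (MvPolynomial.le_totalDegree hm).trans_lt (hP.trans_lt hs), fun _ => rfl⟩

end Poly

section Dim

/-- in `WithBot ℕ∞`: `x ≤ d` means `x = d` or `x + 1 ≤ d`. -/
theorem eq_or_add_one_le {x : WithBot ℕ∞} {d : ℕ} (h : x ≤ (d : WithBot ℕ∞)) :
    x = (d : WithBot ℕ∞) ∨ x + 1 ≤ (d : WithBot ℕ∞) := by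
  induction x using WithBot.recBotCoe with
  | bot => right; simp
  | coe y =>
    have h1 : y ≤ (d : ℕ∞) := by exact_mod_cast h
    have hy : y ≠ ⊤ := fun h2 => by rw [h2] at h1; simp at h1
    lift y to ℕ using hy
    have h2 : y ≤ d := by exact_mod_cast h1
    rcases Nat.lt_or_ge y d with h3 | h3
    · right
      have : y + 1 ≤ d := h3
      exact_mod_cast this
    · left
      have : y = d := le_antisymm h2 h3
      rw [this]; rfl

theorem not_add_one_le_self (d : ℕ) : ¬ ((d : WithBot ℕ∞) + 1 ≤ (d : WithBot ℕ∞)) := by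
  intro h
  have : d + 1 ≤ d := by exact_mod_cast h
  omega

end Dim

section Q

variable (k : Type u) [Field k] (X : Scheme.{u}) [X.Over (Spec (CommRingCat.of k))]
  [IsProper (X ↘ Spec (CommRingCat.of k))] {r : ℕ} (L : Fin r → X.Modules)

/-- `n ↦ χ(X, G ⊗ L^n)`. -/
noncomputable def Qe (G : X.Modules) (n : Fin r → ℕ) : ℤ :=
  Curv2.euler k X (Curv2.tensorPows G r L n)

theorem Qe_congr {G G' : X.Modules} (e : Nonempty (G ≅ G')) : Qe k X L G = Qe k X L G' := by
  funext n
  unfold Qe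
  refine euler_eq_of_cls_eq k ?_
  rw [cls_tensorPows, cls_tensorPows, cls_eq_iff.2 e]

theorem Qe_eq_Q (d : ℕ) (hd : topologicalKrullDim X ≤ d) (G : X.Modules) (n : Fin r → ℕ) :
    Qe k X L G n = Groth.Agent.Lib.EulerLE48.Q k X d L G n := by
  unfold Qe Groth.Agent.Lib.EulerLE48.Q
  rw [Groth.Agent.Lib.EulerLE48.eulerCharLE_eq_euler k X H59SnapperCurv.vanHyp d hd]
  refine euler_eq_of_cls_eq k ?_
  rw [cls_tensorPows, cls_tensorMod, cls_multiTwist, mul_comm]

variable (hL : ∀ i, PicF.IsInvertible (L i))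

include hL in
theorem Qe_add (S : ShortComplex X.Modules) (hS : S.ShortExact) (h₁ : Coh.IsCoh S.X₁)
    (h₂ : Coh.IsCoh S.X₂) (h₃ : Coh.IsCoh S.X₃) (n : Fin r → ℕ) :
    Qe k X L S.X₂ n = Qe k X L S.X₁ n + Qe k X L S.X₃ n := by
  have := Groth.Agent.Lib.EulerChar54.compactSpace_of_isProper k X
  obtain ⟨d, hd⟩ := Groth.Agent.Lib.SnapperCurv13.exists_nat_dim_le k X (X ↘ (Spec (CommRingCat.of k)))
  rw [Qe_eq_Q k X L d hd, Qe_eq_Q k X L d hd, Qe_eq_Q k X L d hd]
  exact Groth.Agent.Lib.EulerLE48.Q_add k X H59SnapperCurv.properFinHyp H59SnapperCurv.vanHyp d hd L hL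
    S hS h₁ h₂ h₃ n

include hL in
theorem Qe_of_isZero {G : X.Modules} (hG : IsZero G) : Qe k X L G = 0 := by
  haveI := Groth.Agent.Lib.EulerLE48.isNoetherian k X
  exact Groth.Agent.Lib.H90Snapper.Q_of_isZero (Qe k X L) (fun _ _ e => Qe_congr k X L e)
    (Qe_add k X L hL) hG

include hL in
theorem polyLt_Qe_of_dim {G : X.Modules} (hG : Coh.IsCoh G) (d : ℕ)
    (h : topologicalKrullDim ↥(CohB1.support G) + 1 ≤ (d : WithBot ℕ∞)) :
    PolyLt d (fun n => (Qe k X L G n : ℚ)) := by
  cases d with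
  | zero =>
    have h1 := Groth.Agent.Lib.H90Snapper.eq_empty_of_topologicalKrullDim_eq_bot _
      (Groth.Agent.Lib.H90Snapper.eq_bot_of_add_one_le_zero h)
    have hz : IsZero G := by
      apply Groth.Agent.Lib.ModPullback.isZero_of_forall_subsingleton_stalk
      intro y
      by_contra hy
      have : y ∈ CohB1.support G := hy
      rw [h1] at this
      exact this
    rw [Qe_of_isZero k X L hL hz]
    simpa using PolyLt.zero 0
  | succ s =>
    obtain ⟨P, hP, hPe⟩ := Groth.Agent.Lib.SnapperCurv13.snapper_euler k X G hG s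
      (Groth.Agent.Lib.H90Snapper.le_of_add_one_le_succ h) r L hL
    exact (polyLt_of_totalDegree_lt P hP (Nat.lt_succ_self s)).congr fun n => hPe n

end Q

section Comp

open Groth.Agent.Lib.ModStalkLin Groth.Agent.Lib.H90DevCanon Groth.Agent.Lib.H90DevHub
  Groth.Agent.Lib.H90DevHub2 Groth.Agent.Lib.H90DevFiltP Groth.Agent.Lib.ModStalk

variable (k : Type u) [Field k] (X : Scheme.{u}) [X.Over (Spec (CommRingCat.of k))]
  [IsProper (X ↘ Spec (CommRingCat.of k))] (d : ℕ) {r : ℕ} (L : Fin r → X.Modules)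

/-- the points whose closure has dimension `d` -/
def IsTop (ξ : X) : Prop := topologicalKrullDim (closure ({ξ} : Set X)) = (d : WithBot ℕ∞)

/-- `χ(Z_ξ, L^n|_{Z_ξ})` for the reduced closed subscheme on `closure {ξ}` -/
noncomputable def compEuler (ξ : X) (n : Fin r → ℕ) : ℚ :=
  (@Curv2.euler k _
    (Scheme.IdealSheafData.vanishingIdeal (⟨closure ({ξ} : Set X), isClosed_closure⟩ : TopologicalSpace.Closeds X)).subscheme
    ⟨(Scheme.IdealSheafData.vanishingIdeal (⟨closure ({ξ} : Set X), isClosed_closure⟩ : TopologicalSpace.Closeds X)).subschemeι ≫ (X ↘ (Spec (CommRingCat.of k)))⟩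
    (Curv2.tensorPows
      (Coh.structureModule (Scheme.IdealSheafData.vanishingIdeal (⟨closure ({ξ} : Set X), isClosed_closure⟩ : TopologicalSpace.Closeds X)).subscheme)
      r (fun i => (Scheme.Modules.pullback
        (Scheme.IdealSheafData.vanishingIdeal (⟨closure ({ξ} : Set X), isClosed_closure⟩ : TopologicalSpace.Closeds X)).subschemeι).obj (L i)) n) : ℚ)

/-- the length of the stalk -/
noncomputable def len (G : X.Modules) (ξ : X) : ℕ∞ :=
  Module.length (X.presheaf.stalk ξ) (G.presheaf.stalk ξ)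

/-- the summand at `ξ` -/
noncomputable def term (G : X.Modules) (n : Fin r → ℕ) (ξ : X) : ℚ :=
  if topologicalKrullDim (closure ({ξ} : Set X)) = (d : WithBot ℕ∞) then
    ((len X G ξ).toNat : ℚ) * compEuler k X L ξ n
  else 0

variable {X}

theorem len_eq_zero_of_notMem_support {G : X.Modules} {ξ : X} (h : ξ ∉ CohB1.support G) :
    len X G ξ = 0 := by
  haveI := (notMem_support_iff G ξ).1 h
  exact Module.length_eq_zero

theorem term_eq_zero_of_notMem_support {G : X.Modules} (n : Fin r → ℕ) {ξ : X}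
    (h : ξ ∉ CohB1.support G) : term k X d L G n ξ = 0 := by
  unfold term
  split_ifs
  · rw [len_eq_zero_of_notMem_support h]; simp
  · rfl

theorem term_eq_zero_of_not_isTop {G : X.Modules} (n : Fin r → ℕ) {ξ : X}
    (h : ¬ IsTop X d ξ) : term k X d L G n ξ = 0 := by
  unfold term
  exact if_neg h

theorem support_term_subset (G : X.Modules) (n : Fin r → ℕ) :
    Function.support (term k X d L G n) ⊆ {ξ | IsTop X d ξ ∧ ξ ∈ CohB1.support G} := by
  intro ξ hξ
  rw [Function.mem_support] at hξ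
  refine ⟨?_, ?_⟩
  · by_contra h
    exact hξ (term_eq_zero_of_not_isTop k d L n h)
  · by_contra h
    exact hξ (term_eq_zero_of_notMem_support k d L n h)

/-- the inductive statement -/
structure Good (G : X.Modules) : Prop where
  fin : {ξ : X | IsTop X d ξ ∧ ξ ∈ CohB1.support G}.Finite
  lenFin : ∀ ξ, IsTop X d ξ → len X G ξ ≠ ⊤
  poly : PolyLt d (fun n => (Qe k X L G n : ℚ) - ∑ᶠ ξ, term k X d L G n ξ)

theorem len_add {S : ShortComplex X.Modules} (hS : S.ShortExact) (ξ : X) :
    len X S.X₂ ξ = len X S.X₁ ξ + len X S.X₃ ξ := by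
  obtain ⟨h1, h2, h3⟩ := stalkLin_exact hS ξ
  exact Module.length_eq_add_of_exact (stalkLin S.f ξ) (stalkLin S.g ξ) h1 h3 h2

theorem term_add {S : ShortComplex X.Modules} (hS : S.ShortExact) (n : Fin r → ℕ) (ξ : X)
    (h1 : IsTop X d ξ → len X S.X₁ ξ ≠ ⊤) (h3 : IsTop X d ξ → len X S.X₃ ξ ≠ ⊤) :
    term k X d L S.X₂ n ξ = term k X d L S.X₁ n ξ + term k X d L S.X₃ n ξ := by
  by_cases htop : IsTop X d ξ
  · have htop' : topologicalKrullDim (closure ({ξ} : Set X)) = (d : WithBot ℕ∞) := htop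
    unfold term
    rw [if_pos htop', if_pos htop', if_pos htop', len_add hS ξ, ENat.toNat_add (h1 htop) (h3 htop)]
    push_cast
    ring
  · rw [term_eq_zero_of_not_isTop k d L n htop, term_eq_zero_of_not_isTop k d L n htop,
      term_eq_zero_of_not_isTop k d L n htop, add_zero]

variable [AlgebraicGeometry.IsNoetherian X]

/-- a top-dimensional point does not lie in a closed set of smaller dimension -/
theorem notMem_of_isTop_of_dim {T : Set X} (hT : IsClosed T)
    (h : topologicalKrullDim ↥T + 1 ≤ (d : WithBot ℕ∞)) {ξ : X} (hξ : IsTop X d ξ) : ξ ∉ T := by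
  intro hmem
  have h1 : closure ({ξ} : Set X) ⊆ T := closure_minimal (Set.singleton_subset_iff.2 hmem) hT
  have h2 := Groth.Agent.Lib.DimDrop.topologicalKrullDim_mono h1
  rw [hξ] at h2
  exact not_add_one_le_self d ((add_le_add h2 le_rfl).trans h)

variable (hL : ∀ i, PicF.IsInvertible (L i))

include hL in
theorem Good.of_dim_lt {G : X.Modules} (hG : Coh.IsCoh G)
    (h : topologicalKrullDim ↥(CohB1.support G) + 1 ≤ (d : WithBot ℕ∞)) : Good k d L G := by
  have hnot : ∀ ξ, IsTop X d ξ → ξ ∉ CohB1.support G := fun ξ hξ =>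
    notMem_of_isTop_of_dim d (isClosed_support_of_isFT _ hG.2) h hξ
  refine ⟨?_, fun ξ hξ => ?_, ?_⟩
  · convert Set.finite_empty
    ext ξ
    simp only [Set.mem_ofPred_eq, Set.mem_empty_iff_false, iff_false, not_and]
    exact hnot ξ
  · rw [len_eq_zero_of_notMem_support (hnot ξ hξ)]; simp
  · refine (polyLt_Qe_of_dim k X L hL hG d h).congr fun n => ?_
    rw [finsum_eq_zero_of_forall_eq_zero, sub_zero]
    intro ξ
    by_cases htop : IsTop X d ξ
    · exact term_eq_zero_of_notMem_support k d L n (hnot ξ htop)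
    · exact term_eq_zero_of_not_isTop k d L n htop

include hL in
/-- extension: `Good` for the outer terms gives `Good` for the middle term -/
theorem Good.of_shortExact {S : ShortComplex X.Modules} (hS : S.ShortExact) (h₁ : Coh.IsCoh S.X₁)
    (h₂ : Coh.IsCoh S.X₂) (h₃ : Coh.IsCoh S.X₃) (g₁ : Good k d L S.X₁) (g₃ : Good k d L S.X₃) :
    Good k d L S.X₂ := by
  refine ⟨?_, fun ξ hξ => ?_, ?_⟩
  · refine (g₁.fin.union g₃.fin).subset ?_
    rintro ξ ⟨htop, hmem⟩
    rw [support_shortExact hS] at hmem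
    rcases hmem with h | h
    · exact Or.inl ⟨htop, h⟩
    · exact Or.inr ⟨htop, h⟩
  · rw [len_add hS ξ]
    exact WithTop.add_ne_top.2 ⟨g₁.lenFin ξ hξ, g₃.lenFin ξ hξ⟩
  · refine (g₁.poly.add g₃.poly).congr fun n => ?_
    have hsum : ∑ᶠ ξ, term k X d L S.X₂ n ξ =
        ∑ᶠ ξ, term k X d L S.X₁ n ξ + ∑ᶠ ξ, term k X d L S.X₃ n ξ := by
      rw [← finsum_add_distrib (g₁.fin.subset (support_term_subset k d L _ n))
        (g₃.fin.subset (support_term_subset k d L _ n))]
      exact finsum_congr fun ξ => term_add k d L hS n ξ (g₁.lenFin ξ) (g₃.lenFin ξ)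
    rw [hsum, Qe_add k X L hL S hS h₁ h₂ h₃ n]
    push_cast
    ring

include hL in
/-- `Good` for the middle term and the quotient gives `Good` for the sub-module -/
theorem Good.of_shortExact_left {S : ShortComplex X.Modules} (hS : S.ShortExact)
    (h₁ : Coh.IsCoh S.X₁) (h₂ : Coh.IsCoh S.X₂) (h₃ : Coh.IsCoh S.X₃) (g₂ : Good k d L S.X₂)
    (g₃ : Good k d L S.X₃) : Good k d L S.X₁ := by
  have hlen : ∀ ξ, IsTop X d ξ → len X S.X₁ ξ ≠ ⊤ := by
    intro ξ hξ h
    apply g₂.lenFin ξ hξ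
    rw [len_add hS ξ, h, top_add]
  refine ⟨?_, hlen, ?_⟩
  · refine g₂.fin.subset ?_
    rintro ξ ⟨htop, hmem⟩
    refine ⟨htop, ?_⟩
    rw [support_shortExact hS]
    exact Or.inl hmem
  · refine (g₂.poly.sub g₃.poly).congr fun n => ?_
    have hfin₁ : (Function.support (term k X d L S.X₁ n)).Finite :=
      g₂.fin.subset ((support_term_subset k d L _ n).trans (by
        rintro ξ ⟨htop, hmem⟩
        refine ⟨htop, ?_⟩
        rw [support_shortExact hS]
        exact Or.inl hmem))
    have hsum : ∑ᶠ ξ, term k X d L S.X₂ n ξ =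
        ∑ᶠ ξ, term k X d L S.X₁ n ξ + ∑ᶠ ξ, term k X d L S.X₃ n ξ := by
      rw [← finsum_add_distrib hfin₁ (g₃.fin.subset (support_term_subset k d L _ n))]
      exact finsum_congr fun ξ => term_add k d L hS n ξ (hlen ξ) (g₃.lenFin ξ)
    rw [hsum, Qe_add k X L hL S hS h₁ h₂ h₃ n]
    push_cast
    ring

/-- a top-dimensional point of an irreducible closed set of dimension `≤ d` is its generic point -/
theorem eq_of_isTop_of_mem {Zc : Closeds X} (hirr : IsIrreducible (Zc : Set X))
    (hdim : topologicalKrullDim ↥(Zc : Set X) ≤ (d : WithBot ℕ∞)) {ξ₀ : X}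
    (hξ₀ : IsGenericPoint ξ₀ (Zc : Set X)) {ξ : X} (hξ : IsTop X d ξ) (hmem : ξ ∈ (Zc : Set X)) :
    ξ = ξ₀ := by
  have h1 : closure ({ξ} : Set X) ⊆ (Zc : Set X) :=
    closure_minimal (Set.singleton_subset_iff.2 hmem) Zc.isClosed
  have h2 : closure ({ξ} : Set X) = (Zc : Set X) := by
    by_contra hne
    have h3 := Groth.Agent.Lib.DimDrop.topologicalKrullDim_add_one_le_of_ssubset isClosed_closure hirr
      h1 hne
    rw [hξ] at h3
    exact not_add_one_le_self d (h3.trans hdim)
  have h4 : IsGenericPoint ξ (Zc : Set X) := h2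
  exact h4.eq hξ₀

include hL in
/-- the hub case -/
theorem good_hub (ξ₀ : X) (hξ₀ : IsTop X d ξ₀) :
    Good k d L (Groth.Agent.Lib.H90DevCanon.hub
      (⟨closure ({ξ₀} : Set X), isClosed_closure⟩ : TopologicalSpace.Closeds X)) := by
  set Zc : Closeds X := ⟨closure ({ξ₀} : Set X), isClosed_closure⟩ with hZc
  have hirr : IsIrreducible (Zc : Set X) := isIrreducible_singleton.closure
  have hgen : IsGenericPoint ξ₀ (Zc : Set X) := rfl
  have hdim : topologicalKrullDim ↥(Zc : Set X) ≤ (d : WithBot ℕ∞) := le_of_eq hξ₀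
  have huniq : ∀ ξ, IsTop X d ξ → ξ ∈ CohB1.support (hub Zc) → ξ = ξ₀ := fun ξ hξ hmem =>
    eq_of_isTop_of_mem d hirr hdim hgen hξ (support_hub_subset Zc hmem)
  have hlen0 : len X (hub Zc) ξ₀ = 1 := by
    haveI := isSimpleModule_hub hirr hgen
    exact Module.length_eq_one _ _
  refine ⟨?_, fun ξ hξ => ?_, ?_⟩
  · refine (Set.finite_singleton ξ₀).subset ?_
    rintro ξ ⟨htop, hmem⟩
    exact huniq ξ htop hmem
  · by_cases hmem : ξ ∈ CohB1.support (hub Zc)
    · rw [huniq ξ hξ hmem, hlen0]; simp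
    · rw [len_eq_zero_of_notMem_support hmem]; simp
  · refine (PolyLt.zero d).congr fun n => ?_
    have hsum : ∑ᶠ ξ, term k X d L (hub Zc) n ξ = term k X d L (hub Zc) n ξ₀ := by
      refine finsum_eq_single _ ξ₀ fun ξ hne => ?_
      by_cases htop : IsTop X d ξ
      · refine term_eq_zero_of_notMem_support k d L n fun hmem => hne (huniq ξ htop hmem)
      · exact term_eq_zero_of_not_isTop k d L n htop
    have hξ₀' : topologicalKrullDim (closure ({ξ₀} : Set X)) = (d : WithBot ℕ∞) := hξ₀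
    rw [hsum, sub_eq_zero]
    unfold term
    rw [if_pos hξ₀', hlen0]
    simp only [ENat.toNat_one, Nat.cast_one, one_mul]
    unfold Qe compEuler
    haveI : X.IsSeparated :=
      Groth.Agent.Lib.H90ProperFin.isSeparated_of_over_affine (X ↘ (Spec (CommRingCat.of k)))
    letI : (ZZ Zc).Over (Spec (CommRingCat.of k)) := ⟨iZ Zc ≫ (X ↘ (Spec (CommRingCat.of k)))⟩
    haveI : (iZ Zc).IsOver (Spec (CommRingCat.of k)) := ⟨rfl⟩
    haveI : (Coh.structureModule (ZZ Zc)).IsQuasicoherent :=
      (Groth.Agent.Lib.CohFinAmple.isCoh_structureModule _).1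
    congr 1
    exact euler_tensorPows_pushforward k (iZ Zc) (Coh.structureModule (ZZ Zc)) r L hL n

include hL in
/-- the hub on an arbitrary irreducible closed subset of dimension `≤ d` -/
theorem good_hub' (Zc : Closeds X) (hirr : IsIrreducible (Zc : Set X))
    (hdim : topologicalKrullDim ↥(Zc : Set X) ≤ (d : WithBot ℕ∞)) : Good k d L (hub Zc) := by
  rcases eq_or_add_one_le hdim with h | h
  · obtain ⟨ξ₀, hξ₀⟩ := QuasiSober.sober hirr Zc.isClosed
    have hcl : closure ({ξ₀} : Set X) = (Zc : Set X) := hξ₀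
    have hZ : Zc = ⟨closure ({ξ₀} : Set X), isClosed_closure⟩ := Closeds.ext hcl.symm
    have htop : IsTop X d ξ₀ := by
      unfold IsTop
      rw [hcl]; exact h
    rw [hZ]
    exact good_hub k d L hL ξ₀ htop
  · exact Good.of_dim_lt k d L hL (isCoh_hub Zc)
      ((add_le_add (Groth.Agent.Lib.DimDrop.topologicalKrullDim_mono (support_hub_subset Zc))
        le_rfl).trans h)

include hL in
/-- the atom case -/
theorem good_atom {Zc : Closeds X} {C : X.Modules} (hat : IsAtomC Zc C) (hC : Coh.IsCoh C)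
    (hdim : topologicalKrullDim ↥(Zc : Set X) ≤ (d : WithBot ℕ∞)) : Good k d L C := by
  obtain ⟨p, hp⟩ := exists_mono_hub hat
  haveI := hp
  haveI : C.IsQuasicoherent := hC.1
  have hK : Coh.IsCoh (cokernel p) :=
    Groth.Agent.Lib.H90OXModExact.isCoh_cokernel p (isCoh_hub Zc)
  have hd := Groth.Agent.Lib.H90SnapGeom.dim_support_cokernel_hub hat.1 p
    (Groth.Agent.Lib.H90DevFilt.not_isZero_of_isAtom hat.isAtom)
  exact Good.of_shortExact_left k d L hL (Groth.Agent.Lib.H90DevTwo.shortExact_cokernel p) hC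
    (isCoh_hub Zc) hK (good_hub' k d L hL Zc hat.1 hdim)
    (Good.of_dim_lt k d L hL hK (hd.trans hdim))

include hL in
theorem good_of_isZero {G : X.Modules} (hG : IsZero G) : Good k d L G := by
  have hsupp : ∀ ξ, ξ ∉ CohB1.support G := fun ξ =>
    (notMem_support_iff G ξ).2 (subsingleton_stalk_of_isZero hG ξ)
  refine ⟨?_, fun ξ _ => ?_, ?_⟩
  · convert Set.finite_empty
    ext ξ
    simp only [Set.mem_ofPred_eq, Set.mem_empty_iff_false, iff_false, not_and]
    exact fun _ => hsupp ξ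
  · rw [len_eq_zero_of_notMem_support (hsupp ξ)]; simp
  · refine (PolyLt.zero d).congr fun n => ?_
    rw [Qe_of_isZero k X L hL hG, finsum_eq_zero_of_forall_eq_zero fun ξ =>
      term_eq_zero_of_notMem_support k d L n (hsupp ξ)]
    simp

include hL in
/-- induction along a dévissage filtration -/
theorem good_of_filt {M : X.Modules} (hF : Filt IsAtomC' M) (hM : Coh.IsCoh M)
    (hdim : topologicalKrullDim ↥(CohB1.support M) ≤ (d : WithBot ℕ∞)) : Good k d L M := by
  induction hF with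
  | zero M h => exact good_of_isZero k d L hL h
  | step A B f hf hA hAc hB hat ih =>
    haveI := hf
    haveI : A.IsQuasicoherent := hAc.1
    have hcC : Coh.IsCoh (cokernel f) := Groth.Agent.Lib.H90OXModExact.isCoh_cokernel f hB
    refine Good.of_shortExact k d L hL (Groth.Agent.Lib.H90DevTwo.shortExact_cokernel f) hAc hB hcC
      (ih hAc ?_) ?_
    · exact (Groth.Agent.Lib.DimDrop.topologicalKrullDim_mono (support_subset_of_mono f)).trans hdim
    · obtain ⟨Zc, hat⟩ := hat
      have hsub : (Zc : Set X) ⊆ CohB1.support B :=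
        atomC_subset_of_support_subset hat (isClosed_support_of_isFT _ hB.2)
          (support_subset_of_epi (cokernel.π f))
      exact good_atom k d L hL hat hcC
        ((Groth.Agent.Lib.DimDrop.topologicalKrullDim_mono hsub).trans hdim)

include hL in
/-- **Main theorem.** -/
theorem good_of_isCoh {M : X.Modules} (hM : Coh.IsCoh M)
    (hdim : topologicalKrullDim ↥(CohB1.support M) ≤ (d : WithBot ℕ∞)) : Good k d L M :=
  good_of_filt k d L hL (filt_atomC_of_isCoh hM) hM hdim

end Comp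

end Groth.Agent.Lib.H59SnapComp
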