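import Groth.Agent.Lib.H59NGeom5
import Groth.Agent.Lib.H59Fubini
import Mathlib.AlgebraicGeometry.Morphisms.LocalFlatDescent

/-!
# Splitting finite étale covers (helper59)

A finite étale morphism of constant rank `n` becomes a trivial cover (a disjoint union of `n`
sections) after a finite locally free surjective base change.
-/

set_option autoImplicit false
set_option linter.style.haveILetI false
universe u
open CategoryTheory AlgebraicGeometry CategoryTheory.Limits MorphismProperty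

namespace Groth.Agent.Lib.H59Split

open Groth.Agent.Lib.H59FibInt Groth.Agent.Lib.H59NGeom

/-- `q : Q ⟶ Y` is a trivial cover of degree `n`: there are `n` sections which are open
immersions with pairwise disjoint ranges covering `Q`. -/
def SplitBy {Q Y : Scheme.{u}} (q : Q ⟶ Y) (n : ℕ) : Prop :=
  ∃ s : Fin n → (Y ⟶ Q), (∀ i, s i ≫ q = 𝟙 Y) ∧ (∀ i, IsOpenImmersion (s i)) ∧
    (∀ z : Q, ∃ i, z ∈ Set.range (s i)) ∧
    (∀ i j, i ≠ j → Disjoint (Set.range (s i)) (Set.range (s j)))

theorem range_fst_of_isPullback {W A B C : Scheme.{u}} {a : W ⟶ A} {b : W ⟶ B} {c : A ⟶ C}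
    {d : B ⟶ C} (h : IsPullback a b c d) : Set.range a = c ⁻¹' Set.range d := by
  have hsurj : Set.range ⇑h.isoPullback.hom = Set.univ :=
    Set.range_eq_univ.mpr h.isoPullback.hom.homeomorph.surjective
  rw [← h.isoPullback_hom_fst, Scheme.Hom.comp_base, TopCat.coe_comp, Set.range_comp,
    hsurj, Set.image_univ, Scheme.Pullback.range_fst]

theorem sepDeg_id {Y : Scheme.{u}} (y : Y) : sepDeg (𝟙 Y) y = 1 := by
  unfold sepDeg
  letI := ((𝟙 Y : Y ⟶ Y).residueFieldMap y).hom.toAlgebra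
  have hbij : Function.Bijective (algebraMap (Y.residueField ((𝟙 Y : Y ⟶ Y) y))
      (Y.residueField y)) := by
    change Function.Bijective ((𝟙 Y : Y ⟶ Y).residueFieldMap y).hom
    rw [Scheme.residueFieldMap_id]
    exact Function.bijective_id
  have := Field.finSepDegree_eq_of_equiv (Y.residueField ((𝟙 Y : Y ⟶ Y) y)) _ _
    (AlgEquiv.ofBijective (Algebra.ofId _ _) hbij)
  rw [← this, Field.finSepDegree_self]

/-- Sections have separable degree one. -/
theorem sepDeg_of_section {Q Y : Scheme.{u}} (q : Q ⟶ Y) (s : Y ⟶ Q) (hs : s ≫ q = 𝟙 Y)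
    [LocallyQuasiFinite s] (y : Y) : sepDeg q (s y) = 1 := by
  have h1 := sepDeg_comp s q y
  rw [hs, sepDeg_id] at h1
  exact Nat.eq_one_of_mul_eq_one_right h1.symm

theorem section_apply {Q Y : Scheme.{u}} (q : Q ⟶ Y) (s : Y ⟶ Q) (hs : s ≫ q = 𝟙 Y) (y : Y) :
    q (s y) = y := by
  rw [← Scheme.Hom.comp_apply, hs]
  rfl

/-- A trivial cover of degree `n` has `n` geometric points in every fibre. -/
theorem fibreIntegral_one_of_splitBy {Q Y : Scheme.{u}} (q : Q ⟶ Y) (n : ℕ) (h : SplitBy q n)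
    (y : Y) : MoreMor.fibreIntegral q (fun _ => 1) y = n := by
  obtain ⟨s, hs, hopen, hcov, hdisj⟩ := h
  have hsingle : ∀ i (z : Q), (q z = y ∧ z ∈ Set.range (s i)) ↔ z = s i y := by
    intro i z
    constructor
    · rintro ⟨hz, y', rfl⟩
      rw [section_apply q (s i) (hs i)] at hz
      rw [hz]
    · rintro rfl
      exact ⟨section_apply q (s i) (hs i) y, y, rfl⟩
  have hJ : ∀ i, J q (Set.range (s i)) (fun _ => 1) y = 1 := by
    intro i
    haveI := hopen i
    rw [J_singleton q (fun _ => 1) y (s i y) (hsingle i), sepDeg_of_section q (s i) (hs i)]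
    simp
  have huniv : (Set.univ : Set Q) = ⋃ i, Set.range (s i) := by
    ext z
    simp only [Set.mem_univ, Set.mem_iUnion, true_iff]
    exact hcov z
  rw [fibreIntegral_eq_J_univ, huniv, J_iUnion q (fun i => Set.range (s i)) (fun _ => 1) y]
  · simp_rw [hJ]
    rw [finsum_eq_sum_of_fintype]
    simp
  · intro i j hij z _ hzi hzj
    exact Set.disjoint_left.mp (hdisj i j hij) hzi hzj
  · intro i
    have : {z : Q | q z = y ∧ z ∈ Set.range (s i)} = {s i y} := by
      ext z
      exact hsingle i z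
    rw [this]
    exact Set.finite_singleton _

/-- A cover isomorphic to a finite disjoint union of copies of the base is split by sections. -/
theorem splitBy_of_iso {Q Y : Scheme.{u}} (q : Q ⟶ Y) (n : ℕ)
    (e : Q ≅ ∐ fun _ : Fin n => Y)
    (he : ∀ i : Fin n, Sigma.ι (fun _ : Fin n => Y) i ≫ e.inv ≫ q = 𝟙 Y) : SplitBy q n := by
  refine ⟨fun i => Sigma.ι (fun _ : Fin n => Y) i ≫ e.inv, fun i => by rw [Category.assoc, he i],
    fun i => inferInstance, ?_, ?_⟩
  · intro z
    obtain ⟨i, y, hy⟩ := (sigmaOpenCover (fun _ : Fin n => Y)).exists_eq (e.hom z)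
    change Sigma.ι (fun _ : Fin n => Y) i y = e.hom z at hy
    refine ⟨i, y, ?_⟩
    rw [Scheme.Hom.comp_apply, hy, ← Scheme.Hom.comp_apply, e.hom_inv_id]
    rfl
  · intro i j hij
    rw [Set.disjoint_left]
    rintro _ ⟨y, rfl⟩ ⟨y', hy'⟩
    rw [Scheme.Hom.comp_apply, Scheme.Hom.comp_apply] at hy'
    have hinj := e.inv.homeomorph.injective hy'
    have := (sigmaι_eq_iff (fun _ : Fin n => Y) j i y' y).mp hinj
    exact hij (congrArg Sigma.fst this).symm

/-- A cover split by sections is isomorphic to a finite disjoint union of copies of the base. -/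
theorem exists_iso_of_splitBy {Q Y : Scheme.{u}} (q : Q ⟶ Y) (n : ℕ) (h : SplitBy q n) :
    ∃ e : Q ≅ ∐ fun _ : Fin n => Y,
      ∀ i : Fin n, Sigma.ι (fun _ : Fin n => Y) i ≫ e.inv ≫ q = 𝟙 Y := by
  obtain ⟨s, hs, hopen, hcov, hdisj⟩ := h
  obtain ⟨hc⟩ := nonempty_isColimit_cofanMk_of s (by
      rw [eq_top_iff]
      intro z _
      obtain ⟨i, hi⟩ := hcov z
      exact TopologicalSpace.Opens.mem_iSup.mpr ⟨i, hi⟩)
    (by
      intro i j hij
      change Disjoint (s i).opensRange (s j).opensRange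
      rw [disjoint_iff, TopologicalSpace.Opens.ext_iff]
      simpa [Set.disjoint_iff_inter_eq_empty] using hdisj i j hij)
  let e : Q ≅ ∐ fun _ : Fin n => Y :=
    hc.coconePointUniqueUpToIso (coproductIsCoproduct (fun _ : Fin n => Y))
  refine ⟨e, fun i => ?_⟩
  have : Sigma.ι (fun _ : Fin n => Y) i ≫ e.inv = s i :=
    hc.comp_coconePointUniqueUpToIso_inv (coproductIsCoproduct (fun _ : Fin n => Y)) ⟨i⟩
  rw [← Category.assoc, this, hs i]

/-- The complement of the diagonal in `X ×_S X` has rank one less over `X`. -/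
theorem finrank_compl_diagonal {S X : Scheme.{u}} (φ : X ⟶ S) [IsFinite φ] [Etale φ]
    (X' : (pullback φ φ).Opens)
    (hX' : (X' : Set ↑(pullback φ φ)) = (Set.range (pullback.diagonal φ))ᶜ)
    [IsFinite (X'.ι ≫ pullback.snd φ φ)] (x : X) :
    ((X'.ι ≫ pullback.snd φ φ).finrank x : ℤ) + 1 = (φ.finrank (φ x) : ℤ) := by
  set p₂ := pullback.snd φ φ with hp₂
  set Δ := pullback.diagonal φ with hΔ
  have hΔp : Δ ≫ p₂ = 𝟙 X := pullback.diagonal_snd φ
  haveI : LocallyQuasiFinite p₂ := locallyQuasiFinite_of_etale p₂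
  have h1 : MoreMor.fibreIntegral p₂ (fun _ => 1) x = (φ.finrank (φ x) : ℤ) := by
    rw [fibreIntegral_one_eq_finrank p₂ x, hp₂, Scheme.Hom.finrank_pullback_snd]
  have h2 : MoreMor.fibreIntegral (X'.ι ≫ p₂) (fun _ => 1) x =
      ((X'.ι ≫ p₂).finrank x : ℤ) := fibreIntegral_one_eq_finrank _ x
  have h3 : MoreMor.fibreIntegral (X'.ι ≫ p₂) (fun _ => 1) x = J p₂ (X' : Set _) (fun _ => 1) x :=
    fibreIntegral_ι_comp X' p₂ (fun _ => 1) x
  have hsingle : ∀ z : ↑(pullback φ φ), (p₂ z = x ∧ z ∈ Set.range Δ) ↔ z = Δ x := by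
    intro z
    constructor
    · rintro ⟨hz, x', rfl⟩
      rw [section_apply p₂ Δ hΔp] at hz
      rw [hz]
    · rintro rfl
      exact ⟨section_apply p₂ Δ hΔp x, x, rfl⟩
  have h4 : J p₂ (Set.range Δ) (fun _ => 1) x = 1 := by
    rw [J_singleton p₂ (fun _ => 1) x (Δ x) hsingle, sepDeg_of_section p₂ Δ hΔp]
    simp
  let Sb : Bool → Set ↑(pullback φ φ) := fun b => if b then Set.range Δ else (X' : Set _)
  have huniv : (Set.univ : Set ↑(pullback φ φ)) = ⋃ b, Sb b := by
    ext z
    simp only [Set.mem_univ, Set.mem_iUnion, true_iff]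
    by_cases hz : z ∈ Set.range Δ
    · exact ⟨true, hz⟩
    · exact ⟨false, by change z ∈ (X' : Set _); rw [hX']; exact hz⟩
  have hfib : (p₂ ⁻¹' {x}).Finite := p₂.finite_preimage_singleton x
  have h5 : J p₂ Set.univ (fun _ => 1) x = ∑ᶠ b, J p₂ (Sb b) (fun _ => 1) x := by
    rw [huniv]
    refine J_iUnion p₂ Sb (fun _ => 1) x ?_ ?_
    · intro i j hij z _ hzi hzj
      cases i <;> cases j
      · exact hij rfl
      · have : z ∈ (X' : Set _) := hzi
        rw [hX'] at this
        exact this hzj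
      · have : z ∈ (X' : Set _) := hzj
        rw [hX'] at this
        exact this hzi
      · exact hij rfl
    · intro b
      refine hfib.subset ?_
      rintro z ⟨hz, -⟩
      exact hz
  rw [finsum_eq_sum_of_fintype, Fintype.sum_bool] at h5
  have h6 : J p₂ (Sb true) (fun _ => 1) x = 1 := h4
  have h7 : J p₂ (Sb false) (fun _ => 1) x = ((X'.ι ≫ p₂).finrank x : ℤ) := by
    rw [← h2, h3]
    rfl
  rw [← h1, fibreIntegral_eq_J_univ, h5, h6, h7]
  ring

theorem splitBy_of_iso_comp {Q Q' Y : Scheme.{u}} (θ : Q' ≅ Q) (q : Q ⟶ Y) (n : ℕ)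
    (h : SplitBy (θ.hom ≫ q) n) : SplitBy q n := by
  obtain ⟨s, hs, hopen, hcov, hdisj⟩ := h
  refine ⟨fun i => s i ≫ θ.hom, fun i => by rw [Category.assoc, hs i], fun i => ?_, ?_, ?_⟩
  · haveI := hopen i
    infer_instance
  · intro z
    obtain ⟨i, y, hy⟩ := hcov (θ.inv z)
    refine ⟨i, y, ?_⟩
    rw [Scheme.Hom.comp_apply, hy, ← Scheme.Hom.comp_apply, θ.inv_hom_id]
    rfl
  · intro i j hij
    rw [Set.disjoint_left]
    rintro _ ⟨y, rfl⟩ ⟨y', hy'⟩
    rw [Scheme.Hom.comp_apply, Scheme.Hom.comp_apply] at hy'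
    have hinj := θ.hom.homeomorph.injective hy'
    exact Set.disjoint_left.mp (hdisj i j hij) ⟨y, rfl⟩ ⟨y', hinj⟩

/-- The inductive step: splitting off the diagonal. -/
theorem splitBy_succ {S X Y : Scheme.{u}} (φ : X ⟶ S) [IsFinite φ] [Etale φ]
    (X' : (pullback φ φ).Opens)
    (hX' : (X' : Set ↑(pullback φ φ)) = (Set.range (pullback.diagonal φ))ᶜ)
    (ψ' : Y ⟶ X) (n : ℕ) (h : SplitBy (pullback.snd (X'.ι ≫ pullback.snd φ φ) ψ') n) :
    SplitBy (pullback.snd (pullback.snd φ φ) ψ') (n + 1) := by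
  set p₂ := pullback.snd φ φ with hp₂
  set Δ := pullback.diagonal φ with hΔ
  set ρ := X'.ι ≫ p₂ with hρ
  obtain ⟨s', hs', hopen', hcov', hdisj'⟩ := h
  have hΔp : Δ ≫ p₂ = 𝟙 X := pullback.diagonal_snd φ
  set q' := pullback.snd p₂ ψ' with hq'
  set fst' := pullback.fst p₂ ψ' with hfst'
  have ht : IsPullback q' fst' ψ' p₂ := (IsPullback.of_hasPullback p₂ ψ').flip
  -- the diagonal section
  let σ₀ : Y ⟶ pullback p₂ ψ' := pullback.lift (ψ' ≫ Δ) (𝟙 Y)
    (by rw [Category.assoc, hΔp, Category.comp_id, Category.id_comp])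
  have hσ₀fst : σ₀ ≫ fst' = ψ' ≫ Δ := pullback.lift_fst _ _ _
  have hσ₀snd : σ₀ ≫ q' = 𝟙 Y := pullback.lift_snd _ _ _
  have hσ₀ : IsPullback σ₀ ψ' fst' Δ := by
    refine IsPullback.of_right ?_ hσ₀fst ht
    rw [hσ₀snd, hΔp]
    exact IsPullback.of_horiz_isIso ⟨by simp⟩
  haveI : IsOpenImmersion σ₀ :=
    MorphismProperty.of_isPullback (P := @IsOpenImmersion) hσ₀.flip inferInstance
  have hrangeσ₀ : Set.range σ₀ = fst' ⁻¹' Set.range Δ := range_fst_of_isPullback hσ₀
  -- the other sections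
  let j' : pullback ρ ψ' ⟶ pullback p₂ ψ' :=
    pullback.lift (pullback.fst ρ ψ' ≫ X'.ι) (pullback.snd ρ ψ')
      (by rw [Category.assoc, ← hρ, pullback.condition])
  have hj'fst : j' ≫ fst' = pullback.fst ρ ψ' ≫ X'.ι := pullback.lift_fst _ _ _
  have hj'snd : j' ≫ q' = pullback.snd ρ ψ' := pullback.lift_snd _ _ _
  have hj' : IsPullback j' (pullback.fst ρ ψ') fst' X'.ι := by
    refine IsPullback.of_right ?_ hj'fst ht
    rw [hj'snd, ← hρ]
    exact (IsPullback.of_hasPullback ρ ψ').flip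
  haveI : IsOpenImmersion j' :=
    MorphismProperty.of_isPullback (P := @IsOpenImmersion) hj'.flip inferInstance
  have hrangej' : Set.range j' = fst' ⁻¹' (X' : Set _) := by
    rw [range_fst_of_isPullback hj', Scheme.Opens.range_ι]
  refine ⟨Fin.cons σ₀ (fun i => s' i ≫ j'), ?_, ?_, ?_, ?_⟩
  · intro i
    refine Fin.cases ?_ (fun i => ?_) i
    · exact hσ₀snd
    · change (s' i ≫ j') ≫ q' = 𝟙 Y
      rw [Category.assoc, hj'snd, hs' i]
  · intro i
    refine Fin.cases ?_ (fun i => ?_) i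
    · change IsOpenImmersion σ₀
      infer_instance
    · change IsOpenImmersion (s' i ≫ j')
      haveI := hopen' i
      infer_instance
  · intro z
    by_cases hz : fst' z ∈ Set.range Δ
    · refine ⟨0, ?_⟩
      change z ∈ Set.range σ₀
      rw [hrangeσ₀]
      exact hz
    · have hz' : z ∈ Set.range j' := by
        rw [hrangej', hX']
        exact hz
      obtain ⟨w, rfl⟩ := hz'
      obtain ⟨i, y, rfl⟩ := hcov' w
      refine ⟨i.succ, y, ?_⟩
      change (s' i ≫ j') y = j' (s' i y)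
      rw [Scheme.Hom.comp_apply]
  · intro i j
    refine Fin.cases ?_ (fun i => ?_) i <;> refine Fin.cases ?_ (fun j => ?_) j
    · intro h; exact absurd rfl h
    · intro _
      rw [Set.disjoint_left]
      intro z hz0 hz1
      have h0 : z ∈ Set.range σ₀ := hz0
      rw [hrangeσ₀] at h0
      obtain ⟨y, hy⟩ : z ∈ Set.range (s' j ≫ j') := hz1
      have h1 : z ∈ Set.range j' := ⟨s' j y, by rw [← hy, Scheme.Hom.comp_apply]⟩
      rw [hrangej', hX'] at h1
      exact h1 h0
    · intro _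
      rw [Set.disjoint_left]
      intro z hz1 hz0
      have h0 : z ∈ Set.range σ₀ := hz0
      rw [hrangeσ₀] at h0
      obtain ⟨y, hy⟩ : z ∈ Set.range (s' i ≫ j') := hz1
      have h1 : z ∈ Set.range j' := ⟨s' i y, by rw [← hy, Scheme.Hom.comp_apply]⟩
      rw [hrangej', hX'] at h1
      exact h1 h0
    · intro hij
      have hij' : i ≠ j := fun h => hij (congrArg Fin.succ h)
      rw [Set.disjoint_left]
      intro z hzi hzj
      obtain ⟨y, hy⟩ : z ∈ Set.range (s' i ≫ j') := hzi
      obtain ⟨y', hy'⟩ : z ∈ Set.range (s' j ≫ j') := hzj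
      rw [Scheme.Hom.comp_apply] at hy hy'
      have hinj := j'.isOpenEmbedding.injective (hy.trans hy'.symm)
      exact Set.disjoint_left.mp (hdisj' i j hij') ⟨y, rfl⟩ ⟨y', hinj.symm⟩

/-- **Splitting**: a finite étale morphism of constant rank `n` is split by a finite locally free
surjective base change. -/
theorem exists_splitBy (n : ℕ) : ∀ {S X : Scheme.{u}} (φ : X ⟶ S) [IsFinite φ] [Etale φ],
    (∀ s, φ.finrank s = n) → ∃ (Y : Scheme.{u}) (ψ : Y ⟶ S), IsFinite ψ ∧ Flat ψ ∧
      LocallyOfFinitePresentation ψ ∧ Surjective ψ ∧ SplitBy (pullback.snd φ ψ) n := by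
  induction n with
  | zero =>
    intro S X φ _ _ hrank
    haveI : IsEmpty X := ⟨fun x => by
      have := Scheme.Hom.one_le_finrank_map φ x
      rw [hrank] at this
      omega⟩
    refine ⟨S, 𝟙 S, inferInstance, inferInstance, inferInstance, inferInstance, ?_⟩
    refine ⟨fun i => i.elim0, fun i => i.elim0, fun i => i.elim0, fun z => ?_, fun i => i.elim0⟩
    exact (IsEmpty.false (pullback.fst φ (𝟙 S) z)).elim
  | succ n ih =>
    intro S X φ _ _ hrank
    have hΔclosed : IsClosed (Set.range (pullback.diagonal φ)) :=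
      (pullback.diagonal φ).isClosedEmbedding.isClosed_range
    have hΔopen : IsOpen (Set.range (pullback.diagonal φ)) :=
      (pullback.diagonal φ).isOpenEmbedding.isOpen_range
    let X' : (pullback φ φ).Opens := ⟨(Set.range (pullback.diagonal φ))ᶜ, hΔclosed.isOpen_compl⟩
    haveI : IsClosedImmersion X'.ι := .of_isPreimmersion _ (by
      rw [Scheme.Opens.range_ι]
      exact hΔopen.isClosed_compl)
    haveI : IsFinite (X'.ι ≫ pullback.snd φ φ) := inferInstance
    haveI : Etale (X'.ι ≫ pullback.snd φ φ) := inferInstance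
    have hrankρ : ∀ x, (X'.ι ≫ pullback.snd φ φ).finrank x = n := by
      intro x
      have := finrank_compl_diagonal φ X' rfl x
      rw [hrank] at this
      push_cast at this
      omega
    obtain ⟨Y, ψ', hfin, hflat, hlfp, hsurj, hsplit⟩ := ih (X'.ι ≫ pullback.snd φ φ) hrankρ
    haveI : Surjective φ := (Scheme.Hom.one_le_finrank_iff_surjective φ).mp (fun s => by
      change 1 ≤ φ.finrank s
      rw [hrank]
      omega)
    refine ⟨Y, ψ' ≫ φ, inferInstance, inferInstance, inferInstance, inferInstance, ?_⟩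
    refine splitBy_of_iso_comp (pullbackLeftPullbackSndIso φ φ ψ') _ (n + 1) ?_
    rw [pullbackLeftPullbackSndIso_hom_snd]
    exact splitBy_succ φ X' rfl ψ' n hsplit

/-- An étale separated quasi-compact morphism with a constant number of geometric points in its
fibres is finite. -/
theorem isFinite_of_fibreIntegral_one_const {X Y : Scheme.{u}} (f : X ⟶ Y) [Etale f]
    [IsSeparated f] [QuasiCompact f] (n : ℤ)
    (h : ∀ y, MoreMor.fibreIntegral f (fun _ => 1) y = n) : IsFinite f := by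
  haveI : LocallyQuasiFinite f := locallyQuasiFinite_of_etale f
  have hex : ∀ y : Y, ∃ U : Y.Opens, y ∈ U ∧ IsFinite (f ∣_ U) := fun y =>
    exists_isFinite_of_const f y Set.univ isOpen_univ (Set.mem_univ _)
      (fun z _ => by rw [h z, h y])
  choose U hyU hU using hex
  have hsup : iSup U = ⊤ := by
    rw [eq_top_iff]
    intro y _
    exact TopologicalSpace.Opens.mem_iSup.mpr ⟨y, hyU y⟩
  exact (IsZariskiLocalAtTarget.iff_of_iSup_eq_top (P := @IsFinite) U hsup).mpr hU

/-- An affine morphism which becomes a trivial cover after a finite locally free surjective base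
change is finite étale. -/
theorem isFinite_etale_of_splitBy {X S Y : Scheme.{u}} (φ : X ⟶ S) [IsAffineHom φ] (ψ : Y ⟶ S)
    [IsFinite ψ] [Flat ψ] [Surjective ψ] (n : ℕ) (h : SplitBy (pullback.snd φ ψ) n) :
    IsFinite φ ∧ Etale φ := by
  obtain ⟨e, he⟩ := exists_iso_of_splitBy _ n h
  have hq : pullback.snd φ ψ = e.hom ≫ Sigma.desc (fun _ : Fin n => 𝟙 Y) := by
    rw [← cancel_epi e.inv, Iso.inv_hom_id_assoc]
    refine Sigma.hom_ext _ _ fun i => ?_
    rw [he i, Sigma.ι_desc]
  haveI : Etale (Sigma.desc (fun _ : Fin n => 𝟙 Y)) :=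
    IsZariskiLocalAtSource.sigmaDesc (fun _ => inferInstance)
  have hqet : Etale (pullback.snd φ ψ) := by
    rw [hq]
    infer_instance
  have hQ : (@Surjective ⊓ @Flat ⊓ @QuasiCompact : MorphismProperty Scheme.{u}) ψ :=
    ⟨⟨inferInstance, inferInstance⟩, inferInstance⟩
  haveI hφet : Etale φ := MorphismProperty.of_isPullback_of_descendsAlong (P := @Etale)
    (Q := (@Surjective ⊓ @Flat ⊓ @QuasiCompact : MorphismProperty Scheme.{u}))
    (IsPullback.of_hasPullback φ ψ).flip hQ hqet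
  refine ⟨?_, hφet⟩
  haveI : LocallyQuasiFinite φ := locallyQuasiFinite_of_etale φ
  refine isFinite_of_fibreIntegral_one_const φ n fun s => ?_
  obtain ⟨y, rfl⟩ := ψ.surjective s
  have hfin : ∀ v : S, (φ ⁻¹' {v}).Finite := fun v => φ.finite_preimage_singleton v
  rw [← Groth.Agent.S1418.result φ hfin (pullback.snd φ ψ) (pullback.fst φ ψ) ψ
    (IsPullback.of_hasPullback φ ψ) (fun _ => 1) y]
  exact fibreIntegral_one_of_splitBy _ n h y

end Groth.Agent.Lib.H59Split
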