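import Groth.Agent.Lib.H59PowerSeriesLift
import Groth.Agent.Lib.ArtFunSurj

/-!
# T¹-lifting for pro-representable functors (helper59)

* `artTsze A M`: the trivial square-zero extension `A ⊕ M` of an Artinian object by a finite module, as an object.
* `HasTszeLiftingFin`, `ker_eq_bot_of_lift_fin`: the finite-module version of `ker_eq_bot_of_lift`.
-/

set_option autoImplicit false
set_option linter.unusedSectionVars false
universe u v
open CategoryTheory ArtFun ArtFun.Art IsLocalRing

namespace Groth.Agent.Lib.H59T1Lift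

open Groth.Agent.Lib.H59PowerSeriesLift

section Obj

variable {k : Type u} [Field k] (A : Art k k)
variable (M : Type u) [AddCommGroup M] [Module A M] [Module (↥A)ᵐᵒᵖ M] [IsCentralScalar A M]
  [Module k M] [IsScalarTower k A M] [IsScalarTower k (↥A)ᵐᵒᵖ M]

theorem isLocalRing_tsze : IsLocalRing (TrivSqZeroExt A M) := by
  refine IsLocalRing.of_isUnit_or_isUnit_one_sub_self fun a => ?_
  rcases IsLocalRing.isUnit_or_isUnit_one_sub_self a.fst with h | h
  · exact Or.inl (TrivSqZeroExt.isUnit_iff_isUnit_fst.2 h)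
  · refine Or.inr (TrivSqZeroExt.isUnit_iff_isUnit_fst.2 ?_)
    rw [TrivSqZeroExt.fst_sub, TrivSqZeroExt.fst_one]
    exact h

theorem isArtinianRing_tsze [Module.Finite A M] : IsArtinianRing (TrivSqZeroExt A M) :=
  have : Module.Finite A (TrivSqZeroExt A M) := inferInstanceAs (Module.Finite A (A × M))
  IsArtinianRing.of_finite A _

/-- `A ⊕ M` as an object. -/
noncomputable def artTsze [Module.Finite A M] : Art k k :=
  { carrier := TrivSqZeroExt A M
    isLocalRing := isLocalRing_tsze A M
    isArtinianRing := isArtinianRing_tsze A M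
    res := A.res.comp (TrivSqZeroExt.fstHom k A M)
    res_surjective := fun c => by
      obtain ⟨a, ha⟩ := A.res_surjective c
      exact ⟨TrivSqZeroExt.inl a, ha⟩ }

/-- the projection `A ⊕ M → A`. -/
noncomputable def artTszeFst [Module.Finite A M] : artTsze A M ⟶ A :=
  ⟨TrivSqZeroExt.fstHom k A M, rfl⟩

/-- the section `A → A ⊕ M`. -/
noncomputable def artTszeInl [Module.Finite A M] : A ⟶ artTsze A M :=
  ⟨TrivSqZeroExt.inlAlgHom k A M, AlgHom.ext fun a => rfl⟩

variable {M}
variable {M' : Type u} [AddCommGroup M'] [Module A M'] [Module (↥A)ᵐᵒᵖ M'] [IsCentralScalar A M']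
  [Module k M'] [IsScalarTower k A M'] [IsScalarTower k (↥A)ᵐᵒᵖ M']

/-- the map `A ⊕ M' → A ⊕ M` induced by a linear map. -/
noncomputable def artTszeMap [Module.Finite A M] [Module.Finite A M'] (f : M' →ₗ[A] M) :
    artTsze A M' ⟶ artTsze A M :=
  ⟨tszeMapGen (k := k) f, AlgHom.ext fun a => rfl⟩

theorem artTszeInl_comp_fst [Module.Finite A M'] : artTszeInl A M' ≫ artTszeFst A M' = 𝟙 A :=
  Art.hom_ext (AlgHom.ext fun _ => rfl)

theorem ker_artTszeFst_mul [Module.Finite A M'] :
    RingHom.ker (artTszeFst A M').toAlgHom * RingHom.ker (artTszeFst A M').toAlgHom = ⊥ := by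
  rw [eq_bot_iff, Ideal.mul_le]
  intro (x : TrivSqZeroExt A M') hx (y : TrivSqZeroExt A M') hy
  rw [Ideal.mem_bot]
  have hx0 : x.fst = 0 := hx
  have hy0 : y.fst = 0 := hy
  change (x * y : TrivSqZeroExt A M') = 0
  apply TrivSqZeroExt.ext
  · rw [TrivSqZeroExt.fst_mul, hx0, zero_mul, TrivSqZeroExt.fst_zero]
  · rw [TrivSqZeroExt.snd_mul, hx0, hy0, zero_smul, MulOpposite.op_zero, zero_smul, add_zero,
      TrivSqZeroExt.snd_zero]

theorem artTszeMap_comp_fst [Module.Finite A M] [Module.Finite A M'] (f : M' →ₗ[A] M) :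
    artTszeMap A f ≫ artTszeFst A M = artTszeFst A M' :=
  Art.hom_ext (AlgHom.ext fun _ => rfl)

theorem artTszeInl_comp_map [Module.Finite A M] [Module.Finite A M'] (f : M' →ₗ[A] M) :
    artTszeInl A M' ≫ artTszeMap A f = artTszeInl A M :=
  Art.hom_ext (AlgHom.ext fun a => TrivSqZeroExt.ext rfl (by
    change f (0 : M') = 0
    exact map_zero f))

theorem artTszeMap_surjective [Module.Finite A M] [Module.Finite A M'] (f : M' →ₗ[A] M)
    (hf : Function.Surjective f) : Function.Surjective (artTszeMap A f) := by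
  intro x
  obtain ⟨m', hm'⟩ := hf x.snd
  exact ⟨((x.fst, m') : TrivSqZeroExt A M'), TrivSqZeroExt.ext rfl hm'⟩

end Obj

section Main

open Groth.Agent.Lib.H59PowerSeries Groth.Agent.Lib.H59PowerSeriesCRing Groth.Agent.Lib.H59BaseCRing

variable {k : Type u} [Field k]

/-- the lifting property for trivial square-zero extensions by finite modules. -/
def HasTszeLiftingFin (R : Type u) [CommRing R] [Algebra k R] : Prop :=
  ∀ (A : ArtFun.Art k k) (M M' : Type u) [AddCommGroup M] [Module (↥A) M] [Module (↥A)ᵐᵒᵖ M]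
    [IsCentralScalar (↥A) M] [Module k M] [IsScalarTower k (↥A) M] [IsScalarTower k (↥A)ᵐᵒᵖ M]
    [AddCommGroup M'] [Module (↥A) M'] [Module (↥A)ᵐᵒᵖ M'] [IsCentralScalar (↥A) M'] [Module k M']
    [IsScalarTower k (↥A) M'] [IsScalarTower k (↥A)ᵐᵒᵖ M'] [Module.Finite (↥A) M] [Module.Finite (↥A) M']
    (f : M' →ₗ[↥A] M),
    Function.Surjective f →
      ∀ φ : R →ₐ[k] TrivSqZeroExt (↥A) M,
        ∃ ψ : R →ₐ[k] TrivSqZeroExt (↥A) M',
          ∀ r : R, (ψ r).fst = (φ r).fst ∧ f (ψ r).snd = (φ r).snd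

variable [CharZero k] (n : ℕ)

theorem ker_eq_bot_of_lift_fin {R : Type u} [CommRing R] [Algebra k R]
    (u : MvPowerSeries (Fin n) k →ₐ[k] R) (hu : Function.Surjective u)
    (hJ : RingHom.ker u ≤ maximalIdeal (MvPowerSeries (Fin n) k) ^ 2)
    (H : HasTszeLiftingFin (k := k) R) : RingHom.ker u = ⊥ := by
  classical
  by_contra hne
  -- the order of the kernel
  have hex : ∃ N, ¬ RingHom.ker u ≤ maximalIdeal (MvPowerSeries (Fin n) k) ^ N := by
    by_contra hall
    push Not at hall
    apply hne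
    rw [eq_bot_iff]
    intro g hg
    have : g ∈ ⨅ i, maximalIdeal (MvPowerSeries (Fin n) k) ^ i := by
      rw [Ideal.mem_iInf]
      exact fun i => hall i hg
    rwa [Ideal.iInf_pow_eq_bot_of_isLocalRing _ Ideal.IsPrime.ne_top'] at this
  have hN₁ : ¬ RingHom.ker u ≤ maximalIdeal (MvPowerSeries (Fin n) k) ^ (Nat.find hex) :=
    Nat.find_spec hex
  have hN₁min : ∀ N < Nat.find hex, RingHom.ker u ≤ maximalIdeal (MvPowerSeries (Fin n) k) ^ N :=
    fun N hN => not_not.1 (Nat.find_min hex hN)
  have hN₁3 : 3 ≤ Nat.find hex := by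
    by_contra hlt
    push Not at hlt
    exact hN₁ (hJ.trans (Ideal.pow_le_pow_right (by omega)))
  obtain ⟨p, hp⟩ : ∃ p, Nat.find hex = p + 3 := ⟨Nat.find hex - 3, by omega⟩
  rw [hp] at hN₁
  have hJle : RingHom.ker u ≤ maximalIdeal (MvPowerSeries (Fin n) k) ^ (p + 2) :=
    hN₁min (p + 2) (by omega)
  obtain ⟨f, hfJ, hf⟩ := SetLike.not_le_iff_exists.1 hN₁
  obtain ⟨i, hi⟩ := exists_pderiv_not_mem (p + 1) f (hJle hfJ) hf
  -- the Artinian quotient
  let psk : CRing k k := ps (baseCRing (Λ := k) (k := k) Function.surjective_id) n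
  let A : Art k k := psk.trunc (p + 1)
  let qA : MvPowerSeries (Fin n) k →ₐ[k] A := (psk.truncHom (p + 1)).1
  have hqA0 : ∀ g, qA g = 0 ↔ g ∈ maximalIdeal (MvPowerSeries (Fin n) k) ^ (p + 2) := fun g =>
    Ideal.Quotient.eq_zero_iff_mem
  have hqAmax : (maximalIdeal (MvPowerSeries (Fin n) k)).map (qA : MvPowerSeries (Fin n) k →+* A) ≤
      maximalIdeal A := Groth.Agent.Lib.ArtFunFormal.map_maximalIdeal_le psk A (psk.truncHom (p + 1))
  have hqAm : ∀ j g, g ∈ maximalIdeal (MvPowerSeries (Fin n) k) ^ j → qA g ∈ maximalIdeal A ^ j := by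
    intro j g hg
    have h1 : (maximalIdeal (MvPowerSeries (Fin n) k) ^ j).map (qA : MvPowerSeries (Fin n) k →+* A) ≤
        maximalIdeal A ^ j := by
      rw [Ideal.map_pow]
      exact Ideal.pow_right_mono hqAmax j
    exact h1 (Ideal.mem_map_of_mem _ hg)
  have hmaxle : maximalIdeal A ≤
      (maximalIdeal (MvPowerSeries (Fin n) k)).map (qA : MvPowerSeries (Fin n) k →+* A) :=
    CRing.maximalIdeal_quot_le psk (p + 1)
  have hAnil : maximalIdeal A ^ (p + 2) = ⊥ := by
    rw [eq_bot_iff]
    refine (Ideal.pow_right_mono hmaxle (p + 2)).trans ?_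
    rw [← Ideal.map_pow, Ideal.map_le_iff_le_comap]
    intro g hg
    rw [Ideal.mem_comap, Ideal.mem_bot]
    exact (hqA0 g).2 hg
  let IA : Ideal A := maximalIdeal A ^ (p + 1)
  have hIAsq : ∀ a ∈ IA, ∀ b ∈ IA, a * b = 0 := by
    intro a ha b hb
    have h1 : a * b ∈ maximalIdeal A ^ (p + 1) * maximalIdeal A ^ (p + 1) := Ideal.mul_mem_mul ha hb
    rw [← pow_add] at h1
    have h2 := Ideal.pow_le_pow_right (show p + 2 ≤ p + 1 + (p + 1) by omega) h1
    rw [hAnil, Ideal.mem_bot] at h2
    exact h2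
  -- the derivation into `A / IA`
  let flin : A →ₗ[A] (A ⧸ IA) := Submodule.mkQ IA
  have hflin : Function.Surjective flin := Submodule.mkQ_surjective IA
  have hfl : ∀ a b : A, flin (a * b) = a • flin b := fun a b => by
    rw [← smul_eq_mul, map_smul]
  let Dbar : MvPowerSeries (Fin n) k → (A ⧸ IA) := fun g => flin (qA (MvPowerSeries.pderiv k i g))
  let φP : MvPowerSeries (Fin n) k →ₐ[k] TrivSqZeroExt A (A ⧸ IA) :=
    toTszeGen qA Dbar
      (fun x y => by
        change flin (qA (MvPowerSeries.pderiv k i (x + y))) = _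
        rw [map_add, map_add, map_add])
      (fun x y => by
        change flin (qA (MvPowerSeries.pderiv k i (x * y))) =
          qA x • flin (qA (MvPowerSeries.pderiv k i y)) + qA y • flin (qA (MvPowerSeries.pderiv k i x))
        have e1 : qA (MvPowerSeries.pderiv k i (x * y)) =
            qA x * qA (MvPowerSeries.pderiv k i y) + qA y * qA (MvPowerSeries.pderiv k i x) := by
          rw [Derivation.leibniz, smul_eq_mul, smul_eq_mul, map_add, map_mul, map_mul]
        rw [e1, map_add, hfl, hfl])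
      (fun c => by
        change flin (qA (MvPowerSeries.pderiv k i (algebraMap k _ c))) = 0
        rw [Derivation.map_algebraMap, map_zero, map_zero])
  have hφPkill : ∀ g ∈ RingHom.ker u, φP g = 0 := by
    intro g hg
    apply TrivSqZeroExt.ext
    · change qA g = 0
      rw [hqA0]
      exact hJle hg
    · change flin (qA (MvPowerSeries.pderiv k i g)) = 0
      change Submodule.Quotient.mk (qA (MvPowerSeries.pderiv k i g)) = 0
      rw [Submodule.Quotient.mk_eq_zero]
      exact hqAm (p + 1) _ (pderiv_mem_pow (p + 1) i g (hJle hg))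
  let φR : R →ₐ[k] TrivSqZeroExt A (A ⧸ IA) :=
    (Ideal.Quotient.liftₐ (RingHom.ker u) φP hφPkill).comp
      (Ideal.quotientKerAlgEquivOfSurjective hu).symm.toAlgHom
  have hφR : ∀ g, φR (u g) = φP g := by
    intro g
    have he : (Ideal.quotientKerAlgEquivOfSurjective hu).symm (u g) = Ideal.Quotient.mk _ g := by
      rw [AlgEquiv.symm_apply_eq]
      rfl
    change Ideal.Quotient.liftₐ (RingHom.ker u) φP hφPkill
      ((Ideal.quotientKerAlgEquivOfSurjective hu).symm (u g)) = φP g
    rw [he]
    rfl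
  -- lift
  obtain ⟨ψR, hψR⟩ := H A (A ⧸ IA) A flin hflin φR
  let Ψ : MvPowerSeries (Fin n) k →ₐ[k] TrivSqZeroExt A A := ψR.comp u
  have hΨfst : ∀ g, (Ψ g).fst = qA g := by
    intro g
    have := (hψR (u g)).1
    rw [hφR] at this
    exact this
  have hΨsnd : ∀ g, (Ψ g).snd - qA (MvPowerSeries.pderiv k i g) ∈ IA := by
    intro g
    have := (hψR (u g)).2
    rw [hφR] at this
    change flin (Ψ g).snd = flin (qA (MvPowerSeries.pderiv k i g)) at this
    rw [← sub_eq_zero, ← map_sub] at this
    change Submodule.Quotient.mk ((Ψ g).snd - qA (MvPowerSeries.pderiv k i g)) = 0 at this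
    rwa [Submodule.Quotient.mk_eq_zero] at this
  have hΨf : Ψ f = 0 := by
    change ψR (u f) = 0
    rw [(RingHom.mem_ker.1 hfJ : u f = 0), map_zero]
  -- the chain rule
  let a : Fin n → A := fun j => (Ψ (MvPowerSeries.X j)).snd
  let D₂ : MvPowerSeries (Fin n) k → A := fun g => ∑ j, qA (MvPowerSeries.pderiv k j g) * a j
  let Ψ₂ : MvPowerSeries (Fin n) k →ₐ[k] TrivSqZeroExt A A :=
    toTszeGen qA D₂
      (fun x y => by
        change ∑ j, qA (MvPowerSeries.pderiv k j (x + y)) * a j = _
        rw [← Finset.sum_add_distrib]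
        apply Finset.sum_congr rfl
        intro j _
        rw [map_add, map_add, add_mul])
      (fun x y => by
        change ∑ j, qA (MvPowerSeries.pderiv k j (x * y)) * a j =
          qA x • ∑ j, qA (MvPowerSeries.pderiv k j y) * a j +
            qA y • ∑ j, qA (MvPowerSeries.pderiv k j x) * a j
        rw [smul_eq_mul, smul_eq_mul, Finset.mul_sum, Finset.mul_sum, ← Finset.sum_add_distrib]
        apply Finset.sum_congr rfl
        intro j _
        rw [Derivation.leibniz, map_add, smul_eq_mul, smul_eq_mul, map_mul, map_mul]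
        ring)
      (fun c => by
        change ∑ j, qA (MvPowerSeries.pderiv k j (algebraMap k _ c)) * a j = 0
        apply Finset.sum_eq_zero
        intro j _
        rw [Derivation.map_algebraMap, map_zero, zero_mul])
  have hΨ₂X : ∀ j, Ψ₂ (MvPowerSeries.X j) = Ψ (MvPowerSeries.X j) := by
    intro j
    apply TrivSqZeroExt.ext
    · change qA (MvPowerSeries.X j) = _
      rw [hΨfst]
    · change ∑ l, qA (MvPowerSeries.pderiv k l (MvPowerSeries.X j)) * a l = a j
      rw [Finset.sum_eq_single j]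
      · rw [MvPowerSeries.pderiv_X_self, map_one, one_mul]
      · intro l _ hl
        rw [MvPowerSeries.pderiv_X_of_ne (Ne.symm hl), map_zero, zero_mul]
      · intro h
        exact absurd (Finset.mem_univ j) h
  obtain ⟨N, hN⟩ := exists_pow_span_eq_bot (fun j => Ψ (MvPowerSeries.X j))
    (fun j => isNilpotent_fst_map_X n Ψ j)
  have hΨeq : Ψ = Ψ₂ :=
    eval_unique (Ideal.span (Set.range fun j => Ψ (MvPowerSeries.X j))) N hN Ψ Ψ₂
      (fun j => Ideal.subset_span ⟨j, rfl⟩) (fun j => (hΨ₂X j).symm)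
  have hsum0 : ∑ j, qA (MvPowerSeries.pderiv k j f) * a j = 0 := by
    have h1 : (Ψ₂ f).snd = 0 := by rw [← hΨeq, hΨf]; rfl
    exact h1
  -- evaluate
  have hterm : ∀ j, qA (MvPowerSeries.pderiv k j f) * a j =
      qA (MvPowerSeries.pderiv k j f) * qA (MvPowerSeries.pderiv k i (MvPowerSeries.X j)) := by
    intro j
    have h1 : qA (MvPowerSeries.pderiv k j f) ∈ IA :=
      hqAm (p + 1) _ (pderiv_mem_pow (p + 1) j f (hJle hfJ))
    have h2 := hIAsq _ h1 _ (hΨsnd (MvPowerSeries.X j))
    rw [mul_sub, sub_eq_zero] at h2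
    exact h2
  have hfinal : qA (MvPowerSeries.pderiv k i f) = 0 := by
    rw [← hsum0, Finset.sum_congr rfl (fun j _ => hterm j), Finset.sum_eq_single i]
    · rw [MvPowerSeries.pderiv_X_self, map_one, mul_one]
    · intro l _ hl
      rw [MvPowerSeries.pderiv_X_of_ne hl, map_zero, mul_zero]
    · intro h
      exact absurd (Finset.mem_univ i) h
  exact hi ((hqA0 _).1 hfinal)


end Main

section Iso

open Groth.Agent.Lib.H59PowerSeries Groth.Agent.Lib.H59PowerSeriesCRing Groth.Agent.Lib.H59BaseCRing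

variable {k : Type u} [Field k]

/-- over a field, every `k`-algebra map from a coefficient ring to an Artinian object is compatible with the
augmentations. -/
theorem res_comp_eq (R : CRing k k) (B : Art k k) (φ : R.carrier →ₐ[k] B) : B.res.comp φ = R.res := by
  apply AlgHom.ext
  intro r
  change B.res (φ r) = R.res r
  set r' : R.carrier := r - algebraMap k R.carrier (R.res r) with hr'
  have hr'm : R.res r' = 0 := by
    rw [hr', map_sub, AlgHom.commutes]
    exact sub_self _
  have hkey : B.res (φ r') = 0 := by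
    by_contra hc
    set c : k := B.res (φ r') with hcdef
    have hu : IsUnit (r' - algebraMap k R.carrier c) := by
      by_contra hnu
      have hm : r' - algebraMap k R.carrier c ∈ maximalIdeal R.carrier :=
        (IsLocalRing.mem_maximalIdeal _).2 hnu
      rw [CRing.mem_maximalIdeal_iff, map_sub, hr'm, AlgHom.commutes, zero_sub] at hm
      exact hc (neg_eq_zero.1 hm)
    have h0 : B.res (φ (r' - algebraMap k R.carrier c)) = 0 := by
      rw [map_sub, map_sub, AlgHom.commutes, AlgHom.commutes, ← hcdef]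
      exact sub_self c
    have h1 := (hu.map φ).map B.res
    rw [h0] at h1
    exact not_isUnit_zero h1
  have h2 : r = r' + algebraMap k R.carrier (R.res r) := by rw [hr']; ring
  conv_lhs => rw [h2]
  rw [map_add, map_add, hkey, AlgHom.commutes, AlgHom.commutes, zero_add]
  rfl

variable [CharZero k]

theorem nonempty_algEquiv_of_lift_fin (R : CRing k k) (H : HasTszeLiftingFin (k := k) R.carrier) :
    Nonempty (R.carrier ≃ₐ[k] MvPowerSeries
      (Fin (Module.finrank (ResidueField R.carrier) (CotangentSpace R.carrier))) k) := by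
  classical
  have hmk : maximalIdeal k = ⊥ := IsLocalRing.maximalIdeal_eq_bot
  have hcompl : IsAdicComplete (maximalIdeal k) k := by
    rw [hmk]; infer_instance
  let kC : ArtFun.CRing k k := Groth.Agent.Lib.H59BaseCRing.baseCRing (Function.surjective_id)
  have hb := exists_basis_gens R.carrier
  generalize Module.finrank (ResidueField R.carrier) (CotangentSpace R.carrier) = n at hb ⊢
  obtain ⟨x, hxm, hgen, hind⟩ := hb
  have hg : R.res.comp (Algebra.ofId k R.carrier) = kC.res :=
    AlgHom.ext (fun l => R.res.commutes l)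
  obtain ⟨u, hu, huc, hux⟩ := exists_hom_complete kC n R (Algebra.ofId k R.carrier) hg x hxm
  have hures : ∀ p, R.res (u p) = (ps kC n).res p := fun p => DFunLike.congr_fun hu p
  have hcomplP := (ps kC n).isAdicComplete
  have hcomplR := R.isAdicComplete
  have hum : ∀ p, p ∈ maximalIdeal (ps kC n).carrier ↔ u p ∈ maximalIdeal R.carrier := by
    intro p
    rw [ArtFun.CRing.mem_maximalIdeal_iff, ArtFun.CRing.mem_maximalIdeal_iff, hures]
  have hmapm : (maximalIdeal (ps kC n).carrier).map (u : (ps kC n).carrier →+* R.carrier) ≤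
      maximalIdeal R.carrier := by
    rw [Ideal.map_le_iff_le_comap]
    intro p hp
    exact (hum p).1 hp
  have husurj : Function.Surjective u := by
    apply ((Groth.Agent.Lib.ArtFunSurj.tfae_surjective (ps kC n).res R.res (ps kC n).res_surjective
      R.res_surjective u hu).out 1 0).1
    apply le_antisymm
    · exact sup_le hmapm (Ideal.pow_le_self two_ne_zero)
    · refine hgen.trans (sup_le ?_ le_sup_right)
      refine le_trans ?_ le_sup_left
      rw [Ideal.span_le]
      rintro _ ⟨i, rfl⟩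
      rw [← hux i]
      exact Ideal.mem_map_of_mem _ (psX_mem_maximalIdeal kC n i)
  have hkeru : RingHom.ker u ≤ maximalIdeal (ps kC n).carrier ^ 2 := by
    intro t ht
    have htm : t ∈ maximalIdeal (ps kC n).carrier := by
      rw [hum, (RingHom.mem_ker.1 ht : u t = 0)]
      exact Ideal.zero_mem _
    rw [maximalIdeal_ps] at htm
    have hbot : (maximalIdeal kC.carrier).map (psC kC n : kC.carrier →+* (ps kC n).carrier) = ⊥ := by
      have : maximalIdeal kC.carrier = ⊥ := hmk
      rw [this, Ideal.map_bot]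
    rw [hbot, sup_bot_eq] at htm
    obtain ⟨c, rfl⟩ := (Ideal.mem_span_range_iff_exists_fun).1 htm
    have h0 : u (∑ i, c i * psX kC n i) = 0 := ht
    rw [map_sum] at h0
    have hsum : ∑ i, u (c i) * x i ∈ maximalIdeal R.carrier ^ 2 := by
      have : ∑ i, u (c i) * x i = 0 := by
        rw [← h0]
        apply Finset.sum_congr rfl
        intro i _
        rw [map_mul, hux]
      rw [this]
      exact Ideal.zero_mem _
    have hc := hind (fun i => u (c i)) hsum
    apply Submodule.sum_mem
    intro i _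
    rw [sq]
    exact Ideal.mul_mem_mul ((hum _).2 (hc i)) (psX_mem_maximalIdeal kC n i)
  have hker : RingHom.ker u = ⊥ := ker_eq_bot_of_lift_fin n u husurj hkeru H
  have huinj : Function.Injective u := (RingHom.injective_iff_ker_eq_bot _).2 hker
  exact ⟨(AlgEquiv.ofBijective u ⟨huinj, husurj⟩).symm⟩

end Iso

section Univ

variable {k : Type u} [Field k]

/-- the `T¹`-lifting property of a pro-representable functor gives the lifting property of the pro-representing
ring. -/
theorem hasTszeLiftingFin_of_universal (R : CRing k k) {F : Art k k ⥤ Type v}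
    (ξ : Family R.carrier R.res F) (hξ : IsUniversal ξ)
    (hT1 : ∀ (A : ArtFun.Art k k) (M M' : Type u) [AddCommGroup M] [Module (↥A) M] [Module (↥A)ᵐᵒᵖ M]
      [IsCentralScalar (↥A) M] [Module k M] [IsScalarTower k (↥A) M] [IsScalarTower k (↥A)ᵐᵒᵖ M]
      [AddCommGroup M'] [Module (↥A) M'] [Module (↥A)ᵐᵒᵖ M'] [IsCentralScalar (↥A) M'] [Module k M']
      [IsScalarTower k (↥A) M'] [IsScalarTower k (↥A)ᵐᵒᵖ M'] [Module.Finite (↥A) M]
      [Module.Finite (↥A) M'] (f : M' →ₗ[↥A] M),
      Function.Surjective f → Function.Surjective (F.map (artTszeMap A f))) :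
    HasTszeLiftingFin (k := k) R.carrier := by
  intro A M M' _ _ _ _ _ _ _ _ _ _ _ _ _ _ _ _ f hf φ
  let φH : HomSet R.carrier R.res (artTsze A M) := ⟨φ, res_comp_eq R (artTsze A M) φ⟩
  obtain ⟨y, hy⟩ := hT1 A M M' f hf (ξ.app _ φH)
  obtain ⟨ψH, hψH⟩ := (hξ (artTsze A M')).2 y
  have h1 : HomSet.map (artTszeMap A f) ψH = φH := by
    apply (hξ (artTsze A M)).1
    rw [ξ.natural, hψH, hy]
  refine ⟨ψH.1, fun r => ?_⟩
  have h2 : tszeMapGen (k := k) f (ψH.1 r) = φ r :=
    congrArg (fun t : HomSet R.carrier R.res (artTsze A M) => t.1 r) h1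
  constructor
  · rw [← h2, tszeMapGen_fst]
    rfl
  · rw [← h2, tszeMapGen_snd]
    rfl

end Univ

end Groth.Agent.Lib.H59T1Lift
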