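import Groth.Agent.Lib.H59Weight2
import Groth.Agent.Lib.H59Fubini

/-!
# Weightings: general transport lemmas (helper59)

* `fibreIntegral_iso_comp`: invariance of the fibre integral under an isomorphism of the source;
* `isLocallyConstant_of_square`: the weighting property for an arbitrary commutative square
  `T → X`, `T → V`, `V → Y` étale, with `T → X ×_Y V` an open immersion and `T → V` finite;
* `isFinite_preimage_of_isPullback`: base change of an open finite over the base;
* `J_of_isPullback`: base change invariance of the partial fibre integrals;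
* `exists_nhds_preimage_subset`: shrinking the base.
-/

set_option autoImplicit false
set_option linter.style.haveILetI false
universe u
open CategoryTheory AlgebraicGeometry CategoryTheory.Limits IsLocalRing MorphismProperty

namespace Groth.Agent.Lib.H59Weight

open Groth.Agent.Lib.H59FibInt Groth.Agent.Lib.H59GeomPoints Groth.Agent.Lib.EtLocQF

variable {X Y : Scheme.{u}}

/-- Two weights agreeing on the fibre have the same fibre integral. -/
theorem fibreIntegral_congr {P V : Scheme.{u}} (p : P ⟶ V) (W W' : P → ℤ) (v : V)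
    (h : ∀ z, p z = v → W z = W' z) :
    MoreMor.fibreIntegral p W v = MoreMor.fibreIntegral p W' v := by
  unfold MoreMor.fibreIntegral
  refine finsum_congr fun z => ?_
  rw [h z.1 z.2]

/-- The fibre integral is invariant under precomposition with an isomorphism. -/
theorem fibreIntegral_iso_comp {P P' V : Scheme.{u}} (φ : P ⟶ P') [IsIso φ] (p' : P' ⟶ V)
    (W' : P' → ℤ) (v : V) :
    MoreMor.fibreIntegral (φ ≫ p') (fun z => W' (φ z)) v = MoreMor.fibreIntegral p' W' v := by
  rw [fibreIntegral_eq_J_univ, fibreIntegral_eq_J_univ]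
  unfold J
  refine finsum_mem_eq_of_bijOn (fun z => φ z) ⟨?_, ?_, ?_⟩ ?_
  · intro z hz
    exact ⟨hz.1, Set.mem_univ _⟩
  · intro z _ z' _ hzz'
    exact φ.homeomorph.injective hzz'
  · intro z' hz'
    obtain ⟨z, rfl⟩ := φ.homeomorph.surjective z'
    exact ⟨z, ⟨hz'.1, Set.mem_univ _⟩, rfl⟩
  · intro z _
    change W' (φ z) * _ = W' (φ z) * _
    rw [sepDeg_comp_of_isIso φ p' z]

/-- The weighting property for an arbitrary commutative square whose comparison map to the fibre
product is an open immersion. -/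
theorem isLocallyConstant_of_square {f : X ⟶ Y} {w : X → ℤ} (hw : MoreMor.IsWeighting f w)
    {T V : Scheme.{u}} (a : T ⟶ X) (q : T ⟶ V) (g : V ⟶ Y) [Etale g] (hcomm : a ≫ f = q ≫ g)
    [IsOpenImmersion (pullback.lift a q hcomm)] (hq : IsFinite q) :
    IsLocallyConstant (MoreMor.fibreIntegral q (fun t => w (a t))) := by
  set j := pullback.lift a q hcomm with hj
  have h1 : j.isoOpensRange.hom ≫ j.opensRange.ι ≫ pullback.snd f g = q := by
    rw [Scheme.Hom.isoOpensRange_hom_ι_assoc, hj, pullback.lift_snd]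
  have hfin : IsFinite (j.opensRange.ι ≫ pullback.snd f g) := by
    rw [← h1] at hq
    exact (MorphismProperty.cancel_left_of_respectsIso @IsFinite j.isoOpensRange.hom _).mp hq
  have hlc := hw V g j.opensRange hfin
  have hfun : MoreMor.fibreIntegral q (fun t => w (a t)) =
      MoreMor.fibreIntegral (j.opensRange.ι ≫ pullback.snd f g)
        (fun u => w (pullback.fst f g (j.opensRange.ι u))) := by
    funext v
    rw [← fibreIntegral_iso_comp j.isoOpensRange.hom (j.opensRange.ι ≫ pullback.snd f g) _ v]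
    have h2 : ∀ t, pullback.fst f g (j.opensRange.ι (j.isoOpensRange.hom t)) = a t := by
      intro t
      rw [← Scheme.Hom.comp_apply, ← Scheme.Hom.comp_apply, Scheme.Hom.isoOpensRange_hom_ι_assoc,
        hj, pullback.lift_fst]
    simp_rw [h2]
    rw [h1]
  rw [hfun]
  exact hlc

/-- The preimage under a base change of an open finite over the base is finite over the new base. -/
theorem isFinite_preimage_of_isPullback {P X E' E : Scheme.{u}} {p₁ : P ⟶ X} {p₂ : P ⟶ E'}
    {π : X ⟶ E} {e : E' ⟶ E} (hc : IsPullback p₁ p₂ π e) (U : X.Opens)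
    (hU : IsFinite (U.ι ≫ π)) : IsFinite ((p₁ ⁻¹ᵁ U).ι ≫ p₂) :=
  MorphismProperty.of_isPullback (P := @IsFinite)
    ((isPullback_morphismRestrict p₁ U).paste_vert hc) hU

/-- Base change invariance of the partial fibre integral over an open finite over the base. -/
theorem J_of_isPullback {P X E' E : Scheme.{u}} {p₁ : P ⟶ X} {p₂ : P ⟶ E'}
    {π : X ⟶ E} {e : E' ⟶ E} (hc : IsPullback p₁ p₂ π e) (U : X.Opens)
    (hU : IsFinite (U.ι ≫ π)) (W : X → ℤ) (ε' : E') :
    J p₂ (p₁ ⁻¹ᵁ U : Set P) (fun z => W (p₁ z)) ε' = J π (U : Set X) W (e ε') := by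
  rw [← fibreIntegral_ι_comp, ← fibreIntegral_ι_comp]
  have hsq := (isPullback_morphismRestrict p₁ U).paste_vert hc
  haveI := hU
  have hfin : ∀ v : E, ((U.ι ≫ π) ⁻¹' {v}).Finite :=
    fun v => (U.ι ≫ π).finite_preimage_singleton v
  rw [← Groth.Agent.S1418.result (U.ι ≫ π) hfin ((p₁ ⁻¹ᵁ U).ι ≫ p₂) (p₁ ∣_ U) e hsq
    (fun u => W (U.ι u)) ε']
  refine congrArg (fun F => MoreMor.fibreIntegral ((p₁ ⁻¹ᵁ U).ι ≫ p₂) F ε') ?_
  funext u'
  change W (p₁ ((p₁ ⁻¹ᵁ U).ι u')) = W (U.ι ((p₁ ∣_ U) u'))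
  rw [← Scheme.Hom.comp_apply, ← Scheme.Hom.comp_apply, morphismRestrict_ι]

/-- Shrinking the base: if the fibre over `ε` of an open `T` finite over the base lies in the open
`B`, the same holds over a neighbourhood of `ε`. -/
theorem exists_nhds_preimage_subset {P E : Scheme.{u}} (p : P ⟶ E) (T : P.Opens)
    (hT : IsFinite (T.ι ≫ p)) (B : Set P) (hB : IsOpen B) (ε : E)
    (h : ∀ t ∈ T, p t = ε → t ∈ B) :
    ∃ N : Set E, IsOpen N ∧ ε ∈ N ∧ ∀ t ∈ T, p t ∈ N → t ∈ B := by
  have hclosed : IsClosed ((T.ι ≫ p) '' (T.ι ⁻¹' Bᶜ)) :=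
    (T.ι ≫ p).isClosedMap _ ((isClosed_compl_iff.mpr hB).preimage T.ι.continuous)
  refine ⟨((T.ι ≫ p) '' (T.ι ⁻¹' Bᶜ))ᶜ, hclosed.isOpen_compl, ?_, ?_⟩
  · rintro ⟨t, ht, hte⟩
    exact ht (h t.1 t.2 hte)
  · intro t ht hN
    by_contra htB
    exact hN ⟨⟨t, ht⟩, htB, rfl⟩

end Groth.Agent.Lib.H59Weight
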