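import Groth.Agent.Lib.H59Weight4

/-!
# Weightings: base change of a composable pair and the single-point step (helper59)

The base change statement for weightings (milestone S1419) is taken as a hypothesis `BCHyp`, to be
supplied by the caller.
-/

set_option autoImplicit false
set_option linter.style.haveILetI false
universe u
open CategoryTheory AlgebraicGeometry CategoryTheory.Limits IsLocalRing MorphismProperty

namespace Groth.Agent.Lib.H59Weight

open Groth.Agent.Lib.H59FibInt Groth.Agent.Lib.H59GeomPoints Groth.Agent.Lib.EtLocQF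

/-- Base change of weightings (the statement of milestone S1419), as a hypothesis. -/
def BCHyp : Prop :=
  ∀ {X Y : Scheme.{u}} (f : X ⟶ Y) [LocallyQuasiFinite f] [LocallyOfFiniteType f] (w : X → ℤ),
    MoreMor.IsWeighting f w → ∀ {X' Y' : Scheme.{u}} (f' : X' ⟶ Y') (h : X' ⟶ X) (g : Y' ⟶ Y),
      IsPullback h f' f g → MoreMor.IsWeighting f' (w ∘ ⇑h)

variable {X Y Z : Scheme.{u}}

/-- The base change of `f` along `E ⟶ Z` (as a morphism over `E`). -/
noncomputable def bcMap (f : X ⟶ Y) (g : Y ⟶ Z) {E : Scheme.{u}} (e : E ⟶ Z) :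
    pullback (f ≫ g) e ⟶ pullback g e :=
  pullback.lift (pullback.fst (f ≫ g) e ≫ f) (pullback.snd (f ≫ g) e)
    (by rw [Category.assoc, pullback.condition])

@[reassoc (attr := simp)]
theorem bcMap_fst (f : X ⟶ Y) (g : Y ⟶ Z) {E : Scheme.{u}} (e : E ⟶ Z) :
    bcMap f g e ≫ pullback.fst g e = pullback.fst (f ≫ g) e ≫ f := pullback.lift_fst _ _ _

@[reassoc (attr := simp)]
theorem bcMap_snd (f : X ⟶ Y) (g : Y ⟶ Z) {E : Scheme.{u}} (e : E ⟶ Z) :
    bcMap f g e ≫ pullback.snd g e = pullback.snd (f ≫ g) e := pullback.lift_snd _ _ _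

theorem isPullback_bcMap (f : X ⟶ Y) (g : Y ⟶ Z) {E : Scheme.{u}} (e : E ⟶ Z) :
    IsPullback (pullback.fst (f ≫ g) e) (bcMap f g e) f (pullback.fst g e) := by
  have hbig : IsPullback (bcMap f g e ≫ pullback.snd g e) (pullback.fst (f ≫ g) e) e (f ≫ g) := by
    rw [bcMap_snd]
    exact (IsPullback.of_hasPullback (f ≫ g) e).flip
  exact (IsPullback.of_right hbig (bcMap_fst f g e) (IsPullback.of_hasPullback g e).flip).flip

theorem bcMap_fst_apply (f : X ⟶ Y) (g : Y ⟶ Z) {E : Scheme.{u}} (e : E ⟶ Z)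
    (x : ↑(pullback (f ≫ g) e)) :
    pullback.fst g e (bcMap f g e x) = f (pullback.fst (f ≫ g) e x) := by
  rw [← Scheme.Hom.comp_apply, bcMap_fst, Scheme.Hom.comp_apply]

theorem bcMap_snd_apply (f : X ⟶ Y) (g : Y ⟶ Z) {E : Scheme.{u}} (e : E ⟶ Z)
    (x : ↑(pullback (f ≫ g) e)) :
    pullback.snd g e (bcMap f g e x) = pullback.snd (f ≫ g) e x := by
  rw [← Scheme.Hom.comp_apply, bcMap_snd]

instance (f : X ⟶ Y) (g : Y ⟶ Z) {E : Scheme.{u}} (e : E ⟶ Z) [LocallyQuasiFinite f] :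
    LocallyQuasiFinite (bcMap f g e) :=
  MorphismProperty.of_isPullback (P := @LocallyQuasiFinite) (isPullback_bcMap f g e) inferInstance

instance (f : X ⟶ Y) (g : Y ⟶ Z) {E : Scheme.{u}} (e : E ⟶ Z) [LocallyOfFiniteType f] :
    LocallyOfFiniteType (bcMap f g e) :=
  MorphismProperty.of_isPullback (P := @LocallyOfFiniteType) (isPullback_bcMap f g e) inferInstance

/-- Single point step: `T ⊆ X` open, finite over `Z`, with a unique point over `z`. -/
theorem single_const (BC : BCHyp.{u}) (f : X ⟶ Y) (g : Y ⟶ Z) [LocallyQuasiFinite f]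
    [LocallyOfFiniteType f] [LocallyQuasiFinite g] [LocallyOfFiniteType g]
    (wf : X → ℤ) (wg : Y → ℤ)
    (hwf : MoreMor.IsWeighting f wf) (hwg : MoreMor.IsWeighting g wg)
    (T : X.Opens) (hT : IsFinite (T.ι ≫ f ≫ g)) (z : Z) (t : X)
    (htz : g (f t) = z) (hTuniq : ∀ x ∈ T, g (f x) = z → x = t) :
    ∃ N : Set Z, IsOpen N ∧ z ∈ N ∧ ∀ z' ∈ N,
      J (f ≫ g) (T : Set X) (fun x => wf x * wg (f x)) z' =
        J (f ≫ g) (T : Set X) (fun x => wf x * wg (f x)) z := by
  obtain ⟨E, e, ε, he, heε, hiso, V, v, H⟩ :=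
    exists_etaleNbhd_of_forall_quasiFiniteAt g z (fun _ : Unit => f t) (fun _ => htz)
      (fun _ => g.quasiFiniteAt (f t))
  obtain ⟨h1, h2, h3, h4, h5⟩ := H ()
  have hwfE : MoreMor.IsWeighting (bcMap f g e) (wf ∘ ⇑(pullback.fst (f ≫ g) e)) :=
    BC f wf hwf _ _ _ (isPullback_bcMap f g e)
  have hwgE : MoreMor.IsWeighting (pullback.snd g e) (wg ∘ ⇑(pullback.fst g e)) :=
    BC g wg hwg _ _ _ (IsPullback.of_hasPullback g e)
  set TE : (pullback (f ≫ g) e).Opens := pullback.fst (f ≫ g) e ⁻¹ᵁ T with hTE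
  have hTEfin : IsFinite (TE.ι ≫ bcMap f g e ≫ pullback.snd g e) := by
    rw [bcMap_snd]
    exact isFinite_preimage_of_isPullback (IsPullback.of_hasPullback (f ≫ g) e) T hT
  have hTV : ∀ t' ∈ TE, pullback.snd g e (bcMap f g e t') = ε → bcMap f g e t' ∈ V () := by
    intro t' ht' hε
    rw [bcMap_snd_apply] at hε
    have hz : g (f (pullback.fst (f ≫ g) e t')) = z := by
      have := congr($(pullback.condition (f := f ≫ g) (g := e)) t')
      simp only [Scheme.Hom.comp_apply] at this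
      rw [hε, heε] at this
      exact this
    have htt : pullback.fst (f ≫ g) e t' = t := hTuniq _ ht' hz
    have : bcMap f g e t' = v () := by
      refine eq_of_fst_eq_of_snd_eq g e _ _ ?_ ?_ (h3 ▸ hiso)
      · rw [bcMap_fst_apply, htt, h5]
      · rw [bcMap_snd_apply, hε, h3]
    rw [this]
    exact h1
  obtain ⟨N, hNo, hεN, hN⟩ := core_const (bcMap f g e) (pullback.snd g e) _ _ hwfE hwgE TE hTEfin
    (V ()) h2 ε (v ()) h1 h3 h4 hTV
  have hJ : ∀ ε' : E, J (bcMap f g e ≫ pullback.snd g e) (TE : Set ↑(pullback (f ≫ g) e))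
      (fun x => (wf ∘ ⇑(pullback.fst (f ≫ g) e)) x *
        (wg ∘ ⇑(pullback.fst g e)) (bcMap f g e x)) ε' =
      J (f ≫ g) (T : Set X) (fun x => wf x * wg (f x)) (e ε') := by
    intro ε'
    rw [bcMap_snd, ← J_of_isPullback (IsPullback.of_hasPullback (f ≫ g) e) T hT]
    refine J_congr_weight _ _ _ _ _ fun x _ _ => ?_
    simp only [Function.comp_apply, bcMap_fst_apply]
  refine ⟨e '' N, e.isOpenMap _ hNo, ⟨ε, hεN, heε⟩, ?_⟩
  rintro _ ⟨ε', hε', rfl⟩
  rw [← hJ ε', hN ε' hε', hJ ε, heε]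

end Groth.Agent.Lib.H59Weight
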