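import Mathlib.AlgebraicGeometry.ProjectiveSpectrum.Basic
import Mathlib.Algebra.Polynomial.Laurent
import Mathlib.RingTheory.GradedAlgebra.Radical

/-!
# Degree-one localizations of graded rings (gradings by any `AddSubgroupClass`)

For a graded ring `𝒜 : ℕ → σ` and `g ∈ 𝒜 1`:
* `mk1 𝒜 hg i a ha = a / g ^ i ∈ A_(g)`, with `mk1_add`, `mk1_mul`, `mk1_one`, `mk1_self`;
* `psi 𝒜 hg : A →+* A_(g)[T;T⁻¹]`, `a ↦ ∑ (a_i / g ^ i) T ^ i` (`psi_of_mem`, `psi_g`);
* `mem_awayι_iff`: homogeneous `a ∈ awayι q ↔ a ^ d / f ^ n ∈ q`.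
* for `φ : 𝒜 →+*ᵍ ℬ`, `z ∈ ℬ 1` with `A[X] → B`, `X ↦ z` bijective (`B = A[z]`):
  `theta φ z hz : A →+* B_(z)`, `theta_of_mem`, `theta_bijective`, `thetaEquiv`.
(General-`σ` versions of the in-file lemmas of S3575, S3576, S3593.)
-/

set_option autoImplicit false
set_option linter.unusedSectionVars false
universe u
open AlgebraicGeometry CategoryTheory Limits

namespace Groth.Agent.Lib.H60AwayDegOne

open HomogeneousLocalization
open scoped Polynomial LaurentPolynomial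

section Alg

variable {A σ : Type u} [CommRing A] [SetLike σ A] [AddSubgroupClass σ A] (𝒜 : ℕ → σ)
  [GradedRing 𝒜] {g : A} (hg : g ∈ 𝒜 1)

/-- `a / g ^ i` for `a` of degree `i`. -/
noncomputable def mk1 (i : ℕ) (a : A) (ha : a ∈ 𝒜 i) : Away 𝒜 g :=
  Away.mk 𝒜 hg i a (by rwa [smul_eq_mul, mul_one])

lemma val_mk1 (i : ℕ) (a : A) (ha : a ∈ 𝒜 i) :
    (mk1 𝒜 hg i a ha).val =
      Localization.mk a (⟨g ^ i, i, rfl⟩ : Submonoid.powers g) :=
  rfl

lemma mk1_add (i : ℕ) (a b : A) (ha : a ∈ 𝒜 i) (hb : b ∈ 𝒜 i) :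
    mk1 𝒜 hg i (a + b) (add_mem ha hb) = mk1 𝒜 hg i a ha + mk1 𝒜 hg i b hb := by
  apply val_injective
  rw [val_add, val_mk1, val_mk1, val_mk1, Localization.add_mk_self]

lemma mk1_mul (i j : ℕ) (a b : A) (ha : a ∈ 𝒜 i) (hb : b ∈ 𝒜 j) :
    mk1 𝒜 hg (i + j) (a * b) (SetLike.GradedMul.mul_mem ha hb) =
      mk1 𝒜 hg i a ha * mk1 𝒜 hg j b hb := by
  apply val_injective
  rw [val_mul, val_mk1, val_mk1, val_mk1, Localization.mk_mul]
  congr 1
  ext
  exact pow_add g i j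

lemma mk1_one : mk1 𝒜 hg 0 1 SetLike.GradedOne.one_mem = 1 := by
  apply val_injective
  rw [val_mk1, val_one, ← Localization.mk_one]
  congr 1
  exact Subtype.ext (pow_zero g)

lemma mk1_self : mk1 𝒜 hg 1 g hg = 1 := by
  apply val_injective
  rw [val_mk1, val_one]
  convert Localization.mk_self (⟨g ^ 1, 1, rfl⟩ : Submonoid.powers g)
  exact (pow_one g).symm

lemma mk1_zero (i : ℕ) : mk1 𝒜 hg i 0 (zero_mem _) = 0 := by
  apply val_injective
  rw [val_mk1, val_zero, Localization.mk_zero]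

/-- the degree-`i` component map. -/
noncomputable def comp (i : ℕ) : 𝒜 i →+ (Away 𝒜 g)[T;T⁻¹] where
  toFun a := LaurentPolynomial.C (mk1 𝒜 hg i a.1 a.2) * LaurentPolynomial.T i
  map_zero' := by
    change LaurentPolynomial.C (mk1 𝒜 hg i 0 _) * LaurentPolynomial.T i = 0
    rw [mk1_zero, map_zero, zero_mul]
  map_add' a b := by
    change LaurentPolynomial.C (mk1 𝒜 hg i (a.1 + b.1) _) * LaurentPolynomial.T i = _
    rw [mk1_add 𝒜 hg i a.1 b.1 a.2 b.2, map_add, add_mul]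

/-- The ring hom `A → A_(g)[T;T⁻¹]`, `a ↦ ∑ (a_i / g^i) T^i`. -/
noncomputable def psi : A →+* (Away 𝒜 g)[T;T⁻¹] :=
  (DirectSum.toSemiring (comp 𝒜 hg)
    (by
      change LaurentPolynomial.C (mk1 𝒜 hg 0 1 _) * LaurentPolynomial.T ((0 : ℕ) : ℤ) = 1
      rw [mk1_one, map_one, one_mul]
      exact LaurentPolynomial.T_zero)
    (by
      intro i j ai aj
      change LaurentPolynomial.C (mk1 𝒜 hg (i + j) (ai.1 * aj.1) _) *
          LaurentPolynomial.T ((i + j : ℕ) : ℤ) =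
        (LaurentPolynomial.C (mk1 𝒜 hg i ai.1 ai.2) * LaurentPolynomial.T i) *
          (LaurentPolynomial.C (mk1 𝒜 hg j aj.1 aj.2) * LaurentPolynomial.T j)
      rw [mk1_mul 𝒜 hg i j ai.1 aj.1 ai.2 aj.2, map_mul, Nat.cast_add, LaurentPolynomial.T_add]
      ring)).comp (DirectSum.decomposeRingEquiv 𝒜).toRingHom

lemma psi_of_mem (i : ℕ) (a : A) (ha : a ∈ 𝒜 i) :
    psi 𝒜 hg a = LaurentPolynomial.C (mk1 𝒜 hg i a ha) * LaurentPolynomial.T i := by
  unfold psi
  rw [RingHom.comp_apply]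
  change DirectSum.toSemiring _ _ _ (DirectSum.decompose 𝒜 a) = _
  rw [DirectSum.decompose_of_mem 𝒜 ha, DirectSum.toSemiring_of]
  rfl

lemma psi_g : psi 𝒜 hg g = LaurentPolynomial.T 1 := by
  rw [psi_of_mem 𝒜 hg 1 g hg, mk1_self, map_one, one_mul]
  rfl

/-- degree-`i` component of the coaction `A → A[T;T⁻¹]`. -/
noncomputable def coactComp (i : ℕ) : 𝒜 i →+ A[T;T⁻¹] where
  toFun a := LaurentPolynomial.C a.1 * LaurentPolynomial.T i
  map_zero' := by simp
  map_add' a b := by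
    change LaurentPolynomial.C (a.1 + b.1) * LaurentPolynomial.T i = _
    rw [map_add, add_mul]

/-- The coaction `A → A[T;T⁻¹]`, `a ↦ ∑ a_i T^i`. -/
noncomputable def coact : A →+* A[T;T⁻¹] :=
  (DirectSum.toSemiring (coactComp 𝒜)
    (by
      change LaurentPolynomial.C (1 : A) * LaurentPolynomial.T ((0 : ℕ) : ℤ) = 1
      rw [map_one, one_mul]
      exact LaurentPolynomial.T_zero)
    (by
      intro i j ai aj
      change LaurentPolynomial.C (ai.1 * aj.1) * LaurentPolynomial.T ((i + j : ℕ) : ℤ) =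
        (LaurentPolynomial.C ai.1 * LaurentPolynomial.T i) *
          (LaurentPolynomial.C aj.1 * LaurentPolynomial.T j)
      rw [map_mul, Nat.cast_add, LaurentPolynomial.T_add]
      ring)).comp (DirectSum.decomposeRingEquiv 𝒜).toRingHom

lemma coact_of_mem (i : ℕ) (a : A) (ha : a ∈ 𝒜 i) :
    coact 𝒜 a = LaurentPolynomial.C a * LaurentPolynomial.T i := by
  unfold coact
  rw [RingHom.comp_apply]
  change DirectSum.toSemiring _ _ _ (DirectSum.decompose 𝒜 a) = _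
  rw [DirectSum.decompose_of_mem 𝒜 ha, DirectSum.toSemiring_of]
  rfl

lemma mapRingHom_C_mul_T {S S' : Type u} [CommRing S] [CommRing S'] (f : S →+* S') (c : S) (n : ℤ) :
    AddMonoidAlgebra.mapRingHom ℤ f (LaurentPolynomial.C c * LaurentPolynomial.T n) =
      LaurentPolynomial.C (f c) * LaurentPolynomial.T n := by
  rw [← LaurentPolynomial.single_eq_C_mul_T, ← LaurentPolynomial.single_eq_C_mul_T]
  exact AddMonoidAlgebra.mapRingHom_single _ _ _

end Alg

section Awayι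

variable {A σ : Type u} [CommRing A] [SetLike σ A] [AddSubgroupClass σ A] (𝒜 : ℕ → σ)
  [GradedRing 𝒜]

lemma forget_basicOpenToSpec (f : A) :
    Scheme.forgetToLocallyRingedSpace.map (Proj.basicOpenToSpec 𝒜 f) =
      ProjectiveSpectrum.Proj.toSpec 𝒜 f := by
  refine Eq.trans ?_ (ΓSpec.locallyRingedSpaceAdjunction.homEquiv_apply _ _ _).symm
  dsimp [Proj.basicOpenToSpec, Scheme.Opens.toSpecΓ]
  simp only [Category.assoc, ← Spec.map_comp]
  rfl

lemma mk_mem_basicOpenToSpec (f : A) (x : (Proj.basicOpen 𝒜 f).toScheme)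
    (z : HomogeneousLocalization.NumDenSameDeg 𝒜 (.powers f)) :
    HomogeneousLocalization.mk z ∈ ((Proj.basicOpenToSpec 𝒜 f).base x).asIdeal ↔
      z.num.1 ∈ x.1.asHomogeneousIdeal := by
  have h := ProjectiveSpectrum.Proj.mk_mem_toSpec_base_apply 𝒜 (f := f) x z
  rw [← forget_basicOpenToSpec] at h
  exact h

variable {𝒜}

/-- homogeneous elements of the point `awayι q`. -/
lemma mem_awayι_iff {d : ℕ} {f : A} (hf : f ∈ 𝒜 d) (hd : 0 < d)
    (q : Spec (.of (HomogeneousLocalization.Away 𝒜 f))) {n : ℕ} {a : A}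
    (ha' : a ^ d ∈ 𝒜 (n • d)) :
    a ∈ ((Proj.awayι 𝒜 f hf hd).base q).asHomogeneousIdeal ↔
      HomogeneousLocalization.Away.mk 𝒜 hf n (a ^ d) ha' ∈ q.asIdeal := by
  set z' := (Proj.basicOpenIsoSpec 𝒜 f hf hd).inv.base q with hz'
  have h1 : (Proj.basicOpenToSpec 𝒜 f).base z' = q := by
    rw [← Proj.basicOpenIsoSpec_hom 𝒜 f hf hd, hz', ← Scheme.Hom.comp_apply,
      Iso.inv_hom_id]
    rfl
  have h2 : (Proj.awayι 𝒜 f hf hd).base q = z'.1 := rfl
  rw [h2, ← h1]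
  have := mk_mem_basicOpenToSpec 𝒜 f z'
    ⟨n • d, ⟨a ^ d, ha'⟩, ⟨f ^ n, SetLike.pow_mem_graded n hf⟩, ⟨n, rfl⟩⟩
  rw [HomogeneousLocalization.Away.mk, this]
  change a ∈ z'.1.asHomogeneousIdeal.toIdeal ↔ a ^ d ∈ z'.1.asHomogeneousIdeal.toIdeal
  exact (z'.1.isPrime.pow_mem_iff_mem d hd).symm

/-- degree-one version: `a ∈ awayι q ↔ a / g ^ n ∈ q`. -/
lemma mem_awayι_iff_mk1 {g : A} (hg : g ∈ 𝒜 1)
    (q : Spec (.of (HomogeneousLocalization.Away 𝒜 g))) {n : ℕ} {a : A} (ha : a ∈ 𝒜 n) :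
    a ∈ ((Proj.awayι 𝒜 g hg Nat.one_pos).base q).asHomogeneousIdeal ↔
      mk1 𝒜 hg n a ha ∈ q.asIdeal := by
  have ha' : a ^ 1 ∈ 𝒜 (n • 1) := by rwa [pow_one, smul_eq_mul, mul_one]
  rw [mem_awayι_iff hg Nat.one_pos q ha']
  have : Away.mk 𝒜 hg n (a ^ 1) ha' = mk1 𝒜 hg n a ha := by
    apply val_injective
    rw [Away.val_mk, val_mk1, pow_one]
  rw [this]

end Awayι

section Poly

variable {A σ : Type u} [CommRing A] [SetLike σ A] [AddSubgroupClass σ A] {𝒜 : ℕ → σ}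
  [GradedRing 𝒜]
  {B τ : Type u} [CommRing B] [SetLike τ B] [AddSubgroupClass τ B] {ℬ : ℕ → τ} [GradedRing ℬ]
  (φ : 𝒜 →+*ᵍ ℬ) (f : A →+* B) (hφ : ∀ a : A, φ a = f a)
  (z : B) (hz : z ∈ ℬ 1) (hhat : Function.Bijective (Polynomial.eval₂RingHom f z))

/-- `A → B_(z)`, `a ↦ ∑ φ(a_i) / z ^ i`. -/
noncomputable def theta : A →+* Away ℬ z :=
  (LaurentPolynomial.eval₂ (RingHom.id (Away ℬ z)) 1).comp ((psi ℬ hz).comp φ.toRingHom)

lemma theta_of_mem (i : ℕ) (a : A) (ha : a ∈ 𝒜 i) :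
    theta φ z hz a = mk1 ℬ hz i (φ a) (φ.2 ha) := by
  unfold theta
  rw [RingHom.comp_apply, RingHom.comp_apply]
  change LaurentPolynomial.eval₂ _ _ (psi ℬ hz (φ a)) = _
  rw [psi_of_mem ℬ hz i (φ a) (φ.2 ha), LaurentPolynomial.eval₂_C_mul_T]
  simp

/-- `A[X] ≃ B`. -/
noncomputable def hhatEquiv : A[X] ≃+* B :=
  RingEquiv.ofBijective (Polynomial.eval₂RingHom f z) hhat

lemma hhatEquiv_apply (P : A[X]) : hhatEquiv f z hhat P = Polynomial.eval₂ f z P := rfl

/-- `B → A[T;T⁻¹]`, `a ↦ ∑ a_i T ^ i`, `z ↦ T`. -/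
noncomputable def F2 : B →+* A[T;T⁻¹] :=
  (Polynomial.eval₂RingHom (coact 𝒜) (LaurentPolynomial.T 1)).comp
    (hhatEquiv f z hhat).symm.toRingHom

lemma F2_eval₂ (P : A[X]) :
    F2 (𝒜 := 𝒜) f z hhat (Polynomial.eval₂ f z P) =
      Polynomial.eval₂ (coact 𝒜) (LaurentPolynomial.T 1) P := by
  unfold F2
  rw [RingHom.comp_apply, ← hhatEquiv_apply f z hhat]
  change Polynomial.eval₂RingHom _ _ ((hhatEquiv f z hhat).symm ((hhatEquiv f z hhat) P)) = _
  rw [RingEquiv.symm_apply_apply]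
  rfl

include hφ in
lemma compat (b : B) :
    AddMonoidAlgebra.mapRingHom ℤ (theta φ z hz) (F2 (𝒜 := 𝒜) f z hhat b) = psi ℬ hz b := by
  obtain ⟨P, rfl⟩ := hhat.surjective b
  have key : ((AddMonoidAlgebra.mapRingHom ℤ (theta φ z hz)).comp (F2 (𝒜 := 𝒜) f z hhat)).comp
      (Polynomial.eval₂RingHom f z) = (psi ℬ hz).comp (Polynomial.eval₂RingHom f z) := by
    apply Polynomial.ringHom_ext
    · intro a
      change AddMonoidAlgebra.mapRingHom ℤ (theta φ z hz)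
        (F2 (𝒜 := 𝒜) f z hhat (Polynomial.eval₂ f z (Polynomial.C a))) =
          psi ℬ hz (Polynomial.eval₂ f z (Polynomial.C a))
      rw [F2_eval₂, Polynomial.eval₂_C, Polynomial.eval₂_C, ← hφ]
      induction a using DirectSum.Decomposition.inductionOn 𝒜 with
      | zero => simp
      | @homogeneous i m =>
        rw [coact_of_mem 𝒜 i m.1 m.2, mapRingHom_C_mul_T, theta_of_mem φ z hz i m.1 m.2,
          psi_of_mem ℬ hz i (φ m.1) (φ.2 m.2)]
      | add m m' hm hm' => rw [map_add, map_add, map_add, map_add, hm, hm']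
    · change AddMonoidAlgebra.mapRingHom ℤ (theta φ z hz)
        (F2 (𝒜 := 𝒜) f z hhat (Polynomial.eval₂ f z Polynomial.X)) =
          psi ℬ hz (Polynomial.eval₂ f z Polynomial.X)
      rw [F2_eval₂, Polynomial.eval₂_X, Polynomial.eval₂_X, psi_of_mem ℬ hz 1 z hz, mk1_self,
        map_one, one_mul]
      have : (LaurentPolynomial.T 1 : A[T;T⁻¹]) =
          LaurentPolynomial.C 1 * LaurentPolynomial.T 1 := by rw [map_one, one_mul]
      rw [this, mapRingHom_C_mul_T, map_one, map_one, one_mul]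
      rfl
  exact congrArg (fun g ↦ g P) key

include hφ hhat in
lemma theta_surjective : Function.Surjective (theta φ z hz) := by
  intro y
  obtain ⟨n, b, hb, rfl⟩ := Away.mk_surjective ℬ hz y
  have hb' : b ∈ ℬ n := by rwa [smul_eq_mul, mul_one] at hb
  have h := compat φ f hφ z hz hhat b
  rw [psi_of_mem ℬ hz n b hb', ← LaurentPolynomial.single_eq_C_mul_T] at h
  refine ⟨(F2 (𝒜 := 𝒜) f z hhat b).coeff (n : ℤ), ?_⟩
  have h2 := congrArg (fun g : (Away ℬ z)[T;T⁻¹] ↦ g.coeff (n : ℤ)) h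
  simp only [AddMonoidAlgebra.coeff_mapRingHom, AddMonoidAlgebra.coeff_single,
    Finsupp.single_eq_same] at h2
  exact h2

/-- `B → A`, `z ↦ 1`. -/
noncomputable def ev1 : B →+* A :=
  (Polynomial.evalRingHom (1 : A)).comp (hhatEquiv f z hhat).symm.toRingHom

lemma ev1_eval₂ (P : A[X]) : ev1 f z hhat (Polynomial.eval₂ f z P) = Polynomial.eval 1 P := by
  unfold ev1
  rw [RingHom.comp_apply, ← hhatEquiv_apply f z hhat]
  change Polynomial.evalRingHom _ ((hhatEquiv f z hhat).symm ((hhatEquiv f z hhat) P)) = _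
  rw [RingEquiv.symm_apply_apply]
  rfl

lemma ev1_f (a : A) : ev1 f z hhat (f a) = a := by
  have h := ev1_eval₂ f z hhat (Polynomial.C a)
  rw [Polynomial.eval₂_C, Polynomial.eval_C] at h
  exact h

lemma ev1_z : ev1 f z hhat z = 1 := by
  have h := ev1_eval₂ f z hhat (Polynomial.X : A[X])
  rw [Polynomial.eval₂_X, Polynomial.eval_X] at h
  exact h

/-- `B_(z) → A`. -/
noncomputable def lam : Away ℬ z →+* A :=
  (Localization.awayLift (ev1 f z hhat) z (by rw [ev1_z]; exact isUnit_one)).comp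
    (algebraMap (Away ℬ z) (Localization.Away z))

lemma lam_of_val (q : Away ℬ z) (b : B) (k : ℕ)
    (hq : q.val = Localization.mk b (⟨z ^ k, k, rfl⟩ : Submonoid.powers z)) :
    lam (ℬ := ℬ) f z hhat q = ev1 f z hhat b := by
  unfold lam
  rw [RingHom.comp_apply, HomogeneousLocalization.algebraMap_apply, hq,
    Localization.mk_eq_mk'_apply]
  unfold Localization.awayLift IsLocalization.Away.lift
  rw [IsLocalization.lift_mk'_spec]
  change ev1 f z hhat b = ev1 f z hhat (z ^ k) * _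
  rw [map_pow, ev1_z, one_pow, one_mul]

lemma lam_mk1 (i : ℕ) (b : B) (hb : b ∈ ℬ i) :
    lam (ℬ := ℬ) f z hhat (mk1 ℬ hz i b hb) = ev1 f z hhat b :=
  lam_of_val f z hhat _ b i (val_mk1 ℬ hz i b hb)

include hφ in
lemma lam_theta (a : A) : lam (ℬ := ℬ) f z hhat (theta φ z hz a) = a := by
  induction a using DirectSum.Decomposition.inductionOn 𝒜 with
  | zero => simp
  | @homogeneous i m =>
    rw [theta_of_mem φ z hz i m.1 m.2, lam_mk1, hφ, ev1_f]
  | add m m' hm hm' => rw [map_add, map_add, hm, hm']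

include hφ hhat in
lemma theta_bijective : Function.Bijective (theta φ z hz) := by
  refine ⟨?_, theta_surjective φ f hφ z hz hhat⟩
  intro a a' h
  have := congrArg (lam (ℬ := ℬ) f z hhat) h
  rwa [lam_theta φ f hφ z hz hhat, lam_theta φ f hφ z hz hhat] at this

/-- `A ≃ B_(z)` for `B = A[z]`. -/
noncomputable def thetaEquiv : A ≃+* Away ℬ z :=
  RingEquiv.ofBijective (theta φ z hz) (theta_bijective φ f hφ z hz hhat)

lemma thetaEquiv_apply (a : A) : thetaEquiv φ f hφ z hz hhat a = theta φ z hz a := rfl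

include hφ in
/-- `lam` is the inverse of `theta`. -/
lemma theta_lam (q : Away ℬ z) : theta φ z hz (lam (ℬ := ℬ) f z hhat q) = q := by
  obtain ⟨a, rfl⟩ := theta_surjective φ f hφ z hz hhat q
  rw [lam_theta φ f hφ z hz hhat]

end Poly

end Groth.Agent.Lib.H60AwayDegOne
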