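import Mathlib.AlgebraicGeometry.ProjectiveSpectrum.Functor

/-!
# `Away 𝒜 s → Away ℬ t` for a graded homomorphism `g` with `g s = t`

Mathlib's `HomogeneousLocalization.Away.map g s` has target `Away ℬ (g s)`; when `g s` is only
propositionally equal to the element `t` one localizes at, the types do not match.  `awayMapEq`
takes the equation as an argument.

* `awayMapEq g s t h : Away 𝒜 s →+* Away ℬ t`, `awayMapEq_comp`, `awayMapEq_congr`, `awayMapEq_eq_id`
* `awayι_comp_map_eq`: compatibility with `Proj.awayι` and `Proj.map`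
* `awayMap_comp_map`: `awayMap` (`A_(f) → A_(fg)`) commutes with `Away.map`
* `awayι_congr`: `Proj.awayι` does not depend on the degree
-/

set_option autoImplicit false
universe u
open CategoryTheory AlgebraicGeometry HomogeneousLocalization
open scoped HomogeneousIdeal

namespace Groth.Agent.Lib.H60AwayMapEq

variable {A B C σ τ υ : Type u} [CommRing A] [SetLike σ A] [AddSubgroupClass σ A]
  [CommRing B] [SetLike τ B] [AddSubgroupClass τ B]
  [CommRing C] [SetLike υ C] [AddSubgroupClass υ C]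
  {𝒜 : ℕ → σ} {ℬ : ℕ → τ} {𝒞 : ℕ → υ} [GradedRing 𝒜] [GradedRing ℬ] [GradedRing 𝒞]

omit [AddSubgroupClass σ A] [AddSubgroupClass τ B] [GradedRing 𝒜] [GradedRing ℬ] in
lemma powers_le_comap (g : 𝒜 →+*ᵍ ℬ) (s : A) (t : B) (h : g s = t) :
    Submonoid.powers s ≤ (Submonoid.powers t).comap g := by
  rintro _ ⟨n, rfl⟩
  exact ⟨n, by simp [← h]⟩

/-- `Away 𝒜 s → Away ℬ t` induced by a graded homomorphism `g` with `g s = t`. -/
noncomputable def awayMapEq (g : 𝒜 →+*ᵍ ℬ) (s : A) (t : B) (h : g s = t) :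
    Away 𝒜 s →+* Away ℬ t :=
  HomogeneousLocalization.map g (powers_le_comap g s t h)

lemma awayMapEq_rfl (g : 𝒜 →+*ᵍ ℬ) (s : A) : awayMapEq g s (g s) rfl = Away.map g s := rfl

lemma awayMapEq_comp (f : 𝒜 →+*ᵍ ℬ) (g : ℬ →+*ᵍ 𝒞) (s : A) (t : B) (r : C) (h1 : f s = t)
    (h2 : g t = r) :
    (awayMapEq g t r h2).comp (awayMapEq f s t h1) =
      awayMapEq (g.comp f) s r (by rw [GradedRingHom.comp_apply, h1, h2]) :=
  (HomogeneousLocalization.map_comp _ _).symm

lemma awayMapEq_congr (f f' : 𝒜 →+*ᵍ ℬ) (hff' : ∀ a, f a = f' a) (s : A) (t : B) (h : f s = t) :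
    awayMapEq f s t h = awayMapEq f' s t (by rw [← hff']; exact h) := by
  have : f = f' := GradedRingHom.ext hff'
  subst this
  rfl

lemma awayMapEq_eq_id (f : 𝒜 →+*ᵍ 𝒜) (hf : ∀ a, f a = a) (s : A) (h : f s = s) :
    awayMapEq f s s h = RingHom.id _ := by
  have : f = GradedRingHom.id 𝒜 := GradedRingHom.ext hf
  subst this
  exact HomogeneousLocalization.map_id 𝒜 _

/-- `Proj.awayι_comp_map` with the image element given up to a propositional equality. -/
lemma awayι_comp_map_eq (g : 𝒜 →+*ᵍ ℬ) (hg : ℬ₊ ≤ 𝒜₊.map g) {i : ℕ} (hi : 0 < i) (s : A)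
    (hs : s ∈ 𝒜 i) (t : B) (h : g s = t) (ht : t ∈ ℬ i) :
    Proj.awayι ℬ t ht hi ≫ Proj.map g hg =
      Spec.map (CommRingCat.ofHom (awayMapEq g s t h)) ≫ Proj.awayι 𝒜 s hs hi := by
  subst h
  exact Proj.awayι_comp_map g hg hi s hs

/-- `awayMap` commutes with `Away.map`. -/
lemma awayMap_comp_map (ψ : 𝒜 →+*ᵍ ℬ) {d e : ℕ} {f g x : A} (hf : f ∈ 𝒜 d) (hg : g ∈ 𝒜 e)
    (hx : x = f * g) (hx' : ψ x = ψ f * ψ g) :
    (awayMap ℬ (ψ.2 hg) hx').comp (Away.map ψ f) = (Away.map ψ x).comp (awayMap 𝒜 hg hx) := by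
  ext a
  obtain ⟨n, a, ha, rfl⟩ := a.mk_surjective _ hf
  simp only [RingHom.coe_comp, Function.comp_apply, Away.map_mk, awayMap_mk]
  simp only [Away.val_mk, map_mul, map_pow]
  rfl

/-- `Proj.awayι` does not depend on the degree. -/
lemma awayι_congr {f : A} {m m' : ℕ} (hf : f ∈ 𝒜 m) (hm : 0 < m) (hf' : f ∈ 𝒜 m') (hm' : 0 < m') :
    Proj.awayι 𝒜 f hf hm = Proj.awayι 𝒜 f hf' hm' := by
  unfold Proj.awayι
  congr 1

end Groth.Agent.Lib.H60AwayMapEq
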