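import Groth.Agent.Lib.H60AwayDegOne
import Mathlib.AlgebraicGeometry.Morphisms.FiniteType
import Mathlib.RingTheory.TensorProduct.MonoidAlgebra

/-!
# Degree-one localizations of `A` and `A[z]` (gradings by any `AddSubgroupClass`)

General-`σ` versions of the in-file algebra of S3576 and S3598 (so that it applies to
`RelProj.QCGrAlg.deg`), for `g ∈ 𝒜 1`:
* `laurentEquiv 𝒜 hg : A_g ≃+* A_(g)[T;T⁻¹]`, `finiteType_algebraMap`, `isPushout_away_laurent`;
* for `φ : 𝒜 →+*ᵍ ℬ` with `B = A[z]`, `z ∈ ℬ 1`: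
  `thetaEquiv : A_(g)[X] ≃+* B_(φ g)`, `finiteType_map`, `isPushout_away_poly`;
* `beta : B_(z φ g) →+* A_g` and `gamma : B_(φ g) →+* A_g` (`b / (φ g)^n ↦ ev b / g^n` where
  `ev : B → A` is "`z = 1`"), with `beta_comp_awayMap`, `gamma_comp_map`.
-/

set_option autoImplicit false
set_option linter.unusedSectionVars false
universe u
open AlgebraicGeometry CategoryTheory Limits

namespace Groth.Agent.Lib.H60AwayPoly

open HomogeneousLocalization
open Groth.Agent.Lib.H60AwayDegOne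

section Laurent

open LaurentPolynomial

variable {A σ : Type u} [CommRing A] [SetLike σ A] [AddSubgroupClass σ A] (𝒜 : ℕ → σ)
  [GradedRing 𝒜] {g : A} (hg : g ∈ 𝒜 1)

/-- `g` as a unit of `A_g`. -/
noncomputable def gUnit : (Localization.Away g)ˣ :=
  (IsLocalization.Away.algebraMap_isUnit (S := Localization.Away g) g).unit

omit [GradedRing 𝒜] in
lemma gUnit_val : ((gUnit (g := g)) : Localization.Away g) = algebraMap A _ g := rfl

/-- `A_(g)[T;T⁻¹] → A_g`. -/
noncomputable def Phi : (Away 𝒜 g)[T;T⁻¹] →+* Localization.Away g :=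
  LaurentPolynomial.eval₂ (algebraMap (Away 𝒜 g) (Localization.Away g)) gUnit

/-- `A_g → A_(g)[T;T⁻¹]`. -/
noncomputable def Psi : Localization.Away g →+* (Away 𝒜 g)[T;T⁻¹] :=
  Localization.awayLift (psi 𝒜 hg) g (by rw [psi_g]; exact isUnit_T 1)

lemma Psi_algebraMap (a : A) : Psi 𝒜 hg (algebraMap A _ a) = psi 𝒜 hg a :=
  IsLocalization.lift_eq _ _

lemma Phi_C (a : Away 𝒜 g) : Phi 𝒜 (C a) = algebraMap _ _ a := eval₂_C _ _ _

lemma Phi_T_one : Phi 𝒜 (T 1 : (Away 𝒜 g)[T;T⁻¹]) = algebraMap A _ g := by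
  have := eval₂_T_n (algebraMap (Away 𝒜 g) (Localization.Away g)) (gUnit (g := g)) 1
  rw [pow_one] at this
  exact this

lemma Phi_T_nat (n : ℕ) : Phi 𝒜 (T n : (Away 𝒜 g)[T;T⁻¹]) = algebraMap A _ (g ^ n) := by
  have := eval₂_T_n (algebraMap (Away 𝒜 g) (Localization.Away g)) (gUnit (g := g)) n
  rw [map_pow]
  exact this

lemma Psi_algebraMap_away (a : Away 𝒜 g) :
    Psi 𝒜 hg (algebraMap (Away 𝒜 g) (Localization.Away g) a) = C a := by
  obtain ⟨n, b, hb, rfl⟩ := Away.mk_surjective 𝒜 hg a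
  have hb' : b ∈ 𝒜 n := by rwa [smul_eq_mul, mul_one] at hb
  rw [HomogeneousLocalization.algebraMap_apply, Away.val_mk, Localization.mk_eq_mk'_apply]
  unfold Psi Localization.awayLift IsLocalization.Away.lift
  rw [IsLocalization.lift_mk'_spec]
  change psi 𝒜 hg b = psi 𝒜 hg (g ^ n) * _
  rw [map_pow, psi_g, psi_of_mem 𝒜 hg n b hb', T_pow, mul_one, mul_comm]
  rfl

lemma Psi_comp_Phi : (Psi 𝒜 hg).comp (Phi 𝒜) = RingHom.id _ := by
  apply IsLocalization.ringHom_ext (Submonoid.powers (Polynomial.X : Polynomial (Away 𝒜 g)))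
  apply Polynomial.ringHom_ext
  · intro a
    simp only [RingHom.comp_apply, algebraMap_eq_toLaurent, Polynomial.toLaurent_C,
      RingHom.id_apply, Phi_C, Psi_algebraMap_away]
  · simp only [RingHom.comp_apply, algebraMap_eq_toLaurent, Polynomial.toLaurent_X,
      RingHom.id_apply, Phi_T_one, Psi_algebraMap, psi_g]

lemma Phi_comp_Psi : (Phi 𝒜).comp (Psi 𝒜 hg) = RingHom.id _ := by
  apply IsLocalization.ringHom_ext (Submonoid.powers g)
  ext a
  simp only [RingHom.comp_apply, RingHom.id_apply, Psi_algebraMap]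
  induction a using DirectSum.Decomposition.inductionOn 𝒜 with
  | zero => simp
  | @homogeneous i m =>
    rw [psi_of_mem 𝒜 hg i m.1 m.2, map_mul, Phi_C, Phi_T_nat,
      HomogeneousLocalization.algebraMap_apply, val_mk1, Localization.mk_eq_mk'_apply]
    exact IsLocalization.mk'_spec _ _ _
  | add m m' hm hm' => rw [map_add, map_add, map_add, hm, hm']

/-- `A_g ≃ A_(g)[T;T⁻¹]` for `g` of degree one. -/
noncomputable def laurentEquiv : Localization.Away g ≃+* (Away 𝒜 g)[T;T⁻¹] :=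
  RingEquiv.ofRingHom (Psi 𝒜 hg) (Phi 𝒜) (Psi_comp_Phi 𝒜 hg) (Phi_comp_Psi 𝒜 hg)

include hg in
lemma finiteType_algebraMap :
    (algebraMap (Away 𝒜 g) (Localization.Away g)).FiniteType := by
  have h1 : (C : Away 𝒜 g →+* (Away 𝒜 g)[T;T⁻¹]).FiniteType := by
    have : Algebra.FiniteType (Away 𝒜 g) (Away 𝒜 g)[T;T⁻¹] := inferInstance
    exact RingHom.finiteType_algebraMap.mpr this
  have h2 := h1.comp_surjective (g := (laurentEquiv 𝒜 hg).symm.toRingHom)
    (laurentEquiv 𝒜 hg).symm.surjective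
  convert h2 using 1
  ext a : 1
  change _ = (laurentEquiv 𝒜 hg).symm (C a)
  rw [RingEquiv.eq_symm_apply]
  exact Psi_algebraMap_away 𝒜 hg a

open scoped AlgebraMonoidAlgebra in
lemma isPushout_laurent (R S : Type u) [CommRing R] [CommRing S] (ρ : R →+* S) :
    IsPushout (CommRingCat.ofHom ρ) (CommRingCat.ofHom (C : R →+* R[T;T⁻¹]))
      (CommRingCat.ofHom (C : S →+* S[T;T⁻¹]))
      (CommRingCat.ofHom (AddMonoidAlgebra.mapRingHom ℤ ρ : R[T;T⁻¹] →+* S[T;T⁻¹])) := by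
  algebraize [ρ]
  exact CommRingCat.isPushout_of_isPushout R S (R[T;T⁻¹]) (S[T;T⁻¹])

/-- The pushout square `A_(g) → A_g`, `A_(g) → K`, for `g` of degree one. -/
lemma isPushout_away_laurent {K : Type u} [CommRing K] (ρ : Away 𝒜 g →+* K) :
    IsPushout (CommRingCat.ofHom (algebraMap (Away 𝒜 g) (Localization.Away g)))
      (CommRingCat.ofHom ρ)
      (CommRingCat.ofHom ((AddMonoidAlgebra.mapRingHom ℤ ρ).comp (laurentEquiv 𝒜 hg).toRingHom))
      (CommRingCat.ofHom (C : K →+* K[T;T⁻¹])) := by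
  refine (isPushout_laurent (Away 𝒜 g) K ρ).flip.of_iso (Iso.refl _)
    (laurentEquiv 𝒜 hg).symm.toCommRingCatIso (Iso.refl _) (Iso.refl _) ?_ ?_ ?_ ?_
  · ext a
    change (laurentEquiv 𝒜 hg).symm (C a) = algebraMap _ _ a
    rw [RingEquiv.symm_apply_eq]
    exact (Psi_algebraMap_away 𝒜 hg a).symm
  · simp
  · refine CommRingCat.hom_ext (RingHom.ext fun a => ?_)
    change AddMonoidAlgebra.mapRingHom ℤ ρ a =
      AddMonoidAlgebra.mapRingHom ℤ ρ ((laurentEquiv 𝒜 hg) ((laurentEquiv 𝒜 hg).symm a))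
    rw [RingEquiv.apply_symm_apply]
  · simp

end Laurent

section Poly

open scoped Polynomial LaurentPolynomial

variable {A σ : Type u} [CommRing A] [SetLike σ A] [AddSubgroupClass σ A] {𝒜 : ℕ → σ}
  [GradedRing 𝒜]
  {B τ : Type u} [CommRing B] [SetLike τ B] [AddSubgroupClass τ B] {ℬ : ℕ → τ} [GradedRing ℬ]
  (φ : 𝒜 →+*ᵍ ℬ) (f : A →+* B) (hφ : ∀ a : A, φ a = f a)
  (z : B) (hz : z ∈ ℬ 1) (hhat : Function.Bijective (Polynomial.eval₂RingHom f z))
  {g : A} (hg : g ∈ 𝒜 1)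

/-- `z / g`. -/
noncomputable def zg : Away ℬ (φ g) := mk1 ℬ (φ.2 hg) 1 z hz

/-- `A_(g)[X] → B_(g)`, `X ↦ z / g`. -/
noncomputable def Theta : (Away 𝒜 g)[X] →+* Away ℬ (φ g) :=
  Polynomial.eval₂RingHom (Away.map φ g) (zg φ z hz hg)

lemma Theta_C (c : Away 𝒜 g) : Theta φ z hz hg (Polynomial.C c) = Away.map φ g c :=
  Polynomial.eval₂_C _ _

lemma Theta_X : Theta φ z hz hg Polynomial.X = zg φ z hz hg :=
  Polynomial.eval₂_X _ _

lemma map_mk1 (i : ℕ) (a : A) (ha : a ∈ 𝒜 i) :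
    Away.map φ g (mk1 𝒜 hg i a ha) = mk1 ℬ (φ.2 hg) i (φ a) (φ.2 ha) :=
  Away.map_mk _ _ _ _ _ _

/-- `B → A_(g)[X][T;T⁻¹]`, `a ↦ (a / g ^ i) T ^ i`, `z ↦ X T`. -/
noncomputable def G2 : B →+* (Away 𝒜 g)[X][T;T⁻¹] :=
  (Polynomial.eval₂RingHom
    ((AddMonoidAlgebra.mapRingHom ℤ (Polynomial.C : Away 𝒜 g →+* (Away 𝒜 g)[X])).comp (psi 𝒜 hg))
    (LaurentPolynomial.C Polynomial.X * LaurentPolynomial.T 1)).comp
    (hhatEquiv f z hhat).symm.toRingHom

lemma G2_eval₂ (P : A[X]) :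
    G2 f z hhat hg (Polynomial.eval₂ f z P) = Polynomial.eval₂
      ((AddMonoidAlgebra.mapRingHom ℤ (Polynomial.C : Away 𝒜 g →+* (Away 𝒜 g)[X])).comp (psi 𝒜 hg))
      (LaurentPolynomial.C Polynomial.X * LaurentPolynomial.T 1) P := by
  unfold G2
  rw [RingHom.comp_apply, ← hhatEquiv_apply f z hhat]
  change Polynomial.eval₂RingHom _ _ ((hhatEquiv f z hhat).symm ((hhatEquiv f z hhat) P)) = _
  rw [RingEquiv.symm_apply_apply]
  rfl

include hφ in
lemma G2_phi (i : ℕ) (a : A) (ha : a ∈ 𝒜 i) :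
    G2 f z hhat hg (φ a) =
      LaurentPolynomial.C (Polynomial.C (mk1 𝒜 hg i a ha)) * LaurentPolynomial.T i := by
  have : φ a = Polynomial.eval₂ f z (Polynomial.C a) := by
    rw [Polynomial.eval₂_C, hφ]
  rw [this, G2_eval₂, Polynomial.eval₂_C, RingHom.comp_apply, psi_of_mem 𝒜 hg i a ha,
    mapRingHom_C_mul_T]

lemma G2_z : G2 f z hhat hg z =
    LaurentPolynomial.C Polynomial.X * LaurentPolynomial.T 1 := by
  have h := G2_eval₂ f z hhat hg (Polynomial.X : A[X])
  rw [Polynomial.eval₂_X, Polynomial.eval₂_X] at h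
  exact h

include hφ in
/-- Compatibility of the two "Laurent expansions". -/
lemma compatG (b : B) :
    AddMonoidAlgebra.mapRingHom ℤ (Theta φ z hz hg) (G2 f z hhat hg b) = psi ℬ (φ.2 hg) b := by
  obtain ⟨P, rfl⟩ := hhat.surjective b
  have key : ((AddMonoidAlgebra.mapRingHom ℤ (Theta φ z hz hg)).comp (G2 f z hhat hg)).comp
      (Polynomial.eval₂RingHom f z) =
      (psi ℬ (φ.2 hg)).comp (Polynomial.eval₂RingHom f z) := by
    apply Polynomial.ringHom_ext
    · intro a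
      change AddMonoidAlgebra.mapRingHom ℤ (Theta φ z hz hg)
        (G2 f z hhat hg (Polynomial.eval₂ f z (Polynomial.C a))) =
          psi ℬ (φ.2 hg) (Polynomial.eval₂ f z (Polynomial.C a))
      rw [Polynomial.eval₂_C, ← hφ]
      induction a using DirectSum.Decomposition.inductionOn 𝒜 with
      | zero => simp
      | @homogeneous i m =>
        rw [G2_phi φ f hφ z hhat hg i m.1 m.2, mapRingHom_C_mul_T, Theta_C, map_mk1,
          psi_of_mem ℬ (φ.2 hg) i (φ m.1) (φ.2 m.2)]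
      | add m m' hm hm' => rw [map_add, map_add, map_add, map_add, hm, hm']
    · change AddMonoidAlgebra.mapRingHom ℤ (Theta φ z hz hg)
        (G2 f z hhat hg (Polynomial.eval₂ f z Polynomial.X)) =
          psi ℬ (φ.2 hg) (Polynomial.eval₂ f z Polynomial.X)
      rw [Polynomial.eval₂_X, G2_z, mapRingHom_C_mul_T, Theta_X,
        psi_of_mem ℬ (φ.2 hg) 1 z hz]
      rfl
  exact congrArg (fun k ↦ k P) key

include hφ hhat in
lemma Theta_surjective : Function.Surjective (Theta φ z hz hg) := by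
  intro y
  obtain ⟨n, b, hb, rfl⟩ := Away.mk_surjective ℬ (φ.2 hg) y
  have hb' : b ∈ ℬ n := by rwa [smul_eq_mul, mul_one] at hb
  have h := compatG φ f hφ z hz hhat hg b
  rw [psi_of_mem ℬ (φ.2 hg) n b hb', ← LaurentPolynomial.single_eq_C_mul_T] at h
  refine ⟨(G2 f z hhat hg b).coeff (n : ℤ), ?_⟩
  have h2 := congrArg (fun k : (Away ℬ (φ g))[T;T⁻¹] ↦ k.coeff (n : ℤ)) h
  simp only [AddMonoidAlgebra.coeff_mapRingHom, AddMonoidAlgebra.coeff_single,
    Finsupp.single_eq_same] at h2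
  exact h2

/-- dehomogenisation `B → A_(g)[X]` (`g ↦ 1`, `z ↦ X`). -/
noncomputable def Xi : B →+* (Away 𝒜 g)[X] :=
  (LaurentPolynomial.eval₂ (RingHom.id (Away 𝒜 g)[X]) 1).comp (G2 f z hhat hg)

include hφ in
lemma Xi_phi (i : ℕ) (a : A) (ha : a ∈ 𝒜 i) :
    Xi f z hhat hg (φ a) = Polynomial.C (mk1 𝒜 hg i a ha) := by
  unfold Xi
  rw [RingHom.comp_apply, G2_phi φ f hφ z hhat hg i a ha, LaurentPolynomial.eval₂_C_mul_T]
  simp

lemma Xi_z : Xi f z hhat hg z = Polynomial.X := by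
  unfold Xi
  rw [RingHom.comp_apply, G2_z, LaurentPolynomial.eval₂_C_mul_T]
  simp

include hφ in
lemma Xi_phi_g : Xi f z hhat hg (φ g) = 1 := by
  rw [Xi_phi φ f hφ z hhat hg 1 g hg, mk1_self, map_one]

/-- `B_(g) → A_(g)[X]`. -/
noncomputable def Lambda : Away ℬ (φ g) →+* (Away 𝒜 g)[X] :=
  (Localization.awayLift (Xi f z hhat hg) (φ g)
    (by rw [Xi_phi_g φ f hφ z hhat hg]; exact isUnit_one)).comp
    (algebraMap (Away ℬ (φ g)) (Localization.Away (φ g)))

lemma Lambda_mk1 (i : ℕ) (b : B) (hb : b ∈ ℬ i) :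
    Lambda φ f hφ z hhat hg (mk1 ℬ (φ.2 hg) i b hb) = Xi f z hhat hg b := by
  unfold Lambda
  rw [RingHom.comp_apply, HomogeneousLocalization.algebraMap_apply, val_mk1,
    Localization.mk_eq_mk'_apply]
  unfold Localization.awayLift IsLocalization.Away.lift
  rw [IsLocalization.lift_mk'_spec]
  change Xi f z hhat hg b = Xi f z hhat hg ((φ g) ^ i) * _
  rw [map_pow, Xi_phi_g φ f hφ z hhat hg, one_pow, one_mul]

lemma Lambda_comp_Theta :
    (Lambda φ f hφ z hhat hg).comp (Theta φ z hz hg) = RingHom.id _ := by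
  apply Polynomial.ringHom_ext
  · intro c
    obtain ⟨n, a, ha, rfl⟩ := Away.mk_surjective 𝒜 hg c
    have ha' : a ∈ 𝒜 n := by rwa [smul_eq_mul, mul_one] at ha
    change Lambda φ f hφ z hhat hg (Theta φ z hz hg (Polynomial.C (mk1 𝒜 hg n a ha'))) =
      Polynomial.C (mk1 𝒜 hg n a ha')
    rw [Theta_C, map_mk1, Lambda_mk1, Xi_phi φ f hφ z hhat hg n a ha']
  · change Lambda φ f hφ z hhat hg (Theta φ z hz hg Polynomial.X) = Polynomial.X
    rw [Theta_X]
    unfold zg
    rw [Lambda_mk1, Xi_z]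

include hφ hhat in
lemma Theta_bijective : Function.Bijective (Theta φ z hz hg) := by
  refine ⟨?_, Theta_surjective φ f hφ z hz hhat hg⟩
  intro P Q hPQ
  have := congrArg (Lambda φ f hφ z hhat hg) hPQ
  have h := Lambda_comp_Theta φ f hφ z hz hhat hg
  rw [← RingHom.comp_apply, ← RingHom.comp_apply, h] at this
  exact this

/-- `A_(g)[X] ≃ B_(g)`. -/
noncomputable def thetaEquiv : (Away 𝒜 g)[X] ≃+* Away ℬ (φ g) :=
  RingEquiv.ofBijective (Theta φ z hz hg) (Theta_bijective φ f hφ z hz hhat hg)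

lemma thetaEquiv_C (c : Away 𝒜 g) :
    thetaEquiv φ f hφ z hz hhat hg (Polynomial.C c) = Away.map φ g c :=
  Theta_C φ z hz hg c

include f hφ z hz hhat hg in
lemma finiteType_map : (Away.map φ g).FiniteType := by
  have h1 : (Polynomial.C : Away 𝒜 g →+* (Away 𝒜 g)[X]).FiniteType := by
    have : Algebra.FiniteType (Away 𝒜 g) (Away 𝒜 g)[X] := inferInstance
    exact RingHom.finiteType_algebraMap.mpr this
  have h2 := h1.comp_surjective (g := Theta φ z hz hg) (Theta_surjective φ f hφ z hz hhat hg)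
  convert h2 using 1
  ext c : 1
  exact (Theta_C φ z hz hg c).symm

lemma isPushout_poly (R S : Type u) [CommRing R] [CommRing S] (ρ : R →+* S) :
    IsPushout (CommRingCat.ofHom ρ) (CommRingCat.ofHom (Polynomial.C : R →+* R[X]))
      (CommRingCat.ofHom (Polynomial.C : S →+* S[X]))
      (CommRingCat.ofHom (Polynomial.mapRingHom ρ)) := by
  algebraize [ρ, Polynomial.mapRingHom ρ]
  exact CommRingCat.isPushout_of_isPushout R S R[X] S[X]

/-- The pushout square `A_(g) → B_(g)`, `A_(g) → K`. -/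
lemma isPushout_away_poly {K : Type u} [CommRing K] (ρ : Away 𝒜 g →+* K) :
    IsPushout (CommRingCat.ofHom (Away.map φ g)) (CommRingCat.ofHom ρ)
      (CommRingCat.ofHom ((Polynomial.mapRingHom ρ).comp
        (thetaEquiv φ f hφ z hz hhat hg).symm.toRingHom))
      (CommRingCat.ofHom (Polynomial.C : K →+* K[X])) := by
  refine (isPushout_poly (Away 𝒜 g) K ρ).flip.of_iso (Iso.refl _)
    (thetaEquiv φ f hφ z hz hhat hg).toCommRingCatIso (Iso.refl _) (Iso.refl _) ?_ ?_ ?_ ?_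
  · refine CommRingCat.hom_ext (RingHom.ext fun c => ?_)
    exact thetaEquiv_C φ f hφ z hz hhat hg c
  · simp
  · refine CommRingCat.hom_ext (RingHom.ext fun P => ?_)
    change Polynomial.mapRingHom ρ P =
      Polynomial.mapRingHom ρ ((thetaEquiv φ f hφ z hz hhat hg).symm
        ((thetaEquiv φ f hφ z hz hhat hg) P))
    rw [RingEquiv.symm_apply_apply]
  · simp

end Poly

section Gamma

variable {A σ : Type u} [CommRing A] [SetLike σ A] [AddSubgroupClass σ A] {𝒜 : ℕ → σ}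
  [GradedRing 𝒜]
  {B τ : Type u} [CommRing B] [SetLike τ B] [AddSubgroupClass τ B] {ℬ : ℕ → τ} [GradedRing ℬ]
  (φ : 𝒜 →+*ᵍ ℬ) (z : B) (hz : z ∈ ℬ 1)
  (ev : B →+* A) (hev : ∀ a : A, ev (φ a) = a) (hevz : ev z = 1)
  {g : A} (hg : g ∈ 𝒜 1)

/-- `B_(z φ g) → A_g`, `b / (z φ g)^n ↦ ev b / g^n`. -/
noncomputable def beta : Away ℬ (z * φ g) →+* Localization.Away g :=
  (Localization.awayLift ((algebraMap A (Localization.Away g)).comp ev) (z * φ g)
    (by
      rw [RingHom.comp_apply, map_mul, hevz, one_mul, hev]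
      exact IsLocalization.Away.algebraMap_isUnit g)).comp
    (algebraMap (Away ℬ (z * φ g)) (Localization.Away (z * φ g)))

lemma beta_of_val (q : Away ℬ (z * φ g)) (b : B) (k : ℕ)
    (hq : q.val = Localization.mk b (⟨(z * φ g) ^ k, k, rfl⟩ : Submonoid.powers (z * φ g))) :
    beta φ z ev hev hevz q =
      Localization.mk (ev b) (⟨g ^ k, k, rfl⟩ : Submonoid.powers g) := by
  unfold beta
  rw [RingHom.comp_apply, HomogeneousLocalization.algebraMap_apply, hq,
    Localization.mk_eq_mk'_apply]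
  unfold Localization.awayLift IsLocalization.Away.lift
  rw [IsLocalization.lift_mk'_spec]
  change algebraMap A (Localization.Away g) (ev b) =
    algebraMap A (Localization.Away g) (ev ((z * φ g) ^ k)) * _
  rw [map_pow, map_mul, hevz, one_mul, hev, Localization.mk_eq_mk'_apply]
  exact (IsLocalization.mk'_spec' _ _ _).symm

include hz in
/-- `beta` restricted to `B_(z)` is "`z = 1`". -/
lemma beta_comp_awayMap (α : Away ℬ z →+* A)
    (hα : ∀ (q : Away ℬ z) (b : B) (k : ℕ),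
      q.val = Localization.mk b (⟨z ^ k, k, rfl⟩ : Submonoid.powers z) → α q = ev b) :
    (beta φ z ev hev hevz (g := g)).comp (awayMap ℬ (φ.2 hg) rfl) =
      (algebraMap A (Localization.Away g)).comp α := by
  ext q
  obtain ⟨n, b, hb, rfl⟩ := Away.mk_surjective ℬ hz q
  rw [RingHom.comp_apply, RingHom.comp_apply, hα _ b n (Away.val_mk ℬ n hz b hb), awayMap_mk]
  refine (beta_of_val φ z ev hev hevz _ (b * φ g ^ n) n (Away.val_mk ℬ n _ _ _)).trans ?_
  rw [map_mul, map_pow, hev, Localization.mk_eq_mk'_apply]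
  exact IsLocalization.mk'_mul_cancel_right (ev b) (⟨g ^ n, n, rfl⟩ : Submonoid.powers g)

/-- `B_(φ g) → A_g`, `b / (φ g)^n ↦ ev b / g^n`. -/
noncomputable def gamma : Away ℬ (φ g) →+* Localization.Away g :=
  (beta φ z ev hev hevz).comp (awayMap ℬ hz (mul_comm z (φ g)))

include hg in
lemma gamma_comp_map :
    (gamma φ z hz ev hev hevz (g := g)).comp (Away.map φ g) =
      algebraMap (Away 𝒜 g) (Localization.Away g) := by
  ext q
  obtain ⟨n, a, ha, rfl⟩ := Away.mk_surjective 𝒜 hg q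
  rw [RingHom.comp_apply, Away.map_mk]
  unfold gamma
  rw [RingHom.comp_apply, awayMap_mk]
  refine (beta_of_val φ z ev hev hevz _ (φ a * z ^ n) n (Away.val_mk ℬ n _ _ _)).trans ?_
  rw [map_mul, map_pow, hevz, one_pow, mul_one, hev, HomogeneousLocalization.algebraMap_apply,
    Away.val_mk]

end Gamma

end Groth.Agent.Lib.H60AwayPoly
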