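import Mathlib

/-!
# Surjectivity / injectivity of `Away.map g s : 𝒜_(s) → ℬ_(g s)` in terms of elements

For a graded ring homomorphism `g : 𝒜 →+*ᵍ ℬ`, `s ∈ 𝒜 n`, and a ring homomorphism `σ : R → ℬ 0`
such that `R → ℬ_(g s)` is surjective:
* `surjective_map_iff`: `Away.map g s` is surjective iff every `σ b` is of the form
  `g s' / (g s)^m`, `m > 0`;
* `injective_map_iff`: `Away.map g s` is injective iff every `s' ∈ 𝒜 (m n)` (`m > 0`) killed by `g`
  is killed by a power of `s`.
-/

set_option autoImplicit false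
universe u v w
open HomogeneousLocalization

namespace Groth.Agent.Lib.H60AwaySurj

variable {A : Type u} {B : Type v} [CommRing A] [CommRing B]
  {𝒜 : ℕ → AddSubgroup A} {ℬ : ℕ → AddSubgroup B} [GradedRing 𝒜] [GradedRing ℬ]
  (g : 𝒜 →+*ᵍ ℬ) {n : ℕ} {s : A} (hs : s ∈ 𝒜 n)

/-- The degree-zero fraction `b / 1`. -/
lemma val_fromZero (t : B) (b : ℬ 0) :
    (fromZeroRingHom ℬ (Submonoid.powers t) b).val = algebraMap B (Localization.Away t) b := by
  change Localization.mk (b : B) 1 = _
  rw [Localization.mk_one_eq_algebraMap]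

include hs in
lemma exists_of_map_eq (b : ℬ 0) (x : Away 𝒜 s)
    (hx : Away.map g s x = fromZeroRingHom ℬ _ b) :
    ∃ (m : ℕ) (_ : 0 < m) (s' : A) (_ : s' ∈ 𝒜 (m * n)), (b : B) * (g s) ^ m = g s' := by
  obtain ⟨k, a, ha, rfl⟩ := Away.mk_surjective 𝒜 hs x
  rw [Away.map_mk] at hx
  have hv := congrArg HomogeneousLocalization.val hx
  rw [Away.val_mk, val_fromZero, ← Localization.mk_one_eq_algebraMap, Localization.mk_eq_mk_iff,
    Localization.r_iff_exists] at hv
  obtain ⟨⟨c, N, rfl⟩, hc⟩ := hv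
  simp only [OneMemClass.coe_one, one_mul] at hc
  refine ⟨N + 1 + k, by omega, s ^ (N + 1) * a, ?_, ?_⟩
  · have h1 : s ^ (N + 1) ∈ 𝒜 ((N + 1) • n) := SetLike.pow_mem_graded _ hs
    have h2 := SetLike.mul_mem_graded h1 ha
    have e : (N + 1) • n + k • n = (N + 1 + k) * n := by simp only [smul_eq_mul]; ring
    rwa [e] at h2
  · have e1 : g (s ^ (N + 1) * a) = g s * (g s ^ N * g a) := by
      rw [map_mul, map_pow, pow_succ]; ring
    rw [e1, hc]
    ring

include hs in
lemma map_mk_eq_fromZero (b : ℬ 0) (m : ℕ) (s' : A) (hs' : s' ∈ 𝒜 (m * n))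
    (h : (b : B) * (g s) ^ m = g s') :
    Away.map g s (Away.mk 𝒜 hs m s' (by rwa [smul_eq_mul])) = fromZeroRingHom ℬ _ b := by
  rw [Away.map_mk]
  apply HomogeneousLocalization.val_injective
  rw [Away.val_mk, val_fromZero, ← Localization.mk_one_eq_algebraMap, Localization.mk_eq_mk_iff,
    Localization.r_iff_exists]
  refine ⟨1, ?_⟩
  simp only [OneMemClass.coe_one, one_mul]
  rw [← h]
  ring

include hs in
/-- `Away.map g s` is surjective iff every element `ρ b` of the target is hit, where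
`ρ : R → ℬ_(g s)` is a surjective ring homomorphism through degree zero. -/
theorem surjective_map_iff {R : Type w} [CommRing R] (σ : R →+* B) (hσ : ∀ r, σ r ∈ ℬ 0)
    (hρ : ∀ y : Away ℬ (g s), ∃ r : R, fromZeroRingHom ℬ _ ⟨σ r, hσ r⟩ = y) :
    Function.Surjective (Away.map g s) ↔
      ∀ b : R, ∃ (m : ℕ) (_ : 0 < m) (s' : A) (_ : s' ∈ 𝒜 (m * n)), σ b * (g s) ^ m = g s' := by
  constructor
  · intro h b
    obtain ⟨x, hx⟩ := h (fromZeroRingHom ℬ _ ⟨σ b, hσ b⟩)
    exact exists_of_map_eq g hs ⟨σ b, hσ b⟩ x hx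
  · intro h y
    obtain ⟨b, rfl⟩ := hρ y
    obtain ⟨m, -, s', hs', e⟩ := h b
    exact ⟨_, map_mk_eq_fromZero g hs ⟨σ b, hσ b⟩ m s' hs' e⟩

include hs in
/-- `Away.map g s` is injective iff every `s' ∈ 𝒜 (m n)`, `m > 0`, killed by `g` is killed by a
power of `s`. -/
theorem injective_map_iff :
    Function.Injective (Away.map g s) ↔
      ∀ (m : ℕ), 0 < m → ∀ s' ∈ 𝒜 (m * n), g s' = 0 → ∃ (k : ℕ), 0 < k ∧ s ^ k * s' = 0 := by
  constructor
  · intro h m _ s' hs' e
    have hs'' : s' ∈ 𝒜 (m • n) := by rwa [smul_eq_mul]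
    have h0 : Away.map g s (Away.mk 𝒜 hs m s' hs'') = 0 := by
      rw [Away.map_mk]
      apply HomogeneousLocalization.val_injective
      rw [Away.val_mk, HomogeneousLocalization.val_zero, e, Localization.mk_zero]
    have h1 := h (h0.trans (map_zero _).symm)
    have hv := congrArg HomogeneousLocalization.val h1
    rw [Away.val_mk, HomogeneousLocalization.val_zero, ← Localization.mk_zero 1,
      Localization.mk_eq_mk_iff, Localization.r_iff_exists] at hv
    obtain ⟨⟨c, N, rfl⟩, hc⟩ := hv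
    simp only [OneMemClass.coe_one, one_mul, mul_zero] at hc
    refine ⟨N + 1, by omega, ?_⟩
    rw [pow_succ, mul_right_comm, hc, zero_mul]
  · intro h
    rw [injective_iff_map_eq_zero]
    intro x hx
    obtain ⟨k, a, ha, rfl⟩ := Away.mk_surjective 𝒜 hs x
    rw [Away.map_mk] at hx
    have hv := congrArg HomogeneousLocalization.val hx
    rw [Away.val_mk, HomogeneousLocalization.val_zero, ← Localization.mk_zero 1,
      Localization.mk_eq_mk_iff, Localization.r_iff_exists] at hv
    obtain ⟨⟨c, N, rfl⟩, hc⟩ := hv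
    simp only [OneMemClass.coe_one, one_mul, mul_zero] at hc
    have hmem : s ^ (N + 1) * a ∈ 𝒜 ((N + 1 + k) * n) := by
      have h1 : s ^ (N + 1) ∈ 𝒜 ((N + 1) • n) := SetLike.pow_mem_graded _ hs
      have h2 := SetLike.mul_mem_graded h1 ha
      have e : (N + 1) • n + k • n = (N + 1 + k) * n := by simp only [smul_eq_mul]; ring
      rwa [e] at h2
    have hz : g (s ^ (N + 1) * a) = 0 := by
      have e1 : g (s ^ (N + 1) * a) = g s * (g s ^ N * g a) := by
        rw [map_mul, map_pow, pow_succ]; ring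
      rw [e1, hc, mul_zero]
    obtain ⟨k', -, hk'⟩ := h (N + 1 + k) (by omega) _ hmem hz
    apply HomogeneousLocalization.val_injective
    rw [Away.val_mk, HomogeneousLocalization.val_zero, ← Localization.mk_zero 1,
      Localization.mk_eq_mk_iff, Localization.r_iff_exists]
    refine ⟨⟨s ^ (k' + (N + 1)), _, rfl⟩, ?_⟩
    simp only [OneMemClass.coe_one, one_mul, mul_zero]
    rw [pow_add, mul_assoc, hk']

end Groth.Agent.Lib.H60AwaySurj
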