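import Groth.Agent.Lib.UnitBaseChange

/-!
# Universal property of sections of a pulled back quasi-coherent module, instance-free (helper28)

For `h : X ⟶ Y`, `G` quasi-coherent on `Y`, affine opens `U ≤ h⁻¹V`: additive maps out of `Γ(h^*G, U)` that are
semilinear along a ring map `φ : Γ(X, U) →+* T` correspond to additive maps out of `Γ(G, V)` semilinear along
`φ ∘ h♯` — via the adjunction unit `unitSecFun h G hUV` (helper42's `UnitBaseChange.isBaseChange_unitSec`).
-/

set_option autoImplicit false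
set_option linter.style.haveILetI false
universe u
open CategoryTheory AlgebraicGeometry TopologicalSpace Opposite

namespace Groth.Agent.Lib.PullbackSectionsUniv

open Scheme.Modules Groth.Agent.Lib.UnitBaseChange

variable {X Y : Scheme.{u}} (h : X ⟶ Y) {U : X.Opens} {V : Y.Opens}
  (G : Y.Modules) [G.IsQuasicoherent] (hU : IsAffineOpen U) (hV : IsAffineOpen V) (hUV : U ≤ h ⁻¹ᵁ V)

include hU hV in
/-- Existence of the semilinear extension. -/
theorem exists_addHom {T : Type*} [CommRing T] (φ : Γ(X, U) →+* T) (μ : Γ(G, V) →+ T)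
    (hμ : ∀ (r : Γ(Y, V)) (m : Γ(G, V)), μ (r • m) = φ ((h.appLE V U hUV).hom r) * μ m) :
    ∃ lam : Γ((pullback h).obj G, U) →+ T,
      (∀ (s : Γ(X, U)) (y : Γ((pullback h).obj G, U)), lam (s • y) = φ s * lam y) ∧
      ∀ m : Γ(G, V), lam (unitSecFun h G hUV m) = μ m := by
  letI : Algebra Γ(Y, V) Γ(X, U) := (h.appLE V U hUV).hom.toAlgebra
  letI : Module Γ(Y, V) Γ((pullback h).obj G, U) := Module.compHom _ (h.appLE V U hUV).hom
  haveI : IsScalarTower Γ(Y, V) Γ(X, U) Γ((pullback h).obj G, U) :=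
    .of_algebraMap_smul fun _ _ => rfl
  have hbc := isBaseChange_unitSec h G hU hV hUV
  letI : Module Γ(X, U) T := Module.compHom T φ
  letI : Module Γ(Y, V) T := Module.compHom T (φ.comp (h.appLE V U hUV).hom)
  haveI : IsScalarTower Γ(Y, V) Γ(X, U) T := .of_algebraMap_smul fun _ _ => rfl
  let μl : Γ(G, V) →ₗ[Γ(Y, V)] T :=
    { toFun := μ
      map_add' := map_add μ
      map_smul' := fun r m => hμ r m }
  refine ⟨(hbc.lift μl).toAddMonoidHom, fun s y => ?_, fun m => ?_⟩
  · exact (hbc.lift μl).map_smul s y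
  · exact hbc.lift_eq μl m

include hU hV in
/-- Uniqueness of the semilinear extension. -/
theorem addHom_ext {T : Type*} [CommRing T] (φ : Γ(X, U) →+* T)
    (lam lam' : Γ((pullback h).obj G, U) →+ T)
    (h1 : ∀ (s : Γ(X, U)) (y : Γ((pullback h).obj G, U)), lam (s • y) = φ s * lam y)
    (h1' : ∀ (s : Γ(X, U)) (y : Γ((pullback h).obj G, U)), lam' (s • y) = φ s * lam' y)
    (h2 : ∀ m : Γ(G, V), lam (unitSecFun h G hUV m) = lam' (unitSecFun h G hUV m)) : lam = lam' := by
  letI : Algebra Γ(Y, V) Γ(X, U) := (h.appLE V U hUV).hom.toAlgebra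
  letI : Module Γ(Y, V) Γ((pullback h).obj G, U) := Module.compHom _ (h.appLE V U hUV).hom
  haveI : IsScalarTower Γ(Y, V) Γ(X, U) Γ((pullback h).obj G, U) :=
    .of_algebraMap_smul fun _ _ => rfl
  have hbc := isBaseChange_unitSec h G hU hV hUV
  refine AddMonoidHom.ext fun y => ?_
  refine hbc.inductionOn y (fun y => lam y = lam' y) ?_ ?_ ?_ ?_
  · rw [map_zero, map_zero]
  · exact h2
  · intro s n hn
    rw [h1, h1', hn]
  · intro a b ha hb
    rw [map_add, map_add, ha, hb]

end Groth.Agent.Lib.PullbackSectionsUniv
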