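import Groth.Prelude.Def_RelSpec

/-!
# Maps of (pre)sheaves of rings on a scheme from data on the affine opens

For a scheme `S`, a presheaf of rings `ℱ` and a sheaf of rings `𝒢` on `S`:
* `presheaf_hom_ext_affine`: two maps `ℱ ⟶ 𝒢` agreeing on all affine opens are equal;
* `presheafHomOfAffine`: a family of ring maps `ℱ(U) ⟶ 𝒢(U)` over the affine opens `U`, natural for
  inclusions of affine opens, extends (uniquely) to a map `ℱ ⟶ 𝒢`; `presheafHomOfAffine_app`.
* `QCAlg` versions: `qcHom_ext_affine`, `qcHomOfAffine`, `qcHomOfAffine_app`.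
-/

set_option autoImplicit false
universe u
open CategoryTheory AlgebraicGeometry Opposite TopologicalSpace

noncomputable section

namespace Groth.Agent.Lib.QCAlgAffine

variable {S : Scheme.{u}}

section Presheaf

variable {ℱ 𝒢 : TopCat.Presheaf CommRingCat.{u} S.carrier}

/-- Two maps into a sheaf agreeing on the affine opens are equal. -/
theorem presheaf_hom_ext_affine (h𝒢 : 𝒢.IsSheaf) (a b : ℱ ⟶ 𝒢)
    (h : ∀ (U : S.Opens), IsAffineOpen U → a.app (op U) = b.app (op U)) : a = b := by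
  apply (Functor.IsCoverDense.restrictHomEquivHom (G := Scheme.AffineZariskiSite.toOpensFunctor S)
    (K := Opens.grothendieckTopology S) (ℱ := ℱ)
    (ℱ' := (⟨𝒢, h𝒢⟩ : TopCat.Sheaf CommRingCat.{u} S.carrier))).symm.injective
  ext U : 2
  exact h U.unop.1 U.unop.2

/-- The natural transformation on the affine opens attached to a compatible family. -/
def affineNatTrans (φ : ∀ (U : S.Opens), IsAffineOpen U → (ℱ.obj (op U) ⟶ 𝒢.obj (op U)))
    (hnat : ∀ (U V : S.Opens) (hU : IsAffineOpen U) (hV : IsAffineOpen V) (h : V ≤ U),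
      φ U hU ≫ 𝒢.map (homOfLE h).op = ℱ.map (homOfLE h).op ≫ φ V hV) :
    (Scheme.AffineZariskiSite.toOpensFunctor S).op ⋙ ℱ ⟶
      (Scheme.AffineZariskiSite.toOpensFunctor S).op ⋙ 𝒢 where
  app U := φ U.unop.1 U.unop.2
  naturality U V i :=
    (hnat U.unop.1 V.unop.1 U.unop.2 V.unop.2
      (Scheme.AffineZariskiSite.toOpens_mono i.unop.le)).symm

/-- A compatible family of ring maps over the affine opens extends to a map into a sheaf. -/
def presheafHomOfAffine (h𝒢 : 𝒢.IsSheaf)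
    (φ : ∀ (U : S.Opens), IsAffineOpen U → (ℱ.obj (op U) ⟶ 𝒢.obj (op U)))
    (hnat : ∀ (U V : S.Opens) (hU : IsAffineOpen U) (hV : IsAffineOpen V) (h : V ≤ U),
      φ U hU ≫ 𝒢.map (homOfLE h).op = ℱ.map (homOfLE h).op ≫ φ V hV) : ℱ ⟶ 𝒢 :=
  Functor.IsCoverDense.restrictHomEquivHom (G := Scheme.AffineZariskiSite.toOpensFunctor S)
    (K := Opens.grothendieckTopology S) (ℱ := ℱ)
    (ℱ' := (⟨𝒢, h𝒢⟩ : TopCat.Sheaf CommRingCat.{u} S.carrier)) (affineNatTrans φ hnat)

theorem presheafHomOfAffine_app (h𝒢 : 𝒢.IsSheaf)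
    (φ : ∀ (U : S.Opens), IsAffineOpen U → (ℱ.obj (op U) ⟶ 𝒢.obj (op U)))
    (hnat : ∀ (U V : S.Opens) (hU : IsAffineOpen U) (hV : IsAffineOpen V) (h : V ≤ U),
      φ U hU ≫ 𝒢.map (homOfLE h).op = ℱ.map (homOfLE h).op ≫ φ V hV)
    (U : S.Opens) (hU : IsAffineOpen U) :
    (presheafHomOfAffine h𝒢 φ hnat).app (op U) = φ U hU :=
  NatTrans.congr_app
    ((Functor.IsCoverDense.restrictHomEquivHom (G := Scheme.AffineZariskiSite.toOpensFunctor S)
      (K := Opens.grothendieckTopology S) (ℱ := ℱ)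
      (ℱ' := (⟨𝒢, h𝒢⟩ : TopCat.Sheaf CommRingCat.{u} S.carrier))).symm_apply_apply
        (affineNatTrans φ hnat)) (op ⟨U, hU⟩)

end Presheaf

section QCAlg

variable {A B : RelSpec.QCAlg S}

/-- Two homomorphisms of quasi-coherent algebras agreeing on the affine opens are equal. -/
theorem qcHom_ext_affine (a b : A ⟶ B)
    (h : ∀ (U : S.Opens), IsAffineOpen U → a.hom.app (op U) = b.hom.app (op U)) : a = b :=
  RelSpec.QCAlg.hom_ext (presheaf_hom_ext_affine B.isSheaf a.hom b.hom h)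

/-- A compatible family of ring maps over the affine opens, compatible with the structure maps,
extends to a homomorphism of quasi-coherent algebras. -/
def qcHomOfAffine
    (φ : ∀ (U : S.Opens), IsAffineOpen U → (A.presheaf.obj (op U) ⟶ B.presheaf.obj (op U)))
    (hnat : ∀ (U V : S.Opens) (hU : IsAffineOpen U) (hV : IsAffineOpen V) (h : V ≤ U),
      φ U hU ≫ B.presheaf.map (homOfLE h).op = A.presheaf.map (homOfLE h).op ≫ φ V hV)
    (hstr : ∀ (U : S.Opens) (hU : IsAffineOpen U), A.str.app (op U) ≫ φ U hU = B.str.app (op U)) :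
    A ⟶ B :=
  ⟨presheafHomOfAffine B.isSheaf φ hnat, by
    refine presheaf_hom_ext_affine B.isSheaf _ _ fun U hU => ?_
    rw [NatTrans.comp_app, presheafHomOfAffine_app B.isSheaf φ hnat U hU]
    exact hstr U hU⟩

theorem qcHomOfAffine_app
    (φ : ∀ (U : S.Opens), IsAffineOpen U → (A.presheaf.obj (op U) ⟶ B.presheaf.obj (op U)))
    (hnat : ∀ (U V : S.Opens) (hU : IsAffineOpen U) (hV : IsAffineOpen V) (h : V ≤ U),
      φ U hU ≫ B.presheaf.map (homOfLE h).op = A.presheaf.map (homOfLE h).op ≫ φ V hV)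
    (hstr : ∀ (U : S.Opens) (hU : IsAffineOpen U), A.str.app (op U) ≫ φ U hU = B.str.app (op U))
    (U : S.Opens) (hU : IsAffineOpen U) :
    (qcHomOfAffine φ hnat hstr).hom.app (op U) = φ U hU :=
  presheafHomOfAffine_app B.isSheaf φ hnat U hU

end QCAlg

end Groth.Agent.Lib.QCAlgAffine
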