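import Groth.Agent.Lib.SymQCAlgUniv
import Groth.Agent.Lib.PullbackSectionsUniv
import Groth.Agent.Lib.QCAlgAffine
import Groth.Prelude.Def_RelProj4
import Groth.Prelude.Def_RelProj2
import Groth.Agent.Lib.GradedHomCrit

/-!
# Symmetric algebras and base change (helper28)

For `g : S' ⟶ S`, `E` quasi-coherent on `S`, `(A, j)` a symmetric algebra of `E`, `B` a quasi-coherent algebra on `S'`
with a module map `j' : g^*E ⟶ B`:
* `symQHom g E A j hA B j' : RelSpec.QHom g A B`, the `g`-morphism extending `E → g_*g^*E → g_*B`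
  (`symQHom_app_str`, `symQHom_app_j` on affine opens);
* `isQBaseChange_of_unit`: if `(B, j')` is a symmetric algebra of `g^*E`, any `g`-morphism `u : A → B` with
  `u (j x) = j' (unit x)` over affine opens is a base change (`RelSpec.IsQBaseChange`).
-/

set_option autoImplicit false
universe u

open CategoryTheory CategoryTheory.Limits AlgebraicGeometry TopologicalSpace Opposite
open AlgebraicGeometry.Scheme AlgebraicGeometry.Scheme.Modules

noncomputable section

namespace Groth.Agent.Lib.SymQBaseChange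

open Groth.Agent.Lib.SymQCAlg Groth.Agent.Lib.QCAlgAffine

variable {S S' : Scheme.{u}} (g : S' ⟶ S) (E : S.Modules) [E.IsQuasicoherent]
  (A : RelSpec.QCAlg S) (j : E ⟶ A.toModule) (hA : RelSpec.IsSymAlg E A j)
  (B : RelSpec.QCAlg S') (j' : (Scheme.Modules.pullback g).obj E ⟶ B.toModule)

section IsBaseChange

variable (hB : RelSpec.IsSymAlg ((Scheme.Modules.pullback g).obj E) B j') (u : RelSpec.QHom g A B)
  (hu : ∀ (U : S.Opens) (_ : IsAffineOpen U) (x : Γ(E, U)),
    (u.app U).hom (appAdd E A j U x) =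
      appAdd _ B j' (g ⁻¹ᵁ U) (((Scheme.Modules.pullbackPushforwardAdjunction g).unit.app E).app U x))

include hA hB hu in
theorem isQBaseChange_of_unit : RelSpec.IsQBaseChange u := by
  haveI : ((Scheme.Modules.pullback g).obj E).IsQuasicoherent :=
    Groth.Agent.Lib.H72PullbackQCoh.isQuasicoherent_pullback g E
  intro U hU U' hU' hle
  have comm : g.appLE U U' hle ≫ B.str.app (op U') = A.str.app (op U) ≫ u.appLE U U' hle :=
    (u.str_appLE U U' hle).symm
  have hkey : ∀ m : Γ(E, U), (u.appLE U U' hle).hom (appAdd E A j U m) =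
      appAdd _ B j' U' (Groth.Agent.Lib.UnitBaseChange.unitSecFun g E hle m) := by
    intro m
    change (B.presheaf.map (homOfLE hle).op).hom ((u.app U).hom (appAdd E A j U m)) = _
    rw [hu U hU m]
    exact app_res ((Scheme.Modules.pullback g).obj E) B j' (g ⁻¹ᵁ U) U' hle _
  have hstr : ∀ r : Γ(S, U), (u.appLE U U' hle).hom ((A.str.app (op U)).hom r) =
      (B.str.app (op U')).hom ((g.appLE U U' hle).hom r) := fun r => congr($(comm.symm) r)
  have hex : ∀ s : PushoutCocone (g.appLE U U' hle) (A.str.app (op U)),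
      ∃ (lam : Γ((Scheme.Modules.pullback g).obj E, U') →+ s.pt)
        (Λ : B.presheaf.obj (op U') →+* s.pt),
        (∀ (t : Γ(S', U')) (y : Γ((Scheme.Modules.pullback g).obj E, U')), lam (t • y) = s.inl.hom t * lam y) ∧
        (∀ m : Γ(E, U), lam (Groth.Agent.Lib.UnitBaseChange.unitSecFun g E hle m) =
          s.inr.hom (appAdd E A j U m)) ∧
        (∀ r : Γ(S', U'), Λ ((B.str.app (op U')).hom r) = s.inl.hom r) ∧
        ∀ y : Γ((Scheme.Modules.pullback g).obj E, U'), Λ (appAdd _ B j' U' y) = lam y := by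
    intro s
    have hc : ∀ r : Γ(S, U), s.inl.hom ((g.appLE U U' hle).hom r) = s.inr.hom ((A.str.app (op U)).hom r) :=
      fun r => congr($(s.condition) r)
    obtain ⟨lam, hlam1, hlam2⟩ := Groth.Agent.Lib.PullbackSectionsUniv.exists_addHom g E hU' hU hle
      s.inl.hom (s.inr.hom.toAddMonoidHom.comp (appAdd E A j U)) (fun r m => by
        change s.inr.hom (appAdd E A j U (r • m)) = _ * s.inr.hom (appAdd E A j U m)
        rw [appAdd_smul, map_mul, hc])
    obtain ⟨Λ, hΛ1, hΛ2⟩ := exists_ringHom ((Scheme.Modules.pullback g).obj E) B j' hB U' hU'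
      s.inl.hom lam hlam1
    exact ⟨lam, Λ, hlam1, hlam2, hΛ1, hΛ2⟩
  choose lam Λ hlam1 hlam2 hΛ1 hΛ2 using hex
  refine ⟨⟨comm⟩, ⟨PushoutCocone.IsColimit.mk comm (fun s => CommRingCat.ofHom (Λ s)) ?_ ?_ ?_⟩⟩
  · intro s
    ext r
    exact hΛ1 s r
  · intro s
    apply CommRingCat.hom_ext
    refine ringHom_ext_of_isSymAlg E A j hA U hU (fun r => ?_) (fun m => ?_)
    · change Λ s ((u.appLE U U' hle).hom ((A.str.app (op U)).hom r)) = s.inr.hom _
      rw [hstr, hΛ1]
      exact congr($(s.condition) r)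
    · change Λ s ((u.appLE U U' hle).hom (appAdd E A j U m)) = s.inr.hom (appAdd E A j U m)
      rw [hkey, hΛ2, hlam2]
  · intro s m' h1 h2
    apply CommRingCat.hom_ext
    refine ringHom_ext_of_isSymAlg ((Scheme.Modules.pullback g).obj E) B j' hB U' hU' (fun r => ?_)
      (fun y => ?_)
    · change m'.hom ((B.str.app (op U')).hom r) = Λ s ((B.str.app (op U')).hom r)
      rw [hΛ1]
      exact congr($h1 r)
    · change m'.hom (appAdd _ B j' U' y) = Λ s (appAdd _ B j' U' y)
      rw [hΛ2]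
      have hext : m'.hom.toAddMonoidHom.comp (appAdd _ B j' U') = lam s := by
        refine Groth.Agent.Lib.PullbackSectionsUniv.addHom_ext g E hU' hU hle s.inl.hom _ _ ?_ (hlam1 s) ?_
        · intro t y
          change m'.hom (appAdd _ B j' U' (t • y)) = _ * m'.hom (appAdd _ B j' U' y)
          rw [appAdd_smul, map_mul]
          congr 1
          exact congr($h1 t)
        · intro m
          change m'.hom (appAdd _ B j' U' _) = _
          rw [hlam2, ← hkey]
          exact congr($h2 _)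
      exact congr($hext y)

end IsBaseChange

section Construct

/-- The unit `E(U) → (g^*E)(g⁻¹U)` as an additive map. -/
def unitAdd (U : S.Opens) : Γ(E, U) →+ Γ((Scheme.Modules.pullback g).obj E, g ⁻¹ᵁ U) where
  toFun x := ((Scheme.Modules.pullbackPushforwardAdjunction g).unit.app E).app U x
  map_zero' := map_zero (((Scheme.Modules.pullbackPushforwardAdjunction g).unit.app E).app U).hom
  map_add' := map_add (((Scheme.Modules.pullbackPushforwardAdjunction g).unit.app E).app U).hom

omit [E.IsQuasicoherent] in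
theorem unitAdd_smul (U : S.Opens) (r : Γ(S, U)) (m : Γ(E, U)) :
    unitAdd g E U (r • m) = (g.app U).hom r • unitAdd g E U m := by
  change ((Scheme.Modules.pullbackPushforwardAdjunction g).unit.app E).app U (r • m) = _
  rw [Scheme.Modules.Hom.app_smul]
  rfl

omit [E.IsQuasicoherent] in
theorem unitAdd_res (U V : S.Opens) (h : V ≤ U) (m : Γ(E, U)) :
    unitAdd g E V (Groth.Agent.Lib.QCohStalk.res E h m) =
      Groth.Agent.Lib.QCohStalk.res ((Scheme.Modules.pullback g).obj E) (g.preimage_mono h) (unitAdd g E U m) :=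
  NatTrans.naturality_apply ((Scheme.Modules.pullbackPushforwardAdjunction g).unit.app E).mapPresheaf
    (homOfLE h).op m

include hA in
theorem exists_loc (U : S.Opens) (hU : IsAffineOpen U) :
    ∃ Λ : A.presheaf.obj (op U) →+* B.presheaf.obj (op (g ⁻¹ᵁ U)),
      (∀ r : Γ(S, U), Λ ((A.str.app (op U)).hom r) = (B.str.app (op (g ⁻¹ᵁ U))).hom ((g.app U).hom r)) ∧
      ∀ m : Γ(E, U), Λ (appAdd E A j U m) = appAdd _ B j' (g ⁻¹ᵁ U) (unitAdd g E U m) :=
  exists_ringHom E A j hA U hU ((B.str.app (op (g ⁻¹ᵁ U))).hom.comp (g.app U).hom)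
    ((appAdd _ B j' (g ⁻¹ᵁ U)).comp (unitAdd g E U)) (fun r m => by
      change appAdd _ B j' (g ⁻¹ᵁ U) (unitAdd g E U (r • m)) = _
      rw [unitAdd_smul, appAdd_smul]
      rfl)

/-- The local map `A(U) → B(g⁻¹U)` for affine `U`. -/
def loc (U : S.Opens) (hU : IsAffineOpen U) : A.presheaf.obj (op U) →+* B.presheaf.obj (op (g ⁻¹ᵁ U)) :=
  (exists_loc g E A j hA B j' U hU).choose

theorem loc_str (U : S.Opens) (hU : IsAffineOpen U) (r : Γ(S, U)) :
    loc g E A j hA B j' U hU ((A.str.app (op U)).hom r) =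
      (B.str.app (op (g ⁻¹ᵁ U))).hom ((g.app U).hom r) :=
  (exists_loc g E A j hA B j' U hU).choose_spec.1 r

theorem loc_j (U : S.Opens) (hU : IsAffineOpen U) (m : Γ(E, U)) :
    loc g E A j hA B j' U hU (appAdd E A j U m) = appAdd _ B j' (g ⁻¹ᵁ U) (unitAdd g E U m) :=
  (exists_loc g E A j hA B j' U hU).choose_spec.2 m

/-- The presheaf map `A ⟶ g_* B`. -/
def pre : A.presheaf ⟶ g.base _* B.presheaf :=
  presheafHomOfAffine (TopCat.Sheaf.pushforward_sheaf_of_sheaf g.base B.isSheaf)
    (fun U hU => CommRingCat.ofHom (loc g E A j hA B j' U hU))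
    (fun U V hU hV h => by
      apply CommRingCat.hom_ext
      refine ringHom_ext_of_isSymAlg E A j hA U hU (fun r => ?_) (fun m => ?_)
      · change (B.presheaf.map (homOfLE (g.preimage_mono h)).op).hom
            (loc g E A j hA B j' U hU ((A.str.app (op U)).hom r)) =
          loc g E A j hA B j' V hV ((A.presheaf.map (homOfLE h).op).hom ((A.str.app (op U)).hom r))
        have h1 : (A.presheaf.map (homOfLE h).op).hom ((A.str.app (op U)).hom r) =
            (A.str.app (op V)).hom ((S.presheaf.map (homOfLE h).op).hom r) :=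
          congr($((A.str.naturality (homOfLE h).op).symm) r)
        have h2 : (B.presheaf.map (homOfLE (g.preimage_mono h)).op).hom
            ((B.str.app (op (g ⁻¹ᵁ U))).hom ((g.app U).hom r)) =
            (B.str.app (op (g ⁻¹ᵁ V))).hom ((S'.presheaf.map (homOfLE (g.preimage_mono h)).op).hom
              ((g.app U).hom r)) :=
          congr($((B.str.naturality (homOfLE (g.preimage_mono h)).op).symm) ((g.app U).hom r))
        have h3 : (S'.presheaf.map (homOfLE (g.preimage_mono h)).op).hom ((g.app U).hom r) =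
            (g.app V).hom ((S.presheaf.map (homOfLE h).op).hom r) :=
          congr($((g.naturality (homOfLE h).op).symm) r)
        rw [loc_str, h1, loc_str, h2, h3]
      · change (B.presheaf.map (homOfLE (g.preimage_mono h)).op).hom
            (loc g E A j hA B j' U hU (appAdd E A j U m)) =
          loc g E A j hA B j' V hV ((A.presheaf.map (homOfLE h).op).hom (appAdd E A j U m))
        have h1 : (A.presheaf.map (homOfLE h).op).hom (appAdd E A j U m) =
            appAdd E A j V (Groth.Agent.Lib.QCohStalk.res E h m) := app_res E A j U V h m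
        have h2 : (B.presheaf.map (homOfLE (g.preimage_mono h)).op).hom
            (appAdd _ B j' (g ⁻¹ᵁ U) (unitAdd g E U m)) =
            appAdd _ B j' (g ⁻¹ᵁ V) (Groth.Agent.Lib.QCohStalk.res _ (g.preimage_mono h) (unitAdd g E U m)) :=
          app_res _ B j' (g ⁻¹ᵁ U) (g ⁻¹ᵁ V) (g.preimage_mono h) _
        rw [loc_j, h1, loc_j, h2, unitAdd_res])

theorem pre_app (U : S.Opens) (hU : IsAffineOpen U) :
    (pre g E A j hA B j').app (op U) = CommRingCat.ofHom (loc g E A j hA B j' U hU) :=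
  presheafHomOfAffine_app _ _ _ U hU

/-- The `g`-morphism `A → B` extending `E → g_* g^* E → g_* B`. -/
def symQHom : RelSpec.QHom g A B where
  app U := (pre g E A j hA B j').app (op U)
  naturality {U V} i := ((pre g E A j hA B j').naturality (homOfLE i).op).symm
  str_app U := by
    have key : A.str ≫ pre g E A j hA B j' =
        g.c ≫ Functor.whiskerLeft (Opens.map g.base).op B.str := by
      refine presheaf_hom_ext_affine (TopCat.Sheaf.pushforward_sheaf_of_sheaf g.base B.isSheaf) _ _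
        fun W hW => ?_
      rw [NatTrans.comp_app, pre_app g E A j hA B j' W hW]
      ext r
      exact loc_str g E A j hA B j' W hW r
    exact NatTrans.congr_app key (op U)

theorem symQHom_app (U : S.Opens) (hU : IsAffineOpen U) :
    ((symQHom g E A j hA B j').app U).hom = loc g E A j hA B j' U hU := by
  change ((pre g E A j hA B j').app (op U)).hom = _
  rw [pre_app g E A j hA B j' U hU]
  rfl

theorem symQHom_app_j (U : S.Opens) (hU : IsAffineOpen U) (m : Γ(E, U)) :
    ((symQHom g E A j hA B j').app U).hom (appAdd E A j U m) =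
      appAdd _ B j' (g ⁻¹ᵁ U) (((Scheme.Modules.pullbackPushforwardAdjunction g).unit.app E).app U m) := by
  rw [symQHom_app g E A j hA B j' U hU]
  exact loc_j g E A j hA B j' U hU m

theorem isQBaseChange_symQHom (hB : RelSpec.IsSymAlg ((Scheme.Modules.pullback g).obj E) B j') :
    RelSpec.IsQBaseChange (symQHom g E A j hA B j') :=
  isQBaseChange_of_unit g E A j hA B j' hB _ (fun U hU x => symQHom_app_j g E A j hA B j' U hU x)

end Construct

section Graded

open Groth.Agent.Lib.H60AwayDegOne Groth.Agent.Lib.GradedHomCrit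

variable {g E}
variable (𝒮 : RelProj.QCGrAlg S) (𝒮' : RelProj.QCGrAlg S') (jS : E ⟶ 𝒮.toModule)
  (jS' : (Scheme.Modules.pullback g).obj E ⟶ 𝒮'.toModule)
  (hS : RelProj.IsGrSymAlg E 𝒮 jS) (hS' : RelProj.IsGrSymAlg ((Scheme.Modules.pullback g).obj E) 𝒮' jS')
  (u : RelSpec.QHom g 𝒮.toQCAlg 𝒮'.toQCAlg)
  (hu : ∀ (U : S.Opens) (_ : IsAffineOpen U) (x : Γ(E, U)),
    (u.app U).hom (appAdd E 𝒮.toQCAlg jS U x) =
      appAdd _ 𝒮'.toQCAlg jS' (g ⁻¹ᵁ U) (((Scheme.Modules.pullbackPushforwardAdjunction g).unit.app E).app U x))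

include hS hS' hu in
/-- A `g`-morphism of graded symmetric algebras extending the unit preserves degrees over affine pairs. -/
theorem map_mem_of_unit (U : S.Opens) (hU : IsAffineOpen U) (U' : S'.Opens) (hU' : IsAffineOpen U')
    (hle : U' ≤ g ⁻¹ᵁ U) {d : ℕ} {x : 𝒮.presheaf.obj (op U)} (hx : x ∈ 𝒮.deg U hU d) :
    (𝒮'.presheaf.map (homOfLE hle).op).hom ((u.app U).hom x) ∈ 𝒮'.deg U' hU' d := by
  have hkey : ∀ m : Γ(E, U), (u.appLE U U' hle).hom (appAdd E 𝒮.toQCAlg jS U m) =
      appAdd _ 𝒮'.toQCAlg jS' U' (Groth.Agent.Lib.UnitBaseChange.unitSecFun g E hle m) := by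
    intro m
    change (𝒮'.presheaf.map (homOfLE hle).op).hom ((u.app U).hom (appAdd E 𝒮.toQCAlg jS U m)) = _
    rw [hu U hU m]
    exact app_res ((Scheme.Modules.pullback g).obj E) 𝒮'.toQCAlg jS' (g ⁻¹ᵁ U) U' hle _
  have hstr : ∀ r : Γ(S, U), (u.appLE U U' hle).hom ((𝒮.str.app (op U)).hom r) =
      (𝒮'.str.app (op U')).hom ((g.appLE U U' hle).hom r) :=
    fun r => congr($(u.str_appLE U U' hle) r)
  change (u.appLE U U' hle).hom x ∈ 𝒮'.deg U' hU' d
  refine map_mem_of_comm (𝒮.deg U hU) (𝒮'.deg U' hU') (u.appLE U U' hle).hom ?_ hx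
  refine ringHom_ext_of_isSymAlg E 𝒮.toQCAlg jS hS.1 U hU (fun r => ?_) (fun m => ?_)
  · change coact (𝒮'.deg U' hU') ((u.appLE U U' hle).hom ((𝒮.str.app (op U)).hom r)) =
      AddMonoidAlgebra.mapRingHom ℤ (u.appLE U U' hle).hom (coact (𝒮.deg U hU) ((𝒮.str.app (op U)).hom r))
    rw [coact_of_mem (𝒮.deg U hU) 0 _ (𝒮.str_mem U hU r), mapRingHom_C_mul_T, hstr,
      coact_of_mem (𝒮'.deg U' hU') 0 _ (𝒮'.str_mem U' hU' _)]
  · change coact (𝒮'.deg U' hU') ((u.appLE U U' hle).hom (appAdd E 𝒮.toQCAlg jS U m)) =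
      AddMonoidAlgebra.mapRingHom ℤ (u.appLE U U' hle).hom (coact (𝒮.deg U hU) (appAdd E 𝒮.toQCAlg jS U m))
    rw [coact_of_mem (𝒮.deg U hU) 1 (appAdd E 𝒮.toQCAlg jS U m) (hS.2 U hU m), mapRingHom_C_mul_T, hkey,
      coact_of_mem (𝒮'.deg U' hU') 1
        (appAdd _ 𝒮'.toQCAlg jS' U' (Groth.Agent.Lib.UnitBaseChange.unitSecFun g E hle m)) (hS'.2 U' hU' _)]

variable (g E) in
/-- The graded `g`-morphism `Sym(E) → Sym(g^*E)`. -/
def symQGrHom : RelProj.QGrHom g 𝒮 𝒮' where
  toQHom := symQHom g E 𝒮.toQCAlg jS hS.1 𝒮'.toQCAlg jS'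
  map_mem U hU U' hU' hle _ _ hx :=
    map_mem_of_unit 𝒮 𝒮' jS jS' hS hS' _
      (fun W hW x => symQHom_app_j g E 𝒮.toQCAlg jS hS.1 𝒮'.toQCAlg jS' W hW x) U hU U' hU' hle hx

theorem isQBaseChange_symQGrHom :
    RelSpec.IsQBaseChange (symQGrHom g E 𝒮 𝒮' jS jS' hS hS').toQHom :=
  isQBaseChange_symQHom g E 𝒮.toQCAlg jS hS.1 𝒮'.toQCAlg jS' hS'.1

end Graded

end Groth.Agent.Lib.SymQBaseChange
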