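/-
Lib/ProjBaseChangeGr (helper3): base change of `Proj` for gradings by additive subgroups
(the form used by `RelProj.QCGrAlg`), deduced from Lib/ProjBaseChange (Submodule gradings).
`toSub 𝒜 h0` : the same grading as submodules over a base ring `R` landing in degree 0.
`isPullback_proj_of_isPushout` : the cartesian square for a pushout square of rings.
-/
import Groth.Agent.Lib.ProjBaseChange
import Groth.Agent.Lib.ProjMapImm

set_option autoImplicit false
set_option linter.unusedSectionVars false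
set_option linter.style.haveILetI false
universe u
open HomogeneousLocalization CategoryTheory CategoryTheory.Limits AlgebraicGeometry Graded
open scoped HomogeneousIdeal

namespace Groth.Agent.Lib.ProjBaseChangeGr

section toSub
variable {R A : Type u} [CommRing R] [CommRing A] [Algebra R A] (𝒜 : ℕ → AddSubgroup A)
  [GradedRing 𝒜] (h0 : ∀ r : R, algebraMap R A r ∈ 𝒜 0)

/-- The grading `𝒜` by additive subgroups, as a grading by `R`-submodules. -/
def toSub (d : ℕ) : Submodule R A :=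
  { (𝒜 d) with
    smul_mem' := fun r x hx => by
      rw [Algebra.smul_def]
      have := SetLike.mul_mem_graded (h0 r) hx
      rwa [zero_add] at this }

lemma mem_toSub {d : ℕ} {x : A} : x ∈ toSub 𝒜 h0 d ↔ x ∈ 𝒜 d := Iff.rfl

instance : SetLike.GradedMonoid (toSub 𝒜 h0) where
  one_mem := SetLike.GradedOne.one_mem (A := 𝒜)
  mul_mem := fun _ _ _ _ hx hy => SetLike.mul_mem_graded (A := 𝒜) hx hy

/-- The identity between the graded pieces. -/
def eqv (i : ℕ) : 𝒜 i ≃+ toSub 𝒜 h0 i where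
  toFun x := ⟨x.1, x.2⟩
  invFun x := ⟨x.1, x.2⟩
  left_inv _ := rfl
  right_inv _ := rfl
  map_add' _ _ := rfl

lemma isInternal : DirectSum.IsInternal (toSub 𝒜 h0) := by
  have h := DirectSum.Decomposition.isInternal 𝒜
  have hcomp : (DirectSum.coeAddMonoidHom (toSub 𝒜 h0)).comp
      (DirectSum.congrAddEquiv (eqv 𝒜 h0)).toAddMonoidHom = DirectSum.coeAddMonoidHom 𝒜 := by
    refine DirectSum.addHom_ext fun i x => ?_
    rw [AddMonoidHom.comp_apply]
    change DirectSum.coeAddMonoidHom (toSub 𝒜 h0)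
      (DirectSum.map (fun i => (eqv 𝒜 h0 i).toAddMonoidHom) (DirectSum.of _ i x)) = _
    rw [DirectSum.map_of, DirectSum.coeAddMonoidHom_of, DirectSum.coeAddMonoidHom_of]
    rfl
  have h2 : Function.Bijective ((DirectSum.coeAddMonoidHom (toSub 𝒜 h0)).comp
      (DirectSum.congrAddEquiv (eqv 𝒜 h0)).toAddMonoidHom) := by
    rw [hcomp]; exact h
  have h3 : Function.Bijective (DirectSum.congrAddEquiv (eqv 𝒜 h0)).toAddMonoidHom :=
    (DirectSum.congrAddEquiv (eqv 𝒜 h0)).bijective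
  unfold DirectSum.IsInternal
  have h4 : (DirectSum.coeAddMonoidHom (toSub 𝒜 h0) : _ → A) =
      ((DirectSum.coeAddMonoidHom (toSub 𝒜 h0)).comp
        (DirectSum.congrAddEquiv (eqv 𝒜 h0)).toAddMonoidHom) ∘
        (DirectSum.congrAddEquiv (eqv 𝒜 h0)).symm := by
    funext x
    simp
  rw [h4]
  exact h2.comp (DirectSum.congrAddEquiv (eqv 𝒜 h0)).symm.bijective

/-- The graded algebra structure. -/
@[reducible] noncomputable def gradedAlgebra : GradedAlgebra (toSub 𝒜 h0) :=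
  { (inferInstance : SetLike.GradedMonoid (toSub 𝒜 h0)) with
    toDecomposition := (isInternal 𝒜 h0).chooseDecomposition }

/-- The identity, as a graded ring hom to the submodule grading. -/
def toSubHom : 𝒜 →+*ᵍ toSub 𝒜 h0 where
  toRingHom := RingHom.id A
  map_mem := fun hx => hx

@[simp] lemma toSubHom_apply (x : A) : toSubHom 𝒜 h0 x = x := rfl

variable [GradedAlgebra (toSub 𝒜 h0)]

lemma irrelevant_toIdeal_eq :
    (HomogeneousIdeal.irrelevant (toSub 𝒜 h0)).toIdeal = (HomogeneousIdeal.irrelevant 𝒜).toIdeal := by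
  rw [HomogeneousIdeal.irrelevant_eq_span, HomogeneousIdeal.irrelevant_eq_span]
  rfl

lemma irrelevant_le_map_toSubHom :
    HomogeneousIdeal.irrelevant (toSub 𝒜 h0) ≤
      (HomogeneousIdeal.irrelevant 𝒜).map (toSubHom 𝒜 h0) := by
  rw [HomogeneousIdeal.irrelevant_le]
  intro k hk x hx
  have hx' : x ∈ 𝒜 k := hx
  have := Ideal.mem_map_of_mem (toSubHom 𝒜 h0) (HomogeneousIdeal.mem_irrelevant_of_mem 𝒜 hk hx')
  exact this

instance isIso_map_toSubHom :
    IsIso (Proj.map (toSubHom 𝒜 h0) (irrelevant_le_map_toSubHom 𝒜 h0)) :=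
  Groth.Agent.Lib.ProjMapImm.isIso_map _ _ 0 (fun _ _ y hy => ⟨y, hy, rfl⟩)
    (fun _ _ x _ hx => hx)

end toSub

lemma projMap_congr' {A B σ τ : Type u} [CommRing A] [SetLike σ A] [AddSubgroupClass σ A]
    [CommRing B] [SetLike τ B] [AddSubgroupClass τ B]
    {𝒜 : ℕ → σ} {ℬ : ℕ → τ} [GradedRing 𝒜] [GradedRing ℬ]
    {f f' : 𝒜 →+*ᵍ ℬ} (h : ∀ x, f x = f' x) (hf : ℬ₊ ≤ 𝒜₊.map f) (hf' : ℬ₊ ≤ 𝒜₊.map f') :
    Proj.map f hf = Proj.map f' hf' := by
  have : f = f' := DFunLike.ext _ _ h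
  subst this
  rfl

section bridge
variable {R' R B A : Type u} [CommRing R'] [CommRing R] [CommRing B] [CommRing A]
  (a : R' →+* R) (b : R' →+* B) (c : R →+* A) (e : B →+* A)
  (hpo : IsPushout (CommRingCat.ofHom a) (CommRingCat.ofHom b) (CommRingCat.ofHom c)
    (CommRingCat.ofHom e))
  (ℬ : ℕ → AddSubgroup B) [GradedRing ℬ] (𝒜 : ℕ → AddSubgroup A) [GradedRing 𝒜]
  (hb : ∀ r, b r ∈ ℬ 0) (hc : ∀ r, c r ∈ 𝒜 0)
  (φ : ℬ →+*ᵍ 𝒜) (hφ : ∀ x, φ x = e x) (hirr : 𝒜₊ ≤ ℬ₊.map φ)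
  (b₀ : R' →+* ℬ 0) (hb₀ : ∀ r, (b₀ r : B) = b r) (c₀ : R →+* 𝒜 0) (hc₀ : ∀ r, (c₀ r : A) = c r)

include hpo hb hc hφ hb₀ hc₀ in
theorem isPullback_proj_of_isPushout :
    IsPullback (Proj.map φ hirr) (Proj.toSpecZero 𝒜 ≫ Spec.map (CommRingCat.ofHom c₀))
      (Proj.toSpecZero ℬ ≫ Spec.map (CommRingCat.ofHom b₀)) (Spec.map (CommRingCat.ofHom a)) := by
  letI : Algebra R' R := a.toAlgebra
  letI : Algebra R' B := b.toAlgebra
  letI : Algebra R A := c.toAlgebra
  letI : Algebra B A := e.toAlgebra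
  letI : Algebra R' A := (c.comp a).toAlgebra
  haveI : IsScalarTower R' R A := IsScalarTower.of_algebraMap_eq (fun _ => rfl)
  haveI : IsScalarTower R' B A := IsScalarTower.of_algebraMap_eq (fun r => by
    have := congrArg (fun f => f.hom r) hpo.w
    exact this)
  haveI : Algebra.IsPushout R' R B A := CommRingCat.isPushout_iff_isPushout.mp hpo
  letI : GradedAlgebra (toSub ℬ hb) := gradedAlgebra ℬ hb
  letI : GradedAlgebra (toSub 𝒜 hc) := gradedAlgebra 𝒜 hc
  let φ' : toSub ℬ hb →+*ᵍ toSub 𝒜 hc :=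
    { toRingHom := φ.toRingHom
      map_mem := fun hx => map_mem φ hx }
  have hφ' : HomogeneousIdeal.irrelevant (toSub 𝒜 hc) ≤
      (HomogeneousIdeal.irrelevant (toSub ℬ hb)).map φ' := by
    intro x hx
    have hx1 : x ∈ (HomogeneousIdeal.irrelevant (toSub 𝒜 hc)).toIdeal := hx
    rw [irrelevant_toIdeal_eq] at hx1
    have hx2 := hirr hx1
    change x ∈ Ideal.map φ.toRingHom (HomogeneousIdeal.irrelevant ℬ).toIdeal at hx2
    change x ∈ Ideal.map φ.toRingHom (HomogeneousIdeal.irrelevant (toSub ℬ hb)).toIdeal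
    rw [irrelevant_toIdeal_eq]
    exact hx2
  have key := Groth.Agent.Lib.ProjBaseChange.isPullback_proj_baseChange (toSub ℬ hb) (toSub 𝒜 hc) φ'
    (fun x => hφ x) hφ'
  refine IsPullback.of_iso key
    (asIso (Proj.map (toSubHom 𝒜 hc) (irrelevant_le_map_toSubHom 𝒜 hc)))
    (asIso (Proj.map (toSubHom ℬ hb) (irrelevant_le_map_toSubHom ℬ hb)))
    (Iso.refl _) (Iso.refl _) ?_ ?_ ?_ ?_
  · simp only [asIso_hom]
    rw [← Proj.map_comp, ← Proj.map_comp]
    exact projMap_congr' (fun _ => rfl) _ _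
  · simp only [asIso_hom, Iso.refl_hom, Category.comp_id]
    symm
    refine Groth.Agent.Lib.ProjMapImm.map_toSpecZero (toSubHom 𝒜 hc) _ _ _ fun r => ?_
    exact hc₀ r
  · simp only [asIso_hom, Iso.refl_hom, Category.comp_id]
    symm
    refine Groth.Agent.Lib.ProjMapImm.map_toSpecZero (toSubHom ℬ hb) _ _ _ fun r => ?_
    exact hb₀ r
  · simp only [Iso.refl_hom, Category.comp_id, Category.id_comp]

end bridge

end Groth.Agent.Lib.ProjBaseChangeGr
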