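import Groth.Prelude.Def_RelProj4
import Groth.Agent.Lib.ProjMapImm
import Groth.Agent.Lib.RelProjMap

/-!
# Morphisms of relative Proj's pinned on standard charts (`RelProj.IsProjQMap`)

For a graded homomorphism `φ : 𝒜 → ℬ` of quasi-coherent graded algebras over `Y` which is
surjective in high degrees, a morphism `h : PB → PA` satisfying `RelProj.IsProjQMap` is a morphism
over `Y` and target-local properties can be checked on the maps `Spec (Away.map)`.
-/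

set_option autoImplicit false

universe u

open CategoryTheory CategoryTheory.Limits AlgebraicGeometry Opposite TopologicalSpace
open HomogeneousLocalization Graded
open scoped HomogeneousIdeal

namespace Groth.Agent.Lib.ProjQMap

section proj

variable {A B σ τ : Type u} [CommRing A] [SetLike σ A] [AddSubgroupClass σ A]
  [CommRing B] [SetLike τ B] [AddSubgroupClass τ B]
  {𝒜 : ℕ → σ} {ℬ : ℕ → τ} [GradedRing 𝒜] [GradedRing ℬ]
  (ψ : 𝒜 →+*ᵍ ℬ)

/-- Compatibility of `Spec (Away.map)` with the structure morphisms to a common base ring. -/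
lemma away_toSpecZero_comp {R : CommRingCat.{u}} (a : R ⟶ .of (𝒜 0)) (b : R ⟶ .of (ℬ 0))
    (h : ∀ r, ψ ((a.hom r : 𝒜 0) : A) = ((b.hom r : ℬ 0) : B))
    {i : ℕ} (hi : 0 < i) (s : A) (hs : s ∈ 𝒜 i) :
    Spec.map (CommRingCat.ofHom (Away.map ψ s)) ≫ Proj.awayι 𝒜 s hs hi ≫
        Proj.toSpecZero 𝒜 ≫ Spec.map a =
      Proj.awayι ℬ (ψ s) (map_mem ψ hs) hi ≫ Proj.toSpecZero ℬ ≫ Spec.map b := by
  rw [Proj.awayι_toSpecZero_assoc, Proj.awayι_toSpecZero_assoc, ← Spec.map_comp, ← Spec.map_comp,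
    ← Spec.map_comp]
  congr 1
  refine CommRingCat.hom_ext (RingHom.ext fun r => ?_)
  exact ProjMapImm.away_map_fromZero ψ s _ _ (h r)

/-- If the image under `Spec (Away.map ψ g)` of a point `w` lies (via the standard chart) in
`D₊(f)`, then `w` lies (via the standard chart) in `D₊(ψ f)`. -/
lemma mem_basicOpen_of_away {e d : ℕ} (he : 0 < e) (hd : 0 < d) {g f : A} (hg : g ∈ 𝒜 e)
    (hf : f ∈ 𝒜 d) (w : Spec (.of (Away ℬ (ψ g))))
    (hw : (Proj.awayι 𝒜 g hg he) ((Spec.map (CommRingCat.ofHom (Away.map ψ g))) w) ∈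
      Proj.basicOpen 𝒜 f) :
    (Proj.awayι ℬ (ψ g) (map_mem ψ hg) he) w ∈ Proj.basicOpen ℬ (ψ f) := by
  have h1 : (Spec.map (CommRingCat.ofHom (Away.map ψ g))) w ∈
      Proj.awayι 𝒜 g hg he ⁻¹ᵁ Proj.basicOpen 𝒜 f := hw
  rw [Proj.awayι_preimage_basicOpen 𝒜 hg he hf hd] at h1
  have h2 : w ∈ Proj.awayι ℬ (ψ g) (map_mem ψ hg) he ⁻¹ᵁ Proj.basicOpen ℬ (ψ f) := by
    rw [Proj.awayι_preimage_basicOpen ℬ (map_mem ψ hg) he (map_mem ψ hf) hd]
    have h1' : Away.isLocalizationElem hg hf ∉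
        ((Spec.map (CommRingCat.ofHom (Away.map ψ g))) w).asIdeal := h1
    show Away.isLocalizationElem (map_mem ψ hg) (map_mem ψ hf) ∉ w.asIdeal
    intro hcon
    apply h1'
    show Away.isLocalizationElem hg hf ∈ Ideal.comap (Away.map ψ g) w.asIdeal
    rw [Ideal.mem_comap]
    convert hcon using 1
    rw [Away.map_mk]
    apply HomogeneousLocalization.val_injective
    rw [Away.val_mk, Away.val_mk]
    simp only [map_pow]
  exact h2

omit [AddSubgroupClass σ A] [GradedRing 𝒜] in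
/-- If `ψ` is surjective in high degrees then every point of `Proj ℬ` lies in some `D₊(ψ g)`
with `g` homogeneous of positive degree. -/
lemma exists_not_mem_of_tn (n₀ : ℕ) (hsurj : ∀ k, n₀ ≤ k → ∀ y ∈ ℬ k, ∃ x ∈ 𝒜 k, ψ x = y)
    (z : Proj ℬ) : ∃ (e : ℕ) (_ : 0 < e) (g : A) (_ : g ∈ 𝒜 e), z ∈ Proj.basicOpen ℬ (ψ g) := by
  obtain ⟨b, hb, hbz⟩ : ∃ b ∈ (HomogeneousIdeal.irrelevant ℬ).toIdeal,
      b ∉ z.asHomogeneousIdeal.toIdeal := by
    by_contra hcon
    push Not at hcon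
    exact z.not_irrelevant_le (fun b hb => hcon b hb)
  classical
  -- some homogeneous component of `b` of positive degree is not in `z`
  obtain ⟨i, hi0, hbi⟩ : ∃ i, 0 < i ∧
      (DirectSum.decompose ℬ b i : B) ∉ z.asHomogeneousIdeal.toIdeal := by
    by_contra hcon
    push Not at hcon
    apply hbz
    rw [← DirectSum.sum_support_decompose ℬ b]
    refine Ideal.sum_mem _ fun i _ => ?_
    by_cases hi : i = 0
    · subst hi
      have : (DirectSum.decompose ℬ b 0 : B) = 0 := by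
        have := (HomogeneousIdeal.mem_irrelevant_iff ℬ b).mp hb
        simpa [GradedRing.proj_apply] using this
      rw [this]; exact Ideal.zero_mem _
    · exact hcon i (Nat.pos_of_ne_zero hi)
  set c : B := (DirectSum.decompose ℬ b i : B) with hc
  have hci : c ∈ ℬ i := SetLike.coe_mem _
  have hpow : c ^ (n₀ + 1) ∈ ℬ ((n₀ + 1) • i) := SetLike.pow_mem_graded _ hci
  have hle : n₀ ≤ (n₀ + 1) • i := by
    rw [smul_eq_mul]
    calc n₀ ≤ n₀ + 1 := Nat.le_succ _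
      _ = (n₀ + 1) * 1 := (mul_one _).symm
      _ ≤ (n₀ + 1) * i := Nat.mul_le_mul_left _ hi0
  obtain ⟨g, hg, hgc⟩ := hsurj _ hle _ hpow
  refine ⟨(n₀ + 1) • i, ?_, g, hg, ?_⟩
  · rw [smul_eq_mul]; exact Nat.mul_pos (Nat.succ_pos _) hi0
  · rw [Proj.mem_basicOpen, hgc]
    intro hmem
    exact hbi (z.isPrime.mem_of_pow_mem _ hmem)

end proj

section general

/-- Restriction of `f` over the range of an open immersion `iV`, when the preimage of that range is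
the range of an open immersion `iU` and `f` corresponds to `g` on these. -/
lemma restrict_opensRange_iso {U V X Y : Scheme.{u}} (g : U ⟶ V) (iU : U ⟶ X) (iV : V ⟶ Y)
    (f : X ⟶ Y) [IsOpenImmersion iU] [IsOpenImmersion iV] (H : iU ≫ f = g ≫ iV)
    (H' : f ⁻¹ᵁ iV.opensRange = iU.opensRange) :
    Nonempty (Arrow.mk (f ∣_ iV.opensRange) ≅ Arrow.mk g) := by
  refine ⟨Arrow.isoMk (X.isoOfEq H' ≪≫ iU.isoOpensRange.symm) iV.isoOpensRange.symm ?_⟩
  simp only [Arrow.mk_left, Arrow.mk_right, Arrow.mk_hom, Iso.trans_hom, Iso.symm_hom]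
  rw [← cancel_mono iV]
  simp only [Category.assoc, Scheme.Hom.isoOpensRange_inv_comp, morphismRestrict_ι, ← H,
    Scheme.Hom.isoOpensRange_inv_comp_assoc, Scheme.isoOfEq_hom_ι_assoc]

/-- A target-local property holds for `f` if it holds on a family of compatible charts. -/
theorem of_charts (P : MorphismProperty Scheme.{u}) [IsZariskiLocalAtTarget P]
    {X Y : Scheme.{u}} (f : X ⟶ Y) {ι : Type*}
    (U V : ι → Scheme.{u}) (g : ∀ i, U i ⟶ V i) (iU : ∀ i, U i ⟶ X) (iV : ∀ i, V i ⟶ Y)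
    [∀ i, IsOpenImmersion (iU i)] [∀ i, IsOpenImmersion (iV i)]
    (H : ∀ i, iU i ≫ f = g i ≫ iV i)
    (H' : ∀ i, f ⁻¹ᵁ (iV i).opensRange ≤ (iU i).opensRange)
    (hcov : ⨆ i, (iV i).opensRange = ⊤) (hP : ∀ i, P (g i)) : P f := by
  refine IsZariskiLocalAtTarget.of_iSup_eq_top (fun i => (iV i).opensRange) hcov fun i => ?_
  have H'' : f ⁻¹ᵁ (iV i).opensRange = (iU i).opensRange := by
    refine le_antisymm (H' i) ?_
    rintro _ ⟨x, rfl⟩
    show f ((iU i) x) ∈ (iV i).opensRange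
    rw [← Scheme.Hom.comp_apply, H i, Scheme.Hom.comp_apply]
    exact ⟨_, rfl⟩
  obtain ⟨e⟩ := restrict_opensRange_iso (g i) (iU i) (iV i) f (H i) H''
  exact (P.arrow_mk_iso_iff e).mpr (hP i)

end general

section rel

open RelProj

variable {Y PA PB : Scheme.{u}} {𝒜 ℬ : RelProj.QCGrAlg Y}
  (φ : 𝒜.toQCAlg ⟶ ℬ.toQCAlg) (hφ : RelProj.IsGradedHom φ)
  {pA : PA ⟶ Y}
  {chartA : ∀ (U : Y.Opens) (hU : IsAffineOpen U),
    (((pA ⁻¹ᵁ U : PA.Opens) : Scheme.{u}) ≅ Proj (𝒜.deg U hU))}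
  {pB : PB ⟶ Y}
  {chartB : ∀ (U : Y.Opens) (hU : IsAffineOpen U),
    (((pB ⁻¹ᵁ U : PB.Opens) : Scheme.{u}) ≅ Proj (ℬ.deg U hU))}

/-- The graded ring hom over the pair `(U, U)`. -/
noncomputable abbrev psi (U : Y.Opens) (hU : IsAffineOpen U) : 𝒜.deg U hU →+*ᵍ ℬ.deg U hU :=
  (RelProj.QGrHom.ofHom φ hφ).gradedAt U hU U hU (le_refl U)

lemma psi_apply (U : Y.Opens) (hU : IsAffineOpen U) (a : 𝒜.presheaf.obj (op U)) :
    psi φ hφ U hU a = (φ.hom.app (op U)).hom a := by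
  change ((RelSpec.QHom.ofHom φ).appLE U U (le_refl U)).hom a = (φ.hom.app (op U)).hom a
  rw [RelSpec.QHom.ofHom_appLE]
  have e : φ.hom.app (op U) ≫ ℬ.presheaf.map (homOfLE (le_refl U)).op = φ.hom.app (op U) :=
    (congrArg (fun t => φ.hom.app (op U) ≫ t) (ℬ.presheaf.map_id (op U))).trans
      (Category.comp_id _)
  exact congrArg (fun f => (CommRingCat.Hom.hom f) a) e

lemma psi_str (U : Y.Opens) (hU : IsAffineOpen U) (r : Γ(Y, U)) :
    psi φ hφ U hU (((𝒜.strZero U hU).hom r : 𝒜.deg U hU 0) : 𝒜.presheaf.obj (op U)) =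
      (((ℬ.strZero U hU).hom r : ℬ.deg U hU 0) : ℬ.presheaf.obj (op U)) := by
  rw [psi_apply]
  exact congrArg (fun t => (t.app (op U)).hom r) φ.comm

lemma emb_comp {P : Scheme.{u}} {𝒮 : RelProj.QCGrAlg Y} {p : P ⟶ Y}
    {chart : ∀ (U : Y.Opens) (hU : IsAffineOpen U),
      (((p ⁻¹ᵁ U : P.Opens) : Scheme.{u}) ≅ Proj (𝒮.deg U hU))}
    (hP : RelProj.IsRelProj 𝒮 p chart) (U : Y.Opens) (hU : IsAffineOpen U) :
    RelProj.emb p chart U hU ≫ p =
      Proj.toSpecZero (𝒮.deg U hU) ≫ Spec.map (𝒮.strZero U hU) ≫ hU.fromSpec := by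
  have e := hP.chart_over U hU
  rw [← Iso.eq_inv_comp] at e
  rw [e, RelProj.emb, Category.assoc]

lemma emb_apply_chart' {P : Scheme.{u}} {𝒮 : RelProj.QCGrAlg Y} (p : P ⟶ Y)
    (chart : ∀ (U : Y.Opens) (hU : IsAffineOpen U),
      (((p ⁻¹ᵁ U : P.Opens) : Scheme.{u}) ≅ Proj (𝒮.deg U hU)))
    (U : Y.Opens) (hU : IsAffineOpen U) (x' : ((p ⁻¹ᵁ U : P.Opens) : Scheme.{u})) :
    (RelProj.emb p chart U hU) ((chart U hU).hom x') = (p ⁻¹ᵁ U).ι x' := by
  change ((chart U hU).inv ≫ (p ⁻¹ᵁ U).ι) ((chart U hU).hom x') = _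
  rw [← Scheme.Hom.comp_apply, Iso.hom_inv_id_assoc]

/-- The point of `Proj 𝒮(U)` corresponding to a point of `P` over `U`. -/
noncomputable def chartPt {P : Scheme.{u}} {𝒮 : RelProj.QCGrAlg Y} (p : P ⟶ Y)
    (chart : ∀ (U : Y.Opens) (hU : IsAffineOpen U),
      (((p ⁻¹ᵁ U : P.Opens) : Scheme.{u}) ≅ Proj (𝒮.deg U hU)))
    (U : Y.Opens) (hU : IsAffineOpen U) (x : P) (hx : x ∈ p ⁻¹ᵁ U) : Proj (𝒮.deg U hU) :=
  (chart U hU).hom (show ((p ⁻¹ᵁ U : P.Opens) : Scheme.{u}) from ⟨x, hx⟩)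

lemma emb_apply_chart {P : Scheme.{u}} {𝒮 : RelProj.QCGrAlg Y} (p : P ⟶ Y)
    (chart : ∀ (U : Y.Opens) (hU : IsAffineOpen U),
      (((p ⁻¹ᵁ U : P.Opens) : Scheme.{u}) ≅ Proj (𝒮.deg U hU)))
    (U : Y.Opens) (hU : IsAffineOpen U) (x : P) (hx : x ∈ p ⁻¹ᵁ U) :
    (RelProj.emb p chart U hU) (chartPt p chart U hU x hx) = x :=
  emb_apply_chart' p chart U hU _

lemma range_emb_le {P : Scheme.{u}} {𝒮 : RelProj.QCGrAlg Y} (p : P ⟶ Y)
    (chart : ∀ (U : Y.Opens) (hU : IsAffineOpen U),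
      (((p ⁻¹ᵁ U : P.Opens) : Scheme.{u}) ≅ Proj (𝒮.deg U hU)))
    (U : Y.Opens) (hU : IsAffineOpen U) (z : Proj (𝒮.deg U hU)) :
    (RelProj.emb p chart U hU) z ∈ p ⁻¹ᵁ U := by
  change ((chart U hU).inv ≫ (p ⁻¹ᵁ U).ι) z ∈ p ⁻¹ᵁ U
  rw [Scheme.Hom.comp_apply]
  exact ((chart U hU).inv z).2

instance isOpenImmersion_awayEmb (U : Y.Opens) (hU : IsAffineOpen U) {d : ℕ} (hd : 0 < d)
    (f : 𝒜.presheaf.obj (op U)) (hf : f ∈ 𝒜.deg U hU d) :
    IsOpenImmersion (RelProj.awayEmb (RelProj.QGrHom.ofHom φ hφ) pB chartB U hU U hU (le_refl U)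
      hd f hf) := by
  unfold RelProj.awayEmb; infer_instance

variable (n₀ : ℕ)
  (hTN : ∀ k, n₀ ≤ k → ∀ (U : Y.Opens) (hU : IsAffineOpen U), ∀ y ∈ ℬ.deg U hU k,
      ∃ x ∈ 𝒜.deg U hU k, (φ.hom.app (op U)).hom x = y)

include hTN in
lemma psi_surj (U : Y.Opens) (hU : IsAffineOpen U) :
    ∀ k, n₀ ≤ k → ∀ y ∈ ℬ.deg U hU k, ∃ x ∈ 𝒜.deg U hU k, psi φ hφ U hU x = y := by
  intro k hk y hy
  obtain ⟨x, hx, hxy⟩ := hTN k hk U hU y hy
  exact ⟨x, hx, (psi_apply φ hφ U hU x).trans hxy⟩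

include hTN in
/-- Every point of `PB` over the affine open `U` lies in a standard chart over the pair `(U, U)`. -/
lemma exists_chart (U : Y.Opens) (hU : IsAffineOpen U) (x : PB) (hx : x ∈ pB ⁻¹ᵁ U) :
    ∃ (e : ℕ) (he : 0 < e) (g : 𝒜.presheaf.obj (op U)) (hg : g ∈ 𝒜.deg U hU e),
      x ∈ (RelProj.awayEmb (RelProj.QGrHom.ofHom φ hφ) pB chartB U hU U hU (le_refl U)
        he g hg).opensRange := by
  obtain ⟨e, he, g, hg, hz⟩ := exists_not_mem_of_tn (psi φ hφ U hU) n₀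
    (psi_surj φ hφ n₀ hTN U hU) (chartPt pB chartB U hU x hx)
  refine ⟨e, he, g, hg, ?_⟩
  rw [← Proj.opensRange_awayι (ℬ.deg U hU) _ (map_mem (psi φ hφ U hU) hg) he] at hz
  obtain ⟨w, hw⟩ := hz
  refine ⟨w, ?_⟩
  change (Proj.awayι (ℬ.deg U hU) _ _ he ≫ RelProj.emb pB chartB U hU) w = x
  rw [Scheme.Hom.comp_apply]
  erw [hw]
  exact emb_apply_chart pB chartB U hU x hx

include hTN in
/-- Under (TN)-surjectivity the induced morphism is everywhere defined. -/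
theorem domQ_eq_top :
    RelProj.domQ (RelProj.QGrHom.ofHom φ hφ) pB chartB = ⊤ := by
  rw [eq_top_iff]
  intro x _
  have hx : x ∈ (⊤ : PB.Opens) := trivial
  rw [← RelProjMap.iSup_preimage_affineOpens pB, Opens.mem_iSup] at hx
  obtain ⟨⟨U, hU'⟩, hxU⟩ := hx
  have hU : IsAffineOpen U := hU'
  obtain ⟨e, he, g, hg, hmem⟩ := exists_chart φ hφ n₀ hTN (chartB := chartB) U hU x hxU
  have := RelProj.range_awayEmb_subset_domQ (RelProj.QGrHom.ofHom φ hφ) pB chartB U hU U hU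
    (le_refl U) he g hg hmem
  rw [Scheme.Opens.range_ι] at this
  exact this

include hTN in
/-- Under (TN)-surjectivity, a morphism pinned on the standard charts is a morphism over `Y`. -/
theorem over (hA : RelProj.IsRelProj 𝒜 pA chartA) (hB : RelProj.IsRelProj ℬ pB chartB)
    (h : PB ⟶ PA)
    (hh : RelProj.IsProjQMap (RelProj.QGrHom.ofHom φ hφ) pA chartA pB chartB h) :
    h ≫ pA = pB := by
  refine Scheme.hom_ext_of_forall _ _ fun x => ?_
  have hx : x ∈ (⊤ : PB.Opens) := trivial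
  rw [← RelProjMap.iSup_preimage_affineOpens pB, Opens.mem_iSup] at hx
  obtain ⟨⟨U, hU'⟩, hxU⟩ := hx
  have hU : IsAffineOpen U := hU'
  obtain ⟨e, he, g, hg, hmem⟩ := exists_chart φ hφ n₀ hTN (chartB := chartB) U hU x hxU
  refine ⟨_, hmem, ?_⟩
  rw [← cancel_epi (RelProj.awayEmb (RelProj.QGrHom.ofHom φ hφ) pB chartB U hU U hU (le_refl U)
    he g hg).isoOpensRange.hom]
  rw [Scheme.Hom.isoOpensRange_hom_ι_assoc, Scheme.Hom.isoOpensRange_hom_ι_assoc,
    ← Category.assoc, hh.2 U hU U hU (le_refl U) e he g hg]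
  simp only [Category.assoc]
  rw [emb_comp hA U hU]
  unfold RelProj.awayEmb
  rw [Category.assoc, emb_comp hB U hU]
  have e3 := away_toSpecZero_comp (psi φ hφ U hU) (𝒜.strZero U hU) (ℬ.strZero U hU)
    (psi_str φ hφ U hU) he g hg
  exact (reassoc_of% e3) hU.fromSpec

include hTN in
/-- The preimage of a standard chart of `PA` is the corresponding standard chart of `PB`. -/
theorem preimage_chart_le (hA : RelProj.IsRelProj 𝒜 pA chartA)
    (hB : RelProj.IsRelProj ℬ pB chartB) (h : PB ⟶ PA)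
    (hh : RelProj.IsProjQMap (RelProj.QGrHom.ofHom φ hφ) pA chartA pB chartB h)
    (U : Y.Opens) (hU : IsAffineOpen U) {d : ℕ} (hd : 0 < d) (f : 𝒜.presheaf.obj (op U))
    (hf : f ∈ 𝒜.deg U hU d) :
    h ⁻¹ᵁ (Proj.awayι (𝒜.deg U hU) f hf hd ≫ RelProj.emb pA chartA U hU).opensRange ≤
      (RelProj.awayEmb (RelProj.QGrHom.ofHom φ hφ) pB chartB U hU U hU (le_refl U)
        hd f hf).opensRange := by
  rintro x ⟨v, hv⟩
  have hv' : (RelProj.emb pA chartA U hU) ((Proj.awayι (𝒜.deg U hU) f hf hd) v) = h x := by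
    rw [← Scheme.Hom.comp_apply]; exact hv
  -- `x` lies over `U`
  have hxU : x ∈ pB ⁻¹ᵁ U := by
    have h1 : h x ∈ pA ⁻¹ᵁ U := by
      rw [← hv']; exact range_emb_le pA chartA U hU _
    have h2 : (h ≫ pA) x ∈ U := by rw [Scheme.Hom.comp_apply]; exact h1
    rw [over φ hφ n₀ hTN hA hB h hh] at h2
    exact h2
  obtain ⟨e, he, g, hg, ⟨w, hw⟩⟩ := exists_chart φ hφ n₀ hTN (chartB := chartB) U hU x hxU
  have hw' : (RelProj.emb pB chartB U hU)
      ((Proj.awayι (ℬ.deg U hU) (psi φ hφ U hU g) (map_mem (psi φ hφ U hU) hg) he) w) = x := by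
    rw [← Scheme.Hom.comp_apply]; exact hw
  -- compute `h x` through the chart `g`
  have hhx : h x = (RelProj.emb pA chartA U hU) ((Proj.awayι (𝒜.deg U hU) g hg he)
      ((Spec.map (CommRingCat.ofHom (Away.map (psi φ hφ U hU) g))) w)) := by
    rw [← hw, ← Scheme.Hom.comp_apply, hh.2 U hU U hU (le_refl U) e he g hg,
      Scheme.Hom.comp_apply, Scheme.Hom.comp_apply]
  have hinj : Function.Injective (RelProj.emb pA chartA U hU) :=
    (RelProj.emb pA chartA U hU).isOpenEmbedding.injective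
  have heq := hinj (hv'.trans hhx)
  have hmem : (Proj.awayι (𝒜.deg U hU) g hg he)
      ((Spec.map (CommRingCat.ofHom (Away.map (psi φ hφ U hU) g))) w) ∈
        Proj.basicOpen (𝒜.deg U hU) f := by
    rw [← heq, ← Proj.opensRange_awayι (𝒜.deg U hU) f hf hd]
    exact ⟨v, rfl⟩
  have hmem2 := mem_basicOpen_of_away (psi φ hφ U hU) he hd hg hf w hmem
  rw [← Proj.opensRange_awayι (ℬ.deg U hU) _ (map_mem (psi φ hφ U hU) hf) hd] at hmem2
  obtain ⟨w', hw''⟩ := hmem2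
  refine ⟨w', ?_⟩
  change (Proj.awayι (ℬ.deg U hU) _ _ hd ≫ RelProj.emb pB chartB U hU) w' = x
  rw [Scheme.Hom.comp_apply]
  erw [hw'']
  exact hw'

/-- Index type for the standard charts of a relative Proj. -/
structure ChartIdx (𝒜 : RelProj.QCGrAlg Y) where
  /-- the affine open of the base -/
  U : Y.Opens
  hU : IsAffineOpen U
  /-- the degree -/
  d : ℕ
  hd : 0 < d
  /-- the homogeneous element -/
  f : 𝒜.presheaf.obj (op U)
  hf : f ∈ 𝒜.deg U hU d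

/-- The standard charts cover a relative Proj. -/
theorem iSup_chart_eq_top :
    ⨆ i : ChartIdx 𝒜,
      (Proj.awayι (𝒜.deg i.U i.hU) i.f i.hf i.hd ≫ RelProj.emb pA chartA i.U i.hU).opensRange =
        ⊤ := by
  rw [eq_top_iff]
  intro y _
  have hy : y ∈ (⊤ : PA.Opens) := trivial
  rw [← RelProjMap.iSup_preimage_affineOpens pA, Opens.mem_iSup] at hy
  obtain ⟨⟨U, hU'⟩, hyU⟩ := hy
  have hU : IsAffineOpen U := hU'
  have hz : chartPt pA chartA U hU y hyU ∈ (⊤ : (Proj (𝒜.deg U hU)).Opens) := trivial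
  rw [← ProjMapImm.iSup_basicOpen_pos, Opens.mem_iSup] at hz
  obtain ⟨s, hs⟩ := hz
  rw [← Proj.opensRange_awayι (𝒜.deg U hU) _ s.2.2 s.1.2] at hs
  obtain ⟨v, hv⟩ := hs
  refine Opens.mem_iSup.mpr ⟨⟨U, hU, s.1, s.1.2, s.2, s.2.2⟩, v, ?_⟩
  rw [Scheme.Hom.comp_apply]
  erw [hv]
  exact emb_apply_chart pA chartA U hU y hyU

include hTN in
/-- Under (TN)-surjectivity, a target-local property holds for a morphism pinned on the standard
charts as soon as it holds for all the maps `Spec (Away.map)`. -/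
theorem of_forall_away (P : MorphismProperty Scheme.{u}) [IsZariskiLocalAtTarget P]
    (hA : RelProj.IsRelProj 𝒜 pA chartA) (hB : RelProj.IsRelProj ℬ pB chartB) (h : PB ⟶ PA)
    (hh : RelProj.IsProjQMap (RelProj.QGrHom.ofHom φ hφ) pA chartA pB chartB h)
    (H : ∀ (U : Y.Opens) (hU : IsAffineOpen U) (d : ℕ) (_ : 0 < d) (f : 𝒜.presheaf.obj (op U))
      (_ : f ∈ 𝒜.deg U hU d),
      P (Spec.map (CommRingCat.ofHom (Away.map (psi φ hφ U hU) f)))) : P h := by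
  refine of_charts P h
    (ι := ChartIdx 𝒜)
    (fun i => Spec (.of (Away (ℬ.deg i.U i.hU) (psi φ hφ i.U i.hU i.f))))
    (fun i => Spec (.of (Away (𝒜.deg i.U i.hU) i.f)))
    (fun i => Spec.map (CommRingCat.ofHom (Away.map (psi φ hφ i.U i.hU) i.f)))
    (fun i => RelProj.awayEmb (RelProj.QGrHom.ofHom φ hφ) pB chartB i.U i.hU i.U i.hU
      (le_refl _) i.hd i.f i.hf)
    (fun i => Proj.awayι (𝒜.deg i.U i.hU) i.f i.hf i.hd ≫ RelProj.emb pA chartA i.U i.hU)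
    (fun i => hh.2 i.U i.hU i.U i.hU (le_refl _) i.d i.hd i.f i.hf)
    (fun i => preimage_chart_le φ hφ n₀ hTN hA hB h hh i.U i.hU i.hd i.f i.hf)
    iSup_chart_eq_top
    (fun i => H i.U i.hU i.d i.hd i.f i.hf)

end rel

end Groth.Agent.Lib.ProjQMap
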