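import Groth.Prelude.Def_RelProj4
import Groth.Agent.Lib.ProjQMap

/-!
# The open of definition `G(φ)` of `Proj(φ)` and morphisms pinned on the standard charts of it

For a graded homomorphism `φ : 𝒜 → ℬ` of quasi-coherent graded algebras over `Y`:
* `domQ_inf_preimage`: the part of `G(φ)` over an affine open `U` is the chart image of the open
  `G(φ(U))` of `Proj ℬ(U)`;
* for `Φ : G(φ) ⟶ PA` pinned on the standard charts: `overOn` (it is a morphism over `Y`),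
  `preimage_chart_le_on`, `isAffineHom_on`.
-/

set_option autoImplicit false

universe u

open CategoryTheory CategoryTheory.Limits AlgebraicGeometry Opposite TopologicalSpace
open HomogeneousLocalization Graded
open scoped HomogeneousIdeal

namespace Groth.Agent.Lib.ProjQMapOn

open Groth.Agent.Lib.ProjQMap

section proj

variable {A B σ τ : Type u} [CommRing A] [SetLike σ A] [AddSubgroupClass σ A]
  [CommRing B] [SetLike τ B] [AddSubgroupClass τ B]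
  {𝒜 : ℕ → σ} {ℬ : ℕ → τ} [GradedRing 𝒜] [GradedRing ℬ]

lemma domOpen_congr (ψ ψ' : 𝒜 →+*ᵍ ℬ) (h : ∀ a, ψ a = ψ' a) :
    RelCone.domOpen ψ = RelCone.domOpen ψ' := by
  ext z
  simp only [SetLike.mem_coe, RelCone.mem_domOpen, h]

/-- A point of `G(ψ)` lies in some `D₊(ψ g)` with `g` homogeneous of positive degree. -/
lemma exists_homogeneous_of_mem_domOpen (ψ : 𝒜 →+*ᵍ ℬ) (z : Proj ℬ) (hz : z ∈ RelCone.domOpen ψ) :
    ∃ (e : ℕ) (_ : 0 < e) (g : A) (_ : g ∈ 𝒜 e), z ∈ Proj.basicOpen ℬ (ψ g) := by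
  classical
  obtain ⟨a, ha, haz⟩ := (RelCone.mem_domOpen ψ z).mp hz
  obtain ⟨i, hi0, hai⟩ : ∃ i, 0 < i ∧
      ψ (DirectSum.decompose 𝒜 a i : A) ∉ z.asHomogeneousIdeal := by
    by_contra hcon
    push Not at hcon
    apply haz
    rw [← DirectSum.sum_support_decompose 𝒜 a, map_sum]
    refine Ideal.sum_mem _ fun i _ => ?_
    by_cases hi : i = 0
    · subst hi
      have : (DirectSum.decompose 𝒜 a 0 : A) = 0 := by
        have := (HomogeneousIdeal.mem_irrelevant_iff 𝒜 a).mp ha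
        simpa [GradedRing.proj_apply] using this
      rw [this, map_zero]; exact Ideal.zero_mem _
    · exact hcon i (Nat.pos_of_ne_zero hi)
  exact ⟨i, hi0, _, SetLike.coe_mem _, (Proj.mem_basicOpen ℬ _ z).mpr hai⟩

lemma mem_domOpen_of_mem_basicOpen (ψ : 𝒜 →+*ᵍ ℬ) (z : Proj ℬ) {e : ℕ} (he : 0 < e) {g : A}
    (hg : g ∈ 𝒜 e) (hz : z ∈ Proj.basicOpen ℬ (ψ g)) : z ∈ RelCone.domOpen ψ :=
  (RelCone.mem_domOpen ψ z).mpr
    ⟨g, HomogeneousIdeal.mem_irrelevant_of_mem _ he hg, (Proj.mem_basicOpen ℬ _ z).mp hz⟩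

end proj

section rel

open RelProj

variable {Y PB : Scheme.{u}} {𝒜 ℬ : RelProj.QCGrAlg Y}
  (φ : 𝒜.toQCAlg ⟶ ℬ.toQCAlg) (hφ : RelProj.IsGradedHom φ)
  {pB : PB ⟶ Y}
  {chartB : ∀ (U : Y.Opens) (hU : IsAffineOpen U),
    (((pB ⁻¹ᵁ U : PB.Opens) : Scheme.{u}) ≅ Proj (ℬ.deg U hU))}

/-- The open `G(φ(U))` of `Proj ℬ(U)`. -/
noncomputable abbrev dom (U : Y.Opens) (hU : IsAffineOpen U) : (Proj (ℬ.deg U hU)).Opens :=
  RelCone.domOpen (RelProj.gradedHomAt φ hφ U hU)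

lemma gradedHomAt_res {U V : Y.Opens} (hU : IsAffineOpen U) (hV : IsAffineOpen V) (i : V ≤ U)
    (a : 𝒜.presheaf.obj (op U)) :
    ℬ.res hU hV i (RelProj.gradedHomAt φ hφ U hU a) =
      RelProj.gradedHomAt φ hφ V hV (𝒜.res hU hV i a) := by
  have h := φ.hom.naturality (homOfLE i).op
  exact (congrArg (fun t => t.hom a) h).symm

lemma res_mem_irrelevant {U V : Y.Opens} (hU : IsAffineOpen U) (hV : IsAffineOpen V) (i : V ≤ U)
    {a : 𝒜.presheaf.obj (op U)} (ha : a ∈ (HomogeneousIdeal.irrelevant (𝒜.deg U hU)).toIdeal) :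
    𝒜.res hU hV i a ∈ (HomogeneousIdeal.irrelevant (𝒜.deg V hV)).toIdeal := by
  classical
  change 𝒜.res hU hV i a ∈ HomogeneousIdeal.irrelevant (𝒜.deg V hV)
  rw [HomogeneousIdeal.mem_irrelevant_iff, GradedRing.proj_apply,
    ← GradedRingHom.map_directSumDecompose]
  have := (HomogeneousIdeal.mem_irrelevant_iff (𝒜.deg U hU) a).mp ha
  rw [GradedRing.proj_apply] at this
  rw [this, map_zero]

/-- Restriction to a basic open: the preimage of `G(φ(U))` is `G(φ(D(r)))`. -/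
lemma preimage_dom (U : Y.Opens) (hU : IsAffineOpen U) (r : Γ(Y, U)) :
    Proj.map (ℬ.res hU (hU.basicOpen r) (Y.basicOpen_le r)) (ℬ.irrelevant_le_map U hU r) ⁻¹ᵁ
      dom φ hφ U hU = dom φ hφ (Y.basicOpen r) (hU.basicOpen r) := by
  ext w
  simp only [SetLike.mem_coe]
  change (Proj.map (ℬ.res hU (hU.basicOpen r) (Y.basicOpen_le r))
    (ℬ.irrelevant_le_map U hU r)) w ∈ dom φ hφ U hU ↔ _
  rw [RelCone.mem_domOpen, RelCone.mem_domOpen]
  constructor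
  · rintro ⟨a, ha, haw⟩
    refine ⟨𝒜.res hU (hU.basicOpen r) (Y.basicOpen_le r) a,
      res_mem_irrelevant hU (hU.basicOpen r) (Y.basicOpen_le r) ha, ?_⟩
    rw [← gradedHomAt_res]
    exact haw
  · rintro ⟨a', ha', haw⟩
    by_contra hcon
    push Not at hcon
    apply haw
    have hle := 𝒜.irrelevant_le_map U hU r
    have h1 : (HomogeneousIdeal.irrelevant (𝒜.deg U hU)).toIdeal.map
        (𝒜.res hU (hU.basicOpen r) (Y.basicOpen_le r)) ≤
        Ideal.comap (RelProj.gradedHomAt φ hφ (Y.basicOpen r) (hU.basicOpen r))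
          w.asHomogeneousIdeal.toIdeal := by
      rw [Ideal.map_le_iff_le_comap]
      intro a ha
      rw [Ideal.mem_comap, Ideal.mem_comap, ← gradedHomAt_res]
      exact hcon a ha
    exact h1 (hle ha')

lemma opensRange_emb {P : Scheme.{u}} {𝒮 : RelProj.QCGrAlg Y} (p : P ⟶ Y)
    (chart : ∀ (U : Y.Opens) (hU : IsAffineOpen U),
      (((p ⁻¹ᵁ U : P.Opens) : Scheme.{u}) ≅ Proj (𝒮.deg U hU)))
    (U : Y.Opens) (hU : IsAffineOpen U) :
    (RelProj.emb p chart U hU).opensRange = p ⁻¹ᵁ U := by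
  unfold RelProj.emb
  rw [Scheme.Hom.opensRange_comp_of_isIso, Scheme.Opens.opensRange_ι]

/-- The image open `E_U = emb_U(G(φ(U)))` of `PB`. -/
noncomputable abbrev domImg (pB : PB ⟶ Y)
    (chartB : ∀ (U : Y.Opens) (hU : IsAffineOpen U),
      (((pB ⁻¹ᵁ U : PB.Opens) : Scheme.{u}) ≅ Proj (ℬ.deg U hU)))
    (U : Y.Opens) (hU : IsAffineOpen U) : PB.Opens :=
  (RelProj.emb pB chartB U hU) ''ᵁ dom φ hφ U hU

lemma domImg_le (U : Y.Opens) (hU : IsAffineOpen U) :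
    domImg φ hφ pB chartB U hU ≤ pB ⁻¹ᵁ U := by
  rintro _ ⟨z, _, rfl⟩
  exact range_emb_le pB chartB U hU z

lemma domImg_basicOpen (hB : RelProj.IsRelProj ℬ pB chartB) (U : Y.Opens) (hU : IsAffineOpen U)
    (r : Γ(Y, U)) (W : Y.Opens) (hW : IsAffineOpen W) (e : W = Y.basicOpen r) :
    domImg φ hφ pB chartB W hW = domImg φ hφ pB chartB U hU ⊓ pB ⁻¹ᵁ W := by
  subst e
  have hres := RelProj.map_res_emb hB U hU r
  ext x
  constructor
  · rintro ⟨w, hw, rfl⟩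
    refine ⟨⟨(Proj.map (ℬ.res hU (hU.basicOpen r) (Y.basicOpen_le r))
      (ℬ.irrelevant_le_map U hU r)) w, ?_, ?_⟩, range_emb_le pB chartB _ _ w⟩
    · have : w ∈ Proj.map (ℬ.res hU (hU.basicOpen r) (Y.basicOpen_le r))
          (ℬ.irrelevant_le_map U hU r) ⁻¹ᵁ dom φ hφ U hU := by
        rw [preimage_dom]; exact hw
      exact this
    · show ((Proj.map (ℬ.res hU (hU.basicOpen r) (Y.basicOpen_le r))
        (ℬ.irrelevant_le_map U hU r) ≫ RelProj.emb pB chartB U hU) w) = _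
      rw [hres]
      rfl
  · rintro ⟨⟨z, hz, rfl⟩, hxW⟩
    set x := (RelProj.emb pB chartB U hU) z with hx
    refine ⟨chartPt pB chartB _ (hU.basicOpen r) x hxW, ?_,
      emb_apply_chart pB chartB _ (hU.basicOpen r) x hxW⟩
    have h1 : (RelProj.emb pB chartB U hU)
        ((Proj.map (ℬ.res hU (hU.basicOpen r) (Y.basicOpen_le r)) (ℬ.irrelevant_le_map U hU r))
          (chartPt pB chartB _ (hU.basicOpen r) x hxW)) = x := by
      rw [← Scheme.Hom.comp_apply, hres]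
      exact emb_apply_chart pB chartB _ (hU.basicOpen r) x hxW
    have hinj : Function.Injective (RelProj.emb pB chartB U hU) :=
      (RelProj.emb pB chartB U hU).isOpenEmbedding.injective
    have h2 := hinj (h1.trans hx)
    have : chartPt pB chartB _ (hU.basicOpen r) x hxW ∈
        Proj.map (ℬ.res hU (hU.basicOpen r) (Y.basicOpen_le r))
          (ℬ.irrelevant_le_map U hU r) ⁻¹ᵁ dom φ hφ U hU := by
      show (Proj.map _ _) _ ∈ dom φ hφ U hU
      rw [h2]; exact hz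
    rw [preimage_dom] at this
    exact this

/-- The opens `E_U` are compatible: the part of `E_{U₁}` over `U₂` lies in `E_{U₂}`. -/
lemma domImg_inf_le (hB : RelProj.IsRelProj ℬ pB chartB) (U₁ : Y.Opens) (hU₁ : IsAffineOpen U₁)
    (U₂ : Y.Opens) (hU₂ : IsAffineOpen U₂) :
    domImg φ hφ pB chartB U₁ hU₁ ⊓ pB ⁻¹ᵁ U₂ ≤ domImg φ hφ pB chartB U₂ hU₂ := by
  rintro x ⟨hx1, hx2⟩
  have hx1' : pB x ∈ U₁ := domImg_le φ hφ U₁ hU₁ hx1
  obtain ⟨f, g, hfg, hxf⟩ := exists_basicOpen_le_affine_inter hU₁ hU₂ (pB x) ⟨hx1', hx2⟩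
  have h1 := domImg_basicOpen φ hφ hB U₁ hU₁ f (Y.basicOpen f) (hU₁.basicOpen f) rfl
  have h2 := domImg_basicOpen φ hφ hB U₂ hU₂ g (Y.basicOpen f) (hU₁.basicOpen f) hfg
  have hx3 : x ∈ domImg φ hφ pB chartB (Y.basicOpen f) (hU₁.basicOpen f) := by
    rw [h1]; exact ⟨hx1, hxf⟩
  rw [h2] at hx3
  exact hx3.1

/-- `G(φ)` is the union of the opens `E_U`. -/
lemma domQ_eq_iSup :
    RelProj.domQ (RelProj.QGrHom.ofHom φ hφ) pB chartB =
      ⨆ (U : Y.Opens) (hU : IsAffineOpen U), domImg φ hφ pB chartB U hU := by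
  apply le_antisymm
  · refine iSup_le fun V => ?_
    obtain ⟨⟨⟨U, hU0⟩, ⟨U', hU0'⟩⟩, hle⟩ := V
    have hU : IsAffineOpen U := hU0
    have hU' : IsAffineOpen U' := hU0'
    have hUU' : U' ≤ U := hle
    refine le_trans ?_ (le_iSup₂ (f := fun (U : Y.Opens) (hU : IsAffineOpen U) =>
      domImg φ hφ pB chartB U hU) U' hU')
    show (RelProj.emb pB chartB U' hU') ''ᵁ
      RelCone.domOpen ((RelProj.QGrHom.ofHom φ hφ).gradedAt U hU U' hU' hle) ≤ _
    rintro _ ⟨z, hz, rfl⟩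
    refine ⟨z, ?_, rfl⟩
    obtain ⟨a, ha, haz⟩ := (RelCone.mem_domOpen _ z).mp hz
    refine (RelCone.mem_domOpen _ z).mpr ⟨𝒜.res hU hU' hUU' a,
      res_mem_irrelevant hU hU' hUU' ha, ?_⟩
    rw [← gradedHomAt_res]
    exact haz
  · refine iSup₂_le fun U hU => ?_
    refine le_trans ?_ (le_iSup _ (⟨(⟨U, hU⟩, ⟨U, hU⟩), le_refl U⟩ :
      {V : Y.affineOpens × Y.affineOpens // (V.2 : Y.Opens) ≤ (𝟙 Y : Y ⟶ Y) ⁻¹ᵁ (V.1 : Y.Opens)}))
    have : dom φ hφ U hU = RelCone.domOpen (psi φ hφ U hU) :=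
      domOpen_congr _ _ fun a => (psi_apply φ hφ U hU a).symm
    show domImg φ hφ pB chartB U hU ≤
      (RelProj.emb pB chartB U hU) ''ᵁ RelCone.domOpen (psi φ hφ U hU)
    unfold domImg
    rw [this]

/-- The part of `G(φ)` over the affine open `U` is `E_U`. -/
theorem domQ_inf_preimage (hB : RelProj.IsRelProj ℬ pB chartB) (U : Y.Opens)
    (hU : IsAffineOpen U) :
    RelProj.domQ (RelProj.QGrHom.ofHom φ hφ) pB chartB ⊓ pB ⁻¹ᵁ U =
      (RelProj.emb pB chartB U hU) ''ᵁ RelCone.domOpen (RelProj.gradedHomAt φ hφ U hU) := by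
  apply le_antisymm
  · rw [domQ_eq_iSup, iSup_inf_eq]
    refine iSup_le fun U₁ => ?_
    rw [iSup_inf_eq]
    exact iSup_le fun hU₁ => domImg_inf_le φ hφ hB U₁ hU₁ U hU
  · refine le_inf ?_ (domImg_le φ hφ U hU)
    rw [domQ_eq_iSup]
    exact le_iSup₂ (f := fun (U : Y.Opens) (hU : IsAffineOpen U) =>
      domImg φ hφ pB chartB U hU) U hU

end rel

section on

open RelProj

variable {Y PA PB : Scheme.{u}} {𝒜 ℬ : RelProj.QCGrAlg Y}
  (φ : 𝒜.toQCAlg ⟶ ℬ.toQCAlg) (hφ : RelProj.IsGradedHom φ)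
  {pA : PA ⟶ Y}
  {chartA : ∀ (U : Y.Opens) (hU : IsAffineOpen U),
    (((pA ⁻¹ᵁ U : PA.Opens) : Scheme.{u}) ≅ Proj (𝒜.deg U hU))}
  {pB : PB ⟶ Y}
  {chartB : ∀ (U : Y.Opens) (hU : IsAffineOpen U),
    (((pB ⁻¹ᵁ U : PB.Opens) : Scheme.{u}) ≅ Proj (ℬ.deg U hU))}

/-- The standard chart over the pair `(U, U)` lifted into `G(φ)`. -/
noncomputable def liftEmb (pB : PB ⟶ Y)
    (chartB : ∀ (U : Y.Opens) (hU : IsAffineOpen U),
      (((pB ⁻¹ᵁ U : PB.Opens) : Scheme.{u}) ≅ Proj (ℬ.deg U hU)))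
    (U : Y.Opens) (hU : IsAffineOpen U) {d : ℕ} (hd : 0 < d)
    (f : 𝒜.presheaf.obj (op U)) (hf : f ∈ 𝒜.deg U hU d) :
    Spec (.of (Away (ℬ.deg U hU) (psi φ hφ U hU f))) ⟶
      ((RelProj.domQ (RelProj.QGrHom.ofHom φ hφ) pB chartB : PB.Opens) : Scheme.{u}) :=
  IsOpenImmersion.lift (RelProj.domQ (RelProj.QGrHom.ofHom φ hφ) pB chartB).ι
    (RelProj.awayEmb (RelProj.QGrHom.ofHom φ hφ) pB chartB U hU U hU (le_refl U) hd f hf)
    (RelProj.range_awayEmb_subset_domQ (RelProj.QGrHom.ofHom φ hφ) pB chartB U hU U hU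
      (le_refl U) hd f hf)

lemma liftEmb_ι (U : Y.Opens) (hU : IsAffineOpen U) {d : ℕ} (hd : 0 < d)
    (f : 𝒜.presheaf.obj (op U)) (hf : f ∈ 𝒜.deg U hU d) :
    liftEmb φ hφ pB chartB U hU hd f hf ≫
        (RelProj.domQ (RelProj.QGrHom.ofHom φ hφ) pB chartB).ι =
      RelProj.awayEmb (RelProj.QGrHom.ofHom φ hφ) pB chartB U hU U hU (le_refl U) hd f hf :=
  IsOpenImmersion.lift_fac _ _ _

instance (U : Y.Opens) (hU : IsAffineOpen U) {d : ℕ} (hd : 0 < d)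
    (f : 𝒜.presheaf.obj (op U)) (hf : f ∈ 𝒜.deg U hU d) :
    IsOpenImmersion (liftEmb φ hφ pB chartB U hU hd f hf) := by
  have : IsOpenImmersion (liftEmb φ hφ pB chartB U hU hd f hf ≫
      (RelProj.domQ (RelProj.QGrHom.ofHom φ hφ) pB chartB).ι) := by
    rw [liftEmb_ι]; infer_instance
  exact IsOpenImmersion.of_comp _ (RelProj.domQ (RelProj.QGrHom.ofHom φ hφ) pB chartB).ι

/-- Every point of `G(φ)` over the affine open `U` lies in a lifted standard chart over `(U, U)`. -/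
lemma exists_chart_on (hB : RelProj.IsRelProj ℬ pB chartB) (U : Y.Opens) (hU : IsAffineOpen U)
    (x : ((RelProj.domQ (RelProj.QGrHom.ofHom φ hφ) pB chartB : PB.Opens) : Scheme.{u}))
    (hx : (RelProj.domQ (RelProj.QGrHom.ofHom φ hφ) pB chartB).ι x ∈ pB ⁻¹ᵁ U) :
    ∃ (e : ℕ) (he : 0 < e) (g : 𝒜.presheaf.obj (op U)) (hg : g ∈ 𝒜.deg U hU e),
      x ∈ (liftEmb φ hφ pB chartB U hU he g hg).opensRange := by
  have h1 : (RelProj.domQ (RelProj.QGrHom.ofHom φ hφ) pB chartB).ι x ∈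
      RelProj.domQ (RelProj.QGrHom.ofHom φ hφ) pB chartB ⊓ pB ⁻¹ᵁ U := ⟨x.2, hx⟩
  rw [domQ_inf_preimage φ hφ hB U hU] at h1
  obtain ⟨z, hz, hzx⟩ := h1
  have hz' : z ∈ RelCone.domOpen (psi φ hφ U hU) := by
    rw [← domOpen_congr (RelProj.gradedHomAt φ hφ U hU) (psi φ hφ U hU)
      fun a => (psi_apply φ hφ U hU a).symm]
    exact hz
  obtain ⟨e, he, g, hg, hzg⟩ := exists_homogeneous_of_mem_domOpen (psi φ hφ U hU) z hz'
  refine ⟨e, he, g, hg, ?_⟩
  rw [← Proj.opensRange_awayι (ℬ.deg U hU) _ (map_mem (psi φ hφ U hU) hg) he] at hzg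
  obtain ⟨w, hw⟩ := hzg
  refine ⟨w, ?_⟩
  apply (RelProj.domQ (RelProj.QGrHom.ofHom φ hφ) pB chartB).ι.isOpenEmbedding.injective
  show (liftEmb φ hφ pB chartB U hU he g hg ≫
    (RelProj.domQ (RelProj.QGrHom.ofHom φ hφ) pB chartB).ι) w = _
  rw [liftEmb_ι, ← hzx]
  change (Proj.awayι (ℬ.deg U hU) _ _ he ≫ RelProj.emb pB chartB U hU) w = _
  rw [Scheme.Hom.comp_apply]
  erw [hw]
  rfl

variable (Φ : ((RelProj.domQ (RelProj.QGrHom.ofHom φ hφ) pB chartB : PB.Opens) : Scheme.{u}) ⟶ PA)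
  (hΦ : RelProj.IsProjQMapOn (RelProj.QGrHom.ofHom φ hφ) pA chartA pB chartB
    (RelProj.domQ (RelProj.QGrHom.ofHom φ hφ) pB chartB) Φ)

include hΦ in
lemma liftEmb_comp (U : Y.Opens) (hU : IsAffineOpen U) {d : ℕ} (hd : 0 < d)
    (f : 𝒜.presheaf.obj (op U)) (hf : f ∈ 𝒜.deg U hU d) :
    liftEmb φ hφ pB chartB U hU hd f hf ≫ Φ =
      Spec.map (CommRingCat.ofHom (Away.map (psi φ hφ U hU) f)) ≫
        Proj.awayι (𝒜.deg U hU) f hf hd ≫ RelProj.emb pA chartA U hU :=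
  hΦ U hU U hU (le_refl U) d hd f hf _

include hΦ in
/-- A morphism `G(φ) ⟶ PA` pinned on the standard charts is a morphism over `Y`. -/
theorem overOn (hA : RelProj.IsRelProj 𝒜 pA chartA) (hB : RelProj.IsRelProj ℬ pB chartB) :
    Φ ≫ pA = (RelProj.domQ (RelProj.QGrHom.ofHom φ hφ) pB chartB).ι ≫ pB := by
  refine Scheme.hom_ext_of_forall _ _ fun x => ?_
  have hx : (RelProj.domQ (RelProj.QGrHom.ofHom φ hφ) pB chartB).ι x ∈ (⊤ : PB.Opens) := trivial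
  rw [← RelProjMap.iSup_preimage_affineOpens pB, Opens.mem_iSup] at hx
  obtain ⟨⟨U, hU'⟩, hxU⟩ := hx
  have hU : IsAffineOpen U := hU'
  obtain ⟨e, he, g, hg, hmem⟩ := exists_chart_on φ hφ hB U hU x hxU
  refine ⟨_, hmem, ?_⟩
  rw [← cancel_epi (liftEmb φ hφ pB chartB U hU he g hg).isoOpensRange.hom]
  rw [Scheme.Hom.isoOpensRange_hom_ι_assoc, Scheme.Hom.isoOpensRange_hom_ι_assoc,
    ← Category.assoc, liftEmb_comp φ hφ Φ hΦ U hU he g hg,
    reassoc_of% (liftEmb_ι φ hφ (pB := pB) (chartB := chartB) U hU he g hg)]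
  simp only [Category.assoc]
  rw [emb_comp hA U hU]
  unfold RelProj.awayEmb
  rw [Category.assoc, emb_comp hB U hU]
  have e3 := away_toSpecZero_comp (psi φ hφ U hU) (𝒜.strZero U hU) (ℬ.strZero U hU)
    (psi_str φ hφ U hU) he g hg
  exact (reassoc_of% e3) hU.fromSpec

include hΦ in
/-- The preimage of a standard chart of `PA` is the corresponding lifted standard chart. -/
theorem preimage_chart_le_on (hA : RelProj.IsRelProj 𝒜 pA chartA)
    (hB : RelProj.IsRelProj ℬ pB chartB)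
    (U : Y.Opens) (hU : IsAffineOpen U) {d : ℕ} (hd : 0 < d) (f : 𝒜.presheaf.obj (op U))
    (hf : f ∈ 𝒜.deg U hU d) :
    Φ ⁻¹ᵁ (Proj.awayι (𝒜.deg U hU) f hf hd ≫ RelProj.emb pA chartA U hU).opensRange ≤
      (liftEmb φ hφ pB chartB U hU hd f hf).opensRange := by
  rintro x ⟨v, hv⟩
  have hv' : (RelProj.emb pA chartA U hU) ((Proj.awayι (𝒜.deg U hU) f hf hd) v) = Φ x := by
    rw [← Scheme.Hom.comp_apply]; exact hv
  have hxU : (RelProj.domQ (RelProj.QGrHom.ofHom φ hφ) pB chartB).ι x ∈ pB ⁻¹ᵁ U := by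
    have h1 : Φ x ∈ pA ⁻¹ᵁ U := by
      rw [← hv']; exact range_emb_le pA chartA U hU _
    have h2 : (Φ ≫ pA) x ∈ U := by rw [Scheme.Hom.comp_apply]; exact h1
    rw [overOn φ hφ Φ hΦ hA hB, Scheme.Hom.comp_apply] at h2
    exact h2
  obtain ⟨e, he, g, hg, ⟨w, hw⟩⟩ := exists_chart_on φ hφ hB U hU x hxU
  have hhx : Φ x = (RelProj.emb pA chartA U hU) ((Proj.awayι (𝒜.deg U hU) g hg he)
      ((Spec.map (CommRingCat.ofHom (Away.map (psi φ hφ U hU) g))) w)) := by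
    rw [← hw, ← Scheme.Hom.comp_apply, liftEmb_comp φ hφ Φ hΦ U hU he g hg,
      Scheme.Hom.comp_apply, Scheme.Hom.comp_apply]
  have hinj : Function.Injective (RelProj.emb pA chartA U hU) :=
    (RelProj.emb pA chartA U hU).isOpenEmbedding.injective
  have heq := hinj (hv'.trans hhx)
  have hmem : (Proj.awayι (𝒜.deg U hU) g hg he)
      ((Spec.map (CommRingCat.ofHom (Away.map (psi φ hφ U hU) g))) w) ∈
        Proj.basicOpen (𝒜.deg U hU) f := by
    rw [← heq, ← Proj.opensRange_awayι (𝒜.deg U hU) f hf hd]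
    exact ⟨v, rfl⟩
  have hmem2 := mem_basicOpen_of_away (psi φ hφ U hU) he hd hg hf w hmem
  rw [← Proj.opensRange_awayι (ℬ.deg U hU) _ (map_mem (psi φ hφ U hU) hf) hd] at hmem2
  obtain ⟨w', hw''⟩ := hmem2
  refine ⟨w', ?_⟩
  apply (RelProj.domQ (RelProj.QGrHom.ofHom φ hφ) pB chartB).ι.isOpenEmbedding.injective
  show (liftEmb φ hφ pB chartB U hU hd f hf ≫
    (RelProj.domQ (RelProj.QGrHom.ofHom φ hφ) pB chartB).ι) w' = _
  rw [liftEmb_ι, ← hw]
  show _ = (liftEmb φ hφ pB chartB U hU he g hg ≫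
    (RelProj.domQ (RelProj.QGrHom.ofHom φ hφ) pB chartB).ι) w
  rw [liftEmb_ι]
  change (Proj.awayι (ℬ.deg U hU) _ _ hd ≫ RelProj.emb pB chartB U hU) w' =
    (Proj.awayι (ℬ.deg U hU) _ _ he ≫ RelProj.emb pB chartB U hU) w
  rw [Scheme.Hom.comp_apply, Scheme.Hom.comp_apply]
  erw [hw'']

include hΦ in
/-- The preimage of a standard chart of `PA` is the corresponding lifted standard chart. -/
theorem preimage_chart_eq_on (hA : RelProj.IsRelProj 𝒜 pA chartA)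
    (hB : RelProj.IsRelProj ℬ pB chartB)
    (U : Y.Opens) (hU : IsAffineOpen U) {d : ℕ} (hd : 0 < d) (f : 𝒜.presheaf.obj (op U))
    (hf : f ∈ 𝒜.deg U hU d) :
    Φ ⁻¹ᵁ (Proj.awayι (𝒜.deg U hU) f hf hd ≫ RelProj.emb pA chartA U hU).opensRange =
      (liftEmb φ hφ pB chartB U hU hd f hf).opensRange := by
  refine le_antisymm (preimage_chart_le_on φ hφ Φ hΦ hA hB U hU hd f hf) ?_
  rintro _ ⟨w, rfl⟩
  show Φ ((liftEmb φ hφ pB chartB U hU hd f hf) w) ∈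
    (Proj.awayι (𝒜.deg U hU) f hf hd ≫ RelProj.emb pA chartA U hU).opensRange
  rw [← Scheme.Hom.comp_apply, liftEmb_comp φ hφ Φ hΦ U hU hd f hf, Scheme.Hom.comp_apply]
  exact ⟨_, rfl⟩

include hΦ in
/-- A morphism `G(φ) ⟶ PA` pinned on the standard charts is affine. -/
theorem isAffineHom_on (hA : RelProj.IsRelProj 𝒜 pA chartA)
    (hB : RelProj.IsRelProj ℬ pB chartB) : IsAffineHom Φ := by
  apply isAffineHom_of_forall_exists_isAffineOpen
  intro y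
  have hy : y ∈ (⊤ : PA.Opens) := trivial
  rw [← iSup_chart_eq_top (pA := pA) (chartA := chartA), Opens.mem_iSup] at hy
  obtain ⟨i, hi⟩ := hy
  refine ⟨_, hi, isAffineOpen_opensRange _, ?_⟩
  rw [preimage_chart_eq_on φ hφ Φ hΦ hA hB i.U i.hU i.hd i.f i.hf]
  exact isAffineOpen_opensRange _

end on

end Groth.Agent.Lib.ProjQMapOn
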