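/-
Lib/RelProjBaseChange (helper3): base change for relative Proj over two bases.
`irrelevant_le_map_of_isPushout`, `isPullback_of_charts` (core cartesian-square lemma),
`projChart`, `exists_glue` (glue chart maps over affine pairs), `domQ_eq_top`,
`isProjQMap_of_emb`, `emb_comp_of_isProjQMap`, `domOpen_eq_top`, `exists_common_basic`.
-/
import Groth.Agent.Lib.ProjBaseChangeGr
import Groth.Agent.Lib.ProjQMapOn
import Groth.Agent.Lib.OpensGlue
import Groth.Agent.S8291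
import Groth.Prelude.Def_RelProj4

set_option autoImplicit false
set_option linter.unusedSectionVars false
set_option linter.style.haveILetI false
universe u
open CategoryTheory CategoryTheory.Limits AlgebraicGeometry TopologicalSpace Opposite
open scoped HomogeneousIdeal

namespace Groth.Agent.Lib.RelProjBaseChange

section ring
variable {R' R B A : Type u} [CommRing R'] [CommRing R] [CommRing B] [CommRing A]
  (a : R' →+* R) (b : R' →+* B) (c : R →+* A) (e : B →+* A)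
  (hpo : IsPushout (CommRingCat.ofHom a) (CommRingCat.ofHom b) (CommRingCat.ofHom c)
    (CommRingCat.ofHom e))
  (ℬ : ℕ → AddSubgroup B) [GradedRing ℬ] (𝒜 : ℕ → AddSubgroup A) [GradedRing 𝒜]
  (hc : ∀ r, c r ∈ 𝒜 0)
  (φ : ℬ →+*ᵍ 𝒜) (hφ : ∀ x, φ x = e x)

include hpo hc hφ in
/-- For a pushout square of rings with graded `B → A`, the irrelevant ideal of `A` is generated by
the image of that of `B`. -/
theorem irrelevant_le_map_of_isPushout : 𝒜₊ ≤ ℬ₊.map φ := by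
  letI : Algebra R' R := a.toAlgebra
  letI : Algebra R' B := b.toAlgebra
  letI : Algebra R A := c.toAlgebra
  letI : Algebra B A := e.toAlgebra
  letI : Algebra R' A := (c.comp a).toAlgebra
  haveI : IsScalarTower R' R A := IsScalarTower.of_algebraMap_eq (fun _ => rfl)
  haveI : IsScalarTower R' B A := IsScalarTower.of_algebraMap_eq (fun r => by
    have := congrArg (fun f => f.hom r) hpo.w
    exact this)
  haveI h : Algebra.IsPushout R' R B A := CommRingCat.isPushout_iff_isPushout.mp hpo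
  have key : ∀ x : A, ∀ d, 0 < d →
      (DirectSum.decompose 𝒜 x d : A) ∈ Ideal.map φ (HomogeneousIdeal.irrelevant ℬ).toIdeal := by
    intro x
    refine h.out.inductionOn x _ ?_ ?_ ?_ ?_
    · intro d _
      rw [DirectSum.decompose_zero, DirectSum.zero_apply, ZeroMemClass.coe_zero]
      exact Ideal.zero_mem _
    · intro m d hd
      change (DirectSum.decompose 𝒜 (e m) d : A) ∈ _
      rw [← hφ, ← φ.map_directSumDecompose]
      exact Ideal.mem_map_of_mem _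
        (HomogeneousIdeal.mem_irrelevant_of_mem ℬ hd (SetLike.coe_mem _))
    · intro s n ih d hd
      rw [Algebra.smul_def]
      change (DirectSum.decompose 𝒜 (c s * n) d : A) ∈ _
      rw [DirectSum.coe_decompose_mul_of_left_mem_zero 𝒜 (hc s)]
      exact Ideal.mul_mem_left _ _ (ih d hd)
    · intro n₁ n₂ h1 h2 d hd
      rw [DirectSum.decompose_add, DirectSum.add_apply, AddMemClass.coe_add]
      exact Ideal.add_mem _ (h1 d hd) (h2 d hd)
  rw [HomogeneousIdeal.irrelevant_le]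
  intro d hd x hx
  have := key x d hd
  rw [DirectSum.decompose_of_mem_same 𝒜 hx] at this
  exact this

end ring

section core
variable {Y Y' P P' : Scheme.{u}} (ψ : Y' ⟶ Y) (𝒮 : RelProj.QCGrAlg Y) (𝒮' : RelProj.QCGrAlg Y')
  (e : ∀ (U : Y.Opens) (_ : IsAffineOpen U) (U' : Y'.Opens) (_ : IsAffineOpen U')
    (_ : U' ≤ ψ ⁻¹ᵁ U), 𝒮.presheaf.obj (op U) ⟶ 𝒮'.presheaf.obj (op U'))
  (φ : ∀ (U : Y.Opens) (hU : IsAffineOpen U) (U' : Y'.Opens) (hU' : IsAffineOpen U')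
    (_ : U' ≤ ψ ⁻¹ᵁ U), 𝒮.deg U hU →+*ᵍ 𝒮'.deg U' hU')
  (hφ : ∀ (U : Y.Opens) (hU : IsAffineOpen U) (U' : Y'.Opens) (hU' : IsAffineOpen U')
    (hle : U' ≤ ψ ⁻¹ᵁ U) (x : 𝒮.presheaf.obj (op U)), φ U hU U' hU' hle x = (e U hU U' hU' hle).hom x)
  (hpo : ∀ (U : Y.Opens) (hU : IsAffineOpen U) (U' : Y'.Opens) (hU' : IsAffineOpen U')
    (hle : U' ≤ ψ ⁻¹ᵁ U),
      IsPushout (ψ.appLE U U' hle) (𝒮.str.app (op U)) (𝒮'.str.app (op U')) (e U hU U' hU' hle))
  (hirr : ∀ (U : Y.Opens) (hU : IsAffineOpen U) (U' : Y'.Opens) (hU' : IsAffineOpen U')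
    (hle : U' ≤ ψ ⁻¹ᵁ U), (𝒮'.deg U' hU')₊ ≤ ((𝒮.deg U hU)₊).map (φ U hU U' hU' hle))
  (p : P ⟶ Y)
  (chart : ∀ (U : Y.Opens) (hU : IsAffineOpen U),
    (((p ⁻¹ᵁ U : P.Opens) : Scheme.{u}) ≅ Proj (𝒮.deg U hU)))
  (hP : RelProj.IsRelProj 𝒮 p chart) (p' : P' ⟶ Y')
  (chart' : ∀ (U' : Y'.Opens) (hU' : IsAffineOpen U'),
    (((p' ⁻¹ᵁ U' : P'.Opens) : Scheme.{u}) ≅ Proj (𝒮'.deg U' hU')))
  (hP' : RelProj.IsRelProj 𝒮' p' chart') (g : P' ⟶ P)
  (hg : ∀ (U : Y.Opens) (hU : IsAffineOpen U) (U' : Y'.Opens) (hU' : IsAffineOpen U')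
    (hle : U' ≤ ψ ⁻¹ᵁ U),
      RelProj.emb p' chart' U' hU' ≫ g =
        Proj.map (φ U hU U' hU' hle) (hirr U hU U' hU' hle) ≫ RelProj.emb p chart U hU)

include hφ hpo hP hP' hg in
/-- Core of the base-change theorem for relative Proj: a morphism which chartwise is `Proj.map` of
pushout squares exhibits `P'` as the fibre product. -/
theorem isPullback_of_charts : IsPullback g p' p ψ := by
  refine (Scheme.isPullback_of_openCover p' g ψ p (Groth.Agent.S12142.cov ψ) ?_).flip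
  intro i
  obtain ⟨U, hU, U', hU', hle⟩ := i
  have P0 := Groth.Agent.Lib.ProjBaseChangeGr.isPullback_proj_of_isPushout
    (ψ.appLE U U' hle).hom (𝒮.str.app (op U)).hom (𝒮'.str.app (op U')).hom
    (e U hU U' hU' hle).hom (hpo U hU U' hU' hle)
    (𝒮.deg U hU) (𝒮'.deg U' hU') (𝒮.str_mem U hU) (𝒮'.str_mem U' hU') (φ U hU U' hU' hle)
    (hφ U hU U' hU' hle) (hirr U hU U' hU' hle)
    (𝒮.strZero U hU).hom (fun _ => rfl) (𝒮'.strZero U' hU').hom (fun _ => rfl)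
  have R := P0.flip.paste_vert (Groth.Agent.S8291.isPullback_chart hP U hU)
  have e1 : Spec.map (CommRingCat.ofHom (ψ.appLE U U' hle).hom) ≫ hU.fromSpec =
      hU'.fromSpec ≫ ψ := IsAffineOpen.SpecMap_appLE_fromSpec ψ hU hU' hle
  rw [e1] at R
  have QB := (Groth.Agent.S8291.isPullback_chart hP' U' hU').flip
  refine IsPullback.of_iso R QB.isoPullback (Iso.refl _) (Iso.refl _) (Iso.refl _) ?_ ?_ ?_ ?_
  · exact (Category.comp_id _).trans QB.isoPullback_hom_snd.symm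
  · refine (Category.comp_id _).trans ?_
    change _ = QB.isoPullback.hom ≫ pullback.fst _ _ ≫ g
    rw [QB.isoPullback_hom_fst_assoc, hg U hU U' hU' hle]
  · exact (Category.comp_id _).trans (Category.id_comp _).symm
  · exact (Category.comp_id _).trans (Category.id_comp _).symm

end core

lemma exists_common_basic {X : Scheme.{u}} (U₁ U₂ : X.AffineZariskiSite) (V : X.Opens) (x : X)
    (h₁ : x ∈ U₁.1) (h₂ : x ∈ U₂.1) (hV : x ∈ V) :
    ∃ W : X.AffineZariskiSite, W ≤ U₁ ∧ W ≤ U₂ ∧ x ∈ W.1 ∧ W.1 ≤ V := by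
  obtain ⟨a, b, hab, hxa⟩ := exists_basicOpen_le_affine_inter U₁.2 U₂.2 x ⟨h₁, h₂⟩
  have hV'' : IsAffineOpen (X.basicOpen a) := U₁.2.basicOpen a
  obtain ⟨c, hcV, hxc⟩ := hV''.exists_basicOpen_le (V := V) ⟨x, hV⟩ hxa
  obtain ⟨a', ha'⟩ := U₁.2.basicOpen_basicOpen_is_basicOpen a c
  have key : ∀ (V'' : X.Opens) (_ : V'' = X.basicOpen b) (c : Γ(X, V'')),
      ∃ b' : Γ(X, U₂.1), X.basicOpen b' = X.basicOpen c := by
    rintro _ rfl c
    exact U₂.2.basicOpen_basicOpen_is_basicOpen b c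
  obtain ⟨b', hb'⟩ := key _ hab c
  exact ⟨⟨X.basicOpen c, hV''.basicOpen c⟩, ⟨a', ha'⟩, ⟨b', hb'⟩, hxc, hcV⟩

lemma domOpen_eq_top {A σ : Type u} [CommRing A] [SetLike σ A] [AddSubgroupClass σ A]
    {𝒜 : ℕ → σ} [GradedRing 𝒜]
    {B τ : Type u} [CommRing B] [SetLike τ B] [AddSubgroupClass τ B] {ℬ : ℕ → τ} [GradedRing ℬ]
    (f : 𝒜 →+*ᵍ ℬ) (hf : ℬ₊ ≤ 𝒜₊.map f) : RelCone.domOpen f = ⊤ := by
  rw [eq_top_iff]
  intro x _
  rw [RelCone.mem_domOpen]
  by_contra hcon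
  push Not at hcon
  apply x.not_irrelevant_le
  refine hf.trans ?_
  change Ideal.map f (HomogeneousIdeal.irrelevant 𝒜).toIdeal ≤ x.asHomogeneousIdeal.toIdeal
  rw [Ideal.map_le_iff_le_comap]
  intro a ha
  exact hcon a ha

section glue
variable {Y Y' P P' : Scheme.{u}} {ψ : Y' ⟶ Y} {𝒮 : RelProj.QCGrAlg Y} {𝒮' : RelProj.QCGrAlg Y'}
  (u : RelProj.QGrHom ψ 𝒮 𝒮')
  (hirr : ∀ (U : Y.Opens) (hU : IsAffineOpen U) (U' : Y'.Opens) (hU' : IsAffineOpen U')
    (hle : U' ≤ ψ ⁻¹ᵁ U), (𝒮'.deg U' hU')₊ ≤ ((𝒮.deg U hU)₊).map (u.gradedAt U hU U' hU' hle))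
  {p : P ⟶ Y}
  {chart : ∀ (U : Y.Opens) (hU : IsAffineOpen U),
    (((p ⁻¹ᵁ U : P.Opens) : Scheme.{u}) ≅ Proj (𝒮.deg U hU))}
  (hP : RelProj.IsRelProj 𝒮 p chart) {p' : P' ⟶ Y'}
  {chart' : ∀ (U' : Y'.Opens) (hU' : IsAffineOpen U'),
    (((p' ⁻¹ᵁ U' : P'.Opens) : Scheme.{u}) ≅ Proj (𝒮'.deg U' hU'))}
  (hP' : RelProj.IsRelProj 𝒮' p' chart')

/-- The chartwise morphism `Proj 𝒮'(U') ⟶ P`. -/
noncomputable def projChart (U : Y.Opens) (hU : IsAffineOpen U) (U' : Y'.Opens)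
    (hU' : IsAffineOpen U') (hle : U' ≤ ψ ⁻¹ᵁ U) : Proj (𝒮'.deg U' hU') ⟶ P :=
  Proj.map (u.gradedAt U hU U' hU' hle) (hirr U hU U' hU' hle) ≫ RelProj.emb p chart U hU

include hP in
lemma projChart_res (U : Y.Opens) (hU : IsAffineOpen U) (U' : Y'.Opens)
    (hU' : IsAffineOpen U') (hle : U' ≤ ψ ⁻¹ᵁ U) (r : Γ(Y, U)) (r' : Γ(Y', U'))
    (hle' : Y'.basicOpen r' ≤ ψ ⁻¹ᵁ Y.basicOpen r) :
    Proj.map (𝒮'.res hU' (hU'.basicOpen r') (Y'.basicOpen_le r')) (𝒮'.irrelevant_le_map U' hU' r') ≫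
      projChart u hirr (p := p) (chart := chart) U hU U' hU' hle =
    projChart u hirr (p := p) (chart := chart) (Y.basicOpen r) (hU.basicOpen r) (Y'.basicOpen r')
      (hU'.basicOpen r') hle' := by
  unfold projChart
  rw [← RelProj.map_res_emb hP U hU r, ← Category.assoc, ← Category.assoc, ← Proj.map_comp,
    ← Proj.map_comp]
  congr 1
  refine Groth.Agent.Lib.ProjBaseChangeGr.projMap_congr' (fun x => ?_) _ _
  change (𝒮'.presheaf.map (homOfLE (Y'.basicOpen_le r')).op).hom ((u.appLE U U' hle).hom x) =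
    (u.appLE (Y.basicOpen r) (Y'.basicOpen r') hle').hom
      ((𝒮.presheaf.map (homOfLE (Y.basicOpen_le r)).op).hom x)
  have h1 := congrArg (fun f => f.hom x) (u.toQHom.appLE_map hle (Y'.basicOpen_le r'))
  have h2 := congrArg (fun f => f.hom x) (u.toQHom.map_appLE (Y.basicOpen_le r) hle')
  exact h1.trans h2.symm

/-- The chart map on `p'⁻¹(U')`. -/
noncomputable def chartMap (i : Groth.Agent.S12142.Idx ψ) :
    ((p' ⁻¹ᵁ i.U' : P'.Opens) : Scheme.{u}) ⟶ P :=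
  (chart' i.U' i.hU').hom ≫ projChart u hirr (p := p) (chart := chart) i.U i.hU i.U' i.hU' i.hle

include hP hP' in
lemma chartMap_res (i : Groth.Agent.S12142.Idx ψ) (Wb : Y.AffineZariskiSite)
    (W'b : Y'.AffineZariskiSite) (hW : Wb ≤ ⟨i.U, i.hU⟩) (hW' : W'b ≤ ⟨i.U', i.hU'⟩)
    (hle' : W'b.1 ≤ ψ ⁻¹ᵁ Wb.1) :
    P'.homOfLE (p'.preimage_mono (Scheme.AffineZariskiSite.toOpens_mono hW')) ≫
        chartMap u hirr (p := p) (chart := chart) (chart' := chart') i =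
      (chart' W'b.1 W'b.2).hom ≫
        projChart u hirr (p := p) (chart := chart) Wb.1 Wb.2 W'b.1 W'b.2 hle' := by
  obtain ⟨U, hU, U', hU', hle⟩ := i
  obtain ⟨W, hWa⟩ := Wb
  obtain ⟨W', hW'a⟩ := W'b
  obtain ⟨r, hr⟩ := hW
  obtain ⟨r', hr'⟩ := hW'
  change Y.basicOpen r = W at hr
  change Y'.basicOpen r' = W' at hr'
  subst hr hr'
  unfold chartMap
  have h1 := hP'.chart_res U' hU' r'
  rw [reassoc_of% h1, projChart_res u hirr hP U hU U' hU' hle r r' hle']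

include hP hP' in
theorem exists_glue : ∃ h : P' ⟶ P, ∀ (U : Y.Opens) (hU : IsAffineOpen U) (U' : Y'.Opens)
    (hU' : IsAffineOpen U') (hle : U' ≤ ψ ⁻¹ᵁ U),
    RelProj.emb p' chart' U' hU' ≫ h =
      projChart u hirr (p := p) (chart := chart) U hU U' hU' hle := by
  have hcov : ⨆ i : Groth.Agent.S12142.Idx ψ, p' ⁻¹ᵁ i.U' = ⊤ := by
    rw [eq_top_iff]
    intro x _
    obtain ⟨U, hxU⟩ := Opens.mem_iSup.mp
      ((iSup_affineOpens_eq_top Y).ge (Set.mem_univ (ψ (p' x))))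
    obtain ⟨_, ⟨U', hU'', rfl⟩, hxU', hU'U⟩ := Y'.isBasis_affineOpens.exists_subset_of_mem_open
      (show p' x ∈ ((ψ ⁻¹ᵁ U.1 : Y'.Opens) : Set Y') from hxU) (ψ ⁻¹ᵁ U.1).2
    have hU' : IsAffineOpen U' := hU''
    exact Opens.mem_iSup.mpr ⟨⟨U.1, U.2, U', hU', hU'U⟩, hxU'⟩
  obtain ⟨h, hh, -⟩ := Groth.Agent.Lib.OpensGlue.existsUnique_glue
    (fun i : Groth.Agent.S12142.Idx ψ => p' ⁻¹ᵁ i.U') hcov
    (fun i => chartMap u hirr (p := p) (chart := chart) (chart' := chart') i) (by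
      intro i j x hxi hxj
      obtain ⟨Wb, hWi, hWj, hψx, -⟩ := exists_common_basic (⟨i.U, i.hU⟩ : Y.AffineZariskiSite)
        ⟨j.U, j.hU⟩ ⊤ (ψ (p' x)) (i.hle hxi) (j.hle hxj) trivial
      obtain ⟨W'b, hW'i, hW'j, hxW', hW'W⟩ :=
        exists_common_basic (⟨i.U', i.hU'⟩ : Y'.AffineZariskiSite) ⟨j.U', j.hU'⟩
          (ψ ⁻¹ᵁ Wb.1) (p' x) hxi hxj hψx
      refine ⟨p' ⁻¹ᵁ W'b.1, p'.preimage_mono (Scheme.AffineZariskiSite.toOpens_mono hW'i),
        p'.preimage_mono (Scheme.AffineZariskiSite.toOpens_mono hW'j), hxW', ?_⟩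
      rw [chartMap_res u hirr hP hP' i Wb W'b hWi hW'i hW'W,
        chartMap_res u hirr hP hP' j Wb W'b hWj hW'j hW'W])
  refine ⟨h, fun U hU U' hU' hle => ?_⟩
  have := hh ⟨U, hU, U', hU', hle⟩
  rw [RelProj.emb, Category.assoc, this]
  unfold chartMap
  rw [Iso.inv_hom_id_assoc]

include hirr in
theorem domQ_eq_top : RelProj.domQ u p' chart' = ⊤ := by
  rw [eq_top_iff]
  intro x _
  obtain ⟨⟨U, hU0⟩, hxU⟩ := Opens.mem_iSup.mp
    ((iSup_affineOpens_eq_top Y).ge (Set.mem_univ (ψ (p' x))))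
  have hU : IsAffineOpen U := hU0
  obtain ⟨_, ⟨U', hU'', rfl⟩, hxU', hU'U⟩ := Y'.isBasis_affineOpens.exists_subset_of_mem_open
    (show p' x ∈ ((ψ ⁻¹ᵁ U : Y'.Opens) : Set Y') from hxU) (ψ ⁻¹ᵁ U).2
  have hU' : IsAffineOpen U' := hU''
  have hx2 : x ∈ (RelProj.emb p' chart' U' hU').opensRange := by
    rw [Groth.Agent.Lib.ProjQMapOn.opensRange_emb]
    exact hxU'
  obtain ⟨z, rfl⟩ := hx2
  refine Opens.mem_iSup.mpr ⟨⟨(⟨U, hU⟩, ⟨U', hU'⟩), hU'U⟩, ?_⟩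
  refine ⟨z, ?_, rfl⟩
  have := domOpen_eq_top (u.gradedAt U hU U' hU' hU'U) (hirr U hU U' hU' hU'U)
  change z ∈ RelCone.domOpen (u.gradedAt U hU U' hU' hU'U)
  rw [this]
  trivial

/-- A morphism glued from the chart maps is `Proj(u)`. -/
theorem isProjQMap_of_emb (h : P' ⟶ P)
    (hh : ∀ (U : Y.Opens) (hU : IsAffineOpen U) (U' : Y'.Opens)
      (hU' : IsAffineOpen U') (hle : U' ≤ ψ ⁻¹ᵁ U),
      RelProj.emb p' chart' U' hU' ≫ h =
        projChart u hirr (p := p) (chart := chart) U hU U' hU' hle) :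
    RelProj.IsProjQMap u p chart p' chart' h := by
  refine ⟨domQ_eq_top u hirr, ?_⟩
  intro U hU U' hU' hle d hd f hf
  unfold RelProj.awayEmb
  rw [Category.assoc, hh U hU U' hU' hle]
  unfold projChart
  rw [← Category.assoc, Proj.awayι_comp_map _ _ hd f hf, Category.assoc]

/-- Conversely, `Proj(u)` restricts to the chart maps. -/
theorem emb_comp_of_isProjQMap (h : P' ⟶ P) (hh : RelProj.IsProjQMap u p chart p' chart' h)
    (U : Y.Opens) (hU : IsAffineOpen U) (U' : Y'.Opens)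
    (hU' : IsAffineOpen U') (hle : U' ≤ ψ ⁻¹ᵁ U) :
    RelProj.emb p' chart' U' hU' ≫ h =
      projChart u hirr (p := p) (chart := chart) U hU U' hU' hle := by
  refine (Proj.mapAffineOpenCover (u.gradedAt U hU U' hU' hle)
    (hirr U hU U' hU' hle)).openCover.hom_ext _ _ ?_
  rintro ⟨⟨d, hd⟩, ⟨f, hf⟩⟩
  have hd' : 0 < d := hd
  have h1 := hh.2 U hU U' hU' hle d hd' f hf
  unfold RelProj.awayEmb at h1
  rw [Category.assoc] at h1
  have key := Proj.awayι_comp_map (u.gradedAt U hU U' hU' hle) (hirr U hU U' hU' hle) hd' f hf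
  unfold projChart
  refine h1.trans ?_
  refine ((Category.assoc _ _ _).symm.trans ?_).trans (Category.assoc _ _ _)
  exact congrArg (· ≫ RelProj.emb p chart U hU) key.symm

end glue

end Groth.Agent.Lib.RelProjBaseChange
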