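import Groth.Agent.Lib.H60ProjQTwist
import Groth.Agent.Lib.H60GrSym
import Groth.Agent.Lib.H60RelTwistExists
import Groth.Agent.Lib.H60LineSym
import Groth.Agent.Lib.H72PullbackQCoh
import Groth.Agent.Lib.RelProjExists
import Groth.Agent.Lib.SymQBaseChange
import Groth.Agent.S12141

/-!
# Base change of projective bundles with their `O(1)` (helper60)

* `exists_baseChange ψ E hE 𝒮 j hj p chart hP O1 lam hO1`: for `ψ : Y' ⟶ Y` and the projective bundle `P = P(E)` with its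
  fundamental sheaf `O_P(1)`, there are the projective bundle `P' = P(ψ^*E)` on `Y'` (all data: graded symmetric algebra,
  charts, `O_{P'}(1)`), and `h : P' ⟶ P` making `P'` the fibre product `P ×_Y Y'` with `h^* O_P(1) ≅ O_{P'}(1)`.
-/

set_option autoImplicit false
universe u
open CategoryTheory CategoryTheory.Limits AlgebraicGeometry TopologicalSpace Opposite
open scoped HomogeneousIdeal

namespace Groth.Agent.Lib.H60BundleBC

theorem exists_baseChange {Y Y' P : Scheme.{u}} (ψ : Y' ⟶ Y) (E : Y.Modules) (hE : Coh.IsQCoh E)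
    (𝒮 : RelProj.QCGrAlg Y) (j : E ⟶ 𝒮.toModule) (hj : RelProj.IsGrSymAlg E 𝒮 j)
    (p : P ⟶ Y)
    (chart : ∀ (U : Y.Opens) (hU : IsAffineOpen U), (((p ⁻¹ᵁ U : P.Opens) : Scheme.{u}) ≅ Proj (𝒮.deg U hU)))
    (hP : RelProj.IsRelProj 𝒮 p chart) (O1 : P.Modules)
    (lam : ∀ (U : Y.Opens) (hU : IsAffineOpen U),
      O1 ⟶ (Scheme.Modules.pushforward (RelProj.emb p chart U hU)).obj (GrTwist.twist (𝒮.deg U hU) 1))
    (hO1 : RelProj.IsRelTwist 𝒮 p chart 1 O1 lam) :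
    ∃ (_ : Coh.IsQCoh ((Scheme.Modules.pullback ψ).obj E)) (𝒮' : RelProj.QCGrAlg Y')
      (j' : (Scheme.Modules.pullback ψ).obj E ⟶ 𝒮'.toModule)
      (_ : RelProj.IsGrSymAlg ((Scheme.Modules.pullback ψ).obj E) 𝒮' j')
      (P' : Scheme.{u}) (p' : P' ⟶ Y')
      (chart' : ∀ (U : Y'.Opens) (hU : IsAffineOpen U),
        (((p' ⁻¹ᵁ U : P'.Opens) : Scheme.{u}) ≅ Proj (𝒮'.deg U hU)))
      (_ : RelProj.IsRelProj 𝒮' p' chart') (O1' : P'.Modules)
      (lam' : ∀ (U : Y'.Opens) (hU : IsAffineOpen U),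
        O1' ⟶ (Scheme.Modules.pushforward (RelProj.emb p' chart' U hU)).obj (GrTwist.twist (𝒮'.deg U hU) 1))
      (_ : RelProj.IsRelTwist 𝒮' p' chart' 1 O1' lam') (h : P' ⟶ P),
      IsPullback h p' p ψ ∧ Nonempty ((Scheme.Modules.pullback h).obj O1 ≅ O1') := by
  haveI : E.IsQuasicoherent := hE
  haveI hE' : ((Scheme.Modules.pullback ψ).obj E).IsQuasicoherent :=
    Groth.Agent.Lib.H72PullbackQCoh.isQuasicoherent_pullback ψ E
  have hj' := Groth.Agent.Lib.H60GrSym.isGrSymAlg ((Scheme.Modules.pullback ψ).obj E)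
  have hP' := Groth.Agent.Lib.RelProjExists.isRelProj
    (Groth.Agent.Lib.H60GrSym.grSymAlg ((Scheme.Modules.pullback ψ).obj E))
  obtain ⟨O1', lam', hO1'⟩ := Groth.Agent.Lib.H60RelTwistExists.exists_relTwist hP' 1
  have hu := Groth.Agent.Lib.SymQBaseChange.isQBaseChange_symQGrHom (g := ψ) (E := E) 𝒮
    (Groth.Agent.Lib.H60GrSym.grSymAlg ((Scheme.Modules.pullback ψ).obj E)) j _ hj hj'
  have hirr : ∀ (U : Y.Opens) (hU : IsAffineOpen U) (U' : Y'.Opens) (hU' : IsAffineOpen U')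
      (hle : U' ≤ ψ ⁻¹ᵁ U),
      ((Groth.Agent.Lib.H60GrSym.grSymAlg ((Scheme.Modules.pullback ψ).obj E)).deg U' hU')₊ ≤
        ((𝒮.deg U hU)₊).map ((Groth.Agent.Lib.SymQBaseChange.symQGrHom ψ E 𝒮 _ j _ hj hj').gradedAt
          U hU U' hU' hle) :=
    fun U hU U' hU' hle =>
      Groth.Agent.Lib.RelProjBaseChange.irrelevant_le_map_of_isPushout
        (ψ.appLE U U' hle).hom (𝒮.str.app (op U)).hom
        ((Groth.Agent.Lib.H60GrSym.grSymAlg ((Scheme.Modules.pullback ψ).obj E)).str.app (op U')).hom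
        ((Groth.Agent.Lib.SymQBaseChange.symQGrHom ψ E 𝒮 _ j _ hj hj').appLE U U' hle).hom
        (hu U hU U' hU' hle) (𝒮.deg U hU) _
        ((Groth.Agent.Lib.H60GrSym.grSymAlg ((Scheme.Modules.pullback ψ).obj E)).str_mem U' hU')
        ((Groth.Agent.Lib.SymQBaseChange.symQGrHom ψ E 𝒮 _ j _ hj hj').gradedAt U hU U' hU' hle)
        (fun _ => rfl)
  obtain ⟨⟨h, hh⟩, hall⟩ := Groth.Agent.S12141.result ψ 𝒮 _
    (Groth.Agent.Lib.SymQBaseChange.symQGrHom ψ E 𝒮 _ j _ hj hj') hu p chart hP _ _ hP'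
  exact ⟨hE', _, _, hj', _, _, _, hP', O1', lam', hO1', h, hall h hh,
    Groth.Agent.Lib.H60ProjQTwist.nonempty_pullback_iso _ hirr h hh
      (Groth.Agent.Lib.H60LineSym.isGenDegOne E hE 𝒮 j hj) hP hP' hO1 hO1'⟩

end Groth.Agent.Lib.H60BundleBC
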