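import Groth.Agent.Lib.RelTwistAmple
import Groth.Agent.Lib.H60TwistLoc
import Groth.Agent.Lib.ModHomBasis
import Groth.Agent.Lib.SymQCAlg

/-!
# The canonical homomorphism `E ⟶ p_* O_P(d)` on a relative Proj (helper60)

For a relative Proj `p : P ⟶ Y` of `𝒮` with its charts, a relative twisting sheaf `(L, lam)` of degree `n = d ≥ 0` and a
morphism of modules `j : E ⟶ 𝒮` with values in degree `d` (e.g. `E ⟶ Sym(E)`, `d = 1`):

* `Val lam U hU W σ a`: the section `σ ∈ Γ(L, W)` has value `a / 1` at every point of the chart over `U` lying in `W`;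
  `Val.res`, `Val.add`, `Val.smul` (scalars from the base: uses `oval_emb_app`, the value of a function pulled back
  from the base), `Val.unique`, `Val.exists`, `Val.basicOpen`, `Val.of_le` (passage to ANY smaller affine open);
* `exists_hom`: the canonical `φ : E ⟶ p_* L` with `Val (φ e) (j e)` for every affine `U`;
* `exists_phi`: the form needed by `RelTwistEpi.epi_adjoint` (S5732): `E ⟶ p_* O_P(1)` for a graded symmetric algebra.

Ring level: `oval_appTop_toSpecZero` (the function on `Proj 𝒜` attached to `a ∈ 𝒜 0` has value `a / 1`),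
`oval_appLE_structure`.
-/

set_option autoImplicit false
universe u
open CategoryTheory AlgebraicGeometry TopologicalSpace Opposite GrTwist
open Groth.Agent.Lib.H60GrTwist Groth.Agent.Lib.H60RelTwist
open scoped HomogeneousIdeal

namespace Groth.Agent.Lib.H60CanonPhi

section ring

open HomogeneousLocalization

variable {A σ : Type u} [CommRing A] [SetLike σ A] [AddSubgroupClass σ A] (𝒜 : ℕ → σ) [GradedRing 𝒜]

theorem exists_pos_notMem (x : ProjectiveSpectrum 𝒜) :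
    ∃ e : ℕ, 0 < e ∧ ∃ f ∈ 𝒜 e, f ∉ x.asHomogeneousIdeal := by
  by_contra H
  simp only [not_exists, not_and, not_not] at H
  apply x.not_irrelevant_le
  rw [HomogeneousIdeal.irrelevant_le]
  intro i hi f hf
  exact H i hi f hf

/-- Values of `Proj.awayToSection`. -/
theorem oval_awayToSection (f : A) (b : Away 𝒜 f) (x : Proj.basicOpen 𝒜 f) :
    oval ((Proj.awayToSection 𝒜 f).hom b) x =
      IsLocalization.map (M := Submonoid.powers f) (T := x.1.asHomogeneousIdeal.toIdeal.primeCompl)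
        (Loc 𝒜 x.1) (RingHom.id A) (Submonoid.powers_le.mpr x.2) b.val :=
  ProjectiveSpectrum.Proj.awayToSection_apply 𝒜 f b x

theorem oval_awayToSection_fromZero (f : A) (a : 𝒜 0) (x : Proj.basicOpen 𝒜 f) :
    oval ((Proj.awayToSection 𝒜 f).hom (fromZeroRingHom 𝒜 _ a)) x = algebraMap A (Loc 𝒜 x.1) (a : A) := by
  rw [oval_awayToSection]
  change IsLocalization.map _ _ _ (Localization.mk (a : A) 1) = _
  rw [Localization.mk_one_eq_algebraMap, IsLocalization.map_eq]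
  rfl

theorem toSpecZero_appTop_res {m : ℕ} (f : A) (f_deg : f ∈ 𝒜 m) (hm : 0 < m) :
    (Scheme.ΓSpecIso (.of (𝒜 0))).inv ≫ (Proj.toSpecZero 𝒜).appTop ≫
      (Proj 𝒜).presheaf.map (homOfLE (le_top : Proj.basicOpen 𝒜 f ≤ ⊤)).op =
    CommRingCat.ofHom (fromZeroRingHom 𝒜 _) ≫ Proj.awayToSection 𝒜 f := by
  have h := congrArg Scheme.Hom.appTop (Proj.awayι_toSpecZero 𝒜 f f_deg hm)
  rw [Scheme.Hom.comp_appTop, Proj.awayι, Scheme.Hom.comp_appTop] at h
  have h2 : (Proj.toSpecZero 𝒜).appTop ≫ (Proj.basicOpen 𝒜 f).ι.appTop =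
      (Spec.map (CommRingCat.ofHom (fromZeroRingHom 𝒜 (Submonoid.powers f)))).appTop ≫
        (Proj.basicOpenIsoSpec 𝒜 f f_deg hm).hom.appTop := by
    have h5 : (Proj.basicOpenIsoSpec 𝒜 f f_deg hm).inv.appTop ≫
        (Proj.basicOpenIsoSpec 𝒜 f f_deg hm).hom.appTop = 𝟙 _ := by
      rw [← Scheme.Hom.comp_appTop, Iso.hom_inv_id]; rfl
    rw [← h, Category.assoc, Category.assoc, h5, Category.comp_id]
  have h3 : (Proj.basicOpenIsoSpec 𝒜 f f_deg hm).hom.appTop =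
      (Scheme.ΓSpecIso _).hom ≫ Proj.awayToSection 𝒜 f ≫ (Proj.basicOpen 𝒜 f).topIso.inv := by
    rw [Proj.basicOpenIsoSpec_hom]
    exact Proj.basicOpenToSpec_app_top 𝒜 f
  have h4 : (Proj.basicOpen 𝒜 f).ι.appTop ≫ (Proj.basicOpen 𝒜 f).topIso.hom =
      (Proj 𝒜).presheaf.map (homOfLE (le_top : Proj.basicOpen 𝒜 f ≤ ⊤)).op := by
    rw [Scheme.Opens.ι_appTop, Scheme.Opens.topIso_hom]
    exact ((Proj 𝒜).presheaf.map_comp _ _).symm
  rw [← h4, reassoc_of% h2, h3]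
  simp only [Category.assoc, Iso.inv_hom_id, Category.comp_id, Scheme.ΓSpecIso_naturality_assoc,
    Iso.inv_hom_id_assoc]

/-- The global function on `Proj 𝒜` attached to `a ∈ 𝒜 0` has value `a / 1` everywhere. -/
theorem oval_appTop_toSpecZero (a : 𝒜 0) (x : (⊤ : (Proj 𝒜).Opens)) :
    oval (((Scheme.ΓSpecIso (.of (𝒜 0))).inv ≫ (Proj.toSpecZero 𝒜).appTop).hom a) x =
      algebraMap A (Loc 𝒜 x.1) (a : A) := by
  obtain ⟨m, hm, f, hf, hfx⟩ := exists_pos_notMem 𝒜 x.1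
  have h2 := congrArg (fun φ => φ.hom a) (toSpecZero_appTop_res 𝒜 f hf hm)
  simp only [CommRingCat.hom_comp, CommRingCat.hom_ofHom, RingHom.coe_comp, Function.comp_apply] at h2
  have h3 : oval (((Scheme.ΓSpecIso (.of (𝒜 0))).inv ≫ (Proj.toSpecZero 𝒜).appTop).hom a) x =
      oval (((Proj 𝒜).presheaf.map (homOfLE (le_top : Proj.basicOpen 𝒜 f ≤ ⊤)).op).hom
        (((Scheme.ΓSpecIso (.of (𝒜 0))).inv ≫ (Proj.toSpecZero 𝒜).appTop).hom a)) ⟨x.1, hfx⟩ := rfl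
  rw [h3]
  erw [h2]
  exact oval_awayToSection_fromZero 𝒜 f a ⟨x.1, hfx⟩

theorem fromSpec_appLE_top {Y : Scheme.{u}} {U : Y.Opens} (hU : IsAffineOpen U) (e) :
    hU.fromSpec.appLE U ⊤ e = (Scheme.ΓSpecIso Γ(Y, U)).inv := by
  rw [Scheme.Hom.appLE, hU.fromSpec_app_self, Category.assoc, ← Functor.map_comp]
  convert Category.comp_id _
  exact (Spec Γ(Y, U)).presheaf.map_id _

theorem appLE_structure {Y : Scheme.{u}} {U : Y.Opens} (hU : IsAffineOpen U)
    (φ : Γ(Y, U) ⟶ CommRingCat.of (𝒜 0)) (e) :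
    (Proj.toSpecZero 𝒜 ≫ Spec.map φ ≫ hU.fromSpec).appLE U ⊤ e =
      φ ≫ (Scheme.ΓSpecIso (.of (𝒜 0))).inv ≫ (Proj.toSpecZero 𝒜).appTop := by
  have e1 : (⊤ : (Spec Γ(Y, U)).Opens) ≤ hU.fromSpec ⁻¹ᵁ U := by
    rw [hU.fromSpec_preimage_self]
  rw [← Scheme.Hom.appLE_comp_appLE (Proj.toSpecZero 𝒜) (Spec.map φ ≫ hU.fromSpec) U ⊤ ⊤
    (by rw [Scheme.Hom.comp_preimage, hU.fromSpec_preimage_self]; exact le_rfl) le_top,
    ← Scheme.Hom.appLE_comp_appLE (Spec.map φ) hU.fromSpec U ⊤ ⊤ e1 le_top, fromSpec_appLE_top]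
  have h1 : (Spec.map φ).appLE ⊤ ⊤ le_top = (Spec.map φ).appTop :=
    Scheme.Hom.appLE_eq_app (Spec.map φ) (U := ⊤)
  have h2 : (Proj.toSpecZero 𝒜).appLE ⊤ ⊤ le_top = (Proj.toSpecZero 𝒜).appTop :=
    Scheme.Hom.appLE_eq_app (Proj.toSpecZero 𝒜) (U := ⊤)
  rw [h1, h2, ← Category.assoc, ← Scheme.ΓSpecIso_inv_naturality, Category.assoc]

theorem oval_appLE_structure {Y : Scheme.{u}} {U : Y.Opens} (hU : IsAffineOpen U)
    (φ : Γ(Y, U) ⟶ CommRingCat.of (𝒜 0)) (T : (Proj 𝒜).Opens) (e) (r : Γ(Y, U)) (y : T) :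
    oval (((Proj.toSpecZero 𝒜 ≫ Spec.map φ ≫ hU.fromSpec).appLE U T e).hom r) y =
      algebraMap A (Loc 𝒜 y.1) ((φ.hom r : 𝒜 0) : A) := by
  have e' : (⊤ : (Proj 𝒜).Opens) ≤ (Proj.toSpecZero 𝒜 ≫ Spec.map φ ≫ hU.fromSpec) ⁻¹ᵁ U := by
    rw [Scheme.Hom.comp_preimage, Scheme.Hom.comp_preimage, hU.fromSpec_preimage_self]; exact le_rfl
  have h1 := Scheme.Hom.appLE_map (Proj.toSpecZero 𝒜 ≫ Spec.map φ ≫ hU.fromSpec) e'
    (homOfLE (le_top : T ≤ ⊤)).op
  rw [appLE_structure] at h1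
  have h2 := congrArg (fun ψ => ψ.hom r) h1
  simp only [CommRingCat.hom_comp, RingHom.coe_comp, Function.comp_apply] at h2
  rw [← h2]
  exact oval_appTop_toSpecZero 𝒜 (φ.hom r) ⟨y.1, trivial⟩

end ring

section rel

variable {Y P : Scheme.{u}} {𝒮 : RelProj.QCGrAlg Y} {p : P ⟶ Y}
  {chart : ∀ (U : Y.Opens) (hU : IsAffineOpen U), (((p ⁻¹ᵁ U : P.Opens) : Scheme.{u}) ≅ Proj (𝒮.deg U hU))}
  {n : ℤ} {L : P.Modules}
  {lam : ∀ (U : Y.Opens) (hU : IsAffineOpen U),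
      L ⟶ (Scheme.Modules.pushforward (RelProj.emb p chart U hU)).obj (GrTwist.twist (𝒮.deg U hU) n)}

variable (lam) in
/-- The section `σ` of `L` over `W` has value `a / 1` in the chart over `U`, at every point of the chart over `W`. -/
def Val (U : Y.Opens) (hU : IsAffineOpen U) (W : P.Opens) (σ : Γ(L, W)) (a : 𝒮.presheaf.obj (op U)) : Prop :=
  ∀ (y : ProjectiveSpectrum (𝒮.deg U hU)) (hy : (RelProj.emb p chart U hU).base y ∈ W),
    GrTwist.val (V := RelProj.emb p chart U hU ⁻¹ᵁ W) ((lam U hU).app W σ) ⟨y, hy⟩ =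
      algebraMap (𝒮.presheaf.obj (op U)) (GrTwist.Loc (𝒮.deg U hU) y) a

theorem Val.res {U : Y.Opens} {hU : IsAffineOpen U} {W W' : P.Opens} (h : W' ≤ W) {σ : Γ(L, W)}
    {a : 𝒮.presheaf.obj (op U)} (hv : Val lam U hU W σ a) :
    Val lam U hU W' (L.presheaf.map (homOfLE h).op σ) a := by
  intro y hy
  have h1 := lamS_rs (lam := lam) U hU h σ
  have h2 := congrArg (fun t => sval t ⟨y, hy⟩) h1
  exact h2.trans (hv y (h hy))

theorem Val.add {U : Y.Opens} {hU : IsAffineOpen U} {W : P.Opens} {σ σ' : Γ(L, W)}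
    {a a' : 𝒮.presheaf.obj (op U)} (hv : Val lam U hU W σ a) (hv' : Val lam U hU W σ' a') :
    Val lam U hU W (σ + σ') (a + a') := by
  intro y hy
  have h1 := lamS_add (lam := lam) U hU W σ σ'
  have h2 := congrArg (fun t => sval t ⟨y, hy⟩) h1
  refine h2.trans ?_
  rw [sval_add, map_add]
  exact congrArg₂ (· + ·) (hv y hy) (hv' y hy)

theorem Val.unique (hL : RelProj.IsRelTwist 𝒮 p chart n L lam) {U : Y.Opens} {hU : IsAffineOpen U}
    {W : P.Opens} (hW : W ≤ p ⁻¹ᵁ U) {σ σ' : Γ(L, W)}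
    {a : 𝒮.presheaf.obj (op U)} (hv : Val lam U hU W σ a) (hv' : Val lam U hU W σ' a) : σ = σ' := by
  apply (lamS_bijective hL U hU W hW).1
  exact sec_ext fun y => (hv y.1 y.2).trans (hv' y.1 y.2).symm

theorem locMap_algebraMap {A σA B σB : Type u} [CommRing A] [SetLike σA A] [AddSubgroupClass σA A] {𝒜 : ℕ → σA}
    [GradedRing 𝒜] [CommRing B] [SetLike σB B] [AddSubgroupClass σB B] {ℬ : ℕ → σB} [GradedRing ℬ]
    (ψ : 𝒜 →+*ᵍ ℬ) (hψ : ℬ₊ ≤ (𝒜₊).map ψ) (y : ProjectiveSpectrum ℬ) (a : A) :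
    GrTwist.locMap ψ hψ y (algebraMap A _ a) = algebraMap B (GrTwist.Loc ℬ y) (ψ a) := by
  rw [← Localization.mk_one_eq_algebraMap, GrTwist.locMap_mk, ← Localization.mk_one_eq_algebraMap]
  congr 1
  exact Subtype.ext (map_one ψ)

theorem Val.basicOpen (hP : RelProj.IsRelProj 𝒮 p chart) (hL : RelProj.IsRelTwist 𝒮 p chart n L lam)
    {U : Y.Opens} {hU : IsAffineOpen U} (r : Γ(Y, U)) {W : P.Opens} {σ : Γ(L, W)}
    {a : 𝒮.presheaf.obj (op U)} (hv : Val lam U hU W σ a) :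
    Val lam (Y.basicOpen r) (hU.basicOpen r) W σ (𝒮.res hU (hU.basicOpen r) (Y.basicOpen_le r) a) := by
  intro y hy
  have hy' := Groth.Agent.Lib.RelTildeGlue.mem_of_mem hP U hU r W y hy
  rw [hL.compat U hU r W σ y hy hy', hv _ hy', locMap_algebraMap]

theorem appLE_of_eq {X Z : Scheme.{u}} {f g : X ⟶ Z} (h : f = g) (U : Z.Opens) (V : X.Opens) (e : V ≤ f ⁻¹ᵁ U) :
    f.appLE U V e = g.appLE U V (h ▸ e) := by
  subst h; rfl

theorem emb_comp (hP : RelProj.IsRelProj 𝒮 p chart) (U : Y.Opens) (hU : IsAffineOpen U) :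
    RelProj.emb p chart U hU ≫ p =
      Proj.toSpecZero (𝒮.deg U hU) ≫ Spec.map (𝒮.strZero U hU) ≫ hU.fromSpec := by
  unfold RelProj.emb
  rw [Category.assoc, ← hP.chart_over U hU, Iso.inv_hom_id_assoc]

theorem oval_emb_app (hP : RelProj.IsRelProj 𝒮 p chart) (U : Y.Opens) (hU : IsAffineOpen U) (r : Γ(Y, U))
    (y : (RelProj.emb p chart U hU ⁻¹ᵁ (p ⁻¹ᵁ U) : (Proj (𝒮.deg U hU)).Opens)) :
    oval (((RelProj.emb p chart U hU).app (p ⁻¹ᵁ U)).hom ((p.app U).hom r)) y =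
      algebraMap (𝒮.presheaf.obj (op U)) (GrTwist.Loc (𝒮.deg U hU) y.1) ((𝒮.str.app (op U)).hom r) := by
  have h1 : ((RelProj.emb p chart U hU).app (p ⁻¹ᵁ U)).hom ((p.app U).hom r) =
      ((RelProj.emb p chart U hU ≫ p).appLE U (RelProj.emb p chart U hU ⁻¹ᵁ (p ⁻¹ᵁ U)) le_rfl).hom r := by
    unfold Scheme.Hom.appLE
    rw [Scheme.Hom.comp_app]
    simp only [CommRingCat.hom_comp, RingHom.coe_comp, Function.comp_apply]
    have h0 : ∀ t : Γ(Proj (𝒮.deg U hU), RelProj.emb p chart U hU ⁻¹ᵁ (p ⁻¹ᵁ U)),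
        ((Proj (𝒮.deg U hU)).presheaf.map (homOfLE (le_refl (RelProj.emb p chart U hU ⁻¹ᵁ (p ⁻¹ᵁ U)))).op).hom t = t := by
      intro t
      have : (homOfLE (le_refl (RelProj.emb p chart U hU ⁻¹ᵁ (p ⁻¹ᵁ U)))).op = 𝟙 _ := rfl
      rw [this, CategoryTheory.Functor.map_id]
      rfl
    exact (h0 _).symm
  rw [h1, appLE_of_eq (emb_comp hP U hU)]
  exact oval_appLE_structure (𝒮.deg U hU) hU (𝒮.strZero U hU) _ _ r y

theorem Val.smul (hP : RelProj.IsRelProj 𝒮 p chart) {U : Y.Opens} {hU : IsAffineOpen U} (r : Γ(Y, U))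
    {σ : Γ(L, p ⁻¹ᵁ U)} {a : 𝒮.presheaf.obj (op U)} (hv : Val lam U hU (p ⁻¹ᵁ U) σ a) :
    Val lam U hU (p ⁻¹ᵁ U) ((p.app U).hom r • σ) ((𝒮.str.app (op U)).hom r * a) := by
  intro y hy
  have h1 := lamS_smul (lam := lam) U hU (p ⁻¹ᵁ U) ((p.app U).hom r) σ
  have h2 := congrArg (fun t => sval t ⟨y, hy⟩) h1
  refine h2.trans ?_
  rw [sval_smul, map_mul, oval_emb_app hP U hU r ⟨y, hy⟩]
  exact congrArg _ (hv y hy)

/-- EXISTENCE of the section with value `a / 1`, `a ∈ 𝒮(U)_d`, `n = d`. -/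
theorem Val.exists (hL : RelProj.IsRelTwist 𝒮 p chart n L lam) (U : Y.Opens) (hU : IsAffineOpen U)
    {a : 𝒮.presheaf.obj (op U)} {d : ℕ} (ha : a ∈ 𝒮.deg U hU d) (hn : n = d) :
    ∃ σ : Γ(L, p ⁻¹ᵁ U), Val lam U hU (p ⁻¹ᵁ U) σ a := by
  obtain ⟨σ, hσ⟩ := (hL.bijective U hU (p ⁻¹ᵁ U) le_rfl).2
    ((GrTwist.twist (𝒮.deg U hU) n).presheaf.map
      (homOfLE (le_top : RelProj.emb p chart U hU ⁻¹ᵁ (p ⁻¹ᵁ U) ≤ ⊤)).op
        (Groth.Agent.Lib.RelTwistAmple.numSec ha n hn))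
  refine ⟨σ, fun y hy => ?_⟩
  have h1 := congrArg (fun t => sval t ⟨y, hy⟩) hσ
  exact h1.trans (Localization.mk_one_eq_algebraMap a)

/-- Passage to a smaller affine open (not necessarily basic). -/
theorem Val.of_le (hP : RelProj.IsRelProj 𝒮 p chart) (hL : RelProj.IsRelTwist 𝒮 p chart n L lam)
    {U V : Y.Opens} {hU : IsAffineOpen U} (hV : IsAffineOpen V) (hVU : V ≤ U) {W : P.Opens} {σ : Γ(L, W)}
    {a : 𝒮.presheaf.obj (op U)} (hv : Val lam U hU W σ a) :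
    Val lam V hV W σ (𝒮.res hU hV hVU a) := by
  intro y hy
  have hv0 : p.base ((RelProj.emb p chart V hV).base y) ∈ V :=
    Groth.Agent.Lib.RelTildeGlue.emb_mem (p := p) (chart := chart) V hV y
  obtain ⟨f, g, hfg, hxf⟩ := exists_basicOpen_le_affine_inter hU hV _ ⟨hVU hv0, hv0⟩
  have hvf := hv.basicOpen hP hL f
  have key : ∀ (D : Y.Opens) (hD : IsAffineOpen D) (_ : Y.basicOpen f = D) (hDU : D ≤ U),
      Val lam D hD W σ (𝒮.res hU hD hDU a) := by
    intro D hD e hDU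
    subst e
    exact hvf
  have hvg := key (Y.basicOpen g) (hV.basicOpen g) hfg ((Y.basicOpen_le g).trans hVU)
  -- the point `y` comes from the chart over `D(g)`
  have hy1 : (RelProj.emb p chart V hV).base y ∈ p ⁻¹ᵁ (Y.basicOpen g) := by
    change p.base ((RelProj.emb p chart V hV).base y) ∈ Y.basicOpen g
    rw [← hfg]; exact hxf
  rw [← opensRange_emb (p := p) (chart := chart) (Y.basicOpen g) (hV.basicOpen g)] at hy1
  obtain ⟨y', hy'⟩ := hy1
  have e1 := congrArg (fun k ↦ k.base y') (RelProj.map_res_emb hP V hV g)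
  have e2 : (RelProj.emb p chart V hV).base (ProjectiveSpectrum.comap
      (𝒮.res hV (hV.basicOpen g) (Y.basicOpen_le g)) (𝒮.irrelevant_le_map V hV g) y') =
      (RelProj.emb p chart V hV).base y := e1.trans hy'
  have e3 : ProjectiveSpectrum.comap
      (𝒮.res hV (hV.basicOpen g) (Y.basicOpen_le g)) (𝒮.irrelevant_le_map V hV g) y' = y :=
    (RelProj.emb p chart V hV).isOpenEmbedding.injective e2
  subst e3
  have hyD : (RelProj.emb p chart (Y.basicOpen g) (hV.basicOpen g)).base y' ∈ W := by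
    rw [hy']; exact hy
  have h1 := hL.compat V hV g W σ y' hyD hy
  have h2 := hvg y' hyD
  have h3 : GrTwist.locMap (𝒮.res hV (hV.basicOpen g) (Y.basicOpen_le g)) (𝒮.irrelevant_le_map V hV g) y'
      (algebraMap _ _ (𝒮.res hU hV hVU a)) =
      algebraMap _ _ (𝒮.res hU (hV.basicOpen g) ((Y.basicOpen_le g).trans hVU) a) := by
    rw [locMap_algebraMap]
    congr 1
    have := congrArg (fun k => k.hom a) (𝒮.presheaf.map_comp (homOfLE hVU).op (homOfLE (Y.basicOpen_le g)).op)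
    exact this.symm
  apply Groth.Agent.Lib.H60TwistLoc.locMap_injective_of_away
    (𝒮.res hV (hV.basicOpen g) (Y.basicOpen_le g)) (𝒮.irrelevant_le_map V hV g) (𝒮.isQC V hV g) y'
  rw [h3, ← h1, h2]

/-- **The canonical homomorphism** `E ⟶ p_* O_P(d)` attached to `j : E ⟶ 𝒮` with values in degree `d`: the section
`φ(e)` has value `j(e) / 1` in every chart. -/
theorem exists_hom (hP : RelProj.IsRelProj 𝒮 p chart) (hL : RelProj.IsRelTwist 𝒮 p chart n L lam)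
    {d : ℕ} (hn : n = d) (E : Y.Modules) (j : E ⟶ 𝒮.toModule)
    (hj : ∀ (U : Y.Opens) (hU : IsAffineOpen U) (x : Γ(E, U)),
      (show 𝒮.presheaf.obj (op U) from j.app U x) ∈ 𝒮.deg U hU d) :
    ∃ φ : E ⟶ (Scheme.Modules.pushforward p).obj L,
      ∀ (U : Y.Opens) (hU : IsAffineOpen U) (e : Γ(E, U)),
        Val lam U hU (p ⁻¹ᵁ U) (φ.app U e) (show 𝒮.presheaf.obj (op U) from j.app U e) := by
  classical
  let B : Y.affineOpens → Y.Opens := fun U => U.1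
  have hB : Opens.IsBasis (Set.range B) := by
    have : Set.range B = Y.affineOpens := Subtype.range_coe
    rw [this]
    exact Y.isBasis_affineOpens
  have hex : ∀ (U : Y.affineOpens) (e : Γ(E, U.1)), ∃ σ : Γ(L, p ⁻¹ᵁ U.1),
      Val lam U.1 U.2 (p ⁻¹ᵁ U.1) σ (show 𝒮.presheaf.obj (op U.1) from j.app U.1 e) :=
    fun U e => Val.exists hL U.1 U.2 (hj U.1 U.2 e) hn
  let s : ∀ (U : Y.affineOpens) (e : Γ(E, U.1)), Γ(L, p ⁻¹ᵁ U.1) := fun U e => (hex U e).choose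
  have hs : ∀ (U : Y.affineOpens) (e : Γ(E, U.1)),
      Val lam U.1 U.2 (p ⁻¹ᵁ U.1) (s U e) (show 𝒮.presheaf.obj (op U.1) from j.app U.1 e) :=
    fun U e => (hex U e).choose_spec
  have hadd : ∀ (U : Y.affineOpens) (e e' : Γ(E, U.1)), s U (e + e') = s U e + s U e' := by
    intro U e e'
    refine Val.unique hL le_rfl (hs U (e + e')) ?_
    have h1 := (hs U e).add (hs U e')
    have h2 : (show 𝒮.presheaf.obj (op U.1) from j.app U.1 (e + e')) =
        (show 𝒮.presheaf.obj (op U.1) from j.app U.1 e) + (show 𝒮.presheaf.obj (op U.1) from j.app U.1 e') :=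
      map_add (j.app U.1).hom e e'
    rw [h2]
    exact h1
  let φ : ∀ U : Y.affineOpens, Γ(E, B U) ⟶ Γ((Scheme.Modules.pushforward p).obj L, B U) := fun U =>
    AddCommGrpCat.ofHom (AddMonoidHom.mk' (s U) (hadd U))
  have hnat : ∀ (i j : Y.affineOpens) (h : B j ≤ B i) (s : Γ(E, B i)),
      ((Scheme.Modules.pushforward p).obj L).presheaf.map (homOfLE h).op (φ i s) =
        φ j (E.presheaf.map (homOfLE h).op s) := ?nat
  have hlin : ∀ (i : Y.affineOpens) (r : Γ(Y, B i)) (s : Γ(E, B i)), φ i (r • s) = r • φ i s := ?lin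
  obtain ⟨f, hf⟩ := Groth.Agent.Lib.ModHomBasis.exists_hom_of_basis (M := E)
    (N := (Scheme.Modules.pushforward p).obj L) hB φ hnat hlin
  · refine ⟨f, fun U hU e => ?_⟩
    have h1 : f.app U e = s ⟨U, hU⟩ e := by
      rw [hf ⟨U, hU⟩]
      rfl
    rw [h1]
    exact hs ⟨U, hU⟩ e
  case nat =>
    intro U V h e
    change L.presheaf.map (homOfLE (p.preimage_mono h)).op (s U e) = s V (E.presheaf.map (homOfLE h).op e)
    refine Val.unique hL le_rfl (((hs U e).of_le hP hL V.2 h).res (p.preimage_mono h)) ?_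
    have h2 := Groth.Agent.Lib.SymQCAlg.app_res E 𝒮.toQCAlg j U.1 V.1 h e
    have h3 := hs V (E.presheaf.map (homOfLE h).op e)
    exact h2 ▸ h3
  case lin =>
    intro U r e
    change s U (r • e) = (p.app U.1).hom r • s U e
    refine Val.unique hL le_rfl (hs U (r • e)) ?_
    have h1 := (hs U e).smul hP r
    have h2 : (show 𝒮.presheaf.obj (op U.1) from j.app U.1 (r • e)) =
        (𝒮.str.app (op U.1)).hom r * (show 𝒮.presheaf.obj (op U.1) from j.app U.1 e) := by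
      rw [Scheme.Modules.Hom.app_smul]
      exact Groth.Agent.Lib.SymQCAlg.toModule_smul_def 𝒮.toQCAlg U.1 r _
    rw [h2]
    exact h1

/-- The canonical `φ : E ⟶ p_* O_P(1)` for a graded symmetric algebra `(𝒮, j)` of `E`, in the form of the hypothesis of
`RelTwistEpi.epi_adjoint`. -/
theorem exists_phi (hP : RelProj.IsRelProj 𝒮 p chart) (E : Y.Modules) (j : E ⟶ 𝒮.toModule)
    (hj : RelProj.IsGrSymAlg E 𝒮 j) {O1 : P.Modules}
    {lam1 : ∀ (U : Y.Opens) (hU : IsAffineOpen U),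
      O1 ⟶ (Scheme.Modules.pushforward (RelProj.emb p chart U hU)).obj (GrTwist.twist (𝒮.deg U hU) 1)}
    (hO1 : RelProj.IsRelTwist 𝒮 p chart 1 O1 lam1) :
    ∃ φ : E ⟶ (Scheme.Modules.pushforward p).obj O1,
      ∀ (U : Y.Opens) (hU : IsAffineOpen U) (e : Γ(E, U))
        (y : ↥(RelProj.emb p chart U hU ⁻¹ᵁ (p ⁻¹ᵁ U))),
        GrTwist.val (V := RelProj.emb p chart U hU ⁻¹ᵁ (p ⁻¹ᵁ U))
            ((lam1 U hU).app (p ⁻¹ᵁ U) ((φ.app U) e)) y =
          algebraMap (𝒮.presheaf.obj (op U)) (GrTwist.Loc (𝒮.deg U hU) y.1)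
            ((j.app U) e : 𝒮.presheaf.obj (op U)) := by
  obtain ⟨φ, hφ⟩ := exists_hom hP hO1 (d := 1) Nat.cast_one.symm E j (fun U hU x => hj.2 U hU x)
  exact ⟨φ, fun U hU e y => hφ U hU e y.1 y.2⟩

end rel

end Groth.Agent.Lib.H60CanonPhi
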