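import Groth.Agent.S4417
import Groth.Agent.Lib.H90OXModLocal
import Mathlib.AlgebraicGeometry.Morphisms.Immersion
import Mathlib.AlgebraicGeometry.Limits

/-!
# Immersions from a disjoint union; modules on a disjoint union (helper60)

* `isImmersion_coprod_desc`: the copairing of two immersions whose ranges lie in disjoint closed subsets is an immersion.
* `kappa`, `isIso_kappa`: for open immersions `a`, `b` with disjoint ranges covering `Z`, `M ≅ a_*(M|_A) ⊕ b_*(M|_B)`.
* `nonempty_iso_of_pullback_iso`: modules on `Z` with isomorphic inverse images along `a` and `b` are isomorphic.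
-/

set_option autoImplicit false
universe u
open CategoryTheory CategoryTheory.Limits AlgebraicGeometry TopologicalSpace Opposite

namespace Groth.Agent.Lib.H60CoprodImm

theorem base_coprod_desc {X Y Z : Scheme.{u}} (f : X ⟶ Z) (g : Y ⟶ Z) :
    ((coprod.desc f g).base : ↥(X ⨿ Y) → Z) = Sum.elim f.base g.base ∘ (coprodMk X Y).symm := by
  funext z
  obtain ⟨(a | a), rfl⟩ := (coprodMk X Y).surjective z
  · rw [Function.comp_apply, Homeomorph.symm_apply_apply, coprodMk_inl, ← Scheme.Hom.comp_apply,
      coprod.inl_desc]; rfl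
  · rw [Function.comp_apply, Homeomorph.symm_apply_apply, coprodMk_inr, ← Scheme.Hom.comp_apply,
      coprod.inr_desc]; rfl

/-- The copairing of two immersions whose ranges lie in disjoint closed subsets is an immersion. -/
theorem isImmersion_coprod_desc {X Y Z : Scheme.{u}} (f : X ⟶ Z) (g : Y ⟶ Z)
    [IsImmersion f] [IsImmersion g] (K K' : Set Z) (hK : IsClosed K) (hK' : IsClosed K')
    (hd : Disjoint K K') (hf : Set.range f.base ⊆ K) (hg : Set.range g.base ⊆ K') :
    IsImmersion (coprod.desc f g) := by
  have hs : SurjectiveOnStalks (coprod.desc f g) := by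
    rw [IsZariskiLocalAtSource.iff_of_openCover (P := @SurjectiveOnStalks) (coprodOpenCover.{u, u} X Y)]
    rintro (⟨⟩ | ⟨⟩)
    · change SurjectiveOnStalks (coprod.inl ≫ coprod.desc f g)
      rw [coprod.inl_desc]; infer_instance
    · change SurjectiveOnStalks (coprod.inr ≫ coprod.desc f g)
      rw [coprod.inr_desc]; infer_instance
  have h1 : Topology.IsEmbedding (Sum.elim f.base g.base) := by
    refine Topology.IsEmbedding.sumElim f.isEmbedding g.isEmbedding ?_ ?_
    · exact (hd.mono_left (hK.closure_subset_iff.mpr hf)).mono_right hg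
    · exact (hd.mono_left hf).mono_right (hK'.closure_subset_iff.mpr hg)
  have he : Topology.IsEmbedding (coprod.desc f g).base := by
    rw [base_coprod_desc]
    exact h1.comp (coprodMk X Y).symm.isEmbedding
  have hr : Set.range (coprod.desc f g).base = Set.range f.base ∪ Set.range g.base := by
    rw [base_coprod_desc, Set.range_comp, (coprodMk X Y).symm.surjective.range_eq, Set.image_univ,
      Set.Sum.elim_range]
  have hl : IsLocallyClosed (Set.range (coprod.desc f g).base) := by
    rw [hr]
    obtain ⟨U₁, C₁, hU₁, hC₁, e₁⟩ := f.isLocallyClosed_range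
    obtain ⟨U₂, C₂, hU₂, hC₂, e₂⟩ := g.isLocallyClosed_range
    refine ⟨(U₁ \ K') ∪ (U₂ \ K), (C₁ ∩ K) ∪ (C₂ ∩ K'),
      (hU₁.sdiff hK').union (hU₂.sdiff hK), (hC₁.inter hK).union (hC₂.inter hK'), ?_⟩
    have hKK' : ∀ y, y ∈ K → y ∈ K' → False := fun y h h' => Set.disjoint_left.mp hd h h'
    ext y
    constructor
    · rintro (hy | hy)
      · have hyK := hf hy
        rw [e₁] at hy
        exact ⟨Or.inl ⟨hy.1, fun h' => hKK' y hyK h'⟩, Or.inl ⟨hy.2, hyK⟩⟩
      · have hyK := hg hy
        rw [e₂] at hy
        exact ⟨Or.inr ⟨hy.1, fun h' => hKK' y h' hyK⟩, Or.inr ⟨hy.2, hyK⟩⟩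
    · rintro ⟨hyU, (⟨hyC, hyK⟩ | ⟨hyC, hyK⟩)⟩
      · rcases hyU with hyU | hyU
        · left; rw [e₁]; exact ⟨hyU.1, hyC⟩
        · exact absurd hyK hyU.2
      · rcases hyU with hyU | hyU
        · exact absurd hyK hyU.2
        · right; rw [e₂]; exact ⟨hyU.1, hyC⟩
  exact { toSurjectiveOnStalks := hs, isEmbedding := he, isLocallyClosed_range := hl }

section glue

open Groth.Agent.S4417

variable {A B Z : Scheme.{u}} (a : A ⟶ Z) (b : B ⟶ Z) [IsOpenImmersion a] [IsOpenImmersion b]

/-- the comparison `M ⟶ a_*(M|_A) ⊕ b_*(M|_B)` -/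
noncomputable def kappa (M : Z.Modules) :
    M ⟶ glueMod a b ((Scheme.Modules.restrictFunctor a).obj M) ((Scheme.Modules.restrictFunctor b).obj M) :=
  biprod.lift ((Scheme.Modules.restrictAdjunction a).unit.app M) ((Scheme.Modules.restrictAdjunction b).unit.app M)

theorem bijective_of_eq {Z : Scheme.{u}} (M : Z.Modules) {W W' : Z.Opens} (h : W' ≤ W) (e : W' = W) :
    Function.Bijective (M.presheaf.map (homOfLE h).op) := by
  subst e
  have : (homOfLE h).op = 𝟙 _ := rfl
  rw [this, M.presheaf.map_id]
  exact Function.bijective_id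

theorem isIso_kappa (hdisj : a.opensRange ⊓ b.opensRange = ⊥) (hcov : a.opensRange ⊔ b.opensRange = ⊤)
    (M : Z.Modules) : IsIso (kappa a b M) := by
  have hU : ⨆ i : Bool, (if i then a.opensRange else b.opensRange) = ⊤ := by
    rw [iSup_bool_eq]; exact hcov
  refine Groth.Agent.Lib.H90OXModLocal.isIso_of_small hU (kappa a b M) ?_
  rintro W ⟨i, hi⟩
  rw [ConcreteCategory.isIso_iff_bijective]
  cases i with
  | true =>
    have hW : W ≤ a.opensRange := hi
    have e : a ''ᵁ (a ⁻¹ᵁ W) = W := by
      rw [Scheme.Hom.image_preimage_eq_opensRange_inf]; exact inf_eq_right.mpr hW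
    have h1 := fst_bijective a b ((Scheme.Modules.restrictFunctor a).obj M)
      ((Scheme.Modules.restrictFunctor b).obj M) hdisj (a ⁻¹ᵁ W)
    rw [e] at h1
    have h2 : Function.Bijective (((Scheme.Modules.restrictAdjunction a).unit.app M).app W) := by
      rw [Scheme.Modules.restrictAdjunction_unit_app_app]
      exact bijective_of_eq M _ e
    have h3' : kappa a b M ≫ (biprod.fst : glueMod a b ((Scheme.Modules.restrictFunctor a).obj M)
        ((Scheme.Modules.restrictFunctor b).obj M) ⟶ _) = (Scheme.Modules.restrictAdjunction a).unit.app M :=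
      biprod.lift_fst _ _
    have h3 := congrArg (fun f => Scheme.Modules.Hom.app f W) h3'
    simp only [Scheme.Modules.Hom.comp_app] at h3
    have h4 : Function.Bijective ((biprod.fst : glueMod a b _ _ ⟶ _).app W ∘ (kappa a b M).app W) := by
      have : ((biprod.fst : glueMod a b ((Scheme.Modules.restrictFunctor a).obj M)
          ((Scheme.Modules.restrictFunctor b).obj M) ⟶ _).app W ∘ (kappa a b M).app W) =
          ((Scheme.Modules.restrictAdjunction a).unit.app M).app W := by
        funext x
        exact congrArg (fun f => f x) h3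
      rw [this]; exact h2
    exact (Function.Bijective.of_comp_iff' h1 _).mp h4
  | false =>
    have hW : W ≤ b.opensRange := hi
    have e : b ''ᵁ (b ⁻¹ᵁ W) = W := by
      rw [Scheme.Hom.image_preimage_eq_opensRange_inf]; exact inf_eq_right.mpr hW
    have h1 := snd_bijective a b ((Scheme.Modules.restrictFunctor a).obj M)
      ((Scheme.Modules.restrictFunctor b).obj M) hdisj (b ⁻¹ᵁ W)
    rw [e] at h1
    have h2 : Function.Bijective (((Scheme.Modules.restrictAdjunction b).unit.app M).app W) := by
      rw [Scheme.Modules.restrictAdjunction_unit_app_app]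
      exact bijective_of_eq M _ e
    have h3' : kappa a b M ≫ (biprod.snd : glueMod a b ((Scheme.Modules.restrictFunctor a).obj M)
        ((Scheme.Modules.restrictFunctor b).obj M) ⟶ _) = (Scheme.Modules.restrictAdjunction b).unit.app M :=
      biprod.lift_snd _ _
    have h3 := congrArg (fun f => Scheme.Modules.Hom.app f W) h3'
    simp only [Scheme.Modules.Hom.comp_app] at h3
    have h4 : Function.Bijective ((biprod.snd : glueMod a b _ _ ⟶ _).app W ∘ (kappa a b M).app W) := by
      have : ((biprod.snd : glueMod a b ((Scheme.Modules.restrictFunctor a).obj M)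
          ((Scheme.Modules.restrictFunctor b).obj M) ⟶ _).app W ∘ (kappa a b M).app W) =
          ((Scheme.Modules.restrictAdjunction b).unit.app M).app W := by
        funext x
        exact congrArg (fun f => f x) h3
      rw [this]; exact h2
    exact (Function.Bijective.of_comp_iff' h1 _).mp h4

/-- Two modules on a scheme covered by two disjoint opens are isomorphic as soon as their inverse images on both
opens are. -/
theorem nonempty_iso_of_pullback_iso (hdisj : a.opensRange ⊓ b.opensRange = ⊥)
    (hcov : a.opensRange ⊔ b.opensRange = ⊤) {M N : Z.Modules}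
    (e₁ : (Scheme.Modules.pullback a).obj M ≅ (Scheme.Modules.pullback a).obj N)
    (e₂ : (Scheme.Modules.pullback b).obj M ≅ (Scheme.Modules.pullback b).obj N) : Nonempty (M ≅ N) := by
  haveI := isIso_kappa a b hdisj hcov M
  haveI := isIso_kappa a b hdisj hcov N
  let f₁ : (Scheme.Modules.restrictFunctor a).obj M ≅ (Scheme.Modules.restrictFunctor a).obj N :=
    (Scheme.Modules.restrictFunctorIsoPullback a).app M ≪≫ e₁ ≪≫
      ((Scheme.Modules.restrictFunctorIsoPullback a).app N).symm
  let f₂ : (Scheme.Modules.restrictFunctor b).obj M ≅ (Scheme.Modules.restrictFunctor b).obj N :=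
    (Scheme.Modules.restrictFunctorIsoPullback b).app M ≪≫ e₂ ≪≫
      ((Scheme.Modules.restrictFunctorIsoPullback b).app N).symm
  exact ⟨asIso (kappa a b M) ≪≫
    biprod.mapIso ((Scheme.Modules.pushforward a).mapIso f₁) ((Scheme.Modules.pushforward b).mapIso f₂) ≪≫
    (asIso (kappa a b N)).symm⟩

end glue

end Groth.Agent.Lib.H60CoprodImm
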