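import Mathlib

/-!
# Graded rings of finite type: monomials span the graded pieces

`mem_span_monomials`: if `v i ∈ ℬ (dv i)` generate `B` as a `ℬ 0`-algebra, then `ℬ n` is spanned over
`ℬ 0` by the monomials `∏ v i ^ a i` with `∑ a i • dv i = n`.
-/

set_option autoImplicit false
universe u
open DirectSum

namespace Groth.Agent.Lib.H60GradedFT

variable {B : Type u} [CommRing B] {σ : Type*} [SetLike σ B] [AddSubgroupClass σ B]
  (ℬ : ℕ → σ) [GradedRing ℬ]

/-- The set of monomials of degree `n`. -/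
def monomials {ι' : Type*} [Fintype ι'] (v : ι' → B) (dv : ι' → ℕ) (n : ℕ) : Set B :=
  {b | ∃ ai : ι' → ℕ, ∑ i, ai i • dv i = n ∧ b = ∏ i, v i ^ ai i}

lemma monomial_mem {ι' : Type*} [Fintype ι'] (v : ι' → B) (dv : ι' → ℕ)
    (hxd : ∀ i, v i ∈ ℬ (dv i)) (ai : ι' → ℕ) :
    ∏ i, v i ^ ai i ∈ ℬ (∑ i, ai i • dv i) :=
  SetLike.prod_pow_mem_graded _ _ _ _ fun i _ ↦ hxd i

theorem decompose_mem_span_monomials {ι' : Type*} [Fintype ι'] (v : ι' → B)
    (hx : Algebra.adjoin (ℬ 0) (Set.range v) = ⊤) (dv : ι' → ℕ) (hxd : ∀ i, v i ∈ ℬ (dv i))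
    (n : ℕ) (b : B) :
    ((decompose ℬ b n : ℬ n) : B) ∈ Submodule.span (ℬ 0) (monomials v dv n) := by
  classical
  have hb : b ∈ Submodule.span (ℬ 0) (Submonoid.closure (Set.range v) : Set B) := by
    rw [← Algebra.adjoin_eq_span, hx]; trivial
  induction hb using Submodule.span_induction with
  | mem a ha' =>
    obtain ⟨ai, rfl⟩ := Submonoid.exists_of_mem_closure_range _ _ ha'
    have hmem := monomial_mem ℬ v dv hxd ai
    by_cases H : ∑ i, ai i • dv i = n
    · rw [decompose_of_mem_same ℬ (H ▸ hmem)]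
      exact Submodule.subset_span ⟨ai, H, rfl⟩
    · rw [decompose_of_mem_ne ℬ hmem H]
      exact zero_mem _
  | zero => simp
  | add s t _ _ hs' ht' =>
    rw [decompose_add, DirectSum.add_apply, AddMemClass.coe_add]
    exact add_mem hs' ht'
  | smul r x _ hx' =>
    have : ((decompose ℬ (r • x) n : ℬ n) : B) = r • ((decompose ℬ x n : ℬ n) : B) := by
      rw [Algebra.smul_def, Algebra.smul_def]
      exact coe_decompose_mul_of_left_mem_zero ℬ r.2
    rw [this]
    exact Submodule.smul_mem _ r hx'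

theorem mem_span_monomials {ι' : Type*} [Fintype ι'] (v : ι' → B)
    (hx : Algebra.adjoin (ℬ 0) (Set.range v) = ⊤) (dv : ι' → ℕ) (hxd : ∀ i, v i ∈ ℬ (dv i))
    {n : ℕ} {b : B} (hb : b ∈ ℬ n) :
    b ∈ Submodule.span (ℬ 0) (monomials v dv n) := by
  have := decompose_mem_span_monomials ℬ v hx dv hxd n b
  rwa [decompose_of_mem_same ℬ hb] at this

end Groth.Agent.Lib.H60GradedFT
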