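import Groth.Agent.Lib.H60LineAlg
import Groth.Agent.Lib.ProjQMap
import Groth.Agent.Lib.H90Invertible

/-!
# Points of a relative `Proj` over basic opens of the base; symmetric algebras of invertible modules

* `mem_toSpecZero_iff`: the point `toSpecZero w` of `Spec 𝒜₀` is `w ∩ 𝒜₀`;
* `over_mem_basicOpen_iff`: for a relative Proj `p : P ⟶ Y` of `𝒮`, `V ⊆ Y` affine, `w ∈ Proj 𝒮(V)`
  and `a ∈ Γ(Y, V)`: `p (emb w) ∈ D(a) ↔ str a ∉ w`.
-/

set_option autoImplicit false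
universe u
open CategoryTheory CategoryTheory.Limits AlgebraicGeometry Opposite TopologicalSpace
open scoped HomogeneousIdeal
noncomputable section

namespace Groth.Agent.Lib.H60LineBundle

open Groth.Agent.Lib.H60AwayDegOne Groth.Agent.Lib.ProjQMap
open HomogeneousLocalization

section Alg

variable {A σ : Type u} [CommRing A] [SetLike σ A] [AddSubgroupClass σ A] (𝒜 : ℕ → σ)
  [GradedRing 𝒜]

/-- The point `toSpecZero w` of `Spec 𝒜₀` is `w ∩ 𝒜₀`. -/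
lemma mem_toSpecZero_iff (w : Proj 𝒜) (a0 : 𝒜 0) :
    a0 ∈ ((Proj.toSpecZero 𝒜).base w).asIdeal ↔ (a0 : A) ∈ w.asHomogeneousIdeal := by
  have hcov := (Proj.affineOpenCover 𝒜).covers w
  set i := (Proj.affineOpenCover 𝒜).idx w
  obtain ⟨q, hq⟩ := hcov
  have hq' : (Proj.awayι 𝒜 (i.2 : A) i.2.2 i.1.2).base q = w := hq
  have h1 := congrArg (fun g ↦ g.base q) (Proj.awayι_toSpecZero 𝒜 (i.2 : A) i.2.2 i.1.2)
  have h1' : (Proj.toSpecZero 𝒜).base ((Proj.awayι 𝒜 (i.2 : A) i.2.2 i.1.2).base q) =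
      (Spec.map (CommRingCat.ofHom (fromZeroRingHom 𝒜 _))).base q := h1
  rw [← hq', h1']
  have ha' : (a0 : A) ^ (i.1 : ℕ) ∈ 𝒜 (0 • (i.1 : ℕ)) := by
    have h := SetLike.pow_mem_graded (i.1 : ℕ) a0.2
    have e : (i.1 : ℕ) • 0 = 0 • (i.1 : ℕ) := by simp
    exact e ▸ h
  refine Iff.trans ?_ (mem_awayι_iff i.2.2 i.1.2 q ha').symm
  change fromZeroRingHom 𝒜 _ a0 ∈ q.asIdeal ↔ _
  have e : Away.mk 𝒜 i.2.2 0 ((a0 : A) ^ (i.1 : ℕ)) ha' =
      (fromZeroRingHom 𝒜 (Submonoid.powers (i.2 : A)) a0) ^ (i.1 : ℕ) := by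
    apply HomogeneousLocalization.val_injective
    rw [Away.val_mk, HomogeneousLocalization.val_pow]
    change _ = (Localization.mk (a0 : A) 1) ^ (i.1 : ℕ)
    rw [Localization.mk_pow, one_pow]
    congr 1
    exact Subtype.ext (pow_zero _)
  rw [e]
  exact (q.isPrime.pow_mem_iff_mem _ i.1.2).symm

end Alg

section Over

variable {Y P : Scheme.{u}} {𝒮 : RelProj.QCGrAlg Y} {p : P ⟶ Y}
  {chart : ∀ (U : Y.Opens) (hU : IsAffineOpen U),
    (((p ⁻¹ᵁ U : P.Opens) : Scheme.{u}) ≅ Proj (𝒮.deg U hU))}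

/-- For a relative Proj `p : P ⟶ Y` of `𝒮`, an affine open `V ⊆ Y`, `w ∈ Proj 𝒮(V)` and
`a ∈ Γ(Y, V)`: `p (emb w) ∈ D(a) ↔ str a ∉ w`. -/
lemma over_mem_basicOpen_iff (hP : RelProj.IsRelProj 𝒮 p chart) (V : Y.Opens)
    (hV : IsAffineOpen V) (w : Proj (𝒮.deg V hV)) (a : Γ(Y, V)) :
    p.base ((RelProj.emb p chart V hV).base w) ∈ Y.basicOpen a ↔
      (𝒮.str.app (op V)).hom a ∉ w.asHomogeneousIdeal := by
  have h1 := congrArg (fun g ↦ g.base w) (emb_comp hP V hV)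
  have h1' : p.base ((RelProj.emb p chart V hV).base w) =
      hV.fromSpec.base ((Spec.map (𝒮.strZero V hV)).base
        ((Proj.toSpecZero (𝒮.deg V hV)).base w)) := h1
  rw [h1']
  set y := (Spec.map (𝒮.strZero V hV)).base ((Proj.toSpecZero (𝒮.deg V hV)).base w) with hy
  have h2 : hV.fromSpec.base y ∈ Y.basicOpen a ↔ y ∈ hV.fromSpec ⁻¹ᵁ Y.basicOpen a := Iff.rfl
  rw [h2, hV.fromSpec_preimage_basicOpen a]
  change ¬ (a ∈ y.asIdeal) ↔ _
  refine not_congr ?_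
  change (𝒮.strZero V hV).hom a ∈ ((Proj.toSpecZero (𝒮.deg V hV)).base w).asIdeal ↔ _
  rw [mem_toSpecZero_iff]
  rfl

end Over

section Res

variable {Y P : Scheme.{u}} {𝒮 : RelProj.QCGrAlg Y} {p : P ⟶ Y}
  {chart : ∀ (U : Y.Opens) (hU : IsAffineOpen U),
    (((p ⁻¹ᵁ U : P.Opens) : Scheme.{u}) ≅ Proj (𝒮.deg U hU))}

/-- Points of the charts over `V` and over a basic open `D(b) ⊆ V` with the same image in `P`:
membership of sections is compatible with restriction. -/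
lemma mem_iff_res_mem (hP : RelProj.IsRelProj 𝒮 p chart) (V : Y.Opens) (hV : IsAffineOpen V)
    (b : Γ(Y, V)) (w : Proj (𝒮.deg V hV)) (w₂ : Proj (𝒮.deg (Y.basicOpen b) (hV.basicOpen b)))
    (h : (RelProj.emb p chart (Y.basicOpen b) (hV.basicOpen b)).base w₂ =
      (RelProj.emb p chart V hV).base w) (t : 𝒮.presheaf.obj (op V)) :
    t ∈ w.asHomogeneousIdeal ↔
      (𝒮.res hV (hV.basicOpen b) (Y.basicOpen_le b)) t ∈ w₂.asHomogeneousIdeal := by
  have e1 := congrArg (fun g ↦ g.base w₂) (RelProj.map_res_emb hP V hV b)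
  have e1' : (RelProj.emb p chart V hV).base
      ((Proj.map (𝒮.res hV (hV.basicOpen b) (Y.basicOpen_le b))
        (𝒮.irrelevant_le_map V hV b)).base w₂) =
      (RelProj.emb p chart (Y.basicOpen b) (hV.basicOpen b)).base w₂ := e1
  have e2 := (RelProj.emb p chart V hV).isOpenEmbedding.injective (e1'.trans h)
  rw [← e2]
  rfl

end Res

section Line

open Groth.Agent.Lib.H90Invertible Groth.Agent.Lib.H60LineAlg

variable {X PL : Scheme.{u}} (L : X.Modules) (𝒮L : RelProj.QCGrAlg X) (j : L ⟶ 𝒮L.toModule)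
  (pL : PL ⟶ X)
  (chartL : ∀ (U : X.Opens) (hU : IsAffineOpen U),
    (((pL ⁻¹ᵁ U : PL.Opens) : Scheme.{u}) ≅ Proj (𝒮L.deg U hU)))
  (hPL : RelProj.IsRelProj 𝒮L pL chartL)

/-- `j` of a section, as an element of the algebra. -/
def jel (V : X.Opens) (s : Γ(L, V)) : 𝒮L.presheaf.obj (op V) :=
  (show 𝒮L.presheaf.obj (op V) from j.app V s)

lemma jel_res {V V' : X.Opens} (h : V' ≤ V) (s : Γ(L, V)) :
    (𝒮L.presheaf.map (homOfLE h).op).hom (jel L 𝒮L j V s) =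
      jel L 𝒮L j V' (L.presheaf.map (homOfLE h).op s) :=
  (NatTrans.naturality_apply j.mapPresheaf (homOfLE h).op s).symm

lemma str_res {V V' : X.Opens} (h : V' ≤ V) (a : Γ(X, V)) :
    (𝒮L.presheaf.map (homOfLE h).op).hom ((𝒮L.str.app (op V)).hom a) =
      (𝒮L.str.app (op V')).hom ((X.presheaf.map (homOfLE h).op).hom a) :=
  (congrArg (fun f ↦ f.hom a) (𝒮L.str.naturality (homOfLE h).op)).symm

variable (hj1 : ∀ (V : X.Opens) (hV : IsAffineOpen V) (s : Γ(L, V)),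
    jel L 𝒮L j V s ∈ 𝒮L.deg V hV 1)
  (hpoly : ∀ (V : X.Opens) (_ : IsAffineOpen V) (s : Γ(L, V)), IsGen L V s →
    Function.Bijective (Polynomial.eval₂RingHom (𝒮L.str.app (op V)).hom (jel L 𝒮L j V s)))

include hPL hj1 hpoly in
/-- Local criterion: if the homogeneous section `t` of degree `n` over the affine open `V` does
not vanish at the point `w`, then the image of `w` in `X` has an affine neighbourhood `V' ⊆ V`
over which `𝒮L(V')_n ⊆ (t|V')`. -/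
lemma exists_affine_subset_span (hL : PicF.IsInvertible L) (V : X.Opens) (hV : IsAffineOpen V)
    (w : Proj (𝒮L.deg V hV)) (n : ℕ) (t : 𝒮L.presheaf.obj (op V)) (ht : t ∈ 𝒮L.deg V hV n)
    (htw : t ∉ w.asHomogeneousIdeal) :
    ∃ (V' : X.Opens) (hV' : IsAffineOpen V') (hle : V' ≤ V),
      pL.base ((RelProj.emb pL chartL V hV).base w) ∈ V' ∧
      ((𝒮L.deg V' hV' n : AddSubgroup (𝒮L.presheaf.obj (op V'))) :
          Set (𝒮L.presheaf.obj (op V'))) ⊆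
        (Ideal.span {(𝒮L.presheaf.map (homOfLE hle).op).hom t} :
          Set (𝒮L.presheaf.obj (op V'))) := by
  set x' := (RelProj.emb pL chartL V hV).base w with hx'
  have hxV : pL.base x' ∈ V := range_emb_le pL chartL V hV w
  obtain ⟨V₁, hx₁, s₁, hs₁⟩ := (isInvertible_iff_exists_isGen L).mp hL (pL.base x')
  obtain ⟨b, hbV₁, hxb⟩ := hV.exists_basicOpen_le (V := V₁) ⟨pL.base x', hx₁⟩ hxV
  have hxb' : pL.base x' ∈ X.basicOpen b := hxb
  -- the basic open `V₂ = D(b)` on which `L` is free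
  have hV₂ : IsAffineOpen (X.basicOpen b) := hV.basicOpen b
  have hs₂ := hs₁.mono hbV₁
  set s₂ := L.presheaf.map (homOfLE hbV₁).op s₁ with hs₂def
  have hT₂ := hj1 (X.basicOpen b) hV₂ s₂
  have hb₂ := hpoly (X.basicOpen b) hV₂ s₂ hs₂
  have hσ₂ : ∀ r, (𝒮L.str.app (op (X.basicOpen b))).hom r ∈ 𝒮L.deg (X.basicOpen b) hV₂ 0 :=
    fun r ↦ 𝒮L.str_mem (X.basicOpen b) hV₂ r
  have hx'₂ : x' ∈ pL ⁻¹ᵁ X.basicOpen b := hxb'
  have hw₂ := emb_apply_chart pL chartL (X.basicOpen b) hV₂ x' hx'₂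
  set w₂ := chartPt pL chartL (X.basicOpen b) hV₂ x' hx'₂ with hw₂def
  have ht₂w : (𝒮L.res hV hV₂ (X.basicOpen_le b)) t ∉ w₂.asHomogeneousIdeal := fun hcon ↦
    htw ((mem_iff_res_mem hPL V hV b w w₂ hw₂ t).mpr hcon)
  have ht₂ : (𝒮L.res hV hV₂ (X.basicOpen_le b)) t ∈ 𝒮L.deg (X.basicOpen b) hV₂ n :=
    (𝒮L.res hV hV₂ (X.basicOpen_le b)).2 ht
  obtain ⟨a, hta⟩ := (mem_deg_iff (𝒮L.deg (X.basicOpen b) hV₂) _ hσ₂ _ hT₂ hb₂ n _).mp ht₂
  rw [hta, mul_pow_mem_iff (𝒮L.deg (X.basicOpen b) hV₂) _ hσ₂ _ hT₂ hb₂ w₂ a n] at ht₂w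
  have hxa : pL.base x' ∈ X.basicOpen a := by
    have := (over_mem_basicOpen_iff hPL (X.basicOpen b) hV₂ w₂ a).mpr ht₂w
    rwa [hw₂] at this
  -- the basic open `V' = D(a)` of `V₂`
  have hV' : IsAffineOpen (X.basicOpen a) := hV₂.basicOpen a
  have hle₂ : X.basicOpen a ≤ X.basicOpen b := X.basicOpen_le a
  have hle : X.basicOpen a ≤ V := hle₂.trans (X.basicOpen_le b)
  refine ⟨X.basicOpen a, hV', hle, hxa, ?_⟩
  have hs' := hs₂.mono hle₂
  set s' := L.presheaf.map (homOfLE hle₂).op s₂ with hs'def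
  have hT' := hj1 (X.basicOpen a) hV' s'
  have hb' := hpoly (X.basicOpen a) hV' s' hs'
  have hσ' : ∀ r, (𝒮L.str.app (op (X.basicOpen a))).hom r ∈ 𝒮L.deg (X.basicOpen a) hV' 0 :=
    fun r ↦ 𝒮L.str_mem (X.basicOpen a) hV' r
  have e1 : (𝒮L.presheaf.map (homOfLE hle).op).hom t =
      (𝒮L.presheaf.map (homOfLE hle₂).op).hom ((𝒮L.res hV hV₂ (X.basicOpen_le b)) t) := by
    rw [RelProj.QCGrAlg.res_apply, ← CommRingCat.comp_apply, ← Functor.map_comp]
    rfl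
  rw [e1, hta, map_mul, map_pow, str_res, jel_res]
  refine (deg_subset_span_iff (𝒮L.deg (X.basicOpen a) hV') _ hσ' _ hT' hb' n _).mpr ?_
  exact X.toRingedSpace.isUnit_res_basicOpen a

end Line

end Groth.Agent.Lib.H60LineBundle
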