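import Groth.Agent.Lib.H60LineImmW

/-!
# Immersion families under graded homomorphisms and filtered colimits (EGA II 3.8.4)
-/

set_option autoImplicit false
universe u
open CategoryTheory CategoryTheory.Limits AlgebraicGeometry TopologicalSpace Opposite
open scoped HomogeneousIdeal
noncomputable section

namespace Groth.Agent.Lib.H60LineColim

open Groth.Agent.Lib.H60LineProjQW Groth.Agent.Lib.H60LineImmW

variable {Y X : Scheme.{u}} (q : X ⟶ Y) (𝒮L : RelProj.QCGrAlg X)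

section Transfer

variable (𝒮' 𝒮'' : RelProj.QCGrAlg Y) (ψ : 𝒮'.toQCAlg ⟶ 𝒮''.toQCAlg) (hψ : RelProj.IsGradedHom ψ)
  (u' : RelProj.QGrHom q 𝒮' 𝒮L) (u'' : RelProj.QGrHom q 𝒮'' 𝒮L)
  (huu : ∀ U : Y.Opens, u'.app U = ψ.hom.app (op U) ≫ u''.app U)

include huu in
lemma appLE_transfer (W : Y.Opens) (V : X.Opens) (hle : V ≤ q ⁻¹ᵁ W)
    (s : 𝒮'.presheaf.obj (op W)) :
    (u''.appLE W V hle).hom ((ψ.hom.app (op W)).hom s) = (u'.appLE W V hle).hom s := by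
  have e : u'.appLE W V hle = ψ.hom.app (op W) ≫ u''.appLE W V hle := by
    rw [RelSpec.QHom.appLE_eq, RelSpec.QHom.appLE_eq, huu W, Category.assoc]
  rw [e]
  rfl

include huu in
lemma XTW_transfer (W : Y.Opens) (n : ℕ) (s : 𝒮'.presheaf.obj (op W)) :
    XTW q 𝒮'' 𝒮L u'' W n ((ψ.hom.app (op W)).hom s) = XTW q 𝒮' 𝒮L u' W n s := by
  ext x
  change x ∈ XTW q 𝒮'' 𝒮L u'' W n ((ψ.hom.app (op W)).hom s) ↔ x ∈ XTW q 𝒮' 𝒮L u' W n s
  rw [mem_XTW_iff, mem_XTW_iff]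
  constructor
  · rintro ⟨V, hV, hle, hx, hsub⟩
    refine ⟨V, hV, hle, hx, ?_⟩
    rwa [appLE_transfer q 𝒮L 𝒮' 𝒮'' ψ u' u'' huu W V hle s] at hsub
  · rintro ⟨V, hV, hle, hx, hsub⟩
    refine ⟨V, hV, hle, hx, ?_⟩
    rwa [appLE_transfer q 𝒮L 𝒮' 𝒮'' ψ u' u'' huu W V hle s]

include hψ huu in
/-- An immersion family for `(𝒮', u')` gives one for `(𝒮'', u'')` when `u' = u'' ∘ ψ`. -/
theorem HasImmFamily.transfer (h : HasImmFamily q 𝒮' 𝒮L u') : HasImmFamily q 𝒮'' 𝒮L u'' := by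
  obtain ⟨ι, Wf, hWf, n, s, h1, hcov, haff, h3⟩ := h
  have hXT : ∀ a, XTW q 𝒮'' 𝒮L u'' (Wf a) (n a) ((ψ.hom.app (op (Wf a))).hom (s a)) =
      XTW q 𝒮' 𝒮L u' (Wf a) (n a) (s a) :=
    fun a ↦ XTW_transfer q 𝒮L 𝒮' 𝒮'' ψ u' u'' huu (Wf a) (n a) (s a)
  refine ⟨ι, Wf, hWf, n, fun a ↦ (ψ.hom.app (op (Wf a))).hom (s a),
    fun a ↦ ⟨(h1 a).1, hψ _ (hWf a) _ _ (h1 a).2⟩, ?_, ?_, ?_⟩
  · rw [← hcov]
    exact iSup_congr hXT
  · intro a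
    rw [hXT a]; exact haff a
  · intro a
    have key : ∀ (V : X.Opens) (hle : V ≤ q ⁻¹ᵁ (Wf a))
        (_ : V = XTW q 𝒮' 𝒮L u' (Wf a) (n a) (s a)) (t : X.presheaf.obj (op V)),
        ∃ (m : ℕ) (_ : 0 < m) (s' : 𝒮''.presheaf.obj (op (Wf a)))
          (_ : s' ∈ 𝒮''.deg (Wf a) (hWf a) (m * n a)),
          (𝒮L.str.app (op V)).hom t *
            ((u''.appLE (Wf a) V hle).hom ((ψ.hom.app (op (Wf a))).hom (s a))) ^ m =
            (u''.appLE (Wf a) V hle).hom s' := by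
      intro V hle hV t
      subst hV
      obtain ⟨m, hm, s', hs', e⟩ := h3 a t
      refine ⟨m, hm, (ψ.hom.app (op (Wf a))).hom s', hψ _ (hWf a) _ _ hs', ?_⟩
      rw [appLE_transfer q 𝒮L 𝒮' 𝒮'' ψ u' u'' huu, appLE_transfer q 𝒮L 𝒮' 𝒮'' ψ u' u'' huu]
      exact e
    exact key _ _ (hXT a)

end Transfer

section Colim

variable (𝒮 : RelProj.QCGrAlg Y) (u : RelProj.QGrHom q 𝒮 𝒮L)
  (Λ : Type u) [Preorder Λ] [IsDirected Λ (· ≤ ·)] [Nonempty Λ]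
  (𝒮i : Λ → RelProj.QCGrAlg Y) (φ : ∀ i, (𝒮i i).toQCAlg ⟶ 𝒮.toQCAlg)
  (hφ : ∀ i, RelProj.IsGradedHom (φ i))
  (t : ∀ i j, i ≤ j → ((𝒮i i).toQCAlg ⟶ (𝒮i j).toQCAlg))
  (ht : ∀ i j (h : i ≤ j), RelProj.IsGradedHom (t i j h))
  (hφt : ∀ i j (h : i ≤ j), t i j h ≫ φ j = φ i)
  (hsurj : ∀ (U : Y.Opens), IsAffineOpen U → ∀ x : 𝒮.presheaf.obj (op U),
    ∃ (i : Λ) (y : (𝒮i i).presheaf.obj (op U)), ((φ i).hom.app (op U)).hom y = x)
  (ui : ∀ i, RelProj.QGrHom q (𝒮i i) 𝒮L)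
  (hui : ∀ i (U : Y.Opens), (ui i).app U = (φ i).hom.app (op U) ≫ u.app U)

include hφ hsurj in
lemma exists_homogeneous_lift (W : Y.Opens) (hW : IsAffineOpen W) (d : ℕ)
    (x : 𝒮.presheaf.obj (op W)) (hx : x ∈ 𝒮.deg W hW d) :
    ∃ (i : Λ) (y : (𝒮i i).presheaf.obj (op W)), y ∈ (𝒮i i).deg W hW d ∧
      ((φ i).hom.app (op W)).hom y = x := by
  classical
  obtain ⟨i, y, hy⟩ := hsurj W hW x
  refine ⟨i, ((DirectSum.decompose ((𝒮i i).deg W hW) y d : (𝒮i i).deg W hW d) :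
    (𝒮i i).presheaf.obj (op W)), Subtype.prop _, ?_⟩
  have h1 := GradedRingHom.map_directSumDecompose ((𝒮i i).deg W hW) (𝒮.deg W hW)
    (RelProj.gradedHomAt (φ i) (hφ i) W hW) (x := y) (i := d)
  have h2 : (RelProj.gradedHomAt (φ i) (hφ i) W hW) y = x := hy
  rw [h2, DirectSum.decompose_of_mem_same _ hx] at h1
  exact h1

include ht hφt in
lemma lift_mono (W : Y.Opens) (hW : IsAffineOpen W) (d : ℕ) (x : 𝒮.presheaf.obj (op W))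
    (i j : Λ) (hij : i ≤ j) (y : (𝒮i i).presheaf.obj (op W)) (hy : y ∈ (𝒮i i).deg W hW d)
    (hyx : ((φ i).hom.app (op W)).hom y = x) :
    ((t i j hij).hom.app (op W)).hom y ∈ (𝒮i j).deg W hW d ∧
      ((φ j).hom.app (op W)).hom (((t i j hij).hom.app (op W)).hom y) = x := by
  refine ⟨ht i j hij W hW d y hy, ?_⟩
  rw [← hyx]
  exact congrArg (fun k ↦ (k.hom.app (op W)).hom y) (hφt i j hij)

include hφ hsurj ht hφt in
lemma exists_common_lift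
    (T : Finset (Σ (W : Y.affineOpens) (d : ℕ), {x : 𝒮.presheaf.obj (op W.1) // x ∈ 𝒮.deg W.1 W.2 d})) :
    ∃ i : Λ, ∀ τ ∈ T, ∃ y : (𝒮i i).presheaf.obj (op τ.1.1), y ∈ (𝒮i i).deg τ.1.1 τ.1.2 τ.2.1 ∧
      ((φ i).hom.app (op τ.1.1)).hom y = τ.2.2.1 := by
  classical
  have h := fun τ : (Σ (W : Y.affineOpens) (d : ℕ),
      {x : 𝒮.presheaf.obj (op W.1) // x ∈ 𝒮.deg W.1 W.2 d}) ↦
    exists_homogeneous_lift 𝒮 Λ 𝒮i φ hφ hsurj τ.1.1 τ.1.2 τ.2.1 τ.2.2.1 τ.2.2.2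
  choose iτ yτ hyτ hyτ' using h
  obtain ⟨i, hi⟩ := Finset.exists_le (T.image iτ)
  refine ⟨i, fun τ hτ ↦ ?_⟩
  have hle : iτ τ ≤ i := hi _ (Finset.mem_image_of_mem _ hτ)
  have := lift_mono 𝒮 Λ 𝒮i φ t ht hφt τ.1.1 τ.1.2 τ.2.1 τ.2.2.1 (iτ τ) i hle (yτ τ) (hyτ τ) (hyτ' τ)
  exact ⟨_, this.1, this.2⟩

include hφ hsurj ht hφt hui in
/-- EGA II 3.8.4, the finiteness step: an immersion family for the colimit `𝒮` descends to some
`𝒮^i` when `X` is quasi-compact and `q` is locally of finite type. -/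
theorem exists_index_of_hasImmFamily [CompactSpace Y] [QuasiCompact q] [LocallyOfFiniteType q]
    (h : HasImmFamily q 𝒮 𝒮L u) : ∃ i, HasImmFamily q (𝒮i i) 𝒮L (ui i) := by
  classical
  obtain ⟨ι, Wf, hWf, n, s, h1, hcov, haff, h3⟩ := h
  have hX : CompactSpace X := QuasiCompact.compactSpace_of_compactSpace q
  -- a finite subcover
  obtain ⟨F, hF⟩ : ∃ F : Finset ι, (Set.univ : Set X) ⊆
      ⋃ a ∈ F, (XTW q 𝒮 𝒮L u (Wf a) (n a) (s a) : Set X) := by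
    refine isCompact_univ.elim_finite_subcover
      (fun a ↦ (XTW q 𝒮 𝒮L u (Wf a) (n a) (s a) : Set X))
      (fun a ↦ (XTW q 𝒮 𝒮L u (Wf a) (n a) (s a)).isOpen) ?_
    intro x _
    have hx : x ∈ ⨆ a, XTW q 𝒮 𝒮L u (Wf a) (n a) (s a) := by rw [hcov]; trivial
    obtain ⟨a, ha⟩ := Opens.mem_iSup.mp hx
    exact Set.mem_iUnion.mpr ⟨a, ha⟩
  -- generators of the rings of functions
  have hG : ∀ a, ∃ G : Finset (X.presheaf.obj (op (XTW q 𝒮 𝒮L u (Wf a) (n a) (s a)))),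
      @Algebra.adjoin _ _ _ _ (q.appLE (Wf a) (XTW q 𝒮 𝒮L u (Wf a) (n a) (s a))
        (XTW_le q 𝒮 𝒮L u (Wf a) (n a) (s a))).hom.toAlgebra (↑G : Set _) = ⊤ := fun a ↦
    (LocallyOfFiniteType.finiteType_appLE q (hWf a) (haff a)
      (XTW_le q 𝒮 𝒮L u (Wf a) (n a) (s a))).out
  choose G hG using hG
  choose m hm s' hs' he using h3
  -- the finitely many elements to lift
  let T : Finset (Σ (W : Y.affineOpens) (d : ℕ),
      {x : 𝒮.presheaf.obj (op W.1) // x ∈ 𝒮.deg W.1 W.2 d}) :=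
    F.image (fun a ↦ ⟨⟨Wf a, hWf a⟩, n a, ⟨s a, (h1 a).2⟩⟩) ∪
      F.biUnion (fun a ↦ (G a).image
        (fun g ↦ ⟨⟨Wf a, hWf a⟩, m a g * n a, ⟨s' a g, hs' a g⟩⟩))
  obtain ⟨i, hi⟩ := exists_common_lift 𝒮 Λ 𝒮i φ hφ t ht hφt hsurj T
  have hlift : ∀ a : F, ∃ y : (𝒮i i).presheaf.obj (op (Wf a.1)),
      y ∈ (𝒮i i).deg (Wf a.1) (hWf a.1) (n a.1) ∧ ((φ i).hom.app (op (Wf a.1))).hom y = s a.1 :=
    fun a ↦ hi ⟨⟨Wf a.1, hWf a.1⟩, n a.1, ⟨s a.1, (h1 a.1).2⟩⟩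
      (Finset.mem_union_left _ (Finset.mem_image_of_mem _ a.2))
  have hlift' : ∀ (a : F) (g : X.presheaf.obj (op (XTW q 𝒮 𝒮L u (Wf a.1) (n a.1) (s a.1)))),
      g ∈ G a.1 → ∃ y : (𝒮i i).presheaf.obj (op (Wf a.1)),
      y ∈ (𝒮i i).deg (Wf a.1) (hWf a.1) (m a.1 g * n a.1) ∧
        ((φ i).hom.app (op (Wf a.1))).hom y = s' a.1 g :=
    fun a g hg ↦ hi ⟨⟨Wf a.1, hWf a.1⟩, m a.1 g * n a.1, ⟨s' a.1 g, hs' a.1 g⟩⟩
      (Finset.mem_union_right _ (Finset.mem_biUnion.mpr ⟨a.1, a.2, Finset.mem_image_of_mem _ hg⟩))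
  choose y hy hyφ using hlift
  have hXT : ∀ a : F, XTW q (𝒮i i) 𝒮L (ui i) (Wf a.1) (n a.1) (y a) =
      XTW q 𝒮 𝒮L u (Wf a.1) (n a.1) (s a.1) := by
    intro a
    rw [← XTW_transfer q 𝒮L (𝒮i i) 𝒮 (φ i) (ui i) u (hui i) (Wf a.1) (n a.1) (y a), hyφ a]
  refine ⟨i, F, fun a ↦ Wf a.1, fun a ↦ hWf a.1, fun a ↦ n a.1, y,
    fun a ↦ ⟨(h1 a.1).1, hy a⟩, ?_, ?_, ?_⟩
  · rw [eq_top_iff]
    intro x _
    obtain ⟨a, haF, hxa⟩ := Set.mem_iUnion₂.mp (hF (Set.mem_univ x))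
    refine Opens.mem_iSup.mpr ⟨⟨a, haF⟩, ?_⟩
    rw [hXT ⟨a, haF⟩]
    exact hxa
  · intro a
    rw [hXT a]; exact haff a.1
  · intro a
    have key : ∀ (V : X.Opens) (hle : V ≤ q ⁻¹ᵁ (Wf a.1))
        (_ : V = XTW q 𝒮 𝒮L u (Wf a.1) (n a.1) (s a.1)) (τ : X.presheaf.obj (op V)),
        ∃ (k : ℕ) (_ : 0 < k) (s'' : (𝒮i i).presheaf.obj (op (Wf a.1)))
          (_ : s'' ∈ (𝒮i i).deg (Wf a.1) (hWf a.1) (k * n a.1)),
          (𝒮L.str.app (op V)).hom τ * (((ui i).appLE (Wf a.1) V hle).hom (y a)) ^ k =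
            ((ui i).appLE (Wf a.1) V hle).hom s'' := by
      intro V hle hV τ
      subst hV
      letI : Algebra (Y.presheaf.obj (op (Wf a.1)))
          (X.presheaf.obj (op (XTW q 𝒮 𝒮L u (Wf a.1) (n a.1) (s a.1)))) :=
        (q.appLE (Wf a.1) (XTW q 𝒮 𝒮L u (Wf a.1) (n a.1) (s a.1)) hle).hom.toAlgebra
      have hτ : τ ∈ Algebra.adjoin (Y.presheaf.obj (op (Wf a.1))) (↑(G a.1) : Set _) := by
        rw [hG a.1]; trivial
      have hya : ((ui i).appLE (Wf a.1) _ hle).hom (y a) =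
          (u.appLE (Wf a.1) _ hle).hom (s a.1) := by
        rw [← appLE_transfer q 𝒮L (𝒮i i) 𝒮 (φ i) (ui i) u (hui i), hyφ a]
      induction hτ using Algebra.adjoin_induction with
      | mem g hg =>
        obtain ⟨y', hy', hy'φ⟩ := hlift' a g hg
        refine ⟨m a.1 g, hm a.1 g, y', hy', ?_⟩
        rw [hya, ← appLE_transfer q 𝒮L (𝒮i i) 𝒮 (φ i) (ui i) u (hui i), hy'φ]
        exact he a.1 g
      | algebraMap c =>
        refine ⟨1, Nat.one_pos, ((𝒮i i).str.app (op (Wf a.1))).hom c * y a, ?_, ?_⟩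
        · have := SetLike.mul_mem_graded (A := (𝒮i i).deg (Wf a.1) (hWf a.1))
            ((𝒮i i).str_mem (Wf a.1) (hWf a.1) c) (hy a)
          rwa [zero_add, ← one_mul (n a.1)] at this
        · rw [pow_one, map_mul]
          congr 1
          have e := congrArg (fun k ↦ k.hom c) ((ui i).str_appLE (Wf a.1) _ hle)
          exact e.symm
      | add τ₁ τ₂ _ _ h₁ h₂ =>
        obtain ⟨k₁, hk₁, s₁, hs₁, e₁⟩ := h₁
        obtain ⟨k₂, hk₂, s₂, hs₂, e₂⟩ := h₂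
        refine ⟨k₁ + k₂, by omega, s₁ * y a ^ k₂ + s₂ * y a ^ k₁, ?_, ?_⟩
        · have hp₁ : y a ^ k₂ ∈ (𝒮i i).deg (Wf a.1) (hWf a.1) (k₂ • n a.1) :=
            SetLike.pow_mem_graded _ (hy a)
          have hp₂ : y a ^ k₁ ∈ (𝒮i i).deg (Wf a.1) (hWf a.1) (k₁ • n a.1) :=
            SetLike.pow_mem_graded _ (hy a)
          have h1' := SetLike.mul_mem_graded hs₁ hp₁
          have h2' := SetLike.mul_mem_graded hs₂ hp₂
          have e1 : k₁ * n a.1 + k₂ • n a.1 = (k₁ + k₂) * n a.1 := by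
            rw [smul_eq_mul]; ring
          have e2 : k₂ * n a.1 + k₁ • n a.1 = (k₁ + k₂) * n a.1 := by
            rw [smul_eq_mul]; ring
          rw [e1] at h1'
          rw [e2] at h2'
          exact add_mem h1' h2'
        · rw [map_add, map_add, map_mul, map_mul, map_pow, map_pow, ← e₁, ← e₂, pow_add]
          ring
      | mul τ₁ τ₂ _ _ h₁ h₂ =>
        obtain ⟨k₁, hk₁, s₁, hs₁, e₁⟩ := h₁
        obtain ⟨k₂, hk₂, s₂, hs₂, e₂⟩ := h₂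
        refine ⟨k₁ + k₂, by omega, s₁ * s₂, ?_, ?_⟩
        · have := SetLike.mul_mem_graded hs₁ hs₂
          have e : k₁ * n a.1 + k₂ * n a.1 = (k₁ + k₂) * n a.1 := by ring
          rwa [e] at this
        · rw [map_mul, map_mul, ← e₁, ← e₂, pow_add]
          ring
    exact key _ _ (hXT a)

end Colim

end Groth.Agent.Lib.H60LineColim
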