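import Groth.Agent.Lib.H60LineProjQ2
import Groth.Agent.Lib.H60AwaySurj

/-!
# Chart squares for `r_{L,ψ}` (EGA II 3.7): immersion criteria

For `s ∈ S_n` (`n > 0`) with `X_{u s}` affine, the square
`Spec 𝒮L(X_{u s})_(u s) ⟶ G(ψ)`, `Spec S_(s) ⟶ P` is cartesian.
-/

set_option autoImplicit false
universe u
open CategoryTheory CategoryTheory.Limits AlgebraicGeometry TopologicalSpace Opposite
open scoped HomogeneousIdeal
noncomputable section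

namespace Groth.Agent.Lib.H60LineImm

open Groth.Agent.Lib.ProjQMap Groth.Agent.Lib.ProjQMapOn
open Groth.Agent.Lib.H60ProjQPts Groth.Agent.Lib.H60ProjQComp
open Groth.Agent.Lib.H60LineBundle Groth.Agent.Lib.H60LineAlg Groth.Agent.Lib.H90Invertible
open Groth.Agent.Lib.H60AwayDegOne Groth.Agent.Lib.H60LineProjQ
open HomogeneousLocalization

section Emb

variable {Y P : Scheme.{u}} {𝒮 : RelProj.QCGrAlg Y} (p : P ⟶ Y)
  (chart : ∀ (U : Y.Opens) (hU : IsAffineOpen U),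
    (((p ⁻¹ᵁ U : P.Opens) : Scheme.{u}) ≅ Proj (𝒮.deg U hU)))

lemma opensRange_emb (U : Y.Opens) (hU : IsAffineOpen U) :
    (RelProj.emb p chart U hU).opensRange = p ⁻¹ᵁ U := by
  unfold RelProj.emb
  rw [Scheme.Hom.opensRange_comp_of_isIso, Scheme.Opens.opensRange_ι]

lemma opensRange_congr {X Z : Scheme.{u}} {f g : X ⟶ Z} [IsOpenImmersion f] [IsOpenImmersion g]
    (h : f = g) : f.opensRange = g.opensRange := by
  subst h; rfl

lemma chartPt_emb (U : Y.Opens) (hU : IsAffineOpen U) (w : Proj (𝒮.deg U hU)) :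
    chartPt p chart U hU ((RelProj.emb p chart U hU).base w) (range_emb_le p chart U hU w) = w :=
  (RelProj.emb p chart U hU).isOpenEmbedding.injective
    (emb_apply_chart p chart U hU _ (range_emb_le p chart U hU w))

end Emb

variable {Y X P PL : Scheme.{u}} (q : X ⟶ Y)
  (L : X.Modules) (hL : PicF.IsInvertible L)
  (𝒮 : RelProj.QCGrAlg Y) (𝒮L : RelProj.QCGrAlg X) (j : L ⟶ 𝒮L.toModule)
  (u : RelProj.QGrHom q 𝒮 𝒮L)
  (p : P ⟶ Y)
  (chart : ∀ (U : Y.Opens) (hU : IsAffineOpen U),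
    (((p ⁻¹ᵁ U : P.Opens) : Scheme.{u}) ≅ Proj (𝒮.deg U hU)))
  (hP : RelProj.IsRelProj 𝒮 p chart)
  (pL : PL ⟶ X)
  (chartL : ∀ (U : X.Opens) (hU : IsAffineOpen U),
    (((pL ⁻¹ᵁ U : PL.Opens) : Scheme.{u}) ≅ Proj (𝒮L.deg U hU)))
  (hPL : RelProj.IsRelProj 𝒮L pL chartL)
  (hgen : 𝒮L.IsGenDegOne)
  (hj1 : ∀ (V : X.Opens) (hV : IsAffineOpen V) (s : Γ(L, V)),
    jel L 𝒮L j V s ∈ 𝒮L.deg V hV 1)
  (hpoly : ∀ (V : X.Opens) (_ : IsAffineOpen V) (s : Γ(L, V)), IsGen L V s →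
    Function.Bijective (Polynomial.eval₂RingHom (𝒮L.str.app (op V)).hom (jel L 𝒮L j V s)))
  (hY : IsAffineOpen (⊤ : Y.Opens))

/-- `⊤ ≤ q⁻¹(⊤)`-type inequality used throughout. -/
lemma le_pre (V : X.Opens) : V ≤ q ⁻¹ᵁ (⊤ : Y.Opens) :=
  le_top.trans (Scheme.Hom.preimage_top q).ge

section Single

variable {n : ℕ} (hn : 0 < n) (s : 𝒮.presheaf.obj (op ⊤)) (hs : s ∈ 𝒮.deg ⊤ hY n)
  (hXT : IsAffineOpen (XT q 𝒮 𝒮L u n s))

include hPL hgen in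
/-- `u s` vanishes nowhere on `Proj 𝒮L(X_{u s})`. -/
lemma notMem_of_XT (w : Proj (𝒮L.deg (XT q 𝒮 𝒮L u n s) hXT)) :
    u.gradedAt ⊤ hY (XT q 𝒮 𝒮L u n s) hXT (le_pre q _) s ∉ w.asHomogeneousIdeal := by
  set V := XT q 𝒮 𝒮L u n s with hVdef
  set x' := (RelProj.emb pL chartL V hXT).base w with hx'
  have hx'V : x' ∈ pL ⁻¹ᵁ V := range_emb_le pL chartL V hXT w
  have hxV : pL.base x' ∈ XT q 𝒮 𝒮L u n s := hx'V
  obtain ⟨V', hV', hxV', hsub⟩ := (mem_XT_iff q 𝒮 𝒮L u n s _).mp hxV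
  have hx'V' : x' ∈ pL ⁻¹ᵁ V' := hxV'
  have hnot := notMem_of_subset q 𝒮 𝒮L u hgen hY s V' hV' (chartPt pL chartL V' hV' x' hx'V') hsub
  have hci := chart_indep q 𝒮 𝒮L u pL chartL hPL hY s x' V hXT hx'V V' hV' hx'V'
  have hw : chartPt pL chartL V hXT x' hx'V = w := chartPt_emb pL chartL V hXT w
  rw [hw] at hci
  exact fun h ↦ hnot (hci.mp h)

include hPL hgen in
lemma basicOpen_eq_top :
    Proj.basicOpen (𝒮L.deg (XT q 𝒮 𝒮L u n s) hXT)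
      (u.gradedAt ⊤ hY (XT q 𝒮 𝒮L u n s) hXT (le_pre q _) s) = ⊤ := by
  rw [eq_top_iff]
  intro w _
  exact (Proj.mem_basicOpen _ _ _).mpr (notMem_of_XT q 𝒮 𝒮L u pL chartL hPL hgen hY s hXT w)

instance isOpenImmersion_awayEmb :
    IsOpenImmersion (RelProj.awayEmb u pL chartL ⊤ hY (XT q 𝒮 𝒮L u n s) hXT (le_pre q _) hn s hs) := by
  unfold RelProj.awayEmb; infer_instance

include hPL hgen in
lemma opensRange_awayEmb :
    (RelProj.awayEmb u pL chartL ⊤ hY (XT q 𝒮 𝒮L u n s) hXT (le_pre q _) hn s hs).opensRange =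
      pL ⁻¹ᵁ (XT q 𝒮 𝒮L u n s) := by
  unfold RelProj.awayEmb
  rw [Scheme.Hom.opensRange_comp, Proj.opensRange_awayι,
    basicOpen_eq_top q 𝒮 𝒮L u pL chartL hPL hgen hY s hXT, Scheme.Hom.image_top_eq_opensRange,
    opensRange_emb]

include hPL hgen hn hs in
/-- `Γ(X, X_{u s}) → 𝒮L(X_{u s})_(u s)` is bijective when `Proj(𝒮L) ⟶ X` is an isomorphism. -/
lemma bijective_rho [IsIso pL] :
    Function.Bijective ((fromZeroRingHom (𝒮L.deg (XT q 𝒮 𝒮L u n s) hXT)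
      (Submonoid.powers (u.gradedAt ⊤ hY (XT q 𝒮 𝒮L u n s) hXT (le_pre q _) s))).comp
        (𝒮L.strZero (XT q 𝒮 𝒮L u n s) hXT).hom) := by
  set V := XT q 𝒮 𝒮L u n s with hVdef
  have hfac : pL ∣_ V = (chartL V hXT).hom ≫
      (Proj.toSpecZero (𝒮L.deg V hXT) ≫ Spec.map (𝒮L.strZero V hXT)) ≫ hXT.isoSpec.inv := by
    rw [← cancel_mono V.ι, morphismRestrict_ι, ← hPL.chart_over V hXT]
    simp only [Category.assoc, IsAffineOpen.isoSpec_inv_ι]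
  have h1 : IsIso (pL ∣_ V) := inferInstance
  rw [hfac] at h1
  have h3 : IsIso ((Proj.toSpecZero (𝒮L.deg V hXT) ≫ Spec.map (𝒮L.strZero V hXT)) ≫
      hXT.isoSpec.inv) := IsIso.of_isIso_comp_left (chartL V hXT).hom _
  have h2 : IsIso (Proj.toSpecZero (𝒮L.deg V hXT) ≫ Spec.map (𝒮L.strZero V hXT)) :=
    IsIso.of_isIso_comp_right _ hXT.isoSpec.inv
  have ht : u.gradedAt ⊤ hY V hXT (le_pre q _) s ∈ 𝒮L.deg V hXT n :=
    (u.gradedAt ⊤ hY V hXT (le_pre q _)).map_mem hs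
  have h4 : IsIso (Proj.awayι (𝒮L.deg V hXT) (u.gradedAt ⊤ hY V hXT (le_pre q _) s) ht hn) := by
    apply isIso_of_isOpenImmersion_of_opensRange_eq_top
    rw [Proj.opensRange_awayι]
    exact basicOpen_eq_top q 𝒮 𝒮L u pL chartL hPL hgen hY s hXT
  have h5 : IsIso (Spec.map (CommRingCat.ofHom ((fromZeroRingHom (𝒮L.deg V hXT)
      (Submonoid.powers (u.gradedAt ⊤ hY V hXT (le_pre q _) s))).comp
        (𝒮L.strZero V hXT).hom))) := by
    have e : Spec.map (CommRingCat.ofHom ((fromZeroRingHom (𝒮L.deg V hXT)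
        (Submonoid.powers (u.gradedAt ⊤ hY V hXT (le_pre q _) s))).comp
          (𝒮L.strZero V hXT).hom)) =
        Proj.awayι (𝒮L.deg V hXT) (u.gradedAt ⊤ hY V hXT (le_pre q _) s) ht hn ≫
          (Proj.toSpecZero (𝒮L.deg V hXT) ≫ Spec.map (𝒮L.strZero V hXT)) := by
      rw [Proj.awayι_toSpecZero_assoc, ← Spec.map_comp]
      rfl
    rw [e]
    infer_instance
  exact isIso_SpecMap_iff.mp h5

variable (r : ((RelProj.domQ u pL chartL : PL.Opens) : Scheme.{u}) ⟶ P)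
  (hr : RelProj.IsProjQMapOn u p chart pL chartL (RelProj.domQ u pL chartL) r)
  (U : P.Opens) (r' : ((RelProj.domQ u pL chartL : PL.Opens) : Scheme.{u}) ⟶ (U : Scheme.{u}))
  (hr' : r' ≫ U.ι = r)

/-- The chart `Spec 𝒮L(X_{u s})_(u s) ⟶ G(ψ)`. -/
def cch : Spec (CommRingCat.of (Away (𝒮L.deg (XT q 𝒮 𝒮L u n s) hXT)
      (u.gradedAt ⊤ hY (XT q 𝒮 𝒮L u n s) hXT (le_pre q _) s))) ⟶
    ((RelProj.domQ u pL chartL : PL.Opens) : Scheme.{u}) :=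
  IsOpenImmersion.lift (RelProj.domQ u pL chartL).ι
    (RelProj.awayEmb u pL chartL ⊤ hY (XT q 𝒮 𝒮L u n s) hXT (le_pre q _) hn s hs)
    (RelProj.range_awayEmb_subset_domQ u pL chartL ⊤ hY (XT q 𝒮 𝒮L u n s) hXT (le_pre q _) hn s hs)

lemma cch_ι :
    cch q 𝒮 𝒮L u pL chartL hY hn s hs hXT ≫ (RelProj.domQ u pL chartL).ι =
      RelProj.awayEmb u pL chartL ⊤ hY (XT q 𝒮 𝒮L u n s) hXT (le_pre q _) hn s hs :=
  IsOpenImmersion.lift_fac _ _ _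

instance : IsOpenImmersion (cch q 𝒮 𝒮L u pL chartL hY hn s hs hXT) := by
  have : IsOpenImmersion (cch q 𝒮 𝒮L u pL chartL hY hn s hs hXT ≫
      (RelProj.domQ u pL chartL).ι) := by
    rw [cch_ι]; infer_instance
  exact IsOpenImmersion.of_comp _ (RelProj.domQ u pL chartL).ι

include hr in
lemma cch_r :
    cch q 𝒮 𝒮L u pL chartL hY hn s hs hXT ≫ r =
      Spec.map (CommRingCat.ofHom (Away.map
        (u.gradedAt ⊤ hY (XT q 𝒮 𝒮L u n s) hXT (le_pre q _)) s)) ≫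
        Proj.awayι (𝒮.deg ⊤ hY) s hs hn ≫ RelProj.emb p chart ⊤ hY :=
  hr ⊤ hY (XT q 𝒮 𝒮L u n s) hXT (le_pre q _) n hn s hs
    (RelProj.range_awayEmb_subset_domQ u pL chartL ⊤ hY (XT q 𝒮 𝒮L u n s) hXT (le_pre q _) hn s hs)

include hPL hgen in
lemma image_opensRange_cch :
    (RelProj.domQ u pL chartL).ι ''ᵁ (cch q 𝒮 𝒮L u pL chartL hY hn s hs hXT).opensRange =
      pL ⁻¹ᵁ (XT q 𝒮 𝒮L u n s) := by
  rw [← Scheme.Hom.opensRange_comp]
  exact (opensRange_congr (cch_ι q 𝒮 𝒮L u pL chartL hY hn s hs hXT)).trans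
    (opensRange_awayEmb q 𝒮 𝒮L u pL chartL hPL hgen hY hn s hs hXT)

variable (hOU : (RelProj.emb p chart ⊤ hY) ''ᵁ (Proj.basicOpen (𝒮.deg ⊤ hY) s) ≤ U)

lemma opensRange_pchart :
    (Proj.awayι (𝒮.deg ⊤ hY) s hs hn ≫ RelProj.emb p chart ⊤ hY).opensRange =
      (RelProj.emb p chart ⊤ hY) ''ᵁ (Proj.basicOpen (𝒮.deg ⊤ hY) s) := by
  rw [Scheme.Hom.opensRange_comp, Proj.opensRange_awayι]

include hOU in
lemma range_pchart_subset :
    Set.range (Proj.awayι (𝒮.deg ⊤ hY) s hs hn ≫ RelProj.emb p chart ⊤ hY).base ⊆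
      Set.range U.ι.base := by
  rw [Scheme.Opens.range_ι]
  have h := opensRange_pchart 𝒮 p chart hY hn s hs
  intro x hx
  have hx' : x ∈ (Proj.awayι (𝒮.deg ⊤ hY) s hs hn ≫ RelProj.emb p chart ⊤ hY).opensRange := hx
  rw [h] at hx'
  exact hOU hx'

/-- The chart `Spec S_(s) ⟶ U` for `D₊(s) ⊆ U`. -/
def dch : Spec (CommRingCat.of (Away (𝒮.deg ⊤ hY) s)) ⟶ (U : Scheme.{u}) :=
  IsOpenImmersion.lift U.ι (Proj.awayι (𝒮.deg ⊤ hY) s hs hn ≫ RelProj.emb p chart ⊤ hY)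
    (range_pchart_subset 𝒮 p chart hY hn s hs U hOU)

lemma dch_ι :
    dch 𝒮 p chart hY hn s hs U hOU ≫ U.ι =
      Proj.awayι (𝒮.deg ⊤ hY) s hs hn ≫ RelProj.emb p chart ⊤ hY :=
  IsOpenImmersion.lift_fac _ _ _

instance : IsOpenImmersion (dch 𝒮 p chart hY hn s hs U hOU) := by
  have : IsOpenImmersion (dch 𝒮 p chart hY hn s hs U hOU ≫ U.ι) := by
    rw [dch_ι]; infer_instance
  exact IsOpenImmersion.of_comp _ U.ι

lemma opensRange_dch :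
    (dch 𝒮 p chart hY hn s hs U hOU).opensRange =
      U.ι ⁻¹ᵁ ((RelProj.emb p chart ⊤ hY) ''ᵁ (Proj.basicOpen (𝒮.deg ⊤ hY) s)) := by
  have h1 : (dch 𝒮 p chart hY hn s hs U hOU ≫ U.ι).opensRange =
      (RelProj.emb p chart ⊤ hY) ''ᵁ (Proj.basicOpen (𝒮.deg ⊤ hY) s) :=
    (opensRange_congr (dch_ι 𝒮 p chart hY hn s hs U hOU)).trans
      (opensRange_pchart 𝒮 p chart hY hn s hs)
  rw [Scheme.Hom.opensRange_comp] at h1
  rw [← h1, Scheme.Hom.preimage_image_eq]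

include hr hr' in
lemma cch_r' :
    cch q 𝒮 𝒮L u pL chartL hY hn s hs hXT ≫ r' =
      Spec.map (CommRingCat.ofHom (Away.map
        (u.gradedAt ⊤ hY (XT q 𝒮 𝒮L u n s) hXT (le_pre q _)) s)) ≫
        dch 𝒮 p chart hY hn s hs U hOU := by
  rw [← cancel_mono U.ι, Category.assoc, Category.assoc, hr', dch_ι,
    cch_r q 𝒮 𝒮L u p chart pL chartL hY hn s hs hXT r hr]

include hP hPL hgen hj1 hpoly hL hr hr' in
lemma preimage_opensRange_dch :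
    r' ⁻¹ᵁ (dch 𝒮 p chart hY hn s hs U hOU).opensRange =
      (cch q 𝒮 𝒮L u pL chartL hY hn s hs hXT).opensRange := by
  apply (RelProj.domQ u pL chartL).ι.image_injective
  change (RelProj.domQ u pL chartL).ι ''ᵁ _ = (RelProj.domQ u pL chartL).ι ''ᵁ _
  rw [image_opensRange_cch q 𝒮 𝒮L u pL chartL hPL hgen hY hn s hs hXT, opensRange_dch,
    ← Scheme.Hom.comp_preimage, hr']
  exact preimage_basicOpen_eq q L hL 𝒮 𝒮L j u p chart hP pL chartL hPL hgen hj1 hpoly hY r hr hn s hs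

include hP hPL hgen hj1 hpoly hL hr hr' hn hs hOU in
/-- For `D₊(s) ⊆ U` and `r'` affine, `X_{u s}` is affine. -/
lemma isAffineOpen_XT [IsIso pL] [IsAffineHom r'] : IsAffineOpen (XT q 𝒮 𝒮L u n s) := by
  have h1 : IsAffineOpen (dch 𝒮 p chart hY hn s hs U hOU).opensRange := isAffineOpen_opensRange _
  have h2 : IsAffineOpen (r' ⁻¹ᵁ (dch 𝒮 p chart hY hn s hs U hOU).opensRange) := h1.preimage r'
  have h3 := h2.image_of_isOpenImmersion (RelProj.domQ u pL chartL).ι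
  have e : (RelProj.domQ u pL chartL).ι ''ᵁ
      (r' ⁻¹ᵁ (dch 𝒮 p chart hY hn s hs U hOU).opensRange) = pL ⁻¹ᵁ (XT q 𝒮 𝒮L u n s) := by
    rw [opensRange_dch, ← Scheme.Hom.comp_preimage, hr']
    exact preimage_basicOpen_eq q L hL 𝒮 𝒮L j u p chart hP pL chartL hPL hgen hj1 hpoly hY r hr
      hn s hs
  rw [e] at h3
  have h4 := h3.image_of_isOpenImmersion pL
  rwa [Scheme.Hom.image_preimage_eq_opensRange_inf, Scheme.Hom.opensRange_of_isIso,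
    top_inf_eq] at h4

include hP hPL hgen hj1 hpoly hL hr hr' hn hs hOU in
/-- A target-local property of `r'` passes to the chart homomorphism. -/
lemma chart_of (Pr : MorphismProperty Scheme.{u}) [IsZariskiLocalAtTarget Pr] (h : Pr r') :
    Pr (Spec.map (CommRingCat.ofHom (Away.map
      (u.gradedAt ⊤ hY (XT q 𝒮 𝒮L u n s) hXT (le_pre q _)) s))) := by
  obtain ⟨e⟩ := restrict_opensRange_iso _ (cch q 𝒮 𝒮L u pL chartL hY hn s hs hXT)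
    (dch 𝒮 p chart hY hn s hs U hOU) r'
    (cch_r' q 𝒮 𝒮L u p chart pL chartL hY hn s hs hXT r hr U r' hr' hOU)
    (preimage_opensRange_dch q L hL 𝒮 𝒮L j u p chart hP pL chartL hPL hgen hj1 hpoly hY hn s hs hXT
      r hr U r' hr' hOU)
  exact (Pr.arrow_mk_iso_iff e).mp (IsZariskiLocalAtTarget.restrict h _)

include hPL hgen hn hs in
/-- Condition (iii) is surjectivity of the chart homomorphism. -/
lemma surjective_awayMap_iff [IsIso pL] :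
    Function.Surjective (Away.map (u.gradedAt ⊤ hY (XT q 𝒮 𝒮L u n s) hXT (le_pre q _)) s) ↔
      ∀ t : X.presheaf.obj (op (XT q 𝒮 𝒮L u n s)), ∃ (m : ℕ) (_ : 0 < m)
        (s' : 𝒮.presheaf.obj (op ⊤)) (_ : s' ∈ 𝒮.deg ⊤ hY (m * n)),
          (𝒮L.str.app (op (XT q 𝒮 𝒮L u n s))).hom t *
            ((u.appLE ⊤ (XT q 𝒮 𝒮L u n s) (le_pre q _)).hom s) ^ m =
              (u.appLE ⊤ (XT q 𝒮 𝒮L u n s) (le_pre q _)).hom s' := by
  have hb := (bijective_rho q 𝒮 𝒮L u pL chartL hPL hgen hY hn s hs hXT).2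
  exact H60AwaySurj.surjective_map_iff (u.gradedAt ⊤ hY (XT q 𝒮 𝒮L u n s) hXT (le_pre q _)) hs
    (𝒮L.str.app (op (XT q 𝒮 𝒮L u n s))).hom (𝒮L.str_mem _ hXT) hb

include hs in
/-- Condition (iv) is injectivity of the chart homomorphism. -/
lemma injective_awayMap_iff :
    Function.Injective (Away.map (u.gradedAt ⊤ hY (XT q 𝒮 𝒮L u n s) hXT (le_pre q _)) s) ↔
      ∀ (m : ℕ), 0 < m → ∀ s' ∈ 𝒮.deg ⊤ hY (m * n),
        (u.appLE ⊤ (XT q 𝒮 𝒮L u n s) (le_pre q _)).hom s' = 0 →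
          ∃ (k : ℕ), 0 < k ∧ s ^ k * s' = 0 :=
  H60AwaySurj.injective_map_iff (u.gradedAt ⊤ hY (XT q 𝒮 𝒮L u n s) hXT (le_pre q _)) hs

end Single

section Family

variable (r : ((RelProj.domQ u pL chartL : PL.Opens) : Scheme.{u}) ⟶ P)
  (hr : RelProj.IsProjQMapOn u p chart pL chartL (RelProj.domQ u pL chartL) r)
  {ι : Type*} (n : ι → ℕ) (s : ι → 𝒮.presheaf.obj (op ⊤)) (hn : ∀ a, 0 < n a)
  (hs : ∀ a, s a ∈ 𝒮.deg ⊤ hY (n a))

include hP hPL hgen hj1 hpoly hL hr hn hs in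
/-- If the `X_{u s_a}` cover `X`, `r` lands in the union of the `D₊(s_a)`. -/
lemma range_r_subset (hcov : (⨆ a, XT q 𝒮 𝒮L u (n a) (s a)) = ⊤) :
    Set.range r.base ⊆ Set.range
      (⨆ a, (RelProj.emb p chart ⊤ hY) ''ᵁ (Proj.basicOpen (𝒮.deg ⊤ hY) (s a)) : P.Opens).ι.base := by
  rw [Scheme.Opens.range_ι]
  rintro _ ⟨y, rfl⟩
  have hx : pL.base ((RelProj.domQ u pL chartL).ι.base y) ∈
      (⨆ a, XT q 𝒮 𝒮L u (n a) (s a)) := by rw [hcov]; trivial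
  obtain ⟨a, ha⟩ := Opens.mem_iSup.mp hx
  have h1 : (RelProj.domQ u pL chartL).ι.base y ∈ pL ⁻¹ᵁ XT q 𝒮 𝒮L u (n a) (s a) := ha
  rw [← preimage_basicOpen_eq q L hL 𝒮 𝒮L j u p chart hP pL chartL hPL hgen hj1 hpoly hY r hr
    (hn a) (s a) (hs a)] at h1
  obtain ⟨y', hy', e⟩ := h1
  have : y' = y := (RelProj.domQ u pL chartL).ι.isOpenEmbedding.injective e
  subst this
  exact Opens.mem_iSup.mpr ⟨a, hy'⟩

variable (hXT : ∀ a, IsAffineOpen (XT q 𝒮 𝒮L u (n a) (s a)))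
  (U : P.Opens) (r' : ((RelProj.domQ u pL chartL : PL.Opens) : Scheme.{u}) ⟶ (U : Scheme.{u}))
  (hr' : r' ≫ U.ι = r)
  (hOU : ∀ a, (RelProj.emb p chart ⊤ hY) ''ᵁ (Proj.basicOpen (𝒮.deg ⊤ hY) (s a)) ≤ U)
  (hUle : U ≤ ⨆ a, (RelProj.emb p chart ⊤ hY) ''ᵁ (Proj.basicOpen (𝒮.deg ⊤ hY) (s a)))

include hP hPL hgen hj1 hpoly hL hr hr' hUle hn hs hOU in
/-- A target-local property holds for `r'` if it holds for the chart homomorphisms. -/
theorem of_family (Pr : MorphismProperty Scheme.{u}) [IsZariskiLocalAtTarget Pr]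
    (h : ∀ a, Pr (Spec.map (CommRingCat.ofHom (Away.map
      (u.gradedAt ⊤ hY (XT q 𝒮 𝒮L u (n a) (s a)) (hXT a) (le_pre q _)) (s a))))) : Pr r' := by
  refine of_charts Pr r' _ _ _
    (fun a ↦ cch q 𝒮 𝒮L u pL chartL hY (hn a) (s a) (hs a) (hXT a))
    (fun a ↦ dch 𝒮 p chart hY (hn a) (s a) (hs a) U (hOU a))
    (fun a ↦ cch_r' q 𝒮 𝒮L u p chart pL chartL hY (hn a) (s a) (hs a) (hXT a) r hr U r' hr' (hOU a))
    (fun a ↦ (preimage_opensRange_dch q L hL 𝒮 𝒮L j u p chart hP pL chartL hPL hgen hj1 hpoly hY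
      (hn a) (s a) (hs a) (hXT a) r hr U r' hr' (hOU a)).le) ?_ h
  rw [eq_top_iff]
  intro x _
  have hx : x.1 ∈ ⨆ a, (RelProj.emb p chart ⊤ hY) ''ᵁ (Proj.basicOpen (𝒮.deg ⊤ hY) (s a)) :=
    hUle x.2
  obtain ⟨a, ha⟩ := Opens.mem_iSup.mp hx
  refine Opens.mem_iSup.mpr ⟨a, ?_⟩
  rw [opensRange_dch]
  exact ha

end Family

section Conv

variable (r : ((RelProj.domQ u pL chartL : PL.Opens) : Scheme.{u}) ⟶ P)
  (hr : RelProj.IsProjQMapOn u p chart pL chartL (RelProj.domQ u pL chartL) r)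

include hP hPL hgen hj1 hpoly hL hr in
/-- If `r` is everywhere defined and lands in the open `U`, the `X_{u s}` with `D₊(s) ⊆ U`
cover `X`. -/
lemma exists_mem_XT (hdom : RelProj.domQ u pL chartL = ⊤) (U : P.Opens)
    (hrange : Set.range r.base ⊆ (U : Set P)) (x : X) :
    ∃ (n : ℕ) (_ : 0 < n) (s : 𝒮.presheaf.obj (op ⊤)) (_ : s ∈ 𝒮.deg ⊤ hY n),
      (RelProj.emb p chart ⊤ hY) ''ᵁ (Proj.basicOpen (𝒮.deg ⊤ hY) s) ≤ U ∧
        x ∈ XT q 𝒮 𝒮L u n s := by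
  obtain ⟨x', rfl⟩ := surjective_pL L hL 𝒮L j pL chartL hPL hj1 hpoly x
  have hx' : x' ∈ RelProj.domQ u pL chartL := by rw [hdom]; trivial
  set y : ((RelProj.domQ u pL chartL : PL.Opens) : Scheme.{u}) := ⟨x', hx'⟩ with hy
  have hyU : r.base y ∈ U := hrange ⟨y, rfl⟩
  have hzt : r.base y ∈ p ⁻¹ᵁ (⊤ : Y.Opens) := trivial
  have hz₀ := emb_apply_chart p chart ⊤ hY (r.base y) hzt
  set z₀ := chartPt p chart ⊤ hY (r.base y) hzt with hz₀def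
  have hz₀O : z₀ ∈ (RelProj.emb p chart ⊤ hY) ⁻¹ᵁ U := by
    change (RelProj.emb p chart ⊤ hY).base z₀ ∈ U
    rw [hz₀]; exact hyU
  obtain ⟨e, he, g, hg, hz₀g, hgO⟩ := exists_homogeneous_basicOpen_le z₀ _ hz₀O
  refine ⟨e, he, g, hg, ?_, ?_⟩
  · rintro _ ⟨z, hz, rfl⟩
    exact hgO hz
  · have h1 : y ∈ r ⁻¹ᵁ ((RelProj.emb p chart ⊤ hY) ''ᵁ (Proj.basicOpen (𝒮.deg ⊤ hY) g)) :=
      ⟨z₀, hz₀g, hz₀⟩
    have h2 : (RelProj.domQ u pL chartL).ι.base y ∈ (RelProj.domQ u pL chartL).ι ''ᵁ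
        (r ⁻¹ᵁ ((RelProj.emb p chart ⊤ hY) ''ᵁ (Proj.basicOpen (𝒮.deg ⊤ hY) g))) := ⟨y, h1, rfl⟩
    rw [preimage_basicOpen_eq q L hL 𝒮 𝒮L j u p chart hP pL chartL hPL hgen hj1 hpoly hY r hr
      he g hg] at h2
    exact h2

end Conv

end Groth.Agent.Lib.H60LineImm
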