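import Groth.Agent.Lib.H60LineProjQW
import Groth.Agent.Lib.H60LineImm

/-!
# Chart squares for `r_{L,ψ}` (EGA II 3.7): immersion criteria

For `s ∈ S_n` (`n > 0`) with `X_{u s}` affine, the square
`Spec 𝒮L(X_{u s})_(u s) ⟶ G(ψ)`, `Spec S_(s) ⟶ P` is cartesian.
-/

set_option autoImplicit false
universe u
open CategoryTheory CategoryTheory.Limits AlgebraicGeometry TopologicalSpace Opposite
open scoped HomogeneousIdeal
noncomputable section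

namespace Groth.Agent.Lib.H60LineImmW

open Groth.Agent.Lib.ProjQMap Groth.Agent.Lib.ProjQMapOn
open Groth.Agent.Lib.H60ProjQPts Groth.Agent.Lib.H60ProjQComp
open Groth.Agent.Lib.H60LineBundle Groth.Agent.Lib.H60LineAlg Groth.Agent.Lib.H90Invertible
open Groth.Agent.Lib.H60AwayDegOne Groth.Agent.Lib.H60LineProjQ Groth.Agent.Lib.H60LineProjQW
open Groth.Agent.Lib.H60LineImm
open HomogeneousLocalization


variable {Y X P PL : Scheme.{u}} (q : X ⟶ Y)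
  (L : X.Modules) (hL : PicF.IsInvertible L)
  (𝒮 : RelProj.QCGrAlg Y) (𝒮L : RelProj.QCGrAlg X) (j : L ⟶ 𝒮L.toModule)
  (u : RelProj.QGrHom q 𝒮 𝒮L)
  (p : P ⟶ Y)
  (chart : ∀ (U : Y.Opens) (hU : IsAffineOpen U),
    (((p ⁻¹ᵁ U : P.Opens) : Scheme.{u}) ≅ Proj (𝒮.deg U hU)))
  (hP : RelProj.IsRelProj 𝒮 p chart)
  (pL : PL ⟶ X)
  (chartL : ∀ (U : X.Opens) (hU : IsAffineOpen U),
    (((pL ⁻¹ᵁ U : PL.Opens) : Scheme.{u}) ≅ Proj (𝒮L.deg U hU)))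
  (hPL : RelProj.IsRelProj 𝒮L pL chartL)
  (hgen : 𝒮L.IsGenDegOne)
  (hj1 : ∀ (V : X.Opens) (hV : IsAffineOpen V) (s : Γ(L, V)),
    jel L 𝒮L j V s ∈ 𝒮L.deg V hV 1)
  (hpoly : ∀ (V : X.Opens) (_ : IsAffineOpen V) (s : Γ(L, V)), IsGen L V s →
    Function.Bijective (Polynomial.eval₂RingHom (𝒮L.str.app (op V)).hom (jel L 𝒮L j V s)))
  (W : Y.Opens) (hW : IsAffineOpen W)

section Single

variable {n : ℕ} (hn : 0 < n) (s : 𝒮.presheaf.obj (op W)) (hs : s ∈ 𝒮.deg W hW n)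
  (hXT : IsAffineOpen (XTW q 𝒮 𝒮L u W n s))

include hPL hgen in
/-- `u s` vanishes nowhere on `Proj 𝒮L(X_{u s})`. -/
lemma notMem_of_XT (w : Proj (𝒮L.deg (XTW q 𝒮 𝒮L u W n s) hXT)) :
    u.gradedAt W hW (XTW q 𝒮 𝒮L u W n s) hXT (XTW_le q 𝒮 𝒮L u W n s) s ∉ w.asHomogeneousIdeal := by
  set V := XTW q 𝒮 𝒮L u W n s with hVdef
  set x' := (RelProj.emb pL chartL V hXT).base w with hx'
  have hx'V : x' ∈ pL ⁻¹ᵁ V := range_emb_le pL chartL V hXT w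
  have hxV : pL.base x' ∈ XTW q 𝒮 𝒮L u W n s := hx'V
  obtain ⟨V', hV', hle', hxV', hsub⟩ := (mem_XTW_iff q 𝒮 𝒮L u W n s _).mp hxV
  have hx'V' : x' ∈ pL ⁻¹ᵁ V' := hxV'
  have hnot := notMem_of_subsetW q 𝒮 𝒮L u hgen W hW s V' hV' hle'
    (chartPt pL chartL V' hV' x' hx'V') hsub
  have hci := chart_indepW q 𝒮 𝒮L u pL chartL hPL W hW s x' V hXT (XTW_le q 𝒮 𝒮L u W n s) hx'V
    V' hV' hle' hx'V'
  have hw : chartPt pL chartL V hXT x' hx'V = w := chartPt_emb pL chartL V hXT w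
  rw [hw] at hci
  exact fun h ↦ hnot (hci.mp h)

include hPL hgen in
lemma basicOpen_eq_top :
    Proj.basicOpen (𝒮L.deg (XTW q 𝒮 𝒮L u W n s) hXT)
      (u.gradedAt W hW (XTW q 𝒮 𝒮L u W n s) hXT (XTW_le q 𝒮 𝒮L u W n s) s) = ⊤ := by
  rw [eq_top_iff]
  intro w _
  exact (Proj.mem_basicOpen _ _ _).mpr (notMem_of_XT q 𝒮 𝒮L u pL chartL hPL hgen W hW s hXT w)

instance isOpenImmersion_awayEmb :
    IsOpenImmersion (RelProj.awayEmb u pL chartL W hW (XTW q 𝒮 𝒮L u W n s) hXT (XTW_le q 𝒮 𝒮L u W n s) hn s hs) := by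
  unfold RelProj.awayEmb; infer_instance

include hPL hgen in
lemma opensRange_awayEmb :
    (RelProj.awayEmb u pL chartL W hW (XTW q 𝒮 𝒮L u W n s) hXT (XTW_le q 𝒮 𝒮L u W n s) hn s hs).opensRange =
      pL ⁻¹ᵁ (XTW q 𝒮 𝒮L u W n s) := by
  unfold RelProj.awayEmb
  rw [Scheme.Hom.opensRange_comp, Proj.opensRange_awayι,
    basicOpen_eq_top q 𝒮 𝒮L u pL chartL hPL hgen W hW s hXT, Scheme.Hom.image_top_eq_opensRange,
    H60LineImm.opensRange_emb]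

include hPL hgen hn hs in
/-- `Γ(X, X_{u s}) → 𝒮L(X_{u s})_(u s)` is bijective when `Proj(𝒮L) ⟶ X` is an isomorphism. -/
lemma bijective_rho [IsIso pL] :
    Function.Bijective ((fromZeroRingHom (𝒮L.deg (XTW q 𝒮 𝒮L u W n s) hXT)
      (Submonoid.powers (u.gradedAt W hW (XTW q 𝒮 𝒮L u W n s) hXT (XTW_le q 𝒮 𝒮L u W n s) s))).comp
        (𝒮L.strZero (XTW q 𝒮 𝒮L u W n s) hXT).hom) := by
  set V := XTW q 𝒮 𝒮L u W n s with hVdef
  have hfac : pL ∣_ V = (chartL V hXT).hom ≫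
      (Proj.toSpecZero (𝒮L.deg V hXT) ≫ Spec.map (𝒮L.strZero V hXT)) ≫ hXT.isoSpec.inv := by
    rw [← cancel_mono V.ι, morphismRestrict_ι, ← hPL.chart_over V hXT]
    simp only [Category.assoc, IsAffineOpen.isoSpec_inv_ι]
  have h1 : IsIso (pL ∣_ V) := inferInstance
  rw [hfac] at h1
  have h3 : IsIso ((Proj.toSpecZero (𝒮L.deg V hXT) ≫ Spec.map (𝒮L.strZero V hXT)) ≫
      hXT.isoSpec.inv) := IsIso.of_isIso_comp_left (chartL V hXT).hom _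
  have h2 : IsIso (Proj.toSpecZero (𝒮L.deg V hXT) ≫ Spec.map (𝒮L.strZero V hXT)) :=
    IsIso.of_isIso_comp_right _ hXT.isoSpec.inv
  have ht : u.gradedAt W hW V hXT (XTW_le q 𝒮 𝒮L u W n s) s ∈ 𝒮L.deg V hXT n :=
    (u.gradedAt W hW V hXT (XTW_le q 𝒮 𝒮L u W n s)).map_mem hs
  have h4 : IsIso (Proj.awayι (𝒮L.deg V hXT) (u.gradedAt W hW V hXT (XTW_le q 𝒮 𝒮L u W n s) s) ht hn) := by
    apply isIso_of_isOpenImmersion_of_opensRange_eq_top
    rw [Proj.opensRange_awayι]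
    exact basicOpen_eq_top q 𝒮 𝒮L u pL chartL hPL hgen W hW s hXT
  have h5 : IsIso (Spec.map (CommRingCat.ofHom ((fromZeroRingHom (𝒮L.deg V hXT)
      (Submonoid.powers (u.gradedAt W hW V hXT (XTW_le q 𝒮 𝒮L u W n s) s))).comp
        (𝒮L.strZero V hXT).hom))) := by
    have e : Spec.map (CommRingCat.ofHom ((fromZeroRingHom (𝒮L.deg V hXT)
        (Submonoid.powers (u.gradedAt W hW V hXT (XTW_le q 𝒮 𝒮L u W n s) s))).comp
          (𝒮L.strZero V hXT).hom)) =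
        Proj.awayι (𝒮L.deg V hXT) (u.gradedAt W hW V hXT (XTW_le q 𝒮 𝒮L u W n s) s) ht hn ≫
          (Proj.toSpecZero (𝒮L.deg V hXT) ≫ Spec.map (𝒮L.strZero V hXT)) := by
      rw [Proj.awayι_toSpecZero_assoc, ← Spec.map_comp]
      rfl
    rw [e]
    infer_instance
  exact isIso_SpecMap_iff.mp h5

variable (r : ((RelProj.domQ u pL chartL : PL.Opens) : Scheme.{u}) ⟶ P)
  (hr : RelProj.IsProjQMapOn u p chart pL chartL (RelProj.domQ u pL chartL) r)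
  (U : P.Opens) (r' : ((RelProj.domQ u pL chartL : PL.Opens) : Scheme.{u}) ⟶ (U : Scheme.{u}))
  (hr' : r' ≫ U.ι = r)

/-- The chart `Spec 𝒮L(X_{u s})_(u s) ⟶ G(ψ)`. -/
def cch : Spec (CommRingCat.of (Away (𝒮L.deg (XTW q 𝒮 𝒮L u W n s) hXT)
      (u.gradedAt W hW (XTW q 𝒮 𝒮L u W n s) hXT (XTW_le q 𝒮 𝒮L u W n s) s))) ⟶
    ((RelProj.domQ u pL chartL : PL.Opens) : Scheme.{u}) :=
  IsOpenImmersion.lift (RelProj.domQ u pL chartL).ι
    (RelProj.awayEmb u pL chartL W hW (XTW q 𝒮 𝒮L u W n s) hXT (XTW_le q 𝒮 𝒮L u W n s) hn s hs)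
    (RelProj.range_awayEmb_subset_domQ u pL chartL W hW (XTW q 𝒮 𝒮L u W n s) hXT (XTW_le q 𝒮 𝒮L u W n s) hn s hs)

lemma cch_ι :
    cch q 𝒮 𝒮L u pL chartL W hW hn s hs hXT ≫ (RelProj.domQ u pL chartL).ι =
      RelProj.awayEmb u pL chartL W hW (XTW q 𝒮 𝒮L u W n s) hXT (XTW_le q 𝒮 𝒮L u W n s) hn s hs :=
  IsOpenImmersion.lift_fac _ _ _

instance : IsOpenImmersion (cch q 𝒮 𝒮L u pL chartL W hW hn s hs hXT) := by
  have : IsOpenImmersion (cch q 𝒮 𝒮L u pL chartL W hW hn s hs hXT ≫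
      (RelProj.domQ u pL chartL).ι) := by
    rw [cch_ι]; infer_instance
  exact IsOpenImmersion.of_comp _ (RelProj.domQ u pL chartL).ι

include hr in
lemma cch_r :
    cch q 𝒮 𝒮L u pL chartL W hW hn s hs hXT ≫ r =
      Spec.map (CommRingCat.ofHom (Away.map
        (u.gradedAt W hW (XTW q 𝒮 𝒮L u W n s) hXT (XTW_le q 𝒮 𝒮L u W n s)) s)) ≫
        Proj.awayι (𝒮.deg W hW) s hs hn ≫ RelProj.emb p chart W hW :=
  hr W hW (XTW q 𝒮 𝒮L u W n s) hXT (XTW_le q 𝒮 𝒮L u W n s) n hn s hs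
    (RelProj.range_awayEmb_subset_domQ u pL chartL W hW (XTW q 𝒮 𝒮L u W n s) hXT (XTW_le q 𝒮 𝒮L u W n s) hn s hs)

include hPL hgen in
lemma image_opensRange_cch :
    (RelProj.domQ u pL chartL).ι ''ᵁ (cch q 𝒮 𝒮L u pL chartL W hW hn s hs hXT).opensRange =
      pL ⁻¹ᵁ (XTW q 𝒮 𝒮L u W n s) := by
  rw [← Scheme.Hom.opensRange_comp]
  exact (opensRange_congr (cch_ι q 𝒮 𝒮L u pL chartL W hW hn s hs hXT)).trans
    (opensRange_awayEmb q 𝒮 𝒮L u pL chartL hPL hgen W hW hn s hs hXT)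

variable (hOU : (RelProj.emb p chart W hW) ''ᵁ (Proj.basicOpen (𝒮.deg W hW) s) ≤ U)

lemma opensRange_pchart :
    (Proj.awayι (𝒮.deg W hW) s hs hn ≫ RelProj.emb p chart W hW).opensRange =
      (RelProj.emb p chart W hW) ''ᵁ (Proj.basicOpen (𝒮.deg W hW) s) := by
  rw [Scheme.Hom.opensRange_comp, Proj.opensRange_awayι]

include hOU in
lemma range_pchart_subset :
    Set.range (Proj.awayι (𝒮.deg W hW) s hs hn ≫ RelProj.emb p chart W hW).base ⊆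
      Set.range U.ι.base := by
  rw [Scheme.Opens.range_ι]
  have h := opensRange_pchart 𝒮 p chart W hW hn s hs
  intro x hx
  have hx' : x ∈ (Proj.awayι (𝒮.deg W hW) s hs hn ≫ RelProj.emb p chart W hW).opensRange := hx
  rw [h] at hx'
  exact hOU hx'

/-- The chart `Spec S_(s) ⟶ U` for `D₊(s) ⊆ U`. -/
def dch : Spec (CommRingCat.of (Away (𝒮.deg W hW) s)) ⟶ (U : Scheme.{u}) :=
  IsOpenImmersion.lift U.ι (Proj.awayι (𝒮.deg W hW) s hs hn ≫ RelProj.emb p chart W hW)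
    (range_pchart_subset 𝒮 p chart W hW hn s hs U hOU)

lemma dch_ι :
    dch 𝒮 p chart W hW hn s hs U hOU ≫ U.ι =
      Proj.awayι (𝒮.deg W hW) s hs hn ≫ RelProj.emb p chart W hW :=
  IsOpenImmersion.lift_fac _ _ _

instance : IsOpenImmersion (dch 𝒮 p chart W hW hn s hs U hOU) := by
  have : IsOpenImmersion (dch 𝒮 p chart W hW hn s hs U hOU ≫ U.ι) := by
    rw [dch_ι]; infer_instance
  exact IsOpenImmersion.of_comp _ U.ι

lemma opensRange_dch :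
    (dch 𝒮 p chart W hW hn s hs U hOU).opensRange =
      U.ι ⁻¹ᵁ ((RelProj.emb p chart W hW) ''ᵁ (Proj.basicOpen (𝒮.deg W hW) s)) := by
  have h1 : (dch 𝒮 p chart W hW hn s hs U hOU ≫ U.ι).opensRange =
      (RelProj.emb p chart W hW) ''ᵁ (Proj.basicOpen (𝒮.deg W hW) s) :=
    (opensRange_congr (dch_ι 𝒮 p chart W hW hn s hs U hOU)).trans
      (opensRange_pchart 𝒮 p chart W hW hn s hs)
  rw [Scheme.Hom.opensRange_comp] at h1
  rw [← h1, Scheme.Hom.preimage_image_eq]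

include hr hr' in
lemma cch_r' :
    cch q 𝒮 𝒮L u pL chartL W hW hn s hs hXT ≫ r' =
      Spec.map (CommRingCat.ofHom (Away.map
        (u.gradedAt W hW (XTW q 𝒮 𝒮L u W n s) hXT (XTW_le q 𝒮 𝒮L u W n s)) s)) ≫
        dch 𝒮 p chart W hW hn s hs U hOU := by
  rw [← cancel_mono U.ι, Category.assoc, Category.assoc, hr', dch_ι,
    cch_r q 𝒮 𝒮L u p chart pL chartL W hW hn s hs hXT r hr]

include hP hPL hgen hj1 hpoly hL hr hr' in
lemma preimage_opensRange_dch :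
    r' ⁻¹ᵁ (dch 𝒮 p chart W hW hn s hs U hOU).opensRange =
      (cch q 𝒮 𝒮L u pL chartL W hW hn s hs hXT).opensRange := by
  apply (RelProj.domQ u pL chartL).ι.image_injective
  change (RelProj.domQ u pL chartL).ι ''ᵁ _ = (RelProj.domQ u pL chartL).ι ''ᵁ _
  rw [image_opensRange_cch q 𝒮 𝒮L u pL chartL hPL hgen W hW hn s hs hXT, opensRange_dch,
    ← Scheme.Hom.comp_preimage, hr']
  exact preimage_basicOpen_eqW q L hL 𝒮 𝒮L j u p chart hP pL chartL hPL hgen hj1 hpoly W hW r hr hn s hs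

include hP hPL hgen hj1 hpoly hL hr hr' hn hs hOU in
/-- For `D₊(s) ⊆ U` and `r'` affine, `X_{u s}` is affine. -/
lemma isAffineOpen_XT [IsIso pL] [IsAffineHom r'] : IsAffineOpen (XTW q 𝒮 𝒮L u W n s) := by
  have h1 : IsAffineOpen (dch 𝒮 p chart W hW hn s hs U hOU).opensRange := isAffineOpen_opensRange _
  have h2 : IsAffineOpen (r' ⁻¹ᵁ (dch 𝒮 p chart W hW hn s hs U hOU).opensRange) := h1.preimage r'
  have h3 := h2.image_of_isOpenImmersion (RelProj.domQ u pL chartL).ι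
  have e : (RelProj.domQ u pL chartL).ι ''ᵁ
      (r' ⁻¹ᵁ (dch 𝒮 p chart W hW hn s hs U hOU).opensRange) = pL ⁻¹ᵁ (XTW q 𝒮 𝒮L u W n s) := by
    rw [opensRange_dch, ← Scheme.Hom.comp_preimage, hr']
    exact preimage_basicOpen_eqW q L hL 𝒮 𝒮L j u p chart hP pL chartL hPL hgen hj1 hpoly W hW r hr
      hn s hs
  rw [e] at h3
  have h4 := h3.image_of_isOpenImmersion pL
  rwa [Scheme.Hom.image_preimage_eq_opensRange_inf, Scheme.Hom.opensRange_of_isIso,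
    top_inf_eq] at h4

include hP hPL hgen hj1 hpoly hL hr hr' hn hs hOU in
/-- A target-local property of `r'` passes to the chart homomorphism. -/
lemma chart_of (Pr : MorphismProperty Scheme.{u}) [IsZariskiLocalAtTarget Pr] (h : Pr r') :
    Pr (Spec.map (CommRingCat.ofHom (Away.map
      (u.gradedAt W hW (XTW q 𝒮 𝒮L u W n s) hXT (XTW_le q 𝒮 𝒮L u W n s)) s))) := by
  obtain ⟨e⟩ := restrict_opensRange_iso _ (cch q 𝒮 𝒮L u pL chartL W hW hn s hs hXT)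
    (dch 𝒮 p chart W hW hn s hs U hOU) r'
    (cch_r' q 𝒮 𝒮L u p chart pL chartL W hW hn s hs hXT r hr U r' hr' hOU)
    (preimage_opensRange_dch q L hL 𝒮 𝒮L j u p chart hP pL chartL hPL hgen hj1 hpoly W hW hn s hs hXT
      r hr U r' hr' hOU)
  exact (Pr.arrow_mk_iso_iff e).mp (IsZariskiLocalAtTarget.restrict h _)

include hPL hgen hn hs in
/-- Condition (iii) is surjectivity of the chart homomorphism. -/
lemma surjective_awayMap_iff [IsIso pL] :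
    Function.Surjective (Away.map (u.gradedAt W hW (XTW q 𝒮 𝒮L u W n s) hXT (XTW_le q 𝒮 𝒮L u W n s)) s) ↔
      ∀ t : X.presheaf.obj (op (XTW q 𝒮 𝒮L u W n s)), ∃ (m : ℕ) (_ : 0 < m)
        (s' : 𝒮.presheaf.obj (op W)) (_ : s' ∈ 𝒮.deg W hW (m * n)),
          (𝒮L.str.app (op (XTW q 𝒮 𝒮L u W n s))).hom t *
            ((u.appLE W (XTW q 𝒮 𝒮L u W n s) (XTW_le q 𝒮 𝒮L u W n s)).hom s) ^ m =
              (u.appLE W (XTW q 𝒮 𝒮L u W n s) (XTW_le q 𝒮 𝒮L u W n s)).hom s' := by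
  have hb := (bijective_rho q 𝒮 𝒮L u pL chartL hPL hgen W hW hn s hs hXT).2
  exact H60AwaySurj.surjective_map_iff (u.gradedAt W hW (XTW q 𝒮 𝒮L u W n s) hXT (XTW_le q 𝒮 𝒮L u W n s)) hs
    (𝒮L.str.app (op (XTW q 𝒮 𝒮L u W n s))).hom (𝒮L.str_mem _ hXT) hb

include hs in
/-- Condition (iv) is injectivity of the chart homomorphism. -/
lemma injective_awayMap_iff :
    Function.Injective (Away.map (u.gradedAt W hW (XTW q 𝒮 𝒮L u W n s) hXT (XTW_le q 𝒮 𝒮L u W n s)) s) ↔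
      ∀ (m : ℕ), 0 < m → ∀ s' ∈ 𝒮.deg W hW (m * n),
        (u.appLE W (XTW q 𝒮 𝒮L u W n s) (XTW_le q 𝒮 𝒮L u W n s)).hom s' = 0 →
          ∃ (k : ℕ), 0 < k ∧ s ^ k * s' = 0 :=
  H60AwaySurj.injective_map_iff (u.gradedAt W hW (XTW q 𝒮 𝒮L u W n s) hXT (XTW_le q 𝒮 𝒮L u W n s)) hs

end Single

section Family

variable (r : ((RelProj.domQ u pL chartL : PL.Opens) : Scheme.{u}) ⟶ P)
  (hr : RelProj.IsProjQMapOn u p chart pL chartL (RelProj.domQ u pL chartL) r)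
  {ι : Type*} (Wf : ι → Y.Opens) (hWf : ∀ a, IsAffineOpen (Wf a)) (n : ι → ℕ)
  (s : ∀ a, 𝒮.presheaf.obj (op (Wf a))) (hn : ∀ a, 0 < n a)
  (hs : ∀ a, s a ∈ 𝒮.deg (Wf a) (hWf a) (n a))

include hP hPL hgen hj1 hpoly hL hr hn hs in
/-- If the `X_{u s_a}` cover `X`, `r` is everywhere defined. -/
lemma domQ_eq_top_of_cover (hcov : (⨆ a, XTW q 𝒮 𝒮L u (Wf a) (n a) (s a)) = ⊤) :
    RelProj.domQ u pL chartL = ⊤ := by
  rw [eq_top_iff]
  intro x' _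
  have hx : pL.base x' ∈ (⨆ a, XTW q 𝒮 𝒮L u (Wf a) (n a) (s a)) := by rw [hcov]; trivial
  obtain ⟨a, ha⟩ := Opens.mem_iSup.mp hx
  have h1 : x' ∈ pL ⁻¹ᵁ XTW q 𝒮 𝒮L u (Wf a) (n a) (s a) := ha
  rw [← preimage_basicOpen_eqW q L hL 𝒮 𝒮L j u p chart hP pL chartL hPL hgen hj1 hpoly (Wf a)
    (hWf a) r hr (hn a) (s a) (hs a)] at h1
  obtain ⟨y', -, e⟩ := h1
  rw [← e]
  exact y'.2

include hP hPL hgen hj1 hpoly hL hr hn hs in
/-- If the `X_{u s_a}` cover `X`, `r` lands in the union of the `D₊(s_a)`. -/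
lemma range_r_subsetW (hcov : (⨆ a, XTW q 𝒮 𝒮L u (Wf a) (n a) (s a)) = ⊤) :
    Set.range r.base ⊆ Set.range
      (⨆ a, (RelProj.emb p chart (Wf a) (hWf a)) ''ᵁ
        (Proj.basicOpen (𝒮.deg (Wf a) (hWf a)) (s a)) : P.Opens).ι.base := by
  rw [Scheme.Opens.range_ι]
  rintro _ ⟨y, rfl⟩
  have hx : pL.base ((RelProj.domQ u pL chartL).ι.base y) ∈
      (⨆ a, XTW q 𝒮 𝒮L u (Wf a) (n a) (s a)) := by rw [hcov]; trivial
  obtain ⟨a, ha⟩ := Opens.mem_iSup.mp hx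
  have h1 : (RelProj.domQ u pL chartL).ι.base y ∈ pL ⁻¹ᵁ XTW q 𝒮 𝒮L u (Wf a) (n a) (s a) := ha
  rw [← preimage_basicOpen_eqW q L hL 𝒮 𝒮L j u p chart hP pL chartL hPL hgen hj1 hpoly (Wf a)
    (hWf a) r hr (hn a) (s a) (hs a)] at h1
  obtain ⟨y', hy', e⟩ := h1
  have : y' = y := (RelProj.domQ u pL chartL).ι.isOpenEmbedding.injective e
  subst this
  exact Opens.mem_iSup.mpr ⟨a, hy'⟩

variable (hXT : ∀ a, IsAffineOpen (XTW q 𝒮 𝒮L u (Wf a) (n a) (s a)))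
  (U : P.Opens) (r' : ((RelProj.domQ u pL chartL : PL.Opens) : Scheme.{u}) ⟶ (U : Scheme.{u}))
  (hr' : r' ≫ U.ι = r)
  (hOU : ∀ a, (RelProj.emb p chart (Wf a) (hWf a)) ''ᵁ
    (Proj.basicOpen (𝒮.deg (Wf a) (hWf a)) (s a)) ≤ U)
  (hUle : U ≤ ⨆ a, (RelProj.emb p chart (Wf a) (hWf a)) ''ᵁ
    (Proj.basicOpen (𝒮.deg (Wf a) (hWf a)) (s a)))

include hP hPL hgen hj1 hpoly hL hr hr' hUle hn hs hOU in
/-- A target-local property holds for `r'` if it holds for the chart homomorphisms. -/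
theorem of_familyW (Pr : MorphismProperty Scheme.{u}) [IsZariskiLocalAtTarget Pr]
    (h : ∀ a, Pr (Spec.map (CommRingCat.ofHom (Away.map
      (u.gradedAt (Wf a) (hWf a) (XTW q 𝒮 𝒮L u (Wf a) (n a) (s a)) (hXT a)
        (XTW_le q 𝒮 𝒮L u (Wf a) (n a) (s a))) (s a))))) : Pr r' := by
  refine of_charts Pr r' _ _ _
    (fun a ↦ cch q 𝒮 𝒮L u pL chartL (Wf a) (hWf a) (hn a) (s a) (hs a) (hXT a))
    (fun a ↦ dch 𝒮 p chart (Wf a) (hWf a) (hn a) (s a) (hs a) U (hOU a))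
    (fun a ↦ cch_r' q 𝒮 𝒮L u p chart pL chartL (Wf a) (hWf a) (hn a) (s a) (hs a) (hXT a) r hr U
      r' hr' (hOU a))
    (fun a ↦ (preimage_opensRange_dch q L hL 𝒮 𝒮L j u p chart hP pL chartL hPL hgen hj1 hpoly
      (Wf a) (hWf a) (hn a) (s a) (hs a) (hXT a) r hr U r' hr' (hOU a)).le) ?_ h
  rw [eq_top_iff]
  intro x _
  have hx : x.1 ∈ ⨆ a, (RelProj.emb p chart (Wf a) (hWf a)) ''ᵁ
      (Proj.basicOpen (𝒮.deg (Wf a) (hWf a)) (s a)) := hUle x.2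
  obtain ⟨a, ha⟩ := Opens.mem_iSup.mp hx
  refine Opens.mem_iSup.mpr ⟨a, ?_⟩
  rw [opensRange_dch]
  exact ha

end Family

section Conv

variable (r : ((RelProj.domQ u pL chartL : PL.Opens) : Scheme.{u}) ⟶ P)
  (hr : RelProj.IsProjQMapOn u p chart pL chartL (RelProj.domQ u pL chartL) r)

include hP hPL hgen hj1 hpoly hL hr in
/-- If `r` is everywhere defined and lands in the open `U`, the `X_{u s}` with `D₊(s) ⊆ U`
cover `X`. -/
lemma exists_mem_XTW (hdom : RelProj.domQ u pL chartL = ⊤) (U : P.Opens)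
    (hrange : Set.range r.base ⊆ (U : Set P)) (x : X) :
    ∃ (W : Y.Opens) (hW : IsAffineOpen W) (n : ℕ) (_ : 0 < n) (s : 𝒮.presheaf.obj (op W))
      (_ : s ∈ 𝒮.deg W hW n),
      (RelProj.emb p chart W hW) ''ᵁ (Proj.basicOpen (𝒮.deg W hW) s) ≤ U ∧
        x ∈ XTW q 𝒮 𝒮L u W n s := by
  obtain ⟨x', rfl⟩ := surjective_pL L hL 𝒮L j pL chartL hPL hj1 hpoly x
  have hx' : x' ∈ RelProj.domQ u pL chartL := by rw [hdom]; trivial
  set y : ((RelProj.domQ u pL chartL : PL.Opens) : Scheme.{u}) := ⟨x', hx'⟩ with hy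
  have hyU : r.base y ∈ U := hrange ⟨y, rfl⟩
  obtain ⟨_, ⟨W, hW, rfl⟩, hzt', -⟩ := Y.isBasis_affineOpens.exists_subset_of_mem_open
    (Set.mem_univ (p.base (r.base y))) isOpen_univ
  have hzt : r.base y ∈ p ⁻¹ᵁ W := hzt'
  have hz₀ := emb_apply_chart p chart W hW (r.base y) hzt
  set z₀ := chartPt p chart W hW (r.base y) hzt with hz₀def
  have hz₀O : z₀ ∈ (RelProj.emb p chart W hW) ⁻¹ᵁ U := by
    change (RelProj.emb p chart W hW).base z₀ ∈ U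
    rw [hz₀]; exact hyU
  obtain ⟨e, he, g, hg, hz₀g, hgO⟩ := exists_homogeneous_basicOpen_le z₀ _ hz₀O
  refine ⟨W, hW, e, he, g, hg, ?_, ?_⟩
  · rintro _ ⟨z, hz, rfl⟩
    exact hgO hz
  · have h1 : y ∈ r ⁻¹ᵁ ((RelProj.emb p chart W hW) ''ᵁ (Proj.basicOpen (𝒮.deg W hW) g)) :=
      ⟨z₀, hz₀g, hz₀⟩
    have h2 : (RelProj.domQ u pL chartL).ι.base y ∈ (RelProj.domQ u pL chartL).ι ''ᵁ
        (r ⁻¹ᵁ ((RelProj.emb p chart W hW) ''ᵁ (Proj.basicOpen (𝒮.deg W hW) g))) := ⟨y, h1, rfl⟩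
    rw [preimage_basicOpen_eqW q L hL 𝒮 𝒮L j u p chart hP pL chartL hPL hgen hj1 hpoly W hW r hr
      he g hg] at h2
    exact h2

end Conv

/-- The criterion datum: a family of homogeneous sections `s_a ∈ 𝒮(W_a)_{n_a}` over affine opens of
`Y` with the `X_{u s_a}` affine, covering `X`, and with condition (iii). -/
def HasImmFamily : Prop :=
  ∃ (ι : Type u) (Wf : ι → Y.Opens) (hWf : ∀ a, IsAffineOpen (Wf a)) (n : ι → ℕ)
    (s : ∀ a, 𝒮.presheaf.obj (op (Wf a))),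
    (∀ a, 0 < n a ∧ s a ∈ 𝒮.deg (Wf a) (hWf a) (n a)) ∧
    (⨆ a, XTW q 𝒮 𝒮L u (Wf a) (n a) (s a)) = ⊤ ∧
    (∀ a, IsAffineOpen (XTW q 𝒮 𝒮L u (Wf a) (n a) (s a))) ∧
    (∀ (a : ι) (t : X.presheaf.obj (op (XTW q 𝒮 𝒮L u (Wf a) (n a) (s a)))),
      ∃ (m : ℕ) (_ : 0 < m) (s' : 𝒮.presheaf.obj (op (Wf a)))
        (_ : s' ∈ 𝒮.deg (Wf a) (hWf a) (m * n a)),
        (𝒮L.str.app (op (XTW q 𝒮 𝒮L u (Wf a) (n a) (s a)))).hom t *
          ((u.appLE (Wf a) (XTW q 𝒮 𝒮L u (Wf a) (n a) (s a))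
            (XTW_le q 𝒮 𝒮L u (Wf a) (n a) (s a))).hom (s a)) ^ m =
          (u.appLE (Wf a) (XTW q 𝒮 𝒮L u (Wf a) (n a) (s a))
            (XTW_le q 𝒮 𝒮L u (Wf a) (n a) (s a))).hom s')

section Crit

variable (r : ((RelProj.domQ u pL chartL : PL.Opens) : Scheme.{u}) ⟶ P)
  (hr : RelProj.IsProjQMapOn u p chart pL chartL (RelProj.domQ u pL chartL) r)

/-- A closed immersion `Spec.map φ` comes from a surjective `φ`. -/
lemma surjective_of_isClosedImmersion {R S : CommRingCat.{u}} (φ : R ⟶ S)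
    (h : IsClosedImmersion (Spec.map φ)) : Function.Surjective φ.hom := by
  have h2 := (IsClosedImmersion.isAffine_surjective_of_isAffine (Spec.map φ)).2
  have e : φ = (Scheme.ΓSpecIso R).inv ≫ (Spec.map φ).appTop ≫ (Scheme.ΓSpecIso S).hom := by
    rw [Scheme.ΓSpecIso_naturality, Iso.inv_hom_id_assoc]
  rw [e]
  simp only [CommRingCat.hom_comp, RingHom.coe_comp]
  exact ((ConcreteCategory.bijective_of_isIso (Scheme.ΓSpecIso S).hom).2.comp h2).comp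
    (ConcreteCategory.bijective_of_isIso (Scheme.ΓSpecIso R).inv).2

include hP hPL hgen hj1 hpoly hL hr in
/-- EGA II 3.8.2 over an arbitrary base: `r_{L,ψ}` is everywhere defined and an immersion iff there
is a family as in `HasImmFamily`. -/
theorem isImmersion_iff [IsIso pL] :
    (RelProj.domQ u pL chartL = ⊤ ∧ IsImmersion r) ↔ HasImmFamily q 𝒮 𝒮L u := by
  constructor
  · rintro ⟨hdom, himm⟩
    set U : P.Opens := r.coborderRange with hUdef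
    set r' := r.liftCoborder with hr'def
    have hr' : r' ≫ U.ι = r := r.liftCoborder_ι
    have hcl' : IsClosedImmersion r' := inferInstance
    have haff : IsAffineHom r' := inferInstance
    have hrange : Set.range r.base ⊆ (U : Set P) := by
      rintro _ ⟨y, rfl⟩
      rw [← hr']
      exact (r'.base y).2
    refine ⟨{x : (Σ W : Y.affineOpens, ℕ × 𝒮.presheaf.obj (op W.1)) //
        0 < x.2.1 ∧ x.2.2 ∈ 𝒮.deg x.1.1 x.1.2 x.2.1 ∧
        (RelProj.emb p chart x.1.1 x.1.2) ''ᵁ (Proj.basicOpen (𝒮.deg x.1.1 x.1.2) x.2.2) ≤ U},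
      fun a ↦ a.1.1.1, fun a ↦ a.1.1.2, fun a ↦ a.1.2.1, fun a ↦ a.1.2.2,
      fun a ↦ ⟨a.2.1, a.2.2.1⟩, ?_, ?_, ?_⟩
    · rw [eq_top_iff]
      intro x _
      obtain ⟨W, hW, n, hn, s, hs, hle, hx⟩ := exists_mem_XTW q L hL 𝒮 𝒮L j u p chart hP pL chartL
        hPL hgen hj1 hpoly r hr hdom U hrange x
      exact Opens.mem_iSup.mpr ⟨⟨⟨⟨W, hW⟩, (n, s)⟩, hn, hs, hle⟩, hx⟩
    · intro a
      exact isAffineOpen_XT q L hL 𝒮 𝒮L j u p chart hP pL chartL hPL hgen hj1 hpoly a.1.1.1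
        a.1.1.2 a.2.1 a.1.2.2 a.2.2.1 r hr U r' hr' a.2.2.2
    · intro a
      have hXT := isAffineOpen_XT q L hL 𝒮 𝒮L j u p chart hP pL chartL hPL hgen hj1 hpoly a.1.1.1
        a.1.1.2 a.2.1 a.1.2.2 a.2.2.1 r hr U r' hr' a.2.2.2
      have h1 := chart_of q L hL 𝒮 𝒮L j u p chart hP pL chartL hPL hgen hj1 hpoly a.1.1.1
        a.1.1.2 a.2.1 a.1.2.2 a.2.2.1 hXT r hr U r' hr' a.2.2.2 @IsClosedImmersion hcl'
      exact (surjective_awayMap_iff q 𝒮 𝒮L u pL chartL hPL hgen a.1.1.1 a.1.1.2 a.2.1 a.1.2.2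
        a.2.2.1 hXT).mp (surjective_of_isClosedImmersion _ h1)
  · rintro ⟨ι, Wf, hWf, n, s, h1, hcov, haff, h3⟩
    have hdom := domQ_eq_top_of_cover q L hL 𝒮 𝒮L j u p chart hP pL chartL hPL hgen hj1 hpoly r hr
      Wf hWf n s (fun a ↦ (h1 a).1) (fun a ↦ (h1 a).2) hcov
    refine ⟨hdom, ?_⟩
    have hsub := range_r_subsetW q L hL 𝒮 𝒮L j u p chart hP pL chartL hPL hgen hj1 hpoly r hr
      Wf hWf n s (fun a ↦ (h1 a).1) (fun a ↦ (h1 a).2) hcov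
    set U : P.Opens := ⨆ a, (RelProj.emb p chart (Wf a) (hWf a)) ''ᵁ
      (Proj.basicOpen (𝒮.deg (Wf a) (hWf a)) (s a)) with hUdef
    set r' := IsOpenImmersion.lift U.ι r hsub with hr'def
    have hr' : r' ≫ U.ι = r := IsOpenImmersion.lift_fac _ _ _
    have hcl' : IsClosedImmersion r' := by
      refine of_familyW q L hL 𝒮 𝒮L j u p chart hP pL chartL hPL hgen hj1 hpoly r hr Wf hWf n s
        (fun a ↦ (h1 a).1) (fun a ↦ (h1 a).2) haff U r' hr'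
        (fun a ↦ le_iSup (fun a ↦ (RelProj.emb p chart (Wf a) (hWf a)) ''ᵁ
          (Proj.basicOpen (𝒮.deg (Wf a) (hWf a)) (s a))) a) le_rfl
        @IsClosedImmersion (fun a ↦ ?_)
      exact IsClosedImmersion.spec_of_surjective _
        ((surjective_awayMap_iff q 𝒮 𝒮L u pL chartL hPL hgen (Wf a) (hWf a) (h1 a).1 (s a)
          (h1 a).2 (haff a)).mpr (h3 a))
    rw [← hr']
    infer_instance

end Crit

end Groth.Agent.Lib.H60LineImmW
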