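import Groth.Agent.Lib.H60ProjQPts

/-!
# `Proj(u)` and composition `u' = u ∘ v` of graded morphisms

* `exists_homogeneous_basicOpen_le`: the `D₊(g)`, `g` homogeneous of positive degree, form a basis
  of `Proj`.
* `exists_tn_basicOpen_le`: if `ψ` is (TN)-surjective, the `D₊(ψ t)` form a basis.
* `basicOpen_nonempty`: `D₊(g) ≠ ∅` for `g` homogeneous of positive degree and not nilpotent.
* `mem_preimage_basic_iff`: the preimage of `D₊(a)` under `Proj(w)`, pointwise.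
* `transfer`: for `u' = u ∘ v`, `Proj(u')⁻¹(D₊(t)) = Proj(u)⁻¹(D₊(v t))`.
-/

set_option autoImplicit false
universe u
open CategoryTheory CategoryTheory.Limits AlgebraicGeometry TopologicalSpace Opposite
open scoped HomogeneousIdeal
noncomputable section
open EGA2

namespace Groth.Agent.Lib.H60ProjQComp

open Groth.Agent.Lib.H60AwayMapEq Groth.Agent.Lib.ProjQMap Groth.Agent.Lib.ProjQMapOn
open Groth.Agent.Lib.H60AwayDegOne Groth.Agent.S12139 Groth.Agent.Lib.H60ProjQPts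
open HomogeneousLocalization

section Alg

variable {A B σ τ : Type u} [CommRing A] [SetLike σ A] [AddSubgroupClass σ A]
  [CommRing B] [SetLike τ B] [AddSubgroupClass τ B]
  {𝒜 : ℕ → σ} {ℬ : ℕ → τ} [GradedRing 𝒜] [GradedRing ℬ]

/-- The `D₊(g)` with `g` homogeneous of positive degree form a basis of `Proj`. -/
lemma exists_homogeneous_basicOpen_le (x : Proj ℬ) (O : (Proj ℬ).Opens) (hx : x ∈ O) :
    ∃ (e : ℕ) (_ : 0 < e) (g : B) (_ : g ∈ ℬ e), x ∈ Proj.basicOpen ℬ g ∧ Proj.basicOpen ℬ g ≤ O := by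
  obtain ⟨_, ⟨_, ⟨b, rfl⟩, rfl⟩, hxb, hbO⟩ :=
    (Proj.isBasis_basicOpen ℬ).exists_subset_of_mem_open hx O.2
  have hxb' : x ∈ Proj.basicOpen ℬ b := hxb
  rw [Proj.basicOpen_eq_iSup_proj] at hxb'
  obtain ⟨i, hi⟩ := Opens.mem_iSup.mp hxb'
  have hle : Proj.basicOpen ℬ (GradedRing.proj ℬ i b) ≤ Proj.basicOpen ℬ b := by
    rw [Proj.basicOpen_eq_iSup_proj ℬ b]
    exact le_iSup (fun i ↦ Proj.basicOpen ℬ (GradedRing.proj ℬ i b)) i
  -- a homogeneous element of positive degree outside `x`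
  obtain ⟨e, he, h, hh, hxh⟩ : ∃ (e : ℕ) (_ : 0 < e) (h : B) (_ : h ∈ ℬ e),
      x ∈ Proj.basicOpen ℬ h :=
    exists_not_mem_of_tn (GradedRingHom.id ℬ) 0 (fun k _ y hy ↦ ⟨y, hy, rfl⟩) x
  refine ⟨i + e, by omega, GradedRing.proj ℬ i b * h,
    SetLike.mul_mem_graded (by rw [GradedRing.proj_apply]; exact SetLike.coe_mem _) hh, ?_, ?_⟩
  · rw [Proj.basicOpen_mul]
    exact ⟨hi, hxh⟩
  · rw [Proj.basicOpen_mul]
    exact (inf_le_left.trans hle).trans hbO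

omit [AddSubgroupClass σ A] [GradedRing 𝒜] in
/-- If `ψ` is surjective in high degrees, the `D₊(ψ t)` with `t` homogeneous of positive degree
form a basis of `Proj ℬ`. -/
lemma exists_tn_basicOpen_le (ψ : 𝒜 →+*ᵍ ℬ) (n₀ : ℕ)
    (hsurj : ∀ k, n₀ ≤ k → ∀ y ∈ ℬ k, ∃ x ∈ 𝒜 k, ψ x = y)
    (x : Proj ℬ) (O : (Proj ℬ).Opens) (hx : x ∈ O) :
    ∃ (m : ℕ) (_ : 0 < m) (t : A) (_ : t ∈ 𝒜 m),
      x ∈ Proj.basicOpen ℬ (ψ t) ∧ Proj.basicOpen ℬ (ψ t) ≤ O := by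
  obtain ⟨e, he, g, hg, hxg, hgO⟩ := exists_homogeneous_basicOpen_le x O hx
  have hpow : g ^ (n₀ + 1) ∈ ℬ ((n₀ + 1) • e) := SetLike.pow_mem_graded _ hg
  have hle : n₀ ≤ (n₀ + 1) • e := by
    rw [smul_eq_mul]; nlinarith
  obtain ⟨t, ht, htg⟩ := hsurj _ hle _ hpow
  have hpos : 0 < (n₀ + 1) • e := by rw [smul_eq_mul]; positivity
  refine ⟨_, hpos, t, ht, ?_, ?_⟩
  · rw [htg, Proj.basicOpen_pow ℬ g (n₀ + 1) (Nat.succ_pos _)]; exact hxg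
  · rw [htg, Proj.basicOpen_pow ℬ g (n₀ + 1) (Nat.succ_pos _)]; exact hgO

/-- `D₊(g)` is nonempty for `g` homogeneous of positive degree and not nilpotent. -/
lemma basicOpen_nonempty {e : ℕ} (he : 0 < e) {g : B} (hg : g ∈ ℬ e) (hnil : ¬ IsNilpotent g) :
    ∃ x : Proj ℬ, x ∈ Proj.basicOpen ℬ g := by
  have hnt : Nontrivial (Away ℬ g) := by
    by_contra hcon
    rw [not_nontrivial_iff_subsingleton] at hcon
    have h01 : (1 : Away ℬ g) = 0 := Subsingleton.elim _ _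
    have h01' : (1 : Localization.Away g) = 0 := by
      have := congrArg HomogeneousLocalization.val h01
      rwa [HomogeneousLocalization.val_one, HomogeneousLocalization.val_zero] at this
    have hsub : Subsingleton (Localization.Away g) :=
      subsingleton_of_zero_eq_one h01'.symm
    have h0 : (0 : B) ∈ Submonoid.powers g :=
      (IsLocalization.subsingleton_iff (M := Submonoid.powers g) (S := Localization.Away g)).mp hsub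
    obtain ⟨n, hn⟩ := h0
    exact hnil ⟨n, hn⟩
  obtain ⟨t⟩ : Nonempty (Spec (CommRingCat.of (Away ℬ g))) :=
    inferInstanceAs (Nonempty (PrimeSpectrum (Away ℬ g)))
  refine ⟨(Proj.awayι ℬ g hg he).base t, ?_⟩
  exact (Proj.opensRange_awayι ℬ g hg he).le ⟨t, rfl⟩

section Tri

variable {C ρ : Type u} [CommRing C] [SetLike ρ C] [AddSubgroupClass ρ C] {𝒞 : ℕ → ρ}
  [GradedRing 𝒞]

/-- The ring-level triangle behind `Proj(u ∘ v) = Proj(v) ∘ Proj(u)`. -/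
lemma ring_tri (φ : 𝒜 →+*ᵍ ℬ) (ψ : ℬ →+*ᵍ 𝒞) (χ : 𝒜 →+*ᵍ 𝒞) (h : ∀ a, χ a = ψ (φ a)) (f : A)
    (hκ : ψ (φ f) = χ f) :
    ((awayMapEq (GradedRingHom.id 𝒞) (ψ (φ f)) (χ f) hκ).comp (Away.map ψ (φ f))).comp
      (Away.map φ f) = Away.map χ f := by
  change ((awayMapEq (GradedRingHom.id 𝒞) (ψ (φ f)) (χ f) hκ).comp
      (awayMapEq ψ (φ f) _ rfl)).comp (awayMapEq φ f _ rfl) = awayMapEq χ f _ rfl
  rw [awayMapEq_comp, awayMapEq_comp]
  exact awayMapEq_congr _ _ (fun a ↦ (h a).symm) _ _ _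

end Tri

end Alg

section Rel

variable {Y Y' P P' : Scheme.{u}} (g : Y' ⟶ Y)
  (𝒮 : RelProj.QCGrAlg Y) (𝒮' : RelProj.QCGrAlg Y') (u : RelProj.QGrHom g 𝒮 𝒮')
  (p : P ⟶ Y)
  (chart : ∀ (U : Y.Opens) (hU : IsAffineOpen U),
    (((p ⁻¹ᵁ U : P.Opens) : Scheme.{u}) ≅ Proj (𝒮.deg U hU)))
  (hP : RelProj.IsRelProj 𝒮 p chart)
  (p' : P' ⟶ Y')
  (chart' : ∀ (U : Y'.Opens) (hU : IsAffineOpen U),
    (((p' ⁻¹ᵁ U : P'.Opens) : Scheme.{u}) ≅ Proj (𝒮'.deg U hU)))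
  (hP' : RelProj.IsRelProj 𝒮' p' chart')
  (v : ((RelProj.domQ u p' chart' : P'.Opens) : Scheme.{u}) ⟶ P)
  (hv : RelProj.IsProjQMapOn u p chart p' chart' (RelProj.domQ u p' chart') v)

/-- A point of `Proj 𝒮'(U')` outside `V₊(u a)` gives a point of `G(u)`. -/
lemma mem_domQ_of_notMem (U : Y.Opens) (hU : IsAffineOpen U) (U' : Y'.Opens)
    (hU' : IsAffineOpen U') (hle : U' ≤ g ⁻¹ᵁ U) {k : ℕ} (hk : 0 < k)
    (a : 𝒮.presheaf.obj (op U)) (ha : a ∈ 𝒮.deg U hU k) (yw : Proj (𝒮'.deg U' hU'))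
    (hyw : u.gradedAt U hU U' hU' hle a ∉ yw.asHomogeneousIdeal) :
    (RelProj.emb p' chart' U' hU').base yw ∈ RelProj.domQ u p' chart' := by
  refine Opens.mem_iSup.mpr ⟨⟨(⟨U, hU⟩, ⟨U', hU'⟩), hle⟩, yw, ?_, rfl⟩
  exact (RelCone.mem_domOpen (u.gradedAt U hU U' hU' hle) yw).mpr
    ⟨a, HomogeneousIdeal.mem_irrelevant_of_mem _ hk ha, hyw⟩

include hP hP' hv in
/-- The preimage of the standard open `D₊(a)` over `U` under `Proj(u)`, pointwise. -/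
lemma mem_preimage_basic_iff (U : Y.Opens) (hU : IsAffineOpen U) {k : ℕ} (hk : 0 < k)
    (a : 𝒮.presheaf.obj (op U)) (ha : a ∈ 𝒮.deg U hU k)
    (y : ((RelProj.domQ u p' chart' : P'.Opens) : Scheme.{u})) :
    v.base y ∈ (RelProj.emb p chart U hU) ''ᵁ Proj.basicOpen (𝒮.deg U hU) a ↔
      ∃ (U' : Y'.Opens) (hU' : IsAffineOpen U') (hle : U' ≤ g ⁻¹ᵁ U)
        (yw : Proj (𝒮'.deg U' hU')),
        (RelProj.emb p' chart' U' hU').base yw = (RelProj.domQ u p' chart').ι.base y ∧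
          u.gradedAt U hU U' hU' hle a ∉ yw.asHomogeneousIdeal := by
  constructor
  · rintro ⟨x₀, hx₀, hx₀y⟩
    -- `y` lies over `U`
    have hover := over_base g 𝒮 𝒮' u p chart hP p' chart' hP' v
      ((isProjQMapOn_iff g 𝒮 𝒮' u p chart p' chart' v).mp hv)
    have h1 : p.base (v.base y) = g.base (p'.base ((RelProj.domQ u p' chart').ι.base y)) :=
      congrArg (fun t ↦ t.base y) hover
    have h2 : p.base (v.base y) ∈ U := by
      rw [← hx₀y]; exact range_emb_le p chart U hU x₀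
    have h3 : p'.base ((RelProj.domQ u p' chart').ι.base y) ∈ g ⁻¹ᵁ U := by
      change g.base (p'.base ((RelProj.domQ u p' chart').ι.base y)) ∈ U
      rw [← h1]; exact h2
    obtain ⟨_, ⟨U', hU', rfl⟩, hyU', hle⟩ :=
      Y'.isBasis_affineOpens.exists_subset_of_mem_open h3 (g ⁻¹ᵁ U).2
    have hle' : U' ≤ g ⁻¹ᵁ U := hle
    obtain ⟨d, hd, f, hf, t, ht⟩ := exists_liftQ_pair g 𝒮 𝒮' u p' chart' hP' y U hU U' hU' hle' hyU'
    have e5 := v_liftQ_apply g 𝒮 𝒮' u p chart p' chart' v hv U hU U' hU' hle' hd f hf t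
    rw [ht] at e5
    have e6 : (Proj.awayι (𝒮.deg U hU) f hf hd).base
        ((Spec.map (CommRingCat.ofHom (Away.map (u.gradedAt U hU U' hU' hle') f))).base t) = x₀ :=
      (RelProj.emb p chart U hU).isOpenEmbedding.injective (e5.symm.trans hx₀y.symm)
    refine ⟨U', hU', hle', (Proj.awayι (𝒮'.deg U' hU') (u.gradedAt U hU U' hU' hle' f)
      ((u.gradedAt U hU U' hU' hle').2 hf) hd).base t, ?_, ?_⟩
    · rw [← ht, liftQ_ι_apply]
    · intro hcon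
      have := (mem_awayι_map_iff (u.gradedAt U hU U' hU' hle') hd hf t ha).mpr hcon
      rw [e6] at this
      exact (Proj.mem_basicOpen _ _ _).mp hx₀ this
  · rintro ⟨U', hU', hle, yw, hyw, hnot⟩
    obtain ⟨t, ht⟩ := mem_range_liftQ g 𝒮 𝒮' u p' chart' U hU U' hU' hle hk a ha y yw hyw hnot
    have e5 := v_liftQ_apply g 𝒮 𝒮' u p chart p' chart' v hv U hU U' hU' hle hk a ha t
    rw [ht] at e5
    rw [e5]
    refine ⟨_, ?_, rfl⟩
    exact (Proj.opensRange_awayι (𝒮.deg U hU) a ha hk).le ⟨_, rfl⟩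

end Rel

section Comp

variable {Y Y' P P' PB : Scheme.{u}} (g : Y' ⟶ Y)
  (𝒮 : RelProj.QCGrAlg Y) (ℬ : RelProj.QCGrAlg Y') (u : RelProj.QGrHom g 𝒮 ℬ)
  (p : P ⟶ Y)
  (chart : ∀ (U : Y.Opens) (hU : IsAffineOpen U),
    (((p ⁻¹ᵁ U : P.Opens) : Scheme.{u}) ≅ Proj (𝒮.deg U hU)))
  (hP : RelProj.IsRelProj 𝒮 p chart)
  (pB : PB ⟶ Y')
  (chartB : ∀ (U : Y'.Opens) (hU : IsAffineOpen U),
    (((pB ⁻¹ᵁ U : PB.Opens) : Scheme.{u}) ≅ Proj (ℬ.deg U hU)))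
  (hB : RelProj.IsRelProj ℬ pB chartB)
  (r : ((RelProj.domQ u pB chartB : PB.Opens) : Scheme.{u}) ⟶ P)
  (hr : RelProj.IsProjQMapOn u p chart pB chartB (RelProj.domQ u pB chartB) r)
  (𝒯 : RelProj.QCGrAlg Y) (v : 𝒯.toQCAlg ⟶ 𝒮.toQCAlg) (hv : RelProj.IsGradedHom v)
  (u' : RelProj.QGrHom g 𝒯 ℬ) (hu' : ∀ U : Y.Opens, u'.app U = v.hom.app (op U) ≫ u.app U)
  (p' : P' ⟶ Y)
  (chart' : ∀ (U : Y.Opens) (hU : IsAffineOpen U),
    (((p' ⁻¹ᵁ U : P'.Opens) : Scheme.{u}) ≅ Proj (𝒯.deg U hU)))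
  (hP' : RelProj.IsRelProj 𝒯 p' chart')
  (r' : ((RelProj.domQ u' pB chartB : PB.Opens) : Scheme.{u}) ⟶ P')
  (hr' : RelProj.IsProjQMapOn u' p' chart' pB chartB (RelProj.domQ u' pB chartB) r')

include hu' in
/-- `u' = u ∘ v` over an affine pair. -/
lemma comp_gradedAt (U : Y.Opens) (hU : IsAffineOpen U) (U' : Y'.Opens) (hU' : IsAffineOpen U')
    (hle : U' ≤ g ⁻¹ᵁ U) (t : 𝒯.presheaf.obj (op U)) :
    u'.gradedAt U hU U' hU' hle t = u.gradedAt U hU U' hU' hle (psi v hv U hU t) := by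
  rw [psi_apply]
  change (ℬ.presheaf.map (homOfLE hle).op).hom ((u'.app U).hom t) =
    (ℬ.presheaf.map (homOfLE hle).op).hom ((u.app U).hom ((v.hom.app (op U)).hom t))
  rw [hu' U]
  rfl

include hv hu' in
/-- `G(u ∘ v) ⊆ G(u)`. -/
lemma domQ_comp_le : RelProj.domQ u' pB chartB ≤ RelProj.domQ u pB chartB := by
  intro y hy
  obtain ⟨⟨⟨⟨U, hU⟩, ⟨U', hU'⟩⟩, hle⟩, w, hw, hwy⟩ := Opens.mem_iSup.mp hy
  have hU₁ : IsAffineOpen U := hU
  have hU₁' : IsAffineOpen U' := hU'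
  have hle₁ : U' ≤ g ⁻¹ᵁ U := hle
  have hw' : w ∈ RelCone.domOpen (u'.gradedAt U hU₁ U' hU₁' hle₁) := hw
  obtain ⟨e, he, t, ht, hwt⟩ := exists_homogeneous_of_mem_domOpen _ w hw'
  have hwy' : (RelProj.emb pB chartB U' hU₁').base w = y := hwy
  rw [← hwy']
  refine mem_domQ_of_notMem g 𝒮 ℬ u pB chartB U hU₁ U' hU₁' hle₁ he (psi v hv U hU₁ t)
    ((psi v hv U hU₁).2 ht) w ?_
  rw [← comp_gradedAt g 𝒮 ℬ u 𝒯 v hv u' hu' U hU₁ U' hU₁' hle₁ t]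
  exact (Proj.mem_basicOpen _ _ _).mp hwt

include hP hB hr hu' hP' hr' in
/-- For `u' = u ∘ v`: `Proj(u')⁻¹(D₊(t)) = Proj(u)⁻¹(D₊(v t))`, pointwise. -/
lemma transfer (U : Y.Opens) (hU : IsAffineOpen U) {k : ℕ} (hk : 0 < k)
    (t : 𝒯.presheaf.obj (op U)) (ht : t ∈ 𝒯.deg U hU k) (y : PB) :
    (∃ hy : y ∈ RelProj.domQ u' pB chartB,
        r'.base ⟨y, hy⟩ ∈ (RelProj.emb p' chart' U hU) ''ᵁ Proj.basicOpen (𝒯.deg U hU) t) ↔
      ∃ hy : y ∈ RelProj.domQ u pB chartB,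
        r.base ⟨y, hy⟩ ∈ (RelProj.emb p chart U hU) ''ᵁ
          Proj.basicOpen (𝒮.deg U hU) (psi v hv U hU t) := by
  constructor
  · rintro ⟨hy, h⟩
    obtain ⟨U', hU', hle, yw, hyw, hnot⟩ :=
      (mem_preimage_basic_iff g 𝒯 ℬ u' p' chart' hP' pB chartB hB r' hr' U hU hk t ht ⟨y, hy⟩).mp h
    rw [comp_gradedAt g 𝒮 ℬ u 𝒯 v hv u' hu' U hU U' hU' hle t] at hnot
    have hy' : y ∈ RelProj.domQ u pB chartB :=
      domQ_comp_le g 𝒮 ℬ u pB chartB 𝒯 v hv u' hu' hy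
    refine ⟨hy', (mem_preimage_basic_iff g 𝒮 ℬ u p chart hP pB chartB hB r hr U hU hk
      (psi v hv U hU t) ((psi v hv U hU).2 ht) ⟨y, hy'⟩).mpr ⟨U', hU', hle, yw, hyw, hnot⟩⟩
  · rintro ⟨hy, h⟩
    obtain ⟨U', hU', hle, yw, hyw, hnot⟩ :=
      (mem_preimage_basic_iff g 𝒮 ℬ u p chart hP pB chartB hB r hr U hU hk
        (psi v hv U hU t) ((psi v hv U hU).2 ht) ⟨y, hy⟩).mp h
    rw [← comp_gradedAt g 𝒮 ℬ u 𝒯 v hv u' hu' U hU U' hU' hle t] at hnot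
    have hyw' : (RelProj.emb pB chartB U' hU').base yw = y := hyw
    have hy' : y ∈ RelProj.domQ u' pB chartB := by
      rw [← hyw']
      exact mem_domQ_of_notMem g 𝒯 ℬ u' pB chartB U hU U' hU' hle hk t ht yw hnot
    refine ⟨hy', (mem_preimage_basic_iff g 𝒯 ℬ u' p' chart' hP' pB chartB hB r' hr' U hU hk t ht
      ⟨y, hy'⟩).mpr ⟨U', hU', hle, yw, hyw, hnot⟩⟩

variable (π : ((RelProj.domQ (RelProj.QGrHom.ofHom v hv) p chart : P.Opens) : Scheme.{u}) ⟶ P')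
  (hπ : RelProj.IsProjQMapOn (RelProj.QGrHom.ofHom v hv) p' chart' p chart
    (RelProj.domQ (RelProj.QGrHom.ofHom v hv) p chart) π)

include hP hB hr hu' hP' hr' in
/-- `Proj(u)` maps `G(u ∘ v)` into `G(v)`. -/
lemma range_le_domQ :
    Set.range (PB.homOfLE (domQ_comp_le g 𝒮 ℬ u pB chartB 𝒯 v hv u' hu') ≫ r).base ⊆
      Set.range (RelProj.domQ (RelProj.QGrHom.ofHom v hv) p chart).ι.base := by
  rw [Scheme.Opens.range_ι]
  rintro _ ⟨y, rfl⟩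
  obtain ⟨k, t, ht⟩ := exists_liftQ g 𝒯 ℬ u' pB chartB y
  have e5 := v_liftQ_apply g 𝒯 ℬ u' p' chart' pB chartB r' hr' k.U k.hU k.U' k.hU' k.hle k.hd
    k.f k.hf t
  rw [ht] at e5
  have h1 : r'.base y ∈ (RelProj.emb p' chart' k.U k.hU) ''ᵁ
      Proj.basicOpen (𝒯.deg k.U k.hU) k.f := by
    rw [e5]
    exact ⟨_, (Proj.opensRange_awayι (𝒯.deg k.U k.hU) k.f k.hf k.hd).le ⟨_, rfl⟩, rfl⟩
  obtain ⟨hy', x₀, hx₀, hx₀y⟩ := (transfer g 𝒮 ℬ u p chart hP pB chartB hB r hr 𝒯 v hv u' hu' p'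
    chart' hP' r' hr' k.U k.hU k.hd k.f k.hf y.1).mp ⟨y.2, h1⟩
  have e1 : (PB.homOfLE (domQ_comp_le g 𝒮 ℬ u pB chartB 𝒯 v hv u' hu') ≫ r).base y =
      r.base ⟨y.1, hy'⟩ := by
    change r.base ((PB.homOfLE (domQ_comp_le g 𝒮 ℬ u pB chartB 𝒯 v hv u' hu')).base y) = _
    exact congrArg r.base (Scheme.homOfLE_apply' _ y.1 y.2)
  rw [e1, ← hx₀y]
  exact mem_domQ_of_notMem (𝟙 Y) 𝒯 𝒮 (RelProj.QGrHom.ofHom v hv) p chart k.U k.hU k.U k.hU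
    (le_refl k.U) k.hd k.f k.hf x₀ ((Proj.mem_basicOpen _ _ _).mp hx₀)


include hr hu' hr' hπ in
/-- `Proj(u ∘ v) = Proj(v) ∘ Proj(u)` on `G(u ∘ v)`. -/
lemma comp_eq (r₀ : ((RelProj.domQ u' pB chartB : PB.Opens) : Scheme.{u}) ⟶
      ((RelProj.domQ (RelProj.QGrHom.ofHom v hv) p chart : P.Opens) : Scheme.{u}))
    (hr₀ : r₀ ≫ (RelProj.domQ (RelProj.QGrHom.ofHom v hv) p chart).ι =
      PB.homOfLE (domQ_comp_le g 𝒮 ℬ u pB chartB 𝒯 v hv u' hu') ≫ r) :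
    r₀ ≫ π = r' := by
  refine Groth.Agent.Lib.ImmersionGlue.hom_ext_of_forall_isOpenImmersion _ _ fun y ↦ ?_
  obtain ⟨k, t, ht⟩ := exists_liftQ g 𝒯 ℬ u' pB chartB y
  obtain ⟨U, hU, U', hU', hle, d, hd, f, hf⟩ := k
  refine ⟨_, liftQ g 𝒯 ℬ u' pB chartB U hU U' hU' hle hd f hf, inferInstance, ⟨t, ht⟩, ?_⟩
  have hκ : u.gradedAt U hU U' hU' hle (psi v hv U hU f) = u'.gradedAt U hU U' hU' hle f :=
    (comp_gradedAt g 𝒮 ℬ u 𝒯 v hv u' hu' U hU U' hU' hle f).symm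
  have hpf : psi v hv U hU f ∈ 𝒮.deg U hU d := (psi v hv U hU).2 hf
  have h1 : liftQ g 𝒯 ℬ u' pB chartB U hU U' hU' hle hd f hf ≫
        PB.homOfLE (domQ_comp_le g 𝒮 ℬ u pB chartB 𝒯 v hv u' hu') =
      Spec.map (CommRingCat.ofHom (awayMapEq (GradedRingHom.id (ℬ.deg U' hU'))
        (u.gradedAt U hU U' hU' hle (psi v hv U hU f)) (u'.gradedAt U hU U' hU' hle f) hκ)) ≫
        liftQ g 𝒮 ℬ u pB chartB U hU U' hU' hle hd (psi v hv U hU f) hpf := by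
    rw [← cancel_mono (RelProj.domQ u pB chartB).ι, Category.assoc, Scheme.homOfLE_ι, liftQ_ι,
      Category.assoc, liftQ_ι, ← Category.assoc, awayι_eq hd _ _ hκ
        ((u.gradedAt U hU U' hU' hle).2 hpf) ((u'.gradedAt U hU U' hU' hle).2 hf)]
  have hrk := (isProjQMapOn_iff g 𝒮 ℬ u p chart pB chartB r).mp hr
    ⟨U, hU, U', hU', hle, d, hd, psi v hv U hU f, hpf⟩
  have hrk' : liftQ g 𝒮 ℬ u pB chartB U hU U' hU' hle hd (psi v hv U hU f) hpf ≫ r =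
      Spec.map (CommRingCat.ofHom (Away.map (u.gradedAt U hU U' hU' hle) (psi v hv U hU f))) ≫
        Proj.awayι (𝒮.deg U hU) (psi v hv U hU f) hpf hd ≫ RelProj.emb p chart U hU := hrk
  have h2 : liftQ g 𝒯 ℬ u' pB chartB U hU U' hU' hle hd f hf ≫ r₀ =
      Spec.map (CommRingCat.ofHom (awayMapEq (GradedRingHom.id (ℬ.deg U' hU'))
        (u.gradedAt U hU U' hU' hle (psi v hv U hU f)) (u'.gradedAt U hU U' hU' hle f) hκ)) ≫
      Spec.map (CommRingCat.ofHom (Away.map (u.gradedAt U hU U' hU' hle) (psi v hv U hU f))) ≫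
      liftQ (𝟙 Y) 𝒯 𝒮 (RelProj.QGrHom.ofHom v hv) p chart U hU U hU (le_refl U) hd f hf := by
    rw [← cancel_mono (RelProj.domQ (RelProj.QGrHom.ofHom v hv) p chart).ι, Category.assoc, hr₀,
      ← Category.assoc, h1, Category.assoc, hrk', Category.assoc, Category.assoc, liftQ_ι]
  have hπk := (isProjQMapOn_iff (𝟙 Y) 𝒯 𝒮 (RelProj.QGrHom.ofHom v hv) p' chart' p chart π).mp hπ
    ⟨U, hU, U, hU, le_refl U, d, hd, f, hf⟩
  have hπk' : liftQ (𝟙 Y) 𝒯 𝒮 (RelProj.QGrHom.ofHom v hv) p chart U hU U hU (le_refl U) hd f hf ≫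
        π =
      Spec.map (CommRingCat.ofHom (Away.map (psi v hv U hU) f)) ≫
        Proj.awayι (𝒯.deg U hU) f hf hd ≫ RelProj.emb p' chart' U hU := hπk
  have hr'k := (isProjQMapOn_iff g 𝒯 ℬ u' p' chart' pB chartB r').mp hr'
    ⟨U, hU, U', hU', hle, d, hd, f, hf⟩
  have hr'k' : liftQ g 𝒯 ℬ u' pB chartB U hU U' hU' hle hd f hf ≫ r' =
      Spec.map (CommRingCat.ofHom (Away.map (u'.gradedAt U hU U' hU' hle) f)) ≫
        Proj.awayι (𝒯.deg U hU) f hf hd ≫ RelProj.emb p' chart' U hU := hr'k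
  have hring := congrArg (fun φ ↦ Spec.map (CommRingCat.ofHom φ))
    (ring_tri (psi v hv U hU) (u.gradedAt U hU U' hU' hle) (u'.gradedAt U hU U' hU' hle)
      (comp_gradedAt g 𝒮 ℬ u 𝒯 v hv u' hu' U hU U' hU' hle) f hκ)
  simp only [CommRingCat.ofHom_comp, Spec.map_comp, Category.assoc] at hring
  rw [← Category.assoc, h2, Category.assoc, Category.assoc, hπk', hr'k', reassoc_of% hring]

end Comp

end Groth.Agent.Lib.H60ProjQComp
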