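import Groth.Agent.Lib.H60LineBundle
import Groth.Agent.Lib.H60ProjQComp

/-!
# The morphisms `r_{L,ψ}` for an invertible module `L` (EGA II 3.7)

`X_t` is written as the union of the affine opens `V` with `𝒮L(V)_n ⊆ (t|V)`.
Core statements under the local-structure hypotheses `hgen`, `hj1`, `hpoly` on `(𝒮L, j)`
(consequences of `RelProj.IsGrSymAlg L 𝒮L j`):
* `preimage_basicOpen_eq`: `r⁻¹(D₊(f)) = pL⁻¹(X_{u f})`.
-/

set_option autoImplicit false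
universe u
open CategoryTheory CategoryTheory.Limits AlgebraicGeometry TopologicalSpace Opposite
open scoped HomogeneousIdeal
noncomputable section

namespace Groth.Agent.Lib.H60LineProjQ

open Groth.Agent.Lib.ProjQMap Groth.Agent.Lib.ProjQMapOn
open Groth.Agent.Lib.H60ProjQPts Groth.Agent.Lib.H60ProjQComp
open Groth.Agent.Lib.H60LineBundle Groth.Agent.Lib.H60LineAlg Groth.Agent.Lib.H90Invertible

variable {Y X P PL : Scheme.{u}} (q : X ⟶ Y)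
  (L : X.Modules) (hL : PicF.IsInvertible L)
  (𝒮 : RelProj.QCGrAlg Y) (𝒮L : RelProj.QCGrAlg X) (j : L ⟶ 𝒮L.toModule)
  (u : RelProj.QGrHom q 𝒮 𝒮L)
  (p : P ⟶ Y)
  (chart : ∀ (U : Y.Opens) (hU : IsAffineOpen U),
    (((p ⁻¹ᵁ U : P.Opens) : Scheme.{u}) ≅ Proj (𝒮.deg U hU)))
  (hP : RelProj.IsRelProj 𝒮 p chart)
  (pL : PL ⟶ X)
  (chartL : ∀ (U : X.Opens) (hU : IsAffineOpen U),
    (((pL ⁻¹ᵁ U : PL.Opens) : Scheme.{u}) ≅ Proj (𝒮L.deg U hU)))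
  (hPL : RelProj.IsRelProj 𝒮L pL chartL)
  (hgen : 𝒮L.IsGenDegOne)
  (hj1 : ∀ (V : X.Opens) (hV : IsAffineOpen V) (s : Γ(L, V)),
    jel L 𝒮L j V s ∈ 𝒮L.deg V hV 1)
  (hpoly : ∀ (V : X.Opens) (_ : IsAffineOpen V) (s : Γ(L, V)), IsGen L V s →
    Function.Bijective (Polynomial.eval₂RingHom (𝒮L.str.app (op V)).hom (jel L 𝒮L j V s)))
  (hY : IsAffineOpen (⊤ : Y.Opens))

/-- The open `X_t` for `t = u(f)`: union of the affine opens `V` with `𝒮L(V)_n ⊆ (t|V)`. -/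
def XT (n : ℕ) (f : 𝒮.presheaf.obj (op ⊤)) : X.Opens :=
  ⨆ V : {V : X.affineOpens //
    ((𝒮L.deg V.1 V.2 n : AddSubgroup (𝒮L.presheaf.obj (op (V.1 : X.Opens)))) :
        Set (𝒮L.presheaf.obj (op (V.1 : X.Opens)))) ⊆
      (Ideal.span {(u.appLE ⊤ (V.1 : X.Opens)
        (le_top.trans (Scheme.Hom.preimage_top q).ge)).hom f} :
        Set (𝒮L.presheaf.obj (op (V.1 : X.Opens))))},
    (V.1.1 : X.Opens)

lemma mem_XT_iff (n : ℕ) (f : 𝒮.presheaf.obj (op ⊤)) (x : X) :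
    x ∈ XT q 𝒮 𝒮L u n f ↔ ∃ (V : X.Opens) (hV : IsAffineOpen V), x ∈ V ∧
      ((𝒮L.deg V hV n : AddSubgroup (𝒮L.presheaf.obj (op V))) : Set (𝒮L.presheaf.obj (op V))) ⊆
        (Ideal.span {(u.appLE ⊤ V (le_top.trans (Scheme.Hom.preimage_top q).ge)).hom f} :
          Set (𝒮L.presheaf.obj (op V))) := by
  constructor
  · intro h
    obtain ⟨⟨⟨V, hV⟩, hsub⟩, hx⟩ := Opens.mem_iSup.mp h
    exact ⟨V, hV, hx, hsub⟩
  · rintro ⟨V, hV, hx, hsub⟩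
    exact Opens.mem_iSup.mpr ⟨⟨⟨V, hV⟩, hsub⟩, hx⟩

include hPL hj1 hpoly hL in
/-- If `u f` does not vanish at the chart point `w` over `V`, the image point is in `X_{u f}`. -/
lemma mem_XT_of_notMem {n : ℕ} (f : 𝒮.presheaf.obj (op ⊤)) (hf : f ∈ 𝒮.deg ⊤ hY n)
    (V : X.Opens) (hV : IsAffineOpen V) (w : Proj (𝒮L.deg V hV))
    (hw : u.gradedAt ⊤ hY V hV (le_top.trans (Scheme.Hom.preimage_top q).ge) f ∉
      w.asHomogeneousIdeal) :
    pL.base ((RelProj.emb pL chartL V hV).base w) ∈ XT q 𝒮 𝒮L u n f := by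
  obtain ⟨V', hV', hle, hx, hsub⟩ := exists_affine_subset_span L 𝒮L j pL chartL hPL hj1 hpoly hL
    V hV w n (u.gradedAt ⊤ hY V hV (le_top.trans (Scheme.Hom.preimage_top q).ge) f)
    ((u.gradedAt ⊤ hY V hV (le_top.trans (Scheme.Hom.preimage_top q).ge)).2 hf) hw
  refine (mem_XT_iff q 𝒮 𝒮L u n f _).mpr ⟨V', hV', hx, ?_⟩
  have e : (𝒮L.presheaf.map (homOfLE hle).op).hom
      ((u.gradedAt ⊤ hY V hV (le_top.trans (Scheme.Hom.preimage_top q).ge)) f) =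
      (u.appLE ⊤ V' (le_top.trans (Scheme.Hom.preimage_top q).ge)).hom f :=
    congrArg (fun k ↦ k.hom f) (u.appLE_map (le_top.trans (Scheme.Hom.preimage_top q).ge) hle)
  rw [e] at hsub
  exact hsub

include hgen in
/-- If the image of the chart point `w` over `V` lies in an affine `V` with `𝒮L(V)_n ⊆ (u f|V)`,
then `u f` does not vanish at `w`. -/
lemma notMem_of_subset {n : ℕ} (f : 𝒮.presheaf.obj (op ⊤))
    (V : X.Opens) (hV : IsAffineOpen V) (w : Proj (𝒮L.deg V hV))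
    (hsub : ((𝒮L.deg V hV n : AddSubgroup (𝒮L.presheaf.obj (op V))) :
        Set (𝒮L.presheaf.obj (op V))) ⊆
      (Ideal.span {(u.appLE ⊤ V (le_top.trans (Scheme.Hom.preimage_top q).ge)).hom f} :
        Set (𝒮L.presheaf.obj (op V)))) :
    u.gradedAt ⊤ hY V hV (le_top.trans (Scheme.Hom.preimage_top q).ge) f ∉
      w.asHomogeneousIdeal :=
  notMem_of_deg_subset_span (𝒮L.deg V hV) (hgen V hV) w n _ hsub

variable (r : ((RelProj.domQ u pL chartL : PL.Opens) : Scheme.{u}) ⟶ P)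
  (hr : RelProj.IsProjQMapOn u p chart pL chartL (RelProj.domQ u pL chartL) r)

include hP hPL hgen hj1 hpoly hL hr in
/-- `r⁻¹(D₊(f)) = pL⁻¹(X_{u f})` (core of S12144). -/
theorem preimage_basicOpen_eq {d : ℕ} (hd : 0 < d) (f : 𝒮.presheaf.obj (op ⊤))
    (hf : f ∈ 𝒮.deg ⊤ hY d) :
    (RelProj.domQ u pL chartL).ι ''ᵁ
        (r ⁻¹ᵁ ((RelProj.emb p chart ⊤ hY) ''ᵁ Proj.basicOpen (𝒮.deg ⊤ hY) f)) =
      pL ⁻¹ᵁ XT q 𝒮 𝒮L u d f := by
  ext x'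
  constructor
  · rintro ⟨y, hy, rfl⟩
    obtain ⟨V, hV, hle, w, hw, hnot⟩ :=
      (mem_preimage_basic_iff q 𝒮 𝒮L u p chart hP pL chartL hPL r hr ⊤ hY hd f hf y).mp hy
    change pL.base ((RelProj.domQ u pL chartL).ι.base y) ∈ XT q 𝒮 𝒮L u d f
    rw [← hw]
    exact mem_XT_of_notMem q L hL 𝒮 𝒮L j u pL chartL hPL hj1 hpoly hY f hf V hV w hnot
  · intro hx'
    obtain ⟨V, hV, hxV, hsub⟩ := (mem_XT_iff q 𝒮 𝒮L u d f _).mp hx'
    have hx'V : x' ∈ pL ⁻¹ᵁ V := hxV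
    have hw := emb_apply_chart pL chartL V hV x' hx'V
    set w := chartPt pL chartL V hV x' hx'V with hwdef
    have hnot := notMem_of_subset q 𝒮 𝒮L u hgen hY f V hV w hsub
    have hmem : (RelProj.emb pL chartL V hV).base w ∈ RelProj.domQ u pL chartL :=
      mem_domQ_of_notMem q 𝒮 𝒮L u pL chartL ⊤ hY V hV
        (le_top.trans (Scheme.Hom.preimage_top q).ge) hd f hf w hnot
    rw [hw] at hmem
    refine ⟨⟨x', hmem⟩, ?_, rfl⟩
    exact (mem_preimage_basic_iff q 𝒮 𝒮L u p chart hP pL chartL hPL r hr ⊤ hY hd f hf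
      ⟨x', hmem⟩).mpr ⟨V, hV, le_top.trans (Scheme.Hom.preimage_top q).ge, w, hw, hnot⟩

end Groth.Agent.Lib.H60LineProjQ
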