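import Groth.Agent.Lib.H60LineProjQ
import Groth.Agent.S8281

/-!
# The morphisms `r_{L,ψ}` (EGA II 3.7), continued

* `mem_iff_res_mem'`, `chart_indep`: vanishing of `u f` at a point of `Proj(𝒮L)` does not depend on
  the affine chart;
* `exists_chartPt`: points of `Proj 𝒮L(V)` over a given prime of `Γ(X, V)` (for `L|V` free);
* `surjective_pL`: `Proj(Sym L) ⟶ X` is surjective;
* `domQ_eq_top_iff` (core of S12145), `isDominant_iff` (core of S12146).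
-/

set_option autoImplicit false
universe u
open CategoryTheory CategoryTheory.Limits AlgebraicGeometry TopologicalSpace Opposite
open scoped HomogeneousIdeal
noncomputable section

namespace Groth.Agent.Lib.H60LineProjQ

open Groth.Agent.Lib.ProjQMap Groth.Agent.Lib.ProjQMapOn
open Groth.Agent.Lib.H60ProjQPts Groth.Agent.Lib.H60ProjQComp
open Groth.Agent.Lib.H60LineBundle Groth.Agent.Lib.H60LineAlg Groth.Agent.Lib.H90Invertible
open Groth.Agent.Lib.H60AwayDegOne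

section Res

variable {Y P : Scheme.{u}} {𝒮 : RelProj.QCGrAlg Y} {p : P ⟶ Y}
  {chart : ∀ (U : Y.Opens) (hU : IsAffineOpen U),
    (((p ⁻¹ᵁ U : P.Opens) : Scheme.{u}) ≅ Proj (𝒮.deg U hU))}

/-- `mem_iff_res_mem` for an open `W` which is a basic open of `V`. -/
lemma mem_iff_res_mem' (hP : RelProj.IsRelProj 𝒮 p chart) (V : Y.Opens) (hV : IsAffineOpen V)
    (b : Γ(Y, V)) (W : Y.Opens) (hW : IsAffineOpen W) (hWb : Y.basicOpen b = W) (hWV : W ≤ V)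
    (w : Proj (𝒮.deg V hV)) (w₂ : Proj (𝒮.deg W hW))
    (h : (RelProj.emb p chart W hW).base w₂ = (RelProj.emb p chart V hV).base w)
    (t : 𝒮.presheaf.obj (op V)) :
    t ∈ w.asHomogeneousIdeal ↔ (𝒮.res hV hW hWV) t ∈ w₂.asHomogeneousIdeal := by
  subst hWb
  exact mem_iff_res_mem hP V hV b w w₂ h t

end Res

variable {Y X P PL : Scheme.{u}} (q : X ⟶ Y)
  (L : X.Modules) (hL : PicF.IsInvertible L)
  (𝒮 : RelProj.QCGrAlg Y) (𝒮L : RelProj.QCGrAlg X) (j : L ⟶ 𝒮L.toModule)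
  (u : RelProj.QGrHom q 𝒮 𝒮L)
  (p : P ⟶ Y)
  (chart : ∀ (U : Y.Opens) (hU : IsAffineOpen U),
    (((p ⁻¹ᵁ U : P.Opens) : Scheme.{u}) ≅ Proj (𝒮.deg U hU)))
  (hP : RelProj.IsRelProj 𝒮 p chart)
  (pL : PL ⟶ X)
  (chartL : ∀ (U : X.Opens) (hU : IsAffineOpen U),
    (((pL ⁻¹ᵁ U : PL.Opens) : Scheme.{u}) ≅ Proj (𝒮L.deg U hU)))
  (hPL : RelProj.IsRelProj 𝒮L pL chartL)
  (hgen : 𝒮L.IsGenDegOne)
  (hj1 : ∀ (V : X.Opens) (hV : IsAffineOpen V) (s : Γ(L, V)),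
    jel L 𝒮L j V s ∈ 𝒮L.deg V hV 1)
  (hpoly : ∀ (V : X.Opens) (_ : IsAffineOpen V) (s : Γ(L, V)), IsGen L V s →
    Function.Bijective (Polynomial.eval₂RingHom (𝒮L.str.app (op V)).hom (jel L 𝒮L j V s)))
  (hY : IsAffineOpen (⊤ : Y.Opens))

include hPL in
/-- Vanishing of `u f` at a point of `Proj(𝒮L)` does not depend on the affine chart. -/
lemma chart_indep (f : 𝒮.presheaf.obj (op ⊤)) (x' : PL)
    (V : X.Opens) (hV : IsAffineOpen V) (hx : x' ∈ pL ⁻¹ᵁ V)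
    (V₀ : X.Opens) (hV₀ : IsAffineOpen V₀) (hx₀ : x' ∈ pL ⁻¹ᵁ V₀) :
    u.gradedAt ⊤ hY V hV (le_top.trans (Scheme.Hom.preimage_top q).ge) f ∈
        (chartPt pL chartL V hV x' hx).asHomogeneousIdeal ↔
      u.gradedAt ⊤ hY V₀ hV₀ (le_top.trans (Scheme.Hom.preimage_top q).ge) f ∈
        (chartPt pL chartL V₀ hV₀ x' hx₀).asHomogeneousIdeal := by
  obtain ⟨W, hW₁, hW₂, hxW, -⟩ := Groth.Agent.S8281.exists_common_basic
    (⟨V, hV⟩ : X.AffineZariskiSite) ⟨V₀, hV₀⟩ ⊤ (pL.base x') hx hx₀ trivial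
  obtain ⟨r₁, hr₁⟩ := hW₁
  obtain ⟨r₂, hr₂⟩ := hW₂
  have hr₁' : X.basicOpen r₁ = W.1 := hr₁
  have hr₂' : X.basicOpen r₂ = W.1 := hr₂
  have hWV : W.1 ≤ V := by rw [← hr₁']; exact X.basicOpen_le r₁
  have hWV₀ : W.1 ≤ V₀ := by rw [← hr₂']; exact X.basicOpen_le r₂
  have hW : IsAffineOpen W.1 := W.2
  have hxW' : x' ∈ pL ⁻¹ᵁ W.1 := hxW
  have e0 := emb_apply_chart pL chartL W.1 hW x' hxW'
  have e1 := emb_apply_chart pL chartL V hV x' hx
  have e2 := emb_apply_chart pL chartL V₀ hV₀ x' hx₀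
  have h1 := mem_iff_res_mem' hPL V hV r₁ W.1 hW hr₁' hWV (chartPt pL chartL V hV x' hx)
    (chartPt pL chartL W.1 hW x' hxW') (e0.trans e1.symm)
    (u.gradedAt ⊤ hY V hV (le_top.trans (Scheme.Hom.preimage_top q).ge) f)
  have h2 := mem_iff_res_mem' hPL V₀ hV₀ r₂ W.1 hW hr₂' hWV₀ (chartPt pL chartL V₀ hV₀ x' hx₀)
    (chartPt pL chartL W.1 hW x' hxW') (e0.trans e2.symm)
    (u.gradedAt ⊤ hY V₀ hV₀ (le_top.trans (Scheme.Hom.preimage_top q).ge) f)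
  have e3 : (𝒮L.res hV hW hWV) (u.gradedAt ⊤ hY V hV
      (le_top.trans (Scheme.Hom.preimage_top q).ge) f) =
      (u.appLE ⊤ W.1 (le_top.trans (Scheme.Hom.preimage_top q).ge)).hom f :=
    congrArg (fun k ↦ k.hom f) (u.appLE_map (le_top.trans (Scheme.Hom.preimage_top q).ge) hWV)
  have e4 : (𝒮L.res hV₀ hW hWV₀) (u.gradedAt ⊤ hY V₀ hV₀
      (le_top.trans (Scheme.Hom.preimage_top q).ge) f) =
      (u.appLE ⊤ W.1 (le_top.trans (Scheme.Hom.preimage_top q).ge)).hom f :=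
    congrArg (fun k ↦ k.hom f) (u.appLE_map (le_top.trans (Scheme.Hom.preimage_top q).ge) hWV₀)
  rw [h1, h2, e3, e4]

include hPL hj1 hpoly in
/-- For `L|V` free on `s`: a point of `Proj 𝒮L(V)` over a given prime of `Γ(X, V)`. -/
lemma exists_chartPt (V : X.Opens) (hV : IsAffineOpen V) (s : Γ(L, V)) (hs : IsGen L V s)
    (𝔭 : PrimeSpectrum Γ(X, V)) :
    ∃ w : Proj (𝒮L.deg V hV),
      (∀ a : Γ(X, V), (𝒮L.str.app (op V)).hom a ∈ w.asHomogeneousIdeal ↔ a ∈ 𝔭.asIdeal) ∧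
      pL.base ((RelProj.emb pL chartL V hV).base w) = hV.fromSpec.base 𝔭 := by
  have hT := hj1 V hV s
  have hb := hpoly V hV s hs
  have hσ : ∀ r, (𝒮L.str.app (op V)).hom r ∈ 𝒮L.deg V hV 0 := fun r ↦ 𝒮L.str_mem V hV r
  let lamV := lam (ℬ := 𝒮L.deg V hV) (𝒮L.str.app (op V)).hom (jel L 𝒮L j V s) hb
  let qq : Spec (CommRingCat.of (HomogeneousLocalization.Away (𝒮L.deg V hV) (jel L 𝒮L j V s))) :=
    ⟨𝔭.asIdeal.comap lamV, inferInstance⟩
  let w : Proj (𝒮L.deg V hV) :=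
    (Proj.awayι (𝒮L.deg V hV) (jel L 𝒮L j V s) hT Nat.one_pos).base qq
  have hw : ∀ a : Γ(X, V), (𝒮L.str.app (op V)).hom a ∈ w.asHomogeneousIdeal ↔ a ∈ 𝔭.asIdeal := by
    intro a
    refine (mem_awayι_iff_mk1 hT qq (hσ a)).trans ?_
    change lamV (mk1 (𝒮L.deg V hV) hT 0 _ (hσ a)) ∈ 𝔭.asIdeal ↔ _
    rw [lam_mk1, ev1_f]
  refine ⟨w, hw, ?_⟩
  have h1 := congrArg (fun g ↦ g.base w) (emb_comp hPL V hV)
  have h1' : pL.base ((RelProj.emb pL chartL V hV).base w) =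
      hV.fromSpec.base ((Spec.map (𝒮L.strZero V hV)).base
        ((Proj.toSpecZero (𝒮L.deg V hV)).base w)) := h1
  rw [h1']
  congr 1
  apply PrimeSpectrum.ext
  ext a
  change (𝒮L.strZero V hV).hom a ∈ ((Proj.toSpecZero (𝒮L.deg V hV)).base w).asIdeal ↔ _
  rw [mem_toSpecZero_iff]
  exact hw a

include hPL hj1 hpoly hL in
/-- `Proj(Sym L) ⟶ X` is surjective. -/
lemma surjective_pL : Function.Surjective pL.base := by
  intro x
  obtain ⟨V₁, hx₁, s₁, hs₁⟩ := (isInvertible_iff_exists_isGen L).mp hL x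
  obtain ⟨_, ⟨V, hV, rfl⟩, hxV, hVV₁⟩ := X.isBasis_affineOpens.exists_subset_of_mem_open
    hx₁ V₁.isOpen
  have hVV₁' : V ≤ V₁ := hVV₁
  have hs := hs₁.mono hVV₁'
  obtain ⟨w, -, hw⟩ := exists_chartPt L 𝒮L j pL chartL hPL hj1 hpoly V hV _ hs
    (hV.primeIdealOf ⟨x, hxV⟩)
  exact ⟨_, hw.trans (hV.fromSpec_primeIdealOf ⟨x, hxV⟩)⟩

include hPL hgen hj1 hpoly hL in
/-- `r_{L,ψ}` is everywhere defined iff the `X_{u s}` cover `X` (core of S12145). -/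
theorem domQ_eq_top_iff :
    RelProj.domQ u pL chartL = ⊤ ↔
      ∀ x : X, ∃ (n : ℕ) (_ : 0 < n) (s : 𝒮.presheaf.obj (op ⊤)) (_ : s ∈ 𝒮.deg ⊤ hY n)
        (V : X.Opens) (hV : IsAffineOpen V), x ∈ V ∧
          ((𝒮L.deg V hV n : AddSubgroup (𝒮L.presheaf.obj (op V))) :
              Set (𝒮L.presheaf.obj (op V))) ⊆
            (Ideal.span {(u.appLE ⊤ V (le_top.trans (Scheme.Hom.preimage_top q).ge)).hom s} :
              Set (𝒮L.presheaf.obj (op V))) := by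
  constructor
  · intro h x
    obtain ⟨x', rfl⟩ := surjective_pL L hL 𝒮L j pL chartL hPL hj1 hpoly x
    obtain ⟨_, ⟨V, hV, rfl⟩, hxV, -⟩ := X.isBasis_affineOpens.exists_subset_of_mem_open
      (Set.mem_univ (pL.base x')) isOpen_univ
    have hx'V : x' ∈ pL ⁻¹ᵁ V := hxV
    have hw := emb_apply_chart pL chartL V hV x' hx'V
    set w := chartPt pL chartL V hV x' hx'V with hwdef
    have hmem : (RelProj.emb pL chartL V hV).base w ∈ RelProj.domQ u pL chartL := by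
      rw [h]; trivial
    rw [emb_mem_domQ_iff q 𝒮 𝒮L u pL chartL hPL ⊤ hY V hV
      (le_top.trans (Scheme.Hom.preimage_top q).ge)] at hmem
    obtain ⟨e, he, g, hg, hwg⟩ := exists_homogeneous_of_mem_domOpen _ w hmem
    have hnot : u.gradedAt ⊤ hY V hV (le_top.trans (Scheme.Hom.preimage_top q).ge) g ∉
        w.asHomogeneousIdeal := (Proj.mem_basicOpen _ _ _).mp hwg
    have hXT := mem_XT_of_notMem q L hL 𝒮 𝒮L j u pL chartL hPL hj1 hpoly hY g hg V hV w hnot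
    rw [hw] at hXT
    obtain ⟨V', hV', hxV', hsub⟩ := (mem_XT_iff q 𝒮 𝒮L u e g _).mp hXT
    exact ⟨e, he, g, hg, V', hV', hxV', hsub⟩
  · intro h
    rw [eq_top_iff]
    intro x' _
    obtain ⟨n, hn, s, hs, V, hV, hxV, hsub⟩ := h (pL.base x')
    have hx'V : x' ∈ pL ⁻¹ᵁ V := hxV
    have hw := emb_apply_chart pL chartL V hV x' hx'V
    set w := chartPt pL chartL V hV x' hx'V with hwdef
    have hnot := notMem_of_subset q 𝒮 𝒮L u hgen hY s V hV w hsub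
    have hmem : (RelProj.emb pL chartL V hV).base w ∈ RelProj.domQ u pL chartL :=
      mem_domQ_of_notMem q 𝒮 𝒮L u pL chartL ⊤ hY V hV
        (le_top.trans (Scheme.Hom.preimage_top q).ge) hn s hs w hnot
    rwa [hw] at hmem

variable (r : ((RelProj.domQ u pL chartL : PL.Opens) : Scheme.{u}) ⟶ P)
  (hr : RelProj.IsProjQMapOn u p chart pL chartL (RelProj.domQ u pL chartL) r)

include hP hPL hj1 hpoly hL hr in
/-- `r_{L,ψ}` is dominant iff `u s` locally nilpotent implies `s` nilpotent (core of S12146). -/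
theorem isDominant_iff :
    IsDominant r ↔
      ∀ (n : ℕ), 0 < n → ∀ s ∈ 𝒮.deg ⊤ hY n,
        (∀ x : X, ∃ (V : X.Opens) (_ : IsAffineOpen V), x ∈ V ∧
          IsNilpotent ((u.appLE ⊤ V (le_top.trans (Scheme.Hom.preimage_top q).ge)).hom s)) →
          IsNilpotent s := by
  constructor
  · intro hdom n hn s hs hloc
    by_contra hnil
    obtain ⟨z₀, hz₀⟩ := basicOpen_nonempty hn hs hnil
    obtain ⟨y, hy⟩ := hdom.denseRange.exists_mem_open
      ((RelProj.emb p chart ⊤ hY) ''ᵁ Proj.basicOpen (𝒮.deg ⊤ hY) s).isOpen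
      ⟨_, ⟨z₀, hz₀, rfl⟩⟩
    obtain ⟨V, hV, hle, w, hw, hnot⟩ :=
      (mem_preimage_basic_iff q 𝒮 𝒮L u p chart hP pL chartL hPL r hr ⊤ hY hn s hs y).mp hy
    set x' := (RelProj.domQ u pL chartL).ι.base y with hx'
    have hx'V : x' ∈ pL ⁻¹ᵁ V := by rw [← hw]; exact range_emb_le pL chartL V hV w
    have hwc : chartPt pL chartL V hV x' hx'V = w :=
      (RelProj.emb pL chartL V hV).isOpenEmbedding.injective
        ((emb_apply_chart pL chartL V hV x' hx'V).trans hw.symm)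
    obtain ⟨V₀, hV₀, hxV₀, hnil₀⟩ := hloc (pL.base x')
    have hx'V₀ : x' ∈ pL ⁻¹ᵁ V₀ := hxV₀
    have hci := chart_indep q 𝒮 𝒮L u pL chartL hPL hY s x' V hV hx'V V₀ hV₀ hx'V₀
    rw [hwc] at hci
    apply hnot
    rw [hci]
    obtain ⟨k, hk⟩ := hnil₀
    refine (chartPt pL chartL V₀ hV₀ x' hx'V₀).isPrime.mem_of_pow_mem k ?_
    change ((u.appLE ⊤ V₀ (le_top.trans (Scheme.Hom.preimage_top q).ge)).hom s) ^ k ∈ _
    rw [hk]
    exact zero_mem _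
  · intro h
    refine ⟨dense_iff_inter_open.mpr fun O hO hOne ↦ ?_⟩
    obtain ⟨z, hz⟩ := hOne
    have hzt : z ∈ p ⁻¹ᵁ (⊤ : Y.Opens) := trivial
    have hz₀ := emb_apply_chart p chart ⊤ hY z hzt
    set z₀ := chartPt p chart ⊤ hY z hzt with hz₀def
    have hz₀O : z₀ ∈ (RelProj.emb p chart ⊤ hY) ⁻¹ᵁ (⟨O, hO⟩ : P.Opens) := by
      change (RelProj.emb p chart ⊤ hY).base z₀ ∈ O
      rw [hz₀]; exact hz
    obtain ⟨e, he, g, hg, hz₀g, hgO⟩ := exists_homogeneous_basicOpen_le z₀ _ hz₀O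
    have hgnil : ¬ IsNilpotent g := by
      rintro ⟨k, hk⟩
      apply (Proj.mem_basicOpen _ _ _).mp hz₀g
      refine z₀.isPrime.mem_of_pow_mem k ?_
      rw [hk]; exact zero_mem _
    have hcon := mt (h e he g hg) hgnil
    push Not at hcon
    obtain ⟨x, hx⟩ := hcon
    obtain ⟨V₁, hx₁, s₁, hs₁⟩ := (isInvertible_iff_exists_isGen L).mp hL x
    obtain ⟨_, ⟨V, hV, rfl⟩, hxV, hVV₁⟩ := X.isBasis_affineOpens.exists_subset_of_mem_open
      hx₁ V₁.isOpen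
    have hVV₁' : V ≤ V₁ := hVV₁
    have hs := hs₁.mono hVV₁'
    set s := L.presheaf.map (homOfLE hVV₁').op s₁ with hsdef
    have hT := hj1 V hV s
    have hb := hpoly V hV s hs
    have hσ : ∀ a, (𝒮L.str.app (op V)).hom a ∈ 𝒮L.deg V hV 0 := fun a ↦ 𝒮L.str_mem V hV a
    have htdeg : u.gradedAt ⊤ hY V hV (le_top.trans (Scheme.Hom.preimage_top q).ge) g ∈
        𝒮L.deg V hV e := (u.gradedAt ⊤ hY V hV (le_top.trans (Scheme.Hom.preimage_top q).ge)).2 hg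
    obtain ⟨a, hta⟩ := (mem_deg_iff (𝒮L.deg V hV) _ hσ _ hT hb e _).mp htdeg
    have hanil : ¬ IsNilpotent a := by
      intro hcon
      apply hx V hV hxV
      change IsNilpotent (u.gradedAt ⊤ hY V hV (le_top.trans (Scheme.Hom.preimage_top q).ge) g)
      rw [hta]
      exact (isNilpotent_mul_pow_iff (𝒮L.str.app (op V)).hom _ hb e a).mpr hcon
    have hne : ∃ 𝔭 : PrimeSpectrum Γ(X, V), a ∉ 𝔭.asIdeal := by
      by_contra hcon
      push Not at hcon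
      apply hanil
      rw [← PrimeSpectrum.basicOpen_eq_bot_iff]
      ext 𝔭
      constructor
      · intro h𝔭
        exact absurd (hcon 𝔭) h𝔭
      · intro h𝔭
        exact absurd h𝔭 (Set.notMem_empty _)
    obtain ⟨𝔭, h𝔭⟩ := hne
    obtain ⟨w, hw, -⟩ := exists_chartPt L 𝒮L j pL chartL hPL hj1 hpoly V hV s hs 𝔭
    have hnot : u.gradedAt ⊤ hY V hV (le_top.trans (Scheme.Hom.preimage_top q).ge) g ∉
        w.asHomogeneousIdeal := by
      rw [hta, mul_pow_mem_iff (𝒮L.deg V hV) _ hσ _ hT hb w a e, hw a]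
      exact h𝔭
    have hmem : (RelProj.emb pL chartL V hV).base w ∈ RelProj.domQ u pL chartL :=
      mem_domQ_of_notMem q 𝒮 𝒮L u pL chartL ⊤ hY V hV
        (le_top.trans (Scheme.Hom.preimage_top q).ge) he g hg w hnot
    have hry := (mem_preimage_basic_iff q 𝒮 𝒮L u p chart hP pL chartL hPL r hr ⊤ hY he g hg
      ⟨_, hmem⟩).mpr ⟨V, hV, le_top.trans (Scheme.Hom.preimage_top q).ge, w, rfl, hnot⟩
    obtain ⟨z₁, hz₁g, hz₁⟩ := hry
    refine ⟨r.base ⟨_, hmem⟩, ?_, ⟨_, rfl⟩⟩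
    have : (RelProj.emb p chart ⊤ hY).base z₁ ∈ O := hgO hz₁g
    rw [← hz₁]
    exact this

end Groth.Agent.Lib.H60LineProjQ
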