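import Groth.Agent.Lib.H60LineProjQ2

/-!
# The morphisms `r_{L,ψ}` over an affine open `W` of the base (EGA II 3.7)

Versions of `H60LineProjQ` for sections of `𝒮` over an arbitrary affine open `W ⊆ Y`.
-/

set_option autoImplicit false
universe u
open CategoryTheory CategoryTheory.Limits AlgebraicGeometry TopologicalSpace Opposite
open scoped HomogeneousIdeal
noncomputable section

namespace Groth.Agent.Lib.H60LineProjQW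

open Groth.Agent.Lib.ProjQMap Groth.Agent.Lib.ProjQMapOn
open Groth.Agent.Lib.H60ProjQPts Groth.Agent.Lib.H60ProjQComp
open Groth.Agent.Lib.H60LineBundle Groth.Agent.Lib.H60LineAlg Groth.Agent.Lib.H90Invertible
open Groth.Agent.Lib.H60LineProjQ

variable {Y X P PL : Scheme.{u}} (q : X ⟶ Y)
  (L : X.Modules) (hL : PicF.IsInvertible L)
  (𝒮 : RelProj.QCGrAlg Y) (𝒮L : RelProj.QCGrAlg X) (j : L ⟶ 𝒮L.toModule)
  (u : RelProj.QGrHom q 𝒮 𝒮L)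
  (p : P ⟶ Y)
  (chart : ∀ (U : Y.Opens) (hU : IsAffineOpen U),
    (((p ⁻¹ᵁ U : P.Opens) : Scheme.{u}) ≅ Proj (𝒮.deg U hU)))
  (hP : RelProj.IsRelProj 𝒮 p chart)
  (pL : PL ⟶ X)
  (chartL : ∀ (U : X.Opens) (hU : IsAffineOpen U),
    (((pL ⁻¹ᵁ U : PL.Opens) : Scheme.{u}) ≅ Proj (𝒮L.deg U hU)))
  (hPL : RelProj.IsRelProj 𝒮L pL chartL)
  (hgen : 𝒮L.IsGenDegOne)
  (hj1 : ∀ (V : X.Opens) (hV : IsAffineOpen V) (s : Γ(L, V)),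
    jel L 𝒮L j V s ∈ 𝒮L.deg V hV 1)
  (hpoly : ∀ (V : X.Opens) (_ : IsAffineOpen V) (s : Γ(L, V)), IsGen L V s →
    Function.Bijective (Polynomial.eval₂RingHom (𝒮L.str.app (op V)).hom (jel L 𝒮L j V s)))
  (W : Y.Opens) (hW : IsAffineOpen W)

/-- The open `X_t ⊆ q⁻¹(W)` for `t = u(f)`, `f ∈ 𝒮(W)`: union of the affine opens `V ⊆ q⁻¹(W)`
with `𝒮L(V)_n ⊆ (t|V)`. -/
def XTW (n : ℕ) (f : 𝒮.presheaf.obj (op W)) : X.Opens :=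
  ⨆ V : {V : X.affineOpens // ∃ hle : (V.1 : X.Opens) ≤ q ⁻¹ᵁ W,
    ((𝒮L.deg V.1 V.2 n : AddSubgroup (𝒮L.presheaf.obj (op (V.1 : X.Opens)))) :
        Set (𝒮L.presheaf.obj (op (V.1 : X.Opens)))) ⊆
      (Ideal.span {(u.appLE W (V.1 : X.Opens) hle).hom f} :
        Set (𝒮L.presheaf.obj (op (V.1 : X.Opens))))},
    (V.1.1 : X.Opens)

lemma mem_XTW_iff (n : ℕ) (f : 𝒮.presheaf.obj (op W)) (x : X) :
    x ∈ XTW q 𝒮 𝒮L u W n f ↔ ∃ (V : X.Opens) (hV : IsAffineOpen V) (hle : V ≤ q ⁻¹ᵁ W), x ∈ V ∧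
      ((𝒮L.deg V hV n : AddSubgroup (𝒮L.presheaf.obj (op V))) : Set (𝒮L.presheaf.obj (op V))) ⊆
        (Ideal.span {(u.appLE W V hle).hom f} : Set (𝒮L.presheaf.obj (op V))) := by
  constructor
  · intro h
    obtain ⟨⟨⟨V, hV⟩, hle, hsub⟩, hx⟩ := Opens.mem_iSup.mp h
    exact ⟨V, hV, hle, hx, hsub⟩
  · rintro ⟨V, hV, hle, hx, hsub⟩
    exact Opens.mem_iSup.mpr ⟨⟨⟨V, hV⟩, hle, hsub⟩, hx⟩

lemma XTW_le (n : ℕ) (f : 𝒮.presheaf.obj (op W)) : XTW q 𝒮 𝒮L u W n f ≤ q ⁻¹ᵁ W := by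
  intro x hx
  obtain ⟨V, hV, hle, hxV, -⟩ := (mem_XTW_iff q 𝒮 𝒮L u W n f x).mp hx
  exact hle hxV

/-- For `W = ⊤` this is the open `XT` of `H60LineProjQ`. -/
lemma XTW_top (n : ℕ) (f : 𝒮.presheaf.obj (op ⊤)) :
    XTW q 𝒮 𝒮L u ⊤ n f = XT q 𝒮 𝒮L u n f := by
  ext x
  change x ∈ XTW q 𝒮 𝒮L u ⊤ n f ↔ x ∈ XT q 𝒮 𝒮L u n f
  rw [mem_XTW_iff, mem_XT_iff]
  constructor
  · rintro ⟨V, hV, hle, hx, hsub⟩
    exact ⟨V, hV, hx, hsub⟩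
  · rintro ⟨V, hV, hx, hsub⟩
    exact ⟨V, hV, _, hx, hsub⟩

include hPL hj1 hpoly hL in
lemma mem_XTW_of_notMem {n : ℕ} (f : 𝒮.presheaf.obj (op W)) (hf : f ∈ 𝒮.deg W hW n)
    (V : X.Opens) (hV : IsAffineOpen V) (hle : V ≤ q ⁻¹ᵁ W) (w : Proj (𝒮L.deg V hV))
    (hw : u.gradedAt W hW V hV hle f ∉ w.asHomogeneousIdeal) :
    pL.base ((RelProj.emb pL chartL V hV).base w) ∈ XTW q 𝒮 𝒮L u W n f := by
  obtain ⟨V', hV', hle', hx, hsub⟩ := exists_affine_subset_span L 𝒮L j pL chartL hPL hj1 hpoly hL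
    V hV w n (u.gradedAt W hW V hV hle f) ((u.gradedAt W hW V hV hle).2 hf) hw
  refine (mem_XTW_iff q 𝒮 𝒮L u W n f _).mpr ⟨V', hV', hle'.trans hle, hx, ?_⟩
  have e : (𝒮L.presheaf.map (homOfLE hle').op).hom ((u.gradedAt W hW V hV hle) f) =
      (u.appLE W V' (hle'.trans hle)).hom f :=
    congrArg (fun k ↦ k.hom f) (u.appLE_map hle hle')
  rw [e] at hsub
  exact hsub

include hgen in
lemma notMem_of_subsetW {n : ℕ} (f : 𝒮.presheaf.obj (op W))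
    (V : X.Opens) (hV : IsAffineOpen V) (hle : V ≤ q ⁻¹ᵁ W) (w : Proj (𝒮L.deg V hV))
    (hsub : ((𝒮L.deg V hV n : AddSubgroup (𝒮L.presheaf.obj (op V))) :
        Set (𝒮L.presheaf.obj (op V))) ⊆
      (Ideal.span {(u.appLE W V hle).hom f} : Set (𝒮L.presheaf.obj (op V)))) :
    u.gradedAt W hW V hV hle f ∉ w.asHomogeneousIdeal :=
  notMem_of_deg_subset_span (𝒮L.deg V hV) (hgen V hV) w n _ hsub

variable (r : ((RelProj.domQ u pL chartL : PL.Opens) : Scheme.{u}) ⟶ P)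
  (hr : RelProj.IsProjQMapOn u p chart pL chartL (RelProj.domQ u pL chartL) r)

include hP hPL hgen hj1 hpoly hL hr in
/-- `r⁻¹(D₊(f)) = pL⁻¹(X_{u f})` for `f ∈ 𝒮(W)_d`. -/
theorem preimage_basicOpen_eqW {d : ℕ} (hd : 0 < d) (f : 𝒮.presheaf.obj (op W))
    (hf : f ∈ 𝒮.deg W hW d) :
    (RelProj.domQ u pL chartL).ι ''ᵁ
        (r ⁻¹ᵁ ((RelProj.emb p chart W hW) ''ᵁ Proj.basicOpen (𝒮.deg W hW) f)) =
      pL ⁻¹ᵁ XTW q 𝒮 𝒮L u W d f := by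
  ext x'
  constructor
  · rintro ⟨y, hy, rfl⟩
    obtain ⟨V, hV, hle, w, hw, hnot⟩ :=
      (mem_preimage_basic_iff q 𝒮 𝒮L u p chart hP pL chartL hPL r hr W hW hd f hf y).mp hy
    change pL.base ((RelProj.domQ u pL chartL).ι.base y) ∈ XTW q 𝒮 𝒮L u W d f
    rw [← hw]
    exact mem_XTW_of_notMem q L hL 𝒮 𝒮L j u pL chartL hPL hj1 hpoly W hW f hf V hV hle w hnot
  · intro hx'
    obtain ⟨V, hV, hle, hxV, hsub⟩ := (mem_XTW_iff q 𝒮 𝒮L u W d f _).mp hx'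
    have hx'V : x' ∈ pL ⁻¹ᵁ V := hxV
    have hw := emb_apply_chart pL chartL V hV x' hx'V
    set w := chartPt pL chartL V hV x' hx'V with hwdef
    have hnot := notMem_of_subsetW q 𝒮 𝒮L u hgen W hW f V hV hle w hsub
    have hmem : (RelProj.emb pL chartL V hV).base w ∈ RelProj.domQ u pL chartL :=
      mem_domQ_of_notMem q 𝒮 𝒮L u pL chartL W hW V hV hle hd f hf w hnot
    rw [hw] at hmem
    refine ⟨⟨x', hmem⟩, ?_, rfl⟩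
    exact (mem_preimage_basic_iff q 𝒮 𝒮L u p chart hP pL chartL hPL r hr W hW hd f hf
      ⟨x', hmem⟩).mpr ⟨V, hV, hle, w, hw, hnot⟩

omit r hr in
include hPL in
/-- Vanishing of `u f` at a point of `Proj(𝒮L)` does not depend on the affine chart. -/
lemma chart_indepW (f : 𝒮.presheaf.obj (op W)) (x' : PL)
    (V : X.Opens) (hV : IsAffineOpen V) (hle : V ≤ q ⁻¹ᵁ W) (hx : x' ∈ pL ⁻¹ᵁ V)
    (V₀ : X.Opens) (hV₀ : IsAffineOpen V₀) (hle₀ : V₀ ≤ q ⁻¹ᵁ W) (hx₀ : x' ∈ pL ⁻¹ᵁ V₀) :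
    u.gradedAt W hW V hV hle f ∈ (chartPt pL chartL V hV x' hx).asHomogeneousIdeal ↔
      u.gradedAt W hW V₀ hV₀ hle₀ f ∈ (chartPt pL chartL V₀ hV₀ x' hx₀).asHomogeneousIdeal := by
  obtain ⟨W', hW₁, hW₂, hxW, -⟩ := Groth.Agent.S8281.exists_common_basic
    (⟨V, hV⟩ : X.AffineZariskiSite) ⟨V₀, hV₀⟩ ⊤ (pL.base x') hx hx₀ trivial
  obtain ⟨r₁, hr₁⟩ := hW₁
  obtain ⟨r₂, hr₂⟩ := hW₂
  have hr₁' : X.basicOpen r₁ = W'.1 := hr₁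
  have hr₂' : X.basicOpen r₂ = W'.1 := hr₂
  have hWV : W'.1 ≤ V := by rw [← hr₁']; exact X.basicOpen_le r₁
  have hWV₀ : W'.1 ≤ V₀ := by rw [← hr₂']; exact X.basicOpen_le r₂
  have hW' : IsAffineOpen W'.1 := W'.2
  have hxW' : x' ∈ pL ⁻¹ᵁ W'.1 := hxW
  have e0 := emb_apply_chart pL chartL W'.1 hW' x' hxW'
  have e1 := emb_apply_chart pL chartL V hV x' hx
  have e2 := emb_apply_chart pL chartL V₀ hV₀ x' hx₀
  have h1 := mem_iff_res_mem' hPL V hV r₁ W'.1 hW' hr₁' hWV (chartPt pL chartL V hV x' hx)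
    (chartPt pL chartL W'.1 hW' x' hxW') (e0.trans e1.symm) (u.gradedAt W hW V hV hle f)
  have h2 := mem_iff_res_mem' hPL V₀ hV₀ r₂ W'.1 hW' hr₂' hWV₀ (chartPt pL chartL V₀ hV₀ x' hx₀)
    (chartPt pL chartL W'.1 hW' x' hxW') (e0.trans e2.symm) (u.gradedAt W hW V₀ hV₀ hle₀ f)
  have e3 : (𝒮L.res hV hW' hWV) (u.gradedAt W hW V hV hle f) =
      (u.appLE W W'.1 (hWV.trans hle)).hom f :=
    congrArg (fun k ↦ k.hom f) (u.appLE_map hle hWV)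
  have e4 : (𝒮L.res hV₀ hW' hWV₀) (u.gradedAt W hW V₀ hV₀ hle₀ f) =
      (u.appLE W W'.1 (hWV.trans hle)).hom f :=
    congrArg (fun k ↦ k.hom f) (u.appLE_map hle₀ hWV₀)
  rw [h1, h2, e3, e4]

end Groth.Agent.Lib.H60LineProjQW
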