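import Groth.Agent.S3595
import Groth.Agent.S3575
import Mathlib.AlgebraicGeometry.Morphisms.Affine

/-!
# The morphism `G(φ) ⟶ Proj 𝒜` induced by a graded ring hom (Prelude `PCone`)

For `φ : 𝒜 →+*ᵍ ℬ` and any `p : G(φ) ⟶ Proj 𝒜` with the standard chart description:
* `mem_iff`: homogeneous `a` lies in `p z` iff `φ a` lies in `z`;
* `preimage_basicOpen`: `p⁻¹ D₊(f) = D₊(φ f) ∩ G(φ)`;
* `opensRange_chart`, `isPullback_chart`: the chart square is cartesian.
-/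

set_option autoImplicit false
universe u
open AlgebraicGeometry CategoryTheory Limits

namespace Groth.Agent.Lib.H60PConeMap

open Groth.Agent.S3595 Groth.Agent.S3575

variable {R A : Type u} [CommRing R] [CommRing A] [Algebra R A] {𝒜 : ℕ → Submodule R A}
  [GradedAlgebra 𝒜] {B : Type u} [CommRing B] [Algebra R B] {ℬ : ℕ → Submodule R B}
  [GradedAlgebra ℬ] (φ : 𝒜 →+*ᵍ ℬ)
  (p : (PCone.dom φ : Scheme.{u}) ⟶ Proj 𝒜)
  (hp : ∀ (d : ℕ) (f : A) (hd : 0 < d) (hf : f ∈ 𝒜 d),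
    PCone.chart φ hf hd ≫ p =
      Spec.map (CommRingCat.ofHom (HomogeneousLocalization.Away.map φ f)) ≫ Proj.awayι 𝒜 f hf hd)

include hp in
/-- On points, `p z` is the homogeneous prime `φ⁻¹ z`. -/
lemma mem_iff (z : (PCone.dom φ : Scheme.{u})) {n : ℕ} {a : A} (ha : a ∈ 𝒜 n) :
    a ∈ (p.base z).asHomogeneousIdeal ↔ φ a ∈ ((PCone.dom φ).ι.base z).asHomogeneousIdeal := by
  obtain ⟨i, y, rfl⟩ := (cover φ).exists_eq z
  obtain ⟨d, f, hd, hf⟩ := i
  have key : ∀ y : Spec (CommRingCat.of (HomogeneousLocalization.Away ℬ (φ f))),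
      a ∈ ((PCone.chart φ hf hd ≫ p).base y).asHomogeneousIdeal ↔
        φ a ∈ ((PCone.chart φ hf hd ≫ (PCone.dom φ).ι).base y).asHomogeneousIdeal := by
    intro y
    rw [hp d f hd hf, chart_ι]
    have ha' : a ^ d ∈ 𝒜 (n • d) := by
      have := SetLike.pow_mem_graded d ha
      rwa [smul_eq_mul, mul_comm] at this
    have ha'' : (φ a) ^ d ∈ ℬ (n • d) := by
      rw [← map_pow]; exact φ.2 ha'
    change a ∈ ((Proj.awayι 𝒜 f hf hd).base ((Spec.map (CommRingCat.ofHom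
      (HomogeneousLocalization.Away.map φ f))).base y)).asHomogeneousIdeal ↔ _
    refine (mem_awayι_iff hf hd _ ha').trans ?_
    refine Iff.trans ?_ (mem_awayι_iff (φ.2 hf) hd y ha'').symm
    change HomogeneousLocalization.Away.map φ f
      (HomogeneousLocalization.Away.mk 𝒜 hf n (a ^ d) ha') ∈ y.asIdeal ↔ _
    rw [HomogeneousLocalization.Away.map_mk]
    simp only [map_pow]
  exact key y

include hp in
lemma preimage_basicOpen {d : ℕ} {f : A} (hf : f ∈ 𝒜 d) :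
    p ⁻¹ᵁ Proj.basicOpen 𝒜 f = (PCone.dom φ).ι ⁻¹ᵁ Proj.basicOpen ℬ (φ f) := by
  ext z
  change p.base z ∈ Proj.basicOpen 𝒜 f ↔ (PCone.dom φ).ι.base z ∈ Proj.basicOpen ℬ (φ f)
  rw [Proj.mem_basicOpen, Proj.mem_basicOpen]
  exact not_congr (mem_iff φ p hp z hf)

omit [GradedAlgebra 𝒜] in
lemma opensRange_chart {d : ℕ} {f : A} (hf : f ∈ 𝒜 d) (hd : 0 < d) :
    (PCone.chart φ hf hd).opensRange = (PCone.dom φ).ι ⁻¹ᵁ Proj.basicOpen ℬ (φ f) := by
  ext z
  rw [← Proj.opensRange_awayι ℬ (φ f) (φ.2 hf) hd]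
  constructor
  · rintro ⟨y, rfl⟩
    refine ⟨y, ?_⟩
    rw [← chart_ι φ hf hd]
    rfl
  · rintro ⟨y, hy⟩
    refine ⟨y, ?_⟩
    apply (PCone.dom φ).ι.isOpenEmbedding.injective
    rw [← hy, ← chart_ι φ hf hd]
    rfl

include hp in
/-- The chart square of `p` is cartesian. -/
lemma isPullback_chart {d : ℕ} {f : A} (hf : f ∈ 𝒜 d) (hd : 0 < d) :
    IsPullback (Spec.map (CommRingCat.ofHom (HomogeneousLocalization.Away.map φ f)))
      (PCone.chart φ hf hd) (Proj.awayι 𝒜 f hf hd) p :=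
  IsOpenImmersion.isPullback _ _ _ _ (hp d f hd hf)
    (by rw [Proj.opensRange_awayι, preimage_basicOpen φ p hp hf, opensRange_chart])

end Groth.Agent.Lib.H60PConeMap
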