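import Groth.Agent.Lib.H60PConeMap
import Groth.Agent.Lib.ProjChartH3
import Groth.Agent.Lib.H4TwistSec
import Groth.Agent.Lib.H4TwistGamma

/-!
# The morphism `G(φ) ⟶ Proj 𝒜` on functions (Prelude `PCone`; helper60)

For `φ : 𝒜 →+*ᵍ ℬ` and `p : G(φ) ⟶ Proj 𝒜` with the standard chart description:
* `appLE_spec`: a morphism from an affine scheme `Spec K` to `Proj 𝒜` of the form `Spec.map ψ ≫ awayι` acts on the
  functions `awayToSection z` through `ψ`;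
* `appLE_awayToSection`: `p♯ (a / f ^ k) = φ a / φ f ^ k` on `D₊(φ f)`;
* `locHom`, `oval_appLE`: the value at `z` of the pulled back function `p♯ τ` is the image under
  `A_{p z} → B_z` of the value of `τ` at `p z`.
-/

set_option autoImplicit false
universe u
open AlgebraicGeometry CategoryTheory Limits HomogeneousLocalization TopologicalSpace Opposite

namespace Groth.Agent.Lib.H60PConeSheaf

open Groth.Agent.S3595 Groth.Agent.Lib.H60PConeMap Groth.Agent.Lib.ProjChartH3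

section Spec

variable {R A : Type u} [CommRing R] [CommRing A] [Algebra R A] {𝒜 : ℕ → Submodule R A}
  [GradedAlgebra 𝒜]

/-- A morphism `Spec K ⟶ Proj 𝒜` of the form `Spec.map ψ ≫ awayι` acts on `awayToSection z` through `ψ`. -/
theorem appLE_spec {K : CommRingCat.{u}} {d : ℕ} {f : A} (hf : f ∈ 𝒜 d) (hd : 0 < d)
    (ψ : CommRingCat.of (Away 𝒜 f) ⟶ K) (r : Spec K ⟶ Proj 𝒜)
    (hr : r = Spec.map ψ ≫ Proj.awayι 𝒜 f hf hd) (e : (⊤ : (Spec K).Opens) ≤ r ⁻¹ᵁ Proj.basicOpen 𝒜 f)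
    (z : Away 𝒜 f) :
    (r.appLE (Proj.basicOpen 𝒜 f) ⊤ e).hom ((Proj.awayToSection 𝒜 f).hom z) =
      (Scheme.ΓSpecIso K).inv.hom (ψ.hom z) := by
  have h1 : (⊤ : (Spec K).Opens).ι ≫ r =
      chart 𝒜 hf hd (⊤ : (Spec K).Opens) ((Scheme.ΓSpecIso K).inv.hom.comp ψ.hom) := by
    unfold chart
    rw [hr, Scheme.Opens.toSpecΓ_top, Category.assoc]
    congr 1
    have : CommRingCat.ofHom ((Scheme.ΓSpecIso K).inv.hom.comp ψ.hom) = ψ ≫ (Scheme.ΓSpecIso K).inv := rfl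
    rw [this, Spec.map_comp, ← Category.assoc, ← Category.assoc, toSpecΓ_SpecMap_ΓSpecIso_inv,
      Category.id_comp]
  exact appLE_of_ι_comp_eq_chart hf hd ⊤ _ r h1 e z

end Spec

section PCone

variable {R A : Type u} [CommRing R] [CommRing A] [Algebra R A] {𝒜 : ℕ → Submodule R A}
  [GradedAlgebra 𝒜] {B : Type u} [CommRing B] [Algebra R B] {ℬ : ℕ → Submodule R B}
  [GradedAlgebra ℬ] (φ : 𝒜 →+*ᵍ ℬ)
  (p : (PCone.dom φ : Scheme.{u}) ⟶ Proj 𝒜)
  (hp : ∀ (d : ℕ) (f : A) (hd : 0 < d) (hf : f ∈ 𝒜 d),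
    PCone.chart φ hf hd ≫ p =
      Spec.map (CommRingCat.ofHom (HomogeneousLocalization.Away.map φ f)) ≫ Proj.awayι 𝒜 f hf hd)

include hp in
/-- `p♯ (a / f ^ k) = φ a / φ f ^ k` on the chart `D₊(φ f)`. -/
theorem appLE_awayToSection {d : ℕ} {f : A} (hf : f ∈ 𝒜 d) (hd : 0 < d)
    (U : (PCone.dom φ : Scheme.{u}).Opens) (hU : U = (PCone.chart φ hf hd) ''ᵁ ⊤)
    (e₁ : U ≤ p ⁻¹ᵁ Proj.basicOpen 𝒜 f)
    (e₂ : U ≤ (PCone.dom φ).ι ⁻¹ᵁ Proj.basicOpen ℬ (φ f)) (x : Away 𝒜 f) :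
    (p.appLE (Proj.basicOpen 𝒜 f) U e₁).hom ((Proj.awayToSection 𝒜 f).hom x) =
      ((PCone.dom φ).ι.appLE (Proj.basicOpen ℬ (φ f)) U e₂).hom
        ((Proj.awayToSection ℬ (φ f)).hom (Away.map φ f x)) := by
  subst hU
  have hinj : Function.Injective ((PCone.chart φ hf hd).appLE ((PCone.chart φ hf hd) ''ᵁ ⊤) ⊤
      (Scheme.Hom.preimage_image_eq _ _).ge).hom := by
    rw [← Scheme.Hom.appIso_hom']
    exact ((ConcreteCategory.isIso_iff_bijective ((PCone.chart φ hf hd).appIso ⊤).hom).mp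
      inferInstance).1
  apply hinj
  have h1 := Scheme.Hom.appLE_comp_appLE (PCone.chart φ hf hd) p (Proj.basicOpen 𝒜 f)
    ((PCone.chart φ hf hd) ''ᵁ ⊤) ⊤ e₁ (Scheme.Hom.preimage_image_eq _ _).ge
  have h2 := Scheme.Hom.appLE_comp_appLE (PCone.chart φ hf hd) (PCone.dom φ).ι
    (Proj.basicOpen ℬ (φ f)) ((PCone.chart φ hf hd) ''ᵁ ⊤) ⊤ e₂ (Scheme.Hom.preimage_image_eq _ _).ge
  have h1' := congrArg (fun k => k.hom ((Proj.awayToSection 𝒜 f).hom x)) h1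
  have h2' := congrArg (fun k => k.hom ((Proj.awayToSection ℬ (φ f)).hom (Away.map φ f x))) h2
  simp only [CommRingCat.hom_comp, RingHom.coe_comp, Function.comp_apply] at h1' h2'
  rw [h1', h2']
  rw [appLE_spec hf hd (CommRingCat.ofHom (Away.map φ f)) _ (hp d f hd hf) _ x]
  have hf' : φ f ∈ ℬ d := φ.2 hf
  rw [appLE_spec (f := φ f) hf' hd (𝟙 _) _ (by rw [chart_ι, Spec.map_id, Category.id_comp]) _ _]
  rfl

include hp in
/-- The prime `p z` is the inverse image under `φ` of the prime `z`. -/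
theorem comap_eq (z : (PCone.dom φ : Scheme.{u})) :
    (p.base z).asHomogeneousIdeal.toIdeal =
      Ideal.comap (φ : A →+* B) ((PCone.dom φ).ι.base z).asHomogeneousIdeal.toIdeal := by
  ext a
  rw [(p.base z).asHomogeneousIdeal.isHomogeneous.mem_iff,
    show Ideal.comap (φ : A →+* B) ((PCone.dom φ).ι.base z).asHomogeneousIdeal.toIdeal =
      (((PCone.dom φ).ι.base z).asHomogeneousIdeal.comap φ).toIdeal from rfl,
    (((PCone.dom φ).ι.base z).asHomogeneousIdeal.comap φ).isHomogeneous.mem_iff]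
  exact forall_congr' fun i => mem_iff φ p hp z (DirectSum.decompose 𝒜 a i).2

/-- The homomorphism of localizations `A_{p z} → B_z` induced by `φ`. -/
noncomputable def locHom (z : (PCone.dom φ : Scheme.{u})) :
    Twist.Loc 𝒜 (p.base z) →+* Twist.Loc ℬ ((PCone.dom φ).ι.base z) :=
  Localization.localRingHom _ _ (φ : A →+* B) (comap_eq φ p hp z)

include hp in
theorem mem_iff_map_mem (z : (PCone.dom φ : Scheme.{u})) (s : A) :
    s ∈ (p.base z).asHomogeneousIdeal.toIdeal ↔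
      φ s ∈ ((PCone.dom φ).ι.base z).asHomogeneousIdeal.toIdeal := by
  rw [comap_eq φ p hp z]
  exact Ideal.mem_comap

theorem locHom_mk (z : (PCone.dom φ : Scheme.{u})) (a : A)
    (s : (p.base z).asHomogeneousIdeal.toIdeal.primeCompl) :
    locHom φ p hp z (Localization.mk a s) =
      (Localization.mk (φ a) (⟨φ (s : A), fun h => s.2 ((mem_iff_map_mem φ p hp z s).mpr h)⟩ :
        ((PCone.dom φ).ι.base z).asHomogeneousIdeal.toIdeal.primeCompl) :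
        Twist.Loc ℬ ((PCone.dom φ).ι.base z)) := by
  rw [Localization.mk_eq_mk', Localization.mk_eq_mk']
  exact Localization.localRingHom_mk' _ _ _ _ a s

open Groth.Agent.Lib.H4Twist

omit [GradedAlgebra 𝒜] in
/-- The value at `z` of a function on an open of `G(φ)`. -/
noncomputable def ovalX {W : (PCone.dom φ : Scheme.{u}).Opens} (c : Γ((PCone.dom φ : Scheme.{u}), W))
    (z : (PCone.dom φ : Scheme.{u})) (hz : z ∈ W) : Twist.Loc ℬ ((PCone.dom φ).ι.base z) :=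
  oval (𝒜 := ℬ) (U := (PCone.dom φ).ι ''ᵁ W) c ⟨(PCone.dom φ).ι.base z, ⟨z, hz, rfl⟩⟩

omit [GradedAlgebra 𝒜] in
theorem ovalX_res {W W' : (PCone.dom φ : Scheme.{u}).Opens} (h : W' ≤ W)
    (c : Γ((PCone.dom φ : Scheme.{u}), W)) (z : (PCone.dom φ : Scheme.{u})) (hz : z ∈ W') :
    ovalX φ (((PCone.dom φ : Scheme.{u}).presheaf.map (homOfLE h).op).hom c) z hz = ovalX φ c z (h hz) :=
  rfl

omit [GradedAlgebra 𝒜] in
theorem ovalX_ι_appLE (V : (Proj ℬ).Opens) (W : (PCone.dom φ : Scheme.{u}).Opens)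
    (e : W ≤ (PCone.dom φ).ι ⁻¹ᵁ V) (s : Γ(Proj ℬ, V)) (z : (PCone.dom φ : Scheme.{u})) (hz : z ∈ W) :
    ovalX φ (((PCone.dom φ).ι.appLE V W e).hom s) z hz = oval s ⟨(PCone.dom φ).ι.base z, e hz⟩ := by
  unfold ovalX
  rw [Scheme.Opens.ι_appLE]
  rfl

theorem locHom_fUnit_zpow (z : (PCone.dom φ : Scheme.{u})) {f : A}
    (hf : f ∉ (p.base z).asHomogeneousIdeal)
    (hf' : φ f ∉ ((PCone.dom φ).ι.base z).asHomogeneousIdeal) (n : ℤ) :
    locHom φ p hp z (((fUnit (p.base z) f hf) ^ n : (Twist.Loc 𝒜 (p.base z))ˣ) : Twist.Loc 𝒜 (p.base z)) =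
      (((fUnit ((PCone.dom φ).ι.base z) (φ f) hf') ^ n : (Twist.Loc ℬ ((PCone.dom φ).ι.base z))ˣ) :
        Twist.Loc ℬ ((PCone.dom φ).ι.base z)) := by
  have h : Units.map (locHom φ p hp z).toMonoidHom (fUnit (p.base z) f hf) =
      fUnit ((PCone.dom φ).ι.base z) (φ f) hf' := by
    apply Units.ext
    rw [Units.coe_map]
    change locHom φ p hp z (Localization.mk f 1) = Localization.mk (φ f) 1
    rw [locHom_mk]
    congr 1
    exact Subtype.ext (map_one φ)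
  rw [← h, ← map_zpow, Units.coe_map]
  rfl

include hp in
theorem mem_chart_image {k : ℕ} {h : A} (hh : h ∈ 𝒜 k) (hk : 0 < k) (z : (PCone.dom φ : Scheme.{u}))
    (hz : h ∉ (p.base z).asHomogeneousIdeal) : z ∈ (PCone.chart φ hh hk) ''ᵁ ⊤ := by
  rw [Scheme.Hom.image_top_eq_opensRange, opensRange_chart φ hh hk, ← preimage_basicOpen φ p hp hh]
  exact hz

set_option maxHeartbeats 400000 in
/-- The value at `z` of `p♯ τ` is the image under `A_{p z} → B_z` of the value of `τ` at `p z`. -/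
theorem ovalX_appLE (V : (Proj 𝒜).Opens) (W : (PCone.dom φ : Scheme.{u}).Opens) (e : W ≤ p ⁻¹ᵁ V)
    (τ : Γ(Proj 𝒜, V)) (z : (PCone.dom φ : Scheme.{u})) (hz : z ∈ W) :
    ovalX φ ((p.appLE V W e).hom τ) z hz = locHom φ p hp z (oval τ ⟨p.base z, e hz⟩) := by
  obtain ⟨k, hk, h, hh, hhz, hle⟩ := exists_pos_basicOpen_le 𝒜 V (p.base z) (e hz)
  obtain ⟨x, hx⟩ := (awayToSection_bijective hh hk).2
    (((Proj 𝒜).presheaf.map (homOfLE hle).op).hom τ)
  obtain ⟨m, a, ha, rfl⟩ := Away.mk_surjective 𝒜 hh x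
  have hzU : z ∈ (PCone.chart φ hh hk) ''ᵁ ⊤ := mem_chart_image φ p hp hh hk z hhz
  have hU1 : (PCone.chart φ hh hk) ''ᵁ ⊤ ≤ p ⁻¹ᵁ Proj.basicOpen 𝒜 h := by
    rw [Scheme.Hom.image_top_eq_opensRange, opensRange_chart φ hh hk, preimage_basicOpen φ p hp hh]
  have hU2 : (PCone.chart φ hh hk) ''ᵁ ⊤ ≤ (PCone.dom φ).ι ⁻¹ᵁ Proj.basicOpen ℬ (φ h) := by
    rw [Scheme.Hom.image_top_eq_opensRange, opensRange_chart φ hh hk]
  have key := appLE_awayToSection φ p hp hh hk _ rfl hU1 hU2 (Away.mk 𝒜 hh m a ha)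
  -- restrict to `W ⊓ U`
  have hW'W : W ⊓ (PCone.chart φ hh hk) ''ᵁ ⊤ ≤ W := inf_le_left
  have hW'U : W ⊓ (PCone.chart φ hh hk) ''ᵁ ⊤ ≤ (PCone.chart φ hh hk) ''ᵁ ⊤ := inf_le_right
  have hzW' : z ∈ W ⊓ (PCone.chart φ hh hk) ''ᵁ ⊤ := ⟨hz, hzU⟩
  have e' : W ⊓ (PCone.chart φ hh hk) ''ᵁ ⊤ ≤ p ⁻¹ᵁ Proj.basicOpen 𝒜 h := hW'U.trans hU1
  have h1 : ((PCone.dom φ : Scheme.{u}).presheaf.map (homOfLE hW'W).op).hom ((p.appLE V W e).hom τ) =
      ((PCone.dom φ : Scheme.{u}).presheaf.map (homOfLE hW'U).op).hom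
        ((p.appLE (Proj.basicOpen 𝒜 h) _ hU1).hom
          ((Proj.awayToSection 𝒜 h).hom (Away.mk 𝒜 hh m a ha))) := by
    have e1 := Scheme.Hom.appLE_map p e (homOfLE hW'W).op
    have e2 := Scheme.Hom.map_appLE p (U := Proj.basicOpen 𝒜 h) (U' := V)
      (V := W ⊓ (PCone.chart φ hh hk) ''ᵁ ⊤) e' (homOfLE hle).op
    have e3 := Scheme.Hom.appLE_map p hU1 (homOfLE hW'U).op
    have e1' := congrArg (fun k => k.hom τ) e1
    have e2' := congrArg (fun k => k.hom τ) e2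
    have e3' := congrArg (fun k => k.hom ((Proj.awayToSection 𝒜 h).hom (Away.mk 𝒜 hh m a ha))) e3
    simp only [CommRingCat.hom_comp, RingHom.coe_comp, Function.comp_apply] at e1' e2' e3'
    rw [e1', e3', ← e2', hx]
  have h2 : ovalX φ ((p.appLE V W e).hom τ) z hz =
      ovalX φ (((PCone.dom φ : Scheme.{u}).presheaf.map (homOfLE hW'W).op).hom
        ((p.appLE V W e).hom τ)) z hzW' := (ovalX_res φ hW'W _ z hzW').symm
  rw [h2, h1, key, ovalX_res, ovalX_ι_appLE, Away.map_mk]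
  have hτ : oval τ ⟨p.base z, e hz⟩ =
      oval ((Proj.awayToSection 𝒜 h).hom (Away.mk 𝒜 hh m a ha)) ⟨p.base z, hhz⟩ := by
    rw [hx]
    rfl
  have hφh : φ h ∈ ℬ k := φ.2 hh
  rw [hτ, oval_awayToSection_mk hh, locHom_mk, oval_awayToSection_mk (𝒜 := ℬ) (f := φ h) hφh]
  congr 1
  exact Subtype.ext (map_pow φ h m).symm

end PCone

end Groth.Agent.Lib.H60PConeSheaf
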