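import Groth.Agent.Lib.GrModFTn
import Groth.Agent.Lib.GrTwistTilde
import Mathlib.RingTheory.Flat.EquationalCriterion

/-!
# Flatness of the sections of `O(n)` over `D₊(f)` when the graded pieces are eventually flat (helper60)

Let `A` be a graded ring which is an algebra over `R` through a map landing in degree `0`, and assume that the graded
pieces `A_m` are flat `R`-modules for `m ≥ d₀`.  Then for `f` homogeneous of positive degree the sections of `A(n)~`
(and of `O(n)`) over `D₊(f)` form a flat `R`-module, for the action of `R` through any ring map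
`ρ : R → Γ(D₊(f), O)` whose values are the images of the elements of `R` in the localizations (equational criterion
of flatness on the fractions `a / f ^ k`).

* `flat_tilde`, `flat_twist`, `flat_twist_of_eq`.
-/

set_option autoImplicit false
set_option linter.unusedSectionVars false
universe u
open CategoryTheory AlgebraicGeometry TopologicalSpace Opposite
open GrTwist

namespace Groth.Agent.Lib.H60ProjFlat

open Groth.Agent.Lib.GrModQCoh Groth.Agent.Lib.GrModFrac Groth.Agent.Lib.GrModVal Groth.Agent.Lib.GrModFT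
  Groth.Agent.Lib.GrModFTn

variable {R A : Type u} [CommRing R] [CommRing A] [Algebra R A] {𝒜 : ℕ → AddSubgroup A} [GradedRing 𝒜]

theorem algebraMap_mul_mem (hstr : ∀ r : R, algebraMap R A r ∈ 𝒜 0) (r : R) {i : ℕ} {a : A} (ha : a ∈ 𝒜 i) :
    algebraMap R A r * a ∈ 𝒜 i := by
  have := SetLike.GradedMul.mul_mem (hstr r) ha
  rwa [zero_add] at this

theorem mem_of_mem_span (hstr : ∀ r : R, algebraMap R A r ∈ 𝒜 0) {i : ℕ} {a : A}
    (ha : a ∈ Submodule.span R (𝒜 i : Set A)) : a ∈ 𝒜 i := by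
  induction ha using Submodule.span_induction with
  | mem x hx => exact hx
  | zero => exact zero_mem _
  | add x y _ _ hx hy => exact add_mem hx hy
  | smul r x _ hx =>
    rw [Algebra.smul_def]
    exact algebraMap_mul_mem hstr r hx

section Main

variable {d : ℕ} {f : A} (hf : f ∈ 𝒜 d) (n : ℤ)
  (ρ : R →+* Γ(Proj 𝒜, Proj.basicOpen 𝒜 f))
include hf

theorem rho_smul_frN (hstr : ∀ r : R, algebraMap R A r ∈ 𝒜 0)
    (hρ : ∀ (r : R) (x : Proj.basicOpen 𝒜 f), oval (ρ r) x = algebraMap A (Loc 𝒜 x.1) (algebraMap R A r))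
    {k i : ℕ} {m : A} (hm : m ∈ 𝒜 i) (hi : (i : ℤ) = k * d + n) (r : R) :
    ρ r • frN (ℳ := 𝒜) hf n k i m = frN (ℳ := 𝒜) hf n k i (algebraMap R A r * m) := by
  have hm' : algebraMap R A r * m ∈ 𝒜 i := algebraMap_mul_mem hstr r hm
  refine tsec_ext fun x => ?_
  rw [tval_smul, hρ, tval_frN hf hm hi, tval_frN hf hm' hi, ← Localization.mk_one_eq_algebraMap,
    LocalizedModule.mk_smul_mk, one_mul, smul_eq_mul]

/-- If `a / f ^ k` vanishes as a section over `D₊(f)`, a power of `f` kills `a`. -/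
theorem exists_pow_mul_eq_zero_of_frN (hd : 0 < d) {k i : ℕ} {m : A} (hm : m ∈ 𝒜 i) (hi : (i : ℤ) = k * d + n)
    (h0 : frN (ℳ := 𝒜) hf n k i m = 0) : ∃ N : ℕ, f ^ N * m = 0 := by
  obtain ⟨N, hN⟩ := exists_pow_smul_eq_zero 𝒜 𝒜 hd hf k i ⟨m, hm⟩ (fun x => by
    have h1 := tval_frN (ℳ := 𝒜) hf hm hi (⟨x.1, x.2⟩ : Proj.basicOpen 𝒜 f)
    rw [h0, tval_zero] at h1
    exact h1.symm)
  exact ⟨N, hN⟩

set_option maxHeartbeats 400000 in
/-- The sections of `A(n)~` over `D₊(f)` are flat over `R` when the graded pieces of `A` are eventually flat. -/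
theorem flat_tilde (hstr : ∀ r : R, algebraMap R A r ∈ 𝒜 0)
    (hρ : ∀ (r : R) (x : Proj.basicOpen 𝒜 f), oval (ρ r) x = algebraMap A (Loc 𝒜 x.1) (algebraMap R A r))
    (hd : 0 < d) (d₀ : ℕ)
    (hflat : ∀ m : ℕ, d₀ ≤ m → Module.Flat R ↥(Submodule.span R (𝒜 m : Set A))) :
    @Module.Flat R Γ(GrMod.tilde 𝒜 𝒜 n, Proj.basicOpen 𝒜 f) _ _ (Module.compHom _ ρ) := by
  letI : Module R Γ(GrMod.tilde 𝒜 𝒜 n, Proj.basicOpen 𝒜 f) := Module.compHom _ ρ
  have hsm : ∀ (r : R) (t : Γ(GrMod.tilde 𝒜 𝒜 n, Proj.basicOpen 𝒜 f)), r • t = ρ r • t := fun _ _ => rfl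
  refine Module.Flat.of_forall_isTrivialRelation ?_
  intro l r x hrel
  have hex : ∀ i : Fin l, ∃ (k j : ℕ) (a : A), a ∈ 𝒜 j ∧ (j : ℤ) = k * d + n ∧ x i = frN (ℳ := 𝒜) hf n k j a :=
    fun i => exists_frN hf hd (x i)
  choose k j a ha hj hx using hex
  -- a common exponent
  obtain ⟨K, hK1, hK2⟩ : ∃ K : ℕ, (∀ i, k i ≤ K) ∧ (d₀ : ℤ) ≤ K * d + n := by
    refine ⟨Finset.univ.sup k + d₀ + n.natAbs, fun i => ?_, ?_⟩
    · have := Finset.le_sup (f := k) (Finset.mem_univ i)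
      omega
    · have h1 : (1 : ℤ) ≤ d := by exact_mod_cast hd
      have h2 : (0 : ℤ) ≤ ((Finset.univ.sup k + d₀ + n.natAbs : ℕ) : ℤ) := Int.natCast_nonneg _
      have h3 : ((Finset.univ.sup k + d₀ + n.natAbs : ℕ) : ℤ) ≤ ((Finset.univ.sup k + d₀ + n.natAbs : ℕ) : ℤ) * d := by
        nlinarith
      have h4 : (0 : ℤ) ≤ |n| + n := by have := neg_abs_le n; linarith
      push_cast at h3 ⊢
      have h5 : (0 : ℤ) ≤ (Finset.univ.sup k : ℕ) := Int.natCast_nonneg _
      linarith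
  obtain ⟨I, hI⟩ : ∃ I : ℕ, (I : ℤ) = K * d + n :=
    ⟨(K * d + n).toNat, Int.toNat_of_nonneg (le_trans (Int.natCast_nonneg d₀) hK2)⟩
  have hId : d₀ ≤ I := by
    have : (d₀ : ℤ) ≤ I := by rw [hI]; exact hK2
    exact_mod_cast this
  have hb : ∀ i, ∃ b : A, b ∈ 𝒜 I ∧ x i = frN (ℳ := 𝒜) hf n K I b := by
    intro i
    have h1 := frN_shift (ℳ := 𝒜) hf (ha i) (hj i) (K - k i)
    have e1 : K - k i + k i = K := Nat.sub_add_cancel (hK1 i)
    have e2 : (K - k i) • d + j i = I := by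
      have h2 := shift_deg (hj i) (K - k i)
      rw [e1] at h2
      exact_mod_cast h2.trans hI.symm
    have h3 : f ^ (K - k i) • a i ∈ 𝒜 ((K - k i) • d + j i) :=
      SetLike.GradedSMul.smul_mem (SetLike.pow_mem_graded (K - k i) hf) (ha i)
    rw [e1, e2] at h1
    rw [e2] at h3
    exact ⟨f ^ (K - k i) • a i, h3, (hx i).trans h1⟩
  choose b hbI hxb using hb
  -- the relation on numerators
  have hc : (∑ i, algebraMap R A (r i) * b i) ∈ 𝒜 I :=
    sum_mem fun i _ => algebraMap_mul_mem hstr (r i) (hbI i)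
  have h0 : frN (ℳ := 𝒜) hf n K I (∑ i, algebraMap R A (r i) * b i) = 0 := by
    rw [frN_sum hf Finset.univ hI _ (fun i _ => algebraMap_mul_mem hstr (r i) (hbI i)), ← hrel]
    refine Finset.sum_congr rfl fun i _ => ?_
    rw [hsm, hxb i, rho_smul_frN hf n ρ hstr hρ (hbI i) hI]
  obtain ⟨N, hN⟩ := exists_pow_mul_eq_zero_of_frN hf n hd hc hI h0
  -- the relation in the graded piece of degree `J`
  have hJ : ((N • d + I : ℕ) : ℤ) = ((N + K : ℕ) : ℤ) * d + n := shift_deg hI N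
  have hJd : d₀ ≤ N • d + I := le_trans hId (Nat.le_add_left _ _)
  have hzmem : ∀ i, f ^ N * b i ∈ 𝒜 (N • d + I) := fun i =>
    SetLike.GradedMul.mul_mem (SetLike.pow_mem_graded N hf) (hbI i)
  have hfl := hflat (N • d + I) hJd
  let z : Fin l → ↥(Submodule.span R (𝒜 (N • d + I) : Set A)) := fun i =>
    ⟨f ^ N * b i, Submodule.subset_span (hzmem i)⟩
  have hz : ∑ i, r i • z i = 0 := by
    apply Subtype.ext
    rw [Submodule.coe_sum]
    simp only [Submodule.coe_smul, Submodule.coe_zero, z]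
    rw [← hN, Finset.mul_sum]
    refine Finset.sum_congr rfl fun i _ => ?_
    rw [Algebra.smul_def]
    ring
  obtain ⟨κ, α, y, hy1, hy2⟩ := Module.Flat.isTrivialRelation_of_sum_smul_eq_zero hz
  have hymem : ∀ q, (y q : A) ∈ 𝒜 (N • d + I) := fun q => mem_of_mem_span hstr (y q).2
  refine ⟨κ, α, fun q => frN (ℳ := 𝒜) hf n (N + K) (N • d + I) (y q : A), fun i => ?_, hy2⟩
  rw [hxb i, frN_shift hf (hbI i) hI N]
  have h5 : f ^ N • b i = ∑ q, algebraMap R A (α i q) * (y q : A) := by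
    have := congrArg Subtype.val (hy1 i)
    rw [Submodule.coe_sum] at this
    simp only [Submodule.coe_smul, z] at this
    rw [smul_eq_mul, this]
    refine Finset.sum_congr rfl fun q _ => ?_
    rw [Algebra.smul_def]
  rw [h5, frN_sum hf Finset.univ hJ _ (fun q _ => algebraMap_mul_mem hstr (α i q) (hymem q))]
  refine Finset.sum_congr rfl fun q _ => ?_
  rw [hsm, rho_smul_frN hf n ρ hstr hρ (hymem q) hJ]

open Groth.Agent.Lib.GrTwistTilde in
/-- The sections of `O(n)` over `D₊(f)` are flat over `R` when the graded pieces of `A` are eventually flat. -/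
theorem flat_twist (hstr : ∀ r : R, algebraMap R A r ∈ 𝒜 0)
    (hρ : ∀ (r : R) (x : Proj.basicOpen 𝒜 f), oval (ρ r) x = algebraMap A (Loc 𝒜 x.1) (algebraMap R A r))
    (hd : 0 < d) (d₀ : ℕ)
    (hflat : ∀ m : ℕ, d₀ ≤ m → Module.Flat R ↥(Submodule.span R (𝒜 m : Set A))) :
    @Module.Flat R Γ(GrTwist.twist 𝒜 n, Proj.basicOpen 𝒜 f) _ _ (Module.compHom _ ρ) := by
  letI m1 : Module R Γ(GrTwist.twist 𝒜 n, Proj.basicOpen 𝒜 f) := Module.compHom _ ρ
  letI m2 : Module R Γ(GrMod.tilde 𝒜 𝒜 n, Proj.basicOpen 𝒜 f) := Module.compHom _ ρ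
  have h := flat_tilde hf n ρ hstr hρ hd d₀ hflat
  let E : Γ(GrTwist.twist 𝒜 n, Proj.basicOpen 𝒜 f) ≃ₗ[R] Γ(GrMod.tilde 𝒜 𝒜 n, Proj.basicOpen 𝒜 f) :=
    { toFun := fun τ => toT τ
      invFun := fun t => ofT t
      map_add' := fun a b => tsec_ext fun x => rfl
      map_smul' := fun r a => tsec_ext fun x => by
        change tval (toT (ρ r • a)) x = tval (ρ r • toT a) x
        rw [tval_toT, Groth.Agent.Lib.GrTwistTilde.sval_smul, tval_smul, tval_toT]
        exact (loc_smul_eq_mul x.1 _ _).symm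
      left_inv := fun τ => Groth.Agent.Lib.GrTwistTilde.sec_ext fun x => rfl
      right_inv := fun t => tsec_ext fun x => rfl }
  exact Module.Flat.of_linearEquiv E

end Main

/-- Form of `flat_twist` over an open which is only propositionally equal to `D₊(f)`. -/
theorem flat_twist_of_eq {d : ℕ} {f : A} (hf : f ∈ 𝒜 d) (n : ℤ) {V : (Proj 𝒜).Opens}
    (hV : V = Proj.basicOpen 𝒜 f) (ρ : R →+* Γ(Proj 𝒜, V))
    (hstr : ∀ r : R, algebraMap R A r ∈ 𝒜 0)
    (hρ : ∀ (r : R) (x : V), oval (ρ r) x = algebraMap A (Loc 𝒜 x.1) (algebraMap R A r))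
    (hd : 0 < d) (d₀ : ℕ)
    (hflat : ∀ m : ℕ, d₀ ≤ m → Module.Flat R ↥(Submodule.span R (𝒜 m : Set A))) :
    @Module.Flat R Γ(GrTwist.twist 𝒜 n, V) _ _ (Module.compHom _ ρ) := by
  subst hV
  exact flat_twist hf n ρ hstr hρ hd d₀ hflat

end Groth.Agent.Lib.H60ProjFlat
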