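import Mathlib.AlgebraicGeometry.ProjectiveSpectrum.Proper
import Mathlib.AlgebraicGeometry.ProjectiveSpectrum.Functor
import Mathlib.AlgebraicGeometry.Morphisms.FiniteType

/-!
# `Proj` of a graded ring generated in degree one with finitely generated degree-one part

Let `A = ⊕ 𝒜 n` be a graded ring generated (as a ring) by `𝒜 0 ∪ 𝒜 1`, `φ : R →+* 𝒜 0` a ring
homomorphism and `T ⊆ 𝒜 1` a finite set spanning `𝒜 1` over `R`.  Then `Proj 𝒜 ⟶ Spec R` is of
finite type (no finiteness of `𝒜 0` over `R` is needed).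
-/

set_option autoImplicit false

universe u

open CategoryTheory AlgebraicGeometry HomogeneousLocalization
open scoped HomogeneousIdeal

namespace Groth.Agent.Lib.ProjGenDegOne

variable {R A : Type u} [CommRing R] [CommRing A] (𝒜 : ℕ → AddSubgroup A) [GradedRing 𝒜]
  (φ : R →+* 𝒜 0) (T : Finset A)

include φ in
theorem adjoin_eq_top (hspan : ∀ x ∈ 𝒜 1, ∃ c : A → R, x = ∑ t ∈ T, (φ (c t) : A) * t)
    (hgen : Subring.closure ((𝒜 0 : Set A) ∪ (𝒜 1 : Set A)) = ⊤) :
    Algebra.adjoin (𝒜 0) (T : Set A) = ⊤ := by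
  rw [eq_top_iff]
  rintro x -
  have hx : x ∈ Subring.closure ((𝒜 0 : Set A) ∪ (𝒜 1 : Set A)) := by rw [hgen]; trivial
  induction hx using Subring.closure_induction with
  | mem x hx =>
    rcases hx with h0 | h1
    · exact Subalgebra.algebraMap_mem _ (⟨x, h0⟩ : 𝒜 0)
    · obtain ⟨c, rfl⟩ := hspan x h1
      exact Subalgebra.sum_mem _ fun t ht => Subalgebra.mul_mem _
        (Subalgebra.algebraMap_mem _ (φ (c t))) (Algebra.subset_adjoin ht)
  | zero => exact zero_mem _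
  | one => exact one_mem _
  | add _ _ _ _ hx hy => exact add_mem hx hy
  | neg _ _ hx => exact neg_mem hx
  | mul _ _ _ _ hx hy => exact mul_mem hx hy


variable {𝒜 T}

/-- The fraction `x₁ / t` (with `x₁` the degree-one component of `x`) in `A_(t)`. -/
noncomputable def frac {t : A} (ht : t ∈ 𝒜 1) (x : A) : Away 𝒜 t :=
  Away.mk 𝒜 ht 1 (DirectSum.decompose 𝒜 x 1 : A) (by simp)

lemma val_frac_mul {t : A} (ht : t ∈ 𝒜 1) (x : A) (hx : x ∈ 𝒜 1) :
    (frac ht x).val * algebraMap A (Localization.Away t) t = algebraMap A (Localization.Away t) x := by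
  unfold frac
  rw [Away.val_mk, Localization.mk_eq_mk']
  simp [DirectSum.decompose_of_mem_same 𝒜 hx]


lemma val_fromZeroRingHom (t : A) (a : 𝒜 0) :
    (fromZeroRingHom 𝒜 (.powers t) a).val = algebraMap A (Localization.Away t) (a : A) := by
  change Localization.mk _ _ = _
  rw [Localization.mk_eq_mk', ← IsLocalization.mk'_one (M := Submonoid.powers t)]
  rfl

/-- The image of `𝒜 0` in `A_(t)` is generated over `R` by the fractions `t'/t`. -/
theorem fromZeroRingHom_eq_sum {t : A} (ht : t ∈ 𝒜 1) (hT : ∀ t' ∈ T, t' ∈ 𝒜 1) (a : 𝒜 0)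
    (c : A → R) (hc : (a : A) * t = ∑ t' ∈ T, (φ (c t') : A) * t') :
    fromZeroRingHom 𝒜 (.powers t) a =
      ∑ t' ∈ T.attach, fromZeroRingHom 𝒜 (.powers t) (φ (c t'.1)) * frac ht t'.1 := by
  apply HomogeneousLocalization.val_injective
  have hu : IsUnit (algebraMap A (Localization.Away t) t) :=
    IsLocalization.map_units (Localization.Away t) (⟨t, 1, pow_one t⟩ : Submonoid.powers t)
  apply hu.mul_left_injective
  dsimp only
  rw [val_fromZeroRingHom, ← map_mul, hc, map_sum, ← HomogeneousLocalization.algebraMap_apply,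
    map_sum, Finset.sum_mul, ← Finset.sum_attach T]
  refine Finset.sum_congr rfl fun t' _ => ?_
  rw [map_mul, map_mul, HomogeneousLocalization.algebraMap_apply,
    HomogeneousLocalization.algebraMap_apply,
    mul_assoc, val_frac_mul ht t'.1 (hT t'.1 t'.2), val_fromZeroRingHom]


/-- `A_(t)` is a finitely generated `R`-algebra for `t ∈ T`. -/
theorem finiteType_comp_fromZero {t : A} (ht : t ∈ T) (hT : ∀ t' ∈ T, t' ∈ 𝒜 1)
    (hspan : ∀ x ∈ 𝒜 1, ∃ c : A → R, x = ∑ t ∈ T, (φ (c t) : A) * t)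
    (hgen : Subring.closure ((𝒜 0 : Set A) ∪ (𝒜 1 : Set A)) = ⊤) :
    ((fromZeroRingHom 𝒜 (.powers t)).comp φ).FiniteType := by
  classical
  have hx := adjoin_eq_top 𝒜 φ T hspan hgen
  have : Algebra.FiniteType (𝒜 0) A := ⟨⟨T, hx⟩⟩
  obtain ⟨S, hS⟩ := (HomogeneousLocalization.Away.finiteType (𝒜 := 𝒜) t 1 (hT t ht)).out
  let alg : Algebra R (Away 𝒜 t) := ((fromZeroRingHom 𝒜 (.powers t)).comp φ).toAlgebra
  change Algebra.FiniteType R (Away 𝒜 t)
  refine ⟨⟨S ∪ T.attach.image (fun t' => frac (hT t ht) t'.1), ?_⟩⟩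
  rw [eq_top_iff]
  rintro x -
  have hx' : x ∈ Algebra.adjoin (𝒜 0) (S : Set (Away 𝒜 t)) := by rw [hS]; trivial
  induction hx' using Algebra.adjoin_induction with
  | mem x hx => exact Algebra.subset_adjoin (by simp [hx])
  | algebraMap a =>
    have hat : (a : A) * t ∈ 𝒜 1 := by
      have := SetLike.mul_mem_graded (A := 𝒜) a.2 (hT t ht)
      rwa [zero_add] at this
    obtain ⟨c, hc⟩ := hspan _ hat
    rw [HomogeneousLocalization.algebraMap_eq, fromZeroRingHom_eq_sum φ (hT t ht) hT a c hc]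
    refine Subalgebra.sum_mem _ fun t' _ => Subalgebra.mul_mem _ ?_
      (Algebra.subset_adjoin (by simp))
    exact Subalgebra.algebraMap_mem _ (c t'.1)
  | add _ _ _ _ hx hy => exact add_mem hx hy
  | mul _ _ _ _ hx hy => exact mul_mem hx hy


/-- `Proj 𝒜 ⟶ Spec R` is of finite type when `A` is generated in degrees `0, 1` and `𝒜 1` is
spanned over `R` by a finite set. -/
theorem finiteType_toSpecZero_comp {R : CommRingCat.{u}} (ψ : R ⟶ CommRingCat.of (𝒜 0))
    (hT : ∀ t' ∈ T, t' ∈ 𝒜 1)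
    (hspan : ∀ x ∈ 𝒜 1, ∃ c : A → R, x = ∑ t ∈ T, (ψ.hom (c t) : A) * t)
    (hgen : Subring.closure ((𝒜 0 : Set A) ∪ (𝒜 1 : Set A)) = ⊤) :
    LocallyOfFiniteType (Proj.toSpecZero 𝒜 ≫ Spec.map ψ) ∧
      QuasiCompact (Proj.toSpecZero 𝒜 ≫ Spec.map ψ) := by
  have hx := adjoin_eq_top 𝒜 ψ.hom T hspan hgen
  have : Algebra.FiniteType (𝒜 0) A := ⟨⟨T, hx⟩⟩
  refine ⟨?_, inferInstance⟩
  rw [IsZariskiLocalAtSource.iff_of_iSup_eq_top (P := @LocallyOfFiniteType) _
    (Proj.iSup_basicOpen_eq_top' 𝒜 (ι := T) (↑) (fun i ↦ ⟨1, hT _ i.2⟩) (by simpa using hx))]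
  intro i
  rw [← MorphismProperty.cancel_left_of_respectsIso (P := @LocallyOfFiniteType)
    (Proj.basicOpenIsoSpec 𝒜 (i : A) (hT _ i.2) one_pos).inv, ← Category.assoc, ← Category.assoc,
    ← Proj.awayι, Proj.awayι_toSpecZero, ← Spec.map_comp,
    HasRingHomProperty.Spec_iff (P := @LocallyOfFiniteType)]
  exact finiteType_comp_fromZero ψ.hom i.2 hT hspan hgen

end Groth.Agent.Lib.ProjGenDegOne
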