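import Groth.Agent.Lib.RelTildeLocal
import Groth.Agent.Lib.GrTwistInv

/-!
# Invertibility of the twisting sheaves `O_P(n)` on a relative Proj (helper28)

* `exists_degree_one_notMem_of_closure`: if the ring is generated by its parts of degree `0` and `1`, every point of `Proj`
  avoids an element of degree one.
* `exists_isGen_twist`: ring level, `O(n)` has a free generator over `D₊(f)` as soon as `deg f ∣ n`.
* `exists_isGen_relTwist`: `O_P(n)` has a free generator over the image of `D₊(f)`, `f ∈ 𝒮(U)_d`, `d ∣ n`.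
* `isInvertible_relTwist_of_gen` (S8286), `exists_isInvertible_restrict` (S8290).
-/

set_option autoImplicit false
universe u

open CategoryTheory CategoryTheory.Limits AlgebraicGeometry Opposite TopologicalSpace
open scoped HomogeneousIdeal

noncomputable section

namespace Groth.Agent.Lib.RelTwistInv

open Groth.Agent.Lib.RelTildeGlue Groth.Agent.Lib.RelTildeVal2 Groth.Agent.Lib.RelTildeLocal
open Groth.Agent.Lib.H90Invertible

section ring

variable {A σ : Type u} [CommRing A] [SetLike σ A] [AddSubgroupClass σ A] {𝒜 : ℕ → σ} [GradedRing 𝒜]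

/-- If the ring is generated by its parts of degree `0` and `1`, every point of `Proj` avoids an element of degree one. -/
theorem exists_degree_one_notMem_of_closure
    (h : Subring.closure ((𝒜 0 : Set A) ∪ (𝒜 1 : Set A)) = ⊤) (x : ProjectiveSpectrum 𝒜) :
    ∃ f ∈ 𝒜 1, f ∉ x.asHomogeneousIdeal := by
  classical
  by_contra H
  simp only [not_exists, not_and, not_not] at H
  apply x.not_irrelevant_le
  let q : A →+* A ⧸ x.asHomogeneousIdeal.toIdeal := Ideal.Quotient.mk _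
  let g : A →+* A ⧸ x.asHomogeneousIdeal.toIdeal := q.comp (GradedRing.projZeroRingHom 𝒜)
  have hle : Subring.closure ((𝒜 0 : Set A) ∪ (𝒜 1 : Set A)) ≤ RingHom.eqLocus q g := by
    rw [Subring.closure_le]
    rintro a (ha | ha)
    · change q a = q (GradedRing.projZeroRingHom 𝒜 a)
      rw [GradedRing.projZeroRingHom_apply, DirectSum.decompose_of_mem_same 𝒜 ha]
    · change q a = q (GradedRing.projZeroRingHom 𝒜 a)
      rw [GradedRing.projZeroRingHom_apply, DirectSum.decompose_of_mem_ne 𝒜 ha one_ne_zero, map_zero]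
      exact Ideal.Quotient.eq_zero_iff_mem.mpr (H a ha)
  rw [h] at hle
  intro z hz
  have h1 : q z = g z := hle (Subring.mem_top z)
  have h2 : GradedRing.projZeroRingHom 𝒜 z = 0 := hz
  change z ∈ x.asHomogeneousIdeal.toIdeal
  rw [← Ideal.Quotient.eq_zero_iff_mem]
  change q z = 0
  rw [h1]
  change q (GradedRing.projZeroRingHom 𝒜 z) = 0
  rw [h2, map_zero]

/-- `O(n)` has a free generator over any open inside `D₊(f)` as soon as `deg f ∣ n`. -/
theorem exists_isGen_twist (𝒜 : ℕ → σ) [GradedRing 𝒜] {f : A} {d : ℕ} (hfd : f ∈ 𝒜 d) (n : ℤ) (hn : (d : ℤ) ∣ n)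
    {V : (Proj 𝒜).Opens} (hV : V ≤ Proj.basicOpen 𝒜 f) :
    ∃ s : Γ(GrTwist.twist 𝒜 n, V), IsGen (GrTwist.twist 𝒜 n) V s := by
  obtain ⟨k, rfl⟩ := hn
  rw [mul_comm]
  exact Groth.Agent.Lib.GrTwistInv.exists_isGen_of_le_basicOpen 𝒜 hfd k hV

end ring

variable {Y P : Scheme.{u}} {𝒮 : RelProj.QCGrAlg Y} {p : P ⟶ Y}
  {chart : ∀ (U : Y.Opens) (hU : IsAffineOpen U), (((p ⁻¹ᵁ U : P.Opens) : Scheme.{u}) ≅ Proj (𝒮.deg U hU))}

/-- `O_P(n)` has a free generator over the image of `D₊(f)`, `f ∈ 𝒮(U)_d`, `d ∣ n`. -/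
theorem exists_isGen_relTwist (n : ℤ) {L : P.Modules}
    {lam : ∀ (U : Y.Opens) (hU : IsAffineOpen U),
      L ⟶ (Scheme.Modules.pushforward (RelProj.emb p chart U hU)).obj (GrTwist.twist (𝒮.deg U hU) n)}
    (hL : RelProj.IsRelTwist 𝒮 p chart n L lam) (U : Y.Opens) (hU : IsAffineOpen U)
    {f : 𝒮.presheaf.obj (op U)} {d : ℕ} (hfd : f ∈ 𝒮.deg U hU d) (hn : (d : ℤ) ∣ n) :
    ∃ s : Γ(L, RelProj.emb p chart U hU ''ᵁ Proj.basicOpen (𝒮.deg U hU) f),
      IsGen L (RelProj.emb p chart U hU ''ᵁ Proj.basicOpen (𝒮.deg U hU) f) s := by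
  obtain ⟨e⟩ := nonempty_restrictIso_relTwist n hL U hU
  obtain ⟨s, hs⟩ := exists_isGen_twist (𝒮.deg U hU) hfd n hn (le_refl (Proj.basicOpen (𝒮.deg U hU) f))
  have h1 := hs.of_iso e.symm
  exact ⟨_, (isGen_restrict_iff (RelProj.emb p chart U hU) L _ _).mp h1⟩

/-- Every point of `P` lies in the image of some `D₊(f)` with `f ∈ 𝒮(U)_d` homogeneous of positive degree. -/
theorem exists_mem_image_basicOpen (x : P) :
    ∃ (U : Y.Opens) (hU : IsAffineOpen U) (d : ℕ) (_ : 0 < d) (f : 𝒮.presheaf.obj (op U)) (_ : f ∈ 𝒮.deg U hU d),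
      x ∈ RelProj.emb p chart U hU ''ᵁ Proj.basicOpen (𝒮.deg U hU) f := by
  obtain ⟨U, hU, hxU, -⟩ := exists_isAffineOpen_mem_and_subset (x := p.base x) (U := ⊤) trivial
  obtain ⟨y, rfl⟩ := exists_emb_eq (p := p) (chart := chart) U hU hxU
  obtain ⟨d, hd, h, hh⟩ := Groth.Agent.Lib.GrModVal.exists_pos_notMem (𝒜 := 𝒮.deg U hU) y
  refine ⟨U, hU, d, hd, (h : 𝒮.presheaf.obj (op U)), h.2, ?_⟩
  exact Set.mem_image_of_mem _ ((Proj.mem_basicOpen (𝒮.deg U hU) _ _).mpr hh)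

/-- If `𝒮` is generated by `𝒮_1`, the twisting sheaves `O_P(n)` are invertible. -/
theorem isInvertible_relTwist_of_gen (hgen : 𝒮.IsGenDegOne) (n : ℤ) {L : P.Modules}
    {lam : ∀ (U : Y.Opens) (hU : IsAffineOpen U),
      L ⟶ (Scheme.Modules.pushforward (RelProj.emb p chart U hU)).obj (GrTwist.twist (𝒮.deg U hU) n)}
    (hL : RelProj.IsRelTwist 𝒮 p chart n L lam) : PicF.IsInvertible L := by
  rw [isInvertible_iff_exists_isGen]
  intro x
  obtain ⟨U, hU, hxU, -⟩ := exists_isAffineOpen_mem_and_subset (x := p.base x) (U := ⊤) trivial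
  obtain ⟨y, rfl⟩ := exists_emb_eq (p := p) (chart := chart) U hU hxU
  obtain ⟨f, hf, hfy⟩ := exists_degree_one_notMem_of_closure (𝒜 := 𝒮.deg U hU) (hgen U hU) y
  refine ⟨RelProj.emb p chart U hU ''ᵁ Proj.basicOpen (𝒮.deg U hU) f, ?_,
    exists_isGen_relTwist n hL U hU hf (by simp)⟩
  exact Set.mem_image_of_mem _ ((Proj.mem_basicOpen (𝒮.deg U hU) _ _).mpr hfy)

/-- For a quasi-compact open `W` of `P` there is `d > 0` such that `O_P(n)|W` is invertible for every `n` divisible by `d`. -/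
theorem exists_isInvertible_restrict (W : P.Opens) (hW : IsCompact (W : Set P)) :
    ∃ d : ℕ, 0 < d ∧ ∀ (n : ℤ), (d : ℤ) ∣ n →
      ∀ (L : P.Modules)
        (lam : ∀ (V : Y.Opens) (hV : IsAffineOpen V),
          L ⟶ (Scheme.Modules.pushforward (RelProj.emb p chart V hV)).obj (GrTwist.twist (𝒮.deg V hV) n)),
        RelProj.IsRelTwist 𝒮 p chart n L lam → PicF.IsInvertible (L.restrict W.ι) := by
  classical
  choose U hU d hd f hf hx using exists_mem_image_basicOpen (𝒮 := 𝒮) (p := p) (chart := chart)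
  obtain ⟨t, ht⟩ := hW.elim_finite_subcover
    (fun x : P => ((RelProj.emb p chart (U x) (hU x) ''ᵁ Proj.basicOpen (𝒮.deg (U x) (hU x)) (f x) : P.Opens) : Set P))
    (fun x => (RelProj.emb p chart (U x) (hU x) ''ᵁ Proj.basicOpen (𝒮.deg (U x) (hU x)) (f x) : P.Opens).2)
    (fun x _ => Set.mem_iUnion.2 ⟨x, hx x⟩)
  refine ⟨∏ x ∈ t, d x, Finset.prod_pos fun x _ => hd x, fun n hn L lam hL => ?_⟩
  rw [isInvertible_iff_exists_isGen]
  intro y
  obtain ⟨x, hxt, hyx⟩ := Set.mem_iUnion₂.1 (ht y.2)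
  have hdn : ((d x : ℕ) : ℤ) ∣ n :=
    (Int.natCast_dvd_natCast.mpr (Finset.dvd_prod_of_mem d hxt)).trans hn
  obtain ⟨s, hs⟩ := exists_isGen_relTwist n hL (U x) (hU x) (hf x) hdn
  refine ⟨W.ι ⁻¹ᵁ (RelProj.emb p chart (U x) (hU x) ''ᵁ Proj.basicOpen (𝒮.deg (U x) (hU x)) (f x)), hyx, ?_⟩
  have hle := W.ι.image_preimage_le
    (RelProj.emb p chart (U x) (hU x) ''ᵁ Proj.basicOpen (𝒮.deg (U x) (hU x)) (f x))
  exact ⟨_, (isGen_restrict_iff W.ι L _ _).mpr (hs.mono hle)⟩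

end Groth.Agent.Lib.RelTwistInv
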