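import Groth.Agent.Lib.GrModFT
import Groth.Agent.Lib.RelTwistInv

/-!
# `ℳ~` on a relative Proj is of finite type under (TF) (helper28)

* `irrelevant_eq_span_of_closure`: a ring generated by its parts of degree `0` and `1` has irrelevant ideal generated by
  the part of degree `1`.
* `irrelevant_fg`: ... which is finitely generated if the part of degree `1` is finitely generated over degree `0`.
* `finite_of_bijective_semilinear`: transfer of `Module.Finite` along a semilinear bijection.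
* `isFT_relTilde_of_TF` (S8325).
-/

set_option autoImplicit false
universe u

open CategoryTheory CategoryTheory.Limits AlgebraicGeometry Opposite TopologicalSpace
open scoped HomogeneousIdeal

noncomputable section

namespace Groth.Agent.Lib.RelTildeFT

open Groth.Agent.Lib.RelTildeGlue Groth.Agent.Lib.RelTildeVal2 Groth.Agent.Lib.RelTildeLocal

section ring

variable {A σ : Type u} [CommRing A] [SetLike σ A] [AddSubgroupClass σ A] {𝒜 : ℕ → σ} [GradedRing 𝒜]

/-- A ring generated by its parts of degree `0` and `1` has irrelevant ideal generated by the part of degree `1`. -/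
theorem irrelevant_eq_span_of_closure
    (h : Subring.closure ((𝒜 0 : Set A) ∪ (𝒜 1 : Set A)) = ⊤) :
    (𝒜₊).toIdeal = Ideal.span (𝒜 1 : Set A) := by
  classical
  apply le_antisymm
  · let q : A →+* A ⧸ Ideal.span (𝒜 1 : Set A) := Ideal.Quotient.mk _
    let g : A →+* A ⧸ Ideal.span (𝒜 1 : Set A) := q.comp (GradedRing.projZeroRingHom 𝒜)
    have hle : Subring.closure ((𝒜 0 : Set A) ∪ (𝒜 1 : Set A)) ≤ RingHom.eqLocus q g := by
      rw [Subring.closure_le]
      rintro a (ha | ha)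
      · change q a = q (GradedRing.projZeroRingHom 𝒜 a)
        rw [GradedRing.projZeroRingHom_apply, DirectSum.decompose_of_mem_same 𝒜 ha]
      · change q a = q (GradedRing.projZeroRingHom 𝒜 a)
        rw [GradedRing.projZeroRingHom_apply, DirectSum.decompose_of_mem_ne 𝒜 ha one_ne_zero, map_zero]
        exact Ideal.Quotient.eq_zero_iff_mem.mpr (Ideal.subset_span ha)
    rw [h] at hle
    intro z hz
    have h1 : q z = g z := hle (Subring.mem_top z)
    have h2 : GradedRing.projZeroRingHom 𝒜 z = 0 := hz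
    rw [← Ideal.Quotient.eq_zero_iff_mem]
    change q z = 0
    rw [h1]
    change q (GradedRing.projZeroRingHom 𝒜 z) = 0
    rw [h2, map_zero]
  · rw [Ideal.span_le]
    intro a ha
    exact HomogeneousIdeal.mem_irrelevant_of_mem 𝒜 Nat.one_pos ha

/-- The irrelevant ideal is finitely generated if the ring is generated in degrees `0`, `1` and the part of degree `1`
is spanned by a finite set. -/
theorem irrelevant_fg (h : Subring.closure ((𝒜 0 : Set A) ∪ (𝒜 1 : Set A)) = ⊤) (T : Finset A)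
    (hT : (↑T : Set A) ⊆ (𝒜 1 : Set A)) (hspan : ∀ x ∈ 𝒜 1, ∃ c : A → A, x = ∑ t ∈ T, c t * t) :
    (𝒜₊).toIdeal.FG := by
  refine ⟨T, ?_⟩
  rw [irrelevant_eq_span_of_closure h]
  apply le_antisymm
  · exact Ideal.span_mono hT
  · rw [Ideal.span_le]
    intro x hx
    obtain ⟨c, rfl⟩ := hspan x hx
    exact Ideal.sum_mem _ fun t ht => Ideal.mul_mem_left _ _ (Ideal.subset_span ht)

end ring

/-- Transfer of `Module.Finite` along a semilinear bijection over a surjective ring homomorphism. -/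
theorem finite_of_bijective_semilinear {R S M N : Type*} [CommRing R] [CommRing S] [AddCommGroup M] [Module R M]
    [AddCommGroup N] [Module S N] (σ : R →+* S) (hσ : Function.Surjective σ) (g : M →+ N)
    (hg : Function.Bijective g) (hsl : ∀ (r : R) (m : M), g (r • m) = σ r • g m) [hN : Module.Finite S N] :
    Module.Finite R M := by
  classical
  obtain ⟨T, hT⟩ := hN.fg_top
  choose pre hpre using hg.2
  refine ⟨⟨T.image pre, ?_⟩⟩
  set P : Submodule R M := Submodule.span R (↑(T.image pre) : Set M) with hP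
  let Q : Submodule S N :=
    { carrier := g '' (P : Set M)
      add_mem' := by
        rintro _ _ ⟨a, ha, rfl⟩ ⟨b, hb, rfl⟩
        exact ⟨a + b, P.add_mem ha hb, map_add g a b⟩
      zero_mem' := ⟨0, P.zero_mem, map_zero g⟩
      smul_mem' := by
        rintro s _ ⟨a, ha, rfl⟩
        obtain ⟨r, rfl⟩ := hσ s
        exact ⟨r • a, P.smul_mem r ha, hsl r a⟩ }
  have hTQ : (↑T : Set N) ⊆ Q := by
    intro t ht
    refine ⟨pre t, Submodule.subset_span ?_, hpre t⟩
    exact Finset.mem_coe.mpr (Finset.mem_image_of_mem pre ht)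
  have hQ : Q = ⊤ := by
    rw [eq_top_iff, ← hT]
    exact Submodule.span_le.mpr hTQ
  rw [eq_top_iff]
  intro m _
  have : g m ∈ Q := by rw [hQ]; trivial
  obtain ⟨a, ha, hga⟩ := this
  rw [← hg.1 hga]
  exact ha

variable {Y P : Scheme.{u}} {𝒮 : RelProj.QCGrAlg Y} {p : P ⟶ Y}
  {chart : ∀ (U : Y.Opens) (hU : IsAffineOpen U), (((p ⁻¹ᵁ U : P.Opens) : Scheme.{u}) ≅ Proj (𝒮.deg U hU))}

/-- Under (TF), with `𝒮` generated by `𝒮_1` of finite type, `ℳ~` is of finite type (S8325). -/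
theorem isFT_relTilde_of_TF (hgen : 𝒮.IsGenDegOne) (hft : 𝒮.IsFTDeg 1)
    {ℳ : RelProj.GrModule 𝒮} (hTF : ℳ.IsTF) {F : P.Modules}
    {lam : ∀ (U : Y.Opens) (hU : IsAffineOpen U),
      F ⟶ (Scheme.Modules.pushforward (RelProj.emb p chart U hU)).obj (GrMod.tilde (𝒮.deg U hU) (ℳ.deg U hU) 0)}
    (hF : RelProj.IsRelTilde 𝒮 p chart ℳ 0 F lam) : CohB1.IsFT F := by
  haveI : F.IsQuasicoherent := isQCoh_relTilde 0 hF
  obtain ⟨n₀, hn₀⟩ := hTF
  refine Groth.Agent.Lib.H90OXModAffineFT.isFiniteType_of_affine_cover F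
    (fun q : (Σ U : Y.affineOpens, {q : (𝒮.presheaf.obj (op U.1)) × ℕ // 0 < q.2 ∧ q.1 ∈ 𝒮.deg U.1 U.2 q.2}) =>
      RelProj.emb p chart q.1.1 q.1.2 ''ᵁ Proj.basicOpen (𝒮.deg q.1.1 q.1.2) q.2.1.1) ?_ ?_ ?_
  · rw [eq_top_iff]
    intro x _
    obtain ⟨U, hU, d, hd, f, hf, hx⟩ :=
      Groth.Agent.Lib.RelTwistInv.exists_mem_image_basicOpen (𝒮 := 𝒮) (p := p) (chart := chart) x
    exact TopologicalSpace.Opens.mem_iSup.mpr ⟨⟨⟨U, hU⟩, ⟨(f, d), hd, hf⟩⟩, hx⟩
  · rintro ⟨⟨U, hU⟩, ⟨⟨f, d⟩, hd, hf⟩⟩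
    exact (Proj.isAffineOpen_basicOpen (𝒮.deg U hU) f hf hd).image_of_isOpenImmersion (RelProj.emb p chart U hU)
  · rintro ⟨⟨U, hU⟩, ⟨⟨f, d⟩, hd, hf⟩⟩
    change Module.Finite Γ(P, RelProj.emb p chart U hU ''ᵁ Proj.basicOpen (𝒮.deg U hU) f)
      Γ(F, RelProj.emb p chart U hU ''ᵁ Proj.basicOpen (𝒮.deg U hU) f)
    obtain ⟨T, hT, hspan⟩ := hft U hU
    have hfg : ((𝒮.deg U hU)₊).toIdeal.FG :=
      irrelevant_fg (hgen U hU) T hT fun x hx => by
        obtain ⟨c, hc⟩ := hspan x hx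
        exact ⟨fun t => (𝒮.str.app (op U)).hom (c t), hc⟩
    have h1 : Module.Finite Γ(Proj (𝒮.deg U hU), Proj.basicOpen (𝒮.deg U hU) f)
        Γ(GrMod.tilde (𝒮.deg U hU) (ℳ.deg U hU) 0, Proj.basicOpen (𝒮.deg U hU) f) :=
      Groth.Agent.Lib.GrModFT.finite_sections_basicOpen hfg ⟨n₀, hn₀ U hU⟩ hf hd
    have he : RelProj.emb p chart U hU ⁻¹ᵁ (RelProj.emb p chart U hU ''ᵁ Proj.basicOpen (𝒮.deg U hU) f) =
        Proj.basicOpen (𝒮.deg U hU) f := (RelProj.emb p chart U hU).preimage_image_eq _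
    have h2 : Module.Finite
        Γ(Proj (𝒮.deg U hU), RelProj.emb p chart U hU ⁻¹ᵁ
          (RelProj.emb p chart U hU ''ᵁ Proj.basicOpen (𝒮.deg U hU) f))
        Γ(GrMod.tilde (𝒮.deg U hU) (ℳ.deg U hU) 0, RelProj.emb p chart U hU ⁻¹ᵁ
          (RelProj.emb p chart U hU ''ᵁ Proj.basicOpen (𝒮.deg U hU) f)) := by
      rw [he]; exact h1
    have hW := image_emb_le (p := p) (chart := chart) U hU (Proj.basicOpen (𝒮.deg U hU) f)
    have hle : RelProj.emb p chart U hU ''ᵁ Proj.basicOpen (𝒮.deg U hU) f ≤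
        (RelProj.emb p chart U hU).opensRange := (RelProj.emb p chart U hU).image_le_opensRange _
    haveI := (RelProj.emb p chart U hU).isIso_app _ hle
    have h3 : Function.Bijective ((RelProj.emb p chart U hU).app
        (RelProj.emb p chart U hU ''ᵁ Proj.basicOpen (𝒮.deg U hU) f)).hom :=
      (ConcreteCategory.isIso_iff_bijective _).mp inferInstance
    let g : Γ(F, RelProj.emb p chart U hU ''ᵁ Proj.basicOpen (𝒮.deg U hU) f) →+
        Γ(GrMod.tilde (𝒮.deg U hU) (ℳ.deg U hU) 0, RelProj.emb p chart U hU ⁻¹ᵁ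
          (RelProj.emb p chart U hU ''ᵁ Proj.basicOpen (𝒮.deg U hU) f)) :=
      ((lam U hU).app (RelProj.emb p chart U hU ''ᵁ Proj.basicOpen (𝒮.deg U hU) f)).hom
    exact finite_of_bijective_semilinear
      ((RelProj.emb p chart U hU).app (RelProj.emb p chart U hU ''ᵁ Proj.basicOpen (𝒮.deg U hU) f)).hom h3.2
      g (hF.bijective U hU _ hW) (fun r m => Scheme.Modules.Hom.app_smul (lam U hU) r m)

end Groth.Agent.Lib.RelTildeFT
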