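import Groth.Agent.Lib.ProjMapImm
import Groth.Agent.Lib.ProjGenDegOne
import Groth.Agent.Lib.RelTildeFT
import Mathlib.AlgebraicGeometry.ProjectiveSpectrum.Proper

/-!
# Properness of `Proj 𝒜 ⟶ Spec R` for `𝒜` generated in degree one with `𝒜 1` finite over `R` (helper60)

* `isProper_poly σ R`: `Proj R[X_σ] ⟶ Spec R` is proper (`σ` finite).
* `ev`, `evGr`: the graded hom `R[X_t : t ∈ T] → A`, `X_t ↦ t`; `ev_surj`: it is surjective in every degree `≥ 1`
  when `A` is generated in degrees `0, 1` and `T` spans `𝒜 1` over `R`.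
* `isProper_toSpecZero_comp`: then `Proj.toSpecZero 𝒜 ≫ Spec.map ψ` is proper (closed immersion into `Proj R[X_T]`);
  companion of helper28's `ProjGenDegOne.finiteType_toSpecZero_comp`.
-/

set_option autoImplicit false
universe u
open CategoryTheory CategoryTheory.Limits AlgebraicGeometry MvPolynomial
open scoped HomogeneousIdeal

namespace Groth.Agent.Lib.H60ProjProper

attribute [local instance] MvPolynomial.gradedAlgebra

section poly

variable (σ : Type u) [Finite σ] (R : Type u) [CommRing R]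

omit [Finite σ] in
theorem isScalarTower_poly :
    IsScalarTower R (homogeneousSubmodule σ R 0) (MvPolynomial σ R) := by
  constructor
  intro r a x
  exact smul_mul_assoc r a.1 x

theorem finiteType_poly :
    Algebra.FiniteType (homogeneousSubmodule σ R 0) (MvPolynomial σ R) :=
  have := isScalarTower_poly σ R
  Algebra.FiniteType.of_restrictScalars_finiteType R _ _

omit [Finite σ] in
theorem bijective_algebraMap_poly_zero :
    Function.Bijective (algebraMap R (homogeneousSubmodule σ R 0)) := by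
  constructor
  · intro a b h
    have h' := congrArg Subtype.val h
    exact MvPolynomial.C_injective _ _ h'
  · rintro ⟨x, hx⟩
    have hx' : x ∈ (1 : Submodule R (MvPolynomial σ R)) := by
      rw [← MvPolynomial.homogeneousSubmodule_zero]; exact hx
    rw [Submodule.mem_one] at hx'
    obtain ⟨r, rfl⟩ := hx'
    exact ⟨r, Subtype.ext rfl⟩

theorem isProper_poly :
    IsProper (Proj.toSpecZero (homogeneousSubmodule σ R) ≫
      Spec.map (CommRingCat.ofHom (algebraMap R (homogeneousSubmodule σ R 0)))) := by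
  have := finiteType_poly σ R
  have h1 : IsProper (Proj.toSpecZero (homogeneousSubmodule σ R)) := inferInstance
  have h2 : IsIso (CommRingCat.ofHom (algebraMap R (homogeneousSubmodule σ R 0))) := by
    rw [ConcreteCategory.isIso_iff_bijective]
    exact bijective_algebraMap_poly_zero σ R
  have h3 : IsIso (Spec.map (CommRingCat.ofHom (algebraMap R (homogeneousSubmodule σ R 0)))) :=
    inferInstance
  have h4 : IsProper (Spec.map (CommRingCat.ofHom (algebraMap R (homogeneousSubmodule σ R 0)))) :=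
    inferInstance
  exact MorphismProperty.comp_mem (W := @IsProper) _ _ h1 h4

end poly

section ring

variable {A : Type u} [CommRing A] (𝒜 : ℕ → AddSubgroup A) [GradedRing 𝒜] {R : Type u} [CommRing R]
  (ψ : R →+* 𝒜 0) (T : Finset A)

/-- the ring hom `R[X_t : t ∈ T] → A`, `X_t ↦ t`. -/
noncomputable def ev : MvPolynomial (↥T) R →+* A :=
  eval₂Hom ((algebraMap (𝒜 0) A).comp ψ) (fun t => t.1)

theorem ev_C (r : R) : ev 𝒜 ψ T (C r) = (ψ r : A) := by
  unfold ev; rw [coe_eval₂Hom, eval₂_C]; rfl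

theorem ev_X (t : ↥T) : ev 𝒜 ψ T (X t) = t.1 := by
  unfold ev; rw [coe_eval₂Hom, eval₂_X]

variable {T} in
theorem ev_mem (hT : ∀ t ∈ T, t ∈ 𝒜 1) {d : ℕ} {q : MvPolynomial (↥T) R}
    (hq : q ∈ homogeneousSubmodule (↥T) R d) : ev 𝒜 ψ T q ∈ 𝒜 d := by
  rw [mem_homogeneousSubmodule] at hq
  unfold ev
  rw [coe_eval₂Hom, eval₂_eq]
  refine sum_mem fun m hm => ?_
  have hdeg : m.degree = d := by
    have := hq (mem_support_iff.mp hm)
    rw [Finsupp.degree_eq_weight_one]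
    exact this
  have h1 : ∏ i ∈ m.support, (i : A) ^ m i ∈ 𝒜 (∑ i ∈ m.support, m i • 1) :=
    SetLike.prod_pow_mem_graded 𝒜 (fun _ => 1) (fun i : ↥T => (i : A)) (fun i => m i)
      (fun i _ => hT i.1 i.2)
  have h2 : (∑ i ∈ m.support, m i • 1) = d := by
    rw [← hdeg, Finsupp.degree_apply]
    simp
  rw [h2] at h1
  have h0 : ((algebraMap (𝒜 0) A).comp ψ) (coeff m q) ∈ 𝒜 0 := (ψ (coeff m q)).2
  have := SetLike.mul_mem_graded h0 h1
  rwa [zero_add] at this

/-- `ev` as a graded ring hom. -/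
noncomputable def evGr (hT : ∀ t ∈ T, t ∈ 𝒜 1) : homogeneousSubmodule (↥T) R →+*ᵍ 𝒜 where
  toRingHom := ev 𝒜 ψ T
  map_mem := fun hq => ev_mem 𝒜 ψ hT hq

variable {T} in
include ψ in
theorem ev_surj_one (hT : ∀ t ∈ T, t ∈ 𝒜 1)
    (hspan : ∀ x ∈ 𝒜 1, ∃ c : A → R, x = ∑ t ∈ T, (ψ (c t) : A) * t) :
    ∀ y ∈ 𝒜 1, ∃ x ∈ homogeneousSubmodule (↥T) R 1, ev 𝒜 ψ T x = y := by
  intro y hy
  obtain ⟨c, rfl⟩ := hspan y hy
  refine ⟨∑ t ∈ T.attach, C (c t.1) * X t, ?_, ?_⟩
  · refine Submodule.sum_mem _ fun t _ => ?_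
    rw [mem_homogeneousSubmodule]
    exact isHomogeneous_C_mul_X _ _
  · rw [map_sum, ← Finset.sum_attach T]
    refine Finset.sum_congr rfl fun t _ => ?_
    rw [map_mul, ev_C, ev_X]

variable {T} in
theorem ev_surj (hT : ∀ t ∈ T, t ∈ 𝒜 1)
    (hspan : ∀ x ∈ 𝒜 1, ∃ c : A → R, x = ∑ t ∈ T, (ψ (c t) : A) * t)
    (hgen : Subring.closure ((𝒜 0 : Set A) ∪ (𝒜 1 : Set A)) = ⊤) :
    ∀ k, 1 ≤ k → ∀ y ∈ 𝒜 k, ∃ x ∈ homogeneousSubmodule (↥T) R k, ev 𝒜 ψ T x = y := by
  classical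
  intro k hk
  induction k, hk using Nat.le_induction with
  | base => exact ev_surj_one 𝒜 ψ hT hspan
  | succ k hk ih =>
    intro y hy
    have hy1 : y ∈ (𝒜₊).toIdeal := HomogeneousIdeal.mem_irrelevant_of_mem 𝒜 (Nat.succ_pos k) hy
    rw [Groth.Agent.Lib.RelTildeFT.irrelevant_eq_span_of_closure hgen] at hy1
    obtain ⟨n, f, g, hfg⟩ := Submodule.mem_span_set'.1 hy1
    have hy2 : y = ∑ i, (DirectSum.decompose 𝒜 (f i) k : A) * (g i : A) := by
      have h1 : (DirectSum.decompose 𝒜 y (k + 1) : A) = y := DirectSum.decompose_of_mem_same 𝒜 hy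
      rw [← h1, ← hfg, DirectSum.decompose_sum, DFinsupp.finsetSum_apply, AddSubgroup.val_finsetSum]
      refine Finset.sum_congr rfl fun i _ => ?_
      rw [smul_eq_mul, DirectSum.coe_decompose_mul_of_right_mem_of_le 𝒜 (g i).2 (Nat.le_add_left 1 k)]
      simp
    choose x hx hxe using fun i => ih (DirectSum.decompose 𝒜 (f i) k : A) (SetLike.coe_mem _)
    choose x' hx' hxe' using fun i => ev_surj_one 𝒜 ψ hT hspan (g i : A) (g i).2
    refine ⟨∑ i, x i * x' i, ?_, ?_⟩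
    · refine Submodule.sum_mem _ fun i _ => ?_
      exact SetLike.mul_mem_graded (hx i) (hx' i)
    · rw [map_sum, hy2]
      refine Finset.sum_congr rfl fun i _ => ?_
      rw [map_mul, hxe, hxe']

theorem irrelevant_le (hT : ∀ t ∈ T, t ∈ 𝒜 1)
    (hspan : ∀ x ∈ 𝒜 1, ∃ c : A → R, x = ∑ t ∈ T, (ψ (c t) : A) * t)
    (hgen : Subring.closure ((𝒜 0 : Set A) ∪ (𝒜 1 : Set A)) = ⊤) :
    𝒜₊ ≤ (HomogeneousIdeal.irrelevant (homogeneousSubmodule (↥T) R)).map (evGr 𝒜 ψ T hT) := by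
  rw [HomogeneousIdeal.irrelevant_le]
  intro d hd b hb
  obtain ⟨a, ha, rfl⟩ := ev_surj 𝒜 ψ hT hspan hgen d hd b hb
  exact Ideal.mem_map_of_mem _ (HomogeneousIdeal.mem_irrelevant_of_mem _ hd ha)

end ring

/-- `Proj 𝒜 ⟶ Spec R` is proper when `A` is generated in degrees `0`, `1` and `𝒜 1` is spanned over `R` by a
finite set (no finiteness of `𝒜 0` over `R` is needed). -/
theorem isProper_toSpecZero_comp {A : Type u} [CommRing A] (𝒜 : ℕ → AddSubgroup A) [GradedRing 𝒜]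
    {R : CommRingCat.{u}} (ψ : R ⟶ CommRingCat.of (𝒜 0)) (T : Finset A)
    (hT : ∀ t' ∈ T, t' ∈ 𝒜 1)
    (hspan : ∀ x ∈ 𝒜 1, ∃ c : A → R, x = ∑ t ∈ T, (ψ.hom (c t) : A) * t)
    (hgen : Subring.closure ((𝒜 0 : Set A) ∪ (𝒜 1 : Set A)) = ⊤) :
    IsProper (Proj.toSpecZero 𝒜 ≫ Spec.map ψ) := by
  have hirr := irrelevant_le 𝒜 ψ.hom T hT hspan hgen
  have h1 : IsClosedImmersion (Proj.map (evGr 𝒜 ψ.hom T hT) hirr) :=
    Groth.Agent.Lib.ProjMapImm.isClosedImmersion_map _ _ 1 (ev_surj 𝒜 ψ.hom hT hspan hgen)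
  have h2 := Groth.Agent.Lib.ProjMapImm.map_toSpecZero (evGr 𝒜 ψ.hom T hT) hirr
    (CommRingCat.ofHom (algebraMap R (homogeneousSubmodule (↥T) R 0))) ψ (fun r => ev_C 𝒜 ψ.hom T r)
  rw [← h2]
  have h3 := isProper_poly (↥T) R
  infer_instance

end Groth.Agent.Lib.H60ProjProper
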