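import Groth.Agent.S12139
import Groth.Agent.Lib.H60AwayDegOne

/-!
# Points of `G(u) = RelProj.domQ u` and of `Proj(u)` over a general base morphism

* `mem_awayι_map_iff`: homogeneous elements of the image of a point under `Spec (Away.map ψ f)`.
* `domOpen_res_iff`: membership in `G(u_{U,U'})` is preserved and reflected by restricting the
  affine pair `(U, U')` to basic opens `(W, W')`.
* `emb_mem_domQ_iff`: over an affine pair `(U, U')`, the part of `G(u)` over `U'` is the chart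
  image of `G(u_{U,U'})`.
* `exists_liftQ_pair`: points of `G(u)` over `U'` lie in standard charts of the pair `(U, U')`.
* `v_liftQ_apply`: the value of `Proj(u)` at a chart point.
-/

set_option autoImplicit false
universe u
open CategoryTheory CategoryTheory.Limits AlgebraicGeometry TopologicalSpace Opposite
open scoped HomogeneousIdeal
noncomputable section
open EGA2

namespace Groth.Agent.Lib.H60ProjQPts

open Groth.Agent.Lib.H60AwayMapEq Groth.Agent.Lib.ProjQMap Groth.Agent.Lib.ProjQMapOn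
open Groth.Agent.Lib.H60AwayDegOne Groth.Agent.S12139
open HomogeneousLocalization

section Alg

variable {A B σ τ : Type u} [CommRing A] [SetLike σ A] [AddSubgroupClass σ A]
  [CommRing B] [SetLike τ B] [AddSubgroupClass τ B]
  {𝒜 : ℕ → σ} {ℬ : ℕ → τ} [GradedRing 𝒜] [GradedRing ℬ] (ψ : 𝒜 →+*ᵍ ℬ)

/-- Homogeneous elements of the image of a chart point under `Spec (Away.map ψ f)`. -/
lemma mem_awayι_map_iff {d : ℕ} (hd : 0 < d) {f : A} (hf : f ∈ 𝒜 d)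
    (t : Spec (CommRingCat.of (Away ℬ (ψ f)))) {n : ℕ} {a : A} (ha : a ∈ 𝒜 n) :
    a ∈ ((Proj.awayι 𝒜 f hf hd).base
        ((Spec.map (CommRingCat.ofHom (Away.map ψ f))).base t)).asHomogeneousIdeal ↔
      ψ a ∈ ((Proj.awayι ℬ (ψ f) (ψ.2 hf) hd).base t).asHomogeneousIdeal := by
  have ha' : a ^ d ∈ 𝒜 (n • d) := by
    have := SetLike.pow_mem_graded d ha
    rwa [smul_eq_mul, mul_comm] at this
  refine (mem_awayι_iff hf hd _ ha').trans ?_
  change Away.map ψ f (Away.mk 𝒜 hf n (a ^ d) ha') ∈ t.asIdeal ↔ _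
  rw [Away.map_mk]
  have hb' : (ψ a) ^ d ∈ ℬ (n • d) := by
    rw [← map_pow]; exact ψ.2 ha'
  have e4 := mem_awayι_iff (ψ.2 hf) hd t hb'
  have e5 : Away.mk ℬ (ψ.2 hf) n (ψ (a ^ d)) (ψ.2 ha') = Away.mk ℬ (ψ.2 hf) n ((ψ a) ^ d) hb' := by
    apply HomogeneousLocalization.val_injective
    rw [Away.val_mk, Away.val_mk, map_pow]
  refine (iff_of_eq (congrArg (fun q ↦ q ∈ t.asIdeal) e5)).trans ?_
  exact e4.symm

end Alg

section Rel

variable {Y Y' P P' : Scheme.{u}} (g : Y' ⟶ Y)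
  (𝒮 : RelProj.QCGrAlg Y) (𝒮' : RelProj.QCGrAlg Y') (u : RelProj.QGrHom g 𝒮 𝒮')
  (p : P ⟶ Y)
  (chart : ∀ (U : Y.Opens) (hU : IsAffineOpen U),
    (((p ⁻¹ᵁ U : P.Opens) : Scheme.{u}) ≅ Proj (𝒮.deg U hU)))
  (p' : P' ⟶ Y')
  (chart' : ∀ (U : Y'.Opens) (hU : IsAffineOpen U),
    (((p' ⁻¹ᵁ U : P'.Opens) : Scheme.{u}) ≅ Proj (𝒮'.deg U hU)))
  (hP' : RelProj.IsRelProj 𝒮' p' chart')

include hP' in
/-- Membership in `G(u_{U,U'})` is preserved and reflected by restriction to basic opens. -/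
lemma domOpen_res_iff (U : Y.Opens) (hU : IsAffineOpen U) (U' : Y'.Opens) (hU' : IsAffineOpen U')
    (hle : U' ≤ g ⁻¹ᵁ U)
    (W : Y.Opens) (hW : IsAffineOpen W) (r : Γ(Y, U)) (hWr : Y.basicOpen r = W)
    (W' : Y'.Opens) (hW' : IsAffineOpen W') (r' : Γ(Y', U')) (hW'r : Y'.basicOpen r' = W')
    (hle' : W' ≤ g ⁻¹ᵁ W) (w : Proj (𝒮'.deg U' hU')) (w₃ : Proj (𝒮'.deg W' hW'))
    (hww : (RelProj.emb p' chart' W' hW').base w₃ = (RelProj.emb p' chart' U' hU').base w) :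
    w ∈ RelCone.domOpen (u.gradedAt U hU U' hU' hle) ↔
      w₃ ∈ RelCone.domOpen (u.gradedAt W hW W' hW' hle') := by
  subst hWr hW'r
  have e1 := congrArg (fun g ↦ g.base w₃) (RelProj.map_res_emb hP' U' hU' r')
  have e1' : (RelProj.emb p' chart' U' hU').base
      ((Proj.map (𝒮'.res hU' (hU'.basicOpen r') (Y'.basicOpen_le r'))
        (𝒮'.irrelevant_le_map U' hU' r')).base w₃) =
      (RelProj.emb p' chart' (Y'.basicOpen r') (hU'.basicOpen r')).base w₃ := e1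
  have e2 : (Proj.map (𝒮'.res hU' (hU'.basicOpen r') (Y'.basicOpen_le r'))
      (𝒮'.irrelevant_le_map U' hU' r')).base w₃ = w :=
    (RelProj.emb p' chart' U' hU').isOpenEmbedding.injective (e1'.trans hww)
  have key : ∀ a : 𝒮.presheaf.obj (op U),
      (u.gradedAt U hU U' hU' hle) a ∈ w.asHomogeneousIdeal ↔
        (u.gradedAt (Y.basicOpen r) (hU.basicOpen r) (Y'.basicOpen r') (hU'.basicOpen r') hle')
          (𝒮.res hU (hU.basicOpen r) (Y.basicOpen_le r) a) ∈ w₃.asHomogeneousIdeal := by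
    intro a
    rw [gradedAt_resT g 𝒮 𝒮' u U hU _ (hU.basicOpen r) (Y.basicOpen_le r) _ (hU'.basicOpen r') hle' a,
      ← gradedAt_resS g 𝒮 𝒮' u U hU U' _ hU' (hU'.basicOpen r') hle (Y'.basicOpen_le r') a, ← e2]
    rfl
  rw [RelCone.mem_domOpen, RelCone.mem_domOpen]
  constructor
  · rintro ⟨a, ha, haw⟩
    exact ⟨_, res_mem_irrelevant hU (hU.basicOpen r) (Y.basicOpen_le r) ha,
      fun h ↦ haw ((key a).mpr h)⟩
  · rintro ⟨a₃, ha₃, h⟩
    by_contra hcon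
    push Not at hcon
    apply h
    have hle2 := 𝒮.irrelevant_le_map U hU r
    have h1 : (HomogeneousIdeal.irrelevant (𝒮.deg U hU)).toIdeal.map
        (𝒮.res hU (hU.basicOpen r) (Y.basicOpen_le r)) ≤
        Ideal.comap (u.gradedAt (Y.basicOpen r) (hU.basicOpen r) (Y'.basicOpen r')
          (hU'.basicOpen r') hle') w₃.asHomogeneousIdeal.toIdeal := by
      rw [Ideal.map_le_iff_le_comap]
      intro a ha
      rw [Ideal.mem_comap, Ideal.mem_comap]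
      exact (key a).mp (hcon a ha)
    exact h1 (hle2 ha₃)

include hP' in
/-- Over an affine pair `(U, U')`, the part of `G(u)` over `U'` is the chart image of
`G(u_{U,U'})`. -/
lemma emb_mem_domQ_iff (U : Y.Opens) (hU : IsAffineOpen U) (U' : Y'.Opens) (hU' : IsAffineOpen U')
    (hle : U' ≤ g ⁻¹ᵁ U) (w : Proj (𝒮'.deg U' hU')) :
    (RelProj.emb p' chart' U' hU').base w ∈ RelProj.domQ u p' chart' ↔
      w ∈ RelCone.domOpen (u.gradedAt U hU U' hU' hle) := by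
  constructor
  · intro h
    obtain ⟨⟨⟨⟨V, hV⟩, ⟨V', hV'⟩⟩, hle₂⟩, w'', hw'', hww⟩ := Opens.mem_iSup.mp h
    have hV₁ : IsAffineOpen V := hV
    have hV₁' : IsAffineOpen V' := hV'
    have hle₂' : V' ≤ g ⁻¹ᵁ V := hle₂
    have hw₂ : w'' ∈ RelCone.domOpen (u.gradedAt V hV₁ V' hV₁' hle₂') := hw''
    have hww' : (RelProj.emb p' chart' V' hV₁').base w'' = (RelProj.emb p' chart' U' hU').base w :=
      hww
    set c := (RelProj.emb p' chart' U' hU').base w with hc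
    have hcU : c ∈ p' ⁻¹ᵁ U' := range_emb_le p' chart' U' hU' w
    have hcV : c ∈ p' ⁻¹ᵁ V' := by rw [← hww']; exact range_emb_le p' chart' V' hV₁' w''
    have hsU : g.base (p'.base c) ∈ U := hle hcU
    have hsV : g.base (p'.base c) ∈ V := hle₂' hcV
    obtain ⟨W, hW₁, hW₂, hsW, -⟩ := Groth.Agent.S8281.exists_common_basic
      (⟨U, hU⟩ : Y.AffineZariskiSite) ⟨V, hV₁⟩ ⊤ (g.base (p'.base c)) hsU hsV trivial
    have hsW' : p'.base c ∈ g ⁻¹ᵁ W.1 := hsW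
    obtain ⟨W', hW'₁, hW'₂, hcW', hW'W⟩ := Groth.Agent.S8281.exists_common_basic
      (⟨U', hU'⟩ : Y'.AffineZariskiSite) ⟨V', hV₁'⟩ (g ⁻¹ᵁ W.1) (p'.base c) hcU hcV hsW'
    obtain ⟨r₁, hr₁⟩ := hW₁
    obtain ⟨r₂, hr₂⟩ := hW₂
    obtain ⟨r₁', hr₁'⟩ := hW'₁
    obtain ⟨r₂', hr₂'⟩ := hW'₂
    have hcW'' : c ∈ p' ⁻¹ᵁ W'.1 := hcW'
    have hw₃ := emb_apply_chart p' chart' W'.1 W'.2 c hcW''
    set w₃ := chartPt p' chart' W'.1 W'.2 c hcW''
    have h3 := (domOpen_res_iff g 𝒮 𝒮' u p' chart' hP' V hV₁ V' hV₁' hle₂' W.1 W.2 r₂ hr₂ W'.1 W'.2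
      r₂' hr₂' hW'W w'' w₃ (hw₃.trans hww'.symm)).mp hw₂
    exact (domOpen_res_iff g 𝒮 𝒮' u p' chart' hP' U hU U' hU' hle W.1 W.2 r₁ hr₁ W'.1 W'.2
      r₁' hr₁' hW'W w w₃ hw₃).mpr h3
  · intro h
    exact Opens.mem_iSup.mpr ⟨⟨(⟨U, hU⟩, ⟨U', hU'⟩), hle⟩, w, h, rfl⟩

include hP' in
/-- Points of `G(u)` over `U'` lie in the standard charts of the affine pair `(U, U')`. -/
lemma exists_liftQ_pair (x : ((RelProj.domQ u p' chart' : P'.Opens) : Scheme.{u}))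
    (U : Y.Opens) (hU : IsAffineOpen U) (U' : Y'.Opens) (hU' : IsAffineOpen U')
    (hle : U' ≤ g ⁻¹ᵁ U) (hx : (RelProj.domQ u p' chart').ι.base x ∈ p' ⁻¹ᵁ U') :
    ∃ (d : ℕ) (hd : 0 < d) (f : 𝒮.presheaf.obj (op U)) (hf : f ∈ 𝒮.deg U hU d)
      (t : Spec (CommRingCat.of (Away (𝒮'.deg U' hU') (u.gradedAt U hU U' hU' hle f)))),
      (liftQ g 𝒮 𝒮' u p' chart' U hU U' hU' hle hd f hf).base t = x := by
  have hw := emb_apply_chart p' chart' U' hU' _ hx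
  set w := chartPt p' chart' U' hU' _ hx
  have hmem : (RelProj.emb p' chart' U' hU').base w ∈ RelProj.domQ u p' chart' := by
    rw [hw]; exact x.2
  rw [emb_mem_domQ_iff g 𝒮 𝒮' u p' chart' hP' U hU U' hU' hle] at hmem
  obtain ⟨e, he, g₀, hg₀, hwg⟩ :=
    exists_homogeneous_of_mem_domOpen (u.gradedAt U hU U' hU' hle) w hmem
  obtain ⟨t, ht⟩ := mem_range_liftQ g 𝒮 𝒮' u p' chart' U hU U' hU' hle he g₀ hg₀ x w hw
    ((Proj.mem_basicOpen _ _ _).mp hwg)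
  exact ⟨e, he, g₀, hg₀, t, ht⟩

/-- The value of `Proj(u)` at a chart point. -/
lemma v_liftQ_apply (v : ((RelProj.domQ u p' chart' : P'.Opens) : Scheme.{u}) ⟶ P)
    (hv : RelProj.IsProjQMapOn u p chart p' chart' (RelProj.domQ u p' chart') v)
    (U : Y.Opens) (hU : IsAffineOpen U) (U' : Y'.Opens) (hU' : IsAffineOpen U')
    (hle : U' ≤ g ⁻¹ᵁ U) {d : ℕ} (hd : 0 < d) (f : 𝒮.presheaf.obj (op U)) (hf : f ∈ 𝒮.deg U hU d)
    (t : Spec (CommRingCat.of (Away (𝒮'.deg U' hU') (u.gradedAt U hU U' hU' hle f)))) :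
    v.base ((liftQ g 𝒮 𝒮' u p' chart' U hU U' hU' hle hd f hf).base t) =
      (RelProj.emb p chart U hU).base ((Proj.awayι (𝒮.deg U hU) f hf hd).base
        ((Spec.map (CommRingCat.ofHom (Away.map (u.gradedAt U hU U' hU' hle) f))).base t)) :=
  congrArg (fun g ↦ g.base t)
    ((isProjQMapOn_iff g 𝒮 𝒮' u p chart p' chart' v).mp hv ⟨U, hU, U', hU', hle, d, hd, f, hf⟩)

end Rel

end Groth.Agent.Lib.H60ProjQPts
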