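import Groth.Agent.Lib.H78PullSec
import Groth.Agent.Lib.RelTwistInv
import Groth.Agent.Lib.H60RelTwist
import Groth.Agent.Lib.GrTwistMul
import Groth.Agent.Lib.H60LineSym

/-!
# The canonical map `p^*E ⟶ O_P(1)` on a projective bundle is an epimorphism (helper28)

* `exists_notMem_of_closure`: if the ring is generated by `𝒜 0` and a set `T ⊆ 𝒜 1`, every point of `Proj` avoids an element of `T`.
* `closure_range_j`: for the graded symmetric algebra `𝒮` of `E`, `𝒮(U)` is generated by `𝒮(U)_0` and the image of `E(U)`.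
* `isGen_of_val`: a section of `O_P(1)` whose value on the chart is `f/1`, `f ∈ 𝒮(U)_1` vanishing nowhere, is a free generator.
* `homEquiv_symm_app_pb`: the adjoint of `φ : M ⟶ f_* N` sends `pb e` to `φ e`.
* `epi_adjoint` (S5732).
-/

set_option autoImplicit false
universe u
open CategoryTheory CategoryTheory.Limits AlgebraicGeometry TopologicalSpace Opposite
open scoped HomogeneousIdeal

noncomputable section
namespace Groth.Agent.Lib.RelTwistEpi

open Groth.Agent.Lib.H78PullSec Groth.Agent.Lib.H90Invertible Groth.Agent.Lib.H78TensorGen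
open Groth.Agent.Lib.RelTildeGlue Groth.Agent.Lib.RelTildeVal2 Groth.Agent.Lib.RelTildeLocal
open Groth.Agent.Lib.GrTwistMul Groth.Agent.Lib.GrTwistTilde Groth.Agent.Lib.GrTwistInv
open Groth.Agent.Lib.H60RelTwist

theorem homEquiv_symm_app_pb {X Y : Scheme.{u}} (f : X ⟶ Y) (M : Y.Modules) (N : X.Modules)
    (φ : M ⟶ (Scheme.Modules.pushforward f).obj N) (V : Y.Opens) (e : Γ(M, V)) :
    (((Scheme.Modules.pullbackPushforwardAdjunction f).homEquiv M N).symm φ).app (f ⁻¹ᵁ V) (pb f M e) =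
      ofPush f N V (φ.app V e) := by
  have h : φ = (Scheme.Modules.pullbackPushforwardAdjunction f).unit.app M ≫
      (Scheme.Modules.pushforward f).map (((Scheme.Modules.pullbackPushforwardAdjunction f).homEquiv M N).symm φ) := by
    have := Adjunction.homEquiv_unit (Scheme.Modules.pullbackPushforwardAdjunction f)
      (f := ((Scheme.Modules.pullbackPushforwardAdjunction f).homEquiv M N).symm φ)
    rw [Equiv.apply_symm_apply] at this
    exact this
  have h2 := congrArg (fun ψ => Scheme.Modules.Hom.app ψ V e) h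
  exact h2.symm

section ring

variable {A σ : Type u} [CommRing A] [SetLike σ A] [AddSubgroupClass σ A] {𝒜 : ℕ → σ} [GradedRing 𝒜]

/-- If the ring is generated by `𝒜 0` and a set `T` of elements of degree one, every point of `Proj` avoids an element of `T`. -/
theorem exists_notMem_of_closure (T : Set A) (hT : T ⊆ (𝒜 1 : Set A))
    (h : Subring.closure ((𝒜 0 : Set A) ∪ T) = ⊤) (x : ProjectiveSpectrum 𝒜) :
    ∃ f ∈ T, f ∉ x.asHomogeneousIdeal := by
  classical
  by_contra H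
  simp only [not_exists, not_and, not_not] at H
  apply x.not_irrelevant_le
  let q : A →+* A ⧸ x.asHomogeneousIdeal.toIdeal := Ideal.Quotient.mk _
  let g : A →+* A ⧸ x.asHomogeneousIdeal.toIdeal := q.comp (GradedRing.projZeroRingHom 𝒜)
  have hle : Subring.closure ((𝒜 0 : Set A) ∪ T) ≤ RingHom.eqLocus q g := by
    rw [Subring.closure_le]
    rintro a (ha | ha)
    · change q a = q (GradedRing.projZeroRingHom 𝒜 a)
      rw [GradedRing.projZeroRingHom_apply, DirectSum.decompose_of_mem_same 𝒜 ha]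
    · change q a = q (GradedRing.projZeroRingHom 𝒜 a)
      rw [GradedRing.projZeroRingHom_apply, DirectSum.decompose_of_mem_ne 𝒜 (hT ha) one_ne_zero, map_zero]
      exact Ideal.Quotient.eq_zero_iff_mem.mpr (H a ha)
  rw [h] at hle
  intro z hz
  have h1 : q z = g z := hle (Subring.mem_top z)
  have h2 : GradedRing.projZeroRingHom 𝒜 z = 0 := hz
  change z ∈ x.asHomogeneousIdeal.toIdeal
  rw [← Ideal.Quotient.eq_zero_iff_mem]
  change q z = 0
  rw [h1]
  change q (GradedRing.projZeroRingHom 𝒜 z) = 0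
  rw [h2, map_zero]

end ring

variable {Y P : Scheme.{u}}

/-- For the graded symmetric algebra `𝒮` of a quasi-coherent `E`, `𝒮(U)` is generated by `𝒮(U)_0` and the image of `E(U)`. -/
theorem closure_range_j (E : Y.Modules) (hE : Coh.IsQCoh E)
    (𝒮 : RelProj.QCGrAlg Y) (j : E ⟶ 𝒮.toModule) (hj : RelProj.IsGrSymAlg E 𝒮 j)
    (U : Y.Opens) (hU : IsAffineOpen U) :
    Subring.closure (((𝒮.deg U hU 0 : AddSubgroup (𝒮.presheaf.obj (op U))) : Set (𝒮.presheaf.obj (op U))) ∪
      Set.range (fun x : Γ(E, U) => (show 𝒮.presheaf.obj (op U) from j.app U x))) = ⊤ := by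
  haveI : E.IsQuasicoherent := hE
  obtain ⟨e, he1, he2⟩ := Groth.Agent.Lib.SymQCAlg.exists_ringEquiv E 𝒮.toQCAlg j hj.1 U hU
  rw [eq_top_iff]
  rintro y -
  have key : ∀ z : SymmetricAlgebra Γ(Y, U) Γ(E, U), e.symm z ∈
      Subring.closure (((𝒮.deg U hU 0 : AddSubgroup (𝒮.presheaf.obj (op U))) : Set (𝒮.presheaf.obj (op U))) ∪
        Set.range (fun x : Γ(E, U) => (show 𝒮.presheaf.obj (op U) from j.app U x))) := by
    intro z
    induction z using SymmetricAlgebra.induction with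
    | algebraMap a =>
      rw [← he1 a, RingEquiv.symm_apply_apply]
      exact Subring.subset_closure (Or.inl (𝒮.str_mem U hU a))
    | ι x =>
      rw [← he2 x, RingEquiv.symm_apply_apply]
      exact Subring.subset_closure (Or.inr ⟨x, rfl⟩)
    | mul a b ha hb => rw [map_mul]; exact mul_mem ha hb
    | add a b ha hb => rw [map_add]; exact add_mem ha hb
  have := key (e y)
  rwa [RingEquiv.symm_apply_apply] at this

variable {𝒮 : RelProj.QCGrAlg Y} {p : P ⟶ Y}
  {chart : ∀ (U : Y.Opens) (hU : IsAffineOpen U), (((p ⁻¹ᵁ U : P.Opens) : Scheme.{u}) ≅ Proj (𝒮.deg U hU))}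
  {O1 : P.Modules}
  {lam : ∀ (U : Y.Opens) (hU : IsAffineOpen U),
      O1 ⟶ (Scheme.Modules.pushforward (RelProj.emb p chart U hU)).obj (GrTwist.twist (𝒮.deg U hU) 1)}

/-- A section of `O_P(1)` whose value on the chart is `f/1`, `f ∈ 𝒮(U)_1` vanishing nowhere, is a free generator. -/
theorem isGen_of_val (hO1 : RelProj.IsRelTwist 𝒮 p chart 1 O1 lam) (U : Y.Opens) (hU : IsAffineOpen U)
    {f : 𝒮.presheaf.obj (op U)} (hf : f ∈ 𝒮.deg U hU 1) (W : P.Opens) (hW : W ≤ p ⁻¹ᵁ U) (s : Γ(O1, W))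
    (hne : ∀ y : (RelProj.emb p chart U hU ⁻¹ᵁ W : (Proj (𝒮.deg U hU)).Opens), f ∉ y.1.asHomogeneousIdeal)
    (hval : ∀ y : (RelProj.emb p chart U hU ⁻¹ᵁ W : (Proj (𝒮.deg U hU)).Opens),
      GrTwist.val (V := RelProj.emb p chart U hU ⁻¹ᵁ W) ((lam U hU).app W s) y =
        algebraMap (𝒮.presheaf.obj (op U)) (GrTwist.Loc (𝒮.deg U hU) y.1) f) : IsGen O1 W s := by
  apply isGen_of_lamS hO1 U hU W hW s
  have e : lamS lam U hU W s = genAt (d := 1) hf hne 1 1 (by simp) := by
    refine sec_ext fun y => ?_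
    rw [sval_genAt, zpow_one, fUnit_val]
    exact (hval y).trans (Localization.mk_one_eq_algebraMap _).symm
  rw [e]
  exact isGen_genAt _ _ _ _ _

/-- The morphism `p^*E ⟶ O_P(1)` adjoint to the canonical `φ : E ⟶ p_* O_P(1)` is an epimorphism. -/
theorem epi_adjoint (E : Y.Modules) (hE : Coh.IsQCoh E) (j : E ⟶ 𝒮.toModule) (hj : RelProj.IsGrSymAlg E 𝒮 j)
    (hO1 : RelProj.IsRelTwist 𝒮 p chart 1 O1 lam)
    (φ : E ⟶ (Scheme.Modules.pushforward p).obj O1)
    (hφ : ∀ (U : Y.Opens) (hU : IsAffineOpen U) (e : Γ(E, U))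
      (y : ↥(RelProj.emb p chart U hU ⁻¹ᵁ (p ⁻¹ᵁ U))),
      GrTwist.val (V := RelProj.emb p chart U hU ⁻¹ᵁ (p ⁻¹ᵁ U))
          ((lam U hU).app (p ⁻¹ᵁ U) ((φ.app U) e)) y =
        algebraMap (𝒮.presheaf.obj (op U)) (GrTwist.Loc (𝒮.deg U hU) y.1)
          ((j.app U) e : 𝒮.presheaf.obj (op U))) :
    Epi (((Scheme.Modules.pullbackPushforwardAdjunction p).homEquiv E O1).symm φ) := by
  refine epi_of_locally_surjective' _ fun W s x hx => ?_
  obtain ⟨U, hU, hxU, -⟩ := exists_isAffineOpen_mem_and_subset (x := p.base x) (U := ⊤) trivial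
  obtain ⟨y, rfl⟩ := exists_emb_eq (p := p) (chart := chart) U hU hxU
  obtain ⟨f, ⟨e, rfl⟩, hfy⟩ := exists_notMem_of_closure (𝒜 := 𝒮.deg U hU)
    (Set.range (fun x : Γ(E, U) => (show 𝒮.presheaf.obj (op U) from j.app U x)))
    (by rintro _ ⟨x, rfl⟩; exact hj.2 U hU x) (closure_range_j E hE 𝒮 j hj U hU) y
  dsimp only at hfy
  have hD : RelProj.emb p chart U hU ''ᵁ Proj.basicOpen (𝒮.deg U hU) (show 𝒮.presheaf.obj (op U) from j.app U e) ≤
      p ⁻¹ᵁ U := image_emb_le U hU _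
  have hpre : RelProj.emb p chart U hU ⁻¹ᵁ (RelProj.emb p chart U hU ''ᵁ
      Proj.basicOpen (𝒮.deg U hU) (show 𝒮.presheaf.obj (op U) from j.app U e)) =
      Proj.basicOpen (𝒮.deg U hU) (show 𝒮.presheaf.obj (op U) from j.app U e) :=
    (RelProj.emb p chart U hU).preimage_image_eq _
  have hσ : IsGen O1 _ (rs O1 hD (ofPush p O1 U (φ.app U e))) := by
    refine isGen_of_val hO1 U hU (hj.2 U hU e) _ hD _ (fun y' => ?_) (fun y' => ?_)
    · obtain ⟨y', hy'⟩ := y'
      rw [hpre] at hy'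
      exact (Proj.mem_basicOpen (𝒮.deg U hU) _ _).mp hy'
    · have e1 := lamS_rs (lam := lam) U hU hD (ofPush p O1 U (φ.app U e))
      unfold lamS at e1
      rw [e1]
      exact hφ U hU e ⟨y'.1, (RelProj.emb p chart U hU).preimage_mono hD y'.2⟩
  obtain ⟨c, hc⟩ := (hσ (RelProj.emb p chart U hU ''ᵁ
      Proj.basicOpen (𝒮.deg U hU) (show 𝒮.presheaf.obj (op U) from j.app U e) ⊓ W) inf_le_left).2
    (O1.presheaf.map (homOfLE inf_le_right).op s)
  refine ⟨_, inf_le_right, ⟨Set.mem_image_of_mem _ ((Proj.mem_basicOpen (𝒮.deg U hU) _ _).mpr hfy), hx⟩,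
    c • rs ((Scheme.Modules.pullback p).obj E) (inf_le_left.trans hD) (pb p E e), ?_⟩
  rw [Scheme.Modules.Hom.app_smul, Groth.Agent.Lib.H78SecCoord.app_rs, homEquiv_symm_app_pb, ← hc]
  change _ = c • rs O1 _ (rs O1 hD _)
  rw [rs_rs]

end Groth.Agent.Lib.RelTwistEpi
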