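import Groth.Agent.Lib.RelTwistMul

/-!
# The structure sheaf of a relative Proj is its twisting sheaf `O_P(0)` (helper28)

* `oneSec V : Γ(O(0), V)`: the section `1`; `isGen_oneSec`.
* `oval_map_app`: values of the sheaf component of `Proj.map`.
* `mu0 U hU : O_P ⟶ (emb U)_* O(0)`, `mu0_app`, `isRelTwist_structure : IsRelTwist 𝒮 p chart 0 O_P mu0`.
-/

set_option autoImplicit false
universe u

open CategoryTheory CategoryTheory.Limits AlgebraicGeometry Opposite TopologicalSpace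
open scoped HomogeneousIdeal

noncomputable section

namespace Groth.Agent.Lib.RelTwistZero

open Groth.Agent.Lib.RelTildeGlue Groth.Agent.Lib.RelTildeVal2 Groth.Agent.Lib.RelTildeLocal
open Groth.Agent.Lib.H90Invertible Groth.Agent.Lib.H4TensorPair Groth.Agent.Lib.GrTwistMul
open Groth.Agent.Lib.GrModQCoh Groth.Agent.Lib.GrTwistTilde Groth.Agent.Lib.GrTwistInv
open Groth.Agent.Lib.StructureModule

section ring

variable {A σ : Type u} [CommRing A] [SetLike σ A] [AddSubgroupClass σ A] {𝒜 : ℕ → σ} [GradedRing 𝒜]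

/-- The section `1` of `O(0)`. -/
def oneSec (V : (Proj 𝒜).Opens) : Γ(GrTwist.twist 𝒜 0, V) :=
  genAt (d := 0) (f := (1 : A)) SetLike.GradedOne.one_mem (fun y : V => one_notMem y.1) 0 0 (by simp)

@[simp] theorem sval_oneSec (V : (Proj 𝒜).Opens) (y : V) : sval (oneSec (𝒜 := 𝒜) V) y = 1 := by
  unfold oneSec
  rw [sval_genAt, zpow_zero, Units.val_one]

theorem isGen_oneSec (V : (Proj 𝒜).Opens) : IsGen (GrTwist.twist 𝒜 0) V (oneSec V) :=
  isGen_genAt _ _ 0 0 _

theorem oneSec_res {V V' : (Proj 𝒜).Opens} (h : V' ≤ V) :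
    (GrTwist.twist 𝒜 0).presheaf.map (homOfLE h).op (oneSec V) = oneSec V' :=
  sec_ext fun y => by rw [sval_map, sval_oneSec, sval_oneSec]

variable {B τ : Type u} [CommRing B] [SetLike τ B] [AddSubgroupClass τ B] {ℬ : ℕ → τ} [GradedRing ℬ]

/-- Values of the sheaf component of `Proj.map`. -/
theorem oval_map_app (ψ : 𝒜 →+*ᵍ ℬ) (hψ : ℬ₊ ≤ (𝒜₊).map ψ) (V : (Proj 𝒜).Opens) (r : Γ(Proj 𝒜, V))
    (y : (Proj.map ψ hψ ⁻¹ᵁ V : (Proj ℬ).Opens)) :
    oval ((Proj.map ψ hψ).app V r) y =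
      GrTwist.locMap ψ hψ y.1 (oval r ⟨ProjectiveSpectrum.comap ψ hψ y.1, y.2⟩) := by
  change ((Proj.comapStructureSheaf ψ hψ V (Proj.map ψ hψ ⁻¹ᵁ V) Set.Subset.rfl r).1 y).val = _
  rw [GrTwist.comapStructureSheaf_apply, HomogeneousLocalization.val_localRingHom]
  rfl

/-- Values do not depend on the presentation of the morphism. -/
theorem oval_app_congr {Z : Scheme.{u}} {f g : Proj ℬ ⟶ Z} (e : f = g) (W : Z.Opens) (a : Γ(Z, W))
    (y : ProjectiveSpectrum ℬ) (hy : y ∈ (f ⁻¹ᵁ W : (Proj ℬ).Opens)) (hy' : y ∈ (g ⁻¹ᵁ W : (Proj ℬ).Opens)) :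
    oval (f.app W a) ⟨y, hy⟩ = oval (g.app W a) ⟨y, hy'⟩ := by
  subst e
  rfl

end ring

variable {Y P : Scheme.{u}} {𝒮 : RelProj.QCGrAlg Y} {p : P ⟶ Y}
  {chart : ∀ (U : Y.Opens) (hU : IsAffineOpen U), (((p ⁻¹ᵁ U : P.Opens) : Scheme.{u}) ≅ Proj (𝒮.deg U hU))}

variable (p chart) in
/-- The identification of the structure sheaf with `O(0)` in the chart over `U`. -/
def mu0 (U : Y.Opens) (hU : IsAffineOpen U) :
    Coh.structureModule P ⟶
      (Scheme.Modules.pushforward (RelProj.emb p chart U hU)).obj (GrTwist.twist (𝒮.deg U hU) 0) :=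
  ofSection (M := (Scheme.Modules.pushforward (RelProj.emb p chart U hU)).obj (GrTwist.twist (𝒮.deg U hU) 0))
    (oneSec (RelProj.emb p chart U hU ⁻¹ᵁ ⊤))

theorem mu0_app (U : Y.Opens) (hU : IsAffineOpen U) (W : P.Opens) (a : Γ(P, W)) :
    (mu0 p chart U hU).app W (toSec W a) =
      ((RelProj.emb p chart U hU).app W a) • oneSec (RelProj.emb p chart U hU ⁻¹ᵁ W) := by
  unfold mu0
  rw [ofSection_app]
  rfl

theorem sval_mu0_app (U : Y.Opens) (hU : IsAffineOpen U) (W : P.Opens) (a : Γ(P, W))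
    (y : (RelProj.emb p chart U hU ⁻¹ᵁ W : (Proj (𝒮.deg U hU)).Opens)) :
    sval ((mu0 p chart U hU).app W (toSec W a)) y = oval ((RelProj.emb p chart U hU).app W a) y := by
  rw [mu0_app, sval_smul, sval_oneSec, mul_one]

/-- The structure sheaf of a relative Proj, with the identifications `mu0`, is its twisting sheaf `O_P(0)`. -/
theorem isRelTwist_structure (hP : RelProj.IsRelProj 𝒮 p chart) :
    RelProj.IsRelTwist 𝒮 p chart 0 (Coh.structureModule P) (mu0 p chart) where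
  bijective U hU W hW := by
    have hle : W ≤ (RelProj.emb p chart U hU).opensRange := by
      rw [Groth.Agent.Lib.H60RelTwist.opensRange_emb]; exact hW
    haveI := (RelProj.emb p chart U hU).isIso_app W hle
    have h2 : Function.Bijective ((RelProj.emb p chart U hU).app W).hom :=
      (ConcreteCategory.isIso_iff_bijective ((RelProj.emb p chart U hU).app W)).mp inferInstance
    have h1 := isGen_oneSec (𝒜 := 𝒮.deg U hU) (RelProj.emb p chart U hU ⁻¹ᵁ W) _ le_rfl
    have key : ((mu0 p chart U hU).app W : Γ(Coh.structureModule P, W) → _) =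
        (fun b : Γ(Proj (𝒮.deg U hU), RelProj.emb p chart U hU ⁻¹ᵁ W) =>
          b • (GrTwist.twist (𝒮.deg U hU) 0).presheaf.map (homOfLE le_rfl).op
            (oneSec (RelProj.emb p chart U hU ⁻¹ᵁ W))) ∘ ((RelProj.emb p chart U hU).app W).hom := by
      funext a
      simp only [Function.comp_apply]
      rw [oneSec_res]
      exact mu0_app U hU W a
    rw [key]
    exact h1.comp h2
  compat U hU r W s y hy hy' := by
    change sval ((mu0 p chart _ _).app W (toSec W s)) ⟨y, hy⟩ =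
      GrTwist.locMap _ _ y (sval ((mu0 p chart U hU).app W (toSec W s)) ⟨_, hy'⟩)
    rw [sval_mu0_app, sval_mu0_app]
    have e := RelProj.map_res_emb hP U hU r
    have hy2 : y ∈ ((Proj.map (𝒮.res hU (hU.basicOpen r) (Y.basicOpen_le r)) (𝒮.irrelevant_le_map U hU r) ≫
        RelProj.emb p chart U hU) ⁻¹ᵁ W : (Proj (𝒮.deg (Y.basicOpen r) (hU.basicOpen r))).Opens) := hy'
    rw [oval_app_congr e.symm W s y hy hy2]
    exact oval_map_app (𝒮.res hU (hU.basicOpen r) (Y.basicOpen_le r)) (𝒮.irrelevant_le_map U hU r)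
      (RelProj.emb p chart U hU ⁻¹ᵁ W) ((RelProj.emb p chart U hU).app W s) ⟨y, hy'⟩

end Groth.Agent.Lib.RelTwistZero
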