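import Groth.Agent.Lib.RelProjBaseChange
import Groth.Agent.Lib.H60CanonPhi
import Groth.Agent.Lib.RelTwistEpi
import Groth.Agent.Lib.RelTwistZero
import Groth.Agent.Lib.H78AtlasIso
import Groth.Agent.Lib.H60LineAlg

set_option autoImplicit false
universe u
open CategoryTheory AlgebraicGeometry TopologicalSpace Opposite GrTwist
open Groth.Agent.Lib.H60GrTwist Groth.Agent.Lib.H60RelTwist Groth.Agent.Lib.H78TensorGen
  Groth.Agent.Lib.H60CanonPhi Groth.Agent.Lib.H78Atlas Groth.Agent.Lib.H78PullSec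
open scoped HomogeneousIdeal

/-!
# Pullback of `O(1)` along `Proj(u)` (helper60)

For a graded `ψ`-morphism `u : 𝒮 → 𝒮'` (`ψ : Y' ⟶ Y`) satisfying the irrelevant-ideal condition on every affine pair
(e.g. `𝒮' = ψ^*𝒮`), with `𝒮` generated in degree one, and `h = Proj(u) : Proj(𝒮') ⟶ Proj(𝒮)` (`RelProj.IsProjQMap`):

* `nonempty_pullback_iso`: `h^* O_{Proj 𝒮}(1) ≅ O_{Proj 𝒮'}(1)` (relative twisting sheaves through `IsRelTwist`).

Tools: `fval` (value of a function on a relative Proj at a point of a chart), `fval_res`, `sval_lamS_smul`,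
`smul_eq_of_val` (sections with chart values `a₁/1`, `a₂/1` differ by a function `c` with `c·a₁/1 = a₂/1`),
`emb_comp`, `base_emb`, `mem_iff`, `fval_app` (values of `h^♯ t`), `naturality_res`, `isGen_of_valSec`,
`Idx`, `VP`, `exists_atlas` (the standard atlas of `O_P(1)` by the sections of value `f/1`, `f ∈ 𝒮(U)_1`).
-/

namespace Groth.Agent.Lib.H60ProjQTwist

section single

variable {Y P : Scheme.{u}} {𝒮 : RelProj.QCGrAlg Y} {p : P ⟶ Y}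
  {chart : ∀ (U : Y.Opens) (hU : IsAffineOpen U), (((p ⁻¹ᵁ U : P.Opens) : Scheme.{u}) ≅ Proj (𝒮.deg U hU))}
  {n : ℤ} {L : P.Modules}
  {lam : ∀ (U : Y.Opens) (hU : IsAffineOpen U),
      L ⟶ (Scheme.Modules.pushforward (RelProj.emb p chart U hU)).obj (GrTwist.twist (𝒮.deg U hU) n)}

variable (p chart) in
/-- The value of a function on `P` at a point of the chart over `U`. -/
noncomputable def fval (U : Y.Opens) (hU : IsAffineOpen U) (W : P.Opens) (c : Γ(P, W))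
    (y : ProjectiveSpectrum (𝒮.deg U hU)) (hy : (RelProj.emb p chart U hU).base y ∈ W) :
    GrTwist.Loc (𝒮.deg U hU) y :=
  oval (((RelProj.emb p chart U hU).app W).hom c) ⟨y, hy⟩

theorem fval_res (U : Y.Opens) (hU : IsAffineOpen U) {W W' : P.Opens} (h : W' ≤ W) (c : Γ(P, W))
    (y : ProjectiveSpectrum (𝒮.deg U hU)) (hy : (RelProj.emb p chart U hU).base y ∈ W') :
    fval p chart U hU W' ((P.presheaf.map (homOfLE h).op).hom c) y hy = fval p chart U hU W c y (h hy) := by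
  unfold fval
  have h1 := congrArg (fun k => k.hom c) ((RelProj.emb p chart U hU).naturality (homOfLE h).op)
  simp only [CommRingCat.hom_comp, RingHom.coe_comp, Function.comp_apply] at h1
  erw [h1]
  rfl

theorem sval_lamS_smul (U : Y.Opens) (hU : IsAffineOpen U) (W : P.Opens) (c : Γ(P, W)) (s : Γ(L, W))
    (y : ProjectiveSpectrum (𝒮.deg U hU)) (hy : (RelProj.emb p chart U hU).base y ∈ W) :
    sval (lamS lam U hU W (c • s)) ⟨y, hy⟩ = fval p chart U hU W c y hy * sval (lamS lam U hU W s) ⟨y, hy⟩ := by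
  rw [lamS_smul, sval_smul]
  rfl

/-- Two sections of a relative twisting sheaf with chart values `a₁ / 1`, `a₂ / 1` differ by the function `c`
as soon as `c · a₁ / 1 = a₂ / 1` valuewise, locally on the base. -/
theorem smul_eq_of_val (hL : RelProj.IsRelTwist 𝒮 p chart n L lam)
    {W : P.Opens} (c : Γ(P, W)) (τ₁ τ₂ : Γ(L, W))
    (hloc : ∀ z ∈ W, ∃ (U : Y.Opens) (hU : IsAffineOpen U) (_ : p.base z ∈ U) (a₁ a₂ : 𝒮.presheaf.obj (op U)),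
      Val lam U hU W τ₁ a₁ ∧ Val lam U hU W τ₂ a₂ ∧
      ∀ (y : ProjectiveSpectrum (𝒮.deg U hU)) (hy : (RelProj.emb p chart U hU).base y ∈ W),
        fval p chart U hU W c y hy * algebraMap _ (GrTwist.Loc (𝒮.deg U hU) y) a₁ = algebraMap _ _ a₂) :
    c • τ₁ = τ₂ := by
  refine Groth.Agent.Lib.H78TensorGen.sec_ext L _ _ fun z hz => ?_
  obtain ⟨U, hU, hzU, a₁, a₂, hv₁, hv₂, hc⟩ := hloc z hz
  refine ⟨W ⊓ p ⁻¹ᵁ U, inf_le_left, ⟨hz, hzU⟩, ?_⟩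
  apply (lamS_bijective hL U hU (W ⊓ p ⁻¹ᵁ U) inf_le_right).1
  refine Groth.Agent.Lib.H60GrTwist.sec_ext fun y => ?_
  rw [lamS_rs, lamS_rs, sval_map, sval_map, sval_lamS_smul]
  have e1 : sval (lamS lam U hU W τ₁) ⟨y.1, (inf_le_left : W ⊓ p ⁻¹ᵁ U ≤ W) y.2⟩ = algebraMap _ _ a₁ :=
    hv₁ y.1 _
  have e2 : sval (lamS lam U hU W τ₂) ⟨y.1, (inf_le_left : W ⊓ p ⁻¹ᵁ U ≤ W) y.2⟩ = algebraMap _ _ a₂ :=
    hv₂ y.1 _
  rw [e1, e2]
  exact hc y.1 _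

end single

section two

variable {Y Y' P P' : Scheme.{u}} {ψ : Y' ⟶ Y} {𝒮 : RelProj.QCGrAlg Y} {𝒮' : RelProj.QCGrAlg Y'}
  (u : RelProj.QGrHom ψ 𝒮 𝒮')
  (hirr : ∀ (U : Y.Opens) (hU : IsAffineOpen U) (U' : Y'.Opens) (hU' : IsAffineOpen U')
    (hle : U' ≤ ψ ⁻¹ᵁ U), (𝒮'.deg U' hU')₊ ≤ ((𝒮.deg U hU)₊).map (u.gradedAt U hU U' hU' hle))
  {p : P ⟶ Y}
  {chart : ∀ (U : Y.Opens) (hU : IsAffineOpen U),
    (((p ⁻¹ᵁ U : P.Opens) : Scheme.{u}) ≅ Proj (𝒮.deg U hU))}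
  {p' : P' ⟶ Y'}
  {chart' : ∀ (U' : Y'.Opens) (hU' : IsAffineOpen U'),
    (((p' ⁻¹ᵁ U' : P'.Opens) : Scheme.{u}) ≅ Proj (𝒮'.deg U' hU'))}
  (h : P' ⟶ P) (hh : RelProj.IsProjQMap u p chart p' chart' h)

include hh in
theorem emb_comp (U : Y.Opens) (hU : IsAffineOpen U) (U' : Y'.Opens)
    (hU' : IsAffineOpen U') (hle : U' ≤ ψ ⁻¹ᵁ U) :
    RelProj.emb p' chart' U' hU' ≫ h =
      Proj.map (u.gradedAt U hU U' hU' hle) (hirr U hU U' hU' hle) ≫ RelProj.emb p chart U hU :=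
  Groth.Agent.Lib.RelProjBaseChange.emb_comp_of_isProjQMap u hirr h hh U hU U' hU' hle

include hh in
theorem base_emb (U : Y.Opens) (hU : IsAffineOpen U) (U' : Y'.Opens)
    (hU' : IsAffineOpen U') (hle : U' ≤ ψ ⁻¹ᵁ U) (y : ProjectiveSpectrum (𝒮'.deg U' hU')) :
    h.base ((RelProj.emb p' chart' U' hU').base y) =
      (RelProj.emb p chart U hU).base
        (ProjectiveSpectrum.comap (u.gradedAt U hU U' hU' hle) (hirr U hU U' hU' hle) y) :=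
  congrArg (fun k => k.base y) (emb_comp u hirr h hh U hU U' hU' hle)

include hh in
theorem mem_iff (U : Y.Opens) (hU : IsAffineOpen U) (U' : Y'.Opens)
    (hU' : IsAffineOpen U') (hle : U' ≤ ψ ⁻¹ᵁ U) (T : P.Opens) (y : ProjectiveSpectrum (𝒮'.deg U' hU')) :
    (RelProj.emb p' chart' U' hU').base y ∈ h ⁻¹ᵁ T ↔
      (RelProj.emb p chart U hU).base
        (ProjectiveSpectrum.comap (u.gradedAt U hU U' hU' hle) (hirr U hU U' hU' hle) y) ∈ T := by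
  change h.base ((RelProj.emb p' chart' U' hU').base y) ∈ T ↔ _
  rw [base_emb u hirr h hh U hU U' hU' hle y]

include hh in
/-- Values of a function pulled back along `Proj(u)`. -/
theorem fval_app (U : Y.Opens) (hU : IsAffineOpen U) (U' : Y'.Opens)
    (hU' : IsAffineOpen U') (hle : U' ≤ ψ ⁻¹ᵁ U) (T : P.Opens) (t : Γ(P, T))
    (y : ProjectiveSpectrum (𝒮'.deg U' hU')) (hy : (RelProj.emb p' chart' U' hU').base y ∈ h ⁻¹ᵁ T) :
    fval p' chart' U' hU' (h ⁻¹ᵁ T) ((h.app T).hom t) y hy =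
      GrTwist.locMap (u.gradedAt U hU U' hU' hle) (hirr U hU U' hU' hle) y
        (fval p chart U hU T t _ ((mem_iff u hirr h hh U hU U' hU' hle T y).mp hy)) := by
  unfold fval
  have hy2 := (mem_iff u hirr h hh U hU U' hU' hle T y).mp hy
  have hy3 : y ∈ ((Proj.map (u.gradedAt U hU U' hU' hle) (hirr U hU U' hU' hle) ≫
      RelProj.emb p chart U hU) ⁻¹ᵁ T : (Proj (𝒮'.deg U' hU')).Opens) := hy2
  have hy1 : y ∈ ((RelProj.emb p' chart' U' hU' ≫ h) ⁻¹ᵁ T : (Proj (𝒮'.deg U' hU')).Opens) := hy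
  have h1 : oval (((RelProj.emb p' chart' U' hU').app (h ⁻¹ᵁ T)).hom ((h.app T).hom t)) ⟨y, hy⟩ =
      oval ((RelProj.emb p' chart' U' hU' ≫ h).app T t) ⟨y, hy1⟩ := by
    rw [Scheme.Hom.comp_app]
    rfl
  have h2 : oval ((Proj.map (u.gradedAt U hU U' hU' hle) (hirr U hU U' hU' hle) ≫
      RelProj.emb p chart U hU).app T t) ⟨y, hy3⟩ =
      oval ((Proj.map (u.gradedAt U hU U' hU' hle) (hirr U hU U' hU' hle)).app
        (RelProj.emb p chart U hU ⁻¹ᵁ T) (((RelProj.emb p chart U hU).app T).hom t)) ⟨y, hy2⟩ := by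
    rw [Scheme.Hom.comp_app]
    rfl
  have h3 := Groth.Agent.Lib.RelTwistZero.oval_map_app (u.gradedAt U hU U' hU' hle)
    (hirr U hU U' hU' hle) (RelProj.emb p chart U hU ⁻¹ᵁ T) (((RelProj.emb p chart U hU).app T).hom t)
    ⟨y, hy2⟩
  exact h1.trans ((Groth.Agent.Lib.RelTwistZero.oval_app_congr
    (emb_comp u hirr h hh U hU U' hU' hle) T t y hy1 hy3).trans (h2.trans h3))


theorem naturality_res {U U₀ : Y.Opens} (hU : IsAffineOpen U) (hU₀ : IsAffineOpen U₀) (hUU : U₀ ≤ U)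
    {U' U'' : Y'.Opens} (hU' : IsAffineOpen U') (hU'' : IsAffineOpen U'') (hUU' : U'' ≤ U')
    (hle : U' ≤ ψ ⁻¹ᵁ U) (hle₀ : U'' ≤ ψ ⁻¹ᵁ U₀) (f : 𝒮.presheaf.obj (op U)) :
    u.gradedAt U₀ hU₀ U'' hU'' hle₀ (𝒮.res hU hU₀ hUU f) =
      𝒮'.res hU' hU'' hUU' (u.gradedAt U hU U' hU' hle f) := by
  change (u.appLE U₀ U'' hle₀).hom ((𝒮.presheaf.map (homOfLE hUU).op).hom f) =
    (𝒮'.presheaf.map (homOfLE hUU').op).hom ((u.appLE U U' hle).hom f)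
  have h1 := congrArg (fun k => k.hom f) (u.toQHom.appLE_map hle hUU')
  have h2 := congrArg (fun k => k.hom f) (u.toQHom.map_appLE hUU hle₀)
  exact h2.trans h1.symm

end two

section gen

variable {Y P : Scheme.{u}} {𝒮 : RelProj.QCGrAlg Y} {p : P ⟶ Y}
  {chart : ∀ (U : Y.Opens) (hU : IsAffineOpen U), (((p ⁻¹ᵁ U : P.Opens) : Scheme.{u}) ≅ Proj (𝒮.deg U hU))}
  {O1 : P.Modules}
  {lam : ∀ (U : Y.Opens) (hU : IsAffineOpen U),
      O1 ⟶ (Scheme.Modules.pushforward (RelProj.emb p chart U hU)).obj (GrTwist.twist (𝒮.deg U hU) 1)}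

theorem image_basicOpen_le (U : Y.Opens) (hU : IsAffineOpen U) (f : 𝒮.presheaf.obj (op U)) :
    RelProj.emb p chart U hU ''ᵁ Proj.basicOpen (𝒮.deg U hU) f ≤ p ⁻¹ᵁ U := by
  rw [← opensRange_emb (chart := chart)]
  exact (RelProj.emb p chart U hU).image_le_opensRange _

/-- The section of `O_P(1)` with value `f / 1` generates over `D_+(f)`. -/
theorem isGen_of_valSec (hO1 : RelProj.IsRelTwist 𝒮 p chart 1 O1 lam) (U : Y.Opens) (hU : IsAffineOpen U)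
    {f : 𝒮.presheaf.obj (op U)} (hf : f ∈ 𝒮.deg U hU 1) (σ : Γ(O1, p ⁻¹ᵁ U))
    (hσ : Val lam U hU (p ⁻¹ᵁ U) σ f) :
    Groth.Agent.Lib.H90Invertible.IsGen O1 (RelProj.emb p chart U hU ''ᵁ Proj.basicOpen (𝒮.deg U hU) f)
      (rs O1 (image_basicOpen_le U hU f) σ) := by
  refine Groth.Agent.Lib.RelTwistEpi.isGen_of_val hO1 U hU hf _ (image_basicOpen_le U hU f) _ ?_ ?_
  · intro y
    have h1 : y.1 ∈ Proj.basicOpen (𝒮.deg U hU) f :=
      ((RelProj.emb p chart U hU).preimage_image_eq _).le y.2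
    exact (Proj.mem_basicOpen _ _ _).mp h1
  · intro y
    exact (hσ.res (image_basicOpen_le U hU f)) y.1 y.2

end gen

section main

variable {Y Y' P P' : Scheme.{u}} {ψ : Y' ⟶ Y} {𝒮 : RelProj.QCGrAlg Y} {𝒮' : RelProj.QCGrAlg Y'}
  (u : RelProj.QGrHom ψ 𝒮 𝒮')
  (hirr : ∀ (U : Y.Opens) (hU : IsAffineOpen U) (U' : Y'.Opens) (hU' : IsAffineOpen U')
    (hle : U' ≤ ψ ⁻¹ᵁ U), (𝒮'.deg U' hU')₊ ≤ ((𝒮.deg U hU)₊).map (u.gradedAt U hU U' hU' hle))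
  {p : P ⟶ Y}
  {chart : ∀ (U : Y.Opens) (hU : IsAffineOpen U),
    (((p ⁻¹ᵁ U : P.Opens) : Scheme.{u}) ≅ Proj (𝒮.deg U hU))}
  {p' : P' ⟶ Y'}
  {chart' : ∀ (U' : Y'.Opens) (hU' : IsAffineOpen U'),
    (((p' ⁻¹ᵁ U' : P'.Opens) : Scheme.{u}) ≅ Proj (𝒮'.deg U' hU'))}
  (h : P' ⟶ P) (hh : RelProj.IsProjQMap u p chart p' chart' h)
  {O1 : P.Modules}
  {lam : ∀ (U : Y.Opens) (hU : IsAffineOpen U),
      O1 ⟶ (Scheme.Modules.pushforward (RelProj.emb p chart U hU)).obj (GrTwist.twist (𝒮.deg U hU) 1)}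
  {O1' : P'.Modules}
  {lam' : ∀ (U : Y'.Opens) (hU : IsAffineOpen U),
      O1' ⟶ (Scheme.Modules.pushforward (RelProj.emb p' chart' U hU)).obj (GrTwist.twist (𝒮'.deg U hU) 1)}

variable (𝒮) in
/-- Index set of the standard atlas of `O_P(1)`: affine opens with a section of degree one. -/
structure Idx where
  U : Y.Opens
  hU : IsAffineOpen U
  f : 𝒮.presheaf.obj (op U)
  hf : f ∈ 𝒮.deg U hU 1

variable (ψ 𝒮) in
/-- Index set of the atlas upstairs. -/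
structure Idx2 where
  i : Idx 𝒮
  U' : Y'.Opens
  hU' : IsAffineOpen U'
  hle : U' ≤ ψ ⁻¹ᵁ i.U

variable (p chart) in
/-- The standard open `D_+(f)` of the chart over `U`, in `P`. -/
noncomputable def VP (i : Idx 𝒮) : P.Opens :=
  RelProj.emb p chart i.U i.hU ''ᵁ Proj.basicOpen (𝒮.deg i.U i.hU) i.f

theorem VP_le (i : Idx 𝒮) : VP p chart i ≤ p ⁻¹ᵁ i.U := image_basicOpen_le i.U i.hU i.f

/-- The image of the degree one section. -/
noncomputable def fQ (k : Idx2 ψ 𝒮) : 𝒮'.presheaf.obj (op k.U') :=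
  u.gradedAt k.i.U k.i.hU k.U' k.hU' k.hle k.i.f

theorem fQ_mem (k : Idx2 ψ 𝒮) : fQ u k ∈ 𝒮'.deg k.U' k.hU' 1 :=
  (u.gradedAt k.i.U k.i.hU k.U' k.hU' k.hle).map_mem k.i.hf

/-- The index upstairs. -/
noncomputable def idxQ (k : Idx2 ψ 𝒮) : Idx 𝒮' := ⟨k.U', k.hU', fQ u k, fQ_mem u k⟩

include hirr hh in
theorem VP_idxQ_le (k : Idx2 ψ 𝒮) : VP p' chart' (idxQ u k) ≤ h ⁻¹ᵁ VP p chart k.i := by
  rintro _ ⟨y, hy, rfl⟩
  refine (mem_iff u hirr h hh k.i.U k.i.hU k.U' k.hU' k.hle (VP p chart k.i) y).mpr ?_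
  exact ⟨_, hy, rfl⟩

include hirr in
theorem iSup_VP_idxQ (hgen : 𝒮.IsGenDegOne) : ⨆ k : Idx2 ψ 𝒮, VP p' chart' (idxQ u k) = ⊤ := by
  rw [eq_top_iff]
  intro z _
  obtain ⟨⟨U, hU0⟩, hzU⟩ := Opens.mem_iSup.mp
    ((iSup_affineOpens_eq_top Y).ge (Set.mem_univ (ψ.base (p'.base z))))
  have hU : IsAffineOpen U := hU0
  obtain ⟨_, ⟨U', hU'', rfl⟩, hzU', hU'U⟩ := Y'.isBasis_affineOpens.exists_subset_of_mem_open
    (show p'.base z ∈ ((ψ ⁻¹ᵁ U : Y'.Opens) : Set Y') from hzU) (ψ ⁻¹ᵁ U).2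
  have hU' : IsAffineOpen U' := hU''
  have hz2 : z ∈ (RelProj.emb p' chart' U' hU').opensRange := by
    rw [opensRange_emb]
    exact hzU'
  obtain ⟨y, rfl⟩ := hz2
  obtain ⟨f, hf, hfy⟩ := Groth.Agent.Lib.H60LineAlg.exists_deg_one_notMem (𝒮.deg U hU) (hgen U hU)
    (ProjectiveSpectrum.comap (u.gradedAt U hU U' hU' hU'U) (hirr U hU U' hU' hU'U) y)
  refine Opens.mem_iSup.mpr ⟨⟨⟨U, hU, f, hf⟩, U', hU', hU'U⟩, ?_⟩
  exact ⟨y, hfy, rfl⟩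

/-- The standard atlas. -/
theorem exists_atlas (hO1 : RelProj.IsRelTwist 𝒮 p chart 1 O1 lam) :
    ∃ (σ : ∀ i : Idx 𝒮, Γ(O1, p ⁻¹ᵁ i.U)) (A : Atlas O1 (VP p chart)),
      (∀ i, Val lam i.U i.hU (p ⁻¹ᵁ i.U) (σ i) i.f) ∧ ∀ i, A.E i = rs O1 (VP_le i) (σ i) := by
  have hσ : ∀ i : Idx 𝒮, ∃ σ : Γ(O1, p ⁻¹ᵁ i.U), Val lam i.U i.hU (p ⁻¹ᵁ i.U) σ i.f :=
    fun i => Val.exists hO1 i.U i.hU i.hf Nat.cast_one.symm
  choose σ hσv using hσ
  exact ⟨σ, ⟨fun i => rs O1 (VP_le i) (σ i), fun i => isGen_of_valSec hO1 i.U i.hU i.hf (σ i) (hσv i)⟩,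
    hσv, fun _ => rfl⟩

include hirr hh in
/-- **Pullback of `O(1)` along `Proj(u)`**. -/
theorem nonempty_pullback_iso (hgen : 𝒮.IsGenDegOne) (hP : RelProj.IsRelProj 𝒮 p chart)
    (hP' : RelProj.IsRelProj 𝒮' p' chart')
    (hO1 : RelProj.IsRelTwist 𝒮 p chart 1 O1 lam) (hO1' : RelProj.IsRelTwist 𝒮' p' chart' 1 O1' lam') :
    Nonempty ((Scheme.Modules.pullback h).obj O1 ≅ O1') := by
  obtain ⟨σ, A, hσv, hA⟩ := exists_atlas hO1
  obtain ⟨σ', A', hσ'v, hA'⟩ := exists_atlas hO1'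
  refine Groth.Agent.Lib.H78AtlasIso.nonempty_iso_of_atlas
    ((pullAtlas h A).refine (fun k : Idx2 ψ 𝒮 => k.i) (fun k => VP p' chart' (idxQ u k))
      (VP_idxQ_le u hirr h hh))
    (A'.refine (idxQ u) (fun k => VP p' chart' (idxQ u k)) (fun k => le_rfl))
    (iSup_VP_idxQ u hirr hgen) (fun k l => ?_)
  rw [Atlas.refine_trans, Atlas.refine_trans, pullAtlas_trans, rf_self]
  refine A'.trans_unique _ _ ?_
  rw [hA', hA', rs_rs, rs_rs]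
  refine smul_eq_of_val hO1' _ _ _ (fun z hz => ?_)
  -- the point of the base
  have hz1 : p'.base z ∈ k.U' := VP_le (idxQ u k) hz.1
  have hz2 : p'.base z ∈ l.U' := VP_le (idxQ u l) hz.2
  have hψz : ψ.base (p'.base z) ∈ k.i.U ⊓ l.i.U := ⟨k.hle hz1, l.hle hz2⟩
  obtain ⟨_, ⟨U₀, hU₀', rfl⟩, hzU₀, hU₀le⟩ := Y.isBasis_affineOpens.exists_subset_of_mem_open
    (show ψ.base (p'.base z) ∈ ((k.i.U ⊓ l.i.U : Y.Opens) : Set Y) from hψz) (k.i.U ⊓ l.i.U).2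
  have hU₀ : IsAffineOpen U₀ := hU₀'
  obtain ⟨_, ⟨U'', hU3, rfl⟩, hzU'', hU''le⟩ := Y'.isBasis_affineOpens.exists_subset_of_mem_open
    (show p'.base z ∈ ((k.U' ⊓ l.U' ⊓ ψ ⁻¹ᵁ U₀ : Y'.Opens) : Set Y') from ⟨⟨hz1, hz2⟩, hzU₀⟩)
    (k.U' ⊓ l.U' ⊓ ψ ⁻¹ᵁ U₀).2
  have hU'' : IsAffineOpen U'' := hU3
  have hle₁ : U'' ≤ k.U' := fun a ha => (hU''le ha).1.1
  have hle₂ : U'' ≤ l.U' := fun a ha => (hU''le ha).1.2
  have hle₀ : U'' ≤ ψ ⁻¹ᵁ U₀ := fun a ha => (hU''le ha).2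
  have hk₀ : U₀ ≤ k.i.U := fun a ha => (hU₀le ha).1
  have hl₀ : U₀ ≤ l.i.U := fun a ha => (hU₀le ha).2
  refine ⟨U'', hU'', hzU'', 𝒮'.res k.hU' hU'' hle₁ (fQ u k), 𝒮'.res l.hU' hU'' hle₂ (fQ u l),
    ((hσ'v (idxQ u k)).of_le hP' hO1' hU'' hle₁).res _,
    ((hσ'v (idxQ u l)).of_le hP' hO1' hU'' hle₂).res _, fun y hy => ?_⟩
  -- the function in terms of `h.app`
  have hWT : VP p' chart' (idxQ u k) ⊓ VP p' chart' (idxQ u l) ≤
      h ⁻¹ᵁ (VP p chart k.i ⊓ VP p chart l.i) :=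
    fun a ha => ⟨VP_idxQ_le u hirr h hh k ha.1, VP_idxQ_le u hirr h hh l ha.2⟩
  have hc : fval p' chart' U'' hU'' (VP p' chart' (idxQ u k) ⊓ VP p' chart' (idxQ u l))
      (rf (inf_le_inf (VP_idxQ_le u hirr h hh k) (VP_idxQ_le u hirr h hh l))
        ((ConcreteCategory.hom (Scheme.Hom.appLE h (VP p chart k.i ⊓ VP p chart l.i)
          (h ⁻¹ᵁ VP p chart k.i ⊓ h ⁻¹ᵁ VP p chart l.i) (le_of_eq rfl))) (A.trans k.i l.i))) y hy =
      fval p' chart' U'' hU'' (h ⁻¹ᵁ (VP p chart k.i ⊓ VP p chart l.i))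
        ((h.app (VP p chart k.i ⊓ VP p chart l.i)).hom (A.trans k.i l.i)) y (hWT hy) := by
    have e : rf (inf_le_inf (VP_idxQ_le u hirr h hh k) (VP_idxQ_le u hirr h hh l))
        ((ConcreteCategory.hom (Scheme.Hom.appLE h (VP p chart k.i ⊓ VP p chart l.i)
          (h ⁻¹ᵁ VP p chart k.i ⊓ h ⁻¹ᵁ VP p chart l.i) (le_of_eq rfl))) (A.trans k.i l.i)) =
        (P'.presheaf.map (homOfLE hWT).op).hom
          ((h.app (VP p chart k.i ⊓ VP p chart l.i)).hom (A.trans k.i l.i)) := rf_rf _ _ _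
    rw [e]
    exact fval_res U'' hU'' hWT _ y hy
  rw [hc, fval_app u hirr h hh U₀ hU₀ U'' hU'' hle₀]
  -- the identity downstairs
  have hx := (mem_iff u hirr h hh U₀ hU₀ U'' hU'' hle₀ (VP p chart k.i ⊓ VP p chart l.i) y).mp (hWT hy)
  have hspec := A.trans_spec k.i l.i
  rw [hA, hA, rs_rs, rs_rs] at hspec
  have h1 := congrArg (fun s => sval (lamS lam U₀ hU₀ _ s) ⟨_, hx⟩) hspec
  simp only [] at h1
  rw [sval_lamS_smul] at h1
  have e1 : sval (lamS lam U₀ hU₀ (VP p chart k.i ⊓ VP p chart l.i)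
      (rs O1 ((inf_le_left : VP p chart k.i ⊓ VP p chart l.i ≤ VP p chart k.i).trans (VP_le k.i)) (σ k.i)))
      ⟨_, hx⟩ = algebraMap _ _ (𝒮.res k.i.hU hU₀ hk₀ k.i.f) :=
    (((hσv k.i).of_le hP hO1 hU₀ hk₀).res _) _ hx
  have e2 : sval (lamS lam U₀ hU₀ (VP p chart k.i ⊓ VP p chart l.i)
      (rs O1 ((inf_le_right : VP p chart k.i ⊓ VP p chart l.i ≤ VP p chart l.i).trans (VP_le l.i)) (σ l.i)))
      ⟨_, hx⟩ = algebraMap _ _ (𝒮.res l.i.hU hU₀ hl₀ l.i.f) :=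
    (((hσv l.i).of_le hP hO1 hU₀ hl₀).res _) _ hx
  rw [e1, e2] at h1
  have h2 := congrArg (GrTwist.locMap (u.gradedAt U₀ hU₀ U'' hU'' hle₀) (hirr U₀ hU₀ U'' hU'' hle₀) y) h1
  rw [map_mul, locMap_algebraMap, locMap_algebraMap,
    naturality_res u k.i.hU hU₀ hk₀ k.hU' hU'' hle₁ k.hle hle₀,
    naturality_res u l.i.hU hU₀ hl₀ l.hU' hU'' hle₂ l.hle hle₀] at h2
  exact h2

end main

end Groth.Agent.Lib.H60ProjQTwist
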