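import Groth.Agent.Lib.H60ProjQTwist
import Groth.Agent.Lib.ProjMapImm
import Groth.Agent.Lib.RelProjBaseChange

/-!
# Pullback of `O(1)` along `Proj(u)`, local form of the irrelevant-ideal condition (helper60)

Variant of `H60ProjQTwist.nonempty_pullback_iso` in which the irrelevant-ideal condition is only asked for a family of
affine pairs covering the source ("good pairs"):

* `good_res`: a good pair stays good after shrinking `U` to any affine open and `U'` to a basic open;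
* `base_emb`, `mem_iff`, `fval_app`: the pairwise forms (hypothesis: the chart equation `he` for that pair);
* `nonempty_pullback_iso`: `h^* O_{Proj 𝒮}(1) ≅ O_{Proj 𝒮'}(1)` given `hcov` (every point of `Proj 𝒮'` lies over the `U'`
  of some good pair) and `hemb` (`h` is chartwise `Proj.map` on good pairs);
* `over_pair`, `hom_over` (`h ≫ p = p' ≫ ψ`), `domQ_eq_top`, `emb_comp_of_isProjQMapOn` (a `Proj(u)` given on an open through
  which the identity factors satisfies `hemb`).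
-/

set_option autoImplicit false
universe u
open CategoryTheory AlgebraicGeometry TopologicalSpace Opposite GrTwist
open Groth.Agent.Lib.H60GrTwist Groth.Agent.Lib.H60RelTwist Groth.Agent.Lib.H78TensorGen
  Groth.Agent.Lib.H60CanonPhi Groth.Agent.Lib.H78Atlas Groth.Agent.Lib.H78PullSec
  Groth.Agent.Lib.H60ProjQTwist
open scoped HomogeneousIdeal

namespace Groth.Agent.Lib.H60ProjQTwist2

variable {Y Y' P P' : Scheme.{u}} {ψ : Y' ⟶ Y} {𝒮 : RelProj.QCGrAlg Y} {𝒮' : RelProj.QCGrAlg Y'}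
  (u : RelProj.QGrHom ψ 𝒮 𝒮')

/-- Shrinking a good pair. -/
theorem good_res {U U₀ : Y.Opens} (hU : IsAffineOpen U) (hU₀ : IsAffineOpen U₀) (hUU : U₀ ≤ U)
    {U' : Y'.Opens} (hU' : IsAffineOpen U') (r' : Γ(Y', U')) (hle : U' ≤ ψ ⁻¹ᵁ U)
    (hle₀ : Y'.basicOpen r' ≤ ψ ⁻¹ᵁ U₀)
    (hg : (𝒮'.deg U' hU')₊ ≤ ((𝒮.deg U hU)₊).map (u.gradedAt U hU U' hU' hle)) :
    (𝒮'.deg (Y'.basicOpen r') (hU'.basicOpen r'))₊ ≤
      ((𝒮.deg U₀ hU₀)₊).map (u.gradedAt U₀ hU₀ (Y'.basicOpen r') (hU'.basicOpen r') hle₀) := by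
  have h1 := HomogeneousIdeal.irrelevant_le_map_comp hg (𝒮'.irrelevant_le_map U' hU' r')
  have e : (𝒮'.res hU' (hU'.basicOpen r') (Y'.basicOpen_le r')).comp (u.gradedAt U hU U' hU' hle) =
      (u.gradedAt U₀ hU₀ (Y'.basicOpen r') (hU'.basicOpen r') hle₀).comp (𝒮.res hU hU₀ hUU) := by
    ext x
    exact (naturality_res u hU hU₀ hUU hU' (hU'.basicOpen r') (Y'.basicOpen_le r') hle hle₀ x).symm
  rw [e, HomogeneousIdeal.map_comp] at h1
  refine h1.trans (HomogeneousIdeal.map_mono _ ?_)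
  rw [HomogeneousIdeal.map_le_iff_le_comap, HomogeneousIdeal.irrelevant_le]
  intro i hi a ha
  exact HomogeneousIdeal.mem_irrelevant_of_mem _ hi ((𝒮.res hU hU₀ hUU).map_mem ha)

section pair

variable {p : P ⟶ Y}
  {chart : ∀ (U : Y.Opens) (hU : IsAffineOpen U),
    (((p ⁻¹ᵁ U : P.Opens) : Scheme.{u}) ≅ Proj (𝒮.deg U hU))}
  {p' : P' ⟶ Y'}
  {chart' : ∀ (U' : Y'.Opens) (hU' : IsAffineOpen U'),
    (((p' ⁻¹ᵁ U' : P'.Opens) : Scheme.{u}) ≅ Proj (𝒮'.deg U' hU'))}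
  (h : P' ⟶ P)
  {U : Y.Opens} {hU : IsAffineOpen U} {U' : Y'.Opens} {hU' : IsAffineOpen U'} {hle : U' ≤ ψ ⁻¹ᵁ U}
  (hg : (𝒮'.deg U' hU')₊ ≤ ((𝒮.deg U hU)₊).map (u.gradedAt U hU U' hU' hle))
  (he : RelProj.emb p' chart' U' hU' ≫ h =
    Proj.map (u.gradedAt U hU U' hU' hle) hg ≫ RelProj.emb p chart U hU)

include he in
theorem base_emb (y : ProjectiveSpectrum (𝒮'.deg U' hU')) :
    h.base ((RelProj.emb p' chart' U' hU').base y) =
      (RelProj.emb p chart U hU).base (ProjectiveSpectrum.comap (u.gradedAt U hU U' hU' hle) hg y) :=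
  congrArg (fun k => k.base y) he

include he in
theorem mem_iff (T : P.Opens) (y : ProjectiveSpectrum (𝒮'.deg U' hU')) :
    (RelProj.emb p' chart' U' hU').base y ∈ h ⁻¹ᵁ T ↔
      (RelProj.emb p chart U hU).base
        (ProjectiveSpectrum.comap (u.gradedAt U hU U' hU' hle) hg y) ∈ T := by
  change h.base ((RelProj.emb p' chart' U' hU').base y) ∈ T ↔ _
  rw [base_emb u h hg he y]

include he in
/-- Values of a function pulled back along `Proj(u)`. -/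
theorem fval_app (T : P.Opens) (t : Γ(P, T))
    (y : ProjectiveSpectrum (𝒮'.deg U' hU')) (hy : (RelProj.emb p' chart' U' hU').base y ∈ h ⁻¹ᵁ T) :
    fval p' chart' U' hU' (h ⁻¹ᵁ T) ((h.app T).hom t) y hy =
      GrTwist.locMap (u.gradedAt U hU U' hU' hle) hg y
        (fval p chart U hU T t _ ((mem_iff u h hg he T y).mp hy)) := by
  unfold fval
  have hy2 := (mem_iff u h hg he T y).mp hy
  have hy3 : y ∈ ((Proj.map (u.gradedAt U hU U' hU' hle) hg ≫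
      RelProj.emb p chart U hU) ⁻¹ᵁ T : (Proj (𝒮'.deg U' hU')).Opens) := hy2
  have hy1 : y ∈ ((RelProj.emb p' chart' U' hU' ≫ h) ⁻¹ᵁ T : (Proj (𝒮'.deg U' hU')).Opens) := hy
  have h1 : oval (((RelProj.emb p' chart' U' hU').app (h ⁻¹ᵁ T)).hom ((h.app T).hom t)) ⟨y, hy⟩ =
      oval ((RelProj.emb p' chart' U' hU' ≫ h).app T t) ⟨y, hy1⟩ := by
    rw [Scheme.Hom.comp_app]
    rfl
  have h2 : oval ((Proj.map (u.gradedAt U hU U' hU' hle) hg ≫
      RelProj.emb p chart U hU).app T t) ⟨y, hy3⟩ =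
      oval ((Proj.map (u.gradedAt U hU U' hU' hle) hg).app
        (RelProj.emb p chart U hU ⁻¹ᵁ T) (((RelProj.emb p chart U hU).app T).hom t)) ⟨y, hy2⟩ := by
    rw [Scheme.Hom.comp_app]
    rfl
  have h3 := Groth.Agent.Lib.RelTwistZero.oval_map_app (u.gradedAt U hU U' hU' hle)
    hg (RelProj.emb p chart U hU ⁻¹ᵁ T) (((RelProj.emb p chart U hU).app T).hom t)
    ⟨y, hy2⟩
  exact h1.trans ((Groth.Agent.Lib.RelTwistZero.oval_app_congr he T t y hy1 hy3).trans (h2.trans h3))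

end pair

section main

variable {p : P ⟶ Y}
  {chart : ∀ (U : Y.Opens) (hU : IsAffineOpen U),
    (((p ⁻¹ᵁ U : P.Opens) : Scheme.{u}) ≅ Proj (𝒮.deg U hU))}
  {p' : P' ⟶ Y'}
  {chart' : ∀ (U' : Y'.Opens) (hU' : IsAffineOpen U'),
    (((p' ⁻¹ᵁ U' : P'.Opens) : Scheme.{u}) ≅ Proj (𝒮'.deg U' hU'))}
  (h : P' ⟶ P)
  (hemb : ∀ (U : Y.Opens) (hU : IsAffineOpen U) (U' : Y'.Opens) (hU' : IsAffineOpen U')
    (hle : U' ≤ ψ ⁻¹ᵁ U)
    (hg : (𝒮'.deg U' hU')₊ ≤ ((𝒮.deg U hU)₊).map (u.gradedAt U hU U' hU' hle)),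
    RelProj.emb p' chart' U' hU' ≫ h =
      Proj.map (u.gradedAt U hU U' hU' hle) hg ≫ RelProj.emb p chart U hU)
  (hcov : ∀ z : P', ∃ (U : Y.Opens) (hU : IsAffineOpen U) (U' : Y'.Opens) (hU' : IsAffineOpen U')
    (hle : U' ≤ ψ ⁻¹ᵁ U), p'.base z ∈ U' ∧
      (𝒮'.deg U' hU')₊ ≤ ((𝒮.deg U hU)₊).map (u.gradedAt U hU U' hU' hle))
  {O1 : P.Modules}
  {lam : ∀ (U : Y.Opens) (hU : IsAffineOpen U),
      O1 ⟶ (Scheme.Modules.pushforward (RelProj.emb p chart U hU)).obj (GrTwist.twist (𝒮.deg U hU) 1)}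
  {O1' : P'.Modules}
  {lam' : ∀ (U : Y'.Opens) (hU : IsAffineOpen U),
      O1' ⟶ (Scheme.Modules.pushforward (RelProj.emb p' chart' U hU)).obj (GrTwist.twist (𝒮'.deg U hU) 1)}

/-- Index set of the atlas upstairs: good pairs with a section of degree one downstairs. -/
structure Idx2 where
  i : Idx 𝒮
  U' : Y'.Opens
  hU' : IsAffineOpen U'
  hle : U' ≤ ψ ⁻¹ᵁ i.U
  good : (𝒮'.deg U' hU')₊ ≤ ((𝒮.deg i.U i.hU)₊).map (u.gradedAt i.U i.hU U' hU' hle)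

variable {u}

/-- The image of the degree one section. -/
noncomputable def fQ (k : Idx2 u) : 𝒮'.presheaf.obj (op k.U') :=
  u.gradedAt k.i.U k.i.hU k.U' k.hU' k.hle k.i.f

theorem fQ_mem (k : Idx2 u) : fQ k ∈ 𝒮'.deg k.U' k.hU' 1 :=
  (u.gradedAt k.i.U k.i.hU k.U' k.hU' k.hle).map_mem k.i.hf

/-- The index upstairs. -/
noncomputable def idxQ (k : Idx2 u) : Idx 𝒮' := ⟨k.U', k.hU', fQ k, fQ_mem k⟩

include hemb in
theorem VP_idxQ_le (k : Idx2 u) : VP p' chart' (idxQ k) ≤ h ⁻¹ᵁ VP p chart k.i := by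
  rintro _ ⟨y, hy, rfl⟩
  refine (mem_iff u h k.good (hemb k.i.U k.i.hU k.U' k.hU' k.hle k.good) (VP p chart k.i) y).mpr ?_
  exact ⟨_, hy, rfl⟩

include hcov in
theorem iSup_VP_idxQ (hgen : 𝒮.IsGenDegOne) : ⨆ k : Idx2 u, VP p' chart' (idxQ k) = ⊤ := by
  rw [eq_top_iff]
  intro z _
  obtain ⟨U, hU, U', hU', hle, hzU', hg⟩ := hcov z
  have hz2 : z ∈ (RelProj.emb p' chart' U' hU').opensRange := by
    rw [opensRange_emb]
    exact hzU'
  obtain ⟨y, rfl⟩ := hz2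
  obtain ⟨f, hf, hfy⟩ := Groth.Agent.Lib.H60LineAlg.exists_deg_one_notMem (𝒮.deg U hU) (hgen U hU)
    (ProjectiveSpectrum.comap (u.gradedAt U hU U' hU' hle) hg y)
  refine Opens.mem_iSup.mpr ⟨⟨⟨U, hU, f, hf⟩, U', hU', hle, hg⟩, ?_⟩
  exact ⟨y, hfy, rfl⟩

include hemb hcov in
/-- **Pullback of `O(1)` along `Proj(u)`**, the irrelevant-ideal condition being asked on a covering family of pairs. -/
theorem nonempty_pullback_iso (hgen : 𝒮.IsGenDegOne) (hP : RelProj.IsRelProj 𝒮 p chart)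
    (hP' : RelProj.IsRelProj 𝒮' p' chart')
    (hO1 : RelProj.IsRelTwist 𝒮 p chart 1 O1 lam) (hO1' : RelProj.IsRelTwist 𝒮' p' chart' 1 O1' lam') :
    Nonempty ((Scheme.Modules.pullback h).obj O1 ≅ O1') := by
  obtain ⟨σ, A, hσv, hA⟩ := exists_atlas hO1
  obtain ⟨σ', A', hσ'v, hA'⟩ := exists_atlas hO1'
  refine Groth.Agent.Lib.H78AtlasIso.nonempty_iso_of_atlas
    ((pullAtlas h A).refine (fun k : Idx2 u => k.i) (fun k => VP p' chart' (idxQ k))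
      (VP_idxQ_le h hemb))
    (A'.refine idxQ (fun k => VP p' chart' (idxQ k)) (fun k => le_rfl))
    (iSup_VP_idxQ hcov hgen) (fun k l => ?_)
  rw [Atlas.refine_trans, Atlas.refine_trans, pullAtlas_trans, rf_self]
  refine A'.trans_unique _ _ ?_
  rw [hA', hA', rs_rs, rs_rs]
  refine smul_eq_of_val hO1' _ _ _ (fun z hz => ?_)
  -- the point of the base
  have hz1 : p'.base z ∈ k.U' := VP_le (idxQ k) hz.1
  have hz2 : p'.base z ∈ l.U' := VP_le (idxQ l) hz.2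
  have hψz : ψ.base (p'.base z) ∈ k.i.U ⊓ l.i.U := ⟨k.hle hz1, l.hle hz2⟩
  obtain ⟨_, ⟨U₀, hU₀', rfl⟩, hzU₀, hU₀le⟩ := Y.isBasis_affineOpens.exists_subset_of_mem_open
    (show ψ.base (p'.base z) ∈ ((k.i.U ⊓ l.i.U : Y.Opens) : Set Y) from hψz) (k.i.U ⊓ l.i.U).2
  have hU₀ : IsAffineOpen U₀ := hU₀'
  obtain ⟨r', hr'le, hzr'⟩ := k.hU'.exists_basicOpen_le
    (V := k.U' ⊓ l.U' ⊓ ψ ⁻¹ᵁ U₀) ⟨p'.base z, ⟨⟨hz1, hz2⟩, hzU₀⟩⟩ hz1
  have hU'' : IsAffineOpen (Y'.basicOpen r') := k.hU'.basicOpen r'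
  have hle₁ : Y'.basicOpen r' ≤ k.U' := fun a ha => (hr'le ha).1.1
  have hle₂ : Y'.basicOpen r' ≤ l.U' := fun a ha => (hr'le ha).1.2
  have hle₀ : Y'.basicOpen r' ≤ ψ ⁻¹ᵁ U₀ := fun a ha => (hr'le ha).2
  have hk₀ : U₀ ≤ k.i.U := fun a ha => (hU₀le ha).1
  have hl₀ : U₀ ≤ l.i.U := fun a ha => (hU₀le ha).2
  have hg₀ := good_res u k.i.hU hU₀ hk₀ k.hU' r' k.hle hle₀ k.good
  have he₀ := hemb U₀ hU₀ (Y'.basicOpen r') hU'' hle₀ hg₀
  refine ⟨Y'.basicOpen r', hU'', hzr', 𝒮'.res k.hU' hU'' hle₁ (fQ k), 𝒮'.res l.hU' hU'' hle₂ (fQ l),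
    ((hσ'v (idxQ k)).of_le hP' hO1' hU'' hle₁).res _,
    ((hσ'v (idxQ l)).of_le hP' hO1' hU'' hle₂).res _, fun y hy => ?_⟩
  -- the function in terms of `h.app`
  have hWT : VP p' chart' (idxQ k) ⊓ VP p' chart' (idxQ l) ≤
      h ⁻¹ᵁ (VP p chart k.i ⊓ VP p chart l.i) :=
    fun a ha => ⟨VP_idxQ_le h hemb k ha.1, VP_idxQ_le h hemb l ha.2⟩
  have hc : fval p' chart' (Y'.basicOpen r') hU'' (VP p' chart' (idxQ k) ⊓ VP p' chart' (idxQ l))
      (rf (inf_le_inf (VP_idxQ_le h hemb k) (VP_idxQ_le h hemb l))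
        ((ConcreteCategory.hom (Scheme.Hom.appLE h (VP p chart k.i ⊓ VP p chart l.i)
          (h ⁻¹ᵁ VP p chart k.i ⊓ h ⁻¹ᵁ VP p chart l.i) (le_of_eq rfl))) (A.trans k.i l.i))) y hy =
      fval p' chart' (Y'.basicOpen r') hU'' (h ⁻¹ᵁ (VP p chart k.i ⊓ VP p chart l.i))
        ((h.app (VP p chart k.i ⊓ VP p chart l.i)).hom (A.trans k.i l.i)) y (hWT hy) := by
    have e : rf (inf_le_inf (VP_idxQ_le h hemb k) (VP_idxQ_le h hemb l))
        ((ConcreteCategory.hom (Scheme.Hom.appLE h (VP p chart k.i ⊓ VP p chart l.i)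
          (h ⁻¹ᵁ VP p chart k.i ⊓ h ⁻¹ᵁ VP p chart l.i) (le_of_eq rfl))) (A.trans k.i l.i)) =
        (P'.presheaf.map (homOfLE hWT).op).hom
          ((h.app (VP p chart k.i ⊓ VP p chart l.i)).hom (A.trans k.i l.i)) := rf_rf _ _ _
    rw [e]
    exact fval_res (Y'.basicOpen r') hU'' hWT _ y hy
  rw [hc, fval_app u h hg₀ he₀]
  -- the identity downstairs
  have hx := (mem_iff u h hg₀ he₀ (VP p chart k.i ⊓ VP p chart l.i) y).mp (hWT hy)
  have hspec := A.trans_spec k.i l.i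
  rw [hA, hA, rs_rs, rs_rs] at hspec
  have h1 := congrArg (fun s => sval (lamS lam U₀ hU₀ _ s) ⟨_, hx⟩) hspec
  simp only [] at h1
  rw [sval_lamS_smul] at h1
  have e1 : sval (lamS lam U₀ hU₀ (VP p chart k.i ⊓ VP p chart l.i)
      (rs O1 ((inf_le_left : VP p chart k.i ⊓ VP p chart l.i ≤ VP p chart k.i).trans (VP_le k.i)) (σ k.i)))
      ⟨_, hx⟩ = algebraMap _ _ (𝒮.res k.i.hU hU₀ hk₀ k.i.f) :=
    (((hσv k.i).of_le hP hO1 hU₀ hk₀).res _) _ hx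
  have e2 : sval (lamS lam U₀ hU₀ (VP p chart k.i ⊓ VP p chart l.i)
      (rs O1 ((inf_le_right : VP p chart k.i ⊓ VP p chart l.i ≤ VP p chart l.i).trans (VP_le l.i)) (σ l.i)))
      ⟨_, hx⟩ = algebraMap _ _ (𝒮.res l.i.hU hU₀ hl₀ l.i.f) :=
    (((hσv l.i).of_le hP hO1 hU₀ hl₀).res _) _ hx
  rw [e1, e2] at h1
  have h2 := congrArg (GrTwist.locMap (u.gradedAt U₀ hU₀ (Y'.basicOpen r') hU'' hle₀) hg₀ y) h1
  rw [map_mul, locMap_algebraMap, locMap_algebraMap,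
    naturality_res u k.i.hU hU₀ hk₀ k.hU' hU'' hle₁ k.hle hle₀,
    naturality_res u l.i.hU hU₀ hl₀ l.hU' hU'' hle₂ l.hle hle₀] at h2
  exact h2

end main

section overBase


variable {Y Y' P P' : Scheme.{u}} {ψ : Y' ⟶ Y} {𝒮 : RelProj.QCGrAlg Y} {𝒮' : RelProj.QCGrAlg Y'}
  (u : RelProj.QGrHom ψ 𝒮 𝒮')
  {p : P ⟶ Y}
  {chart : ∀ (U : Y.Opens) (hU : IsAffineOpen U),
    (((p ⁻¹ᵁ U : P.Opens) : Scheme.{u}) ≅ Proj (𝒮.deg U hU))}
  {p' : P' ⟶ Y'}
  {chart' : ∀ (U' : Y'.Opens) (hU' : IsAffineOpen U'),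
    (((p' ⁻¹ᵁ U' : P'.Opens) : Scheme.{u}) ≅ Proj (𝒮'.deg U' hU'))}
  (h : P' ⟶ P)

/-- On a good pair, `Proj(u)` lies over `ψ`. -/
theorem over_pair (hP : RelProj.IsRelProj 𝒮 p chart) (hP' : RelProj.IsRelProj 𝒮' p' chart')
    {U : Y.Opens} {hU : IsAffineOpen U} {U' : Y'.Opens} {hU' : IsAffineOpen U'} {hle : U' ≤ ψ ⁻¹ᵁ U}
    (hg : (𝒮'.deg U' hU')₊ ≤ ((𝒮.deg U hU)₊).map (u.gradedAt U hU U' hU' hle))
    (he : RelProj.emb p' chart' U' hU' ≫ h =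
      Proj.map (u.gradedAt U hU U' hU' hle) hg ≫ RelProj.emb p chart U hU) :
    RelProj.emb p' chart' U' hU' ≫ h ≫ p = RelProj.emb p' chart' U' hU' ≫ p' ≫ ψ := by
  have h1 := Groth.Agent.Lib.ProjMapImm.map_toSpecZero (u.gradedAt U hU U' hU' hle) hg
    (𝒮.strZero U hU) (ψ.appLE U U' hle ≫ 𝒮'.strZero U' hU') (fun r => by
      have := congrArg (fun k => k.hom r) (u.toQHom.str_appLE U U' hle)
      exact this)
  have h2 : Spec.map (ψ.appLE U U' hle) ≫ hU.fromSpec = hU'.fromSpec ≫ ψ :=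
    IsAffineOpen.SpecMap_appLE_fromSpec ψ hU hU' hle
  rw [← Category.assoc, he, Category.assoc, emb_comp hP U hU, ← Category.assoc _ p' ψ, emb_comp hP' U' hU',
    ← Category.assoc, ← Category.assoc, Category.assoc _ _ (Spec.map (𝒮.strZero U hU)), h1, Spec.map_comp,
    Category.assoc, Category.assoc, Category.assoc, Category.assoc, h2]

section main

variable
  (hemb : ∀ (U : Y.Opens) (hU : IsAffineOpen U) (U' : Y'.Opens) (hU' : IsAffineOpen U')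
    (hle : U' ≤ ψ ⁻¹ᵁ U)
    (hg : (𝒮'.deg U' hU')₊ ≤ ((𝒮.deg U hU)₊).map (u.gradedAt U hU U' hU' hle)),
    RelProj.emb p' chart' U' hU' ≫ h =
      Proj.map (u.gradedAt U hU U' hU' hle) hg ≫ RelProj.emb p chart U hU)
  (hcov : ∀ z : P', ∃ (U : Y.Opens) (hU : IsAffineOpen U) (U' : Y'.Opens) (hU' : IsAffineOpen U')
    (hle : U' ≤ ψ ⁻¹ᵁ U), p'.base z ∈ U' ∧
      (𝒮'.deg U' hU')₊ ≤ ((𝒮.deg U hU)₊).map (u.gradedAt U hU U' hU' hle))

/-- Good pairs. -/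
structure Pair where
  U : Y.Opens
  hU : IsAffineOpen U
  U' : Y'.Opens
  hU' : IsAffineOpen U'
  hle : U' ≤ ψ ⁻¹ᵁ U
  good : (𝒮'.deg U' hU')₊ ≤ ((𝒮.deg U hU)₊).map (u.gradedAt U hU U' hU' hle)

include hemb hcov in
/-- `Proj(u)` lies over `ψ`. -/
theorem hom_over (hP : RelProj.IsRelProj 𝒮 p chart) (hP' : RelProj.IsRelProj 𝒮' p' chart') :
    h ≫ p = p' ≫ ψ := by
  have hc : IsOpenCover (fun k : Pair u => p' ⁻¹ᵁ k.U') := by
    refine IsOpenCover.mk (eq_top_iff.mpr fun z _ => ?_)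
    obtain ⟨U, hU, U', hU', hle, hz, hg⟩ := hcov z
    exact Opens.mem_iSup.mpr ⟨⟨U, hU, U', hU', hle, hg⟩, hz⟩
  refine Scheme.Cover.hom_ext (P'.openCoverOfIsOpenCover _ hc) _ _ fun k => ?_
  have e : (p' ⁻¹ᵁ k.U').ι = (chart' k.U' k.hU').hom ≫ RelProj.emb p' chart' k.U' k.hU' := by
    unfold RelProj.emb
    rw [Iso.hom_inv_id_assoc]
  change (p' ⁻¹ᵁ k.U').ι ≫ h ≫ p = (p' ⁻¹ᵁ k.U').ι ≫ p' ≫ ψ
  rw [e, Category.assoc, Category.assoc,
    over_pair u h hP hP' k.good (hemb k.U k.hU k.U' k.hU' k.hle k.good)]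

include hcov in
/-- The open of definition is everything. -/
theorem domQ_eq_top : RelProj.domQ u p' chart' = ⊤ := by
  rw [eq_top_iff]
  intro x _
  obtain ⟨U, hU, U', hU', hle, hxU', hg⟩ := hcov x
  have hx2 : x ∈ (RelProj.emb p' chart' U' hU').opensRange := by
    rw [opensRange_emb]
    exact hxU'
  obtain ⟨z, rfl⟩ := hx2
  refine Opens.mem_iSup.mpr ⟨⟨(⟨U, hU⟩, ⟨U', hU'⟩), hle⟩, ?_⟩
  refine ⟨z, ?_, rfl⟩
  have := Groth.Agent.Lib.RelProjBaseChange.domOpen_eq_top (u.gradedAt U hU U' hU' hle) hg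
  change z ∈ RelCone.domOpen (u.gradedAt U hU U' hU' hle)
  rw [this]
  trivial

end main

/-- `Proj(u)` given on an open `W` through which the identity factors restricts to the chart maps. -/
theorem emb_comp_of_isProjQMapOn (W : P'.Opens) (r : (W : Scheme.{u}) ⟶ P)
    (hr : RelProj.IsProjQMapOn u p chart p' chart' W r) (s : P' ⟶ (W : Scheme.{u})) (hs : s ≫ W.ι = 𝟙 P')
    (U : Y.Opens) (hU : IsAffineOpen U) (U' : Y'.Opens) (hU' : IsAffineOpen U')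
    (hle : U' ≤ ψ ⁻¹ᵁ U)
    (hg : (𝒮'.deg U' hU')₊ ≤ ((𝒮.deg U hU)₊).map (u.gradedAt U hU U' hU' hle)) :
    RelProj.emb p' chart' U' hU' ≫ s ≫ r =
      Proj.map (u.gradedAt U hU U' hU' hle) hg ≫ RelProj.emb p chart U hU := by
  refine (Proj.mapAffineOpenCover (u.gradedAt U hU U' hU' hle) hg).openCover.hom_ext _ _ ?_
  rintro ⟨⟨d, hd⟩, ⟨f, hf⟩⟩
  have hd' : 0 < d := hd
  have hW : Set.range (RelProj.awayEmb u p' chart' U hU U' hU' hle hd' f hf).base ⊆ Set.range W.ι.base := by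
    rintro _ ⟨y, rfl⟩
    refine ⟨s.base ((RelProj.awayEmb u p' chart' U hU U' hU' hle hd' f hf).base y), ?_⟩
    have := congrArg (fun k => k.base ((RelProj.awayEmb u p' chart' U hU U' hU' hle hd' f hf).base y)) hs
    exact this
  have h1 := hr U hU U' hU' hle d hd' f hf hW
  have e : IsOpenImmersion.lift W.ι (RelProj.awayEmb u p' chart' U hU U' hU' hle hd' f hf) hW =
      RelProj.awayEmb u p' chart' U hU U' hU' hle hd' f hf ≫ s := by
    rw [← cancel_mono W.ι, IsOpenImmersion.lift_fac, Category.assoc, hs, Category.comp_id]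
  rw [e] at h1
  unfold RelProj.awayEmb at h1
  rw [Category.assoc, Category.assoc] at h1
  have key := Proj.awayι_comp_map (u.gradedAt U hU U' hU' hle) hg hd' f hf
  refine h1.trans ?_
  refine ((Category.assoc _ _ _).symm.trans ?_).trans (Category.assoc _ _ _)
  exact congrArg (· ≫ RelProj.emb p chart U hU) key.symm


end overBase

end Groth.Agent.Lib.H60ProjQTwist2
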