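import Groth.Prelude.Def_RelSpec2

/-!
# API for the relative spectrum `RelSpec.QCAlg.spec` and the pointed cone `RelCone.pointedCone`

* `exists_chart`: a point of `Spec(A)` lying over the affine open `U` is in the chart `ι U`.
* `exists_common_chart`: two chart presentations of the same point come from a common basic open.
* `mem_vertexCompl_res_iff`: pointedness is preserved and reflected by restriction to a basic open.
* `ι_mem_pointedCone_iff`: `ι U y ∈ pointedCone 𝒮 ↔ y ∈ vertexCompl (𝒮.deg U hU)`.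
-/

set_option autoImplicit false
universe u
open CategoryTheory CategoryTheory.Limits AlgebraicGeometry Opposite TopologicalSpace
open scoped HomogeneousIdeal

namespace Groth.Agent.Lib.H60RelCone

section Spec

variable {S : Scheme.{u}} (A : RelSpec.QCAlg S)

lemma exists_chart (c : A.spec) (U : S.Opens) (hU : IsAffineOpen U) (hc : A.π.base c ∈ U) :
    ∃ y : Spec (A.presheaf.obj (op U)), (A.ι U hU).base y = c := by
  have h : c ∈ A.π ⁻¹ᵁ U := hc
  rw [A.π_preimage U hU] at h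
  exact h

lemma π_ι_mem (U : S.Opens) (hU : IsAffineOpen U) (y : Spec (A.presheaf.obj (op U))) :
    A.π.base ((A.ι U hU).base y) ∈ U := by
  have h : (A.ι U hU).base y ∈ (A.ι U hU).opensRange := ⟨y, rfl⟩
  rw [← A.π_preimage U hU] at h
  exact h

lemma ι_injective (U : S.Opens) (hU : IsAffineOpen U) :
    Function.Injective (A.ι U hU).base :=
  (A.ι U hU).isOpenEmbedding.injective

/-- chart compatibility with restriction to a basic open. -/
lemma ι_basicOpen (U : S.Opens) (hU : IsAffineOpen U) (r : Γ(S, U)) :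
    Spec.map (A.presheaf.map (homOfLE (S.basicOpen_le r)).op) ≫ A.ι U hU =
      A.ι (S.basicOpen r) (hU.basicOpen r) :=
  A.ι_res (U := ⟨U, hU⟩) (V := ⟨S.basicOpen r, hU.basicOpen r⟩) (homOfLE ⟨r, rfl⟩)

/-- chart compatibility with restriction to an open `W` which is a basic open of `U`. -/
lemma ι_of_eq_basicOpen (U : S.Opens) (hU : IsAffineOpen U) (r : Γ(S, U)) (W : S.Opens)
    (_hW : IsAffineOpen W) (hWr : W = S.basicOpen r) (hWU : W ≤ U) :
    Spec.map (A.presheaf.map (homOfLE hWU).op) ≫ A.ι U hU = A.ι W _hW := by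
  subst hWr
  exact ι_basicOpen A U hU r

/-- Two chart presentations of a point come from a common chart which is a basic open in both. -/
lemma exists_common_chart (U V : S.Opens) (hU : IsAffineOpen U) (hV : IsAffineOpen V)
    (y : Spec (A.presheaf.obj (op U))) (w : Spec (A.presheaf.obj (op V)))
    (h : (A.ι U hU).base y = (A.ι V hV).base w) :
    ∃ (W : S.Opens) (hW : IsAffineOpen W) (hWU : W ≤ U) (hWV : W ≤ V) (r : Γ(S, U)) (r' : Γ(S, V))
      (t : Spec (A.presheaf.obj (op W))),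
      W = S.basicOpen r ∧ W = S.basicOpen r' ∧
      (Spec.map (A.presheaf.map (homOfLE hWU).op)).base t = y ∧
      (Spec.map (A.presheaf.map (homOfLE hWV).op)).base t = w := by
  have hsU := π_ι_mem A U hU y
  have hsV : A.π.base ((A.ι U hU).base y) ∈ V := by rw [h]; exact π_ι_mem A V hV w
  obtain ⟨r, r', hrr', hs⟩ := exists_basicOpen_le_affine_inter hU hV _ ⟨hsU, hsV⟩
  have hW : IsAffineOpen (S.basicOpen r) := hU.basicOpen r
  have hWU : S.basicOpen r ≤ U := S.basicOpen_le r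
  have hWV : S.basicOpen r ≤ V := hrr' ▸ S.basicOpen_le r'
  obtain ⟨t, ht⟩ := exists_chart A _ (S.basicOpen r) hW hs
  refine ⟨S.basicOpen r, hW, hWU, hWV, r, r', t, rfl, hrr', ?_, ?_⟩
  · apply ι_injective A U hU
    rw [← ht, ← ι_of_eq_basicOpen A U hU r (S.basicOpen r) hW rfl hWU]
    rfl
  · apply ι_injective A V hV
    rw [← h, ← ht, ← ι_of_eq_basicOpen A V hV r' (S.basicOpen r) hW hrr' hWV]
    rfl

end Spec

section Cone

variable {S : Scheme.{u}} (𝒮 : RelProj.QCGrAlg S)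

lemma mem_vertexCompl_iff {R : CommRingCat.{u}} (𝒜 : ℕ → AddSubgroup R) [GradedRing 𝒜]
    (y : Spec R) :
    y ∈ RelCone.vertexCompl 𝒜 ↔ ∃ f ∈ (HomogeneousIdeal.irrelevant 𝒜).toIdeal, f ∉ y.asIdeal := by
  have key : ∀ y : PrimeSpectrum R,
      ¬ (y ∈ PrimeSpectrum.zeroLocus ((HomogeneousIdeal.irrelevant 𝒜).toIdeal : Set R)) ↔
        ∃ f ∈ (HomogeneousIdeal.irrelevant 𝒜).toIdeal, f ∉ y.asIdeal := by
    intro y
    rw [PrimeSpectrum.mem_zeroLocus, Set.not_subset]
    rfl
  exact key y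

lemma map_mem_irrelevant {A B : Type u} [CommRing A] [CommRing B] {𝒜 : ℕ → AddSubgroup A}
    {ℬ : ℕ → AddSubgroup B} [GradedRing 𝒜] [GradedRing ℬ] (φ : 𝒜 →+*ᵍ ℬ) {a : A}
    (ha : a ∈ (HomogeneousIdeal.irrelevant 𝒜).toIdeal) :
    φ a ∈ (HomogeneousIdeal.irrelevant ℬ).toIdeal := by
  rw [HomogeneousIdeal.mem_iff, HomogeneousIdeal.mem_irrelevant_iff, GradedRing.proj_apply] at ha ⊢
  rw [← GradedRingHom.map_directSumDecompose, ha, map_zero]

/-- Pointedness is preserved and reflected by restriction to a basic open. -/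
lemma mem_vertexCompl_res_iff (U : S.Opens) (hU : IsAffineOpen U) (r : Γ(S, U)) (W : S.Opens)
    (hW : IsAffineOpen W) (hWr : W = S.basicOpen r) (hWU : W ≤ U)
    (t : Spec (𝒮.presheaf.obj (op W))) :
    (Spec.map (𝒮.presheaf.map (homOfLE hWU).op)).base t ∈ RelCone.vertexCompl (𝒮.deg U hU) ↔
      t ∈ RelCone.vertexCompl (𝒮.deg W hW) := by
  subst hWr
  rw [mem_vertexCompl_iff, mem_vertexCompl_iff]
  constructor
  · rintro ⟨f, hf, hft⟩
    exact ⟨𝒮.res hU hW hWU f, map_mem_irrelevant (𝒮.res hU hW hWU) hf, hft⟩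
  · rintro ⟨f, hf, hft⟩
    by_contra hcon
    push Not at hcon
    apply hft
    have hle := 𝒮.irrelevant_le_map U hU r
    have hmap : ((𝒮.deg U hU)₊.toIdeal).map (𝒮.res hU (hU.basicOpen r) (S.basicOpen_le r)) ≤
        t.asIdeal := by
      rw [Ideal.map_le_iff_le_comap]
      intro a ha
      exact hcon a ha
    exact hmap (hle hf)

/-- The pointed cone in a chart. -/
lemma ι_mem_pointedCone_iff (U : S.Opens) (hU : IsAffineOpen U)
    (y : Spec (𝒮.presheaf.obj (op U))) :
    (𝒮.toQCAlg.ι U hU).base y ∈ RelCone.pointedCone 𝒮 ↔ y ∈ RelCone.vertexCompl (𝒮.deg U hU) := by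
  constructor
  · intro h
    obtain ⟨⟨V, hV⟩, hmem⟩ := Opens.mem_iSup.mp h
    obtain ⟨w, hw, hwy⟩ := hmem
    obtain ⟨W, hW, hWU, hWV, r, r', t, hr, hr', hty, htw⟩ :=
      exists_common_chart 𝒮.toQCAlg U V hU hV y w hwy.symm
    rw [← hty, mem_vertexCompl_res_iff 𝒮 U hU r W hW hr hWU]
    rw [← mem_vertexCompl_res_iff 𝒮 V hV r' W hW hr' hWV, htw]
    exact hw
  · intro h
    exact Opens.mem_iSup.mpr ⟨⟨U, hU⟩, y, h, rfl⟩

end Cone

end Groth.Agent.Lib.H60RelCone
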