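import Mathlib

/-!
# Local algebra behind "the fibre through a Cartier section is regular of dimension one" (helper60)

* `isDVR_of_principal_nzd`: a Noetherian local ring whose maximal ideal is generated by one
  nonzerodivisor is a domain and a discrete valuation ring.
* `Retract.*`: for `φ : A → B` with a retraction `ρ : B → A` whose kernel is generated by a
  nonzerodivisor `f`: multiplication by `f` is injective modulo every extended ideal `𝔞 B`
  (`mem_map_of_mul_mem`).
* `isDVR_quotient_of_retraction`: local version: `B ⧸ 𝔪_A B` is a DVR as soon as it is Noetherian.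
-/

set_option autoImplicit false
universe u

open IsLocalRing

namespace Groth.Agent.Lib.H60SectionDVR

section DVR

variable {R : Type*} [CommRing R] [IsLocalRing R] [IsNoetherianRing R]

/-- In a Noetherian local ring with maximal ideal `(t)`, every nonzero element is a unit times a
power of `t`. -/
lemma exists_unit_mul_pow (t : R) (hm : maximalIdeal R = Ideal.span {t}) (r : R) (hr : r ≠ 0) :
    ∃ (n : ℕ) (u : R), IsUnit u ∧ r = u * t ^ n := by
  have hk := Ideal.iInf_pow_eq_bot_of_isLocalRing (maximalIdeal R)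
    (maximalIdeal.isMaximal R).ne_top
  have hex : ∃ n, r ∉ maximalIdeal R ^ n := by
    by_contra hcon
    push Not at hcon
    apply hr
    have : r ∈ (⨅ i, maximalIdeal R ^ i : Ideal R) := by
      rw [Ideal.mem_iInf]
      exact hcon
    rw [hk] at this
    exact this
  classical
  have hn := Nat.find_spec hex
  have hmin := fun m hm' => Nat.find_min hex (m := m) hm'
  set n := Nat.find hex with hndef
  cases hn' : n with
  | zero =>
    rw [hn'] at hn
    exact absurd (by rw [pow_zero, Ideal.one_eq_top]; trivial) hn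
  | succ k =>
    have hk' : r ∈ maximalIdeal R ^ k := by
      by_contra hcon
      exact hmin k (by omega) hcon
    rw [hm, Ideal.span_singleton_pow, Ideal.mem_span_singleton'] at hk'
    obtain ⟨u, hu⟩ := hk'
    refine ⟨k, u, ?_, hu.symm⟩
    rw [← IsLocalRing.notMem_maximalIdeal]
    intro hum
    rw [hm, Ideal.mem_span_singleton'] at hum
    obtain ⟨v, hv⟩ := hum
    apply hn
    rw [hn', hm, Ideal.span_singleton_pow, Ideal.mem_span_singleton']
    exact ⟨v, by rw [← hu, ← hv, pow_succ]; ring⟩

/-- A Noetherian local ring whose maximal ideal is generated by one nonzerodivisor is a discrete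
valuation ring (in particular a domain). -/
theorem isDVR_of_principal_nzd (t : R) (ht : t ∈ nonZeroDivisors R)
    (hm : maximalIdeal R = Ideal.span {t}) :
    ∃ _ : IsDomain R, IsDiscreteValuationRing R := by
  have hpow : ∀ n : ℕ, t ^ n ≠ 0 := fun n =>
    nonZeroDivisors.ne_zero (pow_mem ht n)
  have hnzd : NoZeroDivisors R := by
    refine ⟨fun {a b} hab => ?_⟩
    by_contra hcon
    push Not at hcon
    obtain ⟨n, u, hu, rfl⟩ := exists_unit_mul_pow t hm a hcon.1
    obtain ⟨m, v, hv, rfl⟩ := exists_unit_mul_pow t hm b hcon.2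
    have e : (u * v) * t ^ (n + m) = 0 := by
      rw [← hab, pow_add]; ring
    exact hpow (n + m) ((hu.mul hv).mul_right_eq_zero.mp e)
  have hdom : IsDomain R := NoZeroDivisors.to_isDomain R
  refine ⟨hdom, ?_⟩
  have hnf : ¬ IsField R := by
    rw [IsLocalRing.isField_iff_maximalIdeal_eq]
    intro hbot
    have : t ∈ maximalIdeal R := by
      rw [hm]; exact Ideal.mem_span_singleton_self t
    rw [hbot] at this
    exact hpow 1 (by rw [pow_one]; exact this)
  have hp : (maximalIdeal R).IsPrincipal := ⟨⟨t, hm⟩⟩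
  exact ((IsDiscreteValuationRing.TFAE R hnf).out 0 4).mpr hp

end DVR

section Retract

variable {A B : Type*} [CommRing A] [CommRing B]
  (φ : A →+* B) (ρ : B →+* A) (hρφ : ∀ a, ρ (φ a) = a) (f : B) (hf : f ∈ nonZeroDivisors B)
  (hker : RingHom.ker ρ = Ideal.span {f})

include hρφ hker in
lemma exists_div (b : B) : ∃ d, b - φ (ρ b) = d * f := by
  have h : b - φ (ρ b) ∈ RingHom.ker ρ := by
    rw [RingHom.mem_ker, map_sub, hρφ, sub_self]
  rw [hker, Ideal.mem_span_singleton'] at h
  obtain ⟨d, hd⟩ := h
  exact ⟨d, hd.symm⟩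

include hker in
lemma rho_f : ρ f = 0 := by
  have : f ∈ RingHom.ker ρ := by rw [hker]; exact Ideal.mem_span_singleton_self f
  exact this

include hρφ hf hker in
/-- Multiplication by `f` is injective modulo any extended ideal. -/
theorem mem_map_of_mul_mem (𝔞 : Ideal A) (b : B) (h : f * b ∈ Ideal.map φ 𝔞) :
    b ∈ Ideal.map φ 𝔞 := by
  -- the "divided difference" operator
  have hex := exists_div φ ρ hρφ f hker
  choose D hD using hex
  have huniq : ∀ b d, b - φ (ρ b) = d * f → d = D b := fun b d hd =>
    (mul_cancel_right_mem_nonZeroDivisors hf).mp (hd.symm.trans (hD b))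
  have hD0 : D 0 = 0 := (huniq 0 0 (by simp)).symm
  have hDadd : ∀ x y, D (x + y) = D x + D y := fun x y =>
    (huniq (x + y) (D x + D y) (by
      rw [add_mul, ← hD x, ← hD y, map_add, map_add]; ring)).symm
  have hDmul : ∀ c x, D (c * x) = φ (ρ c) * D x + D c * x := fun c x =>
    (huniq (c * x) (φ (ρ c) * D x + D c * x) (by
      have e1 : φ (ρ c) * D x * f = φ (ρ c) * (D x * f) := by ring
      have e2 : D c * x * f = (D c * f) * x := by ring
      rw [add_mul, e1, e2, ← hD x, ← hD c, map_mul, map_mul]; ring)).symm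
  have hDφ : ∀ a, D (φ a) = 0 := fun a =>
    (huniq (φ a) 0 (by rw [hρφ, sub_self, zero_mul])).symm
  have hDf : ∀ c, D (f * c) = c := fun c =>
    (huniq (f * c) c (by
      rw [map_mul, rho_f ρ f hker, zero_mul, map_zero, sub_zero, mul_comm])).symm
  have key : ∀ x ∈ Ideal.map φ 𝔞, D x ∈ Ideal.map φ 𝔞 := by
    intro x hx
    rw [Ideal.map] at hx ⊢
    induction hx using Submodule.span_induction with
    | mem x hx =>
      obtain ⟨a, -, rfl⟩ := hx
      rw [hDφ]
      exact Submodule.zero_mem _
    | zero =>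
      rw [hD0]
      exact Submodule.zero_mem _
    | add x y _ _ hx hy =>
      rw [hDadd]
      exact Submodule.add_mem _ hx hy
    | smul c x hx' hx =>
      rw [smul_eq_mul, hDmul]
      exact Submodule.add_mem _ (Ideal.mul_mem_left _ _ hx) (Ideal.mul_mem_left _ _ hx')
  have := key _ h
  rwa [hDf] at this

include hρφ hker in
lemma exists_eq_add (b : B) : ∃ d, b = φ (ρ b) + d * f := by
  obtain ⟨d, hd⟩ := exists_div φ ρ hρφ f hker b
  exact ⟨d, by rw [← hd]; ring⟩

end Retract

section Local

variable {A B : Type u} [CommRing A] [CommRing B] [IsLocalRing A] [IsLocalRing B]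
  (φ : A →+* B) [IsLocalHom φ] (ρ : B →+* A) (hρφ : ∀ a, ρ (φ a) = a) (f : B)
  (hf : f ∈ nonZeroDivisors B) (hker : RingHom.ker ρ = Ideal.span {f})

include hρφ hf hker in
/-- `B ⧸ 𝔪_A B` is a discrete valuation ring when `φ : A → B` is a local homomorphism of local
rings admitting a retraction whose kernel is generated by a nonzerodivisor (and the quotient is
Noetherian). -/
theorem isDVR_quotient_of_retraction
    [IsNoetherianRing (B ⧸ Ideal.map φ (maximalIdeal A))] :
    ∃ (_ : IsDomain (B ⧸ Ideal.map φ (maximalIdeal A))),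
      IsDiscreteValuationRing (B ⧸ Ideal.map φ (maximalIdeal A)) := by
  set I := Ideal.map φ (maximalIdeal A) with hI
  have hItop : I ≠ ⊤ := (map_maximalIdeal_lt_top φ).ne
  haveI : Nontrivial (B ⧸ I) := Ideal.Quotient.nontrivial_iff.mpr hItop
  haveI : IsLocalRing (B ⧸ I) :=
    IsLocalRing.of_surjective' (Ideal.Quotient.mk I) Ideal.Quotient.mk_surjective
  haveI : IsLocalHom (Ideal.Quotient.mk I) :=
    IsLocalHom.of_surjective _ Ideal.Quotient.mk_surjective
  have hρsurj : Function.Surjective ρ := fun a => ⟨φ a, hρφ a⟩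
  haveI : IsLocalHom ρ := IsLocalHom.of_surjective _ hρsurj
  have hρf := rho_f ρ f hker
  -- `t = f mod I` is a nonzerodivisor
  have ht : Ideal.Quotient.mk I f ∈ nonZeroDivisors (B ⧸ I) := by
    rw [mem_nonZeroDivisors_iff_right]
    intro y hy
    obtain ⟨b, rfl⟩ := Ideal.Quotient.mk_surjective y
    rw [← map_mul, Ideal.Quotient.eq_zero_iff_mem, mul_comm] at hy
    rw [Ideal.Quotient.eq_zero_iff_mem]
    exact mem_map_of_mul_mem φ ρ hρφ f hf hker _ b hy
  refine isDVR_of_principal_nzd (Ideal.Quotient.mk I f) ht ?_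
  apply le_antisymm
  · intro r hr
    obtain ⟨b, rfl⟩ := Ideal.Quotient.mk_surjective r
    have hb : b ∈ maximalIdeal B := by
      rw [IsLocalRing.mem_maximalIdeal] at hr ⊢
      intro hbu
      exact hr (hbu.map _)
    have hρb : ρ b ∈ maximalIdeal A := by
      rw [IsLocalRing.mem_maximalIdeal] at hb ⊢
      intro hu
      exact hb (isUnit_of_map_unit ρ b hu)
    obtain ⟨d, hd⟩ := exists_eq_add φ ρ hρφ f hker b
    have h0 : Ideal.Quotient.mk I (φ (ρ b)) = 0 :=
      Ideal.Quotient.eq_zero_iff_mem.mpr (Ideal.mem_map_of_mem φ hρb)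
    rw [Ideal.mem_span_singleton']
    refine ⟨Ideal.Quotient.mk I d, ?_⟩
    conv_rhs => rw [hd]
    rw [map_add, h0, zero_add, map_mul]
  · rw [Ideal.span_le, Set.singleton_subset_iff, SetLike.mem_coe, IsLocalRing.mem_maximalIdeal]
    intro hu
    have hfu : IsUnit f := isUnit_of_map_unit (Ideal.Quotient.mk I) f hu
    have := hfu.map ρ
    rw [hρf] at this
    exact not_isUnit_zero this

end Local

end Groth.Agent.Lib.H60SectionDVR
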