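import Groth.Agent.Lib.H60GradedFT

/-!
# Eventual surjectivity of a graded homomorphism inducing isomorphisms on degree-one charts

`φ : 𝒜 →+*ᵍ ℬ` injective, bijective in degrees `0`, `1`, with `𝒜` generated by `𝒜 1`, `ℬ` of finite
type over `ℬ 0`, `ℬ₊ ⊆ rad(ℬ₁ B)` and `𝒜_(a) → ℬ_(φ a)` surjective for `a ∈ 𝒜 1`. Then `ℬ n ⊆ φ(A)`
for `n` large (EGA II 8.x / 2.9.x).
-/

set_option autoImplicit false
universe u
open DirectSum HomogeneousLocalization

namespace Groth.Agent.Lib.H60TNSurj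

open Groth.Agent.Lib.H60GradedFT

section Fin

variable {B : Type u} [CommRing B] {σ : Type*} [SetLike σ B] [AddSubgroupClass σ B]
  (ℬ : ℕ → σ) [GradedRing ℬ]

/-- `ℬ m` is spanned over `ℬ 0` by a finite set of elements of `ℬ m`. -/
theorem exists_finset_span {ι' : Type*} [Fintype ι'] (v : ι' → B)
    (hx : Algebra.adjoin (ℬ 0) (Set.range v) = ⊤) (dv : ι' → ℕ) (hxd : ∀ i, v i ∈ ℬ (dv i))
    (hpos : ∀ i, 0 < dv i) (m : ℕ) :
    ∃ T : Finset B, (↑T : Set B) ⊆ (ℬ m : Set B) ∧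
      ∀ b ∈ ℬ m, b ∈ Submodule.span (ℬ 0) (↑T : Set B) := by
  classical
  let T : Finset B := ((Finset.univ : Finset (ι' → Fin (m + 1))).filter
    (fun a ↦ ∑ i, (a i).val • dv i = m)).image (fun a ↦ ∏ i, v i ^ (a i).val)
  have hT : (↑T : Set B) ⊆ (ℬ m : Set B) := by
    intro b hb
    obtain ⟨a, ha, rfl⟩ := Finset.mem_image.mp hb
    have ha' := (Finset.mem_filter.mp ha).2
    have := monomial_mem ℬ v dv hxd (fun i ↦ (a i).val)
    rw [ha'] at this
    exact this
  refine ⟨T, hT, fun b hb ↦ ?_⟩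
  have hb' := mem_span_monomials ℬ v hx dv hxd hb
  refine Submodule.span_mono ?_ hb'
  rintro μ ⟨ai, hai, rfl⟩
  have hle : ∀ i, ai i < m + 1 := by
    intro i
    have h1 : ai i • dv i ≤ ∑ k, ai k • dv k :=
      Finset.single_le_sum (f := fun k ↦ ai k • dv k) (fun _ _ ↦ Nat.zero_le _)
        (Finset.mem_univ i)
    rw [hai, smul_eq_mul] at h1
    have h2 : ai i ≤ ai i * dv i := Nat.le_mul_of_pos_right _ (hpos i)
    omega
  refine Finset.mem_image.mpr ⟨fun i ↦ ⟨ai i, hle i⟩, ?_, rfl⟩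
  exact Finset.mem_filter.mpr ⟨Finset.mem_univ _, hai⟩

/-- A monomial of degree `n` is a product of at most `n` generators; stated as an induction
principle: a predicate closed under multiplication by generators... -/
theorem monomial_induction {ι' : Type*} [Fintype ι'] (v : ι' → B) (dv : ι' → ℕ)
    (hpos : ∀ i, 0 < dv i) (P : ℕ → B → Prop) (h1 : P 0 1)
    (hstep : ∀ k i b, P k b → P (k + 1) (v i * b))
    (hmono : ∀ k k' b, k ≤ k' → P k b → P k' b)
    (n : ℕ) (b : B) (hb : b ∈ monomials v dv n) : P n b := by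
  classical
  obtain ⟨ai, hai, rfl⟩ := hb
  -- total exponent
  have key : ∀ (s : Finset ι') (ai : ι' → ℕ), P (∑ i ∈ s, ai i) (∏ i ∈ s, v i ^ ai i) := by
    intro s ai
    induction s using Finset.induction_on with
    | empty => simpa using h1
    | insert i s hi ih =>
      rw [Finset.sum_insert hi, Finset.prod_insert hi]
      -- multiply by `v i ^ ai i`
      have : ∀ e : ℕ, P (e + ∑ x ∈ s, ai x) (v i ^ e * ∏ x ∈ s, v x ^ ai x) := by
        intro e
        induction e with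
        | zero => simpa using ih
        | succ e ihe =>
          have h := hstep _ i _ ihe
          have e1 : e + 1 + ∑ x ∈ s, ai x = e + ∑ x ∈ s, ai x + 1 := by ring
          rw [e1, pow_succ', mul_assoc]
          exact h
      exact this (ai i)
  have hle : ∑ i, ai i ≤ n := by
    rw [← hai]
    apply Finset.sum_le_sum
    intro i _
    rw [smul_eq_mul]
    exact Nat.le_mul_of_pos_right _ (hpos i)
  exact hmono _ _ _ hle (key Finset.univ ai)

end Fin

section Main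

variable {R A B : Type u} [CommRing R] [CommRing A] [Algebra R A] {𝒜 : ℕ → Submodule R A}
  [GradedAlgebra 𝒜] [CommRing B] [Algebra R B] {ℬ : ℕ → Submodule R B} [GradedAlgebra ℬ]
  (φ : 𝒜 →+*ᵍ ℬ)

/-- `{a | φ a * b ∈ range φ}` as an ideal of `A`. -/
def cond (b : B) : Ideal A where
  carrier := {a | φ a * b ∈ Set.range φ}
  add_mem' := by
    rintro a₁ a₂ ⟨x, hx⟩ ⟨y, hy⟩
    refine ⟨x + y, ?_⟩
    rw [map_add, hx, hy, map_add, add_mul]
  zero_mem' := ⟨0, by simp⟩
  smul_mem' := by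
    rintro c a ⟨x, hx⟩
    refine ⟨c * x, ?_⟩
    rw [map_mul, hx, smul_eq_mul, map_mul, mul_assoc]

lemma mem_cond {a : A} {b : B} : a ∈ cond φ b ↔ φ a * b ∈ Set.range φ := Iff.rfl

include φ in
lemma range_mul {x y : B} (hx : x ∈ Set.range φ) (hy : y ∈ Set.range φ) :
    x * y ∈ Set.range φ := by
  obtain ⟨a, rfl⟩ := hx
  obtain ⟨b, rfl⟩ := hy
  exact ⟨a * b, map_mul φ a b⟩

lemma range_add {x y : B} (hx : x ∈ Set.range φ) (hy : y ∈ Set.range φ) :
    x + y ∈ Set.range φ := by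
  obtain ⟨a, rfl⟩ := hx
  obtain ⟨b, rfl⟩ := hy
  exact ⟨a + b, map_add φ a b⟩

/-- Graded preimages. -/
lemma exists_mem_of_mem {n : ℕ} {b : B} (hb : b ∈ ℬ n)
    (hb' : b ∈ Set.range φ) : ∃ a ∈ 𝒜 n, φ a = b := by
  obtain ⟨a, rfl⟩ := hb'
  refine ⟨(decompose 𝒜 a n : 𝒜 n), Subtype.prop _, ?_⟩
  rw [GradedRingHom.map_directSumDecompose, decompose_of_mem_same ℬ hb]

/-- Surjectivity of `𝒜_(a) → ℬ_(φ a)` puts a power of `a` in the conductor of a homogeneous `v`. -/
lemma exists_pow_mem_cond {a : A} (ha : a ∈ 𝒜 1) (hsurj : Function.Surjective (Away.map φ a))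
    {d : ℕ} {v : B} (hv : v ∈ ℬ d) : ∃ N : ℕ, a ^ N ∈ cond φ v := by
  have hv' : v ∈ ℬ (d • 1) := by rwa [smul_eq_mul, mul_one]
  obtain ⟨x, hx⟩ := hsurj (Away.mk ℬ (φ.map_mem ha) d v hv')
  obtain ⟨k, a', ha', rfl⟩ := Away.mk_surjective 𝒜 ha x
  rw [Away.map_mk] at hx
  have hval := congrArg HomogeneousLocalization.val hx
  rw [Away.val_mk, Away.val_mk, Localization.mk_eq_mk_iff, Localization.r_iff_exists] at hval
  obtain ⟨⟨c, l, rfl⟩, hc⟩ := hval
  refine ⟨l + k, a ^ (l + d) * a', ?_⟩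
  simp only at hc
  rw [map_mul, map_pow, map_pow, pow_add, pow_add, mul_assoc, mul_assoc, hc]

/-- If `b ∈ ℬ (m + 1)` lies in the ideal generated by `ℬ 1`, it is a sum of products
`b' * f` with `b' ∈ ℬ m`, `f ∈ ℬ 1`. -/
lemma mem_closure_of_mem_span {m : ℕ} {b : B} (hb : b ∈ ℬ (m + 1))
    (hJ : b ∈ Ideal.span (ℬ 1 : Set B)) :
    b ∈ AddSubmonoid.closure {x | ∃ b' ∈ ℬ m, ∃ f ∈ ℬ 1, x = b' * f} := by
  classical
  obtain ⟨c, hc, rfl⟩ := Submodule.mem_span_set.mp hJ
  have e : (c.sum fun mi r ↦ r • mi) =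
      ((decompose ℬ (c.sum fun mi r ↦ r • mi) (m + 1) : ℬ (m + 1)) : B) :=
    (decompose_of_mem_same ℬ hb).symm
  rw [e, Finsupp.sum, decompose_sum, DFinsupp.finsetSum_apply, AddSubmonoidClass.coe_finsetSum]
  refine AddSubmonoid.sum_mem _ fun f hf ↦ ?_
  have hf1 : f ∈ ℬ 1 := hc hf
  rw [smul_eq_mul, coe_decompose_mul_of_right_mem_of_le ℬ hf1 (Nat.le_add_left 1 m)]
  refine AddSubmonoid.subset_closure ⟨_, ?_, f, hf1, rfl⟩
  have : m + 1 - 1 = m := by omega
  rw [this]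
  exact Subtype.prop _

variable (hφ : Function.Injective φ) (h0 : Set.BijOn φ (𝒜 0) (ℬ 0)) (h1 : Set.BijOn φ (𝒜 1) (ℬ 1))

include hφ h0 h1 in
/-- Main algebraic statement: eventually `ℬ n ⊆ range φ`. -/
theorem eventually_subset_range [Algebra.FiniteType (ℬ 0) B]
    (hrad : ∀ n : ℕ, 0 < n → ∀ b ∈ ℬ n, b ∈ (Ideal.span (ℬ 1 : Set B)).radical)
    (hsurj : ∀ a ∈ 𝒜 1, Function.Surjective (Away.map φ a)) :
    ∃ n₀ : ℕ, ∀ n : ℕ, n₀ ≤ n → ∀ b ∈ ℬ n, b ∈ Set.range φ := by
  classical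
  obtain ⟨s, hs, hs'⟩ := GradedAlgebra.exists_finset_adjoin_eq_top_and_homogeneous_ne_zero ℬ
  choose! dv hdv using hs'
  set v : s → B := fun i ↦ (i : B) with hvdef
  have hx : Algebra.adjoin (ℬ 0) (Set.range v) = ⊤ := by
    have e : Set.range v = (↑s : Set B) := Subtype.range_coe
    rw [e]; exact hs
  set dv' : s → ℕ := fun i ↦ dv i with hdv'def
  have hxd : ∀ i : s, v i ∈ ℬ (dv' i) := fun i ↦ (hdv i i.2).2
  have hpos : ∀ i : s, 0 < dv' i := fun i ↦ Nat.pos_of_ne_zero (hdv i i.2).1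
  -- a finitely generated ideal `I` of `A` containing `𝒜 1`, generated by elements of `𝒜 1`
  obtain ⟨T, hT, hTspan⟩ := exists_finset_span ℬ v hx dv' hxd hpos 1
  have hpre : ∀ t : B, ∃ a : A, t ∈ T → (a ∈ 𝒜 1 ∧ φ a = t) := by
    intro t
    by_cases ht : t ∈ T
    · obtain ⟨a, ha, hat⟩ := h1.surjOn (hT ht)
      exact ⟨a, fun _ ↦ ⟨ha, hat⟩⟩
    · exact ⟨0, fun h ↦ absurd h ht⟩
  choose pre hpre using hpre
  set I : Ideal A := Ideal.span (↑(T.image pre) : Set A) with hIdef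
  have hIfg : I.FG := ⟨T.image pre, rfl⟩
  have hI1 : ∀ a ∈ 𝒜 1, a ∈ I := by
    intro a ha
    have hφa : φ a ∈ Submodule.span (ℬ 0) (↑T : Set B) := hTspan _ (φ.map_mem ha)
    have key : ∀ b ∈ Submodule.span (ℬ 0) (↑T : Set B), ∃ a' ∈ I, φ a' = b := by
      intro b hb
      induction hb using Submodule.span_induction with
      | mem t ht =>
        exact ⟨pre t, Ideal.subset_span (Finset.mem_coe.mpr (Finset.mem_image_of_mem pre ht)),
          (hpre t ht).2⟩
      | zero => exact ⟨0, zero_mem _, map_zero φ⟩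
      | add x y _ _ hx' hy' =>
        obtain ⟨a₁, h₁, e₁⟩ := hx'
        obtain ⟨a₂, h₂, e₂⟩ := hy'
        exact ⟨a₁ + a₂, add_mem h₁ h₂, by rw [map_add, e₁, e₂]⟩
      | smul r x _ hx' =>
        obtain ⟨a₁, h₁, e₁⟩ := hx'
        obtain ⟨r', -, hr'⟩ := h0.surjOn r.2
        refine ⟨r' * a₁, I.mul_mem_left _ h₁, ?_⟩
        rw [map_mul, hr', e₁, Algebra.smul_def]
        rfl
    obtain ⟨a', ha', e⟩ := key _ hφa
    rw [← hφ e]
    exact ha'
  have hIgen : ∀ a ∈ (↑(T.image pre) : Set A), a ∈ 𝒜 1 := by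
    intro a ha
    obtain ⟨t, ht, rfl⟩ := Finset.mem_image.mp (Finset.mem_coe.mp ha)
    exact (hpre t ht).1
  -- a uniform exponent `M`
  have hM : ∃ M : ℕ, ∀ i : s, I ^ M ≤ cond φ (v i) := by
    have hi : ∀ i : s, ∃ Mi : ℕ, I ^ Mi ≤ cond φ (v i) := by
      intro i
      apply Ideal.exists_pow_le_of_le_radical_of_fg _ hIfg
      rw [hIdef, Ideal.span_le]
      intro a ha
      obtain ⟨N, hN⟩ := exists_pow_mem_cond φ (hIgen a ha) (hsurj a (hIgen a ha)) (hxd i)
      exact ⟨N, hN⟩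
    choose Mi hMi using hi
    refine ⟨∑ i, Mi i, fun i ↦ le_trans (Ideal.pow_le_pow_right ?_) (hMi i)⟩
    exact Finset.single_le_sum (f := Mi) (fun _ _ ↦ Nat.zero_le _) (Finset.mem_univ i)
  obtain ⟨M, hM⟩ := hM
  -- `G k b`: `φ(I^(M k)) b ⊆ range φ`
  have hG : ∀ (n : ℕ) (b : B), b ∈ ℬ n → ∀ a ∈ I ^ (M * n), φ a * b ∈ Set.range φ := by
    intro n b hb
    have hmon : ∀ μ ∈ monomials v dv' n, ∀ a ∈ I ^ (M * n), φ a * μ ∈ Set.range φ := by
      intro μ hμ
      refine monomial_induction v dv' hpos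
        (fun k b ↦ ∀ a ∈ I ^ (M * k), φ a * b ∈ Set.range φ) ?_ ?_ ?_ n μ hμ
      · intro a _
        exact ⟨a, by rw [mul_one]⟩
      · intro k i b hkb a ha
        have e : M * (k + 1) = M + M * k := by ring
        rw [e, pow_add] at ha
        refine Submodule.mul_induction_on ha ?_ ?_
        · intro c hc d hd
          have h1' : φ c * v i ∈ Set.range φ := hM i hc
          have h2' : φ d * b ∈ Set.range φ := hkb d hd
          have e2 : φ (c * d) * (v i * b) = (φ c * v i) * (φ d * b) := by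
            rw [map_mul]; ring
          rw [e2]
          exact range_mul φ h1' h2'
        · intro x y hx' hy'
          rw [map_add, add_mul]
          exact range_add φ hx' hy'
      · intro k k' b hkk' hkb a ha
        exact hkb a (Ideal.pow_le_pow_right (Nat.mul_le_mul_left M hkk') ha)
    have hb' := mem_span_monomials ℬ v hx dv' hxd hb
    clear hb
    intro a ha
    induction hb' using Submodule.span_induction with
    | mem μ hμ => exact hmon μ hμ a ha
    | zero => exact ⟨0, by simp⟩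
    | add x y _ _ hx' hy' =>
      rw [mul_add]; exact range_add φ hx' hy'
    | smul r x _ hx' =>
      obtain ⟨r', -, hr'⟩ := h0.surjOn r.2
      obtain ⟨y, hy⟩ := hx'
      refine ⟨r' * y, ?_⟩
      rw [map_mul, hr', hy, Algebra.smul_def]
      change (r : B) * (φ a * x) = φ a * ((r : B) * x)
      ring
  -- eventually `ℬ n ⊆ J`
  set J : Ideal B := Ideal.span (ℬ 1 : Set B) with hJdef
  have hJ0 : ∀ r ∈ ℬ 0, ∀ x ∈ J, r * x ∈ J := fun r _ x hx' ↦ J.mul_mem_left r hx'
  have he : ∀ i : s, ∃ e : ℕ, v i ^ e ∈ J := fun i ↦ hrad (dv' i) (hpos i) (v i) (hxd i)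
  choose ei hei using he
  set n₁ : ℕ := 1 + ∑ i, ei i * dv' i with hn₁def
  have hn₁ : ∀ n : ℕ, n₁ ≤ n → ∀ b ∈ ℬ n, b ∈ J := by
    intro n hn b hb
    have hb' := mem_span_monomials ℬ v hx dv' hxd hb
    clear hb
    induction hb' using Submodule.span_induction with
    | mem μ hμ =>
      obtain ⟨ai, hai, rfl⟩ := hμ
      have hex : ∃ i, ei i ≤ ai i := by
        by_contra hcon
        push Not at hcon
        have hle : ∑ i, ai i • dv' i ≤ ∑ i, ei i * dv' i := by
          apply Finset.sum_le_sum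
          intro i _
          rw [smul_eq_mul]
          exact Nat.mul_le_mul_right _ (hcon i).le
        omega
      obtain ⟨i, hi⟩ := hex
      rw [← Finset.mul_prod_erase _ _ (Finset.mem_univ i)]
      refine J.mul_mem_right _ ?_
      have e : v i ^ ai i = v i ^ ei i * v i ^ (ai i - ei i) := by
        rw [← pow_add, Nat.add_sub_cancel' hi]
      rw [e]
      exact J.mul_mem_right _ (hei i)
    | zero => exact zero_mem _
    | add x y _ _ hx' hy' => exact add_mem hx' hy'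
    | smul r x _ hx' =>
      rw [Algebra.smul_def]
      exact J.mul_mem_left _ hx'
  -- descending to degree `n₁`
  let S : ℕ → AddSubmonoid B := fun k ↦
    AddSubmonoid.closure {x | ∃ a ∈ I ^ k, ∃ b' ∈ ℬ n₁, x = φ a * b'}
  have hS : ∀ k : ℕ, ∀ b ∈ ℬ (n₁ + k), b ∈ S k := by
    intro k
    induction k with
    | zero =>
      intro b hb
      refine AddSubmonoid.subset_closure ⟨1, ?_, b, hb, ?_⟩
      · rw [pow_zero, Ideal.one_eq_top]; trivial
      · rw [map_one, one_mul]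
    | succ k ih =>
      intro b hb
      have hbJ : b ∈ J := hn₁ _ (by omega) b hb
      have hb2 : b ∈ ℬ ((n₁ + k) + 1) := by rwa [add_assoc]
      have hcl := mem_closure_of_mem_span hb2 hbJ
      refine AddSubmonoid.closure_induction (motive := fun x _ ↦ x ∈ S (k + 1)) ?_ ?_ ?_ hcl
      · rintro x ⟨b', hb', f, hf, rfl⟩
        obtain ⟨af, haf, rfl⟩ := h1.surjOn hf
        have hb'S := ih b' hb'
        refine AddSubmonoid.closure_induction
          (motive := fun y _ ↦ y * φ af ∈ S (k + 1)) ?_ ?_ ?_ hb'S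
        · rintro y ⟨a, ha, b'', hb'', rfl⟩
          refine AddSubmonoid.subset_closure ⟨a * af, ?_, b'', hb'', ?_⟩
          · rw [pow_succ]
            exact Ideal.mul_mem_mul ha (hI1 af haf)
          · rw [map_mul]; ring
        · rw [zero_mul]; exact zero_mem _
        · intro y z _ _ hy hz
          rw [add_mul]; exact add_mem hy hz
      · exact zero_mem _
      · intro y z _ _ hy hz
        exact add_mem hy hz
  refine ⟨n₁ + M * n₁, fun n hn b hb ↦ ?_⟩
  obtain ⟨k, rfl⟩ : ∃ k, n = n₁ + k := ⟨n - n₁, by omega⟩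
  have hk : M * n₁ ≤ k := by omega
  have hbS := hS k b hb
  refine AddSubmonoid.closure_induction (motive := fun x _ ↦ x ∈ Set.range φ) ?_ ?_ ?_ hbS
  · rintro x ⟨a, ha, b', hb', rfl⟩
    exact hG n₁ b' hb' a (Ideal.pow_le_pow_right hk ha)
  · exact ⟨0, map_zero φ⟩
  · intro y z _ _ hy hz
    exact range_add φ hy hz

end Main

end Groth.Agent.Lib.H60TNSurj
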