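import Groth.Agent.Lib.H60TwistLocIso
import Groth.Agent.Lib.GrModVal

/-!
# `GrTwist.comap` for a graded homomorphism bijective in high degrees (helper60)

`ψ : 𝒜 →+*ᵍ ℬ` with `𝒜 d → ℬ d` bijective for `d ≥ d₀`: `locMap` is injective, homogeneous elements lift
(`hgen`), hence (if `Proj.map ψ` is an isomorphism) the adjoint of `GrTwist.comap` is an isomorphism.
-/

set_option autoImplicit false
universe u
open CategoryTheory AlgebraicGeometry TopologicalSpace Opposite GrTwist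
open scoped HomogeneousIdeal

namespace Groth.Agent.Lib.H60TwistEvBij

open Groth.Agent.Lib.H60GrTwist Groth.Agent.Lib.H60TwistLoc

variable {A σ : Type u} [CommRing A] [SetLike σ A] [AddSubgroupClass σ A] {𝒜 : ℕ → σ} [GradedRing 𝒜]
variable {B τ : Type u} [CommRing B] [SetLike τ B] [AddSubgroupClass τ B] {ℬ : ℕ → τ} [GradedRing ℬ]
variable (ψ : 𝒜 →+*ᵍ ℬ) (hψ : ℬ₊ ≤ (𝒜₊).map ψ)
variable {d₀ : ℕ} (hbij : ∀ d : ℕ, d₀ ≤ d → Set.BijOn ψ (𝒜 d) (ℬ d))

include hψ in
/-- A homogeneous element of `A` of degree `≥ d₀` whose image does not vanish at `y`. -/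
theorem exists_high_notMem (d₀ : ℕ) (y : ProjectiveSpectrum ℬ) :
    ∃ (j : ℕ) (g : A), d₀ ≤ j ∧ g ∈ 𝒜 j ∧ ψ g ∉ y.asHomogeneousIdeal := by
  obtain ⟨m, hm, g₀, hg₀⟩ := Groth.Agent.Lib.GrModVal.exists_pos_notMem (ProjectiveSpectrum.comap ψ hψ y)
  refine ⟨d₀ • m, (g₀ : A) ^ d₀, ?_, SetLike.pow_mem_graded d₀ g₀.2, ?_⟩
  · rw [smul_eq_mul]
    calc d₀ = d₀ * 1 := (mul_one _).symm
      _ ≤ d₀ * m := Nat.mul_le_mul_left _ hm
  · rw [map_pow]
    intro h
    exact hg₀ (y.isPrime.mem_of_pow_mem _ h)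

include hψ hbij in
theorem hgen_of_evBij (y : ProjectiveSpectrum ℬ) (i : ℕ) (b : B) (hb : b ∈ ℬ i) :
    ∃ (j : ℕ) (g a : A), g ∈ 𝒜 j ∧ a ∈ 𝒜 (i + j) ∧ ψ g ∉ y.asHomogeneousIdeal ∧ ψ g * b = ψ a := by
  obtain ⟨j, g, hj, hg, hgy⟩ := exists_high_notMem ψ hψ d₀ y
  have hmem : ψ g * b ∈ ℬ (i + j) := by
    rw [mul_comm]
    exact SetLike.mul_mem_graded hb (ψ.map_mem hg)
  obtain ⟨a, ha, hab⟩ := (hbij (i + j) (le_trans hj (Nat.le_add_left _ _))).surjOn hmem
  exact ⟨j, g, a, hg, ha, hgy, hab.symm⟩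

include hbij in
/-- `ψ` is injective on the elements all of whose components of degree `< d₀` vanish. -/
theorem eq_zero_of_high (z : A) (hz : ∀ k < d₀, (DirectSum.decompose 𝒜 z k : A) = 0) (h0 : ψ z = 0) :
    z = 0 := by
  classical
  have hall : ∀ k, (DirectSum.decompose 𝒜 z k : A) = 0 := by
    intro k
    rcases lt_or_ge k d₀ with hk | hk
    · exact hz k hk
    · have h1 : ψ (DirectSum.decompose 𝒜 z k : A) = 0 := by
        rw [GradedRingHom.map_directSumDecompose, h0, DirectSum.decompose_zero]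
        rfl
      exact (hbij k hk).injOn (SetLike.coe_mem _) (zero_mem _) (h1.trans (map_zero ψ).symm)
  have : DirectSum.decompose 𝒜 z = 0 := by
    apply DFinsupp.ext
    intro k
    exact Subtype.ext (hall k)
  rw [← (DirectSum.decompose 𝒜).symm_apply_apply z, this, DirectSum.decompose_symm_zero]

include hbij in
/-- Elements of `B` without components of degree `< d₀` lift to elements of `A` all of whose multiples
have no components of degree `< d₀`. -/
theorem exists_preimage_high (u : B) (hu : ∀ k < d₀, (DirectSum.decompose ℬ u k : B) = 0) :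
    ∃ v : A, ψ v = u ∧ ∀ (a : A) (k : ℕ), k < d₀ → (DirectSum.decompose 𝒜 (v * a) k : A) = 0 := by
  classical
  have hex : ∀ k, ∃ a : A, a ∈ 𝒜 k ∧ ψ a = (DirectSum.decompose ℬ u k : B) ∧ (k < d₀ → a = 0) := by
    intro k
    rcases lt_or_ge k d₀ with hk | hk
    · exact ⟨0, zero_mem _, by rw [map_zero, hu k hk], fun _ => rfl⟩
    · obtain ⟨a, ha, hab⟩ := (hbij k hk).surjOn (SetLike.coe_mem (DirectSum.decompose ℬ u k))
      exact ⟨a, ha, hab, fun h => absurd h (not_lt.mpr hk)⟩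
  choose f hf hfu hf0 using hex
  refine ⟨∑ k ∈ (DirectSum.decompose ℬ u).support, f k, ?_, ?_⟩
  · rw [map_sum]
    simp only [hfu]
    exact DirectSum.sum_support_decompose ℬ u
  · intro a m hm
    rw [Finset.sum_mul, DirectSum.decompose_sum, DFinsupp.finsetSum_apply, AddSubmonoidClass.coe_finsetSum]
    apply Finset.sum_eq_zero
    intro k _
    rcases lt_or_ge k d₀ with hk | hk
    · rw [hf0 k hk, zero_mul, DirectSum.decompose_zero]
      rfl
    · exact DirectSum.coe_decompose_mul_of_left_mem_of_not_le 𝒜 (hf k) (by omega)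

include hψ hbij in
theorem locMap_injective_of_evBij (y : ProjectiveSpectrum ℬ) : Function.Injective (locMap ψ hψ y) := by
  classical
  rw [injective_iff_map_eq_zero]
  intro q
  induction q using Localization.induction_on with
  | H p =>
    obtain ⟨a, s⟩ := p
    intro hq
    rw [locMap_mk] at hq
    rw [Localization.mk_eq_mk', IsLocalization.mk'_eq_zero_iff] at hq ⊢
    obtain ⟨⟨u', hu'⟩, hu'a⟩ := hq
    change u' * ψ a = 0 at hu'a
    obtain ⟨j, g, hj, hg, hgy⟩ := exists_high_notMem ψ hψ d₀ y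
    have hlow : ∀ k < d₀, (DirectSum.decompose ℬ (ψ g * u') k : B) = 0 := by
      intro k hk
      exact DirectSum.coe_decompose_mul_of_left_mem_of_not_le ℬ (ψ.map_mem hg) (by omega)
    obtain ⟨v, hv, hvlow⟩ := exists_preimage_high ψ hbij (ψ g * u') hlow
    refine ⟨⟨v, ?_⟩, ?_⟩
    · intro hmem
      have hmem' : ψ v ∈ y.asHomogeneousIdeal := hmem
      rw [hv] at hmem'
      rcases y.isPrime.mem_or_mem hmem' with h1 | h1
      · exact hgy h1
      · exact hu' h1
    · change v * a = 0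
      apply eq_zero_of_high ψ hbij _ (hvlow a)
      rw [map_mul, hv, mul_assoc, hu'a, mul_zero]

include hbij in
/-- If `ψ` is bijective in degrees `≥ d₀` and `Proj.map ψ` is an isomorphism, the adjoint
`(Proj.map ψ)^* O_A(n) ⟶ O_B(n)` of `GrTwist.comap` is an isomorphism. -/
theorem isIso_adjoint_comap_of_evBij [IsIso (Proj.map ψ hψ)] (n : ℤ) :
    IsIso (((Scheme.Modules.pullbackPushforwardAdjunction (Proj.map ψ hψ)).homEquiv _ _).symm
      (GrTwist.comap ψ hψ n)) := by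
  refine Groth.Agent.Lib.H60TwistLocIso.isIso_homEquiv_symm (Proj.map ψ hψ) (GrTwist.comap ψ hψ n)
    fun V => ?_
  refine comap_app_bijective ψ hψ n (locMap_injective_of_evBij ψ hψ hbij) (hgen_of_evBij ψ hψ hbij)
    (Proj.map ψ hψ).isOpenEmbedding.isOpenMap (Proj.map ψ hψ).isOpenEmbedding.injective _ ?_
  rintro _ ⟨y, -, rfl⟩
  exact ⟨y, rfl⟩

end Groth.Agent.Lib.H60TwistEvBij
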