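import Groth.Agent.Lib.RelTildeVal2
import Groth.Agent.Lib.GrTwistTilde
import Groth.Agent.Lib.CohLocal
import Groth.Agent.Lib.H90CohRestrict

/-!
# Local structure of the modules `(ℳ(n))~`, `O_P(n)` on a relative Proj; quasi-coherence (helper28)

* `isIso_restrict_adj`: for an open immersion `f : X ⟶ Z` and `lam : F ⟶ f_* T` bijective on sections over the opens inside the
  range of `f`, the adjoint morphism `F|_X ⟶ T` is an isomorphism.
* `isQuasicoherent_of_chart`: a module on `P` whose restrictions along chart immersions are isomorphic to quasi-coherent modules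
  is quasi-coherent.
* `RelTilde.restrictIso`, `RelTwist.restrictIso`: `F|_{Proj 𝒮(U)} ≅ (ℳ(U)(n))~`, `L|_{Proj 𝒮(U)} ≅ O(n)`.
* `isQCoh_relTilde`, `isQCoh_relTwist`.
-/

set_option autoImplicit false
universe u

open CategoryTheory CategoryTheory.Limits AlgebraicGeometry Opposite TopologicalSpace
open scoped HomogeneousIdeal

noncomputable section

namespace Groth.Agent.Lib.RelTildeLocal

open Groth.Agent.Lib.RelTildeGlue Groth.Agent.Lib.RelTildeVal2

section general

variable {X Z : Scheme.{u}} (f : X ⟶ Z) [IsOpenImmersion f]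

/-- The morphism `F|_X ⟶ T` adjoint to `lam : F ⟶ f_* T`. -/
def restrictAdj {F : Z.Modules} {T : X.Modules} (lam : F ⟶ (Scheme.Modules.pushforward f).obj T) :
    F.restrict f ⟶ T :=
  (Scheme.Modules.restrictFunctor f).map lam ≫ (Scheme.Modules.restrictAdjunction f).counit.app T

theorem restrictAdj_app {F : Z.Modules} {T : X.Modules} (lam : F ⟶ (Scheme.Modules.pushforward f).obj T)
    (V : X.Opens) :
    (restrictAdj f lam).app V =
      lam.app (f ''ᵁ V) ≫ T.presheaf.map (eqToHom (f.preimage_image_eq V).symm).op := rfl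

/-- If `lam : F ⟶ f_* T` is bijective on sections over the opens inside the range of `f`, the adjoint morphism is an
isomorphism. -/
theorem isIso_restrictAdj {F : Z.Modules} {T : X.Modules} (lam : F ⟶ (Scheme.Modules.pushforward f).obj T)
    (h : ∀ V : X.Opens, Function.Bijective (lam.app (f ''ᵁ V))) : IsIso (restrictAdj f lam) := by
  refine Scheme.Modules.Hom.isIso_iff_isIso_app.mpr fun V => ?_
  rw [restrictAdj_app]
  have h1 : IsIso (lam.app (f ''ᵁ V)) := (ConcreteCategory.isIso_iff_bijective _).mpr (h V)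
  have h2 : IsIso (T.presheaf.map (eqToHom (f.preimage_image_eq V).symm).op) := inferInstance
  exact @IsIso.comp_isIso _ _ _ _ _ _ _ h1 h2

end general

variable {Y P : Scheme.{u}} {𝒮 : RelProj.QCGrAlg Y} {p : P ⟶ Y}
  {chart : ∀ (U : Y.Opens) (hU : IsAffineOpen U), (((p ⁻¹ᵁ U : P.Opens) : Scheme.{u}) ≅ Proj (𝒮.deg U hU))}

theorem chart_hom_emb (U : Y.Opens) (hU : IsAffineOpen U) :
    (chart U hU).hom ≫ RelProj.emb p chart U hU = (p ⁻¹ᵁ U).ι := by
  unfold RelProj.emb
  rw [Iso.hom_inv_id_assoc]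

/-- A module on `P` whose restrictions along the chart immersions are isomorphic to quasi-coherent modules is
quasi-coherent. -/
theorem isQuasicoherent_of_chart (F : P.Modules)
    (h : ∀ (U : Y.Opens) (hU : IsAffineOpen U), ∃ T : (Proj (𝒮.deg U hU)).Modules,
      T.IsQuasicoherent ∧ Nonempty (F.restrict (RelProj.emb p chart U hU) ≅ T)) : F.IsQuasicoherent := by
  refine Groth.Agent.Lib.CohLocal.isQuasicoherent_of_forall_restrict_opens F fun x => ?_
  obtain ⟨U, hU, hxU, -⟩ := exists_isAffineOpen_mem_and_subset (x := p.base x) (U := ⊤) trivial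
  refine ⟨p ⁻¹ᵁ U, hxU, ?_⟩
  obtain ⟨T, hT, ⟨e⟩⟩ := h U hU
  have e1 : F.restrict (p ⁻¹ᵁ U).ι ≅ (F.restrict (RelProj.emb p chart U hU)).restrict (chart U hU).hom :=
    (Scheme.Modules.restrictFunctorCongr (chart_hom_emb U hU).symm).app F ≪≫
      (Scheme.Modules.restrictFunctorComp (chart U hU).hom (RelProj.emb p chart U hU)).app F
  have e2 : (F.restrict (RelProj.emb p chart U hU)).restrict (chart U hU).hom ≅ T.restrict (chart U hU).hom :=
    (Scheme.Modules.restrictFunctor (chart U hU).hom).mapIso e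
  haveI := hT
  exact Groth.Agent.Lib.H90CohRestrict.isQuasicoherent_of_iso (e1 ≪≫ e2).symm

/-- `F|_{Proj 𝒮(U)} ≅ (ℳ(U)(n))~`. -/
theorem nonempty_restrictIso_relTilde {ℳ : RelProj.GrModule 𝒮} (n : ℤ) {F : P.Modules}
    {lam : ∀ (U : Y.Opens) (hU : IsAffineOpen U),
      F ⟶ (Scheme.Modules.pushforward (RelProj.emb p chart U hU)).obj (GrMod.tilde (𝒮.deg U hU) (ℳ.deg U hU) n)}
    (hF : RelProj.IsRelTilde 𝒮 p chart ℳ n F lam) (U : Y.Opens) (hU : IsAffineOpen U) :
    Nonempty (F.restrict (RelProj.emb p chart U hU) ≅ GrMod.tilde (𝒮.deg U hU) (ℳ.deg U hU) n) := by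
  haveI := isIso_restrictAdj (RelProj.emb p chart U hU) (lam U hU)
    (fun V => hF.bijective U hU _ (image_emb_le U hU V))
  exact ⟨asIso (restrictAdj (RelProj.emb p chart U hU) (lam U hU))⟩

/-- `L|_{Proj 𝒮(U)} ≅ O(n)`. -/
theorem nonempty_restrictIso_relTwist (n : ℤ) {L : P.Modules}
    {lam : ∀ (U : Y.Opens) (hU : IsAffineOpen U),
      L ⟶ (Scheme.Modules.pushforward (RelProj.emb p chart U hU)).obj (GrTwist.twist (𝒮.deg U hU) n)}
    (hL : RelProj.IsRelTwist 𝒮 p chart n L lam) (U : Y.Opens) (hU : IsAffineOpen U) :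
    Nonempty (L.restrict (RelProj.emb p chart U hU) ≅ GrTwist.twist (𝒮.deg U hU) n) := by
  haveI := isIso_restrictAdj (RelProj.emb p chart U hU) (lam U hU)
    (fun V => hL.bijective U hU _ (image_emb_le U hU V))
  exact ⟨asIso (restrictAdj (RelProj.emb p chart U hU) (lam U hU))⟩

/-- The module `(ℳ(n))~` on a relative Proj is quasi-coherent. -/
theorem isQCoh_relTilde {ℳ : RelProj.GrModule 𝒮} (n : ℤ) {F : P.Modules}
    {lam : ∀ (U : Y.Opens) (hU : IsAffineOpen U),
      F ⟶ (Scheme.Modules.pushforward (RelProj.emb p chart U hU)).obj (GrMod.tilde (𝒮.deg U hU) (ℳ.deg U hU) n)}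
    (hF : RelProj.IsRelTilde 𝒮 p chart ℳ n F lam) : Coh.IsQCoh F :=
  isQuasicoherent_of_chart (𝒮 := 𝒮) (p := p) (chart := chart) F fun U hU =>
    ⟨_, Groth.Agent.Lib.GrModQCoh.isQCoh_tilde (𝒜 := 𝒮.deg U hU) (ℳ := ℳ.deg U hU) n,
      nonempty_restrictIso_relTilde n hF U hU⟩

/-- The twisting sheaf `O_P(n)` on a relative Proj is quasi-coherent. -/
theorem isQCoh_relTwist (n : ℤ) {L : P.Modules}
    {lam : ∀ (U : Y.Opens) (hU : IsAffineOpen U),
      L ⟶ (Scheme.Modules.pushforward (RelProj.emb p chart U hU)).obj (GrTwist.twist (𝒮.deg U hU) n)}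
    (hL : RelProj.IsRelTwist 𝒮 p chart n L lam) : Coh.IsQCoh L :=
  isQuasicoherent_of_chart (𝒮 := 𝒮) (p := p) (chart := chart) L fun U hU =>
    ⟨_, Groth.Agent.Lib.GrTwistTilde.isQCoh_twist (𝒮.deg U hU) n,
      nonempty_restrictIso_relTwist n hL U hU⟩

end Groth.Agent.Lib.RelTildeLocal
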