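import Groth.Agent.Lib.H60TwistLoc
import Groth.Agent.Lib.RelTildeLocal
import Groth.Agent.Lib.ProjLocalization
import Groth.Agent.Lib.H60LineBundle

set_option autoImplicit false
universe u
open CategoryTheory AlgebraicGeometry TopologicalSpace Opposite GrTwist
open scoped HomogeneousIdeal

namespace Groth.Agent.Lib.H60TwistLocIso

open Groth.Agent.Lib.H60GrTwist Groth.Agent.Lib.H60TwistLoc

section general

/-- Two adjunctions with the same right adjoint: the adjoints of a morphism differ by the canonical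
isomorphism of left adjoints. -/
theorem homEquiv_symm_eq {C D : Type*} [Category C] [Category D] {F F' : C ⥤ D} {G : D ⥤ C}
    (adj1 : F ⊣ G) (adj2 : F' ⊣ G) {X : C} {T : D} (f : X ⟶ G.obj T) :
    (adj2.homEquiv X T).symm f =
      (adj2.leftAdjointUniq adj1).hom.app X ≫ (adj1.homEquiv X T).symm f := by
  apply (adj2.homEquiv X T).injective
  rw [Equiv.apply_symm_apply, Adjunction.homEquiv_naturality_right,
    Adjunction.homEquiv_leftAdjointUniq_hom_app, ← Adjunction.homEquiv_unit, Equiv.apply_symm_apply]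

variable {X Z : Scheme.{u}} (f : X ⟶ Z) [IsOpenImmersion f]

/-- If `lam : F ⟶ f_* T` is bijective on sections over the opens inside the range of the open immersion
`f`, then its adjoint `f^* F ⟶ T` is an isomorphism. -/
theorem isIso_homEquiv_symm {F : Z.Modules} {T : X.Modules}
    (lam : F ⟶ (Scheme.Modules.pushforward f).obj T)
    (h : ∀ V : X.Opens, Function.Bijective (lam.app (f ''ᵁ V))) :
    IsIso (((Scheme.Modules.pullbackPushforwardAdjunction f).homEquiv _ _).symm lam) := by
  rw [homEquiv_symm_eq (Scheme.Modules.restrictAdjunction f)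
    (Scheme.Modules.pullbackPushforwardAdjunction f) lam]
  haveI := Groth.Agent.Lib.RelTildeLocal.isIso_restrictAdj f lam h
  have e : ((Scheme.Modules.restrictAdjunction f).homEquiv _ _).symm lam =
      Groth.Agent.Lib.RelTildeLocal.restrictAdj f lam := by
    rw [Adjunction.homEquiv_counit]; rfl
  rw [e]
  infer_instance

end general

section Away

variable {A σ : Type u} [CommRing A] [SetLike σ A] [AddSubgroupClass σ A] {𝒜 : ℕ → σ} [GradedRing 𝒜]
variable {B τ : Type u} [CommRing B] [SetLike τ B] [AddSubgroupClass τ B] {ℬ : ℕ → τ} [GradedRing ℬ]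
variable (ψ : 𝒜 →+*ᵍ ℬ) (hψ : ℬ₊ ≤ (𝒜₊).map ψ) {c : A} (hc : c ∈ 𝒜 0)
  (hloc : letI := ψ.toRingHom.toAlgebra; IsLocalization.Away c B)

include hloc in
/-- The range of `Proj.map ψ`, for `ψ` a localization at `c` of degree zero, is the locus `c ≠ 0`. -/
theorem range_map_of_away :
    Set.range (Proj.map ψ hψ).base =
      (Proj.toSpecZero 𝒜).base ⁻¹' (PrimeSpectrum.basicOpen (⟨c, hc⟩ : 𝒜 0) : Set (PrimeSpectrum (𝒜 0))) := by
  ext x
  constructor
  · rintro ⟨y, rfl⟩
    change (⟨c, hc⟩ : 𝒜 0) ∉ ((Proj.toSpecZero 𝒜).base ((Proj.map ψ hψ).base y)).asIdeal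
    rw [Groth.Agent.Lib.H60LineBundle.mem_toSpecZero_iff]
    exact map_notMem_of_away ψ hloc y
  · intro hx
    change (⟨c, hc⟩ : 𝒜 0) ∉ ((Proj.toSpecZero 𝒜).base x).asIdeal at hx
    have hcov := (Proj.affineOpenCover 𝒜).covers x
    set i := (Proj.affineOpenCover 𝒜).idx x
    obtain ⟨q, hq⟩ := hcov
    have hq' : (Proj.awayι 𝒜 (i.2 : A) i.2.2 i.1.2).base q = x := hq
    have h1 := congrArg (fun g ↦ g.base q) (Proj.awayι_toSpecZero 𝒜 (i.2 : A) i.2.2 i.1.2)
    have h1' : (Proj.toSpecZero 𝒜).base ((Proj.awayι 𝒜 (i.2 : A) i.2.2 i.1.2).base q) =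
        (Spec.map (CommRingCat.ofHom (HomogeneousLocalization.fromZeroRingHom 𝒜 _))).base q := h1
    rw [← hq', h1'] at hx
    rw [← hq']
    exact Groth.Agent.Lib.ProjLocalization.mem_range_map ψ hψ hc hloc i.1.2 i.2.2 q hx

include hc hloc in
/-- For `ψ` a localization at `c` of degree zero, the adjoint `(Proj.map ψ)^* O_A(n) ⟶ O_B(n)` of
`GrTwist.comap` is an isomorphism. -/
theorem isIso_adjoint_comap_of_away (n : ℤ) :
    IsIso (((Scheme.Modules.pullbackPushforwardAdjunction (Proj.map ψ hψ)).homEquiv _ _).symm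
      (GrTwist.comap ψ hψ n)) := by
  haveI := Groth.Agent.Lib.ProjLocalization.isOpenImmersion_map ψ hψ hc hloc
  refine isIso_homEquiv_symm (Proj.map ψ hψ) (GrTwist.comap ψ hψ n) fun V => ?_
  refine comap_app_bijective_of_away ψ hψ hc hloc n (Proj.map ψ hψ).isOpenEmbedding.isOpenMap
    (Proj.map ψ hψ).isOpenEmbedding.injective _ ?_
  rintro _ ⟨y, -, rfl⟩
  exact ⟨y, rfl⟩

end Away

end Groth.Agent.Lib.H60TwistLocIso
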