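import Groth.Agent.Lib.H60GradedFT

/-!
# Graded rings of finite type: `S_{nd} = (S_d)^n` for suitable `d` (EGA II 2.1.6)
-/

set_option autoImplicit false
universe u
open DirectSum

namespace Groth.Agent.Lib.H60Veronese

open Groth.Agent.Lib.H60GradedFT

variable {B : Type u} [CommRing B] (ℬ : ℕ → AddSubgroup B) [GradedRing ℬ]

/-- The graded piece as a `ℤ`-submodule. -/
abbrev D (n : ℕ) : Submodule ℤ B := AddSubgroup.toIntSubmodule (ℬ n)

omit [GradedRing ℬ] in
lemma mem_D {n : ℕ} {b : B} : b ∈ D ℬ n ↔ b ∈ ℬ n := Iff.rfl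

lemma D_mul_le (a b : ℕ) : D ℬ a * D ℬ b ≤ D ℬ (a + b) := by
  rw [Submodule.mul_le]
  intro x hx y hy
  exact SetLike.mul_mem_graded (A := ℬ) hx hy

lemma D_pow_le (a m : ℕ) : D ℬ a ^ m ≤ D ℬ (m * a) := by
  induction m with
  | zero =>
    rw [pow_zero, zero_mul, Submodule.one_le]
    exact SetLike.GradedOne.one_mem (A := ℬ)
  | succ m ih =>
    rw [pow_succ]
    refine (mul_le_mul' ih le_rfl).trans ?_
    have e : (m + 1) * a = m * a + a := by ring
    rw [e]
    exact D_mul_le ℬ _ _

/-- `D a * D b` is stable under multiplication by degree-zero elements. -/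
lemma zero_mul_mem (a b : ℕ) {r x : B} (hr : r ∈ ℬ 0) (hx : x ∈ D ℬ a * D ℬ b) :
    r * x ∈ D ℬ a * D ℬ b := by
  refine Submodule.mul_induction_on hx ?_ ?_
  · intro y hy z hz
    rw [← mul_assoc]
    refine Submodule.mul_mem_mul ?_ hz
    have := SetLike.mul_mem_graded (A := ℬ) hr hy
    rwa [zero_add] at this
  · intro y z hy hz
    rw [mul_add]; exact add_mem hy hz

section Gen

variable {ι' : Type*} [Fintype ι'] (v : ι' → B)
  (hx : Algebra.adjoin (ℬ 0) (Set.range v) = ⊤) (dv : ι' → ℕ) (hxd : ∀ i, v i ∈ ℬ (dv i))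
  (hpos : ∀ i, 0 < dv i)

/-- The common degree `q = ∏ dv i`. -/
def q : ℕ := ∏ i, dv i

include hpos in
lemma q_pos : 0 < q dv := Finset.prod_pos fun i _ ↦ hpos i

/-- `c i = q / dv i`. -/
def c (i : ι') : ℕ := q dv / dv i

lemma c_mul (i : ι') : c dv i * dv i = q dv :=
  Nat.div_mul_cancel (Finset.dvd_prod_of_mem dv (Finset.mem_univ i))

include hx hxd in
/-- `S_{n+q} ⊆ S_q S_n` for `n + q ≥ r q`. -/
lemma D_add_q_le (n : ℕ) (hn : Fintype.card ι' * q dv ≤ n + q dv) :
    D ℬ (n + q dv) ≤ D ℬ (q dv) * D ℬ n := by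
  classical
  intro b hb
  have hb' := mem_span_monomials ℬ v hx dv hxd (mem_D ℬ |>.mp hb)
  clear hb
  induction hb' using Submodule.span_induction with
  | mem μ hμ =>
    obtain ⟨ai, hai, rfl⟩ := hμ
    -- some exponent is large
    have hex : ∃ i, c dv i ≤ ai i := by
      by_contra hcon
      push Not at hcon
      have hlt : ∑ i, ai i • dv i < ∑ _i : ι', q dv := by
        have hne : (Finset.univ : Finset ι').Nonempty := by
          by_contra hemp
          rw [Finset.not_nonempty_iff_eq_empty] at hemp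
          have h0 : Fintype.card ι' = 0 := by
            rw [← Finset.card_univ, hemp, Finset.card_empty]
          have hq : 0 < q dv := by
            unfold q; rw [hemp, Finset.prod_empty]; exact Nat.one_pos
          have : ∑ i, ai i • dv i = 0 := by rw [hemp, Finset.sum_empty]
          omega
        apply Finset.sum_lt_sum_of_nonempty hne
        intro i _
        have h1 : ai i * dv i < c dv i * dv i := by
          have hd : 0 < dv i := by
            by_contra h0
            have h0' : dv i = 0 := by omega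
            have := hcon i
            unfold c at this
            rw [h0', Nat.div_zero] at this
            omega
          exact Nat.mul_lt_mul_of_pos_right (hcon i) hd
        rw [c_mul] at h1
        rwa [smul_eq_mul]
      rw [Finset.sum_const, Finset.card_univ, smul_eq_mul, hai] at hlt
      omega
    obtain ⟨i, hi⟩ := hex
    set ai' : ι' → ℕ := Function.update ai i (ai i - c dv i) with hai'
    have hprod : ∏ k, v k ^ ai k = v i ^ c dv i * ∏ k, v k ^ ai' k := by
      rw [← Finset.mul_prod_erase _ _ (Finset.mem_univ i),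
        ← Finset.mul_prod_erase _ (fun k ↦ v k ^ ai' k) (Finset.mem_univ i)]
      have e1 : ai' i = ai i - c dv i := by simp [hai']
      have e2 : ∏ k ∈ Finset.univ.erase i, v k ^ ai' k = ∏ k ∈ Finset.univ.erase i, v k ^ ai k := by
        apply Finset.prod_congr rfl
        intro k hk
        have : k ≠ i := Finset.ne_of_mem_erase hk
        simp [hai', Function.update_of_ne this]
      rw [e1, e2, ← mul_assoc, ← pow_add, Nat.add_sub_cancel' hi]
    have hsum : ∑ k, ai' k • dv k = n := by
      have h1 : ∑ k, ai k • dv k = ai i • dv i + ∑ k ∈ Finset.univ.erase i, ai k • dv k :=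
        (Finset.add_sum_erase _ _ (Finset.mem_univ i)).symm
      have h2 : ∑ k, ai' k • dv k = ai' i • dv i + ∑ k ∈ Finset.univ.erase i, ai' k • dv k :=
        (Finset.add_sum_erase _ _ (Finset.mem_univ i)).symm
      have e1 : ai' i = ai i - c dv i := by simp [hai']
      have e2 : ∑ k ∈ Finset.univ.erase i, ai' k • dv k =
          ∑ k ∈ Finset.univ.erase i, ai k • dv k := by
        apply Finset.sum_congr rfl
        intro k hk
        have : k ≠ i := Finset.ne_of_mem_erase hk
        simp [hai', Function.update_of_ne this]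
      rw [h2, e1, e2]
      rw [h1] at hai
      have h3 : ai i • dv i = c dv i * dv i + (ai i - c dv i) • dv i := by
        rw [smul_eq_mul, smul_eq_mul, ← Nat.add_mul, Nat.add_sub_cancel' hi]
      rw [h3, c_mul] at hai
      omega
    rw [hprod]
    refine Submodule.mul_mem_mul ?_ ?_
    · have := SetLike.pow_mem_graded (c dv i) (hxd i)
      rwa [smul_eq_mul, c_mul] at this
    · have := monomial_mem ℬ v dv hxd ai'
      rwa [hsum] at this
  | zero => exact zero_mem _
  | add s t _ _ hs' ht' => exact add_mem hs' ht'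
  | smul r x _ hx' =>
    rw [Algebra.smul_def]
    exact zero_mul_mem ℬ _ _ r.2 hx'

include hx hxd in
lemma D_add_mul_q_le (n m : ℕ) (hn : Fintype.card ι' * q dv ≤ n + q dv) :
    D ℬ (n + m * q dv) ≤ D ℬ (q dv) ^ m * D ℬ n := by
  induction m with
  | zero => rw [zero_mul, add_zero, pow_zero, one_mul]
  | succ m ih =>
    have e : n + (m + 1) * q dv = (n + m * q dv) + q dv := by ring
    rw [e]
    refine (D_add_q_le ℬ v hx dv hxd (n + m * q dv) ?_).trans ?_
    · have : 0 ≤ m * q dv := Nat.zero_le _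
      omega
    · rw [pow_succ', mul_assoc]
      exact mul_le_mul' le_rfl ih

include hx hxd in
/-- With `d = (r + 1) q`: `S_{(n+1) d} ⊆ S_d S_{nd}` for `n ≥ 1`. -/
lemma D_succ_le (n : ℕ) (hn : 0 < n) :
    D ℬ ((n + 1) * ((Fintype.card ι' + 1) * q dv)) ≤
      D ℬ ((Fintype.card ι' + 1) * q dv) * D ℬ (n * ((Fintype.card ι' + 1) * q dv)) := by
  have e : (n + 1) * ((Fintype.card ι' + 1) * q dv) =
      n * ((Fintype.card ι' + 1) * q dv) + (Fintype.card ι' + 1) * q dv := by ring
  rw [e]
  refine (D_add_mul_q_le ℬ v hx dv hxd _ _ ?_).trans ?_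
  · have h1 : (Fintype.card ι' + 1) * q dv ≤ n * ((Fintype.card ι' + 1) * q dv) :=
      Nat.le_mul_of_pos_left _ hn
    have h2 : Fintype.card ι' * q dv ≤ (Fintype.card ι' + 1) * q dv :=
      Nat.mul_le_mul_right _ (Nat.le_succ _)
    omega
  · exact mul_le_mul' (D_pow_le ℬ _ _) le_rfl

include hx hxd in
theorem D_mul_eq_pow (n : ℕ) (hn : 0 < n) :
    D ℬ (n * ((Fintype.card ι' + 1) * q dv)) = D ℬ ((Fintype.card ι' + 1) * q dv) ^ n := by
  refine le_antisymm ?_ (D_pow_le ℬ _ _)
  induction n with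
  | zero => omega
  | succ n ih =>
    by_cases h0 : n = 0
    · subst h0; rw [zero_add, one_mul, pow_one]
    · have hn' : 0 < n := Nat.pos_of_ne_zero h0
      refine (D_succ_le ℬ v hx dv hxd n hn').trans ?_
      rw [pow_succ']
      exact mul_le_mul' le_rfl (ih hn')

include hx hxd hpos in
/-- `S_m` is finitely generated over `S_0` (by the monomials of degree `m`). -/
theorem exists_finset_D_eq (m : ℕ) :
    ∃ T : Finset B, (↑T : Set B) ⊆ (ℬ m : Set B) ∧
      D ℬ m = D ℬ 0 * Submodule.span ℤ (↑T : Set B) := by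
  classical
  let T : Finset B := ((Finset.univ : Finset (ι' → Fin (m + 1))).filter
    (fun a ↦ ∑ i, (a i).val • dv i = m)).image (fun a ↦ ∏ i, v i ^ (a i).val)
  have hT : (↑T : Set B) ⊆ (ℬ m : Set B) := by
    intro b hb
    obtain ⟨a, ha, rfl⟩ := Finset.mem_image.mp hb
    have ha' := (Finset.mem_filter.mp ha).2
    have := monomial_mem ℬ v dv hxd (fun i ↦ (a i).val)
    rw [ha'] at this
    exact this
  refine ⟨T, hT, le_antisymm ?_ ?_⟩
  · intro b hb
    have hb' := mem_span_monomials ℬ v hx dv hxd (mem_D ℬ |>.mp hb)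
    clear hb
    induction hb' using Submodule.span_induction with
    | mem μ hμ =>
      obtain ⟨ai, hai, rfl⟩ := hμ
      have hle : ∀ i, ai i < m + 1 := by
        intro i
        have h1 : ai i • dv i ≤ ∑ k, ai k • dv k :=
          Finset.single_le_sum (f := fun k ↦ ai k • dv k) (fun _ _ ↦ Nat.zero_le _)
            (Finset.mem_univ i)
        rw [hai, smul_eq_mul] at h1
        have h2 : ai i ≤ ai i * dv i := Nat.le_mul_of_pos_right _ (hpos i)
        omega
      have hmemT : ∏ i, v i ^ ai i ∈ T := by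
        refine Finset.mem_image.mpr ⟨fun i ↦ ⟨ai i, hle i⟩, ?_, rfl⟩
        exact Finset.mem_filter.mpr ⟨Finset.mem_univ _, hai⟩
      rw [← one_mul (∏ i, v i ^ ai i)]
      exact Submodule.mul_mem_mul (SetLike.GradedOne.one_mem (A := ℬ))
        (Submodule.subset_span hmemT)
    | zero => exact zero_mem _
    | add s t _ _ hs' ht' => exact add_mem hs' ht'
    | smul r x _ hx' =>
      rw [Algebra.smul_def]
      refine Submodule.mul_induction_on hx' ?_ ?_
      · intro y hy z hz
        rw [← mul_assoc]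
        refine Submodule.mul_mem_mul ?_ hz
        have := SetLike.mul_mem_graded (A := ℬ) r.2 hy
        rwa [zero_add] at this
      · intro y z hy hz
        rw [mul_add]; exact add_mem hy hz
  · rw [Submodule.mul_le]
    intro y hy z hz
    have hz' : z ∈ D ℬ m := by
      have hle : Submodule.span ℤ (↑T : Set B) ≤ D ℬ m := Submodule.span_le.mpr hT
      exact hle hz
    have := SetLike.mul_mem_graded (A := ℬ) hy hz'
    rwa [zero_add] at this

end Gen

section FT

variable [Algebra.FiniteType (ℬ 0) B]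

/-- EGA II 2.1.6 (v): there is `d > 0` with `S_{n d'} = (S_{d'})^n` for every multiple `d'` of `d`. -/
theorem exists_D_mul_eq_pow :
    ∃ d : ℕ, 0 < d ∧ ∀ k : ℕ, 0 < k → ∀ n : ℕ, 0 < n →
      D ℬ (n * (k * d)) = D ℬ (k * d) ^ n := by
  classical
  obtain ⟨s, hs, hs'⟩ := GradedAlgebra.exists_finset_adjoin_eq_top_and_homogeneous_ne_zero ℬ
  choose! dv hdv using hs'
  have hx : Algebra.adjoin (ℬ 0) (Set.range (fun i : s ↦ (i : B))) = ⊤ := by
    have e : Set.range (fun i : s ↦ (i : B)) = (↑s : Set B) := Subtype.range_coe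
    rw [e]; exact hs
  have hxd : ∀ i : s, (i : B) ∈ ℬ (dv i) := fun i ↦ (hdv i i.2).2
  have hpos : ∀ i : s, 0 < dv i := fun i ↦ Nat.pos_of_ne_zero (hdv i i.2).1
  refine ⟨(Fintype.card s + 1) * q (fun i : s ↦ dv i), ?_, ?_⟩
  · exact Nat.mul_pos (Nat.succ_pos _) (q_pos _ hpos)
  · intro k hk n hn
    have h1 := D_mul_eq_pow ℬ (fun i : s ↦ (i : B)) hx (fun i : s ↦ dv i) hxd (n * k)
      (Nat.mul_pos hn hk)
    have h2 := D_mul_eq_pow ℬ (fun i : s ↦ (i : B)) hx (fun i : s ↦ dv i) hxd k hk
    rw [← mul_assoc, h1, h2, ← pow_mul, mul_comm n k]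

/-- Every graded piece is finitely generated over the degree-zero part. -/
theorem exists_finset_D_eq' (m : ℕ) :
    ∃ T : Finset B, (↑T : Set B) ⊆ (ℬ m : Set B) ∧
      D ℬ m = D ℬ 0 * Submodule.span ℤ (↑T : Set B) := by
  classical
  obtain ⟨s, hs, hs'⟩ := GradedAlgebra.exists_finset_adjoin_eq_top_and_homogeneous_ne_zero ℬ
  choose! dv hdv using hs'
  have hx : Algebra.adjoin (ℬ 0) (Set.range (fun i : s ↦ (i : B))) = ⊤ := by
    have e : Set.range (fun i : s ↦ (i : B)) = (↑s : Set B) := Subtype.range_coe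
    rw [e]; exact hs
  have hxd : ∀ i : s, (i : B) ∈ ℬ (dv i) := fun i ↦ (hdv i i.2).2
  have hpos : ∀ i : s, 0 < dv i := fun i ↦ Nat.pos_of_ne_zero (hdv i i.2).1
  exact exists_finset_D_eq ℬ (fun i : s ↦ (i : B)) hx (fun i : s ↦ dv i) hxd hpos m

end FT

end Groth.Agent.Lib.H60Veronese
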