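import Groth.Prelude.Def_W4c3severiratdpLat
import Mathlib

/-!
# helper67: Weyl-group elements of the del Pezzo lattices `DP δ`

Bilinearity of `form`, closure properties of `IsWeyl`, reflections in roots and coordinate
permutations as Weyl elements.
-/

set_option autoImplicit false

namespace Groth.Agent.Lib.H67DPWeyl

open W4c3severiratdp

variable {δ : ℕ}

theorem form_add_left (u v w : DP δ) : form (u + v) w = form u w + form v w := by
  simp only [form, Pi.add_apply, add_mul, Finset.sum_add_distrib]; ring

theorem form_add_right (u v w : DP δ) : form u (v + w) = form u v + form u w := by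
  simp only [form, Pi.add_apply, mul_add, Finset.sum_add_distrib]; ring

theorem form_smul_left (c : ℤ) (v w : DP δ) : form (c • v) w = c * form v w := by
  simp only [form, Pi.smul_apply, smul_eq_mul, mul_assoc, ← Finset.mul_sum]; ring

theorem form_smul_right (c : ℤ) (v w : DP δ) : form v (c • w) = c * form v w := by
  simp only [form, Pi.smul_apply, smul_eq_mul, mul_left_comm _ c, ← Finset.mul_sum]; ring

theorem form_comm (v w : DP δ) : form v w = form w v := by
  simp only [form, mul_comm]

theorem form_neg_left (v w : DP δ) : form (-v) w = -form v w := by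
  have := form_smul_left (-1) v w
  simpa using this

theorem form_neg_right (v w : DP δ) : form v (-w) = -form v w := by
  rw [form_comm, form_neg_left, form_comm]

theorem form_sub_left (u v w : DP δ) : form (u - v) w = form u w - form v w := by
  rw [sub_eq_add_neg, form_add_left, form_neg_left, sub_eq_add_neg]

theorem form_sub_right (u v w : DP δ) : form u (v - w) = form u v - form u w := by
  rw [sub_eq_add_neg, form_add_right, form_neg_right, sub_eq_add_neg]

theorem form_zero_left (w : DP δ) : form 0 w = 0 := by
  simp [form]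

theorem form_canon_canon : form (canon δ) (canon δ) = 9 - δ := by
  simp [form, canon]

/-- `form · α` as a linear functional. -/
def formL (α : DP δ) : DP δ →ₗ[ℤ] ℤ where
  toFun v := form v α
  map_add' u v := form_add_left u v α
  map_smul' c v := by simpa using form_smul_left c v α

@[simp] theorem formL_apply (α v : DP δ) : formL α v = form v α := rfl

theorem isWeyl_refl : IsWeyl (LinearEquiv.refl ℤ (DP δ)) :=
  ⟨fun _ _ => rfl, rfl⟩

theorem IsWeyl.trans {g h : DP δ ≃ₗ[ℤ] DP δ} (hg : IsWeyl g) (hh : IsWeyl h) :
    IsWeyl (g.trans h) :=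
  ⟨fun v w => by simp only [LinearEquiv.trans_apply]; rw [hh.1, hg.1],
    by simp only [LinearEquiv.trans_apply]; rw [hg.2, hh.2]⟩

theorem IsWeyl.symm {g : DP δ ≃ₗ[ℤ] DP δ} (hg : IsWeyl g) : IsWeyl g.symm :=
  ⟨fun v w => by
      have := hg.1 (g.symm v) (g.symm w)
      simpa using this.symm,
    by
      have := congrArg g.symm hg.2
      simpa using this.symm⟩

/-- The reflection `v ↦ v + (v·α) α` in a root `α` (`α·α = -2`). -/
def reflMap (α : DP δ) : DP δ →ₗ[ℤ] DP δ := LinearMap.id + (formL α).smulRight α

theorem reflMap_apply (α v : DP δ) : reflMap α v = v + form v α • α := rfl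

theorem reflMap_involutive (α : DP δ) (hα : form α α = -2) :
    Function.Involutive (reflMap α) := by
  intro v
  rw [reflMap_apply, reflMap_apply, form_add_left, form_smul_left, hα]
  rw [add_assoc, ← add_smul]
  have : form v α + (form v α + form v α * -2) = 0 := by ring
  rw [this, zero_smul, add_zero]

/-- The reflection in a root as a linear automorphism. -/
def refl (α : DP δ) (hα : form α α = -2) : DP δ ≃ₗ[ℤ] DP δ :=
  LinearEquiv.ofInvolutive (reflMap α) (reflMap_involutive α hα)

theorem refl_apply (α : DP δ) (hα : form α α = -2) (v : DP δ) :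
    refl α hα v = v + form v α • α := rfl

theorem isWeyl_reflection (α : DP δ) (hα : form α α = -2) (hK : form (canon δ) α = 0) :
    IsWeyl (refl α hα) := by
  constructor
  · intro v w
    simp only [refl_apply, form_add_left, form_add_right, form_smul_left, form_smul_right, hα,
      form_comm α w]
    ring
  · rw [refl_apply, hK, zero_smul, add_zero]

theorem refl_fix (α : DP δ) (hα : form α α = -2) {x : DP δ} (hx : form x α = 0) :
    refl α hα x = x := by
  rw [refl_apply, hx, zero_smul, add_zero]

/-- If `E`, `E'` are exceptional with `E·E' = 0`, the reflection in `E - E'` swaps them. -/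
theorem exists_swap {E E' : DP δ} (hE : IsExc E) (hE' : IsExc E') (h0 : form E E' = 0) :
    ∃ g : DP δ ≃ₗ[ℤ] DP δ, IsWeyl g ∧ g E = E' ∧
      ∀ x : DP δ, form x E = form x E' → g x = x := by
  have hα : form (E - E') (E - E') = -2 := by
    rw [form_sub_left, form_sub_right, form_sub_right, hE.1, hE'.1, h0, form_comm E' E, h0]
    ring
  have hK : form (canon δ) (E - E') = 0 := by
    rw [form_sub_right, hE.2, hE'.2]; ring
  refine ⟨refl _ hα, isWeyl_reflection _ hα hK, ?_, ?_⟩
  · rw [refl_apply, form_sub_right, hE.1, h0]
    have : ((-1 : ℤ) - 0) • (E - E') = E' - E := by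
      rw [sub_zero, neg_one_smul, neg_sub]
    rw [this]; abel
  · intro x hx
    apply refl_fix
    rw [form_sub_right, hx, sub_self]

/-- Extend a permutation of `Fin n` to `Fin (n+1)` fixing `0`. -/
def liftPerm {n : ℕ} (σ : Equiv.Perm (Fin n)) : Equiv.Perm (Fin (n + 1)) :=
  Equiv.Perm.decomposeFin.symm (0, σ)

@[simp] theorem liftPerm_zero {n : ℕ} (σ : Equiv.Perm (Fin n)) : liftPerm σ 0 = 0 := by
  simp [liftPerm]

@[simp] theorem liftPerm_succ {n : ℕ} (σ : Equiv.Perm (Fin n)) (i : Fin n) :
    liftPerm σ i.succ = (σ i).succ := by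
  simp [liftPerm]

/-- The Weyl element permuting the coordinates `b_i`: `(permW σ v) (i+1) = v (σ i + 1)`. -/
def permW (σ : Equiv.Perm (Fin δ)) : DP δ ≃ₗ[ℤ] DP δ :=
  LinearEquiv.funCongrLeft ℤ ℤ (liftPerm σ)

theorem permW_apply (σ : Equiv.Perm (Fin δ)) (v : DP δ) (j : Fin (δ + 1)) :
    permW σ v j = v (liftPerm σ j) := rfl

@[simp] theorem permW_apply_zero (σ : Equiv.Perm (Fin δ)) (v : DP δ) : permW σ v 0 = v 0 := by
  rw [permW_apply, liftPerm_zero]

@[simp] theorem permW_apply_succ (σ : Equiv.Perm (Fin δ)) (v : DP δ) (i : Fin δ) :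
    permW σ v i.succ = v (σ i).succ := by
  rw [permW_apply, liftPerm_succ]

theorem isWeyl_permW (σ : Equiv.Perm (Fin δ)) : IsWeyl (permW σ) := by
  constructor
  · intro v w
    simp only [form, permW_apply_zero, permW_apply_succ]
    rw [Equiv.sum_comp σ (fun i => v i.succ * w i.succ)]
  · funext j
    refine Fin.cases ?_ (fun i => ?_) j
    · simp
    · simp [canon]

end Groth.Agent.Lib.H67DPWeyl
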