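import Mathlib

/-!
# Exterior powers: kernel of the map induced by a surjection, coercion to the exterior algebra,
left wedge with a vector.
-/

set_option autoImplicit false
open exteriorPower

universe u

namespace Groth.Agent.Lib.H67ExtPow

variable {A : Type u} [CommRing A] {M M' : Type*} [AddCommGroup M] [Module A M]
  [AddCommGroup M'] [Module A M']

/-- `exteriorPower.map` is the restriction of `ExteriorAlgebra.map`. -/
theorem coe_map (n : ℕ) (f : M →ₗ[A] M') (x : ⋀[A]^n M) :
    ((exteriorPower.map n f x : ⋀[A]^n M') : ExteriorAlgebra A M') =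
      ExteriorAlgebra.map f (x : ExteriorAlgebra A M) := by
  have h : (⋀[A]^n M').subtype ∘ₗ exteriorPower.map n f =
      (ExteriorAlgebra.map f).toLinearMap ∘ₗ (⋀[A]^n M).subtype := by
    apply exteriorPower.linearMap_ext
    ext m
    simp [ExteriorAlgebra.map_apply_ιMulti]
  exact LinearMap.congr_fun h x

/-- The submodule of `⋀^p M` spanned by the wedges having one entry in the kernel of `π`. -/
def kerSpan (π : M →ₗ[A] M') (p : ℕ) : Submodule A (⋀[A]^p M) :=
  Submodule.span A {x | ∃ (v : Fin p → M) (i : Fin p), π (v i) = 0 ∧ x = ιMulti A p v}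

theorem ιMulti_sub_mem_kerSpan (π : M →ₗ[A] M') (p : ℕ) (v w : Fin p → M)
    (h : ∀ i, π (w i) = π (v i)) : ιMulti A p w - ιMulti A p v ∈ kerSpan π p := by
  classical
  have hw : w = v + (w - v) := by abel
  rw [hw]
  have := (ιMulti A p (M := M)).toMultilinearMap.map_add_univ v (w - v)
  simp only [AlternatingMap.coe_multilinearMap] at this
  rw [this, ← Finset.add_sum_erase _ _ (Finset.mem_univ Finset.univ)]
  simp only [Finset.piecewise_univ, add_sub_cancel_left]
  refine Submodule.sum_mem _ fun s hs => ?_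
  have hs' : s ≠ Finset.univ := Finset.ne_of_mem_erase hs
  obtain ⟨i, hi⟩ : ∃ i, i ∉ s := by
    by_contra hcon
    exact hs' (Finset.eq_univ_iff_forall.mpr fun i => by_contra fun hi => hcon ⟨i, hi⟩)
  refine Submodule.subset_span ⟨_, i, ?_, rfl⟩
  simp [Finset.piecewise, hi, h i]

/-- For a surjective `π`, the kernel of `⋀^p π` is spanned by wedges with one entry in `ker π`. -/
theorem ker_map_le (π : M →ₗ[A] M') (hπ : Function.Surjective π) (p : ℕ) :
    LinearMap.ker (exteriorPower.map p π) ≤ kerSpan π p := by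
  classical
  set K := kerSpan π p with hK
  let s : M' → M := Function.surjInv hπ
  have hs : ∀ y, π (s y) = y := Function.surjInv_eq hπ
  let g : M' [⋀^Fin p]→ₗ[A] (↥(⋀[A]^p M) ⧸ K) :=
    { toFun := fun m' => K.mkQ (ιMulti A p (s ∘ m'))
      map_update_add' := by
        intro _ m' i x y
        rw [← map_add, ← sub_eq_zero, ← map_sub, Submodule.mkQ_apply,
          Submodule.Quotient.mk_eq_zero]
        have h1 := (ιMulti A p (M := M)).map_update_add (s ∘ m') i (s x) (s y)
        rw [Function.comp_update, Function.comp_update, Function.comp_update, ← h1]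
        apply ιMulti_sub_mem_kerSpan
        intro j
        by_cases hj : j = i
        · subst hj
          simp [hs]
        · simp [Function.update_of_ne hj]
      map_update_smul' := by
        intro _ m' i c x
        rw [← map_smul, ← sub_eq_zero, ← map_sub, Submodule.mkQ_apply,
          Submodule.Quotient.mk_eq_zero]
        have h1 := (ιMulti A p (M := M)).map_update_smul (s ∘ m') i c (s x)
        rw [Function.comp_update, Function.comp_update, ← h1]
        apply ιMulti_sub_mem_kerSpan
        intro j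
        by_cases hj : j = i
        · subst hj
          simp [hs]
        · simp [Function.update_of_ne hj]
      map_eq_zero_of_eq' := by
        intro m' i j hij hne
        have : ιMulti A p (s ∘ m') = 0 :=
          (ιMulti A p (M := M)).map_eq_zero_of_eq (s ∘ m') (by simp [hij]) hne
        rw [this, map_zero] }
  let G : ⋀[A]^p M' →ₗ[A] (↥(⋀[A]^p M) ⧸ K) := alternatingMapLinearEquiv g
  have hG : G ∘ₗ exteriorPower.map p π = K.mkQ := by
    apply exteriorPower.linearMap_ext
    ext v
    simp only [LinearMap.compAlternatingMap_apply, LinearMap.coe_comp, Function.comp_apply,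
      map_apply_ιMulti]
    change alternatingMapLinearEquiv g (ιMulti A p (π ∘ v)) = _
    rw [alternatingMapLinearEquiv_apply_ιMulti]
    change K.mkQ (ιMulti A p (s ∘ π ∘ v)) = _
    rw [← sub_eq_zero, ← map_sub, Submodule.mkQ_apply, Submodule.Quotient.mk_eq_zero]
    apply ιMulti_sub_mem_kerSpan
    intro i
    simp [hs]
  intro x hx
  have : K.mkQ x = 0 := by
    rw [← hG, LinearMap.comp_apply, LinearMap.mem_ker.mp hx, map_zero]
  simpa [Submodule.mkQ_apply, Submodule.Quotient.mk_eq_zero] using this

/-- Left wedge with a vector: `m ↦ (y ↦ m ∧ y)`. -/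
noncomputable def wedgeLeft (n : ℕ) : M →ₗ[A] ↥(⋀[A]^n M) →ₗ[A] ↥(⋀[A]^(n + 1) M) :=
  (alternatingMapLinearEquiv (R := A) (n := n) (M := M) (N := ↥(⋀[A]^(n + 1) M))).toLinearMap ∘ₗ
    (ιMulti A (n + 1) (M := M)).curryLeft

theorem wedgeLeft_ιMulti (n : ℕ) (m : M) (w : Fin n → M) :
    wedgeLeft (A := A) n m (ιMulti A n w) = ιMulti A (n + 1) (Fin.cons m w) := by
  simp only [wedgeLeft, LinearMap.coe_comp, LinearEquiv.coe_coe, Function.comp_apply]
  rw [alternatingMapLinearEquiv_apply_ιMulti, AlternatingMap.curryLeft_apply_apply]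
  rfl

theorem coe_ιMulti_cons (n : ℕ) (m : M) (w : Fin n → M) :
    ((ιMulti A (n + 1) (Fin.cons m w) : ⋀[A]^(n + 1) M) : ExteriorAlgebra A M) =
      ExteriorAlgebra.ι A m * (ιMulti A n w : ⋀[A]^n M) := by
  rw [ιMulti_apply_coe, ExteriorAlgebra.ιMulti_succ_apply, ιMulti_apply_coe]
  have h : Matrix.vecTail (Fin.cons m w : Fin (n + 1) → M) = w := by
    ext i; simp [Matrix.vecTail]
  rw [h]
  simp

theorem coe_wedgeLeft (n : ℕ) (m : M) (y : ⋀[A]^n M) :
    ((wedgeLeft (A := A) n m y : ⋀[A]^(n + 1) M) : ExteriorAlgebra A M) =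
      ExteriorAlgebra.ι A m * (y : ExteriorAlgebra A M) := by
  have h : (⋀[A]^(n + 1) M).subtype ∘ₗ wedgeLeft (A := A) n m =
      (LinearMap.mulLeft A (ExteriorAlgebra.ι A m)) ∘ₗ (⋀[A]^n M).subtype := by
    apply exteriorPower.linearMap_ext
    ext w
    simp only [LinearMap.compAlternatingMap_apply, LinearMap.coe_comp, Function.comp_apply,
      Submodule.coe_subtype, LinearMap.mulLeft_apply]
    rw [wedgeLeft_ιMulti, coe_ιMulti_cons]
  exact LinearMap.congr_fun h y

end Groth.Agent.Lib.H67ExtPow
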