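import Mathlib

/-!
# Base change of exterior powers

For a ring map `A → B` and an `A`-module `M`, the natural map
`B ⊗[A] ⋀[A]^p M → ⋀[B]^p (B ⊗[A] M)`, `b ⊗ (m₁ ∧ … ∧ m_p) ↦ b • (1 ⊗ m₁) ∧ … ∧ (1 ⊗ m_p)`,
is bijective (`bcMap_bijective`).
-/

set_option autoImplicit false
open TensorProduct exteriorPower

namespace Groth.Agent.Lib.H67ExtPowBC

variable (A : Type*) [CommRing A] (B : Type*) [CommRing B] [Algebra A B]
  (M : Type*) [AddCommGroup M] [Module A M]

/-- `m ↦ ι (1 ⊗ m)`. -/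
noncomputable def toBCι : M →ₗ[A] ExteriorAlgebra B (B ⊗[A] M) :=
  ((ExteriorAlgebra.ι B).restrictScalars A) ∘ₗ (TensorProduct.mk A B M 1)

@[simp] theorem toBCι_apply (m : M) :
    toBCι A B M m = ExteriorAlgebra.ι B ((1 : B) ⊗ₜ[A] m) := rfl

/-- The `A`-algebra map `⋀_A M → ⋀_B (B ⊗ M)`. -/
noncomputable def toBC : ExteriorAlgebra A M →ₐ[A] ExteriorAlgebra B (B ⊗[A] M) :=
  ExteriorAlgebra.lift A ⟨toBCι A B M, fun m => by simp⟩

@[simp] theorem toBC_ι (m : M) :
    toBC A B M (ExteriorAlgebra.ι A m) = ExteriorAlgebra.ι B ((1 : B) ⊗ₜ[A] m) := by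
  simp [toBC]

theorem commute_ofId (b : B) (y : ExteriorAlgebra A M) :
    Commute (Algebra.ofId B (ExteriorAlgebra B (B ⊗[A] M)) b) (toBC A B M y) :=
  Algebra.commutes b _

/-- The `B`-algebra map `B ⊗ ⋀_A M → ⋀_B (B ⊗ M)`. -/
noncomputable def fwd : B ⊗[A] ExteriorAlgebra A M →ₐ[B] ExteriorAlgebra B (B ⊗[A] M) :=
  Algebra.TensorProduct.lift (Algebra.ofId B _) (toBC A B M) (commute_ofId A B M)

@[simp] theorem fwd_tmul (b : B) (y : ExteriorAlgebra A M) :
    fwd A B M (b ⊗ₜ y) = b • toBC A B M y := by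
  rw [fwd, Algebra.TensorProduct.lift_tmul, Algebra.ofId_apply, Algebra.smul_def]

theorem baseChange_ι_mul_swap (x y : B ⊗[A] M) :
    (ExteriorAlgebra.ι A (M := M)).baseChange B x * (ExteriorAlgebra.ι A (M := M)).baseChange B y +
      (ExteriorAlgebra.ι A (M := M)).baseChange B y *
        (ExteriorAlgebra.ι A (M := M)).baseChange B x = 0 := by
  set F := (ExteriorAlgebra.ι A (M := M)).baseChange B with hF
  induction x with
  | zero => simp
  | add x₁ x₂ h₁ h₂ =>
    have : F (x₁ + x₂) * F y + F y * F (x₁ + x₂) =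
        (F x₁ * F y + F y * F x₁) + (F x₂ * F y + F y * F x₂) := by
      rw [map_add]; noncomm_ring
    rw [this, h₁, h₂, add_zero]
  | tmul b m =>
    induction y with
    | zero => simp
    | add y₁ y₂ h₁ h₂ =>
      have : F (b ⊗ₜ m) * F (y₁ + y₂) + F (y₁ + y₂) * F (b ⊗ₜ m) =
          (F (b ⊗ₜ m) * F y₁ + F y₁ * F (b ⊗ₜ m)) + (F (b ⊗ₜ m) * F y₂ + F y₂ * F (b ⊗ₜ m)) := by
        rw [map_add]; noncomm_ring
      rw [this, h₁, h₂, add_zero]
    | tmul b' m' =>
      simp only [hF, LinearMap.baseChange_tmul, Algebra.TensorProduct.tmul_mul_tmul]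
      rw [mul_comm b' b, ← TensorProduct.tmul_add, ExteriorAlgebra.ι_add_mul_swap,
        TensorProduct.tmul_zero]

theorem baseChange_ι_sq (x : B ⊗[A] M) :
    (ExteriorAlgebra.ι A (M := M)).baseChange B x *
      (ExteriorAlgebra.ι A (M := M)).baseChange B x = 0 := by
  set F := (ExteriorAlgebra.ι A (M := M)).baseChange B with hF
  induction x with
  | zero => simp
  | add x₁ x₂ h₁ h₂ =>
    have h3 := baseChange_ι_mul_swap A B M x₁ x₂
    rw [← hF] at h3
    have : F (x₁ + x₂) * F (x₁ + x₂) = F x₁ * F x₁ + F x₂ * F x₂ + (F x₁ * F x₂ + F x₂ * F x₁) := by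
      rw [map_add]; noncomm_ring
    rw [this, h₁, h₂, h3]; simp
  | tmul b m =>
    simp only [hF, LinearMap.baseChange_tmul, Algebra.TensorProduct.tmul_mul_tmul,
      ExteriorAlgebra.ι_sq_zero, TensorProduct.tmul_zero]

/-- The `B`-algebra map `⋀_B (B ⊗ M) → B ⊗ ⋀_A M`. -/
noncomputable def bwd : ExteriorAlgebra B (B ⊗[A] M) →ₐ[B] B ⊗[A] ExteriorAlgebra A M :=
  ExteriorAlgebra.lift B ⟨(ExteriorAlgebra.ι A (M := M)).baseChange B, baseChange_ι_sq A B M⟩

@[simp] theorem bwd_ι (x : B ⊗[A] M) :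
    bwd A B M (ExteriorAlgebra.ι B x) = (ExteriorAlgebra.ι A (M := M)).baseChange B x := by
  simp [bwd]

theorem bwd_comp_fwd : (bwd A B M).comp (fwd A B M) = AlgHom.id B _ := by
  apply Algebra.TensorProduct.ext
  · ext
  · apply ExteriorAlgebra.hom_ext
    ext m
    simp

theorem bwd_fwd (x : B ⊗[A] ExteriorAlgebra A M) : bwd A B M (fwd A B M x) = x :=
  AlgHom.congr_fun (bwd_comp_fwd A B M) x

theorem fwd_injective : Function.Injective (fwd A B M) :=
  Function.LeftInverse.injective (bwd_fwd A B M)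

/-- The `A`-alternating map `m ↦ (1 ⊗ m₁) ∧ … ∧ (1 ⊗ m_p)`. -/
noncomputable def altBC (p : ℕ) : M [⋀^Fin p]→ₗ[A] ↥(⋀[B]^p (B ⊗[A] M)) where
  toFun m := ιMulti B p (TensorProduct.mk A B M 1 ∘ m)
  map_update_add' := by
    intro _ m i x y
    rw [Function.comp_update, Function.comp_update, Function.comp_update, map_add,
      AlternatingMap.map_update_add]
  map_update_smul' := by
    intro _ m i c x
    rw [Function.comp_update, Function.comp_update, map_smul, ← algebraMap_smul B c,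
      AlternatingMap.map_update_smul, algebraMap_smul]
  map_eq_zero_of_eq' := by
    intro m i j hij hne
    exact (ιMulti B p).map_eq_zero_of_eq _ (by simp [hij]) hne

/-- The `A`-linear map `⋀[A]^p M → ⋀[B]^p (B ⊗ M)`. -/
noncomputable def bcMapAux (p : ℕ) : ↥(⋀[A]^p M) →ₗ[A] ↥(⋀[B]^p (B ⊗[A] M)) :=
  alternatingMapLinearEquiv (altBC A B M p)

theorem bcMapAux_ιMulti (p : ℕ) (m : Fin p → M) :
    bcMapAux A B M p (ιMulti A p m) = ιMulti B p (fun i => (1 : B) ⊗ₜ[A] m i) := by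
  rw [bcMapAux, alternatingMapLinearEquiv_apply_ιMulti]
  rfl

theorem coe_bcMapAux (p : ℕ) (x : ⋀[A]^p M) :
    ((bcMapAux A B M p x : ⋀[B]^p (B ⊗[A] M)) : ExteriorAlgebra B (B ⊗[A] M)) =
      toBC A B M (x : ExteriorAlgebra A M) := by
  have h : ((⋀[B]^p (B ⊗[A] M)).subtype.restrictScalars A) ∘ₗ bcMapAux A B M p =
      (toBC A B M).toLinearMap ∘ₗ (⋀[A]^p M).subtype := by
    apply exteriorPower.linearMap_ext
    ext m
    simp only [LinearMap.compAlternatingMap_apply, LinearMap.coe_comp, Function.comp_apply,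
      LinearMap.coe_restrictScalars, Submodule.coe_subtype, AlgHom.toLinearMap_apply]
    rw [bcMapAux_ιMulti, ιMulti_apply_coe, ιMulti_apply_coe, ExteriorAlgebra.ιMulti_apply,
      ExteriorAlgebra.ιMulti_apply, map_list_prod, List.map_ofFn]
    congr 2
    funext i
    simp
  exact LinearMap.congr_fun h x

/-- The base change map `B ⊗[A] ⋀[A]^p M → ⋀[B]^p (B ⊗[A] M)`. -/
noncomputable def bcMap (p : ℕ) : B ⊗[A] ↥(⋀[A]^p M) →ₗ[B] ↥(⋀[B]^p (B ⊗[A] M)) :=
  LinearMap.liftBaseChange B (bcMapAux A B M p)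

@[simp] theorem bcMap_tmul (p : ℕ) (b : B) (x : ⋀[A]^p M) :
    bcMap A B M p (b ⊗ₜ x) = b • bcMapAux A B M p x := by
  simp [bcMap]

theorem bcMap_tmul_ιMulti (p : ℕ) (b : B) (m : Fin p → M) :
    bcMap A B M p (b ⊗ₜ ιMulti A p m) = b • ιMulti B p (fun i => (1 : B) ⊗ₜ[A] m i) := by
  rw [bcMap_tmul, bcMapAux_ιMulti]

theorem coe_bcMap (p : ℕ) (z : B ⊗[A] ↥(⋀[A]^p M)) :
    ((bcMap A B M p z : ⋀[B]^p (B ⊗[A] M)) : ExteriorAlgebra B (B ⊗[A] M)) =
      fwd A B M ((⋀[A]^p M).subtype.baseChange B z) := by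
  induction z with
  | zero => simp
  | add x y hx hy => simp only [map_add, Submodule.coe_add, hx, hy]
  | tmul b x =>
    rw [bcMap_tmul, LinearMap.baseChange_tmul, fwd_tmul, Submodule.coe_smul, coe_bcMapAux]
    rfl

/-- The graded projection `⋀_A M → ⋀[A]^p M`. -/
noncomputable def proj (p : ℕ) : ExteriorAlgebra A M →ₗ[A] ↥(⋀[A]^p M) where
  toFun x := (DirectSum.decompose (fun i : ℕ => ⋀[A]^i M) x) p
  map_add' x y := by simp [DirectSum.decompose_add]
  map_smul' c x := by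
    rw [DirectSum.decompose_smul]
    rfl

theorem proj_coe (p : ℕ) (x : ⋀[A]^p M) : proj A M p (x : ExteriorAlgebra A M) = x := by
  simp [proj, DirectSum.decompose_coe]

theorem baseChange_subtype_injective (p : ℕ) :
    Function.Injective ((⋀[A]^p M).subtype.baseChange B) := by
  have h : (proj A M p).baseChange B ∘ₗ (⋀[A]^p M).subtype.baseChange B = LinearMap.id := by
    rw [← LinearMap.baseChange_comp]
    have : proj A M p ∘ₗ (⋀[A]^p M).subtype = LinearMap.id :=
      LinearMap.ext fun x => by simp [proj_coe]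
    rw [this, LinearMap.baseChange_id]
  exact Function.LeftInverse.injective (g := (proj A M p).baseChange B)
    (fun z => LinearMap.congr_fun h z)

theorem bcMap_injective (p : ℕ) : Function.Injective (bcMap A B M p) := by
  intro z₁ z₂ h
  have h' := congrArg (fun w : ⋀[B]^p (B ⊗[A] M) => (w : ExteriorAlgebra B (B ⊗[A] M))) h
  simp only [coe_bcMap] at h'
  exact baseChange_subtype_injective A B M p (fwd_injective A B M h')

theorem span_one_tmul : Submodule.span B (Set.range (TensorProduct.mk A B M 1)) = ⊤ := by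
  rw [eq_top_iff]
  rintro x -
  induction x with
  | zero => simp
  | add x y hx hy => exact Submodule.add_mem _ hx hy
  | tmul b m =>
    have : b ⊗ₜ[A] m = b • ((1 : B) ⊗ₜ[A] m) := by simp [TensorProduct.smul_tmul']
    rw [this]
    exact Submodule.smul_mem _ _ (Submodule.subset_span ⟨m, rfl⟩)

theorem bcMap_surjective (p : ℕ) : Function.Surjective (bcMap A B M p) := by
  rw [← LinearMap.range_eq_top, eq_top_iff,
    ← exteriorPower.ιMulti_span_of_span B p (B ⊗[A] M) (span_one_tmul A B M), Submodule.span_le]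
  rintro _ ⟨v, hv, rfl⟩
  have hb : ∀ i, ∃ m : M, TensorProduct.mk A B M 1 m = v i := fun i => hv ⟨i, rfl⟩
  choose m hm using hb
  refine ⟨(1 : B) ⊗ₜ ιMulti A p m, ?_⟩
  rw [bcMap_tmul_ιMulti, one_smul]
  congr 1
  funext i
  exact hm i

theorem bcMap_bijective (p : ℕ) : Function.Bijective (bcMap A B M p) :=
  ⟨bcMap_injective A B M p, bcMap_surjective A B M p⟩

/-- Base change of exterior powers as a linear equivalence. -/
noncomputable def bcEquiv (p : ℕ) : (B ⊗[A] ↥(⋀[A]^p M)) ≃ₗ[B] ↥(⋀[B]^p (B ⊗[A] M)) :=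
  LinearEquiv.ofBijective (bcMap A B M p) (bcMap_bijective A B M p)

end Groth.Agent.Lib.H67ExtPowBC
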