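import Groth.Prelude.Def_AlgSp
import Groth.Agent.Lib.H69AlgSp

/-!
# Change of base scheme for fppf sheaves: the restriction functor `j⁻¹` (helper69)

For `g : S ⟶ S'`, `jinv g : Sp S' ⥤ Sp S` is restriction along `Over.map g` (Mathlib's `overMapPullback`).
* `tr`: `T`-points of `j⁻¹ F'` are `T/S'`-points of `F'` (+ naturality `tr_comp`, `tr_map`).
* `exists_isPullback_jinv`: pullback squares over `S'` give pullback squares over `S` with the same underlying
  morphism of schemes; hence `repWith_jinv_map`, `representable_jinv_map`.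
* `representableByJinvYon`, `jinvYonIso`: `j⁻¹ h_{X'} ≅ h_{X' ×_{S'} S}`.
* `isAlgSpace_jinv`: `j⁻¹` of an algebraic space is an algebraic space.
-/

set_option autoImplicit false
universe u
open CategoryTheory CategoryTheory.Limits AlgebraicGeometry Opposite
open AlgSp Groth.Agent.Lib.H69AlgSp

namespace Groth.Agent.Lib.H69AlgSpBase

variable {S S' : Scheme.{u}} (g : S ⟶ S')

/-- Restriction `j⁻¹` of fppf sheaves along `Over.map g : Sch/S ⥤ Sch/S'`. -/
noncomputable abbrev jinv : Sp S' ⥤ Sp S := Scheme.fppfTopology.overMapPullback (Type (u + 1)) g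

variable {g}

/-- `T`-points of `j⁻¹ F'` are `T/S'`-points of `F'`. -/
noncomputable def tr {T : Over S} {F' : Sp S'} :
    ((yon S).obj T ⟶ (jinv g).obj F') ≃ ((yon S').obj ((Over.map g).obj T) ⟶ F') :=
  (yEquiv (S := S) (U := T) (F := (jinv g).obj F')).trans
    (yEquiv (S := S') (U := (Over.map g).obj T) (F := F')).symm

theorem yEquiv_tr {T : Over S} {F' : Sp S'} (ξ : (yon S).obj T ⟶ (jinv g).obj F') :
    yEquiv (S := S') (U := (Over.map g).obj T) (F := F') (tr ξ) =
      yEquiv (S := S) (U := T) (F := (jinv g).obj F') ξ :=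
  Equiv.apply_symm_apply _ _

theorem tr_comp {T : Over S} {F' G' : Sp S'} (ξ : (yon S).obj T ⟶ (jinv g).obj F') (a' : F' ⟶ G') :
    tr (ξ ≫ (jinv g).map a') = tr ξ ≫ a' := by
  apply (yEquiv (S := S') (U := (Over.map g).obj T) (F := G')).injective
  rw [yEquiv_tr, yEquiv_comp, yEquiv_comp, yEquiv_tr]
  rfl

theorem tr_map {T W : Over S} {F' : Sp S'} (t : W ⟶ T) (ξ : (yon S).obj T ⟶ (jinv g).obj F') :
    tr ((yon S).map t ≫ ξ) = (yon S').map ((Over.map g).map t) ≫ tr ξ := by
  apply (yEquiv (S := S') (U := (Over.map g).obj W) (F := F')).injective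
  rw [yEquiv_tr, yEquiv_map_comp, yEquiv_map_comp, yEquiv_tr]
  rfl

/-- **Base change of a pullback square along `j⁻¹`.** A pullback square over `S'` exhibiting the base change of
`a' : F' ⟶ G'` along the `T/S'`-point of `G'` attached to `ξ : h_T ⟶ j⁻¹ G'` gives a pullback square over `S`
with the same underlying morphism of schemes. -/
theorem exists_isPullback_jinv {F' G' : Sp S'} (a' : F' ⟶ G') {T : Over S}
    (ξ : (yon S).obj T ⟶ (jinv g).obj G') {V' : Over S'} (fst' : (yon S').obj V' ⟶ F')
    (p' : V' ⟶ (Over.map g).obj T) (sq' : IsPullback fst' ((yon S').map p') a' (tr ξ)) :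
    ∃ (fst : (yon S).obj (Over.mk (p'.left ≫ T.hom)) ⟶ (jinv g).obj F'),
      IsPullback fst ((yon S).map (Over.homMk p'.left rfl : Over.mk (p'.left ≫ T.hom) ⟶ T))
        ((jinv g).map a') ξ := by
  let V : Over S := Over.mk (p'.left ≫ T.hom)
  let p : V ⟶ T := Over.homMk p'.left rfl
  let ι : (Over.map g).obj V ⟶ V' := Over.homMk (𝟙 _) (by
    have := Over.w p'
    simp only [Over.map_obj_hom] at this
    simp [V, this])
  have hι : (Over.map g).map p = ι ≫ p' := by
    ext
    simp [ι, p]
  refine ⟨tr.symm ((yon S').map ι ≫ fst'), ?_⟩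
  refine isPullback_of_yon ?_ ?_ ?_
  · apply tr.injective
    rw [tr_comp, Equiv.apply_symm_apply, tr_map, hι, Functor.map_comp, Category.assoc, Category.assoc,
      sq'.w]
  · intro W p₁ p₂ h1 h2
    obtain ⟨q₁, rfl⟩ := (yon S).map_surjective p₁
    obtain ⟨q₂, rfl⟩ := (yon S).map_surjective p₂
    rw [← Functor.map_comp, ← Functor.map_comp] at h2
    have h2' : q₁ ≫ p = q₂ ≫ p := (yon S).map_injective h2
    have h1' := congrArg tr h1
    rw [tr_map, tr_map, Equiv.apply_symm_apply, ← Category.assoc, ← Category.assoc,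
      ← Functor.map_comp, ← Functor.map_comp] at h1'
    have h3 : (yon S').map ((Over.map g).map q₁ ≫ ι) = (yon S').map ((Over.map g).map q₂ ≫ ι) := by
      apply sq'.hom_ext h1'
      rw [← Functor.map_comp, ← Functor.map_comp, Category.assoc, Category.assoc, ← hι,
        ← Functor.map_comp, ← Functor.map_comp, h2']
    have h4 := (yon S').map_injective h3
    have h5 : q₁.left = q₂.left := by
      have := congrArg (fun m => m.left) h4
      simp only [Over.comp_left, Over.map_map_left, Over.homMk_left, ι] at this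
      rw [Category.comp_id, Category.comp_id] at this
      exact this
    rw [show q₁ = q₂ from Over.OverMorphism.ext h5]
  · intro W x y hxy
    obtain ⟨t, rfl⟩ := (yon S).map_surjective y
    have h1 := congrArg tr hxy
    rw [tr_comp, tr_map] at h1
    obtain ⟨r, hr⟩ := (yon S').map_surjective (sq'.lift (tr x) ((yon S').map ((Over.map g).map t)) h1)
    have hr1 : (yon S').map r ≫ fst' = tr x := by rw [hr, sq'.lift_fst]
    have hr2 : r ≫ p' = (Over.map g).map t := by
      apply (yon S').map_injective
      rw [Functor.map_comp, hr, sq'.lift_snd]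
    have hr3 : r.left ≫ p'.left = t.left := by
      have := congrArg (fun m => m.left) hr2
      simpa using this
    let q : W ⟶ V := Over.homMk r.left (by
      change r.left ≫ p'.left ≫ T.hom = W.hom
      rw [← Category.assoc, hr3, Over.w t])
    have hq : (Over.map g).map q ≫ ι = r := by
      ext
      simp [q, ι]
    refine ⟨(yon S).map q, ?_, ?_⟩
    · apply tr.injective
      rw [tr_map, Equiv.apply_symm_apply, ← Category.assoc, ← Functor.map_comp, hq, hr1]
    · rw [← Functor.map_comp]
      congr 1
      ext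
      simpa [q, p] using hr3

variable (g) in
/-- `j⁻¹ h_{X'}` is represented by `X' ×_{S'} S` over `S`. -/
noncomputable def representableByJinvYon (X' : Over S') :
    ((jinv g).obj ((yon S').obj X')).obj.RepresentableBy ((Over.pullback g).obj X') where
  homEquiv {T} := ((Over.mapPullbackAdj g).homEquiv T X').symm.trans Equiv.ulift.symm
  homEquiv_comp {T T'} f φ := by
    change (⟨_⟩ : ULift _) = ⟨_⟩
    congr 1


/-- `j⁻¹` preserves maps representable with `P`. -/
theorem repWith_jinv_map (P : MorphismProperty Scheme.{u}) [P.IsStableUnderBaseChange] {F' G' : Sp S'}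
    {a' : F' ⟶ G'} (ha' : RepWith P a') : RepWith P ((jinv g).map a') := by
  have : P.RespectsIso := MorphismProperty.IsStableUnderBaseChange.respectsIso
  apply MorphismProperty.relative.of_exists
  intro T ξ
  have hrep : Representable a' := ha'.rep
  obtain ⟨fst, sq⟩ := exists_isPullback_jinv a' ξ (hrep.fst (tr ξ)) (hrep.snd (tr ξ))
    (hrep.isPullback (tr ξ))
  exact ⟨_, fst, _, sq, ha'.property_snd (tr ξ)⟩

/-- `j⁻¹` preserves representable maps. -/
theorem representable_jinv_map {F' G' : Sp S'} {a' : F' ⟶ G'} (ha' : Representable a') :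
    Representable ((jinv g).map a') := by
  intro T ξ
  obtain ⟨fst, sq⟩ := exists_isPullback_jinv a' ξ (ha'.fst (tr ξ)) (ha'.snd (tr ξ))
    (ha'.isPullback (tr ξ))
  exact ⟨_, _, fst, sq⟩

variable (g) in
/-- `j⁻¹ h_{X'} ≅ h_{X' ×_{S'} S}`. -/
noncomputable def jinvYonIso (X' : Over S') :
    (yon S).obj ((Over.pullback g).obj X') ≅ (jinv g).obj ((yon S').obj X') :=
  isoOfRepresentableBy (representableByJinvYon g X')

/-- `j⁻¹` of an algebraic space over `S'` is an algebraic space over `S`. -/
theorem isAlgSpace_jinv {F' : Sp S'} (hF' : IsAlgSpace F') : IsAlgSpace ((jinv g).obj F') where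
  diag := by
    have h1 : Limits.diag ((jinv g).obj F') =
        (jinv g).map (Limits.diag F') ≫ prodComparison (jinv g) F' F' := by
      apply Limits.prod.hom_ext
      · rw [Category.assoc, prodComparison_fst, ← Functor.map_comp]
        simp only [Limits.diag, prod.lift_fst]
        exact ((jinv g).map_id F').symm
      · rw [Category.assoc, prodComparison_snd, ← Functor.map_comp]
        simp only [Limits.diag, prod.lift_snd]
        exact ((jinv g).map_id F').symm
    rw [h1]
    exact MorphismProperty.RespectsIso.postcomp _ (prodComparison (jinv g) F' F') _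
      (representable_jinv_map hF'.diag)
  atlas := by
    obtain ⟨U', p', h1, h2⟩ := hF'.atlas
    refine ⟨(Over.pullback g).obj U', (jinvYonIso g U').hom ≫ (jinv g).map p', ?_, ?_⟩
    · exact MorphismProperty.RespectsIso.precomp _ (jinvYonIso g U').hom _ (repWith_jinv_map _ h1)
    · exact MorphismProperty.RespectsIso.precomp _ (jinvYonIso g U').hom _ (repWith_jinv_map _ h2)

end Groth.Agent.Lib.H69AlgSpBase
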