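import Groth.Agent.Lib.H69AlgSp
import Groth.Prelude.Def_AlgSpOX3
import Mathlib.CategoryTheory.Sites.RegularEpi

/-!
# helper69: an algebraic space is the colimit of the schemes etale over it

`existsUnique_desc`: a family of maps `g E : h_{E} ⟶ Y` to a sheaf `Y`, natural in the object `E` of the small etale
site of the algebraic space `X`, descends uniquely to a map `X ⟶ Y`.
-/

set_option autoImplicit false
universe u

open CategoryTheory CategoryTheory.Limits AlgebraicGeometry Opposite

namespace Groth.Agent.Lib.H69AlgSpColim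

open AlgSp Groth.Agent.Lib.H69AlgSp

variable {S : Scheme.{u}} {X : Sp S}

/-- A representable etale surjective map of fppf sheaves is an epimorphism. -/
theorem epi_of_etale_surjective {F G : Sp S} (a : F ⟶ G) (h₁ : RepWith @Etale a)
    (h₃ : RepWith @Surjective a) : Epi a :=
  (Sheaf.isLocallySurjective_iff_epi _).1 (isLocallySurjective_of_etale_surjective a h₁ h₃)

/-- The projection `E ×_X E₀ ⟶ E` is an epimorphism on `h` when `E₀` is an atlas. -/
theorem epi_prodFst (E E₀ : EtOver X) (hs : RepWith @Surjective E₀.obj.hom) :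
    Epi ((yon S).map (EtOver.prodFst E E₀).hom.left) := by
  refine epi_of_etale_surjective _ ((repWith_yon_map_iff _ _).2 (EtOver.etale_left _)) ?_
  exact (repWith_isStableUnderBaseChange (S := S) @Surjective).of_isPullback
    (E₀.property.1.isPullback E.obj.hom) hs

theorem existsUnique_desc (hX : IsAlgSpace X) (Y : Sp S)
    (g : ∀ E : EtOver X, (yon S).obj E.obj.left ⟶ Y)
    (hg : ∀ {E E' : EtOver X} (h : E' ⟶ E), (yon S).map h.hom.left ≫ g E = g E') :
    ∃! f : X ⟶ Y, ∀ E : EtOver X, E.obj.hom ≫ f = g E := by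
  obtain ⟨U, p, hpe, hps⟩ := hX.atlas
  let E₀ : EtOver X := EtOver.mk p hpe
  have : Epi p := epi_of_etale_surjective p hpe hps
  have : IsRegularEpi p := IsRegularEpiCategory.regularEpiOfEpi p
  have : EffectiveEpi p := inferInstance
  have hcond : ∀ {Z : Sp S} (g₁ g₂ : Z ⟶ (yon S).obj U), g₁ ≫ p = g₂ ≫ p → g₁ ≫ g E₀ = g₂ ≫ g E₀ := by
    intro Z g₁ g₂ h
    apply hom_ext_yon
    intro W a
    have sq := E₀.property.1.isPullback E₀.obj.hom
    rw [← Functor.relativelyRepresentable.map_fst'] at sq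
    obtain ⟨l, hl1, hl2⟩ := exists_lift_yon sq (a ≫ g₁) (a ≫ g₂) (by
      rw [Category.assoc, Category.assoc]; exact congrArg (a ≫ ·) h)
    have e1 := hg (EtOver.prodFst E₀ E₀)
    have e2 := hg (EtOver.prodSnd E₀ E₀)
    calc a ≫ g₁ ≫ g E₀ = (a ≫ g₁) ≫ g E₀ := (Category.assoc _ _ _).symm
      _ = (yon S).map l ≫ (yon S).map (EtOver.prodSnd E₀ E₀).hom.left ≫ g E₀ := by
          rw [← hl1, Category.assoc]; rfl
      _ = (yon S).map l ≫ (yon S).map (EtOver.prodFst E₀ E₀).hom.left ≫ g E₀ :=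
          congrArg (fun t => (yon S).map l ≫ t) (e2.trans e1.symm)
      _ = (a ≫ g₂) ≫ g E₀ := by rw [← hl2, Category.assoc]; rfl
      _ = a ≫ g₂ ≫ g E₀ := Category.assoc _ _ _
  have hfac : p ≫ EffectiveEpi.desc p (g E₀) hcond = g E₀ := EffectiveEpi.fac p (g E₀) hcond
  refine ⟨EffectiveEpi.desc p (g E₀) hcond, fun E => ?_, fun f' hf' => ?_⟩
  · have := epi_prodFst E E₀ hps
    rw [← cancel_epi ((yon S).map (EtOver.prodFst E E₀).hom.left), hg (EtOver.prodFst E E₀),
      ← Category.assoc, EtOver.w (EtOver.prodFst E E₀), ← EtOver.w (EtOver.prodSnd E E₀), Category.assoc]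
    change (yon S).map (EtOver.prodSnd E E₀).hom.left ≫ p ≫ _ = _
    rw [hfac]
    exact hg (EtOver.prodSnd E E₀)
  · rw [← cancel_epi p, hfac]
    exact hf' E₀

end Groth.Agent.Lib.H69AlgSpColim
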