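import Groth.Agent.Lib.H69AlgSpReduced
import Groth.Agent.Lib.NoethDescent

/-!
# Descent of etale-local properties of algebraic spaces along surjective morphisms (helper69)
-/

set_option autoImplicit false
universe u
open CategoryTheory CategoryTheory.Limits AlgebraicGeometry Opposite

namespace Groth.Agent.Lib.H69AlgSpDescProp

open AlgSp

variable {S : Scheme.{u}}

theorem locP_inf {P₁ P₂ : MorphismProperty Scheme.{u}} {X Y : Sp S} {f : X ⟶ Y}
    (h₁ : LocP P₁ f) (h₂ : LocP P₂ f) : LocP (P₁ ⊓ P₂) f :=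
  fun _ _ a b k ha hb comm => ⟨h₁ a b k ha hb comm, h₂ a b k ha hb comm⟩

/-- General descent: if `Q` ascends along etale morphisms and descends along surjective morphisms
with `P`, then `EtaleLocally Q` descends along surjective morphisms of algebraic spaces with
`LocP P`. -/
theorem etaleLocally_of_surjective {Q : Scheme.{u} → Prop} (P : MorphismProperty Scheme.{u})
    (hQet : ∀ ⦃W U : Scheme.{u}⦄ (s : W ⟶ U), Etale s → Q U → Q W)
    (hdesc : ∀ ⦃W V : Scheme.{u}⦄ (t : W ⟶ V), P t → Surjective t → Q W → Q V)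
    {X Y : Sp S} (hY : IsAlgSpace Y) (f : X ⟶ Y) (hf : LocP P f) (hs : IsSurjectiveMor f)
    (hX : EtaleLocally Q X) : EtaleLocally Q Y := by
  obtain ⟨U, p, hpe, hps, hU⟩ := hX
  obtain ⟨V, b, hbe, hbs⟩ := hY.atlas
  obtain ⟨W, s, t, hse, hss, sq⟩ := Groth.Agent.Lib.H69AlgSpReduced.exists_chart f p b hbe hbs
  have hW : Q W.left := hQet s.left hse hU
  have hse' : RepWith @Etale ((yon S).map s) := (repWith_yon_map_iff _ _).2 hse
  have hP : P t.left := by
    refine hf ((yon S).map s ≫ p) b t (MorphismProperty.comp_mem _ _ _ hse' hpe) hbe ?_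
    rw [Category.assoc]
    exact sq.w.symm
  have hsurj : Surjective t.left := by
    have h1 : IsSurjectiveMor (p ≫ f) := by
      intro y
      obtain ⟨x, hx⟩ := hs y
      obtain ⟨u, hu⟩ := Groth.Agent.Lib.H86AlgSpPoints.map_surjective_of_repWith hps x
      exact ⟨u, by rw [Points.map_comp, hu, hx]⟩
    have h2 : IsSurjectiveMor ((yon S).map t) :=
      Groth.Agent.Lib.AlgSpPoints.isSurjectiveMor_of_isPullback sq.flip h1
    exact ⟨(Groth.Agent.Lib.AlgSpPoints.surjective_map_yon_map_iff (φ := t)).1 h2⟩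
  exact ⟨V, b, hbe, hbs, hdesc t.left hP hsurj hW⟩

/-- Local Noetherianity descends along fppf coverings of algebraic spaces. -/
theorem isLocNoethSp_of_fppf {X Y : Sp S} (hY : IsAlgSpace Y) (f : X ⟶ Y)
    (hfp : LocP @LocallyOfFinitePresentation f) (hfl : LocP @Flat f) (hs : IsSurjectiveMor f)
    (hX : IsLocNoethSp X) : IsLocNoethSp Y := by
  refine etaleLocally_of_surjective (@Flat ⊓ @LocallyOfFinitePresentation) ?_ ?_ hY f
    (locP_inf hfl hfp) hs hX
  · intro W U s hs hU
    have : Etale s := hs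
    have : IsLocallyNoetherian U := hU
    exact LocallyOfFiniteType.isLocallyNoetherian s
  · intro W V t ht hts hW
    have : Flat t := ht.1
    have : LocallyOfFinitePresentation t := ht.2
    have : Surjective t := hts
    have : IsLocallyNoetherian W := hW
    exact Groth.Agent.Lib.NoethDescent.isLocallyNoetherian_of_fppf t

end Groth.Agent.Lib.H69AlgSpDescProp
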