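import Groth.Agent.Lib.H69KerFlat
import Mathlib.CategoryTheory.Subobject.Basic
import Mathlib.RingTheory.Flat.FaithfullyFlat.Algebra
import Mathlib.RingTheory.RingHom.FaithfullyFlat

/-!
# Descent of closed subschemes along a faithfully flat quasi-compact morphism (helper69)

* `isSchemeTheoreticallyDominant_of_flat_of_surjective`
* `map_comap_eq_of_flat_of_surjective`: `(I'.comap π).map π = I'` for `π` flat surjective.
* `comap_map_eq_of_stable`: `(I.map π).comap π = I` for an `R`-stable closed subscheme.
* `closedSubscheme_descent_bijOn` (= S5233).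
-/

set_option autoImplicit false
open CategoryTheory CategoryTheory.Limits AlgebraicGeometry
universe u

namespace Groth.Agent.Lib.H69ClosedDesc

open Groth.Agent.Lib.H69KerFlat

section dominant

variable {X Y : Scheme.{u}} (f : X ⟶ Y)

theorem app_injective_of_flat_of_surjective [Flat f] [Surjective f] (U : Y.Opens) :
    Function.Injective (f.app U).hom := by
  rw [injective_iff_map_eq_zero]
  intro s hs
  refine TopCat.Presheaf.section_ext Y.sheaf U s 0 fun y hy => ?_
  obtain ⟨x, rfl⟩ := f.surjective y
  have h1 := Scheme.Hom.germ_stalkMap_apply f U x hy s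
  rw [hs, map_zero] at h1
  have hflat : (f.stalkMap x).hom.Flat := Flat.stalkMap f x
  algebraize [(f.stalkMap x).hom]
  have : IsLocalHom (algebraMap (Y.presheaf.stalk (f x)) (X.presheaf.stalk x)) := by
    rw [RingHom.algebraMap_toAlgebra]; infer_instance
  have hff : Module.FaithfullyFlat (Y.presheaf.stalk (f x)) (X.presheaf.stalk x) :=
    Module.FaithfullyFlat.of_flat_of_isLocalHom
  have hinj : Function.Injective (algebraMap (Y.presheaf.stalk (f x)) (X.presheaf.stalk x)) :=
    FaithfulSMul.algebraMap_injective _ _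
  rw [map_zero]
  apply hinj
  exact h1.trans (map_zero _).symm

instance (priority := low) isSchemeTheoreticallyDominant_of_flat_of_surjective
    [Flat f] [Surjective f] : IsSchemeTheoreticallyDominant f := by
  refine ⟨le_bot_iff.1 ?_⟩
  intro U
  refine (f.ideal_ker_le U).trans ?_
  rw [(RingHom.injective_iff_ker_eq_bot _).1 (app_injective_of_flat_of_surjective f U.1)]
  exact bot_le

end dominant


section descent

open Scheme.IdealSheafData

lemma ker_comp_of_dominant {X Y W : Scheme.{u}} (a : X ⟶ Y) (m : Y ⟶ W)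
    [IsSchemeTheoreticallyDominant a] : (a ≫ m).ker = m.ker := by
  rw [Scheme.Hom.ker_comp, Scheme.Hom.ker_eq_bot a, Scheme.IdealSheafData.map_bot]

variable {X X' : Scheme.{u}} (π : X ⟶ X') [Flat π] [Surjective π]

/-- For `π` flat and surjective, `(I'.comap π).map π = I'`. -/
theorem map_comap_eq (I' : X'.IdealSheafData) : (I'.comap π).map π = I' := by
  have h1 : (I'.comap π).subschemeι ≫ π =
      ((I'.comapIso π).hom ≫ pullback.snd π I'.subschemeι) ≫ I'.subschemeι := by
    rw [Category.assoc, ← pullback.condition, ← Category.assoc, comapIso_hom_fst]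
  have : IsSchemeTheoreticallyDominant
      ((I'.comapIso π).hom ≫ pullback.snd π I'.subschemeι) := inferInstance
  rw [Scheme.IdealSheafData.map, h1, ker_comp_of_dominant, ker_subschemeι]

/-- The kernel of a pulled back closed immersion. -/
theorem ker_of_isPullback_closedImmersion {Z Z' : Scheme.{u}} {i' : Z' ⟶ X'} {i : Z ⟶ X}
    {φ : Z ⟶ Z'} (g : X ⟶ X') [IsClosedImmersion i'] (H : IsPullback φ i i' g) :
    i.ker = i'.ker.comap g := by
  rw [← ker_fst_of_isClosedImmersion i' g, ← H.flip.isoPullback_hom_fst,
    Scheme.Hom.ker_comp_of_isIso]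

variable [QuasiCompact π]

/-- For an `R`-stable closed subscheme `Y` of `X` (`R = X ×_{X'} X`), `(I.map π).comap π = I`. -/
theorem comap_map_eq_of_stable {Y A : Scheme.{u}} (i : Y ⟶ X) [IsClosedImmersion i]
    (a : A ⟶ pullback π π) (p₁ p₂ : A ⟶ Y)
    (H₁ : IsPullback p₁ a i (pullback.fst π π)) (H₂ : IsPullback p₂ a i (pullback.snd π π)) :
    (i.ker.map π).comap π = i.ker := by
  -- `ψ = a ≫ snd`
  have hpaste : IsPullback (a ≫ pullback.snd π π) p₁ π (i ≫ π) :=
    H₁.flip.paste_horiz (IsPullback.of_hasPullback π π).flip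
  have h1 : (a ≫ pullback.snd π π).ker = (i ≫ π).ker.comap π :=
    ker_eq_comap_ker_of_isPullback hpaste.flip
  have hflat : Flat p₂ := MorphismProperty.of_isPullback (P := @Flat) H₂.flip inferInstance
  have hsurj : Surjective p₂ :=
    MorphismProperty.of_isPullback (P := @Surjective) H₂.flip inferInstance
  have h2 : (a ≫ pullback.snd π π).ker = i.ker := by
    rw [← H₂.w, ker_comp_of_dominant]
  rw [← Scheme.Hom.ker_comp, ← h1, h2]

end descent


section subobject

/-- Two closed subobjects with the same kernel ideal are equal. -/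
theorem eq_of_ker_eq {X : Scheme.{u}} (Y₁ Y₂ : Subobject X) [IsClosedImmersion Y₁.arrow]
    [IsClosedImmersion Y₂.arrow] (h : Y₁.arrow.ker = Y₂.arrow.ker) : Y₁ = Y₂ := by
  refine Subobject.eq_of_comm
    ⟨IsClosedImmersion.lift Y₂.arrow Y₁.arrow h.ge, IsClosedImmersion.lift Y₁.arrow Y₂.arrow h.le,
      ?_, ?_⟩ (IsClosedImmersion.lift_fac _ _ _)
  · rw [← cancel_mono Y₁.arrow, Category.assoc, IsClosedImmersion.lift_fac,
      IsClosedImmersion.lift_fac, Category.id_comp]
  · rw [← cancel_mono Y₂.arrow, Category.assoc, IsClosedImmersion.lift_fac,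
      IsClosedImmersion.lift_fac, Category.id_comp]

lemma mk_arrow_eq {X A : Scheme.{u}} (i : A ⟶ X) [Mono i] :
    (Subobject.mk i).arrow = (Subobject.underlyingIso i).hom ≫ i := by
  have h := Subobject.underlyingIso_arrow i
  exact ((Iso.inv_comp_eq _).1 h)

variable {X X' : Scheme.{u}} (π : X ⟶ X')

lemma isClosedImmersion_pullback_arrow (Y' : Subobject X') [hY' : IsClosedImmersion Y'.arrow] :
    IsClosedImmersion ((Subobject.pullback π).obj Y').arrow :=
  MorphismProperty.of_isPullback (P := @IsClosedImmersion) (Subobject.isPullback π Y') hY'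

lemma ker_pullback_arrow (Y' : Subobject X') [IsClosedImmersion Y'.arrow] :
    ((Subobject.pullback π).obj Y').arrow.ker = Y'.arrow.ker.comap π :=
  ker_of_isPullback_closedImmersion π (Subobject.isPullback π Y')

variable [Flat π] [Surjective π] [QuasiCompact π]

/-- S5233. -/
theorem closedSubscheme_descent_bijOn :
    Set.BijOn (Subobject.pullback π).obj
      {Y' : Subobject X' | IsClosedImmersion Y'.arrow}
      {Y : Subobject X | IsClosedImmersion Y.arrow ∧
        (Subobject.pullback (pullback.fst π π)).obj Y =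
          (Subobject.pullback (pullback.snd π π)).obj Y} := by
  refine ⟨?_, ?_, ?_⟩
  · intro Y' hY'
    have hY' : IsClosedImmersion Y'.arrow := hY'
    refine ⟨isClosedImmersion_pullback_arrow π Y', ?_⟩
    rw [← Subobject.pullback_comp, ← Subobject.pullback_comp, pullback.condition]
  · intro Y₁ h₁ Y₂ h₂ heq
    have h₁ : IsClosedImmersion Y₁.arrow := h₁
    have h₂ : IsClosedImmersion Y₂.arrow := h₂
    apply eq_of_ker_eq
    have k₁ := ker_pullback_arrow π Y₁
    have k₂ := ker_pullback_arrow π Y₂
    have hk : Y₁.arrow.ker.comap π = Y₂.arrow.ker.comap π := by rw [← k₁, ← k₂, heq]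
    rw [← map_comap_eq π Y₁.arrow.ker, hk, map_comap_eq π]
  · rintro Y ⟨hY, hstab⟩
    have hY : IsClosedImmersion Y.arrow := hY
    let I' := Y.arrow.ker.map π
    have hcl : IsClosedImmersion (Subobject.mk I'.subschemeι).arrow := by
      rw [mk_arrow_eq]; infer_instance
    refine ⟨Subobject.mk I'.subschemeι, hcl, ?_⟩
    have hcl2 := isClosedImmersion_pullback_arrow π (Subobject.mk I'.subschemeι)
    apply eq_of_ker_eq
    rw [ker_pullback_arrow π (Subobject.mk I'.subschemeι), mk_arrow_eq,
      Scheme.Hom.ker_comp_of_isIso, Scheme.IdealSheafData.ker_subschemeι]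
    -- stability
    let e := Subobject.isoOfEq _ _ hstab
    have H₁ := Subobject.isPullback (pullback.fst π π) Y
    have H₂' := Subobject.isPullback (pullback.snd π π) Y
    have H₂ : IsPullback (e.hom ≫ Subobject.pullbackπ (pullback.snd π π) Y)
        ((Subobject.pullback (pullback.fst π π)).obj Y).arrow Y.arrow (pullback.snd π π) :=
      IsPullback.of_iso H₂' e.symm (Iso.refl _) (Iso.refl _) (Iso.refl _)
        (by simp) (by simp [e]) (by simp) (by simp)
    exact comap_map_eq_of_stable π Y.arrow _ _ _ H₁ H₂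

end subobject

end Groth.Agent.Lib.H69ClosedDesc
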