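import Groth.Agent.Lib.H86CartierChart2
import Groth.Agent.Lib.AlgSpAtPt
import Groth.Prelude.Def_AlgSpModX

/-!
# The ideal sheaf `AlgSp.idealOfRep` of a closed subspace on affine opens of a chart

* `isPullback_ker_chart`: the kernel ideal sheaf of the chosen base change of a closed immersion cuts out the
  base change.
* `idealOfRep_ideal_opensOver`: the value of `idealOfRep` on an affine open `V₀` of a chart `V` is the extension of the
  ideal on `V₀` of the kernel ideal sheaf on `V`.
-/

set_option autoImplicit false
set_option linter.style.haveILetI false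
universe u
open CategoryTheory CategoryTheory.Limits AlgebraicGeometry
open AlgSp

namespace Groth.Agent.Lib.H86CartierChart3

open Groth.Agent.Lib.H86CartierChart Groth.Agent.Lib.AlgSpAtPt

variable {S : Scheme.{u}}

set_option backward.isDefEq.respectTransparency false in
/-- The kernel ideal sheaf of the chosen base change of `i` to a chart cuts out that base change. -/
theorem isPullback_ker_chart {X D : Sp S} (i : D ⟶ X) (hi : RepWith @IsClosedImmersion i) {V : Over S}
    (φ : (yon S).obj V ⟶ X) :
    ∃ fst : (yon S).obj (subOver V (hi.rep.snd φ).left.ker) ⟶ D,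
      IsPullback fst ((yon S).map (subOverι V (hi.rep.snd φ).left.ker)) i φ := by
  have sqZ := hi.rep.isPullback φ
  haveI hc : IsClosedImmersion (hi.rep.snd φ).left := hi.property_snd φ
  set c := (hi.rep.snd φ).left with hcdef
  have hεw : inv c.toImage ≫ (hi.rep.pullback φ).hom = c.ker.subschemeι ≫ V.hom := by
    rw [IsIso.inv_comp_eq, ← Over.w (hi.rep.snd φ), ← hcdef, ← Category.assoc]
    congr 1
    exact c.toImage_imageι.symm
  let ε : subOver V c.ker ⟶ hi.rep.pullback φ := Over.homMk (inv c.toImage) hεw
  haveI : IsIso ε := by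
    haveI : IsIso ((Over.forget S).map ε) := by
      change IsIso (inv c.toImage); infer_instance
    exact isIso_of_reflects_iso ε (Over.forget S)
  have hεc : ε ≫ hi.rep.snd φ = subOverι V c.ker := by
    ext
    change inv c.toImage ≫ c = c.ker.subschemeι
    rw [IsIso.inv_comp_eq]
    exact c.toImage_imageι.symm
  have sq0 : IsPullback ((yon S).map ε) ((yon S).map (subOverι V c.ker))
      ((yon S).map (hi.rep.snd φ)) (𝟙 _) :=
    IsPullback.of_horiz_isIso ⟨by rw [Category.comp_id, ← Functor.map_comp, hεc]⟩
  have sq1 := sq0.paste_horiz sqZ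
  rw [Category.id_comp] at sq1
  exact ⟨(yon S).map ε ≫ hi.rep.fst φ, sq1⟩

set_option backward.isDefEq.respectTransparency false in
/-- The value of `idealOfRep` on an affine object is the ideal of global sections of the kernel ideal sheaf. -/
theorem idealOfRep_ideal {X D : Sp S} (i : D ⟶ X) (hi : RepWith @IsClosedImmersion i) (E : EtOver X)
    (hE : IsAffine E.obj.left.left) :
    (idealOfRep hi.1).ideal E hE =
      ((hi.rep.snd E.obj.hom).left.ker).ideal ⟨⊤, isAffineOpen_top E.obj.left.left⟩ := by
  haveI hc : IsClosedImmersion (hi.rep.snd E.obj.hom).left := hi.property_snd E.obj.hom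
  rw [Scheme.Hom.ker_apply]
  rfl

set_option backward.isDefEq.respectTransparency false in
/-- The kernel ideal sheaf on an open of a chart is the restriction of the kernel ideal sheaf of the chart. -/
theorem ker_opensOver {X D : Sp S} (i : D ⟶ X) (hi : RepWith @IsClosedImmersion i) {V : Over S}
    (φ : (yon S).obj V ⟶ X) (V₀ : V.left.Opens) :
    (hi.rep.snd ((yon S).map (opensOverι V V₀) ≫ φ)).left.ker =
      ((hi.rep.snd φ).left.ker).comap (opensOverι V V₀).left := by
  obtain ⟨fst', sq'⟩ := isPullback_ker_chart i hi ((yon S).map (opensOverι V V₀) ≫ φ)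
  obtain ⟨fst, sq⟩ := isPullback_ker_chart i hi φ
  have := comap_eq_comap i ((yon S).map (opensOverι V V₀) ≫ φ) φ _ _ fst' fst sq' sq
    (𝟙 (opensOver V V₀)) (opensOverι V V₀) (by rw [CategoryTheory.Functor.map_id, Category.id_comp])
  rw [← this]
  exact (Scheme.IdealSheafData.comap_id _).symm

theorem top_le_preimage_opensOverι (V : Over S) (V₀ : V.left.Opens) :
    (⊤ : (opensOver V V₀).left.Opens) ≤ (opensOverι V V₀).left ⁻¹ᵁ V₀ := by
  intro y _
  exact y.2

set_option backward.isDefEq.respectTransparency false in
/-- The value of `idealOfRep` on an affine open `V₀` of a chart `V`. -/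
theorem idealOfRep_ideal_opensOver {X D : Sp S} (i : D ⟶ X) (hi : RepWith @IsClosedImmersion i)
    {V : Over S} (φ : (yon S).obj V ⟶ X) (V₀ : V.left.affineOpens)
    (hae : RepWith @Etale ((yon S).map (opensOverι V V₀.1) ≫ φ))
    (hE : IsAffine (opensOver V V₀.1).left) :
    (idealOfRep hi.1).ideal (EtOver.mk ((yon S).map (opensOverι V V₀.1) ≫ φ) hae) hE =
      Ideal.map ((opensOverι V V₀.1).left.appLE V₀.1 ⊤ (top_le_preimage_opensOverι V V₀.1)).hom
        (((hi.rep.snd φ).left.ker).ideal V₀) := by
  refine (idealOfRep_ideal i hi _ hE).trans ?_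
  change ((hi.rep.snd ((yon S).map (opensOverι V V₀.1) ≫ φ)).left.ker).ideal _ = _
  rw [ker_opensOver i hi φ V₀.1]
  exact Groth.Agent.Lib.IdealComap.ideal_comap _ (opensOverι V V₀.1).left V₀.1 V₀.2 ⊤
    (isAffineOpen_top _) (top_le_preimage_opensOverι V V₀.1)

end Groth.Agent.Lib.H86CartierChart3
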