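import Groth.Agent.Lib.H69ClosedLfp
import Groth.Agent.Lib.H86CartierChart3

/-!
# Closed immersions of algebraic spaces of finite presentation
-/

set_option autoImplicit false
set_option linter.style.haveILetI false
universe u
open CategoryTheory CategoryTheory.Limits AlgebraicGeometry
open AlgSp

namespace Groth.Agent.Lib.H69ClosedLfpSp

open Groth.Agent.Lib.H86CartierChart Groth.Agent.Lib.AlgSpAtPt Groth.Agent.Lib.H86CartierChart3
open Groth.Agent.Lib.H69ClosedLfp

variable {S : Scheme.{u}}

/-- Finite generation descends along a bijective ring hom. -/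
theorem fg_of_map_fg_of_bijective {A B : Type u} [CommRing A] [CommRing B] (f : A →+* B)
    (hf : Function.Bijective f) (I : Ideal A) (h : (I.map f).FG) : I.FG := by
  let e : A ≃+* B := RingEquiv.ofBijective f hf
  have h1 : (Ideal.map (e.symm : B →+* A) (I.map f)).FG := h.map _
  rw [Ideal.map_map] at h1
  have h2 : ((e.symm : B →+* A).comp f) = RingHom.id A := by
    ext a
    exact e.symm_apply_apply a
  rwa [h2, Ideal.map_id] at h1

set_option backward.isDefEq.respectTransparency false in
theorem locP_lfp_iff {Z X : Sp S} (i : Z ⟶ X) (hi : RepWith @IsClosedImmersion i) :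
    LocP @LocallyOfFinitePresentation i ↔
      ∀ (E : EtOver X) (hE : IsAffine E.obj.left.left), ((idealOfRep hi.1).ideal E hE).FG := by
  constructor
  · intro H E hE
    haveI hc : IsClosedImmersion (hi.rep.snd E.obj.hom).left := hi.property_snd E.obj.hom
    have h1 : LocallyOfFinitePresentation (hi.rep.snd E.obj.hom).left :=
      H (hi.rep.fst E.obj.hom) E.obj.hom (hi.rep.snd E.obj.hom) (EtOver.bcObj hi.1 E).property E.property
        (hi.rep.w E.obj.hom)
    rw [idealOfRep_ideal i hi E hE]
    exact (lfp_iff_ker_fg _).1 h1 _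
  · intro H U V a b h ha hb comm
    haveI hc : IsClosedImmersion (hi.rep.snd b).left := hi.property_snd b
    -- the lift
    have hfst : RepWith @Etale (hi.rep.fst b) :=
      MorphismProperty.of_isPullback (hi.rep.isPullback b).flip hb
    let u : U ⟶ hi.rep.pullback b := hi.rep.lift a h comm
    have hu1 : (yon S).map u ≫ hi.rep.fst b = a := hi.rep.lift_fst _ _ _
    have hu2 : u ≫ hi.rep.snd b = h := hi.rep.lift_snd _ _ _
    have huet : Etale u.left :=
      EtOver.etale_left (E := EtOver.mk a ha) (E' := EtOver.mk (hi.rep.fst b) hfst) (EtOver.homMk u hu1)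
    have hsnd : LocallyOfFinitePresentation (hi.rep.snd b).left := by
      rw [lfp_iff_ker_fg]
      intro V₀
      have hae : RepWith @Etale ((yon S).map (opensOverι V V₀.1) ≫ b) :=
        MorphismProperty.comp_mem _ _ _ (repWith_etale_opensOverι V V₀.1) hb
      have hE : IsAffine (opensOver V V₀.1).left := V₀.2
      have h1 := H (EtOver.mk _ hae) hE
      rw [idealOfRep_ideal_opensOver i hi b V₀ hae hE] at h1
      refine fg_of_map_fg_of_bijective _ ?_ _ h1
      have : IsIso ((opensOverι V V₀.1).left.appLE V₀.1 ⊤ (top_le_preimage_opensOverι V V₀.1)) := by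
        change IsIso (V₀.1.ι.appLE V₀.1 ⊤ _)
        infer_instance
      exact (ConcreteCategory.isIso_iff_bijective _).1 this
    rw [← hu2]
    change LocallyOfFinitePresentation (u.left ≫ (hi.rep.snd b).left)
    infer_instance

end Groth.Agent.Lib.H69ClosedLfpSp
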