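import Groth.Agent.Lib.H69ClosedDesc
import Groth.Agent.Lib.SchDense68
import Groth.Agent.Lib.AlgSpQC
import Groth.Agent.Lib.AlgSpBasic
import Groth.Prelude.Def_AlgSpSub

/-!
# Scheme theoretic density and flat base change (helper69)

* `isSchematicallyDense_of_dominant`: a quasi-compact open immersion `U.ι` which is scheme theoretically
  dominant is schematically dense in the Prelude's (strong) sense.
* `isSchematicallyDense_preimage_of_flat`: flat pullback of a schematically dense open with quasi-compact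
  inclusion is schematically dense (no Noetherian hypothesis).
* `isSchematicallyDense_of_preimage`: density descends along flat surjective morphisms.
* `isSchDense_of_isPullback_of_flat` (= S9973).
-/

set_option autoImplicit false
universe u
open CategoryTheory CategoryTheory.Limits AlgebraicGeometry

namespace Groth.Agent.Lib.H69SchDenseFlat

section scheme

variable {X Y : Scheme.{u}}

theorem isSchematicallyDense_of_dominant (U : X.Opens) [IsSchemeTheoreticallyDominant U.ι]
    [QuasiCompact U.ι] : CInt.IsSchematicallyDense U := by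
  intro V
  have h1 : Function.Injective (U.ι.app V) := U.ι.app_injective V
  have hle : U.ι ''ᵁ U.ι ⁻¹ᵁ V ≤ V ⊓ U := by
    rintro _ ⟨x, hx, rfl⟩
    exact ⟨hx, x.2⟩
  have key : ∀ a : Γ(X, V), (U.ι.app V) a =
      (X.presheaf.map (homOfLE hle).op) ((X.presheaf.map (homOfLE (inf_le_left : V ⊓ U ≤ V)).op) a) := by
    intro a
    rw [← CommRingCat.comp_apply, ← Functor.map_comp]
    rfl
  intro a b hab
  apply h1
  exact (key a).trans ((congrArg _ hab).trans (key b).symm)

theorem isSchematicallyDense_preimage_of_flat (f : Y ⟶ X) [Flat f] (U : X.Opens)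
    [QuasiCompact U.ι] (hU : CInt.IsSchematicallyDense U) :
    CInt.IsSchematicallyDense (f ⁻¹ᵁ U) := by
  have h1 : IsSchemeTheoreticallyDominant U.ι :=
    Groth.Agent.Lib.SchDense68.isSchemeTheoreticallyDominant_ι U hU
  have H := isPullback_morphismRestrict f U
  have h2 : IsSchemeTheoreticallyDominant (f ⁻¹ᵁ U).ι :=
    IsSchemeTheoreticallyDominant.of_isPullback H
  have h3 : QuasiCompact (f ⁻¹ᵁ U).ι :=
    MorphismProperty.of_isPullback (P := @QuasiCompact) H inferInstance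
  exact isSchematicallyDense_of_dominant _

end scheme


section algsp

open AlgSp Groth.Agent.Lib.AlgSpQC

variable {S : Scheme.{u}}

/-- S9973: flat pullback of a quasi-compact scheme theoretically dense open subspace. -/
theorem isSchDense_of_isPullback_of_flat {X Y V V' : Sp S} (hX : IsAlgSpace X) (f : X ⟶ Y)
    (hf : LocP @Flat f) (j : V ⟶ Y) (hj : IsSchDense j) (hjq : IsQuasiCompactMor j)
    (fst : V' ⟶ V) (jX : V' ⟶ X) (sq : IsPullback fst jX j f) : IsSchDense jX := by
  obtain ⟨hjO, T₁, φ₁, W₁, fst₁, hφ₁e, hφ₁s, sq₁, hd₁⟩ := hj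
  obtain ⟨A, ψ, hψe, hψs⟩ := hX.atlas
  -- pull back the chart `φ₁` along `h_A ⟶ X ⟶ Y`
  obtain ⟨T₂, q, h', sqT⟩ := hφ₁e.1 (ψ ≫ f)
  obtain ⟨h, rfl⟩ := (yon S).map_surjective h'
  have hqe : Etale q.left := hφ₁e.2 (ψ ≫ f) _ q sqT
  have hqs : Surjective q.left := hφ₁s.2 (ψ ≫ f) _ q sqT
  let φ₂ : (yon S).obj T₂ ⟶ X := (yon S).map q ≫ ψ
  have hφ₂e : RepWith @Etale φ₂ :=
    (RepWith @Etale).comp_mem _ _ ((repWith_yon_map_iff @Etale q).2 hqe) hψe
  have hφ₂s : RepWith @Surjective φ₂ :=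
    (RepWith @Surjective).comp_mem _ _ ((repWith_yon_map_iff @Surjective q).2 hqs) hψs
  have hcomm : φ₂ ≫ f = (yon S).map h ≫ φ₁ := by
    rw [Category.assoc]; exact sqT.w.symm
  have hflat : Flat h.left := hf φ₂ φ₁ h hφ₂e hφ₁e hcomm
  -- quasi-compactness of `W₁ ⟶ T₁`
  have hqc : QuasiCompact W₁.ι :=
    (repWith_quasiCompact_of_isQuasiCompactMor hjO.1 hjq).2 φ₁ fst₁ _ sq₁
  -- the open of the new chart
  let W₂ : T₂.left.Opens := h.left ⁻¹ᵁ W₁
  have H := isPullback_morphismRestrict h.left W₁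
  have hw := isPullback_w_over h _ _ _ H
  have sqA := isPullback_yon_overMk h _ _ _ H hw
  -- paste with the chart square of `j`
  have sqB := sqA.flip.paste_horiz sq₁
  rw [← hcomm] at sqB
  let fst₂ : (yon S).obj (Over.mk (W₂.ι ≫ T₂.hom)) ⟶ V' :=
    sq.lift _ ((yon S).map (Over.homMk W₂.ι rfl : Over.mk (W₂.ι ≫ T₂.hom) ⟶ T₂) ≫ φ₂) sqB.w
  have h1 : fst₂ ≫ fst = _ := sq.lift_fst _ _ _
  have h2 : fst₂ ≫ jX = _ := sq.lift_snd _ _ _
  have sq₂ : IsPullback fst₂ ((yon S).map (Over.homMk W₂.ι rfl : Over.mk (W₂.ι ≫ T₂.hom) ⟶ T₂))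
      jX φ₂ := by
    refine IsPullback.of_right ?_ h2 sq
    rw [h1]; exact sqB
  refine ⟨Groth.Agent.Lib.AlgSpBasic.repWith_snd_of_isPullback _ sq hjO, T₂, φ₂, W₂, fst₂,
    hφ₂e, hφ₂s, sq₂, ?_⟩
  exact isSchematicallyDense_preimage_of_flat h.left W₁ hd₁

end algsp

end Groth.Agent.Lib.H69SchDenseFlat
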