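import Groth.Agent.Lib.H69SchImageImm
import Groth.Agent.Lib.SchDense68

/-!
# helper69: for a quasi-compact open subspace, scheme theoretic density iff the scheme theoretic closure is everything
-/

set_option autoImplicit false
universe u

open CategoryTheory CategoryTheory.Limits AlgebraicGeometry Opposite

namespace Groth.Agent.Lib.H69SchDenseIff

open AlgSp Groth.Agent.Lib.H69AlgSp Groth.Agent.Lib.H69QuotOpen Groth.Agent.Lib.H69SchImage
  Groth.Agent.Lib.H69SchImageQC Groth.Agent.Lib.H69NiceChart Groth.Agent.Lib.H69SchImageImm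

variable {S : Scheme.{u}}

/-- A scheme theoretically dense open subspace has scheme theoretic closure everything. -/
theorem isSchImage_id_of_isSchDense {U X : Sp S} (j : U ⟶ X) (hj : IsSchDense j) : IsSchImage j (𝟙 X) := by
  obtain ⟨hjO, V, φ, W, fst, hφe, hφs, sq, hd⟩ := hj
  refine ⟨(RepWith (S := S) @IsClosedImmersion).id_mem X, ⟨j, Category.comp_id _⟩, ?_⟩
  rintro Z' i' hZ' hi' ⟨f'', hf''⟩
  have hmono' : Mono i' := mono_of_repWith_isClosedImmersion hi'
  obtain ⟨W', w', fstW', sqW'⟩ := hi'.1 φ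
  have hw'C : IsClosedImmersion w'.left := hi'.2 φ fstW' w' sqW'
  have hdom : IsSchemeTheoreticallyDominant W.ι :=
    Groth.Agent.Lib.SchDense68.isSchemeTheoreticallyDominant_ι W hd
  let ιW : Over.mk (W.ι ≫ V.hom) ⟶ V := Over.homMk W.ι rfl
  obtain ⟨l, hl⟩ := (yon S).map_surjective (sqW'.lift (fst ≫ f'') ((yon S).map ιW) (by
    rw [Category.assoc, hf'', sq.w]))
  have hl' : l ≫ w' = ιW := (yon S).map_injective (by rw [Functor.map_comp, hl, sqW'.lift_snd])
  have hker : w'.left.ker ≤ (𝟙 V : V ⟶ V).left.ker := by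
    have h1 : w'.left.ker ≤ ιW.left.ker := by
      rw [← hl', Over.comp_left]
      exact l.left.le_ker_comp w'.left
    have h2 : ιW.left.ker = ⊥ := W.ι.ker_eq_bot
    rw [h2] at h1
    exact h1.trans bot_le
  obtain ⟨m, hm⟩ := (factors_iff_ker_le w' (𝟙 V)).2 hker
  have hloc : Sheaf.IsLocallySurjective φ := isLocallySurjective_of_etale_surjective φ hφe hφs
  exact Groth.Agent.Lib.H69SchImageBC.exists_factor_of_locallySurjective φ (𝟙 X) i' ((yon S).map m ≫ fstW') (by
    rw [Category.assoc, sqW'.w, ← Category.assoc, ← Functor.map_comp, hm, CategoryTheory.Functor.map_id, Category.id_comp,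
      Category.comp_id])

/-- A quasi-compact open subspace whose scheme theoretic closure is everything is scheme theoretically dense. -/
theorem isSchDense_of_isSchImage_id {U X : Sp S} (hX : IsAlgSpace X) (j : U ⟶ X)
    (hj : RepWith @IsOpenImmersion j) (hq : IsQuasiCompactMor j) (h : IsSchImage j (𝟙 X)) : IsSchDense j := by
  obtain ⟨V, p, hpe, hps⟩ := hX.atlas
  obtain ⟨A, a, fstA, sqA⟩ := hj.1 p
  have haO : IsOpenImmersion a.left := hj.2 p fstA a sqA
  have haQ : QuasiCompact a.left :=
    (Groth.Agent.Lib.AlgSpQC.repWith_quasiCompact_of_isQuasiCompactMor hj.1 hq).2 p fstA a sqA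
  have cc := chartCover_of_isPullback sqA
  have sqW : IsPullback p ((yon S).map (𝟙 V)) (𝟙 X) p := by
    rw [CategoryTheory.Functor.map_id]
    exact IsPullback.of_vert_isIso ⟨by simp⟩
  have hker := ker_eq_of_isSchImage hX j (𝟙 X) h p hpe hps fstA a cc (𝟙 V) p sqW
  have hbot : a.left.ker = ⊥ := by
    rw [← hker]
    exact Scheme.Hom.ker_eq_bot_of_isIso _
  exact isSchDense_of_chart j hj p hpe hps a fstA sqA hbot

end Groth.Agent.Lib.H69SchDenseIff
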