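import Groth.Agent.Lib.H69EtaleEpi
import Groth.Agent.Lib.H69SchDenseFlat
import Groth.Agent.Lib.H69SchDenseIff
import Groth.Agent.Lib.AlgSpLocP
import Groth.Agent.Lib.AlgSpFibre
import Groth.Agent.S9972
import Mathlib.CategoryTheory.Sites.RegularEpi

/-!
# helper69: factoring through an fppf covering, given the factorisation over a scheme theoretically dense open

* `exists_desc_of_epi`: an epimorphism of fppf sheaves is the coequalizer of its kernel pair.
* `epi_of_surjective_flat_lfp`: a surjective flat morphism locally of finite presentation of algebraic spaces is an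
  epimorphism of fppf sheaves.
* `exists_factor_of_factor_over_schDense_open` (= S10129).
-/

set_option autoImplicit false
universe u
open CategoryTheory CategoryTheory.Limits AlgebraicGeometry Opposite

namespace Groth.Agent.Lib.H69DenseFactor

open AlgSp Groth.Agent.Lib.H69AlgSp Groth.Agent.Lib.AlgSpLocP

variable {S : Scheme.{u}}

theorem exists_desc_of_epi {X Z Y : Sp S} (g : X ⟶ Z) [Epi g] (f : X ⟶ Y)
    (h : pullback.fst g g ≫ f = pullback.snd g g ≫ f) : ∃ k : Z ⟶ Y, g ≫ k = f := by
  have h1 : IsRegularEpi g := IsRegularEpiCategory.regularEpiOfEpi g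
  have h2 : EffectiveEpi g := inferInstance
  have h3 : ∀ {W : Sp S} (g₁ g₂ : W ⟶ X), g₁ ≫ g = g₂ ≫ g → g₁ ≫ f = g₂ ≫ f := by
    intro W g₁ g₂ hg
    have e1 : g₁ = pullback.lift g₁ g₂ hg ≫ pullback.fst g g := (pullback.lift_fst _ _ _).symm
    have e2 : g₂ = pullback.lift g₁ g₂ hg ≫ pullback.snd g g := (pullback.lift_snd _ _ _).symm
    rw [e1, Category.assoc, h, ← Category.assoc, ← e2]
  exact ⟨EffectiveEpi.desc g f h3, EffectiveEpi.fac g f h3⟩

/-- A surjective flat morphism locally of finite presentation between algebraic spaces is an epimorphism of fppf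
sheaves. -/
theorem epi_of_surjective_flat_lfp {X Z : Sp S} (hX : IsAlgSpace X) (hZ : IsAlgSpace Z) (g : X ⟶ Z)
    (hgs : IsSurjectiveMor g) (hgf : LocP @Flat g) (hgp : LocP @LocallyOfFinitePresentation g) : Epi g := by
  obtain ⟨A, q, hqe, hqs⟩ := hX.atlas
  have hrep : Representable (q ≫ g) := hZ.representable_from_yon (q ≫ g)
  have h1 : RepWith @Flat (q ≫ g) :=
    repWith_of_locP etLocalClass_flat hZ hrep (locP_comp_of_etale _ q hqe g hgf)
  have h2 : RepWith @LocallyOfFinitePresentation (q ≫ g) :=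
    repWith_of_locP etLocalClass_lfp hZ hrep (locP_comp_of_etale _ q hqe g hgp)
  have h3 : RepWith @Surjective (q ≫ g) := by
    refine Groth.Agent.Lib.AlgSpQC.repWith_surjective_of_isSurjectiveMor hrep ?_
    intro x
    obtain ⟨y, hy⟩ := hgs x
    obtain ⟨w, hw⟩ := Groth.Agent.Lib.AlgSpQC.surjective_map_of_repWith_surjective hqs y
    exact ⟨w, by rw [Points.map_comp, hw, hy]⟩
  have h4 := isLocallySurjective_of_repWith (q ≫ g) h1 h2 h3
  have : Epi (q ≫ g) := (Sheaf.isLocallySurjective_iff_epi _).1 h4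
  exact epi_of_epi q g

/-- S10129. -/
theorem exists_factor_of_factor_over_schDense_open (B : Sp S) (hB : IsAlgSpace B)
    (X Y Z : Space S) (pX : X.obj ⟶ B) (pY : Y.obj ⟶ B) (pZ : Z.obj ⟶ B)
    (f : X.obj ⟶ Y.obj) (g : X.obj ⟶ Z.obj) (hf : f ≫ pY = pX) (hg : g ≫ pZ = pX)
    (hY : IsSeparatedMor pY)
    (hgs : IsSurjectiveMor g) (hgf : LocP @Flat g) (hgp : LocP @LocallyOfFinitePresentation g)
    (V : Sp S) (v : V ⟶ Z.obj) (hv : IsSchDense v) (hvq : IsQuasiCompactMor v)
    (hfac : ∃ φ : V ⟶ Y.obj, pullback.fst g v ≫ f = pullback.snd g v ≫ φ) :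
    ∃ h : Z.obj ⟶ Y.obj, g ≫ h = f := by
  obtain ⟨φ, hφ⟩ := hfac
  have hepi : Epi g := epi_of_surjective_flat_lfp X.property Z.property g hgs hgf hgp
  have hR : IsAlgSpace (pullback g g) :=
    Groth.Agent.Lib.AlgSpFibre.isAlgSpace_of_isPullback Z.property.diag X.property X.property
      (IsPullback.of_hasPullback g g)
  have hpr2 : LocP @Flat (pullback.snd g g) :=
    locP_of_isPullback etLocalClass_flat X.property Z.property X.property (IsPullback.of_hasPullback g g) hgf
  have hρ : LocP @Flat (pullback.snd g g ≫ g) :=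
    locP_comp etLocalClass_flat hR X.property Z.property hpr2 hgf
  let j := pullback.fst (pullback.snd g g ≫ g) v
  let u := pullback.snd (pullback.snd g g ≫ g) v
  have hjd : IsSchDense j :=
    Groth.Agent.Lib.H69SchDenseFlat.isSchDense_of_isPullback_of_flat hR (pullback.snd g g ≫ g) hρ v hv hvq u j
      (IsPullback.of_hasPullback (pullback.snd g g ≫ g) v).flip
  have hU : IsAlgSpace (pullback (pullback.snd g g ≫ g) v) :=
    Groth.Agent.Lib.H86Coprod.isAlgSpace_of_representable j hjd.1.1 hR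
  have hc2 : (j ≫ pullback.snd g g) ≫ g = u ≫ v := by
    rw [Category.assoc]; exact pullback.condition
  have hc1 : (j ≫ pullback.fst g g) ≫ g = u ≫ v := by
    rw [Category.assoc, pullback.condition, ← Category.assoc]; exact hc2
  have e1 : j ≫ pullback.fst g g ≫ f = u ≫ φ := by
    have := pullback.lift_fst (j ≫ pullback.fst g g) u hc1
    rw [← Category.assoc, ← this, Category.assoc, hφ, ← Category.assoc, pullback.lift_snd]
  have e2 : j ≫ pullback.snd g g ≫ f = u ≫ φ := by
    have := pullback.lift_fst (j ≫ pullback.snd g g) u hc2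
    rw [← Category.assoc, ← this, Category.assoc, hφ, ← Category.assoc, pullback.lift_snd]
  -- apply S9972
  let Bsp : Space S := ⟨B, hB⟩
  let Rsp : Space S := ⟨pullback g g, hR⟩
  let Usp : Space S := ⟨pullback (pullback.snd g g ≫ g) v, hU⟩
  let q : Y ⟶ Bsp := ObjectProperty.homMk pY
  let f₁ : Rsp ⟶ Y := ObjectProperty.homMk (pullback.fst g g ≫ f)
  let f₂ : Rsp ⟶ Y := ObjectProperty.homMk (pullback.snd g g ≫ f)
  let jsp : Usp ⟶ Rsp := ObjectProperty.homMk j
  have hq12 : f₁ ≫ q = f₂ ≫ q := by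
    apply ObjectProperty.hom_ext
    change (pullback.fst g g ≫ f) ≫ pY = (pullback.snd g g ≫ f) ≫ pY
    rw [Category.assoc, Category.assoc, hf, ← hg, ← Category.assoc, ← Category.assoc, pullback.condition]
  have hj12 : jsp ≫ f₁ = jsp ≫ f₂ := by
    apply ObjectProperty.hom_ext
    change j ≫ pullback.fst g g ≫ f = j ≫ pullback.snd g g ≫ f
    rw [e1, e2]
  have hres := Groth.Agent.S9972.result q hY f₁ f₂ hq12 jsp hjd.1
    (Groth.Agent.Lib.H69SchDenseIff.isSchImage_id_of_isSchDense j hjd) hj12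
  have hfin : pullback.fst g g ≫ f = pullback.snd g g ≫ f := congrArg (fun t => t.hom) hres
  exact exists_desc_of_epi g f hfin

end Groth.Agent.Lib.H69DenseFactor
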