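import Groth.Agent.Lib.H69DescentAffine

/-!
# Effective fppf descent for affine morphisms: general affine objects (helper69)
-/

set_option autoImplicit false
universe u

open CategoryTheory CategoryTheory.Limits AlgebraicGeometry Opposite TensorProduct

namespace Groth.Agent.Lib.H69DescentAffine

open AlgSp Groth.Agent.Lib.H69AlgSp

variable {S : Scheme.{u}}

/-- **Effective fppf descent for affine schemes.** `Z`, `Z'`, `W'` affine schemes over `S`, `p : Z' ⟶ Z` an
fppf cover, `F` an fppf sheaf over `h_Z` with `F ×_{h_Z} h_{Z'} = h_{W'}`. Then `F ≅ h_W` over `h_Z` with `W`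
affine. -/
theorem affine_descent {Z Z' W' : Over S} [IsAffine Z.left] [IsAffine Z'.left] [IsAffine W'.left]
    (p : Z' ⟶ Z) [Flat p.left] [LocallyOfFinitePresentation p.left] [Surjective p.left]
    (w' : W' ⟶ Z') {F : Sp S} (a : F ⟶ (yon S).obj Z) (fst : (yon S).obj W' ⟶ F)
    (sq : IsPullback fst ((yon S).map w') a ((yon S).map p)) :
    ∃ (W : Over S) (i : W ⟶ Z) (e : (yon S).obj W ≅ F), IsAffine W.left ∧
      e.hom ≫ a = (yon S).map i := by
  -- rings
  let A : Type u := Γ(Z.left, ⊤)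
  let A' : Type u := Γ(Z'.left, ⊤)
  let B' : Type u := Γ(W'.left, ⊤)
  letI algAA' : Algebra A A' := p.left.appTop.hom.toAlgebra
  letI algA'B' : Algebra A' B' := w'.left.appTop.hom.toAlgebra
  letI algAB' : Algebra A B' := (w' ≫ p).left.appTop.hom.toAlgebra
  haveI tower : IsScalarTower A A' B' := IsScalarTower.of_algebraMap_eq (fun x => by
    change (w' ≫ p).left.appTop.hom x = w'.left.appTop.hom (p.left.appTop.hom x)
    simp)
  let sZ : Spec (CommRingCat.of A) ⟶ S := Z.left.isoSpec.inv ≫ Z.hom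
  have hAA : CommRingCat.ofHom (algebraMap A A) = 𝟙 (CommRingCat.of A) := rfl
  have hAA' : CommRingCat.ofHom (algebraMap A A') = p.left.appTop := rfl
  have hAB' : CommRingCat.ofHom (algebraMap A B') = (w' ≫ p).left.appTop := rfl
  have hA'B' : CommRingCat.ofHom (algebraMap A' B') = w'.left.appTop := rfl
  let eZ : Z ≅ X sZ A := Over.isoMk Z.left.isoSpec (by
    change Z.left.isoSpec.hom ≫ Spec.map (CommRingCat.ofHom (algebraMap A A)) ≫
      Z.left.isoSpec.inv ≫ Z.hom = Z.hom
    rw [hAA, Spec.map_id]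
    change Z.left.isoSpec.hom ≫ 𝟙 (Spec Γ(Z.left, ⊤)) ≫ Z.left.isoSpec.inv ≫ Z.hom = Z.hom
    rw [Category.id_comp, Iso.hom_inv_id_assoc])
  let eZ' : Z' ≅ X sZ A' := Over.isoMk Z'.left.isoSpec (by
    change Z'.left.isoSpec.hom ≫ Spec.map (CommRingCat.ofHom (algebraMap A A')) ≫
      Z.left.isoSpec.inv ≫ Z.hom = Z'.hom
    rw [hAA', Scheme.isoSpec_hom_naturality_assoc, Iso.hom_inv_id_assoc, Over.w])
  let eW' : W' ≅ X sZ B' := Over.isoMk W'.left.isoSpec (by
    change W'.left.isoSpec.hom ≫ Spec.map (CommRingCat.ofHom (algebraMap A B')) ≫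
      Z.left.isoSpec.inv ≫ Z.hom = W'.hom
    rw [hAB', Scheme.isoSpec_hom_naturality_assoc, Iso.hom_inv_id_assoc, Over.w])
  have hp : eZ'.hom ≫ m sZ (Algebra.ofId A A') = p ≫ eZ.hom := by
    apply Over.OverMorphism.ext
    change Z'.left.isoSpec.hom ≫ Spec.map (CommRingCat.ofHom (algebraMap A A')) =
      p.left ≫ Z.left.isoSpec.hom
    rw [hAA', Scheme.isoSpec_hom_naturality]
  have hw' : eW'.hom ≫ m sZ (IsScalarTower.toAlgHom A A' B') = w' ≫ eZ'.hom := by
    apply Over.OverMorphism.ext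
    change W'.left.isoSpec.hom ≫ Spec.map (CommRingCat.ofHom (algebraMap A' B')) =
      w'.left ≫ Z'.left.isoSpec.hom
    rw [hA'B', Scheme.isoSpec_hom_naturality]
  -- instances
  have hflat : Module.Flat A A' :=
    (HasRingHomProperty.iff_of_isAffine (P := @Flat) (f := p.left)).1 ‹_›
  have hpl : (m sZ (Algebra.ofId A A')).left = eZ'.inv.left ≫ p.left ≫ eZ.hom.left := by
    have : m sZ (Algebra.ofId A A') = eZ'.inv ≫ p ≫ eZ.hom := by
      rw [← hp, Iso.inv_hom_id_assoc]
    rw [this]; rfl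
  have hi1 : IsIso eZ'.inv.left := inferInstanceAs (IsIso ((Over.forget S).map eZ'.inv))
  have hi2 : IsIso eZ.hom.left := inferInstanceAs (IsIso ((Over.forget S).map eZ.hom))
  have hq1 : Flat (m sZ (Algebra.ofId A A')).left := by rw [hpl]; infer_instance
  have hq2 : LocallyOfFinitePresentation (m sZ (Algebra.ofId A A')).left := by rw [hpl]; infer_instance
  have hq3 : Surjective (m sZ (Algebra.ofId A A')).left := by rw [hpl]; infer_instance
  -- transport the square
  have sq' : IsPullback ((yon S).map eW'.inv ≫ fst) ((yon S).map (m sZ (IsScalarTower.toAlgHom A A' B')))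
      (a ≫ (yon S).map eZ.hom) ((yon S).map (m sZ (Algebra.ofId A A'))) := by
    refine IsPullback.of_iso sq ((yon S).mapIso eW') (Iso.refl F) ((yon S).mapIso eZ')
      ((yon S).mapIso eZ) ?_ ?_ ?_ ?_
    · simp only [Iso.refl_hom, Category.comp_id, Functor.mapIso_hom]
      rw [← Category.assoc, ← Functor.map_comp, Iso.hom_inv_id, CategoryTheory.Functor.map_id, Category.id_comp]
    · simp only [Functor.mapIso_hom]
      rw [← Functor.map_comp, ← Functor.map_comp, hw']
    · simp
    · simp only [Functor.mapIso_hom]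
      rw [← Functor.map_comp, ← Functor.map_comp, hp]
  obtain ⟨B, e, he, -⟩ := affine_descent_spec sZ _ _ sq'
  refine ⟨X sZ B, m sZ (Algebra.ofId A B) ≫ eZ.inv, e, ?_, ?_⟩
  · change IsAffine (Spec _)
    infer_instance
  · rw [Functor.map_comp, ← he, Category.assoc, Category.assoc, ← Functor.map_comp, Iso.hom_inv_id,
      CategoryTheory.Functor.map_id, Category.comp_id]

/-- An fppf cover of a quasi-compact scheme is refined by an fppf cover from an affine scheme (a finite
disjoint union of affine opens of the source). -/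
theorem exists_affine_refinement_fppf {X' X : Scheme.{u}} [CompactSpace X] (p : X' ⟶ X) [Flat p]
    [LocallyOfFinitePresentation p] [Surjective p] :
    ∃ (X'' : Scheme.{u}) (_ : IsAffine X'') (q : X'' ⟶ X'), Flat (q ≫ p) ∧
      LocallyOfFinitePresentation (q ≫ p) ∧ Surjective (q ≫ p) := by
  have hopen : IsOpenMap p := p.isOpenMap
  let W : X' → X'.Opens := fun x' => (X'.affineCover.f (X'.affineCover.idx x')).opensRange
  have hW : ∀ x', x' ∈ W x' := fun x' => X'.affineCover.covers x'
  have hWaff : ∀ x', IsAffineOpen (W x') := fun x' => isAffineOpen_opensRange _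
  obtain ⟨t, ht⟩ := isCompact_univ.elim_finite_subcover (fun x' : X' => p '' (W x' : Set X'))
    (fun x' => hopen _ (W x').2) (by
      intro x _
      obtain ⟨x', rfl⟩ := p.surjective x
      exact Set.mem_iUnion.2 ⟨x', ⟨x', hW x', rfl⟩⟩)
  let g : t → Scheme.{u} := fun k => (W k.1 : Scheme.{u})
  have : ∀ k, IsAffine (g k) := fun k => hWaff k.1
  have hq : Etale (Sigma.desc (fun k : t => (W k.1).ι)) :=
    IsZariskiLocalAtSource.sigmaDesc (fun k => inferInstance)
  refine ⟨∐ g, inferInstance, Sigma.desc (fun k => (W k.1).ι), inferInstance, inferInstance, ?_⟩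
  refine ⟨fun x => ?_⟩
  obtain ⟨k, hk⟩ := Set.mem_iUnion.1 (ht (Set.mem_univ x))
  obtain ⟨hk1, x', hx', rfl⟩ := Set.mem_iUnion.1 hk
  refine ⟨(Sigma.ι g ⟨k, hk1⟩) ⟨x', hx'⟩, ?_⟩
  rw [← Scheme.Hom.comp_apply, Sigma.ι_desc_assoc]
  rfl

end Groth.Agent.Lib.H69DescentAffine
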