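import Groth.Agent.Lib.H69DescentAffine2
import Groth.Prelude.Def_AlgSp3

/-!
# Affine morphisms of fppf sheaves descend along fppf covers (helper69)
-/

set_option autoImplicit false
universe u

open CategoryTheory CategoryTheory.Limits AlgebraicGeometry Opposite

namespace Groth.Agent.Lib.H69DescentAffine

open AlgSp Groth.Agent.Lib.H69AlgSp

variable {S : Scheme.{u}}

/-- **Affine morphisms descend along fppf covers (effective descent).** If the base change of `f : F ⟶ G` along
a representable flat, locally finitely presented, surjective `c : h_V ⟶ G` is affine, then `f` is affine. -/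
theorem isAffineMor_of_fppf_cover {F G : Sp S} (f : F ⟶ G) {V : Over S} (c : (yon S).obj V ⟶ G)
    (hc1 : RepWith @Flat c) (hc2 : RepWith @LocallyOfFinitePresentation c) (hc3 : RepWith @Surjective c)
    {P : Sp S} (fst : P ⟶ F) (snd : P ⟶ (yon S).obj V) (sq : IsPullback fst snd f c)
    (h : IsAffineMor snd) : IsAffineMor f := by
  intro Z hZ g
  have hrep : Representable c := hc1.rep
  let Z₁ : Over S := hrep.pullback g
  let c₁ : Z₁ ⟶ Z := hrep.snd g
  let g₁ : (yon S).obj Z₁ ⟶ (yon S).obj V := hrep.fst g
  have sq₁ : IsPullback g₁ ((yon S).map c₁) c g := hrep.isPullback g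
  have hc₁1 : Flat c₁.left := hc1.property_snd g
  have hc₁2 : LocallyOfFinitePresentation c₁.left := hc2.property_snd g
  have hc₁3 : Surjective c₁.left := hc3.property_snd g
  haveI : IsAffine Z.left := hZ
  obtain ⟨Z'', hZ'', q, hq1, hq2, hq3⟩ := exists_affine_refinement_fppf c₁.left
  let Z' : Over S := Over.mk (q ≫ Z₁.hom)
  let qO : Z' ⟶ Z₁ := Over.homMk q rfl
  let p : Z' ⟶ Z := qO ≫ c₁
  have hp1 : Flat p.left := hq1
  have hp2 : LocallyOfFinitePresentation p.left := hq2
  have hp3 : Surjective p.left := hq3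
  haveI : IsAffine Z'.left := hZ''
  obtain ⟨W', i', fst', sq', hW'⟩ := h (Z := Z') hZ'' ((yon S).map qO ≫ g₁)
  haveI : IsAffine W'.left := hW'
  have hg' : ((yon S).map qO ≫ g₁) ≫ c = (yon S).map p ≫ g := by
    rw [Category.assoc, sq₁.w, ← Category.assoc, ← Functor.map_comp]
  have outer : IsPullback (fst' ≫ fst) ((yon S).map i') f ((yon S).map p ≫ g) := by
    rw [← hg']
    exact sq'.paste_horiz sq
  let k : (yon S).obj W' ⟶ pullback f g := pullback.lift (fst' ≫ fst) ((yon S).map i' ≫ (yon S).map p)
    (by rw [outer.w, Category.assoc])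
  have hk1 : k ≫ pullback.fst f g = fst' ≫ fst := pullback.lift_fst _ _ _
  have hk2 : k ≫ pullback.snd f g = (yon S).map i' ≫ (yon S).map p := pullback.lift_snd _ _ _
  have left : IsPullback k ((yon S).map i') (pullback.snd f g) ((yon S).map p) := by
    refine IsPullback.of_right ?_ hk2 (IsPullback.of_hasPullback f g)
    rw [hk1]
    exact outer
  obtain ⟨W, i, e, hW, he⟩ := affine_descent p i' (pullback.snd f g) k left
  refine ⟨W, i, e.hom ≫ pullback.fst f g, ?_, hW⟩
  refine IsPullback.of_iso (IsPullback.of_hasPullback f g) e.symm (Iso.refl _) (Iso.refl _) (Iso.refl _)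
    ?_ ?_ ?_ ?_
  · simp
  · simp [← he]
  · simp
  · simp

end Groth.Agent.Lib.H69DescentAffine
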