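import Groth.Agent.Lib.H69DescentAffine2
import Groth.Agent.Lib.AlgSpFpqcIso
import Mathlib.AlgebraicGeometry.Sites.Fpqc
import Mathlib.CategoryTheory.Sites.RegularEpi

/-!
# helper69: effective fpqc descent for affine morphisms of algebraic spaces

For fppf sheaves only fppf descent is available; for an algebraic space `F` one can compare `F` with the
descended affine scheme through an etale atlas (schemes are fpqc sheaves) and conclude with helper91's fpqc
descent of isomorphisms of algebraic spaces.
-/

set_option autoImplicit false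
universe u

open CategoryTheory CategoryTheory.Limits AlgebraicGeometry Opposite TensorProduct

namespace Groth.Agent.Lib.H69DescentFpqc

open AlgSp Groth.Agent.Lib.H69AlgSp Groth.Agent.Lib.H69DescentAffine Groth.Agent.Lib.H69DescentAlg

variable {S : Scheme.{u}}

section Tools

/-- Descent of a map along a surjection of sheaves with representable kernel pair. -/
theorem exists_desc_of_kernelPair {F G : Sp S} {U R : Over S} (u : (yon S).obj U ⟶ F)
    [Sheaf.IsLocallySurjective u] (s t : R ⟶ U)
    (hker : IsPullback ((yon S).map t) ((yon S).map s) u u) (x : (yon S).obj U ⟶ G)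
    (hx : (yon S).map s ≫ x = (yon S).map t ≫ x) : ∃ ψ : F ⟶ G, u ≫ ψ = x := by
  have : Epi u := inferInstance
  have : IsRegularEpi u := IsRegularEpiCategory.regularEpiOfEpi u
  have : EffectiveEpi u := inferInstance
  have hd : ∀ {Z : Sp S} (g₁ g₂ : Z ⟶ (yon S).obj U), g₁ ≫ u = g₂ ≫ u → g₁ ≫ x = g₂ ≫ x := by
    intro Z g₁ g₂ h
    have e1 : hker.lift g₁ g₂ h ≫ (yon S).map t = g₁ := hker.lift_fst _ _ _
    have e2 : hker.lift g₁ g₂ h ≫ (yon S).map s = g₂ := hker.lift_snd _ _ _
    calc g₁ ≫ x = (hker.lift g₁ g₂ h ≫ (yon S).map t) ≫ x := by rw [e1]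
      _ = (hker.lift g₁ g₂ h ≫ (yon S).map s) ≫ x := by rw [Category.assoc, Category.assoc, hx]
      _ = g₂ ≫ x := by rw [e2]
  exact ⟨EffectiveEpi.desc u x hd, EffectiveEpi.fac u x hd⟩

/-- An fpqc morphism over `S` is an epimorphism in `Over S`. -/
theorem epi_of_fpqc {U V : Over S} (q : V ⟶ U) [Flat q.left] [Surjective q.left] [QuasiCompact q.left] :
    Epi q := by
  have : Epi q.left := inferInstance
  exact (Over.forget S).epi_of_epi_map this

/-- Descent of morphisms of schemes over `S` along an fpqc morphism. -/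
theorem exists_desc_of_fpqc {U V M : Over S} (q : V ⟶ U) [Flat q.left] [Surjective q.left]
    [QuasiCompact q.left] (x : V ⟶ M)
    (hx : ∀ (T : Over S) (t₁ t₂ : T ⟶ V), t₁ ≫ q = t₂ ≫ q → t₁ ≫ x = t₂ ≫ x) :
    ∃ ψ : U ⟶ M, q ≫ ψ = x := by
  have hq : ∀ {Z : Scheme.{u}} (g₁ g₂ : Z ⟶ V.left), g₁ ≫ q.left = g₂ ≫ q.left →
      g₁ ≫ x.left = g₂ ≫ x.left := by
    intro Z g₁ g₂ h
    let Zo : Over S := Over.mk (g₁ ≫ V.hom)
    let g₁o : Zo ⟶ V := Over.homMk g₁ rfl
    let g₂o : Zo ⟶ V := Over.homMk g₂ (by
      change g₂ ≫ V.hom = g₁ ≫ V.hom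
      rw [← Over.w q, ← Category.assoc, ← Category.assoc, h])
    have := hx Zo g₁o g₂o (Over.OverMorphism.ext h)
    exact congrArg (fun k => k.left) this
  have hfac : q.left ≫ EffectiveEpi.desc q.left x.left hq = x.left := EffectiveEpi.fac _ _ _
  refine ⟨Over.homMk (EffectiveEpi.desc q.left x.left hq) ?_, Over.OverMorphism.ext hfac⟩
  rw [← cancel_epi q.left, ← Category.assoc, hfac, Over.w x, Over.w q]

end Tools

section Core

variable {A A' B' : Type u} [CommRing A] [CommRing A'] [CommRing B'] [Algebra A A'] [Algebra A' B']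
  [Algebra A B'] [IsScalarTower A A' B'] (sZ : Spec (CommRingCat.of A) ⟶ S)

variable {F : Sp S} (a : F ⟶ (yon S).obj (X sZ A)) (fst : (yon S).obj (X sZ B') ⟶ F)

/-- `Spec` of a flat ring map is flat. -/
theorem flat_m_ofId [Module.Flat A A'] : Flat (m sZ (Algebra.ofId A A')).left := by
  change Flat (Spec.map (CommRingCat.ofHom (algebraMap A A')))
  rw [HasRingHomProperty.Spec_iff (P := @Flat)]
  change (algebraMap A A').Flat
  rw [RingHom.flat_algebraMap_iff]
  infer_instance

instance isAffineHom_m {R R' : Type u} [CommRing R] [CommRing R'] [Algebra A R] [Algebra A R']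
    (g : R →ₐ[A] R') : IsAffineHom (m sZ g).left := by
  change IsAffineHom (Spec.map (CommRingCat.ofHom g.toRingHom))
  infer_instance

/-- **Effective fpqc descent for affine schemes over an algebraic space, `Spec` form.** Let `A → A'` be
faithfully flat, `F` an algebraic space over `h_{Spec A}` whose base change to `h_{Spec A'}` is `h_{Spec B'}`.
Then `F ≅ h_{Spec B}` over `h_{Spec A}` for an `A`-subalgebra `B` of `B'`. -/
theorem affine_descent_spec_fpqc [Module.Flat A A'] [Surjective (m sZ (Algebra.ofId A A')).left]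
    (hF : IsAlgSpace F)
    (sq : IsPullback fst ((yon S).map (m sZ (IsScalarTower.toAlgHom A A' B'))) a
      ((yon S).map (m sZ (Algebra.ofId A A')))) :
    ∃ (B : Subalgebra A B') (e : (yon S).obj (X sZ B) ≅ F),
      e.hom ≫ a = (yon S).map (m sZ (Algebra.ofId A B)) ∧
      (yon S).map (m sZ B.val) ≫ e.hom = fst := by
  have hcflat : Flat (m sZ (Algebra.ofId A A')).left := flat_m_ofId sZ
  obtain ⟨ρ, hρ1, hρ2⟩ := exists_coaction sZ a fst sq
  obtain ⟨h1, h2, h3⟩ := coaction_props sZ a fst sq ρ hρ1 hρ2
  let B : Subalgebra A B' := descAlg ρ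
  have hpo : Algebra.IsPushout A A' B B' := isPushout_descAlg ρ h1 h2 h3
  have sq3 := isPullback_m_of_isPushout sZ A' B B'
  have sq1 := isPullback_m_tensor sZ A' B'
  have hval : IsScalarTower.toAlgHom A B B' = B.val := by ext b; rfl
  rw [hval] at sq3
  -- `Spec B' ⟶ Spec B` is an fpqc cover
  have sqL := sq3.map (Over.forget S)
  have hq1 : Flat (m sZ B.val).left := MorphismProperty.of_isPullback (P := @Flat) sqL ‹_›
  have hq3 : Surjective (m sZ B.val).left := MorphismProperty.of_isPullback (P := @Surjective) sqL ‹_›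
  have hq : m sZ ρ ≫ m sZ B.val =
      m sZ (Algebra.TensorProduct.includeRight : B' →ₐ[A] A' ⊗[A] B') ≫ m sZ B.val := by
    rw [← m_comp, ← m_comp]
    congr 1
    ext b
    exact b.2
  have hwp : m sZ (IsScalarTower.toAlgHom A A' B') ≫ m sZ (Algebra.ofId A A') =
      m sZ (Algebra.ofId A B') := by
    rw [← m_comp]; exact congrArg (m sZ) (Subsingleton.elim _ _)
  have hwB : m sZ B.val ≫ m sZ (Algebra.ofId A B) = m sZ (Algebra.ofId A B') := by
    rw [← m_comp]; exact congrArg (m sZ) (Subsingleton.elim _ _)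
  -- key: two points of `Spec B'` with the same image in `F` have the same image in `Spec B`
  have key : ∀ (T : Over S) (t₁ t₂ : T ⟶ X sZ B'), (yon S).map t₁ ≫ fst = (yon S).map t₂ ≫ fst →
      t₁ ≫ m sZ B.val = t₂ ≫ m sZ B.val := by
    intro T t₁ t₂ h
    have hc : (t₁ ≫ m sZ (IsScalarTower.toAlgHom A A' B')) ≫ m sZ (Algebra.ofId A A') =
        t₂ ≫ m sZ (Algebra.ofId A B') := by
      apply (yon S).map_injective
      rw [Category.assoc, hwp, ← hwp, Functor.map_comp, Functor.map_comp, Functor.map_comp,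
        Functor.map_comp, ← sq.w, ← Category.assoc, ← Category.assoc, h]
    let l := sq1.lift _ _ hc
    have hl : l ≫ m sZ ρ = t₁ := by
      apply hom_ext_yon_pullback sq
      · rw [Functor.map_comp, Category.assoc, hρ1, ← Category.assoc, ← Functor.map_comp, sq1.lift_snd, h]
      · have : m sZ ρ ≫ m sZ (IsScalarTower.toAlgHom A A' B') =
            m sZ (Algebra.TensorProduct.includeLeft : A' →ₐ[A] A' ⊗[A] B') := by
          rw [← m_comp, hρ2]
        rw [← Functor.map_comp, ← Functor.map_comp, Category.assoc, this, sq1.lift_fst]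
    rw [← hl, Category.assoc, hq, ← Category.assoc, sq1.lift_snd]
  -- an atlas of `F` and its kernel pair
  obtain ⟨U, u, hue, hus⟩ := hF.atlas
  have hu : Sheaf.IsLocallySurjective u := isLocallySurjective_of_etale_surjective u hue hus
  let R : Over S := hue.rep.pullback u
  let s : R ⟶ U := hue.rep.snd u
  let t : R ⟶ U := (yon S).preimage (hue.rep.fst u)
  have hker : IsPullback ((yon S).map t) ((yon S).map s) u u := by
    have := hue.rep.isPullback u
    rwa [← (yon S).map_preimage (hue.rep.fst u)] at this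
  -- the base change of the atlas
  let uA : U ⟶ X sZ A := (yon S).preimage (u ≫ a)
  have huA : (yon S).map uA = u ≫ a := (yon S).map_preimage _
  let q := pullback.fst uA (m sZ (Algebra.ofId A A'))
  let r := pullback.snd uA (m sZ (Algebra.ofId A A'))
  have hqr : q ≫ uA = r ≫ m sZ (Algebra.ofId A A') := pullback.condition
  have sqU : IsPullback q r uA (m sZ (Algebra.ofId A A')) := IsPullback.of_hasPullback _ _
  have sqUL := sqU.flip.map (Over.forget S)
  have hqf : Flat q.left := MorphismProperty.of_isPullback (P := @Flat) sqUL ‹_›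
  have hqs : Surjective q.left := MorphismProperty.of_isPullback (P := @Surjective) sqUL ‹_›
  have hqa : IsAffineHom q.left :=
    MorphismProperty.of_isPullback (P := @IsAffineHom) sqUL (isAffineHom_m sZ _)
  have hqc : QuasiCompact q.left := inferInstance
  obtain ⟨v, hv1, hv2⟩ := exists_lift_yon sq ((yon S).map q ≫ u) ((yon S).map r) (by
    rw [Category.assoc, ← huA, ← Functor.map_comp, ← Functor.map_comp, hqr])
  have hv2' : v ≫ m sZ (IsScalarTower.toAlgHom A A' B') = r := by
    apply (yon S).map_injective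
    rw [Functor.map_comp, hv2]
  -- descend `U' ⟶ Spec B' ⟶ Spec B` to `U`
  obtain ⟨φU, hφU⟩ := exists_desc_of_fpqc q (v ≫ m sZ B.val) (by
    intro T x₁ x₂ hx
    rw [← Category.assoc, ← Category.assoc]
    apply key
    rw [Functor.map_comp, Functor.map_comp, Category.assoc, Category.assoc, hv1, ← Category.assoc,
      ← Category.assoc, ← Functor.map_comp, ← Functor.map_comp, hx])
  -- `φU` equalizes the kernel pair
  have hst : s ≫ φU = t ≫ φU := by
    have huAst : s ≫ uA = t ≫ uA := by
      apply (yon S).map_injective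
      rw [Functor.map_comp, Functor.map_comp, huA, ← Category.assoc, ← Category.assoc, hker.w]
    let qR := pullback.fst s q
    let pr := pullback.snd s q
    have hpr : qR ≫ s = pr ≫ q := pullback.condition
    have sqR : IsPullback qR pr s q := IsPullback.of_hasPullback _ _
    have sqRL := sqR.flip.map (Over.forget S)
    have : Flat qR.left := MorphismProperty.of_isPullback (P := @Flat) sqRL ‹_›
    have : Surjective qR.left := MorphismProperty.of_isPullback (P := @Surjective) sqRL ‹_›
    have : QuasiCompact qR.left := MorphismProperty.of_isPullback (P := @QuasiCompact) sqRL ‹_›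
    have hepi : Epi qR := epi_of_fpqc qR
    let tt : pullback s q ⟶ pullback uA (m sZ (Algebra.ofId A A')) :=
      pullback.lift (qR ≫ t) (pr ≫ r) (by
        rw [Category.assoc, ← huAst, ← Category.assoc, hpr, Category.assoc, hqr, Category.assoc])
    have htt1 : tt ≫ q = qR ≫ t := pullback.lift_fst _ _ _
    have htt2 : tt ≫ r = pr ≫ r := pullback.lift_snd _ _ _
    have hprv : pr ≫ v = tt ≫ v := by
      apply hom_ext_yon_pullback sq
      · rw [Functor.map_comp, Functor.map_comp, Category.assoc, Category.assoc, hv1, ← Category.assoc,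
          ← Category.assoc, ← Functor.map_comp, ← Functor.map_comp, ← hpr, htt1, Functor.map_comp,
          Functor.map_comp, Category.assoc, Category.assoc, hker.w]
      · rw [Functor.map_comp, Functor.map_comp, Category.assoc, Category.assoc, hv2, ← Functor.map_comp,
          ← Functor.map_comp, htt2]
    rw [← cancel_epi qR, ← Category.assoc, hpr, Category.assoc, hφU, ← Category.assoc, hprv,
      Category.assoc, ← hφU, ← Category.assoc, htt1, Category.assoc]
  -- the comparison map
  obtain ⟨ψ, hψ⟩ := exists_desc_of_kernelPair u s t hker ((yon S).map φU) (by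
    rw [← Functor.map_comp, ← Functor.map_comp, hst])
  have hepiq : Epi q := epi_of_fpqc q
  have hφA : φU ≫ m sZ (Algebra.ofId A B) = uA := by
    rw [← cancel_epi q, ← Category.assoc, hφU, Category.assoc, hwB, ← hwp, ← Category.assoc, hv2', hqr]
  have hepiu : Epi u := inferInstance
  have hψa : ψ ≫ (yon S).map (m sZ (Algebra.ofId A B)) = a := by
    rw [← cancel_epi u, ← Category.assoc, hψ, ← Functor.map_comp, hφA, huA]
  -- `h_{U'} = h_U ×_F h_{Spec B'}`
  have sqUy : IsPullback ((yon S).map r) ((yon S).map q) ((yon S).map (m sZ (Algebra.ofId A A')))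
      ((yon S).map uA) := sqU.flip.map (yon S)
  rw [← hv2, huA] at sqUy
  have sqV : IsPullback ((yon S).map v) ((yon S).map q) fst u := IsPullback.of_right sqUy hv1 sq.flip
  have hvs : Sheaf.IsLocallySurjective ((yon S).map v) :=
    Groth.Agent.Lib.SheafEpi.isLocallySurjective_of_isPullback _ sqV
  have hepiv : Epi ((yon S).map v) := inferInstance
  have hfψ : fst ≫ ψ = (yon S).map (m sZ B.val) := by
    rw [← cancel_epi ((yon S).map v), ← Category.assoc, hv1, Category.assoc, hψ, ← Functor.map_comp,
      ← Functor.map_comp, hφU]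
  -- the base change of `ψ` along `Spec B' ⟶ Spec B` is the identity
  have sq3y : IsPullback ((yon S).map (m sZ B.val)) ((yon S).map (m sZ (IsScalarTower.toAlgHom A A' B')))
      ((yon S).map (m sZ (Algebra.ofId A B))) ((yon S).map (m sZ (Algebra.ofId A A'))) :=
    sq3.flip.map (yon S)
  have sqψ : IsPullback fst (𝟙 ((yon S).obj (X sZ B'))) ψ ((yon S).map (m sZ B.val)) := by
    refine IsPullback.of_bot ?_ (by rw [hfψ, Category.id_comp]) sq3y
    rw [Category.id_comp, hψa]
    exact sq
  -- the single family `Spec B' ⟶ Spec B` has the fpqc refinement property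
  have hg : Groth.Agent.Lib.AlgSpFpqc.HasFpqcRefinement (ι := PUnit.{u + 1})
      (fun _ => (yon S).obj (X sZ B')) (fun _ => (yon S).map (m sZ B.val)) := by
    intro Z hZ h
    let τ : Z ⟶ X sZ B := (yon S).preimage h
    have hτ : (yon S).map τ = h := (yon S).map_preimage _
    have sqW : IsPullback (pullback.fst τ (m sZ B.val)) (pullback.snd τ (m sZ B.val)) τ (m sZ B.val) :=
      IsPullback.of_hasPullback _ _
    have sqWL := sqW.flip.map (Over.forget S)
    have hWaff : IsAffine (pullback τ (m sZ B.val)).left := by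
      have h1 : IsAffine Z.left := hZ
      have h2 : IsAffine (X sZ B').left := inferInstanceAs (IsAffine (Spec _))
      have h3 : IsAffine (X sZ B).left := inferInstanceAs (IsAffine (Spec _))
      have e := (sqW.map (Over.forget S)).isoPullback
      have h4 : IsAffine (pullback ((Over.forget S).map τ) ((Over.forget S).map (m sZ B.val))) := by
        change IsAffine (pullback τ.left (m sZ B.val).left)
        infer_instance
      exact IsAffine.of_isIso e.hom
    refine ⟨1, fun _ => pullback τ (m sZ B.val), fun _ => pullback.fst τ (m sZ B.val), fun _ => hWaff,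
      fun _ => MorphismProperty.of_isPullback (P := @Flat) sqWL hq1, fun z => ⟨0, ?_⟩,
      fun _ => ⟨PUnit.unit, (yon S).map (pullback.snd τ (m sZ B.val)), ?_⟩⟩
    · have : Surjective (pullback.fst τ (m sZ B.val)).left :=
        MorphismProperty.of_isPullback (P := @Surjective) sqWL hq3
      exact (pullback.fst τ (m sZ B.val)).left.surjective z
    · rw [← hτ, ← Functor.map_comp, ← Functor.map_comp, pullback.condition]
  have hiso : IsIso ψ :=
    Groth.Agent.Lib.AlgSpFpqc.isIso_of_hasFpqcRefinement (ι := PUnit.{u + 1}) hF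
      (IsAlgSpace.yon_obj (X sZ B)).diag hg (Xi := fun _ => (yon S).obj (X sZ B'))
      (p := fun _ => 𝟙 _) (q := fun _ => fst) (fun _ => sqψ) (fun _ => inferInstance)
  refine ⟨B, (asIso ψ).symm, ?_, ?_⟩
  · change inv ψ ≫ a = _
    rw [IsIso.inv_comp_eq, hψa]
  · change _ ≫ inv ψ = fst
    rw [IsIso.comp_inv_eq, hfψ]

end Core

section General

/-- **Effective fpqc descent for affine schemes over algebraic spaces.** `Z`, `Z'`, `W'` affine schemes over
`S`, `p : Z' ⟶ Z` flat and surjective, `F` an algebraic space over `h_Z` with `F ×_{h_Z} h_{Z'} = h_{W'}`. Then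
`F ≅ h_W` over `h_Z` with `W` affine. -/
theorem affine_descent_fpqc {Z Z' W' : Over S} [IsAffine Z.left] [IsAffine Z'.left] [IsAffine W'.left]
    (p : Z' ⟶ Z) [Flat p.left] [Surjective p.left]
    (w' : W' ⟶ Z') {F : Sp S} (hF : IsAlgSpace F) (a : F ⟶ (yon S).obj Z) (fst : (yon S).obj W' ⟶ F)
    (sq : IsPullback fst ((yon S).map w') a ((yon S).map p)) :
    ∃ (W : Over S) (i : W ⟶ Z) (e : (yon S).obj W ≅ F), IsAffine W.left ∧
      e.hom ≫ a = (yon S).map i := by
  -- rings
  let A : Type u := Γ(Z.left, ⊤)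
  let A' : Type u := Γ(Z'.left, ⊤)
  let B' : Type u := Γ(W'.left, ⊤)
  letI algAA' : Algebra A A' := p.left.appTop.hom.toAlgebra
  letI algA'B' : Algebra A' B' := w'.left.appTop.hom.toAlgebra
  letI algAB' : Algebra A B' := (w' ≫ p).left.appTop.hom.toAlgebra
  haveI tower : IsScalarTower A A' B' := IsScalarTower.of_algebraMap_eq (fun x => by
    change (w' ≫ p).left.appTop.hom x = w'.left.appTop.hom (p.left.appTop.hom x)
    simp)
  let sZ : Spec (CommRingCat.of A) ⟶ S := Z.left.isoSpec.inv ≫ Z.hom
  have hAA : CommRingCat.ofHom (algebraMap A A) = 𝟙 (CommRingCat.of A) := rfl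
  have hAA' : CommRingCat.ofHom (algebraMap A A') = p.left.appTop := rfl
  have hAB' : CommRingCat.ofHom (algebraMap A B') = (w' ≫ p).left.appTop := rfl
  have hA'B' : CommRingCat.ofHom (algebraMap A' B') = w'.left.appTop := rfl
  let eZ : Z ≅ X sZ A := Over.isoMk Z.left.isoSpec (by
    change Z.left.isoSpec.hom ≫ Spec.map (CommRingCat.ofHom (algebraMap A A)) ≫
      Z.left.isoSpec.inv ≫ Z.hom = Z.hom
    rw [hAA, Spec.map_id]
    change Z.left.isoSpec.hom ≫ 𝟙 (Spec Γ(Z.left, ⊤)) ≫ Z.left.isoSpec.inv ≫ Z.hom = Z.hom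
    rw [Category.id_comp, Iso.hom_inv_id_assoc])
  let eZ' : Z' ≅ X sZ A' := Over.isoMk Z'.left.isoSpec (by
    change Z'.left.isoSpec.hom ≫ Spec.map (CommRingCat.ofHom (algebraMap A A')) ≫
      Z.left.isoSpec.inv ≫ Z.hom = Z'.hom
    rw [hAA', Scheme.isoSpec_hom_naturality_assoc, Iso.hom_inv_id_assoc, Over.w])
  let eW' : W' ≅ X sZ B' := Over.isoMk W'.left.isoSpec (by
    change W'.left.isoSpec.hom ≫ Spec.map (CommRingCat.ofHom (algebraMap A B')) ≫
      Z.left.isoSpec.inv ≫ Z.hom = W'.hom
    rw [hAB', Scheme.isoSpec_hom_naturality_assoc, Iso.hom_inv_id_assoc, Over.w])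
  have hp : eZ'.hom ≫ m sZ (Algebra.ofId A A') = p ≫ eZ.hom := by
    apply Over.OverMorphism.ext
    change Z'.left.isoSpec.hom ≫ Spec.map (CommRingCat.ofHom (algebraMap A A')) =
      p.left ≫ Z.left.isoSpec.hom
    rw [hAA', Scheme.isoSpec_hom_naturality]
  have hw' : eW'.hom ≫ m sZ (IsScalarTower.toAlgHom A A' B') = w' ≫ eZ'.hom := by
    apply Over.OverMorphism.ext
    change W'.left.isoSpec.hom ≫ Spec.map (CommRingCat.ofHom (algebraMap A' B')) =
      w'.left ≫ Z'.left.isoSpec.hom
    rw [hA'B', Scheme.isoSpec_hom_naturality]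
  -- instances
  have hflat : Module.Flat A A' :=
    (HasRingHomProperty.iff_of_isAffine (P := @Flat) (f := p.left)).1 ‹_›
  have hpl : (m sZ (Algebra.ofId A A')).left = eZ'.inv.left ≫ p.left ≫ eZ.hom.left := by
    have : m sZ (Algebra.ofId A A') = eZ'.inv ≫ p ≫ eZ.hom := by
      rw [← hp, Iso.inv_hom_id_assoc]
    rw [this]; rfl
  have hi1 : IsIso eZ'.inv.left := inferInstanceAs (IsIso ((Over.forget S).map eZ'.inv))
  have hi2 : IsIso eZ.hom.left := inferInstanceAs (IsIso ((Over.forget S).map eZ.hom))
  have hq1 : Flat (m sZ (Algebra.ofId A A')).left := by rw [hpl]; infer_instance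
  have hq3 : Surjective (m sZ (Algebra.ofId A A')).left := by rw [hpl]; infer_instance
  -- transport the square
  have sq' : IsPullback ((yon S).map eW'.inv ≫ fst) ((yon S).map (m sZ (IsScalarTower.toAlgHom A A' B')))
      (a ≫ (yon S).map eZ.hom) ((yon S).map (m sZ (Algebra.ofId A A'))) := by
    refine IsPullback.of_iso sq ((yon S).mapIso eW') (Iso.refl F) ((yon S).mapIso eZ')
      ((yon S).mapIso eZ) ?_ ?_ ?_ ?_
    · simp only [Iso.refl_hom, Category.comp_id, Functor.mapIso_hom]
      rw [← Category.assoc, ← Functor.map_comp, Iso.hom_inv_id, CategoryTheory.Functor.map_id, Category.id_comp]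
    · simp only [Functor.mapIso_hom]
      rw [← Functor.map_comp, ← Functor.map_comp, hw']
    · simp
    · simp only [Functor.mapIso_hom]
      rw [← Functor.map_comp, ← Functor.map_comp, hp]
  obtain ⟨B, e, he, -⟩ := affine_descent_spec_fpqc sZ _ _ hF sq'
  refine ⟨X sZ B, m sZ (Algebra.ofId A B) ≫ eZ.inv, e, ?_, ?_⟩
  · change IsAffine (Spec _)
    infer_instance
  · rw [Functor.map_comp, ← he, Category.assoc, Category.assoc, ← Functor.map_comp, Iso.hom_inv_id,
      CategoryTheory.Functor.map_id, Category.comp_id]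

end General

end Groth.Agent.Lib.H69DescentFpqc
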