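import Groth.Agent.Lib.H86ZarLocBase
import Groth.Agent.Lib.H69AlgSp

/-!
# Open covers of a scheme as Zariski coverings of its sheaf; `IsAffineMor` over a scheme Zariski-locally (helper69)
-/

set_option autoImplicit false
universe u

open CategoryTheory CategoryTheory.Limits AlgebraicGeometry Opposite

namespace Groth.Agent.Lib.H69ZarCover

open AlgSp Groth.Agent.Lib.H69AlgSp

variable {S : Scheme.{u}}

/-- The members of an open cover of `U.left`, as schemes over `S`. -/
noncomputable abbrev coverObj (U : Over S) (𝒰 : U.left.OpenCover) (j : 𝒰.I₀) : Over S :=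
  Over.mk (𝒰.f j ≫ U.hom)

/-- The inclusions of the members of an open cover, over `S`. -/
noncomputable abbrev coverMap (U : Over S) (𝒰 : U.left.OpenCover) (j : 𝒰.I₀) : coverObj U 𝒰 j ⟶ U :=
  Over.homMk (𝒰.f j) rfl

/-- An open cover of the scheme `U` gives a Zariski covering of the sheaf `h_U`. -/
theorem isZarCover_of_openCover (U : Over S) (𝒰 : Scheme.OpenCover.{u} U.left) :
    IsZarCover (fun j : 𝒰.I₀ => (yon S).obj (coverObj U 𝒰 j))
      (fun j => (yon S).map (coverMap U 𝒰 j)) := by
  refine ⟨fun j => ?_, fun x => ?_⟩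
  · exact (repWith_yon_map_iff @IsOpenImmersion (coverMap U 𝒰 j)).2
      (inferInstanceAs (IsOpenImmersion (𝒰.f j)))
  · obtain ⟨y, hy⟩ := 𝒰.covers (Points.toScheme U x)
    refine ⟨𝒰.idx (Points.toScheme U x), Points.ofScheme (coverObj U 𝒰 _) y, ?_⟩
    rw [← Points.ofPt_eq_map_ofScheme, Groth.Agent.Lib.H86AlgSpPoints.ofPt_yon_map]
    change Points.ofScheme U ((𝒰.f _) y) = x
    rw [hy, Points.ofScheme_toScheme]

/-- `RepWith Q` for a morphism to `h_U` can be checked on an open cover of the scheme `U`. -/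
theorem repWith_of_openCover (Q : MorphismProperty Scheme.{u}) [Q.IsStableUnderBaseChange]
    [IsZariskiLocalAtTarget Q] {F : Sp S} {U : Over S} (f' : F ⟶ (yon S).obj U)
    (𝒰 : Scheme.OpenCover.{u} U.left)
    (h : ∀ j, RepWith Q (pullback.snd f' ((yon S).map (coverMap U 𝒰 j)))) : RepWith Q f' :=
  Groth.Agent.Lib.H86ZarGlue.repWith_of_zarCover f' _ _ (isZarCover_of_openCover U 𝒰)
    (fun j => pullback f' ((yon S).map (coverMap U 𝒰 j))) (fun j => pullback.fst _ _)
    (fun j => pullback.snd _ _) (fun j => IsPullback.of_hasPullback _ _) Q h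

/-- A morphism from (a sheaf isomorphic to) an affine scheme to an affine scheme is affine. -/
theorem repWith_isAffineHom_of_iso_yon {F : Sp S} {V W : Over S} (q : F ⟶ (yon S).obj V)
    (e : (yon S).obj W ≅ F) (hW : IsAffine W.left) (hV : IsAffine V.left) : RepWith @IsAffineHom q := by
  let w : W ⟶ V := (yon S).preimage (e.hom ≫ q)
  have hw : (yon S).map w = e.hom ≫ q := Functor.map_preimage _ _
  have h1 : RepWith @IsAffineHom ((yon S).map w) :=
    (repWith_yon_map_iff @IsAffineHom w).2 (by infer_instance)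
  have hq : q = e.inv ≫ (yon S).map w := by rw [hw, Iso.inv_hom_id_assoc]
  rw [hq]
  exact (MorphismProperty.cancel_left_of_respectsIso (RepWith @IsAffineHom) e.inv _).2 h1

end Groth.Agent.Lib.H69ZarCover
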