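import Groth.Agent.Lib.H69DescentFpqc
import Groth.Agent.Lib.H69ZarCover
import Groth.Agent.Lib.AlgSpFibre

/-!
# helper69: affine morphisms of algebraic spaces are fpqc local on the base
-/

set_option autoImplicit false
universe u

open CategoryTheory CategoryTheory.Limits AlgebraicGeometry Opposite

namespace Groth.Agent.Lib.H69DescentFpqc

open AlgSp Groth.Agent.Lib.H69AlgSp Groth.Agent.Lib.AlgSpFpqc

variable {S : Scheme.{u}}

/-- Every point of a finite coproduct of schemes lies in a summand. -/
theorem exists_sigma_ι_eq {n : ℕ} (g : Fin n → Scheme.{u}) (x : ↥(∐ g)) :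
    ∃ (j : Fin n) (y : ↥(g j)), (Sigma.ι g j) y = x := by
  obtain ⟨y, hy⟩ := (sigmaOpenCover g).covers x
  exact ⟨(sigmaOpenCover g).idx x, y, hy⟩

/-- Descent of affineness of a morphism of algebraic spaces along a family with the fpqc refinement property. -/
theorem isAffineMor_of_hasFpqcRefinement {ι : Type u} {X Y : Sp S} (hX : IsAlgSpace X)
    (hY : IsAlgSpace Y) {Yi : ι → Sp S} {f : X ⟶ Y} {g : ∀ i, Yi i ⟶ Y}
    (hg : HasFpqcRefinement Yi g) {Xi : ι → Sp S} {p : ∀ i, Xi i ⟶ Yi i} {q : ∀ i, Xi i ⟶ X}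
    (sq : ∀ i, IsPullback (q i) (p i) f (g i)) (h : ∀ i, IsAffineMor (p i)) : IsAffineMor f := by
  intro Z hZ z
  obtain ⟨n, W, c, hW, hc, hs, hl⟩ := hg Z hZ z
  choose ix l hl using hl
  -- the fibre product, an algebraic space
  have sqE : IsPullback (pullback.fst f z) (pullback.snd f z) f z := IsPullback.of_hasPullback f z
  have hE : IsAlgSpace (pullback f z) :=
    Groth.Agent.Lib.AlgSpFibre.isAlgSpace_of_isPullback hY.diag hX (IsAlgSpace.yon_obj Z) sqE
  -- the affine schemes over the members of the refinement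
  have hV : ∀ j : Fin n, ∃ (V : Over S) (v : V ⟶ W j) (fstV : (yon S).obj V ⟶ pullback f z),
      IsPullback fstV ((yon S).map v) (pullback.snd f z) ((yon S).map (c j)) ∧ IsAffine V.left := by
    intro j
    obtain ⟨V, v, fstV, hpb, hVa⟩ := h (ix j) (hW j) (l j)
    have big : IsPullback (fstV ≫ q (ix j)) ((yon S).map v) f (l j ≫ g (ix j)) :=
      hpb.paste_horiz (sq (ix j))
    rw [hl j] at big
    have hw : (fstV ≫ q (ix j)) ≫ f = ((yon S).map v ≫ (yon S).map (c j)) ≫ z := by
      rw [big.w, Category.assoc]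
    refine ⟨V, v, sqE.lift _ _ hw, ?_, hVa⟩
    exact IsPullback.of_right (by rw [sqE.lift_fst]; exact big) (sqE.lift_snd _ _ hw) sqE
  choose V v fstV hpbV hVa using hV
  -- the single affine fpqc cover
  let Wt : Over S := Over.mk (Sigma.desc (fun j => (W j).hom))
  let ct : Wt ⟶ Z := Over.homMk (Sigma.desc (fun j => (c j).left)) (by
    apply Sigma.hom_ext
    intro j
    change Sigma.ι (fun j => (W j).left) j ≫ Sigma.desc (fun j => (c j).left) ≫ Z.hom =
      Sigma.ι (fun j => (W j).left) j ≫ Sigma.desc (fun j => (W j).hom)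
    rw [Sigma.ι_desc_assoc, Sigma.ι_desc]
    exact Over.w (c j))
  have hWta : IsAffine Wt.left := by
    have := hW
    change IsAffine (∐ fun j => (W j).left)
    infer_instance
  have hctf : Flat ct.left := by
    have := hc
    change Flat (Sigma.desc (fun j => (c j).left))
    exact IsZariskiLocalAtSource.sigmaDesc (fun j => hc j)
  have hcts : Surjective ct.left := by
    refine ⟨fun x => ?_⟩
    obtain ⟨j, y, hy⟩ := hs x
    refine ⟨(Sigma.ι (fun j => (W j).left) j) y, ?_⟩
    change (Sigma.ι (fun j => (W j).left) j ≫ Sigma.desc (fun j => (c j).left)) y = x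
    rw [Sigma.ι_desc]
    exact hy
  -- the members of the refinement form a Zariski covering of the single cover
  let ιW : ∀ j : Fin n, W j ⟶ Wt := fun j => Over.homMk (Sigma.ι (fun j => (W j).left) j) (by
    change Sigma.ι (fun j => (W j).left) j ≫ Sigma.desc (fun j => (W j).hom) = (W j).hom
    rw [Sigma.ι_desc])
  have hιc : ∀ j, ιW j ≫ ct = c j := fun j => by
    apply Over.OverMorphism.ext
    change Sigma.ι (fun j => (W j).left) j ≫ Sigma.desc (fun j => (c j).left) = (c j).left
    rw [Sigma.ι_desc]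
  have hcov : IsZarCover (fun k : ULift.{u} (Fin n) => (yon S).obj (W k.down))
      (fun k => (yon S).map (ιW k.down)) := by
    refine ⟨fun k => (repWith_yon_map_iff @IsOpenImmersion (ιW k.down)).2
      (inferInstanceAs (IsOpenImmersion (Sigma.ι (fun j => (W j).left) k.down))), fun x => ?_⟩
    obtain ⟨j, y, hy⟩ := exists_sigma_ι_eq (fun j => (W j).left) (Points.toScheme Wt x)
    refine ⟨⟨j⟩, Points.ofScheme (W j) y, ?_⟩
    rw [← Points.ofPt_eq_map_ofScheme, Groth.Agent.Lib.H86AlgSpPoints.ofPt_yon_map]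
    change Points.ofScheme Wt ((Sigma.ι (fun j => (W j).left) j) y) = x
    rw [hy, Points.ofScheme_toScheme]
  -- the base change to the single cover is affine
  have hwφ : ∀ j, fstV j ≫ pullback.snd f z = (yon S).map (v j ≫ ιW j) ≫ (yon S).map ct := fun j => by
    rw [← Functor.map_comp, Category.assoc, hιc, Functor.map_comp, (hpbV j).w]
  let φ : ∀ j, (yon S).obj (V j) ⟶ pullback (pullback.snd f z) ((yon S).map ct) := fun j =>
    pullback.lift (fstV j) ((yon S).map (v j ≫ ιW j)) (hwφ j)
  have sqφ : ∀ j, IsPullback (φ j) ((yon S).map (v j))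
      (pullback.snd (pullback.snd f z) ((yon S).map ct)) ((yon S).map (ιW j)) := by
    intro j
    refine IsPullback.of_right ?_ ?_ (IsPullback.of_hasPullback (pullback.snd f z) ((yon S).map ct))
    · have e1 : φ j ≫ pullback.fst (pullback.snd f z) ((yon S).map ct) = fstV j :=
        pullback.lift_fst _ _ _
      rw [e1, ← Functor.map_comp, hιc]
      exact hpbV j
    · have e2 : φ j ≫ pullback.snd (pullback.snd f z) ((yon S).map ct) = (yon S).map (v j ≫ ιW j) :=
        pullback.lift_snd _ _ _
      rw [e2, Functor.map_comp]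
  have := Groth.Agent.Lib.H86ZarGlue.isZariskiLocalAtTarget_isAffineHom.{u}
  have haW : RepWith @IsAffineHom (pullback.snd (pullback.snd f z) ((yon S).map ct)) :=
    Groth.Agent.Lib.H86ZarGlue.repWith_of_zarCover _ _ _ hcov (fun k => (yon S).obj (V k.down))
      (fun k => φ k.down) (fun k => (yon S).map (v k.down)) (fun k => sqφ k.down) @IsAffineHom
      (fun k => (repWith_yon_map_iff @IsAffineHom (v k.down)).2 (by
        have := hVa k.down
        have := hW k.down
        infer_instance))
  obtain ⟨Vt, vt, fstt, sqt⟩ := haW.1 (𝟙 _)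
  have hvt : IsAffineHom vt.left := haW.2 _ _ _ sqt
  have hVta : IsAffine Vt.left := isAffine_of_isAffineHom vt.left
  have sqbig : IsPullback (fstt ≫ pullback.fst (pullback.snd f z) ((yon S).map ct)) ((yon S).map vt)
      (pullback.snd f z) ((yon S).map ct) := by
    have := sqt.paste_horiz (IsPullback.of_hasPullback (pullback.snd f z) ((yon S).map ct))
    rwa [Category.id_comp] at this
  obtain ⟨V₀, i₀, e, hV₀, he⟩ := affine_descent_fpqc ct vt hE (pullback.snd f z) _ sqbig
  exact ⟨V₀, i₀, e.hom ≫ pullback.fst f z,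
    IsPullback.of_iso_pullback ⟨by rw [Category.assoc, pullback.condition, ← Category.assoc, he]⟩ e rfl he,
    hV₀⟩

end Groth.Agent.Lib.H69DescentFpqc
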