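import Groth.Agent.Lib.H69DescentFpqc

/-!
# helper69: the comparison step of effective fpqc descent over algebraic spaces, in general form

`p : Z' ⟶ Z` an affine fpqc morphism of schemes over `S`, `F` an algebraic space over `h_Z` whose base change
to `h_{Z'}` is `h_{W'}`.  If a scheme `U` over `Z` with `U ×_Z Z' = W'` is given such that two points of `W'`
with the same image in `F` have the same image in `U`, then `F ≅ h_U` over `h_Z`.
-/

set_option autoImplicit false
universe u

open CategoryTheory CategoryTheory.Limits AlgebraicGeometry Opposite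

namespace Groth.Agent.Lib.H69DescentFpqc

open AlgSp Groth.Agent.Lib.H69AlgSp

variable {S : Scheme.{u}}

/-- The comparison step of effective descent. -/
theorem exists_iso_of_descended {Z Z' W' U : Over S} (p : Z' ⟶ Z) [Flat p.left] [Surjective p.left]
    [IsAffineHom p.left]
    (w' : W' ⟶ Z') {F : Sp S} (hF : IsAlgSpace F) (a : F ⟶ (yon S).obj Z) (fst : (yon S).obj W' ⟶ F)
    (sq : IsPullback fst ((yon S).map w') a ((yon S).map p))
    (i : U ⟶ Z) (k : W' ⟶ U) (sqU : IsPullback k w' i p)
    (key : ∀ (T : Over S) (t₁ t₂ : T ⟶ W'), (yon S).map t₁ ≫ fst = (yon S).map t₂ ≫ fst →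
      t₁ ≫ k = t₂ ≫ k) :
    ∃ e : (yon S).obj U ≅ F, e.hom ≫ a = (yon S).map i := by
  have hpqc : QuasiCompact p.left := inferInstance
  have sqL := sqU.map (Over.forget S)
  have hq1 : Flat k.left := MorphismProperty.of_isPullback (P := @Flat) sqL.flip ‹_›
  have hq3 : Surjective k.left := MorphismProperty.of_isPullback (P := @Surjective) sqL.flip ‹_›
  have hq4 : IsAffineHom k.left := MorphismProperty.of_isPullback (P := @IsAffineHom) sqL.flip ‹_›
  -- an atlas of `F` and its kernel pair
  obtain ⟨U₀, u, hue, hus⟩ := hF.atlas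
  have hu : Sheaf.IsLocallySurjective u := isLocallySurjective_of_etale_surjective u hue hus
  let R : Over S := hue.rep.pullback u
  let s : R ⟶ U₀ := hue.rep.snd u
  let t : R ⟶ U₀ := (yon S).preimage (hue.rep.fst u)
  have hker : IsPullback ((yon S).map t) ((yon S).map s) u u := by
    have := hue.rep.isPullback u
    rwa [← (yon S).map_preimage (hue.rep.fst u)] at this
  -- the base change of the atlas
  let uA : U₀ ⟶ Z := (yon S).preimage (u ≫ a)
  have huA : (yon S).map uA = u ≫ a := (yon S).map_preimage _
  let q := pullback.fst uA p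
  let r := pullback.snd uA p
  have hqr : q ≫ uA = r ≫ p := pullback.condition
  have sqU₀ : IsPullback q r uA p := IsPullback.of_hasPullback _ _
  have sqUL := sqU₀.flip.map (Over.forget S)
  have hqf : Flat q.left := MorphismProperty.of_isPullback (P := @Flat) sqUL ‹_›
  have hqs : Surjective q.left := MorphismProperty.of_isPullback (P := @Surjective) sqUL ‹_›
  have hqa : IsAffineHom q.left := MorphismProperty.of_isPullback (P := @IsAffineHom) sqUL ‹_›
  have hqc : QuasiCompact q.left := inferInstance
  obtain ⟨v, hv1, hv2⟩ := exists_lift_yon sq ((yon S).map q ≫ u) ((yon S).map r) (by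
    rw [Category.assoc, ← huA, ← Functor.map_comp, ← Functor.map_comp, hqr])
  have hv2' : v ≫ w' = r := by
    apply (yon S).map_injective
    rw [Functor.map_comp, hv2]
  -- descend `U₀' ⟶ W' ⟶ U` to `U₀`
  obtain ⟨φU, hφU⟩ := exists_desc_of_fpqc q (v ≫ k) (by
    intro T x₁ x₂ hx
    rw [← Category.assoc, ← Category.assoc]
    apply key
    rw [Functor.map_comp, Functor.map_comp, Category.assoc, Category.assoc, hv1, ← Category.assoc,
      ← Category.assoc, ← Functor.map_comp, ← Functor.map_comp, hx])
  -- `φU` equalizes the kernel pair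
  have hst : s ≫ φU = t ≫ φU := by
    have huAst : s ≫ uA = t ≫ uA := by
      apply (yon S).map_injective
      rw [Functor.map_comp, Functor.map_comp, huA, ← Category.assoc, ← Category.assoc, hker.w]
    let qR := pullback.fst s q
    let pr := pullback.snd s q
    have hpr : qR ≫ s = pr ≫ q := pullback.condition
    have sqR : IsPullback qR pr s q := IsPullback.of_hasPullback _ _
    have sqRL := sqR.flip.map (Over.forget S)
    have : Flat qR.left := MorphismProperty.of_isPullback (P := @Flat) sqRL ‹_›
    have : Surjective qR.left := MorphismProperty.of_isPullback (P := @Surjective) sqRL ‹_›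
    have : QuasiCompact qR.left := MorphismProperty.of_isPullback (P := @QuasiCompact) sqRL ‹_›
    have hepi : Epi qR := epi_of_fpqc qR
    let tt : pullback s q ⟶ pullback uA p :=
      pullback.lift (qR ≫ t) (pr ≫ r) (by
        rw [Category.assoc, ← huAst, ← Category.assoc, hpr, Category.assoc, hqr, Category.assoc])
    have htt1 : tt ≫ q = qR ≫ t := pullback.lift_fst _ _ _
    have htt2 : tt ≫ r = pr ≫ r := pullback.lift_snd _ _ _
    have hprv : pr ≫ v = tt ≫ v := by
      apply hom_ext_yon_pullback sq
      · rw [Functor.map_comp, Functor.map_comp, Category.assoc, Category.assoc, hv1, ← Category.assoc,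
          ← Category.assoc, ← Functor.map_comp, ← Functor.map_comp, ← hpr, htt1, Functor.map_comp,
          Functor.map_comp, Category.assoc, Category.assoc, hker.w]
      · rw [Functor.map_comp, Functor.map_comp, Category.assoc, Category.assoc, hv2, ← Functor.map_comp,
          ← Functor.map_comp, htt2]
    rw [← cancel_epi qR, ← Category.assoc, hpr, Category.assoc, hφU, ← Category.assoc, hprv,
      Category.assoc, ← hφU, ← Category.assoc, htt1, Category.assoc]
  -- the comparison map
  obtain ⟨ψ, hψ⟩ := exists_desc_of_kernelPair u s t hker ((yon S).map φU) (by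
    rw [← Functor.map_comp, ← Functor.map_comp, hst])
  have hepiq : Epi q := epi_of_fpqc q
  have hφA : φU ≫ i = uA := by
    rw [← cancel_epi q, ← Category.assoc, hφU, Category.assoc, sqU.w, ← Category.assoc, hv2', hqr]
  have hepiu : Epi u := inferInstance
  have hψa : ψ ≫ (yon S).map i = a := by
    rw [← cancel_epi u, ← Category.assoc, hψ, ← Functor.map_comp, hφA, huA]
  -- `h_{U₀'} = h_{U₀} ×_F h_{W'}`
  have sqUy : IsPullback ((yon S).map r) ((yon S).map q) ((yon S).map p) ((yon S).map uA) :=
    sqU₀.flip.map (yon S)
  rw [← hv2, huA] at sqUy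
  have sqV : IsPullback ((yon S).map v) ((yon S).map q) fst u := IsPullback.of_right sqUy hv1 sq.flip
  have hvs : Sheaf.IsLocallySurjective ((yon S).map v) :=
    Groth.Agent.Lib.SheafEpi.isLocallySurjective_of_isPullback _ sqV
  have hepiv : Epi ((yon S).map v) := inferInstance
  have hfψ : fst ≫ ψ = (yon S).map k := by
    rw [← cancel_epi ((yon S).map v), ← Category.assoc, hv1, Category.assoc, hψ, ← Functor.map_comp,
      ← Functor.map_comp, hφU]
  -- the base change of `ψ` along `W' ⟶ U` is the identity
  have sq3y : IsPullback ((yon S).map k) ((yon S).map w') ((yon S).map i) ((yon S).map p) :=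
    sqU.map (yon S)
  have sqψ : IsPullback fst (𝟙 ((yon S).obj W')) ψ ((yon S).map k) := by
    refine IsPullback.of_bot ?_ (by rw [hfψ, Category.id_comp]) sq3y
    rw [Category.id_comp, hψa]
    exact sq
  -- the single family `W' ⟶ U` has the fpqc refinement property
  have hg : Groth.Agent.Lib.AlgSpFpqc.HasFpqcRefinement (ι := PUnit.{u + 1})
      (fun _ => (yon S).obj W') (fun _ => (yon S).map k) := by
    intro Z₁ hZ₁ h
    let τ : Z₁ ⟶ U := (yon S).preimage h
    have hτ : (yon S).map τ = h := (yon S).map_preimage _
    have sqW : IsPullback (pullback.fst τ k) (pullback.snd τ k) τ k :=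
      IsPullback.of_hasPullback _ _
    have sqWL := sqW.flip.map (Over.forget S)
    have hWaffhom : IsAffineHom (pullback.fst τ k).left :=
      MorphismProperty.of_isPullback (P := @IsAffineHom) sqWL hq4
    have hWaff : IsAffine (pullback τ k).left := by
      have h1 : IsAffine Z₁.left := hZ₁
      exact isAffine_of_isAffineHom (pullback.fst τ k).left
    refine ⟨1, fun _ => pullback τ k, fun _ => pullback.fst τ k, fun _ => hWaff,
      fun _ => MorphismProperty.of_isPullback (P := @Flat) sqWL hq1, fun z => ⟨0, ?_⟩,
      fun _ => ⟨PUnit.unit, (yon S).map (pullback.snd τ k), ?_⟩⟩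
    · have : Surjective (pullback.fst τ k).left :=
        MorphismProperty.of_isPullback (P := @Surjective) sqWL hq3
      exact (pullback.fst τ k).left.surjective z
    · rw [← hτ, ← Functor.map_comp, ← Functor.map_comp, pullback.condition]
  have hiso : IsIso ψ :=
    Groth.Agent.Lib.AlgSpFpqc.isIso_of_hasFpqcRefinement (ι := PUnit.{u + 1}) hF
      (IsAlgSpace.yon_obj U).diag hg (Xi := fun _ => (yon S).obj W')
      (p := fun _ => 𝟙 _) (q := fun _ => fst) (fun _ => sqψ) (fun _ => inferInstance)
  refine ⟨(asIso ψ).symm, ?_⟩
  change inv ψ ≫ a = _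
  rw [IsIso.inv_comp_eq, hψa]

end Groth.Agent.Lib.H69DescentFpqc
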