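import Groth.Agent.Lib.H69DescentGen
import Groth.Agent.Lib.EffDescFamQAffH52
import Groth.Agent.Lib.ConsMorInstQAff

/-!
# helper69: effective fpqc descent for quasi-affine schemes over algebraic spaces

`p : Z' ⟶ Z` an fpqc morphism of affine schemes over `S`, `F` an algebraic space over `h_Z` whose base change
to `h_{Z'}` is `h_{W'}` with `W'` quasi-affine: then `F ≅ h_U` with `U` quasi-affine.  The descent datum on `W'`
is written in the functor-of-points form of `Desc.SchDD`; helper52's effective descent for quasi-affine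
morphisms gives `U`, and `exists_iso_of_descended` compares `F` with `h_U`.
-/

set_option autoImplicit false
universe u

open CategoryTheory CategoryTheory.Limits AlgebraicGeometry Opposite

namespace Groth.Agent.Lib.H69DescentQAff

open AlgSp Groth.Agent.Lib.H69AlgSp

variable {S : Scheme.{u}} {Z Z' W' : Over S} (p : Z' ⟶ Z) (w' : W' ⟶ Z') {F : Sp S}
  (a : F ⟶ (yon S).obj Z) (fst : (yon S).obj W' ⟶ F)
  (sq : IsPullback fst ((yon S).map w') a ((yon S).map p))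

section Transport

include sq in
theorem tr_aux {T : Over S} (t : T ⟶ W') (x : T ⟶ Z') (h : (t ≫ w') ≫ p = x ≫ p) :
    ((yon S).map t ≫ fst) ≫ a = (yon S).map x ≫ (yon S).map p := by
  rw [Category.assoc, sq.w, ← Category.assoc, ← Functor.map_comp, ← Functor.map_comp,
    ← Functor.map_comp, h]

/-- The point of `W'` over `x` with the same image in `F` as `t`. -/
noncomputable def tr {T : Over S} (t : T ⟶ W') (x : T ⟶ Z') (h : (t ≫ w') ≫ p = x ≫ p) : T ⟶ W' :=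
  (yon S).preimage (sq.lift ((yon S).map t ≫ fst) ((yon S).map x) (tr_aux p w' a fst sq t x h))

theorem tr_fst {T : Over S} (t : T ⟶ W') (x : T ⟶ Z') (h : (t ≫ w') ≫ p = x ≫ p) :
    (yon S).map (tr p w' a fst sq t x h) ≫ fst = (yon S).map t ≫ fst := by
  rw [tr, (yon S).map_preimage, sq.lift_fst]

theorem tr_snd {T : Over S} (t : T ⟶ W') (x : T ⟶ Z') (h : (t ≫ w') ≫ p = x ≫ p) :
    tr p w' a fst sq t x h ≫ w' = x := by
  apply (yon S).map_injective
  rw [Functor.map_comp, tr, (yon S).map_preimage, sq.lift_snd]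

theorem tr_unique {T : Over S} (t : T ⟶ W') (x : T ⟶ Z') (h : (t ≫ w') ≫ p = x ≫ p)
    (t' : T ⟶ W') (h1 : (yon S).map t' ≫ fst = (yon S).map t ≫ fst) (h2 : t' ≫ w' = x) :
    t' = tr p w' a fst sq t x h := by
  apply hom_ext_yon_pullback sq
  · rw [h1, tr_fst]
  · rw [← Functor.map_comp, ← Functor.map_comp, h2, tr_snd]

theorem tr_comp {T T₁ : Over S} (ε : T₁ ⟶ T) (t : T ⟶ W') (x : T ⟶ Z') (h : (t ≫ w') ≫ p = x ≫ p)
    (h' : ((ε ≫ t) ≫ w') ≫ p = (ε ≫ x) ≫ p) :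
    ε ≫ tr p w' a fst sq t x h = tr p w' a fst sq (ε ≫ t) (ε ≫ x) h' := by
  apply tr_unique
  · rw [Functor.map_comp, Category.assoc, tr_fst, Functor.map_comp, Category.assoc]
  · rw [Category.assoc, tr_snd]

end Transport

section DD

/-- `T` as a scheme over `S` through `x : T ⟶ Z'`. -/
abbrev ov {T : Scheme.{u}} (x : T ⟶ Z'.left) : Over S := Over.mk (x ≫ Z'.hom)

/-- A point of `Z'` with the same image in `Z` as `x₀`, as a morphism over `S`. -/
abbrev ovHom {T : Scheme.{u}} (x₀ x₁ : T ⟶ Z'.left) (h : x₀ ≫ p.left = x₁ ≫ p.left) :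
    ov x₀ ⟶ Z' :=
  Over.homMk x₁ (by
    change x₁ ≫ Z'.hom = x₀ ≫ Z'.hom
    rw [← Over.w p, ← Category.assoc, ← Category.assoc, h])

/-- A lift of `x₀` to `W'` as a morphism over `S`. -/
abbrev liftHom {T : Scheme.{u}} {x₀ : T ⟶ Z'.left} (v : Desc.Lifts (Over.mk w'.left) x₀) :
    ov x₀ ⟶ W' :=
  Over.homMk v.1 (by
    change v.1 ≫ W'.hom = x₀ ≫ Z'.hom
    rw [← Over.w w', ← Category.assoc]
    exact congrArg (· ≫ Z'.hom) v.2)

theorem liftHom_w {T : Scheme.{u}} {x₀ x₁ : T ⟶ Z'.left} (h : x₀ ≫ p.left = x₁ ≫ p.left)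
    (v : Desc.Lifts (Over.mk w'.left) x₀) :
    (liftHom w' v ≫ w') ≫ p = ovHom p x₀ x₁ h ≫ p := by
  apply Over.OverMorphism.ext
  change (v.1 ≫ w'.left) ≫ p.left = x₁ ≫ p.left
  rw [← h]
  exact congrArg (· ≫ p.left) v.2

/-- The gluing map on points. -/
noncomputable def φfun {T : Scheme.{u}} (x₀ x₁ : T ⟶ Z'.left) (h : x₀ ≫ p.left = x₁ ≫ p.left)
    (v : Desc.Lifts (Over.mk w'.left) x₀) : Desc.Lifts (Over.mk w'.left) x₁ :=
  ⟨(tr p w' a fst sq (liftHom w' v) (ovHom p x₀ x₁ h) (liftHom_w p w' h v)).left,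
    congrArg (fun k => k.left) (tr_snd p w' a fst sq (liftHom w' v) (ovHom p x₀ x₁ h)
      (liftHom_w p w' h v))⟩

/-- Characterisation of the gluing map: over any structure of scheme over `S` on `T`. -/
theorem φfun_eq {T : Over S} (t t' : T ⟶ W') (h1 : (yon S).map t' ≫ fst = (yon S).map t ≫ fst)
    (h : (t ≫ w').left ≫ p.left = (t' ≫ w').left ≫ p.left) :
    (φfun p w' a fst sq (t ≫ w').left (t' ≫ w').left h ⟨t.left, rfl⟩).1 = t'.left := by
  let ε : ov (Z' := Z') (t ≫ w').left ⟶ T := Over.homMk (𝟙 _) (by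
    change 𝟙 _ ≫ T.hom = (t ≫ w').left ≫ Z'.hom
    rw [Category.id_comp, Over.w])
  have hε1 : ε ≫ t = liftHom w' ⟨t.left, rfl⟩ := by
    apply Over.OverMorphism.ext
    change 𝟙 _ ≫ t.left = t.left
    rw [Category.id_comp]
  have hε2 : ε ≫ (t' ≫ w') = ovHom p (t ≫ w').left (t' ≫ w').left h := by
    apply Over.OverMorphism.ext
    change 𝟙 _ ≫ (t' ≫ w').left = (t' ≫ w').left
    rw [Category.id_comp]
  have := tr_unique p w' a fst sq (liftHom w' ⟨t.left, rfl⟩)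
    (ovHom p (t ≫ w').left (t' ≫ w').left h) (liftHom_w p w' h _) (ε ≫ t') (by
      rw [← hε1, Functor.map_comp, Functor.map_comp, Category.assoc, Category.assoc, h1])
    (by rw [Category.assoc, hε2])
  dsimp only [φfun]
  rw [← this]
  change 𝟙 _ ≫ t'.left = t'.left
  rw [Category.id_comp]

/-- Characterisation of the gluing map, flexible form. -/
theorem φfun_eq' {T : Over S} (x₀ x₁ : T.left ⟶ Z'.left) (h : x₀ ≫ p.left = x₁ ≫ p.left)
    (v : Desc.Lifts (Over.mk w'.left) x₀) (t t' : T ⟶ W') (ht : t.left = v.1)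
    (ht' : t'.left ≫ w'.left = x₁) (h1 : (yon S).map t' ≫ fst = (yon S).map t ≫ fst) :
    (φfun p w' a fst sq x₀ x₁ h v).1 = t'.left := by
  obtain ⟨v, hv⟩ := v
  subst hv
  subst ht'
  dsimp only at ht
  subst ht
  exact φfun_eq p w' a fst sq t t' h1 h

theorem φfun_self {T : Scheme.{u}} (x : T ⟶ Z'.left) (v : Desc.Lifts (Over.mk w'.left) x) :
    φfun p w' a fst sq x x rfl v = v :=
  Subtype.ext (φfun_eq' p w' a fst sq (T := ov x) x x rfl v (liftHom w' v) (liftHom w' v) rfl v.2 rfl)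

theorem φfun_comp {T : Scheme.{u}} (x₀ x₁ x₂ : T ⟶ Z'.left) (h₀₁ : x₀ ≫ p.left = x₁ ≫ p.left)
    (h₁₂ : x₁ ≫ p.left = x₂ ≫ p.left) (v : Desc.Lifts (Over.mk w'.left) x₀) :
    φfun p w' a fst sq x₁ x₂ h₁₂ (φfun p w' a fst sq x₀ x₁ h₀₁ v) =
      φfun p w' a fst sq x₀ x₂ (h₀₁.trans h₁₂) v := by
  apply Subtype.ext
  refine φfun_eq' p w' a fst sq (T := ov x₀) x₁ x₂ h₁₂ (φfun p w' a fst sq x₀ x₁ h₀₁ v)
    (tr p w' a fst sq (liftHom w' v) (ovHom p x₀ x₁ h₀₁) (liftHom_w p w' h₀₁ v))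
    (tr p w' a fst sq (liftHom w' v) (ovHom p x₀ x₂ (h₀₁.trans h₁₂))
      (liftHom_w p w' (h₀₁.trans h₁₂) v)) rfl
    (φfun p w' a fst sq x₀ x₂ (h₀₁.trans h₁₂) v).2 ?_
  rw [tr_fst, tr_fst]

theorem φfun_natural {T T' : Scheme.{u}} (g : T' ⟶ T) (x₀ x₁ : T ⟶ Z'.left)
    (h : x₀ ≫ p.left = x₁ ≫ p.left) (h' : (g ≫ x₀) ≫ p.left = (g ≫ x₁) ≫ p.left)
    (v : Desc.Lifts (Over.mk w'.left) x₀) (v' : Desc.Lifts (Over.mk w'.left) (g ≫ x₀))
    (hv : v'.1 = g ≫ v.1) :
    (φfun p w' a fst sq (g ≫ x₀) (g ≫ x₁) h' v').1 = g ≫ (φfun p w' a fst sq x₀ x₁ h v).1 := by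
  let ε : ov (Z' := Z') (g ≫ x₀) ⟶ ov x₀ := Over.homMk g (by
    change g ≫ x₀ ≫ Z'.hom = (g ≫ x₀) ≫ Z'.hom
    rw [Category.assoc])
  refine φfun_eq' p w' a fst sq (T := ov (g ≫ x₀)) (g ≫ x₀) (g ≫ x₁) h' v'
    (ε ≫ liftHom w' v)
    (ε ≫ tr p w' a fst sq (liftHom w' v) (ovHom p x₀ x₁ h) (liftHom_w p w' h v)) hv.symm ?_ ?_
  · change (g ≫ (φfun p w' a fst sq x₀ x₁ h v).1) ≫ w'.left = g ≫ x₁
    rw [Category.assoc]
    exact congrArg (g ≫ ·) (φfun p w' a fst sq x₀ x₁ h v).2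
  · rw [Functor.map_comp, Category.assoc, tr_fst, Functor.map_comp, Category.assoc]

/-- The descent datum on `W'` relative to `p` induced by `F`. -/
noncomputable def dd : Desc.SchDD p.left where
  obj := Over.mk w'.left
  φ T x₀ x₁ h :=
    { toFun := φfun p w' a fst sq x₀ x₁ h
      invFun := φfun p w' a fst sq x₁ x₀ h.symm
      left_inv := fun v => by
        rw [φfun_comp]
        exact φfun_self p w' a fst sq x₀ v
      right_inv := fun v => by
        rw [φfun_comp]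
        exact φfun_self p w' a fst sq x₁ v }
  φ_natural T T' g x₀ x₁ h h' v v' hv := φfun_natural p w' a fst sq g x₀ x₁ h h' v v' hv
  φ_self T x v := φfun_self p w' a fst sq x v
  φ_comp T x₀ x₁ x₂ h₀₁ h₁₂ v := φfun_comp p w' a fst sq x₀ x₁ x₂ h₀₁ h₁₂ v

/-- Two points of `W'` with the same image in `F` are related by the gluing map. -/
theorem dd_φ_eq {T : Over S} (t t' : T ⟶ W') (h1 : (yon S).map t ≫ fst = (yon S).map t' ≫ fst)
    (h : (t ≫ w').left ≫ p.left = (t' ≫ w').left ≫ p.left) :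
    ((dd p w' a fst sq).φ (t ≫ w').left (t' ≫ w').left h ⟨t.left, rfl⟩).1 = t'.left :=
  φfun_eq p w' a fst sq t t' h1.symm h

end DD

section Main

/-- A morphism from a quasi-affine scheme to an affine scheme is quasi-affine. -/
theorem isQuasiAffine_hom_of_isQuasiAffine {X Y : Scheme.{u}} (f : X ⟶ Y) [X.IsQuasiAffine]
    [IsAffine Y] : Mor2.IsQuasiAffine f := by
  refine ⟨inferInstance, fun V hV => ?_⟩
  have : IsAffine (V : Scheme.{u}) := hV
  have : IsAffineHom (f ⁻¹ᵁ V).ι :=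
    MorphismProperty.of_isPullback (P := @IsAffineHom) (isPullback_morphismRestrict f V)
      (inferInstance : IsAffineHom V.ι)
  exact Scheme.IsQuasiAffine.of_isAffineHom (f ⁻¹ᵁ V).ι

include sq in
/-- **Effective fpqc descent for quasi-affine schemes over algebraic spaces.** -/
theorem exists_quasiAffine_descent [IsAffine Z.left] [IsAffine Z'.left] [Flat p.left]
    [Surjective p.left] (hW' : W'.left.IsQuasiAffine) (hF : IsAlgSpace F) :
    ∃ (U : Over S) (i : U ⟶ Z) (e : (yon S).obj U ≅ F), U.left.IsQuasiAffine ∧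
      e.hom ≫ a = (yon S).map i := by
  have hD : Mor2.IsQuasiAffine (dd p w' a fst sq).obj.hom :=
    isQuasiAffine_hom_of_isQuasiAffine w'.left
  obtain ⟨U₀, ⟨e⟩⟩ :=
    Groth.Agent.Lib.EffDescFamH52.exists_iso_of_isQuasiAffineHom p.left (dd p w' a fst sq) hD
  obtain ⟨k₀, hsq, hkeq⟩ : ∃ k₀ : W'.left ⟶ U₀.left, IsPullback w'.left k₀ p.left U₀.hom ∧
      ∀ ⦃T : Scheme.{u}⦄ (x₀ x₁ : T ⟶ Z'.left) (h : x₀ ≫ p.left = x₁ ≫ p.left)
        (v : Desc.Lifts (Over.mk w'.left) x₀),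
        ((dd p w' a fst sq).φ x₀ x₁ h v).1 ≫ k₀ = v.1 ≫ k₀ := by
    obtain ⟨k₀, hk⟩ := Groth.Agent.Lib.EffDescH52.exists_isQuot_of_iso e
    exact ⟨k₀, hk.sq, hk.eq⟩
  -- the descended scheme over `S`
  let U : Over S := Over.mk (U₀.hom ≫ Z.hom)
  let i : U ⟶ Z := Over.homMk U₀.hom rfl
  let k : W' ⟶ U := Over.homMk k₀ (by
    change k₀ ≫ U₀.hom ≫ Z.hom = W'.hom
    rw [← Category.assoc, ← hsq.w, Category.assoc, Over.w, Over.w])
  have sqU : IsPullback k w' i p := by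
    apply IsPullback.of_map_of_faithful (Over.forget S)
    exact hsq.flip
  -- quasi-affineness
  have hqa : Groth.Agent.Lib.ConsPairGeom.QAffProp U₀.hom :=
    MorphismProperty.of_isPullback_of_descendsAlong (P := Groth.Agent.Lib.ConsPairGeom.QAffProp)
      (Q := @Surjective ⊓ @Flat ⊓ @QuasiCompact) hsq ⟨⟨inferInstance, inferInstance⟩, inferInstance⟩ hD
  have hUqa : U.left.IsQuasiAffine :=
    Groth.Agent.Lib.EffDescFamH52.isQuasiAffine_of_isQuasiAffineHom U₀.hom hqa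
  -- the key property
  have key : ∀ (T : Over S) (t₁ t₂ : T ⟶ W'), (yon S).map t₁ ≫ fst = (yon S).map t₂ ≫ fst →
      t₁ ≫ k = t₂ ≫ k := by
    intro T t₁ t₂ h12
    have h : (t₁ ≫ w').left ≫ p.left = (t₂ ≫ w').left ≫ p.left := by
      have : (t₁ ≫ w') ≫ p = (t₂ ≫ w') ≫ p := by
        apply (yon S).map_injective
        rw [Category.assoc, Category.assoc, Functor.map_comp, Functor.map_comp, Functor.map_comp,
          Functor.map_comp, ← sq.w, ← Category.assoc, ← Category.assoc, h12]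
      exact congrArg (fun m => m.left) this
    have h1 := dd_φ_eq p w' a fst sq t₁ t₂ h12 h
    have h2 := hkeq (t₁ ≫ w').left (t₂ ≫ w').left h ⟨t₁.left, rfl⟩
    apply Over.OverMorphism.ext
    exact h2.symm.trans (congrArg (· ≫ k₀) h1)
  obtain ⟨e', he'⟩ := Groth.Agent.Lib.H69DescentFpqc.exists_iso_of_descended p w' hF a fst sq i k sqU key
  exact ⟨U, i, e', hUqa, he'⟩

end Main

end Groth.Agent.Lib.H69DescentQAff
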