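import Groth.Agent.Lib.AlgSpValuative
import Groth.Agent.Lib.AlgSpAffineSpace
import Groth.Agent.Lib.H86AffineMor
import Groth.Agent.S4450

set_option autoImplicit false
universe u

open CategoryTheory CategoryTheory.Limits AlgebraicGeometry Opposite Topology IsLocalRing

namespace Groth.Agent.Lib.H69DvrVC

open AlgSp Groth.Agent.Lib.AlgSpPoints Groth.Agent.Lib.AlgSpQC Groth.Agent.Lib.AlgSpFibre
  Groth.Agent.Lib.AlgSpDescent Groth.Agent.Lib.H69AlgSp Groth.Agent.Lib.H69AlgSpMor
  Groth.Agent.Lib.AlgSpLocP Groth.Agent.Lib.AlgSpBasic Groth.Agent.Lib.AlgSpFpqc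
  Groth.Agent.Lib.AlgSpProper Groth.Agent.Lib.AlgSpValuative Groth.Agent.Lib.AlgSpAffineSpace

variable {S : Scheme.{u}}

/-- The existence part of the valuative criterion, tested on discrete valuation rings only. -/
def DvrExistVC {F G : Sp S} (f : F ⟶ G) : Prop :=
  ∀ sq : ValSq f, IsDiscreteValuationRing sq.A → sq.HasLiftExt

/-- DVR-existence is stable under base change. -/
theorem DvrExistVC.baseChange {F G H F' : Sp S} {f : F ⟶ G} {g : H ⟶ G} {fst : F' ⟶ F}
    {f' : F' ⟶ H} (pb : IsPullback fst f' f g) (hf : DvrExistVC f) : DvrExistVC f' := by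
  intro sq hA
  let sqf : ValSq f :=
    { A := sq.A, K := sq.K, str := sq.str, top := sq.top ≫ fst, bot := sq.bot ≫ g,
      comm := by
        rw [Category.assoc, pb.w, ← Category.assoc, sq.comm, Category.assoc] }
  obtain ⟨e, l, hl1, hl2⟩ := hf sqf hA
  let e₂ : sq.DomExt :=
    { A' := e.A', K' := e.K', φ := e.φ, ψ := e.ψ, comm := e.comm, isLocalHom := e.isLocalHom }
  refine ⟨e₂, ?_⟩
  have hw : l ≫ f = ((yon S).map (Over.homMk (Spec.map (CommRingCat.ofHom e₂.φ)) rfl :
      e₂.ptA' ⟶ sq.ptA) ≫ sq.bot) ≫ g := by
    rw [Category.assoc]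
    exact hl2
  refine ⟨pb.lift l _ hw, ?_, pb.lift_snd _ _ _⟩
  apply pb.hom_ext
  · rw [Category.assoc, pb.lift_fst, Category.assoc]
    exact hl1
  · rw [Category.assoc, pb.lift_snd, Category.assoc, sq.comm]
    rw [← Category.assoc, ← Category.assoc, ← Functor.map_comp, ← Functor.map_comp]
    congr 2
    ext
    simp only [Over.comp_left, Over.homMk_left]
    rw [← Spec.map_comp, ← Spec.map_comp, ← CommRingCat.ofHom_comp, ← CommRingCat.ofHom_comp]
    exact congrArg (fun r => Spec.map (CommRingCat.ofHom r)) e.comm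

/-- Closedness on points of a morphism to a scheme can be checked on the affine opens of the scheme. -/
theorem isClosedMap_map_of_affineOpens {P : Sp S} {T : Over S} (b : P ⟶ (yon S).obj T)
    (H : ∀ V : T.left.affineOpens,
      IsClosedMap (Points.map (pullback.snd b (restrictChart (𝟙 ((yon S).obj T)) V.1)))) :
    IsClosedMap (Points.map b) := by
  intro W hW
  have h1 : IsClosed (Points.schemeHomeo T ⁻¹' (Points.map b '' W)) := by
    have hcov : TopologicalSpace.IsOpenCover (fun V : T.left.affineOpens => (V : T.left.Opens)) :=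
      iSup_affineOpens_eq_top T.left
    rw [hcov.isClosed_iff_coe_preimage]
    intro V
    have e : ((↑) ⁻¹' (Points.schemeHomeo T ⁻¹' (Points.map b '' W)) : Set ↥(V : T.left.Opens)) =
        Points.ofPt (restrictChart (𝟙 ((yon S).obj T)) V.1) ⁻¹' (Points.map b '' W) := by
      ext v
      change Points.ofPt (𝟙 _) v.1 ∈ Points.map b '' W ↔
        Points.ofPt (restrictChart (𝟙 ((yon S).obj T)) V.1) v ∈ Points.map b '' W
      rw [ofPt_restrictChart]
    rw [e, preimage_image_eq_of_isPullback
      (IsPullback.of_hasPullback b (restrictChart (𝟙 ((yon S).obj T)) V.1))]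
    refine IsClosed.preimage (Points.schemeHomeo _).continuous ?_
    exact H V _ (hW.preimage (Points.continuous_map _))
  have h2 := (Points.schemeHomeo T).isClosedMap _ h1
  rwa [Set.image_preimage_eq _ (Points.schemeHomeo T).surjective] at h2

open IsLocalRing in
set_option backward.isDefEq.respectTransparency.types false in
/-- Key step: for `b : P ⟶ h_T` with `T` locally Noetherian satisfying DVR-existence and a chart
`p : h_U ⟶ P` surjective on points, with `φ : U ⟶ T` the composite, locally of finite type, the image under `φ` of the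
preimage of a closed subset of `|P|` is stable under specialization. -/
theorem stableUnderSpecialization_image_of_dvrExistVC {P : Sp S} {T U : Over S}
    [IsLocallyNoetherian T.left]
    (b : P ⟶ (yon S).obj T) (he : DvrExistVC b) (p : (yon S).obj U ⟶ P)
    (hps : Function.Surjective (Points.ofPt p)) (φ : U ⟶ T) (hφ : (yon S).map φ = p ≫ b)
    [LocallyOfFiniteType φ.left]
    (C : Set (Points P)) (hC : IsClosed C) :
    StableUnderSpecialization (φ.left '' (Points.ofPt p ⁻¹' C)) := by
  rintro y' y hspec ⟨x', hx', rfl⟩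
  by_cases hne : y = φ.left x'
  · exact ⟨x', hx', hne.symm⟩
  obtain ⟨A, hbot, hA, hcl, hcomm⟩ := Groth.Agent.S4450.result φ.left x' y hspec hne
  have w : U.left.fromSpecResidueField x' ≫ φ.left =
      Spec.map (CommRingCat.ofHom (algebraMap A (U.left.residueField x'))) ≫ hbot := hcomm.symm
  -- the valuative square
  let str : Spec (.of A) ⟶ S := hbot ≫ T.hom
  have hw' : U.left.fromSpecResidueField x' ≫ U.hom =
      Spec.map (CommRingCat.ofHom (algebraMap A (U.left.residueField x'))) ≫ str := by
    rw [← Over.w φ, ← Category.assoc, w]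
    simp only [str, Category.assoc]
  let topU : Over.mk (Spec.map (CommRingCat.ofHom (algebraMap A (U.left.residueField x'))) ≫ str) ⟶ U :=
    Over.homMk (U.left.fromSpecResidueField x') hw'
  let botT : Over.mk str ⟶ T := Over.homMk hbot rfl
  let sq : ValSq b :=
    { A := A, K := U.left.residueField x', str := str,
      top := (yon S).map topU ≫ p,
      bot := (yon S).map botT,
      comm := by
        rw [Category.assoc, ← hφ, ← Functor.map_comp, ← Functor.map_comp]
        congr 1
        ext
        exact w }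
  obtain ⟨e, l, hl1, hl2⟩ := he sq hA
  -- the image of the closed point of `Spec A'`
  let c' : ↥e.ptA'.left := closedPoint e.A'
  let k' : ↥e.ptK'.left := closedPoint e.K'
  have hz1 : Points.ofPt l ((Spec.map (CommRingCat.ofHom (algebraMap e.A' e.K'))) k') ∈ C := by
    have h1 := congrArg (fun m => Points.ofPt m k') hl1
    simp only [ofPt_yon_map_comp] at h1
    simp only [Over.homMk_left] at h1
    rw [h1]
    change Points.ofPt ((yon S).map topU ≫ p) _ ∈ C
    rw [ofPt_yon_map_comp]
    simp only [topU, Over.homMk_left]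
    rw [Scheme.fromSpecResidueField_apply]
    exact hx'
  have hz : Points.ofPt l c' ∈ C := by
    have hsp : (Spec.map (CommRingCat.ofHom (algebraMap e.A' e.K'))) k' ⤳ c' :=
      specializes_closedPoint _
    exact (hsp.map (Points.continuous_ofPt l)).mem_closed hC hz1
  obtain ⟨u, hu⟩ := hps (Points.ofPt l c')
  refine ⟨u, by rw [Set.mem_preimage, hu]; exact hz, ?_⟩
  apply (Points.schemeHomeo T).injective
  have e1 : Points.schemeHomeo T (φ.left u) = Points.map b (Points.ofPt p u) := by
    rw [Points.map_ofPt, ← hφ]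
    have := ofPt_yon_map_comp φ (𝟙 _) u
    rw [Category.comp_id] at this
    exact this.symm
  rw [e1, hu, Points.map_ofPt, hl2]
  change Points.ofPt ((yon S).map _ ≫ (yon S).map botT) c' = _
  rw [ofPt_yon_map_comp]
  simp only [Over.homMk_left]
  have hc : (Spec.map (CommRingCat.ofHom e.φ)) c' = closedPoint A := by
    have := e.isLocalHom
    exact comap_closedPoint e.φ
  rw [hc]
  have := ofPt_yon_map_comp botT (𝟙 _) (closedPoint A)
  rw [Category.comp_id] at this
  rw [this]
  change Points.schemeHomeo T _ = _
  congr 1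

/-- A quasi-compact sheaf, locally of finite type over an affine Noetherian scheme, whose structure morphism satisfies
DVR-existence has a closed map on points. -/
theorem isClosedMap_of_quasiCompact_dvrExistVC {P : Sp S} {T : Over S} [IsAffine T.left]
    [IsLocallyNoetherian T.left] (b : P ⟶ (yon S).obj T) (hq : IsQuasiCompactSp P)
    (hlft : LocP @LocallyOfFiniteType b) (he : DvrExistVC b) :
    IsClosedMap (Points.map b) := by
  obtain ⟨U, p, hpe, hps, hUc⟩ := hq
  have : CompactSpace ↥U.left := hUc
  obtain ⟨φ, hφ⟩ := (yon S).map_surjective (p ≫ b)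
  have hφlft : LocallyOfFiniteType φ.left :=
    hlft p (𝟙 _) φ hpe (AlgSp.repWith_id _ T) (by rw [Category.comp_id, hφ])
  have hsurj := surjective_ofPt_of_repWith_surjective hps
  intro C hC
  have key : Points.map b '' C = Points.schemeHomeo T '' (φ.left '' (Points.ofPt p ⁻¹' C)) := by
    have e1 : ∀ u, Points.schemeHomeo T (φ.left u) = Points.map b (Points.ofPt p u) := by
      intro u
      rw [Points.map_ofPt, ← hφ]
      have := ofPt_yon_map_comp φ (𝟙 _) u
      rw [Category.comp_id] at this
      exact this.symm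
    ext z
    constructor
    · rintro ⟨c, hc, rfl⟩
      obtain ⟨u, rfl⟩ := hsurj c
      exact ⟨φ.left u, ⟨u, hc, rfl⟩, e1 u⟩
    · rintro ⟨_, ⟨u, hu, rfl⟩, rfl⟩
      exact ⟨Points.ofPt p u, hu, (e1 u).symm⟩
  rw [key]
  refine (Points.schemeHomeo T).isClosedMap _ ?_
  exact isClosed_image_of_stableUnderSpecialization φ.left _ (hC.preimage (Points.continuous_ofPt p))
    (stableUnderSpecialization_image_of_dvrExistVC b he p hsurj φ hφ C hC)

/-- **Noetherian valuative criterion for universal closedness of algebraic spaces**: a morphism of finite type to a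
locally Noetherian algebraic space satisfying the existence part of the valuative criterion for discrete valuation
rings is universally closed. -/
theorem isUnivClosedMor_of_dvrExistVC {X Y : Sp S} (hX : IsAlgSpace X) (hY : IsAlgSpace Y) (f : X ⟶ Y)
    (hlft : LocP @LocallyOfFiniteType f) (hq : IsQuasiCompactMor f) (hN : IsLocNoethSp Y)
    (he : DvrExistVC f) : IsUnivClosedMor f := by
  obtain ⟨V, p, hpe, hps, hVN⟩ := hN
  have : IsLocallyNoetherian V.left := hVN
  apply isUnivClosedMor_of_forall_isClosedMap_affineSpace hX hY f hq p hpe hps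
  intro n P fst snd sq
  have hTN0 : IsLocallyNoetherian 𝔸(ULift.{u} (Fin n); V.left) :=
    LocallyOfFiniteType.isLocallyNoetherian (𝔸(ULift.{u} (Fin n); V.left) ↘ V.left)
  have hTN : IsLocallyNoetherian (AS (ULift.{u} (Fin n)) V).left := hTN0
  apply isClosedMap_map_of_affineOpens
  intro O
  let TO : Over S := Over.mk (O.1.ι ≫ (AS (ULift.{u} (Fin n)) V).hom)
  have hTOa : IsAffine TO.left := O.2
  have hTOn : IsLocallyNoetherian TO.left :=
    (inferInstance : IsLocallyNoetherian (O.1 : (AS (ULift.{u} (Fin n)) V).left.Opens))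
  have sqO := IsPullback.of_hasPullback snd
    (restrictChart (𝟙 ((yon S).obj (AS (ULift.{u} (Fin n)) V))) O.1)
  have big := (sqO.flip.paste_vert sq.flip).flip
  have hlft' := Groth.Agent.Lib.H86ZarGlue.descendsAlong_etCov_lft.{u}
  apply isClosedMap_of_quasiCompact_dvrExistVC (T := TO)
  · exact hq (IsAlgSpace.yon_obj TO) ((isQuasiCompactSp_yon_iff TO).2 inferInstance) _ _ _ big
  · exact locP_of_isPullback etLocalClass_lft hX hY (IsAlgSpace.yon_obj TO) big hlft
  · exact he.baseChange big

end Groth.Agent.Lib.H69DvrVC
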