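import Mathlib
import Groth.Prelude.Def_AlgSpMor5

/-!
# helper69: scheme-level lemmas for the refined valuative criterion
-/

set_option autoImplicit false
universe u

open CategoryTheory CategoryTheory.Limits AlgebraicGeometry IsLocalRing

namespace Groth.Agent.Lib.H69RefVal

/-- For a morphism of affine schemes, every point in the closure of the image is a specialization of a point of the
image. -/
theorem exists_specializes_of_mem_closure_range {U' M : Scheme.{u}} [IsAffine U'] [IsAffine M] (g : U' ⟶ M)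
    (w : M) (hw : w ∈ closure (Set.range g)) : ∃ u' : U', g u' ⤳ w := by
  let eU := U'.isoSpec
  let eM := M.isoSpec
  let g' : Spec Γ(U', ⊤) ⟶ Spec Γ(M, ⊤) := eU.inv ≫ g ≫ eM.hom
  obtain ⟨φ, hφ⟩ := Spec.map_surjective g'
  have hg' : ∀ q, g' q = eM.hom (g (eU.inv q)) := fun q => rfl
  have hw' : eM.hom w ∈ closure (Set.range g') := by
    have hcont : Continuous eM.hom := eM.hom.continuous
    have h1 : eM.hom w ∈ closure (eM.hom '' Set.range g) :=
      image_closure_subset_closure_image hcont ⟨w, hw, rfl⟩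
    refine closure_mono ?_ h1
    rintro _ ⟨_, ⟨u, rfl⟩, rfl⟩
    refine ⟨eU.hom u, ?_⟩
    rw [hg']
    congr 2
    change (eU.hom ≫ eU.inv) u = u
    rw [Iso.hom_inv_id]
    rfl
  rw [← hφ] at hw'
  have hcl := PrimeSpectrum.closure_range_comap φ.hom
  have hw'' : (eM.hom w : PrimeSpectrum Γ(M, ⊤)) ∈ PrimeSpectrum.zeroLocus (RingHom.ker φ.hom : Set Γ(M, ⊤)) := by
    rw [← hcl]
    exact hw'
  have hle : RingHom.ker φ.hom ≤ (eM.hom w : PrimeSpectrum Γ(M, ⊤)).asIdeal :=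
    (PrimeSpectrum.mem_zeroLocus _ _).1 hw''
  have hPprime : (eM.hom w : PrimeSpectrum Γ(M, ⊤)).asIdeal.IsPrime :=
    (eM.hom w : PrimeSpectrum Γ(M, ⊤)).isPrime
  obtain ⟨Q, -, hQ, hQle⟩ := Ideal.exists_ideal_comap_le_prime (f := φ.hom)
    (eM.hom w : PrimeSpectrum Γ(M, ⊤)).asIdeal (⊥ : Ideal Γ(U', ⊤)) (by
      rw [← RingHom.ker_eq_comap_bot]
      exact hle)
  let q : ↥(Spec Γ(U', ⊤)) := (⟨Q, hQ⟩ : PrimeSpectrum Γ(U', ⊤))
  refine ⟨eU.inv q, ?_⟩
  have h1 : g' q ⤳ eM.hom w := by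
    rw [← hφ]
    exact (PrimeSpectrum.le_iff_specializes _ _).1 hQle
  rw [hg'] at h1
  exact (eM.hom.homeomorph.isInducing.specializes_iff).1 h1

/-- A morphism from the spectrum of a local ring to a scheme factors through an affine open (the spectrum of its ring
of sections). -/
theorem exists_lift_affineOpen_of_isLocalRing {B : Type u} [CommRing B] [IsLocalRing B] {V : Scheme.{u}}
    (v : Spec (CommRingCat.of B) ⟶ V) :
    ∃ (V₀ : V.Opens) (hV₀ : IsAffineOpen V₀) (v₀ : Spec (CommRingCat.of B) ⟶ Spec Γ(V, V₀)),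
      v₀ ≫ hV₀.fromSpec = v := by
  let cB : ↥(Spec (CommRingCat.of B)) := (closedPoint B : PrimeSpectrum B)
  obtain ⟨V₀, hV₀, hx, -⟩ := TopologicalSpace.Opens.isBasis_iff_nbhd.1 V.isBasis_affineOpens
    (show v cB ∈ (⊤ : V.Opens) from trivial)
  have hV₀' : IsAffineOpen V₀ := hV₀
  have hrange : Set.range v ⊆ Set.range hV₀'.fromSpec := by
    rw [hV₀'.range_fromSpec]
    rintro _ ⟨y, rfl⟩
    have h1 : y ⤳ cB := IsLocalRing.specializes_closedPoint (R := B) y
    have h2 : v y ⤳ v cB := h1.map v.continuous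
    exact h2.mem_open V₀.isOpen hx
  exact ⟨V₀, hV₀', IsOpenImmersion.lift hV₀'.fromSpec v hrange, IsOpenImmersion.lift_fac _ _ _⟩

/-- Variant of `exists_lift_affineOpen_of_isLocalRing` for an object of `CommRingCat`. -/
theorem exists_lift_affineOpen_of_isLocalRing' (R : CommRingCat.{u}) [IsLocalRing R] {V : Scheme.{u}}
    (v : Spec R ⟶ V) :
    ∃ (V₀ : V.Opens) (hV₀ : IsAffineOpen V₀) (v₀ : Spec R ⟶ Spec Γ(V, V₀)),
      v₀ ≫ hV₀.fromSpec = v := by
  let cB : ↥(Spec R) := (closedPoint R : PrimeSpectrum R)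
  obtain ⟨V₀, hV₀, hx, -⟩ := TopologicalSpace.Opens.isBasis_iff_nbhd.1 V.isBasis_affineOpens
    (show v cB ∈ (⊤ : V.Opens) from trivial)
  have hV₀' : IsAffineOpen V₀ := hV₀
  have hrange : Set.range v ⊆ Set.range hV₀'.fromSpec := by
    rw [hV₀'.range_fromSpec]
    rintro _ ⟨y, rfl⟩
    have h1 : y ⤳ cB := IsLocalRing.specializes_closedPoint (R := R) y
    have h2 : v y ⤳ v cB := h1.map v.continuous
    exact h2.mem_open V₀.isOpen hx
  exact ⟨V₀, hV₀', IsOpenImmersion.lift hV₀'.fromSpec v hrange, IsOpenImmersion.lift_fac _ _ _⟩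

section DomExt

open AlgSp

variable {S : Scheme.{u}} {F G : Sp S} {f : F ⟶ G} {sq : ValSq f}

/-- `Spec A' ⟶ Spec A` over `S`. -/
noncomputable abbrev domJA (e : sq.DomExt) : e.ptA' ⟶ sq.ptA :=
  Over.homMk (Spec.map (CommRingCat.ofHom e.φ)) rfl

/-- `Spec K' ⟶ Spec A'` over `S`. -/
noncomputable abbrev domJ (e : sq.DomExt) : e.ptK' ⟶ e.ptA' :=
  Over.homMk (Spec.map (CommRingCat.ofHom (algebraMap e.A' e.K'))) rfl

/-- `Spec K' ⟶ Spec K` over `S`. -/
noncomputable abbrev domK (e : sq.DomExt) : e.ptK' ⟶ sq.ptK :=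
  Over.homMk (Spec.map (CommRingCat.ofHom e.ψ)) (by
    change Spec.map _ ≫ Spec.map _ ≫ _ = Spec.map _ ≫ Spec.map _ ≫ _
    rw [← Spec.map_comp_assoc, ← Spec.map_comp_assoc, ← CommRingCat.ofHom_comp,
      ← CommRingCat.ofHom_comp, e.comm])

theorem hasLift_iff (e : sq.DomExt) :
    e.HasLift ↔ ∃ l : (yon S).obj e.ptA' ⟶ F,
      (yon S).map (domJ e) ≫ l = (yon S).map (domK e) ≫ sq.top ∧
      l ≫ f = (yon S).map (domJA e) ≫ sq.bot := Iff.rfl

theorem domJ_comp_domJA (e : sq.DomExt) : domJ e ≫ domJA e = domK e ≫ sq.j := by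
  ext
  change Spec.map _ ≫ Spec.map _ = Spec.map _ ≫ Spec.map _
  rw [← Spec.map_comp, ← Spec.map_comp, ← CommRingCat.ofHom_comp, ← CommRingCat.ofHom_comp, e.comm]

end DomExt

end Groth.Agent.Lib.H69RefVal
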