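import Mathlib

open CategoryTheory CategoryTheory.Limits AlgebraicGeometry IsLocalRing

universe u

namespace Groth.Agent.Lib.H69ValRep

instance {R S : CommRingCat} (e : R ≅ S) : IsLocalHom e.hom.hom :=
  isLocalHom_of_isIso _

set_option backward.isDefEq.respectTransparency false in
/-- A scheme `V` over the spectrum of a valuation ring `R` with a `K`-point whose image specializes to a point over the
closed point of `R` has a section extending the `K`-point. -/
theorem exists_section_of_specializes {R K : Type u} [CommRing R] [IsDomain R] [ValuationRing R] [Field K]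
    [Algebra R K] [IsFractionRing R K]
    {V : Scheme.{u}} (π : V ⟶ Spec (.of R)) (lft : Spec (.of K) ⟶ V)
    (w : lft ≫ π = Spec.map (CommRingCat.ofHom (algebraMap R K)))
    (x : V) (η : ↥(Spec (CommRingCat.of K))) (h₁' : lft η ⤳ x) (h₂ : π x = closedPoint R) :
    ∃ l : Spec (.of R) ⟶ V, Spec.map (CommRingCat.ofHom (algebraMap R K)) ≫ l = lft ∧ l ≫ π = 𝟙 _ := by
  have : IsDomain (CommRingCat.of R) := ‹_›
  have : ValuationRing (CommRingCat.of R) := ‹_›
  let : Field (CommRingCat.of K) := ‹_›
  have h₁ : lft (closedPoint (CommRingCat.of K)) ⤳ x := by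
    have : Subsingleton ↥(Spec (CommRingCat.of K)) := (inferInstance : Subsingleton (PrimeSpectrum K))
    rwa [Subsingleton.elim (closedPoint (CommRingCat.of K)) η]
  let e : CommRingCat.of R ≅ (Spec <| .of R).presheaf.stalk (π x) :=
    (stalkClosedPointIso (.of R)).symm ≪≫
      (Spec <| .of R).presheaf.stalkCongr (.of_eq h₂.symm)
  let α := e.hom ≫ π.stalkMap x
  have : IsLocalHom e.hom.hom := isLocalHom_of_isIso e.hom
  have : IsLocalHom α.hom := inferInstanceAs
    (IsLocalHom ((π.stalkMap x).hom.comp e.hom.hom))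
  let β := V.presheaf.stalkSpecializes h₁ ≫ Scheme.stalkClosedPointTo lft
  have hαβ : α ≫ β = CommRingCat.ofHom (algebraMap R K) := by
    simp only [CommRingCat.coe_of, Iso.trans_hom, Iso.symm_hom, TopCat.Presheaf.stalkCongr_hom,
      Category.assoc, α, e, β, stalkClosedPointIso_inv, StructureSheaf.toStalk]
    change (Scheme.ΓSpecIso (.of R)).inv ≫ (Spec <| .of R).presheaf.germ _ _ _ ≫ _ = _
    simp only [TopCat.Presheaf.germ_stalkSpecializes_assoc, Scheme.Hom.germ_stalkMap_assoc]
    simp only [TopologicalSpace.Opens.map_top]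
    rw [Scheme.germ_stalkClosedPointTo lft ⊤ trivial]
    erw [← Scheme.Hom.comp_app_assoc lft π]
    rw [w]
    simp
  have hbij := (bijective_rangeRestrict_comp_of_valuationRing (R := R) (K := K) α.hom β.hom
    (CommRingCat.hom_ext_iff.mp hαβ))
  let φ : V.presheaf.stalk x ⟶ CommRingCat.of R := CommRingCat.ofHom <|
    (RingEquiv.ofBijective _ hbij).symm.toRingHom.comp β.hom.rangeRestrict
  have hαφ : α ≫ φ = 𝟙 _ := by ext x; exact (RingEquiv.ofBijective _ hbij).symm_apply_apply x
  have hαφ' : π.stalkMap x ≫ φ = e.inv := by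
    rw [← cancel_epi e.hom, ← Category.assoc, hαφ, e.hom_inv_id]
  have hφβ : φ ≫ CommRingCat.ofHom (algebraMap R K) = β :=
    hαβ ▸ CommRingCat.hom_ext (RingHom.ext fun x ↦ congr_arg Subtype.val
      ((RingEquiv.ofBijective _ hbij).apply_symm_apply (β.hom.rangeRestrict x)))
  refine ⟨Spec.map φ ≫ V.fromSpecStalk _, ?_, ?_⟩
  · simp only [← Spec.map_comp_assoc, Category.assoc, hφβ]
    simp only [Spec.map_comp, Category.assoc, Scheme.SpecMap_stalkMap_fromSpecStalk,
      Scheme.SpecMap_stalkSpecializes_fromSpecStalk_assoc, β]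
    rw [Scheme.SpecMap_stalkSpecializes_fromSpecStalk h₁]
    exact Scheme.Spec_stalkClosedPointTo_fromSpecStalk lft
  · simp only [Category.assoc]
    rw [← Scheme.SpecMap_stalkMap_fromSpecStalk, ← Spec.map_comp_assoc, hαφ']
    simp only [Iso.trans_inv, TopCat.Presheaf.stalkCongr_inv, Iso.symm_inv, Spec.map_comp,
      Category.assoc, e]
    rw [Scheme.SpecMap_stalkSpecializes_fromSpecStalk]
    rw [← Spec_stalkClosedPointIso, ← Spec.map_comp,
      Iso.inv_hom_id, Spec.map_id]

end Groth.Agent.Lib.H69ValRep
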