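import Groth.Agent.Lib.H69QuotPres
import Groth.Agent.Lib.H69InvSub
import Groth.Agent.Lib.H86ZarLocBase

/-!
# helper69: descent of open immersions along an fppf-epimorphism from a scheme; open immersions of quotient sheaves

* `exists_factor_of_sieve`, `exists_factor_of_cover`, `exists_factor_of_fppf`: a point of a sheaf `F` that factors
  locally through a subsheaf `j : I ⟶ F` factors through it.
* `eq_of_sieve`: sheaves are separated.
* `repWith_isOpenImmersion_of_chart`: a monomorphism `j : I ⟶ F` of fppf sheaves whose base change along an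
  epimorphism `h_U ⟶ F` from a scheme is (representable by) an open immersion `W ⟶ U` is representable by open
  immersions. (No representability assumption on `F` or on `h_U ⟶ F`.)
-/

set_option autoImplicit false
universe u

open CategoryTheory CategoryTheory.Limits AlgebraicGeometry Opposite

namespace Groth.Agent.Lib.H69QuotOpen

open AlgSp Groth.Agent.Lib.H69AlgSp

variable {S : Scheme.{u}}

/-- A point of `F` which factors through the subsheaf `I` on a covering sieve factors through `I`. -/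
theorem exists_factor_of_sieve {I F : Sp S} (j : I ⟶ F) [Mono j] {T : Over S} (x : (yon S).obj T ⟶ F)
    (R : Sieve T) (hR : R ∈ J S T)
    (h : ∀ ⦃T₁ : Over S⦄ (φ : T₁ ⟶ T), R φ → ∃ y : (yon S).obj T₁ ⟶ I, y ≫ j = (yon S).map φ ≫ x) :
    ∃ y : (yon S).obj T ⟶ I, y ≫ j = x := by
  have sqQ := IsPullback.of_hasPullback j x
  have hmono : Mono (pullback.snd j x) := sqQ.mono_snd_of_mono
  have hsurj : Sheaf.IsLocallySurjective (pullback.snd j x) := by
    refine Groth.Agent.Lib.H69InvSub.isLocallySurjective_of_sieve_lift _ ?_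
    intro T' z'
    obtain ⟨c, rfl⟩ := (yon S).map_surjective z'
    refine ⟨R.pullback c, (J S).pullback_stable c hR, ?_⟩
    intro T₁ φ hφ
    obtain ⟨y, hy⟩ := h (φ ≫ c) hφ
    refine ⟨pullback.lift y ((yon S).map (φ ≫ c)) hy, ?_⟩
    rw [pullback.lift_snd, Functor.map_comp]
  have hepi : Epi (pullback.snd j x) := (Sheaf.isLocallySurjective_iff_epi _).1 hsurj
  have hiso : IsIso (pullback.snd j x) := isIso_of_mono_of_epi _
  exact ⟨inv (pullback.snd j x) ≫ pullback.fst j x, by
    rw [Category.assoc, pullback.condition, IsIso.inv_hom_id_assoc]⟩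

/-- The sieve of arrows along which `x` factors through `j`. -/
def factorSieve {I F : Sp S} (j : I ⟶ F) {T : Over S} (x : (yon S).obj T ⟶ F) : Sieve T where
  arrows T₁ φ := ∃ y : (yon S).obj T₁ ⟶ I, y ≫ j = (yon S).map φ ≫ x
  downward_closed := by
    rintro T₁ T₂ φ ⟨y, hy⟩ g
    exact ⟨(yon S).map g ≫ y, by rw [Category.assoc, hy, Functor.map_comp, Category.assoc]⟩

theorem exists_factor_of_cover {I F : Sp S} (j : I ⟶ F) [Mono j] {T : Over S} (x : (yon S).obj T ⟶ F)
    (Rc : Presieve T.left) (hRc : Rc ∈ Scheme.fppfPrecoverage T.left)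
    (h : ∀ ⦃T₁ : Scheme.{u}⦄ (g : T₁ ⟶ T.left), Rc g → ∃ y : (yon S).obj (Over.mk (g ≫ T.hom)) ⟶ I,
        y ≫ j = (yon S).map (Over.homMk g : Over.mk (g ≫ T.hom) ⟶ T) ≫ x) :
    ∃ y : (yon S).obj T ⟶ I, y ≫ j = x := by
  refine exists_factor_of_sieve j x (factorSieve j x) ?_ (fun _ φ hφ => hφ)
  rw [GrothendieckTopology.mem_over_iff]
  refine GrothendieckTopology.superset_covering _ ?_ (Precoverage.generate_mem_toGrothendieck hRc)
  rw [Sieve.generate_le_iff]
  intro T₁ g hg
  rw [Sieve.overEquiv_iff]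
  exact h g hg

theorem exists_factor_of_fppf {I F : Sp S} (j : I ⟶ F) [Mono j] {T T' : Over S} (x : (yon S).obj T ⟶ F)
    (c : T' ⟶ T) [Flat c.left] [LocallyOfFinitePresentation c.left] [Surjective c.left]
    (y : (yon S).obj T' ⟶ I) (hy : y ≫ j = (yon S).map c ≫ x) :
    ∃ y : (yon S).obj T ⟶ I, y ≫ j = x :=
  exists_factor_of_sieve j x (factorSieve j x) (mem_J_of_fppf c _ ⟨y, hy⟩) (fun _ φ hφ => hφ)

/-- Sheaves are separated. -/
theorem eq_of_sieve {G : Sp S} {T : Over S} (a b : (yon S).obj T ⟶ G) (R : Sieve T) (hR : R ∈ J S T)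
    (h : ∀ ⦃T₁ : Over S⦄ (φ : T₁ ⟶ T), R φ → (yon S).map φ ≫ a = (yon S).map φ ≫ b) : a = b := by
  obtain ⟨y, hy⟩ := exists_factor_of_sieve (equalizer.ι a b) (𝟙 _) R hR (fun T₁ φ hφ =>
    ⟨equalizer.lift ((yon S).map φ) (h φ hφ), by rw [equalizer.lift_ι, Category.comp_id]⟩)
  calc a = (y ≫ equalizer.ι a b) ≫ a := by rw [hy, Category.id_comp]
    _ = (y ≫ equalizer.ι a b) ≫ b := by rw [Category.assoc, equalizer.condition, Category.assoc]
    _ = b := by rw [hy, Category.id_comp]

/-- Points of fibre products of schemes over `S`. -/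
theorem exists_point_pullback {T₁ T₂ T : Over S} (c₁ : T₁ ⟶ T) (c₂ : T₂ ⟶ T) (y₁ : ↥T₁.left) (y₂ : ↥T₂.left)
    (h : c₁.left y₁ = c₂.left y₂) :
    ∃ η : ↥(pullback c₁ c₂).left, (pullback.fst c₁ c₂).left η = y₁ ∧ (pullback.snd c₁ c₂).left η = y₂ :=
  Scheme.exists_preimage_of_isPullback
    ((IsPullback.of_hasPullback c₁ c₂).map (Over.forget S)) y₁ y₂ h

section Chart

variable {I F : Sp S} (j : I ⟶ F) [Mono j] {U W : Over S} (p : (yon S).obj U ⟶ F)
  (w : W ⟶ U) [IsOpenImmersion w.left] (fst : (yon S).obj W ⟶ I)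
  (sq : IsPullback fst ((yon S).map w) j p)

include sq in
theorem factor_iff_range {T : Over S} (v : T ⟶ U) :
    (∃ y : (yon S).obj T ⟶ I, y ≫ j = (yon S).map v ≫ p) ↔ Set.range v.left ⊆ Set.range w.left := by
  constructor
  · rintro ⟨y, hy⟩
    obtain ⟨l, hl⟩ := (yon S).map_surjective (sq.lift y ((yon S).map v) hy)
    have e : l ≫ w = v := by
      apply (yon S).map_injective
      rw [Functor.map_comp, hl, sq.lift_snd]
    rintro _ ⟨x, rfl⟩
    refine ⟨l.left x, ?_⟩
    rw [← Scheme.Hom.comp_apply, ← Over.comp_left, e]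
  · intro h
    let l₀ : T.left ⟶ W.left := IsOpenImmersion.lift w.left v.left h
    have hl₀ : l₀ ≫ w.left = v.left := IsOpenImmersion.lift_fac _ _ _
    let l : T ⟶ W := Over.homMk l₀ (by
      rw [← Over.w w, ← Category.assoc, hl₀, Over.w v])
    have e : l ≫ w = v := by
      ext
      exact hl₀
    refine ⟨(yon S).map l ≫ fst, ?_⟩
    rw [Category.assoc, sq.w, ← Category.assoc, ← Functor.map_comp, e]

include sq in
/-- Two maps to `U` with the same image in `F` hit `W` at the same points. -/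
theorem transfer {Q : Over S} (v₁ v₂ : Q ⟶ U) (h : (yon S).map v₁ ≫ p = (yon S).map v₂ ≫ p) (η : ↥Q.left)
    (h2 : v₂.left η ∈ Set.range w.left) : v₁.left η ∈ Set.range w.left := by
  let O : Q.left.Opens := v₂.left ⁻¹ᵁ w.left.opensRange
  have hη : η ∈ O := h2
  let Oo : Over S := Over.mk (O.ι ≫ Q.hom)
  let ιO : Oo ⟶ Q := Over.homMk O.ι rfl
  have h1 : Set.range (ιO ≫ v₂).left ⊆ Set.range w.left := by
    rintro _ ⟨x, rfl⟩
    have hx : O.ι x ∈ O := by
      have := x.2
      simp
    exact hx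
  obtain ⟨y, hy⟩ := (factor_iff_range j p w fst sq (ιO ≫ v₂)).2 h1
  have hy' : y ≫ j = (yon S).map (ιO ≫ v₁) ≫ p := by
    rw [hy, Functor.map_comp, Functor.map_comp, Category.assoc, Category.assoc, h]
  have h3 := (factor_iff_range j p w fst sq (ιO ≫ v₁)).1 ⟨y, hy'⟩
  have : v₁.left η = (ιO ≫ v₁).left ⟨η, hη⟩ := rfl
  rw [this]
  exact h3 ⟨_, rfl⟩

include sq in
/-- Descent of open immersions along an epimorphism from a scheme. -/
theorem repWith_isOpenImmersion_of_chart [Sheaf.IsLocallySurjective p] : RepWith @IsOpenImmersion j := by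
  refine Groth.Agent.Lib.H86ZarGlue.repWith_of_forall_affine_isPullback j @IsOpenImmersion fun T _ z => ?_
  -- the open subset
  let Vset : Set ↥T.left := {x | ∃ (T₁ : Over S) (c : T₁ ⟶ T) (v : T₁ ⟶ U) (y₁ : ↥T₁.left),
    (yon S).map v ≫ p = (yon S).map c ≫ z ∧ c.left y₁ = x ∧ v.left y₁ ∈ Set.range w.left}
  obtain ⟨Rc, hRc, hlift⟩ := exists_cover_lift p z
  have hRc' : Rc ∈ Scheme.precoverage (@Flat ⊓ @LocallyOfFinitePresentation) T.left := hRc
  obtain ⟨hsurj, hprop⟩ := hRc'
  rw [Presieve.mem_comap_jointlySurjectivePrecoverage_iff] at hsurj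
  have hopen : IsOpen Vset := by
    rw [isOpen_iff_forall_mem_open]
    rintro x ⟨T₁, c, v, y₁, hv, hc, hw⟩
    obtain ⟨T₀, g, hg, y, hy⟩ := hsurj x
    obtain ⟨yl, hyl⟩ := hlift g hg
    obtain ⟨vg, rfl⟩ := (yon S).map_surjective yl
    let g' : Over.mk (g ≫ T.hom) ⟶ T := Over.homMk g
    have hflat : Flat g := (hprop hg).1
    have hlfp : LocallyOfFinitePresentation g := (hprop hg).2
    have hvg : vg.left y ∈ Set.range w.left := by
      obtain ⟨η, hη1, hη2⟩ := exists_point_pullback g' c y y₁ (by rw [hc]; exact hy)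
      have h1 : (yon S).map (pullback.fst g' c ≫ vg) ≫ p = (yon S).map (pullback.snd g' c ≫ v) ≫ p := by
        rw [Functor.map_comp, Functor.map_comp, Category.assoc, Category.assoc, hyl, hv, ← Category.assoc,
          ← Category.assoc, ← Functor.map_comp, ← Functor.map_comp, pullback.condition]
      have h2 : (pullback.snd g' c ≫ v).left η ∈ Set.range w.left := by
        change v.left ((pullback.snd g' c).left η) ∈ _
        rw [hη2]
        exact hw
      have h3 := transfer j p w fst sq _ _ h1 η h2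
      change vg.left ((pullback.fst g' c).left η) ∈ _ at h3
      rwa [hη1] at h3
    refine ⟨g '' (vg.left ⁻¹' Set.range w.left), ?_, ?_, ?_⟩
    · rintro _ ⟨y', hy', rfl⟩
      exact ⟨_, g', vg, y', hyl, rfl, hy'⟩
    · exact g.isOpenMap _ (w.left.isOpenEmbedding.isOpen_range.preimage vg.left.continuous)
    · exact ⟨y, hvg, hy⟩
  let V : T.left.Opens := ⟨Vset, hopen⟩
  have star : ∀ {T'' : Over S} (a : T'' ⟶ T), (∀ x'' : ↥T''.left, a.left x'' ∈ Vset) ↔
      ∃ b : (yon S).obj T'' ⟶ I, b ≫ j = (yon S).map a ≫ z := by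
    intro T'' a
    obtain ⟨Rc2, hRc2, hlift2⟩ := exists_cover_lift p ((yon S).map a ≫ z)
    constructor
    · intro hV
      refine exists_factor_of_cover j _ Rc2 hRc2 ?_
      intro T₁ g hg
      obtain ⟨yl, hyl⟩ := hlift2 g hg
      obtain ⟨vg, rfl⟩ := (yon S).map_surjective yl
      let g' : Over.mk (g ≫ T''.hom) ⟶ T'' := Over.homMk g
      have hr : Set.range vg.left ⊆ Set.range w.left := by
        rintro _ ⟨ζ, rfl⟩
        obtain ⟨T₂, c, v, y₁, hv, hc, hw⟩ := hV (g ζ)
        obtain ⟨η, hη1, hη2⟩ := exists_point_pullback (g' ≫ a) c ζ y₁ (by rw [hc]; rfl)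
        have h1 : (yon S).map (pullback.fst (g' ≫ a) c ≫ vg) ≫ p =
            (yon S).map (pullback.snd (g' ≫ a) c ≫ v) ≫ p := by
          rw [Functor.map_comp, Functor.map_comp, Category.assoc, Category.assoc, hyl, hv, ← Category.assoc,
            ← Category.assoc, ← Category.assoc, ← Functor.map_comp, ← Functor.map_comp, ← Functor.map_comp,
            Category.assoc, pullback.condition]
        have h2 : (pullback.snd (g' ≫ a) c ≫ v).left η ∈ Set.range w.left := by
          change v.left ((pullback.snd (g' ≫ a) c).left η) ∈ _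
          rw [hη2]
          exact hw
        have h3 := transfer j p w fst sq _ _ h1 η h2
        change vg.left ((pullback.fst (g' ≫ a) c).left η) ∈ _ at h3
        rwa [hη1] at h3
      obtain ⟨y, hy⟩ := (factor_iff_range j p w fst sq vg).2 hr
      exact ⟨y, by rw [hy, hyl]⟩
    · rintro ⟨b, hb⟩ x''
      have hRc2' : Rc2 ∈ Scheme.precoverage (@Flat ⊓ @LocallyOfFinitePresentation) T''.left := hRc2
      obtain ⟨hsurj2, -⟩ := hRc2'
      rw [Presieve.mem_comap_jointlySurjectivePrecoverage_iff] at hsurj2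
      obtain ⟨T₁, g, hg, ζ, hζ⟩ := hsurj2 x''
      obtain ⟨yl, hyl⟩ := hlift2 g hg
      obtain ⟨vg, rfl⟩ := (yon S).map_surjective yl
      let g' : Over.mk (g ≫ T''.hom) ⟶ T'' := Over.homMk g
      refine ⟨_, g' ≫ a, vg, ζ, ?_, ?_, ?_⟩
      · rw [hyl, Functor.map_comp, Category.assoc]
      · exact congrArg (fun t => a.left t) hζ
      · exact (factor_iff_range j p w fst sq vg).1
          ⟨(yon S).map g' ≫ b, by rw [Category.assoc, hb, hyl]⟩ ⟨ζ, rfl⟩
  let Vo : Over S := Over.mk (V.ι ≫ T.hom)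
  let ιV : Vo ⟶ T := Over.homMk V.ι rfl
  have hιV : ∀ x : ↥Vo.left, ιV.left x ∈ Vset := fun x => x.2
  obtain ⟨b₀, hb₀⟩ := (star ιV).1 hιV
  refine ⟨Vo, ιV, b₀, ?_, (inferInstance : IsOpenImmersion V.ι)⟩
  have hmono : Mono ιV := by
    have : Mono ιV.left := (inferInstance : Mono V.ι)
    exact mono_over_of_mono_left ιV
  refine isPullback_of_yon hb₀ ?_ ?_
  · intro T'' q q' _ h2
    obtain ⟨l, rfl⟩ := (yon S).map_surjective q
    obtain ⟨l', rfl⟩ := (yon S).map_surjective q'
    rw [← Functor.map_comp, ← Functor.map_comp] at h2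
    rw [(cancel_mono ιV).1 ((yon S).map_injective h2)]
  · intro T'' x y hxy
    obtain ⟨a, rfl⟩ := (yon S).map_surjective y
    have hV := (star a).2 ⟨x, hxy⟩
    have hr : Set.range a.left ⊆ Set.range V.ι := by
      rintro _ ⟨x'', rfl⟩
      rw [Scheme.Opens.range_ι]
      exact hV x''
    let l₀ : T''.left ⟶ Vo.left := IsOpenImmersion.lift V.ι a.left hr
    have hl₀ : l₀ ≫ V.ι = a.left := IsOpenImmersion.lift_fac _ _ _
    let l : T'' ⟶ Vo := Over.homMk l₀ (by
      change l₀ ≫ V.ι ≫ T.hom = T''.hom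
      rw [← Category.assoc, hl₀, Over.w a])
    have e : l ≫ ιV = a := by
      ext
      exact hl₀
    refine ⟨(yon S).map l, ?_, ?_⟩
    · rw [← cancel_mono j, Category.assoc, hb₀, ← Category.assoc, ← Functor.map_comp, e, hxy]
    · rw [← Functor.map_comp, e]

end Chart

end Groth.Agent.Lib.H69QuotOpen
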