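import Groth.Agent.Lib.H69SchImageImm
import Groth.Agent.Lib.DenseSpecializes
import Mathlib.AlgebraicGeometry.ValuativeCriterion

/-!
# helper69: points of the scheme theoretic image of a quasi-compact morphism are reached by valuation rings
-/

set_option autoImplicit false
universe u

open CategoryTheory CategoryTheory.Limits AlgebraicGeometry Opposite IsLocalRing

namespace Groth.Agent.Lib.H69SchImageVal

open AlgSp Groth.Agent.Lib.H69AlgSp Groth.Agent.Lib.H69QuotOpen Groth.Agent.Lib.H69SchImage
  Groth.Agent.Lib.H69SchImageQC Groth.Agent.Lib.H69NiceChart Groth.Agent.Lib.H69SchImageImm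

variable {S : Scheme.{u}}

/-- A specialization `f x' ⤳ y` is realized by a valuation subring of `κ(x')`. -/
theorem exists_valuationSubring_of_map_specializes {X Y : Scheme.{u}} (f : X ⟶ Y) {x' : X} {y : Y}
    (h : f x' ⤳ y) :
    ∃ (A : ValuationSubring (X.residueField x')) (l : Spec (CommRingCat.of A) ⟶ Y),
      l (closedPoint A) = y ∧
      Spec.map (CommRingCat.ofHom (algebraMap A (X.residueField x'))) ≫ l =
        X.fromSpecResidueField x' ≫ f := by
  let ρ : Y.presheaf.stalk y ⟶ X.residueField x' :=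
    Y.presheaf.stalkSpecializes h ≫ f.stalkMap x' ≫ X.residue x'
  obtain ⟨A, hA, hA_local⟩ := exists_factor_valuationRing ρ.hom
  let ρA : Y.presheaf.stalk y ⟶ .of A := CommRingCat.ofHom (ρ.hom.codRestrict _ hA)
  have w : X.fromSpecResidueField x' ≫ f =
      Spec.map (CommRingCat.ofHom (algebraMap A (X.residueField x'))) ≫
        Spec.map ρA ≫ Y.fromSpecStalk y := by
    rw [Scheme.fromSpecResidueField, Category.assoc, ← Scheme.SpecMap_stalkMap_fromSpecStalk,
      ← Scheme.SpecMap_stalkSpecializes_fromSpecStalk h]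
    simp_rw [← Spec.map_comp_assoc]
    rfl
  refine ⟨A, Spec.map ρA ≫ Y.fromSpecStalk y, ?_, w.symm⟩
  have : Spec.map ρA (closedPoint A) = closedPoint (Y.presheaf.stalk y) :=
    comap_closedPoint (S := A) (ρ.hom.codRestrict A.toSubring hA)
  rw [Scheme.Hom.comp_apply, this, Y.fromSpecStalk_closedPoint]

/-- The same with the fraction field of the valuation ring. -/
theorem exists_valuationRing_of_map_specializes {X Y : Scheme.{u}} (f : X ⟶ Y) {x' : X} {y : Y}
    (h : f x' ⤳ y) :
    ∃ (A : Type u) (_ : CommRing A) (_ : IsDomain A) (_ : ValuationRing A)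
      (l : Spec (CommRingCat.of A) ⟶ Y) (k : Spec (CommRingCat.of (FractionRing A)) ⟶ X),
      l (closedPoint A) = y ∧
      k ≫ f = Spec.map (CommRingCat.ofHom (algebraMap A (FractionRing A))) ≫ l := by
  obtain ⟨A, l, hl, hw⟩ := exists_valuationSubring_of_map_specializes f h
  let e : FractionRing A ≃ₐ[A] X.residueField x' := FractionRing.algEquiv A (X.residueField x')
  refine ⟨A, inferInstance, inferInstance, inferInstance, l,
    Spec.map (CommRingCat.ofHom (e.symm : X.residueField x' →+* FractionRing A)) ≫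
      X.fromSpecResidueField x', hl, ?_⟩
  rw [Category.assoc, ← hw, ← Category.assoc, ← Spec.map_comp]
  congr 2
  ext a
  change (e.symm (algebraMap A (X.residueField x') a)) = algebraMap A (FractionRing A) a
  exact e.symm.commutes a

/-- A quasi-compact morphism factoring through a closed subscheme with the same kernel has trivial kernel
into it. -/
theorem ker_eq_bot_of_ker_eq {A W V : Scheme.{u}} (a : A ⟶ V) [QuasiCompact a]
    (w : W ⟶ V) [IsClosedImmersion w] (a' : A ⟶ W) (h : a' ≫ w = a) (hk : w.ker = a.ker) :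
    a'.ker = ⊥ := by
  have hk' : w.ker = a.imageι.ker := by
    rw [hk]
    exact (Scheme.IdealSheafData.ker_subschemeι _).symm
  let e : W ⟶ a.image := IsClosedImmersion.lift a.imageι w hk'.ge
  have he : e ≫ a.imageι = w := IsClosedImmersion.lift_fac _ _ _
  have hiso : IsIso e := IsClosedImmersion.isIso_of_ker_eq w a.imageι e he hk'
  have h1 : a' ≫ e = a.toImage := by
    rw [← cancel_mono a.imageι, Category.assoc, he, h, a.toImage_imageι]
  have h2 : a' = a.toImage ≫ inv e := by rw [← h1, Category.assoc, IsIso.hom_inv_id, Category.comp_id]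
  rw [h2, Scheme.Hom.ker_comp, Groth.Agent.Lib.H69KerFlat.ker_toImage_eq_bot, Scheme.IdealSheafData.map_bot]
  exact Scheme.Hom.ker_eq_bot_of_isIso _

/-- Every point of the scheme theoretic image of a quasi-compact morphism is reached by a valuation ring whose
generic point lifts to the source. -/
theorem exists_valuationRing_to_schImage {X Y Z : Sp S} (hY : IsAlgSpace Y) (f : X ⟶ Y) (i : Z ⟶ Y)
    (hq : IsQuasiCompactMor f) (hZ : IsSchImage f i) (z : Points Z) :
    ∃ (A : Type u) (_ : CommRing A) (_ : IsDomain A) (_ : ValuationRing A) (str : Spec (CommRingCat.of A) ⟶ S)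
      (a : (yon S).obj (Over.mk str) ⟶ Z)
      (x : (yon S).obj (Over.mk (Spec.map (CommRingCat.ofHom (algebraMap A (FractionRing A))) ≫ str)) ⟶ X),
      Points.ofPt a (IsLocalRing.closedPoint A) = z ∧
      x ≫ f = (yon S).map (Over.homMk (Spec.map (CommRingCat.ofHom (algebraMap A (FractionRing A)))) rfl) ≫
        a ≫ i := by
  obtain ⟨V, p, A₀, xA, a, hpe, hps, cc, hqc⟩ := exists_nice_chart hY f hq
  obtain ⟨W, w, fstW, sqW⟩ := hZ.1.1 p
  have hwC : IsClosedImmersion w.left := hZ.1.2 p fstW w sqW
  have hker : w.left.ker = a.left.ker := ker_eq_of_isSchImage hY f i hZ p hpe hps xA a cc w fstW sqW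
  obtain ⟨f', hf'⟩ := hZ.2.1
  obtain ⟨a', ha'⟩ := (yon S).map_surjective (sqW.lift (xA ≫ f') ((yon S).map a) (by
    rw [Category.assoc, hf', cc.w]))
  have ha'w : a' ≫ w = a := (yon S).map_injective (by rw [Functor.map_comp, ha', sqW.lift_snd])
  have ha'w' : a'.left ≫ w.left = a.left := by rw [← Over.comp_left, ha'w]
  have hbot : a'.left.ker = ⊥ := ker_eq_bot_of_ker_eq a.left w.left a'.left ha'w' hker
  have hqa' : QuasiCompact a'.left := by
    have : QuasiCompact (a'.left ≫ w.left) := by rw [ha'w']; exact hqc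
    exact QuasiCompact.of_comp a'.left w.left
  have hdom : IsSchemeTheoreticallyDominant a'.left := ⟨hbot⟩
  have hd : DenseRange a'.left := a'.left.denseRange
  have hfs : RepWith @Surjective fstW := Groth.Agent.Lib.AlgSpBasic.repWith_fst_of_isPullback _ sqW hps
  obtain ⟨w₀, rfl⟩ := Groth.Agent.Lib.AlgSpQC.surjective_ofPt_of_repWith_surjective hfs z
  obtain ⟨α, hα⟩ := Groth.Agent.Lib.DenseSpecializes.exists_specializes_of_denseRange a'.left hd w₀
  obtain ⟨R, hR1, hR2, hR3, l, k, hl, hk⟩ := exists_valuationRing_of_map_specializes a'.left hα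
  let str : Spec (CommRingCat.of R) ⟶ S := l ≫ W.hom
  let lO : Over.mk str ⟶ W := Over.homMk l rfl
  have hkw : k ≫ A₀.hom = Spec.map (CommRingCat.ofHom (algebraMap R (FractionRing R))) ≫ str := by
    rw [← Over.w a', ← Category.assoc, hk, Category.assoc]
  let kO : Over.mk (Spec.map (CommRingCat.ofHom (algebraMap R (FractionRing R))) ≫ str) ⟶ A₀ :=
    Over.homMk k hkw
  let gK : Over.mk (Spec.map (CommRingCat.ofHom (algebraMap R (FractionRing R))) ≫ str) ⟶ Over.mk str :=
    Over.homMk (Spec.map (CommRingCat.ofHom (algebraMap R (FractionRing R)))) rfl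
  have hkO : kO ≫ a' = gK ≫ lO := by
    ext
    exact hk
  refine ⟨R, hR1, hR2, hR3, str, (yon S).map lO ≫ fstW, (yon S).map kO ≫ xA, ?_, ?_⟩
  · rw [Groth.Agent.Lib.AlgSpPts66.ofPt_yonMap_comp]
    change Points.ofPt fstW (l (closedPoint R)) = _
    rw [hl]
  · change _ = (yon S).map gK ≫ _
    rw [Category.assoc, cc.w, ← ha'w, Category.assoc, sqW.w, Functor.map_comp,
      ← Category.assoc ((yon S).map kO), ← Category.assoc ((yon S).map kO), ← Functor.map_comp, hkO,
      Functor.map_comp, Category.assoc, Category.assoc]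

end Groth.Agent.Lib.H69SchImageVal
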