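import Groth.Agent.Lib.H69ValSep1
import Groth.Agent.Lib.StDominant27
import Groth.Agent.Lib.H69SchImageVal
import Groth.Agent.Lib.AlgSpValuative
import Groth.Agent.Lib.AlgSpProper
import Groth.Agent.Lib.GrpFieldSep46b
import Groth.Agent.Lib.AlgSpFpqcIso
import Groth.Agent.Lib.H69InvSub
import Groth.Agent.Lib.H69QuotOpen
import Groth.Agent.Lib.H69AlgSpMor

/-!
# helper69: the valuative criterion for separated morphisms of algebraic spaces, without extensions

`exists_section_of_separated`: a section over the generic point of a valuation ring of a separated morphism to its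
spectrum extends to a section as soon as some faithfully flat-like test scheme lifts compatibly.  The proof takes the
scheme theoretic image `Z` of the generic section, shows that `Z` is flat over the valuation ring (charts inject into
algebras over the fraction field), that `Z ⟶ Spec A` is a monomorphism (flat base change of scheme theoretic dominance
on kernel pairs) and surjective, hence an isomorphism by fpqc descent of isomorphisms.
-/

set_option autoImplicit false
universe u

open CategoryTheory CategoryTheory.Limits AlgebraicGeometry Opposite IsLocalRing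

namespace Groth.Agent.Lib.H69ValSep

open AlgSp Groth.Agent.Lib.H69AlgSp Groth.Agent.Lib.H69QuotOpen Groth.Agent.Lib.H69SchImage
  Groth.Agent.Lib.H69SchImageQC Groth.Agent.Lib.H69SchImageImm Groth.Agent.Lib.H69SchImageVal

variable {S : Scheme.{u}}

/-- A morphism `l' : h_{T'} ⟶ Xa` whose restriction along a scheme theoretically dominant `j' : TK' ⟶ T'`
factors through the closed subspace `i : Z ⟶ Xa` factors through `i`. -/
theorem exists_factor_of_dominant {Xa Z : Sp S} (i : Z ⟶ Xa) (hi : RepWith @IsClosedImmersion i)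
    {T' TK' : Over S} (j' : TK' ⟶ T') [IsSchemeTheoreticallyDominant j'.left]
    (l' : (yon S).obj T' ⟶ Xa) (s : (yon S).obj TK' ⟶ Z) (hs : s ≫ i = (yon S).map j' ≫ l') :
    ∃ m : (yon S).obj T' ⟶ Z, m ≫ i = l' := by
  obtain ⟨E, e, fstE, sqE⟩ := hi.1 l'
  have heC : IsClosedImmersion e.left := hi.2 l' fstE e sqE
  obtain ⟨d', hd'1, hd'2⟩ := exists_lift_yon sqE s ((yon S).map j') hs
  have hd' : d' ≫ e = j' := (yon S).map_injective (by rw [Functor.map_comp, hd'2])
  have hd'l : d'.left ≫ e.left = j'.left := by rw [← Over.comp_left, hd']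
  have hiso : IsIso e.left := isIso_of_dominant_factor e.left j'.left d'.left hd'l
  have hisoO : IsIso e := by
    have : IsIso ((Over.forget S).map e) := hiso
    exact isIso_of_reflects_iso e (Over.forget S)
  refine ⟨(yon S).map (inv e) ≫ fstE, ?_⟩
  rw [Category.assoc, sqE.w, ← Category.assoc, ← Functor.map_comp, IsIso.inv_hom_id,
    CategoryTheory.Functor.map_id, Category.id_comp]

/-- Charts of the scheme theoretic image `Z` of a quasi-compact `σ : h_{TK} ⟶ Xa`: over an etale surjective chart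
`c : h_V ⟶ Xa`, the chart `W = Z ×_{Xa} V` of `Z` receives a quasi-compact scheme theoretically dominant morphism from
the chart `A₀ = TK ×_{Xa} V` of `TK`. -/
theorem exists_dominant_chart {Xa Z : Sp S} (hXa : IsAlgSpace Xa) {TK : Over S}
    (σ : (yon S).obj TK ⟶ Xa) (hσ : RepWith @QuasiCompact σ) (i : Z ⟶ Xa) (hZ : IsSchImage σ i)
    (s' : (yon S).obj TK ⟶ Z) (hs' : s' ≫ i = σ) {V : Over S} (c : (yon S).obj V ⟶ Xa)
    (hce : RepWith @Etale c) (hcs : RepWith @Surjective c) :
    ∃ (W A₀ : Over S) (w : W ⟶ V) (fstW : (yon S).obj W ⟶ Z) (uA : A₀ ⟶ TK) (a' : A₀ ⟶ W),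
      IsPullback fstW ((yon S).map w) i c ∧ QuasiCompact a'.left ∧
      IsSchemeTheoreticallyDominant a'.left ∧ Etale uA.left ∧
      (yon S).map a' ≫ fstW = (yon S).map uA ≫ s' := by
  obtain ⟨W, w, fstW, sqW⟩ := hZ.1.1 c
  have hwC : IsClosedImmersion w.left := hZ.1.2 c fstW w sqW
  obtain ⟨A₀, a, fstA, sqA⟩ := hσ.1 c
  obtain ⟨uA, rfl⟩ := (yon S).map_surjective fstA
  have hqa : QuasiCompact a.left := hσ.2 c _ a sqA
  have cc := chartCover_of_isPullback sqA
  have hker := ker_eq_of_isSchImage hXa σ i hZ c hce hcs ((yon S).map uA) a cc w fstW sqW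
  obtain ⟨a', ha'1, ha'2⟩ := exists_lift_yon sqW ((yon S).map uA ≫ s') ((yon S).map a) (by
    rw [Category.assoc, hs', sqA.w])
  have ha'w : a' ≫ w = a := (yon S).map_injective (by rw [Functor.map_comp, ha'2])
  have ha'w' : a'.left ≫ w.left = a.left := by rw [← Over.comp_left, ha'w]
  have hbot : a'.left.ker = ⊥ := ker_eq_bot_of_ker_eq a.left w.left a'.left ha'w' hker
  have hqa' : QuasiCompact a'.left := by
    have : QuasiCompact (a'.left ≫ w.left) := by rw [ha'w']; exact hqa
    exact QuasiCompact.of_comp a'.left w.left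
  have huA : Etale uA.left := hce.2 σ ((yon S).map a) uA sqA.flip
  exact ⟨W, A₀, w, fstW, uA, a', sqW, hqa', ⟨hbot⟩, huA, ha'1⟩

/-- A morphism `ζ : Z ⟶ G` is a monomorphism if, for a locally surjective chart `q : h_W ⟶ Z`, points of `W` with the
same image under `q ≫ ζ` have the same image under `q`. -/
theorem mono_of_kernelPair {Z G : Sp S} (ζ : Z ⟶ G) {W : Over S} (q : (yon S).obj W ⟶ Z)
    [Sheaf.IsLocallySurjective q]
    (h : ∀ (T₁ : Over S) (x y : T₁ ⟶ W), (yon S).map x ≫ q ≫ ζ = (yon S).map y ≫ q ≫ ζ →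
      (yon S).map x ≫ q = (yon S).map y ≫ q) : Mono ζ := by
  refine mono_of_yon ζ fun U a b hab => ?_
  obtain ⟨Ra, hRa, hla⟩ := Groth.Agent.Lib.H69InvSub.exists_sieve_lift q a
  obtain ⟨Rb, hRb, hlb⟩ := Groth.Agent.Lib.H69InvSub.exists_sieve_lift q b
  refine eq_of_sieve a b (Ra ⊓ Rb) ((J S).intersection_covering hRa hRb) ?_
  intro T₁ φ hφ
  obtain ⟨ya, hya⟩ := hla φ hφ.1
  obtain ⟨yb, hyb⟩ := hlb φ hφ.2
  obtain ⟨x, rfl⟩ := (yon S).map_surjective ya
  obtain ⟨y, rfl⟩ := (yon S).map_surjective yb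
  rw [← hya, ← hyb]
  apply h
  rw [← Category.assoc, hya, ← Category.assoc, hyb, Category.assoc, Category.assoc, hab]

/-- Kernel pairs: for a separated `ζ : Z ⟶ h_T`, a chart `q : h_W ⟶ Z` with `W` flat over `T`, and a quasi-compact
scheme theoretically dominant `a' : A₀ ⟶ W` from a scheme flat over a flat monomorphism `jK : TK ⟶ T`, compatibly with
a section `s'` of `ζ` over `TK`: points of `W` with the same image in `T` have the same image in `Z`. -/
theorem kernelPair_eq {Z : Sp S} {T TK : Over S} (jK : TK ⟶ T) [Mono jK.left] [Flat jK.left]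
    (ζ : Z ⟶ (yon S).obj T) (hζ : IsSeparatedMor ζ) (s' : (yon S).obj TK ⟶ Z)
    (hs' : s' ≫ ζ = (yon S).map jK) {W A₀ : Over S} (q : (yon S).obj W ⟶ Z) (gW : W ⟶ T)
    (hq : q ≫ ζ = (yon S).map gW) [Flat gW.left] (uA : A₀ ⟶ TK) [Flat uA.left] (a' : A₀ ⟶ W)
    [QuasiCompact a'.left] [IsSchemeTheoreticallyDominant a'.left]
    (ha' : (yon S).map a' ≫ q = (yon S).map uA ≫ s')
    (T₁ : Over S) (x y : T₁ ⟶ W) (hxy : (yon S).map x ≫ q ≫ ζ = (yon S).map y ≫ q ≫ ζ) :
    (yon S).map x ≫ q = (yon S).map y ≫ q := by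
  have hxyW : x ≫ gW = y ≫ gW := (yon S).map_injective (by
    rw [Functor.map_comp, Functor.map_comp, ← hq, hxy])
  have ha'g : a' ≫ gW = uA ≫ jK := (yon S).map_injective (by
    rw [Functor.map_comp, Functor.map_comp, ← hq, ← Category.assoc, ha', Category.assoc, hs'])
  -- the closed immersion `W ×_Z W ⟶ W ×_T W`
  have hmd : RepWith @IsClosedImmersion (pullback.mapDesc q q ζ) :=
    Groth.Agent.Lib.H69AlgSpMor.repWith_mapDesc_of_diagonal q q ζ hζ
  let θ : (yon S).obj (bcOver gW gW) ⟶ pullback (q ≫ ζ) (q ≫ ζ) :=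
    pullback.lift ((yon S).map (bcFst gW gW)) ((yon S).map (bcSnd gW gW)) (by
      rw [hq, ← Functor.map_comp, ← Functor.map_comp, bc_condition])
  obtain ⟨E₂, e, fstE, sqE⟩ := hmd.1 θ
  have heC : IsClosedImmersion e.left := hmd.2 θ fstE e sqE
  -- the dominant morphism from `A₀ ×_{TK} A₀`
  have hd0 : (bcFst uA uA ≫ a') ≫ gW = (bcSnd uA uA ≫ a') ≫ gW := by
    rw [Category.assoc, Category.assoc, ha'g, ← Category.assoc, ← Category.assoc, bc_condition]
  let d : bcOver uA uA ⟶ bcOver gW gW := bcLift gW gW (bcFst uA uA ≫ a') (bcSnd uA uA ≫ a') hd0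
  have hq0 : (yon S).map (bcFst uA uA ≫ a') ≫ q = (yon S).map (bcSnd uA uA ≫ a') ≫ q := by
    rw [Functor.map_comp, Functor.map_comp, Category.assoc, Category.assoc, ha', ← Category.assoc,
      ← Category.assoc, ← Functor.map_comp, ← Functor.map_comp, bc_condition]
  have hmd1 : pullback.mapDesc q q ζ ≫ pullback.fst (q ≫ ζ) (q ≫ ζ) = pullback.fst q q :=
    (pullback.lift_fst _ _ _).trans (Category.comp_id _)
  have hmd2 : pullback.mapDesc q q ζ ≫ pullback.snd (q ≫ ζ) (q ≫ ζ) = pullback.snd q q :=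
    (pullback.lift_snd _ _ _).trans (Category.comp_id _)
  have hθ1 : θ ≫ pullback.fst (q ≫ ζ) (q ≫ ζ) = (yon S).map (bcFst gW gW) := pullback.lift_fst _ _ _
  have hθ2 : θ ≫ pullback.snd (q ≫ ζ) (q ≫ ζ) = (yon S).map (bcSnd gW gW) := pullback.lift_snd _ _ _
  obtain ⟨d', hd'1, hd'2⟩ := exists_lift_yon sqE
    (pullback.lift ((yon S).map (bcFst uA uA ≫ a')) ((yon S).map (bcSnd uA uA ≫ a')) hq0)
    ((yon S).map d) (by
      apply pullback.hom_ext
      · rw [Category.assoc, hmd1, pullback.lift_fst, Category.assoc, hθ1, ← Functor.map_comp, bcLift_fst]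
      · rw [Category.assoc, hmd2, pullback.lift_snd, Category.assoc, hθ2, ← Functor.map_comp, bcLift_snd])
  have hd' : d' ≫ e = d := (yon S).map_injective (by rw [Functor.map_comp, hd'2])
  have hd'l : d'.left ≫ e.left = d.left := by rw [← Over.comp_left, hd']
  have hflat2 : Flat (a'.left ≫ gW.left) := by
    rw [← Over.comp_left, ha'g, Over.comp_left]
    infer_instance
  have hdom : IsSchemeTheoreticallyDominant d.left :=
    Groth.Agent.Lib.H69SubGrpd.isSchemeTheoreticallyDominant_lift a'.left gW.left gW.left jK.left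
      (IsPullback.of_hasPullback uA.left uA.left)
      (by rw [← Over.comp_left, ← Over.comp_left, ha'g])
      (by rw [← Over.comp_left, ← Over.comp_left, ha'g]) d.left
      (pullback.lift_fst _ _ _) (pullback.lift_snd _ _ _)
  have hiso : IsIso e.left := isIso_of_dominant_factor e.left d.left d'.left hd'l
  have hisoO : IsIso e := by
    have : IsIso ((Over.forget S).map e) := hiso
    exact isIso_of_reflects_iso e (Over.forget S)
  -- lift `(x, y)` to `E₂`
  let xy : T₁ ⟶ bcOver gW gW := bcLift gW gW x y hxyW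
  let z : (yon S).obj T₁ ⟶ pullback q q := (yon S).map (xy ≫ inv e) ≫ fstE
  have hz : z ≫ pullback.mapDesc q q ζ = (yon S).map xy ≫ θ := by
    change ((yon S).map (xy ≫ inv e) ≫ fstE) ≫ _ = _
    rw [Category.assoc, sqE.w, ← Category.assoc, ← Functor.map_comp, Category.assoc, IsIso.inv_hom_id,
      Category.comp_id]
  have hz1 : z ≫ pullback.fst q q = (yon S).map x := by
    have h1 : (z ≫ pullback.mapDesc q q ζ) ≫ pullback.fst (q ≫ ζ) (q ≫ ζ) =
        ((yon S).map xy ≫ θ) ≫ pullback.fst (q ≫ ζ) (q ≫ ζ) := by rw [hz]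
    rw [Category.assoc, hmd1] at h1
    rw [h1, Category.assoc, hθ1, ← Functor.map_comp, bcLift_fst]
  have hz2 : z ≫ pullback.snd q q = (yon S).map y := by
    have h1 : (z ≫ pullback.mapDesc q q ζ) ≫ pullback.snd (q ≫ ζ) (q ≫ ζ) =
        ((yon S).map xy ≫ θ) ≫ pullback.snd (q ≫ ζ) (q ≫ ζ) := by rw [hz]
    rw [Category.assoc, hmd2] at h1
    rw [h1, Category.assoc, hθ2, ← Functor.map_comp, bcLift_snd]
  calc (yon S).map x ≫ q = (z ≫ pullback.fst q q) ≫ q := by rw [hz1]
    _ = z ≫ (pullback.fst q q ≫ q) := Category.assoc _ _ _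
    _ = z ≫ (pullback.snd q q ≫ q) := by rw [pullback.condition]
    _ = (z ≫ pullback.snd q q) ≫ q := (Category.assoc _ _ _).symm
    _ = (yon S).map y ≫ q := by rw [hz2]

/-- A flat surjective morphism of affine schemes, as a one-member family, has the fpqc refinement property. -/
theorem hasFpqcRefinement_of_affine_flat_surjective {T W₀ : Over S} [IsAffine T.left] [IsAffine W₀.left]
    (g₀ : W₀ ⟶ T) [Flat g₀.left] [Surjective g₀.left] :
    Groth.Agent.Lib.AlgSpFpqc.HasFpqcRefinement (ι := PUnit.{u+1}) (fun _ => (yon S).obj W₀)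
      (fun _ => (yon S).map g₀) := by
  intro Z'' hZ'' h
  obtain ⟨h₀, rfl⟩ := (yon S).map_surjective h
  refine ⟨1, fun _ => bcOver g₀ h₀, fun _ => bcSnd g₀ h₀, ?_, ?_, ?_, ?_⟩
  · intro _
    change IsAffine (pullback g₀.left h₀.left)
    infer_instance
  · intro _
    change Flat (pullback.snd g₀.left h₀.left)
    infer_instance
  · intro z
    refine ⟨0, ?_⟩
    change z ∈ Set.range (pullback.snd g₀.left h₀.left)
    exact (inferInstance : Surjective (pullback.snd g₀.left h₀.left)).surj z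
  · intro _
    exact ⟨PUnit.unit, (yon S).map (bcFst g₀ h₀), by
      rw [← Functor.map_comp, ← Functor.map_comp, bc_condition]⟩

/-- A monomorphism from an algebraic space to an affine scheme which admits a flat surjective affine chart is an
isomorphism. -/
theorem isIso_of_flat_mono_chart {Z : Sp S} (hZ : IsAlgSpace Z) {T : Over S} [IsAffine T.left]
    (ζ : Z ⟶ (yon S).obj T) [Mono ζ] {W₀ : Over S} [IsAffine W₀.left] (q₀ : (yon S).obj W₀ ⟶ Z)
    (g₀ : W₀ ⟶ T) (hq₀ : q₀ ≫ ζ = (yon S).map g₀) [Flat g₀.left] [Surjective g₀.left] : IsIso ζ := by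
  refine Groth.Agent.Lib.AlgSpFpqc.isIso_of_hasFpqcRefinement hZ (IsAlgSpace.yon_obj T).diag
    (hasFpqcRefinement_of_affine_flat_surjective g₀)
    (Xi := fun _ => pullback ζ ((yon S).map g₀)) (p := fun _ => pullback.snd _ _)
    (q := fun _ => pullback.fst _ _) (fun _ => IsPullback.of_hasPullback _ _) (fun _ => ?_)
  have hsec : pullback.lift q₀ (𝟙 _) (by rw [hq₀, Category.id_comp]) ≫
      pullback.snd ζ ((yon S).map g₀) = 𝟙 _ := pullback.lift_snd _ _ _
  have : IsSplitEpi (pullback.snd ζ ((yon S).map g₀)) := ⟨⟨⟨_, hsec⟩⟩⟩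
  exact isIso_of_mono_of_isSplitEpi _

/-- Spectra of localization maps are monomorphisms of schemes. -/
theorem mono_SpecMap_of_isFractionRing (A K : Type u) [CommRing A] [Field K] [Algebra A K]
    [IsFractionRing A K] : Mono (Spec.map (CommRingCat.ofHom (algebraMap A K))) := by
  have hepi : Epi (CommRingCat.ofHom (algebraMap A K)) := IsLocalization.epi (nonZeroDivisors A) K
  have : Mono (CommRingCat.ofHom (algebraMap A K)).op := inferInstance
  exact (inferInstance : Mono (Scheme.Spec.map (CommRingCat.ofHom (algebraMap A K)).op))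

/-- **Sections from valuation rings.**  Let `π : Xa ⟶ h_{Spec A}` be a separated morphism from an algebraic space to
the spectrum of a valuation ring `A` with fraction field `K`, and `σ` a section of `π` over `Spec K`.  If some scheme
`T'` over `Spec A` with a point over the closed point maps to `Xa` over `Spec A`, compatibly with `σ` on a scheme
theoretically dominant `TK' ⟶ T'` mapping to `Spec K`, then `σ` extends to a section of `π`. -/
theorem exists_section_of_separated {A K : Type u} [CommRing A] [IsDomain A] [ValuationRing A] [Field K]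
    [Algebra A K] [IsFractionRing A K] (str : Spec (CommRingCat.of A) ⟶ S) {Xa : Sp S}
    (hXa : IsAlgSpace Xa) (π : Xa ⟶ (yon S).obj (Over.mk str)) (hπ : IsSeparatedMor π)
    (σ : (yon S).obj (Over.mk (Spec.map (CommRingCat.ofHom (algebraMap A K)) ≫ str)) ⟶ Xa)
    (hσ : σ ≫ π = (yon S).map (Over.homMk (Spec.map (CommRingCat.ofHom (algebraMap A K))) rfl :
      Over.mk (Spec.map (CommRingCat.ofHom (algebraMap A K)) ≫ str) ⟶ Over.mk str))
    {T' TK' : Over S} (jA' : T' ⟶ Over.mk str) (j' : TK' ⟶ T') [IsSchemeTheoreticallyDominant j'.left]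
    (k' : TK' ⟶ Over.mk (Spec.map (CommRingCat.ofHom (algebraMap A K)) ≫ str))
    (t'₀ : ↥T'.left) (ht'₀ : jA'.left t'₀ = closedPoint A)
    (l' : (yon S).obj T' ⟶ Xa) (hl' : l' ≫ π = (yon S).map jA')
    (hl'K : (yon S).map j' ≫ l' = (yon S).map k' ≫ σ) :
    ∃ l : (yon S).obj (Over.mk str) ⟶ Xa, l ≫ π = 𝟙 _ ∧
      (yon S).map (Over.homMk (Spec.map (CommRingCat.ofHom (algebraMap A K))) rfl :
        Over.mk (Spec.map (CommRingCat.ofHom (algebraMap A K)) ≫ str) ⟶ Over.mk str) ≫ l = σ := by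
  let T : Over S := Over.mk str
  let TK : Over S := Over.mk (Spec.map (CommRingCat.ofHom (algebraMap A K)) ≫ str)
  let jK : TK ⟶ T := Over.homMk (Spec.map (CommRingCat.ofHom (algebraMap A K))) rfl
  have hjKmono : Mono jK.left := mono_SpecMap_of_isFractionRing A K
  have hjKflat : Flat jK.left := by
    change Flat (Spec.map (CommRingCat.ofHom (algebraMap A K)))
    rw [Flat.SpecMap_iff, CommRingCat.hom_ofHom, RingHom.flat_algebraMap_iff]
    exact IsLocalization.flat K (nonZeroDivisors A)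
  have hTaff : IsAffine T.left := by
    change IsAffine (Spec (CommRingCat.of A)); infer_instance
  -- quasi-compactness of `σ`
  have hπqs : IsQuasiSeparatedMor π :=
    repWith_mono (fun _ _ g (_ : IsClosedImmersion g) => (inferInstance : QuasiCompact g)) hπ
  have hσπ : RepWith @QuasiCompact (σ ≫ π) := by
    rw [hσ]
    refine (repWith_yon_map_iff @QuasiCompact jK).2 ?_
    change QuasiCompact (Spec.map (CommRingCat.ofHom (algebraMap A K)))
    infer_instance
  have hσqc : IsQuasiCompactMor σ :=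
    Groth.Agent.Lib.AlgSpValuative.isQuasiCompactMor_of_comp_of_isQuasiSeparatedMor hπqs hσπ
  have hσQ : RepWith @QuasiCompact σ :=
    Groth.Agent.Lib.AlgSpQC.repWith_quasiCompact_of_isQuasiCompactMor (hXa.representable_from_yon σ) hσqc
  -- the scheme theoretic image
  obtain ⟨Z, i, hZalg, hZ⟩ := exists_isSchImage hXa σ
  obtain ⟨s', hs'⟩ := hZ.2.1
  let ζ : Z ⟶ (yon S).obj T := i ≫ π
  have himono : Mono i := mono_of_repWith_isClosedImmersion hZ.1
  have hζsep : IsSeparatedMor ζ :=
    Groth.Agent.Lib.AlgSpProper.isSeparatedMor_comp (Groth.Agent.Lib.GrpFieldSep46.isSeparatedMor_of_mono i) hπ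
  have hs'ζ : s' ≫ ζ = (yon S).map jK := by
    change s' ≫ i ≫ π = _
    rw [← Category.assoc, hs', hσ]
  obtain ⟨m, hm⟩ := exists_factor_of_dominant i hZ.1 j' l' ((yon S).map k' ≫ s') (by
    rw [Category.assoc, hs', hl'K])
  -- charts
  obtain ⟨V, c, hce, hcs⟩ := hXa.atlas
  obtain ⟨W, A₀, w, q, uA, a', sqW, hqa', hdom, huA, ha'⟩ :=
    exists_dominant_chart hXa σ hσQ i hZ s' hs' c hce hcs
  have hqe : RepWith @Etale q := Groth.Agent.Lib.AlgSpBasic.repWith_fst_of_isPullback _ sqW hce
  have hqs : RepWith @Surjective q := Groth.Agent.Lib.AlgSpBasic.repWith_fst_of_isPullback _ sqW hcs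
  obtain ⟨gW, hgW⟩ := (yon S).map_surjective (q ≫ ζ)
  have ha'g : a' ≫ gW = uA ≫ jK := (yon S).map_injective (by
    rw [Functor.map_comp, Functor.map_comp, hgW, ← Category.assoc, ha', Category.assoc, hs'ζ])
  have hflatW : Flat gW.left := by
    refine flat_of_dominant_generic (A := A) (K := K) gW.left uA.left a'.left ?_
    rw [← Over.comp_left, ha'g]
    rfl
  have hflatuA : Flat uA.left := inferInstance
  -- `ζ` is a monomorphism
  have hqloc : Sheaf.IsLocallySurjective q := isLocallySurjective_of_etale_surjective q hqe hqs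
  have hmono : Mono ζ := mono_of_kernelPair ζ q fun T₁ x y hxy =>
    kernelPair_eq jK ζ hζsep s' hs'ζ q gW hgW.symm uA a' ha' T₁ x y hxy
  -- a point of `W` over the closed point
  obtain ⟨w₀, hw₀⟩ := Groth.Agent.Lib.AlgSpQC.surjective_ofPt_of_repWith_surjective hqs (Points.ofPt m t'₀)
  have hmζ : m ≫ ζ = (yon S).map jA' := by
    change m ≫ i ≫ π = _
    rw [← Category.assoc, hm, hl']
  have hgw₀ : gW.left w₀ = closedPoint A := by
    have h1 : Points.ofPt ((yon S).map gW) w₀ = Points.ofPt ((yon S).map jA') t'₀ := by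
      rw [hgW, ← Points.map_ofPt, hw₀, Points.map_ofPt, hmζ]
    have h2 := congrArg (Points.toScheme T) h1
    rw [Points.toScheme_ofPt, Points.toScheme_ofPt] at h2
    rw [h2, ht'₀]
  -- an affine open neighbourhood
  obtain ⟨U₀, hU, hwU, -⟩ := TopologicalSpace.Opens.isBasis_iff_nbhd.1 W.left.isBasis_affineOpens
    (show w₀ ∈ (⊤ : W.left.Opens) from trivial)
  let U : W.left.Opens := U₀
  let W₀ : Over S := Over.mk (U.ι ≫ W.hom)
  let ι₀ : W₀ ⟶ W := Over.homMk U.ι rfl
  let g₀ : W₀ ⟶ T := ι₀ ≫ gW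
  have hW₀aff : IsAffine W₀.left := hU
  have hg₀flat : Flat g₀.left := by
    change Flat (U.ι ≫ gW.left)
    infer_instance
  have hg₀surj : Surjective g₀.left := by
    constructor
    intro t
    have hgen := Flat.generalizingMap g₀.left
    have hpt : g₀.left ⟨w₀, hwU⟩ = closedPoint A := by
      exact hgw₀
    have hspec : t ⤳ g₀.left ⟨w₀, hwU⟩ := by
      rw [hpt]
      exact IsLocalRing.specializes_closedPoint (R := A) t
    obtain ⟨w, -, hw⟩ := hgen hspec
    exact ⟨w, hw⟩
  have hiso : IsIso ζ := isIso_of_flat_mono_chart hZalg ζ ((yon S).map ι₀ ≫ q) g₀ (by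
    rw [Category.assoc, ← hgW, ← Functor.map_comp])
  refine ⟨inv ζ ≫ i, ?_, ?_⟩
  · rw [Category.assoc]
    exact IsIso.inv_hom_id ζ
  · change (yon S).map jK ≫ inv ζ ≫ i = σ
    rw [← hs'ζ, Category.assoc, ← Category.assoc ζ, IsIso.hom_inv_id, Category.id_comp, hs']

end Groth.Agent.Lib.H69ValSep
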