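import Groth.Agent.Lib.H69ValFS1
import Groth.Agent.Lib.H69ValRep
import Groth.Agent.Lib.H69ValSep2

set_option autoImplicit false
universe u

open CategoryTheory CategoryTheory.Limits AlgebraicGeometry Opposite IsLocalRing

namespace Groth.Agent.Lib.H69ValFS

open AlgSp Groth.Agent.Lib.H69AlgSp

variable {S : Scheme.{u}}

set_option maxHeartbeats 1600000 in
/-- In the existence part of the valuative criterion for a morphism of algebraic spaces, the extension of the fraction
field may be taken finite separable. -/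
theorem existVC_finite_separable {X Y : Sp S} (hX : IsAlgSpace X) (hY : IsAlgSpace Y) (f : X ⟶ Y)
    (hf : ExistVC f) (sq : ValSq f) :
    ∃ e : sq.DomExt, (letI := e.ψ.toAlgebra; Module.Finite sq.K e.K' ∧ Algebra.IsSeparable sq.K e.K') ∧
      e.HasLift := by
  obtain ⟨e₀, l', hl'1, hl'2⟩ := hf sq
  have sqP := IsPullback.of_hasPullback f sq.bot
  have hXa : IsAlgSpace (pullback f sq.bot) :=
    Groth.Agent.Lib.AlgSpFibre.isAlgSpace_of_isPullback hY.diag hX (IsAlgSpace.yon_obj _) sqP
  let π : pullback f sq.bot ⟶ (yon S).obj sq.ptA := pullback.snd f sq.bot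
  let σ : (yon S).obj sq.ptK ⟶ pullback f sq.bot :=
    pullback.lift sq.top ((yon S).map sq.j) sq.comm
  have hσ : σ ≫ π = (yon S).map sq.j := pullback.lift_snd _ _ _
  let jA' : e₀.ptA' ⟶ sq.ptA := Over.homMk (Spec.map (CommRingCat.ofHom e₀.φ)) rfl
  let j' : e₀.ptK' ⟶ e₀.ptA' := Over.homMk (Spec.map (CommRingCat.ofHom (algebraMap e₀.A' e₀.K'))) rfl
  let k' : e₀.ptK' ⟶ sq.ptK := Over.homMk (Spec.map (CommRingCat.ofHom e₀.ψ)) (by
    change Spec.map _ ≫ Spec.map _ ≫ _ = Spec.map _ ≫ Spec.map _ ≫ _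
    rw [← Spec.map_comp_assoc, ← Spec.map_comp_assoc, ← CommRingCat.ofHom_comp,
      ← CommRingCat.ofHom_comp, e₀.comm])
  have hjk : j' ≫ jA' = k' ≫ sq.j := by
    ext
    change Spec.map _ ≫ Spec.map _ = Spec.map _ ≫ Spec.map _
    rw [← Spec.map_comp, ← Spec.map_comp, ← CommRingCat.ofHom_comp, ← CommRingCat.ofHom_comp, e₀.comm]
  let lA : (yon S).obj e₀.ptA' ⟶ pullback f sq.bot :=
    pullback.lift l' ((yon S).map jA') hl'2
  have hlA : lA ≫ π = (yon S).map jA' := pullback.lift_snd _ _ _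
  have hlAK : (yon S).map j' ≫ lA = (yon S).map k' ≫ σ := by
    apply pullback.hom_ext
    · rw [Category.assoc, Category.assoc, pullback.lift_fst, pullback.lift_fst]
      exact hl'1
    · rw [Category.assoc, Category.assoc, pullback.lift_snd, pullback.lift_snd, ← Functor.map_comp,
        ← Functor.map_comp, hjk]
  -- the atlas of `X_A` and the charts of `Spec A'` and `Spec K`
  obtain ⟨W, p, hpe, hps⟩ := hXa.atlas
  obtain ⟨q, hq⟩ := (yon S).map_surjective (p ≫ π)
  obtain ⟨T, sndT, fstT, hT⟩ := hpe.1 lA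
  have hTe : Etale sndT.left := hpe.2 lA fstT sndT hT
  have hTs : Surjective sndT.left := hps.2 lA fstT sndT hT
  obtain ⟨a, ha⟩ := (yon S).map_surjective fstT
  obtain ⟨E, sndE, fstE, hE⟩ := hpe.1 σ
  have hEe : Etale sndE.left := hpe.2 σ fstE sndE hE
  obtain ⟨b, hb⟩ := (yon S).map_surjective fstE
  have haq : a ≫ q = sndT ≫ jA' := by
    apply (yon S).map_injective
    rw [Functor.map_comp, Functor.map_comp, ha, hq, ← Category.assoc, hT.w, Category.assoc, hlA]
  have hbq : b ≫ q = sndE ≫ sq.j := by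
    apply (yon S).map_injective
    rw [Functor.map_comp, Functor.map_comp, hb, hq, ← Category.assoc, hE.w, Category.assoc, hσ]
  obtain ⟨t, ht⟩ := hTs.surj (closedPoint e₀.A' : PrimeSpectrum e₀.A')
  obtain ⟨t', B, v, θ, hv1, hv2, hθloc, hθinj, hvcl⟩ :=
    exists_valuationRing_over_closedPoint (A' := e₀.A') sndT.left t ht
  -- the field `K'' = κ(t')` contains `K'`
  have hθK : Function.Injective ((algebraMap B (T.left.residueField t')).comp θ) :=
    (Subtype.val_injective).comp hθinj
  let θK : e₀.K' →+* T.left.residueField t' := IsFractionRing.lift (A := e₀.A') hθK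
  have hθK1 : θK.comp (algebraMap e₀.A' e₀.K') = (algebraMap B (T.left.residueField t')).comp θ := by
    apply RingHom.ext
    intro x
    exact IsFractionRing.lift_algebraMap (A := e₀.A') (K := e₀.K') hθK x
  let ptK'' : Over S := Over.mk (T.left.fromSpecResidueField t' ≫ T.hom)
  let uK : ptK'' ⟶ T := Over.homMk (T.left.fromSpecResidueField t') rfl
  have hT_hom : sndT.left ≫ e₀.ptA'.hom = T.hom := Over.w sndT
  have huK : T.left.fromSpecResidueField t' ≫ sndT.left =
      Spec.map (CommRingCat.ofHom θK) ≫ Spec.map (CommRingCat.ofHom (algebraMap e₀.A' e₀.K')) := by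
    rw [← hv1, Category.assoc, hv2, ← Spec.map_comp, ← Spec.map_comp, ← CommRingCat.ofHom_comp,
      ← CommRingCat.ofHom_comp, hθK1]
  let kK : ptK'' ⟶ e₀.ptK' := Over.homMk (Spec.map (CommRingCat.ofHom θK)) (by
    change Spec.map _ ≫ (Spec.map _ ≫ e₀.ptA'.hom) = T.left.fromSpecResidueField t' ≫ T.hom
    rw [← hT_hom, ← Category.assoc (T.left.fromSpecResidueField t'), huK, Category.assoc]
    rfl)
  have huKs : uK ≫ sndT = kK ≫ j' := by
    ext
    exact huK
  have hcw : (yon S).map (uK ≫ a) ≫ p = (yon S).map (kK ≫ k') ≫ σ := by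
    rw [Functor.map_comp, Functor.map_comp, Category.assoc, Category.assoc, ha, hT.w, ← hlAK,
      ← Category.assoc, ← Category.assoc, ← Functor.map_comp, ← Functor.map_comp, huKs]
  obtain ⟨c, hc1, hc2⟩ := exists_lift_yon hE ((yon S).map (uK ≫ a)) ((yon S).map (kK ≫ k')) hcw
  have hcb : c ≫ b = uK ≫ a := (yon S).map_injective (by rw [Functor.map_comp, hb, hc1])
  have hcs : c ≫ sndE = kK ≫ k' := (yon S).map_injective (by rw [Functor.map_comp, hc2])
  let cl : Spec (CommRingCat.of (T.left.residueField t')) ⟶ E.left := c.left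
  let ε : E.left := cl (closedPoint (T.left.residueField t'))
  let ι : E.left.residueField ε ⟶ CommRingCat.of (T.left.residueField t') :=
    Scheme.descResidueField (Scheme.stalkClosedPointTo cl)
  have hι : Spec.map ι ≫ E.left.fromSpecResidueField ε = cl :=
    Scheme.descResidueField_stalkClosedPointTo_fromSpecResidueField _ E.left cl
  obtain ⟨ψ₁, hψ₁, hfin, hsep⟩ := exists_residueField_finite_separable (K := sq.K) sndE.left ε
  have hkey : ι.hom.comp ψ₁ = θK.comp e₀.ψ := by
    have h1 : Spec.map (CommRingCat.ofHom (ι.hom.comp ψ₁)) =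
        Spec.map (CommRingCat.ofHom (θK.comp e₀.ψ)) := by
      rw [CommRingCat.ofHom_comp, CommRingCat.ofHom_comp, Spec.map_comp, Spec.map_comp, hψ₁,
        ← Category.assoc]
      change (Spec.map ι ≫ _) ≫ _ = _
      rw [hι]
      have := congrArg (fun m => m.left) hcs
      exact this
    have h2 := Spec.map_injective h1
    exact congrArg CommRingCat.Hom.hom h2
  -- the valuation ring `A₁ = B ∩ K₁` of `K₁ = κ(ε)`
  let A₁ : ValuationSubring (E.left.residueField ε) := B.comap ι.hom
  have hval : ∀ x : sq.A, ι.hom (ψ₁ (algebraMap sq.A sq.K x)) =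
      algebraMap B (T.left.residueField t') (θ (e₀.φ x)) := by
    intro x
    have h1 : ι.hom (ψ₁ (algebraMap sq.A sq.K x)) = θK (e₀.ψ (algebraMap sq.A sq.K x)) :=
      RingHom.congr_fun hkey (algebraMap sq.A sq.K x)
    have h2 : e₀.ψ (algebraMap sq.A sq.K x) = algebraMap e₀.A' e₀.K' (e₀.φ x) :=
      (RingHom.congr_fun e₀.comm x).symm
    have h3 : θK (algebraMap e₀.A' e₀.K' (e₀.φ x)) =
        algebraMap B (T.left.residueField t') (θ (e₀.φ x)) := RingHom.congr_fun hθK1 (e₀.φ x)
    rw [h1, h2, h3]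
  have hmem : ∀ x : sq.A, (ψ₁.comp (algebraMap sq.A sq.K)) x ∈ A₁.toSubring := by
    intro x
    change ι.hom (ψ₁ (algebraMap sq.A sq.K x)) ∈ B
    rw [hval x]
    exact (θ (e₀.φ x)).2
  let φ₁ : sq.A →+* A₁ := (ψ₁.comp (algebraMap sq.A sq.K)).codRestrict A₁.toSubring hmem
  let incl : A₁ →+* B := (ι.hom.comp A₁.subtype).codRestrict B.toSubring (fun x => x.2)
  have hincl : incl.comp φ₁ = θ.comp e₀.φ := by
    apply RingHom.ext
    intro x
    apply Subtype.ext
    exact hval x
  have hφ₁loc : IsLocalHom φ₁ := by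
    constructor
    intro x hx
    have h1 : IsUnit (incl (φ₁ x)) := hx.map incl
    have h2 : incl (φ₁ x) = θ (e₀.φ x) := RingHom.congr_fun hincl x
    rw [h2] at h1
    have h3 : IsUnit (e₀.φ x) := hθloc.map_nonunit _ h1
    exact e₀.isLocalHom.map_nonunit _ h3
  have hinclloc : IsLocalHom incl := by
    constructor
    intro x hx
    obtain ⟨y, hy⟩ := isUnit_iff_exists_inv.1 hx
    have hy' : ι.hom (x : E.left.residueField ε) * (y : T.left.residueField t') = 1 :=
      congrArg Subtype.val hy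
    have hx0 : (x : E.left.residueField ε) ≠ 0 := by
      intro h0
      rw [h0, map_zero, zero_mul] at hy'
      exact zero_ne_one hy'
    have hinv : ι.hom ((x : E.left.residueField ε)⁻¹) = (y : T.left.residueField t') := by
      rw [map_inv₀]
      exact inv_eq_of_mul_eq_one_right hy'
    have hmem' : (x : E.left.residueField ε)⁻¹ ∈ A₁ := by
      change ι.hom ((x : E.left.residueField ε)⁻¹) ∈ B
      rw [hinv]
      exact y.2
    exact isUnit_iff_exists_inv.2 ⟨⟨_, hmem'⟩, Subtype.ext (mul_inv_cancel₀ hx0)⟩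
  let e : sq.DomExt :=
    { A' := A₁, K' := E.left.residueField ε, φ := φ₁, ψ := ψ₁, comm := rfl, isLocalHom := hφ₁loc }
  refine ⟨e, ⟨hfin, hsep⟩, ?_⟩
  -- the scheme `W₁ = W ×_{Spec A} Spec A₁` over `Spec A₁`
  let φ₁S : Spec (CommRingCat.of A₁) ⟶ Spec (CommRingCat.of sq.A) := Spec.map (CommRingCat.ofHom φ₁)
  let ql : W.left ⟶ Spec (CommRingCat.of sq.A) := q.left
  let pr₁ : pullback ql φ₁S ⟶ W.left := pullback.fst ql φ₁S
  let pr₂ : pullback ql φ₁S ⟶ Spec (CommRingCat.of A₁) := pullback.snd ql φ₁S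
  have hbql : b.left ≫ ql = sndE.left ≫ Spec.map (CommRingCat.ofHom (algebraMap sq.A sq.K)) := by
    have := congrArg (fun m => m.left) hbq
    exact this
  have haql : a.left ≫ ql = sndT.left ≫ Spec.map (CommRingCat.ofHom e₀.φ) := by
    have := congrArg (fun m => m.left) haq
    exact this
  have hκw : (E.left.fromSpecResidueField ε ≫ b.left) ≫ ql =
      Spec.map (CommRingCat.ofHom (algebraMap A₁ (E.left.residueField ε))) ≫ φ₁S := by
    rw [Category.assoc, hbql, ← Category.assoc, ← hψ₁, ← Spec.map_comp, ← Spec.map_comp,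
      ← CommRingCat.ofHom_comp, ← CommRingCat.ofHom_comp]
    rfl
  let κ₁ : Spec (CommRingCat.of (E.left.residueField ε)) ⟶ pullback ql φ₁S := pullback.lift _ _ hκw
  have hvBw : (v ≫ a.left) ≫ ql = Spec.map (CommRingCat.ofHom incl) ≫ φ₁S := by
    rw [Category.assoc, haql, ← Category.assoc, hv2, ← Spec.map_comp, ← Spec.map_comp,
      ← CommRingCat.ofHom_comp, ← CommRingCat.ofHom_comp, hincl]
  let vB : Spec (CommRingCat.of B) ⟶ pullback ql φ₁S := pullback.lift _ _ hvBw
  have hκv : Spec.map ι ≫ κ₁ =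
      Spec.map (CommRingCat.ofHom (algebraMap B (T.left.residueField t'))) ≫ vB := by
    apply pullback.hom_ext
    · rw [Category.assoc, Category.assoc, pullback.lift_fst, pullback.lift_fst, ← Category.assoc, hι,
        ← Category.assoc, hv1]
      have := congrArg (fun m => m.left) hcb
      exact this
    · rw [Category.assoc, Category.assoc, pullback.lift_snd, pullback.lift_snd, ← Spec.map_comp,
        ← Spec.map_comp]
      rfl
  let x : ↥(pullback ql φ₁S) := vB (closedPoint B)
  have hx2 : pr₂ x = closedPoint A₁ := by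
    have h1 : vB ≫ pr₂ = Spec.map (CommRingCat.ofHom incl) := pullback.lift_snd _ _ _
    change (vB ≫ pr₂) (closedPoint B) = _
    rw [h1]
    exact comap_closedPoint incl
  let η₁ : ↥(Spec (CommRingCat.of (E.left.residueField ε))) :=
    Spec.map ι (closedPoint (T.left.residueField t'))
  have hx1 : κ₁ η₁ ⤳ x := by
    have h1 : κ₁ η₁ = vB (Spec.map (CommRingCat.ofHom (algebraMap B (T.left.residueField t')))
        (closedPoint (T.left.residueField t'))) := by
      change (Spec.map ι ≫ κ₁) _ = (Spec.map _ ≫ vB) _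
      rw [hκv]
    rw [h1]
    exact (specializes_closedPoint (R := B) _).map vB.continuous
  obtain ⟨s, hs1, hs2⟩ := Groth.Agent.Lib.H69ValRep.exists_section_of_specializes (R := A₁)
    (K := E.left.residueField ε) pr₂ κ₁ (pullback.lift_snd _ _ _) x η₁ hx1 hx2
  have hWhom : ql ≫ sq.str = W.hom := Over.w q
  have hslq : (s ≫ pr₁) ≫ ql = φ₁S := by
    rw [Category.assoc, pullback.condition, ← Category.assoc]
    change (s ≫ pr₂) ≫ φ₁S = φ₁S
    rw [hs2]
    exact Category.id_comp _
  let lWo : e.ptA' ⟶ W := Over.homMk (s ≫ pr₁) (by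
    change (s ≫ pr₁) ≫ W.hom = φ₁S ≫ sq.str
    rw [← hWhom, ← Category.assoc, hslq])
  let j₁ : e.ptK' ⟶ e.ptA' := Over.homMk (Spec.map (CommRingCat.ofHom (algebraMap e.A' e.K'))) rfl
  let k₁ : e.ptK' ⟶ sq.ptK := Over.homMk (Spec.map (CommRingCat.ofHom e.ψ)) (by
    change Spec.map _ ≫ Spec.map _ ≫ _ = Spec.map _ ≫ Spec.map _ ≫ _
    rw [← Spec.map_comp_assoc, ← Spec.map_comp_assoc, ← CommRingCat.ofHom_comp,
      ← CommRingCat.ofHom_comp, e.comm])
  let jA₁ : e.ptA' ⟶ sq.ptA := Over.homMk (Spec.map (CommRingCat.ofHom e.φ)) rfl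
  have hEhom : sndE.left ≫ sq.ptK.hom = E.hom := Over.w sndE
  let cE : e.ptK' ⟶ E := Over.homMk (E.left.fromSpecResidueField ε) (by
    change _ ≫ E.hom = Spec.map _ ≫ Spec.map _ ≫ sq.str
    rw [← hEhom, ← Category.assoc, ← hψ₁]
    change Spec.map _ ≫ Spec.map _ ≫ sq.str = _
    rw [← Spec.map_comp_assoc, ← Spec.map_comp_assoc, ← CommRingCat.ofHom_comp,
      ← CommRingCat.ofHom_comp]
    rfl)
  have h1 : j₁ ≫ lWo = cE ≫ b := by
    ext
    change Spec.map _ ≫ s ≫ pr₁ = E.left.fromSpecResidueField ε ≫ b.left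
    rw [← Category.assoc, hs1]
    exact pullback.lift_fst _ _ _
  have h2 : cE ≫ sndE = k₁ := by
    ext
    exact hψ₁.symm
  have h3 : lWo ≫ q = jA₁ := by
    ext
    exact hslq
  refine ⟨(yon S).map lWo ≫ p ≫ pullback.fst f sq.bot, ?_, ?_⟩
  · change (yon S).map j₁ ≫ _ = (yon S).map k₁ ≫ sq.top
    rw [← Category.assoc, ← Functor.map_comp, h1, Functor.map_comp, hb, Category.assoc,
      ← Category.assoc fstE, hE.w, ← h2, Functor.map_comp]
    simp only [Category.assoc]
    congr 2
    exact pullback.lift_fst _ _ _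
  · change _ = (yon S).map jA₁ ≫ sq.bot
    rw [Category.assoc, Category.assoc, pullback.condition, ← Category.assoc p]
    change (yon S).map lWo ≫ (p ≫ π) ≫ sq.bot = _
    rw [← hq, ← Category.assoc, ← Functor.map_comp, h3]

end Groth.Agent.Lib.H69ValFS
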