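import Groth.Agent.Lib.H69RefVal1
import Groth.Agent.Lib.H69RefVal2
import Groth.Agent.Lib.H69ValFS2

set_option autoImplicit false
universe u

open CategoryTheory CategoryTheory.Limits AlgebraicGeometry Opposite IsLocalRing

namespace Groth.Agent.Lib.H69RefVal

open AlgSp Groth.Agent.Lib.H69AlgSp Groth.Agent.Lib.H69ValFS

variable {S : Scheme.{u}}

theorem repWith_etale_comp {F G H : Sp S} {a : F ⟶ G} {b : G ⟶ H} (ha : RepWith @Etale a)
    (hb : RepWith @Etale b) : RepWith @Etale (a ≫ b) := by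
  have := repWith_isMultiplicative (S := S) @Etale.{u}
  exact MorphismProperty.comp_mem _ _ _ ha hb

set_option maxHeartbeats 1600000 in
/-- Chart lifting for valuative squares: after a dominating extension of the valuation ring, the bottom arrow lifts to an
affine scheme `Spec B₀` etale over `Y` and the top arrow lifts to an affine scheme `W` etale over `X`, compatibly. -/
theorem exists_chart_lift' {X Y : Sp S} (hX : IsAlgSpace X) (hY : IsAlgSpace Y) (f : X ⟶ Y) (sq : ValSq f) :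
    ∃ (B₀ : CommRingCat.{u}) (sV : Spec B₀ ⟶ S) (W : Over S) (_ : IsAffine W.left)
      (d : (yon S).obj (Over.mk sV) ⟶ Y) (c : (yon S).obj W ⟶ X) (fW : W ⟶ Over.mk sV)
      (e₁ : sq.DomExt) (topW : e₁.ptK' ⟶ W) (botV : e₁.ptA' ⟶ Over.mk sV),
      RepWith @Etale d ∧ RepWith @Etale c ∧ c ≫ f = (yon S).map fW ≫ d ∧
      (yon S).map topW ≫ c = (yon S).map (domK e₁) ≫ sq.top ∧
      (yon S).map botV ≫ d = (yon S).map (domJA e₁) ≫ sq.bot ∧
      topW ≫ fW = domJ e₁ ≫ botV := by
  -- (i) the chart of `Spec A` over an atlas of `Y`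
  obtain ⟨V, dV, hdVe, hdVs⟩ := hY.atlas
  obtain ⟨T, sndT, fstT, hT⟩ := hdVe.1 sq.bot
  have hTe : Etale sndT.left := hdVe.2 sq.bot fstT sndT hT
  have hTs : Surjective sndT.left := hdVs.2 sq.bot fstT sndT hT
  obtain ⟨a, ha⟩ := (yon S).map_surjective fstT
  obtain ⟨t, ht⟩ := hTs.surj (closedPoint sq.A : PrimeSpectrum sq.A)
  obtain ⟨t', B, v, θ, hv1, hv2, hθloc, hθinj, hvcl⟩ :=
    exists_valuationRing_over_closedPoint (A' := sq.A) sndT.left t ht
  have hθK : Function.Injective ((algebraMap B (T.left.residueField t')).comp θ) :=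
    (Subtype.val_injective).comp hθinj
  let θK : sq.K →+* T.left.residueField t' := IsFractionRing.lift (A := sq.A) hθK
  have hθK1 : θK.comp (algebraMap sq.A sq.K) = (algebraMap B (T.left.residueField t')).comp θ := by
    apply RingHom.ext
    intro x
    exact IsFractionRing.lift_algebraMap (A := sq.A) (K := sq.K) hθK x
  -- (ii) an affine open of `V` through which `Spec B` factors
  obtain ⟨V₀, hV₀, v₀, hv₀⟩ := exists_lift_affineOpen_of_isLocalRing (B := B) (v ≫ a.left)
  let sV : Spec Γ(V.left, V₀) ⟶ S := hV₀.fromSpec ≫ V.hom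
  let iV : Over.mk sV ⟶ V := Over.homMk hV₀.fromSpec rfl
  let d : (yon S).obj (Over.mk sV) ⟶ Y := (yon S).map iV ≫ dV
  have hde : RepWith @Etale d :=
    repWith_etale_comp
      ((repWith_yon_map_iff @Etale iV).2 (inferInstance : Etale hV₀.fromSpec)) hdVe
  have hThom : sndT.left ≫ sq.str = T.hom := Over.w sndT
  have haVhom : a.left ≫ V.hom = T.hom := Over.w a
  let ptB : Over S := Over.mk (v ≫ T.hom)
  let vT : ptB ⟶ T := Over.homMk v rfl
  let v₀o : ptB ⟶ Over.mk sV := Over.homMk v₀ (by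
    change v₀ ≫ hV₀.fromSpec ≫ V.hom = v ≫ T.hom
    rw [← Category.assoc, hv₀, Category.assoc, haVhom])
  have hv₀i : v₀o ≫ iV = vT ≫ a := by
    ext
    exact hv₀
  let ptK'' : Over S := Over.mk (T.left.fromSpecResidueField t' ≫ T.hom)
  let uK : ptK'' ⟶ T := Over.homMk (T.left.fromSpecResidueField t') rfl
  let jB : ptK'' ⟶ ptB :=
    Over.homMk (Spec.map (CommRingCat.ofHom (algebraMap B (T.left.residueField t')))) (by
      change Spec.map _ ≫ v ≫ T.hom = T.left.fromSpecResidueField t' ≫ T.hom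
      exact (Category.assoc _ _ _).symm.trans (congrArg (fun m => m ≫ T.hom) hv1))
  have hjBv : jB ≫ vT = uK := by
    ext
    exact hv1
  have huK : T.left.fromSpecResidueField t' ≫ sndT.left =
      Spec.map (CommRingCat.ofHom θK) ≫ Spec.map (CommRingCat.ofHom (algebraMap sq.A sq.K)) := by
    rw [← hv1, Category.assoc, hv2, ← Spec.map_comp, ← Spec.map_comp, ← CommRingCat.ofHom_comp,
      ← CommRingCat.ofHom_comp, hθK1]
  let kK : ptK'' ⟶ sq.ptK := Over.homMk (Spec.map (CommRingCat.ofHom θK)) (by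
    change Spec.map _ ≫ (Spec.map _ ≫ sq.str) = T.left.fromSpecResidueField t' ≫ T.hom
    rw [← hThom, ← Category.assoc (T.left.fromSpecResidueField t'), huK, Category.assoc]
    rfl)
  have huKs : uK ≫ sndT = kK ≫ sq.j := by
    ext
    exact huK
  -- (iii) the base change `X₀ = X ×_Y Spec B₀` and its `K''`-point
  have sqP₀ := IsPullback.of_hasPullback f d
  have hX₀ : IsAlgSpace (pullback f d) :=
    Groth.Agent.Lib.AlgSpFibre.isAlgSpace_of_isPullback hY.diag hX (IsAlgSpace.yon_obj _) sqP₀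
  have hσ₀w : ((yon S).map kK ≫ sq.top) ≫ f = (yon S).map (jB ≫ v₀o) ≫ d := by
    have hR : (yon S).map (jB ≫ v₀o) ≫ (yon S).map iV ≫ dV = (yon S).map (kK ≫ sq.j) ≫ sq.bot := by
      have e1 : (jB ≫ v₀o) ≫ iV = uK ≫ a := by
        rw [Category.assoc, hv₀i, ← Category.assoc, hjBv]
      rw [← Category.assoc, ← Functor.map_comp, e1, Functor.map_comp, ha, Category.assoc, hT.w,
        ← Category.assoc, ← Functor.map_comp, huKs]
    rw [Category.assoc, sq.comm, ← Category.assoc, ← Functor.map_comp]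
    exact hR.symm
  let σ₀ : (yon S).obj ptK'' ⟶ pullback f d := pullback.lift _ _ hσ₀w
  have hσ₀1 : σ₀ ≫ pullback.fst f d = (yon S).map kK ≫ sq.top := pullback.lift_fst _ _ _
  have hσ₀2 : σ₀ ≫ pullback.snd f d = (yon S).map (jB ≫ v₀o) := pullback.lift_snd _ _ _
  obtain ⟨W', p, hpe, hps⟩ := hX₀.atlas
  obtain ⟨E, sndE, fstE, hE⟩ := hpe.1 σ₀
  have hEe : Etale sndE.left := hpe.2 σ₀ fstE sndE hE
  have hEs : Surjective sndE.left := hps.2 σ₀ fstE sndE hE
  obtain ⟨b, hb⟩ := (yon S).map_surjective fstE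
  obtain ⟨ε, -⟩ := hEs.surj (closedPoint (T.left.residueField t') : PrimeSpectrum (T.left.residueField t'))
  obtain ⟨ψ', hψ', -⟩ := exists_residueField_finite_separable (K := T.left.residueField t') sndE.left ε
  -- an affine open of `W'` through which `Spec κ(ε)` factors
  obtain ⟨W₀, hW₀, w₀, hw₀⟩ := exists_lift_affineOpen_of_isLocalRing' (E.left.residueField ε)
    (E.left.fromSpecResidueField ε ≫ b.left)
  let sW : Spec Γ(W'.left, W₀) ⟶ S := hW₀.fromSpec ≫ W'.hom
  let W : Over S := Over.mk sW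
  let iW : W ⟶ W' := Over.homMk hW₀.fromSpec rfl
  let c : (yon S).obj W ⟶ X := (yon S).map iW ≫ p ≫ pullback.fst f d
  have hfst : RepWith @Etale (pullback.fst f d) := by
    have := repWith_isStableUnderBaseChange (S := S) @Etale.{u}
    exact MorphismProperty.of_isPullback sqP₀.flip hde
  have hce : RepWith @Etale c :=
    repWith_etale_comp ((repWith_yon_map_iff @Etale iW).2 (inferInstance : Etale hW₀.fromSpec))
      (repWith_etale_comp hpe hfst)
  obtain ⟨fW, hfW⟩ := (yon S).map_surjective ((yon S).map iW ≫ p ≫ pullback.snd f d)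
  have hcf : c ≫ f = (yon S).map fW ≫ d := by
    rw [hfW]
    simp only [c, Category.assoc]
    rw [pullback.condition]
  -- (iv) a valuation ring of `κ(ε)` dominating `B`
  let βK : B →+* E.left.residueField ε := ψ'.comp (algebraMap B (T.left.residueField t'))
  obtain ⟨A₁, hA₁, hloc₁⟩ := exists_factor_valuationRing βK
  let θ₁ : B →+* A₁ := βK.codRestrict A₁.toSubring hA₁
  have hθ₁ : (algebraMap A₁ (E.left.residueField ε)).comp θ₁ = βK := rfl
  have hcomm₁ : (algebraMap A₁ (E.left.residueField ε)).comp (θ₁.comp θ) =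
      (ψ'.comp θK).comp (algebraMap sq.A sq.K) := by
    rw [← RingHom.comp_assoc, hθ₁, RingHom.comp_assoc, RingHom.comp_assoc, hθK1]
  have hlocφ : IsLocalHom (θ₁.comp θ) := by
    have := hloc₁
    have := hθloc
    exact RingHom.isLocalHom_comp θ₁ θ
  let e₁ : sq.DomExt :=
    { A' := A₁, K' := E.left.residueField ε, φ := θ₁.comp θ, ψ := ψ'.comp θK, comm := hcomm₁,
      isLocalHom := hlocφ }
  have hEhom : sndE.left ≫ ptK''.hom = E.hom := Over.w sndE
  have hbW' : b.left ≫ W'.hom = E.hom := Over.w b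
  have hres : T.left.fromSpecResidueField t' ≫ T.hom =
      Spec.map (CommRingCat.ofHom (algebraMap B (T.left.residueField t'))) ≫
        Spec.map (CommRingCat.ofHom θ) ≫ sq.str := by
    rw [← hThom, ← hv1, Category.assoc, ← Category.assoc v, hv2]
  have hψalg : Spec.map (CommRingCat.ofHom (algebraMap A₁ (E.left.residueField ε))) ≫
      Spec.map (CommRingCat.ofHom θ₁) =
      Spec.map (CommRingCat.ofHom ψ') ≫
        Spec.map (CommRingCat.ofHom (algebraMap B (T.left.residueField t'))) := by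
    rw [← Spec.map_comp, ← Spec.map_comp, ← CommRingCat.ofHom_comp, ← CommRingCat.ofHom_comp, hθ₁]
  have hφS : Spec.map (CommRingCat.ofHom (θ₁.comp θ)) =
      Spec.map (CommRingCat.ofHom θ₁) ≫ Spec.map (CommRingCat.ofHom θ) := by
    rw [CommRingCat.ofHom_comp, Spec.map_comp]
  -- `Spec κ(ε) ⟶ E` over `S`
  let cE : e₁.ptK' ⟶ E := Over.homMk (E.left.fromSpecResidueField ε) (by
    change _ ≫ E.hom = Spec.map _ ≫ Spec.map (CommRingCat.ofHom (θ₁.comp θ)) ≫ sq.str
    rw [← hEhom, ← Category.assoc, ← hψ']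
    change Spec.map _ ≫ T.left.fromSpecResidueField t' ≫ T.hom = _
    rw [hres, hφS, Category.assoc, ← Category.assoc (Spec.map _),
      ← Category.assoc (Spec.map _), hψalg, Category.assoc])
  have hcEs : cE ≫ sndE ≫ kK = domK e₁ := by
    ext
    change E.left.fromSpecResidueField ε ≫ sndE.left ≫ Spec.map _ = Spec.map _
    rw [← Category.assoc, ← hψ']
    exact (Spec.map_comp (CommRingCat.ofHom θK) (CommRingCat.ofHom ψ')).symm
  let topW : e₁.ptK' ⟶ W := Over.homMk w₀ (by
    change w₀ ≫ hW₀.fromSpec ≫ W'.hom = e₁.ptK'.hom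
    rw [← Category.assoc, hw₀, Category.assoc, hbW']
    exact Over.w cE)
  have htopW : topW ≫ iW = cE ≫ b := by
    ext
    exact hw₀
  -- `Spec A₁ ⟶ Spec B` over `S`
  let θ₁o : e₁.ptA' ⟶ ptB := Over.homMk (Spec.map (CommRingCat.ofHom θ₁)) (by
    change Spec.map _ ≫ v ≫ T.hom = Spec.map (CommRingCat.ofHom (θ₁.comp θ)) ≫ sq.str
    rw [← hThom, ← Category.assoc v, hv2, hφS, Category.assoc])
  let botV : e₁.ptA' ⟶ Over.mk sV := θ₁o ≫ v₀o
  have hθ₁s : θ₁o ≫ vT ≫ sndT = domJA e₁ := by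
    ext
    change Spec.map _ ≫ v ≫ sndT.left = Spec.map (CommRingCat.ofHom (θ₁.comp θ))
    rw [hv2, hφS]
  have hjcE : domJ e₁ ≫ θ₁o = cE ≫ sndE ≫ jB := by
    ext
    change Spec.map _ ≫ Spec.map _ = E.left.fromSpecResidueField ε ≫ sndE.left ≫ Spec.map _
    rw [← Category.assoc, ← hψ', hψalg]
    rfl
  refine ⟨Γ(V.left, V₀), sV, W, (inferInstance : IsAffine (Spec Γ(W'.left, W₀))), d, c, fW, e₁, topW, botV,
    hde, hce, hcf, ?_, ?_, ?_⟩
  · -- top
    change (yon S).map topW ≫ (yon S).map iW ≫ p ≫ pullback.fst f d = _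
    rw [← Category.assoc, ← Functor.map_comp, htopW, Functor.map_comp, hb, Category.assoc,
      ← Category.assoc fstE, hE.w, Category.assoc, hσ₀1, ← hcEs]
    simp only [Functor.map_comp, Category.assoc]
  · -- bottom
    change (yon S).map (θ₁o ≫ v₀o) ≫ (yon S).map iV ≫ dV = _
    rw [← Category.assoc, ← Functor.map_comp, Category.assoc, hv₀i, ← hθ₁s]
    simp only [Functor.map_comp, Category.assoc]
    rw [ha, hT.w]
  · -- compatibility
    apply (yon S).map_injective
    rw [Functor.map_comp, hfW, Functor.map_comp]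
    change (yon S).map topW ≫ (yon S).map iW ≫ p ≫ pullback.snd f d = _
    rw [← Category.assoc, ← Functor.map_comp, htopW, Functor.map_comp, hb, Category.assoc,
      ← Category.assoc fstE, hE.w, Category.assoc, hσ₀2, ← Functor.map_comp, ← Functor.map_comp,
      ← Functor.map_comp]
    congr 1
    change _ = domJ e₁ ≫ θ₁o ≫ v₀o
    rw [← Category.assoc (domJ e₁), hjcE]
    simp only [Category.assoc]


/-- Chart lifting for valuative squares (without the etaleness of the chart of `Y`). -/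
theorem exists_chart_lift {X Y : Sp S} (hX : IsAlgSpace X) (hY : IsAlgSpace Y) (f : X ⟶ Y) (sq : ValSq f) :
    ∃ (B₀ : CommRingCat.{u}) (sV : Spec B₀ ⟶ S) (W : Over S) (_ : IsAffine W.left)
      (d : (yon S).obj (Over.mk sV) ⟶ Y) (c : (yon S).obj W ⟶ X) (fW : W ⟶ Over.mk sV)
      (e₁ : sq.DomExt) (topW : e₁.ptK' ⟶ W) (botV : e₁.ptA' ⟶ Over.mk sV),
      RepWith @Etale c ∧ c ≫ f = (yon S).map fW ≫ d ∧
      (yon S).map topW ≫ c = (yon S).map (domK e₁) ≫ sq.top ∧
      (yon S).map botV ≫ d = (yon S).map (domJA e₁) ≫ sq.bot ∧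
      topW ≫ fW = domJ e₁ ≫ botV := by
  obtain ⟨B₀, sV, W, hW, d, c, fW, e₁, topW, botV, -, h⟩ := exists_chart_lift' hX hY f sq
  exact ⟨B₀, sV, W, hW, d, c, fW, e₁, topW, botV, h⟩


end Groth.Agent.Lib.H69RefVal
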