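import Groth.Agent.Lib.H69DvrVC1
import Groth.Agent.Lib.H69RefVal3

set_option autoImplicit false
universe u

open CategoryTheory CategoryTheory.Limits AlgebraicGeometry Opposite Topology IsLocalRing

namespace Groth.Agent.Lib.H69DvrVC

open AlgSp Groth.Agent.Lib.AlgSpPoints Groth.Agent.Lib.AlgSpQC Groth.Agent.Lib.AlgSpFibre
  Groth.Agent.Lib.AlgSpDescent Groth.Agent.Lib.H69AlgSp Groth.Agent.Lib.H69AlgSpMor
  Groth.Agent.Lib.AlgSpLocP Groth.Agent.Lib.AlgSpBasic Groth.Agent.Lib.AlgSpFpqc
  Groth.Agent.Lib.AlgSpProper Groth.Agent.Lib.AlgSpValuative Groth.Agent.Lib.AlgSpAffineSpace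

variable {S : Scheme.{u}}

/-- An algebraic space locally of finite type over a locally Noetherian algebraic space is locally Noetherian. -/
theorem isLocNoethSp_of_locP_lft {Z Y : Sp S} (hZ : IsAlgSpace Z) (g : Z ⟶ Y)
    (hg : LocP @LocallyOfFiniteType g) (hN : IsLocNoethSp Y) : IsLocNoethSp Z := by
  obtain ⟨V, p, hpe, hps, hVN⟩ := hN
  have : IsLocallyNoetherian V.left := hVN
  obtain ⟨U, q, hqe, hqs⟩ := hZ.atlas
  obtain ⟨W, sndW, fstW, hW⟩ := hpe.1 (q ≫ g)
  have hWe : Etale sndW.left := hpe.2 (q ≫ g) fstW sndW hW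
  have hWs : Surjective sndW.left := hps.2 (q ≫ g) fstW sndW hW
  obtain ⟨a, ha⟩ := (yon S).map_surjective fstW
  have hce : RepWith @Etale ((yon S).map sndW ≫ q) :=
    Groth.Agent.Lib.H69RefVal.repWith_etale_comp ((repWith_yon_map_iff _ _).2 hWe) hqe
  have hcs : RepWith @Surjective ((yon S).map sndW ≫ q) := by
    have := repWith_isMultiplicative (S := S) @Surjective.{u}
    exact MorphismProperty.comp_mem _ _ _ ((repWith_yon_map_iff _ _).2 hWs) hqs
  have halft : LocallyOfFiniteType a.left :=
    hg ((yon S).map sndW ≫ q) p a hce hpe (by rw [Category.assoc, ha, hW.w])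
  exact ⟨W, (yon S).map sndW ≫ q, hce, hcs, LocallyOfFiniteType.isLocallyNoetherian a.left⟩

/-- If every valuative square of `f` over a discrete valuation ring has at most one lift, then the diagonal of `f`
satisfies DVR-existence. -/
theorem dvrExistVC_diagonal_of_dvrUniq {X Y : Sp S} {f : X ⟶ Y}
    (hf : ∀ sq : ValSq f, IsDiscreteValuationRing sq.A → sq.HasUniq) :
    DvrExistVC (pullback.diagonal f) := by
  intro sq hA
  apply ValSq.hasLiftExt_of_hasLift
  have hc := sq.comm
  have h1 : (yon S).map sq.j ≫ sq.bot ≫ pullback.fst f f = sq.top := by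
    rw [← Category.assoc, ← hc, Category.assoc, pullback.diagonal_fst, Category.comp_id]
  have h2 : (yon S).map sq.j ≫ sq.bot ≫ pullback.snd f f = sq.top := by
    rw [← Category.assoc, ← hc, Category.assoc, pullback.diagonal_snd, Category.comp_id]
  let sqf : ValSq f :=
    { A := sq.A, K := sq.K, str := sq.str, top := sq.top, bot := (sq.bot ≫ pullback.fst f f) ≫ f,
      comm := by rw [← h1]; simp only [Category.assoc] }
  have heq : sq.bot ≫ pullback.fst f f = sq.bot ≫ pullback.snd f f :=
    hf sqf hA _ _ h1 rfl h2 (by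
      change (sq.bot ≫ pullback.snd f f) ≫ f = (sq.bot ≫ pullback.fst f f) ≫ f
      rw [Category.assoc, Category.assoc, pullback.condition])
  refine ⟨sq.bot ≫ pullback.fst f f, h1, ?_⟩
  apply pullback.hom_ext
  · rw [Category.assoc, pullback.diagonal_fst, Category.comp_id]
  · rw [Category.assoc, pullback.diagonal_snd, Category.comp_id, heq]

/-- **Noetherian valuative criterion for separatedness of algebraic spaces.** -/
theorem isSeparatedMor_of_dvrUniq {X Y : Space S} (f : X ⟶ Y)
    (hqs : IsQuasiSeparatedMor f.hom) (hft : LocP @LocallyOfFiniteType f.hom) (hN : IsLocNoethSp Y.obj)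
    (hu : ∀ sq : ValSq f.hom, IsDiscreteValuationRing sq.A → sq.HasUniq) : IsSeparatedMor f.hom := by
  have hX := X.property
  have hY := Y.property
  have hP : IsAlgSpace (pullback f.hom f.hom) :=
    isAlgSpace_of_isPullback hY.diag hX hX (IsPullback.of_hasPullback f.hom f.hom)
  have hlft' := Groth.Agent.Lib.H86ZarGlue.descendsAlong_etCov_lft.{u}
  have hfst : LocP @LocallyOfFiniteType (pullback.fst f.hom f.hom) :=
    locP_of_isPullback etLocalClass_lft hX hY hX (IsPullback.of_hasPullback f.hom f.hom).flip hft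
  have hPN : IsLocNoethSp (pullback f.hom f.hom) :=
    isLocNoethSp_of_locP_lft hP (pullback.fst f.hom f.hom ≫ f.hom)
      (locP_comp etLocalClass_lft hP hX hY hfst hft) hN
  obtain ⟨hrep, hΔlft, -, -, -⟩ := diagonal_hom_properties f
  have hΔ : LocP @LocallyOfFiniteType (pullback.diagonal f.hom) :=
    locP_of_repWith _ etLocalClass_lft.pre (fun _ c => hX.representable_from_yon c) hΔlft
  exact (isSeparatedMor_iff_isUnivClosedMor_diagonal hX hY f.hom).2
    (isUnivClosedMor_of_dvrExistVC hX hP _ hΔ (isQuasiCompactMor_of_repWith hqs) hPN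
      (dvrExistVC_diagonal_of_dvrUniq hu))

end Groth.Agent.Lib.H69DvrVC
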