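import Groth.Agent.Lib.H69DvrVC2
import Groth.Agent.Lib.ValDVR76C

set_option autoImplicit false
universe u

open CategoryTheory CategoryTheory.Limits AlgebraicGeometry IsLocalRing

namespace Groth.Agent.Lib.H69DvrVC

open AlgSp

/-- A valuation ring dominating a discrete valuation ring, with fraction field finite separable over that of the
discrete valuation ring, is a discrete valuation ring. -/
theorem isDiscreteValuationRing_of_local_finite_separable
    (A K A' K' : Type u) [CommRing A] [IsDomain A] [IsDiscreteValuationRing A] [Field K] [Algebra A K]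
    [IsFractionRing A K] [CommRing A'] [IsDomain A'] [ValuationRing A'] [Field K'] [Algebra A' K']
    [IsFractionRing A' K'] (φ : A →+* A') (ψ : K →+* K')
    (comm : (algebraMap A' K').comp φ = ψ.comp (algebraMap A K)) (hloc : IsLocalHom φ)
    (hfin : letI := ψ.toAlgebra; Module.Finite K K' ∧ Algebra.IsSeparable K K') :
    IsDiscreteValuationRing A' := by
  let _ := ψ.toAlgebra
  obtain ⟨hf, hs⟩ := hfin
  have hinj : Function.Injective (algebraMap A' K') := IsFractionRing.injective _ _
  let V : ValuationSubring K' := ValuationSubring.ofSubring (algebraMap A' K').range (by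
    intro x
    rcases ValuationRing.isInteger_or_isInteger A' x with ⟨y, hy⟩ | ⟨y, hy⟩
    · exact Or.inl ⟨y, hy⟩
    · exact Or.inr ⟨y, hy⟩)
  have hcomm : ∀ a : A, ψ (algebraMap A K a) = algebraMap A' K' (φ a) :=
    fun a => (RingHom.congr_fun comm a).symm
  have hdom : EtRam.Dominates A ((algebraMap K K').comp (algebraMap A K)) V := by
    refine ⟨fun a => ⟨φ a, (hcomm a).symm⟩, fun a ha => ?_⟩
    rw [Groth.Agent.Lib.ValDVR76.valuation_lt_one_iff']
    by_cases h0 : ((algebraMap K K').comp (algebraMap A K)) a = 0
    · exact Or.inl h0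
    · refine Or.inr ?_
      rintro ⟨b, hb⟩
      have h1 : algebraMap A' K' (φ a * b) = 1 := by
        rw [map_mul, ← hcomm, hb]
        exact mul_inv_cancel₀ h0
      have h2 : φ a * b = 1 := hinj (h1.trans (map_one _).symm)
      have h3 : IsUnit (φ a) := IsUnit.of_mul_eq_one _ h2
      have h4 : IsUnit a := hloc.map_nonunit a h3
      exact ((mem_maximalIdeal a).1 ha) h4
  have hV : IsDiscreteValuationRing V :=
    Groth.Agent.Lib.ValDVR76.isDiscreteValuationRing_of_dominates A K K' V hdom
  let g : A' →+* V := (algebraMap A' K').codRestrict V.toSubring (fun x => ⟨x, rfl⟩)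
  have hg : Function.Bijective g := by
    constructor
    · intro x y hxy
      exact hinj (congrArg Subtype.val hxy)
    · rintro ⟨_, x, rfl⟩
      exact ⟨x, rfl⟩
  exact IsDiscreteValuationRing.RingEquivClass.isDiscreteValuationRing (RingEquiv.ofBijective g hg).symm

end Groth.Agent.Lib.H69DvrVC
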