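import Groth.Agent.Lib.H69RefVal3
import Groth.Agent.Lib.AlgSpPts66
import Groth.Agent.Lib.AlgSpQC

set_option autoImplicit false
universe u

open CategoryTheory CategoryTheory.Limits AlgebraicGeometry Opposite IsLocalRing

namespace Groth.Agent.Lib.H69RefVal

open AlgSp Groth.Agent.Lib.H69AlgSp Groth.Agent.Lib.H69ValFS

variable {S : Scheme.{u}}

/-- For a quasi-compact morphism `h : U ⟶ X` with dense image and an affine etale chart `c : W ⟶ X`, every point of `W`
is a specialization of the image of a point of an affine scheme `U'` mapping to `U ×_X W`. -/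
theorem exists_specializes_chart {U X : Sp S} (hU : IsAlgSpace U) (hX : IsAlgSpace X) (h : U ⟶ X)
    (hh : IsQuasiCompactMor h) (hd : DenseRange (Points.map h)) (W : Over S) [IsAffine W.left]
    (c : (yon S).obj W ⟶ X) (hce : RepWith @Etale c) (w : W.left) :
    ∃ (U' : Over S) (_ : IsAffine U'.left) (u' : U'.left) (gW : U' ⟶ W) (gU : (yon S).obj U' ⟶ U),
      gU ≫ h = (yon S).map gW ≫ c ∧ gW.left u' ⤳ w := by
  have sqP := IsPullback.of_hasPullback h c
  have hUW : IsAlgSpace (pullback h c) :=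
    Groth.Agent.Lib.AlgSpFibre.isAlgSpace_of_isPullback hX.diag hU (IsAlgSpace.yon_obj _) sqP
  have hWqc : IsQuasiCompactSp ((yon S).obj W) :=
    (Groth.Agent.Lib.AlgSpQC.isQuasiCompactSp_yon_iff W).2 inferInstance
  obtain ⟨U₁, p₁, hp₁e, hp₁s, hU₁c⟩ := hh (IsAlgSpace.yon_obj W) hWqc c _ _ sqP
  have : CompactSpace ↥U₁.left := hU₁c
  obtain ⟨Y, q, hqs, hqe, hY⟩ := Scheme.exists_hom_isAffine_of_isZariskiLocalAtSource @Etale U₁.left
  let U' : Over S := Over.mk (q ≫ U₁.hom)
  let qo : U' ⟶ U₁ := Over.homMk q rfl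
  let p' : (yon S).obj U' ⟶ pullback h c := (yon S).map qo ≫ p₁
  obtain ⟨gW, hgW⟩ := (yon S).map_surjective (p' ≫ pullback.snd h c)
  have hcomm : (p' ≫ pullback.fst h c) ≫ h = (yon S).map gW ≫ c := by
    rw [hgW, Category.assoc, Category.assoc, pullback.condition]
    simp only [p', Category.assoc]
  have hclos : w ∈ closure (Set.range gW.left) := by
    rw [mem_closure_iff]
    intro N hN hwN
    have hopen : IsOpen (Points.ofPt c '' N) :=
      Groth.Agent.Lib.AlgSpPts66.isOpenMap_ofPt c hce N hN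
    obtain ⟨u, hu⟩ := hd.exists_mem_open hopen ⟨_, w, hwN, rfl⟩
    obtain ⟨n, hnN, hn⟩ := hu
    obtain ⟨z, hz1, hz2⟩ := Groth.Agent.Lib.AlgSpPts66.exists_of_isPullback c h
      (pullback.fst h c) (pullback.snd h c) sqP u (Points.ofScheme W n) (by
        rw [← Points.ofPt_eq_map_ofScheme, hn])
    obtain ⟨u₁, hu₁⟩ := Groth.Agent.Lib.AlgSpPts66.surjective_ofPt p₁ hp₁s z
    obtain ⟨y, hy⟩ := hqs.surj u₁
    refine ⟨n, hnN, y, ?_⟩
    have h1 : Points.ofPt p' y = z := by
      rw [Groth.Agent.Lib.AlgSpPts66.ofPt_yonMap_comp]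
      change Points.ofPt p₁ (q y) = z
      rw [hy, hu₁]
    have h2 : Points.ofPt ((yon S).map gW) y = Points.ofScheme W n := by
      rw [hgW, ← Points.map_ofPt, h1, hz2]
    rw [Groth.Agent.Lib.AlgSpPts66.ofPt_yonMap] at h2
    exact (Points.schemeEquiv W).injective h2
  have : IsAffine U'.left := hY
  obtain ⟨u', hu'⟩ := exists_specializes_of_mem_closure_range gW.left w hclos
  exact ⟨U', hY, u', gW, p' ≫ pullback.fst h c, hcomm, hu'⟩

end Groth.Agent.Lib.H69RefVal
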