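import Groth.Agent.Lib.H69DvrVC2
import Groth.Agent.Lib.H69RefVal4

set_option autoImplicit false
universe u

open CategoryTheory CategoryTheory.Limits AlgebraicGeometry Opposite Topology IsLocalRing

namespace Groth.Agent.Lib.H69DvrVC

open AlgSp Groth.Agent.Lib.AlgSpPoints Groth.Agent.Lib.AlgSpQC Groth.Agent.Lib.AlgSpFibre
  Groth.Agent.Lib.AlgSpDescent Groth.Agent.Lib.H69AlgSp Groth.Agent.Lib.H69AlgSpMor
  Groth.Agent.Lib.AlgSpLocP Groth.Agent.Lib.AlgSpBasic Groth.Agent.Lib.AlgSpFpqc
  Groth.Agent.Lib.AlgSpProper Groth.Agent.Lib.AlgSpValuative Groth.Agent.Lib.AlgSpAffineSpace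

variable {S : Scheme.{u}}

/-- Scheme level: over a locally Noetherian base, a specialization of the image of a point under a morphism locally of
finite type is realised by a discrete valuation ring. -/
theorem exists_dvr_of_specializes {W V : Scheme.{u}} [IsLocallyNoetherian V] (ψ : W ⟶ V)
    [LocallyOfFiniteType ψ] (w : W) (v : V) (hsp : ψ w ⤳ v) :
    ∃ (A : Type u) (_ : CommRing A) (_ : IsDomain A) (_ : IsDiscreteValuationRing A)
      (hbot : Spec (CommRingCat.of A) ⟶ V) (top : Spec (CommRingCat.of (FractionRing A)) ⟶ W),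
      top ≫ ψ = Spec.map (CommRingCat.ofHom (algebraMap A (FractionRing A))) ≫ hbot ∧
      hbot (closedPoint A) = v := by
  by_cases hne : v = ψ w
  · -- the trivial specialization: use power series over the residue field
    let κ := W.residueField w
    let A := PowerSeries κ
    let c : CommRingCat.of κ ⟶ CommRingCat.of A := CommRingCat.ofHom (PowerSeries.C : κ →+* PowerSeries κ)
    let hbot : Spec (CommRingCat.of A) ⟶ V := Spec.map c ≫ W.fromSpecResidueField w ≫ ψ
    let top : Spec (CommRingCat.of (FractionRing A)) ⟶ W :=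
      Spec.map (CommRingCat.ofHom (algebraMap A (FractionRing A))) ≫ Spec.map c ≫ W.fromSpecResidueField w
    refine ⟨A, inferInstance, inferInstance, inferInstance, hbot, top, ?_, ?_⟩
    · simp only [top, hbot, Category.assoc]
    · change ψ (W.fromSpecResidueField w (Spec.map c (closedPoint A))) = v
      rw [Scheme.fromSpecResidueField_apply, hne]
  · obtain ⟨A, hbot, hA, hcl, hcomm⟩ := Groth.Agent.S4450.result ψ w v hsp hne
    let e : FractionRing A ≃ₐ[A] W.residueField w := FractionRing.algEquiv A (W.residueField w)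
    have hsub : CommRingCat.ofHom (algebraMap A (FractionRing A)) =
        CommRingCat.ofHom A.subtype ≫
          CommRingCat.ofHom (e.symm : W.residueField w →+* FractionRing A) := by
      ext a
      change algebraMap A (FractionRing A) a = e.symm (a : W.residueField w)
      exact (e.symm.commutes a).symm
    let top : Spec (CommRingCat.of (FractionRing A)) ⟶ W :=
      Spec.map (CommRingCat.ofHom (e.symm : W.residueField w →+* FractionRing A)) ≫
        W.fromSpecResidueField w
    refine ⟨A, inferInstance, inferInstance, hA, hbot, top, ?_, hcl⟩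
    rw [hsub, Spec.map_comp, Category.assoc, Category.assoc, hcomm]

set_option maxHeartbeats 1600000 in
/-- **Specializations of the image are realised by discrete valuation rings** (algebraic spaces): for `f : X ⟶ Y` of
finite type with `Y` locally Noetherian, every point in the closure of the image of `|f|` is the image of the closed
point of a valuative square over a discrete valuation ring. -/
theorem exists_dvr_square_of_mem_closure_range {X Y : Sp S} (hX : IsAlgSpace X) (hY : IsAlgSpace Y) (f : X ⟶ Y)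
    (hlft : LocP @LocallyOfFiniteType f) (hq : IsQuasiCompactMor f) (hN : IsLocNoethSp Y) (y : Points Y)
    (hy : y ∈ closure (Set.range (Points.map f))) :
    ∃ (A : Type u) (_ : CommRing A) (_ : IsDomain A) (_ : IsDiscreteValuationRing A)
      (a : Spec (CommRingCat.of A) ⟶ S)
      (α : (yon S).obj (Over.mk a) ⟶ Y)
      (κ : (yon S).obj (Over.mk (Spec.map (CommRingCat.ofHom (algebraMap A (FractionRing A))) ≫ a)) ⟶ X),
      κ ≫ f = (yon S).map (Over.homMk (Spec.map (CommRingCat.ofHom (algebraMap A (FractionRing A))))) ≫ α ∧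
      Points.map α (Points.schemeEquiv (Over.mk a) (closedPoint A)) = y := by
  obtain ⟨V, p, hpe, hps, hVN⟩ := hN
  have : IsLocallyNoetherian V.left := hVN
  obtain ⟨v, hv⟩ := surjective_ofPt_of_repWith_surjective hps y
  obtain ⟨(V₀ : V.left.Opens), hV₀aff, hvV₀, -⟩ :=
    (TopologicalSpace.Opens.isBasis_iff_nbhd.mp V.left.isBasis_affineOpens)
      (show v ∈ (⊤ : V.left.Opens) from trivial)
  let TO : Over S := Over.mk (V₀.ι ≫ V.hom)
  let ι : TO ⟶ V := Over.homMk V₀.ι rfl
  have hTOa : IsAffine TO.left := hV₀aff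
  have hTOn : IsLocallyNoetherian TO.left := (inferInstance : IsLocallyNoetherian (V₀ : V.left.Opens))
  let p₀ : (yon S).obj TO ⟶ Y := restrictChart p V₀
  have hp₀e : RepWith @Etale p₀ :=
    Groth.Agent.Lib.H69RefVal.repWith_etale_comp
      ((repWith_yon_map_iff _ _).2 (inferInstance : Etale V₀.ι)) hpe
  let v₀ : ↥TO.left := ⟨v, hvV₀⟩
  have hv₀ : Points.ofPt p₀ v₀ = y := by
    rw [ofPt_restrictChart]
    exact hv
  -- the pullback
  have sqP := IsPullback.of_hasPullback f p₀
  have hPqc : IsQuasiCompactSp (pullback f p₀) :=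
    hq (IsAlgSpace.yon_obj TO) ((isQuasiCompactSp_yon_iff TO).2 inferInstance) p₀ _ _ sqP
  obtain ⟨W₁, q₁, hq₁e, hq₁s, hW₁c⟩ := hPqc
  have : CompactSpace ↥W₁.left := hW₁c
  obtain ⟨W₂, r, hrs, hre, hW₂⟩ := Scheme.exists_hom_isAffine_of_isZariskiLocalAtSource @Etale W₁.left
  let W : Over S := Over.mk (r ≫ W₁.hom)
  let ro : W ⟶ W₁ := Over.homMk r rfl
  have hWa : IsAffine W.left := hW₂
  let q : (yon S).obj W ⟶ pullback f p₀ := (yon S).map ro ≫ q₁
  have hqe : RepWith @Etale q :=
    Groth.Agent.Lib.H69RefVal.repWith_etale_comp ((repWith_yon_map_iff _ _).2 hre) hq₁e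
  have hqsurj : Function.Surjective (Points.ofPt q) := by
    intro z
    obtain ⟨w₁, hw₁⟩ := surjective_ofPt_of_repWith_surjective hq₁s z
    obtain ⟨w, hw⟩ := hrs.surj w₁
    refine ⟨w, ?_⟩
    change Points.ofPt ((yon S).map ro ≫ q₁) w = z
    rw [ofPt_yon_map_comp]
    change Points.ofPt q₁ (r w) = z
    rw [hw, hw₁]
  obtain ⟨ψ, hψ⟩ := (yon S).map_surjective (q ≫ pullback.snd f p₀)
  have hlft' := Groth.Agent.Lib.H86ZarGlue.descendsAlong_etCov_lft.{u}
  have hsndlft : LocP @LocallyOfFiniteType (pullback.snd f p₀) :=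
    locP_of_isPullback etLocalClass_lft hX hY (IsAlgSpace.yon_obj TO) sqP hlft
  have hψlft : LocallyOfFiniteType ψ.left :=
    hsndlft q (𝟙 _) ψ hqe (AlgSp.repWith_id _ TO) (by rw [Category.comp_id, hψ])
  -- `v₀` lies in the closure of the image of `ψ`
  have e1 : ∀ w, Points.schemeHomeo TO (ψ.left w) = Points.map (pullback.snd f p₀) (Points.ofPt q w) := by
    intro w
    rw [Points.map_ofPt, ← hψ]
    have := ofPt_yon_map_comp ψ (𝟙 _) w
    rw [Category.comp_id] at this
    exact this.symm
  have hpre : Points.ofPt p₀ ⁻¹' (Set.range (Points.map f)) = Set.range ψ.left := by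
    have h1 := preimage_image_eq_of_isPullback sqP (Set.univ : Set (Points X))
    rw [Set.image_univ] at h1
    rw [h1]
    ext t
    simp only [Set.mem_preimage, Set.preimage_univ, Set.image_univ, Set.mem_range]
    constructor
    · rintro ⟨z, hz⟩
      obtain ⟨w, rfl⟩ := hqsurj z
      refine ⟨w, ?_⟩
      apply (Points.schemeHomeo TO).injective
      rw [e1, hz]
    · rintro ⟨w, rfl⟩
      exact ⟨Points.ofPt q w, (e1 w).symm⟩
  have hcl : v₀ ∈ closure (Set.range ψ.left) := by
    rw [← hpre, ← (isOpenMap_ofPt_of_repWith_etale hp₀e).preimage_closure_eq_closure_preimage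
      (Points.continuous_ofPt p₀)]
    change Points.ofPt p₀ v₀ ∈ closure (Set.range (Points.map f))
    rw [hv₀]
    exact hy
  obtain ⟨w, hw⟩ := Groth.Agent.Lib.H69RefVal.exists_specializes_of_mem_closure_range ψ.left v₀ hcl
  obtain ⟨A, _, _, hA, hbot, top, hcomm, hclosed⟩ := exists_dvr_of_specializes ψ.left w v₀ hw
  -- assemble
  let a : Spec (CommRingCat.of A) ⟶ S := hbot ≫ TO.hom
  let bo : Over.mk a ⟶ TO := Over.homMk hbot rfl
  have htopw : top ≫ W.hom = Spec.map (CommRingCat.ofHom (algebraMap A (FractionRing A))) ≫ a := by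
    rw [← Over.w ψ, ← Category.assoc, hcomm, Category.assoc]
  let tp : Over.mk (Spec.map (CommRingCat.ofHom (algebraMap A (FractionRing A))) ≫ a) ⟶ W :=
    Over.homMk top htopw
  let jo : Over.mk (Spec.map (CommRingCat.ofHom (algebraMap A (FractionRing A))) ≫ a) ⟶ Over.mk a :=
    Over.homMk (Spec.map (CommRingCat.ofHom (algebraMap A (FractionRing A))))
  have hto : tp ≫ ψ = jo ≫ bo := by
    ext
    exact hcomm
  refine ⟨A, inferInstance, inferInstance, hA, a, (yon S).map bo ≫ p₀,
    (yon S).map tp ≫ q ≫ pullback.fst f p₀, ?_, ?_⟩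
  · change ((yon S).map tp ≫ q ≫ pullback.fst f p₀) ≫ f = (yon S).map jo ≫ (yon S).map bo ≫ p₀
    rw [← Category.assoc ((yon S).map jo), ← Functor.map_comp, ← hto, Functor.map_comp, hψ]
    simp only [Category.assoc]
    rw [pullback.condition]
  · have h1 : Points.map ((yon S).map bo ≫ p₀) (Points.schemeEquiv (Over.mk a) (closedPoint A)) =
        Points.ofPt ((yon S).map bo ≫ p₀) (closedPoint A) :=
      (Points.ofPt_eq_map_ofScheme _ _).symm
    rw [h1, ofPt_yon_map_comp]
    change Points.ofPt p₀ (hbot (closedPoint A)) = y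
    rw [hclosed, hv₀]

end Groth.Agent.Lib.H69DvrVC
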