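import Groth.Agent.Lib.ValCenter2
import Groth.Agent.Lib.ValDVR76B
import Mathlib.RingTheory.Etale.Field
import Mathlib.RingTheory.Etale.Basic
import Mathlib.RingTheory.Valuation.LocalSubring

set_option autoImplicit false
universe u

open IsLocalRing TensorProduct

namespace Groth.Agent.Lib.H69DvrVC

open Groth.Agent.Lib.ValCenter

/-- **Finite-union form of EGA II 7.3.10.** Let `A₀` be a Noetherian local ring and `F` a field essentially of finite
type over `A₀`, with finitely many finite subsets `D k` of `F`.  If every discrete valuation ring of `F` dominating `A₀`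
contains one of the `D k`, then so does every valuation ring of `F` dominating `A₀`. -/
theorem exists_subset_of_forall_dvr (A₀ : Type u) [CommRing A₀] [IsNoetherianRing A₀] [IsLocalRing A₀]
    (F : Type u) [Field F] [Algebra A₀ F] [Algebra.EssFiniteType A₀ F]
    {ι : Type*} [Finite ι] [Nonempty ι] (D : ι → Finset F)
    (H : ∀ A' : ValuationSubring F, IsDiscreteValuationRing A' → Dom A' (algebraMap A₀ F) →
      ∃ k, ∀ g ∈ D k, g ∈ A')
    (V : ValuationSubring F) (hV : Dom V (algebraMap A₀ F)) : ∃ k, ∀ g ∈ D k, g ∈ V := by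
  classical
  by_contra hcon
  push Not at hcon
  choose g hgD hgV using hcon
  have := Fintype.ofFinite ι
  let G : Finset F := Finset.univ.image (fun k => (g k)⁻¹)
  have hg0 : ∀ k, g k ≠ 0 := fun k h0 => hgV k (h0 ▸ V.zero_mem)
  have hG : ∀ t ∈ G, V.valuation t < 1 := by
    intro t ht
    obtain ⟨k, -, rfl⟩ := Finset.mem_image.1 ht
    rw [map_inv₀]
    have h1 : 1 < V.valuation (g k) := by
      rw [← not_le, ValuationSubring.valuation_le_one_iff]
      exact hgV k
    exact inv_lt_one_of_one_lt₀ h1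
  have hG0 : ∃ t ∈ G, t ≠ 0 := by
    obtain ⟨k⟩ := (inferInstance : Nonempty ι)
    exact ⟨(g k)⁻¹, Finset.mem_image.2 ⟨k, Finset.mem_univ _, rfl⟩, inv_ne_zero (hg0 k)⟩
  obtain ⟨A', hA', hdom, hlt⟩ := exists_dvr_dom_of_valuationSubring A₀ F V hV G hG hG0
  obtain ⟨k, hk⟩ := H A' hA' hdom
  have h1 := hlt (g k)⁻¹ (Finset.mem_image.2 ⟨k, Finset.mem_univ _, rfl⟩)
  rw [map_inv₀] at h1
  have h2 : A'.valuation (g k) ≤ 1 := (A'.valuation_le_one_iff _).2 (hk (g k) (hgD k))
  have h3 : 0 < A'.valuation (g k) := by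
    rw [zero_lt_iff]
    exact (A'.valuation.ne_zero_iff).2 (hg0 k)
  have h4 : 1 ≤ (A'.valuation (g k))⁻¹ := (one_le_inv₀ h3).2 h2
  exact (not_lt.2 h4) h1

/-- A valuation subring of an extension field dominating a valuation subring of the base field contracts to it. -/
theorem comap_eq_of_dominates {L M : Type*} [Field L] [Field M] (f : L →+* M) (V : ValuationSubring L)
    (W : ValuationSubring M) (hle : ∀ x ∈ V, f x ∈ W)
    (hloc : ∀ x ∈ V, V.valuation x < 1 → W.valuation (f x) < 1) : W.comap f = V := by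
  refine SetLike.ext fun x => ⟨fun hx => ?_, fun hx => hle x hx⟩
  rw [ValuationSubring.mem_comap] at hx
  by_contra hxV
  have hx0 : x ≠ 0 := fun h => hxV (h ▸ V.zero_mem)
  have hinv : x⁻¹ ∈ V := (V.mem_or_inv_mem x).resolve_left hxV
  have h1 : V.valuation x⁻¹ < 1 := by
    rw [map_inv₀]
    have h2 : 1 < V.valuation x := by
      rw [← not_le, ValuationSubring.valuation_le_one_iff]
      exact hxV
    exact inv_lt_one_of_one_lt₀ h2
  have h3 := hloc x⁻¹ hinv h1
  rw [map_inv₀, map_inv₀] at h3
  have h4 : W.valuation (f x) ≤ 1 := (W.valuation_le_one_iff _).2 hx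
  have h5 : 0 < W.valuation (f x) := by
    rw [zero_lt_iff]
    exact (W.valuation.ne_zero_iff).2 (by rw [Ne, map_eq_zero]; exact hx0)
  exact (not_lt.2 ((one_le_inv₀ h5).2 h4)) h3

/-- The contraction of a discrete valuation ring to a subfield over which the field is algebraic is a discrete valuation
ring. -/
theorem isDiscreteValuationRing_comap {L M : Type*} [Field L] [Field M] [Algebra L M]
    [Algebra.IsAlgebraic L M] (W : ValuationSubring M) [hW : IsDiscreteValuationRing W] :
    IsDiscreteValuationRing (W.comap (algebraMap L M)) := by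
  classical
  set V := W.comap (algebraMap L M) with hVdef
  let incl : V →+* W := (algebraMap L M).comp V.subtype |>.codRestrict W.toSubring (fun x => x.2)
  have hincl : ∀ x : V, ((incl x : W) : M) = algebraMap L M (x : L) := fun x => rfl
  have hincl_inj : Function.Injective incl := by
    intro x y hxy
    apply Subtype.ext
    exact (algebraMap L M).injective (congrArg Subtype.val hxy)
  -- divisibility criterion
  have hdvd : ∀ x y : V, x ≠ 0 → incl x ∣ incl y → x ∣ y := by
    intro x y hx0 ⟨w, hw⟩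
    have hx0' : (x : L) ≠ 0 := fun h => hx0 (Subtype.ext h)
    have hmem : (y : L) / (x : L) ∈ V := by
      change algebraMap L M ((y : L) / (x : L)) ∈ W
      have h1 : algebraMap L M ((y : L) / (x : L)) = (w : M) := by
        rw [map_div₀]
        have h2 : algebraMap L M (y : L) = algebraMap L M (x : L) * (w : M) := by
          have := congrArg Subtype.val hw
          exact this
        rw [h2, mul_div_cancel_left₀]
        rw [Ne, map_eq_zero]
        exact hx0'
      rw [h1]
      exact w.2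
    refine ⟨⟨_, hmem⟩, Subtype.ext ?_⟩
    change (y : L) = (x : L) * ((y : L) / (x : L))
    rw [mul_div_cancel₀ _ hx0']
  refine { principal := ?_, not_a_field' := ?_ }
  · intro I
    by_cases hI : I = ⊥
    · rw [hI]
      exact ⟨0, (Ideal.span_singleton_eq_bot.2 rfl).symm⟩
    · obtain ⟨x₁, hx₁I, hx₁0⟩ := Submodule.exists_mem_ne_zero_of_ne_bot hI
      let P : ℕ → Prop := fun n => ∃ x ∈ I, x ≠ 0 ∧ IsDiscreteValuationRing.addVal W (incl x) = n
      have hne1 : incl x₁ ≠ 0 := fun h => hx₁0 (hincl_inj (h.trans (map_zero _).symm))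
      obtain ⟨n₁, hn₁⟩ := ENat.ne_top_iff_exists.1 ((IsDiscreteValuationRing.addVal_eq_top_iff).not.2 hne1)
      have hP : ∃ n, P n := ⟨n₁, x₁, hx₁I, hx₁0, hn₁.symm⟩
      obtain ⟨x₀, hx₀I, hx₀0, hx₀n⟩ := Nat.find_spec hP
      refine ⟨x₀, le_antisymm ?_ ?_⟩
      · intro y hyI
        rw [Ideal.submodule_span_eq, Ideal.mem_span_singleton]
        by_cases hy0 : y = 0
        · rw [hy0]
          exact dvd_zero _
        have hney : incl y ≠ 0 := fun h => hy0 (hincl_inj (h.trans (map_zero _).symm))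
        obtain ⟨m, hm⟩ := ENat.ne_top_iff_exists.1 ((IsDiscreteValuationRing.addVal_eq_top_iff).not.2 hney)
        have hle : Nat.find hP ≤ m := Nat.find_min' hP ⟨y, hyI, hy0, hm.symm⟩
        have h1 : IsDiscreteValuationRing.addVal W (incl x₀) ≤ IsDiscreteValuationRing.addVal W (incl y) := by
          rw [hx₀n, ← hm]
          exact_mod_cast hle
        have h2 : incl x₀ ∣ incl y := (IsDiscreteValuationRing.addVal_le_iff_dvd).1 h1
        exact hdvd x₀ y hx₀0 h2
      · rw [Ideal.submodule_span_eq, Ideal.span_singleton_le_iff_mem]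
        exact hx₀I
  · -- not a field
    obtain ⟨ϖ, hϖ⟩ := IsDiscreteValuationRing.exists_irreducible W
    have hϖ0 : (ϖ : M) ≠ 0 := fun h => hϖ.ne_zero (Subtype.ext h)
    have hex : ∃ x : L, algebraMap L M x ∉ W := by
      by_contra hall
      push Not at hall
      have hint : IsIntegral L ((ϖ : M)⁻¹) := (Algebra.IsAlgebraic.isAlgebraic _).isIntegral
      have hmem : (ϖ : M)⁻¹ ∈ W := Groth.Agent.Lib.ValDVR76.mem_of_isIntegral W hall hint
      apply hϖ.not_isUnit
      exact isUnit_iff_exists_inv.2 ⟨⟨_, hmem⟩, Subtype.ext (mul_inv_cancel₀ hϖ0)⟩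
    obtain ⟨x, hx⟩ := hex
    have hx0 : x ≠ 0 := fun h => hx (by rw [h, map_zero]; exact W.zero_mem)
    have hxV : x ∉ V := hx
    have hinv : x⁻¹ ∈ V := (V.mem_or_inv_mem x).resolve_left hxV
    intro hbot
    have hmem : (⟨x⁻¹, hinv⟩ : V) ∈ maximalIdeal V := by
      rw [mem_maximalIdeal, mem_nonunits_iff]
      intro hu
      obtain ⟨z, hz⟩ := isUnit_iff_exists_inv.1 hu
      have : (z : L) = x := by
        have h1 : x⁻¹ * (z : L) = 1 := congrArg Subtype.val hz
        field_simp at h1
        exact h1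
      exact hxV (this ▸ z.2)
    rw [hbot, Ideal.mem_bot] at hmem
    exact inv_ne_zero hx0 (congrArg Subtype.val hmem)

/-- **Retraction lemma.** Over a valuation ring `R` whose fraction field is algebraically closed, an etale algebra
with a prime over the maximal ideal has a retraction onto `R`. -/
theorem exists_retraction_of_etale {Ω : Type u} [Field Ω] [IsAlgClosed Ω] {R : Type u} [CommRing R]
    [IsDomain R] [ValuationRing R] [Algebra R Ω] [IsFractionRing R Ω] (D : Type u) [CommRing D]
    [Algebra R D] [Algebra.Etale R D] (𝔮 : Ideal D) [h𝔮p : 𝔮.IsPrime]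
    (h𝔮 : 𝔮.comap (algebraMap R D) = maximalIdeal R) :
    ∃ ρ : D →+* R, ρ.comp (algebraMap R D) = RingHom.id R := by
  classical
  have hflat : Module.Flat R D := inferInstance
  have hinjRΩ : Function.Injective (algebraMap R Ω) := IsFractionRing.injective R Ω
  let e : (Ω ⊗[R] D) ≃ₐ[Ω] (PrimeSpectrum (Ω ⊗[R] D) → Ω) :=
    Algebra.FormallyEtale.equivPiOfIsSepClosed Ω (Ω ⊗[R] D)
  let ι : D →ₐ[R] (Ω ⊗[R] D) := Algebra.TensorProduct.includeRight
  have hι : Function.Injective ι := Algebra.TensorProduct.includeRight_injective hinjRΩ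
  let π : PrimeSpectrum (Ω ⊗[R] D) → (D →+* Ω) := fun p =>
    (Pi.evalRingHom (fun _ => Ω) p).comp ((e : (Ω ⊗[R] D) →+* _).comp (ι : D →+* _))
  have hπ : ∀ p d, π p d = e (ι d) p := fun p d => rfl
  have hπR : ∀ p (r : R), π p (algebraMap R D r) = algebraMap R Ω r := by
    intro p r
    rw [hπ]
    have h1 : ι (algebraMap R D r) = algebraMap Ω (Ω ⊗[R] D) (algebraMap R Ω r) := by
      rw [AlgHom.commutes, IsScalarTower.algebraMap_apply R Ω (Ω ⊗[R] D)]
    rw [h1, AlgEquiv.commutes]
    rfl
  have hfin0 : Module.Finite Ω (Ω ⊗[R] D) := Algebra.FormallyUnramified.finite_of_free Ω _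
  have hart : IsArtinianRing (Ω ⊗[R] D) := isArtinian_of_tower Ω inferInstance
  have hfin : Finite (PrimeSpectrum (Ω ⊗[R] D)) := inferInstance
  have := Fintype.ofFinite (PrimeSpectrum (Ω ⊗[R] D))
  -- some kernel is contained in `𝔮`
  have hinf : (Finset.univ : Finset (PrimeSpectrum (Ω ⊗[R] D))).inf (fun p => RingHom.ker (π p)) ≤ 𝔮 := by
    intro d hd
    have h0 : d = 0 := by
      apply hι
      apply e.injective
      rw [map_zero, map_zero]
      funext p
      have := (Finset.inf_le (f := fun p => RingHom.ker (π p)) (Finset.mem_univ p)) hd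
      exact this
    rw [h0]
    exact 𝔮.zero_mem
  obtain ⟨p, -, hp⟩ := (h𝔮p.inf_le').1 hinf
  -- the local ring `D_𝔮` maps to `Ω`
  have hunits : ∀ y : 𝔮.primeCompl, IsUnit (π p y) := by
    intro y
    rw [isUnit_iff_ne_zero]
    intro h0
    exact y.2 (hp h0)
  let f : Localization.AtPrime 𝔮 →+* Ω := IsLocalization.lift (M := 𝔮.primeCompl) hunits
  have hf : ∀ d : D, f (algebraMap D (Localization.AtPrime 𝔮) d) = π p d := fun d =>
    IsLocalization.lift_eq hunits d
  obtain ⟨B, hB, hBloc⟩ := exists_factor_valuationRing f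
  -- `B` is the image of `R`
  have hBR : ∀ x ∈ B, ∃ r : R, algebraMap R Ω r = x := by
    intro x hx
    by_cases hx0 : x = 0
    · exact ⟨0, by rw [hx0, map_zero]⟩
    rcases ValuationRing.isInteger_or_isInteger R x with ⟨r, hr⟩ | ⟨r, hr⟩
    · exact ⟨r, hr⟩
    · by_cases hru : IsUnit r
      · obtain ⟨s, hs⟩ := isUnit_iff_exists_inv.1 hru
        refine ⟨s, ?_⟩
        have h1 : algebraMap R Ω r * algebraMap R Ω s = 1 := by rw [← map_mul, hs, map_one]
        rw [hr] at h1
        field_simp at h1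
        exact h1
      · exfalso
        have hrm : r ∈ maximalIdeal R := (mem_maximalIdeal r).2 hru
        have hrq : algebraMap R D r ∈ 𝔮 := by
          have : r ∈ 𝔮.comap (algebraMap R D) := h𝔮 ▸ hrm
          exact this
        have hnu : ¬ IsUnit (algebraMap D (Localization.AtPrime 𝔮) (algebraMap R D r)) := by
          intro hu
          have := (IsLocalization.AtPrime.isUnit_to_map_iff (Localization.AtPrime 𝔮) 𝔮 _).1 hu
          exact this hrq
        have hnuB : ¬ IsUnit (f.codRestrict B.toSubring hB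
            (algebraMap D (Localization.AtPrime 𝔮) (algebraMap R D r))) :=
          fun hu => hnu (hBloc.map_nonunit _ hu)
        apply hnuB
        have hval : f (algebraMap D (Localization.AtPrime 𝔮) (algebraMap R D r)) = x⁻¹ := by
          rw [hf, hπR, hr]
        refine isUnit_iff_exists_inv.2 ⟨⟨x, hx⟩, Subtype.ext ?_⟩
        change f _ * x = 1
        rw [hval, inv_mul_cancel₀ hx0]
  -- the retraction
  have hmem : ∀ d : D, π p d ∈ (algebraMap R Ω).range := by
    intro d
    obtain ⟨r, hr⟩ := hBR _ (hB (algebraMap D (Localization.AtPrime 𝔮) d))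
    rw [hf] at hr
    exact ⟨r, hr⟩
  let eR : R ≃+* (algebraMap R Ω).range := RingEquiv.ofBijective (algebraMap R Ω).rangeRestrict
    ⟨fun _ _ hab => hinjRΩ (congrArg Subtype.val hab), (algebraMap R Ω).rangeRestrict_surjective⟩
  refine ⟨(eR.symm : (algebraMap R Ω).range →+* R).comp ((π p).codRestrict (algebraMap R Ω).range hmem), ?_⟩
  apply RingHom.ext
  intro r
  change eR.symm (((π p).codRestrict (algebraMap R Ω).range hmem) (algebraMap R D r)) = r
  rw [RingEquiv.symm_apply_eq]
  apply Subtype.ext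
  change π p (algebraMap R D r) = algebraMap R Ω r
  exact hπR p r

/-- Global form of `exists_subset_of_forall_dvr` over a Noetherian ring. -/
theorem exists_subset_of_forall_dvr' {B₀ : Type u} [CommRing B₀] [IsNoetherianRing B₀] {F : Type u} [Field F]
    (ξ₁ : B₀ →+* F) (hξ₁ : ξ₁.EssFiniteType) {ι : Type*} [Finite ι] [Nonempty ι] (D : ι → Finset F)
    (H : ∀ A' : ValuationSubring F, IsDiscreteValuationRing A' → (∀ b, ξ₁ b ∈ A') → ∃ k, ∀ g ∈ D k, g ∈ A')
    (V : ValuationSubring F) (hV : ∀ b, ξ₁ b ∈ V) : ∃ k, ∀ g ∈ D k, g ∈ V := by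
  classical
  let ξV : B₀ →+* V := ξ₁.codRestrict V.toSubring hV
  let p : Ideal B₀ := (maximalIdeal V).comap ξV
  have hp : p.IsPrime := Ideal.comap_isPrime ξV (maximalIdeal V)
  let A₀ := Localization.AtPrime p
  have hunits : ∀ y : p.primeCompl, IsUnit (ξ₁ y) := by
    intro y
    rw [isUnit_iff_ne_zero]
    intro h0
    apply y.2
    change ξV y ∈ maximalIdeal V
    have : ξV y = 0 := Subtype.ext h0
    rw [this]
    exact Ideal.zero_mem _
  let j : A₀ →+* F := IsLocalization.lift (M := p.primeCompl) hunits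
  have hj : ∀ b, j (algebraMap B₀ A₀ b) = ξ₁ b := fun b => IsLocalization.lift_eq hunits b
  let _ : Algebra B₀ F := ξ₁.toAlgebra
  let _ : Algebra A₀ F := j.toAlgebra
  have : IsScalarTower B₀ A₀ F := IsScalarTower.of_algebraMap_eq' (by
    apply RingHom.ext
    intro b
    exact (hj b).symm)
  have hE : Algebra.EssFiniteType B₀ F := hξ₁
  have hE' : Algebra.EssFiniteType A₀ F := Algebra.EssFiniteType.of_comp B₀ A₀ F
  have hN : IsNoetherianRing A₀ := IsLocalization.isNoetherianRing p.primeCompl A₀ inferInstance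
  have hdom : Dom V (algebraMap A₀ F) := by
    have key : ∀ a : A₀, j a ∈ V ∧ (a ∈ maximalIdeal A₀ → V.valuation (j a) < 1) := by
      intro a
      obtain ⟨b, s, rfl⟩ := IsLocalization.exists_mk'_eq p.primeCompl a
      have hs0 : ξ₁ s ≠ 0 := (hunits s).ne_zero
      have hjm : j (IsLocalization.mk' A₀ b s) = ξ₁ b * (ξ₁ s)⁻¹ := by
        rw [IsLocalization.lift_mk'_spec]
        field_simp
      have hsu : IsUnit (ξV s) := by
        by_contra hnu
        exact s.2 ((mem_maximalIdeal _).2 hnu)
      obtain ⟨t, ht⟩ := isUnit_iff_exists_inv.1 hsu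
      have ht' : (ξ₁ s) * (t : F) = 1 := congrArg Subtype.val ht
      have hinv : (ξ₁ s)⁻¹ = (t : F) := (eq_inv_of_mul_eq_one_right ht').symm
      have hmem : j (IsLocalization.mk' A₀ b s) = ((ξV b * t : V) : F) := by
        rw [hjm, hinv]; rfl
      refine ⟨hmem ▸ (ξV b * t).2, fun hm => ?_⟩
      have hbp : b ∈ p := by
        have := (IsLocalization.AtPrime.mk'_mem_maximal_iff A₀ p b s).1 hm
        exact this
      rw [hmem]
      apply (V.valuation_lt_one_iff _).1
      exact Ideal.mul_mem_right _ _ hbp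
    exact ⟨fun a => (key a).1, fun a ha => (key a).2 ha⟩
  refine exists_subset_of_forall_dvr A₀ F D (fun A' hA' hdomA' => H A' hA' fun b => ?_) V hdom
  have := hdomA'.1 (algebraMap B₀ A₀ b)
  rwa [show algebraMap A₀ F (algebraMap B₀ A₀ b) = ξ₁ b from hj b] at this

end Groth.Agent.Lib.H69DvrVC
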