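/-
helper85: Stacks 0894 — the valuative criterion tested only on squares whose generic point factors
through a quasi-compact morphism `h : U ⟶ X` with dense image.
-/
import Groth.Agent.Lib.ValCenter
import Groth.Agent.Lib.DenseSpecializes
import Groth.Agent.Lib.UnivClosedAffineSpace

set_option autoImplicit false
universe u
open CategoryTheory CategoryTheory.Limits AlgebraicGeometry IsLocalRing

namespace Groth.Agent.Lib.ValDense

open Groth.Agent.Lib.ValCenter

/-- Valuative squares over `f` whose top map factors through `h` have unique lifts. -/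
def UniqueLiftsThrough {U X S : Scheme.{u}} (f : X ⟶ S) (h : U ⟶ X) : Prop :=
  ∀ sq : ValuativeCommSq f, (∃ i : Spec (.of sq.K) ⟶ U, i ≫ h = sq.i₁) →
      Nonempty (Unique sq.commSq.LiftStruct)

/-- Valuative squares over `f` whose top map factors through `h` have at most one lift. -/
def SubsingletonLiftsThrough {U X S : Scheme.{u}} (f : X ⟶ S) (h : U ⟶ X) : Prop :=
  ∀ sq : ValuativeCommSq f, (∃ i : Spec (.of sq.K) ⟶ U, i ≫ h = sq.i₁) →
      Subsingleton sq.commSq.LiftStruct

variable {U X S : Scheme.{u}}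

lemma UniqueLiftsThrough.subsingleton {f : X ⟶ S} {h : U ⟶ X} (H : UniqueLiftsThrough f h) :
    SubsingletonLiftsThrough f h := fun sq hsq ↦ by
  obtain ⟨hu⟩ := H sq hsq
  exact hu.instSubsingleton

set_option backward.isDefEq.respectTransparency.types false in
/-- Specializations lift along `f` if valuative squares through a dense quasi-compact `h` have
unique lifts (composite valuation rings). -/
theorem specializingMap_of_uniqueLiftsThrough (f : X ⟶ S) (h : U ⟶ X) [QuasiCompact h]
    (hd : DenseRange h) (H : UniqueLiftsThrough f h) : SpecializingMap f := by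
  intro x' s hs
  obtain ⟨u, hu⟩ := Groth.Agent.Lib.DenseSpecializes.exists_specializes_of_denseRange h hd x'
  -- the valuation ring `A₁` of `κ(u)` dominating `O_{X,x'}`
  let φ₁ : X.presheaf.stalk x' ⟶ U.residueField u :=
    X.presheaf.stalkSpecializes hu ≫ h.stalkMap u ≫ U.residue u
  obtain ⟨A₁, hA₁, hA₁loc⟩ := exists_factor_valuationRing φ₁.hom
  let θ₁ : X.presheaf.stalk x' →+* A₁ := φ₁.hom.codRestrict _ hA₁
  have hθ₁loc : IsLocalHom θ₁ := hA₁loc
  let ψ₀ : S.presheaf.stalk s ⟶ X.presheaf.stalk x' :=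
    S.presheaf.stalkSpecializes hs ≫ f.stalkMap x'
  -- the valuation ring `A₂` of the residue field of `A₁` dominating `O_{S,s}`
  let ψ : S.presheaf.stalk s →+* ResidueField A₁ := (residue A₁).comp (θ₁.comp ψ₀.hom)
  obtain ⟨A₂, hA₂, hA₂loc⟩ := exists_factor_valuationRing ψ
  let A : ValuationSubring (U.residueField u) := composite A₁ A₂
  have hAle : A ≤ A₁ := composite_le A₁ A₂
  have hθmem : ∀ a, φ₁.hom (ψ₀.hom a) ∈ A := by
    intro a
    rw [mem_composite]
    exact ⟨hA₁ _, hA₂ a⟩
  let θ : S.presheaf.stalk s →+* A := (φ₁.hom.comp ψ₀.hom).codRestrict A.toSubring hθmem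
  have hθloc : IsLocalHom θ := by
    constructor
    intro a ha
    by_contra hnu
    have h1 : ¬ IsUnit (ψ.codRestrict A₂.toSubring hA₂ a) := fun hu ↦ hnu (hA₂loc.map_nonunit _ hu)
    have h2 : A₂.valuation (ψ a) < 1 :=
      (A₂.valuation_lt_one_iff _).mp ((mem_maximalIdeal _).mpr h1)
    have h3 : A.valuation (φ₁.hom (ψ₀.hom a)) < 1 :=
      valuation_composite_lt_one A₁ A₂ (hA₁ _) h2
    have h4 : (⟨φ₁.hom (ψ₀.hom a), hθmem a⟩ : A) ∈ maximalIdeal A :=
      (A.valuation_lt_one_iff _).mpr h3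
    exact ((mem_maximalIdeal _).mp h4) ha
  -- the morphisms
  let y : Spec (.of A) ⟶ S := Spec.map (CommRingCat.ofHom θ) ≫ S.fromSpecStalk s
  let m₁ : Spec (.of A₁) ⟶ X := Spec.map (CommRingCat.ofHom θ₁) ≫ X.fromSpecStalk x'
  let i₁ : Spec (.of (U.residueField u)) ⟶ X := U.fromSpecResidueField u ≫ h
  have hφ₁ : Spec.map φ₁ ≫ X.fromSpecStalk x' = i₁ := by
    simp only [φ₁, i₁, Spec.map_comp, Category.assoc,
      Scheme.SpecMap_stalkSpecializes_fromSpecStalk, Scheme.SpecMap_stalkMap_fromSpecStalk,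
      Scheme.fromSpecResidueField]
  have hψ₀ : Spec.map ψ₀ ≫ S.fromSpecStalk s = X.fromSpecStalk x' ≫ f := by
    simp only [ψ₀, Spec.map_comp, Category.assoc,
      Scheme.SpecMap_stalkSpecializes_fromSpecStalk, Scheme.SpecMap_stalkMap_fromSpecStalk]
  have e1 : ψ₀ ≫ φ₁ = CommRingCat.ofHom θ ≫
      CommRingCat.ofHom (algebraMap A (U.residueField u)) := by
    ext a; rfl
  have w : i₁ ≫ f = Spec.map (CommRingCat.ofHom (algebraMap A (U.residueField u))) ≫ y := by
    rw [← hφ₁, Category.assoc, ← hψ₀, ← Spec.map_comp_assoc, e1, Spec.map_comp_assoc]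
  let sq : ValuativeCommSq f :=
    { R := A, K := U.residueField u, i₁ := i₁, i₂ := y, commSq := ⟨w⟩ }
  obtain ⟨hl⟩ := H sq ⟨U.fromSpecResidueField u, rfl⟩
  let l : Spec (.of A) ⟶ X := hl.default.l
  have hl₁ : Spec.map (CommRingCat.ofHom (algebraMap A (U.residueField u))) ≫ l = i₁ :=
    hl.default.fac_left
  have hl₂ : l ≫ f = y := hl.default.fac_right
  -- the second square
  let incl : A →+* A₁ := ValuationSubring.inclusion A A₁ hAle
  let y₁ : Spec (.of A₁) ⟶ S := Spec.map (CommRingCat.ofHom incl) ≫ y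
  have e2 : CommRingCat.ofHom incl ≫ CommRingCat.ofHom (algebraMap A₁ (U.residueField u)) =
      CommRingCat.ofHom (algebraMap A (U.residueField u)) := by
    ext a; rfl
  have w₁ : i₁ ≫ f = Spec.map (CommRingCat.ofHom (algebraMap A₁ (U.residueField u))) ≫ y₁ := by
    rw [w, ← e2, Spec.map_comp_assoc]
  let sq₁ : ValuativeCommSq f :=
    { R := A₁, K := U.residueField u, i₁ := i₁, i₂ := y₁, commSq := ⟨w₁⟩ }
  have e3 : CommRingCat.ofHom θ₁ ≫ CommRingCat.ofHom (algebraMap A₁ (U.residueField u)) = φ₁ := by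
    ext a; rfl
  have e4 : ψ₀ ≫ CommRingCat.ofHom θ₁ = CommRingCat.ofHom θ ≫ CommRingCat.ofHom incl := by
    ext a; rfl
  have e4' : Spec.map (CommRingCat.ofHom θ₁) ≫ Spec.map ψ₀ =
      Spec.map (CommRingCat.ofHom incl) ≫ Spec.map (CommRingCat.ofHom θ) := by
    rw [← Spec.map_comp, ← Spec.map_comp]
    exact congrArg Spec.map e4
  let La : sq₁.commSq.LiftStruct :=
    { l := Spec.map (CommRingCat.ofHom incl) ≫ l
      fac_left := by
        change Spec.map (CommRingCat.ofHom (algebraMap A₁ (U.residueField u))) ≫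
          Spec.map (CommRingCat.ofHom incl) ≫ l = i₁
        rw [← Spec.map_comp_assoc, e2, hl₁]
      fac_right := by
        change (Spec.map (CommRingCat.ofHom incl) ≫ l) ≫ f = y₁
        rw [Category.assoc, hl₂] }
  let Lb : sq₁.commSq.LiftStruct :=
    { l := m₁
      fac_left := by
        change Spec.map (CommRingCat.ofHom (algebraMap A₁ (U.residueField u))) ≫
          Spec.map (CommRingCat.ofHom θ₁) ≫ X.fromSpecStalk x' = i₁
        rw [← Spec.map_comp_assoc, e3, hφ₁]
      fac_right := by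
        change (Spec.map (CommRingCat.ofHom θ₁) ≫ X.fromSpecStalk x') ≫ f =
          Spec.map (CommRingCat.ofHom incl) ≫ Spec.map (CommRingCat.ofHom θ) ≫ S.fromSpecStalk s
        rw [Category.assoc, ← hψ₀, ← Category.assoc, e4', Category.assoc] }
  obtain ⟨hu₁⟩ := H sq₁ ⟨U.fromSpecResidueField u, rfl⟩
  have hLab : La = Lb := (hu₁.instSubsingleton).elim La Lb
  have hlm : Spec.map (CommRingCat.ofHom incl) ≫ l = m₁ := congrArg (·.l) hLab
  let pt : ↥(Spec (CommRingCat.of A)) := closedPoint A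
  let pt₁ : ↥(Spec (CommRingCat.of A₁)) := closedPoint A₁
  refine ⟨l pt, ?_, ?_⟩
  · have h1 : m₁ pt₁ = x' := by
      change (Spec.map (CommRingCat.ofHom θ₁) ≫ X.fromSpecStalk x') pt₁ = x'
      rw [Scheme.Hom.comp_apply]
      have : (Spec.map (CommRingCat.ofHom θ₁)) pt₁ = closedPoint (X.presheaf.stalk x') :=
        comap_closedPoint θ₁
      rw [this, Scheme.fromSpecStalk_closedPoint]
    rw [← h1, ← hlm, Scheme.Hom.comp_apply]
    exact (specializes_closedPoint (R := A) _).map l.continuous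
  · have h2 : (l ≫ f) pt = s := by
      rw [hl₂]
      change (Spec.map (CommRingCat.ofHom θ) ≫ S.fromSpecStalk s) pt = s
      rw [Scheme.Hom.comp_apply]
      have : (Spec.map (CommRingCat.ofHom θ)) pt = closedPoint (S.presheaf.stalk s) :=
        comap_closedPoint θ
      rw [this, Scheme.fromSpecStalk_closedPoint]
    exact h2

lemma UniqueLiftsThrough.of_isPullback {U' X' S' : Scheme.{u}} {f : X ⟶ S} {h : U ⟶ X}
    {f' : X' ⟶ S'} {h' : U' ⟶ X'} {g : S' ⟶ S} {gX : X' ⟶ X} {gU : U' ⟶ U}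
    (H : UniqueLiftsThrough f h) (sq1 : IsPullback gX f' f g) (sq2 : h' ≫ gX = gU ≫ h) :
    UniqueLiftsThrough f' h' := by
  rintro sq' ⟨i', hi'⟩
  have w : (sq'.i₁ ≫ gX) ≫ f =
      Spec.map (CommRingCat.ofHom (algebraMap sq'.R sq'.K)) ≫ (sq'.i₂ ≫ g) := by
    rw [Category.assoc, sq1.w, ← Category.assoc, sq'.commSq.w, Category.assoc]
  let sq : ValuativeCommSq f :=
    { R := sq'.R, K := sq'.K, i₁ := sq'.i₁ ≫ gX, i₂ := sq'.i₂ ≫ g, commSq := ⟨w⟩ }
  obtain ⟨hl⟩ := H sq ⟨i' ≫ gU, by
    change (i' ≫ gU) ≫ h = sq'.i₁ ≫ gX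
    rw [Category.assoc, ← sq2, ← Category.assoc, hi']⟩
  let l : Spec (.of sq'.R) ⟶ X := hl.default.l
  have hl₁ : Spec.map (CommRingCat.ofHom (algebraMap sq'.R sq'.K)) ≫ l = sq'.i₁ ≫ gX :=
    hl.default.fac_left
  have hl₂ : l ≫ f = sq'.i₂ ≫ g := hl.default.fac_right
  let l' : Spec (.of sq'.R) ⟶ X' := sq1.lift l sq'.i₂ hl₂
  have hl'₁ : l' ≫ gX = l := sq1.lift_fst _ _ _
  have hl'₂ : l' ≫ f' = sq'.i₂ := sq1.lift_snd _ _ _
  refine ⟨{ default := ⟨l', ?_, hl'₂⟩, uniq := ?_ }⟩
  · apply sq1.hom_ext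
    · rw [Category.assoc, hl'₁, hl₁]
    · rw [Category.assoc, hl'₂, sq'.commSq.w]
  · intro L
    apply CommSq.LiftStruct.ext
    apply sq1.hom_ext
    · let L₀ : sq.commSq.LiftStruct :=
        { l := L.l ≫ gX
          fac_left := by
            change Spec.map (CommRingCat.ofHom (algebraMap sq'.R sq'.K)) ≫ L.l ≫ gX = sq'.i₁ ≫ gX
            rw [← Category.assoc, L.fac_left]
          fac_right := by
            change (L.l ≫ gX) ≫ f = sq'.i₂ ≫ g
            rw [Category.assoc, sq1.w, ← Category.assoc, L.fac_right] }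
      have : L₀ = hl.default := hl.uniq L₀
      have h2 : L.l ≫ gX = l := congrArg (·.l) this
      rw [h2, hl'₁]
    · rw [hl'₂]; exact L.fac_right

/-- **Stacks 0894**, first part. -/
theorem universallyClosed_of_uniqueLiftsThrough (f : X ⟶ S) (h : U ⟶ X) [QuasiCompact f]
    [QuasiCompact h] (hd : DenseRange h) (H : UniqueLiftsThrough f h) : UniversallyClosed f := by
  apply Groth.Agent.Lib.UnivClosedAffineSpace.universallyClosed_of_forall_isClosedMap_map
  intro n
  have hqc : QuasiCompact (AffineSpace.map (ULift.{u} (Fin n)) f) :=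
    MorphismProperty.of_isPullback (P := @QuasiCompact)
      (AffineSpace.isPullback_map (n := ULift.{u} (Fin n)) f).flip inferInstance
  have hqc' : QuasiCompact (AffineSpace.map (ULift.{u} (Fin n)) h) :=
    MorphismProperty.of_isPullback (P := @QuasiCompact)
      (AffineSpace.isPullback_map (n := ULift.{u} (Fin n)) h).flip inferInstance
  rw [isClosedMap_iff_specializingMap]
  refine specializingMap_of_uniqueLiftsThrough _ (AffineSpace.map (ULift.{u} (Fin n)) h) ?_
    (H.of_isPullback (AffineSpace.isPullback_map (n := ULift.{u} (Fin n)) f).flip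
      (AffineSpace.isPullback_map (n := ULift.{u} (Fin n)) h).w)
  have hr : Set.range (AffineSpace.map (ULift.{u} (Fin n)) h) =
      (𝔸(ULift.{u} (Fin n); X) ↘ X) ⁻¹' Set.range h := by
    have := Scheme.image_preimage_eq_of_isPullback
      (AffineSpace.isPullback_map (n := ULift.{u} (Fin n)) h).flip Set.univ
    simpa using this
  rw [DenseRange, hr]
  exact hd.preimage (AffineSpace.isOpenMap_over X)

set_option backward.isDefEq.respectTransparency false in
/-- If squares over `f` through `h` have at most one lift, then squares over the diagonal of `f`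
through `h` have unique lifts. -/
lemma uniqueLiftsThrough_diagonal (f : X ⟶ S) (h : U ⟶ X) (H : SubsingletonLiftsThrough f h) :
    UniqueLiftsThrough (pullback.diagonal f) h := by
  rintro sq ⟨i, hi⟩
  have hc : CommSq sq.i₁ (Spec.map (CommRingCat.ofHom (algebraMap sq.R sq.K)))
      f (sq.i₂ ≫ pullback.fst f f ≫ f) := ⟨by simp [← sq.commSq.w_assoc]⟩
  let S' : ValuativeCommSq f := ⟨sq.R, sq.K, sq.i₁, sq.i₂ ≫ pullback.fst f f ≫ f, hc⟩
  have : Subsingleton S'.commSq.LiftStruct := H S' ⟨i, hi⟩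
  let S'l₁ : S'.commSq.LiftStruct := ⟨sq.i₂ ≫ pullback.fst f f,
    by simp [S', ← sq.commSq.w_assoc], by simp [S']⟩
  let S'l₂ : S'.commSq.LiftStruct := ⟨sq.i₂ ≫ pullback.snd f f,
    by simp [S', ← sq.commSq.w_assoc], by simp [S', pullback.condition]⟩
  have h₁₂ : S'l₁ = S'l₂ := Subsingleton.elim _ _
  refine ⟨{ default := ⟨sq.i₂ ≫ pullback.fst _ _, ?_, ?_⟩, uniq := ?_ }⟩
  · simp [← sq.commSq.w_assoc]
  · simp only [Category.assoc]
    apply IsPullback.hom_ext (IsPullback.of_hasPullback _ _)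
    · simp
    · simp only [Category.assoc, pullback.diagonal_snd, Category.comp_id]
      exact congrArg CommSq.LiftStruct.l h₁₂
  · intro L
    apply CommSq.LiftStruct.ext
    rw [← cancel_mono (pullback.diagonal f)]
    rw [L.fac_right]
    simp only [Category.assoc]
    apply IsPullback.hom_ext (IsPullback.of_hasPullback _ _)
    · simp
    · simp only [Category.assoc, pullback.diagonal_snd, Category.comp_id]
      exact (congrArg CommSq.LiftStruct.l h₁₂).symm

/-- **Stacks 0894**, second part. -/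
theorem isSeparated_of_subsingletonLiftsThrough (f : X ⟶ S) (h : U ⟶ X) [QuasiSeparated f]
    [QuasiCompact h] (hd : DenseRange h) (H : SubsingletonLiftsThrough f h) : IsSeparated f where
  isClosedImmersion_diagonal := by
    have := universallyClosed_of_uniqueLiftsThrough (pullback.diagonal f) h hd
      (uniqueLiftsThrough_diagonal f h H)
    exact .of_isPreimmersion _ (pullback.diagonal f).isClosedMap.isClosed_range

end Groth.Agent.Lib.ValDense
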