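/-
helper85: refined valuative criteria tested on valuation subrings of the residue fields of the
points of a scheme `Z` mapping densely to the source.
-/
import Groth.Agent.Lib.ValDense

set_option autoImplicit false
universe u
open CategoryTheory CategoryTheory.Limits AlgebraicGeometry IsLocalRing

namespace Groth.Agent.Lib.ValDense

open Groth.Agent.Lib.ValCenter

/-- A morphism from a local scheme into an affine open is given by a ring map. -/
lemma exists_SpecMap_fromSpec {T : Scheme.{u}} {R : CommRingCat.{u}} [IsLocalRing R]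
    (m : Spec R ⟶ T) {W : T.Opens} (hW : IsAffineOpen W) (hm : m (closedPoint R) ∈ W) :
    ∃ a : Γ(T, W) ⟶ R, m = Spec.map a ≫ hW.fromSpec := by
  have htop : m ⁻¹ᵁ W = ⊤ := Scheme.preimage_eq_top_of_closedPoint_mem m hm
  have := IsAffineOpen.SpecMap_appLE_fromSpec m hW (isAffineOpen_top _) htop.ge
  rw [IsAffineOpen.fromSpec_top, Iso.eq_inv_comp, Scheme.isoSpec_Spec_hom] at this
  refine ⟨m.appLE W ⊤ htop.ge ≫ (Scheme.ΓSpecIso R).hom, ?_⟩
  rw [Spec.map_comp_assoc]
  exact this.symm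

section restrict

variable {R₀ K κ : Type u} [CommRing R₀] [IsDomain R₀] [ValuationRing R₀] [Field K] [Algebra R₀ K]
  [IsFractionRing R₀ K] [Field κ] (ι : κ →+* K)

/-- The canonical map from the restriction of a valuation ring to a subfield. -/
noncomputable def restrictValTo : restrictVal (R := R₀) ι →+* R₀ :=
  ((RingEquiv.ofBijective (algebraMap R₀ K).rangeRestrict
    ⟨fun _ _ hab ↦ IsFractionRing.injective R₀ K (congrArg Subtype.val hab),
      (algebraMap R₀ K).rangeRestrict_surjective⟩).symm :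
        (algebraMap R₀ K).range →+* R₀).comp
    ((ι.comp (restrictVal (R := R₀) ι).subtype).codRestrict (algebraMap R₀ K).range
      (fun c ↦ c.2))

lemma algebraMap_restrictValTo (c : restrictVal (R := R₀) ι) :
    algebraMap R₀ K (restrictValTo ι c) = ι c := by
  let e := RingEquiv.ofBijective (algebraMap R₀ K).rangeRestrict
    ⟨fun _ _ hab ↦ IsFractionRing.injective R₀ K (congrArg Subtype.val hab),
      (algebraMap R₀ K).rangeRestrict_surjective⟩
  have h1 : ∀ z, (algebraMap R₀ K (e.symm z) : K) = z.1 := by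
    intro z
    exact congrArg Subtype.val (e.apply_symm_apply z)
  exact h1 _

lemma restrictValTo_injective : Function.Injective (restrictValTo (R₀ := R₀) ι) := by
  intro a b hab
  have h1 := congrArg (algebraMap R₀ K) hab
  rw [algebraMap_restrictValTo, algebraMap_restrictValTo] at h1
  exact Subtype.ext (ι.injective h1)

instance isLocalHom_restrictValTo : IsLocalHom (restrictValTo (R₀ := R₀) ι) := by
  constructor
  intro c hc
  obtain ⟨r, hr⟩ := hc.exists_right_inv
  have h1 : ι c * algebraMap R₀ K r = 1 := by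
    rw [← algebraMap_restrictValTo, ← map_mul, hr, map_one]
  have hc0 : (c : κ) ≠ 0 := by
    intro h0
    rw [h0, map_zero, zero_mul] at h1
    exact zero_ne_one h1
  have hinv : ((c : κ))⁻¹ ∈ restrictVal (R := R₀) ι := by
    refine ⟨r, ?_⟩
    rw [map_inv₀]
    exact eq_inv_of_mul_eq_one_right h1
  exact IsUnit.of_mul_eq_one (⟨(c : κ)⁻¹, hinv⟩ : restrictVal (R := R₀) ι)
    (Subtype.ext (mul_inv_cancel₀ hc0))

/-- **Lemma F (existence).** -/
lemma exists_factor_restrictVal {T : Scheme.{u}} (m : Spec (.of R₀) ⟶ T) (t₀ : Spec (.of κ) ⟶ T)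
    (hm : Spec.map (CommRingCat.ofHom (algebraMap R₀ K)) ≫ m = Spec.map (CommRingCat.ofHom ι) ≫ t₀) :
    ∃ m' : Spec (.of (restrictVal (R := R₀) ι)) ⟶ T,
      Spec.map (CommRingCat.ofHom (restrictValTo (R₀ := R₀) ι)) ≫ m' = m ∧
      Spec.map (CommRingCat.ofHom (restrictVal (R := R₀) ι).subtype) ≫ m' = t₀ := by
  obtain ⟨_, ⟨W, hW, rfl⟩, hmW, -⟩ := T.isBasis_affineOpens.exists_subset_of_mem_open
    (Set.mem_univ (m (closedPoint R₀))) isOpen_univ
  obtain ⟨a, ha⟩ := exists_SpecMap_fromSpec (R := .of R₀) m hW hmW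
  have ht₀W : t₀ (closedPoint κ) ∈ W := by
    have h1 : (Spec.map (CommRingCat.ofHom ι) ≫ t₀) (closedPoint K) ∈ W := by
      rw [← hm, Scheme.Hom.comp_apply]
      have : (Spec.map (CommRingCat.ofHom (algebraMap R₀ K))) (closedPoint K) ⤳
          closedPoint R₀ := specializes_closedPoint _
      exact (this.map m.continuous).mem_open W.2 hmW
    rw [Scheme.Hom.comp_apply] at h1
    have h2 : (Spec.map (CommRingCat.ofHom ι)) (closedPoint K) = closedPoint κ :=
      Subsingleton.elim _ _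
    rwa [h2] at h1
  obtain ⟨b, hb⟩ := exists_SpecMap_fromSpec (R := .of κ) t₀ hW ht₀W
  have hab : a ≫ CommRingCat.ofHom (algebraMap R₀ K) = b ≫ CommRingCat.ofHom ι := by
    apply Spec.map_injective
    rw [← cancel_mono hW.fromSpec, Spec.map_comp_assoc, Spec.map_comp_assoc, ← ha, ← hb, hm]
  have hab' : ∀ c, algebraMap R₀ K (a.hom c) = ι (b.hom c) := fun c ↦
    congrArg (fun g ↦ g.hom c) hab
  have hbmem : ∀ c, b.hom c ∈ restrictVal (R := R₀) ι := fun c ↦ ⟨a.hom c, hab' c⟩
  let a' : Γ(T, W) →+* restrictVal (R := R₀) ι :=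
    b.hom.codRestrict (restrictVal (R := R₀) ι).toSubring hbmem
  refine ⟨Spec.map (CommRingCat.ofHom a') ≫ hW.fromSpec, ?_, ?_⟩
  · rw [ha, ← Spec.map_comp_assoc]
    congr 2
    ext c
    apply IsFractionRing.injective R₀ K
    change algebraMap R₀ K (restrictValTo ι (a' c)) = algebraMap R₀ K (a.hom c)
    rw [algebraMap_restrictValTo, hab']
    rfl
  · rw [hb, ← Spec.map_comp_assoc]
    congr 2

/-- **Lemma F (uniqueness).** -/
lemma eq_of_SpecMap_comp_eq {T : Scheme.{u}} {R R' : Type u} [CommRing R] [CommRing R']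
    [IsLocalRing R] [IsLocalRing R'] (ρ : R →+* R') [IsLocalHom ρ] (hρ : Function.Injective ρ)
    (m₁ m₂ : Spec (.of R) ⟶ T)
    (h : Spec.map (CommRingCat.ofHom ρ) ≫ m₁ = Spec.map (CommRingCat.ofHom ρ) ≫ m₂) : m₁ = m₂ := by
  have hcl : (Spec.map (CommRingCat.ofHom ρ)) (closedPoint R') = closedPoint R :=
    comap_closedPoint ρ
  have hpt : m₁ (closedPoint R) = m₂ (closedPoint R) := by
    have := congrArg (fun g : Spec (.of R') ⟶ T ↦ g (closedPoint R')) h
    simp only [Scheme.Hom.comp_apply] at this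
    rwa [hcl] at this
  obtain ⟨_, ⟨W, hW, rfl⟩, hmW, -⟩ := T.isBasis_affineOpens.exists_subset_of_mem_open
    (Set.mem_univ (m₁ (closedPoint R))) isOpen_univ
  obtain ⟨a₁, ha₁⟩ := exists_SpecMap_fromSpec (R := .of R) m₁ hW hmW
  obtain ⟨a₂, ha₂⟩ := exists_SpecMap_fromSpec (R := .of R) m₂ hW (hpt ▸ hmW)
  have h12 : a₁ ≫ CommRingCat.ofHom ρ = a₂ ≫ CommRingCat.ofHom ρ := by
    apply Spec.map_injective
    rw [← cancel_mono hW.fromSpec, Spec.map_comp_assoc, Spec.map_comp_assoc, ← ha₁, ← ha₂, h]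
  have : a₁ = a₂ := by
    ext c
    exact hρ (congrArg (fun g ↦ g.hom c) h12)
  rw [ha₁, ha₂, this]

end restrict

variable {X Y Z : Scheme.{u}}

/-- The refined uniqueness criterion: valuation subrings of residue fields of points of `Z`. -/
def ResidueUniqueness (h : Z ⟶ Y) (f : Y ⟶ X) : Prop :=
  ∀ (z : Z) (R : ValuationSubring (Z.residueField z)) (φ : Spec (CommRingCat.of R) ⟶ X),
    Spec.map (CommRingCat.ofHom R.subtype) ≫ φ = Z.fromSpecResidueField z ≫ h ≫ f →
    ∀ φ₁ φ₂ : Spec (CommRingCat.of R) ⟶ Y,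
      Spec.map (CommRingCat.ofHom R.subtype) ≫ φ₁ = Z.fromSpecResidueField z ≫ h → φ₁ ≫ f = φ →
      Spec.map (CommRingCat.ofHom R.subtype) ≫ φ₂ = Z.fromSpecResidueField z ≫ h → φ₂ ≫ f = φ →
      φ₁ = φ₂

/-- The refined valuative criterion: valuation subrings of residue fields of points of `Z`. -/
def ResidueExistsUnique (h : Z ⟶ Y) (f : Y ⟶ X) : Prop :=
  ∀ (z : Z) (R : ValuationSubring (Z.residueField z)) (φ : Spec (CommRingCat.of R) ⟶ X),
    Spec.map (CommRingCat.ofHom R.subtype) ≫ φ = Z.fromSpecResidueField z ≫ h ≫ f →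
    ∃! φ' : Spec (CommRingCat.of R) ⟶ Y,
      Spec.map (CommRingCat.ofHom R.subtype) ≫ φ' = Z.fromSpecResidueField z ≫ h ∧ φ' ≫ f = φ

lemma ResidueExistsUnique.uniqueness {h : Z ⟶ Y} {f : Y ⟶ X} (H : ResidueExistsUnique h f) :
    ResidueUniqueness h f := by
  intro z R φ hφ φ₁ φ₂ h1 h1' h2 h2'
  exact (H z R φ hφ).unique ⟨h1, h1'⟩ ⟨h2, h2'⟩

theorem subsingletonLiftsThrough_of_residueUniqueness (h : Z ⟶ Y) (f : Y ⟶ X)
    (H : ResidueUniqueness h f) : SubsingletonLiftsThrough f h := by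
  rintro sq ⟨i, hi⟩
  constructor
  intro L₁ L₂
  let z : Z := i (closedPoint sq.K)
  let ι : Z.residueField z →+* sq.K := (Z.descResidueField (Scheme.stalkClosedPointTo i)).hom
  have hι : Spec.map (CommRingCat.ofHom ι) ≫ Z.fromSpecResidueField z = i :=
    Scheme.descResidueField_stalkClosedPointTo_fromSpecResidueField sq.K Z i
  let R : ValuationSubring (Z.residueField z) := restrictVal (R := sq.R) ι
  let ρ : R →+* sq.R := restrictValTo ι
  let t₀ : Spec (.of (Z.residueField z)) ⟶ Y := Z.fromSpecResidueField z ≫ h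
  have hm : ∀ L : sq.commSq.LiftStruct,
      Spec.map (CommRingCat.ofHom (algebraMap sq.R sq.K)) ≫ L.l =
        Spec.map (CommRingCat.ofHom ι) ≫ t₀ := by
    intro L
    rw [L.fac_left, ← hi, ← hι, Category.assoc]
  obtain ⟨φ₁, hφ₁a, hφ₁b⟩ := exists_factor_restrictVal ι L₁.l t₀ (hm L₁)
  obtain ⟨φ₂, hφ₂a, hφ₂b⟩ := exists_factor_restrictVal ι L₂.l t₀ (hm L₂)
  have h12 : φ₂ ≫ f = φ₁ ≫ f := by
    apply eq_of_SpecMap_comp_eq ρ (restrictValTo_injective ι)
    rw [← Category.assoc, ← Category.assoc, hφ₁a, hφ₂a, L₁.fac_right, L₂.fac_right]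
  have key : φ₁ = φ₂ := by
    refine H z R (φ₁ ≫ f) ?_ φ₁ φ₂ hφ₁b rfl hφ₂b h12
    rw [← Category.assoc, hφ₁b, Category.assoc]
  apply CommSq.LiftStruct.ext
  rw [← hφ₁a, ← hφ₂a, key]

theorem uniqueLiftsThrough_of_residueExistsUnique (h : Z ⟶ Y) (f : Y ⟶ X)
    (H : ResidueExistsUnique h f) : UniqueLiftsThrough f h := by
  intro sq hsq
  have hsub := subsingletonLiftsThrough_of_residueUniqueness h f H.uniqueness sq hsq
  obtain ⟨i, hi⟩ := hsq
  let z : Z := i (closedPoint sq.K)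
  let ι : Z.residueField z →+* sq.K := (Z.descResidueField (Scheme.stalkClosedPointTo i)).hom
  have hι : Spec.map (CommRingCat.ofHom ι) ≫ Z.fromSpecResidueField z = i :=
    Scheme.descResidueField_stalkClosedPointTo_fromSpecResidueField sq.K Z i
  let R : ValuationSubring (Z.residueField z) := restrictVal (R := sq.R) ι
  let ρ : R →+* sq.R := restrictValTo ι
  have hm : Spec.map (CommRingCat.ofHom (algebraMap sq.R sq.K)) ≫ sq.i₂ =
      Spec.map (CommRingCat.ofHom ι) ≫ (Z.fromSpecResidueField z ≫ h ≫ f) := by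
    rw [← sq.commSq.w, ← hi, ← hι, Category.assoc, Category.assoc]
  obtain ⟨φ, hφa, hφb⟩ := exists_factor_restrictVal ι sq.i₂ _ hm
  obtain ⟨φ', ⟨h1, h2⟩, -⟩ := H z R φ hφb
  have e : CommRingCat.ofHom ρ ≫ CommRingCat.ofHom (algebraMap sq.R sq.K) =
      CommRingCat.ofHom R.subtype ≫ CommRingCat.ofHom ι := by
    ext c
    exact algebraMap_restrictValTo ι c
  let L : sq.commSq.LiftStruct :=
    { l := Spec.map (CommRingCat.ofHom ρ) ≫ φ'
      fac_left := by
        rw [← Spec.map_comp_assoc, e, Spec.map_comp_assoc, h1, ← Category.assoc, hι, hi]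
      fac_right := by
        rw [Category.assoc, h2, hφa] }
  exact ⟨@Unique.mk' _ ⟨L⟩ hsub⟩

end Groth.Agent.Lib.ValDense
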