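import Groth.Agent.Lib.H69DvrVC5
import Groth.Agent.Lib.ValDense2
import Groth.Agent.Lib.H59NGeom3

set_option autoImplicit false
universe u

open CategoryTheory CategoryTheory.Limits AlgebraicGeometry IsLocalRing

namespace Groth.Agent.Lib.H69DvrVC

open Groth.Agent.Lib.ValDense

/-- **Sections of etale morphisms over a strictly henselian-like valuation ring.** An etale morphism to the spectrum of a
valuation ring with algebraically closed fraction field has a section through any point over the closed point. -/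
theorem exists_section_of_etale {Ω R : Type u} [Field Ω] [IsAlgClosed Ω] [CommRing R] [IsDomain R]
    [ValuationRing R] [Algebra R Ω] [IsFractionRing R Ω] {Q : Scheme.{u}}
    (q : Q ⟶ Spec (CommRingCat.of R)) [Etale q] (z : Q) (hz : q z = closedPoint R) :
    ∃ s : Spec (CommRingCat.of R) ⟶ Q, s ≫ q = 𝟙 _ := by
  obtain ⟨_, ⟨U, hU, rfl⟩, hzU, -⟩ :=
    Q.isBasis_affineOpens.exists_subset_of_mem_open (Set.mem_univ z) isOpen_univ
  let ψ : CommRingCat.of R ⟶ Γ(Q, U) := Spec.preimage (hU.fromSpec ≫ q)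
  have hψ : Spec.map ψ = hU.fromSpec ≫ q := Spec.map_preimage _
  have hψe : ψ.hom.Etale := by
    have h1 : Etale (Spec.map ψ) := by rw [hψ]; infer_instance
    exact (HasRingHomProperty.Spec_iff (P := @Etale)).1 h1
  obtain ⟨z', hz'⟩ : ∃ z' : Spec Γ(Q, U), hU.fromSpec z' = z := by
    have : z ∈ Set.range hU.fromSpec := by rw [hU.range_fromSpec]; exact hzU
    exact this
  letI : Algebra R Γ(Q, U) := ψ.hom.toAlgebra
  have hEt : Algebra.Etale R Γ(Q, U) := hψe
  have hcomap : z'.asIdeal.comap (algebraMap R Γ(Q, U)) = maximalIdeal R := by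
    have h1 : (Spec.map ψ) z' = closedPoint R := by
      rw [hψ, Scheme.Hom.comp_apply, hz', hz]
    have h2 := congrArg PrimeSpectrum.asIdeal h1
    exact h2
  obtain ⟨ρ, hρ⟩ := exists_retraction_of_etale (Ω := Ω) (R := R) Γ(Q, U) z'.asIdeal hcomap
  refine ⟨Spec.map (CommRingCat.ofHom ρ) ≫ hU.fromSpec, ?_⟩
  rw [Category.assoc, ← hψ, ← Spec.map_comp]
  have : ψ ≫ CommRingCat.ofHom ρ = 𝟙 _ := by
    apply CommRingCat.hom_ext
    exact hρ
  rw [this, Spec.map_id]

/-- A section of a morphism to the spectrum of a field is determined by its image point. -/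
theorem section_ext_of_apply_eq {Ω : Type u} [Field Ω] {Q : Scheme.{u}} (q : Q ⟶ Spec (CommRingCat.of Ω))
    (s s' : Spec (CommRingCat.of Ω) ⟶ Q) (hs : s ≫ q = 𝟙 _) (hs' : s' ≫ q = 𝟙 _)
    (h : s (closedPoint Ω) = s' (closedPoint Ω)) : s = s' := by
  obtain ⟨_, ⟨U, hU, rfl⟩, hzU, -⟩ :=
    Q.isBasis_affineOpens.exists_subset_of_mem_open (Set.mem_univ (s (closedPoint Ω))) isOpen_univ
  have hzU' : s' (closedPoint Ω) ∈ U := h ▸ hzU
  obtain ⟨b, hb⟩ := exists_SpecMap_fromSpec (R := CommRingCat.of Ω) s hU hzU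
  obtain ⟨b', hb'⟩ := exists_SpecMap_fromSpec (R := CommRingCat.of Ω) s' hU hzU'
  let ψ : CommRingCat.of Ω ⟶ Γ(Q, U) := Spec.preimage (hU.fromSpec ≫ q)
  have hψ : Spec.map ψ = hU.fromSpec ≫ q := Spec.map_preimage _
  have hψb : ψ ≫ b = 𝟙 _ := by
    apply Spec.map_injective
    rw [Spec.map_comp, hψ, ← Category.assoc, ← hb, hs, Spec.map_id]
  have hψb' : ψ ≫ b' = 𝟙 _ := by
    apply Spec.map_injective
    rw [Spec.map_comp, hψ, ← Category.assoc, ← hb', hs', Spec.map_id]
  have hpt : (Spec.map b) (closedPoint Ω) = (Spec.map b') (closedPoint Ω) := by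
    have hinj : Function.Injective hU.fromSpec := hU.fromSpec.isOpenEmbedding.injective
    apply hinj
    have h1 : hU.fromSpec ((Spec.map b) (closedPoint Ω)) = s (closedPoint Ω) := by
      rw [hb, Scheme.Hom.comp_apply]
    have h2 : hU.fromSpec ((Spec.map b') (closedPoint Ω)) = s' (closedPoint Ω) := by
      rw [hb', Scheme.Hom.comp_apply]
    rw [h1, h2, h]
  have hker : RingHom.ker b.hom = RingHom.ker b'.hom := by
    have h1 := congrArg PrimeSpectrum.asIdeal hpt
    have h2 : ∀ c : Γ(Q, U) ⟶ CommRingCat.of Ω,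
        ((Spec.map c) (closedPoint Ω)).asIdeal = RingHom.ker c.hom := by
      intro c
      ext x
      change c.hom x ∈ (closedPoint Ω).asIdeal ↔ _
      rw [RingHom.mem_ker]
      change c.hom x ∈ maximalIdeal Ω ↔ _
      rw [mem_maximalIdeal, mem_nonunits_iff, isUnit_iff_ne_zero, not_not]
    rw [h2, h2] at h1
    exact h1
  have hbb' : b = b' := by
    apply CommRingCat.hom_ext
    apply RingHom.ext
    intro x
    have h1 : x - ψ.hom (b.hom x) ∈ RingHom.ker b.hom := by
      rw [RingHom.mem_ker, map_sub, sub_eq_zero]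
      exact (congrArg (fun g => g.hom (b.hom x)) hψb).symm
    rw [hker, RingHom.mem_ker, map_sub, sub_eq_zero] at h1
    rw [h1]
    exact (congrArg (fun g => g.hom (b.hom x)) hψb').symm
  rw [hb, hb', hbb']

/-- An etale quasi-compact scheme over a field has finitely many sections. -/
theorem finite_sections_of_etale {Ω : Type u} [Field Ω] {Q : Scheme.{u}} (q : Q ⟶ Spec (CommRingCat.of Ω))
    [Etale q] [QuasiCompact q] : {s : Spec (CommRingCat.of Ω) ⟶ Q | s ≫ q = 𝟙 _}.Finite := by
  have := Groth.Agent.Lib.H59NGeom.locallyQuasiFinite_of_etale q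
  have hfin : (q ⁻¹' {closedPoint Ω}).Finite := q.finite_preimage_singleton _
  have huniv : (q ⁻¹' {closedPoint Ω}) = Set.univ := by
    ext x
    simp only [Set.mem_preimage, Set.mem_univ, iff_true]
    exact Subsingleton.elim _ _
  rw [huniv] at hfin
  have hQ : Finite Q := Set.finite_univ_iff.1 hfin
  refine Set.Finite.of_injOn (f := fun s : Spec (CommRingCat.of Ω) ⟶ Q => s (closedPoint Ω))
    (t := Set.univ) (fun _ _ => Set.mem_univ _) ?_ Set.finite_univ
  intro s hs s' hs' h
  exact section_ext_of_apply_eq q s s' hs hs' h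

end Groth.Agent.Lib.H69DvrVC
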