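import Groth.Agent.Lib.H69DvrVC6
import Groth.Agent.Lib.H69DvrVC4

set_option autoImplicit false
universe u

open CategoryTheory CategoryTheory.Limits AlgebraicGeometry Opposite Topology IsLocalRing

namespace Groth.Agent.Lib.H69DvrVC

open AlgSp Groth.Agent.Lib.AlgSpPoints Groth.Agent.Lib.AlgSpQC Groth.Agent.Lib.AlgSpFibre
  Groth.Agent.Lib.AlgSpDescent Groth.Agent.Lib.H69AlgSp Groth.Agent.Lib.H69AlgSpMor
  Groth.Agent.Lib.AlgSpLocP Groth.Agent.Lib.AlgSpBasic Groth.Agent.Lib.AlgSpFpqc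
  Groth.Agent.Lib.AlgSpProper Groth.Agent.Lib.AlgSpValuative Groth.Agent.Lib.AlgSpAffineSpace

variable {S : Scheme.{u}}

section pt

variable {B₀ : Type u} [CommRing B₀] (sT : Spec (CommRingCat.of B₀) ⟶ S)

/-- `Spec R` over `S` through `Spec B₀`. -/
noncomputable abbrev pt {R : Type u} [CommRing R] (η : B₀ →+* R) : Over S :=
  Over.mk (Spec.map (CommRingCat.ofHom η) ≫ sT)

/-- `Spec R ⟶ Spec B₀` over `S`. -/
noncomputable abbrev ptHom {R : Type u} [CommRing R] (η : B₀ →+* R) : pt sT η ⟶ Over.mk sT :=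
  Over.homMk (Spec.map (CommRingCat.ofHom η)) rfl

/-- `Spec R' ⟶ Spec R` over `S`. -/
noncomputable abbrev ptMap {R R' : Type u} [CommRing R] [CommRing R'] (η : B₀ →+* R) (η' : B₀ →+* R')
    (ρ : R →+* R') (h : ρ.comp η = η') : pt sT η' ⟶ pt sT η :=
  Over.homMk (Spec.map (CommRingCat.ofHom ρ)) (by
    subst h
    change Spec.map _ ≫ Spec.map _ ≫ _ = Spec.map _ ≫ _
    rw [← Spec.map_comp_assoc]
    rfl)

theorem ptMap_comp_ptHom {R R' : Type u} [CommRing R] [CommRing R'] (η : B₀ →+* R) (η' : B₀ →+* R')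
    (ρ : R →+* R') (h : ρ.comp η = η') : ptMap sT η η' ρ h ≫ ptHom sT η = ptHom sT η' := by
  subst h
  ext
  change Spec.map _ ≫ Spec.map _ = Spec.map _
  rw [← Spec.map_comp]
  rfl

theorem ptMap_comp_ptMap {R R' R'' : Type u} [CommRing R] [CommRing R'] [CommRing R''] (η : B₀ →+* R)
    (η' : B₀ →+* R') (η'' : B₀ →+* R'') (ρ : R →+* R') (h : ρ.comp η = η') (ρ' : R' →+* R'')
    (h' : ρ'.comp η' = η'') (ρ'' : R →+* R'') (h'' : ρ''.comp η = η'') (hρ : ρ'.comp ρ = ρ'') :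
    ptMap sT η' η'' ρ' h' ≫ ptMap sT η η' ρ h = ptMap sT η η'' ρ'' h'' := by
  subst hρ
  ext
  change Spec.map _ ≫ Spec.map _ = Spec.map _
  rw [← Spec.map_comp]
  rfl

variable {C : Type u} [CommRing C] (sW : Spec (CommRingCat.of C) ⟶ S) (β : B₀ →+* C)
  (hsW : Spec.map (CommRingCat.ofHom β) ≫ sT = sW)

/-- `Spec R ⟶ Spec C` over `S`. -/
noncomputable abbrev wpt {R : Type u} [CommRing R] (a : C →+* R) (η : B₀ →+* R) (h : a.comp β = η) :
    pt sT η ⟶ Over.mk sW :=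
  Over.homMk (Spec.map (CommRingCat.ofHom a)) (by
    subst h hsW
    change Spec.map _ ≫ Spec.map _ ≫ _ = Spec.map _ ≫ _
    rw [← Spec.map_comp_assoc]
    rfl)

theorem ptMap_comp_wpt {R R' : Type u} [CommRing R] [CommRing R'] (η : B₀ →+* R) (η' : B₀ →+* R')
    (ρ : R →+* R') (h : ρ.comp η = η') (a : C →+* R) (ha : a.comp β = η) (a' : C →+* R')
    (ha' : a'.comp β = η') (hρ : ρ.comp a = a') :
    ptMap sT η η' ρ h ≫ wpt sT sW β hsW a η ha = wpt sT sW β hsW a' η' ha' := by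
  subst hρ
  ext
  change Spec.map _ ≫ Spec.map _ = Spec.map _
  rw [← Spec.map_comp]
  rfl

theorem wpt_comp {R : Type u} [CommRing R] (a : C →+* R) (η : B₀ →+* R) (h : a.comp β = η)
    (gW : Over.mk sW ⟶ Over.mk sT) (hgW : gW.left = Spec.map (CommRingCat.ofHom β)) :
    wpt sT sW β hsW a η h ≫ gW = ptHom sT η := by
  subst h
  ext
  change Spec.map _ ≫ gW.left = Spec.map _
  rw [hgW, ← Spec.map_comp]
  rfl

/-- Every morphism `Spec R ⟶ Spec C` over `Spec B₀` is a `wpt`. -/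
theorem exists_eq_wpt {R : Type u} [CommRing R] (η : B₀ →+* R) (gW : Over.mk sW ⟶ Over.mk sT)
    (hgW : gW.left = Spec.map (CommRingCat.ofHom β)) (m : pt sT η ⟶ Over.mk sW)
    (hm : m ≫ gW = ptHom sT η) : ∃ (a : C →+* R) (h : a.comp β = η), m = wpt sT sW β hsW a η h := by
  let a₀ : CommRingCat.of C ⟶ CommRingCat.of R := Spec.preimage m.left
  have ha₀ : Spec.map a₀ = m.left := Spec.map_preimage _
  have h1 : Spec.map (CommRingCat.ofHom β ≫ a₀) = Spec.map (CommRingCat.ofHom η) := by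
    rw [Spec.map_comp, ha₀, ← hgW]
    exact congrArg (fun k => k.left) hm
  have h2 : CommRingCat.ofHom β ≫ a₀ = CommRingCat.ofHom η := Spec.map_injective h1
  have h3 : a₀.hom.comp β = η := congrArg (fun k => k.hom) h2
  refine ⟨a₀.hom, h3, ?_⟩
  ext
  exact ha₀.symm

end pt

/-- A quasi-compact sheaf over an affine base has an affine etale surjective chart. -/
theorem exists_affine_chart {P : Sp S} {T : Over S} [CompactSpace ↥T.left] (g : P ⟶ (yon S).obj T)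
    (hq : IsQuasiCompactMor g) :
    ∃ (C : Type u) (_ : CommRing C) (sW : Spec (CommRingCat.of C) ⟶ S)
      (c : (yon S).obj (Over.mk sW) ⟶ P), RepWith @Etale c ∧ RepWith @Surjective c := by
  have hPqc : IsQuasiCompactSp P :=
    hq (IsAlgSpace.yon_obj T) ((isQuasiCompactSp_yon_iff T).2 inferInstance) (𝟙 _) (𝟙 P) g
      IsPullback.of_id_fst
  obtain ⟨W₁, q₁, hq₁e, hq₁s, hW₁c⟩ := hPqc
  have : CompactSpace ↥W₁.left := hW₁c
  obtain ⟨W₂, r, hrs, hre, hW₂⟩ := Scheme.exists_hom_isAffine_of_isZariskiLocalAtSource @Etale W₁.left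
  let sW : Spec (CommRingCat.of Γ(W₂, ⊤)) ⟶ S := W₂.isoSpec.inv ≫ r ≫ W₁.hom
  let ro : Over.mk sW ⟶ W₁ := Over.homMk (W₂.isoSpec.inv ≫ r) (by simp [sW])
  have hroe : Etale ro.left := by
    change Etale (W₂.isoSpec.inv ≫ r)
    infer_instance
  have hros : Surjective ro.left := by
    change Surjective (W₂.isoSpec.inv ≫ r)
    infer_instance
  have := repWith_isMultiplicative (S := S) @Etale.{u}
  have := repWith_isMultiplicative (S := S) @Surjective.{u}
  exact ⟨Γ(W₂, ⊤), inferInstance, sW, (yon S).map ro ≫ q₁,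
    MorphismProperty.comp_mem _ _ _ ((repWith_yon_map_iff _ _).2 hroe) hq₁e,
    MorphismProperty.comp_mem _ _ _ ((repWith_yon_map_iff _ _).2 hros) hq₁s⟩

set_option maxHeartbeats 1600000 in
/-- **Core theorem (EGA II 7.3.10 for algebraic spaces, geometric valuation rings).**  Let `P` be of finite type and
quasi-separated over a Noetherian affine scheme `Spec B₀`, and `t₀` a `κ`-point of `P` with `κ` essentially of finite type
over `B₀`.  If all discrete valuation subrings of `κ` over `B₀` lift to `P`, then so does every valuation subring of an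
algebraic closure `Ω` of `κ`. -/
theorem exists_lift_of_forall_dvr_core {B₀ : Type u} [CommRing B₀] [IsNoetherianRing B₀]
    (sT : Spec (CommRingCat.of B₀) ⟶ S) {P : Sp S}
    (g : P ⟶ (yon S).obj (Over.mk sT)) (hg : IsFiniteTypeMor g) (hqs : IsQuasiSeparatedMor g)
    {κ : Type u} [Field κ] (ξ : B₀ →+* κ) (hξ : ξ.EssFiniteType)
    (t₀ : (yon S).obj (pt sT ξ) ⟶ P) (ht₀ : t₀ ≫ g = (yon S).map (ptHom sT ξ))
    (H : ∀ (A' : ValuationSubring κ), IsDiscreteValuationRing A' → ∀ (η : B₀ →+* A')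
      (hη : A'.subtype.comp η = ξ), ∃ l : (yon S).obj (pt sT η) ⟶ P,
        (yon S).map (ptMap sT η ξ A'.subtype hη) ≫ l = t₀ ∧ l ≫ g = (yon S).map (ptHom sT η))
    {Ω : Type u} [Field Ω] [IsAlgClosed Ω] [Algebra κ Ω] [Algebra.IsAlgebraic κ Ω]
    (A₃ : ValuationSubring Ω) (η₃ : B₀ →+* A₃)
    (hη₃ : A₃.subtype.comp η₃ = (algebraMap κ Ω).comp ξ) :
    ∃ l : (yon S).obj (pt sT η₃) ⟶ P,
      (yon S).map (ptMap sT η₃ ((algebraMap κ Ω).comp ξ) A₃.subtype hη₃) ≫ l =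
        (yon S).map (ptMap sT ξ ((algebraMap κ Ω).comp ξ) (algebraMap κ Ω) rfl) ≫ t₀ ∧
      l ≫ g = (yon S).map (ptHom sT η₃) := by
  classical
  -- the chart
  have : CompactSpace ↥(Over.mk sT).left := inferInstanceAs (CompactSpace ↥(Spec (CommRingCat.of B₀)))
  obtain ⟨C, _, sW, c, hce, hcs⟩ := exists_affine_chart g hg.2
  obtain ⟨gW, hgW⟩ := (yon S).map_surjective (c ≫ g)
  have hlft : LocallyOfFiniteType gW.left :=
    hg.1 c (𝟙 _) gW hce (AlgSp.repWith_id _ (Over.mk sT)) (by rw [Category.comp_id, hgW])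
  let β₀ : CommRingCat.of B₀ ⟶ CommRingCat.of C := Spec.preimage gW.left
  have hβ₀ : Spec.map β₀ = gW.left := Spec.map_preimage _
  let β : B₀ →+* C := β₀.hom
  have hgWl : gW.left = Spec.map (CommRingCat.ofHom β) := hβ₀.symm
  have hβft : β.FiniteType := by
    have h1 : LocallyOfFiniteType (Spec.map β₀) := by rw [hβ₀]; exact hlft
    exact (HasRingHomProperty.Spec_iff (P := @LocallyOfFiniteType)).1 h1
  have hsW : Spec.map (CommRingCat.ofHom β) ≫ sT = sW := by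
    rw [← hgWl]
    exact Over.w gW
  have hcqc : RepWith @QuasiCompact c := by
    apply repWith_quasiCompact_of_isQuasiCompactMor hce.1
    apply isQuasiCompactMor_of_comp_of_isQuasiSeparatedMor hqs
    rw [← hgW]
    refine (repWith_yon_map_iff _ _).2 ?_
    have h1 : QuasiCompact (Spec.map (CommRingCat.ofHom β)) := quasiCompact_of_compactSpace _
    rw [hgWl]
    exact h1
  -- sections over `Ω`
  let ιΩ : κ →+* Ω := algebraMap κ Ω
  let ξΩ : B₀ →+* Ω := ιΩ.comp ξ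
  let t₀Ω : (yon S).obj (pt sT ξΩ) ⟶ P := (yon S).map (ptMap sT ξ ξΩ ιΩ rfl) ≫ t₀
  have ht₀Ω : t₀Ω ≫ g = (yon S).map (ptHom sT ξΩ) := by
    change ((yon S).map _ ≫ t₀) ≫ g = _
    rw [Category.assoc, ht₀, ← Functor.map_comp, ptMap_comp_ptHom]
  let Sec : Set (C →+* Ω) := {a | ∃ h : a.comp β = ξΩ,
    (yon S).map (wpt sT sW β hsW a ξΩ h) ≫ c = t₀Ω}
  -- a general principle: morphisms to the chart over a point of `P` give sections
  have hmk : ∀ {R : Type u} [CommRing R] (η : B₀ →+* R) (x : (yon S).obj (pt sT η) ⟶ P)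
      (_ : x ≫ g = (yon S).map (ptHom sT η)) (m : pt sT η ⟶ Over.mk sW)
      (_ : (yon S).map m ≫ c = x), ∃ (a : C →+* R) (h : a.comp β = η), m = wpt sT sW β hsW a η h := by
    intro R _ η x hx m hm
    apply exists_eq_wpt sT sW β hsW η gW hgWl m
    apply (yon S).map_injective
    rw [Functor.map_comp, hgW, ← Category.assoc, hm, hx]
  -- the fibre of the chart over the geometric point
  obtain ⟨Q, q, r', hpb⟩ := hce.1 t₀Ω
  obtain ⟨r, hr⟩ := (yon S).map_surjective r'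
  have hqe : Etale q.left := hce.2 t₀Ω r' q hpb
  have hqqc : QuasiCompact q.left := hcqc.2 t₀Ω r' q hpb
  have hqsurj : Surjective q.left := hcs.2 t₀Ω r' q hpb
  have hfinsec := finite_sections_of_etale (Ω := Ω) q.left
  have hSecfin : Sec.Finite := by
    let G : (Spec (CommRingCat.of Ω) ⟶ Q.left) → (C →+* Ω) := fun s =>
      (Spec.preimage (s ≫ r.left) : CommRingCat.of C ⟶ CommRingCat.of Ω).hom
    refine Set.Finite.subset (hfinsec.image G) ?_
    rintro a ⟨h, hsec⟩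
    have hw : (yon S).map (wpt sT sW β hsW a ξΩ h) ≫ c = (𝟙 _) ≫ t₀Ω := by
      rw [Category.id_comp, hsec]
    let s' : (yon S).obj (pt sT ξΩ) ⟶ (yon S).obj Q := hpb.lift _ _ hw
    obtain ⟨s, hs⟩ := (yon S).map_surjective s'
    have hs1 : s ≫ r = wpt sT sW β hsW a ξΩ h := by
      apply (yon S).map_injective
      rw [Functor.map_comp, hs, hr]
      exact hpb.lift_fst _ _ _
    have hs2 : s ≫ q = 𝟙 _ := by
      apply (yon S).map_injective
      rw [Functor.map_comp, hs, CategoryTheory.Functor.map_id]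
      exact hpb.lift_snd _ _ _
    have hs2' : s.left ≫ q.left = 𝟙 _ := congrArg (fun k : pt sT ξΩ ⟶ pt sT ξΩ => k.left) hs2
    refine ⟨s.left, hs2', ?_⟩
    change (Spec.preimage (s.left ≫ r.left) : CommRingCat.of C ⟶ CommRingCat.of Ω).hom = a
    have h1 : s.left ≫ r.left = Spec.map (CommRingCat.ofHom a) := congrArg (fun k => k.left) hs1
    rw [h1, Spec.preimage_map]
    rfl
  -- a general principle: sections of pulled back charts over valuation rings with fraction field `Ω`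
  have hsecR : ∀ (R : Type u) [CommRing R] [IsDomain R] [ValuationRing R] [Algebra R Ω]
      [IsFractionRing R Ω] (η : B₀ →+* R) (x : (yon S).obj (pt sT η) ⟶ P)
      (_ : x ≫ g = (yon S).map (ptHom sT η)),
      ∃ (a : C →+* R) (h : a.comp β = η), (yon S).map (wpt sT sW β hsW a η h) ≫ c = x := by
    intro R _ _ _ _ _ η x hx
    obtain ⟨QR, qR, rR', hpbR⟩ := hce.1 x
    obtain ⟨rR, hrR⟩ := (yon S).map_surjective rR'
    have hqRe : Etale qR.left := hce.2 x rR' qR hpbR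
    have hqRs : Surjective qR.left := hcs.2 x rR' qR hpbR
    obtain ⟨z, hz⟩ := hqRs.surj (closedPoint R : PrimeSpectrum R)
    obtain ⟨s, hs⟩ := exists_section_of_etale (Ω := Ω) (R := R) qR.left z hz
    let sO : pt sT η ⟶ QR := Over.homMk s (by
      have h1 : qR.left ≫ (pt sT η).hom = QR.hom := Over.w qR
      rw [← h1, ← Category.assoc, hs]
      exact Category.id_comp _)
    have hsO : sO ≫ qR = 𝟙 _ := by
      ext
      exact hs
    have hm : (yon S).map (sO ≫ rR) ≫ c = x := by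
      rw [Functor.map_comp, hrR, Category.assoc, hpbR.w, ← Category.assoc, ← Functor.map_comp, hsO,
        CategoryTheory.Functor.map_id, Category.id_comp]
    obtain ⟨a, h, hma⟩ := hmk η x hx (sO ≫ rR) hm
    exact ⟨a, h, hma ▸ hm⟩
  -- nonemptiness
  have hSecne : Sec.Nonempty := by
    obtain ⟨a, h, hsec⟩ := hsecR Ω ξΩ t₀Ω ht₀Ω
    exact ⟨a, h, hsec⟩
  -- generators
  let _ : Algebra B₀ C := β.toAlgebra
  have hFT : Algebra.FiniteType B₀ C := hβft
  obtain ⟨G, hG⟩ := hFT.out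
  let E : Set Ω := ⋃ a ∈ Sec, a '' (G : Set C)
  have hEfin : E.Finite := hSecfin.biUnion (fun a _ => G.finite_toSet.image a)
  let κ₁ : IntermediateField κ Ω := IntermediateField.adjoin κ E
  have : Finite E := hEfin.to_subtype
  have hfd : FiniteDimensional κ κ₁ :=
    IntermediateField.finiteDimensional_adjoin
      (fun x _ => (Algebra.IsAlgebraic.isAlgebraic x).isIntegral)
  have hEκ₁ : ∀ a ∈ Sec, ∀ x ∈ G, a x ∈ κ₁ := fun a ha x hx =>
    IntermediateField.subset_adjoin κ E (Set.mem_biUnion ha ⟨x, hx, rfl⟩)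
  let ξ₁ : B₀ →+* κ₁ := (algebraMap κ κ₁).comp ξ
  have hξ₁ : ξ₁.EssFiniteType := by
    have h1 : (algebraMap κ κ₁).Finite := RingHom.finite_algebraMap.2 hfd
    exact hξ.comp h1.finiteType.essFiniteType
  let D : Sec → Finset κ₁ := fun a =>
    G.attach.image (fun x => (⟨a.1 x.1, hEκ₁ a.1 a.2 x.1 x.2⟩ : κ₁))
  have := hSecfin.to_subtype
  have : Nonempty Sec := hSecne.to_subtype
  let V₁ : ValuationSubring κ₁ := A₃.comap (algebraMap κ₁ Ω)
  have hηΩ : ∀ b, ξΩ b = (η₃ b : Ω) := fun b => (congrArg (fun k => k b) hη₃).symm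
  have hV₁ : ∀ b, ξ₁ b ∈ V₁ := by
    intro b
    change ξΩ b ∈ A₃
    rw [hηΩ]
    exact (η₃ b).2
  have Hdvr : ∀ A₁ : ValuationSubring κ₁, IsDiscreteValuationRing A₁ → (∀ b, ξ₁ b ∈ A₁) →
      ∃ k : Sec, ∀ y ∈ D k, y ∈ A₁ := by
    intro A₁ hA₁ hb
    let A' : ValuationSubring κ := A₁.comap (algebraMap κ κ₁)
    have hA'dvr : IsDiscreteValuationRing A' := isDiscreteValuationRing_comap A₁
    let η' : B₀ →+* A' := ξ.codRestrict A'.toSubring (fun b => hb b)
    have hη' : A'.subtype.comp η' = ξ := rfl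
    obtain ⟨l', hl'1, hl'2⟩ := H A' hA'dvr η' hη'
    obtain ⟨Ã, hÃ⟩ := Groth.Agent.Lib.ValDVR76.exists_comap_eq (algebraMap κ₁ Ω) A₁
    have hÃmem : ∀ y : κ₁, (y : Ω) ∈ Ã ↔ y ∈ A₁ := fun y => by rw [← hÃ]; rfl
    let ηÃ : B₀ →+* Ã := ξΩ.codRestrict Ã.toSubring (fun b => (hÃmem (ξ₁ b)).2 (hb b))
    let inc : A' →+* Ã := (ιΩ.comp A'.subtype).codRestrict Ã.toSubring
      (fun x => (hÃmem (algebraMap κ κ₁ x)).2 x.2)
    have hinc : inc.comp η' = ηÃ := rfl
    let lÃ : (yon S).obj (pt sT ηÃ) ⟶ P := (yon S).map (ptMap sT η' ηÃ inc hinc) ≫ l'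
    have hlÃ : lÃ ≫ g = (yon S).map (ptHom sT ηÃ) := by
      change ((yon S).map _ ≫ l') ≫ g = _
      rw [Category.assoc, hl'2, ← Functor.map_comp, ptMap_comp_ptHom]
    obtain ⟨aÃ, haÃ, hsecÃ⟩ := hsecR Ã ηÃ lÃ hlÃ
    let a : C →+* Ω := Ã.subtype.comp aÃ
    have hηÃ : Ã.subtype.comp ηÃ = ξΩ := rfl
    have ha : a.comp β = ξΩ := by
      change (Ã.subtype.comp aÃ).comp β = ξΩ
      rw [RingHom.comp_assoc, haÃ]
      rfl
    have haSec : a ∈ Sec := by
      refine ⟨ha, ?_⟩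
      have e1 : wpt sT sW β hsW a ξΩ ha =
          ptMap sT ηÃ ξΩ Ã.subtype hηÃ ≫ wpt sT sW β hsW aÃ ηÃ haÃ :=
        (ptMap_comp_wpt sT sW β hsW ηÃ ξΩ Ã.subtype hηÃ aÃ haÃ a ha rfl).symm
      rw [e1, Functor.map_comp, Category.assoc, hsecÃ]
      change (yon S).map _ ≫ (yon S).map _ ≫ l' = (yon S).map _ ≫ t₀
      rw [← hl'1, ← Category.assoc, ← Category.assoc, ← Functor.map_comp, ← Functor.map_comp]
      congr 2
      rw [ptMap_comp_ptMap sT η' ηÃ ξΩ inc hinc Ã.subtype hηÃ (ιΩ.comp A'.subtype) rfl rfl,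
        ptMap_comp_ptMap sT η' ξ ξΩ A'.subtype hη' ιΩ rfl (ιΩ.comp A'.subtype) rfl rfl]
    refine ⟨⟨a, haSec⟩, ?_⟩
    intro y hy
    obtain ⟨x, -, rfl⟩ := Finset.mem_image.1 hy
    rw [← hÃmem]
    exact (aÃ x.1).2
  obtain ⟨⟨a, haSec⟩, hD⟩ := exists_subset_of_forall_dvr' ξ₁ hξ₁ D Hdvr V₁ hV₁
  obtain ⟨haβ, hasec⟩ := haSec
  have hmem : ∀ x : C, a x ∈ A₃ := by
    intro x
    have hx : x ∈ Algebra.adjoin B₀ (G : Set C) := by rw [hG]; trivial
    induction hx using Algebra.adjoin_induction with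
    | mem x hx =>
      exact hD ⟨a x, hEκ₁ a ⟨haβ, hasec⟩ x hx⟩
        (Finset.mem_image.2 ⟨⟨x, hx⟩, Finset.mem_attach _ _, rfl⟩)
    | algebraMap b =>
      change a (β b) ∈ A₃
      have h1 : a (β b) = ξΩ b := congrArg (fun k => k b) haβ
      rw [h1, hηΩ]
      exact (η₃ b).2
    | add x y _ _ hx hy => rw [map_add]; exact A₃.add_mem _ _ hx hy
    | mul x y _ _ hx hy => rw [map_mul]; exact A₃.mul_mem _ _ hx hy
  let a₃ : C →+* A₃ := a.codRestrict A₃.toSubring hmem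
  have ha₃ : a₃.comp β = η₃ := by
    apply RingHom.ext
    intro b
    apply Subtype.ext
    change a (β b) = (η₃ b : Ω)
    rw [← hηΩ]
    exact congrArg (fun k => k b) haβ
  refine ⟨(yon S).map (wpt sT sW β hsW a₃ η₃ ha₃) ≫ c, ?_, ?_⟩
  · rw [← Category.assoc, ← Functor.map_comp,
      ptMap_comp_wpt sT sW β hsW η₃ ξΩ A₃.subtype hη₃ a₃ ha₃ a haβ rfl]
    exact hasec
  · rw [Category.assoc, ← hgW, ← Functor.map_comp, wpt_comp sT sW β hsW a₃ η₃ ha₃ gW hgWl]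

set_option maxHeartbeats 1600000 in
/-- The core theorem for valuation subrings of an arbitrary algebraically closed extension of `κ`. -/
theorem exists_lift_of_forall_dvr_algClosed {B₀ : Type u} [CommRing B₀] [IsNoetherianRing B₀]
    (sT : Spec (CommRingCat.of B₀) ⟶ S) {P : Sp S}
    (g : P ⟶ (yon S).obj (Over.mk sT)) (hg : IsFiniteTypeMor g) (hqs : IsQuasiSeparatedMor g)
    {κ : Type u} [Field κ] (ξ : B₀ →+* κ) (hξ : ξ.EssFiniteType)
    (t₀ : (yon S).obj (pt sT ξ) ⟶ P) (ht₀ : t₀ ≫ g = (yon S).map (ptHom sT ξ))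
    (H : ∀ (A' : ValuationSubring κ), IsDiscreteValuationRing A' → ∀ (η : B₀ →+* A')
      (hη : A'.subtype.comp η = ξ), ∃ l : (yon S).obj (pt sT η) ⟶ P,
        (yon S).map (ptMap sT η ξ A'.subtype hη) ≫ l = t₀ ∧ l ≫ g = (yon S).map (ptHom sT η))
    {K₃ : Type u} [Field K₃] [IsAlgClosed K₃] (ι : κ →+* K₃) (A₃ : ValuationSubring K₃)
    (η₃ : B₀ →+* A₃) (hη₃ : A₃.subtype.comp η₃ = ι.comp ξ) :
    ∃ l : (yon S).obj (pt sT η₃) ⟶ P,
      (yon S).map (ptMap sT η₃ (ι.comp ξ) A₃.subtype hη₃) ≫ l =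
        (yon S).map (ptMap sT ξ (ι.comp ξ) ι rfl) ≫ t₀ ∧
      l ≫ g = (yon S).map (ptHom sT η₃) := by
  let _ : Algebra κ K₃ := ι.toAlgebra
  let Ω : IntermediateField κ K₃ := algebraicClosure κ K₃
  have hΩ : IsAlgClosure κ Ω := algebraicClosure.isAlgClosure κ K₃
  have : IsAlgClosed Ω := hΩ.isAlgClosed
  have : Algebra.IsAlgebraic κ Ω := hΩ.isAlgebraic
  let AΩ : ValuationSubring Ω := A₃.comap (algebraMap Ω K₃)
  have hηb : ∀ b, ι (ξ b) = (η₃ b : K₃) := fun b => (congrArg (fun k => k b) hη₃).symm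
  let ξΩ : B₀ →+* Ω := (algebraMap κ Ω).comp ξ
  let ηΩ : B₀ →+* AΩ := ξΩ.codRestrict AΩ.toSubring (fun b => by
    change ι (ξ b) ∈ A₃
    rw [hηb]
    exact (η₃ b).2)
  have hηΩ : AΩ.subtype.comp ηΩ = ξΩ := rfl
  obtain ⟨lΩ, h1, h2⟩ := exists_lift_of_forall_dvr_core sT g hg hqs ξ hξ t₀ ht₀ H AΩ ηΩ hηΩ
  let inc : AΩ →+* A₃ := ((algebraMap Ω K₃).comp AΩ.subtype).codRestrict A₃.toSubring (fun x => x.2)
  have hinc : inc.comp ηΩ = η₃ := by
    apply RingHom.ext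
    intro b
    apply Subtype.ext
    change ι (ξ b) = (η₃ b : K₃)
    exact hηb b
  have hΩK : (algebraMap Ω K₃).comp ξΩ = ι.comp ξ := RingHom.ext fun _ => rfl
  refine ⟨(yon S).map (ptMap sT ηΩ η₃ inc hinc) ≫ lΩ, ?_, ?_⟩
  · have h3 := congrArg (fun k => (yon S).map (ptMap sT ξΩ (ι.comp ξ) (algebraMap Ω K₃) hΩK) ≫ k) h1
    simp only [← Category.assoc, ← Functor.map_comp] at h3
    rw [ptMap_comp_ptMap sT ηΩ ξΩ (ι.comp ξ) AΩ.subtype hηΩ (algebraMap Ω K₃) hΩK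
        ((algebraMap Ω K₃).comp AΩ.subtype) (by rw [RingHom.comp_assoc, hηΩ, hΩK]) rfl,
      ptMap_comp_ptMap sT ξ ξΩ (ι.comp ξ) (algebraMap κ Ω) rfl (algebraMap Ω K₃) hΩK ι rfl
        (RingHom.ext fun _ => rfl)] at h3
    rw [← Category.assoc, ← Functor.map_comp, ← h3]
    congr 2
    exact ptMap_comp_ptMap sT ηΩ η₃ (ι.comp ξ) inc hinc A₃.subtype hη₃ _ _ rfl
  · rw [Category.assoc, h2, ← Functor.map_comp, ptMap_comp_ptHom]

end Groth.Agent.Lib.H69DvrVC
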