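/-
helper85: EGA II 7.3.10 for field-valued points: over a locally Noetherian base, lifting of
valuation subrings of a field `κ` (essentially of finite type over `X`) can be tested on discrete
valuation subrings.
-/
import Groth.Agent.Lib.ValDense2
import Groth.Agent.Lib.ValCenter2

set_option autoImplicit false
universe u
open CategoryTheory CategoryTheory.Limits AlgebraicGeometry IsLocalRing

namespace Groth.Agent.Lib.ValDense

open Groth.Agent.Lib.ValCenter

/-- Two morphisms from a local scheme landing in a common affine open agree if they agree after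
composing with `Spec.map ρ` for an injective `ρ`. -/
lemma eq_of_SpecMap_comp_eq' {T : Scheme.{u}} {R R' : Type u} [CommRing R] [CommRing R']
    [IsLocalRing R] (ρ : R →+* R') (hρ : Function.Injective ρ)
    (m₁ m₂ : Spec (.of R) ⟶ T) {W : T.Opens} (hW : IsAffineOpen W)
    (h₁ : m₁ (closedPoint R) ∈ W) (h₂ : m₂ (closedPoint R) ∈ W)
    (h : Spec.map (CommRingCat.ofHom ρ) ≫ m₁ = Spec.map (CommRingCat.ofHom ρ) ≫ m₂) : m₁ = m₂ := by
  obtain ⟨a₁, ha₁⟩ := exists_SpecMap_fromSpec (R := .of R) m₁ hW h₁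
  obtain ⟨a₂, ha₂⟩ := exists_SpecMap_fromSpec (R := .of R) m₂ hW h₂
  have h12 : a₁ ≫ CommRingCat.ofHom ρ = a₂ ≫ CommRingCat.ofHom ρ := by
    apply Spec.map_injective
    rw [← cancel_mono hW.fromSpec, Spec.map_comp_assoc, Spec.map_comp_assoc, ← ha₁, ← ha₂, h]
  have : a₁ = a₂ := by
    ext c
    exact hρ (congrArg (fun g ↦ g.hom c) h12)
  rw [ha₁, ha₂, this]

set_option backward.isDefEq.respectTransparency.types false in
/-- **Core lemma (EGA II 7.3.10 for field-valued points).** Over a locally Noetherian base, if all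
discrete valuation subrings of `κ` have centers on `X` (compatibly with `S`), then so do all
valuation subrings of `κ`. -/
theorem exists_lift_of_forall_dvr {X S : Scheme.{u}} [IsLocallyNoetherian S] (f : X ⟶ S)
    [LocallyOfFiniteType f] [QuasiCompact f] {κ : Type u} [Field κ] (t₀ : Spec (.of κ) ⟶ X)
    (hκ : (Scheme.stalkClosedPointTo t₀).hom.EssFiniteType)
    (H : ∀ A : ValuationSubring κ, IsDiscreteValuationRing A → ∀ y : Spec (.of A) ⟶ S,
      Spec.map (CommRingCat.ofHom A.subtype) ≫ y = t₀ ≫ f →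
      ∃ l : Spec (.of A) ⟶ X, Spec.map (CommRingCat.ofHom A.subtype) ≫ l = t₀ ∧ l ≫ f = y)
    (V : ValuationSubring κ) (φ : Spec (.of V) ⟶ S)
    (hφ : Spec.map (CommRingCat.ofHom V.subtype) ≫ φ = t₀ ≫ f) :
    ∃ m : Spec (.of V) ⟶ X, Spec.map (CommRingCat.ofHom V.subtype) ≫ m = t₀ ∧ m ≫ f = φ := by
  classical
  by_contra hno
  push Not at hno
  let ptκ : ↥(Spec (CommRingCat.of κ)) := closedPoint κ
  let ptV : ↥(Spec (CommRingCat.of V)) := closedPoint V
  let x₀ : X := t₀ ptκ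
  let s : S := φ ptV
  let ρ : CommRingCat.of V ⟶ CommRingCat.of κ := CommRingCat.ofHom V.subtype
  have hρinj : Function.Injective V.subtype := Subtype.val_injective
  let α : S.presheaf.stalk s ⟶ CommRingCat.of V := Scheme.stalkClosedPointTo φ
  have hαloc : IsLocalHom α.hom := inferInstance
  let j₀ : S.presheaf.stalk s ⟶ CommRingCat.of κ := α ≫ ρ
  have hφα : Spec.map α ≫ S.fromSpecStalk s = φ := Scheme.Spec_stalkClosedPointTo_fromSpecStalk φ
  -- `j₀` is essentially of finite type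
  have hsp : (t₀ ≫ f) ptκ ⤳ φ ptV := by
    have h1 : (Spec.map ρ) ptκ ⤳ ptV := specializes_closedPoint _
    have h2 := h1.map φ.continuous
    have h3 : (t₀ ≫ f) ptκ = φ ((Spec.map ρ) ptκ) := by
      rw [← hφ]; rfl
    rw [h3]; exact h2
  have hj₀ : j₀ = S.presheaf.stalkSpecializes hsp ≫ Scheme.stalkClosedPointTo (t₀ ≫ f) :=
    (stalkSpecializes_stalkClosedPointTo ρ φ (t₀ ≫ f) hφ.symm hsp).symm
  have hess : j₀.hom.EssFiniteType := by
    rw [hj₀, Scheme.stalkClosedPointTo_comp]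
    exact (essFiniteType_stalkSpecializes hsp).comp
      ((LocallyOfFiniteType.stalkMap f _).comp hκ)
  have hdomV : Dom V j₀.hom := by
    refine ⟨fun a ↦ (α.hom a).2, fun a ha ↦ ?_⟩
    apply (V.valuation_lt_one_iff _).mp
    rw [mem_maximalIdeal]
    intro hu
    exact ((mem_maximalIdeal _).mp ha) (hαloc.map_nonunit _ hu)
  -- an affine neighbourhood of `s` and a finite affine cover of its preimage
  obtain ⟨_, ⟨W, hW, rfl⟩, hsW, -⟩ :=
    S.isBasis_affineOpens.exists_subset_of_mem_open (Set.mem_univ s) isOpen_univ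
  have hcpt : IsCompact (f ⁻¹ᵁ W : Set X) := f.isCompact_preimage hW.isCompact
  obtain ⟨𝒰, h𝒰, h𝒰U⟩ := isCompact_iff_finite_and_eq_biUnion_affineOpens.mp hcpt
  have hcover : ∀ x : X, f x ∈ W → ∃ U ∈ 𝒰, x ∈ U.1 := by
    intro x hx
    have : x ∈ f ⁻¹ᵁ W := hx
    rw [h𝒰U] at this
    simpa [TopologicalSpace.Opens.mem_iSup] using this
  have hsub : ∀ U ∈ 𝒰, ∀ x ∈ U.1, f x ∈ W := by
    intro U hU x hx
    have : x ∈ f ⁻¹ᵁ W := by
      rw [h𝒰U]
      simp only [TopologicalSpace.Opens.mem_iSup]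
      exact ⟨U, hU, hx⟩
    exact this
  -- the evaluation maps
  have hb : ∀ (U : X.affineOpens) (hx₀U : x₀ ∈ U.1),
      ∃ b : Γ(X, U.1) ⟶ CommRingCat.of κ, t₀ = Spec.map b ≫ U.2.fromSpec := fun U hx₀U ↦
    exists_SpecMap_fromSpec (R := .of κ) t₀ U.2 hx₀U
  choose b hb using hb
  have hex : ∀ (U : X.affineOpens) (hU : U ∈ 𝒰) (hx₀U : x₀ ∈ U.1),
      ∃ c : Γ(X, U.1), (b U hx₀U).hom c ∉ V := by
    intro U hU hx₀U
    by_contra hall
    push Not at hall
    let γ : Γ(X, U.1) →+* V := (b U hx₀U).hom.codRestrict V.toSubring hall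
    let m : Spec (.of V) ⟶ X := Spec.map (CommRingCat.ofHom γ) ≫ U.2.fromSpec
    have hm₁ : Spec.map (CommRingCat.ofHom V.subtype) ≫ m = t₀ := by
      rw [hb U hx₀U]
      change Spec.map _ ≫ Spec.map _ ≫ _ = _
      rw [← Spec.map_comp_assoc]
      congr 2
    have hmU : m ptV ∈ U.1 := by
      have : m ptV ∈ Set.range U.2.fromSpec := by
        change (Spec.map (CommRingCat.ofHom γ) ≫ U.2.fromSpec) ptV ∈ _
        rw [Scheme.Hom.comp_apply]
        exact ⟨_, rfl⟩
      rw [U.2.range_fromSpec] at this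
      exact this
    refine hno m hm₁ ?_
    refine eq_of_SpecMap_comp_eq' V.subtype hρinj (m ≫ f) φ hW ?_ hsW ?_
    · rw [Scheme.Hom.comp_apply]
      exact hsub U hU _ hmU
    · rw [← Category.assoc, hm₁, hφ]
  choose c hc using hex
  let t : X.affineOpens → κ := fun U ↦
    if hU : U ∈ 𝒰 ∧ x₀ ∈ U.1 then ((b U hU.2).hom (c U hU.1 hU.2))⁻¹ else 0
  let G : Finset κ := h𝒰.toFinset.image t
  have hG : ∀ a ∈ G, V.valuation a < 1 := by
    intro a ha
    obtain ⟨U, -, rfl⟩ := Finset.mem_image.mp ha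
    by_cases hU : U ∈ 𝒰 ∧ x₀ ∈ U.1
    · simp only [t, dif_pos hU]
      rw [← ValuationSubring.mem_nonunits_iff, ValuationSubring.inv_mem_nonunits_iff]
      exact Or.inr (hc U hU.1 hU.2)
    · simp only [t, dif_neg hU]
      rw [map_zero]; exact zero_lt_one
  have hfx₀ : f x₀ ∈ W := hsp.mem_open W.2 hsW
  have hG0 : ∃ a ∈ G, a ≠ 0 := by
    obtain ⟨U, hU𝒰, hx₀U⟩ := hcover x₀ hfx₀
    refine ⟨t U, Finset.mem_image_of_mem t (h𝒰.mem_toFinset.mpr hU𝒰), ?_⟩
    simp only [t, dif_pos (And.intro hU𝒰 hx₀U)]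
    refine inv_ne_zero fun h0 ↦ hc U hU𝒰 hx₀U ?_
    rw [h0]; exact V.zero_mem
  let _ : Algebra (S.presheaf.stalk s) κ := j₀.hom.toAlgebra
  have hess' : Algebra.EssFiniteType (S.presheaf.stalk s) κ := hess
  obtain ⟨A', hA', hdomA', hGA'⟩ :=
    exists_dvr_dom_of_valuationSubring (S.presheaf.stalk s) κ V hdomV G hG hG0
  -- apply the hypothesis to `A'`
  let θ' : S.presheaf.stalk s →+* A' := j₀.hom.codRestrict A'.toSubring hdomA'.1
  have hθ'loc : IsLocalHom θ' := hdomA'.isLocalHom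
  let y' : Spec (.of A') ⟶ S := Spec.map (CommRingCat.ofHom θ') ≫ S.fromSpecStalk s
  have hy' : Spec.map (CommRingCat.ofHom A'.subtype) ≫ y' = t₀ ≫ f := by
    change Spec.map _ ≫ Spec.map _ ≫ _ = _
    rw [← Spec.map_comp_assoc]
    have : CommRingCat.ofHom θ' ≫ CommRingCat.ofHom A'.subtype = α ≫ ρ := by
      ext a; rfl
    rw [this, Spec.map_comp_assoc, hφα, hφ]
  obtain ⟨l, hl₁, hl₂⟩ := H A' hA' y' hy'
  let ptA : ↥(Spec (CommRingCat.of A')) := closedPoint A'
  have hlcl : f (l ptA) = s := by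
    rw [← Scheme.Hom.comp_apply, hl₂]
    change (Spec.map (CommRingCat.ofHom θ') ≫ S.fromSpecStalk s) ptA = s
    rw [Scheme.Hom.comp_apply]
    have : (Spec.map (CommRingCat.ofHom θ')) ptA = closedPoint (S.presheaf.stalk s) :=
      comap_closedPoint θ'
    rw [this, Scheme.fromSpecStalk_closedPoint]
  obtain ⟨U, hU𝒰, hlU⟩ := hcover (l ptA) (hlcl ▸ hsW)
  have hx₀U : x₀ ∈ U.1 := by
    have h1 : (Spec.map (CommRingCat.ofHom A'.subtype)) ptκ ⤳ ptA := specializes_closedPoint _
    have h2 := h1.map l.continuous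
    have h3 : l ((Spec.map (CommRingCat.ofHom A'.subtype)) ptκ) = x₀ := by
      rw [← Scheme.Hom.comp_apply, hl₁]
    rw [h3] at h2
    exact h2.mem_open U.1.2 hlU
  obtain ⟨a, ha⟩ := exists_SpecMap_fromSpec (R := .of A') l U.2 hlU
  have hab : a ≫ CommRingCat.ofHom A'.subtype = b U hx₀U := by
    apply Spec.map_injective
    rw [← cancel_mono U.2.fromSpec, Spec.map_comp_assoc, ← ha, hl₁, ← hb U hx₀U]
  have h1 : (b U hx₀U).hom (c U hU𝒰 hx₀U) ∈ A' := by
    rw [← hab]
    exact (a.hom (c U hU𝒰 hx₀U)).2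
  have h2 := hGA' (t U) (Finset.mem_image_of_mem t (h𝒰.mem_toFinset.mpr hU𝒰))
  simp only [t, dif_pos (And.intro hU𝒰 hx₀U)] at h2
  rw [← ValuationSubring.mem_nonunits_iff, ValuationSubring.inv_mem_nonunits_iff] at h2
  rcases h2 with h0 | hnot
  · apply hc U hU𝒰 hx₀U
    rw [h0]; exact V.zero_mem
  · exact hnot h1

set_option backward.isDefEq.respectTransparency.types false in
lemma surjective_stalkClosedPointTo_fromSpecResidueField {X : Scheme.{u}} (x : X) :
    Function.Surjective (Scheme.stalkClosedPointTo (X.fromSpecResidueField x)).hom := by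
  intro k
  have : IsLocalHom (X.residue x).hom :=
    inferInstanceAs (IsLocalHom (IsLocalRing.residue (X.presheaf.stalk x)))
  obtain ⟨a, rfl⟩ := IsLocalRing.residue_surjective (R := X.presheaf.stalk x) k
  obtain ⟨U, hxU, s, rfl⟩ := X.presheaf.exists_germ_eq a
  have hpt : (Spec.map (X.residue x) ≫ X.fromSpecStalk x)
      (closedPoint (X.residueField x)) ∈ U := by
    rw [Scheme.Hom.comp_apply, Spec_closedPoint, Scheme.fromSpecStalk_closedPoint]
    exact hxU
  have key := Scheme.germ_stalkClosedPointTo_Spec_fromSpecStalk (X.residue x) U hpt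
  refine ⟨(X.presheaf.germ U _ hpt).hom s, ?_⟩
  exact congrArg (fun g ↦ g.hom s) key

lemma essFiniteType_stalkClosedPointTo_fromSpecResidueField {X : Scheme.{u}} (x : X) :
    (Scheme.stalkClosedPointTo (X.fromSpecResidueField x)).hom.EssFiniteType :=
  (RingHom.FiniteType.of_surjective _
    (surjective_stalkClosedPointTo_fromSpecResidueField x)).essFiniteType

lemma essFiniteType_stalkClosedPointTo_fromSpecResidueField_comp {Z X : Scheme.{u}} (h : Z ⟶ X)
    [LocallyOfFiniteType h] (z : Z) :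
    (Scheme.stalkClosedPointTo (Z.fromSpecResidueField z ≫ h)).hom.EssFiniteType := by
  rw [Scheme.stalkClosedPointTo_comp]
  exact (LocallyOfFiniteType.stalkMap h _).comp
    (essFiniteType_stalkClosedPointTo_fromSpecResidueField z)

end Groth.Agent.Lib.ValDense
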