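import Groth.Agent.Lib.H69DvrVC7
import Groth.Agent.Lib.ValDense3
import Groth.Agent.Lib.AlgSpDecentSpec

set_option autoImplicit false
universe u

open CategoryTheory CategoryTheory.Limits AlgebraicGeometry Opposite Topology IsLocalRing

namespace Groth.Agent.Lib.H69DvrVC

open AlgSp Groth.Agent.Lib.AlgSpPoints Groth.Agent.Lib.AlgSpQC Groth.Agent.Lib.AlgSpFibre
  Groth.Agent.Lib.AlgSpDescent Groth.Agent.Lib.H69AlgSp Groth.Agent.Lib.H69AlgSpMor
  Groth.Agent.Lib.AlgSpLocP Groth.Agent.Lib.AlgSpBasic Groth.Agent.Lib.AlgSpFpqc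
  Groth.Agent.Lib.AlgSpProper Groth.Agent.Lib.AlgSpValuative Groth.Agent.Lib.AlgSpAffineSpace
  Groth.Agent.Lib.H69RefVal

variable {S : Scheme.{u}}

/-- A ring map to a field is essentially of finite type if the induced map on the stalk is. -/
theorem essFiniteType_of_stalkClosedPointTo {R : CommRingCat.{u}} {κ : Type u} [Field κ]
    (φ : R ⟶ CommRingCat.of κ) (h : (Scheme.stalkClosedPointTo (Spec.map φ)).hom.EssFiniteType) :
    φ.hom.EssFiniteType := by
  have key := Scheme.germ_stalkClosedPointTo_Spec φ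
  have hφ : φ = (Scheme.ΓSpecIso R).inv ≫ (Spec R).presheaf.germ ⊤ _ trivial ≫
      Scheme.stalkClosedPointTo (Spec.map φ) := by
    rw [key, Iso.inv_hom_id_assoc]
  rw [hφ]
  have h1 : ((Scheme.ΓSpecIso R).inv).hom.EssFiniteType :=
    (RingHom.FiniteType.of_surjective _
      (ConcreteCategory.bijective_of_isIso (Scheme.ΓSpecIso R).inv).2).essFiniteType
  have h2 : ((Spec R).presheaf.germ ⊤ ((Spec.map φ) (closedPoint κ)) trivial).hom.EssFiniteType := by
    let y : ((⊤ : (Spec R).Opens) : Type u) := ⟨(Spec.map φ) (closedPoint κ), trivial⟩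
    let _ : Algebra Γ(Spec R, ⊤) ((Spec R).presheaf.stalk ((Spec.map φ) (closedPoint κ))) :=
      (Spec R).presheaf.algebra_section_stalk y
    have hloc := (isAffineOpen_top (Spec R)).isLocalization_stalk y
    have : Algebra.EssFiniteType Γ(Spec R, ⊤) ((Spec R).presheaf.stalk ((Spec.map φ) (closedPoint κ))) :=
      Algebra.EssFiniteType.of_isLocalization _
        ((isAffineOpen_top (Spec R)).primeIdealOf y).asIdeal.primeCompl
    exact RingHom.essFiniteType_algebraMap.mpr this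
  exact (h1.comp h2).comp h

set_option maxHeartbeats 4000000 in
/-- **Key proposition.** If all valuative squares of `h ≫ f` over discrete valuation rings have a dotted arrow to `X`, then
every valuative square of `f` whose top arrow factors through `h` has a dotted arrow after an extension. -/
theorem hasLiftExt_of_through {U X Y : Sp S} (hU : IsAlgSpace U) (hX : IsAlgSpace X) (hY : IsAlgSpace Y)
    (h : U ⟶ X) (f : X ⟶ Y) (hYN : IsLocNoethSp Y) (hft : IsFiniteTypeMor f)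
    (hfqs : IsQuasiSeparatedMor f) (hhlft : LocP @LocallyOfFiniteType h)
    (hval : ∀ sq : ValSq (h ≫ f), IsDiscreteValuationRing sq.A →
      ∃ l : (yon S).obj sq.ptA ⟶ X, (yon S).map sq.j ≫ l = sq.top ≫ h ∧ l ≫ f = sq.bot)
    (sq : ValSq f) (t : (yon S).obj sq.ptK ⟶ U) (ht : t ≫ h = sq.top) : sq.HasLiftExt := by
  let sq' : ValSq (h ≫ f) :=
    { A := sq.A, K := sq.K, str := sq.str, top := t, bot := sq.bot
      comm := by rw [← Category.assoc, ht]; exact sq.comm }
  obtain ⟨B₀, sV, W, hWaff, d, c, fW, e₁, topW, botV, hde, hce, hcf, htop, hbot, hcompat⟩ :=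
    exists_chart_lift' hU hY (h ≫ f) sq'
  have hTN : IsLocallyNoetherian (Over.mk sV).left :=
    Groth.Agent.Lib.AlgSpDecentSpec.isLocallyNoetherian_of_repWith_etale hYN d hde
  have hBN : IsNoetherianRing B₀ := isLocallyNoetherian_Spec.1 hTN
  have hlft' := Groth.Agent.Lib.H86ZarGlue.descendsAlong_etCov_lft.{u}
  have hhf : LocP @LocallyOfFiniteType (h ≫ f) := locP_comp etLocalClass_lft hU hX hY hhlft hft.1
  have hfWlft : LocallyOfFiniteType fW.left := hhf c d fW hce hde hcf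
  -- the point of `W` and its residue field
  let K₁ := e₁.K'
  let tW : Spec (CommRingCat.of K₁) ⟶ W.left := topW.left
  let u' : W.left := tW (closedPoint K₁)
  let κ := W.left.residueField u'
  let x₀ : Spec (CommRingCat.of κ) ⟶ Spec B₀ := W.left.fromSpecResidueField u' ≫ fW.left
  let φ₀ : B₀ ⟶ CommRingCat.of κ := Spec.preimage x₀
  have hφ₀ : Spec.map φ₀ = x₀ := Spec.map_preimage _
  let ξ : B₀ →+* κ := φ₀.hom
  have hξmap : Spec.map (CommRingCat.ofHom ξ) = x₀ := hφ₀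
  have hξ : ξ.EssFiniteType := by
    apply essFiniteType_of_stalkClosedPointTo φ₀
    rw [hφ₀]
    exact Groth.Agent.Lib.ValDense.essFiniteType_stalkClosedPointTo_fromSpecResidueField_comp fW.left u'
  -- the base change `P = X ×_Y Spec B₀`
  let sT : Spec (CommRingCat.of B₀) ⟶ S := sV
  have sqP := IsPullback.of_hasPullback f d
  let g : pullback f d ⟶ (yon S).obj (Over.mk sT) := pullback.snd f d
  have hg : IsFiniteTypeMor g := by
    refine ⟨locP_of_isPullback etLocalClass_lft hX hY (IsAlgSpace.yon_obj _) sqP hft.1, ?_⟩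
    intro Z Z' hZ hZqc k fst snd hpb
    exact hft.2 hZ hZqc (k ≫ d) (fst ≫ pullback.fst f d) snd (hpb.paste_horiz sqP)
  have hgqs : IsQuasiSeparatedMor g := isQuasiSeparatedMor_of_isPullback sqP hfqs
  have hfWhom : fW.left ≫ sV = W.hom := Over.w fW
  have hx₀' : W.left.fromSpecResidueField u' ≫ fW.left = Spec.map (CommRingCat.ofHom ξ) := hξmap.symm
  have hx₀hom : W.left.fromSpecResidueField u' ≫ W.hom = Spec.map (CommRingCat.ofHom ξ) ≫ sT := by
    rw [hξmap, Category.assoc, hfWhom]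
  let k₀ : pt sT ξ ⟶ W := Over.homMk (W.left.fromSpecResidueField u') hx₀hom
  have hk₀fW : k₀ ≫ fW = ptHom sT ξ := by
    ext
    exact hξmap.symm
  have hcond : ((yon S).map k₀ ≫ c ≫ h) ≫ f = (yon S).map (ptHom sT ξ) ≫ d := by
    rw [Category.assoc, Category.assoc, hcf, ← Category.assoc, ← Functor.map_comp, hk₀fW]
  let t₀P : (yon S).obj (pt sT ξ) ⟶ pullback f d := pullback.lift _ _ hcond
  have ht₀P1 : t₀P ≫ pullback.fst f d = (yon S).map k₀ ≫ c ≫ h := pullback.lift_fst _ _ _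
  have ht₀P2 : t₀P ≫ g = (yon S).map (ptHom sT ξ) := pullback.lift_snd _ _ _
  -- discrete valuation subrings of `κ` lift
  have H : ∀ (A' : ValuationSubring κ), IsDiscreteValuationRing A' → ∀ (η : B₀ →+* A')
      (hη : A'.subtype.comp η = ξ), ∃ l : (yon S).obj (pt sT η) ⟶ pullback f d,
        (yon S).map (ptMap sT η ξ A'.subtype hη) ≫ l = t₀P ∧ l ≫ g = (yon S).map (ptHom sT η) := by
    intro A' hA' η hη
    have hstr : W.left.fromSpecResidueField u' ≫ W.hom =
        Spec.map (CommRingCat.ofHom (algebraMap A' κ)) ≫ Spec.map (CommRingCat.ofHom η) ≫ sT := by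
      rw [hx₀hom, ← hη, ← Spec.map_comp_assoc]
      rfl
    let ptK'' : Over S :=
      Over.mk (Spec.map (CommRingCat.ofHom (algebraMap A' κ)) ≫ Spec.map (CommRingCat.ofHom η) ≫ sT)
    let k₀' : ptK'' ⟶ W := Over.homMk (W.left.fromSpecResidueField u') hstr
    let j'' : ptK'' ⟶ pt sT η := Over.homMk (Spec.map (CommRingCat.ofHom (algebraMap A' κ))) rfl
    have hk₀'fW : k₀' ≫ fW = j'' ≫ ptHom sT η := by
      ext
      change W.left.fromSpecResidueField u' ≫ fW.left = Spec.map _ ≫ Spec.map _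
      rw [← Spec.map_comp, hx₀', ← hη]
      rfl
    have hcomm'' : ((yon S).map k₀' ≫ c) ≫ h ≫ f =
        (yon S).map j'' ≫ (yon S).map (ptHom sT η) ≫ d := by
      have e1 : ((yon S).map k₀' ≫ c) ≫ h ≫ f = (yon S).map (k₀' ≫ fW) ≫ d := by
        rw [Category.assoc, hcf, Functor.map_comp, Category.assoc]
      rw [e1, hk₀'fW, Functor.map_comp, Category.assoc]
    let sq'' : ValSq (h ≫ f) :=
      { A := A', K := κ, str := Spec.map (CommRingCat.ofHom η) ≫ sT
        top := (yon S).map k₀' ≫ c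
        bot := (yon S).map (ptHom sT η) ≫ d
        comm := hcomm'' }
    obtain ⟨l'', hl''1, hl''2⟩ := hval sq'' hA'
    have hl''2' : l'' ≫ f = (yon S).map (ptHom sT η) ≫ d := hl''2
    have hl''1' : (yon S).map j'' ≫ l'' = ((yon S).map k₀' ≫ c) ≫ h := hl''1
    refine ⟨pullback.lift l'' ((yon S).map (ptHom sT η)) hl''2', ?_, pullback.lift_snd _ _ _⟩
    let i'' : pt sT ξ ⟶ ptK'' := Over.homMk (𝟙 _) (by
      change 𝟙 _ ≫ Spec.map _ ≫ Spec.map _ ≫ sT = Spec.map _ ≫ sT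
      rw [Category.id_comp, ← Spec.map_comp_assoc, ← hη]
      rfl)
    have hi1 : ptMap sT η ξ A'.subtype hη = i'' ≫ j'' := by
      ext
      change Spec.map _ = 𝟙 _ ≫ Spec.map _
      rw [Category.id_comp]
      rfl
    have hi2 : k₀ = i'' ≫ k₀' := by
      ext
      change _ = 𝟙 _ ≫ _
      rw [Category.id_comp]
      rfl
    apply pullback.hom_ext
    · rw [Category.assoc, pullback.lift_fst, ht₀P1, hi1, Functor.map_comp, Category.assoc, hl''1', hi2,
        Functor.map_comp]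
      simp only [Category.assoc]
    · rw [Category.assoc, pullback.lift_snd, ← Functor.map_comp, ptMap_comp_ptHom]
      exact ht₀P2.symm
  -- the geometric valuation ring
  let A₁ := e₁.A'
  let ι₀ : W.left.residueField u' ⟶ CommRingCat.of K₁ :=
    W.left.descResidueField (Scheme.stalkClosedPointTo tW)
  have hι₀ : Spec.map ι₀ ≫ W.left.fromSpecResidueField u' = tW :=
    Scheme.descResidueField_stalkClosedPointTo_fromSpecResidueField K₁ W.left tW
  let ι : κ →+* K₁ := ι₀.hom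
  let K₃ := AlgebraicClosure K₁
  let ι₃ : κ →+* K₃ := (algebraMap K₁ K₃).comp ι
  let β₃ : A₁ →+* K₃ := (algebraMap K₁ K₃).comp (algebraMap A₁ K₁)
  obtain ⟨A₃, hA₃, hloc₃⟩ := exists_factor_valuationRing β₃
  let θ₃ : A₁ →+* A₃ := β₃.codRestrict A₃.toSubring hA₃
  let b₁ : B₀ ⟶ CommRingCat.of A₁ := Spec.preimage botV.left
  have hb₁ : Spec.map b₁ = botV.left := Spec.map_preimage _
  let η₃ : B₀ →+* A₃ := θ₃.comp b₁.hom
  have hcompat' : tW ≫ fW.left =
      Spec.map (CommRingCat.ofHom (algebraMap A₁ K₁)) ≫ botV.left :=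
    congrArg (fun k => k.left) hcompat
  have hring : (algebraMap A₁ K₁).comp b₁.hom = ι.comp ξ := by
    have h1 : Spec.map (b₁ ≫ CommRingCat.ofHom (algebraMap A₁ K₁)) = Spec.map (φ₀ ≫ ι₀) := by
      rw [Spec.map_comp, Spec.map_comp, hb₁, ← hcompat', ← hι₀, Category.assoc, hφ₀]
    have h2 := Spec.map_injective h1
    exact congrArg (fun k => k.hom) h2
  have hη₃ : A₃.subtype.comp η₃ = ι₃.comp ξ := by
    change (A₃.subtype.comp θ₃).comp b₁.hom = ((algebraMap K₁ K₃).comp ι).comp ξ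
    have h1 : ((algebraMap K₁ K₃).comp ι).comp ξ = (algebraMap K₁ K₃).comp (ι.comp ξ) :=
      RingHom.comp_assoc _ _ _
    rw [h1, ← hring]
    rfl
  obtain ⟨lP, hlP1, hlP2⟩ := exists_lift_of_forall_dvr_algClosed sT g hg hgqs ξ hξ t₀P ht₀P2 H ι₃ A₃ η₃ hη₃
  -- the extension of the original square
  have hcomm₃ : (algebraMap A₃ K₃).comp (θ₃.comp e₁.φ) =
      ((algebraMap K₁ K₃).comp e₁.ψ).comp (algebraMap sq.A sq.K) := by
    have h1 : (algebraMap A₃ K₃).comp θ₃ = (algebraMap K₁ K₃).comp (algebraMap A₁ K₁) := rfl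
    rw [← RingHom.comp_assoc, h1, RingHom.comp_assoc, RingHom.comp_assoc]
    congr 1
    exact e₁.comm
  have hloc : IsLocalHom (θ₃.comp e₁.φ) := by
    have := hloc₃
    have := e₁.isLocalHom
    exact RingHom.isLocalHom_comp θ₃ e₁.φ
  let e₃ : sq.DomExt :=
    { A' := A₃, K' := K₃, φ := θ₃.comp e₁.φ, ψ := (algebraMap K₁ K₃).comp e₁.ψ, comm := hcomm₃,
      isLocalHom := hloc }
  have hbotVhom : botV.left ≫ sV = Spec.map (CommRingCat.ofHom e₁.φ) ≫ sq.str := Over.w botV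
  have hφ₃S : Spec.map (CommRingCat.ofHom (θ₃.comp e₁.φ)) =
      Spec.map (CommRingCat.ofHom θ₃) ≫ Spec.map (CommRingCat.ofHom e₁.φ) := by
    rw [CommRingCat.ofHom_comp, Spec.map_comp]
  have hη₃S : Spec.map (CommRingCat.ofHom η₃) = Spec.map (CommRingCat.ofHom θ₃) ≫ botV.left := by
    rw [← hb₁, ← Spec.map_comp]
    rfl
  have hstrA : Spec.map (CommRingCat.ofHom η₃) ≫ sT =
      Spec.map (CommRingCat.ofHom (θ₃.comp e₁.φ)) ≫ sq.str := by
    rw [hη₃S, hφ₃S, Category.assoc, Category.assoc]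
    congr 1
  let iA : e₃.ptA' ⟶ pt sT η₃ := Over.homMk (𝟙 _) (by
    change 𝟙 _ ≫ Spec.map _ ≫ sT = Spec.map _ ≫ sq.str
    rw [Category.id_comp]
    exact hstrA)
  let iK : e₃.ptK' ⟶ pt sT (ι₃.comp ξ) := Over.homMk (𝟙 _) (by
    change 𝟙 _ ≫ Spec.map _ ≫ sT = Spec.map _ ≫ Spec.map _ ≫ sq.str
    rw [Category.id_comp, ← hstrA, ← hη₃, ← Spec.map_comp_assoc]
    rfl)
  let kK : e₃.ptK' ⟶ e₁.ptK' := Over.homMk (Spec.map (CommRingCat.ofHom (algebraMap K₁ K₃))) (by
    have h1 : Spec.map (CommRingCat.ofHom (algebraMap K₁ K₃)) ≫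
        Spec.map (CommRingCat.ofHom (algebraMap A₁ K₁)) =
        Spec.map (CommRingCat.ofHom (algebraMap A₃ K₃)) ≫ Spec.map (CommRingCat.ofHom θ₃) := by
      rw [← Spec.map_comp, ← Spec.map_comp]
      rfl
    change Spec.map _ ≫ Spec.map _ ≫ Spec.map _ ≫ sq.str = Spec.map _ ≫ Spec.map _ ≫ sq.str
    rw [hφ₃S, ← Category.assoc, h1]
    simp only [Category.assoc])
  let kA : e₃.ptA' ⟶ e₁.ptA' := Over.homMk (Spec.map (CommRingCat.ofHom θ₃)) (by
    change Spec.map _ ≫ Spec.map _ ≫ sq.str = Spec.map _ ≫ sq.str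
    rw [hφ₃S, Category.assoc])
  have hJ : domJ e₃ ≫ iA = iK ≫ ptMap sT η₃ (ι₃.comp ξ) A₃.subtype hη₃ := by
    ext
    change Spec.map _ ≫ 𝟙 _ = 𝟙 _ ≫ Spec.map _
    rw [Category.comp_id, Category.id_comp]
    rfl
  have hKW : iK ≫ ptMap sT ξ (ι₃.comp ξ) ι₃ rfl ≫ k₀ = kK ≫ topW := by
    ext
    change 𝟙 _ ≫ Spec.map (CommRingCat.ofHom ι₃) ≫ W.left.fromSpecResidueField u' = Spec.map _ ≫ tW
    rw [Category.id_comp, ← hι₀, ← Spec.map_comp_assoc]
    rfl
  have hKK : kK ≫ domK e₁ = domK e₃ := by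
    ext
    change Spec.map _ ≫ Spec.map _ = Spec.map _
    rw [← Spec.map_comp]
    rfl
  have hAA : kA ≫ domJA e₁ = domJA e₃ := by
    ext
    change Spec.map _ ≫ Spec.map _ = Spec.map _
    rw [← Spec.map_comp]
    rfl
  have hAB : iA ≫ ptHom sT η₃ = kA ≫ botV := by
    ext
    change 𝟙 _ ≫ Spec.map _ = Spec.map _ ≫ botV.left
    rw [Category.id_comp, hη₃S]
  refine ⟨e₃, (hasLift_iff e₃).2 ⟨(yon S).map iA ≫ lP ≫ pullback.fst f d, ?_, ?_⟩⟩
  · have s1 : (yon S).map (domJ e₃) ≫ (yon S).map iA =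
        (yon S).map iK ≫ (yon S).map (ptMap sT η₃ (ι₃.comp ξ) A₃.subtype hη₃) := by
      rw [← Functor.map_comp, hJ, Functor.map_comp]
    have s2 : (yon S).map (ptMap sT η₃ (ι₃.comp ξ) A₃.subtype hη₃) ≫ lP ≫ pullback.fst f d =
        (yon S).map (ptMap sT ξ (ι₃.comp ξ) ι₃ rfl) ≫ (yon S).map k₀ ≫ c ≫ h := by
      rw [← Category.assoc, hlP1, Category.assoc, ht₀P1]
    have s3 : (yon S).map iK ≫ (yon S).map (ptMap sT ξ (ι₃.comp ξ) ι₃ rfl) ≫ (yon S).map k₀ =
        (yon S).map kK ≫ (yon S).map topW := by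
      rw [← Functor.map_comp, ← Functor.map_comp, hKW, Functor.map_comp]
    have s4 : (yon S).map topW ≫ c = (yon S).map (domK e₁) ≫ t := htop
    calc (yon S).map (domJ e₃) ≫ (yon S).map iA ≫ lP ≫ pullback.fst f d
        = ((yon S).map (domJ e₃) ≫ (yon S).map iA) ≫ lP ≫ pullback.fst f d := by
          simp only [Category.assoc]
      _ = ((yon S).map iK ≫ (yon S).map (ptMap sT η₃ (ι₃.comp ξ) A₃.subtype hη₃)) ≫ lP ≫
            pullback.fst f d := by rw [s1]
      _ = (yon S).map iK ≫ ((yon S).map (ptMap sT η₃ (ι₃.comp ξ) A₃.subtype hη₃) ≫ lP ≫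
            pullback.fst f d) := by simp only [Category.assoc]
      _ = (yon S).map iK ≫ (yon S).map (ptMap sT ξ (ι₃.comp ξ) ι₃ rfl) ≫ (yon S).map k₀ ≫ c ≫ h := by
          rw [s2]
      _ = ((yon S).map iK ≫ (yon S).map (ptMap sT ξ (ι₃.comp ξ) ι₃ rfl) ≫ (yon S).map k₀) ≫ c ≫ h := by
          simp only [Category.assoc]
      _ = ((yon S).map kK ≫ (yon S).map topW) ≫ c ≫ h := by rw [s3]
      _ = (yon S).map kK ≫ ((yon S).map topW ≫ c) ≫ h := by simp only [Category.assoc]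
      _ = (yon S).map kK ≫ ((yon S).map (domK e₁) ≫ t) ≫ h := by rw [s4]
      _ = (yon S).map (kK ≫ domK e₁) ≫ t ≫ h := by simp only [Functor.map_comp, Category.assoc]
      _ = (yon S).map (domK e₃) ≫ sq.top := by rw [hKK, ht]
  · calc ((yon S).map iA ≫ lP ≫ pullback.fst f d) ≫ f
        = (yon S).map iA ≫ lP ≫ pullback.fst f d ≫ f := by simp only [Category.assoc]
      _ = (yon S).map iA ≫ lP ≫ g ≫ d := by rw [pullback.condition]
      _ = (yon S).map iA ≫ (lP ≫ g) ≫ d := by simp only [Category.assoc]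
      _ = (yon S).map iA ≫ (yon S).map (ptHom sT η₃) ≫ d := by rw [hlP2]
      _ = (yon S).map (iA ≫ ptHom sT η₃) ≫ d := by rw [Functor.map_comp, Category.assoc]
      _ = (yon S).map (kA ≫ botV) ≫ d := by rw [hAB]
      _ = (yon S).map kA ≫ (yon S).map botV ≫ d := by rw [Functor.map_comp, Category.assoc]
      _ = (yon S).map kA ≫ (yon S).map (domJA e₁) ≫ sq.bot := by rw [hbot]
      _ = (yon S).map (domJA e₃) ≫ sq.bot := by rw [← Category.assoc, ← Functor.map_comp, hAA]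

end Groth.Agent.Lib.H69DvrVC
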