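import Groth.Agent.Lib.H69ElemNbhdRes
import Groth.Agent.Lib.AlgSpElemNbhd91
import Groth.Agent.Lib.BranchesNbhd96
import Groth.Agent.Lib.HenselizationConstr
import Groth.Agent.Lib.HenselizationFlat
import Groth.Agent.S9237
import Groth.Agent.S9752

/-!
# helper69: branches at a point of a decent algebraic space via elementary etale neighbourhoods (S10441, S10442)

For elementary etale neighbourhoods `(U, u)` of `(X, x)`:
* `numBranchesAt_eq`: the number of branches of `U` at `u` does not depend on the neighbourhood;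
* `comps_le_minimalPrimes`, `minimalPrimes_le_numBranchesAt`: `#components through u ≤ #minimal primes of O_{U,u} ≤ #branches`;
* `exists_elem_nbhd_comps_ge`: every finite number `≤ #branches` is attained by the number of components in some neighbourhood.
-/

set_option autoImplicit false
universe u

open AlgebraicGeometry CategoryTheory Opposite IsLocalRing

namespace Groth.Agent.Lib.H69ElemNbhdBranch

open AlgSp Groth.Agent.Lib.AlgSpElemNbhd91

/-- the number of irreducible components through a point -/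
noncomputable abbrev comps (U : Scheme.{u}) (u : U) : ℕ∞ :=
  {Z : Set ↥U | Z ∈ irreducibleComponents ↥U ∧ u ∈ Z}.encard

section Scheme

theorem comps_le_minimalPrimes (U : Scheme.{u}) (u : U) :
    comps U u ≤ (minimalPrimes ↥(U.presheaf.stalk u)).encard := by
  obtain ⟨_, ⟨V, hV, rfl⟩, huV, -⟩ := (U.isBasis_affineOpens).exists_subset_of_mem_open
    (Set.mem_univ u) isOpen_univ
  let _ : Algebra Γ(U, V) (U.presheaf.stalk u) := U.presheaf.algebra_section_stalk ⟨u, huV⟩
  haveI := hV.isLocalization_stalk ⟨u, huV⟩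
  refine Groth.Agent.Lib.BranchesNbhd96.encard_le_of_flat u V hV huV (U.presheaf.stalk u)
    (algebraMap Γ(U, V) (U.presheaf.stalk u)) ?_ ?_
  · change Module.Flat Γ(U, V) (U.presheaf.stalk u)
    exact IsLocalization.flat _ (hV.primeIdealOf ⟨u, huV⟩).asIdeal.primeCompl
  · exact IsLocalization.AtPrime.comap_maximalIdeal _ _

theorem minimalPrimes_le_numBranchesAt (U : Scheme.{u}) (u : U) :
    (minimalPrimes ↥(U.presheaf.stalk u)).encard ≤ Brnch.numBranchesAt U u := by
  have hcard : ENat.card (minimalPrimes (Groth.Agent.Lib.HenselizationConstr.Hzn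
      (U.presheaf.stalk u))) = Brnch.numBranches (U.presheaf.stalk u) :=
    Groth.Agent.S9237.result (U.presheaf.stalk u) _
  change _ ≤ Brnch.numBranches (U.presheaf.stalk u)
  rw [← hcard]
  change _ ≤ (minimalPrimes (Groth.Agent.Lib.HenselizationConstr.Hzn (U.presheaf.stalk u))).encard
  have hff := Groth.Agent.Lib.HenselizationFlat.faithfullyFlat_Hzn (U.presheaf.stalk u)
  have hinj : Function.Injective (algebraMap (U.presheaf.stalk u)
      (Groth.Agent.Lib.HenselizationConstr.Hzn (U.presheaf.stalk u))) :=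
    FaithfulSMul.algebraMap_injective _ _
  have h1 := Ideal.minimalPrimes_comap_subset (algebraMap (U.presheaf.stalk u)
      (Groth.Agent.Lib.HenselizationConstr.Hzn (U.presheaf.stalk u)))
    (⊥ : Ideal (Groth.Agent.Lib.HenselizationConstr.Hzn (U.presheaf.stalk u)))
  rw [Ideal.comap_bot_of_injective _ hinj] at h1
  exact (Set.encard_le_encard h1).trans (Set.encard_image_le _ _)

theorem comps_le_numBranchesAt (U : Scheme.{u}) (u : U) : comps U u ≤ Brnch.numBranchesAt U u :=
  (comps_le_minimalPrimes U u).trans (minimalPrimes_le_numBranchesAt U u)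

/-- etale with trivial residue field extension: same number of branches -/
theorem numBranchesAt_eq_of_etale {X Y : Scheme.{u}} (g : X ⟶ Y) [Etale g] (x : X)
    (hres : Function.Surjective (g.residueFieldMap x)) :
    Brnch.numBranchesAt X x = Brnch.numBranchesAt Y (g x) := by
  have h1 : ENat.card (minimalPrimes (Groth.Agent.Lib.HenselizationConstr.Hzn
      (X.presheaf.stalk x))) = Brnch.numBranches (X.presheaf.stalk x) :=
    Groth.Agent.S9237.result (X.presheaf.stalk x) _
  let _ : Algebra (Y.presheaf.stalk (g x)) (Groth.Agent.Lib.HenselizationConstr.Hzn (X.presheaf.stalk x)) :=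
    ((algebraMap (X.presheaf.stalk x) (Groth.Agent.Lib.HenselizationConstr.Hzn
      (X.presheaf.stalk x))).comp (g.stalkMap x).hom).toAlgebra
  obtain ⟨hloc, hh⟩ := Groth.Agent.Lib.H69HensNbhdSch.isHenselization_of_etale g x hres
    (Groth.Agent.Lib.HenselizationConstr.Hzn (X.presheaf.stalk x))
  have h2 : ENat.card (minimalPrimes (Groth.Agent.Lib.HenselizationConstr.Hzn
      (X.presheaf.stalk x))) = Brnch.numBranches (Y.presheaf.stalk (g x)) :=
    Groth.Agent.S9237.result (Y.presheaf.stalk (g x)) _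
  exact h1.symm.trans h2

end Scheme

variable {S : Scheme.{u}} {X : Sp S} {x : Points X}

theorem numBranchesAt_eq_of_hom {U U' : Over S} (a : (yon S).obj U ⟶ X) (a' : (yon S).obj U' ⟶ X)
    (g : U' ⟶ U) (u' : ↥U'.left) (hg : (yon S).map g ≫ a = a') (ha : RepWith @Etale a)
    (ha' : IsElemEtaleNbhd a' u' x) :
    Brnch.numBranchesAt U'.left u' = Brnch.numBranchesAt U.left (g.left u') := by
  haveI : Etale g.left :=
    Groth.Agent.Lib.H72AlgSpEtale.etale_of_comp_repWith a' a ha'.etale ha g hg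
  exact numBranchesAt_eq_of_etale g.left u'
    (Groth.Agent.Lib.H69ElemNbhdRes.residueFieldMap_surjective a a' g u' hg ha'.mono)

theorem numBranchesAt_eq (hA : IsAlgSpace X) {U₁ U₂ : Over S} (a₁ : (yon S).obj U₁ ⟶ X)
    (a₂ : (yon S).obj U₂ ⟶ X) (u₁ : ↥U₁.left) (u₂ : ↥U₂.left) (h₁ : IsElemEtaleNbhd a₁ u₁ x)
    (h₂ : IsElemEtaleNbhd a₂ u₂ x) :
    Brnch.numBranchesAt U₁.left u₁ = Brnch.numBranchesAt U₂.left u₂ := by
  obtain ⟨U, a, v, k₁, k₂, h, e₁, e₂, hv₁, hv₂⟩ :=
    exists_elem_nbhd_dominating hA x U₁ U₂ a₁ a₂ u₁ u₂ h₁ h₂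
  have t₁ := numBranchesAt_eq_of_hom a₁ a k₁ v e₁ h₁.etale h
  have t₂ := numBranchesAt_eq_of_hom a₂ a k₂ v e₂ h₂.etale h
  rw [hv₁] at t₁
  rw [hv₂] at t₂
  exact t₁.symm.trans t₂

/-- An elementary etale neighbourhood (scheme sense) of an elementary etale neighbourhood is an elementary etale neighbourhood. -/
theorem isElemEtaleNbhd_comp {U₀ : Over S} (a₀ : (yon S).obj U₀ ⟶ X) (u₀ : ↥U₀.left)
    (h₀ : IsElemEtaleNbhd a₀ u₀ x) {U : Scheme.{u}} (g : U ⟶ U₀.left) (u : U)
    (hg : Hens2.IsEtaleNbhd g u u₀) :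
    IsElemEtaleNbhd (U := Over.mk (g ≫ U₀.hom))
      ((yon S).map (Over.homMk g rfl : Over.mk (g ≫ U₀.hom) ⟶ U₀) ≫ a₀) u x := by
  have hgu : g u = u₀ := hg.base_eq
  subst hgu
  haveI := hg.etale
  let gO : Over.mk (g ≫ U₀.hom) ⟶ U₀ := Over.homMk g rfl
  have hE : RepWith @Etale ((yon S).map gO ≫ a₀) :=
    MorphismProperty.comp_mem _ _ _ ((repWith_yon_map_iff _ _).2 hg.etale) h₀.etale
  refine ⟨hE, ?_, ?_⟩
  · rw [Groth.Agent.Lib.AlgSpPoints.ofPt_yon_map_comp]
    exact h₀.ofPt_eq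
  · -- the residue field map is an isomorphism, and the field point factors through it
    have hw : Spec.map (g.residueFieldMap u) ≫ U₀.left.fromSpecResidueField (g u) ≫ U₀.hom =
        U.fromSpecResidueField u ≫ g ≫ U₀.hom := by
      rw [← Category.assoc, Scheme.Hom.SpecMap_residueFieldMap_fromSpecResidueField, Category.assoc]
    let m : (FieldPt.ofPt ((yon S).map gO ≫ a₀) u).pt ⟶ (FieldPt.ofPt a₀ (g u)).pt :=
      Over.homMk (Spec.map (g.residueFieldMap u)) hw
    have e1 : m ≫ (Over.homMk (U₀.left.fromSpecResidueField (g u)) rfl :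
          (FieldPt.ofPt a₀ (g u)).pt ⟶ U₀) =
        (Over.homMk (U.fromSpecResidueField u) rfl :
          (FieldPt.ofPt ((yon S).map gO ≫ a₀) u).pt ⟶ Over.mk (g ≫ U₀.hom)) ≫ gO := by
      apply Over.OverMorphism.ext
      exact Scheme.Hom.SpecMap_residueFieldMap_fromSpecResidueField g u
    have e2 : (yon S).map m ≫ (FieldPt.ofPt a₀ (g u)).toHom =
        (FieldPt.ofPt ((yon S).map gO ≫ a₀) u).toHom := by
      rw [FieldPt.toHom_ofPt, FieldPt.toHom_ofPt, ← Category.assoc, ← (yon S).map_comp, e1,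
        (yon S).map_comp, Category.assoc]
      rfl
    have i1 : IsIso (g.residueFieldMap u) :=
      (ConcreteCategory.isIso_iff_bijective _).2 hg.residue_bijective
    have i2 : IsIso ((Over.forget S).map m) :=
      inferInstanceAs (IsIso (Spec.map (g.residueFieldMap u)))
    have i3 : IsIso m := isIso_of_reflects_iso m (Over.forget S)
    have i4 := h₀.mono
    rw [← e2]
    infer_instance

/-- every finite number at most the number of branches is attained by the number of components through the point in some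
elementary etale neighbourhood -/
theorem exists_elem_nbhd_comps_ge {U₀ : Over S} (a₀ : (yon S).obj U₀ ⟶ X) (u₀ : ↥U₀.left)
    (h₀ : IsElemEtaleNbhd a₀ u₀ x) (k : ℕ) (hk : (k : ℕ∞) ≤ Brnch.numBranchesAt U₀.left u₀) :
    ∃ (U : Over S) (a : (yon S).obj U ⟶ X) (u : ↥U.left), IsElemEtaleNbhd a u x ∧
      (k : ℕ∞) ≤ comps U.left u := by
  rcases Nat.eq_zero_or_pos k with rfl | hpos
  · exact ⟨U₀, a₀, u₀, h₀, by simp⟩
  have hlt : ((k - 1 : ℕ) : ℕ∞) < Brnch.numBranchesAt U₀.left u₀ := by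
    refine lt_of_lt_of_le ?_ hk
    rw [Nat.cast_lt]
    omega
  rw [Groth.Agent.S9752.result U₀.left u₀] at hlt
  obtain ⟨U, hlt⟩ := lt_iSup_iff.1 hlt
  obtain ⟨g, hlt⟩ := lt_iSup_iff.1 hlt
  obtain ⟨u, hlt⟩ := lt_iSup_iff.1 hlt
  obtain ⟨hg, hlt⟩ := lt_iSup_iff.1 hlt
  refine ⟨Over.mk (g ≫ U₀.hom), _, u, isElemEtaleNbhd_comp a₀ u₀ h₀ g u hg, ?_⟩
  have h1 := Order.add_one_le_of_lt hlt
  have h2 : ((k - 1 : ℕ) : ℕ∞) + 1 = (k : ℕ∞) := by
    have h3 : k - 1 + 1 = k := by omega
    exact_mod_cast congrArg (fun n : ℕ => (n : ℕ∞)) h3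
  rw [h2] at h1
  exact h1

end Groth.Agent.Lib.H69ElemNbhdBranch

namespace Groth.Agent.Lib.H69ElemNbhdBranch

open AlgSp

theorem one_le_comps (U : Scheme.{u}) (u : U) : 1 ≤ comps U u := by
  rw [Set.one_le_encard_iff_nonempty]
  exact ⟨irreducibleComponent u, irreducibleComponent_mem_irreducibleComponents u, mem_irreducibleComponent⟩

theorem hasUniqueMinimalPrime_iff_encard (A : Type u) [CommRing A] :
    CAlgX.HasUniqueMinimalPrime A ↔ (minimalPrimes A).encard = 1 := by
  rw [Set.encard_eq_one]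
  constructor
  · rintro ⟨P, hP, huniq⟩
    refine ⟨P, Set.eq_singleton_iff_unique_mem.2 ⟨hP, fun Q hQ => huniq Q hQ⟩⟩
  · rintro ⟨P, hP⟩
    have := Set.eq_singleton_iff_unique_mem.1 hP
    exact ⟨P, this.1, fun Q hQ => this.2 Q hQ⟩

variable {S : Scheme.{u}} {X : Sp S} {x : Points X}

/-- The three counts at elementary etale neighbourhoods against the common number of branches `N`. -/
theorem counts (hA : IsAlgSpace X) {U₀ : Over S} (a₀ : (yon S).obj U₀ ⟶ X) (u₀ : ↥U₀.left)
    (h₀ : IsElemEtaleNbhd a₀ u₀ x) (n : ℕ) :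
    (((∀ (U : Over S) (a : (yon S).obj U ⟶ X) (u : ↥U.left), IsElemEtaleNbhd a u x →
          (minimalPrimes ↥(U.left.presheaf.stalk u)).encard ≤ n) ∧
        (∃ (U : Over S) (a : (yon S).obj U ⟶ X) (u : ↥U.left), IsElemEtaleNbhd a u x ∧
          (minimalPrimes ↥(U.left.presheaf.stalk u)).encard = n)) ↔
      Brnch.numBranchesAt U₀.left u₀ = n) ∧
    (((∀ (U : Over S) (a : (yon S).obj U ⟶ X) (u : ↥U.left), IsElemEtaleNbhd a u x →
          comps U.left u ≤ n) ∧
        (∃ (U : Over S) (a : (yon S).obj U ⟶ X) (u : ↥U.left), IsElemEtaleNbhd a u x ∧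
          comps U.left u = n)) ↔
      Brnch.numBranchesAt U₀.left u₀ = n) ∧
    (((∀ (U : Over S) (a : (yon S).obj U ⟶ X) (u : ↥U.left), IsElemEtaleNbhd a u x →
          Brnch.numBranchesAt U.left u ≤ n) ∧
        (∃ (U : Over S) (a : (yon S).obj U ⟶ X) (u : ↥U.left), IsElemEtaleNbhd a u x ∧
          Brnch.numBranchesAt U.left u = n)) ↔
      Brnch.numBranchesAt U₀.left u₀ = n) := by
  have hN : ∀ (U : Over S) (a : (yon S).obj U ⟶ X) (u : ↥U.left), IsElemEtaleNbhd a u x →
      Brnch.numBranchesAt U.left u = Brnch.numBranchesAt U₀.left u₀ :=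
    fun U a u h => numBranchesAt_eq hA a a₀ u u₀ h h₀
  have hcm := fun (U : Over S) (u : ↥U.left) => comps_le_minimalPrimes U.left u
  have hmN : ∀ (U : Over S) (a : (yon S).obj U ⟶ X) (u : ↥U.left), IsElemEtaleNbhd a u x →
      (minimalPrimes ↥(U.left.presheaf.stalk u)).encard ≤ Brnch.numBranchesAt U₀.left u₀ :=
    fun U a u h => (minimalPrimes_le_numBranchesAt U.left u).trans_eq (hN U a u h)
  have hatt := exists_elem_nbhd_comps_ge a₀ u₀ h₀
  -- if `n < N` some neighbourhood has more than `n` components through the point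
  have hbig : (n : ℕ∞) < Brnch.numBranchesAt U₀.left u₀ →
      ∃ (U : Over S) (a : (yon S).obj U ⟶ X) (u : ↥U.left), IsElemEtaleNbhd a u x ∧
        ((n + 1 : ℕ) : ℕ∞) ≤ comps U.left u := by
    intro hlt
    apply hatt
    rw [Nat.cast_add, Nat.cast_one]
    exact Order.add_one_le_of_lt hlt
  have hnot : ∀ c : ℕ∞, ((n + 1 : ℕ) : ℕ∞) ≤ c → c ≤ n → False := by
    intro c h1 h2
    have := h1.trans h2
    rw [Nat.cast_le] at this
    omega
  refine ⟨⟨?_, ?_⟩, ⟨?_, ?_⟩, ⟨?_, ?_⟩⟩
  · rintro ⟨hle, U, a, u, h, hm⟩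
    apply le_antisymm
    · by_contra hlt
      rw [not_le] at hlt
      obtain ⟨U', a', u', h', hc⟩ := hbig hlt
      exact hnot _ (hc.trans (hcm U' u')) (hle U' a' u' h')
    · rw [← hm]
      exact hmN U a u h
  · intro hNn
    refine ⟨fun U a u h => (hmN U a u h).trans_eq hNn, ?_⟩
    obtain ⟨U, a, u, h, hc⟩ := hatt n (by rw [hNn])
    exact ⟨U, a, u, h, le_antisymm ((hmN U a u h).trans_eq hNn) (hc.trans (hcm U u))⟩
  · rintro ⟨hle, U, a, u, h, hc⟩
    apply le_antisymm
    · by_contra hlt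
      rw [not_le] at hlt
      obtain ⟨U', a', u', h', hc'⟩ := hbig hlt
      exact hnot _ hc' (hle U' a' u' h')
    · rw [← hc]
      exact (hcm U u).trans (hmN U a u h)
  · intro hNn
    refine ⟨fun U a u h => ((hcm U u).trans (hmN U a u h)).trans_eq hNn, ?_⟩
    obtain ⟨U, a, u, h, hc⟩ := hatt n (by rw [hNn])
    exact ⟨U, a, u, h, le_antisymm (((hcm U u).trans (hmN U a u h)).trans_eq hNn) hc⟩
  · rintro ⟨-, U, a, u, h, hb⟩
    rw [← hN U a u h]
    exact hb
  · intro hNn
    exact ⟨fun U a u h => ((hN U a u h).trans hNn).le, U₀, a₀, u₀, h₀, hNn⟩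

end Groth.Agent.Lib.H69ElemNbhdBranch
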