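import Groth.Agent.Lib.H69HensNbhdSch
import Groth.Agent.Lib.H72AlgSpEtale
import Groth.Prelude.Def_AlgSpDec
import Mathlib.Algebra.Category.Ring.Epi

/-!
# helper69: a morphism of elementary etale neighbourhoods induces an isomorphism of residue fields

If `a' = h_g ≫ a` with `a'` an elementary etale neighbourhood at `u'` (i.e. `Spec κ(u') ⟶ X` is a monomorphism), then
`κ(g u') → κ(u')` is surjective.
-/

set_option autoImplicit false
universe u

open AlgebraicGeometry CategoryTheory Opposite TensorProduct

namespace Groth.Agent.Lib.H69ElemNbhdRes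

open AlgSp

/-- A ring map between fields whose `Spec` is a monomorphism of schemes is surjective. -/
theorem surjective_of_mono_specMap {K L : Type u} [Field K] [Field L] (ψ : K →+* L)
    (hmono : Mono (Spec.map (CommRingCat.ofHom ψ))) : Function.Surjective ψ := by
  have hm : Mono (Scheme.Spec.map (CommRingCat.ofHom ψ).op) := hmono
  have hm' : Mono (CommRingCat.ofHom ψ).op := Scheme.Spec.mono_of_mono_map hm
  have he : Epi (CommRingCat.ofHom ψ) := unop_epi_of_mono (CommRingCat.ofHom ψ).op
  letI : Algebra K L := ψ.toAlgebra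
  have he' : Epi (CommRingCat.ofHom (algebraMap K L)) := he
  have hepi : Algebra.IsEpi K L := CommRingCat.epi_iff_epi.mp he'
  exact Groth.Agent.Lib.H69HensNbhd.surjective_of_forall_tmul_eq
    ((Algebra.isEpi_iff_forall_one_tmul_eq K L).1 hepi)

variable {S : Scheme.{u}}

theorem residueFieldMap_surjective {X : Sp S} {U U' : Over S} (a : (yon S).obj U ⟶ X)
    (a' : (yon S).obj U' ⟶ X) (g : U' ⟶ U) (u' : ↥U'.left) (hg : (yon S).map g ≫ a = a')
    (hmono : Mono (FieldPt.ofPt a' u').toHom) :
    Function.Surjective (g.left.residueFieldMap u').hom := by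
  have hw : Spec.map (g.left.residueFieldMap u') ≫ U.left.fromSpecResidueField (g.left u') ≫ U.hom =
      U'.left.fromSpecResidueField u' ≫ U'.hom := by
    rw [← Category.assoc, Scheme.Hom.SpecMap_residueFieldMap_fromSpecResidueField, Category.assoc, Over.w g]
  let m : (FieldPt.ofPt a' u').pt ⟶ (FieldPt.ofPt a (g.left u')).pt :=
    Over.homMk (Spec.map (g.left.residueFieldMap u')) hw
  have e1 : m ≫ (Over.homMk (U.left.fromSpecResidueField (g.left u')) rfl :
        (FieldPt.ofPt a (g.left u')).pt ⟶ U) =
      (Over.homMk (U'.left.fromSpecResidueField u') rfl : (FieldPt.ofPt a' u').pt ⟶ U') ≫ g := by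
    apply Over.OverMorphism.ext
    exact Scheme.Hom.SpecMap_residueFieldMap_fromSpecResidueField g.left u'
  have e2 : (yon S).map m ≫ (FieldPt.ofPt a (g.left u')).toHom = (FieldPt.ofPt a' u').toHom := by
    rw [FieldPt.toHom_ofPt, FieldPt.toHom_ofPt, ← Category.assoc, ← (yon S).map_comp, e1,
      (yon S).map_comp, Category.assoc, hg]
  have hm1 : Mono ((yon S).map m ≫ (FieldPt.ofPt a (g.left u')).toHom) := by
    rw [e2]; exact hmono
  have hm2 : Mono ((yon S).map m) := mono_of_mono _ (FieldPt.ofPt a (g.left u')).toHom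
  have hm3 : Mono m := (yon S).mono_of_mono_map hm2
  have hm4 : Mono m.left := inferInstance
  have hm5 : Mono (Spec.map (g.left.residueFieldMap u')) := hm4
  exact surjective_of_mono_specMap (g.left.residueFieldMap u').hom hm5

end Groth.Agent.Lib.H69ElemNbhdRes
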