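import Groth.Agent.Lib.H69EtRing
import Groth.Prelude.Def_ModSite

/-!
# helper69: the small etale site of an fppf sheaf with its structure sheaf is locally ringed (S10247)
-/

set_option autoImplicit false
universe u
open CategoryTheory CategoryTheory.Limits AlgebraicGeometry Opposite

namespace Groth.Agent.Lib.H69EtLocRinged

open AlgSp Groth.Agent.Lib.AlgSpAtPt Groth.Agent.Lib.H69EtRing

variable {S : Scheme.{u}}

theorem isUnit_of_basicOpen_eq_top {W : Scheme.{u}} (r : Γ(W, ⊤)) (h : W.basicOpen r = ⊤) : IsUnit r := by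
  apply RingedSpace.isUnit_of_isUnit_germ W.toRingedSpace ⊤ r
  intro x hx
  have hx' : x ∈ W.basicOpen r := by rw [h]; trivial
  exact (RingedSpace.mem_basicOpen _ r x hx).1 hx'

theorem isUnit_ι_appTop {V : Scheme.{u}} (f : Γ(V, ⊤)) : IsUnit ((V.basicOpen f).ι.appTop.hom f) := by
  apply isUnit_of_basicOpen_eq_top
  rw [← Scheme.preimage_basicOpen_top]
  exact (V.basicOpen f).ι_preimage_self

theorem mem_basicOpen_or {V : Scheme.{u}} (f : Γ(V, ⊤)) (x : V) :
    x ∈ V.basicOpen f ∨ x ∈ V.basicOpen (1 - f) := by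
  have h := IsLocalRing.isUnit_or_isUnit_one_sub_self ((V.presheaf.germ ⊤ x trivial).hom f)
  rcases h with h | h
  · exact Or.inl ((RingedSpace.mem_basicOpen _ f x (show x ∈ (⊤ : V.Opens) from trivial)).2 h)
  · refine Or.inr ((RingedSpace.mem_basicOpen _ (1 - f) x (show x ∈ (⊤ : V.Opens) from trivial)).2 ?_)
    rw [map_sub, map_one]
    exact h

theorem isEmpty_of_zero_eq_one {V : Scheme.{u}} (h : (0 : Γ(V, ⊤)) = 1) : IsEmpty V := by
  refine ⟨fun x => ?_⟩
  have := congrArg (V.presheaf.germ ⊤ x trivial).hom h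
  rw [map_zero, map_one] at this
  exact zero_ne_one this

set_option backward.isDefEq.respectTransparency false in
/-- S10247. -/
theorem isLocallyRinged (X : Sp S) : ModSite.IsLocallyRinged (etTop X) (OEt X) := by
  constructor
  · intro E f
    let V := E.obj.left.left
    let f₀ : Γ(V, ⊤) := ULift.down f
    let Of : Bool → V.Opens := fun b => cond b (V.basicOpen f₀) (V.basicOpen (1 - f₀))
    let Yf : Bool → EtOver X := fun b => openObj E (Of b)
    let g : ∀ b, Yf b ⟶ E := fun b => openHom E (Of b)
    refine ⟨Sieve.ofArrows Yf g, ofArrows_mem_etTop Yf g ?_, ?_⟩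
    · intro x
      rcases mem_basicOpen_or f₀ x with h | h
      · refine ⟨true, ?_⟩
        change x ∈ Set.range (Scheme.Opens.ι (Of true))
        rw [Scheme.Opens.range_ι]
        exact h
      · refine ⟨false, ?_⟩
        change x ∈ Set.range (Scheme.Opens.ι (Of false))
        rw [Scheme.Opens.range_ι]
        exact h
    · rintro W k ⟨W', h', _, ⟨b⟩, rfl⟩
      have hmap : ∀ r : (OEt X).obj.obj (op E), ((OEt X).obj.map (h' ≫ g b).op).hom r =
          ULift.up (h'.hom.left.left.appTop.hom ((Of b).ι.appTop.hom r.down)) := fun r => rfl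
      have hu : ∀ a : Γ(W.obj.left.left, ⊤), IsUnit a →
          IsUnit (ULift.up a : (OEt X).obj.obj (op W)) := fun a ha =>
        ha.map (ULift.ringEquiv.symm : Γ(W.obj.left.left, ⊤) ≃+* ULift Γ(W.obj.left.left, ⊤))
      cases b with
      | true =>
        left
        rw [hmap]
        exact hu _ ((isUnit_ι_appTop f₀).map _)
      | false =>
        right
        rw [hmap]
        exact hu _ ((isUnit_ι_appTop (1 - f₀)).map _)
  · intro E h
    have h0 : (0 : Γ(E.obj.left.left, ⊤)) = 1 := congrArg ULift.down h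
    have hempty := isEmpty_of_zero_eq_one h0
    have hc := ofArrows_mem_etTop (E := E) (ι := PEmpty.{1}) (fun e => e.elim) (fun e => e.elim)
      (fun x => (hempty.false x).elim)
    refine (etTop X).superset_covering ?_ hc
    rintro W k ⟨_, _, _, ⟨e⟩, _⟩
    exact e.elim

end Groth.Agent.Lib.H69EtLocRinged
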