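import Groth.Agent.Lib.H69EtStalkRing
import Groth.Agent.Lib.EtRootCover
import Groth.Agent.Lib.EtLocalRing

/-!
# helper69: the etale local ring of an algebraic space at a geometric point is a strictly henselian local ring (S10223)

Port of `Lib/EtLocalRing` (helper39, the scheme case) to the small etale site of an algebraic space, on top of the point
`H69EtPoint.point p hX hp` of the small etale site attached to a geometric point.
-/

set_option autoImplicit false
universe u
open CategoryTheory CategoryTheory.Limits AlgebraicGeometry Opposite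

namespace Groth.Agent.Lib.H69EtLocalRing

open AlgSp Groth.Agent.Lib.H69EtPoint Groth.Agent.Lib.H69EtStalk Groth.Agent.Lib.H69EtStalkCons
  Groth.Agent.Lib.H69EtStalkRing Groth.Agent.Lib.H69EtNbhd

variable {S : Scheme.{u}} {X : Sp S}

section Sub

variable (E : EtOver X) {V : Scheme.{u}} (f : V ⟶ E.obj.left.left) [Etale f]

/-- the scheme `V` over `S` through `E` -/
noncomputable abbrev subOver : Over S := Over.mk (f ≫ E.obj.left.hom)

/-- the morphism `V ⟶ E` over `S` -/
noncomputable abbrev subOverHom : subOver E f ⟶ E.obj.left := Over.homMk f rfl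

/-- The object of the small etale site given by a scheme etale over an object of the site. -/
noncomputable def sub : EtOver X :=
  EtOver.mk ((yon S).map (subOverHom E f) ≫ E.obj.hom)
    ((repWith_isMultiplicative (S := S) @Etale).comp_mem _ _
      ((repWith_yon_map_iff _ _).2 (show Etale (subOverHom E f).left from ‹Etale f›)) E.property)

/-- the morphism of the small etale site `sub E f ⟶ E` -/
noncomputable def subHom : sub E f ⟶ E := EtOver.homMk (subOverHom E f) rfl

theorem subHom_left : (subHom E f).hom.left.left = f := rfl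

variable (p : FieldPt X)

/-- a lift of `p` to `sub E f` from a lift to `E` and a compatible morphism `Spec K ⟶ V` -/
noncomputable def subLift (l : (FieldPt.liftsTo p).obj E) (v : Spec (CommRingCat.of p.K) ⟶ V)
    (hv : v ≫ f = l.1.left) : (FieldPt.liftsTo p).obj (sub E f) :=
  ⟨Over.homMk v (by
      change v ≫ f ≫ E.obj.left.hom = p.str
      rw [← Category.assoc, hv]
      exact Over.w l.1), by
    have h : (Over.homMk v (by
        change v ≫ f ≫ E.obj.left.hom = p.str
        rw [← Category.assoc, hv]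
        exact Over.w l.1) : p.pt ⟶ subOver E f) ≫ subOverHom E f = l.1 := Over.OverMorphism.ext hv
    change (yon S).map _ ≫ (yon S).map (subOverHom E f) ≫ E.obj.hom = p.toHom
    rw [← Category.assoc, ← Functor.map_comp]
    exact (congrArg (fun t => (yon S).map t ≫ E.obj.hom) h).trans l.2⟩

theorem subLift_left (l : (FieldPt.liftsTo p).obj E) (v : Spec (CommRingCat.of p.K) ⟶ V)
    (hv : v ≫ f = l.1.left) : (subLift E f p l v hv).1.left = v := rfl

theorem map_subHom_subLift (l : (FieldPt.liftsTo p).obj E) (v : Spec (CommRingCat.of p.K) ⟶ V)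
    (hv : v ≫ f = l.1.left) : (FieldPt.liftsTo p).map (subHom E f) (subLift E f p l v hv) = l :=
  Subtype.ext (Over.OverMorphism.ext hv)

end Sub

variable (p : FieldPt X) (hX : IsAlgSpace X) (hp : p.IsGeometric)

/-- germs of functions -/
noncomputable def germR {E : EtOver X} (l : (FieldPt.liftsTo p).obj E) :
    Γ(E.obj.left.left, ⊤) →+* ↥(OEtStalk p) :=
  (stalkEtι p (OEt X) ⟨E, l⟩).hom.comp (ULift.ringEquiv.symm : Γ(E.obj.left.left, ⊤) ≃+* ULift.{u + 1} Γ(E.obj.left.left, ⊤)).toRingHom

include hX hp in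
theorem germR_jointly_surjective (a : ↥(OEtStalk p)) :
    ∃ (E : EtOver X) (l : (FieldPt.liftsTo p).obj E) (s : Γ(E.obj.left.left, ⊤)), germR p l s = a := by
  have := hasColimits_ring.{u}
  have := pfc_ring.{u}
  obtain ⟨E, l, s, hs⟩ := (point p hX hp).toPresheafFiber_jointly_surjective (P := (OEt X).obj) a
  exact ⟨E, l, s.down, hs⟩

include hX hp in
theorem germR_res {E E' : EtOver X} (g : E' ⟶ E) (l : (FieldPt.liftsTo p).obj E') (s : Γ(E.obj.left.left, ⊤)) :
    germR p l (g.hom.left.left.appTop.hom s) = germR p ((FieldPt.liftsTo p).map g l) s := by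
  have := hasColimits_ring.{u}
  exact (point p hX hp).toPresheafFiber_w_apply g l (OEt X).obj (ULift.up s)

/-- the value of a function at the geometric point -/
noncomputable def valAt {E : EtOver X} (l : (FieldPt.liftsTo p).obj E) : Γ(E.obj.left.left, ⊤) →+* p.K :=
  (Scheme.ΓSpecIso (CommRingCat.of p.K)).hom.hom.comp l.1.left.appTop.hom

theorem valAt_res {E E' : EtOver X} (g : E' ⟶ E) (l : (FieldPt.liftsTo p).obj E') (s : Γ(E.obj.left.left, ⊤)) :
    valAt p l (g.hom.left.left.appTop.hom s) = valAt p ((FieldPt.liftsTo p).map g l) s := by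
  have h : ((FieldPt.liftsTo p).map g l).1.left = l.1.left ≫ g.hom.left.left := rfl
  unfold valAt
  rw [h, Scheme.Hom.comp_appTop]
  rfl

/-- the components of the evaluation map -/
noncomputable def evComp {E : EtOver X} (l : (FieldPt.liftsTo p).obj E) :
    (OEt X).obj.obj (op E) ⟶ CommRingCat.of (ULift.{u + 1} p.K) :=
  CommRingCat.ofHom (((ULift.ringEquiv.symm : p.K ≃+* ULift.{u + 1} p.K).toRingHom.comp (valAt p l)).comp
    (ULift.ringEquiv : ULift.{u + 1} Γ(E.obj.left.left, ⊤) ≃+* Γ(E.obj.left.left, ⊤)).toRingHom)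

theorem evComp_w {E E' : EtOver X} (g : E' ⟶ E) (l : (FieldPt.liftsTo p).obj E') :
    (OEt X).obj.map g.op ≫ evComp p l = evComp p ((FieldPt.liftsTo p).map g l) := by
  apply CommRingCat.hom_ext
  apply RingHom.ext
  intro s
  exact congrArg ULift.up (valAt_res p g l s.down)

/-- evaluation at the geometric point -/
noncomputable def ev : OEtStalk p ⟶ CommRingCat.of (ULift.{u + 1} p.K) :=
  haveI := hasColimits_ring.{u}
  (point p hX hp).presheafFiberDesc (P := (OEt X).obj) (fun E l => evComp p l) (fun E E' g l => evComp_w p g l)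

/-- evaluation at the geometric point, as a ring homomorphism to the field -/
noncomputable def evR : ↥(OEtStalk p) →+* p.K :=
  (ULift.ringEquiv : ULift.{u + 1} p.K ≃+* p.K).toRingHom.comp (ev p hX hp).hom

theorem evR_germR {E : EtOver X} (l : (FieldPt.liftsTo p).obj E) (s : Γ(E.obj.left.left, ⊤)) :
    evR p hX hp (germR p l s) = valAt p l s := by
  have := hasColimits_ring.{u}
  have h := (point p hX hp).toPresheafFiber_presheafFiberDesc (P := (OEt X).obj) (fun E l => evComp p l)
    (fun E E' g l => evComp_w p g l) E l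
  have h2 := congrArg (fun k => (k.hom (ULift.up s)).down) h
  exact h2

/-- the point of `E` under a lift -/
noncomputable def lpt {E : EtOver X} (l : (FieldPt.liftsTo p).obj E) : ↥E.obj.left.left :=
  l.1.left (default : Spec (CommRingCat.of p.K))

theorem range_lift {E : EtOver X} (l : (FieldPt.liftsTo p).obj E) : Set.range l.1.left = {lpt p l} :=
  Groth.Agent.Lib.EtGerm.range_eq_singleton (ξ := l.1.left)

/-- etale neighbourhoods can be shrunk to open subsets containing the point -/
theorem exists_lift_open {E : EtOver X} (l : (FieldPt.liftsTo p).obj E) (W : E.obj.left.left.Opens)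
    (h : lpt p l ∈ W) : ∃ z : (FieldPt.liftsTo p).obj (sub E W.ι), (FieldPt.liftsTo p).map (subHom E W.ι) z = l := by
  have hrange : Set.range l.1.left ⊆ Set.range W.ι := by
    rw [range_lift]
    rintro _ rfl
    rw [Scheme.Opens.range_ι]
    exact h
  exact ⟨subLift E W.ι p l (IsOpenImmersion.lift W.ι l.1.left hrange) (IsOpenImmersion.lift_fac _ _ _),
    map_subHom_subLift E W.ι p l _ _⟩

theorem pt_mem_basicOpen {E : EtOver X} (l : (FieldPt.liftsTo p).obj E) (s : Γ(E.obj.left.left, ⊤))
    (h : valAt p l s ≠ 0) : lpt p l ∈ E.obj.left.left.basicOpen s := by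
  have h1 : IsUnit (l.1.left.appTop.hom s) := by
    have h2 : IsUnit (valAt p l s) := h.isUnit
    have h3 := h2.map (Scheme.ΓSpecIso (CommRingCat.of p.K)).inv.hom
    have h4 : (Scheme.ΓSpecIso (CommRingCat.of p.K)).inv.hom (valAt p l s) = l.1.left.appTop.hom s := by
      unfold valAt
      exact congrArg (fun k => k.hom (l.1.left.appTop.hom s))
        (Scheme.ΓSpecIso (CommRingCat.of p.K)).hom_inv_id
    rwa [h4] at h3
  have h5 : l.1.left ⁻¹ᵁ (E.obj.left.left.basicOpen s) = ⊤ := by
    rw [Scheme.preimage_basicOpen]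
    exact Scheme.basicOpen_of_isUnit _ h1
  have h6 : (default : Spec (CommRingCat.of p.K)) ∈ l.1.left ⁻¹ᵁ (E.obj.left.left.basicOpen s) := by
    rw [h5]
    trivial
  exact h6

include hX hp in
/-- functions not vanishing at the geometric point have invertible germs -/
theorem isUnit_germR_of_valAt_ne_zero {E : EtOver X} (l : (FieldPt.liftsTo p).obj E) (s : Γ(E.obj.left.left, ⊤))
    (h : valAt p l s ≠ 0) : IsUnit (germR p l s) := by
  obtain ⟨z, hz⟩ := exists_lift_open p l (E.obj.left.left.basicOpen s) (pt_mem_basicOpen p l s h)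
  rw [← hz, ← germR_res p hX hp]
  exact (Groth.Agent.Lib.EtLocalRing.isUnit_ι_appTop_basicOpen s).map (germR p z)

theorem isUnit_iff_evR_ne_zero (a : ↥(OEtStalk p)) : IsUnit a ↔ evR p hX hp a ≠ 0 := by
  constructor
  · intro h
    exact (h.map (evR p hX hp)).ne_zero
  · intro h
    obtain ⟨E, l, s, rfl⟩ := germR_jointly_surjective p hX hp a
    rw [evR_germR] at h
    exact isUnit_germR_of_valAt_ne_zero p hX hp l s h

include hX hp in
theorem nontrivial : Nontrivial ↥(OEtStalk p) := by
  refine ⟨⟨0, 1, fun h => ?_⟩⟩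
  have := congrArg (evR p hX hp) h
  rw [map_zero, map_one] at this
  exact zero_ne_one this

include hX hp in
theorem isLocalRing : IsLocalRing ↥(OEtStalk p) := by
  have := nontrivial p hX hp
  apply IsLocalRing.of_nonunits_add
  intro a b ha hb
  rw [mem_nonunits_iff, isUnit_iff_evR_ne_zero p hX hp, not_not] at ha hb ⊢
  rw [map_add, ha, hb, add_zero]

theorem mem_maximalIdeal_iff (hloc : IsLocalRing ↥(OEtStalk p)) (a : ↥(OEtStalk p)) :
    a ∈ IsLocalRing.maximalIdeal ↥(OEtStalk p) ↔ evR p hX hp a = 0 := by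
  rw [IsLocalRing.mem_maximalIdeal, mem_nonunits_iff, isUnit_iff_evR_ne_zero p hX hp, not_not]

include hX hp in
/-- two lifts are dominated by a common one -/
theorem exists_common_lift {E₁ E₂ : EtOver X} (l₁ : (FieldPt.liftsTo p).obj E₁) (l₂ : (FieldPt.liftsTo p).obj E₂) :
    ∃ (V : EtOver X) (g₁ : V ⟶ E₁) (g₂ : V ⟶ E₂) (z : (FieldPt.liftsTo p).obj V),
      (FieldPt.liftsTo p).map g₁ z = l₁ ∧ (FieldPt.liftsTo p).map g₂ z = l₂ :=
  ⟨EtOver.prodObj E₁ E₂, EtOver.prodFst E₁ E₂, EtOver.prodSnd E₁ E₂, prodLift p l₁ l₂,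
    map_prodFst_prodLift p l₁ l₂, map_prodSnd_prodLift p l₁ l₂⟩

include hX hp in
/-- finitely many elements of the etale local ring come from a common neighbourhood -/
theorem exists_lift_fin (n : ℕ) (c : Fin n → ↥(OEtStalk p)) :
    ∃ (E : EtOver X) (l : (FieldPt.liftsTo p).obj E) (s : Fin n → Γ(E.obj.left.left, ⊤)),
      ∀ i, germR p l (s i) = c i := by
  induction n with
  | zero =>
    obtain ⟨E, l, s, -⟩ := germR_jointly_surjective p hX hp 0
    exact ⟨E, l, Fin.elim0, fun i => i.elim0⟩
  | succ n ih =>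
    obtain ⟨E₁, l₁, s₁, h₁⟩ := ih (fun i => c i.succ)
    obtain ⟨E₂, l₂, t, ht⟩ := germR_jointly_surjective p hX hp (c 0)
    obtain ⟨V, g₁, g₂, z, hz₁, hz₂⟩ := exists_common_lift p hX hp l₁ l₂
    refine ⟨V, z, Fin.cons (g₂.hom.left.left.appTop.hom t) (fun i => g₁.hom.left.left.appTop.hom (s₁ i)), ?_⟩
    intro i
    refine Fin.cases ?_ (fun j => ?_) i
    · rw [Fin.cons_zero, germR_res p hX hp, hz₂, ht]
    · rw [Fin.cons_succ, germR_res p hX hp, hz₁, h₁]

open Polynomial in
include hX hp in
/-- monic polynomials over the etale local ring come from monic polynomials over a neighbourhood -/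
theorem exists_lift_monic (f : (↥(OEtStalk p))[X]) (hf : f.Monic) :
    ∃ (E : EtOver X) (l : (FieldPt.liftsTo p).obj E) (F : Γ(E.obj.left.left, ⊤)[X]),
      F.Monic ∧ F.map (germR p l) = f := by
  obtain ⟨E, l, s, hs⟩ := exists_lift_fin p hX hp f.natDegree (fun i => f.coeff i)
  refine ⟨E, l, Polynomial.X ^ f.natDegree +
    ∑ i : Fin f.natDegree, Polynomial.C (s i) * Polynomial.X ^ (i : ℕ), ?_, ?_⟩
  · exact Polynomial.monic_X_pow_add (Polynomial.degree_sum_fin_lt _)
  · rw [Polynomial.map_add, Polynomial.map_pow, Polynomial.map_X, Polynomial.map_sum]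
    simp only [Polynomial.map_mul, Polynomial.map_C, Polynomial.map_pow, Polynomial.map_X, hs]
    conv_rhs => rw [hf.as_sum]
    rw [Fin.sum_univ_eq_sum_range (fun i => Polynomial.C (f.coeff i) * Polynomial.X ^ i)]

theorem evR_comp_germR {E : EtOver X} (l : (FieldPt.liftsTo p).obj E) :
    (evR p hX hp).comp (germR p l) = valAt p l :=
  RingHom.ext (fun s => evR_germR p hX hp l s)

section lifting

open Groth.Agent.Lib.EtRootCover Groth.Agent.Lib.EtLocalRing

variable {E : EtOver X} (l : (FieldPt.liftsTo p).obj E) {R : CommRingCat.{u}} (ι : Spec R ⟶ E.obj.left.left)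
  [IsOpenImmersion ι] (y₀ : Spec (CommRingCat.of p.K) ⟶ Spec R) (hy₀ : y₀ ≫ ι = l.1.left)

/-- restriction of functions to the affine chart -/
noncomputable def rho' : Γ(E.obj.left.left, ⊤) →+* R :=
  (Scheme.ΓSpecIso R).hom.hom.comp ι.appTop.hom

omit [IsOpenImmersion ι] in
include hy₀ in
theorem valAt_eq : valAt p l = (Spec.preimage y₀).hom.comp (rho' ι) := by
  apply RingHom.ext
  intro s
  have h1 : l.1.left = Spec.map (Spec.preimage y₀) ≫ ι := by rw [Spec.map_preimage, hy₀]
  unfold valAt
  rw [h1, Scheme.Hom.comp_appTop]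
  exact ΓSpecIso_hom_appTop (Spec.preimage y₀) (ι.appTop.hom s)

/-- pullback of global functions along `Spec P.Ring → E` -/
theorem subHom_specMap_appTop (P : StandardEtalePair R) (s : Γ(E.obj.left.left, ⊤)) :
    (subHom E (specMap P ≫ ι)).hom.left.left.appTop.hom s =
      (Scheme.ΓSpecIso (CommRingCat.of P.Ring)).inv.hom
        (algebraMap R P.Ring ((Scheme.ΓSpecIso R).hom.hom (ι.appTop.hom s))) := by
  change (specMap P ≫ ι).appTop.hom s = _
  rw [Scheme.Hom.comp_appTop]
  have h := Scheme.ΓSpecIso_naturality (CommRingCat.ofHom (algebraMap R P.Ring))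
  have h2 := (Iso.eq_comp_inv _).2 h
  have h3 := congrArg (fun k : Γ(Spec R, ⊤) ⟶ Γ(Spec (CommRingCat.of P.Ring), ⊤) => k.hom (ι.appTop.hom s)) h2
  exact h3

include hy₀ in
/-- the key step: a simple root in `K` of a monic polynomial over a neighbourhood lifts to a root
over a smaller neighbourhood -/
theorem exists_root_nbhd (F : Polynomial Γ(E.obj.left.left, ⊤)) (hF : F.Monic) (ω : p.K)
    (h0 : F.eval₂ (valAt p l) ω = 0) (h1 : F.derivative.eval₂ (valAt p l) ω ≠ 0) :
    ∃ (W : EtOver X) (g : W ⟶ E) (z : (FieldPt.liftsTo p).obj W) (t : Γ(W.obj.left.left, ⊤)),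
      (FieldPt.liftsTo p).map g z = l ∧
      (F.map g.hom.left.left.appTop.hom).eval t = 0 ∧ valAt p z t = ω := by
  let ψ : R ⟶ CommRingCat.of p.K := Spec.preimage y₀
  have hψ : Spec.map ψ = y₀ := Spec.map_preimage y₀
  have hval : valAt p l = ψ.hom.comp (rho' ι) := valAt_eq p l ι y₀ hy₀
  let P : StandardEtalePair R :=
    ⟨F.map (rho' ι), hF.map (rho' ι), (F.map (rho' ι)).derivative, ⟨1, 0, 1, by simp⟩⟩
  let _ : Algebra R p.K := ψ.hom.toAlgebra
  have hω : P.HasMap ω := by
    constructor
    · show Polynomial.aeval ω (F.map (rho' ι)) = 0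
      rw [Polynomial.aeval_def, Polynomial.eval₂_map]
      have : (algebraMap R p.K).comp (rho' ι) = valAt p l := hval.symm
      rw [this]
      exact h0
    · show IsUnit (Polynomial.aeval ω (F.map (rho' ι)).derivative)
      rw [Polynomial.derivative_map, Polynomial.aeval_def, Polynomial.eval₂_map]
      have : (algebraMap R p.K).comp (rho' ι) = valAt p l := hval.symm
      rw [this]
      exact h1.isUnit
  let χ : P.Ring →ₐ[R] p.K := P.lift ω hω
  let zl : Spec (CommRingCat.of p.K) ⟶ Spec (CommRingCat.of P.Ring) :=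
    Spec.map (CommRingCat.ofHom χ.toRingHom)
  have hzl : zl ≫ specMap P = y₀ := by
    rw [← hψ, ← Spec.map_comp]
    congr 1
    apply CommRingCat.hom_ext
    apply RingHom.ext
    intro r
    exact χ.commutes r
  have hzl2 : zl ≫ (specMap P ≫ ι) = l.1.left := by
    rw [← Category.assoc, hzl, hy₀]
  refine ⟨sub E (specMap P ≫ ι), subHom E (specMap P ≫ ι), subLift E (specMap P ≫ ι) p l zl hzl2,
    (Scheme.ΓSpecIso (CommRingCat.of P.Ring)).inv.hom P.X, map_subHom_subLift _ _ _ _ _ _, ?_, ?_⟩
  · have hrc : (subHom E (specMap P ≫ ι)).hom.left.left.appTop.hom =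
        (Scheme.ΓSpecIso (CommRingCat.of P.Ring)).inv.hom.comp
          ((algebraMap R P.Ring).comp (rho' ι)) := by
      apply RingHom.ext
      intro s
      exact subHom_specMap_appTop ι P s
    have h2 : Polynomial.eval P.X (F.map ((algebraMap R P.Ring).comp (rho' ι))) = 0 := by
      have := P.hasMap_X.1
      rw [Polynomial.aeval_def, Polynomial.eval₂_eq_eval_map] at this
      rw [← Polynomial.map_map]
      exact this
    exact (congrArg (fun k => Polynomial.eval
      ((Scheme.ΓSpecIso (CommRingCat.of P.Ring)).inv.hom P.X) (F.map k)) hrc).trans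
      (eval_map_comp_eq_zero F _ _ P.X h2)
  · show (Scheme.ΓSpecIso (CommRingCat.of p.K)).hom.hom (zl.appTop.hom
      ((Scheme.ΓSpecIso (CommRingCat.of P.Ring)).inv.hom P.X)) = ω
    rw [ΓSpecIso_hom_appTop]
    have h3 : (Scheme.ΓSpecIso (CommRingCat.of P.Ring)).hom.hom
        ((Scheme.ΓSpecIso (CommRingCat.of P.Ring)).inv.hom P.X) = P.X :=
      congrArg (fun k => k.hom P.X) (Scheme.ΓSpecIso (CommRingCat.of P.Ring)).inv_hom_id
    rw [h3]
    exact P.lift_X ω hω

end lifting

open Groth.Agent.Lib.EtLocalRing in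
/-- the lifting property: simple roots in `K` of monic polynomials lift to the etale local ring -/
theorem exists_root_lift (f : Polynomial ↥(OEtStalk p)) (hf : f.Monic) (ω : p.K)
    (h0 : f.eval₂ (evR p hX hp) ω = 0) (h1 : f.derivative.eval₂ (evR p hX hp) ω ≠ 0) :
    ∃ a : ↥(OEtStalk p), f.eval a = 0 ∧ evR p hX hp a = ω := by
  obtain ⟨E, l, F, hF, rfl⟩ := exists_lift_monic p hX hp f hf
  obtain ⟨R, ι, hι, ⟨𝔭, h𝔭⟩, -⟩ := AlgebraicGeometry.Scheme.exists_affine_mem_range_and_range_subset
    (show lpt p l ∈ (⊤ : E.obj.left.left.Opens) from trivial)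
  have hrange : Set.range l.1.left ⊆ Set.range ι := by
    rw [range_lift]
    rintro _ rfl
    exact ⟨_, h𝔭⟩
  let y₀ := IsOpenImmersion.lift ι l.1.left hrange
  have hy₀ : y₀ ≫ ι = l.1.left := IsOpenImmersion.lift_fac _ _ _
  rw [Polynomial.eval₂_map, evR_comp_germR] at h0
  rw [Polynomial.derivative_map, Polynomial.eval₂_map, evR_comp_germR] at h1
  obtain ⟨W, g, z, t, hz, ht0, htω⟩ := exists_root_nbhd p l ι y₀ hy₀ F hF ω h0 h1
  refine ⟨germR p z t, ?_, ?_⟩
  · have hg : germR p l = (germR p z).comp g.hom.left.left.appTop.hom := by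
      apply RingHom.ext
      intro s
      rw [RingHom.comp_apply, germR_res p hX hp, hz]
    rw [hg]
    exact eval_map_comp_eq_zero F _ _ t ht0
  · rw [evR_germR, htω]

include hX hp in
theorem henselian : HenselianLocalRing ↥(OEtStalk p) where
  toIsLocalRing := isLocalRing p hX hp
  is_henselian f hf a₀ h₁ h₂ := by
    have hloc := isLocalRing p hX hp
    have h0 : f.eval₂ (evR p hX hp) (evR p hX hp a₀) = 0 := by
      rw [Polynomial.eval₂_hom]
      exact (mem_maximalIdeal_iff p hX hp hloc _).1 h₁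
    have h1' : f.derivative.eval₂ (evR p hX hp) (evR p hX hp a₀) ≠ 0 := by
      rw [Polynomial.eval₂_hom]
      exact (isUnit_iff_evR_ne_zero p hX hp _).1 h₂
    obtain ⟨a, ha, hav⟩ := exists_root_lift p hX hp f hf _ h0 h1'
    exact ⟨a, ha, (mem_maximalIdeal_iff p hX hp hloc _).2 (by rw [map_sub, hav, sub_self])⟩

include hX hp in
theorem isSepClosed_residueField (hloc : IsLocalRing ↥(OEtStalk p)) :
    IsSepClosed (IsLocalRing.ResidueField ↥(OEtStalk p)) := by
  haveI : IsAlgClosed p.K := hp
  haveI : IsLocalHom (evR p hX hp) := ⟨fun a ha => (isUnit_iff_evR_ne_zero p hX hp a).2 ha.ne_zero⟩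
  apply IsSepClosed.of_exists_root
  intro q hqm hqi hqs
  let ēv : IsLocalRing.ResidueField ↥(OEtStalk p) →+* p.K :=
    IsLocalRing.ResidueField.lift (evR p hX hp)
  obtain ⟨f, hfp, -, hfm⟩ := Polynomial.lifts_and_degree_eq_and_monic
    (Polynomial.mem_lifts_of_surjective (IsLocalRing.residue_surjective) q) hqm
  have hsep : (q.map ēv).Separable := hqs.map
  have hdeg : (q.map ēv).degree ≠ 0 := by
    rw [Polynomial.degree_map]
    exact (Polynomial.degree_pos_of_irreducible hqi).ne'
  obtain ⟨ω, hω⟩ := IsSepClosed.exists_root _ hdeg hsep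
  have hcomp : ēv.comp (IsLocalRing.residue ↥(OEtStalk p)) = evR p hX hp :=
    IsLocalRing.ResidueField.lift_comp_residue _
  have h0 : f.eval₂ (evR p hX hp) ω = 0 := by
    rw [← hcomp, ← Polynomial.eval₂_map, hfp, Polynomial.eval₂_eq_eval_map]
    exact hω
  have h1 : f.derivative.eval₂ (evR p hX hp) ω ≠ 0 := by
    rw [← hcomp, ← Polynomial.eval₂_map, ← Polynomial.derivative_map, hfp]
    apply hqs.eval₂_derivative_ne_zero
    rw [Polynomial.eval₂_eq_eval_map]
    exact hω
  obtain ⟨a, ha, -⟩ := exists_root_lift p hX hp f hfm ω h0 h1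
  refine ⟨IsLocalRing.residue _ a, ?_⟩
  rw [← hfp, Polynomial.eval_map_apply, ha, map_zero]

include hX hp in
/-- the etale local ring of an algebraic space at a geometric point is strictly henselian -/
theorem isStrictlyHenselian : EtCoh.IsStrictlyHenselianLocalRing ↥(OEtStalk p) :=
  ⟨henselian p hX hp, isSepClosed_residueField p hX hp _⟩

end Groth.Agent.Lib.H69EtLocalRing
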