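import Groth.Agent.Lib.H86GeomPt
import Groth.Agent.Lib.AlgSpQC
import Groth.Prelude.Def_AlgSpOX3

/-!
# helper69: the category of etale neighbourhoods of a geometric point of an algebraic space is cofiltered (S10217)
-/

set_option autoImplicit false
set_option linter.style.haveILetI false
universe u
open CategoryTheory CategoryTheory.Limits AlgebraicGeometry Opposite

namespace Groth.Agent.Lib.H69EtNbhd

open AlgSp

variable {S : Scheme.{u}} {X : Sp S} (p : FieldPt X)

set_option backward.isDefEq.respectTransparency false in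
/-- The lift of `p` to the product `U₁ ×_X U₂` defined by lifts to the factors. -/
noncomputable def prodLift {E₁ E₂ : EtOver X} (u₁ : (FieldPt.liftsTo p).obj E₁) (u₂ : (FieldPt.liftsTo p).obj E₂) :
    (FieldPt.liftsTo p).obj (EtOver.prodObj E₁ E₂) :=
  ⟨E₂.property.1.lift' u₂.1 u₁.1 (by rw [u₁.2, u₂.2]), by
    change (yon S).map _ ≫ (yon S).map _ ≫ E₁.obj.hom = p.toHom
    rw [← Category.assoc, ← Functor.map_comp, Functor.relativelyRepresentable.lift'_snd]
    exact u₁.2⟩

set_option backward.isDefEq.respectTransparency false in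
theorem map_prodFst_prodLift {E₁ E₂ : EtOver X} (u₁ : (FieldPt.liftsTo p).obj E₁)
    (u₂ : (FieldPt.liftsTo p).obj E₂) :
    (FieldPt.liftsTo p).map (EtOver.prodFst E₁ E₂) (prodLift p u₁ u₂) = u₁ :=
  Subtype.ext (Functor.relativelyRepresentable.lift'_snd _ _ _ _)

set_option backward.isDefEq.respectTransparency false in
theorem map_prodSnd_prodLift {E₁ E₂ : EtOver X} (u₁ : (FieldPt.liftsTo p).obj E₁)
    (u₂ : (FieldPt.liftsTo p).obj E₂) :
    (FieldPt.liftsTo p).map (EtOver.prodSnd E₁ E₂) (prodLift p u₁ u₂) = u₂ :=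
  Subtype.ext (Functor.relativelyRepresentable.lift'_fst _ _ _ _)

set_option backward.isDefEq.respectTransparency false in
/-- Two lifts to a product with the same components agree. -/
theorem prod_lift_ext {E₁ E₂ : EtOver X} {T : Over S} (a b : T ⟶ (EtOver.prodObj E₁ E₂).obj.left)
    (h1 : a ≫ (EtOver.prodFst E₁ E₂).hom.left = b ≫ (EtOver.prodFst E₁ E₂).hom.left)
    (h2 : a ≫ (EtOver.prodSnd E₁ E₂).hom.left = b ≫ (EtOver.prodSnd E₁ E₂).hom.left) : a = b :=
  Functor.relativelyRepresentable.hom_ext' _ h2 h1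

set_option backward.isDefEq.respectTransparency false in
theorem isCofilteredOrEmpty : IsCofilteredOrEmpty (EtNbhd p) where
  cone_objs N₁ N₂ :=
    ⟨⟨EtOver.prodObj N₁.1 N₂.1, prodLift p N₁.2 N₂.2⟩,
      ⟨EtOver.prodFst N₁.1 N₂.1, map_prodFst_prodLift p N₁.2 N₂.2⟩,
      ⟨EtOver.prodSnd N₁.1 N₂.1, map_prodSnd_prodLift p N₁.2 N₂.2⟩, trivial⟩
  cone_maps N₁ N₂ f g := by
    obtain ⟨E₁, u₁⟩ := N₁
    obtain ⟨E₂, u₂⟩ := N₂
    obtain ⟨f, hf⟩ := f
    obtain ⟨g, hg⟩ := g
    change E₁ ⟶ E₂ at f g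
    change (FieldPt.liftsTo p).map f u₁ = u₂ at hf
    change (FieldPt.liftsTo p).map g u₁ = u₂ at hg
    -- the graphs of `f` and `g`
    obtain ⟨sf, hsf1, hsf2⟩ := BinaryFan.IsLimit.lift' (EtOver.prodIsLimit E₁ E₂) (𝟙 E₁) f
    obtain ⟨sg, hsg1, hsg2⟩ := BinaryFan.IsLimit.lift' (EtOver.prodIsLimit E₁ E₂) (𝟙 E₁) g
    change sf ≫ EtOver.prodFst E₁ E₂ = 𝟙 E₁ at hsf1
    change sf ≫ EtOver.prodSnd E₁ E₂ = f at hsf2
    change sg ≫ EtOver.prodFst E₁ E₂ = 𝟙 E₁ at hsg1
    change sg ≫ EtOver.prodSnd E₁ E₂ = g at hsg2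
    have hc := EtOver.pullback_condition sf sg
    have e12 : EtOver.pullbackFst sf sg = EtOver.pullbackSnd sf sg := by
      have := congrArg (fun k => k ≫ EtOver.prodFst E₁ E₂) hc
      simpa only [Category.assoc, hsf1, hsg1, Category.comp_id] using this
    have heq : EtOver.pullbackFst sf sg ≫ f = EtOver.pullbackFst sf sg ≫ g := by
      have := congrArg (fun k => k ≫ EtOver.prodSnd E₁ E₂) hc
      simp only [Category.assoc, hsf2, hsg2] at this
      rw [this, e12]
    -- the lift
    have hu : u₁.1 ≫ sf.hom.left = u₁.1 ≫ sg.hom.left := by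
      apply prod_lift_ext
      · have h1 := congrArg (fun k => k.hom.left) hsf1
        have h2 := congrArg (fun k => k.hom.left) hsg1
        change sf.hom.left ≫ (EtOver.prodFst E₁ E₂).hom.left = 𝟙 _ at h1
        change sg.hom.left ≫ (EtOver.prodFst E₁ E₂).hom.left = 𝟙 _ at h2
        rw [Category.assoc, Category.assoc, h1, h2]
      · have h1 := congrArg (fun k => k.hom.left) hsf2
        have h2 := congrArg (fun k => k.hom.left) hsg2
        change sf.hom.left ≫ (EtOver.prodSnd E₁ E₂).hom.left = f.hom.left at h1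
        change sg.hom.left ≫ (EtOver.prodSnd E₁ E₂).hom.left = g.hom.left at h2
        rw [Category.assoc, Category.assoc, h1, h2]
        exact (congrArg Subtype.val hf).trans (congrArg Subtype.val hg).symm
    let w : (FieldPt.liftsTo p).obj (EtOver.pullbackObj sf sg) :=
      ⟨pullback.lift u₁.1 u₁.1 hu, by
        change (yon S).map _ ≫ (yon S).map _ ≫ E₁.obj.hom = p.toHom
        rw [← Category.assoc, ← Functor.map_comp, pullback.lift_fst]
        exact u₁.2⟩
    have hw : (FieldPt.liftsTo p).map (EtOver.pullbackFst sf sg) w = u₁ :=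
      Subtype.ext (pullback.lift_fst _ _ _)
    refine ⟨⟨EtOver.pullbackObj sf sg, w⟩, ⟨EtOver.pullbackFst sf sg, hw⟩, ?_⟩
    apply Subtype.ext
    exact heq

/-- The category of etale neighbourhoods of a geometric point of an algebraic space is non-empty. -/
theorem nonempty_etNbhd (hX : IsAlgSpace X) (hp : p.IsGeometric) : Nonempty (EtNbhd p) := by
  obtain ⟨V, a, hae, has⟩ := hX.atlas
  have hs := Groth.Agent.Lib.AlgSpQC.surjective_map_of_repWith_surjective has
  obtain ⟨y, hy⟩ := hs (Points.mk p)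
  obtain ⟨v, rfl⟩ := (Points.schemeHomeo V).surjective y
  have hv : Points.ofPt a v = Points.mk p := by
    rw [Points.ofPt_eq_map_ofScheme]
    exact hy
  obtain ⟨ubar, h1, -⟩ := Groth.Agent.Lib.H86GeomPt.exists_lift_of_isGeometric p hp a hae v hv
  exact ⟨⟨EtOver.mk a hae, ⟨ubar, h1⟩⟩⟩

theorem isCofiltered (hX : IsAlgSpace X) (hp : p.IsGeometric) : IsCofiltered (EtNbhd p) :=
  { isCofilteredOrEmpty p with nonempty := nonempty_etNbhd p hX hp }

end Groth.Agent.Lib.H69EtNbhd
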