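import Groth.Agent.Lib.H69EtNbhd
import Mathlib.AlgebraicGeometry.Sites.EtalePoint

/-!
# helper69: a geometric point of an algebraic space defines a point of its small etale site
-/

set_option autoImplicit false
set_option linter.style.haveILetI false
universe u
open CategoryTheory CategoryTheory.Limits AlgebraicGeometry Opposite

namespace Groth.Agent.Lib.H69EtPoint

open AlgSp Groth.Agent.Lib.H69EtNbhd

variable {S : Scheme.{u}} {X : Sp S} (p : FieldPt X)

/-- A lift of a geometric point to an atlas. -/
theorem exists_lift_atlas (hp : p.IsGeometric) {V : Over S} (a : (yon S).obj V ⟶ X) (hae : RepWith @Etale a)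
    (has : RepWith @Surjective a) : Nonempty ((FieldPt.liftsTo p).obj (EtOver.mk a hae)) := by
  have hs := Groth.Agent.Lib.AlgSpQC.surjective_map_of_repWith_surjective has
  obtain ⟨y, hy⟩ := hs (Points.mk p)
  obtain ⟨v, rfl⟩ := (Points.schemeHomeo V).surjective y
  have hv : Points.ofPt a v = Points.mk p := by
    rw [Points.ofPt_eq_map_ofScheme]
    exact hy
  obtain ⟨ubar, h1, -⟩ := Groth.Agent.Lib.H86GeomPt.exists_lift_of_isGeometric p hp a hae v hv
  exact ⟨⟨ubar, h1⟩⟩

/-- Affine etale schemes over an atlas, as objects of the small etale site of `X`. -/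
noncomputable def affChart {V : Over S} (a : (yon S).obj V ⟶ X) (hae : RepWith @Etale a) :
    V.left.AffineEtale ⥤ EtOver X :=
  Scheme.AffineEtale.Spec V.left ⋙ EtOver.ofChart a hae

set_option backward.isDefEq.respectTransparency false in
theorem initiallySmall (hX : IsAlgSpace X) (hp : p.IsGeometric) : InitiallySmall.{u} (EtNbhd p) := by
  obtain ⟨V, a, hae, has⟩ := hX.atlas
  haveI := isCofilteredOrEmpty p
  obtain ⟨uV⟩ := exists_lift_atlas p hp a hae has
  refine initiallySmall_of_essentiallySmall_weakly_initial_objectProperty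
    (Functor.Elements.precomp (affChart a hae) (FieldPt.liftsTo p)).essImage ?_
  rintro ⟨E, x⟩
  -- the product `V ×_X E` with its lift
  let EV : EtOver X := EtOver.mk a hae
  let q := prodLift p uV x
  have hq1 := map_prodFst_prodLift p uV x
  have hq2 := map_prodSnd_prodLift p uV x
  -- an affine open neighbourhood of the image point
  obtain ⟨R, j, hj, hjr, -⟩ := Scheme.exists_affine_mem_range_and_range_subset
    (x := q.1.left (default : Spec (.of p.K))) (U := ⊤) trivial
  have hrange : Set.range q.1.left ⊆ Set.range j := by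
    rintro _ ⟨t, rfl⟩
    have ht : t = (default : Spec (.of p.K)) := Subsingleton.elim (α := Spec (.of p.K)) t default
    rw [ht]
    exact hjr
  let y' : Spec (.of p.K) ⟶ Spec R := IsOpenImmersion.lift j q.1.left hrange
  have hy' : y' ≫ j = q.1.left := IsOpenImmersion.lift_fac j q.1.left hrange
  haveI : Etale (EtOver.prodFst EV E).hom.left.left := EtOver.etale_left _
  let W : V.left.AffineEtale := Scheme.AffineEtale.mk (j ≫ (EtOver.prodFst EV E).hom.left.left)
  have hw0 : y' ≫ ((affChart a hae).obj W).obj.left.hom = p.pt.hom := by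
    change y' ≫ (j ≫ (EtOver.prodFst EV E).hom.left.left) ≫ V.hom = p.str
    rw [← Category.assoc, ← Category.assoc, hy']
    have := Over.w ((FieldPt.liftsTo p).map (EtOver.prodFst EV E) q).1
    rw [Category.assoc]
    exact (Over.w (q.1 ≫ (EtOver.prodFst EV E).hom.left))
  let w0 : p.pt ⟶ ((affChart a hae).obj W).obj.left := Over.homMk y' hw0
  have hw0V : w0 ≫ EtOver.homOfEtale ((Scheme.AffineEtale.Spec V.left).obj W) = uV.1 := by
    apply Over.OverMorphism.ext
    change y' ≫ (j ≫ (EtOver.prodFst EV E).hom.left.left) = uV.1.left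
    rw [← Category.assoc, hy']
    exact congrArg (fun k => k.1.left) hq1
  let w : ((affChart a hae) ⋙ FieldPt.liftsTo p).obj W := ⟨w0, by
    change (yon S).map w0 ≫ (yon S).map _ ≫ a = p.toHom
    rw [← Category.assoc, ← Functor.map_comp, hw0V]
    exact uV.2⟩
  -- the morphism to `E`
  have hm0 : (j ≫ (EtOver.prodSnd EV E).hom.left.left) ≫ E.obj.left.hom =
      ((affChart a hae).obj W).obj.left.hom := by
    change (j ≫ (EtOver.prodSnd EV E).hom.left.left) ≫ E.obj.left.hom =
      (j ≫ (EtOver.prodFst EV E).hom.left.left) ≫ V.hom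
    rw [Category.assoc, Category.assoc]
    exact congrArg (fun k => j ≫ k) ((Over.w (EtOver.prodSnd EV E).hom.left).trans
      (Over.w (EtOver.prodFst EV E).hom.left).symm)
  let m0 : ((affChart a hae).obj W).obj.left ⟶ E.obj.left := Over.homMk (j ≫ (EtOver.prodSnd EV E).hom.left.left) hm0
  let jO : ((affChart a hae).obj W).obj.left ⟶ (EtOver.prodObj EV E).obj.left :=
    Over.homMk j (by
      change j ≫ (EtOver.prodObj EV E).obj.left.hom = (j ≫ (EtOver.prodFst EV E).hom.left.left) ≫ V.hom
      rw [Category.assoc]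
      exact congrArg (fun k => j ≫ k) (Over.w (EtOver.prodFst EV E).hom.left).symm)
  have hm0' : m0 = jO ≫ (EtOver.prodSnd EV E).hom.left := by
    apply Over.OverMorphism.ext; rfl
  have hjO1 : jO ≫ (EtOver.prodFst EV E).hom.left =
      EtOver.homOfEtale ((Scheme.AffineEtale.Spec V.left).obj W) := by
    apply Over.OverMorphism.ext; rfl
  have hm : (yon S).map m0 ≫ E.obj.hom = ((affChart a hae).obj W).obj.hom := by
    change _ = (yon S).map (EtOver.homOfEtale ((Scheme.AffineEtale.Spec V.left).obj W)) ≫ a
    rw [hm0', ← hjO1, Functor.map_comp, Functor.map_comp, Category.assoc, Category.assoc,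
      EtOver.w (EtOver.prodSnd EV E)]
    exact congrArg (fun k => (yon S).map jO ≫ k) (EtOver.w (EtOver.prodFst EV E)).symm
  let m : (affChart a hae).obj W ⟶ E := EtOver.homMk m0 hm
  have hmw : (FieldPt.liftsTo p).map m w = x := by
    apply Subtype.ext
    change w0 ≫ m0 = x.1
    have : w0 ≫ jO = q.1 := by
      apply Over.OverMorphism.ext
      exact hy'
    rw [hm0', ← Category.assoc, this]
    exact congrArg Subtype.val hq2
  exact ⟨_, ⟨Functor.elementsMk _ W w, ⟨Iso.refl _⟩⟩, ⟨⟨m, hmw⟩⟩⟩

end Groth.Agent.Lib.H69EtPoint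

namespace Groth.Agent.Lib.H69EtPoint

open AlgSp Groth.Agent.Lib.H69EtNbhd

variable {S : Scheme.{u}} {X : Sp S} (p : FieldPt X)

/-- Lifting a geometric point along a covering of an etale neighbourhood (S10218 with the index type in any universe). -/
theorem exists_lift_of_cover (hp : p.IsGeometric) {E : EtOver X} (x : (FieldPt.liftsTo p).obj E)
    {ι : Type*} (Ui : ι → EtOver X) (g : ∀ i, Ui i ⟶ E)
    (hcov : ∀ e : ↥E.obj.left.left, ∃ i, e ∈ Set.range (g i).hom.left.left) :
    ∃ (i : ι) (ui : (FieldPt.liftsTo p).obj (Ui i)), (FieldPt.liftsTo p).map (g i) ui = x := by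
  haveI : IsAlgClosed p.K := hp
  obtain ⟨ub, hub⟩ := x
  obtain ⟨i, y, hy⟩ := hcov (ub.left (IsLocalRing.closedPoint p.K : PrimeSpectrum p.K))
  haveI : Etale (g i).hom.left.left := EtOver.etale_left (g i)
  obtain ⟨l, hl1, hl2⟩ := Scheme.exists_fac_of_etale_of_isSepClosed (Ω := p.K) (g i).hom.left.left
    ub.left y (by
      rw [hy]
      exact congrArg ub.left (Subsingleton.elim (α := PrimeSpectrum p.K) _ _))
  have hlo : l ≫ (Ui i).obj.left.hom = p.pt.hom := by
    rw [← Over.w (g i).hom.left, ← Category.assoc, hl1, Over.w ub]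
  have hcomp : (Over.homMk l hlo : p.pt ⟶ (Ui i).obj.left) ≫ (g i).hom.left = ub :=
    Over.OverMorphism.ext hl1
  refine ⟨i, ⟨Over.homMk l hlo, ?_⟩, ?_⟩
  · rw [← EtOver.w (g i), ← Category.assoc, ← Functor.map_comp, hcomp]
    exact hub
  · apply Subtype.ext
    exact hcomp

/-- The point of the small etale site of an algebraic space defined by a geometric point. -/
noncomputable def point (hX : IsAlgSpace X) (hp : p.IsGeometric) : (etTop X).Point where
  fiber := FieldPt.liftsTo p
  isCofiltered := isCofiltered p hX hp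
  initiallySmall := initiallySmall p hX hp
  jointly_surjective {E} R hR x := by
    obtain ⟨R₀, hR₀, hle⟩ := (Precoverage.mem_toGrothendieck_iff_of_isStableUnderComposition (J := etPre X)).1 hR
    obtain ⟨α, T, f, rfl⟩ := R₀.exists_eq_ofArrows
    rw [ofArrows_mem_etPre_iff] at hR₀
    obtain ⟨i, ui, hui⟩ := exists_lift_of_cover p hp x T f hR₀
    exact ⟨T i, f i, hle (T i) (f i) (Presieve.ofArrows.mk i), ui, hui⟩

@[simp] theorem point_fiber (hX : IsAlgSpace X) (hp : p.IsGeometric) :
    (point p hX hp).fiber = FieldPt.liftsTo p := rfl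

end Groth.Agent.Lib.H69EtPoint
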