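import Groth.Agent.Lib.H69IdealEt
import Groth.Prelude.Def_AlgSpOX2

/-!
# helper69: the comparison map `O_X ⟶ f_* O_Z` on the small etale site

* `isLocallySurjective_bcRingHom_of_isClosedImmersion` (= S9987): for a closed immersion the comparison map is locally
  surjective (on affine opens of a chart it is surjective).
-/

set_option autoImplicit false
universe u
open CategoryTheory CategoryTheory.Limits AlgebraicGeometry Opposite

namespace Groth.Agent.Lib.H69EtRing

open AlgSp Groth.Agent.Lib.AlgSpAtPt

variable {S : Scheme.{u}}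

/-- The object of the small etale site given by an open of a chart. -/
noncomputable abbrev openObj {X : Sp S} (E : EtOver X) (V₀ : E.obj.left.left.Opens) : EtOver X :=
  EtOver.mk ((yon S).map (opensOverι E.obj.left V₀) ≫ E.obj.hom)
    (MorphismProperty.comp_mem _ _ _ (repWith_etale_opensOverι E.obj.left V₀) E.property)

/-- The inclusion of an open of a chart, as a morphism of the small etale site. -/
noncomputable abbrev openHom {X : Sp S} (E : EtOver X) (V₀ : E.obj.left.left.Opens) : openObj E V₀ ⟶ E :=
  EtOver.homMk (opensOverι E.obj.left V₀) rfl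

/-- The affine opens of a chart cover it in the small etale site. -/
theorem affineOpens_mem_etTop {X : Sp S} (E : EtOver X) :
    Sieve.ofArrows (fun V₀ : E.obj.left.left.affineOpens => openObj E V₀.1) (fun V₀ => openHom E V₀.1) ∈
      etTop X E :=
  ofArrows_mem_etTop _ _ (fun x => by
    obtain ⟨_, ⟨V₀, hV₀, rfl⟩, hx, -⟩ :=
      E.obj.left.left.isBasis_affineOpens.exists_subset_of_mem_open (Set.mem_univ x) isOpen_univ
    refine ⟨⟨V₀, hV₀⟩, ?_⟩
    change x ∈ Set.range (Scheme.Opens.ι V₀)
    rw [Scheme.Opens.range_ι]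
    exact hx)

set_option backward.isDefEq.respectTransparency false in
/-- S9987: for a closed immersion `i : Z ⟶ X` the comparison map `O_X ⟶ i_* O_Z` is locally surjective. -/
theorem isLocallySurjective_bcRingHom_of_isClosedImmersion {Z X : Sp S} {i : Z ⟶ X}
    (hi : RepWith @IsClosedImmersion i) :
    Presheaf.IsLocallySurjective (etTop X) (bcRingHom hi.1).hom := by
  refine ⟨fun {E} s => ?_⟩
  refine (etTop X).superset_covering ?_ (affineOpens_mem_etTop E)
  rw [Sieve.ofArrows, Sieve.generate_le_iff]
  rintro W f ⟨V₀⟩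
  have hc : IsClosedImmersion (hi.1.snd (openObj E V₀.1).obj.hom).left :=
    hi.2 _ _ _ (hi.1.isPullback (openObj E V₀.1).obj.hom)
  have haff : IsAffine (openObj E V₀.1).obj.left.left := V₀.2
  let G := (((EtOver.bc hi.1).sheafPushforwardContinuous RingCat (etTop X) (etTop Z)).obj (OEtRing Z)).obj
  obtain ⟨t, ht⟩ := Scheme.Hom.app_surjective (hi.1.snd (openObj E V₀.1).obj.hom).left ⊤ (isAffineOpen_top _)
    (ULift.down (G.map (openHom E V₀.1).op s))
  refine ⟨ULift.up t, ?_⟩
  apply ULift.ext
  exact ht

end Groth.Agent.Lib.H69EtRing
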