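import Groth.Agent.Lib.H69EtaleDense
import Groth.Agent.Lib.H69QuotOpen
import Groth.Agent.Lib.AlgSpBasic
import Groth.Prelude.Def_AlgSpSub

/-!
# helper69: scheme theoretically dense open subspaces -- independence of the chart, intersections

* `preimage_eq_of_charts`: the inverse images of a subsheaf in two charts agree on any scheme mapping
  compatibly to both.
* `isSchematicallyDense_of_chart` (= S9968): if `j` is scheme theoretically dense (on some etale surjective chart)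
  then its inverse image in every etale chart is schematically dense.
* `exists_isPullback_of_factor_iff`: recognising the pullback of a subsheaf along a chart as an open subscheme.
* `isSchDense_inter` (= S9970).
-/

set_option autoImplicit false
universe u
open CategoryTheory CategoryTheory.Limits AlgebraicGeometry

namespace Groth.Agent.Lib.H69EtaleDenseSp

open AlgSp Groth.Agent.Lib.H69AlgSp Groth.Agent.Lib.H69QuotOpen Groth.Agent.Lib.H69EtaleDense

variable {S : Scheme.{u}}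

/-- The inclusion of an open subscheme, as a morphism over `S`. -/
noncomputable abbrev oι {V : Over S} (W : V.left.Opens) : Over.mk (W.ι ≫ V.hom) ⟶ V := Over.homMk W.ι rfl

instance {V : Over S} (W : V.left.Opens) : IsOpenImmersion (oι W).left := by
  change IsOpenImmersion W.ι
  infer_instance

theorem range_oι {V : Over S} (W : V.left.Opens) : Set.range (oι W).left = (W : Set V.left) := by
  change Set.range W.ι = _
  exact Scheme.Opens.range_ι W

section charts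

variable {I F : Sp S} (j : I ⟶ F) [Mono j] {V₁ V : Over S} (φ₁ : (yon S).obj V₁ ⟶ F)
  (φ : (yon S).obj V ⟶ F) (W₁ : V₁.left.Opens) (W : V.left.Opens)
  (fst₁ : (yon S).obj (Over.mk (W₁.ι ≫ V₁.hom)) ⟶ I) (sq₁ : IsPullback fst₁ ((yon S).map (oι W₁)) j φ₁)
  (fst : (yon S).obj (Over.mk (W.ι ≫ V.hom)) ⟶ I) (sq : IsPullback fst ((yon S).map (oι W)) j φ)

include sq₁ sq in
theorem preimage_le_of_charts {T : Over S} (g₁ : T ⟶ V₁) (g₂ : T ⟶ V)
    (h : (yon S).map g₁ ≫ φ₁ = (yon S).map g₂ ≫ φ) : g₁.left ⁻¹ᵁ W₁ ≤ g₂.left ⁻¹ᵁ W := by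
  let O : T.left.Opens := g₁.left ⁻¹ᵁ W₁
  have h1 : Set.range (oι O ≫ g₁).left ⊆ Set.range (oι W₁).left := by
    rw [range_oι]
    rintro _ ⟨x, rfl⟩
    exact x.2
  obtain ⟨y, hy⟩ := (factor_iff_range j φ₁ (oι W₁) fst₁ sq₁ (oι O ≫ g₁)).2 h1
  have hy' : y ≫ j = (yon S).map (oι O ≫ g₂) ≫ φ := by
    rw [hy, Functor.map_comp, Functor.map_comp, Category.assoc, Category.assoc, h]
  have h2 := (factor_iff_range j φ (oι W) fst sq (oι O ≫ g₂)).1 ⟨y, hy'⟩
  rw [range_oι] at h2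
  intro t ht
  exact h2 ⟨⟨t, ht⟩, rfl⟩

include sq₁ sq in
theorem preimage_eq_of_charts {T : Over S} (g₁ : T ⟶ V₁) (g₂ : T ⟶ V)
    (h : (yon S).map g₁ ≫ φ₁ = (yon S).map g₂ ≫ φ) : g₁.left ⁻¹ᵁ W₁ = g₂.left ⁻¹ᵁ W :=
  le_antisymm (preimage_le_of_charts j φ₁ φ W₁ W fst₁ sq₁ fst sq g₁ g₂ h)
    (preimage_le_of_charts j φ φ₁ W W₁ fst sq fst₁ sq₁ g₂ g₁ h.symm)

end charts

/-- S9968: scheme theoretic density can be tested on every etale chart. -/
theorem isSchematicallyDense_of_chart {F G : Sp S} (j : G ⟶ F) (hj : IsSchDense j) (V : Over S)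
    (φ : (yon S).obj V ⟶ F) (hφ : RepWith @Etale φ) (W : V.left.Opens)
    (fst : (yon S).obj (Over.mk (W.ι ≫ V.hom)) ⟶ G)
    (sq : IsPullback fst ((yon S).map (Over.homMk W.ι rfl : Over.mk (W.ι ≫ V.hom) ⟶ V)) j φ) :
    CInt.IsSchematicallyDense W := by
  obtain ⟨hjO, V₁, φ₁, W₁, fst₁, hφ₁e, hφ₁s, sq₁, hd₁⟩ := hj
  have : Mono j := mono_of_repWith_isOpenImmersion hjO
  -- `T = V ×_F V₁`
  obtain ⟨T, g₁, g₂', sqT⟩ := hφ.1 φ₁
  obtain ⟨g₂, rfl⟩ := (yon S).map_surjective g₂'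
  have hg₁e : Etale g₁.left := hφ.2 φ₁ _ g₁ sqT
  have hg₂e : Etale g₂.left := hφ₁e.2 φ _ g₂ sqT.flip
  have hg₂s : Surjective g₂.left := hφ₁s.2 φ _ g₂ sqT.flip
  have heq : g₁.left ⁻¹ᵁ W₁ = g₂.left ⁻¹ᵁ W :=
    preimage_eq_of_charts j φ₁ φ W₁ W fst₁ sq₁ fst sq g₁ g₂ sqT.w.symm
  have h1 : CInt.IsSchematicallyDense (g₁.left ⁻¹ᵁ W₁) :=
    isSchematicallyDense_preimage_of_etale g₁.left W₁ hd₁
  rw [heq] at h1
  exact isSchematicallyDense_of_preimage g₂.left W h1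

/-- Recognising the pullback of a subsheaf along a chart as an open subscheme. -/
theorem exists_isPullback_of_factor_iff {I F : Sp S} (j : I ⟶ F) [Mono j] {T : Over S}
    (ψ : (yon S).obj T ⟶ F) (O : T.left.Opens)
    (h : ∀ {T' : Over S} (v : T' ⟶ T),
      (∃ y : (yon S).obj T' ⟶ I, y ≫ j = (yon S).map v ≫ ψ) ↔ Set.range v.left ⊆ (O : Set T.left)) :
    ∃ fstO : (yon S).obj (Over.mk (O.ι ≫ T.hom)) ⟶ I,
      IsPullback fstO ((yon S).map (Over.homMk O.ι rfl : Over.mk (O.ι ≫ T.hom) ⟶ T)) j ψ := by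
  obtain ⟨fstO, hfstO⟩ := (h (oι O)).2 (by rw [range_oι])
  refine ⟨fstO, isPullback_of_yon hfstO ?_ ?_⟩
  · intro T' p p' _ h2
    obtain ⟨a, rfl⟩ := (yon S).map_surjective p
    obtain ⟨b, rfl⟩ := (yon S).map_surjective p'
    rw [← Functor.map_comp, ← Functor.map_comp] at h2
    have h3 : a ≫ oι O = b ≫ oι O := (yon S).map_injective h2
    have : Mono (oι O) := mono_over_of_mono_left _
    rw [(cancel_mono (oι O)).1 h3]
  · intro T' x y hxy
    obtain ⟨v, rfl⟩ := (yon S).map_surjective y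
    have hv : Set.range v.left ⊆ Set.range (oι O).left := by
      rw [range_oι]
      exact (h v).1 ⟨x, hxy⟩
    let l₀ : T'.left ⟶ (Over.mk (O.ι ≫ T.hom)).left := IsOpenImmersion.lift (oι O).left v.left hv
    have hl₀ : l₀ ≫ (oι O).left = v.left := IsOpenImmersion.lift_fac _ _ _
    let l : T' ⟶ Over.mk (O.ι ≫ T.hom) := Over.homMk l₀ (by
      rw [← Over.w (oι O), ← Category.assoc, hl₀, Over.w v])
    have e : l ≫ oι O = v := by
      ext
      exact hl₀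
    refine ⟨(yon S).map l, ?_, ?_⟩
    · rw [← cancel_mono j, Category.assoc, hfstO, ← Category.assoc, ← Functor.map_comp, e, hxy]
    · rw [← Functor.map_comp, e]

/-- S9970: the intersection of two scheme theoretically dense open subspaces is scheme theoretically dense. -/
theorem isSchDense_inter {U V X P : Sp S} (jU : U ⟶ X) (jV : V ⟶ X) (hU : IsSchDense jU) (hV : IsSchDense jV)
    (fst : P ⟶ U) (snd : P ⟶ V) (sq : IsPullback fst snd jU jV) : IsSchDense (fst ≫ jU) := by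
  obtain ⟨hUO, V₁, φ₁, W₁, fst₁, hφ₁e, hφ₁s, sq₁, hd₁⟩ := hU
  obtain ⟨hVO, V₂, φ₂, W₂, fst₂, hφ₂e, hφ₂s, sq₂, hd₂⟩ := hV
  have hfO : RepWith @IsOpenImmersion fst :=
    Groth.Agent.Lib.AlgSpBasic.repWith_fst_of_isPullback _ sq hVO
  have hcO : RepWith @IsOpenImmersion (fst ≫ jU) := MorphismProperty.comp_mem _ _ _ hfO hUO
  have : Mono jU := mono_of_repWith_isOpenImmersion hUO
  have : Mono jV := mono_of_repWith_isOpenImmersion hVO
  have : Mono (fst ≫ jU) := mono_of_repWith_isOpenImmersion hcO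
  -- `T = V₁ ×_X V₂`
  obtain ⟨T, g₂, g₁', sqT⟩ := hφ₁e.1 φ₂
  obtain ⟨g₁, rfl⟩ := (yon S).map_surjective g₁'
  have hg₂e : Etale g₂.left := hφ₁e.2 φ₂ _ g₂ sqT
  have hg₁e : Etale g₁.left := hφ₂e.2 φ₁ _ g₁ sqT.flip
  have hg₁s : Surjective g₁.left := hφ₂s.2 φ₁ _ g₁ sqT.flip
  let ψ : (yon S).obj T ⟶ X := (yon S).map g₁ ≫ φ₁
  have hψ : ψ = (yon S).map g₂ ≫ φ₂ := sqT.w
  have hψe : RepWith @Etale ψ :=
    (RepWith @Etale).comp_mem _ _ ((repWith_yon_map_iff @Etale g₁).2 hg₁e) hφ₁e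
  have hψs : RepWith @Surjective ψ :=
    (RepWith @Surjective).comp_mem _ _ ((repWith_yon_map_iff @Surjective g₁).2 hg₁s) hφ₁s
  let O : T.left.Opens := g₁.left ⁻¹ᵁ W₁ ⊓ g₂.left ⁻¹ᵁ W₂
  have hO : CInt.IsSchematicallyDense O :=
    isSchematicallyDense_inf _ _ (isSchematicallyDense_preimage_of_etale g₁.left W₁ hd₁)
      (isSchematicallyDense_preimage_of_etale g₂.left W₂ hd₂)
  obtain ⟨fstO, sqO⟩ := exists_isPullback_of_factor_iff (fst ≫ jU) ψ O (by
    intro T' v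
    have e₁ := factor_iff_range jU φ₁ (oι W₁) fst₁ sq₁ (v ≫ g₁)
    have e₂ := factor_iff_range jV φ₂ (oι W₂) fst₂ sq₂ (v ≫ g₂)
    rw [range_oι] at e₁ e₂
    constructor
    · rintro ⟨y, hy⟩
      have h1 : Set.range (v ≫ g₁).left ⊆ (W₁ : Set V₁.left) := e₁.1 ⟨y ≫ fst, by
        rw [Category.assoc, hy, Functor.map_comp, Category.assoc]⟩
      have h2 : Set.range (v ≫ g₂).left ⊆ (W₂ : Set V₂.left) := e₂.1 ⟨y ≫ snd, by
        rw [Category.assoc, ← sq.w, hy, hψ, Functor.map_comp, Category.assoc]⟩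
      rintro _ ⟨x, rfl⟩
      exact ⟨h1 ⟨x, rfl⟩, h2 ⟨x, rfl⟩⟩
    · intro hv
      obtain ⟨y₁, hy₁⟩ := e₁.2 (by
        rintro _ ⟨x, rfl⟩
        exact (hv ⟨x, rfl⟩).1)
      obtain ⟨y₂, hy₂⟩ := e₂.2 (by
        rintro _ ⟨x, rfl⟩
        exact (hv ⟨x, rfl⟩).2)
      have hw : y₁ ≫ jU = y₂ ≫ jV := by
        rw [hy₁, hy₂, Functor.map_comp, Functor.map_comp, Category.assoc, Category.assoc]
        exact congrArg _ hψ
      refine ⟨sq.lift y₁ y₂ hw, ?_⟩
      rw [← Category.assoc, sq.lift_fst, hy₁, Functor.map_comp, Category.assoc])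
  exact ⟨hcO, T, ψ, O, fstO, hψe, hψs, sqO, hO⟩

end Groth.Agent.Lib.H69EtaleDenseSp
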