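import Groth.Agent.Lib.H69EtRing
import Groth.Agent.Lib.H69EtaleDenseSp

/-!
# helper69: scheme theoretic density of an open subspace and injectivity of `O_X ⟶ j_* O_U`

* `mono_iff_injective_app`: a morphism of sheaves of rings on the small etale site is a monomorphism iff it is
  injective on sections.
* `isSchDense_iff_mono_bcRingHom` (= S9986).
-/

set_option autoImplicit false
universe u
open CategoryTheory CategoryTheory.Limits AlgebraicGeometry Opposite

namespace Groth.Agent.Lib.H69EtRingMono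

open AlgSp Groth.Agent.Lib.AlgSpAtPt Groth.Agent.Lib.H69EtRing Groth.Agent.Lib.H69AlgSp
  Groth.Agent.Lib.H69EtaleDense Groth.Agent.Lib.H69EtaleDenseSp Groth.Agent.Lib.H69QuotOpen

variable {S : Scheme.{u}}

theorem mono_iff_injective_app {X : Sp S} {F G : EtSh X RingCat.{u+1}} (f : F ⟶ G) :
    Mono f ↔ ∀ E : EtOver X, Function.Injective (f.hom.app (op E)).hom := by
  constructor
  · intro hf E
    have h1 : Mono f.hom := (sheafToPresheaf (etTop X) RingCat.{u+1}).map_mono f
    have h2 : Mono (f.hom.app (op E)) := inferInstance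
    exact (ConcreteCategory.mono_iff_injective_of_preservesPullback _).1 h2
  · intro h
    have h2 : ∀ E : (EtOver X)ᵒᵖ, Mono (f.hom.app E) := fun E =>
      ConcreteCategory.mono_of_injective _ (h E.unop)
    have h1 : Mono f.hom := NatTrans.mono_of_mono_app _
    exact Sheaf.Hom.mono_of_presheaf_mono _ _ f

set_option backward.isDefEq.respectTransparency false in
theorem bcRingHom_app_injective_iff {X Y : Sp S} {f : X ⟶ Y} (hf : Representable f) (E : EtOver Y) :
    Function.Injective ((bcRingHom hf).hom.app (op E)).hom ↔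
      Function.Injective (hf.snd E.obj.hom).left.appTop.hom := by
  constructor
  · intro h a b hab
    have := @h (ULift.up a) (ULift.up b) (ULift.ext _ _ hab)
    exact congrArg ULift.down this
  · intro h a b hab
    apply ULift.ext
    apply h
    exact congrArg ULift.down hab

section scheme

theorem appLE_injective_of_image_eq {W V : Scheme.{u}} (w : W ⟶ V) [IsOpenImmersion w] (U : V.Opens)
    (O : W.Opens) (e : O ≤ w ⁻¹ᵁ U) (h : w ''ᵁ O = U) : Function.Injective (w.appLE U O e).hom := by
  subst h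
  have : w.appLE (w ''ᵁ O) O e = (w.appIso O).hom := (w.appIso_hom' O).symm
  rw [this]
  exact ((ConcreteCategory.isIso_iff_bijective _).1 inferInstance).1

/-- Lemma A: for an open immersion with schematically dense image, pullback of global functions is injective. -/
theorem injective_appTop_of_isSchematicallyDense {W V : Scheme.{u}} (w : W ⟶ V) [IsOpenImmersion w]
    (h : CInt.IsSchematicallyDense w.opensRange) : Function.Injective w.appTop.hom := by
  rw [injective_iff_map_eq_zero]
  intro s hs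
  apply h ⊤
  rw [map_zero]
  have hle : (⊤ : W.Opens) ≤ w ⁻¹ᵁ (⊤ ⊓ w.opensRange) := by
    intro x _
    exact ⟨trivial, ⟨x, rfl⟩⟩
  have himg : w ''ᵁ (⊤ : W.Opens) = ⊤ ⊓ w.opensRange := by
    rw [top_inf_eq]
    exact w.image_top_eq_opensRange
  apply appLE_injective_of_image_eq w _ ⊤ hle himg
  rw [map_zero]
  have h1 : V.presheaf.map (homOfLE (inf_le_left : ⊤ ⊓ w.opensRange ≤ ⊤)).op ≫
      w.appLE (⊤ ⊓ w.opensRange) ⊤ hle = w.appLE ⊤ ⊤ le_top := by
    rw [Scheme.Hom.map_appLE]
  have h2 := congrArg (fun k => k.hom s) h1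
  simp only [CommRingCat.hom_comp, RingHom.comp_apply] at h2
  rw [h2, ← Groth.Agent.Lib.H69IdealEt.appTop_eq_appLE]
  exact hs

/-- Lemma B: if a section on `V'` vanishes on `V' ⊓ O` and `c : W' ⟶ V` lands in `V' ⊓ O`, factoring as
`w' ≫ V'.ι`, then the pullback to `W'` of the corresponding global function of `V'` vanishes. -/
theorem appTop_eq_zero_of_res_eq_zero {V W' : Scheme.{u}} (V' O : V.Opens) (w' : W' ⟶ V'.toScheme)
    (hr : Set.range (w' ≫ V'.ι) ⊆ (O : Set V)) (s : Γ(V, V'))
    (hs : V.presheaf.map (homOfLE (inf_le_left : V' ⊓ O ≤ V')).op s = 0) :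
    w'.appTop.hom ((V'.ι.appLE V' ⊤ V'.ι_preimage_self.ge).hom s) = 0 := by
  have hle : (⊤ : W'.Opens) ≤ (w' ≫ V'.ι) ⁻¹ᵁ (V' ⊓ O) := by
    intro x _
    refine ⟨?_, hr ⟨x, rfl⟩⟩
    change (w' ≫ V'.ι) x ∈ V'
    rw [Scheme.Hom.comp_apply]
    exact (w' x).2
  have h1 : V'.ι.appLE V' ⊤ V'.ι_preimage_self.ge ≫ w'.appTop =
      V.presheaf.map (homOfLE (inf_le_left : V' ⊓ O ≤ V')).op ≫ (w' ≫ V'.ι).appLE (V' ⊓ O) ⊤ hle := by
    rw [Groth.Agent.Lib.H69IdealEt.appTop_eq_appLE, Scheme.Hom.appLE_comp_appLE, Scheme.Hom.map_appLE]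
  have h2 := congrArg (fun k => k.hom s) h1
  simp only [CommRingCat.hom_comp, RingHom.comp_apply] at h2
  rw [h2, hs, map_zero]

theorem ι_appLE_injective {V : Scheme.{u}} (V' : V.Opens) :
    Function.Injective (V'.ι.appLE V' ⊤ V'.ι_preimage_self.ge).hom :=
  ((ConcreteCategory.isIso_iff_bijective _).1 inferInstance).1

end scheme

/-- The chart of an open immersion `j` given by the chosen base change to `φ`. -/
theorem exists_chart_opensRange {I F : Sp S} (j : I ⟶ F) (hj : RepWith @IsOpenImmersion j) {V : Over S}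
    (φ : (yon S).obj V ⟶ F) [IsOpenImmersion (hj.1.snd φ).left] :
    ∃ fstO : (yon S).obj (Over.mk ((hj.1.snd φ).left.opensRange.ι ≫ V.hom)) ⟶ I,
      IsPullback fstO ((yon S).map (Over.homMk (hj.1.snd φ).left.opensRange.ι rfl :
        Over.mk ((hj.1.snd φ).left.opensRange.ι ≫ V.hom) ⟶ V)) j φ := by
  have : Mono j := mono_of_repWith_isOpenImmersion hj
  refine exists_isPullback_of_factor_iff j φ _ ?_
  intro T' v
  have := factor_iff_range j φ (hj.1.snd φ) (hj.1.fst φ) (hj.1.isPullback φ) v
  rw [this]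
  rfl

/-- S9986. -/
theorem isSchDense_iff_mono_bcRingHom {U X : Sp S} (hX : IsAlgSpace X) (j : U ⟶ X)
    (hj : RepWith @IsOpenImmersion j) : IsSchDense j ↔ Mono (bcRingHom hj.1) := by
  have hmono : Mono j := mono_of_repWith_isOpenImmersion hj
  rw [mono_iff_injective_app]
  constructor
  · intro hd E
    rw [bcRingHom_app_injective_iff]
    have hO : IsOpenImmersion (hj.1.snd E.obj.hom).left := hj.2 _ _ _ (hj.1.isPullback E.obj.hom)
    obtain ⟨fstO, sqO⟩ := exists_chart_opensRange j hj E.obj.hom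
    have h1 := isSchematicallyDense_of_chart j hd E.obj.left E.obj.hom E.property _ fstO sqO
    exact injective_appTop_of_isSchematicallyDense _ h1
  · intro hinj
    obtain ⟨A, p, hpe, hps⟩ := hX.atlas
    have hO : IsOpenImmersion (hj.1.snd p).left := hj.2 _ _ _ (hj.1.isPullback p)
    obtain ⟨fstO, sqO⟩ := exists_chart_opensRange j hj p
    refine ⟨hj, A, p, _, fstO, hpe, hps, sqO, ?_⟩
    intro V'
    rw [injective_iff_map_eq_zero]
    intro s hs
    let E : EtOver X := EtOver.mk p hpe
    have hi := (bcRingHom_app_injective_iff hj.1 (openObj E V')).1 (hinj (openObj E V'))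
    have h3 := (factor_iff_range j p (hj.1.snd p) (hj.1.fst p) (hj.1.isPullback p)
      (hj.1.snd (openObj E V').obj.hom ≫ opensOverι A V')).1
      ⟨hj.1.fst (openObj E V').obj.hom, by
        rw [Functor.map_comp, Category.assoc]
        exact (hj.1.isPullback (openObj E V').obj.hom).w⟩
    have h4 : (hj.1.snd (openObj E V').obj.hom).left.appTop.hom
        ((V'.ι.appLE V' ⊤ V'.ι_preimage_self.ge).hom s) = 0 :=
      appTop_eq_zero_of_res_eq_zero V' _ (hj.1.snd (openObj E V').obj.hom).left h3 s hs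
    have h5 : (V'.ι.appLE V' ⊤ V'.ι_preimage_self.ge).hom s = 0 := hi (h4.trans (map_zero _).symm)
    exact ι_appLE_injective V' (h5.trans (map_zero _).symm)

end Groth.Agent.Lib.H69EtRingMono
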