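import Groth.Agent.Lib.H69EtPoint
import Groth.Prelude.Def_AlgSpOX3
import Mathlib.CategoryTheory.Sites.Point.Skyscraper
import Mathlib.CategoryTheory.Sites.Point.Conservative

/-!
# helper69: exactness of the stalk functors at a geometric point of an algebraic space

Through the point `H69EtPoint.point` of the small etale site, whose fibre functors are the stalk functors of the prelude by
definition.
-/

set_option autoImplicit false
universe u
open CategoryTheory CategoryTheory.Limits AlgebraicGeometry Opposite

namespace Groth.Agent.Lib.H69EtStalk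

open AlgSp Groth.Agent.Lib.H69EtPoint

variable {S : Scheme.{u}} {X : Sp S} (p : FieldPt X) (hX : IsAlgSpace X) (hp : p.IsGeometric)

theorem ab5_type : AB5OfSize.{u, u} (Type (u + 1)) := AB5OfSize_of_univLE.{u, u, u + 1, u + 1} (Type (u + 1))

theorem ab5_ab : AB5OfSize.{u, u} (AddCommGrpCat.{u + 1}) :=
  AB5OfSize_of_univLE.{u, u, u + 1, u + 1} (AddCommGrpCat.{u + 1})

theorem presheafFiber_eq_type : (point p hX hp).presheafFiber (A := Type (u + 1)) = stalkEtPshFunctor (Type (u + 1)) p :=
  rfl

theorem sheafFiber_eq_type : (point p hX hp).sheafFiber (A := Type (u + 1)) = stalkEtFunctor (Type (u + 1)) p := rfl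

theorem presheafFiber_eq_ab :
    (point p hX hp).presheafFiber (A := AddCommGrpCat.{u + 1}) = stalkEtPshFunctor AddCommGrpCat.{u + 1} p := rfl

theorem sheafFiber_eq_ab :
    (point p hX hp).sheafFiber (A := AddCommGrpCat.{u + 1}) = stalkEtFunctor AddCommGrpCat.{u + 1} p := rfl

include hX hp

theorem preservesFiniteLimits_stalkEtFunctor_type : PreservesFiniteLimits (stalkEtFunctor (Type (u + 1)) p) :=
  haveI := ab5_type.{u}
  (inferInstance : PreservesFiniteLimits ((point p hX hp).sheafFiber (A := Type (u + 1))))

theorem preservesFiniteColimits_stalkEtFunctor_type : PreservesFiniteColimits (stalkEtFunctor (Type (u + 1)) p) :=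
  (inferInstance : PreservesFiniteColimits ((point p hX hp).sheafFiber (A := Type (u + 1))))

theorem preservesFiniteLimits_stalkEtFunctor_ab : PreservesFiniteLimits (stalkEtFunctor AddCommGrpCat.{u + 1} p) :=
  haveI := ab5_ab.{u}
  (inferInstance : PreservesFiniteLimits ((point p hX hp).sheafFiber (A := AddCommGrpCat.{u + 1})))

theorem preservesFiniteColimits_stalkEtFunctor_ab :
    PreservesFiniteColimits (stalkEtFunctor AddCommGrpCat.{u + 1} p) :=
  (inferInstance : PreservesFiniteColimits ((point p hX hp).sheafFiber (A := AddCommGrpCat.{u + 1})))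

theorem preservesFiniteLimits_stalkEtPshFunctor_ab :
    PreservesFiniteLimits (stalkEtPshFunctor AddCommGrpCat.{u + 1} p) :=
  haveI := ab5_ab.{u}
  (inferInstance : PreservesFiniteLimits ((point p hX hp).presheafFiber (A := AddCommGrpCat.{u + 1})))

theorem preservesFiniteColimits_stalkEtPshFunctor_ab :
    PreservesFiniteColimits (stalkEtPshFunctor AddCommGrpCat.{u + 1} p) :=
  have : PreservesColimitsOfSize.{u, u} ((point p hX hp).presheafFiber (A := AddCommGrpCat.{u + 1})) :=
    inferInstance
  PreservesColimitsOfSize.preservesFiniteColimits.{u, u} ((point p hX hp).presheafFiber (A := AddCommGrpCat.{u + 1}))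

theorem isIso_stalkEtPshFunctor_map_toSheafify (P : (EtOver X)ᵒᵖ ⥤ Type (u + 1)) :
    IsIso ((stalkEtPshFunctor (Type (u + 1)) p).map (toSheafify (etTop X) P)) := by
  have h := (point p hX hp).W_isInvertedBy_presheafFiber' (A := Type (u + 1))
  exact h _ (GrothendieckTopology.W_toSheafify _ _)

end Groth.Agent.Lib.H69EtStalk

namespace Groth.Agent.Lib.H69EtStalk

open AlgSp Groth.Agent.Lib.H69EtPoint

variable {S : Scheme.{u}} {X : Sp S} (p : FieldPt X) (hX : IsAlgSpace X) (hp : p.IsGeometric)

include hX hp

theorem preservesEpimorphisms_stalkEtFunctor_ab :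
    (stalkEtFunctor AddCommGrpCat.{u + 1} p).PreservesEpimorphisms := by
  have := preservesFiniteColimits_stalkEtFunctor_ab p hX hp
  have h1 : PreservesColimitsOfShape WalkingSpan (stalkEtFunctor AddCommGrpCat.{u + 1} p) :=
    PreservesFiniteColimits.preservesFiniteColimits _
  exact preservesEpimorphisms_of_preservesColimitsOfShape _

theorem preservesMonomorphisms_stalkEtFunctor_ab :
    (stalkEtFunctor AddCommGrpCat.{u + 1} p).PreservesMonomorphisms := by
  have := preservesFiniteLimits_stalkEtFunctor_ab p hX hp
  have h1 : PreservesLimitsOfShape WalkingCospan (stalkEtFunctor AddCommGrpCat.{u + 1} p) :=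
    PreservesFiniteLimits.preservesFiniteLimits _
  exact preservesMonomorphisms_of_preservesLimitsOfShape _

theorem preservesEpimorphisms_stalkEtFunctor_type :
    (stalkEtFunctor (Type (u + 1)) p).PreservesEpimorphisms := by
  have := preservesFiniteColimits_stalkEtFunctor_type p hX hp
  have h1 : PreservesColimitsOfShape WalkingSpan (stalkEtFunctor (Type (u + 1)) p) :=
    PreservesFiniteColimits.preservesFiniteColimits _
  exact preservesEpimorphisms_of_preservesColimitsOfShape _

theorem preservesMonomorphisms_stalkEtFunctor_type :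
    (stalkEtFunctor (Type (u + 1)) p).PreservesMonomorphisms := by
  have := preservesFiniteLimits_stalkEtFunctor_type p hX hp
  have h1 : PreservesLimitsOfShape WalkingCospan (stalkEtFunctor (Type (u + 1)) p) :=
    PreservesFiniteLimits.preservesFiniteLimits _
  exact preservesMonomorphisms_of_preservesLimitsOfShape _

end Groth.Agent.Lib.H69EtStalk
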