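import Groth.Agent.Lib.H69EtStalkCons
import Mathlib.Algebra.Homology.ShortComplex.ExactFunctor
import Mathlib.Algebra.Homology.ShortComplex.Ab

/-!
# helper69: exactness of complexes of abelian sheaves on the small etale site is detected on geometric stalks (S10221)
-/

set_option autoImplicit false
universe u
open CategoryTheory CategoryTheory.Limits AlgebraicGeometry Opposite

namespace Groth.Agent.Lib.H69EtStalkAb

open AlgSp Groth.Agent.Lib.H69EtPoint Groth.Agent.Lib.H69EtStalk Groth.Agent.Lib.H69EtStalkCons

variable {S : Scheme.{u}} {X : Sp S}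

theorem pfc_ab : PreservesFilteredColimitsOfSize.{u, u} (forget AddCommGrpCat.{u + 1}) :=
  preservesFilteredColimitsOfSize_of_univLE.{u + 1, u + 1, u, u} (forget AddCommGrpCat.{u + 1})

/-- A morphism of abelian sheaves that is surjective on all geometric stalks is an epimorphism. -/
theorem epi_of_stalk_surjective (hX : IsAlgSpace X) {F G : AbEt X} (a : F ⟶ G)
    (h : ∀ (p : FieldPt X) (_ : p.IsGeometric),
      Function.Surjective ((stalkEtFunctor AddCommGrpCat.{u + 1} p).map a)) : Epi a := by
  have := pfc_ab.{u}
  have h1 : Presheaf.IsLocallySurjective (etTop X) a.hom :=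
    isLocallySurjective_of_stalk_surjective hX a.hom fun p hp => h p hp
  have h2 : Sheaf.IsLocallySurjective a := h1
  exact Sheaf.epi_of_isLocallySurjective a

section

variable (p : FieldPt X) (hX : IsAlgSpace X) (hp : p.IsGeometric)

include hX hp

theorem additive_stalkEtFunctor_ab : (stalkEtFunctor AddCommGrpCat.{u + 1} p).Additive := by
  have := preservesFiniteLimits_stalkEtFunctor_ab p hX hp
  have : (stalkEtFunctor AddCommGrpCat.{u + 1} p).PreservesZeroMorphisms :=
    (inferInstance : ((point p hX hp).sheafFiber (A := AddCommGrpCat.{u + 1})).PreservesZeroMorphisms)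
  have : PreservesLimitsOfShape (Discrete WalkingPair) (stalkEtFunctor AddCommGrpCat.{u + 1} p) :=
    PreservesFiniteLimits.preservesFiniteLimits _
  exact Functor.additive_of_preserves_binary_products _

theorem preservesZeroMorphisms_stalkEtFunctor_ab :
    (stalkEtFunctor AddCommGrpCat.{u + 1} p).PreservesZeroMorphisms :=
  (inferInstance : ((point p hX hp).sheafFiber (A := AddCommGrpCat.{u + 1})).PreservesZeroMorphisms)

end

/-- A short complex of abelian sheaves is exact iff it is exact on all geometric stalks. -/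
theorem exact_iff_stalk_exact (hX : IsAlgSpace X) (C : ShortComplex (AbEt X)) :
    C.Exact ↔ ∀ (p : FieldPt X) (_ : p.IsGeometric),
      ∀ y : ↥((stalkEtFunctor AddCommGrpCat.{u + 1} p).obj C.X₂),
        ((stalkEtFunctor AddCommGrpCat.{u + 1} p).map C.g) y = 0 →
          ∃ x : ↥((stalkEtFunctor AddCommGrpCat.{u + 1} p).obj C.X₁),
            ((stalkEtFunctor AddCommGrpCat.{u + 1} p).map C.f) x = y := by
  have key : ∀ (p : FieldPt X) (hp : p.IsGeometric),
      ∃ (_ : (stalkEtFunctor AddCommGrpCat.{u + 1} p).PreservesZeroMorphisms)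
        (_ : (stalkEtFunctor AddCommGrpCat.{u + 1} p).PreservesHomology), True := by
    intro p hp
    have hz := preservesZeroMorphisms_stalkEtFunctor_ab p hX hp
    have := additive_stalkEtFunctor_ab p hX hp
    have hlc : PreservesFiniteLimits (stalkEtFunctor AddCommGrpCat.{u + 1} p) ∧
        PreservesFiniteColimits (stalkEtFunctor AddCommGrpCat.{u + 1} p) :=
      And.intro (preservesFiniteLimits_stalkEtFunctor_ab p hX hp) (preservesFiniteColimits_stalkEtFunctor_ab p hX hp)
    have hph : (stalkEtFunctor AddCommGrpCat.{u + 1} p).PreservesHomology :=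
      ((Functor.exact_tfae (stalkEtFunctor AddCommGrpCat.{u + 1} p)).out 3 2).1 hlc
    exact ⟨hz, hph, trivial⟩
  constructor
  · intro hC p hp
    obtain ⟨hz, hph, -⟩ := key p hp
    have h1 : (C.map (stalkEtFunctor AddCommGrpCat.{u + 1} p)).Exact := hC.map _
    exact (ShortComplex.ab_exact_iff _).1 h1
  · intro h
    rw [ShortComplex.exact_iff_epi_toCycles]
    refine epi_of_stalk_surjective hX _ fun p hp => ?_
    obtain ⟨hz, hph, -⟩ := key p hp
    have := preservesMonomorphisms_stalkEtFunctor_ab p hX hp
    have h0 : (C.map (stalkEtFunctor AddCommGrpCat.{u + 1} p)).Exact :=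
      (ShortComplex.ab_exact_iff _).2 (h p hp)
    have h1 : Epi (C.map (stalkEtFunctor AddCommGrpCat.{u + 1} p)).toCycles :=
      (ShortComplex.exact_iff_epi_toCycles _).1 h0
    have h2 : (C.map (stalkEtFunctor AddCommGrpCat.{u + 1} p)).toCycles ≫
        (C.mapCyclesIso (stalkEtFunctor AddCommGrpCat.{u + 1} p)).hom =
        (stalkEtFunctor AddCommGrpCat.{u + 1} p).map C.toCycles := by
      have hm : Mono ((stalkEtFunctor AddCommGrpCat.{u + 1} p).map C.iCycles) := Functor.map_mono _ _
      have e1 := ShortComplex.toCycles_i (C.map (stalkEtFunctor AddCommGrpCat.{u + 1} p))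
      have e2 : (stalkEtFunctor AddCommGrpCat.{u + 1} p).map C.toCycles ≫
          (stalkEtFunctor AddCommGrpCat.{u + 1} p).map C.iCycles =
          (stalkEtFunctor AddCommGrpCat.{u + 1} p).map C.f := by
        rw [← Functor.map_comp, ShortComplex.toCycles_i]
      have e3 := ShortComplex.mapCyclesIso_hom_iCycles C (stalkEtFunctor AddCommGrpCat.{u + 1} p)
      apply (cancel_mono ((stalkEtFunctor AddCommGrpCat.{u + 1} p).map C.iCycles)).1
      exact (Category.assoc _ _ _).trans ((congrArg (fun k =>
        (C.map (stalkEtFunctor AddCommGrpCat.{u + 1} p)).toCycles ≫ k) e3).trans (e1.trans e2.symm))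
    have h3 : Epi ((stalkEtFunctor AddCommGrpCat.{u + 1} p).map C.toCycles) := by
      rw [← h2]
      exact @epi_comp _ _ _ _ _ _ h1 _ inferInstance
    exact (AddCommGrpCat.epi_iff_surjective _).1 h3

end Groth.Agent.Lib.H69EtStalkAb
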