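import Groth.Agent.Lib.WeaklyEtaleStrictHens61
import Groth.Agent.Lib.HenselQFLocalization61
import Groth.Agent.Lib.HenselTransfer22
import Groth.Agent.Lib.StrictHenselizationTransport61

/-!
# helper69: strict henselizations and universe lifts

If `Rh` is a strict henselization of `R` (both in `Type u`) then `ULift Rh` is a strict henselization of `ULift R` (in
`Type (u + 1)`); hence every strict henselization of `ULift R` living in `Type (u + 1)` is isomorphic to `Rh`.
-/

set_option autoImplicit false
set_option linter.style.haveILetI false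
universe u

namespace Groth.Agent.Lib.H69ShULift

open IsLocalRing

attribute [local instance] ULift.algebra'

theorem isLocalRing_ulift (R : Type u) [CommRing R] [IsLocalRing R] : IsLocalRing (ULift.{u + 1} R) :=
  (ULift.ringEquiv.symm : R ≃+* ULift.{u + 1} R).isLocalRing

variable (R : Type u) [CommRing R] [IsLocalRing R] (Rh : Type u) [CommRing Rh] [IsLocalRing Rh]
  [Algebra R Rh] [IsLocalHom (algebraMap R Rh)] [hS : Hensel.IsStrictHenselization R Rh]

theorem isLocalHom_ulift : IsLocalHom (algebraMap (ULift.{u + 1} R) (ULift.{u + 1} Rh)) := by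
  refine ⟨fun r hr => ?_⟩
  have h1 : IsUnit (algebraMap R Rh r.down) :=
    hr.map (ULift.ringEquiv : ULift.{u + 1} Rh ≃+* Rh)
  have h2 : IsUnit r.down := isUnit_of_map_unit (algebraMap R Rh) _ h1
  exact h2.map (ULift.ringEquiv.symm : R ≃+* ULift.{u + 1} R)

/-- the universe lift of a strict henselization is a strict henselization of the universe lift -/
theorem isStrictHenselization_ulift :
    @Hensel.IsStrictHenselization (ULift.{u + 1} R) (ULift.{u + 1} Rh) _ (isLocalRing_ulift R) _
      (isLocalRing_ulift Rh) inferInstance (isLocalHom_ulift R Rh) := by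
  haveI := isLocalRing_ulift R
  haveI := isLocalRing_ulift Rh
  haveI : HenselianLocalRing Rh := hS.henselian
  haveI hens : HenselianLocalRing (ULift.{u + 1} Rh) :=
    Groth.Agent.Lib.HenselTransfer22.henselianLocalRing_of_ringEquiv (ULift.ringEquiv : ULift.{u + 1} Rh ≃+* Rh)
  haveI : IsSepClosed (ResidueField Rh) := hS.isSepClosure.sep_closed
  haveI : IsSepClosed (ResidueField (ULift.{u + 1} Rh)) :=
    Groth.Agent.Lib.StrictHenselizationTransport61.isSepClosed_of_ringEquiv
      (ResidueField.mapEquiv (ULift.ringEquiv.symm : Rh ≃+* ULift.{u + 1} Rh))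
  haveI := isLocalHom_ulift R Rh
  haveI : Algebra.WeaklyEtale R Rh :=
    Groth.Agent.Lib.HznWeaklyEtale96.weaklyEtale_of_isStrictHenselization R Rh
  haveI : Algebra.WeaklyEtale (ULift.{u + 1} R) (ULift.{u + 1} Rh) := Algebra.WeaklyEtale.ulift_iff.2 inferInstance
  haveI : Hensel.IsStrictHenselization (ULift.{u + 1} Rh) (ULift.{u + 1} Rh) :=
    Groth.Agent.Lib.HenselQFLocalization61.isStrictHenselization_self _
  exact Groth.Agent.Lib.WeaklyEtaleStrictHens61.isStrictHenselization_of_weaklyEtale (ULift.{u + 1} R)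
    (ULift.{u + 1} Rh) (ULift.{u + 1} Rh)

/-- a strict henselization of `ULift R` one universe up is isomorphic to any strict henselization of `R` -/
theorem exists_ringEquiv (S : Type (u + 1)) [CommRing S] [IsLocalRing S] [IsLocalRing (ULift.{u + 1} R)]
    [Algebra (ULift.{u + 1} R) S] [IsLocalHom (algebraMap (ULift.{u + 1} R) S)]
    [Hensel.IsStrictHenselization (ULift.{u + 1} R) S] :
    ∃ e : S ≃+* Rh, ∀ r : R, e (algebraMap (ULift.{u + 1} R) S (ULift.up r)) = algebraMap R Rh r := by
  haveI := isLocalRing_ulift Rh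
  haveI := isLocalHom_ulift R Rh
  haveI := isStrictHenselization_ulift R Rh
  let e₁ := Groth.Agent.Lib.StrictHenselization.equivSh (ULift.{u + 1} R) S
  let e₂ := Groth.Agent.Lib.StrictHenselization.equivSh (ULift.{u + 1} R) (ULift.{u + 1} Rh)
  refine ⟨(e₁.trans e₂.symm).toRingEquiv.trans (ULift.ringEquiv : ULift.{u + 1} Rh ≃+* Rh), fun r => ?_⟩
  have h1 : (e₁.trans e₂.symm) (algebraMap (ULift.{u + 1} R) S (ULift.up r)) =
      algebraMap (ULift.{u + 1} R) (ULift.{u + 1} Rh) (ULift.up r) := AlgEquiv.commutes _ _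
  change ((e₁.trans e₂.symm) (algebraMap (ULift.{u + 1} R) S (ULift.up r))).down = _
  rw [h1]
  rfl

end Groth.Agent.Lib.H69ShULift
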