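import Groth.Agent.Lib.H69EtStalkProps3
import Groth.Agent.Lib.H69ShULift
import Groth.Agent.Lib.H69MinPrimes
import Groth.Agent.Lib.GeomUnibranchEquiv96
import Groth.Agent.S2135
import Groth.Agent.S9238

/-!
# helper69: minimal primes of the etale local ring of an algebraic space at a geometric point and geometric branches of
the local rings of etale charts (S10227, S10239)
-/

set_option autoImplicit false
set_option linter.style.haveILetI false
universe u
open CategoryTheory CategoryTheory.Limits AlgebraicGeometry Opposite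

namespace Groth.Agent.Lib.H69EtStalkBranch

open AlgSp Groth.Agent.Lib.H69EtPoint Groth.Agent.Lib.H69EtStalk Groth.Agent.Lib.H69EtStalkCons
  Groth.Agent.Lib.H69EtStalkRing Groth.Agent.Lib.H69EtNbhd Groth.Agent.Lib.H69EtLocalRing
  Groth.Agent.Lib.H69EtStalkSh Groth.Agent.Lib.H69EtStalkProps Groth.Agent.Lib.StrictHenselization

variable {S : Scheme.{u}} {X : Sp S} (p : FieldPt X) (hX : IsAlgSpace X) (hp : p.IsGeometric)

section Affine

variable {E₀ : EtOver X} (l₀ : (FieldPt.liftsTo p).obj E₀) [IsAffine E₀.obj.left.left]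

include hX hp in
/-- the etale local ring at a geometric point is isomorphic to the (small) strict henselization of the local ring of an affine
etale chart at the image point, compatibly with the maps from that local ring -/
theorem exists_ringEquiv_Sh :
    ∃ e : ↥(OEtStalk p) ≃+* Sh ↥(E₀.obj.left.left.presheaf.stalk (lpt p l₀)),
      ∀ r, e (stalkTo p hX hp l₀ r) = algebraMap _ (Sh ↥(E₀.obj.left.left.presheaf.stalk (lpt p l₀))) r := by
  haveI := isLocalRing_RUp p l₀
  haveI := isLocalRing p hX hp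
  letI := (stalkToUp p hX hp l₀).toAlgebra
  haveI : IsLocalHom (algebraMap (RUp p l₀) ↥(OEtStalk p)) := isLocalHom_stalkToUp p hX hp l₀
  haveI := isStrictHenselization p hX hp l₀
  obtain ⟨e, he⟩ := Groth.Agent.Lib.H69ShULift.exists_ringEquiv ↥(E₀.obj.left.left.presheaf.stalk (lpt p l₀))
    (Sh ↥(E₀.obj.left.left.presheaf.stalk (lpt p l₀))) ↥(OEtStalk p)
  exact ⟨e, fun r => he r⟩

include hX hp in
theorem stalkTo_injective : Function.Injective (stalkTo p hX hp l₀) := by
  obtain ⟨e, he⟩ := exists_ringEquiv_Sh p hX hp l₀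
  have hff := faithfullyFlat_of_isStrictHenselization ↥(E₀.obj.left.left.presheaf.stalk (lpt p l₀))
    (Sh ↥(E₀.obj.left.left.presheaf.stalk (lpt p l₀)))
  have hinj : Function.Injective (algebraMap ↥(E₀.obj.left.left.presheaf.stalk (lpt p l₀))
      (Sh ↥(E₀.obj.left.left.presheaf.stalk (lpt p l₀)))) := FaithfulSMul.algebraMap_injective _ _
  intro a b hab
  apply hinj
  rw [← he, ← he, hab]

include hX hp in
theorem hasUniqueMinimalPrime_OEtStalk_iff_affine :
    CAlgX.HasUniqueMinimalPrime ↥(OEtStalk p) ↔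
      CAlg2.IsGeomUnibranch ↥(E₀.obj.left.left.presheaf.stalk (lpt p l₀)) := by
  obtain ⟨e, -⟩ := exists_ringEquiv_Sh p hX hp l₀
  rw [Groth.Agent.Lib.H69MinPrimes.hasUniqueMinimalPrime_iff_of_ringEquiv e]
  exact (Groth.Agent.S2135.result (A := ↥(E₀.obj.left.left.presheaf.stalk (lpt p l₀)))
    (Ash := Sh ↥(E₀.obj.left.left.presheaf.stalk (lpt p l₀)))).symm

include hX hp in
theorem encard_minimalPrimes_OEtStalk_affine :
    (minimalPrimes ↥(OEtStalk p)).encard = Brnch.numGeomBranchesAt E₀.obj.left.left (lpt p l₀) := by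
  obtain ⟨e, -⟩ := exists_ringEquiv_Sh p hX hp l₀
  rw [Groth.Agent.Lib.H69MinPrimes.encard_minimalPrimes_of_ringEquiv e]
  exact Groth.Agent.S9238.result ↥(E₀.obj.left.left.presheaf.stalk (lpt p l₀))
    (Sh ↥(E₀.obj.left.left.presheaf.stalk (lpt p l₀)))

end Affine

/-- the number of geometric branches is invariant under ring isomorphisms -/
theorem numGeomBranches_eq_of_ringEquiv {R R' : Type u} [CommRing R] [IsLocalRing R] [CommRing R'] [IsLocalRing R']
    (e : R' ≃+* R) : Brnch.numGeomBranches R' = Brnch.numGeomBranches R := by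
  let _ : Algebra R' (Sh R) := ((algebraMap R (Sh R)).comp (e : R' →+* R)).toAlgebra
  have he : ∀ x, algebraMap R' (Sh R) x = algebraMap R (Sh R) (e x) := fun _ => rfl
  have h1 : IsLocalHom (algebraMap R' (Sh R)) := Groth.Agent.Lib.GeomUnibranchEquiv96.isLocalHom_of_ringEquiv e he
  have h2 : Hensel.IsStrictHenselization R' (Sh R) :=
    Groth.Agent.Lib.GeomUnibranchEquiv96.isStrictHenselization_of_ringEquiv e he
  rw [← Groth.Agent.S9238.result R' (Sh R), ← Groth.Agent.S9238.result R (Sh R)]

include hX hp in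
theorem hasUniqueMinimalPrime_OEtStalk_iff {Y : EtOver X} (y : (FieldPt.liftsTo p).obj Y) :
    CAlgX.HasUniqueMinimalPrime ↥(OEtStalk p) ↔
      CAlg2.IsGeomUnibranch ↥(Y.obj.left.left.presheaf.stalk (lpt p y)) := by
  obtain ⟨E₀, hE₀, l₀, ⟨e⟩⟩ := exists_affine_stalk_equiv p y
  rw [hasUniqueMinimalPrime_OEtStalk_iff_affine p hX hp l₀]
  exact (Groth.Agent.Lib.GeomUnibranchEquiv96.isGeomUnibranch_iff_of_ringEquiv e).symm

include hX hp in
theorem encard_minimalPrimes_OEtStalk {Y : EtOver X} (y : (FieldPt.liftsTo p).obj Y) :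
    (minimalPrimes ↥(OEtStalk p)).encard = Brnch.numGeomBranchesAt Y.obj.left.left (lpt p y) := by
  obtain ⟨E₀, hE₀, l₀, ⟨e⟩⟩ := exists_affine_stalk_equiv p y
  rw [encard_minimalPrimes_OEtStalk_affine p hX hp l₀]
  exact (numGeomBranches_eq_of_ringEquiv e).symm

include hX hp in
/-- if the nilradical of the local ring of every affine etale neighbourhood at the image point is prime, so is that of the
etale local ring -/
theorem isPrime_nilradical_OEtStalk
    (h : ∀ (E : EtOver X) (_ : IsAffine E.obj.left.left) (l : (FieldPt.liftsTo p).obj E),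
      (nilradical ↥(E.obj.left.left.presheaf.stalk (lpt p l))).IsPrime) :
    (nilradical ↥(OEtStalk p)).IsPrime := by
  obtain ⟨E₀, hE₀, l₀, -⟩ := exists_affine_lift p hX hp
  haveI := nontrivial p hX hp
  rw [Ideal.isPrime_iff]
  refine ⟨fun htop => ?_, fun {a b} hab => ?_⟩
  · have h1 : (1 : ↥(OEtStalk p)) ∈ nilradical ↥(OEtStalk p) := htop ▸ Submodule.mem_top
    rw [mem_nilradical] at h1
    obtain ⟨n, hn⟩ := h1
    rw [one_pow] at hn
    exact one_ne_zero hn
  · obtain ⟨i, hi⟩ := exists_affOver_fin (l₀ := l₀) hX hp 2 ![a, b]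
    obtain ⟨ca, hca⟩ := hi 0
    obtain ⟨cb, hcb⟩ := hi 1
    haveI := i.aff
    have hca' : germR p i.l ca = a := hca
    have hcb' : germR p i.l cb = b := hcb
    have ha : stalkTo p hX hp i.l (i.E.obj.left.left.presheaf.germ ⊤ (lpt p i.l) trivial ca) = a :=
      (stalkTo_germ p hX hp i.l ca).trans hca'
    have hb : stalkTo p hX hp i.l (i.E.obj.left.left.presheaf.germ ⊤ (lpt p i.l) trivial cb) = b :=
      (stalkTo_germ p hX hp i.l cb).trans hcb'
    have hprime := h i.E i.aff i.l
    have hmem : i.E.obj.left.left.presheaf.germ ⊤ (lpt p i.l) trivial ca *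
        i.E.obj.left.left.presheaf.germ ⊤ (lpt p i.l) trivial cb ∈
        nilradical ↥(i.E.obj.left.left.presheaf.stalk (lpt p i.l)) := by
      rw [mem_nilradical] at hab ⊢
      obtain ⟨n, hn⟩ := hab
      refine ⟨n, stalkTo_injective p hX hp i.l ?_⟩
      rw [map_pow, map_mul, ha, hb, hn, map_zero]
    rcases hprime.mem_or_mem hmem with h1 | h1
    · left
      rw [mem_nilradical] at h1 ⊢
      obtain ⟨m, hm⟩ := h1
      exact ⟨m, by rw [← ha, ← map_pow, hm, map_zero]⟩
    · right
      rw [mem_nilradical] at h1 ⊢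
      obtain ⟨m, hm⟩ := h1
      exact ⟨m, by rw [← hb, ← map_pow, hm, map_zero]⟩

end Groth.Agent.Lib.H69EtStalkBranch
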