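import Groth.Agent.Lib.H69EtStalkBranch

/-!
# helper69: counting minimal primes of the etale local ring of an algebraic space against those of the local rings of
etale neighbourhoods (S10239)
-/

set_option autoImplicit false
set_option linter.style.haveILetI false
universe u
open CategoryTheory CategoryTheory.Limits AlgebraicGeometry Opposite

namespace Groth.Agent.Lib.H69EtStalkBranch

open AlgSp Groth.Agent.Lib.H69EtPoint Groth.Agent.Lib.H69EtStalk Groth.Agent.Lib.H69EtStalkCons
  Groth.Agent.Lib.H69EtStalkRing Groth.Agent.Lib.H69EtNbhd Groth.Agent.Lib.H69EtLocalRing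
  Groth.Agent.Lib.H69EtStalkSh Groth.Agent.Lib.H69EtStalkProps Groth.Agent.Lib.StrictHenselization

/-- contraction along a flat ring map sends minimal primes to minimal primes -/
theorem comap_mem_minimalPrimes_of_flat {R : Type*} {T : Type*} [CommRing R] [CommRing T] (f : R →+* T)
    (hf : f.Flat) {Q : Ideal T} (hQ : Q ∈ minimalPrimes T) : Q.comap f ∈ minimalPrimes R := by
  letI := f.toAlgebra
  haveI : Module.Flat R T := hf
  haveI := hQ.1.1
  haveI : (Q.comap f).IsPrime := Ideal.comap_isPrime f Q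
  obtain ⟨q, hq, hqle⟩ := Ideal.exists_minimalPrimes_le (I := (⊥ : Ideal R)) (J := Q.comap f) bot_le
  haveI := hq.1.1
  haveI : Q.LiesOver (Q.comap f) := ⟨rfl⟩
  obtain ⟨P, hPQ, hP, hPq⟩ := Ideal.exists_ideal_le_liesOver_of_le (p := q) (q := Q.comap f) Q hqle
  have hPQ' : P = Q := le_antisymm hPQ (hQ.2 ⟨hP, bot_le⟩ hPQ)
  have h1 : q = Q.comap f := by
    rw [hPq.over, hPQ']
    rfl
  rw [← h1]
  exact hq

variable {S : Scheme.{u}} {X : Sp S} (p : FieldPt X) (hX : IsAlgSpace X) (hp : p.IsGeometric)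

section Affine

variable {E₀ : EtOver X} (l₀ : (FieldPt.liftsTo p).obj E₀) [IsAffine E₀.obj.left.left]

include hX hp in
theorem flat_stalkTo : (stalkTo p hX hp l₀).Flat := by
  obtain ⟨e, he⟩ := exists_ringEquiv_Sh p hX hp l₀
  letI := (stalkTo p hX hp l₀).toAlgebra
  have hff := faithfullyFlat_of_isStrictHenselization ↥(E₀.obj.left.left.presheaf.stalk (lpt p l₀))
    (Sh ↥(E₀.obj.left.left.presheaf.stalk (lpt p l₀)))
  let ea : ↥(OEtStalk p) ≃ₐ[↥(E₀.obj.left.left.presheaf.stalk (lpt p l₀))]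
      Sh ↥(E₀.obj.left.left.presheaf.stalk (lpt p l₀)) := { e with commutes' := he }
  show Module.Flat ↥(E₀.obj.left.left.presheaf.stalk (lpt p l₀)) ↥(OEtStalk p)
  exact Module.Flat.of_linearEquiv ea.toLinearEquiv

include hX hp in
/-- the local ring of an affine etale neighbourhood has at most as many minimal primes as the etale local ring -/
theorem encard_minimalPrimes_stalk_le :
    (minimalPrimes ↥(E₀.obj.left.left.presheaf.stalk (lpt p l₀))).encard ≤ (minimalPrimes ↥(OEtStalk p)).encard := by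
  have h1 := Ideal.minimalPrimes_comap_subset (stalkTo p hX hp l₀) (⊥ : Ideal ↥(OEtStalk p))
  have h0 : Ideal.comap (stalkTo p hX hp l₀) (⊥ : Ideal ↥(OEtStalk p)) = ⊥ :=
    Ideal.comap_bot_of_injective _ (stalkTo_injective p hX hp l₀)
  rw [h0] at h1
  exact (Set.encard_le_encard h1).trans (Set.encard_image_le _ _)

end Affine

include hX hp in
/-- the local ring of any etale neighbourhood has at most as many minimal primes as the etale local ring -/
theorem encard_minimalPrimes_le {Y : EtOver X} (y : (FieldPt.liftsTo p).obj Y) :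
    (minimalPrimes ↥(Y.obj.left.left.presheaf.stalk (lpt p y))).encard ≤ (minimalPrimes ↥(OEtStalk p)).encard := by
  obtain ⟨E₀, hE₀, l₀, ⟨e⟩⟩ := exists_affine_stalk_equiv p y
  rw [Groth.Agent.Lib.H69MinPrimes.encard_minimalPrimes_of_ringEquiv e]
  exact encard_minimalPrimes_stalk_le p hX hp l₀

include hX hp in
/-- finitely many elements of the etale local ring come from a common affine etale neighbourhood -/
theorem exists_affOver_finite {E₀ : EtOver X} (l₀ : (FieldPt.liftsTo p).obj E₀) {ι : Type*} [Finite ι]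
    (s : ι → ↥(OEtStalk p)) : ∃ i : AffOver p l₀, ∀ k, ∃ c, i.γ c = s k := by
  obtain ⟨n, ⟨e⟩⟩ := Finite.exists_equiv_fin ι
  obtain ⟨i, hi⟩ := exists_affOver_fin (l₀ := l₀) hX hp n (fun k => s (e.symm k))
  refine ⟨i, fun k => ?_⟩
  obtain ⟨c, hc⟩ := hi (e k)
  exact ⟨c, by rw [hc, e.symm_apply_apply]⟩

include hX hp in
/-- finitely many minimal primes of the etale local ring are separated by their contractions to the local ring of a suitable
affine etale neighbourhood; these contractions are minimal primes -/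
theorem exists_encard_le_of_finite (F : Set (Ideal ↥(OEtStalk p))) (hF : F.Finite) (hFm : F ⊆ minimalPrimes ↥(OEtStalk p)) :
    ∃ (E : EtOver X) (_ : IsAffine E.obj.left.left) (l : (FieldPt.liftsTo p).obj E),
      F.encard ≤ (minimalPrimes ↥(E.obj.left.left.presheaf.stalk (lpt p l))).encard := by
  classical
  obtain ⟨E₀, hE₀, l₀, -⟩ := exists_affine_lift p hX hp
  haveI : Finite F := hF
  -- separating elements
  have hsep : ∀ P : F × F, ∃ s : ↥(OEtStalk p), P.1.1 ≠ P.2.1 → ¬ (s ∈ P.1.1 ↔ s ∈ P.2.1) := by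
    intro P
    by_cases h : P.1.1 = P.2.1
    · exact ⟨0, fun h' => (h' h).elim⟩
    · by_contra hcon
      push Not at hcon
      apply h
      ext s
      have := hcon s
      exact (this.2)
  choose sep hsepP using hsep
  obtain ⟨i, hi⟩ := exists_affOver_finite p hX hp l₀ sep
  haveI := i.aff
  refine ⟨i.E, i.aff, i.l, ?_⟩
  have hinj : Set.InjOn (Ideal.comap (stalkTo p hX hp i.l)) F := by
    intro Q hQ Q' hQ' hQQ'
    by_contra hne
    obtain ⟨c, hc⟩ := hi (⟨Q, hQ⟩, ⟨Q', hQ'⟩)
    have hc' : germR p i.l c = sep (⟨Q, hQ⟩, ⟨Q', hQ'⟩) := hc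
    have h1 := hsepP (⟨Q, hQ⟩, ⟨Q', hQ'⟩) hne
    apply h1
    rw [← hc', ← stalkTo_germ p hX hp i.l c]
    have h2 : ∀ r, stalkTo p hX hp i.l r ∈ Q ↔ stalkTo p hX hp i.l r ∈ Q' := fun r => by
      have := congrArg (fun I : Ideal _ => r ∈ I) hQQ'
      exact Iff.of_eq this
    exact h2 _
  have hsub : Ideal.comap (stalkTo p hX hp i.l) '' F ⊆
      minimalPrimes ↥(i.E.obj.left.left.presheaf.stalk (lpt p i.l)) := by
    rintro _ ⟨Q, hQ, rfl⟩
    exact comap_mem_minimalPrimes_of_flat _ (flat_stalkTo p hX hp i.l) (hFm hQ)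
  rw [← hinj.encard_image]
  exact Set.encard_le_encard hsub

end Groth.Agent.Lib.H69EtStalkBranch
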