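import Groth.Agent.Lib.H69EtStalk
import Groth.Agent.Lib.AlgSpPoints

/-!
# helper69: geometric points of an algebraic space are enough: germs detect equality of sections
-/

set_option autoImplicit false
set_option linter.style.haveILetI false
universe u
open CategoryTheory CategoryTheory.Limits AlgebraicGeometry Opposite

namespace Groth.Agent.Lib.H69EtStalkCons

open AlgSp Groth.Agent.Lib.H69EtPoint Groth.Agent.Lib.AlgSpPoints

variable {S : Scheme.{u}} {X : Sp S}

section GeomPt

variable (E : EtOver X) (e : ↥E.obj.left.left)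

/-- The morphism from the spectrum of an algebraic closure of the residue field. -/
noncomputable def geomSpec : Spec (CommRingCat.of (AlgebraicClosure (E.obj.left.left.residueField e))) ⟶ E.obj.left.left :=
  Spec.map (CommRingCat.ofHom (algebraMap (E.obj.left.left.residueField e)
    (AlgebraicClosure (E.obj.left.left.residueField e)))) ≫ E.obj.left.left.fromSpecResidueField e

/-- The geometric point through `e`, as a morphism over `S`. -/
noncomputable def geomOver : Over.mk (geomSpec E e ≫ E.obj.left.hom) ⟶ E.obj.left := Over.homMk (geomSpec E e) rfl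

/-- A geometric point of `X` lying over the image of the point `e` of a chart. -/
noncomputable def geomPt : FieldPt X where
  K := AlgebraicClosure (E.obj.left.left.residueField e)
  str := geomSpec E e ≫ E.obj.left.hom
  val := (J S).uliftYonedaEquiv ((yon S).map (geomOver E e) ≫ E.obj.hom)

theorem geomPt_isGeometric : (geomPt E e).IsGeometric :=
  (inferInstance : IsAlgClosed (AlgebraicClosure (E.obj.left.left.residueField e)))

theorem geomPt_toHom : (geomPt E e).toHom = (yon S).map (geomOver E e) ≫ E.obj.hom :=
  Equiv.symm_apply_apply _ _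

/-- The tautological lift of the geometric point to the chart. -/
noncomputable def geomLift : (FieldPt.liftsTo (geomPt E e)).obj E := ⟨geomOver E e, (geomPt_toHom E e).symm⟩

theorem geomLift_apply (t : ↥(geomPt E e).pt.left) : (geomLift E e).1.left t = e := by
  change (geomSpec E e) t = e
  unfold geomSpec
  rw [Scheme.Hom.comp_apply]
  exact Scheme.fromSpecResidueField_apply _ _

end GeomPt

/-- The image in `|X|` of the point of a chart hit by a lift of `p` is the class of `p`. -/
theorem ofPt_lift (p : FieldPt X) {E : EtOver X} (l : (FieldPt.liftsTo p).obj E) (t : ↥p.pt.left) :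
    Points.ofPt E.obj.hom (l.1.left t) = Points.mk p := by
  rw [← ofPt_yon_map_comp, l.2]
  exact ofPt_fieldPtHom p t

theorem mk_geomPt (E : EtOver X) (e : ↥E.obj.left.left) : Points.mk (geomPt E e) = Points.ofPt E.obj.hom e := by
  have := ofPt_lift (geomPt E e) (geomLift E e) (IsLocalRing.closedPoint (geomPt E e).K : PrimeSpectrum _)
  rw [geomLift_apply] at this
  exact this.symm

/-- The range of a morphism of the site contains the image of the closed point under any lift that factors. -/
theorem mem_range_of_lift (p : FieldPt X) {Y E : EtOver X} (f : Y ⟶ E) (y : (FieldPt.liftsTo p).obj Y)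
    (t : ↥p.pt.left) : ((FieldPt.liftsTo p).map f y).1.left t ∈ Set.range f.hom.left.left :=
  ⟨y.1.left t, rfl⟩

end Groth.Agent.Lib.H69EtStalkCons

namespace Groth.Agent.Lib.H69EtStalkCons

open AlgSp Groth.Agent.Lib.H69EtPoint Groth.Agent.Lib.AlgSpPoints

universe w' v' u'

variable {S : Scheme.{u}} {X : Sp S}

section Germs

variable {A : Type u'} [Category.{v'} A] [HasColimitsOfSize.{u, u} A]
  {FC : A → A → Type*} {CC : A → Type w'} [∀ X Y, FunLike (FC X Y) (CC X) (CC Y)] [ConcreteCategory.{w'} A FC]
  [PreservesFilteredColimitsOfSize.{u, u} (forget A)]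

/-- Two sections with the same germs at all geometric points have the same restrictions to a covering. -/
theorem exists_cover_of_forall_germ_eq (hX : IsAlgSpace X) (P : (EtOver X)ᵒᵖ ⥤ A) {E : EtOver X}
    (s t : ToType (P.obj (op E)))
    (h : ∀ (p : FieldPt X) (hp : p.IsGeometric) (x : (FieldPt.liftsTo p).obj E),
      (point p hX hp).toPresheafFiber E x P s = (point p hX hp).toPresheafFiber E x P t) :
    ∃ (Y : ↥E.obj.left.left → EtOver X) (f : ∀ e, Y e ⟶ E),
      (∀ e, e ∈ Set.range (f e).hom.left.left) ∧ ∀ e, P.map (f e).op s = P.map (f e).op t := by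
  have key : ∀ e : ↥E.obj.left.left, ∃ (Y : EtOver X) (f : Y ⟶ E),
      e ∈ Set.range f.hom.left.left ∧ P.map f.op s = P.map f.op t := by
    intro e
    have h1 := h (geomPt E e) (geomPt_isGeometric E e) (geomLift E e)
    rw [GrothendieckTopology.Point.toPresheafFiber_eq_iff'] at h1
    obtain ⟨Y, f, y, hy, hst⟩ := h1
    refine ⟨Y, f, ?_, hst⟩
    have h2 := mem_range_of_lift (geomPt E e) f y (IsLocalRing.closedPoint (geomPt E e).K : PrimeSpectrum _)
    have h3 : (FieldPt.liftsTo (geomPt E e)).map f y = geomLift E e := hy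
    rw [h3, geomLift_apply] at h2
    exact h2
  choose Y f hf hst using key
  exact ⟨Y, f, hf, hst⟩

/-- Sections of a separated presheaf with the same germs at all geometric points are equal. -/
theorem eq_of_forall_germ_eq (hX : IsAlgSpace X) (P : (EtOver X)ᵒᵖ ⥤ A)
    (hsep : Presieve.IsSeparated (etTop X) (P ⋙ forget A)) {E : EtOver X}
    (s t : ToType (P.obj (op E)))
    (h : ∀ (p : FieldPt X) (hp : p.IsGeometric) (x : (FieldPt.liftsTo p).obj E),
      (point p hX hp).toPresheafFiber E x P s = (point p hX hp).toPresheafFiber E x P t) : s = t := by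
  obtain ⟨Y, f, hf, hst⟩ := exists_cover_of_forall_germ_eq hX P s t h
  have hcov : Sieve.ofArrows Y f ∈ etTop X E := ofArrows_mem_etTop Y f (fun e => ⟨e, hf e⟩)
  refine (hsep _ hcov).ext ?_
  rintro Z g ⟨W, a, b, ⟨e⟩, rfl⟩
  change (P ⋙ forget A).map (a ≫ f e).op s = (P ⋙ forget A).map (a ≫ f e).op t
  rw [op_comp, Functor.map_comp]
  change (P ⋙ forget A).map a.op ((P.map (f e).op) s) = (P ⋙ forget A).map a.op ((P.map (f e).op) t)
  rw [hst e]

end Germs

end Groth.Agent.Lib.H69EtStalkCons

namespace Groth.Agent.Lib.H69EtStalkCons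

open AlgSp Groth.Agent.Lib.H69EtPoint Groth.Agent.Lib.AlgSpPoints Groth.Agent.Lib.H69EtNbhd

universe w' v' u'

variable {S : Scheme.{u}} {X : Sp S}

section LocSurj

variable {A : Type u'} [Category.{v'} A] [HasColimitsOfSize.{u, u} A]
  {FC : A → A → Type*} {CC : A → Type w'} [∀ X Y, FunLike (FC X Y) (CC X) (CC Y)] [ConcreteCategory.{w'} A FC]
  [PreservesFilteredColimitsOfSize.{u, u} (forget A)]

/-- A morphism of presheaves that is surjective on stalks at all geometric points is locally surjective. -/
theorem isLocallySurjective_of_stalk_surjective (hX : IsAlgSpace X) {P Q : (EtOver X)ᵒᵖ ⥤ A} (f : P ⟶ Q)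
    (h : ∀ (p : FieldPt X) (hp : p.IsGeometric), Function.Surjective ((point p hX hp).presheafFiber.map f)) :
    Presheaf.IsLocallySurjective (etTop X) f := by
  constructor
  intro E t
  have key : ∀ e : ↥E.obj.left.left, ∃ (Y : EtOver X) (φ : Y ⟶ E),
      e ∈ Set.range φ.hom.left.left ∧ (Presheaf.imageSieve f t) φ := by
    intro e
    set p := geomPt E e with hpdef
    have hp : p.IsGeometric := geomPt_isGeometric E e
    set x := geomLift E e with hxdef
    obtain ⟨σ, hσ⟩ := h p hp ((point p hX hp).toPresheafFiber E x Q t)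
    obtain ⟨V, v, s, rfl⟩ := (point p hX hp).toPresheafFiber_jointly_surjective σ
    rw [GrothendieckTopology.Point.toPresheafFiber_naturality_apply] at hσ
    -- common refinement
    have hα : (FieldPt.liftsTo p).map (EtOver.prodFst V E) (prodLift p v x) = v := map_prodFst_prodLift p v x
    have hβ : (FieldPt.liftsTo p).map (EtOver.prodSnd V E) (prodLift p v x) = x := map_prodSnd_prodLift p v x
    have h1 := (point p hX hp).toPresheafFiber_w_apply (EtOver.prodFst V E) (prodLift p v x) Q (f.app _ s)
    have h2 := (point p hX hp).toPresheafFiber_w_apply (EtOver.prodSnd V E) (prodLift p v x) Q t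
    change (point p hX hp).toPresheafFiber _ (prodLift p v x) Q _ =
      (point p hX hp).toPresheafFiber _ ((FieldPt.liftsTo p).map (EtOver.prodFst V E) (prodLift p v x)) Q _ at h1
    change (point p hX hp).toPresheafFiber _ (prodLift p v x) Q _ =
      (point p hX hp).toPresheafFiber _ ((FieldPt.liftsTo p).map (EtOver.prodSnd V E) (prodLift p v x)) Q _ at h2
    rw [hα] at h1
    rw [hβ] at h2
    rw [← h1, ← h2, GrothendieckTopology.Point.toPresheafFiber_eq_iff'] at hσ
    obtain ⟨Y, g, y, hy, hst⟩ := hσ
    refine ⟨Y, g ≫ EtOver.prodSnd V E, ?_, ?_⟩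
    · have h3 := mem_range_of_lift p (g ≫ EtOver.prodSnd V E) y (IsLocalRing.closedPoint p.K : PrimeSpectrum _)
      have h4 : (FieldPt.liftsTo p).map (g ≫ EtOver.prodSnd V E) y = x := by
        rw [Functor.map_comp]
        change (FieldPt.liftsTo p).map (EtOver.prodSnd V E) ((FieldPt.liftsTo p).map g y) = x
        have hy' : (FieldPt.liftsTo p).map g y = prodLift p v x := hy
        rw [hy', hβ]
      rw [h4, hxdef, geomLift_apply] at h3
      exact h3
    · refine ⟨P.map (g ≫ EtOver.prodFst V E).op s, ?_⟩
      have n1 := NatTrans.naturality_apply f (g ≫ EtOver.prodFst V E).op s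
      rw [n1, op_comp, op_comp, Functor.map_comp, Functor.map_comp, ConcreteCategory.comp_apply,
        ConcreteCategory.comp_apply]
      exact hst
  choose Y φ hφ hmem using key
  have hcov : Sieve.ofArrows Y φ ∈ etTop X E := ofArrows_mem_etTop Y φ (fun e => ⟨e, hφ e⟩)
  refine (etTop X).superset_covering ?_ hcov
  rintro Z g ⟨W, a, b, ⟨e⟩, rfl⟩
  exact (Presheaf.imageSieve f t).downward_closed (hmem e) a

end LocSurj

end Groth.Agent.Lib.H69EtStalkCons

namespace Groth.Agent.Lib.H69EtStalkCons

open AlgSp Groth.Agent.Lib.H69EtPoint Groth.Agent.Lib.AlgSpPoints Groth.Agent.Lib.H69EtNbhd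
  Groth.Agent.Lib.H69EtStalk

variable {S : Scheme.{u}} {X : Sp S}

section Sets

variable (hX : IsAlgSpace X) {F G : EtSh X (Type (u + 1))} (a : F ⟶ G)

include hX

theorem mono_iff_stalk_injective :
    Mono a ↔ ∀ p : FieldPt X, p.IsGeometric → Function.Injective ((stalkEtFunctor (Type (u + 1)) p).map a) := by
  constructor
  · intro ha p hp
    have := preservesMonomorphisms_stalkEtFunctor_type p hX hp
    have h1 : Mono ((stalkEtFunctor (Type (u + 1)) p).map a) := Functor.map_mono _ a
    exact (mono_iff_injective _).1 h1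
  · intro h
    have hsep : Presieve.IsSeparated (etTop X) (F.obj ⋙ forget (Type (u + 1))) :=
      Presieve.IsSheaf.isSeparated ((isSheaf_iff_isSheaf_of_type _ _).1 F.2)
    have h2 : ∀ E : (EtOver X)ᵒᵖ, Mono (a.hom.app E) := by
      intro E
      rw [mono_iff_injective]
      intro s t hst
      refine eq_of_forall_germ_eq hX F.obj hsep (E := E.unop) s t fun p hp x => ?_
      apply h p hp
      change ((point p hX hp).presheafFiber.map a.hom) _ = ((point p hX hp).presheafFiber.map a.hom) _
      rw [GrothendieckTopology.Point.toPresheafFiber_naturality_apply,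
        GrothendieckTopology.Point.toPresheafFiber_naturality_apply]
      exact congrArg _ hst
    have h3 : Mono a.hom := NatTrans.mono_of_mono_app a.hom
    exact Sheaf.Hom.mono_of_presheaf_mono _ _ a

theorem epi_iff_stalk_surjective :
    Epi a ↔ ∀ p : FieldPt X, p.IsGeometric → Function.Surjective ((stalkEtFunctor (Type (u + 1)) p).map a) := by
  constructor
  · intro ha p hp
    have := preservesEpimorphisms_stalkEtFunctor_type p hX hp
    have h1 : Epi ((stalkEtFunctor (Type (u + 1)) p).map a) := Functor.map_epi _ a
    exact (epi_iff_surjective _).1 h1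
  · intro h
    have h1 : Presheaf.IsLocallySurjective (etTop X) a.hom :=
      isLocallySurjective_of_stalk_surjective hX a.hom fun p hp => h p hp
    have h2 : Sheaf.IsLocallySurjective a := h1
    exact Sheaf.epi_of_isLocallySurjective' a

end Sets

end Groth.Agent.Lib.H69EtStalkCons
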