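import Groth.Agent.Lib.H69EtStalkSh
import Groth.Agent.Lib.H86DimAt
import Groth.Agent.Lib.H86ReducedAt
import Groth.Agent.S0540

/-!
# helper69: properties of the etale local ring of an algebraic space at a geometric point, read off from the local ring
of an etale chart (dimension, reducedness, Noetherianity)
-/

set_option autoImplicit false
set_option linter.style.haveILetI false
universe u
open CategoryTheory CategoryTheory.Limits AlgebraicGeometry Opposite

namespace Groth.Agent.Lib.H69EtStalkProps

open AlgSp Groth.Agent.Lib.H69EtPoint Groth.Agent.Lib.H69EtStalk Groth.Agent.Lib.H69EtStalkCons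
  Groth.Agent.Lib.H69EtStalkRing Groth.Agent.Lib.H69EtNbhd Groth.Agent.Lib.H69EtLocalRing
  Groth.Agent.Lib.H69EtStalkSh

variable {S : Scheme.{u}} {X : Sp S} (p : FieldPt X) (hX : IsAlgSpace X) (hp : p.IsGeometric)

include hX hp in
/-- there is an affine etale neighbourhood of a geometric point -/
theorem exists_affine_lift :
    ∃ (E₀ : EtOver X) (_ : IsAffine E₀.obj.left.left) (_ : (FieldPt.liftsTo p).obj E₀), True := by
  obtain ⟨N⟩ := nonempty_etNbhd p hX hp
  obtain ⟨E, hE, l, -, -⟩ := exists_affine_over p N.2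
  exact ⟨E, hE, l, trivial⟩

variable {E₀ : EtOver X} (l₀ : (FieldPt.liftsTo p).obj E₀) [IsAffine E₀.obj.left.left]

include hX hp

/-- bring the strict henselization structure into scope -/
theorem with_sh {motive : Prop}
    (h : ∀ [IsLocalRing (RUp p l₀)] [IsLocalRing ↥(OEtStalk p)] [Algebra (RUp p l₀) ↥(OEtStalk p)]
      [IsLocalHom (algebraMap (RUp p l₀) ↥(OEtStalk p))]
      [Hensel.IsStrictHenselization (RUp p l₀) ↥(OEtStalk p)], motive) : motive :=
  @h (isLocalRing_RUp p l₀) (isLocalRing p hX hp) (stalkToUp p hX hp l₀).toAlgebra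
    (isLocalHom_stalkToUp p hX hp l₀) (isStrictHenselization p hX hp l₀)

omit hX hp [IsAffine E₀.obj.left.left] in
theorem lpt_over : Points.ofPt E₀.obj.hom (lpt p l₀) = Points.mk p :=
  ofPt_lift p l₀ (default : Spec (CommRingCat.of p.K))

theorem ringKrullDim_OEtStalk :
    ringKrullDim ↥(OEtStalk p) = ringKrullDim ↥(E₀.obj.left.left.presheaf.stalk (lpt p l₀)) := by
  refine with_sh p hX hp l₀ ?_
  intro _ _ _ _ _
  exact (Groth.Agent.Lib.StrictHenselization.ringKrullDim_of_isStrictHenselization (RUp p l₀) _).trans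
    (ringKrullDim_eq_of_ringEquiv ULift.ringEquiv)

theorem isReduced_OEtStalk_iff :
    _root_.IsReduced ↥(OEtStalk p) ↔ _root_.IsReduced ↥(E₀.obj.left.left.presheaf.stalk (lpt p l₀)) := by
  refine with_sh p hX hp l₀ ?_
  intro _ _ _ _ _
  constructor
  · intro h
    have hff := Groth.Agent.Lib.StrictHenselization.faithfullyFlat_of_isStrictHenselization (RUp p l₀)
      ↥(OEtStalk p)
    have hinj : Function.Injective (algebraMap (RUp p l₀) ↥(OEtStalk p)) :=
      FaithfulSMul.algebraMap_injective _ _
    haveI : _root_.IsReduced (RUp p l₀) := isReduced_of_injective _ hinj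
    exact isReduced_of_injective (ULift.ringEquiv.symm :
      ↥(E₀.obj.left.left.presheaf.stalk (lpt p l₀)) ≃+* RUp p l₀) (RingEquiv.injective _)
  · intro h
    haveI : _root_.IsReduced (RUp p l₀) := isReduced_of_injective (ULift.ringEquiv :
      RUp p l₀ ≃+* ↥(E₀.obj.left.left.presheaf.stalk (lpt p l₀))) (RingEquiv.injective _)
    exact Groth.Agent.Lib.HznWeaklyEtale96.isReduced_of_isStrictHenselization (RUp p l₀) _

theorem isNoetherianRing_OEtStalk_iff :
    IsNoetherianRing ↥(OEtStalk p) ↔ IsNoetherianRing ↥(E₀.obj.left.left.presheaf.stalk (lpt p l₀)) := by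
  refine with_sh p hX hp l₀ ?_
  intro _ _ _ _ _
  rw [← Groth.Agent.S0540.result (RUp p l₀) ↥(OEtStalk p)]
  constructor
  · intro h
    exact isNoetherianRing_of_ringEquiv (RUp p l₀) ULift.ringEquiv
  · intro h
    exact isNoetherianRing_of_ringEquiv _ (ULift.ringEquiv.symm :
      ↥(E₀.obj.left.left.presheaf.stalk (lpt p l₀)) ≃+* RUp p l₀)

end Groth.Agent.Lib.H69EtStalkProps
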