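import Groth.Agent.Lib.H69EtStalkProps

/-!
# helper69: the etale local ring of a locally Noetherian algebraic space at a geometric point is Noetherian (S10226)
-/

set_option autoImplicit false
set_option linter.style.haveILetI false
universe u
open CategoryTheory CategoryTheory.Limits AlgebraicGeometry Opposite

namespace Groth.Agent.Lib.H69EtStalkProps

open AlgSp Groth.Agent.Lib.H69EtPoint Groth.Agent.Lib.H69EtStalk Groth.Agent.Lib.H69EtStalkCons
  Groth.Agent.Lib.H69EtStalkRing Groth.Agent.Lib.H69EtNbhd Groth.Agent.Lib.H69EtLocalRing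
  Groth.Agent.Lib.H69EtStalkSh

variable {S : Scheme.{u}} {X : Sp S} (p : FieldPt X) (hX : IsAlgSpace X) (hp : p.IsGeometric)

/-- every etale neighbourhood contains an affine open one -/
theorem exists_affine_open_over {Y : EtOver X} (y : (FieldPt.liftsTo p).obj Y) :
    ∃ (E : EtOver X) (_ : IsAffine E.obj.left.left) (l : (FieldPt.liftsTo p).obj E) (f : E ⟶ Y),
      (FieldPt.liftsTo p).map f l = y ∧ IsOpenImmersion f.hom.left.left := by
  obtain ⟨R, ι, hι, ⟨𝔭, h𝔭⟩, -⟩ := AlgebraicGeometry.Scheme.exists_affine_mem_range_and_range_subset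
    (show lpt p y ∈ (⊤ : Y.obj.left.left.Opens) from trivial)
  have hrange : Set.range y.1.left ⊆ Set.range ι := by
    rw [range_lift]
    rintro _ rfl
    exact ⟨_, h𝔭⟩
  exact ⟨sub Y ι, isAffine_sub Y ι, subLift Y ι p y (IsOpenImmersion.lift ι y.1.left hrange)
    (IsOpenImmersion.lift_fac _ _ _), subHom Y ι, map_subHom_subLift _ _ _ _ _ _, hι⟩

include hX hp in
/-- the etale local ring of a locally Noetherian algebraic space at a geometric point is Noetherian -/
theorem isNoetherianRing_OEtStalk (hN : IsLocNoethSp X) : IsNoetherianRing ↥(OEtStalk p) := by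
  obtain ⟨U, a, hae, has, hU⟩ := hN
  obtain ⟨l⟩ := exists_lift_atlas p hp a hae has
  obtain ⟨E, hE, l₀, f, -, hf⟩ := exists_affine_open_over p l
  haveI : IsLocallyNoetherian (EtOver.mk a hae).obj.left.left := hU
  haveI : IsLocallyNoetherian E.obj.left.left := isLocallyNoetherian_of_isOpenImmersion f.hom.left.left
  rw [isNoetherianRing_OEtStalk_iff p hX hp l₀]
  infer_instance

end Groth.Agent.Lib.H69EtStalkProps
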