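import Groth.Agent.Lib.H69EtStalkProps2
import Groth.Agent.Lib.RegularFlatLocal
import Groth.Agent.Lib.StrictHenselizationMax

/-!
# helper69: regularity of the etale local ring of an algebraic space at a geometric point (S10231, S10232)
-/

set_option autoImplicit false
set_option linter.style.haveILetI false
universe u
open CategoryTheory CategoryTheory.Limits AlgebraicGeometry Opposite

namespace Groth.Agent.Lib.H69EtStalkProps

open AlgSp Groth.Agent.Lib.H69EtPoint Groth.Agent.Lib.H69EtStalk Groth.Agent.Lib.H69EtStalkCons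
  Groth.Agent.Lib.H69EtStalkRing Groth.Agent.Lib.H69EtNbhd Groth.Agent.Lib.H69EtLocalRing
  Groth.Agent.Lib.H69EtStalkSh

variable {S : Scheme.{u}} {X : Sp S} (p : FieldPt X) (hX : IsAlgSpace X) (hp : p.IsGeometric)

/-- the local ring of an etale neighbourhood at the image point is that of an affine etale neighbourhood -/
theorem exists_affine_stalk_equiv {Y : EtOver X} (y : (FieldPt.liftsTo p).obj Y) :
    ∃ (E₀ : EtOver X) (_ : IsAffine E₀.obj.left.left) (l₀ : (FieldPt.liftsTo p).obj E₀),
      Nonempty (↥(Y.obj.left.left.presheaf.stalk (lpt p y)) ≃+* ↥(E₀.obj.left.left.presheaf.stalk (lpt p l₀))) := by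
  obtain ⟨E, hE, l, f, rfl, hf⟩ := exists_affine_open_over p y
  haveI := hf
  exact ⟨E, hE, l, ⟨(asIso (f.hom.left.left.stalkMap (lpt p l))).commRingCatIsoToRingEquiv⟩⟩

section Affine

variable {E₀ : EtOver X} (l₀ : (FieldPt.liftsTo p).obj E₀) [IsAffine E₀.obj.left.left]

include hX hp in
theorem isRegularLocalRing_OEtStalk_iff_affine :
    IsRegularLocalRing ↥(OEtStalk p) ↔ IsRegularLocalRing ↥(E₀.obj.left.left.presheaf.stalk (lpt p l₀)) := by
  refine with_sh p hX hp l₀ ?_
  intro _ _ _ _ _
  have hff := Groth.Agent.Lib.StrictHenselization.faithfullyFlat_of_isStrictHenselization (RUp p l₀)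
    ↥(OEtStalk p)
  have hmap := Groth.Agent.Lib.StrictHenselizationMax.map_maximalIdeal_eq (RUp p l₀) ↥(OEtStalk p)
  have hN := Groth.Agent.S0540.result (RUp p l₀) ↥(OEtStalk p)
  constructor
  · intro h
    haveI : IsNoetherianRing ↥(OEtStalk p) := h.toIsNoetherian
    haveI : IsNoetherianRing (RUp p l₀) := hN.2 inferInstance
    haveI : IsRegularLocalRing (RUp p l₀) :=
      (Groth.Agent.Lib.RegularFlatLocal.isRegularLocalRing_iff_of_flat hmap).1 h
    exact IsRegularLocalRing.of_ringEquiv (ULift.ringEquiv :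
      RUp p l₀ ≃+* ↥(E₀.obj.left.left.presheaf.stalk (lpt p l₀)))
  · intro h
    haveI : IsRegularLocalRing (RUp p l₀) := IsRegularLocalRing.of_ringEquiv (ULift.ringEquiv.symm :
      ↥(E₀.obj.left.left.presheaf.stalk (lpt p l₀)) ≃+* RUp p l₀)
    haveI : IsNoetherianRing (RUp p l₀) := IsRegularLocalRing.toIsNoetherian
    haveI : IsNoetherianRing ↥(OEtStalk p) := hN.1 inferInstance
    exact (Groth.Agent.Lib.RegularFlatLocal.isRegularLocalRing_iff_of_flat hmap).2 inferInstance

end Affine

include hX hp in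
/-- the etale local ring at a geometric point is regular iff the local ring of any etale neighbourhood at the image point is -/
theorem isRegularLocalRing_OEtStalk_iff {Y : EtOver X} (y : (FieldPt.liftsTo p).obj Y) :
    IsRegularLocalRing ↥(OEtStalk p) ↔ IsRegularLocalRing ↥(Y.obj.left.left.presheaf.stalk (lpt p y)) := by
  obtain ⟨E₀, hE₀, l₀, ⟨e⟩⟩ := exists_affine_stalk_equiv p y
  rw [isRegularLocalRing_OEtStalk_iff_affine p hX hp l₀]
  exact ⟨fun h => IsRegularLocalRing.of_ringEquiv e.symm, fun h => IsRegularLocalRing.of_ringEquiv e⟩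

end Groth.Agent.Lib.H69EtStalkProps

namespace Groth.Agent.Lib.H69EtStalkProps

open AlgSp Groth.Agent.Lib.H69EtPoint Groth.Agent.Lib.H69EtStalk Groth.Agent.Lib.H69EtStalkCons
  Groth.Agent.Lib.H69EtStalkRing Groth.Agent.Lib.H69EtNbhd Groth.Agent.Lib.H69EtLocalRing
  Groth.Agent.Lib.H69EtStalkSh

variable {S : Scheme.{u}} {X : Sp S}

/-- every point of an algebraic space lifts to a geometric point -/
theorem exists_geometric_over (hX : IsAlgSpace X) (x : Points X) :
    ∃ p : FieldPt X, p.IsGeometric ∧ Points.mk p = x := by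
  obtain ⟨V, a, hae, has⟩ := hX.atlas
  obtain ⟨e, rfl⟩ := Groth.Agent.Lib.AlgSpQC.surjective_ofPt_of_repWith_surjective has x
  set E : EtOver X := EtOver.mk a hae with hE
  have h1 : Points.mk (geomPt E e) = Points.ofPt E.obj.hom e := mk_geomPt E e
  exact ⟨geomPt E e, geomPt_isGeometric E e, h1⟩

/-- a lift of a geometric point through a prescribed point of a chart -/
theorem exists_lift_through (p : FieldPt X) (hp : p.IsGeometric) {U : Over S} (a : (yon S).obj U ⟶ X)
    (ha : RepWith @Etale a) (u : ↥U.left) (hu : Points.ofPt a u = Points.mk p) :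
    ∃ l : (FieldPt.liftsTo p).obj (EtOver.mk a ha), lpt p l = u := by
  obtain ⟨ubar, h1, h2⟩ := Groth.Agent.Lib.H86GeomPt.exists_lift_of_isGeometric p hp a ha u hu
  refine ⟨⟨ubar, h1⟩, ?_⟩
  rw [← h2]
  exact congrArg ubar.left (Subsingleton.elim (α := Spec (CommRingCat.of p.K)) _ _)

/-- regularity at a point in terms of the etale local rings at the geometric points over it -/
theorem isRegularLocalRing_OEtStalk_of_hasAt (hX : IsAlgSpace X) (x : Points X)
    (h : HasAt (fun U u => IsRegularLocalRing ↥(U.presheaf.stalk u)) X x) (p : FieldPt X) (hp : p.IsGeometric)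
    (hpx : Points.mk p = x) : IsRegularLocalRing ↥(OEtStalk p) := by
  obtain ⟨U, a, u, ha, hu, hreg⟩ := h
  obtain ⟨l, hl⟩ := exists_lift_through p hp a ha u (hu.trans hpx.symm)
  rw [isRegularLocalRing_OEtStalk_iff p hX hp l, hl]
  exact hreg

theorem hasAt_of_isRegularLocalRing_OEtStalk (hX : IsAlgSpace X) (p : FieldPt X) (hp : p.IsGeometric)
    (h : IsRegularLocalRing ↥(OEtStalk p)) :
    HasAt (fun U u => IsRegularLocalRing ↥(U.presheaf.stalk u)) X (Points.mk p) := by
  obtain ⟨N⟩ := nonempty_etNbhd p hX hp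
  exact ⟨N.1.obj.left, N.1.obj.hom, lpt p N.2, N.1.property, lpt_over p N.2,
    (isRegularLocalRing_OEtStalk_iff p hX hp N.2).1 h⟩

end Groth.Agent.Lib.H69EtStalkProps
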