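import Groth.Agent.Lib.H69EtStalkSupp
import Groth.Agent.Lib.AlgSpQC

/-!
# helper69: the support of a sheaf of rings on the small etale site is closed (S10257)
-/

set_option autoImplicit false
universe u
open CategoryTheory CategoryTheory.Limits AlgebraicGeometry Opposite

namespace Groth.Agent.Lib.H69EtStalkRing

open AlgSp Groth.Agent.Lib.H69EtPoint Groth.Agent.Lib.H69EtStalk Groth.Agent.Lib.H69EtStalkCons

variable {S : Scheme.{u}} {X : Sp S}

theorem hasColimits_ring : HasColimitsOfSize.{u, u} CommRingCat.{u + 1} :=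
  hasColimitsOfSizeShrink.{u, u, u + 1, u + 1} _

theorem pfc_ring : PreservesFilteredColimitsOfSize.{u, u} (forget CommRingCat.{u + 1}) :=
  preservesFilteredColimitsOfSize_of_univLE.{u + 1, u + 1, u, u} (forget CommRingCat.{u + 1})

/-- If the ring of sections over an etale neighbourhood of a geometric point is the zero ring, so is the stalk. -/
theorem not_nontrivial_stalk_of_lift (O' : EtSh X CommRingCat.{u + 1}) (p : FieldPt X) {Y : EtOver X} (l : (FieldPt.liftsTo p).obj Y)
    (h : (1 : ↥(O'.obj.obj (op Y))) = 0) : ¬ Nontrivial ↥(stalkEt p O') := by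
  have := hasColimits_ring.{u}
  intro hnt
  have h1 : (stalkEtι p O' ⟨Y, l⟩).hom 1 = (stalkEtι p O' ⟨Y, l⟩).hom 0 := congrArg _ h
  rw [map_one, map_zero] at h1
  exact one_ne_zero h1

theorem isClosed_support (hX : IsAlgSpace X) (O' : EtSh X CommRingCat.{u + 1}) :
    IsClosed {x : Points X |
      ∃ p : FieldPt X, p.IsGeometric ∧ Points.mk p = x ∧ Nontrivial ↥(stalkEt p O')} := by
  have := hasColimits_ring.{u}
  have := pfc_ring.{u}
  rw [← isOpen_compl_iff, isOpen_iff_forall_mem_open]
  intro x hx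
  obtain ⟨V, a, hae, has⟩ := hX.atlas
  obtain ⟨e, rfl⟩ := Groth.Agent.Lib.AlgSpQC.surjective_ofPt_of_repWith_surjective has x
  set E : EtOver X := EtOver.mk a hae with hE
  have hp := geomPt_isGeometric E e
  -- the stalk at the chosen geometric point is trivial
  have htriv : ¬ Nontrivial ↥(stalkEt (geomPt E e) O') := by
    intro hnt
    exact hx ⟨geomPt E e, hp, mk_geomPt E e, hnt⟩
  have h10 : (point (geomPt E e) hX hp).toPresheafFiber E (geomLift E e) O'.obj 1 =
      (point (geomPt E e) hX hp).toPresheafFiber E (geomLift E e) O'.obj 0 := by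
    have hs : Subsingleton ↥(stalkEt (geomPt E e) O') := not_nontrivial_iff_subsingleton.1 htriv
    exact Subsingleton.elim (α := ↥(stalkEt (geomPt E e) O')) _ _
  rw [GrothendieckTopology.Point.toPresheafFiber_eq_iff'] at h10
  obtain ⟨Y, f, y, hy, hst⟩ := h10
  have hY10 : (1 : ↥(O'.obj.obj (op Y))) = 0 := by
    have h1 : (O'.obj.map f.op).hom 1 = (O'.obj.map f.op).hom 0 := hst
    rwa [map_one, map_zero] at h1
  refine ⟨Set.range (Points.ofPt Y.obj.hom), ?_,
    (Groth.Agent.Lib.AlgSpQC.isOpenMap_ofPt_of_repWith_etale Y.property).isOpen_range, ?_⟩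
  · rintro _ ⟨y', rfl⟩ ⟨p', hp', hx', hnt⟩
    obtain ⟨ubar, h1, -⟩ := Groth.Agent.Lib.H86GeomPt.exists_lift_of_isGeometric p' hp' Y.obj.hom Y.property y' hx'.symm
    exact not_nontrivial_stalk_of_lift O' p' (Y := Y) ⟨ubar, h1⟩ hY10 hnt
  · refine ⟨y.1.left (IsLocalRing.closedPoint (geomPt E e).K : PrimeSpectrum _), ?_⟩
    rw [ofPt_lift (geomPt E e) y, mk_geomPt]
    rfl

end Groth.Agent.Lib.H69EtStalkRing
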