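import Mathlib
import Groth.Agent.Lib.HznWeaklyEtale96

/-!
# helper69: a ring that is (elementwise) a filtered colimit of etale algebras is weakly etale

Index-family form, no order on the index type: every finite family of elements comes from one stage, and an element of
a stage that dies in the colimit dies at a later stage.
-/

set_option autoImplicit false
universe u v w

namespace Groth.Agent.Lib.H69IndEtale

open Groth.Agent.Lib.StepWeaklyEtale96 Groth.Agent.Lib.HznWeaklyEtale96

variable {A : Type u} {S : Type v} [CommRing A] [CommRing S] (α : A →+* S)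
  {ι : Type w} (C : ι → Type u) [∀ i, CommRing (C i)] (φ : ∀ i, A →+* C i) (γ : ∀ i, C i →+* S)

include γ in
/-- A ring which is elementwise a filtered colimit of flat algebras is flat. -/
theorem flat_of_system (h1 : ∀ i, (φ i).Flat) (h1' : ∀ i, (γ i).comp (φ i) = α)
    (h2 : ∀ (n : ℕ) (s : Fin n → S), ∃ i, ∀ k, ∃ c, γ i c = s k)
    (h3 : ∀ (i : ι) (c : C i), γ i c = 0 → ∃ (j : ι) (ψ : C i →+* C j),
      ψ.comp (φ i) = φ j ∧ (γ j).comp ψ = γ i ∧ ψ c = 0) : α.Flat := by
  classical
  let := α.toAlgebra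
  show Module.Flat A S
  refine Module.Flat.of_forall_isTrivialRelation ?_
  intro l f x h
  obtain ⟨i, hi⟩ := h2 l x
  choose x1 hx1 using hi
  have hs : γ i (∑ k, φ i (f k) * x1 k) = 0 := by
    rw [map_sum, ← h]
    refine Finset.sum_congr rfl (fun k _ => ?_)
    rw [map_mul, hx1, Algebra.smul_def]
    congr 1
    exact RingHom.congr_fun (h1' i) (f k)
  obtain ⟨j, ψ, hψφ, hγψ, hg⟩ := h3 i _ hs
  let x2 : Fin l → C j := fun k => ψ (x1 k)
  have hx2 : ∀ k, γ j (x2 k) = x k := fun k => by
    rw [← hx1 k]; exact RingHom.congr_fun hγψ (x1 k)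
  let := (φ j).toAlgebra
  have hflat : Module.Flat A (C j) := h1 j
  have hrel : ∑ k, f k • x2 k = 0 := by
    rw [← hg, map_sum]
    refine Finset.sum_congr rfl (fun k _ => ?_)
    rw [map_mul, Algebra.smul_def]
    congr 1
    exact (RingHom.congr_fun hψφ (f k)).symm
  obtain ⟨n, a', y', hxa, hfa⟩ := Module.Flat.isTrivialRelation_of_sum_smul_eq_zero (R := A) (M := C j)
    (f := f) (x := x2) hrel
  refine ⟨n, a', fun m => γ j (y' m), fun k => ?_, hfa⟩
  rw [← hx2 k, hxa k, map_sum]
  refine Finset.sum_congr rfl (fun m _ => ?_)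
  rw [Algebra.smul_def, Algebra.smul_def, map_mul]
  congr 1
  exact RingHom.congr_fun (h1' j) (a' k m)

include γ in
/-- A ring which is elementwise a filtered colimit of etale algebras is weakly etale. -/
theorem weaklyEtale_of_system (h1 : ∀ i, (φ i).Etale) (h1' : ∀ i, (γ i).comp (φ i) = α)
    (h2 : ∀ (n : ℕ) (s : Fin n → S), ∃ i, ∀ k, ∃ c, γ i c = s k)
    (h3 : ∀ (i : ι) (c : C i), γ i c = 0 → ∃ (j : ι) (ψ : C i →+* C j),
      ψ.comp (φ i) = φ j ∧ (γ j).comp ψ = γ i ∧ ψ c = 0) :
    letI := α.toAlgebra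
    Algebra.WeaklyEtale A S := by
  let := α.toAlgebra
  have hflat : Module.Flat A S := flat_of_system α C φ γ (fun i => by
    let := (φ i).toAlgebra
    have : Algebra.Etale A (C i) := h1 i
    show Module.Flat A (C i)
    infer_instance) h1' h2 h3
  refine weaklyEtale_of_forall_killed A S fun y => ?_
  obtain ⟨i, hi⟩ := h2 1 (fun _ => y)
  obtain ⟨c, hc⟩ := hi 0
  let := (φ i).toAlgebra
  have : Algebra.Etale A (C i) := h1 i
  let γa : C i →ₐ[A] S := { γ i with commutes' := fun a => RingHom.congr_fun (h1' i) a }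
  have hk := killed_map γa (killed_of_weaklyEtale (A := A) c)
  have : γa c = y := hc
  rwa [this] at hk

end Groth.Agent.Lib.H69IndEtale
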