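import Groth.Agent.Lib.H69EtLocalRing
import Groth.Agent.Lib.H69IndEtale
import Groth.Agent.Lib.WeaklyEtaleStrictHens61
import Groth.Agent.Lib.WEtaleNormalLocal22
import Groth.Agent.Lib.HenselQFLocalization61

/-!
# helper69: the etale local ring of an algebraic space at a geometric point is a strict henselization of the local ring
of an (affine) etale chart at the image point
-/

set_option autoImplicit false
set_option linter.style.haveILetI false
universe u
open CategoryTheory CategoryTheory.Limits AlgebraicGeometry Opposite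

namespace Groth.Agent.Lib.H69EtStalkSh

open AlgSp Groth.Agent.Lib.H69EtPoint Groth.Agent.Lib.H69EtStalk Groth.Agent.Lib.H69EtStalkCons
  Groth.Agent.Lib.H69EtStalkRing Groth.Agent.Lib.H69EtNbhd Groth.Agent.Lib.H69EtLocalRing

variable {S : Scheme.{u}} {X : Sp S} (p : FieldPt X) (hX : IsAlgSpace X) (hp : p.IsGeometric)

theorem isAffine_sub (E : EtOver X) {V : Scheme.{u}} (f : V ⟶ E.obj.left.left) [Etale f] [h : IsAffine V] :
    IsAffine (sub E f).obj.left.left := h

/-- every etale neighbourhood is refined by an affine one -/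
theorem exists_affine_over {Y : EtOver X} (y : (FieldPt.liftsTo p).obj Y) :
    ∃ (E : EtOver X) (_ : IsAffine E.obj.left.left) (l : (FieldPt.liftsTo p).obj E) (f : E ⟶ Y),
      (FieldPt.liftsTo p).map f l = y := by
  obtain ⟨R, ι, hι, ⟨𝔭, h𝔭⟩, -⟩ := AlgebraicGeometry.Scheme.exists_affine_mem_range_and_range_subset
    (show lpt p y ∈ (⊤ : Y.obj.left.left.Opens) from trivial)
  have hrange : Set.range y.1.left ⊆ Set.range ι := by
    rw [range_lift]
    rintro _ rfl
    exact ⟨_, h𝔭⟩
  exact ⟨sub Y ι, isAffine_sub Y ι, subLift Y ι p y (IsOpenImmersion.lift ι y.1.left hrange)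
    (IsOpenImmersion.lift_fac _ _ _), subHom Y ι, map_subHom_subLift _ _ _ _ _ _⟩

variable {E₀ : EtOver X} (l₀ : (FieldPt.liftsTo p).obj E₀)

/-- affine etale neighbourhoods over a fixed one -/
structure AffOver where
  /-- the object of the small etale site -/
  E : EtOver X
  /-- it is affine -/
  aff : IsAffine E.obj.left.left
  /-- the lift of the geometric point -/
  l : (FieldPt.liftsTo p).obj E
  /-- the morphism to the fixed neighbourhood -/
  g : E ⟶ E₀
  /-- compatibility of the lifts -/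
  hg : (FieldPt.liftsTo p).map g l = l₀

variable {p l₀}

/-- the ring of functions of an affine neighbourhood -/
abbrev AffOver.C (i : AffOver p l₀) : Type u := Γ(i.E.obj.left.left, ⊤)

/-- pullback of functions from the fixed neighbourhood -/
noncomputable abbrev AffOver.φ (i : AffOver p l₀) : Γ(E₀.obj.left.left, ⊤) →+* i.C :=
  i.g.hom.left.left.appTop.hom

/-- germs -/
noncomputable abbrev AffOver.γ (i : AffOver p l₀) : i.C →+* ↥(OEtStalk p) := germR p i.l

include hX hp in
theorem AffOver.γ_comp_φ (i : AffOver p l₀) : i.γ.comp i.φ = germR p l₀ := by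
  apply RingHom.ext
  intro s
  rw [RingHom.comp_apply]
  exact (germR_res p hX hp i.g i.l s).trans (by rw [i.hg])

theorem AffOver.etale_φ [IsAffine E₀.obj.left.left] (i : AffOver p l₀) : i.φ.Etale := by
  haveI := i.aff
  haveI : Etale i.g.hom.left.left := EtOver.etale_left i.g
  exact (HasRingHomProperty.iff_of_isAffine (P := @Etale)).1 ‹_›

include hX hp in
/-- affine neighbourhood over `E₀` refining an arbitrary neighbourhood mapping to `E₀` -/
theorem exists_affOver_of_hom {Y : EtOver X} (y : (FieldPt.liftsTo p).obj Y) (h : Y ⟶ E₀)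
    (hy : (FieldPt.liftsTo p).map h y = l₀) :
    ∃ (j : AffOver p l₀) (f : j.E ⟶ Y), (FieldPt.liftsTo p).map f j.l = y ∧ f ≫ h = j.g := by
  obtain ⟨E, hE, l, f, hf⟩ := exists_affine_over p y
  refine ⟨⟨E, hE, l, f ≫ h, ?_⟩, f, hf, rfl⟩
  rw [Functor.map_comp_apply, hf, hy]

include hX hp in
/-- affine neighbourhood over `E₀` refining an arbitrary neighbourhood -/
theorem exists_affOver {Y : EtOver X} (y : (FieldPt.liftsTo p).obj Y) :
    ∃ (j : AffOver p l₀) (f : j.E ⟶ Y), (FieldPt.liftsTo p).map f j.l = y := by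
  obtain ⟨j, f, hf, -⟩ := exists_affOver_of_hom hX hp (prodLift p y l₀) (EtOver.prodSnd Y E₀)
    (map_prodSnd_prodLift p y l₀)
  refine ⟨j, f ≫ EtOver.prodFst Y E₀, ?_⟩
  rw [Functor.map_comp_apply, hf, map_prodFst_prodLift]

include hX hp in
theorem exists_affOver_fin (n : ℕ) (s : Fin n → ↥(OEtStalk p)) :
    ∃ i : AffOver p l₀, ∀ k, ∃ c, i.γ c = s k := by
  obtain ⟨E, l, t, ht⟩ := exists_lift_fin p hX hp n s
  obtain ⟨j, f, hf⟩ := exists_affOver (l₀ := l₀) hX hp l
  refine ⟨j, fun k => ⟨f.hom.left.left.appTop.hom (t k), ?_⟩⟩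
  rw [← ht k]
  exact (germR_res p hX hp f j.l (t k)).trans (by rw [hf])

include hX hp in
theorem exists_affOver_of_eq_zero (i : AffOver p l₀) (c : i.C) (hc : i.γ c = 0) :
    ∃ (j : AffOver p l₀) (ψ : i.C →+* j.C), ψ.comp i.φ = j.φ ∧ j.γ.comp ψ = i.γ ∧ ψ c = 0 := by
  have := hasColimits_ring.{u}
  have := pfc_ring.{u}
  have h0 : (point p hX hp).toPresheafFiber i.E i.l (OEt X).obj (ULift.up c) =
      (point p hX hp).toPresheafFiber i.E i.l (OEt X).obj (ULift.up 0) := by
    have h1 : germR p i.l c = germR p i.l 0 := by rw [map_zero]; exact hc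
    exact h1
  rw [GrothendieckTopology.Point.toPresheafFiber_eq_iff'] at h0
  obtain ⟨Y, f, y, hy, hst⟩ := h0
  have hfc : f.hom.left.left.appTop.hom c = 0 := by
    have h2 : ULift.up (f.hom.left.left.appTop.hom c) =
        (ULift.up (f.hom.left.left.appTop.hom 0) : ULift.{u + 1} Γ(Y.obj.left.left, ⊤)) := hst
    rw [map_zero] at h2
    exact congrArg ULift.down h2
  have hy' : (FieldPt.liftsTo p).map f y = i.l := hy
  obtain ⟨j, f', hf', hg'⟩ := exists_affOver_of_hom hX hp y (f ≫ i.g)
    (by rw [Functor.map_comp_apply, hy', i.hg])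
  refine ⟨j, (f' ≫ f).hom.left.left.appTop.hom, ?_, ?_, ?_⟩
  · apply RingHom.ext
    intro a
    have h3 : j.g.hom.left.left = (f' ≫ f).hom.left.left ≫ i.g.hom.left.left := by
      rw [← hg', ← Category.assoc]
      rfl
    change (f' ≫ f).hom.left.left.appTop.hom (i.g.hom.left.left.appTop.hom a) = j.g.hom.left.left.appTop.hom a
    rw [h3, Scheme.Hom.comp_appTop]
    rfl
  · apply RingHom.ext
    intro a
    rw [RingHom.comp_apply]
    refine (germR_res p hX hp (f' ≫ f) j.l a).trans ?_
    rw [Functor.map_comp_apply, hf', hy']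
  · have h4 : (f' ≫ f).hom.left.left = f'.hom.left.left ≫ f.hom.left.left := rfl
    rw [h4, Scheme.Hom.comp_appTop]
    change f'.hom.left.left.appTop.hom (f.hom.left.left.appTop.hom c) = 0
    rw [hfc, map_zero]

include hX hp in
/-- the etale local ring at a geometric point is weakly etale over the ring of functions of an affine etale neighbourhood -/
theorem weaklyEtale_germR [IsAffine E₀.obj.left.left] :
    letI := (germR p l₀).toAlgebra
    Algebra.WeaklyEtale Γ(E₀.obj.left.left, ⊤) ↥(OEtStalk p) :=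
  Groth.Agent.Lib.H69IndEtale.weaklyEtale_of_system (germR p l₀) (fun i : AffOver p l₀ => i.C)
    (fun i => i.φ) (fun i => i.γ) (fun i => i.etale_φ) (fun i => i.γ_comp_φ hX hp)
    (exists_affOver_fin hX hp) (exists_affOver_of_eq_zero hX hp)

section Stalk

variable (p)

theorem lpt_mem_basicOpen_iff {E : EtOver X} (l : (FieldPt.liftsTo p).obj E) (s : Γ(E.obj.left.left, ⊤)) :
    lpt p l ∈ E.obj.left.left.basicOpen s ↔ valAt p l s ≠ 0 := by
  refine ⟨fun h hv => ?_, pt_mem_basicOpen p l s⟩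
  have h1 : l.1.left.appTop.hom s = 0 := by
    have h2 : (Scheme.ΓSpecIso (CommRingCat.of p.K)).hom.hom (l.1.left.appTop.hom s) = 0 := hv
    have h3 := congrArg (Scheme.ΓSpecIso (CommRingCat.of p.K)).inv.hom h2
    rw [map_zero] at h3
    have h4 : (Scheme.ΓSpecIso (CommRingCat.of p.K)).inv.hom
        ((Scheme.ΓSpecIso (CommRingCat.of p.K)).hom.hom (l.1.left.appTop.hom s)) = l.1.left.appTop.hom s :=
      congrArg (fun k => k.hom (l.1.left.appTop.hom s)) (Scheme.ΓSpecIso (CommRingCat.of p.K)).hom_inv_id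
    rw [h4] at h3
    exact h3
  have h5 : l.1.left ⁻¹ᵁ (E.obj.left.left.basicOpen s) = ⊥ := by
    rw [Scheme.preimage_basicOpen]
    have h6 : l.1.left.app ⊤ s = 0 := h1
    rw [h6]
    exact Scheme.basicOpen_zero _ _
  have h7 : (default : Spec (CommRingCat.of p.K)) ∈ l.1.left ⁻¹ᵁ (E.obj.left.left.basicOpen s) := h
  rw [h5] at h7
  exact h7

theorem isUnit_germ_iff {E : EtOver X} (l : (FieldPt.liftsTo p).obj E) (s : Γ(E.obj.left.left, ⊤)) :
    IsUnit (E.obj.left.left.presheaf.germ ⊤ (lpt p l) trivial s) ↔ valAt p l s ≠ 0 :=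
  (Scheme.mem_basicOpen_top _ s _).symm.trans (lpt_mem_basicOpen_iff p l s)

variable (l₀) [IsAffine E₀.obj.left.left]

/-- the prime ideal of the image point in the ring of functions of the affine chart -/
noncomputable abbrev primeOf : Ideal Γ(E₀.obj.left.left, ⊤) :=
  ((isAffineOpen_top E₀.obj.left.left).primeIdealOf ⟨lpt p l₀, trivial⟩).asIdeal

/-- the algebra structure of the stalk over the ring of functions -/
@[reducible] noncomputable def stalkAlg :
    Algebra Γ(E₀.obj.left.left, ⊤) ↥(E₀.obj.left.left.presheaf.stalk (lpt p l₀)) :=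
  TopCat.Presheaf.algebra_section_stalk E₀.obj.left.left.presheaf (U := ⊤) ⟨lpt p l₀, trivial⟩

theorem isLocalization_stalk :
    @IsLocalization.AtPrime _ _ ↥(E₀.obj.left.left.presheaf.stalk (lpt p l₀)) _ (stalkAlg p l₀) (primeOf p l₀) _ :=
  (isAffineOpen_top E₀.obj.left.left).isLocalization_stalk ⟨lpt p l₀, trivial⟩

include hX hp in
theorem isUnit_germR_of_notMem (y : (primeOf p l₀).primeCompl) : IsUnit (germR p l₀ y) := by
  letI := stalkAlg p l₀
  haveI := isLocalization_stalk p l₀
  have h1 : IsUnit (E₀.obj.left.left.presheaf.germ ⊤ (lpt p l₀) trivial y.1) :=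
    IsLocalization.map_units (M := (primeOf p l₀).primeCompl) ↥(E₀.obj.left.left.presheaf.stalk (lpt p l₀)) y
  exact isUnit_germR_of_valAt_ne_zero p hX hp l₀ y.1 ((isUnit_germ_iff p l₀ y.1).1 h1)

/-- the canonical map from the local ring of an affine chart at the image point to the etale local ring -/
noncomputable def stalkTo : ↥(E₀.obj.left.left.presheaf.stalk (lpt p l₀)) →+* ↥(OEtStalk p) :=
  letI := stalkAlg p l₀
  haveI := isLocalization_stalk p l₀
  IsLocalization.lift (M := (primeOf p l₀).primeCompl)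
    (S := ↥(E₀.obj.left.left.presheaf.stalk (lpt p l₀))) (g := germR p l₀) (isUnit_germR_of_notMem p hX hp l₀)

theorem stalkTo_germ (a : Γ(E₀.obj.left.left, ⊤)) :
    stalkTo p hX hp l₀ (E₀.obj.left.left.presheaf.germ ⊤ (lpt p l₀) trivial a) = germR p l₀ a := by
  letI := stalkAlg p l₀
  haveI := isLocalization_stalk p l₀
  exact IsLocalization.lift_eq (M := (primeOf p l₀).primeCompl) _ a

theorem isLocalHom_stalkTo : IsLocalHom (stalkTo p hX hp l₀) := by
  letI := stalkAlg p l₀
  haveI := isLocalization_stalk p l₀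
  refine ⟨fun r hr => ?_⟩
  obtain ⟨a, s, rfl⟩ := IsLocalization.exists_mk'_eq (primeOf p l₀).primeCompl r
  have hs : IsUnit (E₀.obj.left.left.presheaf.germ ⊤ (lpt p l₀) trivial s.1) :=
    IsLocalization.map_units (M := (primeOf p l₀).primeCompl) ↥(E₀.obj.left.left.presheaf.stalk (lpt p l₀)) s
  have hspec : IsLocalization.mk' ↥(E₀.obj.left.left.presheaf.stalk (lpt p l₀)) a s *
      E₀.obj.left.left.presheaf.germ ⊤ (lpt p l₀) trivial s.1 =
      E₀.obj.left.left.presheaf.germ ⊤ (lpt p l₀) trivial a := IsLocalization.mk'_spec _ a s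
  have h1 : IsUnit (stalkTo p hX hp l₀ (E₀.obj.left.left.presheaf.germ ⊤ (lpt p l₀) trivial a)) := by
    rw [← hspec, map_mul]
    exact hr.mul (hs.map _)
  rw [stalkTo_germ, isUnit_iff_evR_ne_zero p hX hp, evR_germR] at h1
  have h2 : IsUnit (E₀.obj.left.left.presheaf.germ ⊤ (lpt p l₀) trivial a) := (isUnit_germ_iff p l₀ a).2 h1
  rw [← hspec] at h2
  exact isUnit_of_mul_isUnit_left h2

/-- the universe lift of the local ring of the chart at the image point -/
abbrev RUp : Type (u + 1) := ULift.{u + 1} ↥(E₀.obj.left.left.presheaf.stalk (lpt p l₀))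

/-- the canonical map from the lifted local ring of the chart to the etale local ring -/
noncomputable def stalkToUp : RUp p l₀ →+* ↥(OEtStalk p) :=
  (stalkTo p hX hp l₀).comp (ULift.ringEquiv : RUp p l₀ ≃+* _).toRingHom

omit [IsAffine E₀.obj.left.left] in
theorem isLocalRing_RUp : IsLocalRing (RUp p l₀) :=
  (ULift.ringEquiv.symm : ↥(E₀.obj.left.left.presheaf.stalk (lpt p l₀)) ≃+* RUp p l₀).isLocalRing

theorem isLocalHom_stalkToUp : IsLocalHom (stalkToUp p hX hp l₀) := by
  haveI := isLocalHom_stalkTo p hX hp l₀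
  refine ⟨fun r hr => ?_⟩
  have h1 : IsUnit (stalkTo p hX hp l₀ r.down) := hr
  have h2 : IsUnit r.down := isUnit_of_map_unit (stalkTo p hX hp l₀) _ h1
  exact h2.map (ULift.ringEquiv.symm : ↥(E₀.obj.left.left.presheaf.stalk (lpt p l₀)) ≃+* RUp p l₀)

theorem weaklyEtale_stalkToUp :
    letI := (stalkToUp p hX hp l₀).toAlgebra
    Algebra.WeaklyEtale (RUp p l₀) ↥(OEtStalk p) := by
  letI algAS : Algebra Γ(E₀.obj.left.left, ⊤) ↥(OEtStalk p) := (germR p l₀).toAlgebra
  haveI hAS : Algebra.WeaklyEtale Γ(E₀.obj.left.left, ⊤) ↥(OEtStalk p) := weaklyEtale_germR hX hp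
  letI algAR := stalkAlg p l₀
  haveI := isLocalization_stalk p l₀
  haveI hAR : Algebra.WeaklyEtale Γ(E₀.obj.left.left, ⊤) ↥(E₀.obj.left.left.presheaf.stalk (lpt p l₀)) :=
    Groth.Agent.Lib.WEtaleNormalLocal22.weaklyEtale_of_isLocalization (primeOf p l₀).primeCompl _
  haveI hARup : Algebra.WeaklyEtale Γ(E₀.obj.left.left, ⊤) (RUp p l₀) :=
    Groth.Agent.Lib.HznWeaklyEtale96.weaklyEtale_of_algEquiv (A := Γ(E₀.obj.left.left, ⊤))
      (ULift.algEquiv.symm : ↥(E₀.obj.left.left.presheaf.stalk (lpt p l₀)) ≃ₐ[Γ(E₀.obj.left.left, ⊤)] RUp p l₀)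
  letI : Algebra (RUp p l₀) ↥(OEtStalk p) := (stalkToUp p hX hp l₀).toAlgebra
  haveI : IsScalarTower Γ(E₀.obj.left.left, ⊤) (RUp p l₀) ↥(OEtStalk p) :=
    IsScalarTower.of_algebraMap_eq (fun a => (stalkTo_germ p hX hp l₀ a).symm)
  exact Groth.Agent.Lib.DiagFlat.weaklyEtale_of_tower Γ(E₀.obj.left.left, ⊤) (RUp p l₀) ↥(OEtStalk p)

/-- **The etale local ring of an algebraic space at a geometric point is a strict henselization of the local ring of an
affine etale chart at the image point** (both one universe up). -/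
theorem isStrictHenselization :
    @Hensel.IsStrictHenselization (RUp p l₀) ↥(OEtStalk p) _ (isLocalRing_RUp p l₀) _ (isLocalRing p hX hp)
      (stalkToUp p hX hp l₀).toAlgebra (isLocalHom_stalkToUp p hX hp l₀) := by
  haveI hens : HenselianLocalRing ↥(OEtStalk p) := henselian p hX hp
  haveI hloc : IsLocalRing ↥(OEtStalk p) := isLocalRing p hX hp
  haveI hsc : IsSepClosed (IsLocalRing.ResidueField ↥(OEtStalk p)) := isSepClosed_residueField p hX hp _
  haveI := isLocalRing_RUp p l₀
  letI : Algebra (RUp p l₀) ↥(OEtStalk p) := (stalkToUp p hX hp l₀).toAlgebra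
  haveI : IsLocalHom (algebraMap (RUp p l₀) ↥(OEtStalk p)) := isLocalHom_stalkToUp p hX hp l₀
  haveI : Algebra.WeaklyEtale (RUp p l₀) ↥(OEtStalk p) := weaklyEtale_stalkToUp p hX hp l₀
  haveI : Hensel.IsStrictHenselization ↥(OEtStalk p) ↥(OEtStalk p) :=
    Groth.Agent.Lib.HenselQFLocalization61.isStrictHenselization_self _
  exact Groth.Agent.Lib.WeaklyEtaleStrictHens61.isStrictHenselization_of_weaklyEtale (RUp p l₀) ↥(OEtStalk p)
    ↥(OEtStalk p)

end Stalk

end Groth.Agent.Lib.H69EtStalkSh
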