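import Groth.Agent.Lib.H69EtStalkAb
import Groth.Agent.Lib.AlgSpPts66
import Mathlib.Algebra.Category.Grp.Zero

/-!
# helper69: vanishing of germs of sections of abelian sheaves on the small etale site (S10254, S10256)
-/

set_option autoImplicit false
universe u
open CategoryTheory CategoryTheory.Limits AlgebraicGeometry Opposite

namespace Groth.Agent.Lib.H69EtStalkSupp

open AlgSp Groth.Agent.Lib.H69EtPoint Groth.Agent.Lib.H69EtStalk Groth.Agent.Lib.H69EtStalkCons
  Groth.Agent.Lib.H69EtStalkAb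

variable {S : Scheme.{u}} {X : Sp S}

/-- A lift of a geometric point to `E` whose point lies in the image of `φ : V ⟶ E` lifts to `V`. -/
theorem exists_lift_of_mem_range (p : FieldPt X) (hp : p.IsGeometric) {E V : EtOver X} (φ : V ⟶ E)
    (l : (FieldPt.liftsTo p).obj E)
    (h : l.1.left (IsLocalRing.closedPoint p.K : PrimeSpectrum p.K) ∈ Set.range φ.hom.left.left) :
    ∃ x : (FieldPt.liftsTo p).obj V, (FieldPt.liftsTo p).map φ x = l := by
  haveI : IsAlgClosed p.K := hp
  obtain ⟨ub, hub⟩ := l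
  obtain ⟨y, hy⟩ := h
  haveI : Etale φ.hom.left.left := EtOver.etale_left φ
  obtain ⟨l', hl1, hl2⟩ := Scheme.exists_fac_of_etale_of_isSepClosed (Ω := p.K) φ.hom.left.left
    ub.left y (by
      rw [hy]
      exact congrArg ub.left (Subsingleton.elim (α := PrimeSpectrum p.K) _ _))
  have hlo : l' ≫ V.obj.left.hom = p.pt.hom := by
    rw [← Over.w φ.hom.left, ← Category.assoc, hl1, Over.w ub]
  have hcomp : (Over.homMk l' hlo : p.pt ⟶ V.obj.left) ≫ φ.hom.left = ub :=
    Over.OverMorphism.ext hl1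
  refine ⟨⟨Over.homMk l' hlo, ?_⟩, ?_⟩
  · rw [← EtOver.w φ, ← Category.assoc, ← Functor.map_comp, hcomp]
    exact hub
  · apply Subtype.ext
    exact hcomp

/-- The germ of a section of an abelian sheaf at a lift of a geometric point vanishes iff the section vanishes on an
etale neighbourhood. -/
theorem germ_eq_zero_iff (hX : IsAlgSpace X) (F : AbEt X) {U : EtOver X} (σ : ↥(F.obj.obj (op U)))
    (p : FieldPt X) (hp : p.IsGeometric) (l : (FieldPt.liftsTo p).obj U) :
    (point p hX hp).toPresheafFiber U l F.obj σ = 0 ↔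
      ∃ (V : EtOver X) (φ : V ⟶ U), F.obj.map φ.op σ = 0 ∧
        l.1.left (IsLocalRing.closedPoint p.K : PrimeSpectrum p.K) ∈ Set.range φ.hom.left.left := by
  have := pfc_ab.{u}
  constructor
  · intro h
    have h0 : (point p hX hp).toPresheafFiber U l F.obj σ = (point p hX hp).toPresheafFiber U l F.obj 0 := by
      rw [h, map_zero]
    rw [GrothendieckTopology.Point.toPresheafFiber_eq_iff'] at h0
    obtain ⟨Y, f, y, hy, hst⟩ := h0
    refine ⟨Y, f, by rw [hst, map_zero], ?_⟩
    have h3 := mem_range_of_lift p f y (IsLocalRing.closedPoint p.K : PrimeSpectrum _)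
    have hy' : (FieldPt.liftsTo p).map f y = l := hy
    rw [hy'] at h3
    exact h3
  · rintro ⟨V, φ, hσ, hmem⟩
    obtain ⟨x, hx⟩ := exists_lift_of_mem_range p hp φ l hmem
    have h1 := (point p hX hp).toPresheafFiber_w_apply φ x F.obj σ
    change (point p hX hp).toPresheafFiber V x F.obj _ =
      (point p hX hp).toPresheafFiber U ((FieldPt.liftsTo p).map φ x) F.obj σ at h1
    rw [hx] at h1
    rw [← h1, hσ, map_zero]

end Groth.Agent.Lib.H69EtStalkSupp

namespace Groth.Agent.Lib.H69EtStalkSupp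

open AlgSp Groth.Agent.Lib.H69EtPoint Groth.Agent.Lib.H69EtStalk Groth.Agent.Lib.H69EtStalkCons
  Groth.Agent.Lib.H69EtStalkAb

variable {S : Scheme.{u}} {X : Sp S}

/-- The largest open of `U` on which a section vanishes. -/
def vanishingOpens (F : AbEt X) {U : EtOver X} (σ : ↥(F.obj.obj (op U))) : TopologicalSpace.Opens ↥U.obj.left.left where
  carrier := {u | ∃ (V : EtOver X) (φ : V ⟶ U), F.obj.map φ.op σ = 0 ∧ u ∈ Set.range φ.hom.left.left}
  is_open' := by
    rw [isOpen_iff_forall_mem_open]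
    rintro u ⟨V, φ, hσ, hu⟩
    haveI : Etale φ.hom.left.left := EtOver.etale_left φ
    exact ⟨Set.range φ.hom.left.left, fun u' hu' => ⟨V, φ, hσ, hu'⟩,
      (Groth.Agent.Lib.AlgSpPts66.isOpenMap_of_etale φ.hom.left.left).isOpen_range, hu⟩

theorem germ_eq_zero_iff_mem (hX : IsAlgSpace X) (F : AbEt X) {U : EtOver X} (σ : ↥(F.obj.obj (op U)))
    (p : FieldPt X) (hp : p.IsGeometric) (l : (FieldPt.liftsTo p).obj U) :
    (point p hX hp).toPresheafFiber U l F.obj σ = 0 ↔
      l.1.left (IsLocalRing.closedPoint p.K : PrimeSpectrum p.K) ∈ vanishingOpens F σ :=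
  germ_eq_zero_iff hX F σ p hp l

theorem map_eq_zero_iff_range_subset (hX : IsAlgSpace X) (F : AbEt X) {U : EtOver X} (σ : ↥(F.obj.obj (op U)))
    (V : EtOver X) (φ : V ⟶ U) :
    F.obj.map φ.op σ = 0 ↔ Set.range φ.hom.left.left ⊆ (vanishingOpens F σ : Set ↥U.obj.left.left) := by
  have := pfc_ab.{u}
  constructor
  · rintro h _ ⟨v, rfl⟩
    exact ⟨V, φ, h, ⟨v, rfl⟩⟩
  · intro h
    have hsep : Presieve.IsSeparated (etTop X) (F.obj ⋙ forget AddCommGrpCat.{u + 1}) :=
      Presieve.IsSheaf.isSeparated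
        ((isSheaf_iff_isSheaf_of_type _ _).1 ((sheafCompose (etTop X) (forget AddCommGrpCat.{u + 1})).obj F).2)
    refine eq_of_forall_germ_eq hX F.obj hsep (E := V) (F.obj.map φ.op σ) 0 fun p hp x => ?_
    rw [map_zero]
    have h1 := (point p hX hp).toPresheafFiber_w_apply φ x F.obj σ
    change (point p hX hp).toPresheafFiber V x F.obj _ =
      (point p hX hp).toPresheafFiber U ((FieldPt.liftsTo p).map φ x) F.obj σ at h1
    rw [h1, germ_eq_zero_iff_mem]
    exact h (mem_range_of_lift p φ x _)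

end Groth.Agent.Lib.H69EtStalkSupp

namespace Groth.Agent.Lib.H69EtStalkSupp

open AlgSp Groth.Agent.Lib.H69EtPoint Groth.Agent.Lib.H69EtStalk Groth.Agent.Lib.H69EtStalkCons
  Groth.Agent.Lib.H69EtStalkAb

variable {S : Scheme.{u}} {X : Sp S}

/-- Membership in the support of an abelian sheaf in terms of sections. -/
theorem mem_support_iff (hX : IsAlgSpace X) (F : AbEt X) (x : Points X) :
    (∃ p : FieldPt X, p.IsGeometric ∧ Points.mk p = x ∧ ¬ IsZero (stalkEt p F)) ↔
      ∃ (U : EtOver X) (σ : ↥(F.obj.obj (op U))) (u : ↥U.obj.left.left),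
        Points.ofPt U.obj.hom u = x ∧
          ∀ (V : EtOver X) (φ : V ⟶ U), (F.obj.map φ.op).hom σ = 0 →
            u ∉ Set.range (fun v => φ.hom.left.left v) := by
  have := pfc_ab.{u}
  constructor
  · rintro ⟨p, hp, rfl, hnz⟩
    have hex : ∃ z : ↥(stalkEt p F), z ≠ 0 := by
      by_contra hall
      push Not at hall
      haveI : Subsingleton ↥(stalkEt p F) := ⟨fun a b => (hall a).trans (hall b).symm⟩
      exact hnz (AddCommGrpCat.isZero_of_subsingleton _)
    obtain ⟨z, hz⟩ := hex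
    obtain ⟨U, l, σ, rfl⟩ := (point p hX hp).toPresheafFiber_jointly_surjective (P := F.obj) z
    refine ⟨U, σ, l.1.left (IsLocalRing.closedPoint p.K : PrimeSpectrum p.K), ofPt_lift p l _, ?_⟩
    intro V φ hσ hu
    exact hz ((germ_eq_zero_iff hX F σ p hp l).2 ⟨V, φ, hσ, hu⟩)
  · rintro ⟨U, σ, u, rfl, h⟩
    refine ⟨geomPt U u, geomPt_isGeometric U u, mk_geomPt U u, ?_⟩
    intro hz
    have hsub : Subsingleton ↥(stalkEt (geomPt U u) F) := AddCommGrpCat.subsingleton_of_isZero hz
    have h0 : (point (geomPt U u) hX (geomPt_isGeometric U u)).toPresheafFiber U (geomLift U u) F.obj σ = 0 :=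
      Subsingleton.elim (α := ↥(stalkEt (geomPt U u) F)) _ _
    obtain ⟨V, φ, hσ, hmem⟩ := (germ_eq_zero_iff hX F σ _ (geomPt_isGeometric U u) (geomLift U u)).1 h0
    rw [geomLift_apply] at hmem
    exact h V φ hσ hmem

end Groth.Agent.Lib.H69EtStalkSupp
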