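import Groth.Agent.Lib.H69EtLocalRing

/-!
# helper69: covering sieves of the small etale site; the functor `postcomp` along an etale morphism (S10234)

* `mem_etTop_iff`: a sieve is covering iff its members are jointly surjective;
* `postcomp_exists_lift`: every morphism `W ⟶ postcomp E` comes from a morphism of the small etale site of `X`;
* `postcomp_exists_preimage`: `postcomp` is full relative to a base;
* `postcomp_isCocontinuous`, `postcomp_isContinuous`.
-/

set_option autoImplicit false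
universe u
open CategoryTheory CategoryTheory.Limits AlgebraicGeometry Opposite

namespace Groth.Agent.Lib.H69EtTopIff

open AlgSp Groth.Agent.Lib.H69EtLocalRing

variable {S : Scheme.{u}}

theorem mem_etTop_iff {X : Sp S} {E : EtOver X} (R : Sieve E) :
    R ∈ etTop X E ↔
      ∀ e : ↥E.obj.left.left, ∃ (E' : EtOver X) (g : E' ⟶ E), R g ∧ e ∈ Set.range g.hom.left.left := by
  constructor
  · intro hR e
    obtain ⟨R₀, hR₀, hle⟩ := (Precoverage.mem_toGrothendieck_iff_of_isStableUnderComposition (J := etPre X)).1 hR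
    obtain ⟨α, T, f, rfl⟩ := R₀.exists_eq_ofArrows
    rw [ofArrows_mem_etPre_iff] at hR₀
    obtain ⟨i, hi⟩ := hR₀ e
    exact ⟨T i, f i, hle (T i) (f i) (Presieve.ofArrows.mk i), hi⟩
  · intro h
    choose E' g hR he using h
    refine (etTop X).superset_covering ?_ (ofArrows_mem_etTop E' g (fun e => ⟨e, he e⟩))
    intro T k hk
    obtain ⟨e, l, rfl⟩ := (Sieve.mem_ofArrows_iff _ _ k).1 hk
    exact R.downward_closed (hR e) l

variable {X Y : Sp S} (f : X ⟶ Y) (hf : IsEtaleMor f)

/-- Every morphism to `postcomp E` comes, up to an isomorphism of the source, from the small etale site of `X`. -/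
theorem postcomp_exists_lift (E : EtOver X) {W : EtOver Y} (g : W ⟶ (EtOver.postcomp f hf).obj E) :
    ∃ (W₁ : EtOver X) (k : W₁ ⟶ E) (a : (EtOver.postcomp f hf).obj W₁ ⟶ W) (b : W ⟶ (EtOver.postcomp f hf).obj W₁),
      a ≫ b = 𝟙 _ ∧ b ≫ a = 𝟙 _ ∧ (EtOver.postcomp f hf).map k = a ≫ g ∧
        Set.range k.hom.left.left = Set.range g.hom.left.left := by
  let g₀ : W.obj.left.left ⟶ E.obj.left.left := g.hom.left.left
  have hge : Etale g₀ := EtOver.etale_left g
  let W₁ : EtOver X := sub E g₀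
  have hO : g₀ ≫ E.obj.left.hom = W.obj.left.hom := Over.w g.hom.left
  let aO : ((EtOver.postcomp f hf).obj W₁).obj.left ⟶ W.obj.left := Over.homMk (𝟙 W.obj.left.left) (by
    refine (Category.id_comp _).trans ?_
    exact hO.symm)
  let bO : W.obj.left ⟶ ((EtOver.postcomp f hf).obj W₁).obj.left := Over.homMk (𝟙 W.obj.left.left) (by
    refine (Category.id_comp _).trans ?_
    exact hO)
  have haO : aO ≫ g.hom.left = subOverHom E g₀ := Over.OverMorphism.ext (Category.id_comp _)
  have hbO : bO ≫ subOverHom E g₀ = g.hom.left := Over.OverMorphism.ext (Category.id_comp _)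
  have hW₁ : ((EtOver.postcomp f hf).obj W₁).obj.hom =
      (yon S).map (subOverHom E g₀) ≫ E.obj.hom ≫ f := Category.assoc _ _ _
  have hgw : (yon S).map g.hom.left ≫ E.obj.hom ≫ f = W.obj.hom := EtOver.w g
  have ha2 : (yon S).map aO ≫ W.obj.hom = ((EtOver.postcomp f hf).obj W₁).obj.hom := by
    refine (congrArg (fun t => (yon S).map aO ≫ t) hgw.symm).trans ?_
    refine (Category.assoc _ _ _).symm.trans ?_
    refine (congrArg (fun t => t ≫ E.obj.hom ≫ f) ((yon S).map_comp aO g.hom.left).symm).trans ?_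
    rw [haO]
    exact hW₁.symm
  have hb2 : (yon S).map bO ≫ ((EtOver.postcomp f hf).obj W₁).obj.hom = W.obj.hom := by
    refine (congrArg (fun t => (yon S).map bO ≫ t) hW₁).trans ?_
    refine (Category.assoc _ _ _).symm.trans ?_
    refine (congrArg (fun t => t ≫ E.obj.hom ≫ f) ((yon S).map_comp bO (subOverHom E g₀)).symm).trans ?_
    rw [hbO]
    exact hgw
  let a : (EtOver.postcomp f hf).obj W₁ ⟶ W := EtOver.homMk aO ha2
  let b : W ⟶ (EtOver.postcomp f hf).obj W₁ := EtOver.homMk bO hb2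
  refine ⟨W₁, subHom E g₀, a, b, ?_, ?_, ?_, rfl⟩
  · apply EtOver.hom_ext
    apply Over.OverMorphism.ext
    exact Category.id_comp _
  · apply EtOver.hom_ext
    apply Over.OverMorphism.ext
    exact Category.id_comp _
  · apply EtOver.hom_ext
    exact haO.symm

/-- `postcomp` is full relative to a base object. -/
theorem postcomp_exists_preimage {W₁ Y₁ Z : EtOver X} (g₁ : Y₁ ⟶ Z) (k : W₁ ⟶ Z)
    (φ : (EtOver.postcomp f hf).obj W₁ ⟶ (EtOver.postcomp f hf).obj Y₁)
    (h : φ ≫ (EtOver.postcomp f hf).map g₁ = (EtOver.postcomp f hf).map k) :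
    ∃ h' : W₁ ⟶ Y₁, (EtOver.postcomp f hf).map h' = φ ∧ h' ≫ g₁ = k := by
  have h1 : φ.hom.left ≫ g₁.hom.left = k.hom.left := congrArg (fun t => t.hom.left) h
  have h2 : (yon S).map φ.hom.left ≫ Y₁.obj.hom = W₁.obj.hom := by
    refine (congrArg (fun t => (yon S).map φ.hom.left ≫ t) (EtOver.w g₁).symm).trans ?_
    refine (Category.assoc _ _ _).symm.trans ?_
    refine (congrArg (fun t => t ≫ Z.obj.hom) ((yon S).map_comp φ.hom.left g₁.hom.left).symm).trans ?_
    rw [h1]
    exact EtOver.w k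
  exact ⟨EtOver.homMk φ.hom.left h2, EtOver.hom_ext _ _ rfl, EtOver.hom_ext _ _ h1⟩

theorem postcomp_isCocontinuous : (EtOver.postcomp f hf).IsCocontinuous (etTop X) (etTop Y) where
  cover_lift {E R} hR := by
    rw [mem_etTop_iff] at hR ⊢
    intro e
    obtain ⟨W, g, hg, he⟩ := hR e
    obtain ⟨W₁, k, a, b, -, -, hk, hr⟩ := postcomp_exists_lift f hf E g
    refine ⟨W₁, k, ?_, by rw [hr]; exact he⟩
    change R ((EtOver.postcomp f hf).map k)
    rw [hk]
    exact R.downward_closed hg a

theorem postcomp_coverPreserving : CoverPreserving (etTop X) (etTop Y) (EtOver.postcomp f hf) where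
  cover_preserve {E R} hR := by
    rw [mem_etTop_iff] at hR ⊢
    intro e
    obtain ⟨W, g, hg, he⟩ := hR e
    exact ⟨_, (EtOver.postcomp f hf).map g, Sieve.image_mem_functorPushforward _ R hg, he⟩

theorem postcomp_compatiblePreserving : CompatiblePreserving (etTop Y) (EtOver.postcomp f hf) where
  compatible ℱ Z T x hx Y₁ Y₂ W f₁ f₂ g₁ g₂ hg₁ hg₂ hcomm := by
    obtain ⟨W₁, k, a, b, hab, hba, hk, -⟩ := postcomp_exists_lift f hf Z (f₁ ≫ (EtOver.postcomp f hf).map g₁)
    obtain ⟨h₁, hh₁, hh₁'⟩ := postcomp_exists_preimage f hf g₁ k (a ≫ f₁) (by rw [Category.assoc, hk])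
    obtain ⟨h₂, hh₂, hh₂'⟩ := postcomp_exists_preimage f hf g₂ k (a ≫ f₂) (by rw [Category.assoc, hk, hcomm])
    have h3 := hx h₁ h₂ hg₁ hg₂ (hh₁'.trans hh₂'.symm)
    change ℱ.obj.map ((EtOver.postcomp f hf).map h₁).op (x g₁ hg₁) =
      ℱ.obj.map ((EtOver.postcomp f hf).map h₂).op (x g₂ hg₂) at h3
    rw [hh₁, hh₂, op_comp, op_comp, Functor.map_comp_apply, Functor.map_comp_apply] at h3
    have key : ∀ y, ℱ.obj.map b.op (ℱ.obj.map a.op y) = y := by
      intro y
      rw [← Functor.map_comp_apply, ← op_comp, hba, op_id, Functor.map_id_apply]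
    have h4 := congrArg (ℱ.obj.map b.op) h3
    rwa [key, key] at h4

theorem postcomp_isContinuous : (EtOver.postcomp f hf).IsContinuous (etTop X) (etTop Y) :=
  Functor.isContinuous_of_coverPreserving (postcomp_compatiblePreserving f hf) (postcomp_coverPreserving f hf)

end Groth.Agent.Lib.H69EtTopIff
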