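import Groth.Agent.Lib.H69TorsionFree
import Groth.Agent.Lib.H69ClosedDesc
import Groth.Prelude.Def_CInt

/-!
# helper69: the inverse image of a schematically dense open under an etale morphism is schematically dense

No quasi-compactness is assumed on the open.

* `isSchematicallyDense_preimage_of_etale`: if `W` is schematically dense in `T₁` (strong sense of the Prelude:
  restriction from every open `V` to `V ∩ W` is injective) and `g : T ⟶ T₁` is etale, then `g ⁻¹ᵁ W` is
  schematically dense.  The proof is local: an etale ring map is locally standard etale, a standard etale algebra is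
  a localization of a finite free algebra, and "no sections supported off `W`" passes to these
  (`H69TorsionFree`).
* `isSchematicallyDense_of_preimage`: schematic density descends along flat surjective morphisms.
* `isSchematicallyDense_inf`: the intersection of two schematically dense opens is schematically dense.
-/

set_option autoImplicit false
universe u

open CategoryTheory AlgebraicGeometry TopologicalSpace Opposite

namespace Groth.Agent.Lib.H69EtaleDense

variable {X : Scheme.{u}}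

/-- A section vanishing locally vanishes. -/
theorem eq_zero_of_locally {V : X.Opens} (s : Γ(X, V))
    (h : ∀ x ∈ V, ∃ (U : X.Opens) (hU : U ≤ V), x ∈ U ∧ X.presheaf.map (homOfLE hU).op s = 0) : s = 0 := by
  choose U hU hxU hs using h
  refine X.sheaf.eq_of_locally_eq' (fun x : V => U x.1 x.2) V (fun x => homOfLE (hU x.1 x.2)) ?_ s 0
    fun x => ?_
  · intro x hx
    exact Opens.mem_iSup.mpr ⟨⟨x, hx⟩, hxU x hx⟩
  · rw [map_zero]
    exact hs x.1 x.2

/-- Restriction to a basic open of a product kills sections killed by monomials. -/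
theorem res_basicOpen_eq_zero_of_mul_eq_zero {U : X.Opens} (b β : Γ(X, U)) {O : X.Opens}
    (hO : O ≤ X.basicOpen b) (hOU : O ≤ U) (h : b * β = 0) : X.presheaf.map (homOfLE hOU).op β = 0 := by
  have hu : IsUnit (X.presheaf.map (homOfLE hOU).op b) := by
    have h1 : IsUnit (X.presheaf.map (homOfLE (X.basicOpen_le b)).op b) :=
      RingedSpace.isUnit_res_basicOpen _ b
    have h2 : X.presheaf.map (homOfLE hOU).op b =
        X.presheaf.map (homOfLE hO).op (X.presheaf.map (homOfLE (X.basicOpen_le b)).op b) := by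
      rw [← CommRingCat.comp_apply, ← Functor.map_comp]
      rfl
    rw [h2]
    exact h1.map _
  have := congrArg (X.presheaf.map (homOfLE hOU).op) h
  rw [map_mul, map_zero] at this
  exact hu.mul_right_eq_zero.1 this

theorem map_map_apply {U V W : X.Opens} (h₁ : V ≤ U) (h₂ : W ≤ V) (s : Γ(X, U)) :
    X.presheaf.map (homOfLE h₂).op (X.presheaf.map (homOfLE h₁).op s) =
      X.presheaf.map (homOfLE (h₂.trans h₁)).op s := by
  rw [← CommRingCat.comp_apply, ← Functor.map_comp]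
  rfl

theorem basicOpen_le_basicOpen_pow {U : X.Opens} (f : Γ(X, U)) (n : ℕ) :
    X.basicOpen f ≤ X.basicOpen (f ^ n) := by
  cases n with
  | zero => rw [pow_zero, Scheme.basicOpen_of_isUnit _ isUnit_one]; exact X.basicOpen_le f
  | succ n => rw [Scheme.basicOpen_pow _ _ (Nat.succ_pos n)]

theorem basicOpen_le_basicOpen_mul_pow {U : X.Opens} (a b : Γ(X, U)) (n m : ℕ) :
    X.basicOpen b ⊓ X.basicOpen a ≤ X.basicOpen (b ^ m * a ^ n) := by
  rw [Scheme.basicOpen_mul]
  exact inf_le_inf (basicOpen_le_basicOpen_pow b m) (basicOpen_le_basicOpen_pow a n)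

theorem mem_basicOpen_of_notMem_primeIdealOf {U : X.Opens} (hU : IsAffineOpen U) (t : X) (ht : t ∈ U)
    (f : Γ(X, U)) (hf : f ∉ (hU.primeIdealOf ⟨t, ht⟩).asIdeal) : t ∈ X.basicOpen f := by
  have h1 : hU.primeIdealOf ⟨t, ht⟩ ∈ hU.fromSpec ⁻¹ᵁ X.basicOpen f := by
    rw [hU.fromSpec_preimage_basicOpen]
    exact hf
  have h2 := hU.fromSpec_primeIdealOf ⟨t, ht⟩
  have h3 : hU.fromSpec (hU.primeIdealOf ⟨t, ht⟩) ∈ X.basicOpen f := h1
  rw [h2] at h3
  exact h3

/-- The hypothesis of `H69TorsionFree.eq_zero_of_isStandardEtale` for the ring of an affine open `U₁` and the set of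
`a` with `D(a) ⊆ W`, for `W` schematically dense. -/
theorem torsion_hyp {T₁ : Scheme.{u}} {U₁ : T₁.Opens} (hU₁ : IsAffineOpen U₁) (W : T₁.Opens)
    (hW : CInt.IsSchematicallyDense W) (b β : Γ(T₁, U₁))
    (h : ∀ a : Γ(T₁, U₁), T₁.basicOpen a ≤ W → ∃ n m : ℕ, b ^ m * a ^ n * β = 0) :
    ∃ r : ℕ, b ^ r * β = 0 := by
  apply exists_pow_mul_eq_zero_of_res_basicOpen_eq_zero_of_isAffineOpen T₁ hU₁
  change T₁.presheaf.map (homOfLE (T₁.basicOpen_le b)).op β = 0
  apply hW (T₁.basicOpen b)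
  rw [map_zero]
  apply eq_zero_of_locally
  intro x hx
  obtain ⟨a, ha, hxa⟩ := hU₁.exists_basicOpen_le (V := W) ⟨x, hx.2⟩ (T₁.basicOpen_le b hx.1)
  obtain ⟨n, m, hnm⟩ := h a ha
  refine ⟨T₁.basicOpen b ⊓ T₁.basicOpen a, inf_le_inf le_rfl ha, ⟨hx.1, hxa⟩, ?_⟩
  rw [map_map_apply, map_map_apply]
  exact res_basicOpen_eq_zero_of_mul_eq_zero (b ^ m * a ^ n) β (basicOpen_le_basicOpen_mul_pow a b n m) _ hnm

/-- Local form: on an affine open `U''` of `T` mapping into an affine open `U₁` of `T₁`, a section vanishing on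
`U'' ∩ g⁻¹ W` vanishes on a basic open neighbourhood of any given point. -/
theorem exists_basicOpen_res_eq_zero {T T₁ : Scheme.{u}} (g : T ⟶ T₁) [Etale g] (W : T₁.Opens)
    (hW : CInt.IsSchematicallyDense W) {U₁ : T₁.Opens} (hU₁ : IsAffineOpen U₁) {U'' : T.Opens}
    (hU'' : IsAffineOpen U'') (e : U'' ≤ g ⁻¹ᵁ U₁) (s : Γ(T, U''))
    (hs : T.presheaf.map (homOfLE inf_le_left : U'' ⊓ g ⁻¹ᵁ W ⟶ U'').op s = 0) (t : T) (ht : t ∈ U'') :
    ∃ f : Γ(T, U''), t ∈ T.basicOpen f ∧ T.presheaf.map (homOfLE (T.basicOpen_le f)).op s = 0 := by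
  have hφ : (g.appLE U₁ U'' e).hom.Etale :=
    HasRingHomProperty.appLE @Etale g inferInstance ⟨U₁, hU₁⟩ ⟨U'', hU''⟩ e
  set φ := (g.appLE U₁ U'' e).hom with hφdef
  algebraize [φ]
  let Q : Ideal Γ(T, U'') := (hU''.primeIdealOf ⟨t, ht⟩).asIdeal
  have hQ : Q.IsPrime := (hU''.primeIdealOf ⟨t, ht⟩).isPrime
  obtain ⟨f, hfQ, hf⟩ := Algebra.IsEtaleAt.exists_isStandardEtale (R := Γ(T₁, U₁)) Q
  refine ⟨f, mem_basicOpen_of_notMem_primeIdealOf hU'' t ht f hfQ, ?_⟩
  have key : algebraMap Γ(T, U'') (Localization.Away f) s = 0 := by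
    refine Groth.Agent.Lib.H69TorsionFree.eq_zero_of_isStandardEtale (B := Γ(T₁, U₁))
      {a | T₁.basicOpen a ≤ W} (fun b β h => torsion_hyp hU₁ W hW b β h) _ ?_
    intro a ha
    have h0 : T.presheaf.map (homOfLE (T.basicOpen_le (φ a))).op s = 0 := by
      have hle : T.basicOpen (φ a) ≤ U'' ⊓ g ⁻¹ᵁ W := by
        rw [hφdef]
        erw [Scheme.basicOpen_appLE]
        exact inf_le_inf le_rfl (g.preimage_mono ha)
      rw [← map_map_apply inf_le_left hle, hs, map_zero]
    obtain ⟨n, hn⟩ := exists_pow_mul_eq_zero_of_res_basicOpen_eq_zero_of_isAffineOpen T hU'' s (φ a) h0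
    refine ⟨n, ?_⟩
    rw [IsScalarTower.algebraMap_apply Γ(T₁, U₁) Γ(T, U'') (Localization.Away f), ← map_pow, ← map_mul]
    rw [RingHom.algebraMap_toAlgebra]
    rw [hn, map_zero]
  obtain ⟨⟨_, n, rfl⟩, hn⟩ := (IsLocalization.map_eq_zero_iff (Submonoid.powers f) _ _).1 key
  exact res_basicOpen_eq_zero_of_mul_eq_zero (f ^ n) s (basicOpen_le_basicOpen_pow f n) _ hn

/-- **Etale pullback of a schematically dense open** (no quasi-compactness assumption). -/
theorem isSchematicallyDense_preimage_of_etale {T T₁ : Scheme.{u}} (g : T ⟶ T₁) [Etale g] (W : T₁.Opens)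
    (hW : CInt.IsSchematicallyDense W) : CInt.IsSchematicallyDense (g ⁻¹ᵁ W) := by
  intro V'
  rw [injective_iff_map_eq_zero]
  intro s hs
  refine eq_zero_of_locally s fun t ht => ?_
  obtain ⟨U₁, hU₁, htU₁⟩ : ∃ U₁ : T₁.Opens, IsAffineOpen U₁ ∧ g t ∈ U₁ := by
    obtain ⟨_, ⟨U₁, hU₁, rfl⟩, h, -⟩ :=
      T₁.isBasis_affineOpens.exists_subset_of_mem_open (Set.mem_univ (g t)) isOpen_univ
    exact ⟨U₁, hU₁, h⟩
  obtain ⟨U'', hU'', htU'', hle⟩ :
      ∃ U'' : T.Opens, IsAffineOpen U'' ∧ t ∈ U'' ∧ U'' ≤ V' ⊓ g ⁻¹ᵁ U₁ := by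
    obtain ⟨_, ⟨U'', hU'', rfl⟩, h, h'⟩ :=
      T.isBasis_affineOpens.exists_subset_of_mem_open
        (show t ∈ ((V' ⊓ g ⁻¹ᵁ U₁ : T.Opens) : Set T) from ⟨ht, htU₁⟩) (V' ⊓ g ⁻¹ᵁ U₁).isOpen
    exact ⟨U'', hU'', h, h'⟩
  have e : U'' ≤ g ⁻¹ᵁ U₁ := hle.trans inf_le_right
  have hUV : U'' ≤ V' := hle.trans inf_le_left
  obtain ⟨f, htf, hf⟩ := exists_basicOpen_res_eq_zero g W hW hU₁ hU'' e
    (T.presheaf.map (homOfLE hUV).op s) (by
      rw [map_map_apply]
      rw [← map_map_apply inf_le_left (inf_le_inf hUV le_rfl)]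
      erw [hs]
      rw [map_zero]) t htU''
  refine ⟨T.basicOpen f, (T.basicOpen_le f).trans hUV, htf, ?_⟩
  rw [← map_map_apply hUV]
  exact hf

/-- Schematic density descends along flat surjective morphisms. -/
theorem isSchematicallyDense_of_preimage {T V : Scheme.{u}} (g : T ⟶ V) [Flat g] [Surjective g] (W : V.Opens)
    (h : CInt.IsSchematicallyDense (g ⁻¹ᵁ W)) : CInt.IsSchematicallyDense W := by
  intro V'
  rw [injective_iff_map_eq_zero]
  intro s hs
  apply Groth.Agent.Lib.H69ClosedDesc.app_injective_of_flat_of_surjective (f := g) V'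
  rw [map_zero]
  apply h (g ⁻¹ᵁ V')
  rw [map_zero]
  have hnat := g.naturality (homOfLE (inf_le_left : V' ⊓ W ≤ V')).op
  have := congrArg (fun k => k.hom s) hnat
  simp only [CommRingCat.hom_comp, RingHom.comp_apply] at this
  rw [hs, map_zero] at this
  exact this.symm

/-- The intersection of two schematically dense opens is schematically dense. -/
theorem isSchematicallyDense_inf (W₁ W₂ : X.Opens) (h₁ : CInt.IsSchematicallyDense W₁)
    (h₂ : CInt.IsSchematicallyDense W₂) : CInt.IsSchematicallyDense (W₁ ⊓ W₂) := by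
  intro V
  rw [injective_iff_map_eq_zero]
  intro s hs
  apply h₁ V
  rw [map_zero]
  apply h₂ (V ⊓ W₁)
  rw [map_zero, map_map_apply]
  have hle : V ⊓ (W₁ ⊓ W₂) ≤ V ⊓ W₁ ⊓ W₂ := by rw [inf_assoc]
  have hge : V ⊓ W₁ ⊓ W₂ ≤ V ⊓ (W₁ ⊓ W₂) := by rw [inf_assoc]
  rw [← map_map_apply inf_le_left hge, hs, map_zero]

end Groth.Agent.Lib.H69EtaleDense
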