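import Groth.Agent.Lib.H69QuotOpen
import Groth.Agent.Lib.AlgSpQC

/-!
# helper69: surjective etale morphisms of algebraic spaces are epimorphisms; pasting of pullbacks along an epi
-/

set_option autoImplicit false
universe u

open CategoryTheory CategoryTheory.Limits AlgebraicGeometry Opposite

namespace Groth.Agent.Lib.H69EtaleEpi

open AlgSp Groth.Agent.Lib.H69AlgSp Groth.Agent.Lib.H69QuotOpen

variable {S : Scheme.{u}}

/-- A surjective etale morphism from an algebraic space is an epimorphism of fppf sheaves. -/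
theorem epi_of_isEtaleMor_of_isSurjectiveMor {B D : Sp S} (hB : IsAlgSpace B) (bd : B ⟶ D)
    (het : IsEtaleMor bd) (hs : IsSurjectiveMor bd) : Epi bd := by
  obtain ⟨V, q, hqe, hqs⟩ := hB.atlas
  have h1 : RepWith @Etale (q ≫ bd) := het q hqe
  have h2 : RepWith @Surjective (q ≫ bd) := by
    refine Groth.Agent.Lib.AlgSpQC.repWith_surjective_of_isSurjectiveMor h1.rep ?_
    intro x
    obtain ⟨y, hy⟩ := hs x
    obtain ⟨w, hw⟩ := Groth.Agent.Lib.AlgSpQC.surjective_map_of_repWith_surjective hqs y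
    exact ⟨w, by rw [Points.map_comp, hw, hy]⟩
  have h3 : Sheaf.IsLocallySurjective (q ≫ bd) := isLocallySurjective_of_etale_surjective _ h1 h2
  have h4 : Epi (q ≫ bd) := (Sheaf.isLocallySurjective_iff_epi _).1 h3
  exact epi_of_epi q bd

/-- Converse pasting of pullback squares along an epimorphism of sheaves: if the left square and the outer rectangle
are cartesian and the bottom left map is an epimorphism, then the right square is cartesian. -/
theorem isPullback_of_isPullback_comp_of_epi {A B C D E F : Sp S} {ac : A ⟶ C} {ab : A ⟶ B} {cd : C ⟶ D}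
    {bd : B ⟶ D} {ce : C ⟶ E} {df : D ⟶ F} {ef : E ⟶ F} (hl : IsPullback ac ab cd bd)
    (hcomm : cd ≫ df = ce ≫ ef) (hout : IsPullback (ac ≫ ce) ab ef (bd ≫ df)) [Epi bd] :
    IsPullback ce cd ef df := by
  have hbd : Sheaf.IsLocallySurjective bd := (Sheaf.isLocallySurjective_iff_epi _).2 inferInstance
  have hinj : ∀ (T : Over S) (c c' : (yon S).obj T ⟶ C), c ≫ ce = c' ≫ ce → c ≫ cd = c' ≫ cd → c = c' := by
    intro T c c' h1 h2
    obtain ⟨R, hR, hlift⟩ := Groth.Agent.Lib.H69InvSub.exists_sieve_lift bd (c ≫ cd)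
    refine eq_of_sieve c c' R hR ?_
    intro T₁ φ hφ
    obtain ⟨y, hy⟩ := hlift φ hφ
    have e1 : ((yon S).map φ ≫ c) ≫ cd = y ≫ bd := by rw [Category.assoc, hy]
    have e2 : ((yon S).map φ ≫ c') ≫ cd = y ≫ bd := by rw [Category.assoc, ← h2, hy]
    have ea : hl.lift _ _ e1 = hl.lift _ _ e2 := by
      apply hout.hom_ext
      · rw [← Category.assoc, ← Category.assoc, hl.lift_fst, hl.lift_fst, Category.assoc, Category.assoc, h1]
      · rw [hl.lift_snd, hl.lift_snd]
    calc (yon S).map φ ≫ c = hl.lift _ _ e1 ≫ ac := (hl.lift_fst _ _ e1).symm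
      _ = hl.lift _ _ e2 ≫ ac := by rw [ea]
      _ = (yon S).map φ ≫ c' := hl.lift_fst _ _ e2
  refine isPullback_of_yon hcomm.symm hinj ?_
  intro T e d hed
  let k : C ⟶ pullback ef df := pullback.lift ce cd hcomm.symm
  have hk1 : k ≫ pullback.fst ef df = ce := pullback.lift_fst _ _ _
  have hk2 : k ≫ pullback.snd ef df = cd := pullback.lift_snd _ _ _
  have hmono : Mono k := by
    refine mono_of_yon k fun T c c' h => hinj T c c' ?_ ?_
    · rw [← hk1, ← Category.assoc, h, Category.assoc]
    · rw [← hk2, ← Category.assoc, h, Category.assoc]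
  obtain ⟨R, hR, hlift⟩ := Groth.Agent.Lib.H69InvSub.exists_sieve_lift bd d
  obtain ⟨c, hc⟩ := exists_factor_of_sieve k (pullback.lift e d hed) R hR (by
    intro T₁ φ hφ
    obtain ⟨y, hy⟩ := hlift φ hφ
    have e1 : ((yon S).map φ ≫ e) ≫ ef = y ≫ bd ≫ df := by
      rw [Category.assoc, hed, ← Category.assoc, ← hy, Category.assoc]
    refine ⟨hout.lift _ _ e1 ≫ ac, ?_⟩
    apply pullback.hom_ext
    · rw [Category.assoc, Category.assoc, hk1, Category.assoc, pullback.lift_fst]
      exact hout.lift_fst _ _ e1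
    · rw [Category.assoc, Category.assoc, hk2, Category.assoc, pullback.lift_snd, hl.w, ← Category.assoc,
        hout.lift_snd, hy])
  refine ⟨c, ?_, ?_⟩
  · rw [← hk1, ← Category.assoc, hc, pullback.lift_fst]
  · rw [← hk2, ← Category.assoc, hc, pullback.lift_snd]

end Groth.Agent.Lib.H69EtaleEpi
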