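import Groth.Agent.Lib.H69WidePb
import Groth.Agent.Lib.AlgSpLocP
import Groth.Agent.Lib.AlgSpPoints
import Groth.Prelude.Def_AlgSpCov

/-!
# helper69: fppf induction principle for algebraic spaces (affine ⟹ separated ⟹ scheme ⟹ space)
-/

set_option autoImplicit false
universe u
open CategoryTheory CategoryTheory.Limits AlgebraicGeometry Opposite
open AlgSp Groth.Agent.Lib.H69AlgSp Groth.Agent.Lib.H69WidePb Groth.Agent.Lib.AlgSpLocP
  Groth.Agent.Lib.AlgSpBasic

namespace Groth.Agent.Lib.H69FppfInd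

variable {S : Scheme.{u}}

theorem locP_iso_comp (P : MorphismProperty Scheme.{u}) {W F G : Sp S} (e : W ≅ F) {f : F ⟶ G}
    (h : LocP P f) : LocP P (e.hom ≫ f) := by
  intro U V a b h' ha hb comm
  have hR : (RepWith (S := S) @Etale).RespectsIso :=
    MorphismProperty.IsStableUnderBaseChange.respectsIso
  refine h (a ≫ e.hom) b h' (MorphismProperty.RespectsIso.postcomp _ e.hom a ha) hb ?_
  rw [Category.assoc]
  exact comm

/-- `P` holds for all objects flat and locally of finite presentation over `X` represented by a scheme in the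
class `K`. -/
def Holds (X : Sp S) (P : ∀ ⦃U : Sp S⦄, (U ⟶ X) → Prop) (K : Scheme.{u} → Prop) : Prop :=
  ∀ ⦃U : Sp S⦄ (a : U ⟶ X) (T : Over S) (_ : U ≅ (yon S).obj T), K T.left →
    LocP @Flat a → LocP @LocallyOfFinitePresentation a → P a

section

variable (X : AlgSp.Space S) (P : ∀ ⦃U : AlgSp.Sp S⦄, (U ⟶ X.obj) → Prop)
  (hP : ∀ ⦃U : AlgSp.Sp S⦄ (a : U ⟶ X.obj), AlgSp.IsAlgSpace U →
      ∀ ⦃ι : Type u⦄ (Ui : ι → AlgSp.Sp S) (g : ∀ i, Ui i ⟶ U), (∀ i, AlgSp.IsAlgSpace (Ui i)) →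
      AlgSp.IsFppfCover Ui g →
      (∀ (n : ℕ) (c : Fin (n + 1) → ι),
        P (WidePullback.base (fun k : Fin (n + 1) => g (c k)) ≫ a)) → P a)

include hP

/-- The generic covering step. -/
theorem step (K' : Scheme.{u} → Prop) (hK' : Holds X.obj P K')
    (Q : MorphismProperty Scheme.{u}) [Q.IsStableUnderBaseChange] [Q.IsMultiplicative]
    (hQ : ∀ ⦃A B : Scheme.{u}⦄ (f : A ⟶ B), Q f → Flat f ∧ LocallyOfFinitePresentation f)
    {U : Sp S} (hU : IsAlgSpace U) (a : U ⟶ X.obj) (haf : LocP @Flat a)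
    (hap : LocP @LocallyOfFinitePresentation a)
    {ι : Type u} (Vi : ι → Over S) (g : ∀ i, (yon S).obj (Vi i) ⟶ U) (hg : ∀ i, RepWith Q (g i))
    (hsurj : ∀ x : Points U, ∃ i, x ∈ Set.range (Points.map (g i)))
    (hK : ∀ (i : ι) (V : Over S) (q : V ⟶ Vi i), Q q.left → K' V.left) : P a := by
  have hloc : ∀ {V : Over S} {i : ι} (q : V ⟶ Vi i), Q q.left →
      LocP @Flat ((yon S).map q ≫ g i) ∧
        LocP @LocallyOfFinitePresentation ((yon S).map q ≫ g i) := by
    intro V i q hq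
    have h1 : RepWith Q ((yon S).map q ≫ g i) :=
      MorphismProperty.comp_mem _ _ _ ((repWith_yon_map_iff Q q).2 hq) (hg i)
    have hrepV : ∀ ⦃U' : Over S⦄ (c : (yon S).obj U' ⟶ (yon S).obj V), Representable c :=
      fun _ c => (IsAlgSpace.yon_obj V).representable_from_yon c
    exact ⟨locP_of_repWith _ etLocalClass_flat.pre hrepV
        (H69AlgSp.repWith_mono (fun _ _ f hf => (hQ f hf).1) h1),
      locP_of_repWith _ etLocalClass_lfp.pre hrepV
        (H69AlgSp.repWith_mono (fun _ _ f hf => (hQ f hf).2) h1)⟩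
  have hgi : ∀ i, LocP @Flat (g i) ∧ LocP @LocallyOfFinitePresentation (g i) := by
    intro i
    have := hloc (𝟙 (Vi i)) (Q.id_mem _)
    rw [CategoryTheory.Functor.map_id, Category.id_comp] at this
    exact this
  refine hP a hU (fun i => (yon S).obj (Vi i)) g (fun i => IsAlgSpace.yon_obj _) ⟨hgi, hsurj⟩ ?_
  intro n c
  obtain ⟨V, k₀, q, s, e, ⟨hs⟩, hbase, hq⟩ := exists_isLimit_yon Q Vi g hg n c
  let E : widePullback U (fun k => (yon S).obj (Vi (c k))) (fun k => g (c k)) ≅ (yon S).obj V :=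
    (limit.isLimit _).conePointUniqueUpToIso hs ≪≫ e
  have hE : WidePullback.base (fun k : Fin (n + 1) => g (c k)) =
      E.hom ≫ (yon S).map q ≫ g (c k₀) := by
    have h1 := IsLimit.conePointUniqueUpToIso_hom_comp (limit.isLimit
      (WidePullbackShape.wideCospan U (fun k => (yon S).obj (Vi (c k))) (fun k => g (c k)))) hs none
    change _ ≫ s.base = WidePullback.base (fun k : Fin (n + 1) => g (c k)) at h1
    rw [← h1, hbase]
    simp [E]
  rw [hE, Category.assoc, Category.assoc]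
  have hcf : LocP @Flat (((yon S).map q ≫ g (c k₀)) ≫ a) :=
    locP_comp etLocalClass_flat (IsAlgSpace.yon_obj V) hU X.property (hloc q hq).1 haf
  have hcp : LocP @LocallyOfFinitePresentation (((yon S).map q ≫ g (c k₀)) ≫ a) :=
    locP_comp etLocalClass_lfp (IsAlgSpace.yon_obj V) hU X.property (hloc q hq).2 hap
  rw [Category.assoc] at hcf hcp
  exact hK' _ V E (hK _ V q hq) (locP_iso_comp _ E hcf) (locP_iso_comp _ E hcp)

/-- Passing from a class `K'` to a class `K` through coverings by affine opens. -/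
theorem step_affineOpens (K K' : Scheme.{u} → Prop) (hK' : Holds X.obj P K')
    (Q : MorphismProperty Scheme.{u}) [Q.IsStableUnderBaseChange] [Q.IsMultiplicative]
    (hQ : ∀ ⦃A B : Scheme.{u}⦄ (f : A ⟶ B), Q f → Flat f ∧ LocallyOfFinitePresentation f)
    (hQι : ∀ (T : Scheme.{u}) (W : T.Opens), K T → IsAffineOpen W → Q W.ι)
    (hKK' : ∀ (T : Scheme.{u}) (W : T.Opens) (V : Scheme.{u}) (q : V ⟶ (W : Scheme.{u})),
      IsAffineOpen W → Q q → K' V) : Holds X.obj P K := by
  intro U a T e hT haf hap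
  have hU : IsAlgSpace U := (IsAlgSpace.yon_obj T).of_iso e.symm
  let Vi : T.left.affineOpens → Over S := fun W => Over.mk (W.1.ι ≫ T.hom)
  let φ : ∀ W : T.left.affineOpens, Vi W ⟶ T := fun W => Over.homMk W.1.ι rfl
  have : Q.RespectsIso := MorphismProperty.IsStableUnderBaseChange.respectsIso
  have hR : (RepWith (S := S) Q).RespectsIso :=
    MorphismProperty.IsStableUnderBaseChange.respectsIso
  refine step X P hP K' hK' Q hQ hU a haf hap Vi (fun W => (yon S).map (φ W) ≫ e.inv) ?_ ?_ ?_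
  · intro W
    exact MorphismProperty.RespectsIso.postcomp _ e.inv _
      ((repWith_yon_map_iff Q (φ W)).2 (hQι T.left W.1 hT W.2))
  · intro x
    have hx : Points.ofScheme T (Points.toScheme T (Points.map e.hom x)) = Points.map e.hom x :=
      Points.ofScheme_toScheme T _
    generalize Points.toScheme T (Points.map e.hom x) = t at hx
    obtain ⟨W, hW, htW, -⟩ := exists_isAffineOpen_mem_and_subset (x := t) (U := ⊤) trivial
    refine ⟨⟨W, hW⟩, Points.ofScheme (Vi ⟨W, hW⟩) ⟨t, htW⟩, ?_⟩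
    change Points.map ((yon S).map (φ ⟨W, hW⟩) ≫ e.inv) (Points.ofPt (𝟙 _) _) = x
    rw [Points.map_ofPt, Category.id_comp, ← Points.map_ofPt]
    have h1 : Points.ofPt ((yon S).map (φ ⟨W, hW⟩)) ⟨t, htW⟩ = Points.ofScheme T t :=
      (Points.ofScheme_toScheme T _).symm.trans
        (congrArg (Points.ofScheme T) (Points.toScheme_ofPt (φ ⟨W, hW⟩) ⟨t, htW⟩))
    rw [h1, hx, ← Points.map_comp, e.hom_inv_id, Points.map_id]
  · intro W V q hq
    exact hKK' T.left W.1 V.left q.left W.2 hq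

end

end Groth.Agent.Lib.H69FppfInd
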