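import Groth.Agent.Lib.H69FppfLocal
import Groth.Agent.Lib.SrcLocal
import Groth.Prelude.Def_AlgSpMor5

/-!
# More properties fppf local on the base: `Flat`, the Prelude's `AlgSp.finLocFree` (helper69)
-/

set_option autoImplicit false
universe u
open CategoryTheory CategoryTheory.Limits AlgebraicGeometry Opposite

namespace Groth.Agent.Lib.H69FppfLocal

set_option backward.isDefEq.respectTransparency false in
theorem flat_isLocalAtTarget_fppf :
    MorphismProperty.IsLocalAtTarget (@Flat.{u}) Scheme.fppfPrecoverage.{u} :=
  isLocalAtTarget_fppf _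

theorem finLocFree_isLocalAtTarget_fppf :
    MorphismProperty.IsLocalAtTarget (AlgSp.finLocFree.{u}) Scheme.fppfPrecoverage.{u} := by
  have h2 := flat_isLocalAtTarget_fppf.{u}
  have : AlgSp.finLocFree.{u} = Min.min (α := MorphismProperty Scheme.{u}) @IsFinite.{u}
      (Min.min (α := MorphismProperty Scheme.{u}) @Flat.{u} @LocallyOfFinitePresentation.{u}) := rfl
  rw [this]
  have h23 := @inf (@Flat.{u}) (@LocallyOfFinitePresentation.{u}) h2 locallyOfFinitePresentation
  exact @inf (@IsFinite.{u}) _ isFinite h23

end Groth.Agent.Lib.H69FppfLocal
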