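import Groth.Agent.Lib.H69QuotOpen3
import Groth.Agent.Lib.GrpdPts

/-!
# helper69: the quotient sheaf of a groupoid scheme: pre-equivalence relation and local relation
-/

set_option autoImplicit false
universe u

open CategoryTheory CategoryTheory.Limits AlgebraicGeometry Opposite

namespace Groth.Agent.Lib.H69GrpdQuot

open AlgSp Groth.Agent.Lib.H69AlgSp Groth.Agent.Lib.H69QuotPres Groth.Agent.Lib.GrpdPts

variable {S : Scheme.{u}} (G : Grpd.GroupoidScheme S)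

/-- Objects of the groupoid, over `S`. -/
abbrev Uo : Over S := Over.mk G.pU
/-- Arrows of the groupoid, over `S`. -/
abbrev Ro : Over S := Over.mk G.pR
/-- Source over `S`. -/
abbrev sO : Ro G ⟶ Uo G := Over.homMk G.s G.s_over
/-- Target over `S`. -/
abbrev tO : Ro G ⟶ Uo G := Over.homMk G.t G.t_over

theorem e_over : G.e ≫ G.pR = G.pU := by
  have h : G.e ≫ G.s ≫ G.pU = G.pU := by rw [← Category.assoc, G.e_s, Category.id_comp]
  rwa [G.s_over] at h

theorem i_over : G.i ≫ G.pR = G.pR := by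
  have h : G.i ≫ G.s ≫ G.pU = G.pR := by rw [← Category.assoc, G.i_s, G.t_over]
  rwa [G.s_over] at h

/-- The relation on `T`-points of `U` defined by a groupoid scheme is an equivalence relation. -/
theorem rel_equivalence (T : Over S) : _root_.Equivalence
    (fun a b : T ⟶ Uo G => ∃ ρ : T ⟶ Ro G, ρ ≫ tO G = a ∧ ρ ≫ sO G = b) := by
  refine ⟨fun a => ?_, ?_, ?_⟩
  · refine ⟨Over.homMk (a.left ≫ G.e) ?_, ?_, ?_⟩
    · change (a.left ≫ G.e) ≫ G.pR = T.hom
      rw [Category.assoc, e_over]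
      exact Over.w a
    · ext
      change (a.left ≫ G.e) ≫ G.t = a.left
      rw [Category.assoc, G.e_t]
      exact Category.comp_id _
    · ext
      change (a.left ≫ G.e) ≫ G.s = a.left
      rw [Category.assoc, G.e_s]
      exact Category.comp_id _
  · rintro a b ⟨ρ, rfl, rfl⟩
    refine ⟨Over.homMk (ρ.left ≫ G.i) ?_, ?_, ?_⟩
    · change (ρ.left ≫ G.i) ≫ G.pR = T.hom
      rw [Category.assoc, i_over]
      exact Over.w ρ
    · ext
      change (ρ.left ≫ G.i) ≫ G.t = ρ.left ≫ G.s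
      rw [Category.assoc, G.i_t]
    · ext
      change (ρ.left ≫ G.i) ≫ G.s = ρ.left ≫ G.t
      rw [Category.assoc, G.i_s]
  · rintro a b c ⟨ρ₁, rfl, rfl⟩ ⟨ρ₂, h₂, rfl⟩
    have h : ρ₁.left ≫ G.s = ρ₂.left ≫ G.t := by
      have := congrArg (fun m => m.left) h₂
      exact this.symm
    refine ⟨Over.homMk (cmp G ρ₁.left ρ₂.left) ?_, ?_, ?_⟩
    · change cmp G ρ₁.left ρ₂.left ≫ G.pR = T.hom
      have h3 : cmp G ρ₁.left ρ₂.left ≫ G.s ≫ G.pU = T.hom := by
        rw [← Category.assoc, cmp_s h, Category.assoc, G.s_over]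
        exact Over.w ρ₂
      rwa [G.s_over] at h3
    · ext
      change cmp G ρ₁.left ρ₂.left ≫ G.t = ρ₁.left ≫ G.t
      exact cmp_t h
    · ext
      change cmp G ρ₁.left ρ₂.left ≫ G.s = ρ₂.left ≫ G.s
      exact cmp_s h

theorem isPreEqvRelSp : IsPreEqvRelSp ((yon S).map (sO G)) ((yon S).map (tO G)) := by
  intro T
  have h := rel_equivalence G T
  refine ⟨fun a => ?_, ?_, ?_⟩
  · obtain ⟨α, rfl⟩ := (yon S).map_surjective a
    obtain ⟨ρ, h1, h2⟩ := h.refl α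
    exact ⟨(yon S).map ρ, by rw [← Functor.map_comp, h1], by rw [← Functor.map_comp, h2]⟩
  · rintro a b ⟨r, rfl, rfl⟩
    obtain ⟨ρ, rfl⟩ := (yon S).map_surjective r
    obtain ⟨ρ', h1, h2⟩ := h.symm ⟨ρ, rfl, rfl⟩
    exact ⟨(yon S).map ρ', by rw [← Functor.map_comp, ← Functor.map_comp, h1],
      by rw [← Functor.map_comp, ← Functor.map_comp, h2]⟩
  · rintro a b c ⟨r₁, rfl, rfl⟩ ⟨r₂, h₂, rfl⟩
    obtain ⟨ρ₁, rfl⟩ := (yon S).map_surjective r₁
    obtain ⟨ρ₂, rfl⟩ := (yon S).map_surjective r₂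
    have h₂' : ρ₂ ≫ tO G = ρ₁ ≫ sO G := by
      apply (yon S).map_injective
      rw [Functor.map_comp, Functor.map_comp, h₂]
    obtain ⟨ρ', h1, h2⟩ := h.trans ⟨ρ₁, rfl, rfl⟩ ⟨ρ₂, h₂', rfl⟩
    exact ⟨(yon S).map ρ', by rw [← Functor.map_comp, ← Functor.map_comp, h1],
      by rw [← Functor.map_comp, ← Functor.map_comp, h2]⟩

/-- Two points of `U` with the same image in `U/R` are fppf locally related by a point of `R`. -/
theorem exists_local_rel {T : Over S} (a b : T ⟶ Uo G)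
    (hab : (yon S).map a ≫ quotMap (sO G) (tO G) = (yon S).map b ≫ quotMap (sO G) (tO G)) :
    ∃ 𝒮 ∈ J S T, ∀ ⦃T' : Over S⦄ (h : T' ⟶ T), 𝒮 h →
      ∃ ρ : T' ⟶ Ro G, ρ ≫ tO G = h ≫ a ∧ ρ ≫ sO G = h ≫ b :=
  Groth.Agent.Lib.H69QuotOpen.exists_local_rel_quotMap (isPreEqvRelSp G) a b hab

end Groth.Agent.Lib.H69GrpdQuot
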