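import Groth.Agent.Lib.EssEtaleLift
import Groth.Agent.Lib.H56HznPrimes
import Groth.Prelude.Def_Hensel
import Mathlib.Algebra.Algebra.Epi
import Mathlib.LinearAlgebra.Dual.Lemmas

/-!
# helper69: henselization is insensitive to etale neighbourhoods with trivial residue field extension

* `surjective_of_forall_tmul_eq`: an epimorphism of fields is surjective.
* `exists_local_lift`, `lift_unique`: for `R₀ → S₀` etale, `q` a prime of `S₀` over `p`, `A = (R₀)_p`, `B = (S₀)_q` (abstract
  localizations) with surjective residue field map, every local map `A → T` to a henselian local ring extends uniquely along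
  `A → B`.
* `isHenselization_of_lift`: hence a henselization of `B` is a henselization of `A`.
-/

set_option autoImplicit false
universe u

namespace Groth.Agent.Lib.H69HensNbhd

open IsLocalRing TensorProduct

/-- An epimorphism of fields (in the tensor sense) is surjective. -/
theorem surjective_of_forall_tmul_eq {K L : Type*} [Field K] [Field L] [Algebra K L]
    (h : ∀ a : L, (1 : L) ⊗ₜ[K] a = a ⊗ₜ[K] 1) : Function.Surjective (algebraMap K L) := by
  by_contra hns
  rw [Function.Surjective] at hns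
  push_neg at hns
  obtain ⟨x, hx⟩ := hns
  let R' : Submodule K L := LinearMap.range (Algebra.linearMap K L)
  have hxR : R'.mkQ x ≠ 0 := by
    rw [Ne, Submodule.mkQ_apply, Submodule.Quotient.mk_eq_zero]
    rintro ⟨r, hr⟩
    exact hx r hr
  obtain ⟨φ', hφ'⟩ : ∃ φ : Module.Dual K (L ⧸ R'), φ (R'.mkQ x) ≠ 0 := by
    by_contra hcon
    push_neg at hcon
    exact hxR ((Module.forall_dual_apply_eq_zero_iff K _).1 hcon)
  let φ : L →ₗ[K] K := φ'.comp R'.mkQ
  have h1 : φ 1 = 0 := by
    have : R'.mkQ (1 : L) = 0 :=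
      (Submodule.Quotient.mk_eq_zero R').2 ⟨1, map_one (algebraMap K L)⟩
    change φ' (R'.mkQ 1) = 0
    rw [this, map_zero]
  let Φ : L ⊗[K] L →ₗ[K] L := TensorProduct.lift ((LinearMap.lsmul K L).comp φ)
  have e := congrArg Φ (h x)
  have e1 : Φ ((1 : L) ⊗ₜ[K] x) = 0 := by
    change (φ 1) • x = 0
    rw [h1, zero_smul]
  have e2 : Φ (x ⊗ₜ[K] (1 : L)) = (φ x) • (1 : L) := rfl
  rw [e1, e2] at e
  have : φ x = 0 := by
    by_contra hne
    have := smul_eq_zero.1 e.symm
    rcases this with h0 | h0
    · exact hne h0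
    · exact one_ne_zero h0
  exact hφ' this

section Lift

variable {R₀ S₀ : Type u} [CommRing R₀] [CommRing S₀] [Algebra R₀ S₀] [Algebra.Etale R₀ S₀]
  (p : Ideal R₀) [p.IsPrime] (q : Ideal S₀) [q.IsPrime] (hq : p = q.comap (algebraMap R₀ S₀))
  {A B : Type u} [CommRing A] [IsLocalRing A] [CommRing B] [IsLocalRing B]
  [Algebra R₀ A] [IsLocalization.AtPrime A p] [Algebra S₀ B] [IsLocalization.AtPrime B q]
  (φ : A →+* B) [IsLocalHom φ]
  (hφ : φ.comp (algebraMap R₀ A) = (algebraMap S₀ B).comp (algebraMap R₀ S₀))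
  (hres : ∀ b : B, ∃ a : A, b - φ a ∈ maximalIdeal B)
  {T : Type u} [CommRing T] [HenselianLocalRing T] (f : A →+* T) [IsLocalHom f]

omit [IsLocalRing A] [Algebra.Etale R₀ S₀] in
theorem residue_eq_zero_iff_mem (r : R₀) : residue T (f (algebraMap R₀ A r)) = 0 ↔ r ∈ p := by
  rw [residue_eq_zero_iff]
  constructor
  · intro h
    by_contra hr
    have hu : IsUnit (algebraMap R₀ A r) := IsLocalization.map_units A (⟨r, hr⟩ : p.primeCompl)
    exact (mem_maximalIdeal _).1 h (hu.map f)
  · intro hr
    rw [mem_maximalIdeal, mem_nonunits_iff]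
    intro hu
    have hu' : IsUnit (algebraMap R₀ A r) := isUnit_of_map_unit f _ hu
    exact (IsLocalization.AtPrime.isUnit_to_map_iff A p r).1 hu' hr

include hq hφ hres in
/-- For every element of `S₀` some multiple by an element of `R₀ ∖ p` is congruent modulo `q` to an element of `R₀`. -/
theorem exists_mul_sub_mem (x : S₀) :
    ∃ (r t : R₀), t ∉ p ∧ algebraMap R₀ S₀ t * x - algebraMap R₀ S₀ r ∈ q := by
  obtain ⟨a, ha⟩ := hres (algebraMap S₀ B x)
  obtain ⟨r, t, rfl⟩ := IsLocalization.exists_mk'_eq p.primeCompl a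
  refine ⟨r, t.1, t.2, ?_⟩
  rw [← IsLocalization.AtPrime.to_map_mem_maximal_iff B q]
  have h1 : φ (algebraMap R₀ A t.1) = algebraMap S₀ B (algebraMap R₀ S₀ t.1) :=
    RingHom.congr_fun hφ t.1
  have h2 : φ (algebraMap R₀ A r) = algebraMap S₀ B (algebraMap R₀ S₀ r) :=
    RingHom.congr_fun hφ r
  have h3 : IsLocalization.mk' A r t * algebraMap R₀ A t.1 = algebraMap R₀ A r :=
    IsLocalization.mk'_spec A r t
  have h4 : algebraMap S₀ B (algebraMap R₀ S₀ t.1 * x - algebraMap R₀ S₀ r) =
      φ (algebraMap R₀ A t.1) * (algebraMap S₀ B x - φ (IsLocalization.mk' A r t)) := by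
    rw [map_sub, map_mul, mul_sub, ← h1, ← h2, ← h3, map_mul]
    ring
  rw [h4]
  exact Ideal.mul_mem_left _ _ ha

include hq hφ hres in
/-- Existence of a local lift. -/
theorem exists_local_lift : ∃ f' : B →+* T, IsLocalHom f' ∧ f'.comp φ = f := by
  let _ : Algebra R₀ T := (f.comp (algebraMap R₀ A)).toAlgebra
  have halg : ∀ r : R₀, algebraMap R₀ T r = f (algebraMap R₀ A r) := fun _ => rfl
  have hinj : Function.Injective (ResidueField.map φ) := RingHom.injective _
  have hsur : Function.Surjective (ResidueField.map φ) := by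
    intro y
    obtain ⟨b, rfl⟩ := residue_surjective y
    obtain ⟨a, ha⟩ := hres b
    refine ⟨residue A a, ?_⟩
    rw [ResidueField.map_residue]
    symm
    rw [← sub_eq_zero, ← map_sub, residue_eq_zero_iff]
    exact ha
  let e : ResidueField A ≃+* ResidueField B := RingEquiv.ofBijective _ ⟨hinj, hsur⟩
  have he : ∀ a : A, e (residue A a) = residue B (φ a) := fun a => ResidueField.map_residue φ a
  let ψ : ResidueField B →+* ResidueField T :=
    (ResidueField.map f).comp (e.symm : ResidueField B →+* ResidueField A)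
  let χ : S₀ →ₐ[R₀] ResidueField T :=
    { toRingHom := ψ.comp ((residue B).comp (algebraMap S₀ B))
      commutes' := fun r => by
        change ResidueField.map f (e.symm (residue B (algebraMap S₀ B (algebraMap R₀ S₀ r)))) = _
        have h2 : algebraMap S₀ B (algebraMap R₀ S₀ r) = φ (algebraMap R₀ A r) :=
          (RingHom.congr_fun hφ r).symm
        rw [h2, ← he, RingEquiv.symm_apply_apply, ResidueField.map_residue]
        rfl }
  have hχ : ∀ x, χ x = ResidueField.map f (e.symm (residue B (algebraMap S₀ B x))) := fun _ => rfl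
  have hχ0 : ∀ x, χ x = 0 ↔ x ∈ q := by
    intro x
    rw [hχ, map_eq_zero, map_eq_zero, residue_eq_zero_iff,
      IsLocalization.AtPrime.to_map_mem_maximal_iff B q]
  obtain ⟨σ, hσ⟩ := Groth.Agent.Lib.EssEtaleLift.exists_algHom_lift q χ (fun x hx => (hχ0 x).1 hx)
  have hunit : ∀ x : S₀, IsUnit (σ x) ↔ x ∉ q := by
    intro x
    rw [← isUnit_map_iff (residue T), hσ, isUnit_iff_ne_zero, Ne, hχ0]
  let f' : B →+* T := IsLocalization.lift (M := q.primeCompl) (g := (σ : S₀ →+* T))
    (fun y => (hunit y.1).2 y.2)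
  have hf' : ∀ x : S₀, f' (algebraMap S₀ B x) = σ x := fun x => IsLocalization.lift_eq _ x
  refine ⟨f', ⟨fun b hb => ?_⟩, ?_⟩
  · obtain ⟨s, t, rfl⟩ := IsLocalization.exists_mk'_eq q.primeCompl b
    have h3 : IsLocalization.mk' B s t * algebraMap S₀ B t.1 = algebraMap S₀ B s :=
      IsLocalization.mk'_spec B s t
    have h4 : f' (IsLocalization.mk' B s t) * σ t.1 = σ s := by
      rw [← hf', ← hf', ← map_mul, h3]
    have h5 : IsUnit (σ s) := by
      rw [← h4]
      exact hb.mul ((hunit t.1).2 t.2)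
    have h6 : s ∉ q := (hunit s).1 h5
    have h7 : IsUnit (algebraMap S₀ B s) := IsLocalization.map_units B (⟨s, h6⟩ : q.primeCompl)
    rw [← h3] at h7
    exact isUnit_of_mul_isUnit_left h7
  · apply IsLocalization.ringHom_ext p.primeCompl
    ext r
    change f' (φ (algebraMap R₀ A r)) = f (algebraMap R₀ A r)
    have h2 : φ (algebraMap R₀ A r) = algebraMap S₀ B (algebraMap R₀ S₀ r) := RingHom.congr_fun hφ r
    rw [h2, hf', AlgHom.commutes]
    rfl

include hq hφ hres in
/-- Uniqueness of the lift (locality of the lifts is not needed). -/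
theorem lift_unique (f₁ f₂ : B →+* T) (h₁ : f₁.comp φ = f) (h₂ : f₂.comp φ = f) : f₁ = f₂ := by
  let _ : Algebra R₀ T := (f.comp (algebraMap R₀ A)).toAlgebra
  have halg : ∀ r : R₀, algebraMap R₀ T r = f (algebraMap R₀ A r) := fun _ => rfl
  have hcomm : ∀ (f' : B →+* T), f'.comp φ = f → ∀ r : R₀,
      f' (algebraMap S₀ B (algebraMap R₀ S₀ r)) = algebraMap R₀ T r := by
    intro f' h r
    have h2 : algebraMap S₀ B (algebraMap R₀ S₀ r) = φ (algebraMap R₀ A r) :=
      (RingHom.congr_fun hφ r).symm
    rw [h2, halg, ← h]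
    rfl
  let mk : ∀ (f' : B →+* T), f'.comp φ = f → (S₀ →ₐ[R₀] T) := fun f' h =>
    { toRingHom := f'.comp (algebraMap S₀ B)
      commutes' := hcomm f' h }
  have hmk : ∀ (f' : B →+* T) (h : f'.comp φ = f) (x : S₀), mk f' h x = f' (algebraMap S₀ B x) :=
    fun _ _ _ => rfl
  -- elements of `q` go to the maximal ideal
  have hq_max : ∀ (f' : B →+* T) (h : f'.comp φ = f) (x : S₀), x ∈ q →
      mk f' h x ∈ maximalIdeal T := by
    intro f' h x hx
    haveI : Algebra.FormallyUnramified R₀ S₀ := inferInstance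
    haveI : Algebra.EssFiniteType R₀ S₀ := inferInstance
    obtain ⟨u, hu, hux⟩ := Groth.Agent.Lib.H56HznPrimes.exists_notMem_mul_mem_of_unramified
      (R := R₀) q hx
    have hunder : q.under R₀ = p := hq.symm
    rw [hunder] at hux
    have hle : p.map (algebraMap R₀ S₀) ≤ (maximalIdeal T).comap (mk f' h : S₀ →+* T) := by
      rw [Ideal.map_le_iff_le_comap]
      intro r hr
      rw [Ideal.mem_comap, Ideal.mem_comap]
      change mk f' h (algebraMap R₀ S₀ r) ∈ maximalIdeal T
      rw [AlgHom.commutes, halg, ← residue_eq_zero_iff, residue_eq_zero_iff_mem p f]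
      exact hr
    have h1 : mk f' h (u * x) ∈ maximalIdeal T := hle hux
    rw [map_mul] at h1
    have huu : IsUnit (mk f' h u) := by
      rw [hmk f' h u]
      exact (IsLocalization.map_units B (⟨u, hu⟩ : q.primeCompl)).map f'
    exact (Ideal.unit_mul_mem_iff_mem _ huu).1 h1
  have hres_eq : ∀ x : S₀, residue T (mk f₁ h₁ x) = residue T (mk f₂ h₂ x) := by
    intro x
    obtain ⟨r, t, ht, hmem⟩ := exists_mul_sub_mem p q hq φ hφ hres x
    have key : ∀ (f' : B →+* T) (h : f'.comp φ = f),
        residue T (algebraMap R₀ T t) * residue T (mk f' h x) = residue T (algebraMap R₀ T r) := by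
      intro f' h
      have h1 := hq_max f' h _ hmem
      rw [map_sub, map_mul, AlgHom.commutes, AlgHom.commutes, ← residue_eq_zero_iff, map_sub,
        map_mul, sub_eq_zero] at h1
      exact h1
    have hne : residue T (algebraMap R₀ T t) ≠ 0 := by
      rw [halg, Ne, residue_eq_zero_iff_mem p f]
      exact ht
    exact mul_left_cancel₀ hne ((key f₁ h₁).trans (key f₂ h₂).symm)
  have hσ : mk f₁ h₁ = mk f₂ h₂ := Groth.Agent.Lib.EssEtale.algHom_ext_of_residue_eq _ _ hres_eq
  apply IsLocalization.ringHom_ext q.primeCompl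
  ext x
  exact congrArg (fun s : S₀ →ₐ[R₀] T => s x) hσ

end Lift

/-- If local maps from `A` to henselian local rings extend uniquely along the local map `φ : A → B`, then a henselization of `B`
is a henselization of `A`. -/
theorem isHenselization_of_lift {A B R : Type u} [CommRing A] [IsLocalRing A] [CommRing B] [IsLocalRing B]
    [CommRing R] [IsLocalRing R] (φ : A →+* B) [IsLocalHom φ] [Algebra B R] [IsLocalHom (algebraMap B R)]
    [Hensel.IsHenselization B R]
    (hex : ∀ (T : Type u) [CommRing T] [HenselianLocalRing T] (f : A →+* T), IsLocalHom f →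
      ∃ f' : B →+* T, IsLocalHom f' ∧ f'.comp φ = f)
    (huniq : ∀ (T : Type u) [CommRing T] [HenselianLocalRing T] (f : A →+* T), IsLocalHom f →
      ∀ f₁ f₂ : B →+* T, f₁.comp φ = f → f₂.comp φ = f → f₁ = f₂) :
    letI : Algebra A R := ((algebraMap B R).comp φ).toAlgebra
    ∃ (_ : IsLocalHom (algebraMap A R)), Hensel.IsHenselization A R := by
  let _ : Algebra A R := ((algebraMap B R).comp φ).toAlgebra
  have hloc : IsLocalHom (algebraMap A R) := by
    change IsLocalHom ((algebraMap B R).comp φ)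
    infer_instance
  refine ⟨hloc, ?_⟩
  refine { henselian := Hensel.IsHenselization.henselian (R := B) (S := R), universal := ?_ }
  intro T _ _ f hf
  obtain ⟨f', hf'loc, hf'⟩ := hex T f hf
  obtain ⟨g, hg, hguniq⟩ := Hensel.IsHenselization.universal (R := B) (S := R) T f' hf'loc
  refine ⟨g, ?_, ?_⟩
  · change g.comp ((algebraMap B R).comp φ) = f
    rw [← RingHom.comp_assoc, hg, hf']
  · intro g₂ hg₂
    apply hguniq
    apply huniq T f hf
    · rw [RingHom.comp_assoc]
      exact hg₂
    · exact hf'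

end Groth.Agent.Lib.H69HensNbhd
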