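import Groth.Agent.Lib.H69HensNbhd
import Mathlib.AlgebraicGeometry.Morphisms.Etale
import Mathlib.AlgebraicGeometry.ResidueField

/-!
# helper69: etale morphisms of schemes with trivial residue field extension and henselizations of local rings

For an etale morphism `g : X ⟶ Y` and a point `x` of `X` with `κ(g x) → κ(x)` surjective, local maps from `O_{Y, g x}` to henselian
local rings extend uniquely along the stalk map; hence a henselization of `O_{X,x}` is a henselization of `O_{Y, g x}`.
-/

set_option autoImplicit false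
universe u

open AlgebraicGeometry CategoryTheory IsLocalRing Opposite

namespace Groth.Agent.Lib.H69HensNbhdSch

variable {X Y : Scheme.{u}} (g : X ⟶ Y) [Etale g] (x : X)

/-- The data of affine charts around `x` and `g x` satisfy the hypotheses of the algebraic lemmas. -/
theorem exists_lift_and_unique (hres : Function.Surjective (g.residueFieldMap x))
    (T : Type u) [CommRing T] [HenselianLocalRing T] (f : Y.presheaf.stalk (g x) →+* T) [IsLocalHom f] :
    (∃ f' : X.presheaf.stalk x →+* T, IsLocalHom f' ∧ f'.comp (g.stalkMap x).hom = f) ∧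
      ∀ f₁ f₂ : X.presheaf.stalk x →+* T, f₁.comp (g.stalkMap x).hom = f → f₂.comp (g.stalkMap x).hom = f →
        f₁ = f₂ := by
  obtain ⟨_, ⟨V, hV, rfl⟩, hxV, -⟩ := (Y.isBasis_affineOpens).exists_subset_of_mem_open
    (Set.mem_univ (g x)) isOpen_univ
  have hxV' : x ∈ g ⁻¹ᵁ V := hxV
  obtain ⟨W, hW, hxW, hWV⟩ := exists_isAffineOpen_mem_and_subset hxV'
  let _ : Algebra Γ(Y, V) Γ(X, W) := (g.appLE V W hWV).hom.toAlgebra
  haveI : Algebra.Etale Γ(Y, V) Γ(X, W) := Etale.etale_appLE g hV hW hWV
  let _ : Algebra Γ(Y, V) (Y.presheaf.stalk (g x)) := Y.presheaf.algebra_section_stalk ⟨g x, hxV⟩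
  haveI := hV.isLocalization_stalk ⟨g x, hxV⟩
  let _ : Algebra Γ(X, W) (X.presheaf.stalk x) := X.presheaf.algebra_section_stalk ⟨x, hxW⟩
  haveI := hW.isLocalization_stalk ⟨x, hxW⟩
  have hq : (hV.primeIdealOf ⟨g x, hxV⟩).asIdeal =
      (hW.primeIdealOf ⟨x, hxW⟩).asIdeal.comap (algebraMap Γ(Y, V) Γ(X, W)) := by
    have := IsAffineOpen.comap_primeIdealOf_appLE (f := g) V hV W hW hWV hxW
    exact (congrArg PrimeSpectrum.asIdeal this).symm
  have hφ : (g.stalkMap x).hom.comp (algebraMap Γ(Y, V) (Y.presheaf.stalk (g x))) =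
      (algebraMap Γ(X, W) (X.presheaf.stalk x)).comp (algebraMap Γ(Y, V) Γ(X, W)) := by
    ext r
    change g.stalkMap x (Y.presheaf.germ V (g x) hxV r) =
      X.presheaf.germ W x hxW (g.appLE V W hWV r)
    rw [Scheme.Hom.germ_stalkMap_apply, Scheme.Hom.appLE]
    exact (X.presheaf.germ_res_apply (homOfLE hWV) x hxW (g.app V r)).symm
  have hres' : ∀ b : X.presheaf.stalk x, ∃ a : Y.presheaf.stalk (g x),
      b - (g.stalkMap x).hom a ∈ maximalIdeal (X.presheaf.stalk x) := by
    intro b
    obtain ⟨a', ha'⟩ := hres (residue _ b)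
    obtain ⟨a, rfl⟩ := residue_surjective a'
    refine ⟨a, ?_⟩
    rw [← residue_eq_zero_iff, map_sub, sub_eq_zero]
    exact ha'.symm
  exact ⟨Groth.Agent.Lib.H69HensNbhd.exists_local_lift _ _ hq (g.stalkMap x).hom hφ hres' f,
    Groth.Agent.Lib.H69HensNbhd.lift_unique _ _ hq (g.stalkMap x).hom hφ hres' f⟩

/-- A henselization of `O_{X,x}` is a henselization of `O_{Y, g x}` for `g` etale with trivial residue field extension at `x`. -/
theorem isHenselization_of_etale (hres : Function.Surjective (g.residueFieldMap x))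
    (R : Type u) [CommRing R] [IsLocalRing R] [Algebra (X.presheaf.stalk x) R]
    [IsLocalHom (algebraMap (X.presheaf.stalk x) R)] [Hensel.IsHenselization (X.presheaf.stalk x) R] :
    letI : Algebra (Y.presheaf.stalk (g x)) R :=
      ((algebraMap (X.presheaf.stalk x) R).comp (g.stalkMap x).hom).toAlgebra
    ∃ (_ : IsLocalHom (algebraMap (Y.presheaf.stalk (g x)) R)),
      Hensel.IsHenselization (Y.presheaf.stalk (g x)) R :=
  Groth.Agent.Lib.H69HensNbhd.isHenselization_of_lift (g.stalkMap x).hom
    (fun T _ _ f hf => (exists_lift_and_unique g x hres T f).1)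
    (fun T _ _ f hf => (exists_lift_and_unique g x hres T f).2)

end Groth.Agent.Lib.H69HensNbhdSch
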