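import Groth.Agent.Lib.H69QuotOpen
import Groth.Agent.Lib.H69InvSub
import Groth.Agent.Lib.H69DescentAffine4
import Groth.Agent.Lib.H86Coprod
import Groth.Prelude.Def_AlgSpSub

/-!
# helper69: scheme theoretic images of morphisms to algebraic spaces exist

For `f : X ⟶ Y` with `Y` an algebraic space with atlas `V`, `R = V ×_Y V`: the supremum `I₀` of all ideal sheaves `I` on `V`
whose closed subscheme is `R`-invariant and through which `X ×_Y V ⟶ V` factors is again such; its closed subscheme descends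
(`H69InvSub.isPullback_toImage_of_invariant` + closed-immersion descent) to the smallest closed subspace of `Y` through which
`f` factors.
-/

set_option autoImplicit false
universe u

open CategoryTheory CategoryTheory.Limits AlgebraicGeometry Opposite

namespace Groth.Agent.Lib.H69SchImage

open AlgSp Groth.Agent.Lib.H69AlgSp Groth.Agent.Lib.H69QuotOpen

variable {S : Scheme.{u}}

/-- A map that factors pointwise through a monomorphism factors through it. -/
theorem exists_factor_of_pointwise {I F X : Sp S} (j : I ⟶ F) [Mono j] (f : X ⟶ F)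
    (h : ∀ (T : Over S) (x : (yon S).obj T ⟶ X), ∃ y : (yon S).obj T ⟶ I, y ≫ j = x ≫ f) :
    ∃ f' : X ⟶ I, f' ≫ j = f := by
  have hmono : Mono (pullback.snd j f) := (IsPullback.of_hasPullback j f).mono_snd_of_mono
  have hsurj : Sheaf.IsLocallySurjective (pullback.snd j f) := by
    refine Groth.Agent.Lib.H69InvSub.isLocallySurjective_of_sieve_lift _ ?_
    intro T z
    refine ⟨⊤, (J S).top_mem T, ?_⟩
    intro T₁ φ _
    obtain ⟨y, hy⟩ := h T₁ ((yon S).map φ ≫ z)
    exact ⟨pullback.lift y ((yon S).map φ ≫ z) hy, pullback.lift_snd _ _ _⟩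
  have hepi : Epi (pullback.snd j f) := (Sheaf.isLocallySurjective_iff_epi _).1 hsurj
  have hiso : IsIso (pullback.snd j f) := isIso_of_mono_of_epi _
  exact ⟨inv (pullback.snd j f) ≫ pullback.fst j f, by
    rw [Category.assoc, pullback.condition, IsIso.inv_hom_id_assoc]⟩

/-- A morphism over `S` factors through a closed immersion iff the kernels are contained. -/
theorem factors_iff_ker_le {T V W : Over S} (w : W ⟶ V) [IsClosedImmersion w.left] (v : T ⟶ V) :
    (∃ l : T ⟶ W, l ≫ w = v) ↔ w.left.ker ≤ v.left.ker := by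
  constructor
  · rintro ⟨l, rfl⟩
    exact l.left.le_ker_comp w.left
  · intro h
    let l₀ : T.left ⟶ W.left := IsClosedImmersion.lift w.left v.left h
    have hl₀ : l₀ ≫ w.left = v.left := IsClosedImmersion.lift_fac _ _ _
    refine ⟨Over.homMk l₀ (by rw [← Over.w w, ← Category.assoc, hl₀, Over.w v]), ?_⟩
    ext
    exact hl₀

/-- The closed subscheme of an ideal sheaf, over `S`. -/
noncomputable def subOver (V : Over S) (I : V.left.IdealSheafData) : Over S :=
  Over.mk (I.subschemeι ≫ V.hom)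

noncomputable def subOverι (V : Over S) (I : V.left.IdealSheafData) : subOver V I ⟶ V :=
  Over.homMk I.subschemeι rfl

instance (V : Over S) (I : V.left.IdealSheafData) : IsClosedImmersion (subOverι V I).left :=
  (inferInstance : IsClosedImmersion I.subschemeι)

theorem ker_subOverι (V : Over S) (I : V.left.IdealSheafData) : (subOverι V I).left.ker = I :=
  I.ker_subschemeι

/-- Scheme theoretic images exist. -/
theorem exists_isSchImage {X Y : Sp S} (hY : IsAlgSpace Y) (f : X ⟶ Y) :
    ∃ (Z : Sp S) (i : Z ⟶ Y), IsAlgSpace Z ∧ IsSchImage f i := by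
  obtain ⟨V, p, hpe, hps⟩ := hY.atlas
  have hploc : Sheaf.IsLocallySurjective p := isLocallySurjective_of_etale_surjective p hpe hps
  obtain ⟨R, s, tt, hker⟩ := hpe.1 p
  obtain ⟨t, rfl⟩ := (yon S).map_surjective tt
  let Fac : V.left.IdealSheafData → Prop := fun I =>
    ∀ (T : Over S) (x : (yon S).obj T ⟶ X) (v : T ⟶ V), x ≫ f = (yon S).map v ≫ p → I ≤ v.left.ker
  let Inv : V.left.IdealSheafData → Prop := fun I =>
    ∀ (T : Over S) (r : T ⟶ R), I ≤ (r ≫ s).left.ker → I ≤ (r ≫ t).left.ker
  let I₀ : V.left.IdealSheafData := sSup {I | Fac I ∧ Inv I}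
  have hFac : Fac I₀ := fun T x v h => sSup_le fun I hI => hI.1 T x v h
  have hInv : Inv I₀ := fun T r h => sSup_le fun I hI => hI.2 T r ((le_sSup hI).trans h)
  let i' : subOver V I₀ ⟶ V := subOverι V I₀
  have hmono' : Mono i' := by
    have : Mono i'.left := (inferInstance : Mono I₀.subschemeι)
    exact mono_over_of_mono_left i'
  have hs := IsPullback.of_hasPullback s i'
  have hle : I₀ ≤ (pullback.fst s i' ≫ t).left.ker := by
    apply hInv
    rw [pullback.condition]
    calc I₀ = i'.left.ker := (ker_subOverι V I₀).symm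
      _ ≤ (pullback.snd s i' ≫ i').left.ker := (pullback.snd s i').left.le_ker_comp i'.left
  obtain ⟨t', ht'⟩ := (factors_iff_ker_le i' (pullback.fst s i' ≫ t)).2 (by
    rw [ker_subOverι]; exact hle)
  have sqZ := Groth.Agent.Lib.H69InvSub.isPullback_toImage_of_invariant s t p hker i'
    (pullback.fst s i') (pullback.snd s i') t' hs ht'.symm
  have hiC : RepWith @IsClosedImmersion (Sheaf.imageι ((yon S).map i' ≫ p)) := by
    have := Groth.Agent.Lib.H69FppfLocal.isClosedImmersion.{u}
    exact Groth.Agent.Lib.H69DescentAffine.repWith_of_fppf_cover_of_le_isAffineHom @IsClosedImmersion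
      (fun _ _ g (hg : IsClosedImmersion g) => (inferInstance : IsAffineHom g)) _ p
      (repWith_flat_of_etale hpe) (repWith_lfp_of_etale hpe) hps _ _ sqZ
      ((repWith_yon_map_iff @IsClosedImmersion i').2 (inferInstance : IsClosedImmersion i'.left))
  have hZ : IsAlgSpace (Sheaf.image ((yon S).map i' ≫ p)) :=
    Groth.Agent.Lib.H86Coprod.isAlgSpace_of_representable _ hiC.1 hY
  have hf' : ∃ f' : X ⟶ Sheaf.image ((yon S).map i' ≫ p),
      f' ≫ Sheaf.imageι ((yon S).map i' ≫ p) = f := by
    refine exists_factor_of_pointwise _ f fun T x => ?_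
    obtain ⟨Rc, hRc, hlift⟩ := exists_cover_lift p (x ≫ f)
    refine exists_factor_of_cover _ (x ≫ f) Rc hRc ?_
    intro T₁ g hg
    obtain ⟨yl, hyl⟩ := hlift g hg
    obtain ⟨v, rfl⟩ := (yon S).map_surjective yl
    have hle := hFac _ ((yon S).map (Over.homMk g : Over.mk (g ≫ T.hom) ⟶ T) ≫ x) v (by
      rw [Category.assoc, hyl])
    obtain ⟨l, hl⟩ := (factors_iff_ker_le i' v).2 (by rw [ker_subOverι]; exact hle)
    refine ⟨(yon S).map l ≫ Sheaf.toImage _, ?_⟩
    rw [Category.assoc, Sheaf.toImage_ι, ← Category.assoc, ← Functor.map_comp, hl, hyl]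
  refine ⟨_, _, hZ, hiC, hf', ?_⟩
  rintro Z'' i'' hZ'' hi'' ⟨f'', hf''⟩
  have hmono'' : Mono i'' := mono_of_repWith_isClosedImmersion hi''
  obtain ⟨W, w, fstW, sqW⟩ := hi''.1 p
  have hwC : IsClosedImmersion w.left := hi''.2 p fstW w sqW
  have hW : ∀ {T : Over S} (v : T ⟶ V), w.left.ker ≤ v.left.ker ↔
      ∃ y : (yon S).obj T ⟶ Z'', y ≫ i'' = (yon S).map v ≫ p := by
    intro T v
    rw [← factors_iff_ker_le w v]
    constructor
    · rintro ⟨l, rfl⟩
      exact ⟨(yon S).map l ≫ fstW, by rw [Category.assoc, sqW.w, Functor.map_comp, Category.assoc]⟩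
    · rintro ⟨y, hy⟩
      obtain ⟨l, hl⟩ := (yon S).map_surjective (sqW.lift y ((yon S).map v) hy)
      exact ⟨l, (yon S).map_injective (by rw [Functor.map_comp, hl, sqW.lift_snd])⟩
  have hJ : w.left.ker ≤ I₀ := by
    apply le_sSup
    constructor
    · intro T x v hxv
      exact (hW v).2 ⟨x ≫ f'', by rw [Category.assoc, hf'', hxv]⟩
    · intro T r hr
      obtain ⟨y, hy⟩ := (hW (r ≫ s)).1 hr
      refine (hW (r ≫ t)).2 ⟨y, ?_⟩
      rw [hy, Functor.map_comp, Functor.map_comp, Category.assoc, Category.assoc, hker.w]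
  obtain ⟨l, hl⟩ := (factors_iff_ker_le w i').2 (by rw [ker_subOverι]; exact hJ)
  refine exists_factor_of_pointwise i'' _ fun T z => ?_
  have hq : Sheaf.IsLocallySurjective (Sheaf.toImage ((yon S).map i' ≫ p)) :=
    (Sheaf.isLocallySurjective_iff_epi _).2 inferInstance
  obtain ⟨Rz, hRz, hlz⟩ := Groth.Agent.Lib.H69InvSub.exists_sieve_lift
    (Sheaf.toImage ((yon S).map i' ≫ p)) z
  refine exists_factor_of_sieve i'' _ Rz hRz ?_
  intro T₁ φ hφ
  obtain ⟨y, hy⟩ := hlz φ hφ
  refine ⟨y ≫ (yon S).map l ≫ fstW, ?_⟩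
  have e1 : (yon S).map l ≫ fstW ≫ i'' = (yon S).map i' ≫ p := by
    rw [sqW.w, ← Category.assoc, ← Functor.map_comp, hl]
  calc (y ≫ (yon S).map l ≫ fstW) ≫ i'' = y ≫ ((yon S).map i' ≫ p) := by
        rw [Category.assoc, Category.assoc, e1]
    _ = y ≫ Sheaf.toImage ((yon S).map i' ≫ p) ≫ Sheaf.imageι ((yon S).map i' ≫ p) := by
        rw [Sheaf.toImage_ι]
    _ = (yon S).map φ ≫ z ≫ Sheaf.imageι ((yon S).map i' ≫ p) := by
        rw [← Category.assoc, hy, Category.assoc]

end Groth.Agent.Lib.H69SchImage
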