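import Groth.Agent.Lib.H86CartierChart3
import Groth.Agent.Lib.H69SchImage
import Groth.Agent.Lib.H69QuotOpen
import Groth.Prelude.Def_AlgSpModX

/-!
# helper69: closed subspaces and their kernel families on the small etale site -- factorisation

* `appTop_eq_zero_of_mem_idealOfRep`: a function in the kernel family of a representable `h : F ⟶ X` pulls back to
  zero on every scheme mapping compatibly to `F` and the chart.
* `idealOfRep_le_of_factor`: if `h` factors through `i` then the kernel family of `i` is contained in that of `h`.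
* `exists_factor_of_idealOfRep_le`: conversely for a closed immersion `i` into an algebraic space.
-/

set_option autoImplicit false
universe u
open CategoryTheory CategoryTheory.Limits AlgebraicGeometry

namespace Groth.Agent.Lib.H69IdealEt

open AlgSp Groth.Agent.Lib.H69AlgSp Groth.Agent.Lib.H86CartierChart Groth.Agent.Lib.H86CartierChart3
  Groth.Agent.Lib.AlgSpAtPt

variable {S : Scheme.{u}}

section scheme

theorem appTop_eq_appLE {X Y : Scheme.{u}} (f : X ⟶ Y) : f.appTop = f.appLE ⊤ ⊤ le_top :=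
  Scheme.Hom.app_eq_appLE (f := f) (U := ⊤)

theorem appLE_congr {X Y : Scheme.{u}} {f g : X ⟶ Y} (h : f = g) (U : Y.Opens) (V : X.Opens)
    (e : V ≤ f ⁻¹ᵁ U) : f.appLE U V e = g.appLE U V (h ▸ e) := by
  subst h; rfl

/-- Vanishing on the restricted scheme gives vanishing of the section on the preimage. -/
theorem app_eq_zero_of_resLE {T' A : Scheme.{u}} (q : T' ⟶ A) (A₀ : A.Opens) (a : Γ(A, A₀))
    (h : (q.resLE A₀ (q ⁻¹ᵁ A₀) le_rfl).appTop.hom ((A₀.ι.appLE A₀ ⊤ A₀.ι_preimage_self.ge).hom a) = 0) :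
    (q.app A₀).hom a = 0 := by
  have key : A₀.ι.appLE A₀ ⊤ A₀.ι_preimage_self.ge ≫ (q.resLE A₀ (q ⁻¹ᵁ A₀) le_rfl).appTop =
      q.app A₀ ≫ (q ⁻¹ᵁ A₀).ι.appLE (q ⁻¹ᵁ A₀) ⊤ (q ⁻¹ᵁ A₀).ι_preimage_self.ge := by
    rw [appTop_eq_appLE, Scheme.Hom.appLE_comp_appLE,
      Scheme.Hom.app_eq_appLE (f := q), Scheme.Hom.appLE_comp_appLE]
    exact appLE_congr (Scheme.Hom.resLE_comp_ι q le_rfl) _ _ _
  have h2 := congrArg (fun k => k.hom a) key
  simp only [CommRingCat.hom_comp, RingHom.comp_apply] at h2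
  rw [h] at h2
  have hinj : Function.Injective ((q ⁻¹ᵁ A₀).ι.appLE (q ⁻¹ᵁ A₀) ⊤ (q ⁻¹ᵁ A₀).ι_preimage_self.ge).hom :=
    ((ConcreteCategory.isIso_iff_bijective _).1 inferInstance).1
  apply hinj
  rw [map_zero]
  exact h2.symm

end scheme

/-- A function in the kernel family of a representable `h : F ⟶ X` pulls back to zero on every scheme mapping
compatibly to `F` and to the chart. -/
theorem appTop_eq_zero_of_mem_idealOfRep {F X : Sp S} {h : F ⟶ X} (hh : Representable h) (E : EtOver X)
    (hE : IsAffine E.obj.left.left) (a : Γ(E.obj.left.left, ⊤)) (ha : a ∈ (idealOfRep hh).ideal E hE)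
    {W : Over S} (w₁ : (yon S).obj W ⟶ F) (w₂ : W ⟶ E.obj.left)
    (comm : w₁ ≫ h = (yon S).map w₂ ≫ E.obj.hom) : w₂.left.appTop.hom a = 0 := by
  have hl : hh.lift w₁ w₂ comm ≫ hh.snd E.obj.hom = w₂ := hh.lift_snd _ _ _
  have ha' : (hh.snd E.obj.hom).left.appTop.hom a = 0 := ha
  rw [← hl, Over.comp_left, Scheme.Hom.comp_appTop, CommRingCat.hom_comp, RingHom.comp_apply, ha', map_zero]

/-- If `h` factors through `i`, the kernel family of `i` is contained in that of `h`. -/
theorem idealOfRep_le_of_factor {F Z X : Sp S} {i : Z ⟶ X} (hi : Representable i) {h : F ⟶ X}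
    (hh : Representable h) (k : F ⟶ Z) (hk : k ≫ i = h) : idealOfRep hi ≤ idealOfRep hh := by
  intro E hE a ha
  change (EtOver.bcπ hh E).left.appTop.hom a = 0
  refine appTop_eq_zero_of_mem_idealOfRep hi E hE a ha (hh.fst E.obj.hom ≫ k) (hh.snd E.obj.hom) ?_
  rw [Category.assoc, hk]
  exact (hh.isPullback E.obj.hom).w

/-- If the kernel family of a closed immersion `i` into an algebraic space is contained in that of `h`, then `h`
factors through `i`. -/
theorem exists_factor_of_idealOfRep_le {F Z X : Sp S} (hX : IsAlgSpace X) {i : Z ⟶ X}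
    (hi : RepWith @IsClosedImmersion i) {h : F ⟶ X} (hh : Representable h)
    (hle : idealOfRep hi.1 ≤ idealOfRep hh) : ∃ k : F ⟶ Z, k ≫ i = h := by
  have : Mono i := mono_of_repWith_isClosedImmersion hi
  refine Groth.Agent.Lib.H69SchImage.exists_factor_of_pointwise i h fun T x => ?_
  obtain ⟨A, p, hpe, hps⟩ := hX.atlas
  obtain ⟨T', c, q', sqT⟩ := hpe.1 (x ≫ h)
  obtain ⟨q, rfl⟩ := (yon S).map_surjective q'
  have hce : Etale c.left := hpe.2 (x ≫ h) _ c sqT
  have hcs : Surjective c.left := hps.2 (x ≫ h) _ c sqT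
  let IZ : A.left.IdealSheafData := (hi.rep.snd p).left.ker
  obtain ⟨fstZ, sqZ⟩ : ∃ fst : (yon S).obj (subOver A IZ) ⟶ Z,
      IsPullback fst ((yon S).map (subOverι A IZ)) i p := isPullback_ker_chart i hi p
  have hcl : IsClosedImmersion (subOverι A IZ).left := (inferInstance : IsClosedImmersion IZ.subschemeι)
  have hfac : ∃ l : T' ⟶ subOver A IZ, l ≫ subOverι A IZ = q := by
    refine (Groth.Agent.Lib.H69SchImage.factors_iff_ker_le (subOverι A IZ) q).2 ?_
    have hk : (subOverι A IZ).left.ker = IZ := IZ.ker_subschemeι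
    rw [hk]
    refine Scheme.IdealSheafData.le_ofIdeals_iff.mpr fun A₀ a ha => ?_
    rw [RingHom.mem_ker]
    have hae : RepWith @Etale ((yon S).map (opensOverι A A₀.1) ≫ p) :=
      MorphismProperty.comp_mem _ _ _ (repWith_etale_opensOverι A A₀.1) hpe
    have hE : IsAffine (opensOver A A₀.1).left := A₀.2
    have h1 := idealOfRep_ideal_opensOver i hi p A₀ hae hE
    let E : EtOver X := EtOver.mk ((yon S).map (opensOverι A A₀.1) ≫ p) hae
    have ha' : ((opensOverι A A₀.1).left.appLE A₀.1 ⊤ (top_le_preimage_opensOverι A A₀.1)).hom a ∈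
        (idealOfRep hi.1).ideal E hE := by
      rw [h1]
      exact Ideal.mem_map_of_mem _ ha
    have ha'' := hle E hE ha'
    -- the restriction of `q` over `A₀`
    let O : T'.left.Opens := q.left ⁻¹ᵁ A₀.1
    let w₂ : opensOver T' O ⟶ opensOver A A₀.1 := Over.homMk (q.left.resLE A₀.1 O le_rfl) (by
      change q.left.resLE A₀.1 O le_rfl ≫ (A₀.1.ι ≫ A.hom) = O.ι ≫ T'.hom
      rw [← Category.assoc, Scheme.Hom.resLE_comp_ι, Category.assoc, Over.w q])
    have hw₂ : w₂ ≫ opensOverι A A₀.1 = opensOverι T' O ≫ q := by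
      ext
      exact Scheme.Hom.resLE_comp_ι q.left le_rfl
    have h3 := appTop_eq_zero_of_mem_idealOfRep hh E hE _ ha''
      ((yon S).map (opensOverι T' O) ≫ (yon S).map c ≫ x) w₂ (by
        change _ = (yon S).map w₂ ≫ ((yon S).map (opensOverι A A₀.1) ≫ p)
        rw [← Category.assoc ((yon S).map w₂), ← Functor.map_comp, hw₂, Functor.map_comp, Category.assoc,
          Category.assoc, Category.assoc, sqT.w])
    exact app_eq_zero_of_resLE q.left A₀.1 a h3
  obtain ⟨l, hl⟩ := hfac
  have : Flat c.left := inferInstance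
  have : LocallyOfFinitePresentation c.left := inferInstance
  refine Groth.Agent.Lib.H69QuotOpen.exists_factor_of_fppf i (x ≫ h) c ((yon S).map l ≫ fstZ) ?_
  rw [Category.assoc, sqZ.w, ← Category.assoc, ← Functor.map_comp, hl]
  exact sqT.w

end Groth.Agent.Lib.H69IdealEt
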