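import Mathlib.AlgebraicGeometry.Morphisms.SchemeTheoreticallyDominant
import Mathlib.AlgebraicGeometry.IdealSheaf.Functorial
import Mathlib.AlgebraicGeometry.Morphisms.Flat
import Mathlib.AlgebraicGeometry.Morphisms.QuasiCompact

/-!
# Flat base change of the scheme theoretic image (helper69)

`ker_pullback_snd_eq_comap_ker_of_flat`: for `f : X ⟶ Y` quasi-compact and `g : Y' ⟶ Y` flat,
`(pullback.snd f g).ker = f.ker.comap g`  (Stacks 081I), deduced from Mathlib's
`IsSchemeTheoreticallyDominant.of_isPullback`.  Also the `IsPullback` form and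
`isSchemeTheoreticallyDominant_toImage`.
-/

set_option autoImplicit false
open CategoryTheory CategoryTheory.Limits AlgebraicGeometry
universe u

namespace Groth.Agent.Lib.H69KerFlat

lemma ker_toImage_eq_bot {X Y : Scheme.{u}} (g : X ⟶ Y) [QuasiCompact g] : g.toImage.ker = ⊥ := by
  refine Scheme.IdealSheafData.ext_of_iSup_eq_top (fun U : Y.affineOpens =>
    (⟨g.imageι ⁻¹ᵁ U.1, U.2.preimage g.imageι⟩ : g.image.affineOpens)) ?_ ?_
  · rw [eq_top_iff]
    intro z _
    have hz : g.imageι z ∈ (⊤ : Y.Opens) := trivial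
    rw [← iSup_affineOpens_eq_top Y] at hz
    obtain ⟨U, hU⟩ := TopologicalSpace.Opens.mem_iSup.1 hz
    exact TopologicalSpace.Opens.mem_iSup.2 ⟨U, hU⟩
  · intro U
    rw [Scheme.Hom.ker_apply]
    simp only [Scheme.IdealSheafData.ideal_bot, Pi.bot_apply]
    exact (RingHom.injective_iff_ker_eq_bot _).1 (g.toImage_app_injective U)

instance isSchemeTheoreticallyDominant_toImage {X Y : Scheme.{u}} (g : X ⟶ Y) [QuasiCompact g] :
    IsSchemeTheoreticallyDominant g.toImage :=
  ⟨ker_toImage_eq_bot g⟩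

/-- Flat base change of the kernel ideal sheaf of a quasi-compact morphism. -/
theorem ker_pullback_snd_eq_comap_ker_of_flat {X Y Y' : Scheme.{u}} (f : X ⟶ Y) (g : Y' ⟶ Y)
    [QuasiCompact f] [Flat g] :
    (pullback.snd f g).ker = f.ker.comap g := by
  -- the map `X' ⟶ Z' = Y' ×_Y Z`
  let ι := f.ker.subschemeι
  have hfac : f.toImage ≫ ι = f := f.toImage_imageι
  let h : pullback f g ⟶ pullback g ι :=
    pullback.lift (pullback.snd f g) (pullback.fst f g ≫ f.toImage)
      (by rw [Category.assoc, hfac, pullback.condition])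
  have h1 : h ≫ pullback.fst g ι = pullback.snd f g := pullback.lift_fst _ _ _
  have h2 : h ≫ pullback.snd g ι = pullback.fst f g ≫ f.toImage := pullback.lift_snd _ _ _
  have hout : IsPullback (h ≫ pullback.fst g ι) (pullback.fst f g) g (f.toImage ≫ ι) := by
    rw [h1, hfac]
    exact (IsPullback.of_hasPullback f g).flip
  have hleft : IsPullback h (pullback.fst f g) (pullback.snd g ι) f.toImage :=
    IsPullback.of_right hout h2 (IsPullback.of_hasPullback g ι)
  have : IsSchemeTheoreticallyDominant h :=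
    IsSchemeTheoreticallyDominant.of_isPullback hleft.flip
  rw [← h1, Scheme.Hom.ker_comp, Scheme.Hom.ker_eq_bot h, Scheme.IdealSheafData.map_bot]
  rfl

/-- `IsPullback` form. -/
theorem ker_eq_comap_ker_of_isPullback {X Y X' Y' : Scheme.{u}} {f : X ⟶ Y} {g : Y' ⟶ Y}
    {g' : X' ⟶ X} {f' : X' ⟶ Y'} (H : IsPullback g' f' f g)
    [QuasiCompact f] [Flat g] :
    f'.ker = f.ker.comap g := by
  rw [← H.isoPullback_hom_snd, Scheme.Hom.ker_comp_of_isIso,
    ker_pullback_snd_eq_comap_ker_of_flat]

end Groth.Agent.Lib.H69KerFlat
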