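import Groth.Agent.Lib.H69IdealEtSub
import Groth.Agent.Lib.H69KerFlat
import Groth.Agent.Lib.AlgSpQC

/-!
# helper69: the kernel family of a quasi-compact representable morphism and the scheme theoretic image

* `isQCoh_idealOfRep`: the kernel family of a quasi-compact representable morphism is quasi-coherent.
* `isSchImage_of_isCutOutBy`, `isCutOutBy_of_isSchImage`, and S10003.
-/

set_option autoImplicit false
universe u
open CategoryTheory CategoryTheory.Limits AlgebraicGeometry Opposite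

namespace Groth.Agent.Lib.H69IdealEtImage

open AlgSp Groth.Agent.Lib.AlgSpAtPt Groth.Agent.Lib.H69EtRing Groth.Agent.Lib.H69IdealEt
  Groth.Agent.Lib.H69IdealEtSub

variable {S : Scheme.{u}}

set_option backward.isDefEq.respectTransparency false in
theorem idealOfRep_ideal_eq {X Y : Sp S} {f : X ⟶ Y} (hf : Representable f) (E : EtOver Y)
    (hE : IsAffine E.obj.left.left) [QuasiCompact (hf.snd E.obj.hom).left] :
    (idealOfRep hf).ideal E hE =
      ((hf.snd E.obj.hom).left.ker).ideal ⟨⊤, isAffineOpen_top E.obj.left.left⟩ := by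
  rw [Scheme.Hom.ker_apply]
  rfl

/-- The kernel family of a quasi-compact representable morphism is quasi-coherent. -/
theorem isQCoh_idealOfRep {X Y : Sp S} {f : X ⟶ Y} (hf : Representable f) (hq : RepWith @QuasiCompact f) :
    (idealOfRep hf).IsQCoh := by
  intro E E' g hE hE'
  have sq := EtOver.isPullback_bcMap_left hf g
  have hqc : QuasiCompact (hf.snd E.obj.hom).left := hq.2 _ _ _ (hf.isPullback E.obj.hom)
  have hqc' : QuasiCompact (hf.snd E'.obj.hom).left := hq.2 _ _ _ (hf.isPullback E'.obj.hom)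
  have hfl : Flat g.hom.left.left := by
    have := EtOver.etale_left g
    infer_instance
  have hk : (hf.snd E'.obj.hom).left.ker = (hf.snd E.obj.hom).left.ker.comap g.hom.left.left :=
    Groth.Agent.Lib.H69KerFlat.ker_eq_comap_ker_of_isPullback sq
  rw [idealOfRep_ideal_eq hf E' hE', hk,
    Groth.Agent.Lib.IdealComap.ideal_comap _ g.hom.left.left ⊤ (isAffineOpen_top _) ⊤ (isAffineOpen_top _) le_top,
    ← idealOfRep_ideal_eq hf E hE, ← appTop_eq_appLE]

/-- The closed subspace cut out by the kernel family of `f` is the scheme theoretic image of `f`. -/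
theorem isSchImage_of_isCutOutBy {X Y Z : Sp S} (hY : IsAlgSpace Y) {f : X ⟶ Y} (hf : Representable f)
    {i : Z ⟶ Y} (h : IsCutOutBy (idealOfRep hf) i) : IsSchImage f i := by
  obtain ⟨hi, he⟩ := h
  refine ⟨hi, exists_factor_of_idealOfRep_le hY hi hf (by rw [he]; exact fun _ _ => le_rfl), ?_⟩
  intro Z' i' hZ' hi' ⟨f'', hf''⟩
  have h1 : idealOfRep hi'.1 ≤ idealOfRep hf := idealOfRep_le_of_factor hi'.1 hf f'' hf''
  rw [← he] at h1
  exact exists_factor_of_idealOfRep_le hY hi' hi.1 h1

/-- The scheme theoretic image of a quasi-compact representable morphism is cut out by its kernel family. -/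
theorem isCutOutBy_of_isSchImage {X Y Z : Sp S} (hY : IsAlgSpace Y) {f : X ⟶ Y} (hf : Representable f)
    (hq : RepWith @QuasiCompact f) {i : Z ⟶ Y} (h : IsSchImage f i) : IsCutOutBy (idealOfRep hf) i := by
  obtain ⟨hi, ⟨f', hf'⟩, hmin⟩ := h
  refine ⟨hi, ?_⟩
  have h1 : idealOfRep hi.1 ≤ idealOfRep hf := idealOfRep_le_of_factor hi.1 hf f' hf'
  obtain ⟨Z₀, i₀, hZ₀, hi₀, he₀⟩ := exists_isCutOutBy hY (idealOfRep hf) (isQCoh_idealOfRep hf hq)
  have hfac₀ : ∃ f₀ : X ⟶ Z₀, f₀ ≫ i₀ = f :=
    exists_factor_of_idealOfRep_le hY hi₀ hf (by rw [he₀]; exact fun _ _ => le_rfl)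
  obtain ⟨k, hk⟩ := hmin i₀ hZ₀ hi₀ hfac₀
  have h2 : idealOfRep hi₀.1 ≤ idealOfRep hi.1 := idealOfRep_le_of_factor hi₀.1 hi.1 k hk
  rw [he₀] at h2
  apply IdealEt.ext
  funext E hE
  exact le_antisymm (h1 E hE) (h2 E hE)

end Groth.Agent.Lib.H69IdealEtImage
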