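import Groth.Agent.Lib.H69SchImage
import Groth.Agent.Lib.H69KerFlat

/-!
# helper69: scheme theoretic images of quasi-compact morphisms of algebraic spaces

* `PF g b I`: the base change of `g : G ⟶ Y` along a chart `b : h_V ⟶ Y` factors through the closed subscheme `V(I)`.
* `ChartCover g b xA a`: `(xA, a) : h_A ⟶ G ×_Y h_V` is a covering (locally surjective) chart.
* `PF_iff_of_chartCover`: then `PF g b I ↔ I ≤ ker a`.
* `PF_comap_iff`: flat base change, for `a` quasi-compact.
* `exists_closed_of_invariant`: descent of an invariant closed subscheme of an atlas.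
* `ker_eq_of_isSchImage`: the scheme theoretic image pulls back to `V(ker a)` on such a chart.
-/

set_option autoImplicit false
universe u

open CategoryTheory CategoryTheory.Limits AlgebraicGeometry Opposite

namespace Groth.Agent.Lib.H69SchImageQC

open AlgSp Groth.Agent.Lib.H69AlgSp Groth.Agent.Lib.H69QuotOpen Groth.Agent.Lib.H69SchImage

variable {S : Scheme.{u}}

/-- `I ≤ ker (u ≫ h)` iff `h⁻¹ I ≤ ker u`. -/
theorem le_ker_comp_iff {T U V : Scheme.{u}} (u : T ⟶ U) (h : U ⟶ V) (I : V.IdealSheafData) :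
    I ≤ (u ≫ h).ker ↔ I.comap h ≤ u.ker := by
  rw [← Scheme.IdealSheafData.map_bot (u ≫ h), Scheme.IdealSheafData.map_comp,
    Scheme.IdealSheafData.map_bot, Scheme.IdealSheafData.le_map_iff_comap_le]

/-- The base change of `g` along the chart `b` factors through `V(I)`. -/
def PF {G Y : Sp S} (g : G ⟶ Y) {V : Over S} (b : (yon S).obj V ⟶ Y) (I : V.left.IdealSheafData) : Prop :=
  ∀ (T : Over S) (x : (yon S).obj T ⟶ G) (v : T ⟶ V), x ≫ g = (yon S).map v ≫ b → I ≤ v.left.ker

theorem PF.comap {G Y : Sp S} {g : G ⟶ Y} {V : Over S} {b : (yon S).obj V ⟶ Y} {I : V.left.IdealSheafData}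
    (h : PF g b I) {U : Over S} (c : U ⟶ V) : PF g ((yon S).map c ≫ b) (I.comap c.left) := by
  intro T x u hxu
  have := h T x (u ≫ c) (by rw [hxu, Functor.map_comp, Category.assoc])
  rw [Over.comp_left] at this
  exact (le_ker_comp_iff _ _ _).1 this

/-- The sieve of those `φ : T₁ ⟶ T` over which the point `(x, v)` of `G ×_Y h_V` lifts to `A`. -/
def liftSieve {G : Sp S} {V A : Over S} (xA : (yon S).obj A ⟶ G) (a : A ⟶ V) {T : Over S}
    (x : (yon S).obj T ⟶ G) (v : T ⟶ V) : Sieve T where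
  arrows T₁ φ := ∃ l : T₁ ⟶ A, (yon S).map l ≫ xA = (yon S).map φ ≫ x ∧ l ≫ a = φ ≫ v
  downward_closed := by
    rintro T₁ T₂ φ ⟨l, h1, h2⟩ ψ
    refine ⟨ψ ≫ l, ?_, ?_⟩
    · rw [Functor.map_comp, Category.assoc, h1, Functor.map_comp, Category.assoc]
    · rw [Category.assoc, h2, Category.assoc]

/-- `(xA, a) : h_A ⟶ G ×_Y h_V` is a covering chart. -/
structure ChartCover {G Y : Sp S} (g : G ⟶ Y) {V A : Over S} (b : (yon S).obj V ⟶ Y)
    (xA : (yon S).obj A ⟶ G) (a : A ⟶ V) : Prop where
  w : xA ≫ g = (yon S).map a ≫ b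
  cov : ∀ (T : Over S) (x : (yon S).obj T ⟶ G) (v : T ⟶ V), x ≫ g = (yon S).map v ≫ b →
    liftSieve xA a x v ∈ J S T

/-- A morphism to `V` that factors through `V(I)` locally factors through it. -/
theorem le_ker_of_sieve {V T : Over S} (I : V.left.IdealSheafData) (v : T ⟶ V) (R : Sieve T) (hR : R ∈ J S T)
    (h : ∀ ⦃T₁ : Over S⦄ (φ : T₁ ⟶ T), R φ → I ≤ (φ ≫ v).left.ker) : I ≤ v.left.ker := by
  have hmono : Mono (subOverι V I) := by
    have : Mono (subOverι V I).left := (inferInstance : Mono I.subschemeι)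
    exact mono_over_of_mono_left _
  have : Mono ((yon S).map (subOverι V I)) := inferInstance
  obtain ⟨y, hy⟩ := exists_factor_of_sieve ((yon S).map (subOverι V I)) ((yon S).map v) R hR (by
    intro T₁ φ hφ
    obtain ⟨l, hl⟩ := (factors_iff_ker_le (subOverι V I) (φ ≫ v)).2 (by
      rw [ker_subOverι]; exact h φ hφ)
    exact ⟨(yon S).map l, by rw [← Functor.map_comp, hl, Functor.map_comp]⟩)
  obtain ⟨l, rfl⟩ := (yon S).map_surjective y
  have hl : l ≫ subOverι V I = v := (yon S).map_injective (by rw [Functor.map_comp, hy])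
  have := (factors_iff_ker_le (subOverι V I) v).1 ⟨l, hl⟩
  rwa [ker_subOverι] at this

theorem PF_iff_of_chartCover {G Y : Sp S} {g : G ⟶ Y} {V A : Over S} {b : (yon S).obj V ⟶ Y}
    {xA : (yon S).obj A ⟶ G} {a : A ⟶ V} (cc : ChartCover g b xA a) (I : V.left.IdealSheafData) :
    PF g b I ↔ I ≤ a.left.ker := by
  constructor
  · intro h
    exact h A xA a cc.w
  · intro h T x v hxv
    refine le_ker_of_sieve I v _ (cc.cov T x v hxv) ?_
    rintro T₁ φ ⟨l, -, h2⟩
    rw [← h2, Over.comp_left]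
    exact h.trans (l.left.le_ker_comp a.left)

/-- The base change `A ×_V U` over `S`. -/
noncomputable def bcOver {V A U : Over S} (a : A ⟶ V) (h : U ⟶ V) : Over S :=
  Over.mk (pullback.snd a.left h.left ≫ U.hom)

noncomputable def bcFst {V A U : Over S} (a : A ⟶ V) (h : U ⟶ V) : bcOver a h ⟶ A :=
  Over.homMk (pullback.fst a.left h.left) (by
    change pullback.fst a.left h.left ≫ A.hom = pullback.snd a.left h.left ≫ U.hom
    rw [← Over.w a, ← Over.w h, ← Category.assoc, ← Category.assoc, pullback.condition])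

noncomputable def bcSnd {V A U : Over S} (a : A ⟶ V) (h : U ⟶ V) : bcOver a h ⟶ U :=
  Over.homMk (pullback.snd a.left h.left) rfl

theorem bc_condition {V A U : Over S} (a : A ⟶ V) (h : U ⟶ V) : bcFst a h ≫ a = bcSnd a h ≫ h := by
  ext
  exact pullback.condition

noncomputable def bcLift {V A U T : Over S} (a : A ⟶ V) (h : U ⟶ V) (l : T ⟶ A) (u : T ⟶ U)
    (w : l ≫ a = u ≫ h) : T ⟶ bcOver a h :=
  Over.homMk (pullback.lift l.left u.left (by rw [← Over.comp_left, w, Over.comp_left])) (by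
    change pullback.lift l.left u.left _ ≫ pullback.snd a.left h.left ≫ U.hom = T.hom
    rw [pullback.lift_snd_assoc, Over.w u])

theorem bcLift_fst {V A U T : Over S} (a : A ⟶ V) (h : U ⟶ V) (l : T ⟶ A) (u : T ⟶ U)
    (w : l ≫ a = u ≫ h) : bcLift a h l u w ≫ bcFst a h = l := by
  ext
  exact pullback.lift_fst _ _ _

theorem bcLift_snd {V A U T : Over S} (a : A ⟶ V) (h : U ⟶ V) (l : T ⟶ A) (u : T ⟶ U)
    (w : l ≫ a = u ≫ h) : bcLift a h l u w ≫ bcSnd a h = u := by
  ext
  exact pullback.lift_snd _ _ _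

/-- Covering charts are stable under base change. -/
theorem ChartCover.baseChange {G Y : Sp S} {g : G ⟶ Y} {V A : Over S} {b : (yon S).obj V ⟶ Y}
    {xA : (yon S).obj A ⟶ G} {a : A ⟶ V} (cc : ChartCover g b xA a) {U : Over S} (h : U ⟶ V) :
    ChartCover g ((yon S).map h ≫ b) ((yon S).map (bcFst a h) ≫ xA) (bcSnd a h) where
  w := by
    rw [Category.assoc, cc.w, ← Category.assoc, ← Functor.map_comp, bc_condition, Functor.map_comp,
      Category.assoc]
  cov := by
    intro T x u hxu
    have hxu' : x ≫ g = (yon S).map (u ≫ h) ≫ b := by rw [hxu, Functor.map_comp, Category.assoc]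
    refine (J S).superset_covering ?_ (cc.cov T x (u ≫ h) hxu')
    rintro T₁ φ ⟨l, h1, h2⟩
    have w : l ≫ a = (φ ≫ u) ≫ h := by rw [h2, Category.assoc]
    refine ⟨bcLift a h l (φ ≫ u) w, ?_, bcLift_snd _ _ _ _ _⟩
    rw [← Category.assoc, ← Functor.map_comp, bcLift_fst, h1]

/-- Flat base change of the kernel of a covering quasi-compact chart. -/
theorem PF_comap_iff {G Y : Sp S} {g : G ⟶ Y} {V A : Over S} {b : (yon S).obj V ⟶ Y}
    {xA : (yon S).obj A ⟶ G} {a : A ⟶ V} (cc : ChartCover g b xA a) [QuasiCompact a.left]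
    {U : Over S} (h : U ⟶ V) [Flat h.left] (I : U.left.IdealSheafData) :
    PF g ((yon S).map h ≫ b) I ↔ I ≤ a.left.ker.comap h.left := by
  rw [PF_iff_of_chartCover (cc.baseChange h)]
  have : (bcSnd a h).left.ker = a.left.ker.comap h.left :=
    Groth.Agent.Lib.H69KerFlat.ker_pullback_snd_eq_comap_ker_of_flat a.left h.left
  rw [this]

/-- The kernel of a covering quasi-compact chart over an atlas is invariant under the etale equivalence
relation. -/
theorem comap_ker_eq_of_chartCover {G Y : Sp S} {g : G ⟶ Y} {V A : Over S} {b : (yon S).obj V ⟶ Y}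
    {xA : (yon S).obj A ⟶ G} {a : A ⟶ V} (cc : ChartCover g b xA a) [QuasiCompact a.left]
    {R : Over S} (s t : R ⟶ V) [Flat s.left] [Flat t.left]
    (hst : (yon S).map s ≫ b = (yon S).map t ≫ b) :
    a.left.ker.comap s.left = a.left.ker.comap t.left := by
  apply le_antisymm
  · rw [← PF_comap_iff cc t, ← hst, PF_comap_iff cc s]
  · rw [← PF_comap_iff cc s, hst, PF_comap_iff cc t]

/-- Descent of an invariant closed subscheme of an atlas to a closed subspace. -/
theorem exists_closed_of_invariant {Y : Sp S} (hY : IsAlgSpace Y) {V R : Over S} (p : (yon S).obj V ⟶ Y)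
    (hpe : RepWith @Etale p) (hps : RepWith @Surjective p) (s t : R ⟶ V)
    (hker : IsPullback ((yon S).map t) ((yon S).map s) p p) (I : V.left.IdealSheafData)
    (hInv : ∀ (T : Over S) (r : T ⟶ R), I ≤ (r ≫ s).left.ker → I ≤ (r ≫ t).left.ker) :
    ∃ (Z : Sp S) (i : Z ⟶ Y) (fst : (yon S).obj (subOver V I) ⟶ Z), IsAlgSpace Z ∧
      RepWith @IsClosedImmersion i ∧ IsPullback fst ((yon S).map (subOverι V I)) i p := by
  let i' : subOver V I ⟶ V := subOverι V I
  have hmono' : Mono i' := by
    have : Mono i'.left := (inferInstance : Mono I.subschemeι)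
    exact mono_over_of_mono_left i'
  have hs := IsPullback.of_hasPullback s i'
  have hle : I ≤ (pullback.fst s i' ≫ t).left.ker := by
    apply hInv
    rw [pullback.condition]
    calc I = i'.left.ker := (ker_subOverι V I).symm
      _ ≤ (pullback.snd s i' ≫ i').left.ker := (pullback.snd s i').left.le_ker_comp i'.left
  obtain ⟨t', ht'⟩ := (factors_iff_ker_le i' (pullback.fst s i' ≫ t)).2 (by
    rw [ker_subOverι]; exact hle)
  have sqZ := Groth.Agent.Lib.H69InvSub.isPullback_toImage_of_invariant s t p hker i'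
    (pullback.fst s i') (pullback.snd s i') t' hs ht'.symm
  have hiC : RepWith @IsClosedImmersion (Sheaf.imageι ((yon S).map i' ≫ p)) := by
    have := Groth.Agent.Lib.H69FppfLocal.isClosedImmersion.{u}
    exact Groth.Agent.Lib.H69DescentAffine.repWith_of_fppf_cover_of_le_isAffineHom @IsClosedImmersion
      (fun _ _ g (hg : IsClosedImmersion g) => (inferInstance : IsAffineHom g)) _ p
      (repWith_flat_of_etale hpe) (repWith_lfp_of_etale hpe) hps _ _ sqZ
      ((repWith_yon_map_iff @IsClosedImmersion i').2 (inferInstance : IsClosedImmersion i'.left))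
  have hZ : IsAlgSpace (Sheaf.image ((yon S).map i' ≫ p)) :=
    Groth.Agent.Lib.H86Coprod.isAlgSpace_of_representable _ hiC.1 hY
  exact ⟨_, _, _, hZ, hiC, sqZ⟩

/-- On a covering quasi-compact chart over an atlas, the scheme theoretic image is cut out by the kernel. -/
theorem ker_eq_of_isSchImage {G Y Z : Sp S} (hY : IsAlgSpace Y) (g : G ⟶ Y) (i : Z ⟶ Y)
    (hZ : IsSchImage g i) {V A : Over S} (p : (yon S).obj V ⟶ Y) (hpe : RepWith @Etale p)
    (hps : RepWith @Surjective p) (xA : (yon S).obj A ⟶ G) (a : A ⟶ V) (cc : ChartCover g p xA a)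
    [QuasiCompact a.left] {W : Over S} (w : W ⟶ V) (fstW : (yon S).obj W ⟶ Z)
    (sqW : IsPullback fstW ((yon S).map w) i p) : w.left.ker = a.left.ker := by
  obtain ⟨hiC, ⟨g', hg'⟩, hmin⟩ := hZ
  have hwC : IsClosedImmersion w.left := hiC.2 p fstW w sqW
  apply le_antisymm
  · obtain ⟨l, hl⟩ := (yon S).map_surjective (sqW.lift (xA ≫ g') ((yon S).map a) (by
      rw [Category.assoc, hg', cc.w]))
    have hl' : l ≫ w = a := (yon S).map_injective (by rw [Functor.map_comp, hl, sqW.lift_snd])
    rw [← hl', Over.comp_left]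
    exact l.left.le_ker_comp w.left
  · obtain ⟨R, s, tt, hker⟩ := hpe.1 p
    obtain ⟨t, rfl⟩ := (yon S).map_surjective tt
    have hse : Etale s.left := hpe.2 p _ _ hker
    have hte : Etale t.left := hpe.2 p _ _ hker.flip
    have hcomap := comap_ker_eq_of_chartCover cc s t hker.w.symm
    have hInv : ∀ (T : Over S) (r : T ⟶ R), a.left.ker ≤ (r ≫ s).left.ker →
        a.left.ker ≤ (r ≫ t).left.ker := by
      intro T r hr
      rw [Over.comp_left, le_ker_comp_iff] at hr ⊢
      rwa [← hcomap]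
    obtain ⟨Z₀, i₀, fst₀, hZ₀, hi₀, sq₀⟩ := exists_closed_of_invariant hY p hpe hps s t hker _ hInv
    have hmono₀ : Mono i₀ := mono_of_repWith_isClosedImmersion hi₀
    have hPF : PF g p a.left.ker := (PF_iff_of_chartCover cc _).2 le_rfl
    have hg₀ : ∃ g₀ : G ⟶ Z₀, g₀ ≫ i₀ = g := by
      refine exists_factor_of_pointwise i₀ g fun T x => ?_
      have hploc : Sheaf.IsLocallySurjective p := isLocallySurjective_of_etale_surjective p hpe hps
      obtain ⟨Rc, hRc, hlift⟩ := Groth.Agent.Lib.H69InvSub.exists_sieve_lift p (x ≫ g)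
      refine exists_factor_of_sieve i₀ (x ≫ g) Rc hRc ?_
      intro T₁ φ hφ
      obtain ⟨yl, hyl⟩ := hlift φ hφ
      obtain ⟨v, rfl⟩ := (yon S).map_surjective yl
      have hle := hPF T₁ ((yon S).map φ ≫ x) v (by rw [Category.assoc, hyl])
      obtain ⟨l, hl⟩ := (factors_iff_ker_le (subOverι V a.left.ker) v).2 (by
        rw [ker_subOverι]; exact hle)
      refine ⟨(yon S).map l ≫ fst₀, ?_⟩
      rw [Category.assoc, sq₀.w, ← Category.assoc, ← Functor.map_comp, hl, hyl]
    obtain ⟨k, hk⟩ := hmin i₀ hZ₀ hi₀ hg₀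
    obtain ⟨l, hl⟩ := (yon S).map_surjective (sq₀.lift (fstW ≫ k) ((yon S).map w) (by
      rw [Category.assoc, hk, sqW.w]))
    have hl' : l ≫ subOverι V a.left.ker = w :=
      (yon S).map_injective (by rw [Functor.map_comp, hl, sq₀.lift_snd])
    have := (factors_iff_ker_le (subOverι V a.left.ker) w).1 ⟨l, hl'⟩
    rwa [ker_subOverι] at this

end Groth.Agent.Lib.H69SchImageQC
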