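import Groth.Agent.Lib.H69EtRing
import Groth.Agent.Lib.H69SchImageQC
import Groth.Agent.Lib.H69ClosedDesc

/-!
# helper69: the closed subspace cut out by a quasi-coherent family of ideals on the small etale site

* `idealAt`, `idealAt_map`, `sheafOn`, `sheafOn_comap`: a quasi-coherent family `I : IdealEt X` induces on every
  object `E` of the small etale site an ideal sheaf of the scheme of `E`, compatibly with all morphisms of the site.
* `exists_isCutOutBy` (= S9988).
-/

set_option autoImplicit false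
universe u
open CategoryTheory CategoryTheory.Limits AlgebraicGeometry Opposite

namespace Groth.Agent.Lib.H69IdealEtSub

open AlgSp Groth.Agent.Lib.AlgSpAtPt Groth.Agent.Lib.H69EtRing Groth.Agent.Lib.H69IdealEt

variable {S : Scheme.{u}} {X : Sp S}

section scheme

theorem appLE_square {T' A : Scheme.{u}} (q : T' ⟶ A) (A₀ : A.Opens) (O : T'.Opens) (hle : O ≤ q ⁻¹ᵁ A₀) :
    A₀.ι.appLE A₀ ⊤ A₀.ι_preimage_self.ge ≫ (q.resLE A₀ O hle).appTop =
      q.appLE A₀ O hle ≫ O.ι.appLE O ⊤ O.ι_preimage_self.ge := by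
  rw [appTop_eq_appLE, Scheme.Hom.appLE_comp_appLE, Scheme.Hom.appLE_comp_appLE]
  exact appLE_congr (Scheme.Hom.resLE_comp_ι q hle) _ _ _

theorem ι_appLE_bijective {V : Scheme.{u}} (V' : V.Opens) :
    Function.Bijective (V'.ι.appLE V' ⊤ V'.ι_preimage_self.ge).hom :=
  (ConcreteCategory.isIso_iff_bijective _).1 inferInstance

/-- Transport of ideals along a commutative square of ring maps with bijective vertical maps. -/
theorem map_comap_square {A B A' B' : Type u} [CommRing A] [CommRing B] [CommRing A'] [CommRing B']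
    (a : A →+* B) (ρ : A' →+* B') (e : A →+* A') (e' : B →+* B') (he : Function.Bijective e)
    (he' : Function.Bijective e') (hsq : ρ.comp e = e'.comp a) (J : Ideal A') :
    (J.comap e).map a = (J.map ρ).comap e' := by
  have h1 : J = (J.comap e).map e := (Ideal.map_comap_of_surjective e he.2 J).symm
  conv_rhs => rw [h1, Ideal.map_map, hsq, ← Ideal.map_map, Ideal.comap_map_of_bijective e' he']

end scheme

/-- The morphism `U' ⟶ U` of the small etale site induced by a morphism `g : E' ⟶ E` and opens `U' ≤ g⁻¹ U`. -/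
noncomputable def resHom {E E' : EtOver X} (g : E' ⟶ E) (U : E.obj.left.left.Opens)
    (U' : E'.obj.left.left.Opens) (hle : U' ≤ g.hom.left.left ⁻¹ᵁ U) : openObj E' U' ⟶ openObj E U :=
  EtOver.homMk (Over.homMk (g.hom.left.left.resLE U U' hle) (by
      change _ ≫ (U.ι ≫ E.obj.left.hom) = U'.ι ≫ E'.obj.left.hom
      rw [← Category.assoc, Scheme.Hom.resLE_comp_ι, Category.assoc, Over.w g.hom.left]))
    (by
      have h1 : (Over.homMk (g.hom.left.left.resLE U U' hle) (by
          change _ ≫ (U.ι ≫ E.obj.left.hom) = U'.ι ≫ E'.obj.left.hom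
          rw [← Category.assoc, Scheme.Hom.resLE_comp_ι, Category.assoc, Over.w g.hom.left]) :
          opensOver E'.obj.left U' ⟶ opensOver E.obj.left U) ≫ opensOverι E.obj.left U =
          opensOverι E'.obj.left U' ≫ g.hom.left := by
        ext
        exact Scheme.Hom.resLE_comp_ι _ hle
      change (yon S).map _ ≫ ((yon S).map (opensOverι E.obj.left U) ≫ E.obj.hom) =
        (yon S).map (opensOverι E'.obj.left U') ≫ E'.obj.hom
      rw [← Category.assoc, ← Functor.map_comp, h1, Functor.map_comp, Category.assoc, EtOver.w g])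

theorem resHom_left_left {E E' : EtOver X} (g : E' ⟶ E) (U : E.obj.left.left.Opens)
    (U' : E'.obj.left.left.Opens) (hle : U' ≤ g.hom.left.left ⁻¹ᵁ U) :
    (resHom g U U' hle).hom.left.left = g.hom.left.left.resLE U U' hle := rfl

/-- The ideal of `Γ(E, U)` given by the family `I` on the affine open `U` of the object `E`. -/
noncomputable def idealAt (I : IdealEt X) (E : EtOver X) (U : E.obj.left.left.affineOpens) :
    Ideal Γ(E.obj.left.left, U.1) :=
  (I.ideal (openObj E U.1) U.2).comap (U.1.ι.appLE U.1 ⊤ U.1.ι_preimage_self.ge).hom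

theorem idealAt_map (I : IdealEt X) (hI : I.IsQCoh) {E E' : EtOver X} (g : E' ⟶ E)
    (U : E.obj.left.left.affineOpens) (U' : E'.obj.left.left.affineOpens)
    (hle : U'.1 ≤ g.hom.left.left ⁻¹ᵁ U.1) :
    (idealAt I E U).map (g.hom.left.left.appLE U.1 U'.1 hle).hom = idealAt I E' U' := by
  have hq : I.ideal (openObj E' U'.1) U'.2 =
      (I.ideal (openObj E U.1) U.2).map (resHom g U.1 U'.1 hle).hom.left.left.appTop.hom :=
    le_antisymm (hI (resHom g U.1 U'.1 hle) U.2 U'.2) (I.map_le (resHom g U.1 U'.1 hle) U.2 U'.2)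
  unfold idealAt
  rw [hq, resHom_left_left]
  refine map_comap_square _ _ _ _ (ι_appLE_bijective U.1) (ι_appLE_bijective U'.1) ?_ _
  exact congrArg CommRingCat.Hom.hom (appLE_square g.hom.left.left U.1 U'.1 hle)

theorem id_appLE {V : Scheme.{u}} (U U' : V.Opens) (hle : U' ≤ (𝟙 V : V ⟶ V) ⁻¹ᵁ U) :
    (𝟙 V : V ⟶ V).appLE U U' hle = V.presheaf.map (homOfLE hle).op := by
  simp only [Scheme.Hom.appLE, Scheme.Hom.id_app]
  exact Category.id_comp _

/-- The ideal sheaf induced by a quasi-coherent family on the scheme of an object of the small etale site. -/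
noncomputable def sheafOn (I : IdealEt X) (hI : I.IsQCoh) (E : EtOver X) : E.obj.left.left.IdealSheafData where
  ideal U := idealAt I E U
  map_ideal_basicOpen U f := by
    have h := idealAt_map I hI (𝟙 E) U (E.obj.left.left.affineBasicOpen f) (E.obj.left.left.basicOpen_le f)
    change (idealAt I E U).map ((𝟙 E.obj.left.left : E.obj.left.left ⟶ E.obj.left.left).appLE U.1
      (E.obj.left.left.basicOpen f) (E.obj.left.left.basicOpen_le f)).hom = _ at h
    rw [id_appLE] at h
    exact h

theorem sheafOn_ideal (I : IdealEt X) (hI : I.IsQCoh) (E : EtOver X) (U : E.obj.left.left.affineOpens) :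
    (sheafOn I hI E).ideal U = idealAt I E U := rfl

theorem sheafOn_comap (I : IdealEt X) (hI : I.IsQCoh) {E E' : EtOver X} (g : E' ⟶ E) :
    (sheafOn I hI E).comap g.hom.left.left = sheafOn I hI E' := by
  let ι := {P : E'.obj.left.left.affineOpens × E.obj.left.left.affineOpens //
    P.1.1 ≤ g.hom.left.left ⁻¹ᵁ P.2.1}
  refine Scheme.IdealSheafData.ext_of_iSup_eq_top (ι := ι) (fun P => P.1.1) ?_ ?_
  · rw [eq_top_iff]
    intro x _
    obtain ⟨_, ⟨U, hU, rfl⟩, hxU, -⟩ :=
      E.obj.left.left.isBasis_affineOpens.exists_subset_of_mem_open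
        (Set.mem_univ (g.hom.left.left x)) isOpen_univ
    obtain ⟨_, ⟨U', hU', rfl⟩, hxU', hle⟩ :=
      E'.obj.left.left.isBasis_affineOpens.exists_subset_of_mem_open
        (show x ∈ ((g.hom.left.left ⁻¹ᵁ U : E'.obj.left.left.Opens) : Set E'.obj.left.left) from hxU)
        (g.hom.left.left ⁻¹ᵁ U).isOpen
    exact TopologicalSpace.Opens.mem_iSup.mpr ⟨⟨(⟨U', hU'⟩, ⟨U, hU⟩), hle⟩, hxU'⟩
  · rintro ⟨⟨U', U⟩, hle⟩
    rw [Groth.Agent.Lib.IdealComap.ideal_comap _ g.hom.left.left U.1 U.2 U'.1 U'.2 hle]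
    exact idealAt_map I hI g U U' hle

/-- The value of the induced ideal sheaf on the whole (affine) scheme of an object is the value of the family. -/
theorem idealAt_top (I : IdealEt X) (hI : I.IsQCoh) (E : EtOver X) (hE : IsAffine E.obj.left.left) :
    idealAt I E ⟨⊤, isAffineOpen_top E.obj.left.left⟩ = I.ideal E hE := by
  have hq : I.ideal (openObj E ⊤) (isAffineOpen_top E.obj.left.left) =
      (I.ideal E hE).map (openHom E ⊤).hom.left.left.appTop.hom :=
    le_antisymm (hI (openHom E ⊤) hE (isAffineOpen_top E.obj.left.left))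
      (I.map_le (openHom E ⊤) hE (isAffineOpen_top E.obj.left.left))
  unfold idealAt
  rw [hq]
  have h1 : (openHom E ⊤).hom.left.left.appTop =
      (⊤ : E.obj.left.left.Opens).ι.appLE ⊤ ⊤ (⊤ : E.obj.left.left.Opens).ι_preimage_self.ge :=
    appTop_eq_appLE _
  rw [h1]
  exact Ideal.comap_map_of_bijective _ (ι_appLE_bijective ⊤)

open Groth.Agent.Lib.H69SchImageQC in
/-- S9988: every quasi-coherent family of ideals on an algebraic space is the kernel family of a closed subspace. -/
theorem exists_isCutOutBy (hX : IsAlgSpace X) (I : IdealEt X) (hI : I.IsQCoh) :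
    ∃ (Z : Sp S) (i : Z ⟶ X), IsAlgSpace Z ∧ IsCutOutBy I i := by
  obtain ⟨A, p, hpe, hps⟩ := hX.atlas
  obtain ⟨R, s, tt, hker⟩ := hpe.1 p
  obtain ⟨t, rfl⟩ := (yon S).map_surjective tt
  let EA : EtOver X := EtOver.mk p hpe
  let IA : A.left.IdealSheafData := sheafOn I hI EA
  have hse : RepWith @Etale ((yon S).map s ≫ p) :=
    MorphismProperty.comp_mem _ _ _ ((repWith_yon_map_iff _ _).2 (hpe.2 p _ s hker)) hpe
  let ER : EtOver X := EtOver.mk ((yon S).map s ≫ p) hse
  let σ : ER ⟶ EA := EtOver.homMk s rfl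
  let τ : ER ⟶ EA := EtOver.homMk t hker.w
  have hσ : IA.comap s.left = sheafOn I hI ER := sheafOn_comap I hI σ
  have hτ : IA.comap t.left = sheafOn I hI ER := sheafOn_comap I hI τ
  obtain ⟨Z, i, fst, hZ, hiC, sqZ⟩ := exists_closed_of_invariant hX p hpe hps s t hker IA (by
    intro T r h
    rw [Over.comp_left, le_ker_comp_iff] at h ⊢
    rw [hτ, ← hσ]
    exact h)
  refine ⟨Z, i, hZ, hiC, ?_⟩
  have sqZ' : IsPullback fst ((yon S).map (Groth.Agent.Lib.H86CartierChart.subOverι A IA)) i p := sqZ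
  apply IdealEt.ext
  funext E hE
  rw [Groth.Agent.Lib.H86CartierChart3.idealOfRep_ideal i hiC E hE]
  have hK : (hiC.rep.snd E.obj.hom).left.ker = sheafOn I hI E := by
    obtain ⟨fstE, sqE⟩ := Groth.Agent.Lib.H86CartierChart3.isPullback_ker_chart i hiC E.obj.hom
    obtain ⟨W, pr₁, pr₂', sqW⟩ := hpe.1 E.obj.hom
    obtain ⟨pr₂, rfl⟩ := (yon S).map_surjective pr₂'
    have h1e : Etale pr₁.left := hpe.2 E.obj.hom _ pr₁ sqW
    have h1s : Surjective pr₁.left := hps.2 E.obj.hom _ pr₁ sqW
    have hWe : RepWith @Etale ((yon S).map pr₁ ≫ E.obj.hom) :=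
      MorphismProperty.comp_mem _ _ _ ((repWith_yon_map_iff _ _).2 h1e) E.property
    let EW : EtOver X := EtOver.mk ((yon S).map pr₁ ≫ E.obj.hom) hWe
    let π₁ : EW ⟶ E := EtOver.homMk pr₁ rfl
    let π₂ : EW ⟶ EA := EtOver.homMk pr₂ sqW.w
    have e1 : (sheafOn I hI E).comap pr₁.left = sheafOn I hI EW := sheafOn_comap I hI π₁
    have e2 : IA.comap pr₂.left = sheafOn I hI EW := sheafOn_comap I hI π₂
    have e3 := Groth.Agent.Lib.H86CartierChart.comap_eq_comap i E.obj.hom p _ IA fstE fst sqE sqZ' pr₁ pr₂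
      sqW.w.symm
    have hflat : Flat pr₁.left := inferInstance
    rw [← Groth.Agent.Lib.H69ClosedDesc.map_comap_eq pr₁.left (hiC.rep.snd E.obj.hom).left.ker, e3, e2, ← e1,
      Groth.Agent.Lib.H69ClosedDesc.map_comap_eq]
  rw [hK, sheafOn_ideal]
  exact idealAt_top I hI E hE

end Groth.Agent.Lib.H69IdealEtSub
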