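import Groth.Agent.Lib.H69Immersion2
import Groth.Agent.Lib.AlgSpFppfCover
import Groth.Agent.Lib.H69ZarCover

/-!
# helper69: immersions of algebraic spaces are fppf local on the base
-/

set_option autoImplicit false
set_option linter.style.haveILetI false
universe u
open CategoryTheory CategoryTheory.Limits AlgebraicGeometry Opposite

namespace Groth.Agent.Lib.H69Immersion

open AlgSp Groth.Agent.Lib.H69ZarCover

variable {S : Scheme.{u}}

/-- If `p` is the base change of `f` along `g` and `t` factors through `g`, the base change of `f` along `t` is a base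
change of `p`. -/
theorem repWith_snd_of_factor (Q : MorphismProperty Scheme.{u}) [Q.IsStableUnderBaseChange]
    {X Y Xi Yi : Sp S} {f : X ⟶ Y} {g : Yi ⟶ Y} {p : Xi ⟶ Yi} {q : Xi ⟶ X}
    (sq : IsPullback q p f g) (hp : RepWith Q p) {T P : Sp S} (t : T ⟶ Y) (l : T ⟶ Yi) (hl : l ≫ g = t)
    {fst : P ⟶ X} {snd : P ⟶ T} (sqP : IsPullback fst snd f t) : RepWith Q snd := by
  subst hl
  have e : fst ≫ f = (snd ≫ l) ≫ g := by rw [sqP.w, Category.assoc]
  have left : IsPullback (sq.lift fst (snd ≫ l) e) snd p l := by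
    apply IsPullback.of_right (h₁₂ := q) (v₁₃ := f) (h₂₂ := g) ?_ (sq.lift_snd _ _ _) sq
    rw [sq.lift_fst]
    exact sqP
  exact (RepWith (S := S) Q).of_isPullback left hp

/-- Immersions descend along fppf coverings of algebraic spaces. -/
theorem repWith_isImmersion_of_isFppfCover {ι : Type u} {X Y : Sp S} (hY : IsAlgSpace Y)
    {Yi : ι → Sp S} (hYi : ∀ i, IsAlgSpace (Yi i)) {f : X ⟶ Y} {g : ∀ i, Yi i ⟶ Y}
    (hcov : IsFppfCover Yi g) {Xi : ι → Sp S} {p : ∀ i, Xi i ⟶ Yi i} {q : ∀ i, Xi i ⟶ X}
    (sq : ∀ i, IsPullback (q i) (p i) f (g i)) (h : ∀ i, RepWith @IsImmersion (p i)) :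
    RepWith @IsImmersion f := by
  obtain ⟨V, pV, hpe, hps⟩ := hY.atlas
  obtain ⟨U, c, l, hcfl, hcfp, hcs, hl⟩ :=
    Groth.Agent.Lib.AlgSpFpqc.exists_flat_lfp_charts_lift hY hYi (fun i => (hcov.1 i).1)
      (fun i => (hcov.1 i).2) hcov.2 V pV
  -- the coproduct of the charts
  let UU : Over S := Over.mk (Sigma.desc (fun i => (U i).hom))
  let cc : UU ⟶ V := Over.homMk (Sigma.desc (fun i => (c i).left)) (by
    apply Sigma.hom_ext
    intro i
    change Sigma.ι _ i ≫ Sigma.desc (fun i => (c i).left) ≫ V.hom = Sigma.ι _ i ≫ Sigma.desc (fun i => (U i).hom)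
    rw [Sigma.ι_desc, Sigma.ι_desc_assoc, Over.w])
  have hccfl : Flat cc.left := IsZariskiLocalAtSource.sigmaDesc (P := @Flat) hcfl
  have hccfp : LocallyOfFinitePresentation cc.left :=
    IsZariskiLocalAtSource.sigmaDesc (P := @LocallyOfFinitePresentation) hcfp
  have hccs : Surjective cc.left := by
    constructor
    intro z
    obtain ⟨i, y, hy⟩ := hcs z
    refine ⟨Sigma.ι (fun i => (U i).left) i y, ?_⟩
    change (Sigma.desc (fun i => (c i).left)) (Sigma.ι (fun i => (U i).left) i y) = z
    rw [← Scheme.Hom.comp_apply, Sigma.ι_desc]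
    exact hy
  have sqV := IsPullback.of_hasPullback f pV
  have sq2 := IsPullback.of_hasPullback (pullback.snd f pV) ((yon S).map cc)
  -- the base change to the coproduct is an immersion
  have hU : RepWith @IsImmersion (pullback.snd (pullback.snd f pV) ((yon S).map cc)) := by
    refine repWith_of_openCover @IsImmersion _ (sigmaOpenCover fun i => (U i).left) ?_
    intro i
    have sq1 := IsPullback.of_hasPullback (pullback.snd (pullback.snd f pV) ((yon S).map cc))
      ((yon S).map (coverMap UU (sigmaOpenCover fun i => (U i).left) i))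
    have big := (sq1.paste_horiz sq2).paste_horiz sqV
    let e : coverObj UU (sigmaOpenCover fun i => (U i).left) i ⟶ U i := Over.homMk (𝟙 _) (by
      change 𝟙 _ ≫ (U i).hom = Sigma.ι _ i ≫ Sigma.desc (fun i => (U i).hom)
      rw [Sigma.ι_desc, Category.id_comp])
    have he : coverMap UU (sigmaOpenCover fun i => (U i).left) i ≫ cc = e ≫ c i := by
      ext
      change Sigma.ι _ i ≫ Sigma.desc (fun i => (c i).left) = 𝟙 _ ≫ (c i).left
      rw [Sigma.ι_desc, Category.id_comp]
    refine repWith_snd_of_factor @IsImmersion (sq i) (h i) _ ((yon S).map e ≫ l i) ?_ big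
    rw [Category.assoc, hl i, ← Category.assoc, ← Functor.map_comp, ← he, Functor.map_comp, Category.assoc]
  have hV : RepWith @IsImmersion (pullback.snd f pV) :=
    repWith_isImmersion_of_fppf_cover (pullback.snd f pV) ((yon S).map cc)
      ((repWith_yon_map_iff @Flat cc).2 hccfl)
      ((repWith_yon_map_iff @LocallyOfFinitePresentation cc).2 hccfp)
      ((repWith_yon_map_iff @Surjective cc).2 hccs) (pullback.fst _ _) (pullback.snd _ _) sq2 hU
  exact repWith_isImmersion_of_etale_cover f pV hpe hps (pullback.fst f pV) (pullback.snd f pV) sqV hV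

theorem isLocalOnBase_fppf_isImmersion :
    IsLocalOnBase (IsFppfCover (S := S)) (RepWith @IsImmersion) := by
  intro ι Y Yi g hY hYi hcov X f hX Xi p q hXi sq
  exact ⟨fun h i => (RepWith (S := S) @IsImmersion).of_isPullback (sq i) h,
    fun h => repWith_isImmersion_of_isFppfCover hY hYi hcov sq h⟩

end Groth.Agent.Lib.H69Immersion
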