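import Groth.Agent.Lib.H69SchImageQC
import Groth.Agent.Lib.AlgSpQC
import Groth.Agent.Lib.AlgSpPts66
import Groth.Agent.Lib.H86Coprod

/-!
# helper69: disjoint unions of schemes over `S` and quasi-compact covering charts

* `sigO B`, `sigι`, `sigDesc`, `sigMap`: disjoint unions in `Over S` and gluing of maps to sheaves.
* `exists_nice_chart`: for a quasi-compact `g : G ⟶ Y` to an algebraic space, there are an atlas `p : h_V ⟶ Y`
  and a covering chart `(xA, a) : h_A ⟶ G ×_Y h_V` with `a : A ⟶ V` quasi-compact.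
-/

set_option autoImplicit false
universe u

open CategoryTheory CategoryTheory.Limits AlgebraicGeometry Opposite

namespace Groth.Agent.Lib.H69NiceChart

open AlgSp Groth.Agent.Lib.H69AlgSp Groth.Agent.Lib.H69QuotOpen Groth.Agent.Lib.H69SchImage
  Groth.Agent.Lib.H69SchImageQC

variable {S : Scheme.{u}}

section Sigma

variable {σ : Type u} (B : σ → Over S)

/-- The disjoint union of a family of schemes over `S`. -/
noncomputable def sigO : Over S := Over.mk (Limits.Sigma.desc fun i => (B i).hom : (∐ fun i => (B i).left) ⟶ S)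

noncomputable def sigι (i : σ) : B i ⟶ sigO B :=
  Over.homMk (Sigma.ι (fun i => (B i).left) i) (by
    change Sigma.ι (fun i => (B i).left) i ≫ Limits.Sigma.desc (fun i => (B i).hom) = (B i).hom
    exact Sigma.ι_desc _ _)

instance (i : σ) : IsOpenImmersion (sigι B i).left :=
  (inferInstance : IsOpenImmersion (Sigma.ι (fun i => (B i).left) i))

theorem sigι_surj (t : ↥(sigO B).left) : ∃ i, t ∈ Set.range (sigι B i).left := by
  obtain ⟨i, y, hy⟩ := (sigmaOpenCover (fun i => (B i).left)).exists_eq t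
  exact ⟨i, y, hy⟩

instance (i : σ) : Mono (sigι B i) := by
  have : Mono (sigι B i).left := (inferInstance : Mono (Sigma.ι (fun i => (B i).left) i))
  exact mono_over_of_mono_left _

/-- Compatibility of a family of points on overlaps is automatic for a disjoint union. -/
theorem sig_compat {F : Sp S} (x : ∀ i, (yon S).obj (B i) ⟶ F) (i k : σ) (Z : Over S) (a : Z ⟶ B i)
    (b : Z ⟶ B k) (h : a ≫ sigι B i = b ≫ sigι B k) : (yon S).map a ≫ x i = (yon S).map b ≫ x k := by
  by_cases hik : i = k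
  · subst hik
    rw [(cancel_mono (sigι B i)).1 h]
  · have hZ : IsEmpty ↥Z.left := by
      refine isEmpty_of_commSq_sigmaι_of_ne (g := fun i => (B i).left) (a := a.left) (b := b.left)
        ⟨?_⟩ hik
      have := congrArg (fun m => m.left) h
      exact this
    exact Groth.Agent.Lib.H86Coprod.hom_ext_of_isEmpty _ _

/-- Gluing a family of points of a sheaf over a disjoint union. -/
noncomputable def sigDesc {F : Sp S} (x : ∀ i, (yon S).obj (B i) ⟶ F) : (yon S).obj (sigO B) ⟶ F :=
  (Groth.Agent.Lib.H86Coprod.existsUnique_glue B (sigι B) (fun _ => inferInstance) (sigι_surj B) F x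
    (sig_compat B x)).exists.choose

theorem sigι_desc {F : Sp S} (x : ∀ i, (yon S).obj (B i) ⟶ F) (i : σ) :
    (yon S).map (sigι B i) ≫ sigDesc B x = x i :=
  (Groth.Agent.Lib.H86Coprod.existsUnique_glue B (sigι B) (fun _ => inferInstance) (sigι_surj B) F x
    (sig_compat B x)).exists.choose_spec i

theorem sig_hom_ext {F : Sp S} (e e' : (yon S).obj (sigO B) ⟶ F)
    (h : ∀ i, (yon S).map (sigι B i) ≫ e = (yon S).map (sigι B i) ≫ e') : e = e' := by
  have hu := Groth.Agent.Lib.H86Coprod.existsUnique_glue B (sigι B) (fun _ => inferInstance) (sigι_surj B) F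
    (fun i => (yon S).map (sigι B i) ≫ e') (sig_compat B _)
  exact hu.unique h (fun _ => rfl)

/-- The covering sieve of a disjoint union. -/
theorem sig_mem_J : Sieve.generate (Presieve.ofArrows B (sigι B)) ∈ J S (sigO B) :=
  Groth.Agent.Lib.H86ZarGlue.generate_ofArrows_mem_J B (sigι B) (fun _ => inferInstance) (sigι_surj B)

variable {B} {C : σ → Over S}

/-- Disjoint union of morphisms. -/
noncomputable def sigMap (m : ∀ i, B i ⟶ C i) : sigO B ⟶ sigO C :=
  Over.homMk (Limits.Sigma.map fun i => (m i).left) (by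
    change Limits.Sigma.map (fun i => (m i).left) ≫ Limits.Sigma.desc (fun i => (C i).hom) = Limits.Sigma.desc fun i => (B i).hom
    ext i
    rw [Sigma.ι_desc, Sigma.ι_map_assoc, Sigma.ι_desc, Over.w])

theorem sigι_map (m : ∀ i, B i ⟶ C i) (i : σ) : sigι B i ≫ sigMap m = m i ≫ sigι C i := by
  ext
  exact Limits.Sigma.ι_map (f := fun i => (B i).left) (g := fun i => (C i).left) (fun i => (m i).left) i

theorem quasiCompact_sigMap (m : ∀ i, B i ⟶ C i) (hB : ∀ i, CompactSpace ↥(B i).left)
    (hC : ∀ i, IsAffine (C i).left) : QuasiCompact (sigMap m).left := by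
  let f : (∐ fun i => (B i).left) ⟶ ∐ fun i => (C i).left := Limits.Sigma.map fun i => (m i).left
  change QuasiCompact f
  let Uo : σ → (∐ fun i => (C i).left).affineOpens := fun i =>
    ⟨(Sigma.ι (fun i => (C i).left) i).opensRange, isAffineOpen_opensRange _⟩
  have hU : ⨆ i, (Uo i : (∐ fun i => (C i).left).Opens) = ⊤ := by
    rw [eq_top_iff]
    intro t _
    obtain ⟨i, y, hy⟩ := (sigmaOpenCover (fun i => (C i).left)).exists_eq t
    exact TopologicalSpace.Opens.mem_iSup.2 ⟨i, y, hy⟩
  rw [HasAffineProperty.iff_of_iSup_eq_top (P := @QuasiCompact) Uo hU]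
  intro i
  change CompactSpace ↥(f ⁻¹ᵁ (Uo i).1)
  have hpre : f ⁻¹ᵁ (Uo i).1 = (Sigma.ι (fun i => (B i).left) i).opensRange := by
    ext x
    constructor
    · rintro ⟨z, hz⟩
      obtain ⟨j, y, rfl⟩ := (sigmaOpenCover (fun i => (B i).left)).exists_eq x
      change Sigma.ι (fun i => (C i).left) i z = f (Sigma.ι (fun i => (B i).left) j y) at hz
      rw [← Scheme.Hom.comp_apply, Sigma.ι_map, Scheme.Hom.comp_apply] at hz
      obtain ⟨rfl⟩ : i = j := by
        have := (sigmaι_eq_iff _ _ _ _ _).1 hz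
        exact congrArg Sigma.fst this
      exact ⟨y, rfl⟩
    · rintro ⟨y, rfl⟩
      refine ⟨(m i).left y, ?_⟩
      change Sigma.ι (fun i => (C i).left) i ((m i).left y) = f (Sigma.ι (fun i => (B i).left) i y)
      rw [← Scheme.Hom.comp_apply, ← Scheme.Hom.comp_apply, Sigma.ι_map]
  rw [hpre]
  have : CompactSpace ↥(B i).left := hB i
  exact isCompact_iff_compactSpace.1 (isCompact_range (Sigma.ι (fun i => (B i).left) i).continuous)

end Sigma

/-- For a quasi-compact `g : G ⟶ Y` to an algebraic space there are an atlas `p : h_V ⟶ Y` and a covering chart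
`h_A ⟶ G ×_Y h_V` with `A ⟶ V` quasi-compact. -/
theorem exists_nice_chart {G Y : Sp S} (hY : IsAlgSpace Y) (g : G ⟶ Y) (hq : IsQuasiCompactMor g) :
    ∃ (V : Over S) (p : (yon S).obj V ⟶ Y) (A : Over S) (xA : (yon S).obj A ⟶ G) (a : A ⟶ V),
      RepWith @Etale p ∧ RepWith @Surjective p ∧ ChartCover g p xA a ∧ QuasiCompact a.left := by
  obtain ⟨V₀, p₀, hp₀e, hp₀s⟩ := hY.atlas
  let Vi : V₀.left.affineOpens → Over S := fun W => Over.mk (W.1.ι ≫ V₀.hom)
  let ji : ∀ W : V₀.left.affineOpens, Vi W ⟶ V₀ := fun W => Over.homMk W.1.ι rfl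
  let pi : ∀ W : V₀.left.affineOpens, (yon S).obj (Vi W) ⟶ Y := fun W => (yon S).map (ji W) ≫ p₀
  have hVi : ∀ W, IsAffine (Vi W).left := fun W => W.2
  have hP : ∀ W : V₀.left.affineOpens, IsQuasiCompactSp (pullback g (pi W)) := fun W =>
    hq (IsAlgSpace.yon_obj (Vi W)) ((Groth.Agent.Lib.AlgSpQC.isQuasiCompactSp_yon_iff (Vi W)).2
      (by have := hVi W; infer_instance)) (pi W)
      (pullback.fst _ _) (pullback.snd _ _) (IsPullback.of_hasPullback g (pi W))
  choose Ai ci hcie hcis hAic using hP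
  let ai : ∀ W, Ai W ⟶ Vi W := fun W => (yon S).preimage (ci W ≫ pullback.snd _ _)
  have hai : ∀ W, (yon S).map (ai W) = ci W ≫ pullback.snd _ _ := fun W => (yon S).map_preimage _
  let jo : sigO Vi ⟶ V₀ := Over.homMk (Limits.Sigma.desc fun W : V₀.left.affineOpens => W.1.ι) (by
    change Limits.Sigma.desc (fun W : V₀.left.affineOpens => W.1.ι) ≫ V₀.hom =
      Limits.Sigma.desc fun W => (Vi W).hom
    ext W
    rw [Sigma.ι_desc_assoc, Sigma.ι_desc]
    rfl)
  have hjo : ∀ W, sigι Vi W ≫ jo = ji W := by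
    intro W
    ext
    exact Sigma.ι_desc _ _
  have hjoe : Etale jo.left :=
    IsZariskiLocalAtSource.sigmaDesc (fun W : V₀.left.affineOpens => (inferInstance : Etale W.1.ι))
  have hjos : Surjective jo.left := by
    refine ⟨fun v => ?_⟩
    obtain ⟨_, ⟨W, hW, rfl⟩, hvW, -⟩ := (V₀.left.isBasis_affineOpens).exists_subset_of_mem_open
      (Set.mem_univ v) isOpen_univ
    refine ⟨Sigma.ι (fun W : V₀.left.affineOpens => (Vi W).left) ⟨W, hW⟩ ⟨v, hvW⟩, ?_⟩
    change (Sigma.ι (fun W : V₀.left.affineOpens => (Vi W).left) ⟨W, hW⟩ ≫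
      Limits.Sigma.desc fun W : V₀.left.affineOpens => W.1.ι) ⟨v, hvW⟩ = v
    rw [Sigma.ι_desc]
    rfl
  let p : (yon S).obj (sigO Vi) ⟶ Y := (yon S).map jo ≫ p₀
  have hpe : RepWith @Etale p :=
    MorphismProperty.comp_mem _ _ _ ((repWith_yon_map_iff _ _).2 hjoe) hp₀e
  have hps : RepWith @Surjective p :=
    MorphismProperty.comp_mem _ _ _ ((repWith_yon_map_iff _ _).2 hjos) hp₀s
  have hpi : ∀ W, (yon S).map (sigι Vi W) ≫ p = pi W := by
    intro W
    change (yon S).map (sigι Vi W) ≫ (yon S).map jo ≫ p₀ = (yon S).map (ji W) ≫ p₀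
    rw [← Category.assoc, ← Functor.map_comp, hjo]
  let xA : (yon S).obj (sigO Ai) ⟶ G := sigDesc Ai fun W => ci W ≫ pullback.fst _ _
  have hxA : ∀ W, (yon S).map (sigι Ai W) ≫ xA = ci W ≫ pullback.fst _ _ := fun W => sigι_desc Ai _ W
  refine ⟨sigO Vi, p, sigO Ai, xA, sigMap ai, hpe, hps, ⟨?_, ?_⟩, quasiCompact_sigMap ai hAic hVi⟩
  · apply sig_hom_ext
    intro W
    rw [← Category.assoc, hxA, Category.assoc, pullback.condition, ← Category.assoc, ← hai, ← hpi,
      ← Category.assoc, ← Functor.map_comp, ← sigι_map, Functor.map_comp, Category.assoc]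
  · intro T x v hxv
    have hR₀ : (Sieve.generate (Presieve.ofArrows Vi (sigι Vi))).pullback v ∈ J S T :=
      (J S).pullback_stable v (sig_mem_J Vi)
    refine (J S).transitive hR₀ _ ?_
    rintro T₁ φ ⟨T', ψ, _, ⟨W⟩, hψ⟩
    have hcond : ((yon S).map φ ≫ x) ≫ g = (yon S).map ψ ≫ pi W := by
      rw [Category.assoc, hxv, ← Category.assoc, ← Functor.map_comp, ← hψ, Functor.map_comp, Category.assoc,
        hpi]
    let z : (yon S).obj T₁ ⟶ pullback g (pi W) := pullback.lift ((yon S).map φ ≫ x) ((yon S).map ψ) hcond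
    have hloc : Sheaf.IsLocallySurjective (ci W) :=
      isLocallySurjective_of_etale_surjective (ci W) (hcie W) (hcis W)
    obtain ⟨R₁, hR₁, hlift⟩ := Groth.Agent.Lib.H69InvSub.exists_sieve_lift (ci W) z
    refine (J S).superset_covering ?_ hR₁
    intro T₂ χ hχ
    obtain ⟨y, hy⟩ := hlift χ hχ
    obtain ⟨l₀, rfl⟩ := (yon S).map_surjective y
    have h1 : l₀ ≫ ai W = χ ≫ ψ := by
      apply (yon S).map_injective
      rw [Functor.map_comp, hai, ← Category.assoc, hy, Category.assoc, pullback.lift_snd,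
        Functor.map_comp]
    refine ⟨l₀ ≫ sigι Ai W, ?_, ?_⟩
    · rw [Functor.map_comp, Category.assoc, hxA, ← Category.assoc, hy, Category.assoc, pullback.lift_fst,
        Functor.map_comp, Category.assoc]
    · rw [Category.assoc, sigι_map, ← Category.assoc, h1, Category.assoc, hψ, Category.assoc]

end Groth.Agent.Lib.H69NiceChart
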