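import Groth.Agent.Lib.H69SubGrpd

/-!
# The pair groupoid `U ×_S U ⇉ U` and `j` as a morphism of groupoid schemes (helper69)

* `pairGrpd pU : GroupoidScheme S` with `R = pullback pU pU`, `t = fst`, `s = snd` (so `j = 𝟙`).
* `jHom G : Hom G (pairGrpd G.pU)` with `fU = 𝟙`, `fR = G.j`.
-/

set_option autoImplicit false
universe u
open CategoryTheory CategoryTheory.Limits AlgebraicGeometry
open Grpd

namespace Groth.Agent.Lib.H69PairGrpd

variable {S : Scheme.{u}} {U : Scheme.{u}} (pU : U ⟶ S)

/-- composition of the pair groupoid -/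
noncomputable def pairC :
    pullback (pullback.snd pU pU) (pullback.fst pU pU) ⟶ pullback pU pU :=
  pullback.lift (pullback.fst _ _ ≫ pullback.fst pU pU) (pullback.snd _ _ ≫ pullback.snd pU pU)
    (by
      rw [Category.assoc, pullback.condition, ← Category.assoc, pullback.condition,
        Category.assoc, pullback.condition, Category.assoc])

lemma pairC_fst : pairC pU ≫ pullback.fst pU pU = pullback.fst _ _ ≫ pullback.fst pU pU :=
  pullback.lift_fst _ _ _

lemma pairC_snd : pairC pU ≫ pullback.snd pU pU = pullback.snd _ _ ≫ pullback.snd pU pU :=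
  pullback.lift_snd _ _ _

lemma lift_pairC_fst {T : Scheme.{u}} (α β : T ⟶ pullback pU pU)
    (h : α ≫ pullback.snd pU pU = β ≫ pullback.fst pU pU) :
    (pullback.lift α β h ≫ pairC pU) ≫ pullback.fst pU pU = α ≫ pullback.fst pU pU := by
  rw [Category.assoc, pairC_fst, ← Category.assoc, pullback.lift_fst]

lemma lift_pairC_snd {T : Scheme.{u}} (α β : T ⟶ pullback pU pU)
    (h : α ≫ pullback.snd pU pU = β ≫ pullback.fst pU pU) :
    (pullback.lift α β h ≫ pairC pU) ≫ pullback.snd pU pU = β ≫ pullback.snd pU pU := by
  rw [Category.assoc, pairC_snd, ← Category.assoc, pullback.lift_snd]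

/-- The pair groupoid on `U` over `S`. -/
noncomputable def pairGrpd : GroupoidScheme S where
  U := U
  R := pullback pU pU
  pU := pU
  pR := pullback.fst pU pU ≫ pU
  s := pullback.snd pU pU
  t := pullback.fst pU pU
  e := pullback.lift (𝟙 U) (𝟙 U) rfl
  i := pullback.lift (pullback.snd pU pU) (pullback.fst pU pU) pullback.condition.symm
  c := pairC pU
  s_over := pullback.condition.symm
  t_over := rfl
  comp_s := fun α β h => lift_pairC_snd pU α β h
  comp_t := fun α β h => lift_pairC_fst pU α β h
  assoc := fun α β γ h₁ h₂ => by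
    apply pullback.hom_ext
    · rw [lift_pairC_fst, lift_pairC_fst, lift_pairC_fst]
    · rw [lift_pairC_snd, lift_pairC_snd, lift_pairC_snd]
  e_s := pullback.lift_snd _ _ _
  e_t := pullback.lift_fst _ _ _
  comp_e := fun α => by
    apply pullback.hom_ext
    · rw [lift_pairC_fst]
    · rw [lift_pairC_snd, Category.assoc, Category.assoc, pullback.lift_snd, Category.comp_id]
  e_comp := fun α => by
    apply pullback.hom_ext
    · rw [lift_pairC_fst, Category.assoc, Category.assoc, pullback.lift_fst, Category.comp_id]
    · rw [lift_pairC_snd]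
  i_s := pullback.lift_snd _ _ _
  i_t := pullback.lift_fst _ _ _
  comp_i := fun α => by
    apply pullback.hom_ext
    · rw [lift_pairC_fst, Category.assoc, Category.assoc, pullback.lift_fst, Category.comp_id]
    · rw [lift_pairC_snd, Category.assoc, pullback.lift_snd, Category.assoc, Category.assoc,
        pullback.lift_snd, Category.comp_id]
  i_comp := fun α => by
    apply pullback.hom_ext
    · rw [lift_pairC_fst, Category.assoc, pullback.lift_fst, Category.assoc, Category.assoc,
        pullback.lift_fst, Category.comp_id]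
    · rw [lift_pairC_snd, Category.assoc, Category.assoc, pullback.lift_snd, Category.comp_id]

lemma pairGrpd_j : (pairGrpd pU).j = 𝟙 (pullback pU pU) := by
  show pullback.lift (pullback.fst pU pU) (pullback.snd pU pU) _ = 𝟙 (pullback pU pU)
  apply pullback.hom_ext
  · rw [pullback.lift_fst, Category.id_comp]
  · rw [pullback.lift_snd, Category.id_comp]

variable (G : GroupoidScheme S)

lemma j_fst : G.j ≫ pullback.fst G.pU G.pU = G.t := pullback.lift_fst _ _ _
lemma j_snd : G.j ≫ pullback.snd G.pU G.pU = G.s := pullback.lift_snd _ _ _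

/-- `j` as a morphism to the pair groupoid. -/
noncomputable def jHom : GroupoidScheme.Hom G (pairGrpd G.pU) where
  fU := 𝟙 _
  fR := G.j
  fU_over := Category.id_comp _
  comm_s := (j_snd G).trans (Category.comp_id _).symm
  comm_t := (j_fst G).trans (Category.comp_id _).symm
  comm_c := fun α β h => by
    have e1 : (pullback.lift α β h ≫ G.c) ≫ G.j ≫ pullback.fst G.pU G.pU =
        α ≫ G.j ≫ pullback.fst G.pU G.pU := by rw [j_fst, G.comp_t]
    have e2 : (pullback.lift α β h ≫ G.c) ≫ G.j ≫ pullback.snd G.pU G.pU =
        β ≫ G.j ≫ pullback.snd G.pU G.pU := by rw [j_snd, G.comp_s]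
    apply pullback.hom_ext
    · refine Eq.trans ?_ (lift_pairC_fst G.pU (α ≫ G.j) (β ≫ G.j) _).symm
      exact ((Category.assoc _ _ _).trans e1).trans (Category.assoc _ _ _).symm
    · refine Eq.trans ?_ (lift_pairC_snd G.pU (α ≫ G.j) (β ≫ G.j) _).symm
      exact ((Category.assoc _ _ _).trans e2).trans (Category.assoc _ _ _).symm


section imageHom

open Groth.Agent.Lib.H69SubGrpd

variable {G₁ G₂ : GroupoidScheme S} (f : GroupoidScheme.Hom G₁ G₂)
  [IsIso f.fU] [QuasiCompact f.fR] [Subsingleton G₂.U] [IsIntegral G₂.U]

/-- The corestriction of `f` to the image groupoid. -/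
noncomputable def imageHom : GroupoidScheme.Hom G₁ (imageData f).groupoid where
  fU := f.fU
  fR := f.fR.toImage
  fU_over := f.fU_over
  comm_s := by
    have h : f.fR.toImage ≫ f.fR.imageι ≫ G₂.s = G₁.s ≫ f.fU := by
      rw [← Category.assoc, f.fR.toImage_imageι, f.comm_s]
    exact h
  comm_t := by
    have h : f.fR.toImage ≫ f.fR.imageι ≫ G₂.t = G₁.t ≫ f.fU := by
      rw [← Category.assoc, f.fR.toImage_imageι, f.comm_t]
    exact h
  comm_c := fun α β h => by
    have hfac : f.fR.toImage ≫ f.fR.imageι = f.fR := f.fR.toImage_imageι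
    refine (cancel_mono f.fR.imageι).1 ?_
    refine Eq.trans ?_ ((imageData f).key (α ≫ f.fR.toImage) (β ≫ f.fR.toImage) _).symm
    refine (Category.assoc _ _ _).trans ?_
    refine (congrArg (fun z => (pullback.lift α β h ≫ G₁.c) ≫ z) hfac).trans ?_
    refine (f.comm_c α β h).trans ?_
    refine lift_c_congr ?_ ?_ _
    · rw [Category.assoc, hfac]
    · rw [Category.assoc, hfac]

end imageHom

/-- Over a field, the scheme theoretic image of `j` carries a groupoid structure. -/
theorem exists_groupoid_image_j (G : GroupoidScheme S) (k : Type u) [Field k]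
    (eU : G.U ≅ Spec (CommRingCat.of k)) [CompactSpace G.R] :
    ∃ (G' : GroupoidScheme S) (φ : GroupoidScheme.Hom G G'), IsIso φ.fU ∧
      IsClosedImmersion G'.j ∧
      G'.j.ker = (G.j ≫ pullback.map G.pU G.pU G'.pU G'.pU φ.fU φ.fU (𝟙 S)
        ((Category.comp_id _).trans φ.fU_over.symm)
        ((Category.comp_id _).trans φ.fU_over.symm)).ker := by
  have hsub : Subsingleton G.U := eU.hom.homeomorph.subsingleton
  have hne : Nonempty G.U := ⟨eU.inv (IsLocalRing.closedPoint k)⟩
  have hint : IsIntegral G.U := isIntegral_of_isOpenImmersion eU.hom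
  have haff : IsAffine G.U := IsAffine.of_isIso eU.hom
  have hqs : QuasiSeparatedSpace (pullback G.pU G.pU : Scheme.{u}) :=
    quasiSeparatedSpace_of_quasiSeparated (pullback.fst G.pU G.pU)
  have hqc : QuasiCompact G.j := inferInstance
  have hiso : IsIso (jHom G).fU := by change IsIso (𝟙 _); infer_instance
  have hqc' : QuasiCompact (jHom G).fR := hqc
  have hsub' : Subsingleton (pairGrpd G.pU).U := hsub
  have hint' : IsIntegral (pairGrpd G.pU).U := hint
  refine ⟨(H69SubGrpd.imageData (jHom G)).groupoid, imageHom (jHom G), hiso, ?_, ?_⟩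
  · have hj : (H69SubGrpd.imageData (jHom G)).groupoid.j = G.j.imageι := by
      apply pullback.hom_ext
      · exact pullback.lift_fst _ _ _
      · exact pullback.lift_snd _ _ _
    have hcl : IsClosedImmersion G.j.imageι := inferInstance
    rw [hj]; exact hcl
  · have hj : (H69SubGrpd.imageData (jHom G)).groupoid.j = G.j.imageι := by
      apply pullback.hom_ext
      · exact pullback.lift_fst _ _ _
      · exact pullback.lift_snd _ _ _
    have hm : pullback.map G.pU G.pU (H69SubGrpd.imageData (jHom G)).groupoid.pU
        (H69SubGrpd.imageData (jHom G)).groupoid.pU (imageHom (jHom G)).fU (imageHom (jHom G)).fU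
        (𝟙 S) ((Category.comp_id _).trans (imageHom (jHom G)).fU_over.symm)
        ((Category.comp_id _).trans (imageHom (jHom G)).fU_over.symm) = 𝟙 (pullback G.pU G.pU) := by
      apply pullback.hom_ext
      · exact (pullback.lift_fst _ _ _).trans
          ((Category.comp_id _).trans (Category.id_comp _).symm)
      · exact (pullback.lift_snd _ _ _).trans
          ((Category.comp_id _).trans (Category.id_comp _).symm)
    rw [hj, hm]
    exact (Scheme.IdealSheafData.ker_subschemeι _).trans
      (congrArg Scheme.Hom.ker (Category.comp_id G.j).symm)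

end Groth.Agent.Lib.H69PairGrpd
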