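import Groth.Prelude.Def_AlgSp4
import Groth.Agent.Lib.SheafEpi

/-!
# helper78: points of fppf sheaves and pullbacks (namespace `Groth.Agent.Lib.H78AlgSpPoints`)

* `exists_of_isPullback`: for a pullback square of fppf sheaves, the map from the points of the corner to the
  fibre product of the sets of points is surjective.
* `isSurjectiveMor_of_isPullback`: `AlgSp.IsSurjectiveMor` is stable under base change (for all sheaves).
-/

set_option autoImplicit false
universe u
open CategoryTheory CategoryTheory.Limits AlgebraicGeometry Opposite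
open AlgSp

namespace Groth.Agent.Lib.H78AlgSpPoints

variable {S : Scheme.{u}}

/-- For a pullback square of fppf sheaves, points of `F` and `Z` with the same image in `G` come from a point of the
corner. -/
theorem exists_of_isPullback {F G Z Z' : Sp S} {f : F ⟶ G} {g : Z ⟶ G} {fst : Z' ⟶ F} {snd : Z' ⟶ Z}
    (sq : IsPullback fst snd f g) (x : Points F) (z : Points Z)
    (h : Points.map f x = Points.map g z) :
    ∃ w : Points Z', Points.map fst w = x ∧ Points.map snd w = z := by
  induction x using Points.ind with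
  | h p =>
  induction z using Points.ind with
  | h r =>
  rw [Points.map_mk, Points.map_mk, Points.mk_eq_mk_iff] at h
  obtain ⟨Ω, _, w, a, b, hab⟩ := h
  -- the two sections over Ω
  have hn1 : f.hom.app _ (F.obj.map a.op p.val) = G.obj.map a.op (f.hom.app _ p.val) :=
    ConcreteCategory.congr_hom (f.hom.naturality a.op) p.val
  have hn2 : g.hom.app _ (Z.obj.map b.op r.val) = G.obj.map b.op (g.hom.app _ r.val) :=
    ConcreteCategory.congr_hom (g.hom.naturality b.op) r.val
  obtain ⟨t, ht1, ht2⟩ := Groth.Agent.Lib.SheafEpi.exists_of_isPullback _ sq (op (Over.mk w))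
    (F.obj.map a.op p.val) (Z.obj.map b.op r.val) (by
      rw [hn1, hn2]; exact hab)
  refine ⟨Points.mk ⟨Ω, w, t⟩, ?_, ?_⟩
  · rw [Points.map_mk]
    refine Points.sound ⟨Ω, inferInstance, w, 𝟙 _, a, ?_⟩
    change F.obj.map (𝟙 _).op (fst.hom.app _ t) = F.obj.map a.op p.val
    rw [ht1]
    simp
  · rw [Points.map_mk]
    refine Points.sound ⟨Ω, inferInstance, w, 𝟙 _, b, ?_⟩
    change Z.obj.map (𝟙 _).op (snd.hom.app _ t) = Z.obj.map b.op r.val
    rw [ht2]
    simp

/-- Surjectivity on points is stable under base change, for arbitrary fppf sheaves. -/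
theorem isSurjectiveMor_of_isPullback {F G Z Z' : Sp S} {f : F ⟶ G} {g : Z ⟶ G} {fst : Z' ⟶ F}
    {snd : Z' ⟶ Z} (sq : IsPullback fst snd f g) (hf : IsSurjectiveMor f) : IsSurjectiveMor snd := by
  intro z
  obtain ⟨x, hx⟩ := hf (Points.map g z)
  obtain ⟨w, -, hw⟩ := exists_of_isPullback sq x z hx
  exact ⟨w, hw⟩

end Groth.Agent.Lib.H78AlgSpPoints
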