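import Groth.Agent.Lib.H86Limits3
import Groth.Agent.Lib.H69AlgSpReduced
import Groth.Agent.Lib.H78AlgSpPoints

/-!
# helper86: reducedness and cofiltered limits

* `isReduced_of_repWith_etale`: a scheme étale over a reduced sheaf is reduced.
* `isReduced_of_isLimit_of_isAffine`: a cofiltered limit of reduced affine schemes is reduced.
* `isReducedSp_of_isLimit`: a cofiltered limit of reduced sheaves with affine transition maps is reduced.
-/

set_option autoImplicit false
set_option linter.style.haveILetI false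
universe w w' u
open CategoryTheory CategoryTheory.Limits AlgebraicGeometry Opposite

namespace Groth.Agent.Lib.H86Limits
open AlgSp

variable {S : Scheme.{u}}

/-- A scheme étale over a reduced sheaf is reduced. -/
theorem isReduced_of_repWith_etale {F : Sp S} (hF : IsReducedSp F) {W : Over S}
    (a : (yon S).obj W ⟶ F) (ha : RepWith @Etale a) : IsReduced W.left := by
  obtain ⟨V, b, hbe, hbs, hV⟩ := hF
  obtain ⟨T, s, t, hse, hss, sq⟩ := H69AlgSpReduced.exists_chart (𝟙 F) a b hbe hbs
  rw [Category.comp_id] at sq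
  have hte : Etale t.left := ha.2 b _ _ sq.flip
  haveI : IsReduced V.left := hV
  haveI : IsReduced T.left := H69SchReduced.isReduced_of_smooth t.left
  haveI : Etale s.left := hse
  haveI : Surjective s.left := hss
  exact H69SchReduced.isReduced_of_flat_of_surjective s.left

/-- A cofiltered limit of reduced affine schemes is reduced. -/
theorem isReduced_of_isLimit_of_isAffine {J : Type u} [Category.{u} J] [IsCofiltered J]
    (D : J ⥤ Scheme.{u}) [∀ j, IsAffine (D.obj j)] (hred : ∀ j, IsReduced (D.obj j))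
    (c : Cone D) (hc : IsLimit c) : IsReduced c.pt := by
  haveI : IsAffine c.pt := Scheme.isAffine_of_isLimit c hc
  haveI : _root_.IsReduced Γ(c.pt, ⊤) := by
    refine ⟨fun s hs => ?_⟩
    obtain ⟨n, hn⟩ := hs
    obtain ⟨j, t, rfl⟩ := exists_appTop_π_eq_of_isAffine_of_isLimit D c hc s
    have h1 : (c.π.app j).appTop (t ^ n) = 0 := by rw [map_pow, hn]
    obtain ⟨k, f, hk⟩ := exists_appTop_map_eq_zero_of_isAffine_of_isLimit D c hc j (t ^ n) h1
    have h0 : (D.map f).appTop t = 0 := by
      have := hred k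
      refine IsReduced.eq_zero _ ⟨n, ?_⟩
      rw [← map_pow, hk]
    have h2 : c.π.app j = c.π.app k ≫ D.map f := (c.w f).symm
    rw [h2, Scheme.Hom.comp_appTop]
    change (c.π.app k).appTop ((D.map f).appTop t) = 0
    rw [h0, map_zero]
  exact isReduced_of_isAffine_isReduced c.pt

/-- A cofiltered limit of reduced sheaves with affine transition maps is reduced. -/
theorem isReducedSp_of_isLimit {I : Type u} [SmallCategory I] [IsCofiltered I] (D : I ⥤ Sp S)
    (hDa : ∀ (i j : I) (φ : i ⟶ j), IsAffineMor (D.map φ)) (c : Cone D) (hc : IsLimit c)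
    (hred : ∀ i, IsReducedSp (D.obj i)) : IsReducedSp c.pt := by
  obtain ⟨i₀⟩ := IsCofiltered.nonempty (C := I)
  obtain ⟨U₀, z, hze, hzs, hU₀red⟩ := hred i₀
  -- the affine opens of the chart
  let Ov : U₀.left.affineOpens → Over S := fun V => Over.mk ((V : U₀.left.Opens).ι ≫ U₀.hom)
  let ιV : ∀ V : U₀.left.affineOpens, Ov V ⟶ U₀ := fun V => Over.homMk (V : U₀.left.Opens).ι rfl
  let zV : ∀ V, (yon S).obj (Ov V) ⟶ D.obj i₀ := fun V => (yon S).map (ιV V) ≫ z
  have hOvaff : ∀ V : U₀.left.affineOpens, IsAffine (Ov V).left := fun V => V.2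
  have hιVo : ∀ V, RepWith @IsOpenImmersion ((yon S).map (ιV V)) := fun V =>
    (repWith_yon_map_iff _ _).2 (inferInstanceAs (IsOpenImmersion (V : U₀.left.Opens).ι))
  have hzVe : ∀ V, RepWith @Etale (zV V) := fun V =>
    (repWith_isMultiplicative @Etale).comp_mem _ _
      (H69AlgSp.repWith_mono (fun _ _ g (hg : IsOpenImmersion g) => (inferInstance : Etale g))
        (hιVo V)) hze
  -- the limit machinery over each affine open
  have key : ∀ V : U₀.left.affineOpens, ∃ (A : Over S)
      (_ : (yon S).obj A ≅ pullback (c.π.app i₀) (zV V)), IsReduced A.left := by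
    intro V
    choose W w fst sq hWaff using fun j : Over i₀ => hDa j.left i₀ j.hom (hOvaff V) (zV V)
    have e : ∀ j : Over i₀, (yon S).obj (W j) ≅ (pbDiagram D i₀ (zV V)).obj j := fun j =>
      (sq j).isoPullback
    haveI : IsConnected (Over i₀) := IsCofiltered.isConnected _
    obtain ⟨cW, hcW, el, hcWaff, hel⟩ := exists_limit_liftYon (pbDiagram D i₀ (zV V)) W hWaff e
      (pbCone D c i₀ (zV V)) (isLimitPbCone i₀ (zV V) hc)
    have hWred : ∀ j : Over i₀, IsReduced (W j).left := fun j => by
      have hsb := repWith_isStableUnderBaseChange (S := S) @Etale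
      have hfe : RepWith @Etale (fst j) := hsb.of_isPullback (sq j).flip (hzVe V)
      exact isReduced_of_repWith_etale (hred j.left) (fst j) hfe
    have hlim : IsLimit ((Over.forget S).mapCone cW) := isLimitMapConeForget hcW
    haveI : ∀ j, IsAffine ((liftYon (pbDiagram D i₀ (zV V)) W e ⋙ Over.forget S).obj j) := hWaff
    exact ⟨cW.pt, el, isReduced_of_isLimit_of_isAffine
      (liftYon (pbDiagram D i₀ (zV V)) W e ⋙ Over.forget S) hWred _ hlim⟩
  choose A el hAred using key
  -- the fibre product over the whole chart and the open pieces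
  let Q : Sp S := pullback (c.π.app i₀) z
  let m : ∀ V, pullback (c.π.app i₀) (zV V) ⟶ Q := fun V =>
    pullback.lift (pullback.fst _ _) (pullback.snd _ _ ≫ (yon S).map (ιV V))
      (by rw [Category.assoc]; exact pullback.condition)
  have hm₁ : ∀ V, m V ≫ pullback.fst (c.π.app i₀) z = pullback.fst _ _ := fun V =>
    pullback.lift_fst _ _ _
  have hm₂ : ∀ V, m V ≫ pullback.snd (c.π.app i₀) z = pullback.snd _ _ ≫ (yon S).map (ιV V) :=
    fun V => pullback.lift_snd _ _ _
  have hm : ∀ V, IsPullback (m V) (pullback.snd (c.π.app i₀) (zV V))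
      (pullback.snd (c.π.app i₀) z) ((yon S).map (ιV V)) := by
    intro V
    refine IsPullback.of_right ?_ (hm₂ V) (IsPullback.of_hasPullback (c.π.app i₀) z)
    rw [hm₁ V]
    exact IsPullback.of_hasPullback (c.π.app i₀) (zV V)
  have hmo : ∀ V, RepWith @IsOpenImmersion (m V) := fun V =>
    (repWith_isStableUnderBaseChange (S := S) @IsOpenImmersion).of_isPullback (hm V).flip (hιVo V)
  let f : ∀ V, (yon S).obj (A V) ⟶ Q := fun V => (el V).hom ≫ m V
  have hfo : ∀ V, RepWith @IsOpenImmersion (f V) := fun V =>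
    (RepWith (S := S) @IsOpenImmersion).cancel_left_of_respectsIso (el V).hom (m V) |>.2 (hmo V)
  have hcov : ∀ x : Points Q, ∃ V, x ∈ Set.range (Points.map (f V)) := by
    intro x
    let y : Points ((yon S).obj U₀) := Points.map (pullback.snd (c.π.app i₀) z) x
    let u : ↥U₀.left := Points.toScheme U₀ y
    obtain ⟨_, ⟨V, hV, rfl⟩, huV, -⟩ :=
      U₀.left.isBasis_affineOpens.exists_subset_of_mem_open (Set.mem_univ u) isOpen_univ
    let V' : U₀.left.affineOpens := ⟨V, hV⟩
    let v : ↥(Ov V').left := ⟨u, huV⟩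
    have hv : Points.map ((yon S).map (ιV V')) (Points.ofScheme (Ov V') v) = y := by
      refine (Points.map_yon_map_apply (ιV V') v).trans ?_
      change Points.ofScheme U₀ u = y
      exact Points.ofScheme_toScheme U₀ y
    obtain ⟨p, -, hp⟩ := H78AlgSpPoints.exists_of_isPullback (hm V').flip
      (Points.ofScheme (Ov V') v) x hv
    refine ⟨V', Points.map (el V').inv p, ?_⟩
    rw [← Points.map_comp]
    change Points.map ((el V').inv ≫ (el V').hom ≫ m V') p = x
    rw [Iso.inv_hom_id_assoc]
    exact hp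
  obtain ⟨X₀, e₀, j, hj, hjo, hjc⟩ := H86ZarGlue.exists_iso_yon_of_openCover f hfo hcov
  have hsbe := repWith_isStableUnderBaseChange (S := S) @Etale
  have hsbs := repWith_isStableUnderBaseChange (S := S) @Surjective
  have hQ := IsPullback.of_hasPullback (c.π.app i₀) z
  refine ⟨X₀, e₀.hom ≫ pullback.fst (c.π.app i₀) z, ?_, ?_, ?_⟩
  · exact ((RepWith (S := S) @Etale).cancel_left_of_respectsIso e₀.hom _).2
      (hsbe.of_isPullback hQ.flip hze)
  · exact ((RepWith (S := S) @Surjective).cancel_left_of_respectsIso e₀.hom _).2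
      (hsbs.of_isPullback hQ.flip hzs)
  · haveI : ∀ V, IsOpenImmersion (j V).left := hjo
    let 𝒰 : X₀.left.OpenCover := Scheme.Cover.mkOfCovers U₀.left.affineOpens
      (fun V => (A V).left) (fun V => (j V).left)
      (fun x => by obtain ⟨V, y, hy⟩ := hjc x; exact ⟨V, y, hy⟩) inferInstance
    haveI : ∀ V, IsReduced (𝒰.X V) := hAred
    exact IsReduced.of_openCover _ 𝒰

end Groth.Agent.Lib.H86Limits
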