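import Groth.Agent.Lib.H69SchImageImm
import Groth.Agent.Lib.H69RedInduced
import Groth.Agent.Lib.H86LimitsRed

/-!
# helper69: the scheme theoretic image of a morphism from a reduced algebraic space

On an atlas, it is the reduced induced closed subscheme on the closure of the image.
-/

set_option autoImplicit false
universe u

open CategoryTheory CategoryTheory.Limits AlgebraicGeometry Opposite TopologicalSpace

namespace Groth.Agent.Lib.H69SchImageRed

open AlgSp Groth.Agent.Lib.H69AlgSp Groth.Agent.Lib.H69QuotOpen Groth.Agent.Lib.H69SchImage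
  Groth.Agent.Lib.H69SchImageQC Groth.Agent.Lib.H69NiceChart Groth.Agent.Lib.H69SchImageImm
  Groth.Agent.Lib.H69RedInduced Scheme.IdealSheafData

variable {S : Scheme.{u}}

/-- The inverse image in a chart of the image of `f`. -/
def imgSet {X Y : Sp S} (f : X ⟶ Y) {V : Over S} (p : (yon S).obj V ⟶ Y) : Set ↥V.left :=
  Points.ofPt p ⁻¹' Set.range (Points.map f)

theorem preimage_imgSet {X Y : Sp S} (f : X ⟶ Y) {V R : Over S} (p : (yon S).obj V ⟶ Y) (s : R ⟶ V) :
    s.left ⁻¹' imgSet f p = imgSet f ((yon S).map s ≫ p) := by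
  ext r
  simp only [imgSet, Set.mem_preimage]
  rw [Groth.Agent.Lib.AlgSpPts66.ofPt_yonMap_comp]

/-- The closure of the inverse image in a chart of the image of `f`. -/
def imgClosure {X Y : Sp S} (f : X ⟶ Y) {V : Over S} (p : (yon S).obj V ⟶ Y) : Closeds ↥V.left :=
  ⟨closure (imgSet f p), isClosed_closure⟩

theorem preimage_imgClosure {X Y : Sp S} (f : X ⟶ Y) {V R : Over S} (p : (yon S).obj V ⟶ Y) (s : R ⟶ V)
    [Etale s.left] :
    s.left ⁻¹' (imgClosure f p : Set ↥V.left) = (imgClosure f ((yon S).map s ≫ p) : Set ↥R.left) := by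
  change s.left ⁻¹' closure (imgSet f p) = closure (imgSet f ((yon S).map s ≫ p))
  rw [(Groth.Agent.Lib.AlgSpPts66.isOpenMap_of_etale s.left).preimage_closure_eq_closure_preimage
    s.left.continuous, preimage_imgSet]

theorem range_subset_imgSet {X Y : Sp S} {f : X ⟶ Y} {V A : Over S} {p : (yon S).obj V ⟶ Y}
    {xA : (yon S).obj A ⟶ X} {a : A ⟶ V} (w : xA ≫ f = (yon S).map a ≫ p) :
    Set.range a.left ⊆ imgSet f p := by
  rintro _ ⟨α, rfl⟩
  refine ⟨Points.ofPt xA α, ?_⟩
  rw [Points.map_ofPt, w, Groth.Agent.Lib.AlgSpPts66.ofPt_yonMap_comp]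

/-- Flat-free base change of the vanishing ideal of the closure of the image along an etale map. -/
theorem comap_vanishingIdeal_imgClosure {X Y : Sp S} (f : X ⟶ Y) {V R : Over S} (p : (yon S).obj V ⟶ Y)
    (s : R ⟶ V) [Etale s.left] :
    (vanishingIdeal (imgClosure f p)).comap s.left = vanishingIdeal (imgClosure f ((yon S).map s ≫ p)) := by
  obtain ⟨s', sqs⟩ := isPullback_redSub_of_smooth s.left (imgClosure f p) (imgClosure f ((yon S).map s ≫ p))
    (preimage_imgClosure f p s).symm
  have := Groth.Agent.Lib.H69ClosedDesc.ker_of_isPullback_closedImmersion s.left sqs.flip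
  rw [ker_subschemeι, ker_subschemeι] at this
  exact this.symm

/-- On an atlas, the scheme theoretic image of a morphism with a reduced covering chart is the reduced induced
closed subscheme on the closure of the image. -/
theorem ker_eq_vanishingIdeal_of_reduced {X Y Z : Sp S} (hY : IsAlgSpace Y) (f : X ⟶ Y) (i : Z ⟶ Y)
    (hZ : IsSchImage f i) {V A : Over S} (p : (yon S).obj V ⟶ Y) (hpe : RepWith @Etale p)
    (hps : RepWith @Surjective p) (xA : (yon S).obj A ⟶ X) (a : A ⟶ V) (cc : ChartCover f p xA a)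
    [IsReduced A.left] {W : Over S} (w : W ⟶ V) (fstW : (yon S).obj W ⟶ Z)
    (sqW : IsPullback fstW ((yon S).map w) i p) : w.left.ker = vanishingIdeal (imgClosure f p) := by
  obtain ⟨hiC, ⟨f', hf'⟩, hmin⟩ := hZ
  have hwC : IsClosedImmersion w.left := hiC.2 p fstW w sqW
  have hale : vanishingIdeal (imgClosure f p) ≤ a.left.ker :=
    Groth.Agent.Lib.IntegralSection.vanishingIdeal_le_ker a.left _
      ((range_subset_imgSet cc.w).trans subset_closure)
  apply le_antisymm
  · -- `imgSet ⊆ range w`
    have hsub : imgSet f p ⊆ Set.range w.left := by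
      rintro v ⟨ξ, hξ⟩
      obtain ⟨q, -, hq2⟩ := Groth.Agent.Lib.AlgSpPts66.exists_of_isPullback p i fstW ((yon S).map w) sqW
        (Points.map f' ξ) (Points.ofScheme V v) (by
          rw [← Points.map_comp, hf', hξ, ← Points.ofPt_eq_map_ofScheme])
      refine ⟨Points.toScheme W q, ?_⟩
      have h1 := Groth.Agent.Lib.AlgSpPts66.ofPt_yonMap w (Points.toScheme W q)
      rw [Points.ofPt_eq_map_ofScheme, Points.ofScheme_toScheme, hq2] at h1
      exact ((Points.schemeEquiv V).injective h1).symm
    have hcl : (imgClosure f p : Set ↥V.left) ⊆ Set.range w.left :=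
      closure_minimal hsub w.left.isClosedEmbedding.isClosed_range
    have h2 : imgClosure f p ≤ w.left.ker.support := by
      intro v hv
      have := hcl hv
      change v ∈ (w.left.ker.support : Set ↥V.left)
      rw [Scheme.Hom.support_ker, w.left.isClosedEmbedding.isClosed_range.closure_eq]
      exact this
    exact le_support_iff_le_vanishingIdeal.1 h2
  · obtain ⟨R, s, tt, hker⟩ := hpe.1 p
    obtain ⟨t, rfl⟩ := (yon S).map_surjective tt
    have hse : Etale s.left := hpe.2 p _ _ hker
    have hte : Etale t.left := hpe.2 p _ _ hker.flip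
    have hcomap : (vanishingIdeal (imgClosure f p)).comap s.left =
        (vanishingIdeal (imgClosure f p)).comap t.left := by
      rw [comap_vanishingIdeal_imgClosure, comap_vanishingIdeal_imgClosure, hker.w]
    have hInv : ∀ (T : Over S) (r : T ⟶ R), vanishingIdeal (imgClosure f p) ≤ (r ≫ s).left.ker →
        vanishingIdeal (imgClosure f p) ≤ (r ≫ t).left.ker := by
      intro T r hr
      rw [Over.comp_left, le_ker_comp_iff] at hr ⊢
      rwa [← hcomap]
    obtain ⟨Z₀, i₀, fst₀, hZ₀, hi₀, sq₀⟩ := exists_closed_of_invariant hY p hpe hps s t hker _ hInv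
    have hmono₀ : Mono i₀ := mono_of_repWith_isClosedImmersion hi₀
    have hPF : PF f p (vanishingIdeal (imgClosure f p)) := (PF_iff_of_chartCover cc _).2 hale
    have hg₀ : ∃ g₀ : X ⟶ Z₀, g₀ ≫ i₀ = f := by
      refine exists_factor_of_pointwise i₀ f fun T x => ?_
      have hploc : Sheaf.IsLocallySurjective p := isLocallySurjective_of_etale_surjective p hpe hps
      obtain ⟨Rc, hRc, hlift⟩ := Groth.Agent.Lib.H69InvSub.exists_sieve_lift p (x ≫ f)
      refine exists_factor_of_sieve i₀ (x ≫ f) Rc hRc ?_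
      intro T₁ φ hφ
      obtain ⟨yl, hyl⟩ := hlift φ hφ
      obtain ⟨v, rfl⟩ := (yon S).map_surjective yl
      have hle := hPF T₁ ((yon S).map φ ≫ x) v (by rw [Category.assoc, hyl])
      obtain ⟨l, hl⟩ := (factors_iff_ker_le (subOverι V (vanishingIdeal (imgClosure f p))) v).2 (by
        rw [ker_subOverι]; exact hle)
      refine ⟨(yon S).map l ≫ fst₀, ?_⟩
      rw [Category.assoc, sq₀.w, ← Category.assoc, ← Functor.map_comp, hl, hyl]
    obtain ⟨k, hk⟩ := hmin i₀ hZ₀ hi₀ hg₀
    obtain ⟨l, hl⟩ := (yon S).map_surjective (sq₀.lift (fstW ≫ k) ((yon S).map w) (by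
      rw [Category.assoc, hk, sqW.w]))
    have hl' : l ≫ subOverι V (vanishingIdeal (imgClosure f p)) = w :=
      (yon S).map_injective (by rw [Functor.map_comp, hl, sq₀.lift_snd])
    have := (factors_iff_ker_le (subOverι V (vanishingIdeal (imgClosure f p))) w).1 ⟨l, hl'⟩
    rwa [ker_subOverι] at this

/-- A locally surjective chart of a fibre product is a covering chart. -/
theorem chartCover_of_locallySurjective {G Y P : Sp S} {g : G ⟶ Y} {V A : Over S} {b : (yon S).obj V ⟶ Y}
    {fstP : P ⟶ G} {sndP : P ⟶ (yon S).obj V} (sq : IsPullback fstP sndP g b) (c : (yon S).obj A ⟶ P)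
    [Sheaf.IsLocallySurjective c] (a : A ⟶ V) (ha : (yon S).map a = c ≫ sndP) :
    ChartCover g b (c ≫ fstP) a where
  w := by rw [Category.assoc, sq.w, ← Category.assoc, ← ha]
  cov := by
    intro T x v hxv
    obtain ⟨R, hR, hlift⟩ := Groth.Agent.Lib.H69InvSub.exists_sieve_lift c (sq.lift x ((yon S).map v) hxv)
    refine (J S).superset_covering ?_ hR
    intro T₁ φ hφ
    obtain ⟨y, hy⟩ := hlift φ hφ
    obtain ⟨l, rfl⟩ := (yon S).map_surjective y
    refine ⟨l, ?_, (yon S).map_injective ?_⟩
    · rw [← Category.assoc, hy, Category.assoc, sq.lift_fst]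
    · rw [Functor.map_comp, ha, ← Category.assoc, hy, Category.assoc, sq.lift_snd, Functor.map_comp]

/-- A reduced algebraic space has reduced covering charts over any etale chart of the target. -/
theorem exists_reduced_chart {X Y : Sp S} (hX : IsAlgSpace X) (hXr : IsReducedSp X) (hY : IsAlgSpace Y)
    (f : X ⟶ Y) {V : Over S} (p : (yon S).obj V ⟶ Y) (hpe : RepWith @Etale p) :
    ∃ (A : Over S) (xA : (yon S).obj A ⟶ X) (a : A ⟶ V), ChartCover f p xA a ∧ IsReduced A.left := by
  have hP : IsAlgSpace (pullback f p) :=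
    Groth.Agent.Lib.AlgSpFibre.isAlgSpace_of_isPullback hY.diag hX (IsAlgSpace.yon_obj V)
      (IsPullback.of_hasPullback f p)
  obtain ⟨A, c, hce, hcs⟩ := hP.atlas
  have hfe : RepWith @Etale (pullback.fst f p) :=
    Groth.Agent.Lib.AlgSpBasic.repWith_fst_of_isPullback _ (IsPullback.of_hasPullback f p) hpe
  have hxe : RepWith @Etale (c ≫ pullback.fst f p) := MorphismProperty.comp_mem _ _ _ hce hfe
  have hloc : Sheaf.IsLocallySurjective c := isLocallySurjective_of_etale_surjective c hce hcs
  refine ⟨A, c ≫ pullback.fst f p, (yon S).preimage (c ≫ pullback.snd f p),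
    chartCover_of_locallySurjective (IsPullback.of_hasPullback f p) c _ ((yon S).map_preimage _),
    Groth.Agent.Lib.H86Limits.isReduced_of_repWith_etale hXr _ hxe⟩

/-- The scheme theoretic image of a morphism from a reduced algebraic space is the reduced induced structure on
the closure of the image. -/
theorem isRedInduced_of_reduced {X Y Z : Sp S} (hX : IsAlgSpace X) (hY : IsAlgSpace Y) (f : X ⟶ Y) (i : Z ⟶ Y)
    (hXr : IsReducedSp X) (hZ : IsSchImage f i) :
    IsRedInduced (closure (Set.range (Points.map f))) i := by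
  obtain ⟨V, p, hpe, hps⟩ := hY.atlas
  obtain ⟨A, xA, a, cc, hAr⟩ := exists_reduced_chart hX hXr hY f p hpe
  obtain ⟨W, w, fstW, sqW⟩ := hZ.1.1 p
  have hwC : IsClosedImmersion w.left := hZ.1.2 p fstW w sqW
  have hker := ker_eq_vanishingIdeal_of_reduced hY f i hZ p hpe hps xA a cc w fstW sqW
  have hfe : RepWith @Etale fstW := Groth.Agent.Lib.AlgSpBasic.repWith_fst_of_isPullback _ sqW hpe
  have hfs : RepWith @Surjective fstW := Groth.Agent.Lib.AlgSpBasic.repWith_fst_of_isPullback _ sqW hps
  have hrange : Set.range w.left = closure (imgSet f p) := by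
    have h1 : (w.left.ker.support : Set ↥V.left) = closure (Set.range w.left) := Scheme.Hom.support_ker w.left
    rw [w.left.isClosedEmbedding.isClosed_range.closure_eq, hker, coe_support_vanishingIdeal] at h1
    exact h1.symm
  have hpre : closure (imgSet f p) = Points.ofPt p ⁻¹' closure (Set.range (Points.map f)) :=
    ((Groth.Agent.Lib.AlgSpQC.isOpenMap_ofPt_of_repWith_etale hpe).preimage_closure_eq_closure_preimage
      (Points.continuous_ofPt p) _).symm
  refine ⟨hZ.1, ?_, ?_⟩
  · apply Set.eq_of_subset_of_subset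
    · rintro _ ⟨z, rfl⟩
      obtain ⟨w₀, rfl⟩ := Groth.Agent.Lib.AlgSpQC.surjective_ofPt_of_repWith_surjective hfs z
      rw [Points.map_ofPt, sqW.w, Groth.Agent.Lib.AlgSpPts66.ofPt_yonMap_comp]
      have : w.left w₀ ∈ closure (imgSet f p) := by rw [← hrange]; exact ⟨w₀, rfl⟩
      rw [hpre] at this
      exact this
    · intro y hy
      obtain ⟨v, rfl⟩ := Groth.Agent.Lib.AlgSpQC.surjective_ofPt_of_repWith_surjective hps y
      have hv : v ∈ closure (imgSet f p) := by rw [hpre]; exact hy
      rw [← hrange] at hv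
      obtain ⟨w₀, rfl⟩ := hv
      refine ⟨Points.ofPt fstW w₀, ?_⟩
      rw [Points.map_ofPt, sqW.w, Groth.Agent.Lib.AlgSpPts66.ofPt_yonMap_comp]
  · -- `W` is reduced
    have hk' : w.left.ker = (redSubι (imgClosure f p)).ker := by rw [hker, ker_subschemeι]
    let e : W.left ⟶ redSub (imgClosure f p) := IsClosedImmersion.lift (redSubι (imgClosure f p)) w.left hk'.ge
    have he : e ≫ redSubι (imgClosure f p) = w.left := IsClosedImmersion.lift_fac _ _ _
    have hiso : IsIso e := IsClosedImmersion.isIso_of_ker_eq w.left (redSubι (imgClosure f p)) e he hk'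
    have hWr : IsReduced W.left := isReduced_of_isOpenImmersion e
    exact ⟨W, fstW, hfe, hfs, hWr⟩

end Groth.Agent.Lib.H69SchImageRed
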