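import Groth.Agent.Lib.H69SchImageProper
import Groth.Agent.Lib.H69SchImageRed
import Groth.Agent.S10192

/-!
# helper69: closed subspaces proper over a base

* `range_map_of_isPullback`: points of a base change.
* `isSeparatedMor_of_surjective_comp`: separatedness of `h ≫ q` passes to `q` when `h` is surjective and
  universally closed.
* `exists_proper_image`: the image of a universally closed morphism from a space proper over `B` underlies a
  closed subspace proper over `B`.
-/

set_option autoImplicit false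
universe u
open CategoryTheory CategoryTheory.Limits AlgebraicGeometry Opposite Topology

namespace Groth.Agent.Lib.H69ProperOver

open AlgSp Groth.Agent.Lib.AlgSpPoints Groth.Agent.Lib.AlgSpQC Groth.Agent.Lib.AlgSpFibre
  Groth.Agent.Lib.AlgSpDescent Groth.Agent.Lib.AlgSpLocP Groth.Agent.Lib.AlgSpProper
  Groth.Agent.Lib.H69SchImageProper

variable {S : Scheme.{u}}

theorem range_map_of_isPullback {Z' Z X' X : Sp S} {q : Z' ⟶ Z} {i' : Z' ⟶ X'} {i : Z ⟶ X} {g' : X' ⟶ X}
    (sq : IsPullback q i' i g') :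
    Set.range (Points.map i') = Points.map g' ⁻¹' Set.range (Points.map i) := by
  ext x'
  constructor
  · rintro ⟨p, rfl⟩
    refine ⟨Points.map q p, ?_⟩
    rw [← Points.map_comp, ← Points.map_comp, sq.w]
  · rintro ⟨z, hz⟩
    obtain ⟨p, -, hp2⟩ := exists_point_of_isPullback sq z x' hz
    exact ⟨p, hp2⟩

/-- The product map `A ×_B A ⟶ A' ×_B A'` of a universally closed morphism is universally closed. -/
theorem isUnivClosedMor_pullback_map {A A' B : Sp S} (hA : IsAlgSpace A) (hA' : IsAlgSpace A')
    (hB : IsAlgSpace B) (h : A ⟶ A') (q : A' ⟶ B) (hh : IsUnivClosedMor h) (p : A ⟶ B) (hp : p = h ≫ q)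
    (m : pullback p p ⟶ pullback q q) (hm1 : m ≫ pullback.fst q q = pullback.fst p p ≫ h)
    (hm2 : m ≫ pullback.snd q q = pullback.snd p p ≫ h) :
    IsUnivClosedMor m := by
  have w1 : (pullback.fst p p ≫ h) ≫ q = pullback.snd p p ≫ p := by
    rw [Category.assoc, ← hp, pullback.condition]
  let m₁ : pullback p p ⟶ pullback q p := pullback.lift (pullback.fst p p ≫ h) (pullback.snd p p) w1
  have w2 : pullback.fst q p ≫ q = (pullback.snd q p ≫ h) ≫ q := by
    rw [Category.assoc, ← hp, pullback.condition]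
  let m₂ : pullback q p ⟶ pullback q q := pullback.lift (pullback.fst q p) (pullback.snd q p ≫ h) w2
  have m₁f : m₁ ≫ pullback.fst q p = pullback.fst p p ≫ h := pullback.lift_fst _ _ _
  have m₁s : m₁ ≫ pullback.snd q p = pullback.snd p p := pullback.lift_snd _ _ _
  have m₂f : m₂ ≫ pullback.fst q q = pullback.fst q p := pullback.lift_fst _ _ _
  have m₂s : m₂ ≫ pullback.snd q q = pullback.snd q p ≫ h := pullback.lift_snd _ _ _
  have e : m = m₁ ≫ m₂ := by
    apply pullback.hom_ext
    · rw [hm1, Category.assoc, m₂f, m₁f]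
    · rw [hm2, Category.assoc, m₂s, ← Category.assoc, m₁s]
  have sq1 : IsPullback m₁ (pullback.fst p p) (pullback.fst q p) h := by
    refine IsPullback.of_right ?_ m₁f (IsPullback.of_hasPullback q p).flip
    rw [m₁s, ← hp]
    exact (IsPullback.of_hasPullback p p).flip
  have sq2 : IsPullback m₂ (pullback.snd q p) (pullback.snd q q) h := by
    refine IsPullback.of_right ?_ m₂s (IsPullback.of_hasPullback q q)
    rw [m₂f, ← hp]
    exact IsPullback.of_hasPullback q p
  have h1 : IsUnivClosedMor m₁ := univSp_of_isPullback sq1.flip hh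
  have h2 : IsUnivClosedMor m₂ := univSp_of_isPullback sq2.flip hh
  have hM : IsAlgSpace (pullback q p) :=
    isAlgSpace_of_isPullback hB.diag hA' hA (IsPullback.of_hasPullback q p)
  have hQ : IsAlgSpace (pullback q q) :=
    isAlgSpace_of_isPullback hB.diag hA' hA' (IsPullback.of_hasPullback q q)
  rw [e]
  exact isUnivClosedMor_comp hM hQ.diag h1 h2

/-- Separatedness of `h ≫ q` passes to `q` when `h` is surjective and universally closed. -/
theorem isSeparatedMor_of_surjective_comp {A A' B : Sp S} (hA : IsAlgSpace A) (hA' : IsAlgSpace A')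
    (hB : IsAlgSpace B) (h : A ⟶ A') (q : A' ⟶ B) (hs : IsSurjectiveMor h) (hh : IsUnivClosedMor h)
    (hsep : IsSeparatedMor (h ≫ q)) : IsSeparatedMor q := by
  rw [isSeparatedMor_iff_isUnivClosedMor_diagonal hA' hB]
  set p := h ≫ q with hp
  have hP : IsAlgSpace (pullback p p) :=
    isAlgSpace_of_isPullback hB.diag hA hA (IsPullback.of_hasPullback _ _)
  have hQ : IsAlgSpace (pullback q q) :=
    isAlgSpace_of_isPullback hB.diag hA' hA' (IsPullback.of_hasPullback q q)
  have h1 : IsUnivClosedMor (pullback.diagonal p) :=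
    (isSeparatedMor_iff_isUnivClosedMor_diagonal hA hB _).1 hsep
  have w : (pullback.fst p p ≫ h) ≫ q = (pullback.snd p p ≫ h) ≫ q := by
    rw [Category.assoc, Category.assoc, ← hp, pullback.condition]
  let m : pullback p p ⟶ pullback q q := pullback.lift (pullback.fst p p ≫ h) (pullback.snd p p ≫ h) w
  have mf : m ≫ pullback.fst q q = pullback.fst p p ≫ h := pullback.lift_fst _ _ _
  have ms : m ≫ pullback.snd q q = pullback.snd p p ≫ h := pullback.lift_snd _ _ _
  have h2 := isUnivClosedMor_pullback_map hA hA' hB h q hh p hp m mf ms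
  have h3 := isUnivClosedMor_comp hP hQ.diag h1 h2
  have e : pullback.diagonal p ≫ m = h ≫ pullback.diagonal q := by
    apply pullback.hom_ext
    · rw [Category.assoc, mf, ← Category.assoc, pullback.diagonal_fst, Category.id_comp, Category.assoc,
        pullback.diagonal_fst, Category.comp_id]
    · rw [Category.assoc, ms, ← Category.assoc, pullback.diagonal_snd, Category.id_comp, Category.assoc,
        pullback.diagonal_snd, Category.comp_id]
  rw [e] at h3
  exact Groth.Agent.Lib.H69SchImageProper.isUnivClosedMor_of_surjective_comp hs h3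

/-- The image of a universally closed morphism `h : Z ⟶ Y` over `B` from a space proper over `B` to a space locally of
finite type over `B` is closed and underlies a closed subspace proper over `B`. -/
theorem exists_proper_image {Z Y B : Sp S} (hZ : IsAlgSpace Z) (hY : IsAlgSpace Y) (hB : IsAlgSpace B)
    (h : Z ⟶ Y) (b : Y ⟶ B) (hb : LocP @LocallyOfFiniteType b) (hp : IsProperMor (h ≫ b))
    (hh : IsUnivClosedMor h) :
    IsClosed (Set.range (Points.map h)) ∧
      ∃ (Z' : Sp S) (i' : Z' ⟶ Y), IsAlgSpace Z' ∧ RepWith @IsClosedImmersion i' ∧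
        Set.range (Points.map i') = Set.range (Points.map h) ∧ IsProperMor (i' ≫ b) := by
  have hcl : IsClosed (Set.range (Points.map h)) := isClosed_range_of_isUnivClosedMor hY hh
  refine ⟨hcl, ?_⟩
  obtain ⟨Z₀, i₀, hi₀C, hi₀r, hZ₀r⟩ := Groth.Agent.S10192.result ⟨Z, hZ⟩ Set.univ isClosed_univ
  have hZ₀ : IsAlgSpace Z₀.obj := Z₀.property
  obtain ⟨Z', i', hZ', hSch⟩ := Groth.Agent.Lib.H69SchImage.exists_isSchImage hY (i₀.hom ≫ h)
  obtain ⟨h'', hfac⟩ := hSch.2.1
  have hred := Groth.Agent.Lib.H69SchImageRed.isRedInduced_of_reduced hZ₀ hY (i₀.hom ≫ h) i' hZ₀r hSch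
  have hi₀s : Function.Surjective (Points.map i₀.hom) := by
    rw [← Set.range_eq_univ]; exact hi₀r
  have hrange₀ : Set.range (Points.map (i₀.hom ≫ h)) = Set.range (Points.map h) := by
    ext y
    constructor
    · rintro ⟨z, rfl⟩
      exact ⟨Points.map i₀.hom z, (Points.map_comp _ _ _).symm⟩
    · rintro ⟨z, rfl⟩
      obtain ⟨z₀, rfl⟩ := hi₀s z
      exact ⟨z₀, Points.map_comp _ _ _⟩
  have hri' : Set.range (Points.map i') = Set.range (Points.map h) := by
    rw [hred.2.1, hrange₀, hcl.closure_eq]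
  have hi'C : RepWith @IsClosedImmersion i' := hSch.1
  have hi'p : IsProperMor i' := isProperMor_of_repWith_isClosedImmersion hZ' hY hi'C
  have hi₀p : IsProperMor i₀.hom := isProperMor_of_repWith_isClosedImmersion hZ₀ hZ hi₀C
  have hi'inj : Function.Injective (Points.map i') :=
    (Groth.Agent.Lib.AlgSpAffineSpace.isClosedEmbedding_map_of_repWith_isClosedImmersion hi'C).injective
  -- `h''` is surjective
  have hs : IsSurjectiveMor h'' := by
    intro z'
    have : Points.map i' z' ∈ Set.range (Points.map (i₀.hom ≫ h)) := by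
      rw [hrange₀, ← hri']; exact ⟨z', rfl⟩
    obtain ⟨z₀, hz₀⟩ := this
    refine ⟨z₀, hi'inj ?_⟩
    rw [← Points.map_comp, hfac, hz₀]
  -- `h''` is universally closed
  have h₀uc : IsUnivClosedMor (i₀.hom ≫ h) := isUnivClosedMor_comp hZ hY.diag hi₀p.2.2 hh
  have h''uc : IsUnivClosedMor h'' :=
    isUnivClosedMor_of_comp hZ₀ hZ' hY hi'p.1 (by rw [hfac]; exact h₀uc)
  -- the composite to `B`
  have ecomp : h'' ≫ (i' ≫ b) = i₀.hom ≫ (h ≫ b) := by
    rw [← Category.assoc, hfac, Category.assoc]
  have hpp : IsProperMor (h'' ≫ (i' ≫ b)) := by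
    rw [ecomp]
    exact isProperMor_comp hZ₀ hZ hB hi₀p hp
  refine ⟨Z', i', hZ', hi'C, hri', ?_, ⟨?_, ?_⟩, ?_⟩
  · exact isSeparatedMor_of_surjective_comp hZ₀ hZ' hB h'' (i' ≫ b) hs h''uc hpp.1
  · exact locP_comp etLocalClass_lft hZ' hY hB hi'p.2.1.1 hb
  · exact isQuasiCompactMor_of_surjective_comp hZ' hB.diag hs hpp.2.1.2
  · exact Groth.Agent.Lib.H69SchImageProper.isUnivClosedMor_of_surjective_comp hs hpp.2.2

end Groth.Agent.Lib.H69ProperOver
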