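import Groth.Agent.Lib.H69ProperOver
import Groth.Agent.Lib.AlgSpRedLift

/-!
# helper69: a finite union of closed subspaces proper over a base is proper over the base (S10765)

Family versions (finite jointly surjective families) of the descent lemmas for quasi-compactness, universal
closedness and separatedness.
-/

set_option autoImplicit false
universe u
open CategoryTheory CategoryTheory.Limits AlgebraicGeometry Opposite Topology

namespace Groth.Agent.Lib.H69ProperUnion

open AlgSp Groth.Agent.Lib.AlgSpPoints Groth.Agent.Lib.AlgSpQC Groth.Agent.Lib.AlgSpFibre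
  Groth.Agent.Lib.AlgSpDescent Groth.Agent.Lib.AlgSpLocP Groth.Agent.Lib.AlgSpProper
  Groth.Agent.Lib.H69ProperOver

variable {S : Scheme.{u}}

/-- A family of morphisms to `Z` that is jointly surjective on points. -/
def JointlySurjective {ι : Type} {X : ι → Sp S} {Z : Sp S} (h : ∀ k, X k ⟶ Z) : Prop :=
  ∀ z : Points Z, ∃ k, z ∈ Set.range (Points.map (h k))

theorem jointlySurjective_of_isPullback {ι : Type} {X : ι → Sp S} {Z : Sp S} {h : ∀ k, X k ⟶ Z}
    (hs : JointlySurjective h) {Z' : Sp S} (fst : Z' ⟶ Z) :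
    JointlySurjective (fun k => pullback.snd (h k) fst) := by
  intro z'
  obtain ⟨k, x, hx⟩ := hs (Points.map fst z')
  obtain ⟨p, -, hp⟩ := exists_point_of_isPullback (IsPullback.of_hasPullback (h k) fst) x z' hx
  exact ⟨k, p, hp⟩

theorem isQuasiCompactMor_of_jointlySurjective {ι : Type} [Finite ι] {X : ι → Sp S} {Z B : Sp S}
    (hZ : IsAlgSpace Z) (hB : Representable (Limits.diag B)) (h : ∀ k, X k ⟶ Z) {q : Z ⟶ B}
    (hs : JointlySurjective h) (hc : ∀ k, IsQuasiCompactMor (h k ≫ q)) : IsQuasiCompactMor q := by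
  intro Z₀ Z' hZ₀ hqc g fst snd sq
  have sq1 := fun k => IsPullback.of_hasPullback (h k) fst
  have h1 : ∀ k, IsQuasiCompactSp (pullback (h k) fst) :=
    fun k => hc k hZ₀ hqc g _ _ ((sq1 k).paste_vert sq)
  have hZ' : IsAlgSpace Z' := isAlgSpace_of_isPullback hB hZ hZ₀ sq
  have hcomp : ∀ k, IsCompact (Set.range (Points.map (pullback.snd (h k) fst))) := fun k => by
    have := compactSpace_points_of_isQuasiCompactSp (h1 k)
    exact isCompact_range (Points.continuous_map _)
  have huniv : (Set.univ : Set (Points Z')) = ⋃ k, Set.range (Points.map (pullback.snd (h k) fst)) := by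
    ext z'
    simp only [Set.mem_univ, Set.mem_iUnion, true_iff]
    exact jointlySurjective_of_isPullback hs fst z'
  have : CompactSpace (Points Z') := ⟨by rw [huniv]; exact isCompact_iUnion hcomp⟩
  exact isQuasiCompactSp_of_compactSpace_points hZ'

theorem isUnivClosedMor_of_jointlySurjective {ι : Type} [Finite ι] {X : ι → Sp S} {Z B : Sp S}
    (h : ∀ k, X k ⟶ Z) {q : Z ⟶ B} (hs : JointlySurjective h)
    (hc : ∀ k, IsUnivClosedMor (h k ≫ q)) : IsUnivClosedMor q := by
  intro Z₀ Z' hZ₀ g fst snd sq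
  have sq1 := fun k => IsPullback.of_hasPullback (h k) fst
  have h1 : ∀ k, IsClosedMap (Points.map (pullback.snd (h k) fst ≫ snd)) :=
    fun k => hc k hZ₀ g _ _ ((sq1 k).paste_vert sq)
  have hb := jointlySurjective_of_isPullback hs fst
  change IsClosedMap (Points.map snd)
  intro T hT
  have e : Points.map snd '' T =
      ⋃ k, Points.map (pullback.snd (h k) fst ≫ snd) '' (Points.map (pullback.snd (h k) fst) ⁻¹' T) := by
    ext y
    simp only [Set.mem_iUnion]
    constructor
    · rintro ⟨t, ht, rfl⟩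
      obtain ⟨k, x, rfl⟩ := hb t
      exact ⟨k, x, ht, Points.map_comp _ _ x⟩
    · rintro ⟨k, x, hx, rfl⟩
      exact ⟨_, hx, (Points.map_comp _ _ x).symm⟩
  rw [e]
  exact isClosed_iUnion_of_finite fun k => h1 k _ (hT.preimage (Points.continuous_map _))

theorem isSeparatedMor_of_jointlySurjective {ι : Type} [Finite ι] {A : ι → Sp S} {A' B : Sp S}
    (hA : ∀ k, IsAlgSpace (A k)) (hA' : IsAlgSpace A') (hB : IsAlgSpace B) (h : ∀ k, A k ⟶ A') (q : A' ⟶ B)
    (hs : JointlySurjective h) (hh : ∀ k, IsUnivClosedMor (h k))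
    (hsep : ∀ k, IsSeparatedMor (h k ≫ q)) : IsSeparatedMor q := by
  rw [isSeparatedMor_iff_isUnivClosedMor_diagonal hA' hB]
  have hQ : IsAlgSpace (pullback q q) :=
    isAlgSpace_of_isPullback hB.diag hA' hA' (IsPullback.of_hasPullback q q)
  refine isUnivClosedMor_of_jointlySurjective h hs fun k => ?_
  set p := h k ≫ q with hp
  have hP : IsAlgSpace (pullback p p) :=
    isAlgSpace_of_isPullback hB.diag (hA k) (hA k) (IsPullback.of_hasPullback _ _)
  have h1 : IsUnivClosedMor (pullback.diagonal p) :=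
    (isSeparatedMor_iff_isUnivClosedMor_diagonal (hA k) hB _).1 (hsep k)
  have w : (pullback.fst p p ≫ h k) ≫ q = (pullback.snd p p ≫ h k) ≫ q := by
    rw [Category.assoc, Category.assoc, ← hp, pullback.condition]
  let m : pullback p p ⟶ pullback q q :=
    pullback.lift (pullback.fst p p ≫ h k) (pullback.snd p p ≫ h k) w
  have mf : m ≫ pullback.fst q q = pullback.fst p p ≫ h k := pullback.lift_fst _ _ _
  have ms : m ≫ pullback.snd q q = pullback.snd p p ≫ h k := pullback.lift_snd _ _ _
  have h2 := isUnivClosedMor_pullback_map (hA k) hA' hB (h k) q (hh k) p hp m mf ms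
  have h3 := isUnivClosedMor_comp hP hQ.diag h1 h2
  have e : pullback.diagonal p ≫ m = h k ≫ pullback.diagonal q := by
    apply pullback.hom_ext
    · rw [Category.assoc, mf, ← Category.assoc, pullback.diagonal_fst, Category.id_comp, Category.assoc,
        pullback.diagonal_fst, Category.comp_id]
    · rw [Category.assoc, ms, ← Category.assoc, pullback.diagonal_snd, Category.id_comp, Category.assoc,
        pullback.diagonal_snd, Category.comp_id]
  rw [e] at h3
  exact h3

/-- A morphism from a reduced space whose image on points lies in the image of a closed immersion factors through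
it. -/
theorem exists_factor_of_reduced {W X Z : Sp S} (hW : IsReducedSp W) (g : W ⟶ X) (j : Z ⟶ X)
    (hj : RepWith @IsClosedImmersion j)
    (hr : Set.range (Points.map g) ⊆ Set.range (Points.map j)) : ∃ g' : W ⟶ Z, g' ≫ j = g := by
  have sq := IsPullback.of_hasPullback g j
  have hπ : RepWith @IsClosedImmersion (pullback.fst g j) :=
    Groth.Agent.Lib.AlgSpBasic.repWith_fst_of_isPullback _ sq hj
  have hπs : Function.Surjective (Points.map (pullback.fst g j)) := by
    intro w
    obtain ⟨z, hz⟩ := hr ⟨w, rfl⟩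
    obtain ⟨p, hp, -⟩ := exists_point_of_isPullback sq w z hz.symm
    exact ⟨p, hp⟩
  obtain ⟨σ, hσ⟩ := Groth.Agent.Lib.AlgSpRedLift.exists_lift_of_reduced hW (𝟙 W) (pullback.fst g j) hπ hπs
  refine ⟨σ ≫ pullback.snd g j, ?_⟩
  rw [Category.assoc, ← pullback.condition, ← Category.assoc, hσ, Category.id_comp]

end Groth.Agent.Lib.H69ProperUnion

namespace Groth.Agent.Lib.H69ProperUnion

open AlgSp Groth.Agent.Lib.AlgSpPoints Groth.Agent.Lib.AlgSpQC Groth.Agent.Lib.AlgSpFibre
  Groth.Agent.Lib.AlgSpDescent Groth.Agent.Lib.AlgSpLocP Groth.Agent.Lib.AlgSpProper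
  Groth.Agent.Lib.H69ProperOver

variable {S : Scheme.{u}}

/-- A finite union of closed subspaces proper over `Y` underlies a closed subspace proper over `Y`. -/
theorem exists_proper_union {X Y : Sp S} (hX : IsAlgSpace X) (hY : IsAlgSpace Y) (f : X ⟶ Y)
    (hf : LocP @LocallyOfFiniteType f) {ι : Type} [Finite ι] (Z : ι → Sp S) (hZ : ∀ k, IsAlgSpace (Z k))
    (i : ∀ k, Z k ⟶ X) (hi : ∀ k, RepWith @IsClosedImmersion (i k)) (hp : ∀ k, IsProperMor (i k ≫ f)) :
    ∃ (W : Sp S) (j : W ⟶ X), IsAlgSpace W ∧ RepWith @IsClosedImmersion j ∧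
      Set.range (Points.map j) = ⋃ k, Set.range (Points.map (i k)) ∧ IsProperMor (j ≫ f) := by
  choose Z₀ r hr using fun k => Groth.Agent.S10192.result ⟨Z k, hZ k⟩ Set.univ isClosed_univ
  have hT : IsClosed (⋃ k, Set.range (Points.map (i k))) :=
    isClosed_iUnion_of_finite fun k =>
      (Groth.Agent.Lib.AlgSpAffineSpace.isClosedEmbedding_map_of_repWith_isClosedImmersion (hi k)).isClosed_range
  obtain ⟨W, j, hjC, hjr, hWr⟩ := Groth.Agent.S10192.result ⟨X, hX⟩ _ hT
  have hZ₀ : ∀ k, IsAlgSpace (Z₀ k).obj := fun k => (Z₀ k).property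
  have hW : IsAlgSpace W.obj := W.property
  have hrs : ∀ k, Function.Surjective (Points.map (r k).hom) := fun k => by
    rw [← Set.range_eq_univ]; exact (hr k).2.1
  have hrange : ∀ k, Set.range (Points.map ((r k).hom ≫ i k)) = Set.range (Points.map (i k)) := fun k => by
    ext y
    constructor
    · rintro ⟨z, rfl⟩
      exact ⟨Points.map (r k).hom z, (Points.map_comp _ _ _).symm⟩
    · rintro ⟨z, rfl⟩
      obtain ⟨z₀, rfl⟩ := hrs k z
      exact ⟨z₀, Points.map_comp _ _ _⟩
  have hsub : ∀ k, Set.range (Points.map ((r k).hom ≫ i k)) ⊆ Set.range (Points.map j.hom) := fun k => by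
    rw [hrange k, hjr]
    exact Set.subset_iUnion (fun k => Set.range (Points.map (i k))) k
  choose j' hj' using fun k => exists_factor_of_reduced (hr k).2.2 ((r k).hom ≫ i k) j.hom hjC (hsub k)
  have hjinj : Function.Injective (Points.map j.hom) :=
    (Groth.Agent.Lib.AlgSpAffineSpace.isClosedEmbedding_map_of_repWith_isClosedImmersion hjC).injective
  have hs : JointlySurjective j' := by
    intro w
    have hw : Points.map j.hom w ∈ ⋃ k, Set.range (Points.map (i k)) := by
      rw [← hjr]; exact ⟨w, rfl⟩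
    obtain ⟨k, hk⟩ := Set.mem_iUnion.1 hw
    rw [← hrange k] at hk
    obtain ⟨z, hz⟩ := hk
    refine ⟨k, z, hjinj ?_⟩
    rw [← Points.map_comp, hj' k, hz]
  have hjp : IsProperMor j.hom := isProperMor_of_repWith_isClosedImmersion hW hX hjC
  have hrp : ∀ k, IsProperMor (r k).hom := fun k =>
    isProperMor_of_repWith_isClosedImmersion (hZ₀ k) (hZ k) (hr k).1
  have hip : ∀ k, IsProperMor (i k) := fun k => isProperMor_of_repWith_isClosedImmersion (hZ k) hX (hi k)
  have hguc : ∀ k, IsUnivClosedMor ((r k).hom ≫ i k) := fun k =>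
    isUnivClosedMor_comp (hZ k) hX.diag (hrp k).2.2 (hip k).2.2
  have hh : ∀ k, IsUnivClosedMor (j' k) := fun k =>
    isUnivClosedMor_of_comp (hZ₀ k) hW hX hjp.1 (by rw [hj' k]; exact hguc k)
  have ecomp : ∀ k, j' k ≫ (j.hom ≫ f) = (r k).hom ≫ (i k ≫ f) := fun k => by
    rw [← Category.assoc, hj' k, Category.assoc]
  have hpp : ∀ k, IsProperMor (j' k ≫ (j.hom ≫ f)) := fun k => by
    rw [ecomp k]
    exact isProperMor_comp (hZ₀ k) (hZ k) hY (hrp k) (hp k)
  refine ⟨W.obj, j.hom, hW, hjC, hjr, ?_, ⟨?_, ?_⟩, ?_⟩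
  · exact isSeparatedMor_of_jointlySurjective hZ₀ hW hY j' (j.hom ≫ f) hs hh fun k => (hpp k).1
  · exact locP_comp etLocalClass_lft hW hX hY hjp.2.1.1 hf
  · exact isQuasiCompactMor_of_jointlySurjective hW hY.diag j' hs fun k => (hpp k).2.1.2
  · exact isUnivClosedMor_of_jointlySurjective j' hs fun k => (hpp k).2.2

end Groth.Agent.Lib.H69ProperUnion
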