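import Groth.Agent.Lib.H69PushClosedStalk
import Groth.Agent.Lib.H69EtStalkCons
import Mathlib.CategoryTheory.Sites.DenseSubsite.Basic

/-!
# helper69: base change of small etale sites along a closed immersion is cover-dense and locally full (S9983)

For a closed immersion `i : Z ⟶ X` of algebraic spaces the functor `bc : X_etale ⥤ Z_etale`, `N ↦ N ×_X Z`, is cover-dense
and locally full for the etale topology of `Z`; by Mathlib's dense-subsite machinery `i_*` is fully faithful.
-/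

set_option autoImplicit false
universe u
open CategoryTheory CategoryTheory.Limits AlgebraicGeometry Opposite

namespace Groth.Agent.Lib.H69PushClosedFF

open AlgSp Groth.Agent.Lib.H69EtLocalRing Groth.Agent.Lib.H69PushClosedStalk Groth.Agent.Lib.H69EtStalkCons
  Groth.Agent.Lib.H69EtNbhd

variable {S : Scheme.{u}} {Z X : Sp S} (i : Z ⟶ X) (hi : RepWith @IsClosedImmersion i)

/-- the image in `N` of a lift of `z` to `N ×_X Z` -/
noncomputable def pushLift (z : FieldPt Z) {N : EtOver X} (m : (FieldPt.liftsTo z).obj ((EtOver.bc hi.1).obj N)) :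
    (FieldPt.liftsTo (z.map i)).obj N :=
  ⟨m.1 ≫ EtOver.bcπ hi.1 N, by
    rw [Functor.map_comp, Category.assoc, FieldPt.toHom_map]
    have h1 : (yon S).map (EtOver.bcπ hi.1 N) ≫ N.obj.hom = hi.1.fst N.obj.hom ≫ i := (hi.1.w N.obj.hom).symm
    exact (congrArg (fun t => (yon S).map m.1 ≫ t) h1).trans
      ((Category.assoc _ _ _).symm.trans (congrArg (fun t => t ≫ i) m.2))⟩

theorem bcLift_pushLift (z : FieldPt Z) {N : EtOver X} (m : (FieldPt.liftsTo z).obj ((EtOver.bc hi.1).obj N)) :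
    bcLift i hi z (pushLift i hi z m) = m := by
  apply Subtype.ext
  apply hi.1.hom_ext
  · exact ((bcLift i hi z (pushLift i hi z m)).2).trans m.2.symm
  · exact bcLift_snd i hi z (pushLift i hi z m)

/-- Every point of an object of the small etale site of `Z` is hit by the base change of an object of the small etale site
of `X`. -/
theorem exists_cover (hX : IsAlgSpace X) (M : EtOver Z) (u : ↥M.obj.left.left) :
    ∃ (N : EtOver X) (h : (EtOver.bc hi.1).obj N ⟶ M), u ∈ Set.range h.hom.left.left := by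
  let z := geomPt M u
  have hz : z.IsGeometric := geomPt_isGeometric M u
  have hzX : (z.map i).IsGeometric := hz
  let m := geomLift M u
  obtain ⟨⟨N₀, n₀⟩⟩ := nonempty_etNbhd (z.map i) hX hzX
  obtain ⟨N, n, q, h, -, hh, -⟩ := exists_refine i hi z hz n₀ (prodLift z m (bcLift i hi z n₀))
    (EtOver.prodSnd M _) (map_prodSnd_prodLift z m _)
  refine ⟨N, h ≫ EtOver.prodFst M _, ?_⟩
  have h1 : (FieldPt.liftsTo z).map (h ≫ EtOver.prodFst M _) (bcLift i hi z n) = m := by
    rw [Functor.map_comp_apply, hh]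
    exact map_prodFst_prodLift z m _
  have h2 := mem_range_of_lift z (h ≫ EtOver.prodFst M _) (bcLift i hi z n)
    (IsLocalRing.closedPoint z.K : PrimeSpectrum _)
  rw [h1] at h2
  rwa [geomLift_apply] at h2

theorem isCoverDense (hX : IsAlgSpace X) : (EtOver.bc hi.1).IsCoverDense (etTop Z) where
  is_cover M := by
    choose N h hu using exists_cover i hi hX M
    refine (etTop Z).superset_covering ?_ (ofArrows_mem_etTop (fun u => (EtOver.bc hi.1).obj (N u)) h
      (fun u => ⟨u, hu u⟩))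
    intro T g hg
    obtain ⟨u, l, rfl⟩ := (Sieve.mem_ofArrows_iff _ _ g).1 hg
    exact ⟨⟨N u, l, h u, rfl⟩⟩

section Graph

variable {N₁ N₂ : EtOver X} (f : (EtOver.bc hi.1).obj N₁ ⟶ (EtOver.bc hi.1).obj N₂)

theorem graph_aux :
    (yon S).map (f.hom.left ≫ EtOver.bcπ hi.1 N₂) ≫ N₂.obj.hom = (yon S).map (EtOver.bcπ hi.1 N₁) ≫ N₁.obj.hom := by
  have h1 : (yon S).map (EtOver.bcπ hi.1 N₂) ≫ N₂.obj.hom = hi.1.fst N₂.obj.hom ≫ i := (hi.1.w N₂.obj.hom).symm
  have h2 : (yon S).map (EtOver.bcπ hi.1 N₁) ≫ N₁.obj.hom = hi.1.fst N₁.obj.hom ≫ i := (hi.1.w N₁.obj.hom).symm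
  have h3 : (yon S).map f.hom.left ≫ hi.1.fst N₂.obj.hom = hi.1.fst N₁.obj.hom := EtOver.w f
  rw [Functor.map_comp, Category.assoc]
  refine (congrArg (fun t => (yon S).map f.hom.left ≫ t) h1).trans ?_
  exact (Category.assoc _ _ _).symm.trans ((congrArg (fun t => t ≫ i) h3).trans h2.symm)

/-- the map `N₁ ×_X Z ⟶ N₁ ×_X N₂` of the graph -/
noncomputable def graphY : ((EtOver.bc hi.1).obj N₁).obj.left ⟶ (EtOver.prodObj N₁ N₂).obj.left :=
  N₂.property.1.lift' (f.hom.left ≫ EtOver.bcπ hi.1 N₂) (EtOver.bcπ hi.1 N₁) (graph_aux i hi f)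

theorem graphY_fst : graphY i hi f ≫ (EtOver.prodFst N₁ N₂).hom.left = EtOver.bcπ hi.1 N₁ :=
  Functor.relativelyRepresentable.lift'_snd _ _ _ _

theorem graphY_snd : graphY i hi f ≫ (EtOver.prodSnd N₁ N₂).hom.left = f.hom.left ≫ EtOver.bcπ hi.1 N₂ :=
  Functor.relativelyRepresentable.lift'_fst _ _ _ _

theorem graph_aux2 :
    hi.1.fst N₁.obj.hom ≫ i = (yon S).map (graphY i hi f) ≫ (EtOver.prodObj N₁ N₂).obj.hom := by
  have h2 : (yon S).map (EtOver.bcπ hi.1 N₁) ≫ N₁.obj.hom = hi.1.fst N₁.obj.hom ≫ i := (hi.1.w N₁.obj.hom).symm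
  have h3 : (yon S).map (graphY i hi f) ≫ (EtOver.prodObj N₁ N₂).obj.hom =
      (yon S).map (graphY i hi f ≫ (EtOver.prodFst N₁ N₂).hom.left) ≫ N₁.obj.hom := by
    rw [Functor.map_comp, Category.assoc]
    rfl
  rw [h3, graphY_fst]
  exact h2.symm

/-- the graph `N₁ ×_X Z ⟶ (N₁ ×_X N₂) ×_X Z` of a morphism `N₁ ×_X Z ⟶ N₂ ×_X Z` -/
noncomputable def graph : (EtOver.bc hi.1).obj N₁ ⟶ (EtOver.bc hi.1).obj (EtOver.prodObj N₁ N₂) :=
  EtOver.homMk (hi.1.lift (hi.1.fst N₁.obj.hom) (graphY i hi f) (graph_aux2 i hi f)) (hi.1.lift_fst _ _ _)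

theorem graph_left_fst :
    (yon S).map (graph i hi f).hom.left ≫ hi.1.fst (EtOver.prodObj N₁ N₂).obj.hom = hi.1.fst N₁.obj.hom :=
  hi.1.lift_fst _ _ _

theorem graph_left_snd :
    (graph i hi f).hom.left ≫ hi.1.snd (EtOver.prodObj N₁ N₂).obj.hom = graphY i hi f :=
  hi.1.lift_snd _ _ _

theorem graph_fst : graph i hi f ≫ (EtOver.bc hi.1).map (EtOver.prodFst N₁ N₂) = 𝟙 _ := by
  apply EtOver.hom_ext
  apply hi.1.hom_ext
  · have h1 : (yon S).map ((graph i hi f).hom.left ≫ (EtOver.bcMap hi.1 (EtOver.prodFst N₁ N₂)).hom.left) ≫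
        hi.1.fst N₁.obj.hom = (yon S).map (graph i hi f).hom.left ≫ hi.1.fst (EtOver.prodObj N₁ N₂).obj.hom := by
      rw [Functor.map_comp, Category.assoc]
      exact congrArg (fun t => (yon S).map (graph i hi f).hom.left ≫ t)
        (EtOver.map_bcMap_fst hi.1 (EtOver.prodFst N₁ N₂))
    refine h1.trans ((graph_left_fst i hi f).trans ?_)
    exact ((congrArg (fun t => t ≫ hi.1.fst N₁.obj.hom) ((yon S).map_id _)).trans (Category.id_comp _)).symm
  · have h1 : ((graph i hi f).hom.left ≫ (EtOver.bcMap hi.1 (EtOver.prodFst N₁ N₂)).hom.left) ≫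
        hi.1.snd N₁.obj.hom = ((graph i hi f).hom.left ≫ hi.1.snd (EtOver.prodObj N₁ N₂).obj.hom) ≫
          (EtOver.prodFst N₁ N₂).hom.left := by
      rw [Category.assoc, Category.assoc]
      exact congrArg (fun t => (graph i hi f).hom.left ≫ t) (EtOver.bcMap_snd hi.1 (EtOver.prodFst N₁ N₂))
    refine h1.trans ?_
    rw [graph_left_snd, graphY_fst]
    exact (Category.id_comp _).symm

theorem graph_snd : graph i hi f ≫ (EtOver.bc hi.1).map (EtOver.prodSnd N₁ N₂) = f := by
  apply EtOver.hom_ext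
  apply hi.1.hom_ext
  · have h1 : (yon S).map ((graph i hi f).hom.left ≫ (EtOver.bcMap hi.1 (EtOver.prodSnd N₁ N₂)).hom.left) ≫
        hi.1.fst N₂.obj.hom = (yon S).map (graph i hi f).hom.left ≫ hi.1.fst (EtOver.prodObj N₁ N₂).obj.hom := by
      rw [Functor.map_comp, Category.assoc]
      exact congrArg (fun t => (yon S).map (graph i hi f).hom.left ≫ t)
        (EtOver.map_bcMap_fst hi.1 (EtOver.prodSnd N₁ N₂))
    refine h1.trans ((graph_left_fst i hi f).trans ?_)
    exact (EtOver.w f).symm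
  · have h1 : ((graph i hi f).hom.left ≫ (EtOver.bcMap hi.1 (EtOver.prodSnd N₁ N₂)).hom.left) ≫
        hi.1.snd N₂.obj.hom = ((graph i hi f).hom.left ≫ hi.1.snd (EtOver.prodObj N₁ N₂).obj.hom) ≫
          (EtOver.prodSnd N₁ N₂).hom.left := by
      rw [Category.assoc, Category.assoc]
      exact congrArg (fun t => (graph i hi f).hom.left ≫ t) (EtOver.bcMap_snd hi.1 (EtOver.prodSnd N₁ N₂))
    refine h1.trans ?_
    rw [graph_left_snd, graphY_snd]
    rfl

end Graph

theorem isLocallyFull : (EtOver.bc hi.1).IsLocallyFull (etTop Z) where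
  functorPushforward_imageSieve_mem {N₁ N₂} f := by
    have key : ∀ w : ↥((EtOver.bc hi.1).obj N₁).obj.left.left, ∃ (N' : EtOver X) (a : N' ⟶ N₁),
        (∃ b : N' ⟶ N₂, (EtOver.bc hi.1).map b = (EtOver.bc hi.1).map a ≫ f) ∧
          w ∈ Set.range ((EtOver.bc hi.1).map a).hom.left.left := by
      intro w
      let z := geomPt ((EtOver.bc hi.1).obj N₁) w
      have hz : z.IsGeometric := geomPt_isGeometric _ w
      let m := geomLift ((EtOver.bc hi.1).obj N₁) w
      obtain ⟨N', n', q, h, -, hh, hhg⟩ := exists_refine i hi z hz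
        (pushLift i hi z ((FieldPt.liftsTo z).map (graph i hi f) m)) m (graph i hi f)
        (bcLift_pushLift i hi z _).symm
      have ha : (EtOver.bc hi.1).map (q ≫ EtOver.prodFst N₁ N₂) = h := by
        rw [Functor.map_comp, ← hhg, Category.assoc, graph_fst, Category.comp_id]
      refine ⟨N', q ≫ EtOver.prodFst N₁ N₂, ⟨q ≫ EtOver.prodSnd N₁ N₂, ?_⟩, ?_⟩
      · rw [ha, Functor.map_comp, ← hhg, Category.assoc, graph_snd]
      · rw [ha]
        have h2 := mem_range_of_lift z h (bcLift i hi z n') (IsLocalRing.closedPoint z.K : PrimeSpectrum _)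
        rw [hh] at h2
        rwa [geomLift_apply] at h2
    choose N' a hb hw using key
    refine (etTop Z).superset_covering ?_ (ofArrows_mem_etTop (fun w => (EtOver.bc hi.1).obj (N' w))
      (fun w => (EtOver.bc hi.1).map (a w)) (fun w => ⟨w, hw w⟩))
    intro T g hg
    obtain ⟨w, l, rfl⟩ := (Sieve.mem_ofArrows_iff _ _ g).1 hg
    exact ⟨N' w, a w, l, hb w, rfl⟩

end Groth.Agent.Lib.H69PushClosedFF
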