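import Groth.Agent.Lib.H69QuotOpen

/-!
# helper69: restriction of an fppf equivalence relation along a flat lfp map gives an open immersion of quotients
-/

set_option autoImplicit false
universe u

open CategoryTheory CategoryTheory.Limits AlgebraicGeometry Opposite

namespace Groth.Agent.Lib.H69QuotOpen

open AlgSp Groth.Agent.Lib.H69AlgSp Groth.Agent.Lib.H69QuotPres

variable {S : Scheme.{u}} {R U R' U' : Over S} (s t : R ⟶ U) (g : U' ⟶ U) (s' t' : R' ⟶ U') (r : R' ⟶ R)
  (hsq : IsPullback (prod.lift t' s') r (prod.map g g) (prod.lift t s))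
  {F F' : Sp S} (p : (yon S).obj U ⟶ F) (p' : (yon S).obj U' ⟶ F') [Epi p] [Epi p']
  (sqR : IsPullback ((yon S).map t) ((yon S).map s) p p)
  (hc' : (yon S).map t' ≫ p' = (yon S).map s' ≫ p')
  (φ : F' ⟶ F) (hφ : p' ≫ φ = (yon S).map g ≫ p)

include hsq sqR hc' hφ in
theorem mono_quot_map : Mono φ := by
  have hp' : Sheaf.IsLocallySurjective (p') :=
    (Sheaf.isLocallySurjective_iff_epi _).2 inferInstance
  refine mono_of_yon φ fun T a b hab => ?_
  obtain ⟨Ra, hRa, hla⟩ := Groth.Agent.Lib.H69InvSub.exists_sieve_lift (p') a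
  obtain ⟨Rb, hRb, hlb⟩ := Groth.Agent.Lib.H69InvSub.exists_sieve_lift (p') b
  refine eq_of_sieve a b (Ra ⊓ Rb) ((J S).intersection_covering hRa hRb) ?_
  intro T₁ φ₁ hφ₁
  obtain ⟨ya, hya⟩ := hla φ₁ hφ₁.1
  obtain ⟨yb, hyb⟩ := hlb φ₁ hφ₁.2
  obtain ⟨α, rfl⟩ := (yon S).map_surjective ya
  obtain ⟨β, rfl⟩ := (yon S).map_surjective yb
  rw [← hya, ← hyb]
  have e1 : (yon S).map (α ≫ g) ≫ p = (yon S).map (β ≫ g) ≫ p := by
    rw [Functor.map_comp, Functor.map_comp, Category.assoc, Category.assoc, ← hφ, ← Category.assoc,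
      ← Category.assoc, hya, hyb, Category.assoc, Category.assoc, hab]
  obtain ⟨ρ, hρ⟩ := (yon S).map_surjective (sqR.lift _ _ e1)
  have hρt : ρ ≫ t = α ≫ g := (yon S).map_injective (by rw [Functor.map_comp, hρ, sqR.lift_fst])
  have hρs : ρ ≫ s = β ≫ g := (yon S).map_injective (by rw [Functor.map_comp, hρ, sqR.lift_snd])
  have e2 : prod.lift α β ≫ prod.map g g = ρ ≫ prod.lift t s := by
    rw [prod.lift_map, prod.comp_lift, hρt, hρs]
  have h0 := hsq.lift_fst _ _ e2
  obtain ⟨ρ', hρ'1, hρ'2⟩ : ∃ ρ' : T₁ ⟶ R', ρ' ≫ t' = α ∧ ρ' ≫ s' = β := by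
    refine ⟨hsq.lift _ _ e2, ?_, ?_⟩
    · have h1 := congrArg (fun m => m ≫ prod.fst) h0
      rw [Category.assoc, Limits.prod.lift_fst, Limits.prod.lift_fst] at h1
      exact h1
    · have h1 := congrArg (fun m => m ≫ prod.snd) h0
      rw [Category.assoc, Limits.prod.lift_snd, Limits.prod.lift_snd] at h1
      exact h1
  rw [← hρ'1, ← hρ'2, Functor.map_comp, Functor.map_comp, Category.assoc, Category.assoc, hc']

include hsq sqR hc' hφ in
theorem repWith_isOpenImmersion_quot_map [Flat s.left] [LocallyOfFinitePresentation s.left]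
    [Flat g.left] [LocallyOfFinitePresentation g.left] : RepWith @IsOpenImmersion φ := by
  have hmono := mono_quot_map s t g s' t' r hsq p p' sqR hc' φ hφ
  have hp : Sheaf.IsLocallySurjective (p) :=
    (Sheaf.isLocallySurjective_iff_epi _).2 inferInstance
  have hp' : Sheaf.IsLocallySurjective (p') :=
    (Sheaf.isLocallySurjective_iff_epi _).2 inferInstance
  -- the map `q : U' ×_U R ⟶ U`
  let q : pullback g t ⟶ U := pullback.snd g t ≫ s
  have sqP := (IsPullback.of_hasPullback g t).map (Over.forget S)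
  have h2flat : Flat (pullback.snd g t).left :=
    MorphismProperty.of_isPullback (P := @Flat) sqP ‹Flat g.left›
  have h2lfp : LocallyOfFinitePresentation (pullback.snd g t).left :=
    MorphismProperty.of_isPullback (P := @LocallyOfFinitePresentation) sqP ‹LocallyOfFinitePresentation g.left›
  have hqflat : Flat q.left := by
    change Flat ((pullback.snd g t).left ≫ s.left)
    infer_instance
  have hqlfp : LocallyOfFinitePresentation q.left := by
    change LocallyOfFinitePresentation ((pullback.snd g t).left ≫ s.left)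
    infer_instance
  have hqcond : (yon S).map q ≫ p =
      ((yon S).map (pullback.fst g t) ≫ p') ≫ φ := by
    rw [Category.assoc, hφ, ← Category.assoc, ← Functor.map_comp, pullback.condition, Functor.map_comp,
      Functor.map_comp, Category.assoc, Category.assoc, sqR.w]
  let Wop : U.left.Opens := ⟨Set.range q.left, q.left.isOpenMap.isOpen_range⟩
  let W : Over S := Over.mk (Wop.ι ≫ U.hom)
  let w : W ⟶ U := Over.homMk Wop.ι rfl
  have hw : IsOpenImmersion w.left := (inferInstance : IsOpenImmersion Wop.ι)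
  have hrange : Set.range w.left = Set.range q.left := Wop.range_ι
  -- the key equivalence
  have F1 : ∀ {T : Over S} (a : T ⟶ U), Set.range a.left ⊆ Set.range q.left ↔
      ∃ b : (yon S).obj T ⟶ F',
        b ≫ φ = (yon S).map a ≫ p := by
    intro T a
    constructor
    · intro ha
      let c : pullback a q ⟶ T := pullback.fst a q
      have sqT := (IsPullback.of_hasPullback a q).map (Over.forget S)
      have hcflat : Flat c.left := MorphismProperty.of_isPullback (P := @Flat) sqT.flip hqflat
      have hclfp : LocallyOfFinitePresentation c.left :=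
        MorphismProperty.of_isPullback (P := @LocallyOfFinitePresentation) sqT.flip hqlfp
      have hcsurj : Surjective c.left := by
        constructor
        intro x
        obtain ⟨y, hy⟩ := ha ⟨x, rfl⟩
        obtain ⟨ξ, hξ1, -⟩ := exists_point_pullback a q x y hy.symm
        exact ⟨ξ, hξ1⟩
      refine exists_factor_of_fppf φ _ c
        ((yon S).map (pullback.snd a q ≫ pullback.fst g t) ≫ p') ?_
      rw [Functor.map_comp, Category.assoc, Category.assoc, ← Category.assoc ((yon S).map (pullback.fst g t)),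
        ← hqcond, ← Category.assoc, ← Functor.map_comp, ← pullback.condition, Functor.map_comp,
        Category.assoc]
    · rintro ⟨b, hb⟩ _ ⟨x, rfl⟩
      obtain ⟨Rc, hRc, hlift⟩ := exists_cover_lift (p') b
      have hRc' : Rc ∈ Scheme.precoverage (@Flat ⊓ @LocallyOfFinitePresentation) T.left := hRc
      obtain ⟨hsurj, -⟩ := hRc'
      rw [Presieve.mem_comap_jointlySurjectivePrecoverage_iff] at hsurj
      obtain ⟨T₁, g₁, hg₁, y, hy⟩ := hsurj x
      obtain ⟨yl, hyl⟩ := hlift g₁ hg₁
      obtain ⟨β, rfl⟩ := (yon S).map_surjective yl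
      let g₁' : Over.mk (g₁ ≫ T.hom) ⟶ T := Over.homMk g₁
      have e1 : (yon S).map (β ≫ g) ≫ p = (yon S).map (g₁' ≫ a) ≫ p := by
        rw [Functor.map_comp, Functor.map_comp, Category.assoc, Category.assoc, ← hφ, ← Category.assoc, hyl,
          Category.assoc, hb]
      obtain ⟨ρ, hρ⟩ := (yon S).map_surjective (sqR.lift _ _ e1)
      have hρt : ρ ≫ t = β ≫ g := (yon S).map_injective (by rw [Functor.map_comp, hρ, sqR.lift_fst])
      have hρs : ρ ≫ s = g₁' ≫ a := (yon S).map_injective (by rw [Functor.map_comp, hρ, sqR.lift_snd])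
      let l : Over.mk (g₁ ≫ T.hom) ⟶ pullback g t := pullback.lift β ρ hρt.symm
      have hl : l ≫ q = g₁' ≫ a := by
        rw [← Category.assoc, pullback.lift_snd, hρs]
      refine ⟨l.left y, ?_⟩
      rw [← Scheme.Hom.comp_apply, ← Over.comp_left, hl]
      exact congrArg (fun z => a.left z) hy
  obtain ⟨b₀, hb₀⟩ := (F1 w).1 hrange.le
  have sq : IsPullback b₀ ((yon S).map w) φ (p) := by
    have hmonow : Mono w := by
      have : Mono w.left := (inferInstance : Mono Wop.ι)
      exact mono_over_of_mono_left w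
    refine isPullback_of_yon hb₀ ?_ ?_
    · intro T'' q₁ q₂ _ h2
      obtain ⟨l, rfl⟩ := (yon S).map_surjective q₁
      obtain ⟨l', rfl⟩ := (yon S).map_surjective q₂
      rw [← Functor.map_comp, ← Functor.map_comp] at h2
      rw [(cancel_mono w).1 ((yon S).map_injective h2)]
    · intro T'' x y hxy
      obtain ⟨a, rfl⟩ := (yon S).map_surjective y
      have hr : Set.range a.left ⊆ Set.range Wop.ι := by
        have := (F1 a).2 ⟨x, hxy⟩
        rwa [← hrange] at this
      let l₀ : T''.left ⟶ W.left := IsOpenImmersion.lift Wop.ι a.left hr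
      have hl₀ : l₀ ≫ Wop.ι = a.left := IsOpenImmersion.lift_fac _ _ _
      let l : T'' ⟶ W := Over.homMk l₀ (by
        change l₀ ≫ Wop.ι ≫ U.hom = T''.hom
        rw [← Category.assoc, hl₀, Over.w a])
      have e : l ≫ w = a := by
        ext
        exact hl₀
      refine ⟨(yon S).map l, ?_, ?_⟩
      · rw [← cancel_mono φ, Category.assoc, hb₀, ← Category.assoc, ← Functor.map_comp, e, hxy]
      · rw [← Functor.map_comp, e]
  exact repWith_isOpenImmersion_of_chart φ (p) w b₀ sq

end Groth.Agent.Lib.H69QuotOpen
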