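import Groth.Agent.Lib.H69QuotOpen2
import Groth.Agent.Lib.H43SpQuot
import Groth.Agent.Lib.H86AlgSpOpen

/-!
# helper69: restriction of a pre-equivalence relation (groupoid) gives an open immersion of quotients

Generalisation of `Lib/H69QuotOpen2` where the kernel pair hypothesis is replaced by a "local relation" hypothesis
(as holds for the quotient by a pre-equivalence relation, e.g. a groupoid), and the open image and the surjectivity
onto it are hypotheses.
-/

set_option autoImplicit false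
universe u

open CategoryTheory CategoryTheory.Limits AlgebraicGeometry Opposite

namespace Groth.Agent.Lib.H69QuotOpen

open AlgSp Groth.Agent.Lib.H69AlgSp Groth.Agent.Lib.H69QuotPres

section LocalRel

variable {S : Scheme.{u}} {R U : Over S} {s t : R ⟶ U}

/-- For a pre-equivalence relation on a scheme, two points with the same image in the quotient sheaf are locally
related. -/
theorem exists_local_rel_quotMap (hpre : IsPreEqvRelSp ((yon S).map s) ((yon S).map t)) {T : Over S}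
    (a b : T ⟶ U) (hab : (yon S).map a ≫ quotMap s t = (yon S).map b ≫ quotMap s t) :
    ∃ 𝒮 ∈ J S T, ∀ ⦃T' : Over S⦄ (h : T' ⟶ T), 𝒮 h →
      ∃ ρ : T' ⟶ R, ρ ≫ t = h ≫ a ∧ ρ ≫ s = h ≫ b := by
  have hcond : QuotSh.repMap Scheme.fppfPrecoverage s ≫ (rIso U).hom ≫ quotSpπ ((yon S).map s) ((yon S).map t) =
      QuotSh.repMap Scheme.fppfPrecoverage t ≫ (rIso U).hom ≫ quotSpπ ((yon S).map s) ((yon S).map t) := by
    rw [← Category.assoc, rIso_naturality, ← Category.assoc, rIso_naturality, Category.assoc, Category.assoc,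
      quotSp_condition]
  let ψ : QuotSh.quot Scheme.fppfPrecoverage s t ⟶ quotSp ((yon S).map s) ((yon S).map t) :=
    coequalizer.desc ((rIso U).hom ≫ quotSpπ _ _) hcond
  have hψ : quotMap s t ≫ ψ = quotSpπ ((yon S).map s) ((yon S).map t) := by
    have h1 : QuotSh.quotπ Scheme.fppfPrecoverage s t ≫ ψ = (rIso U).hom ≫ quotSpπ _ _ :=
      coequalizer.π_desc _ _
    rw [quotMap, Category.assoc, h1, Iso.inv_hom_id_assoc]
  have hab' : (yon S).map a ≫ quotSpπ ((yon S).map s) ((yon S).map t) =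
      (yon S).map b ≫ quotSpπ ((yon S).map s) ((yon S).map t) := by
    rw [← hψ, ← Category.assoc, hab, Category.assoc]
  obtain ⟨𝒮, h𝒮, hrel⟩ := Groth.Agent.Lib.H43SpQuot.exists_local_rel hpre _ _ hab'
  refine ⟨𝒮, h𝒮, fun T' h hh => ?_⟩
  obtain ⟨r, hr1, hr2⟩ := hrel h hh
  obtain ⟨ρ, rfl⟩ := (yon S).map_surjective r
  refine ⟨ρ, (yon S).map_injective ?_, (yon S).map_injective ?_⟩
  · rw [Functor.map_comp, hr1, Functor.map_comp]
  · rw [Functor.map_comp, hr2, Functor.map_comp]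

end LocalRel

section Restrict

variable {S : Scheme.{u}} {R U R' U' : Over S} (s t : R ⟶ U) (g : U' ⟶ U) (s' t' : R' ⟶ U') (r : R' ⟶ R)
  (hsq : IsPullback (prod.lift t' s') r (prod.map g g) (prod.lift t s))
  {F F' : Sp S} (p : (yon S).obj U ⟶ F) (p' : (yon S).obj U' ⟶ F') [Epi p] [Epi p']
  (hc : (yon S).map t ≫ p = (yon S).map s ≫ p)
  (hrel : ∀ {T : Over S} (a b : T ⟶ U), (yon S).map a ≫ p = (yon S).map b ≫ p →
    ∃ 𝒮 ∈ J S T, ∀ ⦃T' : Over S⦄ (h : T' ⟶ T), 𝒮 h → ∃ ρ : T' ⟶ R, ρ ≫ t = h ≫ a ∧ ρ ≫ s = h ≫ b)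
  (hc' : (yon S).map t' ≫ p' = (yon S).map s' ≫ p')
  (φ : F' ⟶ F) (hφ : p' ≫ φ = (yon S).map g ≫ p)

include hsq hrel hc' hφ in
theorem mono_quot_map_of_local_rel : Mono φ := by
  have hp' : Sheaf.IsLocallySurjective (p') :=
    (Sheaf.isLocallySurjective_iff_epi _).2 inferInstance
  refine mono_of_yon φ fun T a b hab => ?_
  obtain ⟨Ra, hRa, hla⟩ := Groth.Agent.Lib.H69InvSub.exists_sieve_lift (p') a
  obtain ⟨Rb, hRb, hlb⟩ := Groth.Agent.Lib.H69InvSub.exists_sieve_lift (p') b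
  refine eq_of_sieve a b (Ra ⊓ Rb) ((J S).intersection_covering hRa hRb) ?_
  intro T₁ φ₁ hφ₁
  obtain ⟨ya, hya⟩ := hla φ₁ hφ₁.1
  obtain ⟨yb, hyb⟩ := hlb φ₁ hφ₁.2
  obtain ⟨α, rfl⟩ := (yon S).map_surjective ya
  obtain ⟨β, rfl⟩ := (yon S).map_surjective yb
  rw [← hya, ← hyb]
  have e1 : (yon S).map (α ≫ g) ≫ p = (yon S).map (β ≫ g) ≫ p := by
    rw [Functor.map_comp, Functor.map_comp, Category.assoc, Category.assoc, ← hφ, ← Category.assoc,
      ← Category.assoc, hya, hyb, Category.assoc, Category.assoc, hab]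
  obtain ⟨𝒮, h𝒮, hloc⟩ := hrel _ _ e1
  refine eq_of_sieve _ _ 𝒮 h𝒮 ?_
  intro T₂ h hh
  obtain ⟨ρ, hρt, hρs⟩ := hloc h hh
  have e2 : prod.lift (h ≫ α) (h ≫ β) ≫ prod.map g g = ρ ≫ prod.lift t s := by
    rw [prod.lift_map, prod.comp_lift, hρt, hρs, Category.assoc, Category.assoc]
  have h0 := hsq.lift_fst _ _ e2
  obtain ⟨ρ', hρ'1, hρ'2⟩ : ∃ ρ' : T₂ ⟶ R', ρ' ≫ t' = h ≫ α ∧ ρ' ≫ s' = h ≫ β := by
    refine ⟨hsq.lift _ _ e2, ?_, ?_⟩
    · have h1 := congrArg (fun m => m ≫ prod.fst) h0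
      rw [Category.assoc, Limits.prod.lift_fst, Limits.prod.lift_fst] at h1
      exact h1
    · have h1 := congrArg (fun m => m ≫ prod.snd) h0
      rw [Category.assoc, Limits.prod.lift_snd, Limits.prod.lift_snd] at h1
      exact h1
  rw [← Category.assoc, ← Category.assoc, ← Functor.map_comp, ← Functor.map_comp, ← hρ'1, ← hρ'2,
    Functor.map_comp, Functor.map_comp, Category.assoc, Category.assoc, hc']

variable {P W : Over S} (pr1 : P ⟶ U') (pr2 : P ⟶ R) (hP : pr1 ≫ g = pr2 ≫ t)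
  (hPlift : ∀ {T : Over S} (β : T ⟶ U') (ρ : T ⟶ R), β ≫ g = ρ ≫ t → ∃ l : T ⟶ P, l ≫ pr1 = β ∧ l ≫ pr2 = ρ)
  (w : W ⟶ U) [IsOpenImmersion w.left] (hl : P ⟶ W) (hhl : hl ≫ w = pr2 ≫ s)
  (hrange : Set.range w.left = Set.range (pr2 ≫ s).left)
  [Sheaf.IsLocallySurjective ((yon S).map hl)]

include hsq hc hrel hc' hφ hP hPlift hhl hrange in
theorem repWith_isOpenImmersion_quot_map_of_local_rel : RepWith @IsOpenImmersion φ := by
  have hmono := mono_quot_map_of_local_rel s t g s' t' r hsq p p' hrel hc' φ hφ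
  have hp : Sheaf.IsLocallySurjective (p) :=
    (Sheaf.isLocallySurjective_iff_epi _).2 inferInstance
  have hp' : Sheaf.IsLocallySurjective (p') :=
    (Sheaf.isLocallySurjective_iff_epi _).2 inferInstance
  have hqcond : (yon S).map (pr2 ≫ s) ≫ p = ((yon S).map pr1 ≫ p') ≫ φ := by
    rw [Category.assoc, hφ, ← Category.assoc, ← Functor.map_comp, hP, Functor.map_comp,
      Functor.map_comp, Category.assoc, Category.assoc, hc]
  have hmonow : Mono w := by
    have : Mono w.left := inferInstance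
    exact mono_over_of_mono_left w
  -- the key equivalence
  have F1 : ∀ {T : Over S} (a : T ⟶ U), Set.range a.left ⊆ Set.range w.left ↔
      ∃ b : (yon S).obj T ⟶ F', b ≫ φ = (yon S).map a ≫ p := by
    intro T a
    constructor
    · intro ha
      let l₀ : T.left ⟶ W.left := IsOpenImmersion.lift w.left a.left ha
      have hl₀ : l₀ ≫ w.left = a.left := IsOpenImmersion.lift_fac _ _ _
      let a' : T ⟶ W := Over.homMk l₀ (by
        rw [← Over.w w, ← Category.assoc, hl₀, Over.w a])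
      have ea : a' ≫ w = a := by
        ext
        exact hl₀
      obtain ⟨Rs, hRs, hlift⟩ := Groth.Agent.Lib.H69InvSub.exists_sieve_lift ((yon S).map hl) ((yon S).map a')
      refine exists_factor_of_sieve φ _ Rs hRs ?_
      intro T₁ φ₁ hφ₁
      obtain ⟨y, hy⟩ := hlift φ₁ hφ₁
      obtain ⟨lam, rfl⟩ := (yon S).map_surjective y
      refine ⟨(yon S).map (lam ≫ pr1) ≫ p', ?_⟩
      have e2 : lam ≫ pr2 ≫ s = φ₁ ≫ a := by
        rw [← hhl, ← ea, ← Category.assoc, ← Category.assoc]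
        congr 1
        apply (yon S).map_injective
        rw [Functor.map_comp, hy, Functor.map_comp]
      rw [Functor.map_comp, Category.assoc, Category.assoc, ← Category.assoc ((yon S).map pr1), ← hqcond,
        ← Category.assoc, ← Functor.map_comp, e2, Functor.map_comp, Category.assoc]
    · rintro ⟨b, hb⟩ _ ⟨x, rfl⟩
      obtain ⟨Rb, hRb, hlb⟩ := Groth.Agent.Lib.H69InvSub.exists_sieve_lift (p') b
      obtain ⟨T₁, φ₁, y₁, hφ₁, hy₁⟩ := Groth.Agent.Lib.H86AlgSpOpen.exists_of_mem_J hRb x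
      obtain ⟨yl, hyl⟩ := hlb φ₁ hφ₁
      obtain ⟨β, rfl⟩ := (yon S).map_surjective yl
      have e1 : (yon S).map (β ≫ g) ≫ p = (yon S).map (φ₁ ≫ a) ≫ p := by
        rw [Functor.map_comp, Functor.map_comp, Category.assoc, Category.assoc, ← hφ, ← Category.assoc, hyl,
          Category.assoc, hb]
      obtain ⟨𝒮, h𝒮, hloc⟩ := hrel _ _ e1
      obtain ⟨T₂, φ₂, y₂, hφ₂, hy₂⟩ := Groth.Agent.Lib.H86AlgSpOpen.exists_of_mem_J h𝒮 y₁
      obtain ⟨ρ, hρt, hρs⟩ := hloc φ₂ hφ₂
      obtain ⟨l, hl1, hl2⟩ := hPlift (φ₂ ≫ β) ρ (by rw [hρt, Category.assoc])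
      rw [hrange]
      refine ⟨l.left y₂, ?_⟩
      rw [← Scheme.Hom.comp_apply, ← Over.comp_left, ← Category.assoc, hl2, hρs, Over.comp_left,
        Over.comp_left, Scheme.Hom.comp_apply, Scheme.Hom.comp_apply, hy₂, hy₁]
  obtain ⟨b₀, hb₀⟩ := (F1 w).1 le_rfl
  have sq : IsPullback b₀ ((yon S).map w) φ (p) := by
    refine isPullback_of_yon hb₀ ?_ ?_
    · intro T'' q₁ q₂ _ h2
      obtain ⟨l, rfl⟩ := (yon S).map_surjective q₁
      obtain ⟨l', rfl⟩ := (yon S).map_surjective q₂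
      rw [← Functor.map_comp, ← Functor.map_comp] at h2
      rw [(cancel_mono w).1 ((yon S).map_injective h2)]
    · intro T'' x y hxy
      obtain ⟨a, rfl⟩ := (yon S).map_surjective y
      have hr : Set.range a.left ⊆ Set.range w.left := (F1 a).2 ⟨x, hxy⟩
      let l₀ : T''.left ⟶ W.left := IsOpenImmersion.lift w.left a.left hr
      have hl₀ : l₀ ≫ w.left = a.left := IsOpenImmersion.lift_fac _ _ _
      let l : T'' ⟶ W := Over.homMk l₀ (by
        rw [← Over.w w, ← Category.assoc, hl₀, Over.w a])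
      have e : l ≫ w = a := by
        ext
        exact hl₀
      refine ⟨(yon S).map l, ?_, ?_⟩
      · rw [← cancel_mono φ, Category.assoc, hb₀, ← Category.assoc, ← Functor.map_comp, e, hxy]
      · rw [← Functor.map_comp, e]
  exact repWith_isOpenImmersion_of_chart φ (p) w b₀ sq

end Restrict

end Groth.Agent.Lib.H69QuotOpen
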