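import Mathlib

/-!
# helper69: valuation ring constructions for the refined valuative criterion

* `composite A B`: the composite of a valuation subring `A` of `K` and a valuation subring `B` of its residue field.
* `overring`: given valuation subrings `A₄ ≤ A₂` of `K₂`, a field map `ψ : K₂ → K₅` and a valuation subring `A₅` of
  `K₅` containing `ψ A₄`, the localization of `A₅` at the image of `A₄ \ m_{A₂}`; it contains `ψ A₂`.
* `residueImage R S`: the image of a valuation subring `R ≤ S` in the residue field of `S`.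
-/

set_option autoImplicit false

open IsLocalRing

namespace Groth.Agent.Lib.H69RefVal

section Composite

variable {K : Type*} [Field K]

/-- The subring underlying the composite of a valuation subring and a valuation subring of its residue field. -/
def compositeSubring (A : ValuationSubring K) (B : ValuationSubring (ResidueField A)) : Subring K :=
  (B.toSubring.comap (residue A)).map A.subtype

theorem mem_compositeSubring {A : ValuationSubring K} {B : ValuationSubring (ResidueField A)} {x : K} :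
    x ∈ compositeSubring A B ↔ ∃ h : x ∈ A, residue A ⟨x, h⟩ ∈ B := by
  constructor
  · rintro ⟨y, hy, rfl⟩
    exact ⟨y.2, hy⟩
  · rintro ⟨h, hx⟩
    exact ⟨⟨x, h⟩, hx, rfl⟩

theorem compositeSubring_aux (A : ValuationSubring K) (B : ValuationSubring (ResidueField A)) (x : K)
    (hx : x ∈ A) : x ∈ compositeSubring A B ∨ x⁻¹ ∈ compositeSubring A B := by
  by_cases hu : IsUnit (⟨x, hx⟩ : A)
  · rcases B.mem_or_inv_mem (residue A ⟨x, hx⟩) with h | h
    · exact Or.inl (mem_compositeSubring.2 ⟨hx, h⟩)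
    · right
      obtain ⟨y, hy⟩ := isUnit_iff_exists_inv.1 hu
      have hy' : x * (y : K) = 1 := congrArg Subtype.val hy
      have hxy : x⁻¹ = (y : K) := inv_eq_of_mul_eq_one_right hy'
      rw [hxy]
      refine mem_compositeSubring.2 ⟨y.2, ?_⟩
      have h1 : residue A ⟨x, hx⟩ * residue A y = 1 := by
        rw [← map_mul, hy, map_one]
      have h2 : (residue A ⟨x, hx⟩)⁻¹ = residue A y := inv_eq_of_mul_eq_one_right h1
      rw [← h2]
      exact h
  · left
    refine mem_compositeSubring.2 ⟨hx, ?_⟩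
    have : residue A ⟨x, hx⟩ = 0 := (residue_eq_zero_iff _).2 ((mem_maximalIdeal _).2 hu)
    rw [this]
    exact B.zero_mem

/-- The composite of a valuation subring `A` of `K` with a valuation subring `B` of the residue field of `A`: the
elements of `A` whose residue lies in `B`. -/
def composite (A : ValuationSubring K) (B : ValuationSubring (ResidueField A)) : ValuationSubring K :=
  ValuationSubring.ofSubring (compositeSubring A B) (by
    intro x
    rcases A.mem_or_inv_mem x with hx | hx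
    · exact compositeSubring_aux A B x hx
    · rcases compositeSubring_aux A B x⁻¹ hx with h | h
      · exact Or.inr h
      · rw [inv_inv] at h
        exact Or.inl h)

theorem mem_composite {A : ValuationSubring K} {B : ValuationSubring (ResidueField A)} {x : K} :
    x ∈ composite A B ↔ ∃ h : x ∈ A, residue A ⟨x, h⟩ ∈ B :=
  mem_compositeSubring

theorem composite_le (A : ValuationSubring K) (B : ValuationSubring (ResidueField A)) : composite A B ≤ A :=
  fun _ hx => (mem_composite.1 hx).1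

/-- The residue map from the composite onto `B`. -/
noncomputable def compositeToResidue (A : ValuationSubring K) (B : ValuationSubring (ResidueField A)) :
    composite A B →+* B :=
  ((residue A).comp (ValuationSubring.inclusion _ _ (composite_le A B))).codRestrict B.toSubring
    (fun x => (mem_composite.1 x.2).2)

theorem compositeToResidue_coe (A : ValuationSubring K) (B : ValuationSubring (ResidueField A))
    (x : composite A B) :
    ((compositeToResidue A B x : B) : ResidueField A) =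
      residue A (ValuationSubring.inclusion _ _ (composite_le A B) x) := rfl

theorem compositeToResidue_surjective (A : ValuationSubring K) (B : ValuationSubring (ResidueField A)) :
    Function.Surjective (compositeToResidue A B) := by
  intro y
  obtain ⟨a, ha⟩ := residue_surjective (y : ResidueField A)
  have hmem : (a : K) ∈ composite A B := mem_composite.2 ⟨a.2, by
    change residue A a ∈ B
    rw [ha]
    exact y.2⟩
  refine ⟨⟨a, hmem⟩, ?_⟩
  apply Subtype.ext
  exact ha

/-- Non-units of `A` lie in the composite. -/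
theorem mem_composite_of_not_isUnit {A : ValuationSubring K} {B : ValuationSubring (ResidueField A)}
    (a : A) (ha : ¬ IsUnit a) : (a : K) ∈ composite A B := by
  refine mem_composite.2 ⟨a.2, ?_⟩
  have : residue A a = 0 := (residue_eq_zero_iff _).2 ((mem_maximalIdeal _).2 ha)
  change residue A a ∈ B
  rw [this]
  exact B.zero_mem

end Composite

section Overring

variable {K₂ K₅ : Type*} [Field K₂] [Field K₅]

/-- The localization of `A₅` at the image of the elements of `A₄` that are units of `A₂`, as a subring of `K₅`. -/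
def overSubring (A₄ A₂ : ValuationSubring K₂) (ψ : K₂ →+* K₅) (A₅ : ValuationSubring K₅)
    (hψ : ∀ a ∈ A₄, ψ a ∈ A₅) : Subring K₅ where
  carrier := {x | ∃ s : K₂, s ∈ A₄ ∧ s ≠ 0 ∧ s⁻¹ ∈ A₂ ∧ x * ψ s ∈ A₅}
  mul_mem' := by
    rintro x y ⟨s, hs4, hs0, hs2, hx⟩ ⟨s', hs4', hs0', hs2', hy⟩
    refine ⟨s * s', A₄.mul_mem _ _ hs4 hs4', mul_ne_zero hs0 hs0', ?_, ?_⟩
    · rw [mul_inv]
      exact A₂.mul_mem _ _ hs2 hs2'
    · have : x * y * ψ (s * s') = (x * ψ s) * (y * ψ s') := by
        rw [map_mul]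
        ring
      rw [this]
      exact A₅.mul_mem _ _ hx hy
  one_mem' := ⟨1, A₄.one_mem, one_ne_zero, by rw [inv_one]; exact A₂.one_mem, by
    rw [map_one, mul_one]; exact A₅.one_mem⟩
  add_mem' := by
    rintro x y ⟨s, hs4, hs0, hs2, hx⟩ ⟨s', hs4', hs0', hs2', hy⟩
    refine ⟨s * s', A₄.mul_mem _ _ hs4 hs4', mul_ne_zero hs0 hs0', ?_, ?_⟩
    · rw [mul_inv]
      exact A₂.mul_mem _ _ hs2 hs2'
    · have : (x + y) * ψ (s * s') = (x * ψ s) * ψ s' + (y * ψ s') * ψ s := by
        rw [map_mul]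
        ring
      rw [this]
      exact A₅.add_mem _ _ (A₅.mul_mem _ _ hx (hψ _ hs4')) (A₅.mul_mem _ _ hy (hψ _ hs4))
  zero_mem' := ⟨1, A₄.one_mem, one_ne_zero, by rw [inv_one]; exact A₂.one_mem, by
    rw [zero_mul]; exact A₅.zero_mem⟩
  neg_mem' := by
    rintro x ⟨s, hs4, hs0, hs2, hx⟩
    exact ⟨s, hs4, hs0, hs2, by rw [neg_mul]; exact A₅.neg_mem _ hx⟩

theorem le_overSubring (A₄ A₂ : ValuationSubring K₂) (ψ : K₂ →+* K₅) (A₅ : ValuationSubring K₅)
    (hψ : ∀ a ∈ A₄, ψ a ∈ A₅) : A₅.toSubring ≤ overSubring A₄ A₂ ψ A₅ hψ := by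
  intro x hx
  exact ⟨1, A₄.one_mem, one_ne_zero, by rw [inv_one]; exact A₂.one_mem, by
    rw [map_one, mul_one]; exact hx⟩

/-- The overring of `A₅` generated by the inverses of the images of the elements of `A₄` that are units in `A₂`. -/
def overring (A₄ A₂ : ValuationSubring K₂) (ψ : K₂ →+* K₅) (A₅ : ValuationSubring K₅)
    (hψ : ∀ a ∈ A₄, ψ a ∈ A₅) : ValuationSubring K₅ :=
  ValuationSubring.ofLE A₅ (overSubring A₄ A₂ ψ A₅ hψ) (le_overSubring A₄ A₂ ψ A₅ hψ)

theorem mem_overring {A₄ A₂ : ValuationSubring K₂} {ψ : K₂ →+* K₅} {A₅ : ValuationSubring K₅}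
    {hψ : ∀ a ∈ A₄, ψ a ∈ A₅} {x : K₅} :
    x ∈ overring A₄ A₂ ψ A₅ hψ ↔ ∃ s : K₂, s ∈ A₄ ∧ s ≠ 0 ∧ s⁻¹ ∈ A₂ ∧ x * ψ s ∈ A₅ := Iff.rfl

theorem le_overring (A₄ A₂ : ValuationSubring K₂) (ψ : K₂ →+* K₅) (A₅ : ValuationSubring K₅)
    (hψ : ∀ a ∈ A₄, ψ a ∈ A₅) : A₅ ≤ overring A₄ A₂ ψ A₅ hψ :=
  fun _ hx => le_overSubring A₄ A₂ ψ A₅ hψ hx

theorem map_mem_overring (A₄ A₂ : ValuationSubring K₂) (ψ : K₂ →+* K₅) (A₅ : ValuationSubring K₅)
    (hψ : ∀ a ∈ A₄, ψ a ∈ A₅) (y : K₂) (hy : y ∈ A₂) : ψ y ∈ overring A₄ A₂ ψ A₅ hψ := by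
  rcases A₄.mem_or_inv_mem y with h | h
  · exact le_overring A₄ A₂ ψ A₅ hψ (hψ y h)
  · by_cases h0 : y = 0
    · rw [h0, map_zero]
      exact (overring A₄ A₂ ψ A₅ hψ).zero_mem
    · refine mem_overring.2 ⟨y⁻¹, h, inv_ne_zero h0, by rw [inv_inv]; exact hy, ?_⟩
      rw [← map_mul, mul_inv_cancel₀ h0, map_one]
      exact A₅.one_mem

/-- The map `A₂ → overring` is local: non-units of `A₂` map to non-units. -/
theorem inv_map_not_mem_overring (A₄ A₂ : ValuationSubring K₂) (h42 : A₄ ≤ A₂) (ψ : K₂ →+* K₅)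
    (A₅ : ValuationSubring K₅) (hψ : ∀ a ∈ A₄, ψ a ∈ A₅)
    (hloc : ∀ a ∈ A₄, a ≠ 0 → (ψ a)⁻¹ ∈ A₅ → a⁻¹ ∈ A₄)
    (y : K₂) (hy : y ∈ A₂) (hy0 : y ≠ 0) (hyinv : y⁻¹ ∉ A₂) : (ψ y)⁻¹ ∉ overring A₄ A₂ ψ A₅ hψ := by
  rintro ⟨s, hs4, hs0, hs2, hx⟩
  have hc2 : y * s⁻¹ ∈ A₂ := A₂.mul_mem _ _ hy hs2
  have hcinv2 : (y * s⁻¹)⁻¹ ∉ A₂ := by
    intro h
    apply hyinv
    have : y⁻¹ = s⁻¹ * (y * s⁻¹)⁻¹ := by
      rw [mul_inv, inv_inv, ← mul_assoc, mul_comm s⁻¹ y⁻¹, mul_assoc, inv_mul_cancel₀ hs0, mul_one]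
    rw [this]
    exact A₂.mul_mem _ _ hs2 h
  have hc4 : y * s⁻¹ ∈ A₄ := by
    rcases A₄.mem_or_inv_mem (y * s⁻¹) with h | h
    · exact h
    · exact absurd (h42 h) hcinv2
  have hc0 : y * s⁻¹ ≠ 0 := mul_ne_zero hy0 (inv_ne_zero hs0)
  have h5 : (ψ (y * s⁻¹))⁻¹ ∈ A₅ := by
    have : (ψ (y * s⁻¹))⁻¹ = (ψ y)⁻¹ * ψ s := by
      rw [map_mul, map_inv₀, mul_inv, inv_inv]
    rw [this]
    exact hx
  exact hcinv2 (h42 (hloc _ hc4 hc0 h5))

end Overring

section ResidueImage

variable {K : Type*} [Field K]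

/-- The image of a valuation subring `R ≤ S` in the residue field of `S`. -/
noncomputable def residueImage (R S : ValuationSubring K) (h : R ≤ S) : ValuationSubring (ResidueField S) :=
  ValuationSubring.ofSubring ((residue S).comp (ValuationSubring.inclusion R S h)).range (by
    intro y
    obtain ⟨x, rfl⟩ := residue_surjective y
    rcases R.mem_or_inv_mem (x : K) with hx | hx
    · left
      exact ⟨⟨x, hx⟩, rfl⟩
    · right
      by_cases h0 : (x : K) = 0
      · have hx0 : x = 0 := Subtype.ext h0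
        rw [hx0, map_zero, inv_zero]
        exact Subring.zero_mem _
      · refine ⟨⟨(x : K)⁻¹, hx⟩, ?_⟩
        have h1 : x * (ValuationSubring.inclusion R S h ⟨(x : K)⁻¹, hx⟩) = 1 :=
          Subtype.ext (mul_inv_cancel₀ h0)
        have h2 : residue S x * residue S (ValuationSubring.inclusion R S h ⟨(x : K)⁻¹, hx⟩) = 1 := by
          rw [← map_mul, h1, map_one]
        exact (inv_eq_of_mul_eq_one_right h2).symm)

theorem mem_residueImage {R S : ValuationSubring K} {h : R ≤ S} {y : ResidueField S} :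
    y ∈ residueImage R S h ↔ ∃ x : R, residue S (ValuationSubring.inclusion R S h x) = y := Iff.rfl

/-- The map from `R` onto its image in the residue field of `S`. -/
noncomputable def toResidueImage (R S : ValuationSubring K) (h : R ≤ S) : R →+* residueImage R S h :=
  ((residue S).comp (ValuationSubring.inclusion R S h)).codRestrict (residueImage R S h).toSubring
    (fun x => ⟨x, rfl⟩)

theorem toResidueImage_coe (R S : ValuationSubring K) (h : R ≤ S) (x : R) :
    ((toResidueImage R S h x : residueImage R S h) : ResidueField S) =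
      residue S (ValuationSubring.inclusion R S h x) := rfl

end ResidueImage

section PolynomialTrick

universe u

/-- Given a local ring `O` with a map `α` to a field `L` and a local map `β` to a field `K₁`, there are a field `K₂ ⊇ L`
and a valuation subring `A₂` of `K₂` dominating `O` (through `α`) whose residue field contains `K₁` compatibly with
`β`. -/
theorem exists_valuationSubring_residue_extension {O L K₁ : Type u} [CommRing O] [IsLocalRing O] [Field L]
    [Field K₁] (α : O →+* L) (β : O →+* K₁) [IsLocalHom β] :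
    ∃ (K₂ : Type u) (_ : Field K₂) (ιL : L →+* K₂) (A₂ : ValuationSubring K₂) (γ : O →+* A₂)
      (ρ₂ : K₁ →+* ResidueField A₂),
      IsLocalHom γ ∧ (algebraMap A₂ K₂).comp γ = ιL.comp α ∧ ρ₂.comp β = (residue A₂).comp γ := by
  classical
  let R₀ := MvPolynomial K₁ O
  let Q := MvPolynomial K₁ L
  let K₂ := FractionRing Q
  let ev : R₀ →+* K₁ := MvPolynomial.eval₂Hom β id
  let 𝔭₀ : Ideal R₀ := RingHom.ker ev
  have h𝔭₀ : 𝔭₀.IsPrime := RingHom.ker_isPrime ev
  let Φ : R₀ →+* K₂ := (algebraMap Q K₂).comp (MvPolynomial.map α)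
  have hβmax : ∀ a : O, a ∈ maximalIdeal O → β a = 0 := by
    intro a ha
    by_contra h
    have : IsUnit (β a) := isUnit_iff_ne_zero.2 h
    exact ((mem_maximalIdeal _).1 ha) (isUnit_of_map_unit β a this)
  have hkerα : RingHom.ker α ≤ maximalIdeal O := by
    apply le_maximalIdeal
    rw [Ne, Ideal.eq_top_iff_one, RingHom.mem_ker, map_one]
    exact one_ne_zero
  have hΦ : ∀ r : R₀, ev r ≠ 0 → Φ r ≠ 0 := by
    intro r hr hΦr
    apply hr
    have h1 : MvPolynomial.map α r = 0 := by
      have : algebraMap Q K₂ (MvPolynomial.map α r) = 0 := hΦr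
      exact (IsFractionRing.injective Q K₂) (this.trans (map_zero _).symm)
    have h2 : MvPolynomial.map β r = 0 := by
      ext m
      rw [MvPolynomial.coeff_map, MvPolynomial.coeff_zero]
      apply hβmax
      apply hkerα
      rw [RingHom.mem_ker]
      have := congrArg (MvPolynomial.coeff m) h1
      rwa [MvPolynomial.coeff_map, MvPolynomial.coeff_zero] at this
    change MvPolynomial.eval₂ β id r = 0
    rw [MvPolynomial.eval₂_eq_eval_map, h2, map_zero]
  have hunit : ∀ y : 𝔭₀.primeCompl, IsUnit (Φ y) := by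
    intro y
    apply isUnit_iff_ne_zero.2
    apply hΦ
    exact fun h => y.2 h
  let Loc := Localization.AtPrime 𝔭₀
  let Φ' : Loc →+* K₂ := IsLocalization.lift (M := 𝔭₀.primeCompl) (g := Φ) hunit
  have hΦ' : ∀ r : R₀, Φ' (algebraMap R₀ Loc r) = Φ r := fun r => IsLocalization.lift_eq hunit r
  obtain ⟨A₂, hA₂, hloc⟩ := exists_factor_valuationRing Φ'
  let Φ'' : Loc →+* A₂ := Φ'.codRestrict A₂.toSubring hA₂
  let toLoc : O →+* Loc := (algebraMap R₀ Loc).comp MvPolynomial.C
  have hevC : ∀ a : O, ev (MvPolynomial.C a) = β a := fun a => MvPolynomial.eval₂_C _ _ _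
  have htoLoc : IsLocalHom toLoc := by
    constructor
    intro a ha
    have h1 : (MvPolynomial.C a : R₀) ∈ 𝔭₀.primeCompl :=
      (IsLocalization.AtPrime.isUnit_to_map_iff Loc 𝔭₀ _).1 ha
    have h2 : β a ≠ 0 := by
      rw [← hevC]
      exact fun h => h1 h
    exact isUnit_of_map_unit β a (isUnit_iff_ne_zero.2 h2)
  let γ : O →+* A₂ := Φ''.comp toLoc
  have hγ : IsLocalHom γ := by
    constructor
    intro a ha
    have h1 : IsUnit (toLoc a) := hloc.map_nonunit _ ha
    exact htoLoc.map_nonunit _ h1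
  let ιL : L →+* K₂ := (algebraMap Q K₂).comp MvPolynomial.C
  have hγα : (algebraMap A₂ K₂).comp γ = ιL.comp α := by
    apply RingHom.ext
    intro a
    change Φ' (algebraMap R₀ Loc (MvPolynomial.C a)) = algebraMap Q K₂ (MvPolynomial.C (α a))
    rw [hΦ']
    change algebraMap Q K₂ (MvPolynomial.map α (MvPolynomial.C a)) = _
    rw [MvPolynomial.map_C]
  let g : R₀ →+* ResidueField A₂ := (residue A₂).comp (Φ''.comp (algebraMap R₀ Loc))
  have hker : RingHom.ker ev ≤ RingHom.ker g := by
    intro r hr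
    rw [RingHom.mem_ker]
    change residue A₂ (Φ'' (algebraMap R₀ Loc r)) = 0
    rw [residue_eq_zero_iff, mem_maximalIdeal]
    intro hu
    have h1 : IsUnit (algebraMap R₀ Loc r) := hloc.map_nonunit _ hu
    have h2 : r ∈ 𝔭₀.primeCompl := (IsLocalization.AtPrime.isUnit_to_map_iff Loc 𝔭₀ _).1 h1
    exact h2 hr
  have hsurj : Function.Surjective ev := by
    intro k
    exact ⟨MvPolynomial.X k, MvPolynomial.eval₂_X _ _ _⟩
  let ρ₂ : K₁ →+* ResidueField A₂ := RingHom.liftOfSurjective ev hsurj ⟨g, hker⟩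
  have hρ₂ : ρ₂.comp ev = g := RingHom.liftOfSurjective_comp ev hsurj ⟨g, hker⟩
  refine ⟨K₂, inferInstance, ιL, A₂, γ, ρ₂, hγ, hγα, ?_⟩
  apply RingHom.ext
  intro a
  have h1 : ρ₂ (ev (MvPolynomial.C a)) = g (MvPolynomial.C a) := RingHom.congr_fun hρ₂ _
  rw [hevC] at h1
  exact h1

end PolynomialTrick

end Groth.Agent.Lib.H69RefVal
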