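import Groth.Agent.Lib.H69RefVal4

set_option autoImplicit false
universe u

open CategoryTheory CategoryTheory.Limits AlgebraicGeometry Opposite IsLocalRing

namespace Groth.Agent.Lib.H69RefVal

open AlgSp Groth.Agent.Lib.H69AlgSp Groth.Agent.Lib.H69ValFS

variable {S : Scheme.{u}}

set_option maxHeartbeats 4000000 in
/-- The refined valuative criterion: existence part. -/
theorem existVC_of_refined {U X Y : Sp S} (hU : IsAlgSpace U) (hX : IsAlgSpace X) (hY : IsAlgSpace Y)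
    (f : X ⟶ Y) (h : U ⟶ X) (hh : IsQuasiCompactMor h) (hd : DenseRange (Points.map h))
    (hv : ∀ sq : ValSq f, (∃ t : (yon S).obj sq.ptK ⟶ U, t ≫ h = sq.top) → sq.HasUniq ∧ sq.HasLiftExt) :
    ExistVC f := by
  intro sq
  obtain ⟨B₀, sV, W, hWaff, d, c, fW, e₁, topW, botV, hce, hcf, htop, hbot, hcompat⟩ :=
    exists_chart_lift hX hY f sq
  let tW : Spec (CommRingCat.of e₁.K') ⟶ W.left := topW.left
  let w : W.left := tW (closedPoint e₁.K')
  obtain ⟨U', hU'aff, u', gW, gU, hgU, hspec⟩ := exists_specializes_chart hU hX h hh hd W c hce w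
  -- the rings
  let M := W.left
  let α₀ : M.presheaf.stalk w ⟶ U'.left.residueField u' :=
    M.presheaf.stalkSpecializes hspec ≫ gW.left.stalkMap u' ≫ U'.left.residue u'
  let β₀ : M.presheaf.stalk w ⟶ CommRingCat.of e₁.K' := Scheme.stalkClosedPointTo tW
  have hβ₀loc : IsLocalHom β₀.hom := Scheme.isLocalHom_stalkClosedPointTo' tW
  obtain ⟨K₂, hK₂, ιL, A₂, γ, ρ₂, hγloc, hγα, hρ₂⟩ :=
    exists_valuationSubring_residue_extension α₀.hom β₀.hom
  -- a valuation ring `A₃` of the residue field of `A₂` dominating `A₁`, and the composite `A₄`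
  let β₁ : e₁.A' →+* ResidueField A₂ := ρ₂.comp (algebraMap e₁.A' e₁.K')
  obtain ⟨A₃, hA₃, hloc₃⟩ := exists_factor_valuationRing β₁
  let μ : e₁.A' →+* A₃ := β₁.codRestrict A₃.toSubring hA₃
  have hμ : (algebraMap A₃ (ResidueField A₂)).comp μ = β₁ := rfl
  let A₄ : ValuationSubring K₂ := composite A₂ A₃
  have h42 : A₄ ≤ A₂ := composite_le A₂ A₃
  let i42 : A₄ →+* A₂ := ValuationSubring.inclusion A₄ A₂ h42
  let r43 : A₄ →+* A₃ := compositeToResidue A₂ A₃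
  -- the morphism `Spec A₂ ⟶ W`
  let γ₀ : M.presheaf.stalk w ⟶ CommRingCat.of A₂ := CommRingCat.ofHom γ
  let s₂ : Spec (CommRingCat.of A₂) ⟶ M := Spec.map γ₀ ≫ M.fromSpecStalk w
  let ιL₀ : U'.left.residueField u' ⟶ CommRingCat.of K₂ := CommRingCat.ofHom ιL
  let tU : Spec (CommRingCat.of K₂) ⟶ U'.left := Spec.map ιL₀ ≫ U'.left.fromSpecResidueField u'
  have hG1 : Spec.map (CommRingCat.ofHom (algebraMap A₂ K₂)) ≫ s₂ = tU ≫ gW.left := by
    have h1 : γ₀ ≫ CommRingCat.ofHom (algebraMap A₂ K₂) = α₀ ≫ ιL₀ := by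
      apply CommRingCat.hom_ext
      exact hγα
    change _ ≫ Spec.map γ₀ ≫ _ = (Spec.map ιL₀ ≫ _) ≫ _
    rw [← Spec.map_comp_assoc, h1, Spec.map_comp, Category.assoc, Category.assoc]
    congr 1
    change Spec.map (M.presheaf.stalkSpecializes hspec ≫ gW.left.stalkMap u' ≫ U'.left.residue u') ≫ _ = _
    rw [Spec.map_comp, Spec.map_comp, Category.assoc, Category.assoc,
      Scheme.SpecMap_stalkSpecializes_fromSpecStalk, Scheme.SpecMap_stalkMap_fromSpecStalk,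
      Scheme.fromSpecResidueField, Category.assoc]
  have hG2 : Spec.map (CommRingCat.ofHom ρ₂) ≫ tW =
      Spec.map (CommRingCat.ofHom (residue A₂)) ≫ s₂ := by
    have h1 : β₀ ≫ CommRingCat.ofHom ρ₂ = γ₀ ≫ CommRingCat.ofHom (residue A₂) := by
      apply CommRingCat.hom_ext
      exact hρ₂
    have h2 : Spec.map β₀ ≫ M.fromSpecStalk w = tW := Scheme.Spec_stalkClosedPointTo_fromSpecStalk tW
    change _ = _ ≫ Spec.map γ₀ ≫ _
    rw [← h2, ← Spec.map_comp_assoc, h1, Spec.map_comp, Category.assoc]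
  -- ring maps from `B₀`
  obtain ⟨b₂, hb₂⟩ := Spec.map_surjective (s₂ ≫ fW.left)
  obtain ⟨b₃, hb₃⟩ := Spec.map_surjective (Spec.map (CommRingCat.ofHom μ) ≫ botV.left)
  have htWf : tW ≫ fW.left = Spec.map (CommRingCat.ofHom (algebraMap e₁.A' e₁.K')) ≫ botV.left :=
    congrArg (fun m => m.left) hcompat
  have hb23 : b₂ ≫ CommRingCat.ofHom (residue A₂) =
      b₃ ≫ CommRingCat.ofHom (algebraMap A₃ (ResidueField A₂)) := by
    apply Spec.map_injective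
    rw [Spec.map_comp, Spec.map_comp, hb₂, hb₃, ← Category.assoc, ← hG2, Category.assoc, htWf,
      ← Category.assoc, ← Category.assoc, ← Spec.map_comp, ← Spec.map_comp]
    rfl
  have hb23' : ∀ x : B₀, residue A₂ (b₂.hom x) = algebraMap A₃ (ResidueField A₂) (b₃.hom x) :=
    fun x => congrArg (fun m => m.hom x) hb23
  have hmem₄ : ∀ x : B₀, ((algebraMap A₂ K₂).comp b₂.hom) x ∈ A₄.toSubring := by
    intro x
    refine mem_composite.2 ⟨(b₂.hom x).2, ?_⟩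
    change residue A₂ (b₂.hom x) ∈ A₃
    rw [hb23' x]
    exact (b₃.hom x).2
  let b₄ : B₀ →+* A₄ := ((algebraMap A₂ K₂).comp b₂.hom).codRestrict A₄.toSubring hmem₄
  have hb42 : i42.comp b₄ = b₂.hom := RingHom.ext fun x => Subtype.ext rfl
  have hb43 : r43.comp b₄ = b₃.hom := RingHom.ext fun x => Subtype.ext (hb23' x)
  let b₄S : Spec (CommRingCat.of A₄) ⟶ Spec B₀ := Spec.map (CommRingCat.ofHom b₄)
  let str₄ : Spec (CommRingCat.of A₄) ⟶ S := b₄S ≫ sV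
  have hU'hom : gW.left ≫ W.hom = U'.hom := Over.w gW
  have hWhom : fW.left ≫ sV = W.hom := Over.w fW
  have hi42S : Spec.map (CommRingCat.ofHom i42) ≫ b₄S = s₂ ≫ fW.left := by
    rw [← hb₂, ← Spec.map_comp]
    congr 1
  have halg42 : Spec.map (CommRingCat.ofHom (algebraMap A₄ K₂)) ≫ b₄S =
      Spec.map (CommRingCat.ofHom (algebraMap A₂ K₂)) ≫ s₂ ≫ fW.left := by
    rw [← hi42S, ← Category.assoc]
    congr 1
    exact Spec.map_comp (CommRingCat.ofHom i42) (CommRingCat.ofHom (algebraMap A₂ K₂))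
  let ptA₄ : Over S := Over.mk str₄
  let ptK₄ : Over S := Over.mk (Spec.map (CommRingCat.ofHom (algebraMap A₄ K₂)) ≫ str₄)
  have htUf : tU ≫ gW.left ≫ fW.left = Spec.map (CommRingCat.ofHom (algebraMap A₄ K₂)) ≫ b₄S := by
    rw [halg42, ← Category.assoc, ← hG1, Category.assoc]
  let tK : ptK₄ ⟶ U' := Over.homMk tU (by
    change tU ≫ U'.hom = Spec.map _ ≫ b₄S ≫ sV
    rw [← hU'hom, ← hWhom, ← Category.assoc (Spec.map _), ← htUf]
    simp only [Category.assoc])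
  let b₄o : ptA₄ ⟶ Over.mk sV := Over.homMk b₄S rfl
  let j₄ : ptK₄ ⟶ ptA₄ := Over.homMk (Spec.map (CommRingCat.ofHom (algebraMap A₄ K₂))) rfl
  have htKj : tK ≫ gW ≫ fW = j₄ ≫ b₄o := by
    ext
    exact htUf
  let sq₄ : ValSq f :=
    { A := A₄, K := K₂, str := str₄, top := (yon S).map tK ≫ gU ≫ h, bot := (yon S).map b₄o ≫ d,
      comm := by
        change ((yon S).map tK ≫ gU ≫ h) ≫ f = (yon S).map j₄ ≫ (yon S).map b₄o ≫ d
        rw [← Category.assoc ((yon S).map j₄), ← Functor.map_comp, ← htKj, hgU]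
        simp only [Functor.map_comp, Category.assoc]
        rw [hcf] }
  obtain ⟨huniq₄, e₅, l₅, hl₅1, hl₅2⟩ := hv sq₄ ⟨(yon S).map tK ≫ gU, Category.assoc _ _ _⟩
  -- Step 7: the overring `𝒜₆` of `A₅` and the valuation ring `A₇` of its residue field
  let φ₅ : A₄ →+* e₅.A' := e₅.φ
  let ψ₅ : K₂ →+* e₅.K' := e₅.ψ
  have hcomm₅ : ∀ a : A₄, ψ₅ (a : K₂) = algebraMap e₅.A' e₅.K' (φ₅ a) :=
    fun a => (RingHom.congr_fun e₅.comm a).symm
  let 𝒜₅ : ValuationSubring e₅.K' := ValuationSubring.ofSubring (algebraMap e₅.A' e₅.K').range (by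
    intro x
    rcases ValuationRing.isInteger_or_isInteger e₅.A' x with ⟨y, hy⟩ | ⟨y, hy⟩
    · exact Or.inl ⟨y, hy⟩
    · exact Or.inr ⟨y, hy⟩)
  have hψ₅ : ∀ a ∈ A₄, ψ₅ a ∈ 𝒜₅ := fun a ha => ⟨φ₅ ⟨a, ha⟩, (hcomm₅ ⟨a, ha⟩).symm⟩
  have hinj₅ : Function.Injective (algebraMap e₅.A' e₅.K') := IsFractionRing.injective _ _
  have hloc₅ : ∀ a ∈ A₄, a ≠ 0 → (ψ₅ a)⁻¹ ∈ 𝒜₅ → a⁻¹ ∈ A₄ := by
    rintro a ha ha0 ⟨b, hb⟩
    have hψa0 : ψ₅ a ≠ 0 := by
      rw [Ne, map_eq_zero]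
      exact ha0
    have h1 : algebraMap e₅.A' e₅.K' (φ₅ ⟨a, ha⟩ * b) = 1 := by
      rw [map_mul, ← hcomm₅, hb]
      exact mul_inv_cancel₀ hψa0
    have h2 : φ₅ ⟨a, ha⟩ * b = 1 := hinj₅ (h1.trans (map_one _).symm)
    have h3 : IsUnit (φ₅ ⟨a, ha⟩) := IsUnit.of_mul_eq_one _ h2
    have h4 : IsUnit (⟨a, ha⟩ : A₄) := e₅.isLocalHom.map_nonunit _ h3
    obtain ⟨y, hy⟩ := isUnit_iff_exists_inv.1 h4
    have : a⁻¹ = (y : K₂) := inv_eq_of_mul_eq_one_right (congrArg Subtype.val hy)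
    rw [this]
    exact y.2
  let 𝒜₆ : ValuationSubring e₅.K' := overring A₄ A₂ ψ₅ 𝒜₅ hψ₅
  have h56 : 𝒜₅ ≤ 𝒜₆ := le_overring A₄ A₂ ψ₅ 𝒜₅ hψ₅
  let lam₅ : e₅.A' →+* 𝒜₅ := (algebraMap e₅.A' e₅.K').codRestrict 𝒜₅.toSubring (fun x => ⟨x, rfl⟩)
  let lam₆ : e₅.A' →+* 𝒜₆ := (ValuationSubring.inclusion 𝒜₅ 𝒜₆ h56).comp lam₅
  let τ : A₂ →+* 𝒜₆ := (ψ₅.comp A₂.subtype).codRestrict 𝒜₆.toSubring
    (fun x => map_mem_overring A₄ A₂ ψ₅ 𝒜₅ hψ₅ x x.2)
  have hτloc : IsLocalHom τ := by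
    constructor
    intro x hx
    by_contra hxu
    by_cases hx0 : (x : K₂) = 0
    · have : τ x = 0 := Subtype.ext (by
        change ψ₅ (x : K₂) = 0
        rw [hx0, map_zero])
      rw [this] at hx
      exact not_isUnit_zero hx
    · have hxinv : (x : K₂)⁻¹ ∉ A₂ := by
        intro hmem
        exact hxu (isUnit_iff_exists_inv.2 ⟨⟨_, hmem⟩, Subtype.ext (mul_inv_cancel₀ hx0)⟩)
      have h1 := inv_map_not_mem_overring A₄ A₂ h42 ψ₅ 𝒜₅ hψ₅ hloc₅ x x.2 hx0 hxinv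
      obtain ⟨y, hy⟩ := isUnit_iff_exists_inv.1 hx
      have h2 : (ψ₅ (x : K₂))⁻¹ = (y : e₅.K') :=
        inv_eq_of_mul_eq_one_right (congrArg Subtype.val hy)
      rw [h2] at h1
      exact h1 y.2
  let A₇ : ValuationSubring (ResidueField 𝒜₆) := residueImage 𝒜₅ 𝒜₆ h56
  let π₅₇ : e₅.A' →+* A₇ := (toResidueImage 𝒜₅ 𝒜₆ h56).comp lam₅
  have hπ₅₇ : ∀ x : e₅.A', ((π₅₇ x : A₇) : ResidueField 𝒜₆) = residue 𝒜₆ (lam₆ x) := fun x => rfl
  have hπ₅₇surj : Function.Surjective π₅₇ := by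
    rintro ⟨z, x, hx⟩
    obtain ⟨b, hb⟩ := x.2
    refine ⟨b, Subtype.ext ?_⟩
    rw [hπ₅₇]
    refine Eq.trans ?_ hx
    change residue 𝒜₆ (lam₆ b) = residue 𝒜₆ (ValuationSubring.inclusion 𝒜₅ 𝒜₆ h56 x)
    congr 1
    exact Subtype.ext hb
  let τbar : ResidueField A₂ →+* ResidueField 𝒜₆ := ResidueField.map τ
  have hτbar : ∀ x : A₂, τbar (residue A₂ x) = residue 𝒜₆ (τ x) := fun x => rfl
  have hτφ : τ.comp i42 = lam₆.comp φ₅ := by
    apply RingHom.ext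
    intro a
    apply Subtype.ext
    exact hcomm₅ a
  have hkey₇ : ∀ a : A₄, τbar ((r43 a : A₃) : ResidueField A₂) = ((π₅₇ (φ₅ a) : A₇) : ResidueField 𝒜₆) := by
    intro a
    rw [hπ₅₇]
    change τbar (residue A₂ (i42 a)) = _
    rw [hτbar]
    exact congrArg (residue 𝒜₆) (RingHom.congr_fun hτφ a)
  have hmem₇ : ∀ y : A₃, (τbar.comp A₃.subtype) y ∈ A₇.toSubring := by
    intro y
    obtain ⟨a, rfl⟩ := compositeToResidue_surjective A₂ A₃ y
    change τbar ((r43 a : A₃) : ResidueField A₂) ∈ A₇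
    rw [hkey₇]
    exact (π₅₇ (φ₅ a)).2
  let μ₇ : A₃ →+* A₇ := (τbar.comp A₃.subtype).codRestrict A₇.toSubring hmem₇
  have hμ₇r : μ₇.comp r43 = π₅₇.comp φ₅ := by
    apply RingHom.ext
    intro a
    apply Subtype.ext
    exact hkey₇ a
  have hμ₇loc : IsLocalHom μ₇ := by
    constructor
    intro y hy
    obtain ⟨a, rfl⟩ := compositeToResidue_surjective A₂ A₃ y
    have h1 : μ₇ (r43 a) = π₅₇ (φ₅ a) := RingHom.congr_fun hμ₇r a
    change IsUnit (μ₇ (r43 a)) at hy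
    rw [h1] at hy
    obtain ⟨z, hz⟩ := isUnit_iff_exists_inv.1 hy
    obtain ⟨b, rfl⟩ := hπ₅₇surj z
    have h2 : π₅₇ (φ₅ a * b) = 1 := by rw [map_mul, hz]
    have h3 : IsUnit (φ₅ a * b) := by
      by_contra hnu
      have h4 : IsUnit (1 - φ₅ a * b) := IsLocalRing.isUnit_one_sub_self_of_mem_nonunits _ hnu
      have h5 : IsUnit (lam₆ (1 - φ₅ a * b)) := h4.map lam₆
      have h6 : residue 𝒜₆ (lam₆ (1 - φ₅ a * b)) = 0 := by
        rw [← hπ₅₇, map_sub, map_one, h2, sub_self]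
        rfl
      exact ((mem_maximalIdeal _).1 ((residue_eq_zero_iff _).1 h6)) h5
    have h7 : IsUnit (φ₅ a) := isUnit_of_mul_isUnit_left h3
    have h8 : IsUnit a := e₅.isLocalHom.map_nonunit a h7
    exact h8.map r43
  -- the final extension of `sq`
  let φe : sq.A →+* A₇ := (μ₇.comp μ).comp e₁.φ
  let ψe : sq.K →+* ResidueField 𝒜₆ := (τbar.comp ρ₂).comp e₁.ψ
  have hcomme : (algebraMap A₇ (ResidueField 𝒜₆)).comp φe = ψe.comp (algebraMap sq.A sq.K) := by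
    change _ = ((τbar.comp ρ₂).comp e₁.ψ).comp _
    rw [RingHom.comp_assoc, ← e₁.comm]
    rfl
  have hloce : IsLocalHom φe := by
    have h1 : IsLocalHom μ := hloc₃
    have h2 : IsLocalHom e₁.φ := e₁.isLocalHom
    have h3 : IsLocalHom (μ₇.comp μ) := RingHom.isLocalHom_comp μ₇ μ
    exact RingHom.isLocalHom_comp (μ₇.comp μ) e₁.φ
  let e : sq.DomExt :=
    { A' := A₇, K' := ResidueField 𝒜₆, φ := φe, ψ := ψe, comm := hcomme, isLocalHom := hloce }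
  refine ⟨e, ?_⟩
  rw [hasLift_iff]
  -- scheme-level identities
  have hbotVhom : botV.left ≫ sV = Spec.map (CommRingCat.ofHom e₁.φ) ≫ sq.str := Over.w botV
  have hR1 : Spec.map (CommRingCat.ofHom π₅₇) ≫ Spec.map (CommRingCat.ofHom φ₅) ≫ b₄S =
      Spec.map (CommRingCat.ofHom (μ₇.comp μ)) ≫ botV.left := by
    have h1 : Spec.map (CommRingCat.ofHom (μ₇.comp μ)) =
        Spec.map (CommRingCat.ofHom μ₇) ≫ Spec.map (CommRingCat.ofHom μ) := by
      rw [CommRingCat.ofHom_comp, Spec.map_comp]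
    rw [h1, Category.assoc, ← hb₃, ← Spec.map_comp, ← Spec.map_comp, ← Spec.map_comp]
    congr 1
    apply CommRingCat.hom_ext
    change (π₅₇.comp φ₅).comp b₄ = μ₇.comp b₃.hom
    rw [← hμ₇r, RingHom.comp_assoc, hb43]
  have hφeS : Spec.map (CommRingCat.ofHom φe) =
      Spec.map (CommRingCat.ofHom (μ₇.comp μ)) ≫ Spec.map (CommRingCat.ofHom e₁.φ) := by
    change Spec.map (CommRingCat.ofHom ((μ₇.comp μ).comp e₁.φ)) = _
    rw [CommRingCat.ofHom_comp, Spec.map_comp]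
  let m₇ : e.ptA' ⟶ e₅.ptA' := Over.homMk (Spec.map (CommRingCat.ofHom π₅₇)) (by
    change Spec.map _ ≫ Spec.map (CommRingCat.ofHom φ₅) ≫ b₄S ≫ sV = Spec.map (CommRingCat.ofHom φe) ≫ sq.str
    rw [← Category.assoc (Spec.map (CommRingCat.ofHom φ₅)), ← Category.assoc, hR1, Category.assoc, hbotVhom,
      hφeS, Category.assoc])
  let μo : e.ptA' ⟶ e₁.ptA' := Over.homMk (Spec.map (CommRingCat.ofHom (μ₇.comp μ))) (by
    change Spec.map _ ≫ Spec.map (CommRingCat.ofHom e₁.φ) ≫ sq.str = Spec.map (CommRingCat.ofHom φe) ≫ sq.str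
    rw [hφeS, Category.assoc])
  have hμoJA : domJA e = μo ≫ domJA e₁ := by
    ext
    exact hφeS
  have hm₇b : m₇ ≫ domJA e₅ ≫ b₄o = μo ≫ botV := by
    ext
    exact hR1
  -- the valuative square over `𝒜₆`, to which uniqueness applies
  let str₆ : Spec (CommRingCat.of 𝒜₆) ⟶ S := Spec.map (CommRingCat.ofHom lam₆) ≫ e₅.ptA'.hom
  let ptA₆ : Over S := Over.mk str₆
  let ptK₆ : Over S := Over.mk (Spec.map (CommRingCat.ofHom (algebraMap 𝒜₆ e₅.K')) ≫ str₆)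
  let lam₆o : ptA₆ ⟶ e₅.ptA' := Over.homMk (Spec.map (CommRingCat.ofHom lam₆)) rfl
  let j₆ : ptK₆ ⟶ ptA₆ := Over.homMk (Spec.map (CommRingCat.ofHom (algebraMap 𝒜₆ e₅.K'))) rfl
  have halg₆ : Spec.map (CommRingCat.ofHom (algebraMap 𝒜₆ e₅.K')) ≫ Spec.map (CommRingCat.ofHom lam₆) =
      Spec.map (CommRingCat.ofHom (algebraMap e₅.A' e₅.K')) := by
    rw [← Spec.map_comp]
    rfl
  let k₆ : ptK₆ ⟶ e₅.ptK' := Over.homMk (𝟙 _) (by
    change 𝟙 _ ≫ Spec.map (CommRingCat.ofHom (algebraMap e₅.A' e₅.K')) ≫ e₅.ptA'.hom =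
      Spec.map _ ≫ Spec.map (CommRingCat.ofHom lam₆) ≫ e₅.ptA'.hom
    rw [Category.id_comp, ← Category.assoc (Spec.map (CommRingCat.ofHom (algebraMap 𝒜₆ e₅.K'))), halg₆])
  have hj₆ : j₆ ≫ lam₆o = k₆ ≫ domJ e₅ := by
    ext
    change Spec.map _ ≫ Spec.map _ = 𝟙 _ ≫ Spec.map _
    rw [Category.id_comp, halg₆]
  have hcomm₆ : k₆ ≫ domK e₅ ≫ sq₄.j = j₆ ≫ lam₆o ≫ domJA e₅ := by
    rw [← domJ_comp_domJA e₅, ← Category.assoc, ← hj₆, Category.assoc]
  let sq₆ : ValSq f :=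
    { A := 𝒜₆, K := e₅.K', str := str₆, top := (yon S).map (k₆ ≫ domK e₅) ≫ sq₄.top,
      bot := (yon S).map (lam₆o ≫ domJA e₅) ≫ sq₄.bot,
      comm := by
        have hL : sq₄.top ≫ f = (yon S).map j₄ ≫ sq₄.bot := sq₄.comm
        have hR : (yon S).map (k₆ ≫ domK e₅) ≫ (yon S).map j₄ =
            (yon S).map j₆ ≫ (yon S).map (lam₆o ≫ domJA e₅) := by
          rw [← Functor.map_comp, ← Functor.map_comp, Category.assoc]
          exact congrArg _ hcomm₆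
        change ((yon S).map (k₆ ≫ domK e₅) ≫ sq₄.top) ≫ f =
          (yon S).map j₆ ≫ (yon S).map (lam₆o ≫ domJA e₅) ≫ sq₄.bot
        rw [Category.assoc, hL, ← Category.assoc, hR, Category.assoc] }
  have huniq₆ : sq₆.HasUniq := (hv sq₆ ⟨(yon S).map (k₆ ≫ domK e₅) ≫ (yon S).map tK ≫ gU, by
    change ((yon S).map (k₆ ≫ domK e₅) ≫ (yon S).map tK ≫ gU) ≫ h =
      (yon S).map (k₆ ≫ domK e₅) ≫ (yon S).map tK ≫ gU ≫ h
    simp only [Category.assoc]⟩).1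
  -- the two lifts
  have hτs : Spec.map (CommRingCat.ofHom τ) ≫ s₂ ≫ fW.left =
      Spec.map (CommRingCat.ofHom lam₆) ≫ Spec.map (CommRingCat.ofHom φ₅) ≫ b₄S := by
    have h1 : Spec.map (CommRingCat.ofHom τ) ≫ Spec.map (CommRingCat.ofHom i42) =
        Spec.map (CommRingCat.ofHom lam₆) ≫ Spec.map (CommRingCat.ofHom φ₅) := by
      rw [← Spec.map_comp, ← Spec.map_comp, ← CommRingCat.ofHom_comp, ← CommRingCat.ofHom_comp, hτφ]
    rw [← hi42S, ← Category.assoc, h1, Category.assoc]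
  let ptA₂ : Over S := Over.mk (s₂ ≫ W.hom)
  let s₂o : ptA₂ ⟶ W := Over.homMk s₂ rfl
  let τo : ptA₆ ⟶ ptA₂ := Over.homMk (Spec.map (CommRingCat.ofHom τ)) (by
    change Spec.map _ ≫ s₂ ≫ W.hom = Spec.map _ ≫ Spec.map (CommRingCat.ofHom φ₅) ≫ b₄S ≫ sV
    rw [← hWhom, ← Category.assoc s₂, ← Category.assoc, hτs]
    simp only [Category.assoc])
  have hl₅1' : (yon S).map (domJ e₅) ≫ l₅ = (yon S).map (domK e₅) ≫ sq₄.top := hl₅1
  have hl₅2' : l₅ ≫ f = (yon S).map (domJA e₅) ≫ sq₄.bot := hl₅2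
  have hτtop : j₆ ≫ τo ≫ s₂o = k₆ ≫ domK e₅ ≫ tK ≫ gW := by
    ext
    change Spec.map _ ≫ Spec.map _ ≫ s₂ = 𝟙 _ ≫ Spec.map (CommRingCat.ofHom ψ₅) ≫ tU ≫ gW.left
    have h1 : Spec.map (CommRingCat.ofHom (algebraMap 𝒜₆ e₅.K')) ≫ Spec.map (CommRingCat.ofHom τ) =
        Spec.map (CommRingCat.ofHom ψ₅) ≫ Spec.map (CommRingCat.ofHom (algebraMap A₂ K₂)) := by
      rw [← Spec.map_comp, ← Spec.map_comp]
      rfl
    rw [Category.id_comp, ← hG1, ← Category.assoc, h1, Category.assoc]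
  have hτbot : τo ≫ s₂o ≫ fW = lam₆o ≫ domJA e₅ ≫ b₄o := by
    ext
    exact hτs
  have hl₆eq : (yon S).map lam₆o ≫ l₅ = (yon S).map (τo ≫ s₂o) ≫ c := by
    apply huniq₆
    · change (yon S).map j₆ ≫ (yon S).map lam₆o ≫ l₅ = (yon S).map (k₆ ≫ domK e₅) ≫ sq₄.top
      rw [← Category.assoc, ← Functor.map_comp, hj₆, Functor.map_comp, Category.assoc, hl₅1',
        Functor.map_comp, Category.assoc]
    · change ((yon S).map lam₆o ≫ l₅) ≫ f = (yon S).map (lam₆o ≫ domJA e₅) ≫ sq₄.bot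
      rw [Category.assoc, hl₅2', Functor.map_comp, Category.assoc]
    · change (yon S).map j₆ ≫ (yon S).map (τo ≫ s₂o) ≫ c =
        (yon S).map (k₆ ≫ domK e₅) ≫ (yon S).map tK ≫ gU ≫ h
      rw [hgU, ← Category.assoc, ← Functor.map_comp, hτtop]
      simp only [Functor.map_comp, Category.assoc]
    · change ((yon S).map (τo ≫ s₂o) ≫ c) ≫ f =
        (yon S).map (lam₆o ≫ domJA e₅) ≫ (yon S).map b₄o ≫ d
      rw [Category.assoc, hcf, ← Category.assoc, ← Functor.map_comp, Category.assoc, hτbot]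
      simp only [Functor.map_comp, Category.assoc]
  -- the closed point of `Spec 𝒜₆` as a morphism over `S`
  have hres₆ : Spec.map (CommRingCat.ofHom (residue 𝒜₆)) ≫ Spec.map (CommRingCat.ofHom lam₆) =
      Spec.map (CommRingCat.ofHom (algebraMap A₇ (ResidueField 𝒜₆))) ≫ Spec.map (CommRingCat.ofHom π₅₇) := by
    rw [← Spec.map_comp, ← Spec.map_comp]
    rfl
  have hm₇w : Spec.map (CommRingCat.ofHom π₅₇) ≫ e₅.ptA'.hom = Spec.map (CommRingCat.ofHom φe) ≫ sq.str :=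
    Over.w m₇
  let r₆o : e.ptK' ⟶ ptA₆ := Over.homMk (Spec.map (CommRingCat.ofHom (residue 𝒜₆))) (by
    change Spec.map _ ≫ Spec.map (CommRingCat.ofHom lam₆) ≫ e₅.ptA'.hom =
      Spec.map (CommRingCat.ofHom (algebraMap A₇ (ResidueField 𝒜₆))) ≫ Spec.map (CommRingCat.ofHom φe) ≫ sq.str
    rw [← Category.assoc, hres₆, Category.assoc, hm₇w])
  have hr₆lam : r₆o ≫ lam₆o = domJ e ≫ m₇ := by
    ext
    exact hres₆
  have hψe1 : Spec.map (CommRingCat.ofHom (τbar.comp ρ₂)) ≫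
      Spec.map (CommRingCat.ofHom (algebraMap e₁.A' e₁.K')) =
      Spec.map (CommRingCat.ofHom (algebraMap A₇ (ResidueField 𝒜₆))) ≫
        Spec.map (CommRingCat.ofHom (μ₇.comp μ)) := by
    rw [← Spec.map_comp, ← Spec.map_comp]
    rfl
  let ψo : e.ptK' ⟶ e₁.ptK' := Over.homMk (Spec.map (CommRingCat.ofHom (τbar.comp ρ₂))) (by
    change Spec.map _ ≫ Spec.map (CommRingCat.ofHom (algebraMap e₁.A' e₁.K')) ≫
        Spec.map (CommRingCat.ofHom e₁.φ) ≫ sq.str =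
      Spec.map (CommRingCat.ofHom (algebraMap A₇ (ResidueField 𝒜₆))) ≫ Spec.map (CommRingCat.ofHom φe) ≫ sq.str
    rw [← Category.assoc, hψe1, hφeS]
    simp only [Category.assoc])
  have hψoK : domK e = ψo ≫ domK e₁ := by
    ext
    change Spec.map (CommRingCat.ofHom ((τbar.comp ρ₂).comp e₁.ψ)) =
      Spec.map (CommRingCat.ofHom (τbar.comp ρ₂)) ≫ Spec.map (CommRingCat.ofHom e₁.ψ)
    rw [CommRingCat.ofHom_comp, Spec.map_comp]
  have hres₂ : Spec.map (CommRingCat.ofHom (residue 𝒜₆)) ≫ Spec.map (CommRingCat.ofHom τ) =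
      Spec.map (CommRingCat.ofHom τbar) ≫ Spec.map (CommRingCat.ofHom (residue A₂)) := by
    rw [← Spec.map_comp, ← Spec.map_comp]
    rfl
  have hτbarρ : Spec.map (CommRingCat.ofHom (τbar.comp ρ₂)) =
      Spec.map (CommRingCat.ofHom τbar) ≫ Spec.map (CommRingCat.ofHom ρ₂) := by
    rw [CommRingCat.ofHom_comp, Spec.map_comp]
  have hr₆τ : r₆o ≫ τo ≫ s₂o = ψo ≫ topW := by
    ext
    change Spec.map (CommRingCat.ofHom (residue 𝒜₆)) ≫ Spec.map (CommRingCat.ofHom τ) ≫ s₂ =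
      Spec.map (CommRingCat.ofHom (τbar.comp ρ₂)) ≫ tW
    rw [← Category.assoc, hres₂, Category.assoc, ← hG2, hτbarρ, Category.assoc]
  refine ⟨(yon S).map m₇ ≫ l₅, ?_, ?_⟩
  · rw [← Category.assoc, ← Functor.map_comp, ← hr₆lam, Functor.map_comp, Category.assoc, hl₆eq,
      ← Category.assoc, ← Functor.map_comp, hr₆τ, Functor.map_comp, Category.assoc, htop, hψoK,
      Functor.map_comp, Category.assoc]
  · rw [Category.assoc]
    have h1 : l₅ ≫ f = (yon S).map (domJA e₅) ≫ sq₄.bot := hl₅2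
    rw [h1, hμoJA, Functor.map_comp, Category.assoc, ← hbot]
    change (yon S).map m₇ ≫ (yon S).map (domJA e₅) ≫ (yon S).map b₄o ≫ d = _
    rw [← Category.assoc ((yon S).map (domJA e₅)), ← Functor.map_comp, ← Category.assoc, ← Functor.map_comp,
      hm₇b, Functor.map_comp, Category.assoc]

end Groth.Agent.Lib.H69RefVal
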