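import Groth.Agent.Lib.H69NiceChart
import Groth.Agent.Lib.AlgSpBasic
import Groth.Agent.Lib.AlgSpFibre

/-!
# helper69: flat base change of the scheme theoretic image of a quasi-compact morphism of algebraic spaces
-/

set_option autoImplicit false
universe u

open CategoryTheory CategoryTheory.Limits AlgebraicGeometry Opposite

namespace Groth.Agent.Lib.H69SchImageBC

open AlgSp Groth.Agent.Lib.H69AlgSp Groth.Agent.Lib.H69QuotOpen Groth.Agent.Lib.H69SchImage
  Groth.Agent.Lib.H69SchImageQC Groth.Agent.Lib.H69NiceChart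

variable {S : Scheme.{u}}

/-- If `e ≫ m` factors through the monomorphism `j` and `e` is locally surjective, then `m` factors through `j`. -/
theorem exists_factor_of_locallySurjective {E M I F : Sp S} (e : E ⟶ M) [Sheaf.IsLocallySurjective e]
    (m : M ⟶ F) (j : I ⟶ F) [Mono j] (k : E ⟶ I) (hk : k ≫ j = e ≫ m) : ∃ m' : M ⟶ I, m' ≫ j = m := by
  refine exists_factor_of_pointwise j m fun T x => ?_
  obtain ⟨R, hR, hlift⟩ := Groth.Agent.Lib.H69InvSub.exists_sieve_lift e x
  refine exists_factor_of_sieve j (x ≫ m) R hR ?_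
  intro T₁ φ hφ
  obtain ⟨y, hy⟩ := hlift φ hφ
  exact ⟨y ≫ k, by rw [Category.assoc, hk, ← Category.assoc, hy, Category.assoc]⟩

/-- Flat base change of the scheme theoretic image of a quasi-compact morphism. -/
theorem isSchImage_of_flat_baseChange {X Y G Z GX ZX : Sp S} (hX : IsAlgSpace X) (hY : IsAlgSpace Y)
    (f : X ⟶ Y) (hf : LocP @Flat f) (g : G ⟶ Y) (hg : IsQuasiCompactMor g) (i : Z ⟶ Y)
    (hZ : IsSchImage g i) (g₁ : GX ⟶ G) (gX : GX ⟶ X) (sqG : IsPullback g₁ gX g f)
    (i₁ : ZX ⟶ Z) (iX : ZX ⟶ X) (sqZ : IsPullback i₁ iX i f) : IsSchImage gX iX := by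
  have hiX : RepWith @IsClosedImmersion iX :=
    Groth.Agent.Lib.AlgSpBasic.repWith_snd_of_isPullback _ sqZ hZ.1
  obtain ⟨g', hg'⟩ := hZ.2.1
  refine ⟨hiX, ⟨sqZ.lift (g₁ ≫ g') gX (by rw [Category.assoc, hg', sqG.w]), sqZ.lift_snd _ _ _⟩, ?_⟩
  rintro Z' i' hZ' hi' ⟨g'', hg''⟩
  have hmono' : Mono i' := mono_of_repWith_isClosedImmersion hi'
  obtain ⟨V, p, A, xA, a, hpe, hps, cc, hqc⟩ := Groth.Agent.Lib.H69NiceChart.exists_nice_chart hY g hg
  -- an atlas of `X` over `V`
  have hP : IsAlgSpace (pullback f p) :=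
    Groth.Agent.Lib.AlgSpFibre.isAlgSpace_of_isPullback hY.diag hX (IsAlgSpace.yon_obj V)
      (IsPullback.of_hasPullback f p)
  obtain ⟨U, q₀, hq₀e, hq₀s⟩ := hP.atlas
  let q : (yon S).obj U ⟶ X := q₀ ≫ pullback.fst f p
  have hfe : RepWith @Etale (pullback.fst f p) :=
    Groth.Agent.Lib.AlgSpBasic.repWith_fst_of_isPullback _ (IsPullback.of_hasPullback f p) hpe
  have hfs : RepWith @Surjective (pullback.fst f p) :=
    Groth.Agent.Lib.AlgSpBasic.repWith_fst_of_isPullback _ (IsPullback.of_hasPullback f p) hps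
  have hqe : RepWith @Etale q := MorphismProperty.comp_mem _ _ _ hq₀e hfe
  have hqs : RepWith @Surjective q := MorphismProperty.comp_mem _ _ _ hq₀s hfs
  let h : U ⟶ V := (yon S).preimage (q₀ ≫ pullback.snd f p)
  have hh : (yon S).map h = q₀ ≫ pullback.snd f p := (yon S).map_preimage _
  have hqf : q ≫ f = (yon S).map h ≫ p := by
    rw [hh, Category.assoc, Category.assoc, pullback.condition]
  have hflat : Flat h.left := hf q p h hqe hpe hqf
  -- the closed subschemes
  obtain ⟨W, w, fstW, sqW⟩ := hZ.1.1 p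
  have hwC : IsClosedImmersion w.left := hZ.1.2 p fstW w sqW
  have hker : w.left.ker = a.left.ker := ker_eq_of_isSchImage hY g i hZ p hpe hps xA a cc w fstW sqW
  obtain ⟨W', w', fstW', sqW'⟩ := hi'.1 q
  have hw'C : IsClosedImmersion w'.left := hi'.2 q fstW' w' sqW'
  obtain ⟨WX, wX, fstWX, sqWX⟩ := hiX.1 q
  -- `A_U ⟶ U` factors through `W'`
  let z : (yon S).obj (bcOver a h) ⟶ GX :=
    sqG.lift ((yon S).map (bcFst a h) ≫ xA) ((yon S).map (bcSnd a h) ≫ q) (by
      rw [Category.assoc, cc.w, ← Category.assoc, ← Functor.map_comp, bc_condition, Functor.map_comp,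
        Category.assoc, Category.assoc, hqf])
  obtain ⟨l, hl⟩ := (yon S).map_surjective (sqW'.lift (z ≫ g'') ((yon S).map (bcSnd a h)) (by
    rw [Category.assoc, hg'', sqG.lift_snd]))
  have hl' : l ≫ w' = bcSnd a h := (yon S).map_injective (by rw [Functor.map_comp, hl, sqW'.lift_snd])
  have h1 : w'.left.ker ≤ a.left.ker.comap h.left := by
    have e : (bcSnd a h).left.ker = a.left.ker.comap h.left :=
      Groth.Agent.Lib.H69KerFlat.ker_pullback_snd_eq_comap_ker_of_flat a.left h.left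
    rw [← e, ← hl', Over.comp_left]
    exact l.left.le_ker_comp w'.left
  -- `W_X ⟶ U ⟶ V` factors through `W`
  obtain ⟨m, hm⟩ := (yon S).map_surjective (sqW.lift (fstWX ≫ i₁) ((yon S).map (wX ≫ h)) (by
    rw [Category.assoc, sqZ.w, ← Category.assoc, sqWX.w, Category.assoc, hqf, Functor.map_comp,
      Category.assoc]))
  have hm' : m ≫ w = wX ≫ h := (yon S).map_injective (by rw [Functor.map_comp, hm, sqW.lift_snd])
  have h2 : a.left.ker.comap h.left ≤ wX.left.ker := by
    rw [← le_ker_comp_iff, ← hker, ← Over.comp_left, ← hm', Over.comp_left]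
    exact m.left.le_ker_comp w.left
  obtain ⟨l', hl'⟩ := (factors_iff_ker_le w' wX).2 (h1.trans h2)
  have hloc : Sheaf.IsLocallySurjective fstWX :=
    isLocallySurjective_of_etale_surjective fstWX
      (Groth.Agent.Lib.AlgSpBasic.repWith_fst_of_isPullback _ sqWX hqe)
      (Groth.Agent.Lib.AlgSpBasic.repWith_fst_of_isPullback _ sqWX hqs)
  exact exists_factor_of_locallySurjective fstWX iX i' ((yon S).map l' ≫ fstW') (by
    rw [Category.assoc, sqW'.w, ← Category.assoc, ← Functor.map_comp, hl', sqWX.w])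

end Groth.Agent.Lib.H69SchImageBC
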