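import Groth.Agent.Lib.H69SchImageTop
import Groth.Agent.Lib.H69SchDenseFlat
import Mathlib.AlgebraicGeometry.Morphisms.Immersion

/-!
# helper69: a quasi-compact immersion of algebraic spaces is an open immersion into its scheme theoretic image
-/

set_option autoImplicit false
universe u

open CategoryTheory CategoryTheory.Limits AlgebraicGeometry Opposite

namespace Groth.Agent.Lib.H69SchImageImm

open AlgSp Groth.Agent.Lib.H69AlgSp Groth.Agent.Lib.H69QuotOpen Groth.Agent.Lib.H69SchImage
  Groth.Agent.Lib.H69SchImageQC Groth.Agent.Lib.H69NiceChart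

variable {S : Scheme.{u}}

/-- A pullback square gives a covering chart. -/
theorem chartCover_of_isPullback {G Y : Sp S} {g : G ⟶ Y} {V A : Over S} {b : (yon S).obj V ⟶ Y}
    {xA : (yon S).obj A ⟶ G} {a : A ⟶ V} (sq : IsPullback xA ((yon S).map a) g b) :
    ChartCover g b xA a where
  w := sq.w
  cov := by
    intro T x v hxv
    refine (J S).superset_covering ?_ ((J S).top_mem T)
    intro T₁ φ _
    obtain ⟨l, hl⟩ := (yon S).map_surjective (sq.lift ((yon S).map φ ≫ x) ((yon S).map (φ ≫ v)) (by
      rw [Category.assoc, hxv, Functor.map_comp, Category.assoc]))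
    exact ⟨l, by rw [hl, sq.lift_fst], (yon S).map_injective (by rw [Functor.map_comp, hl, sq.lift_snd])⟩

/-- A quasi-compact immersion is an open immersion into any closed subscheme with the same kernel. -/
theorem isOpenImmersion_of_ker_eq {A W V : Scheme.{u}} (a : A ⟶ V) [IsImmersion a] [QuasiCompact a]
    (w : W ⟶ V) [IsClosedImmersion w] (a' : A ⟶ W) (h : a' ≫ w = a) (hk : w.ker = a.ker) :
    IsOpenImmersion a' ∧ a'.ker = ⊥ := by
  have hk' : w.ker = a.imageι.ker := by
    rw [hk]
    exact (Scheme.IdealSheafData.ker_subschemeι _).symm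
  let e : W ⟶ a.image := IsClosedImmersion.lift a.imageι w hk'.ge
  have he : e ≫ a.imageι = w := IsClosedImmersion.lift_fac _ _ _
  have hiso : IsIso e := IsClosedImmersion.isIso_of_ker_eq w a.imageι e he hk'
  have h1 : a' ≫ e = a.toImage := by
    rw [← cancel_mono a.imageι, Category.assoc, he, h, a.toImage_imageι]
  have h2 : a' = a.toImage ≫ inv e := by rw [← h1, Category.assoc, IsIso.hom_inv_id, Category.comp_id]
  constructor
  · rw [h2]; infer_instance
  · rw [h2, Scheme.Hom.ker_comp, Groth.Agent.Lib.H69KerFlat.ker_toImage_eq_bot, Scheme.IdealSheafData.map_bot]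
    exact Scheme.Hom.ker_eq_bot_of_isIso _

/-- An open immersion `a' : A ⟶ W` over `S` with trivial kernel, quasi-compact, presents a scheme theoretically
dense open of `W`; packaged for `IsSchDense`. -/
theorem isSchDense_of_chart {Z Zbar : Sp S} (h' : Z ⟶ Zbar) (hO : RepWith @IsOpenImmersion h') {W A : Over S}
    (φ : (yon S).obj W ⟶ Zbar) (hφe : RepWith @Etale φ) (hφs : RepWith @Surjective φ) (a' : A ⟶ W)
    (fstA : (yon S).obj A ⟶ Z) (sq : IsPullback fstA ((yon S).map a') h' φ) [IsOpenImmersion a'.left]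
    [QuasiCompact a'.left] (hbot : a'.left.ker = ⊥) : IsSchDense h' := by
  let O : W.left.Opens := a'.left.opensRange
  have hw : a'.left.isoOpensRange.inv ≫ A.hom = O.ι ≫ W.hom := by
    rw [← Over.w a', ← Category.assoc, Scheme.Hom.isoOpensRange_inv_comp]
  let eO : Over.mk (O.ι ≫ W.hom) ≅ A := Over.isoMk a'.left.isoOpensRange.symm hw
  have heO : eO.hom ≫ a' = (Over.homMk O.ι rfl : Over.mk (O.ι ≫ W.hom) ⟶ W) := by
    ext
    exact Scheme.Hom.isoOpensRange_inv_comp _
  have sqO : IsPullback ((yon S).map eO.hom ≫ fstA)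
      ((yon S).map (Over.homMk O.ι rfl : Over.mk (O.ι ≫ W.hom) ⟶ W)) h' φ :=
    IsPullback.of_iso sq ((yon S).mapIso eO).symm (Iso.refl _) (Iso.refl _) (Iso.refl _)
      (by simp) (by
        have : eO.inv ≫ (Over.homMk O.ι rfl : Over.mk (O.ι ≫ W.hom) ⟶ W) = a' := by
          rw [← heO, Iso.inv_hom_id_assoc]
        simp [← Functor.map_comp, this]) (by simp) (by simp)
  have hdom : IsSchemeTheoreticallyDominant O.ι := ⟨by
    rw [← Scheme.Hom.isoOpensRange_inv_comp a'.left, Scheme.Hom.ker_comp_of_isIso]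
    exact hbot⟩
  have hqc : QuasiCompact O.ι := by
    rw [← Scheme.Hom.isoOpensRange_inv_comp a'.left]
    infer_instance
  exact ⟨hO, W, φ, O, _, hφe, hφs, sqO, Groth.Agent.Lib.H69SchDenseFlat.isSchematicallyDense_of_dominant O⟩

/-- A quasi-compact immersion of algebraic spaces is a scheme theoretically dense open immersion into its
scheme theoretic image. -/
theorem immersion_into_schImage_qc {Z X Zbar : Sp S} (hX : IsAlgSpace X) (h : Z ⟶ X)
    (hh : RepWith @IsImmersion h) (hq : IsQuasiCompactMor h) (c : Zbar ⟶ X) (hc : IsSchImage h c)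
    (h' : Z ⟶ Zbar) (fac : h' ≫ c = h) :
    RepWith @IsOpenImmersion h' ∧ IsSchDense h' := by
  obtain ⟨V, p, hpe, hps⟩ := hX.atlas
  obtain ⟨A, a, fstA, sqA⟩ := hh.1 p
  have haI : IsImmersion a.left := hh.2 p fstA a sqA
  have haQ : QuasiCompact a.left :=
    (Groth.Agent.Lib.AlgSpQC.repWith_quasiCompact_of_isQuasiCompactMor hh.1 hq).2 p fstA a sqA
  obtain ⟨W, w, fstW, sqW⟩ := hc.1.1 p
  have hwC : IsClosedImmersion w.left := hc.1.2 p fstW w sqW
  have cc := chartCover_of_isPullback sqA
  have hker : w.left.ker = a.left.ker := ker_eq_of_isSchImage hX h c hc p hpe hps fstA a cc w fstW sqW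
  obtain ⟨a', ha'⟩ := (yon S).map_surjective (sqW.lift (fstA ≫ h') ((yon S).map a) (by
    rw [Category.assoc, fac, sqA.w]))
  have ha'w : a' ≫ w = a := (yon S).map_injective (by rw [Functor.map_comp, ha', sqW.lift_snd])
  obtain ⟨hO, hbot⟩ := isOpenImmersion_of_ker_eq a.left w.left a'.left (by
    rw [← Over.comp_left, ha'w]) hker
  have sqL : IsPullback fstA ((yon S).map a') h' fstW := by
    refine IsPullback.of_bot ?_ (by rw [ha', sqW.lift_fst]) sqW
    rw [← Functor.map_comp, ha'w, fac]
    exact sqA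
  have hmonoh : Mono h :=
    mono_of_repWith (fun _ _ g (_ : IsImmersion g) => (inferInstance : Mono g)) hh
  have hmono : Mono h' := by
    have : Mono (h' ≫ c) := by rw [fac]; exact hmonoh
    exact mono_of_mono h' c
  have hfe : RepWith @Etale fstW := Groth.Agent.Lib.AlgSpBasic.repWith_fst_of_isPullback _ sqW hpe
  have hfs : RepWith @Surjective fstW := Groth.Agent.Lib.AlgSpBasic.repWith_fst_of_isPullback _ sqW hps
  have hloc : Sheaf.IsLocallySurjective fstW := isLocallySurjective_of_etale_surjective fstW hfe hfs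
  have hO' : RepWith @IsOpenImmersion h' := repWith_isOpenImmersion_of_chart h' fstW a' fstA sqL
  have hqa' : QuasiCompact a'.left := by
    have : QuasiCompact (a'.left ≫ w.left) := by rw [← Over.comp_left, ha'w]; exact haQ
    exact QuasiCompact.of_comp a'.left w.left
  exact ⟨hO', isSchDense_of_chart h' hO' fstW hfe hfs a' fstA sqL hbot⟩

end Groth.Agent.Lib.H69SchImageImm
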