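import Groth.Prelude.Def_CInt
import Mathlib.AlgebraicGeometry.Properties
import Mathlib.Topology.Irreducible

/-!
# Schematic density versus topological density (helper68)

* `CompDense68.inter_nonempty_of_dense`: locally finite irreducible components: a dense open meets every component.
* `CompDense68.dense_of_forall_inter_nonempty`: an open meeting every irreducible component is dense.
* `dense_of_isSchematicallyDense`: a schematically dense open is dense.
* `isSchematicallyDense_of_dense_of_isReduced`: on a reduced scheme a dense open is schematically dense.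
-/

set_option autoImplicit false
universe u

open TopologicalSpace Set

namespace Groth.Agent.Lib.CompDense68

variable {α : Type*} [TopologicalSpace α]

/-- If the irreducible components are locally finite, a dense open subset meets every irreducible component. -/
theorem inter_nonempty_of_dense (V : Set α) (hV : Dense V)
    (hfin : ∀ x : α, ∃ W : Set α, IsOpen W ∧ x ∈ W ∧
      {Z ∈ irreducibleComponents α | (Z ∩ W).Nonempty}.Finite)
    (Z : Set α) (hZ : Z ∈ irreducibleComponents α) : (Z ∩ V).Nonempty := by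
  classical
  obtain ⟨z, hz⟩ := hZ.1.1
  obtain ⟨W, hWo, hzW, hfinW⟩ := hfin z
  set S : Set (Set α) := {Z₂ ∈ irreducibleComponents α | (Z₂ ∩ W).Nonempty} \ {Z} with hS
  have hSfin : S.Finite := hfinW.subset sdiff_subset
  have hSclosed : ∀ Z₂ ∈ S, IsClosed Z₂ := fun Z₂ h => isClosed_of_mem_irreducibleComponents _ h.1.1
  have hC : IsClosed (⋃₀ S) := by
    rw [sUnion_eq_biUnion]
    exact hSfin.isClosed_biUnion hSclosed
  -- `Z` is not contained in the union of the other components
  have hnot : ¬ Z ⊆ ⋃₀ S := by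
    intro hsub
    have h1 := (isIrreducible_iff_sUnion_isClosed.mp hZ.1) hSfin.toFinset
      (fun Z₂ h => hSclosed Z₂ (hSfin.mem_toFinset.mp h)) (by rwa [Finite.coe_toFinset])
    obtain ⟨Z₂, hZ₂, hle⟩ := h1
    rw [Finite.mem_toFinset] at hZ₂
    have : Z₂ ⊆ Z := hZ.2 hZ₂.1.1.1 hle
    exact hZ₂.2 (Subset.antisymm this hle)
  rw [not_subset] at hnot
  obtain ⟨y, hyZ, hyC⟩ := hnot
  -- the open set `W ∩ (⋃₀ S)ᶜ` meets `Z` and is contained in `Z`
  have hne : (Z ∩ (W ∩ (⋃₀ S)ᶜ)).Nonempty :=
    hZ.1.2 W (⋃₀ S)ᶜ hWo hC.isOpen_compl ⟨z, hz, hzW⟩ ⟨y, hyZ, hyC⟩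
  have hsub : W ∩ (⋃₀ S)ᶜ ⊆ Z := by
    rintro w ⟨hwW, hwC⟩
    by_contra hwZ
    apply hwC
    refine ⟨irreducibleComponent w, ⟨⟨irreducibleComponent_mem_irreducibleComponents w,
      ⟨w, mem_irreducibleComponent, hwW⟩⟩, ?_⟩, mem_irreducibleComponent⟩
    intro h
    rw [mem_singleton_iff] at h
    exact hwZ (h ▸ mem_irreducibleComponent)
  obtain ⟨w, hw⟩ := hne
  obtain ⟨v, hvO, hvV⟩ := hV.inter_open_nonempty _ (hWo.inter hC.isOpen_compl) ⟨w, hw.2⟩
  exact ⟨v, hsub hvO, hvV⟩

/-- If a subset `V'` open meets every irreducible component, it is dense. -/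
theorem dense_of_forall_inter_nonempty (V' : Set α) (hVo : IsOpen V')
    (h : ∀ Z ∈ irreducibleComponents α, (Z ∩ V').Nonempty) : Dense V' := by
  rw [dense_iff_inter_open]
  intro O hO ⟨z, hzO⟩
  have hZ := irreducibleComponent_mem_irreducibleComponents z
  have := hZ.1.2 O V' hO hVo ⟨z, mem_irreducibleComponent, hzO⟩ (h _ hZ)
  obtain ⟨w, -, hw⟩ := this
  exact ⟨w, hw⟩

end Groth.Agent.Lib.CompDense68

namespace Groth.Agent.Lib.SchDenseReduced68

open CategoryTheory AlgebraicGeometry

variable {X : Scheme.{u}}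

/-- A schematically dense open is dense. -/
theorem dense_of_isSchematicallyDense (U : X.Opens) (hU : CInt.IsSchematicallyDense U) :
    Dense (U : Set X) := by
  rw [dense_iff_inter_open]
  intro O hO hne
  by_contra hcon
  rw [Set.not_nonempty_iff_eq_empty] at hcon
  let O' : X.Opens := ⟨O, hO⟩
  have hbot : O' ⊓ U = ⊥ := by
    ext z
    simp only [Opens.coe_inf, Opens.coe_bot]
    exact Set.ext_iff.mp hcon z
  have hinj := hU O'
  have hsub : Subsingleton Γ(X, O' ⊓ U) := by
    rw [hbot]
    infer_instance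
  have h10 : (1 : Γ(X, O')) = 0 := hinj (Subsingleton.elim _ _)
  have h1 : X.basicOpen (1 : Γ(X, O')) = O' := X.basicOpen_of_isUnit isUnit_one
  rw [h10, Scheme.basicOpen_zero] at h1
  obtain ⟨z, hz⟩ := hne
  have : z ∈ (⊥ : X.Opens) := h1 ▸ (show z ∈ O' from hz)
  exact this

/-- On a reduced scheme, a dense open is schematically dense. -/
theorem isSchematicallyDense_of_dense_of_isReduced [IsReduced X] (U : X.Opens)
    (hU : Dense (U : Set X)) : CInt.IsSchematicallyDense U := by
  intro V
  rw [injective_iff_map_eq_zero]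
  intro s hs
  rw [← basicOpen_eq_bot_iff]
  by_contra hne
  have hne : (X.basicOpen s : Set X).Nonempty := by
    rw [Set.nonempty_iff_ne_empty]
    intro h0
    exact hne (Opens.ext h0)
  obtain ⟨z, hzs, hzU⟩ := hU.inter_open_nonempty _ (X.basicOpen s).isOpen hne
  have hzV : z ∈ V := X.basicOpen_le s hzs
  have h1 : X.basicOpen (X.presheaf.map (homOfLE (inf_le_left : V ⊓ U ≤ V)).op s) =
      (V ⊓ U) ⊓ X.basicOpen s := Scheme.basicOpen_res _ _ _
  rw [hs, Scheme.basicOpen_zero] at h1
  have : z ∈ (⊥ : X.Opens) := h1 ▸ (show z ∈ (V ⊓ U) ⊓ X.basicOpen s from ⟨⟨hzV, hzU⟩, hzs⟩)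
  exact this

end Groth.Agent.Lib.SchDenseReduced68
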