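import Groth.Agent.Lib.H69SchImageRed
import Groth.Agent.Lib.SchDenseReduced68

/-!
# helper69: a quasi-compact or reduced immersion of algebraic spaces is a scheme theoretically dense,
topologically dense open immersion into its scheme theoretic image
-/

set_option autoImplicit false
universe u

open CategoryTheory CategoryTheory.Limits AlgebraicGeometry Opposite TopologicalSpace

namespace Groth.Agent.Lib.H69SchImageImm2

open AlgSp Groth.Agent.Lib.H69AlgSp Groth.Agent.Lib.H69QuotOpen Groth.Agent.Lib.H69SchImage
  Groth.Agent.Lib.H69SchImageQC Groth.Agent.Lib.H69NiceChart Groth.Agent.Lib.H69SchImageImm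
  Groth.Agent.Lib.H69RedInduced Groth.Agent.Lib.H69SchImageRed Scheme.IdealSheafData

variable {S : Scheme.{u}}

/-- An immersion from a reduced scheme is an open immersion with dense range into the reduced induced closed
subscheme on the closure of its range. -/
theorem isOpenImmersion_of_reduced {A W V : Scheme.{u}} (a : A ⟶ V) [IsImmersion a] [IsReduced A]
    (w : W ⟶ V) [IsClosedImmersion w] (a' : A ⟶ W) (h : a' ≫ w = a) (C : Closeds V)
    (hC : (C : Set V) = closure (Set.range a)) (hk : w.ker = vanishingIdeal C) :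
    IsOpenImmersion a' ∧ DenseRange a' := by
  constructor
  · let U := a.coborderRange
    have hac : a.liftCoborder ≫ U.ι = a := a.liftCoborder_ι
    let CU : Closeds U := ⟨U.ι ⁻¹' (C : Set V), C.isClosed.preimage U.ι.continuous⟩
    have hCU : (CU : Set U) = Set.range a.liftCoborder := by
      ext x
      change U.ι x ∈ (C : Set V) ↔ _
      rw [hC]
      constructor
      · intro hx
        have hx' : U.ι x ∈ coborder (Set.range a) ∩ closure (Set.range a) := by
          refine ⟨?_, hx⟩
          have : U.ι x ∈ (U : Set V) := by simpa using x.2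
          exact this
        rw [coborder_inter_closure] at hx'
        obtain ⟨α, hα⟩ := hx'
        refine ⟨α, U.ι.isOpenEmbedding.injective ?_⟩
        rw [← Scheme.Hom.comp_apply, hac, hα]
      · rintro ⟨α, rfl⟩
        rw [← Scheme.Hom.comp_apply, hac]
        exact subset_closure ⟨α, rfl⟩
    obtain ⟨f', sq⟩ := isPullback_redSub_of_smooth U.ι C CU rfl
    have h1 : vanishingIdeal CU = (vanishingIdeal C).comap U.ι := by
      have := Groth.Agent.Lib.H69ClosedDesc.ker_of_isPullback_closedImmersion U.ι sq.flip
      rwa [ker_subschemeι, ker_subschemeι] at this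
    have h2 : (pullback.snd w U.ι).ker = w.ker.comap U.ι :=
      Groth.Agent.Lib.H69ClosedDesc.ker_of_isPullback_closedImmersion U.ι (IsPullback.of_hasPullback w U.ι)
    have h3 : a.liftCoborder.ker = vanishingIdeal CU := by
      apply le_antisymm
      · rw [← le_support_iff_le_vanishingIdeal]
        intro x hx
        change x ∈ (a.liftCoborder.ker.support : Set U)
        rw [Scheme.Hom.support_ker]
        apply subset_closure
        rw [← hCU]
        exact hx
      · exact Groth.Agent.Lib.IntegralSection.vanishingIdeal_le_ker a.liftCoborder CU (by rw [hCU])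
    let e : A ⟶ pullback w U.ι := pullback.lift a' a.liftCoborder (by rw [h, hac])
    have he : e ≫ pullback.snd w U.ι = a.liftCoborder := pullback.lift_snd _ _ _
    have hiso : IsIso e :=
      IsClosedImmersion.isIso_of_ker_eq a.liftCoborder (pullback.snd w U.ι) e he (by rw [h3, h2, hk, h1])
    have : a' = e ≫ pullback.fst w U.ι := (pullback.lift_fst _ _ _).symm
    rw [this]
    infer_instance
  · rw [DenseRange, dense_iff_closure_eq,
      w.isClosedEmbedding.isEmbedding.closure_eq_preimage_closure_image, ← Set.range_comp]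
    have h1 : (w : W → V) ∘ (a' : A → W) = (a : A → V) := by
      funext x
      change w (a' x) = a x
      rw [← Scheme.Hom.comp_apply, h]
    have h2 : closure (Set.range a) = Set.range w := by
      have := Scheme.Hom.support_ker w
      rw [w.isClosedEmbedding.isClosed_range.closure_eq, hk, coe_support_vanishingIdeal, hC] at this
      exact this
    rw [h1, h2]
    ext x
    simp

theorem imgSet_eq_range_of_isPullback {X Y : Sp S} {f : X ⟶ Y} {V A : Over S} {p : (yon S).obj V ⟶ Y}
    {xA : (yon S).obj A ⟶ X} {a : A ⟶ V} (sq : IsPullback xA ((yon S).map a) f p) :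
    imgSet f p = Set.range a.left := by
  apply Set.eq_of_subset_of_subset
  · rintro v ⟨ξ, hξ⟩
    obtain ⟨q, -, hq2⟩ := Groth.Agent.Lib.AlgSpPts66.exists_of_isPullback p f xA ((yon S).map a) sq
      ξ (Points.ofScheme V v) (by rw [hξ, ← Points.ofPt_eq_map_ofScheme])
    refine ⟨Points.toScheme A q, ?_⟩
    have h1 := Groth.Agent.Lib.AlgSpPts66.ofPt_yonMap a (Points.toScheme A q)
    rw [Points.ofPt_eq_map_ofScheme, Points.ofScheme_toScheme, hq2] at h1
    exact ((Points.schemeEquiv V).injective h1).symm
  · exact range_subset_imgSet sq.w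

theorem dense_range_map_of_chart {Z Zbar : Sp S} (h' : Z ⟶ Zbar) {W A : Over S} (φ : (yon S).obj W ⟶ Zbar)
    (hφs : RepWith @Surjective φ) (a' : A ⟶ W) (fstA : (yon S).obj A ⟶ Z)
    (w : fstA ≫ h' = (yon S).map a' ≫ φ) (hd : DenseRange a'.left) :
    Dense (Set.range (Points.map h')) := by
  have h1 : DenseRange (Points.ofPt φ ∘ a'.left) :=
    (Groth.Agent.Lib.AlgSpQC.surjective_ofPt_of_repWith_surjective hφs).denseRange.comp hd
      (Points.continuous_ofPt φ)
  refine Dense.mono ?_ h1
  rintro _ ⟨α, rfl⟩
  refine ⟨Points.ofPt fstA α, ?_⟩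
  rw [Points.map_ofPt, w, Groth.Agent.Lib.AlgSpPts66.ofPt_yonMap_comp]
  rfl

/-- A quasi-compact (or reduced-source) immersion is a scheme theoretically dense, topologically dense open
immersion into its scheme theoretic image. -/
theorem immersion_into_schImage {Z X Zbar : Sp S} (hX : IsAlgSpace X) (h : Z ⟶ X)
    (hh : RepWith @IsImmersion h) (hq : IsQuasiCompactMor h ∨ IsReducedSp Z) (c : Zbar ⟶ X)
    (hc : IsSchImage h c) (h' : Z ⟶ Zbar) (fac : h' ≫ c = h) :
    RepWith @IsOpenImmersion h' ∧ IsSchDense h' ∧ Dense (Set.range (Points.map h')) := by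
  obtain ⟨V, p, hpe, hps⟩ := hX.atlas
  obtain ⟨A, a, fstA, sqA⟩ := hh.1 p
  have haI : IsImmersion a.left := hh.2 p fstA a sqA
  obtain ⟨W, w, fstW, sqW⟩ := hc.1.1 p
  have hwC : IsClosedImmersion w.left := hc.1.2 p fstW w sqW
  have cc := chartCover_of_isPullback sqA
  obtain ⟨a', ha'⟩ := (yon S).map_surjective (sqW.lift (fstA ≫ h') ((yon S).map a) (by
    rw [Category.assoc, fac, sqA.w]))
  have ha'w : a' ≫ w = a := (yon S).map_injective (by rw [Functor.map_comp, ha', sqW.lift_snd])
  have ha'w' : a'.left ≫ w.left = a.left := by rw [← Over.comp_left, ha'w]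
  have hsqw : fstA ≫ h' = (yon S).map a' ≫ fstW := by rw [ha', sqW.lift_fst]
  have sqL : IsPullback fstA ((yon S).map a') h' fstW := by
    refine IsPullback.of_bot ?_ hsqw sqW
    rw [← Functor.map_comp, ha'w, fac]
    exact sqA
  have hmonoh : Mono h :=
    mono_of_repWith (fun _ _ g (_ : IsImmersion g) => (inferInstance : Mono g)) hh
  have hmono : Mono h' := by
    have : Mono (h' ≫ c) := by rw [fac]; exact hmonoh
    exact mono_of_mono h' c
  have hfe : RepWith @Etale fstW := Groth.Agent.Lib.AlgSpBasic.repWith_fst_of_isPullback _ sqW hpe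
  have hfs : RepWith @Surjective fstW := Groth.Agent.Lib.AlgSpBasic.repWith_fst_of_isPullback _ sqW hps
  have hloc : Sheaf.IsLocallySurjective fstW := isLocallySurjective_of_etale_surjective fstW hfe hfs
  rcases hq with hq | hr
  · have haQ : QuasiCompact a.left :=
      (Groth.Agent.Lib.AlgSpQC.repWith_quasiCompact_of_isQuasiCompactMor hh.1 hq).2 p fstA a sqA
    have hker : w.left.ker = a.left.ker := ker_eq_of_isSchImage hX h c hc p hpe hps fstA a cc w fstW sqW
    obtain ⟨hO, hbot⟩ := isOpenImmersion_of_ker_eq a.left w.left a'.left ha'w' hker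
    have hO' : RepWith @IsOpenImmersion h' := repWith_isOpenImmersion_of_chart h' fstW a' fstA sqL
    have hqa' : QuasiCompact a'.left := by
      have : QuasiCompact (a'.left ≫ w.left) := by rw [ha'w']; exact haQ
      exact QuasiCompact.of_comp a'.left w.left
    have hdom : IsSchemeTheoreticallyDominant a'.left := ⟨hbot⟩
    have hd : DenseRange a'.left := a'.left.denseRange
    exact ⟨hO', isSchDense_of_chart h' hO' fstW hfe hfs a' fstA sqL hbot,
      dense_range_map_of_chart h' fstW hfs a' fstA hsqw hd⟩
  · have hfAe : RepWith @Etale fstA := Groth.Agent.Lib.AlgSpBasic.repWith_fst_of_isPullback _ sqA hpe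
    have hAr : IsReduced A.left := Groth.Agent.Lib.H86Limits.isReduced_of_repWith_etale hr fstA hfAe
    have hker := ker_eq_vanishingIdeal_of_reduced hX h c hc p hpe hps fstA a cc w fstW sqW
    have hC : (imgClosure h p : Set ↥V.left) = closure (Set.range a.left) := by
      change closure (imgSet h p) = _
      rw [imgSet_eq_range_of_isPullback sqA]
    obtain ⟨hO, hd⟩ := isOpenImmersion_of_reduced a.left w.left a'.left ha'w' _ hC hker
    have hO' : RepWith @IsOpenImmersion h' := repWith_isOpenImmersion_of_chart h' fstW a' fstA sqL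
    -- `W` is reduced
    have hk' : w.left.ker = (redSubι (imgClosure h p)).ker := by rw [hker, ker_subschemeι]
    let e : W.left ⟶ redSub (imgClosure h p) := IsClosedImmersion.lift (redSubι (imgClosure h p)) w.left hk'.ge
    have he : e ≫ redSubι (imgClosure h p) = w.left := IsClosedImmersion.lift_fac _ _ _
    have hiso : IsIso e := IsClosedImmersion.isIso_of_ker_eq w.left (redSubι (imgClosure h p)) e he hk'
    have hWr : IsReduced W.left := isReduced_of_isOpenImmersion e
    refine ⟨hO', ?_, dense_range_map_of_chart h' fstW hfs a' fstA hsqw hd⟩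
    -- scheme theoretic density
    let O : W.left.Opens := a'.left.opensRange
    have hwO : a'.left.isoOpensRange.inv ≫ A.hom = O.ι ≫ W.hom := by
      rw [← Over.w a', ← Category.assoc, Scheme.Hom.isoOpensRange_inv_comp]
    let eO : Over.mk (O.ι ≫ W.hom) ≅ A := Over.isoMk a'.left.isoOpensRange.symm hwO
    have heO : eO.hom ≫ a' = (Over.homMk O.ι rfl : Over.mk (O.ι ≫ W.hom) ⟶ W) := by
      ext
      exact Scheme.Hom.isoOpensRange_inv_comp _
    have sqO : IsPullback ((yon S).map eO.hom ≫ fstA)
        ((yon S).map (Over.homMk O.ι rfl : Over.mk (O.ι ≫ W.hom) ⟶ W)) h' fstW :=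
      IsPullback.of_iso sqL ((yon S).mapIso eO).symm (Iso.refl _) (Iso.refl _) (Iso.refl _)
        (by simp) (by
          have : eO.inv ≫ (Over.homMk O.ι rfl : Over.mk (O.ι ≫ W.hom) ⟶ W) = a' := by
            rw [← heO, Iso.inv_hom_id_assoc]
          simp [← Functor.map_comp, this]) (by simp) (by simp)
    have hOd : Dense (O : Set ↥W.left) := hd
    exact ⟨hO', W, fstW, O, _, hfe, hfs, sqO,
      Groth.Agent.Lib.SchDenseReduced68.isSchematicallyDense_of_dense_of_isReduced O hOd⟩

end Groth.Agent.Lib.H69SchImageImm2
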