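import Groth.Agent.Lib.H69SchImageBC
import Groth.Agent.Lib.AlgSpLocP

/-!
# helper69: the image of a quasi-compact morphism is dense in its scheme theoretic image; etale base change
-/

set_option autoImplicit false
universe u

open CategoryTheory CategoryTheory.Limits AlgebraicGeometry Opposite

namespace Groth.Agent.Lib.H69SchImageTop

open AlgSp Groth.Agent.Lib.H69AlgSp Groth.Agent.Lib.H69QuotOpen Groth.Agent.Lib.H69SchImage
  Groth.Agent.Lib.H69SchImageQC Groth.Agent.Lib.H69NiceChart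

variable {S : Scheme.{u}}

theorem locP_flat_of_isEtaleMor {X Y : Sp S} (hY : IsAlgSpace Y) (b : X ⟶ Y) (hb : IsEtaleMor b) :
    LocP @Flat b := by
  have h := (Groth.Agent.Lib.AlgSpLocP.isEtaleMor_iff_locP hY b).1 hb
  intro U V a c h' ha hc e
  have : Etale h'.left := h a c h' ha hc e
  infer_instance

/-- The image of a quasi-compact morphism is dense in its scheme theoretic image. -/
theorem range_map_subset_closure {X Y Z : Sp S} (hY : IsAlgSpace Y) (f : X ⟶ Y) (i : Z ⟶ Y)
    (hq : IsQuasiCompactMor f) (hZ : IsSchImage f i) :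
    Set.range (Points.map i) ⊆ closure (Set.range (Points.map f)) := by
  obtain ⟨V, p, A, xA, a, hpe, hps, cc, hqc⟩ := exists_nice_chart hY f hq
  obtain ⟨W, w, fstW, sqW⟩ := hZ.1.1 p
  have hwC : IsClosedImmersion w.left := hZ.1.2 p fstW w sqW
  have hker : w.left.ker = a.left.ker := ker_eq_of_isSchImage hY f i hZ p hpe hps xA a cc w fstW sqW
  have hfs : RepWith @Surjective fstW :=
    Groth.Agent.Lib.AlgSpBasic.repWith_fst_of_isPullback _ sqW hps
  rintro _ ⟨z, rfl⟩
  obtain ⟨w₀, rfl⟩ := Groth.Agent.Lib.AlgSpQC.surjective_ofPt_of_repWith_surjective hfs z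
  rw [Points.map_ofPt, sqW.w, Groth.Agent.Lib.AlgSpPts66.ofPt_yonMap_comp]
  have hv₀ : w.left w₀ ∈ closure (Set.range a.left) := by
    rw [← Scheme.Hom.support_ker a.left, ← hker, Scheme.Hom.support_ker w.left]
    exact subset_closure ⟨w₀, rfl⟩
  rw [mem_closure_iff]
  intro O hO hmem
  have hO' : IsOpen (Points.ofPt p ⁻¹' O) := hO.preimage (Points.continuous_ofPt p)
  obtain ⟨_, hα, ⟨α, rfl⟩⟩ := mem_closure_iff.1 hv₀ _ hO' hmem
  refine ⟨Points.ofPt p (a.left α), hα, Points.ofPt xA α, ?_⟩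
  rw [Points.map_ofPt, cc.w, Groth.Agent.Lib.AlgSpPts66.ofPt_yonMap_comp]

end Groth.Agent.Lib.H69SchImageTop
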