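import Groth.Agent.Lib.AlgSpProper2
import Groth.Agent.Lib.H69SchImageTop
import Groth.Agent.Lib.AlgSpAffineSpace

/-!
# helper69: the scheme theoretic image of a proper algebraic space is proper (S10281)

* `isQuasiCompactMor_of_surjective_comp`, `isUnivClosedMor_of_surjective_comp`: quasi-compactness and universal
  closedness of `h' ≫ q` pass to `q` when `h'` is surjective.
* `isProperMor_schImage`.
-/

set_option autoImplicit false
universe u
open CategoryTheory CategoryTheory.Limits AlgebraicGeometry Opposite Topology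

namespace Groth.Agent.Lib.H69SchImageProper

open AlgSp Groth.Agent.Lib.AlgSpPoints Groth.Agent.Lib.AlgSpQC Groth.Agent.Lib.AlgSpFibre
  Groth.Agent.Lib.AlgSpDescent Groth.Agent.Lib.AlgSpLocP Groth.Agent.Lib.AlgSpProper

variable {S : Scheme.{u}}

theorem isQuasiCompactMor_of_surjective_comp {X Z B : Sp S} (hZ : IsAlgSpace Z)
    (hB : Representable (Limits.diag B)) {h' : X ⟶ Z} {q : Z ⟶ B} (hs : IsSurjectiveMor h')
    (hc : IsQuasiCompactMor (h' ≫ q)) : IsQuasiCompactMor q := by
  intro Z₀ Z' hZ₀ hqc g fst snd sq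
  have sq1 := IsPullback.of_hasPullback h' fst
  have sq2 := sq1.paste_vert sq
  have h1 : IsQuasiCompactSp (pullback h' fst) := hc hZ₀ hqc g _ _ sq2
  have hb : IsSurjectiveMor (pullback.snd h' fst) := isSurjectiveMor_of_isPullback sq1 hs
  have hZ' : IsAlgSpace Z' := isAlgSpace_of_isPullback hB hZ hZ₀ sq
  have := compactSpace_points_of_isQuasiCompactSp h1
  have : CompactSpace (Points Z') :=
    Function.Surjective.compactSpace (Points.continuous_map (pullback.snd h' fst)) hb
  exact isQuasiCompactSp_of_compactSpace_points hZ'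

theorem isUnivClosedMor_of_surjective_comp {X Z B : Sp S} {h' : X ⟶ Z} {q : Z ⟶ B}
    (hs : IsSurjectiveMor h') (hc : IsUnivClosedMor (h' ≫ q)) : IsUnivClosedMor q := by
  intro Z₀ Z' hZ₀ g fst snd sq
  have sq1 := IsPullback.of_hasPullback h' fst
  have sq2 := sq1.paste_vert sq
  have h1 : IsClosedMap (Points.map (pullback.snd h' fst ≫ snd)) := hc hZ₀ g _ _ sq2
  have hb : Function.Surjective (Points.map (pullback.snd h' fst)) := isSurjectiveMor_of_isPullback sq1 hs
  change IsClosedMap (Points.map snd)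
  intro T hT
  have e : Points.map snd '' T =
      Points.map (pullback.snd h' fst ≫ snd) '' (Points.map (pullback.snd h' fst) ⁻¹' T) := by
    ext y
    constructor
    · rintro ⟨t, ht, rfl⟩
      obtain ⟨x, rfl⟩ := hb t
      exact ⟨x, ht, Points.map_comp _ _ x⟩
    · rintro ⟨x, hx, rfl⟩
      exact ⟨_, hx, (Points.map_comp _ _ x).symm⟩
  rw [e]
  exact h1 _ (hT.preimage (Points.continuous_map _))

/-- S10281. -/
theorem isProperMor_schImage {X Y Z B : Sp S} (hX : IsAlgSpace X) (hY : IsAlgSpace Y) (hZ : IsAlgSpace Z)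
    (hB : IsAlgSpace B) (h : X ⟶ Y) (f : X ⟶ B) (g : Y ⟶ B) (comm : h ≫ g = f) (hf : IsProperMor f)
    (hg : IsSeparatedMor g) (hg' : LocP @LocallyOfFiniteType g) (i : Z ⟶ Y) (hZi : IsSchImage h i)
    (h' : X ⟶ Z) (fac : h' ≫ i = h) : IsProperMor (i ≫ g) ∧ IsSurjectiveMor h' := by
  have hiC := hZi.1
  have hip : IsProperMor i := isProperMor_of_repWith_isClosedImmersion hZ hY hiC
  have hqsep : IsSeparatedMor (i ≫ g) := isSeparatedMor_comp hip.1 hg
  have hcomp : h' ≫ (i ≫ g) = f := by rw [← Category.assoc, fac, comm]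
  have hh' : IsProperMor h' := isProperMor_of_comp hX hZ hB hqsep (by rw [hcomp]; exact hf)
  have hhp : IsProperMor h := isProperMor_of_comp hX hY hB hg (by rw [comm]; exact hf)
  have hq : IsQuasiCompactMor h := hhp.2.1.2
  have hdense := Groth.Agent.Lib.H69SchImageTop.range_map_subset_closure hY h i hq hZi
  have hclosed : IsClosed (Set.range (Points.map h')) := isClosed_range_of_isUnivClosedMor hZ hh'.2.2
  have hemb := Groth.Agent.Lib.AlgSpAffineSpace.isClosedEmbedding_map_of_repWith_isClosedImmersion hiC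
  have hsurj : IsSurjectiveMor h' := by
    intro z
    have h1 : Points.map i z ∈ closure (Set.range (Points.map h)) := hdense ⟨z, rfl⟩
    have h2 : Set.range (Points.map h) = Points.map i '' Set.range (Points.map h') := by
      ext y
      constructor
      · rintro ⟨x, rfl⟩
        exact ⟨Points.map h' x, ⟨x, rfl⟩, by rw [← Points.map_comp, fac]⟩
      · rintro ⟨_, ⟨x, rfl⟩, rfl⟩
        exact ⟨x, by rw [← fac, Points.map_comp]⟩
    rw [h2, hemb.closure_image_eq, hclosed.closure_eq] at h1
    obtain ⟨z', hz', hzz'⟩ := h1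
    rw [← hemb.injective hzz']
    exact hz'
  refine ⟨⟨hqsep, ⟨locP_comp etLocalClass_lft hZ hY hB hip.2.1.1 hg', ?_⟩, ?_⟩, hsurj⟩
  · exact isQuasiCompactMor_of_surjective_comp hZ hB.diag hsurj (by rw [hcomp]; exact hf.2.1.2)
  · exact isUnivClosedMor_of_surjective_comp hsurj (by rw [hcomp]; exact hf.2.2)

end Groth.Agent.Lib.H69SchImageProper
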