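import Groth.Agent.Lib.H69SchImageBC
import Groth.Agent.Lib.AlgSpDescent

/-!
# helper69: the scheme theoretic image of a section of a separated morphism over a quasi-compact open
-/

set_option autoImplicit false
universe u

open CategoryTheory CategoryTheory.Limits AlgebraicGeometry Opposite

namespace Groth.Agent.Lib.H69SchImageSection

open AlgSp Groth.Agent.Lib.H69AlgSp Groth.Agent.Lib.H69QuotOpen Groth.Agent.Lib.H69SchImage
  Groth.Agent.Lib.H69SchImageQC Groth.Agent.Lib.H69NiceChart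

variable {S : Scheme.{u}}

/-- A closed immersion from an algebraic space is its own scheme theoretic image. -/
theorem isSchImage_self {V X : Sp S} (s : V ⟶ X) (hs : RepWith @IsClosedImmersion s) : IsSchImage s s :=
  ⟨hs, ⟨𝟙 V, Category.id_comp _⟩, fun _ _ _ _ ⟨f'', hf''⟩ => ⟨f'', hf''⟩⟩

/-- Scheme theoretic images are unique. -/
theorem isSchImage_unique {G Y Z₁ Z₂ : Sp S} (hZ₁ : IsAlgSpace Z₁) (hZ₂ : IsAlgSpace Z₂) (g : G ⟶ Y)
    (i₁ : Z₁ ⟶ Y) (i₂ : Z₂ ⟶ Y) (h₁ : IsSchImage g i₁) (h₂ : IsSchImage g i₂) :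
    ∃ e : Z₁ ≅ Z₂, e.hom ≫ i₂ = i₁ := by
  have hm₁ : Mono i₁ := mono_of_repWith_isClosedImmersion h₁.1
  have hm₂ : Mono i₂ := mono_of_repWith_isClosedImmersion h₂.1
  obtain ⟨k, hk⟩ := h₁.2.2 i₂ hZ₂ h₂.1 h₂.2.1
  obtain ⟨l, hl⟩ := h₂.2.2 i₁ hZ₁ h₁.1 h₁.2.1
  refine ⟨⟨k, l, ?_, ?_⟩, hk⟩
  · rw [← cancel_mono i₁, Category.assoc, hl, hk, Category.id_comp]
  · rw [← cancel_mono i₂, Category.assoc, hk, hl, Category.id_comp]

/-- For a separated `f : X ⟶ Y` and a section `s` over a quasi-compact open `s ≫ f : V ⟶ Y`, the scheme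
theoretic image of `s` maps isomorphically to `Y` over `V`. -/
theorem isIso_snd_of_section {X Y V Y' P : Sp S} (hX : IsAlgSpace X) (hY : IsAlgSpace Y) (hV : IsAlgSpace V)
    (hY' : IsAlgSpace Y') (f : X ⟶ Y) (s : V ⟶ X) (hj : RepWith @IsOpenImmersion (s ≫ f))
    (hjq : IsQuasiCompactMor (s ≫ f)) (hf : IsSeparatedMor f) (c : Y' ⟶ X) (hc : IsSchImage s c)
    (fst : P ⟶ Y') (snd : P ⟶ V) (sq : IsPullback fst snd (c ≫ f) (s ≫ f)) : IsIso snd := by
  have sqXV := IsPullback.of_hasPullback (s ≫ f) f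
  let Γ : V ⟶ pullback (s ≫ f) f := pullback.lift (𝟙 V) s (by simp)
  have hΓ1 : Γ ≫ pullback.fst (s ≫ f) f = 𝟙 V := pullback.lift_fst _ _ _
  have hΓ2 : Γ ≫ pullback.snd (s ≫ f) f = s := pullback.lift_snd _ _ _
  have hΓ : RepWith @IsClosedImmersion Γ :=
    (RepWith (S := S) @IsClosedImmersion).of_isPullback (pullback_lift_diagonal_isPullback s f) hf
  have hprO : RepWith @IsOpenImmersion (pullback.snd (s ≫ f) f) :=
    Groth.Agent.Lib.AlgSpBasic.repWith_snd_of_isPullback _ sqXV hj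
  have hprq : IsQuasiCompactMor (pullback.snd (s ≫ f) f) :=
    Groth.Agent.Lib.AlgSpDescent.isQuasiCompactMor_of_isPullback sqXV hjq
  have hXV : IsAlgSpace (pullback (s ≫ f) f) :=
    Groth.Agent.Lib.AlgSpFibre.isAlgSpace_of_isPullback hY.diag hV hX sqXV
  have hsq : IsQuasiCompactMor s := by
    rw [← hΓ2]
    exact Groth.Agent.Lib.AlgSpDescent.isQuasiCompactMor_comp hXV hX.diag
      (Groth.Agent.Lib.AlgSpBasic.isQuasiCompactMor_of_repWith
        (fun _ _ g (_ : IsClosedImmersion g) => (inferInstance : QuasiCompact g)) hΓ) hprq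
  have hflat : LocP @Flat (pullback.snd (s ≫ f) f) :=
    Groth.Agent.Lib.AlgSpBasic.locP_of_repWith @Flat
      (fun _ _ _ l w (_ : Etale l) (_ : Flat w) => (inferInstance : Flat (l ≫ w)))
      (fun _ a => hXV.representable_from_yon a)
      (repWith_mono (fun _ _ g (_ : IsOpenImmersion g) => (inferInstance : Flat g)) hprO)
  have hmono : Mono (pullback.snd (s ≫ f) f) := mono_of_repWith_isOpenImmersion hprO
  have sqG : IsPullback (𝟙 V) Γ s (pullback.snd (s ≫ f) f) :=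
    IsPullback.of_horiz_isIso_mono ⟨by rw [Category.id_comp, hΓ2]⟩
  have sqZ := IsPullback.of_hasPullback c (pullback.snd (s ≫ f) f)
  have hI : IsSchImage Γ (pullback.snd c (pullback.snd (s ≫ f) f)) :=
    Groth.Agent.Lib.H69SchImageBC.isSchImage_of_flat_baseChange hXV hX _ hflat s hsq c hc (𝟙 V) Γ sqG _ _ sqZ
  have hY'V : IsAlgSpace (pullback c (pullback.snd (s ≫ f) f)) :=
    Groth.Agent.Lib.AlgSpFibre.isAlgSpace_of_isPullback hX.diag hY' hXV sqZ
  obtain ⟨e, he⟩ := isSchImage_unique hY'V hV Γ _ Γ hI (isSchImage_self Γ hΓ)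
  have big : IsPullback (pullback.fst c (pullback.snd (s ≫ f) f))
      (pullback.snd c (pullback.snd (s ≫ f) f) ≫ pullback.fst (s ≫ f) f) (c ≫ f) (s ≫ f) :=
    sqZ.paste_vert sqXV.flip
  have h1 : pullback.snd c (pullback.snd (s ≫ f) f) ≫ pullback.fst (s ≫ f) f = e.hom := by
    rw [← he, Category.assoc, hΓ1, Category.comp_id]
  have h2 : snd = (sq.isoIsPullback _ _ big).hom ≫ e.hom := by
    rw [← h1, IsPullback.isoIsPullback_hom_snd]
  rw [h2]
  infer_instance

end Groth.Agent.Lib.H69SchImageSection
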