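import Groth.Agent.Lib.H69AlgSpBase

/-!
# helper69: explicit model of `j_!` for the change of base `g : S ⟶ S'` on big fppf sites

`(j_! F)(T') = Σ (φ : T' ⟶ S over S'), F(T', φ)`.
-/

set_option autoImplicit false
universe u
open CategoryTheory CategoryTheory.Limits AlgebraicGeometry Opposite
open AlgSp Groth.Agent.Lib.H69AlgSp

namespace Groth.Agent.Lib.H69Shriek

variable {S S' : Scheme.{u}} (g : S ⟶ S')

/-- `S` as a scheme over `S'`. -/
abbrev X₀ : Over S' := Over.mk g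

variable {g}

/-- The scheme over `S` attached to a point `φ : T' ⟶ S` over `S'`. -/
abbrev ovS {T' : Over S'} (φ : T' ⟶ X₀ g) : Over S := Over.mk φ.left

/-- Restriction of points. -/
abbrev ovSMap {T'' T' : Over S'} (a : T'' ⟶ T') (φ : T' ⟶ X₀ g) : ovS (a ≫ φ) ⟶ ovS φ :=
  Over.homMk a.left rfl

variable (g) in
/-- Sections of the model of `j_! F` over `T'`. -/
def Sec (F : Sp S) (T' : Over S') : Type (u + 1) :=
  Σ φ : T' ⟶ X₀ g, F.obj.obj (op (ovS φ))

variable {F : Sp S}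

theorem map_map_eq {B : Scheme.{u}} (F : Sp B) {Y₁ Y₂ Y₃ Y₂' : Over B} (e₁ : Y₃ ⟶ Y₂) (e₂ : Y₂ ⟶ Y₁) (e₁' : Y₃ ⟶ Y₂')
    (e₂' : Y₂' ⟶ Y₁) (h : e₁.left ≫ e₂.left = e₁'.left ≫ e₂'.left) (ξ : F.obj.obj (op Y₁)) :
    F.obj.map e₁.op (F.obj.map e₂.op ξ) = F.obj.map e₁'.op (F.obj.map e₂'.op ξ) := by
  rw [← FunctorToTypes.map_comp_apply, ← FunctorToTypes.map_comp_apply, ← op_comp, ← op_comp]
  have : e₁ ≫ e₂ = e₁' ≫ e₂' := Over.OverMorphism.ext h
  rw [this]

theorem map_map_eq_map {B : Scheme.{u}} (F : Sp B) {Y₁ Y₂ Y₃ : Over B} (e₁ : Y₃ ⟶ Y₂) (e₂ : Y₂ ⟶ Y₁) (e : Y₃ ⟶ Y₁)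
    (h : e₁.left ≫ e₂.left = e.left) (ξ : F.obj.obj (op Y₁)) :
    F.obj.map e₁.op (F.obj.map e₂.op ξ) = F.obj.map e.op ξ := by
  rw [← FunctorToTypes.map_comp_apply, ← op_comp]
  have : e₁ ≫ e₂ = e := Over.OverMorphism.ext h
  rw [this]

/-- Restriction of a section along a morphism into its scheme. -/
def Sec.res {T' : Over S'} (x : Sec g F T') {Y : Over S} (e : Y ⟶ ovS x.1) : F.obj.obj (op Y) :=
  F.obj.map e.op x.2

theorem Sec.res_congr {T' : Over S'} {x y : Sec g F T'} (h : x = y) {Y : Over S}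
    (e₁ : Y ⟶ ovS x.1) (e₂ : Y ⟶ ovS y.1) (he : e₁.left = e₂.left) : x.res e₁ = y.res e₂ := by
  subst h
  have : e₁ = e₂ := Over.OverMorphism.ext he
  rw [this]

theorem Sec.res_comp {T' : Over S'} (x : Sec g F T') {Y Y' : Over S} (e : Y ⟶ ovS x.1)
    (b : Y' ⟶ Y) : F.obj.map b.op (x.res e) = x.res (b ≫ e) := by
  change F.obj.map b.op (F.obj.map e.op x.2) = F.obj.map (b ≫ e).op x.2
  rw [op_comp, FunctorToTypes.map_comp_apply]

theorem Sec.ext' {T' : Over S'} {x y : Sec g F T'} (e : ovS x.1 ⟶ ovS y.1) (he : e.left = 𝟙 _)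
    (h : y.res e = x.2) : x = y := by
  obtain ⟨φ, ξ⟩ := x
  obtain ⟨ψ, η⟩ := y
  have hφ : φ = ψ := by
    apply Over.OverMorphism.ext
    have := Over.w e
    change e.left ≫ ψ.left = φ.left at this
    rw [he, Category.id_comp] at this
    exact this.symm
  subst hφ
  have he' : e = 𝟙 _ := Over.OverMorphism.ext he
  subst he'
  change F.obj.map (𝟙 _).op η = ξ at h
  rw [op_id, FunctorToTypes.map_id_apply] at h
  rw [h]

variable (g F) in
/-- The presheaf model of `j_! F`. -/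
def pre : (Over S')ᵒᵖ ⥤ Type (u + 1) where
  obj T' := Sec g F T'.unop
  map {T' T''} a := TypeCat.ofHom (fun x => ⟨a.unop ≫ x.1, x.res (ovSMap a.unop x.1)⟩)
  map_id T' := by
    ext x
    refine Sec.ext' (Over.homMk (𝟙 _) (by simp)) rfl ?_
    change x.res _ = x.res _
    exact Sec.res_congr rfl _ _ (by simp)
  map_comp {T₁ T₂ T₃} a b := by
    ext x
    refine Sec.ext' (Over.homMk (𝟙 _) (by simp)) rfl ?_
    change Sec.res (g := g) ⟨b.unop ≫ a.unop ≫ x.1, Sec.res (g := g) ⟨a.unop ≫ x.1, _⟩ _⟩ _ = x.res _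
    change F.obj.map _ (F.obj.map _ (F.obj.map _ x.2)) = F.obj.map _ x.2
    rw [← FunctorToTypes.map_comp_apply, ← FunctorToTypes.map_comp_apply, ← op_comp, ← op_comp]
    congr 2

theorem pre_map_fst {T' T'' : Over S'} (a : T'' ⟶ T') (x : Sec g F T') :
    ((pre g F).map a.op x).1 = a ≫ x.1 := rfl

theorem pre_map_res {T' T'' : Over S'} (a : T'' ⟶ T') (x : Sec g F T') {Y : Over S}
    (e : Y ⟶ ovS (a ≫ x.1)) :
    Sec.res (g := g) ((pre g F).map a.op x) e = x.res (e ≫ ovSMap a x.1) := by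
  change F.obj.map e.op (F.obj.map (ovSMap a x.1).op x.2) = F.obj.map (e ≫ ovSMap a x.1).op x.2
  rw [op_comp, FunctorToTypes.map_comp_apply]

section Sheaf

/-- The isomorphism from `(T', φ)` viewed over `S'` back to `T'` (the identity on schemes). -/
abbrev ιφ {T' : Over S'} (φ : T' ⟶ X₀ g) : (Over.map g).obj (ovS φ) ⟶ T' :=
  Over.homMk (𝟙 _) (by
    have := Over.w φ
    change φ.left ≫ g = T'.hom at this
    change 𝟙 _ ≫ T'.hom = φ.left ≫ g
    rw [Category.id_comp, this])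

/-- Its inverse. -/
abbrev ιφinv {T' : Over S'} (φ : T' ⟶ X₀ g) : T' ⟶ (Over.map g).obj (ovS φ) :=
  Over.homMk (𝟙 _) (by
    have := Over.w φ
    change φ.left ≫ g = T'.hom at this
    change 𝟙 _ ≫ φ.left ≫ g = T'.hom
    rw [Category.id_comp, this])

variable (F) in
theorem isSheaf_pre : Presieve.IsSheaf (J S') (pre g F) := by
  intro T' R hR x hx
  -- Step 1: glue the first components
  have hH : Presieve.IsSheaf (J S') ((yon S').obj (X₀ g)).obj :=
    (isSheaf_iff_isSheaf_of_type _ _).1 ((yon S').obj (X₀ g)).property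
  let y : Presieve.FamilyOfElements ((yon S').obj (X₀ g)).obj R.arrows :=
    fun T'' a ha => ⟨(x a ha).1⟩
  have hy : y.Compatible := by
    intro Y₁ Y₂ Z b₁ b₂ a₁ a₂ h₁ h₂ comm
    have := congrArg (fun s : Sec g F Z => s.1) (hx b₁ b₂ h₁ h₂ comm)
    exact congrArg ULift.up this
  obtain ⟨⟨φ⟩, hφ, hφu⟩ := hH R hR y hy
  have hφ' : ∀ {T'' : Over S'} (a : T'' ⟶ T') (ha : R a), a ≫ φ = (x a ha).1 :=
    fun a ha => congrArg ULift.down (hφ a ha)
  -- Step 2: the covering sieve of `(T', φ)` over `S` and the family of second components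
  have hR' : R.pullback (ιφ φ) ∈ J S' _ := (J S').pullback_stable (ιφ φ) hR
  have hRS : (R.pullback (ιφ φ)).functorPullback (Over.map g) ∈ J S (ovS φ) :=
    (Over.map g).cover_lift (J S) (J S') hR'
  have hκ : ∀ {Y : Over S} (c : Y ⟶ ovS φ) (hc : R ((Over.map g).map c ≫ ιφ φ)),
      𝟙 Y.left ≫ (x _ hc).1.left = Y.hom := by
    intro Y c hc
    rw [← hφ' _ hc, Category.id_comp]
    change (c.left ≫ 𝟙 _) ≫ φ.left = Y.hom
    rw [Category.comp_id]
    exact Over.w c
  let κ : ∀ {Y : Over S} (c : Y ⟶ ovS φ) (hc : R ((Over.map g).map c ≫ ιφ φ)),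
      Y ⟶ ovS (x _ hc).1 := fun c hc => Over.homMk (𝟙 _) (hκ c hc)
  let z : Presieve.FamilyOfElements F.obj ((R.pullback (ιφ φ)).functorPullback (Over.map g)).arrows :=
    fun Y c hc => (x _ hc).res (κ c hc)
  have hz : z.Compatible := by
    intro Y₁ Y₂ Z b₁ b₂ c₁ c₂ h₁ h₂ comm
    have comm' : (Over.map g).map b₁ ≫ (Over.map g).map c₁ ≫ ιφ φ =
        (Over.map g).map b₂ ≫ (Over.map g).map c₂ ≫ ιφ φ := by
      rw [← Category.assoc, ← Category.assoc, ← Functor.map_comp, ← Functor.map_comp, comm]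
    have hxx := hx ((Over.map g).map b₁) ((Over.map g).map b₂) h₁ h₂ comm'
    have e1 : 𝟙 Z.left ≫ ((Over.map g).map b₁ ≫ (x _ h₁).1).left = Z.hom := by
      rw [Category.id_comp]
      change b₁.left ≫ (x _ h₁).1.left = Z.hom
      have := hκ c₁ h₁
      rw [Category.id_comp] at this
      rw [this, Over.w b₁]
    have e2 : 𝟙 Z.left ≫ ((Over.map g).map b₂ ≫ (x _ h₂).1).left = Z.hom := by
      rw [Category.id_comp]
      change b₂.left ≫ (x _ h₂).1.left = Z.hom
      have := hκ c₂ h₂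
      rw [Category.id_comp] at this
      rw [this, Over.w b₂]
    have key := Sec.res_congr hxx
      (Over.homMk (𝟙 _) e1 : Z ⟶ ovS ((Over.map g).map b₁ ≫ (x _ h₁).1))
      (Over.homMk (𝟙 _) e2 : Z ⟶ ovS ((Over.map g).map b₂ ≫ (x _ h₂).1)) rfl
    rw [pre_map_res, pre_map_res] at key
    change F.obj.map b₁.op ((x _ h₁).res (κ c₁ h₁)) = F.obj.map b₂.op ((x _ h₂).res (κ c₂ h₂))
    rw [Sec.res_comp, Sec.res_comp]
    refine (Sec.res_congr rfl _ _ ?_).trans (key.trans (Sec.res_congr rfl _ _ ?_))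
    · change b₁.left ≫ 𝟙 _ = 𝟙 _ ≫ b₁.left
      rw [Category.comp_id, Category.id_comp]
    · change 𝟙 _ ≫ b₂.left = b₂.left ≫ 𝟙 _
      rw [Category.comp_id, Category.id_comp]
  have hF : Presieve.IsSheaf (J S) F.obj := (isSheaf_iff_isSheaf_of_type _ _).1 F.property
  obtain ⟨ξ, hξ, hξu⟩ := hF _ hRS z hz
  -- membership of the restriction maps in the sieve
  have hmem : ∀ {T'' : Over S'} (a : T'' ⟶ T') (ha : R a),
      R ((Over.map g).map (ovSMap a φ) ≫ ιφ φ) := by
    intro T'' a ha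
    have : (Over.map g).map (ovSMap a φ) ≫ ιφ φ = ιφ (a ≫ φ) ≫ a := by
      apply Over.OverMorphism.ext
      change a.left ≫ 𝟙 _ = 𝟙 _ ≫ a.left
      rw [Category.comp_id, Category.id_comp]
    rw [this]
    exact R.downward_closed ha _
  refine ⟨⟨φ, ξ⟩, ?_, ?_⟩
  · -- amalgamation
    intro T'' a ha
    have hea : 𝟙 _ ≫ (x a ha).1.left = (a ≫ φ).left := by
      rw [Category.id_comp, hφ' a ha]
    refine Sec.ext' (Over.homMk (𝟙 _) hea : ovS (a ≫ φ) ⟶ ovS (x a ha).1) rfl ?_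
    change (x a ha).res _ = F.obj.map (ovSMap a φ).op ξ
    have h1 := hξ (ovSMap a φ) (hmem a ha)
    rw [h1]
    -- compare `x` at the two arrows
    have hcomp : x ((Over.map g).map (ovSMap a φ) ≫ ιφ φ) (hmem a ha) =
        (pre g F).map (ιφ (a ≫ φ)).op (x a ha) := by
      have hdc : R (ιφ (a ≫ φ) ≫ a) := R.downward_closed ha _
      have h2 := hx (𝟙 _) (ιφ (a ≫ φ)) (hmem a ha) ha (by
        rw [Category.id_comp]
        apply Over.OverMorphism.ext
        change a.left ≫ 𝟙 _ = 𝟙 _ ≫ a.left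
        rw [Category.comp_id, Category.id_comp])
      rw [op_id, FunctorToTypes.map_id_apply] at h2
      exact h2
    change _ = (x _ (hmem a ha)).res (κ (ovSMap a φ) (hmem a ha))
    have hle : 𝟙 _ ≫ (ιφ (a ≫ φ) ≫ (x a ha).1).left = (ovS (a ≫ φ)).hom := by
      rw [Category.id_comp, ← hφ' a ha]
      change 𝟙 _ ≫ (a ≫ φ).left = (a ≫ φ).left
      rw [Category.id_comp]
    have key := Sec.res_congr hcomp (κ (ovSMap a φ) (hmem a ha))
      (Over.homMk (𝟙 _) hle : ovS (a ≫ φ) ⟶ ovS (ιφ (a ≫ φ) ≫ (x a ha).1)) rfl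
    rw [key, pre_map_res]
    refine Sec.res_congr rfl _ _ ?_
    change 𝟙 _ = 𝟙 _ ≫ 𝟙 _
    rw [Category.id_comp]
  · -- uniqueness
    intro t ht
    obtain ⟨φ', ξ'⟩ := t
    have hφφ' : φ' = φ := by
      have := hφu ⟨φ'⟩ (fun T'' a ha => by
        have := congrArg (fun s : Sec g F T'' => s.1) (ht a ha)
        exact congrArg ULift.up this)
      exact congrArg ULift.down this
    subst hφφ'
    have : ξ' = ξ := by
      apply hξu
      intro Y c hc
      have h1 := ht _ hc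
      have hle : 𝟙 _ ≫ ((Over.map g).map c ≫ ιφ φ' ≫ φ').left = Y.hom := by
        rw [Category.id_comp]
        change c.left ≫ 𝟙 _ ≫ φ'.left = Y.hom
        rw [Category.id_comp]
        exact Over.w c
      have key := Sec.res_congr h1
        (Over.homMk (𝟙 _) (by
          rw [Category.id_comp]
          change (c.left ≫ 𝟙 _) ≫ φ'.left = Y.hom
          rw [Category.comp_id]
          exact Over.w c) : Y ⟶ ovS (((Over.map g).map c ≫ ιφ φ') ≫ φ')) (κ c hc) rfl
      rw [pre_map_res] at key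
      change F.obj.map c.op ξ' = (x _ hc).res (κ c hc)
      rw [← key]
      change _ = F.obj.map _ ξ'
      congr 2
    rw [this]

variable (g F) in
/-- The model of `j_! F`, a sheaf over `S'`. -/
def Phi : Sp S' := ⟨pre g F, (isSheaf_iff_isSheaf_of_type _ _).2 (isSheaf_pre F)⟩

end Sheaf


section Adjunction

open Groth.Agent.Lib.H69AlgSpBase

/-- Constructor for sections of `Phi`. -/
def Sec.mk {T' : Over S'} (φ : T' ⟶ X₀ g) (ξ : F.obj.obj (op (ovS φ))) : Sec g F T' := ⟨φ, ξ⟩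

theorem Phi_map_apply {T' T'' : Over S'} (a : T'' ⟶ T') (x : Sec g F T') :
    (Phi g F).obj.map a.op x = Sec.mk (a ≫ x.1) (x.res (ovSMap a x.1)) := rfl

theorem Phi_map_res {T' T'' : Over S'} (a : T'' ⟶ T') (x : Sec g F T') {Y : Over S}
    (e : Y ⟶ ovS (a ≫ x.1)) :
    Sec.res (g := g) (F := F) ((Phi g F).obj.map a.op x) e = x.res (e ≫ ovSMap a x.1) :=
  pre_map_res a x e

theorem Sec.mk_res {T' : Over S'} (φ : T' ⟶ X₀ g) (ξ : F.obj.obj (op (ovS φ))) {Y : Over S}
    (e : Y ⟶ ovS φ) : (Sec.mk φ ξ).res e = F.obj.map e.op ξ := rfl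

/-- The structure point of `T` viewed over `S'`. -/
abbrev σ (T : Over S) : (Over.map g).obj T ⟶ X₀ g := Over.homMk T.hom rfl

/-- `T` with its structure point gives back `T`. -/
abbrev τ (T : Over S) : ovS (σ (g := g) T) ⟶ T := Over.homMk (𝟙 _) (by
  change 𝟙 _ ≫ T.hom = T.hom
  rw [Category.id_comp])

/-- The section of `Phi F` over `T` (viewed over `S'`) attached to a section of `F` over `T`. -/
def unitSec (T : Over S) (ξ : F.obj.obj (op T)) : Sec g F ((Over.map g).obj T) :=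
  Sec.mk (σ T) (F.obj.map (τ T).op ξ)

theorem unitSec_map {T W : Over S} (t : W ⟶ T) (ξ : F.obj.obj (op T)) :
    (Phi g F).obj.map ((Over.map g).map t).op (unitSec T ξ) = unitSec W (F.obj.map t.op ξ) := by
  symm
  refine Sec.ext' (Over.homMk (𝟙 _) (by
    change 𝟙 _ ≫ (t.left ≫ T.hom) = W.hom
    rw [Category.id_comp, Over.w]) :
      ovS (σ (g := g) W) ⟶ ovS ((Over.map g).map t ≫ σ T)) rfl ?_
  refine (Phi_map_res _ _ _).trans ?_
  refine map_map_eq F _ _ _ _ ?_ ξ
  change (𝟙 _ ≫ t.left) ≫ 𝟙 _ = 𝟙 _ ≫ t.left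
  rw [Category.comp_id]

variable {G' : Sp S'}

/-- The forward map of the hom-equivalence. -/
noncomputable def homEquivTo (α : Phi g F ⟶ G') : F ⟶ (jinv g).obj G' :=
  ObjectProperty.homMk
    { app := fun T => TypeCat.ofHom (fun ξ =>
        α.hom.app (op ((Over.map g).obj T.unop)) (unitSec T.unop ξ))
      naturality := fun T W t => by
        ext ξ
        change α.hom.app (op ((Over.map g).obj W.unop)) (unitSec W.unop (F.obj.map t.unop.op ξ)) =
          G'.obj.map ((Over.map g).map t.unop).op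
            (α.hom.app (op ((Over.map g).obj T.unop)) (unitSec T.unop ξ))
        rw [← unitSec_map]
        exact NatTrans.naturality_apply α.hom ((Over.map g).map t.unop).op (unitSec T.unop ξ) }

theorem homEquivTo_app (α : Phi g F ⟶ G') (T : Over S) (ξ : F.obj.obj (op T)) :
    (homEquivTo α).hom.app (op T) ξ = α.hom.app (op ((Over.map g).obj T)) (unitSec T ξ) := rfl

/-- The backward map of the hom-equivalence. -/
noncomputable def homEquivInv (β : F ⟶ (jinv g).obj G') : Phi g F ⟶ G' :=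
  ObjectProperty.homMk
    { app := fun T' => TypeCat.ofHom (fun x : Sec g F T'.unop =>
        G'.obj.map (ιφinv x.1).op (β.hom.app (op (ovS x.1)) x.2))
      naturality := fun T' T'' a => by
        ext x
        change G'.obj.map (ιφinv (a.unop ≫ x.1)).op
            (β.hom.app (op (ovS (a.unop ≫ x.1))) (F.obj.map (ovSMap a.unop x.1).op x.2)) =
          G'.obj.map a.unop.op (G'.obj.map (ιφinv x.1).op (β.hom.app (op (ovS x.1)) x.2))
        have hn := NatTrans.naturality_apply β.hom (ovSMap a.unop x.1).op x.2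
        rw [hn]
        change G'.obj.map (ιφinv (a.unop ≫ x.1)).op
            (G'.obj.map ((Over.map g).map (ovSMap a.unop x.1)).op (β.hom.app (op (ovS x.1)) x.2)) = _
        refine map_map_eq G' _ _ _ _ ?_ _
        change 𝟙 _ ≫ a.unop.left = a.unop.left ≫ 𝟙 _
        rw [Category.id_comp, Category.comp_id] }

theorem homEquivInv_app (β : F ⟶ (jinv g).obj G') (T' : Over S') (x : Sec g F T') :
    (homEquivInv β).hom.app (op T') x =
      G'.obj.map (ιφinv x.1).op (β.hom.app (op (ovS x.1)) x.2) := rfl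

variable (F G') in
/-- The hom-equivalence exhibiting `Phi g` as left adjoint to `j⁻¹`. -/
noncomputable def homEquiv : (Phi g F ⟶ G') ≃ (F ⟶ (jinv g).obj G') where
  toFun := homEquivTo
  invFun := homEquivInv
  left_inv α := by
    apply ObjectProperty.hom_ext
    ext T' x
    induction T' using Opposite.rec with | _ T' => ?_
    change (homEquivInv (homEquivTo α)).hom.app (op T') x = α.hom.app (op T') x
    rw [homEquivInv_app, homEquivTo_app]
    have hn := NatTrans.naturality_apply α.hom (ιφinv x.1).op (unitSec (ovS x.1) x.2)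
    refine hn.symm.trans ?_
    congr 1
    refine Sec.ext' (Over.homMk (𝟙 _) (by
      change 𝟙 _ ≫ x.1.left = 𝟙 _ ≫ x.1.left
      rfl) : ovS (ιφinv x.1 ≫ σ (ovS x.1)) ⟶ ovS x.1) rfl ?_
    change F.obj.map _ x.2 = F.obj.map (ovSMap (ιφinv x.1) (σ (ovS x.1))).op
      (F.obj.map (τ (ovS x.1)).op x.2)
    refine (map_map_eq_map F _ _ _ ?_ _).symm
    change (𝟙 _ ≫ 𝟙 _) ≫ 𝟙 _ = 𝟙 _
    rw [Category.id_comp, Category.id_comp]
  right_inv β := by
    apply ObjectProperty.hom_ext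
    ext T ξ
    induction T using Opposite.rec with | _ T => ?_
    change (homEquivTo (homEquivInv β)).hom.app (op T) ξ = β.hom.app (op T) ξ
    rw [homEquivTo_app, homEquivInv_app]
    change G'.obj.map (ιφinv (σ T)).op (β.hom.app (op (ovS (σ (g := g) T))) (F.obj.map (τ T).op ξ)) = _
    have hn := NatTrans.naturality_apply β.hom (τ (g := g) T).op ξ
    rw [hn]
    change G'.obj.map (ιφinv (σ T)).op
      (G'.obj.map ((Over.map g).map (τ (g := g) T)).op (β.hom.app (op T) ξ)) = _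
    rw [map_map_eq_map G' _ _ (𝟙 _) (by
      change 𝟙 _ ≫ 𝟙 _ = 𝟙 _
      rw [Category.id_comp]), op_id, FunctorToTypes.map_id_apply]

theorem homEquiv_naturality (F : Sp S) (G' G'' : Sp S') (γ : G' ⟶ G'') (h : Phi g F ⟶ G') :
    homEquiv F G'' (h ≫ γ) = homEquiv F G' h ≫ (jinv g).map γ := by
  apply ObjectProperty.hom_ext
  ext T ξ
  rfl

variable (g) in
/-- The explicit `j_!`. -/
noncomputable def jsh : Sp S ⥤ Sp S' :=
  Adjunction.leftAdjointOfEquiv (fun F G' => homEquiv (g := g) F G')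
    (fun F G' G'' γ h => homEquiv_naturality F G' G'' γ h)

variable (g) in
/-- `j_! ⊣ j⁻¹`. -/
noncomputable def jshAdj : jsh g ⊣ jinv g :=
  Adjunction.adjunctionOfEquivLeft (fun F G' => homEquiv (g := g) F G')
    (fun F G' G'' γ h => homEquiv_naturality F G' G'' γ h)

variable (g) in
/-- The abstract `j_!` is the explicit one. -/
noncomputable def jshIso :
    (Over.map g).sheafPullback (Type (u + 1)) (J S) (J S') ≅ jsh g :=
  Adjunction.leftAdjointUniq ((Over.map g).sheafAdjunctionContinuous (Type (u + 1)) (J S) (J S'))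
    (jshAdj g)

theorem jsh_obj (F : Sp S) : (jsh g).obj F = Phi g F := rfl

end Adjunction

end Groth.Agent.Lib.H69Shriek
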