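import Groth.Agent.Lib.H69Shriek

/-!
# helper69: `j_!` on morphisms and base change of pullback squares along `j_!`
-/

set_option autoImplicit false
universe u
open CategoryTheory CategoryTheory.Limits AlgebraicGeometry Opposite
open AlgSp Groth.Agent.Lib.H69AlgSp Groth.Agent.Lib.H69AlgSpBase

namespace Groth.Agent.Lib.H69Shriek

variable {S S' : Scheme.{u}} {g : S ⟶ S'} {F G : Sp S}

/-- A section restricted along the inverse of `ιφ` and re-expanded is itself. -/
theorem Phi_map_ιφinv_unitSec {T' : Over S'} (x : Sec g F T') :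
    (Phi g F).obj.map (ιφinv x.1).op (unitSec (ovS x.1) x.2) = x := by
  refine Sec.ext' (Over.homMk (𝟙 _) (by
    change 𝟙 _ ≫ x.1.left = 𝟙 _ ≫ x.1.left
    rfl) : ovS (ιφinv x.1 ≫ σ (ovS x.1)) ⟶ ovS x.1) rfl ?_
  change F.obj.map _ x.2 = F.obj.map (ovSMap (ιφinv x.1) (σ (ovS x.1))).op
    (F.obj.map (τ (ovS x.1)).op x.2)
  refine (map_map_eq_map F _ _ _ ?_ _).symm
  change (𝟙 _ ≫ 𝟙 _) ≫ 𝟙 _ = 𝟙 _
  rw [Category.id_comp, Category.id_comp]

/-- `j_!` on morphisms, on sections. -/
theorem jsh_map_app (a : F ⟶ G) {T' : Over S'} (x : Sec g F T') :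
    ((jsh g).map a).hom.app (op T') x = Sec.mk x.1 (a.hom.app (op (ovS x.1)) x.2) := by
  change (homEquivInv (a ≫ homEquivTo (𝟙 (Phi g G)))).hom.app (op T') x = _
  rw [homEquivInv_app]
  change (Phi g G).obj.map (ιφinv x.1).op
    (unitSec (ovS x.1) (a.hom.app (op (ovS x.1)) x.2)) = _
  exact Phi_map_ιφinv_unitSec (Sec.mk x.1 (a.hom.app (op (ovS x.1)) x.2))

theorem unitSec_fst (T : Over S) (ξ : F.obj.obj (op T)) : (unitSec (g := g) T ξ).1 = σ T := rfl

theorem unitSec_snd (T : Over S) (ξ : F.obj.obj (op T)) :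
    (unitSec (g := g) T ξ).2 = F.obj.map (τ T).op ξ := rfl

/-- Sections of `F` through a pullback square with representable corner. -/
theorem app_yEquiv_of_sq (a : F ⟶ G) {T V : Over S} (η : (yon S).obj T ⟶ G) (p : V ⟶ T)
    (fst : (yon S).obj V ⟶ F) (hw : fst ≫ a = (yon S).map p ≫ η) :
    a.hom.app (op V) (yEquiv fst) = G.obj.map p.op (yEquiv η) := by
  rw [← yEquiv_comp, hw, yEquiv_map_comp]

/-- **Base change along `j_!`.** A pullback square over `S` along the point `(φ, ξ)` of `G` gives a pullback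
square over `S'` along the corresponding point of `j_! G`, with the same underlying morphism of schemes. -/
theorem isPullback_Phi (a : F ⟶ G) (A : Phi g F ⟶ Phi g G)
    (hA : ∀ (T' : Over S') (x : Sec g F T'),
      A.hom.app (op T') x = Sec.mk x.1 (a.hom.app (op (ovS x.1)) x.2))
    {T' : Over S'} (x : Sec g G T') {V : Over S} (p : V ⟶ ovS x.1)
    (fst : (yon S).obj V ⟶ F) (sq : IsPullback fst ((yon S).map p) a (yEquiv.symm x.2)) :
    IsPullback (yEquiv.symm (unitSec V (yEquiv fst)) : (yon S').obj ((Over.map g).obj V) ⟶ Phi g F)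
      ((yon S').map ((Over.map g).map p ≫ ιφ x.1)) A
      (yEquiv.symm x : (yon S').obj T' ⟶ Phi g G) := by
  have hax : a.hom.app (op V) (yEquiv fst) = G.obj.map p.op x.2 := by
    rw [app_yEquiv_of_sq a _ p fst sq.w, Equiv.apply_symm_apply]
  refine isPullback_of_yon ?_ ?_ ?_
  · -- commutativity
    apply yEquiv.injective
    rw [yEquiv_comp, yEquiv_map_comp, Equiv.apply_symm_apply, Equiv.apply_symm_apply, hA]
    refine Sec.ext' (Over.homMk (𝟙 _) (by
      change 𝟙 _ ≫ ((p.left ≫ 𝟙 _) ≫ x.1.left) = V.hom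
      rw [Category.id_comp, Category.comp_id]
      exact Over.w p) : ovS (σ (g := g) V) ⟶ ovS (((Over.map g).map p ≫ ιφ x.1) ≫ x.1)) rfl ?_
    refine (Phi_map_res _ _ _).trans ?_
    change G.obj.map _ x.2 = a.hom.app _ (F.obj.map (τ V).op (yEquiv fst))
    rw [NatTrans.naturality_apply a.hom (τ (g := g) V).op (yEquiv fst), hax]
    refine (map_map_eq_map G _ _ _ ?_ _).symm
    change 𝟙 _ ≫ p.left = (𝟙 _ ≫ p.left ≫ 𝟙 _)
    rw [Category.comp_id]
  · -- injectivity
    intro W' q₁ q₂ h1 h2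
    obtain ⟨b₁, rfl⟩ := (yon S').map_surjective q₁
    obtain ⟨b₂, rfl⟩ := (yon S').map_surjective q₂
    congr 1
    rw [← Functor.map_comp, ← Functor.map_comp] at h2
    have h2' : b₁ ≫ ((Over.map g).map p ≫ ιφ x.1) = b₂ ≫ ((Over.map g).map p ≫ ιφ x.1) :=
      (yon S').map_injective h2
    have h2'' : b₁.left ≫ p.left = b₂.left ≫ p.left := by
      have := congrArg (fun m => m.left) h2'
      change b₁.left ≫ p.left ≫ 𝟙 _ = b₂.left ≫ p.left ≫ 𝟙 _ at this
      rwa [Category.comp_id] at this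
    have h1' := congrArg yEquiv h1
    rw [yEquiv_map_comp, yEquiv_map_comp, Equiv.apply_symm_apply] at h1'
    -- first components
    have hψ : b₁ ≫ σ V = b₂ ≫ σ (g := g) V :=
      congrArg (fun s : Sec g F W' => s.1) h1'
    have hψl : b₁.left ≫ V.hom = b₂.left ≫ V.hom := congrArg (fun m => m.left) hψ
    -- the two points over `S`
    let b₁S : ovS (b₁ ≫ σ (g := g) V) ⟶ V := Over.homMk b₁.left rfl
    let b₂S : ovS (b₁ ≫ σ (g := g) V) ⟶ V := Over.homMk b₂.left hψl.symm
    have key := Sec.res_congr h1' (𝟙 _) (Over.homMk (𝟙 _) (by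
      change 𝟙 _ ≫ b₂.left ≫ V.hom = b₁.left ≫ V.hom
      rw [Category.id_comp, hψl]) : ovS (b₁ ≫ σ (g := g) V) ⟶ ovS (b₂ ≫ σ V)) rfl
    rw [Phi_map_res, Phi_map_res] at key
    have hb : b₁S = b₂S := by
      apply hom_ext_yon_pullback sq
      · apply yEquiv.injective
        rw [yEquiv_map_comp, yEquiv_map_comp]
        refine Eq.trans ?_ (key.trans ?_)
        · exact (map_map_eq_map F _ _ _ (by
            change (𝟙 _ ≫ b₁.left) ≫ 𝟙 _ = b₁.left
            rw [Category.id_comp, Category.comp_id]) _).symm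
        · exact map_map_eq_map F _ _ _ (by
            change (𝟙 _ ≫ b₂.left) ≫ 𝟙 _ = b₂.left
            rw [Category.id_comp, Category.comp_id]) _
      · rw [← Functor.map_comp, ← Functor.map_comp]
        congr 1
        exact Over.OverMorphism.ext h2''
    apply Over.OverMorphism.ext
    exact congrArg (fun m => m.left) hb
  · -- surjectivity
    intro W' x' y' hxy
    obtain ⟨c, rfl⟩ := (yon S').map_surjective y'
    have h1 := congrArg yEquiv hxy
    rw [yEquiv_comp, yEquiv_map_comp, Equiv.apply_symm_apply, hA] at h1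
    set t : Sec g F W' := yEquiv x' with ht
    have hψ : t.1 = c ≫ x.1 := congrArg (fun s : Sec g G W' => s.1) h1
    have hψl : t.1.left = c.left ≫ x.1.left := congrArg (fun m => m.left) hψ
    let cS : ovS t.1 ⟶ ovS x.1 := Over.homMk c.left hψl.symm
    have key := Sec.res_congr h1 (𝟙 _) (Over.homMk (𝟙 _) (by
      change 𝟙 _ ≫ (c ≫ x.1).left = t.1.left
      rw [Category.id_comp, hψ]) : ovS t.1 ⟶ ovS (c ≫ x.1)) rfl
    rw [Phi_map_res] at key
    have hcomm : (yEquiv.symm t.2 : (yon S).obj (ovS t.1) ⟶ F) ≫ a =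
        (yon S).map cS ≫ yEquiv.symm x.2 := by
      apply yEquiv.injective
      rw [yEquiv_comp, yEquiv_map_comp, Equiv.apply_symm_apply, Equiv.apply_symm_apply]
      refine Eq.trans ?_ (key.trans ?_)
      · change _ = G.obj.map (𝟙 _).op (a.hom.app _ t.2)
        rw [op_id, FunctorToTypes.map_id_apply]
      · change G.obj.map _ x.2 = G.obj.map _ x.2
        congr 2
    obtain ⟨l, hl1, hl2⟩ := exists_lift_yon sq _ _ hcomm
    have hl2' : l ≫ p = cS := (yon S).map_injective (by rw [Functor.map_comp, hl2])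
    have hlw : l.left ≫ V.hom = t.1.left := Over.w l
    let b : W' ⟶ (Over.map g).obj V := Over.homMk l.left (by
      change l.left ≫ V.hom ≫ g = W'.hom
      rw [← Category.assoc, hlw]
      exact Over.w t.1)
    refine ⟨(yon S').map b, ?_, ?_⟩
    · apply yEquiv.injective
      rw [yEquiv_map_comp, Equiv.apply_symm_apply]
      change _ = t
      symm
      refine Sec.ext' (Over.homMk (𝟙 _) (by
        change 𝟙 _ ≫ (l.left ≫ V.hom) = t.1.left
        rw [Category.id_comp, hlw]) : ovS t.1 ⟶ ovS (b ≫ σ V)) rfl ?_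
      refine (Phi_map_res _ _ _).trans ?_
      change F.obj.map _ (F.obj.map (τ V).op (yEquiv fst)) = t.2
      have : t.2 = F.obj.map l.op (yEquiv fst) := by
        rw [← yEquiv_map_comp, hl1, Equiv.apply_symm_apply]
      rw [this]
      refine map_map_eq_map F _ _ _ ?_ _
      change (𝟙 _ ≫ l.left) ≫ 𝟙 _ = l.left
      rw [Category.id_comp, Category.comp_id]
    · rw [← Functor.map_comp]
      congr 1
      apply Over.OverMorphism.ext
      change l.left ≫ p.left ≫ 𝟙 _ = c.left
      rw [Category.comp_id]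
      exact congrArg (fun m => m.left) hl2'

end Groth.Agent.Lib.H69Shriek
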