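import Groth.Agent.Lib.H69Shriek2
import Groth.Agent.S9873

/-!
# helper69: `j_!` of representables and of algebraic spaces
-/

set_option autoImplicit false
universe u
open CategoryTheory CategoryTheory.Limits AlgebraicGeometry Opposite
open AlgSp Groth.Agent.Lib.H69AlgSp Groth.Agent.Lib.H69AlgSpBase

namespace Groth.Agent.Lib.H69Shriek

variable {S S' : Scheme.{u}} {g : S ⟶ S'} {F G : Sp S}

variable (g) in
/-- `j_!` on morphisms, between the explicit models. -/
noncomputable def PhiMap (a : F ⟶ G) : Phi g F ⟶ Phi g G := (jsh g).map a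

theorem PhiMap_app (a : F ⟶ G) (T' : Over S') (x : Sec g F T') :
    (PhiMap g a).hom.app (op T') x = Sec.mk x.1 (a.hom.app (op (ovS x.1)) x.2) :=
  jsh_map_app a x

/-- `j_!` preserves maps representable with `P`. -/
theorem repWith_PhiMap (P : MorphismProperty Scheme.{u}) [P.IsStableUnderBaseChange] {a : F ⟶ G}
    (ha : RepWith P a) : RepWith (S := S') P (PhiMap g a) := by
  have : P.RespectsIso := MorphismProperty.IsStableUnderBaseChange.respectsIso
  apply MorphismProperty.relative.of_exists
  intro T' ζ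
  have hrep : Representable a := ha.rep
  let x : Sec g G T' := yEquiv ζ
  have sq := isPullback_Phi a (PhiMap g a) (PhiMap_app a) x (hrep.snd (yEquiv.symm x.2))
    (hrep.fst (yEquiv.symm x.2)) (hrep.isPullback (yEquiv.symm x.2))
  have hζ : (yEquiv.symm x : (yon S').obj T' ⟶ Phi g G) = ζ := Equiv.symm_apply_apply _ _
  rw [hζ] at sq
  refine ⟨_, _, _, sq, ?_⟩
  change P ((hrep.snd (yEquiv.symm x.2)).left ≫ 𝟙 _)
  rw [Category.comp_id]
  exact ha.property_snd (yEquiv.symm x.2)

/-- `j_! h_U` is represented by `U` viewed over `S'`. -/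
noncomputable def repPhiYon (U : Over S) :
    (Phi g ((yon S).obj U)).obj.RepresentableBy ((Over.map g).obj U) where
  homEquiv {T'} :=
    { toFun := fun b => (Sec.mk (b ≫ σ U) ⟨Over.homMk b.left rfl⟩ : Sec g ((yon S).obj U) T')
      invFun := fun x => Over.homMk (ULift.down x.2).left (by
        have h1 := Over.w (ULift.down x.2)
        have h2 := Over.w x.1
        change (ULift.down x.2).left ≫ U.hom = x.1.left at h1
        change x.1.left ≫ g = T'.hom at h2
        change (ULift.down x.2).left ≫ U.hom ≫ g = T'.hom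
        rw [← Category.assoc, h1, h2])
      left_inv := fun b => by
        apply Over.OverMorphism.ext
        rfl
      right_inv := fun x => by
        symm
        refine Sec.ext' (Over.homMk (𝟙 _) (by
          have h1 := Over.w (ULift.down x.2)
          change (ULift.down x.2).left ≫ U.hom = x.1.left at h1
          change 𝟙 _ ≫ (ULift.down x.2).left ≫ U.hom = x.1.left
          rw [Category.id_comp, h1])) rfl ?_
        obtain ⟨φ, ⟨c⟩⟩ := x
        change (⟨_ ≫ _⟩ : ULift _) = ⟨c⟩
        congr 1 }
  homEquiv_comp {T' T''} a b := by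
    refine Sec.ext' (Over.homMk (𝟙 _) (by
      change 𝟙 _ ≫ (a.left ≫ b.left ≫ U.hom) = (a.left ≫ b.left) ≫ U.hom
      rw [Category.id_comp, Category.assoc])) rfl ?_
    refine (Phi_map_res _ _ _).trans ?_
    change (ULift.up (_ ≫ (Over.homMk b.left rfl : ovS (b ≫ σ (g := g) U) ⟶ U)) : ULift _) = ⟨_⟩
    congr 1

variable (g) in
/-- `h_{U/S'} ≅ j_! h_U`. -/
noncomputable def phiYonIso (U : Over S) : (yon S').obj ((Over.map g).obj U) ≅ Phi g ((yon S).obj U) :=
  isoOfRepresentableBy (repPhiYon U)

/-- `j_!` of an algebraic space is an algebraic space. -/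
theorem isAlgSpace_Phi (hF : IsAlgSpace F) : IsAlgSpace (Phi g F) := by
  obtain ⟨U, u, hue, hus⟩ := hF.atlas
  let X' : AlgSp.Space S' := ⟨(yon S').obj ((Over.map g).obj U), IsAlgSpace.yon_obj _⟩
  refine Groth.Agent.S9873.result S' X' (Phi g F) ((phiYonIso g U).hom ≫ PhiMap g u) ?_ ?_
  · exact MorphismProperty.RespectsIso.precomp _ (phiYonIso g U).hom _ (repWith_PhiMap _ hue)
  · exact MorphismProperty.RespectsIso.precomp _ (phiYonIso g U).hom _ (repWith_PhiMap _ hus)

end Groth.Agent.Lib.H69Shriek
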