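import Groth.Agent.Lib.H69Shriek3

/-!
# helper69: pullback squares along `j_!` come from pullback squares over `S`
-/

set_option autoImplicit false
universe u
open CategoryTheory CategoryTheory.Limits AlgebraicGeometry Opposite
open AlgSp Groth.Agent.Lib.H69AlgSp Groth.Agent.Lib.H69AlgSpBase

namespace Groth.Agent.Lib.H69Shriek

variable {S S' : Scheme.{u}} {g : S ⟶ S'} {F G : Sp S}

theorem map_eq_of_left {B : Scheme.{u}} (F : Sp B) {Y Z : Over B} (e e' : Y ⟶ Z)
    (h : e.left = e'.left) (ξ : F.obj.obj (op Z)) : F.obj.map e.op ξ = F.obj.map e'.op ξ := by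
  have : e = e' := Over.OverMorphism.ext h
  rw [this]

/-- The inverse of `τ`. -/
abbrev τinv (T : Over S) : T ⟶ ovS (σ (g := g) T) := Over.homMk (𝟙 _) (by
  change 𝟙 _ ≫ T.hom = T.hom
  rw [Category.id_comp])

theorem unitSec_res_τinv (T : Over S) (ξ : F.obj.obj (op T)) :
    (unitSec (g := g) T ξ).res (τinv T) = ξ := by
  change F.obj.map (τinv T).op (F.obj.map (τ T).op ξ) = ξ
  rw [map_map_eq_map F _ _ (𝟙 _) (by
    change 𝟙 _ ≫ 𝟙 _ = 𝟙 _
    rw [Category.id_comp]), op_id, FunctorToTypes.map_id_apply]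

/-- **Converse base change along `j_!`.** -/
theorem isPullback_of_Phi (a : F ⟶ G) (A : Phi g F ⟶ Phi g G)
    (hA : ∀ (T' : Over S') (x : Sec g F T'),
      A.hom.app (op T') x = Sec.mk x.1 (a.hom.app (op (ovS x.1)) x.2))
    {T : Over S} (η : (yon S).obj T ⟶ G) {V' : Over S'} (p' : V' ⟶ (Over.map g).obj T)
    (fst' : (yon S').obj V' ⟶ Phi g F)
    (sq' : IsPullback fst' ((yon S').map p') A
      (yEquiv.symm (unitSec T (yEquiv η)) : (yon S').obj ((Over.map g).obj T) ⟶ Phi g G)) :
    ∃ fst : (yon S).obj (Over.mk (p'.left ≫ T.hom)) ⟶ F,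
      IsPullback fst ((yon S).map (Over.homMk p'.left rfl : Over.mk (p'.left ≫ T.hom) ⟶ T)) a η := by
  set V : Over S := Over.mk (p'.left ≫ T.hom) with hV
  set p : V ⟶ T := Over.homMk p'.left rfl with hp
  set t : Sec g F V' := yEquiv fst' with ht
  set x : Sec g G ((Over.map g).obj T) := unitSec T (yEquiv η) with hx
  have h1 := congrArg yEquiv sq'.w
  rw [yEquiv_comp, yEquiv_map_comp, Equiv.apply_symm_apply, hA] at h1
  have hψ : t.1 = p' ≫ σ T := congrArg (fun s : Sec g G V' => s.1) h1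
  have hψl : t.1.left = p'.left ≫ T.hom := congrArg (fun m => m.left) hψ
  let ε : V ⟶ ovS t.1 := Over.homMk (𝟙 _) (by
    change 𝟙 _ ≫ t.1.left = p'.left ≫ T.hom
    rw [Category.id_comp, hψl])
  have hwV' : V'.hom = p'.left ≫ T.hom ≫ g := (Over.w p').symm
  refine ⟨yEquiv.symm (F.obj.map ε.op t.2), isPullback_of_yon ?_ ?_ ?_⟩
  · -- commutativity
    apply yEquiv.injective
    rw [yEquiv_comp, yEquiv_map_comp, Equiv.apply_symm_apply,
      NatTrans.naturality_apply a.hom ε.op t.2]
    have key := Sec.res_congr h1 ε (Over.homMk (𝟙 _) (by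
      change 𝟙 _ ≫ (p'.left ≫ T.hom) = p'.left ≫ T.hom
      rw [Category.id_comp]) : V ⟶ ovS (p' ≫ σ (g := g) T)) rfl
    rw [Phi_map_res] at key
    refine key.trans ?_
    change G.obj.map _ (G.obj.map (τ T).op (yEquiv η)) = _
    refine map_map_eq_map G _ _ _ ?_ _
    change (𝟙 _ ≫ p'.left) ≫ 𝟙 _ = p'.left
    rw [Category.id_comp, Category.comp_id]
  · -- injectivity
    intro W q₁ q₂ h1' h2'
    obtain ⟨b₁, rfl⟩ := (yon S).map_surjective q₁
    obtain ⟨b₂, rfl⟩ := (yon S).map_surjective q₂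
    congr 1
    rw [← Functor.map_comp, ← Functor.map_comp] at h2'
    have h2l : b₁.left ≫ p'.left = b₂.left ≫ p'.left :=
      congrArg (fun m => m.left) ((yon S).map_injective h2')
    have hb₁w : b₁.left ≫ p'.left ≫ T.hom = W.hom := Over.w b₁
    have hb₂w : b₂.left ≫ p'.left ≫ T.hom = W.hom := Over.w b₂
    let b₁' : (Over.map g).obj W ⟶ V' := Over.homMk b₁.left (by
      change b₁.left ≫ V'.hom = W.hom ≫ g
      rw [hwV', ← hb₁w, Category.assoc, Category.assoc])
    let b₂' : (Over.map g).obj W ⟶ V' := Over.homMk b₂.left (by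
      change b₂.left ≫ V'.hom = W.hom ≫ g
      rw [hwV', ← hb₂w, Category.assoc, Category.assoc])
    have hb : b₁' = b₂' := by
      apply (yon S').map_injective
      apply sq'.hom_ext
      · apply yEquiv.injective
        rw [yEquiv_map_comp, yEquiv_map_comp]
        change (Phi g F).obj.map b₁'.op t = (Phi g F).obj.map b₂'.op t
        have hl : (b₁' ≫ t.1).left = (b₂' ≫ t.1).left := by
          change b₁.left ≫ t.1.left = b₂.left ≫ t.1.left
          rw [hψl, hb₁w, hb₂w]
        refine Sec.ext' (Over.homMk (𝟙 _) (by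
          rw [Category.id_comp]
          exact hl.symm) : ovS (b₁' ≫ t.1) ⟶ ovS (b₂' ≫ t.1)) rfl ?_
        refine (Phi_map_res _ _ _).trans ?_
        change F.obj.map _ t.2 = F.obj.map (ovSMap b₁' t.1).op t.2
        -- use the hypothesis on `F`-components
        have h1'' := congrArg yEquiv h1'
        rw [yEquiv_map_comp, yEquiv_map_comp, Equiv.apply_symm_apply] at h1''
        let ω : ovS (b₁' ≫ t.1) ⟶ W := Over.homMk (𝟙 _) (by
          change 𝟙 _ ≫ W.hom = b₁.left ≫ t.1.left
          rw [Category.id_comp, hψl, hb₁w])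
        have h3 := congrArg (F.obj.map ω.op) h1''
        refine Eq.trans ?_ (h3.symm.trans ?_)
        · rw [map_map_eq_map F b₂ ε (b₂ ≫ ε) rfl, map_map_eq_map F ω (b₂ ≫ ε) (ω ≫ b₂ ≫ ε) rfl]
          refine map_eq_of_left F _ _ ?_ _
          change 𝟙 _ ≫ b₂.left = 𝟙 _ ≫ b₂.left ≫ 𝟙 _
          rw [Category.comp_id]
        · rw [map_map_eq_map F b₁ ε (b₁ ≫ ε) rfl, map_map_eq_map F ω (b₁ ≫ ε) (ω ≫ b₁ ≫ ε) rfl]
          refine map_eq_of_left F _ _ ?_ _
          change 𝟙 _ ≫ b₁.left ≫ 𝟙 _ = b₁.left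
          rw [Category.comp_id, Category.id_comp]
      · rw [← Functor.map_comp, ← Functor.map_comp]
        congr 1
        apply Over.OverMorphism.ext
        exact h2l
    apply Over.OverMorphism.ext
    exact congrArg (fun m => m.left) hb
  · -- surjectivity
    intro W x₁ y₁ hxy
    obtain ⟨c, rfl⟩ := (yon S).map_surjective y₁
    have hac : a.hom.app (op W) (yEquiv x₁) = G.obj.map c.op (yEquiv η) :=
      app_yEquiv_of_sq a η c x₁ hxy
    have hcomm : (yEquiv.symm (unitSec W (yEquiv x₁)) :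
          (yon S').obj ((Over.map g).obj W) ⟶ Phi g F) ≫ A =
        (yon S').map ((Over.map g).map c) ≫
          (yEquiv.symm x : (yon S').obj ((Over.map g).obj T) ⟶ Phi g G) := by
      apply yEquiv.injective
      rw [yEquiv_comp, yEquiv_map_comp, Equiv.apply_symm_apply, Equiv.apply_symm_apply, hA, hx,
        unitSec_map, ← hac]
      change Sec.mk (σ W) (a.hom.app _ (F.obj.map (τ W).op (yEquiv x₁))) = _
      rw [NatTrans.naturality_apply a.hom (τ (g := g) W).op (yEquiv x₁)]
      rfl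
    obtain ⟨l', hl1, hl2⟩ := exists_lift_yon sq' _ _ hcomm
    have hl2' : l' ≫ p' = (Over.map g).map c :=
      (yon S').map_injective (by rw [Functor.map_comp, hl2])
    have hl2l : l'.left ≫ p'.left = c.left := congrArg (fun m => m.left) hl2'
    let b : W ⟶ V := Over.homMk l'.left (by
      change l'.left ≫ p'.left ≫ T.hom = W.hom
      rw [← Category.assoc, hl2l]
      exact Over.w c)
    refine ⟨(yon S).map b, ?_, ?_⟩
    · apply yEquiv.injective
      rw [yEquiv_map_comp, Equiv.apply_symm_apply]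
      have h4 := congrArg yEquiv hl1
      rw [yEquiv_map_comp, Equiv.apply_symm_apply] at h4
      change (Phi g F).obj.map l'.op t = unitSec W (yEquiv x₁) at h4
      have key := Sec.res_congr h4 (Over.homMk (𝟙 _) (by
        change 𝟙 _ ≫ (l'.left ≫ t.1.left) = W.hom
        rw [Category.id_comp, hψl, ← Category.assoc, hl2l]
        exact Over.w c) : W ⟶ ovS (l' ≫ t.1)) (τinv W) rfl
      rw [Phi_map_res, unitSec_res_τinv] at key
      refine Eq.trans ?_ key
      change F.obj.map b.op (F.obj.map ε.op t.2) = F.obj.map _ t.2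
      refine map_map_eq_map F _ _ _ ?_ _
      change l'.left ≫ 𝟙 _ = 𝟙 _ ≫ l'.left
      rw [Category.comp_id, Category.id_comp]
    · rw [← Functor.map_comp]
      congr 1
      apply Over.OverMorphism.ext
      exact hl2l

/-- `j_!` reflects representable maps. -/
theorem representable_of_PhiMap {a : F ⟶ G} (ha : Representable (S := S') (PhiMap g a)) :
    Representable a := by
  intro T η
  let x : (yon S').obj ((Over.map g).obj T) ⟶ Phi g G := yEquiv.symm (unitSec T (yEquiv η))
  obtain ⟨fst, sq⟩ := isPullback_of_Phi a (PhiMap g a) (PhiMap_app a) η (ha.snd x) (ha.fst x)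
    (ha.isPullback x)
  exact ⟨_, _, fst, sq⟩

/-- `j_!` reflects maps representable with `P`. -/
theorem repWith_of_PhiMap (P : MorphismProperty Scheme.{u}) [P.IsStableUnderBaseChange] {a : F ⟶ G}
    (ha : RepWith (S := S') P (PhiMap g a)) : RepWith P a := by
  have : P.RespectsIso := MorphismProperty.IsStableUnderBaseChange.respectsIso
  apply MorphismProperty.relative.of_exists
  intro T η
  have hrep : Representable (PhiMap g a) := ha.rep
  let x : (yon S').obj ((Over.map g).obj T) ⟶ Phi g G := yEquiv.symm (unitSec T (yEquiv η))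
  obtain ⟨fst, sq⟩ := isPullback_of_Phi a (PhiMap g a) (PhiMap_app a) η (hrep.snd x) (hrep.fst x)
    (hrep.isPullback x)
  exact ⟨_, _, _, sq, ha.property_snd x⟩

theorem repWith_PhiMap_iff (P : MorphismProperty Scheme.{u}) [P.IsStableUnderBaseChange]
    {a : F ⟶ G} : RepWith (S := S') P (PhiMap g a) ↔ RepWith P a :=
  ⟨repWith_of_PhiMap P, repWith_PhiMap P⟩

/-- The point of `j_! h_U` given by the identity. -/
theorem yEquiv_phiYonIso_hom (U : Over S) :
    yEquiv (phiYonIso g U).hom = unitSec U (yEquiv (𝟙 ((yon S).obj U))) := by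
  change (isoOfRepresentableBy (repPhiYon U)).hom.hom.app (op ((Over.map g).obj U)) ⟨𝟙 _⟩ = _
  rw [isoOfRepresentableBy_hom_app]
  change (Sec.mk (𝟙 _ ≫ σ U) ⟨Over.homMk _ _⟩ :
    Sec g ((yon S).obj U) ((Over.map g).obj U)) = _
  refine Sec.ext' (Over.homMk (𝟙 _) (by
    change 𝟙 _ ≫ U.hom = 𝟙 _ ≫ U.hom
    rfl) : ovS (𝟙 ((Over.map g).obj U) ≫ σ (g := g) U) ⟶ ovS (σ (g := g) U)) rfl ?_
  change (ULift.up (_ ≫ τ (g := g) U ≫ 𝟙 U) : ULift _) = ⟨_⟩
  congr 1

/-- `j_!` applied to a point `u : h_U ⟶ F`, as a point of `j_! F`. -/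
theorem yEquiv_phiYonIso_PhiMap {U : Over S} (u : (yon S).obj U ⟶ F) :
    yEquiv ((phiYonIso g U).hom ≫ PhiMap g u) = unitSec U (yEquiv u) := by
  rw [yEquiv_comp, yEquiv_phiYonIso_hom, PhiMap_app]
  change Sec.mk (σ U) (u.hom.app _ (((yon S).obj U).obj.map (τ (g := g) U).op (yEquiv (𝟙 _)))) = _
  rw [NatTrans.naturality_apply u.hom (τ (g := g) U).op (yEquiv (𝟙 _)), ← yEquiv_comp,
    Category.id_comp]
  rfl

/-- The canonical factorisation of a point of `j_! F`. -/
theorem point_eq_comp {U' : Over S'} (u' : (yon S').obj U' ⟶ Phi g F) :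
    u' = (yon S').map (ιφinv (yEquiv u').1) ≫ (phiYonIso g (ovS (yEquiv u').1)).hom ≫
      PhiMap g (yEquiv.symm (yEquiv u').2) := by
  apply yEquiv.injective
  rw [yEquiv_map_comp, yEquiv_phiYonIso_PhiMap, Equiv.apply_symm_apply]
  exact (Phi_map_ιφinv_unitSec (yEquiv u')).symm

end Groth.Agent.Lib.H69Shriek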