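import Groth.Agent.Lib.H69Shriek4

/-!
# helper69: `j_!` reflects algebraic spaces; `j_! j⁻¹ F' ≅ h_S × F'`
-/

set_option autoImplicit false
universe u
open CategoryTheory CategoryTheory.Limits AlgebraicGeometry Opposite
open AlgSp Groth.Agent.Lib.H69AlgSp Groth.Agent.Lib.H69AlgSpBase

namespace Groth.Agent.Lib.H69Shriek

variable {S S' : Scheme.{u}} {g : S ⟶ S'} {F G : Sp S}

theorem ιφinv_ιφ {T' : Over S'} (φ : T' ⟶ X₀ g) : ιφinv φ ≫ ιφ φ = 𝟙 _ := by
  apply Over.OverMorphism.ext
  change 𝟙 _ ≫ 𝟙 _ = 𝟙 _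
  rw [Category.id_comp]

theorem ιφ_ιφinv {T' : Over S'} (φ : T' ⟶ X₀ g) : ιφ φ ≫ ιφinv φ = 𝟙 _ := by
  apply Over.OverMorphism.ext
  change 𝟙 _ ≫ 𝟙 _ = 𝟙 _
  rw [Category.id_comp]

instance isIso_ιφinv {T' : Over S'} (φ : T' ⟶ X₀ g) : IsIso (ιφinv φ) :=
  ⟨⟨ιφ φ, ιφinv_ιφ φ, ιφ_ιφinv φ⟩⟩

/-- `j_!` reflects algebraic spaces. -/
theorem isAlgSpace_of_Phi (h : IsAlgSpace (Phi g F)) : IsAlgSpace F where
  diag := by
    apply Functor.relativelyRepresentable.diag_of_map_from_obj
    intro T η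
    apply representable_of_PhiMap (g := g)
    have h1 : Representable ((phiYonIso g T).hom ≫ PhiMap g η) := h.representable_from_yon _
    exact (MorphismProperty.cancel_left_of_respectsIso Representable (phiYonIso g T).hom
      (PhiMap g η)).1 h1
  atlas := by
    obtain ⟨U', u', hue, hus⟩ := h.atlas
    have hR : ∀ P : MorphismProperty Scheme.{u}, (RepWith (S := S') P).RespectsIso := fun P =>
      MorphismProperty.IsStableUnderBaseChange.respectsIso
    refine ⟨ovS (yEquiv u').1, yEquiv.symm (yEquiv u').2, ?_, ?_⟩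
    · apply repWith_of_PhiMap (g := g)
      have h2 : RepWith @Etale ((yon S').map (ιφinv (yEquiv u').1) ≫
          (phiYonIso g (ovS (yEquiv u').1)).hom ≫ PhiMap g (yEquiv.symm (yEquiv u').2)) :=
        (point_eq_comp u') ▸ hue
      have := hR @Etale
      exact (MorphismProperty.cancel_left_of_respectsIso _ _ _).1
        ((MorphismProperty.cancel_left_of_respectsIso _ _ _).1 h2)
    · apply repWith_of_PhiMap (g := g)
      have h2 : RepWith @Surjective ((yon S').map (ιφinv (yEquiv u').1) ≫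
          (phiYonIso g (ovS (yEquiv u').1)).hom ≫ PhiMap g (yEquiv.symm (yEquiv u').2)) :=
        (point_eq_comp u') ▸ hus
      have := hR @Surjective
      exact (MorphismProperty.cancel_left_of_respectsIso _ _ _).1
        ((MorphismProperty.cancel_left_of_respectsIso _ _ _).1 h2)

theorem isAlgSpace_Phi_iff : IsAlgSpace (Phi g F) ↔ IsAlgSpace F :=
  ⟨isAlgSpace_of_Phi, isAlgSpace_Phi⟩

/-- A map of fppf sheaves which is bijective on `h_T`-points is an isomorphism. -/
theorem isIso_of_yon_bijective {B : Scheme.{u}} {F G : Sp B} (f : F ⟶ G)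
    (hinj : ∀ (U : Over B) (a b : (yon B).obj U ⟶ F), a ≫ f = b ≫ f → a = b)
    (hsurj : ∀ (U : Over B) (c : (yon B).obj U ⟶ G), ∃ a, a ≫ f = c) : IsIso f := by
  have sq : IsPullback f f (𝟙 G) (𝟙 G) := isPullback_of_yon rfl
    (fun T p p' h1 _ => hinj T p p' h1)
    (fun T x y h => by
      obtain ⟨a, ha⟩ := hsurj T x
      refine ⟨a, ha, ?_⟩
      rw [ha]
      simpa using h)
  exact sq.isIso_fst_of_isIso

variable (g) in
/-- The projection `j_! F ⟶ h_S`. -/
noncomputable def PhiPr (F : Sp S) : Phi g F ⟶ (yon S').obj (X₀ g) :=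
  ObjectProperty.homMk
    { app := fun T' => TypeCat.ofHom (fun x : Sec g F T'.unop => (⟨x.1⟩ : ULift (T'.unop ⟶ X₀ g)))
      naturality := fun T' T'' a => by
        ext x
        rfl }

theorem PhiPr_app (F : Sp S) (T' : Over S') (x : Sec g F T') :
    (PhiPr g F).hom.app (op T') x = ⟨x.1⟩ := rfl

variable (g) in
/-- The comparison `j_! j⁻¹ F' ⟶ h_S × F'`. -/
noncomputable def PhiJinvToProd (F' : Sp S') :
    Phi g ((jinv g).obj F') ⟶ (yon S').obj (X₀ g) ⨯ F' :=
  prod.lift (PhiPr g _) (homEquivInv (𝟙 _))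

instance isIso_PhiJinvToProd (F' : Sp S') : IsIso (PhiJinvToProd g F') := by
  apply isIso_of_yon_bijective
  · intro T' a b hab
    have h1 : a ≫ PhiPr g _ = b ≫ PhiPr g _ := by
      have := congrArg (fun m => m ≫ prod.fst) hab
      simp only [Category.assoc] at this
      change a ≫ prod.lift _ _ ≫ prod.fst = b ≫ prod.lift _ _ ≫ prod.fst at this
      rw [prod.lift_fst] at this
      exact this
    have h2 : a ≫ homEquivInv (𝟙 ((jinv g).obj F')) = b ≫ homEquivInv (𝟙 ((jinv g).obj F')) := by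
      have := congrArg (fun m => m ≫ prod.snd) hab
      simp only [Category.assoc] at this
      change a ≫ prod.lift _ _ ≫ prod.snd = b ≫ prod.lift _ _ ≫ prod.snd at this
      rw [prod.lift_snd] at this
      exact this
    apply yEquiv.injective
    have h1' := congrArg yEquiv h1
    have h2' := congrArg yEquiv h2
    rw [yEquiv_comp, yEquiv_comp, PhiPr_app, PhiPr_app] at h1'
    rw [yEquiv_comp, yEquiv_comp, homEquivInv_app, homEquivInv_app] at h2'
    generalize yEquiv a = x at h1' h2'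
    generalize yEquiv b = y at h1' h2'
    obtain ⟨φ, ξ⟩ := x
    obtain ⟨ψ, η⟩ := y
    have hφ : φ = ψ := congrArg ULift.down h1'
    subst hφ
    congr 1
    change F'.obj.map (ιφinv φ).op ξ = F'.obj.map (ιφinv φ).op η at h2'
    have h3 := congrArg (F'.obj.map (ιφ φ).op) h2'
    rw [← FunctorToTypes.map_comp_apply, ← FunctorToTypes.map_comp_apply, ← op_comp,
      ιφ_ιφinv, op_id, FunctorToTypes.map_id_apply, FunctorToTypes.map_id_apply] at h3
    exact h3
  · intro T' c
    let φ : T' ⟶ X₀ g := (yEquiv (c ≫ prod.fst)).down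
    let s : F'.obj.obj (op T') := yEquiv (c ≫ prod.snd)
    let x : Sec g ((jinv g).obj F') T' := Sec.mk φ (F'.obj.map (ιφ φ).op s)
    refine ⟨yEquiv.symm x, ?_⟩
    apply Limits.prod.hom_ext
    · rw [Category.assoc]
      change _ ≫ prod.lift _ _ ≫ prod.fst = _
      rw [prod.lift_fst]
      apply yEquiv.injective
      rw [yEquiv_comp, Equiv.apply_symm_apply, PhiPr_app]
      rfl
    · rw [Category.assoc]
      change _ ≫ prod.lift _ _ ≫ prod.snd = _
      rw [prod.lift_snd]
      apply yEquiv.injective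
      rw [yEquiv_comp, Equiv.apply_symm_apply, homEquivInv_app]
      change F'.obj.map (ιφinv φ).op (F'.obj.map (ιφ φ).op s) = s
      rw [← FunctorToTypes.map_comp_apply, ← op_comp, ιφinv_ιφ, op_id,
        FunctorToTypes.map_id_apply]

variable (g) in
/-- `j_! j⁻¹ F' ≅ h_S × F'`. -/
noncomputable def PhiJinvIso (F' : Sp S') :
    Phi g ((jinv g).obj F') ≅ (yon S').obj (X₀ g) ⨯ F' :=
  asIso (PhiJinvToProd g F')

/-- `j⁻¹ F'` is an algebraic space over `S` iff `h_S × F'` is an algebraic space over `S'`. -/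
theorem isAlgSpace_jinv_iff (F' : Sp S') :
    IsAlgSpace ((jinv g).obj F') ↔ IsAlgSpace ((yon S').obj (X₀ g) ⨯ F') :=
  (isAlgSpace_Phi_iff (g := g)).symm.trans (isAlgSpace_iff_of_iso (PhiJinvIso g F'))

end Groth.Agent.Lib.H69Shriek
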