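import Groth.Agent.Lib.H69Shriek5
import Mathlib.CategoryTheory.Sites.Subsheaf

/-!
# helper69: `j_!` identifies sheaves over `S` with sheaves over `S'` with a map to `h_S`
-/

set_option autoImplicit false
universe u
open CategoryTheory CategoryTheory.Limits AlgebraicGeometry Opposite
open AlgSp Groth.Agent.Lib.H69AlgSp Groth.Agent.Lib.H69AlgSpBase

namespace Groth.Agent.Lib.H69Shriek

variable {S S' : Scheme.{u}} {g : S ⟶ S'} {F G : Sp S}

theorem PhiMap_PhiPr (a : F ⟶ G) : PhiMap g a ≫ PhiPr g G = PhiPr g F := by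
  apply ObjectProperty.hom_ext
  ext T' x
  induction T' using Opposite.rec with | _ T' => ?_
  change (PhiPr g G).hom.app (op T') ((PhiMap g a).hom.app (op T') x) =
    (PhiPr g F).hom.app (op T') x
  rw [PhiMap_app]
  rfl

theorem fst_of_over {A : Phi g F ⟶ Phi g G} (hA : A ≫ PhiPr g G = PhiPr g F) {T' : Over S'}
    (x : Sec g F T') : (A.hom.app (op T') x).1 = x.1 := by
  have h1 := congrArg (fun m => (m.hom.app (op T') x)) hA
  change (PhiPr g G).hom.app (op T') (A.hom.app (op T') x) = (PhiPr g F).hom.app (op T') x at h1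
  rw [PhiPr_app, PhiPr_app] at h1
  exact congrArg ULift.down h1

/-- Lowering a section over `σ T` to a section over `T`. -/
def Sec.low {T : Over S} (y : Sec g G ((Over.map g).obj T)) (h : y.1 = σ T) : G.obj.obj (op T) :=
  y.res (Over.homMk (𝟙 _) (by
    change 𝟙 _ ≫ y.1.left = T.hom
    rw [h, Category.id_comp]
    rfl) : T ⟶ ovS y.1)

theorem Sec.low_congr {T : Over S} {y y' : Sec g G ((Over.map g).obj T)} (h : y = y')
    (hy : y.1 = σ T) (hy' : y'.1 = σ T) : y.low hy = y'.low hy' := by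
  subst h
  rfl

theorem Sec.low_unitSec (T : Over S) (ξ : G.obj.obj (op T))
    (h : (unitSec (g := g) T ξ).1 = σ T) : (unitSec (g := g) T ξ).low h = ξ :=
  unitSec_res_τinv T ξ

theorem Sec.fst_map {T W : Over S} (t : W ⟶ T) (y : Sec g G ((Over.map g).obj T))
    (h : y.1 = σ T) : ((Phi g G).obj.map ((Over.map g).map t).op y).1 = σ W := by
  change (Over.map g).map t ≫ y.1 = σ W
  rw [h]
  apply Over.OverMorphism.ext
  exact Over.w t

theorem Sec.low_map {T W : Over S} (t : W ⟶ T) (y : Sec g G ((Over.map g).obj T))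
    (h : y.1 = σ T) :
    Sec.low ((Phi g G).obj.map ((Over.map g).map t).op y) (Sec.fst_map t y h) =
      G.obj.map t.op (y.low h) := by
  unfold Sec.low
  refine (Phi_map_res _ _ _).trans ?_
  change G.obj.map _ y.2 = G.obj.map t.op (G.obj.map _ y.2)
  refine (map_map_eq_map G _ _ _ ?_ _).symm
  change t.left ≫ 𝟙 _ = 𝟙 _ ≫ t.left
  rw [Category.comp_id, Category.id_comp]

theorem Phi_map_ιφinv_eq {T' : Over S'} (φ : T' ⟶ X₀ g)
    (y : Sec g G ((Over.map g).obj (ovS φ))) (h : y.1 = σ (ovS φ)) :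
    (Phi g G).obj.map (ιφinv φ).op y = Sec.mk φ (y.low h) := by
  symm
  refine Sec.ext' (x := Sec.mk φ (y.low h)) (y := (Phi g G).obj.map (ιφinv φ).op y)
    (Over.homMk (𝟙 _) ?_) rfl ?_
  · change 𝟙 _ ≫ (𝟙 _ ≫ y.1.left) = φ.left
    rw [h, Category.id_comp, Category.id_comp]
    rfl
  · refine (Phi_map_res _ _ _).trans ?_
    change G.obj.map _ y.2 = G.obj.map _ y.2
    refine map_eq_of_left G _ _ ?_ _
    change (𝟙 _ ≫ 𝟙 _) = 𝟙 _
    rw [Category.id_comp]

/-- A map `j_! F ⟶ j_! G` over `h_S` comes from a map `F ⟶ G`. -/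
noncomputable def descMap (A : Phi g F ⟶ Phi g G) (hA : A ≫ PhiPr g G = PhiPr g F) : F ⟶ G :=
  ObjectProperty.homMk
    { app := fun T => TypeCat.ofHom (fun ξ =>
        Sec.low (A.hom.app (op ((Over.map g).obj T.unop)) (unitSec T.unop ξ)) (fst_of_over hA _))
      naturality := fun T W t => by
        ext ξ
        change Sec.low (A.hom.app (op ((Over.map g).obj W.unop))
            (unitSec W.unop (F.obj.map t.unop.op ξ))) (fst_of_over hA _) =
          G.obj.map t.unop.op (Sec.low (A.hom.app (op ((Over.map g).obj T.unop))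
            (unitSec T.unop ξ)) (fst_of_over hA _))
        refine Eq.trans ?_ (Sec.low_map t.unop _ (fst_of_over hA _))
        apply Sec.low_congr
        rw [← unitSec_map]
        exact NatTrans.naturality_apply A.hom ((Over.map g).map t.unop).op (unitSec T.unop ξ) }

theorem descMap_app (A : Phi g F ⟶ Phi g G) (hA : A ≫ PhiPr g G = PhiPr g F) (T : Over S)
    (ξ : F.obj.obj (op T)) :
    (descMap A hA).hom.app (op T) ξ =
      Sec.low (A.hom.app (op ((Over.map g).obj T)) (unitSec T ξ)) (fst_of_over hA _) := rfl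

theorem PhiMap_descMap (A : Phi g F ⟶ Phi g G) (hA : A ≫ PhiPr g G = PhiPr g F) :
    PhiMap g (descMap A hA) = A := by
  apply ObjectProperty.hom_ext
  ext T' x
  induction T' using Opposite.rec with | _ T' => ?_
  change (PhiMap g (descMap A hA)).hom.app (op T') x = A.hom.app (op T') x
  rw [PhiMap_app]
  have h1 : A.hom.app (op T') x =
      (Phi g G).obj.map (ιφinv x.1).op (A.hom.app _ (unitSec (ovS x.1) x.2)) := by
    have := NatTrans.naturality_apply A.hom (ιφinv x.1).op (unitSec (ovS x.1) x.2)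
    rw [Phi_map_ιφinv_unitSec] at this
    exact this
  rw [h1, Phi_map_ιφinv_eq x.1 _ (fst_of_over hA _)]
  rfl

theorem descMap_PhiMap (a : F ⟶ G) : descMap (PhiMap g a) (PhiMap_PhiPr a) = a := by
  apply ObjectProperty.hom_ext
  ext T ξ
  induction T using Opposite.rec with | _ T => ?_
  change Sec.low ((PhiMap g a).hom.app (op ((Over.map g).obj T)) (unitSec T ξ))
    (fst_of_over (PhiMap_PhiPr a) _) = a.hom.app (op T) ξ
  have h1 : (PhiMap g a).hom.app (op ((Over.map g).obj T)) (unitSec T ξ) =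
      unitSec T (a.hom.app (op T) ξ) := by
    rw [PhiMap_app]
    change Sec.mk (σ T) (a.hom.app _ (F.obj.map (τ T).op ξ)) = _
    rw [NatTrans.naturality_apply a.hom (τ (g := g) T).op ξ]
    rfl
  rw [Sec.low_congr h1 _ rfl, Sec.low_unitSec]

theorem descMap_congr {A A' : Phi g F ⟶ Phi g G} (h : A = A') (hA : A ≫ PhiPr g G = PhiPr g F)
    (hA' : A' ≫ PhiPr g G = PhiPr g F) : descMap A hA = descMap A' hA' := by
  subst h
  rfl

theorem PhiMap_injective {a b : F ⟶ G} (h : PhiMap g a = PhiMap g b) : a = b := by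
  rw [← descMap_PhiMap (g := g) a, ← descMap_PhiMap (g := g) b]
  exact descMap_congr h _ _

section Fibre

variable {X' : Sp S'} (p : X' ⟶ (yon S').obj (X₀ g))

/-- Sections of `X'` over `T` (viewed over `S'`) lying over the structure point. -/
def fibSub : Subfunctor ((jinv g).obj X').obj where
  obj T := {s | p.hom.app (op ((Over.map g).obj T.unop)) s = ⟨σ T.unop⟩}
  map {T W} t := by
    intro s hs
    change p.hom.app _ (X'.obj.map ((Over.map g).map t.unop).op s) = _
    rw [NatTrans.naturality_apply p.hom ((Over.map g).map t.unop).op s]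
    have hs' : p.hom.app (op ((Over.map g).obj T.unop)) s = ⟨σ T.unop⟩ := hs
    rw [hs']
    change (⟨(Over.map g).map t.unop ≫ σ T.unop⟩ : ULift _) = _
    congr 1
    apply Over.OverMorphism.ext
    exact Over.w t.unop

theorem isSheaf_fibSub : Presheaf.IsSheaf (J S) (fibSub p).toFunctor := by
  rw [isSheaf_iff_isSheaf_of_type]
  rw [Subfunctor.isSheaf_iff _ ((isSheaf_iff_isSheaf_of_type _ _).1 ((jinv g).obj X').property)]
  intro T s hs
  have hsep := ((isSheaf_iff_isSheaf_of_type _ _).1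
    ((jinv g).obj ((yon S').obj (X₀ g))).property).isSeparated
  refine (hsep _ hs).ext ?_
  intro W t ht
  have ht' : p.hom.app (op ((Over.map g).obj W)) (X'.obj.map ((Over.map g).map t).op s) =
      ⟨σ W⟩ := ht
  change ((yon S').obj (X₀ g)).obj.map ((Over.map g).map t).op (p.hom.app _ s) =
    (⟨(Over.map g).map t ≫ σ T.unop⟩ : ULift _)
  rw [← NatTrans.naturality_apply p.hom ((Over.map g).map t).op s, ht']
  congr 1
  apply Over.OverMorphism.ext
  exact (Over.w t).symm

/-- The fibre sheaf over `S`. -/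
noncomputable def fibSh : Sp S := ⟨(fibSub p).toFunctor, isSheaf_fibSub p⟩

/-- Inclusion into `j⁻¹ X'`. -/
noncomputable def fibι : fibSh p ⟶ (jinv g).obj X' := ObjectProperty.homMk (fibSub p).ι

/-- The comparison `j_! (fibre) ⟶ X'`. -/
noncomputable def fibTo : Phi g (fibSh p) ⟶ X' := homEquivInv (fibι p)

theorem fibTo_app {T' : Over S'} (x : Sec g (fibSh p) T') :
    (fibTo p).hom.app (op T') x = X'.obj.map (ιφinv x.1).op (Subtype.val x.2) := rfl

theorem p_fibTo_app {T' : Over S'} (x : Sec g (fibSh p) T') :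
    p.hom.app (op T') ((fibTo p).hom.app (op T') x) = ⟨x.1⟩ := by
  rw [fibTo_app, NatTrans.naturality_apply p.hom (ιφinv x.1).op (Subtype.val x.2)]
  have h2 : p.hom.app (op ((Over.map g).obj (ovS x.1))) (Subtype.val x.2) = ⟨σ (ovS x.1)⟩ :=
    (Subtype.property x.2)
  rw [h2]
  change (⟨ιφinv x.1 ≫ σ (ovS x.1)⟩ : ULift _) = _
  congr 1

theorem fibTo_comp : fibTo p ≫ p = PhiPr g (fibSh p) := by
  apply ObjectProperty.hom_ext
  ext T' x
  induction T' using Opposite.rec with | _ T' => ?_
  exact p_fibTo_app p x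

theorem isIso_of_app_bijective {B : Scheme.{u}} {F G : Sp B} (f : F ⟶ G)
    (h : ∀ T : Over B, Function.Bijective (f.hom.app (op T))) : IsIso f := by
  apply isIso_of_yon_bijective
  · intro U a b hab
    apply yEquiv.injective
    have := congrArg yEquiv hab
    rw [yEquiv_comp, yEquiv_comp] at this
    exact (h U).1 this
  · intro U c
    obtain ⟨x, hx⟩ := (h U).2 (yEquiv c)
    refine ⟨yEquiv.symm x, ?_⟩
    apply yEquiv.injective
    rw [yEquiv_comp, Equiv.apply_symm_apply, hx]

instance isIso_fibTo : IsIso (fibTo p) := by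
  apply isIso_of_app_bijective
  intro T'
  constructor
  · intro x y hxy
    have h1 := congrArg (p.hom.app (op T')) hxy
    rw [p_fibTo_app, p_fibTo_app] at h1
    have h2 := hxy
    rw [fibTo_app, fibTo_app] at h2
    obtain ⟨φ, ξ⟩ := x
    obtain ⟨ψ, η⟩ := y
    have hφ : φ = ψ := congrArg ULift.down h1
    subst hφ
    congr 1
    apply Subtype.ext
    change X'.obj.map (ιφinv φ).op ξ.1 = X'.obj.map (ιφinv φ).op η.1 at h2
    have h3 := congrArg (X'.obj.map (ιφ φ).op) h2
    rw [← FunctorToTypes.map_comp_apply, ← FunctorToTypes.map_comp_apply, ← op_comp,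
      ιφ_ιφinv, op_id, FunctorToTypes.map_id_apply, FunctorToTypes.map_id_apply] at h3
    exact h3
  · intro s
    let φ : T' ⟶ X₀ g := (p.hom.app (op T') s).down
    have hξ : p.hom.app (op ((Over.map g).obj (ovS φ))) (X'.obj.map (ιφ φ).op s) =
        ⟨σ (ovS φ)⟩ := by
      rw [NatTrans.naturality_apply p.hom (ιφ φ).op s]
      change (⟨ιφ φ ≫ φ⟩ : ULift _) = _
      congr 1
    refine ⟨Sec.mk φ ⟨X'.obj.map (ιφ φ).op s, hξ⟩, ?_⟩
    rw [fibTo_app]
    change X'.obj.map (ιφinv φ).op (X'.obj.map (ιφ φ).op s) = s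
    rw [← FunctorToTypes.map_comp_apply, ← op_comp, ιφinv_ιφ, op_id,
      FunctorToTypes.map_id_apply]

end Fibre

end Groth.Agent.Lib.H69Shriek
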