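import Groth.Agent.Lib.H69Shriek6

/-!
# helper69: `j_!` as an equivalence from algebraic spaces over `S` to algebraic spaces over `S'` over `h_S`
-/

set_option autoImplicit false
universe u
open CategoryTheory CategoryTheory.Limits AlgebraicGeometry Opposite
open AlgSp Groth.Agent.Lib.H69AlgSp Groth.Agent.Lib.H69AlgSpBase

namespace Groth.Agent.Lib.H69Shriek

variable {S S' : Scheme.{u}} (g : S ⟶ S')

/-- `F ↦ (j_! F ⟶ h_S)` on algebraic spaces. -/
noncomputable def slice : AlgSp.Space S ⥤ Over ((AlgSp.ofScheme S').obj (Over.mk g)) where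
  obj X := Over.mk (Y := (⟨Phi g X.obj, isAlgSpace_Phi X.property⟩ : AlgSp.Space S'))
    (ObjectProperty.homMk (PhiPr g X.obj))
  map {X Y} f := Over.homMk (ObjectProperty.homMk (PhiMap g f.hom)) (by
    apply ObjectProperty.hom_ext
    exact PhiMap_PhiPr f.hom)
  map_id X := by
    apply Over.OverMorphism.ext
    apply ObjectProperty.hom_ext
    exact (jsh g).map_id X.obj
  map_comp {X Y Z} f f' := by
    apply Over.OverMorphism.ext
    apply ObjectProperty.hom_ext
    exact (jsh g).map_comp f.hom f'.hom

theorem slice_map_left_hom {X Y : AlgSp.Space S} (f : X ⟶ Y) :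
    ((slice g).map f).left.hom = PhiMap g f.hom := rfl

instance slice_faithful : (slice g).Faithful where
  map_injective {X Y} f f' h := by
    apply ObjectProperty.hom_ext
    apply PhiMap_injective (g := g)
    have := congrArg (fun m => m.left.hom) h
    exact this

instance slice_full : (slice g).Full where
  map_surjective {X Y} A := by
    have hA : A.left.hom ≫ PhiPr g Y.obj = PhiPr g X.obj := by
      have := congrArg (fun m => m.hom) (Over.w A)
      exact this
    refine ⟨ObjectProperty.homMk (descMap A.left.hom hA), ?_⟩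
    apply Over.OverMorphism.ext
    apply ObjectProperty.hom_ext
    exact PhiMap_descMap A.left.hom hA

instance slice_essSurj : (slice g).EssSurj where
  mem_essImage Y' := by
    let p : Y'.left.obj ⟶ (yon S').obj (X₀ g) := Y'.hom.hom
    have hiso : IsIso (fibTo p) := isIso_fibTo p
    let e : Phi g (fibSh p) ≅ Y'.left.obj := asIso (fibTo p)
    have he : e.hom = fibTo p := rfl
    have hF : IsAlgSpace (fibSh (g := g) p) :=
      isAlgSpace_of_Phi (g := g) (Y'.left.property.of_iso e.symm)
    let X : AlgSp.Space S := ⟨fibSh p, hF⟩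
    let e' : ((slice g).obj X).left ≅ Y'.left := ObjectProperty.isoMk _ e
    refine ⟨X, ⟨Over.isoMk e' ?_⟩⟩
    apply ObjectProperty.hom_ext
    exact fibTo_comp p

instance slice_isEquivalence : (slice g).IsEquivalence where

/-- The equivalence. -/
noncomputable def sliceEquiv : AlgSp.Space S ≌ Over ((AlgSp.ofScheme S').obj (Over.mk g)) :=
  (slice g).asEquivalence

/-- Compatibility with `j_!`. -/
noncomputable def sliceEquivIso :
    (sliceEquiv g).functor ⋙ Over.forget _ ⋙ ObjectProperty.ι (AlgSp.IsAlgSpace (S := S')) ≅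
      ObjectProperty.ι (AlgSp.IsAlgSpace (S := S)) ⋙
        ((Over.map g).sheafPullback (Type (u + 1)) (AlgSp.J S) (AlgSp.J S')) :=
  NatIso.ofComponents (fun X => ((jshIso g).app X.obj).symm) (by
    intro X Y f
    exact (jshIso g).inv.naturality f.hom)

end Groth.Agent.Lib.H69Shriek
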