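import Groth.Agent.Lib.GrpdPts18
import Groth.Agent.Lib.H69KerFlat

/-!
# Sub-groupoids of groupoid schemes along a monomorphism (helper69)

* `SubData G ι`: for `ι : Z ⟶ G.R`, lifts `eZ, iZ, cZ` of identity, inverse, composition through `ι`.
* `SubData.groupoid` (for `ι` mono): the groupoid scheme `(G.U, Z, ι ≫ s, ι ≫ t, cZ, eZ, iZ)`;
  `SubData.hom : Hom D.groupoid G` with `fU = 𝟙`, `fR = ι`.
* `imageData`: over a field, for a morphism of groupoid schemes `f` with `f.fU` iso and `f.fR`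
  quasi-compact, the scheme theoretic image of `f.fR` carries such data.
-/

set_option autoImplicit false
universe u
open CategoryTheory CategoryTheory.Limits AlgebraicGeometry
open Grpd

namespace Groth.Agent.Lib.H69SubGrpd

variable {S : Scheme.{u}} (G : Grpd.GroupoidScheme S) {Z : Scheme.{u}} (ι : Z ⟶ G.R)

/-- `Z ×_U Z ⟶ R ×_U R`. -/
noncomputable def pmap : pullback (ι ≫ G.s) (ι ≫ G.t) ⟶ pullback G.s G.t :=
  pullback.map (ι ≫ G.s) (ι ≫ G.t) G.s G.t ι ι (𝟙 _) (by simp) (by simp)

/-- Lifts of the structure maps of `G` through `ι : Z ⟶ G.R`. -/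
structure SubData where
  eZ : G.U ⟶ Z
  he : eZ ≫ ι = G.e
  iZ : Z ⟶ Z
  hi : iZ ≫ ι = ι ≫ G.i
  cZ : pullback (ι ≫ G.s) (ι ≫ G.t) ⟶ Z
  hc : cZ ≫ ι = pmap G ι ≫ G.c

variable {G ι}

lemma lift_c_congr {T : Scheme.{u}} {a a' b b' : T ⟶ G.R} (ha : a = a') (hb : b = b')
    (h : a ≫ G.s = b ≫ G.t) :
    pullback.lift a b h ≫ G.c = pullback.lift a' b' (by rw [← ha, ← hb]; exact h) ≫ G.c := by
  subst ha hb; rfl

lemma SubData.key (D : SubData G ι) {T : Scheme.{u}} (α β : T ⟶ Z)
    (h : α ≫ ι ≫ G.s = β ≫ ι ≫ G.t) :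
    (pullback.lift α β h ≫ D.cZ) ≫ ι =
      pullback.lift (α ≫ ι) (β ≫ ι) (by simpa using h) ≫ G.c := by
  rw [Category.assoc, D.hc, ← Category.assoc]
  congr 1
  unfold pmap
  apply pullback.hom_ext
  · rw [Category.assoc, pullback.lift_fst, pullback.lift_fst, ← Category.assoc, pullback.lift_fst]
  · rw [Category.assoc, pullback.lift_snd, pullback.lift_snd, ← Category.assoc, pullback.lift_snd]

/-- The sub-groupoid scheme. -/
noncomputable def SubData.groupoid [Mono ι] (D : SubData G ι) : GroupoidScheme S where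
  U := G.U
  R := Z
  pU := G.pU
  pR := ι ≫ G.pR
  s := ι ≫ G.s
  t := ι ≫ G.t
  e := D.eZ
  i := D.iZ
  c := D.cZ
  s_over := by rw [Category.assoc, G.s_over]
  t_over := by rw [Category.assoc, G.t_over]
  comp_s := fun α β h => by
    rw [← Category.assoc, D.key α β h, G.comp_s, Category.assoc]
  comp_t := fun α β h => by
    rw [← Category.assoc, D.key α β h, G.comp_t, Category.assoc]
  assoc := fun α β γ h₁ h₂ => by
    refine (cancel_mono ι).1 ?_
    refine (D.key _ _ _).trans ?_
    refine Eq.trans ?_ (D.key _ _ _).symm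
    refine (lift_c_congr (D.key α β h₁) rfl _).trans ?_
    refine Eq.trans ?_ (lift_c_congr rfl (D.key β γ h₂) _).symm
    exact G.assoc (α ≫ ι) (β ≫ ι) (γ ≫ ι) _ _
  e_s := by rw [← Category.assoc, D.he, G.e_s]
  e_t := by rw [← Category.assoc, D.he, G.e_t]
  comp_e := fun α => by
    refine (cancel_mono ι).1 ?_
    refine (D.key _ _ _).trans ?_
    refine (lift_c_congr rfl ?_ _).trans (G.comp_e (α ≫ ι))
    simp [D.he]
  e_comp := fun α => by
    refine (cancel_mono ι).1 ?_
    refine (D.key _ _ _).trans ?_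
    refine (lift_c_congr ?_ rfl _).trans (G.e_comp (α ≫ ι))
    simp [D.he]
  i_s := by rw [← Category.assoc, D.hi, Category.assoc, G.i_s]
  i_t := by rw [← Category.assoc, D.hi, Category.assoc, G.i_t]
  comp_i := fun α => by
    refine (cancel_mono ι).1 ?_
    refine (D.key _ _ _).trans ?_
    refine (lift_c_congr rfl ?_ _).trans ((G.comp_i (α ≫ ι)).trans ?_)
    · simp [D.hi]
    · simp [D.he]
  i_comp := fun α => by
    refine (cancel_mono ι).1 ?_
    refine (D.key _ _ _).trans ?_
    refine (lift_c_congr ?_ rfl _).trans ((G.i_comp (α ≫ ι)).trans ?_)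
    · simp [D.hi]
    · simp [D.he]

/-- The inclusion of the sub-groupoid. -/
noncomputable def SubData.hom [Mono ι] (D : SubData G ι) : GroupoidScheme.Hom D.groupoid G where
  fU := 𝟙 _
  fR := ι
  fU_over := Category.id_comp _
  comm_s := (Category.comp_id _).symm
  comm_t := (Category.comp_id _).symm
  comm_c := fun α β h => D.key α β h


section dominant

lemma isPullback_comp_mono {C : Type*} [Category C] {P X Y W W' : C} {fst : P ⟶ X} {snd : P ⟶ Y}
    {f : X ⟶ W} {g : Y ⟶ W} (H : IsPullback fst snd f g) (i : W ⟶ W') [Mono i] :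
    IsPullback fst snd (f ≫ i) (g ≫ i) :=
  ⟨⟨by rw [← Category.assoc, H.w, Category.assoc]⟩,
    ⟨PullbackCone.isLimitOfCompMono f g i _ H.isLimit⟩⟩

/-- If `a.ker = ⊥` then precomposing with `a` does not change kernels. -/
lemma ker_comp_of_ker_eq_bot {X Y W : Scheme.{u}} (a : X ⟶ Y) (m : Y ⟶ W)
    [IsSchemeTheoreticallyDominant a] : (a ≫ m).ker = m.ker := by
  rw [Scheme.Hom.ker_comp, Scheme.Hom.ker_eq_bot a, Scheme.IdealSheafData.map_bot]

variable {X Z U U' P : Scheme.{u}} (a : X ⟶ Z) [QuasiCompact a] [IsSchemeTheoreticallyDominant a]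
  (p q : Z ⟶ U) [Flat p] [Flat (a ≫ q)]
  {π₁ π₂ : P ⟶ X} {u v : X ⟶ U'} (j : U' ⟶ U) [Mono j] (H : IsPullback π₁ π₂ u v)
  (hu : u ≫ j = a ≫ p) (hv : v ≫ j = a ≫ q)

include H hu hv in
/-- `a × a : X ×_{U'} X ⟶ Z ×_U Z` is scheme theoretically dominant if `a` is (and quasi-compact),
when the projections to `U` are flat. -/
theorem isSchemeTheoreticallyDominant_lift (d : P ⟶ pullback p q)
    (hd1 : d ≫ pullback.fst p q = π₁ ≫ a) (hd2 : d ≫ pullback.snd p q = π₂ ≫ a) :
    IsSchemeTheoreticallyDominant d := by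
  have H' : IsPullback π₁ π₂ (a ≫ p) (a ≫ q) := by
    have := isPullback_comp_mono H j
    rwa [hu, hv] at this
  -- first factor
  let d₁ : P ⟶ pullback p (a ≫ q) :=
    pullback.lift (π₁ ≫ a) π₂ (by rw [Category.assoc, H'.w])
  have hd₁1 : d₁ ≫ pullback.fst p (a ≫ q) = π₁ ≫ a := pullback.lift_fst _ _ _
  have hd₁2 : d₁ ≫ pullback.snd p (a ≫ q) = π₂ := pullback.lift_snd _ _ _
  let d₂ : pullback p (a ≫ q) ⟶ pullback p q :=
    pullback.lift (pullback.fst p (a ≫ q)) (pullback.snd p (a ≫ q) ≫ a)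
      (by rw [Category.assoc, pullback.condition])
  have hd₂1 : d₂ ≫ pullback.fst p q = pullback.fst p (a ≫ q) := pullback.lift_fst _ _ _
  have hd₂2 : d₂ ≫ pullback.snd p q = pullback.snd p (a ≫ q) ≫ a := pullback.lift_snd _ _ _
  have hdd : d = d₁ ≫ d₂ := by
    apply pullback.hom_ext
    · rw [hd1, Category.assoc, hd₂1, hd₁1]
    · rw [hd2, Category.assoc, hd₂2, ← Category.assoc, hd₁2]
  -- `d₁` is a base change of `a` along the flat `fst`
  have hsq1 : IsPullback π₁ d₁ a (pullback.fst p (a ≫ q)) := by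
    have hout : IsPullback (d₁ ≫ pullback.snd p (a ≫ q)) π₁ (a ≫ q) (a ≫ p) := by
      rw [hd₁2]; exact H'.flip
    exact (IsPullback.of_right hout hd₁1 (IsPullback.of_hasPullback p (a ≫ q)).flip).flip
  have : IsSchemeTheoreticallyDominant d₁ := IsSchemeTheoreticallyDominant.of_isPullback hsq1
  -- `d₂` is a base change of `a` along the flat `snd`
  have hsq2 : IsPullback (pullback.snd p (a ≫ q)) d₂ a (pullback.snd p q) := by
    have hout : IsPullback (pullback.snd p (a ≫ q)) (d₂ ≫ pullback.fst p q) (a ≫ q) p := by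
      rw [hd₂1]; exact (IsPullback.of_hasPullback p (a ≫ q)).flip
    exact IsPullback.of_bot hout hd₂2.symm (IsPullback.of_hasPullback p q).flip
  have : IsSchemeTheoreticallyDominant d₂ := IsSchemeTheoreticallyDominant.of_isPullback hsq2
  rw [hdd]
  infer_instance

end dominant

section image

open Groth.Agent.Lib.H69KerFlat

variable {S : Scheme.{u}} {G₁ G₂ : GroupoidScheme S} (f : GroupoidScheme.Hom G₁ G₂)
  [IsIso f.fU] [QuasiCompact f.fR] [Subsingleton G₂.U] [IsIntegral G₂.U]

/-- Over a field, the scheme theoretic image of the arrow map of a morphism of groupoid schemes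
(iso on objects, quasi-compact on arrows) is stable under identity, inverse and composition. -/
noncomputable def imageData : SubData G₂ f.fR.imageι := by
  have hfac : f.fR.toImage ≫ f.fR.imageι = f.fR := f.fR.toImage_imageι
  have hker : f.fR.imageι.ker = f.fR.ker := Scheme.IdealSheafData.ker_subschemeι _
  -- inverse
  have hi : f.fR.imageι.ker ≤ (f.fR.imageι ≫ G₂.i).ker := by
    rw [← ker_comp_of_ker_eq_bot f.fR.toImage (f.fR.imageι ≫ G₂.i), ← Category.assoc, hfac,
      ← Groth.Agent.Lib.GrpdPts18.hom_i f, hker]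
    exact Scheme.Hom.le_ker_comp _ _
  -- composition
  let d : pullback G₁.s G₁.t ⟶ pullback (f.fR.imageι ≫ G₂.s) (f.fR.imageι ≫ G₂.t) :=
    pullback.lift (pullback.fst G₁.s G₁.t ≫ f.fR.toImage) (pullback.snd G₁.s G₁.t ≫ f.fR.toImage)
      (by
        rw [Category.assoc, Category.assoc, ← Category.assoc f.fR.toImage, hfac,
          ← Category.assoc f.fR.toImage, hfac, f.comm_s, f.comm_t, ← Category.assoc,
          ← Category.assoc, pullback.condition])
  have hu : G₁.s ≫ f.fU = f.fR.toImage ≫ f.fR.imageι ≫ G₂.s := by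
    rw [← Category.assoc, hfac, f.comm_s]
  have hv : G₁.t ≫ f.fU = f.fR.toImage ≫ f.fR.imageι ≫ G₂.t := by
    rw [← Category.assoc, hfac, f.comm_t]
  have hdom : IsSchemeTheoreticallyDominant d :=
    isSchemeTheoreticallyDominant_lift f.fR.toImage (f.fR.imageι ≫ G₂.s) (f.fR.imageι ≫ G₂.t)
      f.fU (IsPullback.of_hasPullback G₁.s G₁.t) hu hv d (pullback.lift_fst _ _ _)
      (pullback.lift_snd _ _ _)
  have hdc : d ≫ pmap G₂ f.fR.imageι ≫ G₂.c = G₁.c ≫ f.fR := by
    have h1 := f.comm_c (pullback.fst G₁.s G₁.t) (pullback.snd G₁.s G₁.t) pullback.condition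
    rw [pullback.lift_fst_snd, Category.id_comp] at h1
    rw [h1, ← Category.assoc]
    congr 1
    unfold pmap
    apply pullback.hom_ext
    · rw [Category.assoc, pullback.lift_fst, ← Category.assoc, pullback.lift_fst,
        pullback.lift_fst, Category.assoc, hfac]
    · rw [Category.assoc, pullback.lift_snd, ← Category.assoc, pullback.lift_snd,
        pullback.lift_snd, Category.assoc, hfac]
  have hc : f.fR.imageι.ker ≤ (pmap G₂ f.fR.imageι ≫ G₂.c).ker := by
    rw [← ker_comp_of_ker_eq_bot d (pmap G₂ f.fR.imageι ≫ G₂.c), hdc, hker]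
    exact Scheme.Hom.le_ker_comp _ _
  exact
    { eZ := inv f.fU ≫ G₁.e ≫ f.fR.toImage
      he := by
        rw [Category.assoc, Category.assoc, hfac, Groth.Agent.Lib.GrpdPts18.hom_e f,
          IsIso.inv_hom_id_assoc]
      iZ := IsClosedImmersion.lift f.fR.imageι (f.fR.imageι ≫ G₂.i) hi
      hi := IsClosedImmersion.lift_fac _ _ _
      cZ := IsClosedImmersion.lift f.fR.imageι (pmap G₂ f.fR.imageι ≫ G₂.c) hc
      hc := IsClosedImmersion.lift_fac _ _ _ }

end image

/-- Stacks 04LN-type: over a field, the scheme theoretic image of a morphism of groupoid schemes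
is a groupoid scheme. -/
theorem exists_groupoid_image {S : Scheme.{u}} {G₁ G₂ : GroupoidScheme S}
    (f : GroupoidScheme.Hom G₁ G₂) [IsIso f.fU] [QuasiCompact f.fR] (k : Type u) [Field k]
    (eU : G₂.U ≅ Spec (CommRingCat.of k)) :
    ∃ (G' : GroupoidScheme S) (ψ : GroupoidScheme.Hom G' G₂),
      IsIso ψ.fU ∧ IsClosedImmersion ψ.fR ∧ ψ.fR.ker = f.fR.ker := by
  have hsub : Subsingleton G₂.U := eU.hom.homeomorph.subsingleton
  have hne : Nonempty G₂.U := ⟨eU.inv (IsLocalRing.closedPoint k)⟩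
  have hint : IsIntegral G₂.U := isIntegral_of_isOpenImmersion eU.hom
  refine ⟨(imageData f).groupoid, (imageData f).hom, ?_, ?_, ?_⟩
  · change IsIso (𝟙 _); infer_instance
  · change IsClosedImmersion f.fR.imageι; infer_instance
  · exact Scheme.IdealSheafData.ker_subschemeι _

end Groth.Agent.Lib.H69SubGrpd
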