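import Mathlib

/-!
# helper69: elementwise torsion with respect to a (not finitely generated) set of elements passes to
localizations of finite free algebras

Let `B` be a ring and `I ⊆ B` a set such that every localization `B_b` has no nonzero element killed by a
power of each `a ∈ I` (hypothesis `H`).  Then the same holds for every localization `C_c` of a finite free
`B`-algebra `C` (`exists_pow_mul_eq_zero_of_finite_free`), hence for every standard etale `B`-algebra
(`eq_zero_of_isStandardEtale`).  The argument is that of Stacks 05C? (weakly associated primes and finite ring maps).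
-/

set_option autoImplicit false
universe u

open Polynomial

namespace Groth.Agent.Lib.H69TorsionFree

variable {B C : Type u} [CommRing B] [CommRing C] [Algebra B C]

/-- `(u + v) ^ m * w = u ^ m * w` when `v * w = 0`. -/
theorem add_pow_mul_eq {R : Type*} [CommRing R] (u v w : R) (h : v * w = 0) (m : ℕ) :
    (u + v) ^ m * w = u ^ m * w := by
  induction m with
  | zero => simp
  | succ m ih =>
    calc (u + v) ^ (m + 1) * w = (u + v) * ((u + v) ^ m * w) := by ring
      _ = (u + v) * (u ^ m * w) := by rw [ih]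
      _ = u ^ (m + 1) * w + u ^ m * (v * w) := by ring
      _ = u ^ (m + 1) * w := by rw [h, mul_zero, add_zero]

theorem exists_pow_mul_eq_zero_of_finite_free [Module.Free B C] [Module.Finite B C] (I : Set B)
    (H : ∀ b β : B, (∀ a ∈ I, ∃ n m : ℕ, b ^ m * a ^ n * β = 0) → ∃ r : ℕ, b ^ r * β = 0)
    (c z₀ : C) (hz : ∀ a ∈ I, ∃ n m : ℕ, c ^ m * (algebraMap B C a) ^ n * z₀ = 0) :
    ∃ r : ℕ, c ^ r * z₀ = 0 := by
  classical
  by_contra hne
  push Not at hne
  -- the annihilator of `z₀ / 1` in `C_c`, as an ideal of `C`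
  let J : Ideal C :=
    { carrier := {g | ∃ m : ℕ, c ^ m * g * z₀ = 0}
      add_mem' := by
        rintro g₁ g₂ ⟨m₁, h₁⟩ ⟨m₂, h₂⟩
        refine ⟨m₁ + m₂, ?_⟩
        calc c ^ (m₁ + m₂) * (g₁ + g₂) * z₀
            = c ^ m₂ * (c ^ m₁ * g₁ * z₀) + c ^ m₁ * (c ^ m₂ * g₂ * z₀) := by ring
          _ = 0 := by rw [h₁, h₂]; simp
      zero_mem' := ⟨0, by simp⟩
      smul_mem' := by
        rintro r g ⟨m, h⟩
        refine ⟨m, ?_⟩
        calc c ^ m * (r • g) * z₀ = r * (c ^ m * g * z₀) := by rw [smul_eq_mul]; ring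
          _ = 0 := by rw [h, mul_zero] }
  have hJmem : ∀ g : C, g ∈ J ↔ ∃ m : ℕ, c ^ m * g * z₀ = 0 := fun _ => Iff.rfl
  have hJc : Disjoint (J : Set C) (Submonoid.powers c) := by
    rw [Set.disjoint_left]
    rintro g hg ⟨r, rfl⟩
    obtain ⟨m, hm⟩ := (hJmem _).1 hg
    exact hne (m + r) (by rw [pow_add]; exact hm)
  obtain ⟨q₀, hq₀prime, hJq₀, hq₀c⟩ := Ideal.exists_le_prime_disjoint J (Submonoid.powers c) hJc
  obtain ⟨q, hqmin, hqq₀⟩ := Ideal.exists_minimalPrimes_le hJq₀
  have hq : q.IsPrime := hqmin.1.1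
  have hJq : J ≤ q := hqmin.1.2
  have hcq : c ∉ q := fun h =>
    (Set.disjoint_left.1 hq₀c) (hqq₀ h) (Submonoid.mem_powers c)
  -- elements of `q` are nilpotent on `z₀` up to a unit at `q`
  have key : ∀ x ∈ q, ∃ y ∉ q, ∃ t : ℕ, y * x ^ t ∈ J := by
    intro x hx
    have hrad := IsLocalization.AtPrime.radical_map_of_mem_minimalPrimes
      (A := Localization.AtPrime q) q J hqmin
    have hx' : algebraMap C (Localization.AtPrime q) x ∈
        (J.map (algebraMap C (Localization.AtPrime q))).radical := by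
      rw [hrad]
      exact Ideal.mem_map_of_mem _ hx
    obtain ⟨t, ht⟩ := hx'
    rw [← map_pow, IsLocalization.mem_map_algebraMap_iff (M := q.primeCompl)] at ht
    obtain ⟨⟨a, b⟩, hab⟩ := ht
    rw [← map_mul, IsLocalization.eq_iff_exists q.primeCompl] at hab
    obtain ⟨u, hu⟩ := hab
    refine ⟨u.1 * b.1, hq.mul_notMem u.2 b.2, t, ?_⟩
    have : u.1 * b.1 * x ^ t = u.1 * a.1 := by
      rw [← hu]; ring
    rw [this]
    exact J.mul_mem_left _ a.2
  let p : Ideal B := q.comap (algebraMap B C)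
  have hp : p.IsPrime := Ideal.comap_isPrime _ _
  -- prime avoidance in the fibre
  have hfin : (p.primesOver C).Finite := Algebra.QuasiFinite.finite_primesOver p
  obtain ⟨x, hxq, hx⟩ : ∃ x ∈ q, ∀ Q ∈ p.primesOver C, Q ≠ q → x ∉ Q := by
    by_contra hcon
    push Not at hcon
    let s : Finset (Ideal C) := hfin.toFinset.erase q
    have hsub : (q : Set C) ⊆ ⋃ Q ∈ (s : Set (Ideal C)), (Q : Set C) := by
      intro x hx
      obtain ⟨Q, hQ, hQq, hxQ⟩ := hcon x hx
      refine Set.mem_biUnion (x := Q) ?_ hxQ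
      simp only [s, Finset.coe_erase, Set.Finite.coe_toFinset]
      exact ⟨hQ, hQq⟩
    have hprime : ∀ Q ∈ s, Q ≠ q → Q ≠ q → Ideal.IsPrime Q := by
      intro Q hQ _ _
      have : Q ∈ p.primesOver C := by
        have := Finset.mem_of_mem_erase hQ
        exact hfin.mem_toFinset.1 this
      exact this.1
    obtain ⟨Q, hQs, hqQ⟩ := (Ideal.subset_union_prime (f := fun Q : Ideal C => Q) q q hprime).1 hsub
    have hQmem : Q ∈ p.primesOver C := hfin.mem_toFinset.1 (Finset.mem_of_mem_erase hQs)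
    have hQne : Q ≠ q := Finset.ne_of_mem_erase hQs
    have hQover : Q.comap (algebraMap B C) = p := (hQmem.2.over).symm
    -- incomparability
    have hlt : q < Q := lt_of_le_of_ne hqQ (Ne.symm hQne)
    obtain ⟨y, hyQ, hyq⟩ := Set.exists_of_ssubset hlt
    have := Ideal.comap_lt_comap_of_integral_mem_sdiff (R := B) hqQ ⟨hyQ, hyq⟩
      (Algebra.IsIntegral.isIntegral y)
    rw [hQover] at this
    exact lt_irrefl _ this
  obtain ⟨y, hyq, t, hyt⟩ := key x hxq
  obtain ⟨m₀, hm₀⟩ := (hJmem _).1 hyt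
  -- `z₁` is killed by `x ^ t`
  let z₁ : C := c ^ m₀ * y * z₀
  have hxz₁ : x ^ t * z₁ = 0 := by
    calc x ^ t * z₁ = c ^ m₀ * (y * x ^ t) * z₀ := by ring
      _ = 0 := hm₀
  -- `c` is invertible modulo `x ^ t` near `p`
  obtain ⟨b, hbp, c', g', hb⟩ : ∃ b : B, b ∉ p ∧ ∃ c' g' : C, algebraMap B C b = c' * c + g' * x ^ t := by
    by_contra hcon
    push Not at hcon
    have hle : (Ideal.span {c, x ^ t}).comap (algebraMap B C) ≤ p := by
      intro b hb
      by_contra hbp
      rw [Ideal.mem_comap, Ideal.mem_span_pair] at hb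
      obtain ⟨c', g', hb⟩ := hb
      exact hcon b hbp c' g' hb.symm
    obtain ⟨Q, hQge, hQprime, hQover⟩ := Ideal.exists_ideal_over_prime_of_isIntegral p _ hle
    have hQmem : Q ∈ p.primesOver C := ⟨hQprime, ⟨hQover.symm⟩⟩
    have hxQ : x ∈ Q := hQprime.mem_of_pow_mem t (hQge (Ideal.subset_span (by simp)))
    have hQq : Q = q := by
      by_contra hne'
      exact hx Q hQmem hne' hxQ
    exact hcq (hQq ▸ hQge (Ideal.subset_span (by simp)))
  -- `z₁` is torsion on `D(b)`
  have hbz₁ : ∀ m : ℕ, (algebraMap B C b) ^ m * z₁ = (c' * c) ^ m * z₁ := by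
    intro m
    rw [hb]
    exact add_pow_mul_eq _ _ _ (by rw [mul_assoc, hxz₁, mul_zero]) m
  have htors : ∀ a ∈ I, ∃ n m : ℕ, algebraMap B C (b ^ m * a ^ n) * z₁ = 0 := by
    intro a ha
    obtain ⟨n, m, hnm⟩ := hz a ha
    refine ⟨n, m, ?_⟩
    calc algebraMap B C (b ^ m * a ^ n) * z₁
        = (algebraMap B C a) ^ n * ((algebraMap B C b) ^ m * z₁) := by
          rw [map_mul, map_pow, map_pow]; ring
      _ = (algebraMap B C a) ^ n * ((c' * c) ^ m * z₁) := by rw [hbz₁]
      _ = c' ^ m * c ^ m₀ * y * (c ^ m * (algebraMap B C a) ^ n * z₀) := by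
          simp only [z₁]; ring
      _ = 0 := by rw [hnm, mul_zero]
  -- coordinates
  let bas := Module.Free.chooseBasis B C
  have hcoord : ∀ j, ∃ r : ℕ, b ^ r * bas.repr z₁ j = 0 := by
    intro j
    apply H
    intro a ha
    obtain ⟨n, m, hnm⟩ := htors a ha
    refine ⟨n, m, ?_⟩
    have h1 : bas.repr ((b ^ m * a ^ n) • z₁) j = 0 := by
      rw [Algebra.smul_def, hnm]; simp
    rwa [map_smul, Finsupp.smul_apply, smul_eq_mul] at h1
  choose rj hrj using hcoord
  have : Fintype (Module.Free.ChooseBasisIndex B C) := inferInstance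
  let r := Finset.univ.sup rj
  have hr : (b ^ r) • z₁ = 0 := by
    apply bas.repr.injective
    ext j
    rw [map_smul, Finsupp.smul_apply, smul_eq_mul, map_zero, Finsupp.zero_apply]
    have hle : rj j ≤ r := Finset.le_sup (Finset.mem_univ j)
    obtain ⟨k, hk⟩ := Nat.exists_eq_add_of_le hle
    rw [hk, pow_add, mul_comm (b ^ rj j), mul_assoc, hrj, mul_zero]
  -- contradiction
  have hmemJ : (algebraMap B C b) ^ r * y ∈ J := by
    refine (hJmem _).2 ⟨m₀, ?_⟩
    calc c ^ m₀ * ((algebraMap B C b) ^ r * y) * z₀ = (algebraMap B C b) ^ r * z₁ := by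
          simp only [z₁]; ring
      _ = (b ^ r) • z₁ := by rw [Algebra.smul_def, map_pow]
      _ = 0 := hr
  have hbq : algebraMap B C b ∉ q := fun h => hbp h
  rcases hq.mem_or_mem (hJq hmemJ) with h | h
  · exact hbq (hq.mem_of_pow_mem r h)
  · exact hyq h

/-- The same for standard etale algebras. -/
theorem eq_zero_of_isStandardEtale {B C' : Type u} [CommRing B] [CommRing C'] [Algebra B C']
    [Algebra.IsStandardEtale B C'] (I : Set B)
    (H : ∀ b β : B, (∀ a ∈ I, ∃ n m : ℕ, b ^ m * a ^ n * β = 0) → ∃ r : ℕ, b ^ r * β = 0)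
    (s : C') (hs : ∀ a ∈ I, ∃ n : ℕ, (algebraMap B C' a) ^ n * s = 0) : s = 0 := by
  obtain ⟨P⟩ := Algebra.IsStandardEtale.nonempty_standardEtalePresentation (R := B) (S := C')
  let e : C' ≃ₐ[B] Localization.Away (AdjoinRoot.mk P.f P.g) :=
    P.equivRing.trans P.P.equivAwayAdjoinRoot
  have hfree : Module.Free B (AdjoinRoot P.f) := P.monic_f.free_adjoinRoot
  have hfin : Module.Finite B (AdjoinRoot P.f) := P.monic_f.finite_adjoinRoot
  set c : AdjoinRoot P.f := AdjoinRoot.mk P.f P.g with hc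
  obtain ⟨⟨z₀, ⟨_, k, rfl⟩⟩, hz⟩ := IsLocalization.surj (Submonoid.powers c) (e s)
  simp only at hz
  have hz₀ : ∀ a ∈ I, ∃ n m : ℕ, c ^ m * (algebraMap B (AdjoinRoot P.f) a) ^ n * z₀ = 0 := by
    intro a ha
    obtain ⟨n, hn⟩ := hs a ha
    have h1 : (algebraMap B (Localization.Away c) a) ^ n * e s = 0 := by
      have := congrArg e hn
      rwa [map_mul, map_pow, e.commutes, map_zero] at this
    have h2 : algebraMap (AdjoinRoot P.f) (Localization.Away c)
        ((algebraMap B (AdjoinRoot P.f) a) ^ n * z₀) = 0 := by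
      rw [map_mul, map_pow, ← IsScalarTower.algebraMap_apply, ← hz, ← mul_assoc, h1, zero_mul]
    obtain ⟨⟨_, m, rfl⟩, hm⟩ := (IsLocalization.map_eq_zero_iff (Submonoid.powers c) _ _).1 h2
    exact ⟨n, m, by simpa [mul_assoc] using hm⟩
  obtain ⟨r, hr⟩ := exists_pow_mul_eq_zero_of_finite_free I H c z₀ hz₀
  have h3 : algebraMap (AdjoinRoot P.f) (Localization.Away c) z₀ = 0 :=
    (IsLocalization.map_eq_zero_iff (Submonoid.powers c) _ _).2 ⟨⟨c ^ r, r, rfl⟩, hr⟩
  rw [h3] at hz
  have hu : IsUnit (algebraMap (AdjoinRoot P.f) (Localization.Away c) (c ^ k)) :=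
    IsLocalization.map_units _ (⟨c ^ k, k, rfl⟩ : Submonoid.powers c)
  have h4 : e s = 0 := hu.mul_left_eq_zero.1 hz
  exact e.map_eq_zero_iff.1 h4

end Groth.Agent.Lib.H69TorsionFree
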