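import Mathlib

/-!
# Two scheme-level lemmas for the valuative criterion with finite separable extensions (helper69)

* `exists_residueField_finite_separable`: residue fields of a scheme étale over a field are finite separable.
* `exists_valuationRing_over_closedPoint`: a point of a flat scheme over a local domain lying over the closed point is
  the closed point of a valuation-ring-valued point whose generic point lies over the generic point.
-/

open CategoryTheory CategoryTheory.Limits AlgebraicGeometry IsLocalRing

universe u

namespace Groth.Agent.Lib.H69ValFS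


/-- The residue field of a point of a scheme étale over a field is finite separable over that field. -/
theorem exists_residueField_finite_separable {K : Type u} [Field K] {E : Scheme.{u}}
    (g : E ⟶ Spec (CommRingCat.of K)) [Etale g] (ε : E) :
    ∃ ψ : K →+* E.residueField ε,
      Spec.map (CommRingCat.ofHom ψ) = E.fromSpecResidueField ε ≫ g ∧
      (letI := ψ.toAlgebra; Module.Finite K (E.residueField ε) ∧ Algebra.IsSeparable K (E.residueField ε)) := by
  let R : CommRingCat.{u} := CommRingCat.of K
  let y : ↥(Spec R) := g ε
  let ν₁ : R ⟶ (Spec R).presheaf.stalk y := StructureSheaf.toStalk K y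
  let ν₂ : (Spec R).presheaf.stalk y ⟶ E.presheaf.stalk ε := g.stalkMap ε
  let ν₃ : E.presheaf.stalk ε ⟶ E.residueField ε := E.residue ε
  let ψ : K →+* E.residueField ε := ν₃.hom.comp (ν₂.hom.comp ν₁.hom)
  let y' : PrimeSpectrum K := y
  have : y'.asIdeal.IsPrime := y'.isPrime
  have h1u : ν₁.hom.FormallyUnramified := by
    let _ : Algebra K ((Spec R).presheaf.stalk y) := ν₁.hom.toAlgebra
    have : IsLocalization.AtPrime ((Spec R).presheaf.stalk y) y'.asIdeal :=
      StructureSheaf.IsLocalization.to_stalk K y'
    have h := Algebra.FormallyUnramified.of_isLocalization (R := K) (Rₘ := (Spec R).presheaf.stalk y)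
      y'.asIdeal.primeCompl
    exact h
  have h1f : ν₁.hom.EssFiniteType := by
    let _ : Algebra K ((Spec R).presheaf.stalk y) := ν₁.hom.toAlgebra
    have : IsLocalization.AtPrime ((Spec R).presheaf.stalk y) y'.asIdeal :=
      StructureSheaf.IsLocalization.to_stalk K y'
    have h := Algebra.EssFiniteType.of_isLocalization (R := K) ((Spec R).presheaf.stalk y)
      y'.asIdeal.primeCompl
    exact h
  have h2u : ν₂.hom.FormallyUnramified := FormallyUnramified.stalkMap g ε
  have h2f : ν₂.hom.EssFiniteType := LocallyOfFiniteType.stalkMap g ε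
  have hsurj : Function.Surjective ν₃.hom := IsLocalRing.residue_surjective
  have h3u : ν₃.hom.FormallyUnramified := RingHom.FormallyUnramified.of_surjective hsurj
  have h3f : ν₃.hom.EssFiniteType := (RingHom.FiniteType.of_surjective _ hsurj).essFiniteType
  have hu : ψ.FormallyUnramified := (h1u.comp h2u).comp h3u
  have hf : ψ.EssFiniteType := (h1f.comp h2f).comp h3f
  refine ⟨ψ, ?_, ?_⟩
  · change Spec.map (ν₁ ≫ ν₂ ≫ ν₃) = _
    rw [Spec.map_comp, Spec.map_comp, Scheme.fromSpecResidueField, Category.assoc, Category.assoc,
      ← Scheme.SpecMap_stalkMap_fromSpecStalk, Spec.fromSpecStalk_eq']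
    rfl
  · let _ := ψ.toAlgebra
    have : Algebra.FormallyUnramified K (E.residueField ε) := hu
    have : Algebra.EssFiniteType K (E.residueField ε) := hf
    exact ⟨Algebra.FormallyUnramified.finite_of_free K _, Algebra.FormallyUnramified.isSeparable K _⟩



/-- Over a local domain `A'`, a point `t` of a flat `A'`-scheme `T` over the closed point admits a generalization `t'`
over the generic point and a valuation ring `B` of `κ(t')` with a morphism `Spec B ⟶ T` sending the generic point to
`t'` and the closed point to `t`; the induced map `A' → B` is local and injective. -/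
theorem exists_valuationRing_over_closedPoint {A' : Type u} [CommRing A'] [IsDomain A'] [IsLocalRing A']
    {T : Scheme.{u}} (g : T ⟶ Spec (CommRingCat.of A')) [Flat g] (t : T) (ht : g t = closedPoint A') :
    ∃ (t' : T) (B : ValuationSubring (T.residueField t')) (v : Spec (CommRingCat.of B) ⟶ T) (θ : A' →+* B),
      Spec.map (CommRingCat.ofHom (algebraMap B (T.residueField t'))) ≫ v = T.fromSpecResidueField t' ∧
      v ≫ g = Spec.map (CommRingCat.ofHom θ) ∧ IsLocalHom θ ∧ Function.Injective θ ∧
      v (closedPoint B) = t := by
  let η' : ↥(Spec (CommRingCat.of A')) := (⟨⊥, Ideal.isPrime_bot⟩ : PrimeSpectrum A')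
  have hη' : η' ⤳ g t := by
    rw [ht]
    exact IsLocalRing.specializes_closedPoint (R := A') η'
  obtain ⟨t', ht't, hgt'⟩ := Flat.generalizingMap g hη'
  let ρ : T.presheaf.stalk t ⟶ T.residueField t' := T.presheaf.stalkSpecializes ht't ≫ T.residue t'
  obtain ⟨B, hB, hBloc⟩ := exists_factor_valuationRing ρ.hom
  let ρB : T.presheaf.stalk t ⟶ CommRingCat.of B := CommRingCat.ofHom (ρ.hom.codRestrict _ hB)
  let v : Spec (CommRingCat.of B) ⟶ T := Spec.map ρB ≫ T.fromSpecStalk t
  have hv1 : Spec.map (CommRingCat.ofHom (algebraMap B (T.residueField t'))) ≫ v =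
      T.fromSpecResidueField t' := by
    have h1 : ρB ≫ CommRingCat.ofHom (algebraMap B (T.residueField t')) = ρ := rfl
    change _ ≫ Spec.map ρB ≫ _ = _
    rw [← Spec.map_comp_assoc, h1, Scheme.fromSpecResidueField, Spec.map_comp, Category.assoc,
      Scheme.SpecMap_stalkSpecializes_fromSpecStalk]
  let R : CommRingCat.{u} := CommRingCat.of A'
  let ν₁ : R ⟶ (Spec R).presheaf.stalk (g t) := StructureSheaf.toStalk A' (g t)
  let ν₂ : (Spec R).presheaf.stalk (g t) ⟶ T.presheaf.stalk t := g.stalkMap t
  let θ₀ : CommRingCat.of A' ⟶ CommRingCat.of B := ν₁ ≫ ν₂ ≫ ρB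
  let θ : A' →+* B := θ₀.hom
  have hv2 : v ≫ g = Spec.map (CommRingCat.ofHom θ) := by
    change (Spec.map ρB ≫ T.fromSpecStalk t) ≫ g = Spec.map (ν₁ ≫ ν₂ ≫ ρB)
    rw [Spec.map_comp, Spec.map_comp, Category.assoc,
      ← Scheme.SpecMap_stalkMap_fromSpecStalk, Spec.fromSpecStalk_eq']
    rfl
  have hvcl : v (closedPoint B) = t := by
    change (T.fromSpecStalk t) (Spec.map ρB (closedPoint B)) = t
    have : Spec.map ρB (closedPoint B) = closedPoint (T.presheaf.stalk t) :=
      comap_closedPoint (S := B) (ρ.hom.codRestrict B.toSubring hB)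
    rw [this, Scheme.fromSpecStalk_closedPoint]
  refine ⟨t', B, v, θ, hv1, hv2, ?_, ?_, hvcl⟩
  · rw [IsLocalRing.isLocalHom_iff_comap_closedPoint]
    have h1 : (v ≫ g) (closedPoint B) = closedPoint A' := by
      change g (v (closedPoint B)) = _
      rw [hvcl, ht]
    rw [hv2] at h1
    exact h1
  · have h1 : (Spec.map (CommRingCat.ofHom (algebraMap B (T.residueField t'))) ≫ v ≫ g)
        (closedPoint (T.residueField t')) = η' := by
      rw [← Category.assoc, hv1]
      have h := Scheme.fromSpecResidueField_apply t' (closedPoint (T.residueField t'))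
      exact (congrArg g h).trans hgt'
    rw [hv2, ← Spec.map_comp, ← CommRingCat.ofHom_comp] at h1
    have h2 : RingHom.ker ((algebraMap B (T.residueField t')).comp θ) = ⊥ := by
      have h3 := congrArg PrimeSpectrum.asIdeal h1
      change Ideal.comap ((algebraMap B (T.residueField t')).comp θ)
        (closedPoint (T.residueField t')).asIdeal = ⊥ at h3
      rw [← h3, RingHom.ker]
      congr 1
      exact (Ideal.eq_bot_of_prime _).symm
    have h4 : Function.Injective ((algebraMap B (T.residueField t')).comp θ) :=
      (RingHom.injective_iff_ker_eq_bot _).2 h2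
    exact Function.Injective.of_comp (f := algebraMap B (T.residueField t')) h4

end Groth.Agent.Lib.H69ValFS
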