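import Groth.Agent.Lib.H69SchImageVal
import Mathlib.AlgebraicGeometry.Morphisms.UniversallyOpen

/-!
# helper69: lifting valuation rings along flat morphisms (schemes)

`exists_valuationRing_lift_of_flat`: for a flat morphism `g : W ⟶ Spec A` to the spectrum of a valuation ring
and a point `w` over the closed point there are an extension of valuation rings `φ : A → A'` (injective and
local) and a morphism `l : Spec A' ⟶ W` with `l ≫ g = Spec φ`.
-/

set_option autoImplicit false
universe u

open CategoryTheory CategoryTheory.Limits AlgebraicGeometry Opposite IsLocalRing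

namespace Groth.Agent.Lib.H69ValFlat

open Groth.Agent.Lib.H69SchImageVal

theorem exists_valuationRing_lift_of_flat {W : Scheme.{u}} {A : Type u} [CommRing A] [IsDomain A]
    [ValuationRing A] (g : W ⟶ Spec (CommRingCat.of A)) [Flat g] (w : W)
    (hw : g w = closedPoint A) :
    ∃ (A' : Type u) (_ : CommRing A') (_ : IsDomain A') (_ : ValuationRing A') (φ : A →+* A'),
      Function.Injective φ ∧ IsLocalHom φ ∧
      ∃ l : Spec (CommRingCat.of A') ⟶ W, l ≫ g = Spec.map (CommRingCat.ofHom φ) := by
  -- the generic point of `Spec A`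
  let η : Spec (CommRingCat.of A) := (⟨⊥, Ideal.isPrime_bot⟩ : PrimeSpectrum A)
  have hη : η ⤳ g w := by
    rw [hw]
    exact (PrimeSpectrum.le_iff_specializes (⟨⊥, Ideal.isPrime_bot⟩ : PrimeSpectrum A)
      (closedPoint A)).1 bot_le
  obtain ⟨w', hw'w, hw'η⟩ := (Flat.generalizingMap g) hη
  have h1 : (𝟙 W : W ⟶ W) w' ⤳ w := hw'w
  obtain ⟨A', l, hl, hlk⟩ := exists_valuationSubring_of_map_specializes (𝟙 W) h1
  let ψ : Spec (CommRingCat.of A') ⟶ Spec (CommRingCat.of A) := l ≫ g
  let φ : A →+* A' := (Spec.preimage ψ).hom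
  have hφ : Spec.map (CommRingCat.ofHom φ) = ψ := by
    change Spec.map (CommRingCat.ofHom (Spec.preimage ψ).hom) = ψ
    rw [CommRingCat.ofHom_hom, Spec.map_preimage]
  refine ⟨A', inferInstance, inferInstance, inferInstance, φ, ?_, ?_, l, hφ.symm⟩
  · -- injective
    rw [RingHom.injective_iff_ker_eq_bot]
    -- the generic point of `Spec A'` maps to `η`
    let pt : Spec (W.residueField w') := (⟨⊥, Ideal.isPrime_bot⟩ : PrimeSpectrum (W.residueField w'))
    have e1 : (Spec.map (CommRingCat.ofHom (algebraMap A' (W.residueField w'))) ≫ l ≫ g) pt = η := by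
      rw [← Category.assoc, hlk, Category.comp_id, Scheme.Hom.comp_apply,
        Scheme.fromSpecResidueField_apply]
      exact hw'η
    have e2 : (Spec.map (CommRingCat.ofHom (algebraMap A' (W.residueField w'))) ≫ l ≫ g) pt
        = ψ ((Spec.map (CommRingCat.ofHom (algebraMap A' (W.residueField w')))) pt) := by
      rw [Scheme.Hom.comp_apply]
    rw [e2, ← hφ] at e1
    have e3 := congrArg PrimeSpectrum.asIdeal e1
    change Ideal.comap φ (Ideal.comap (algebraMap A' (W.residueField w')) ⊥) = ⊥ at e3
    have e4 : Ideal.comap (algebraMap A' (W.residueField w')) ⊥ = ⊥ := by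
      rw [← RingHom.ker_eq_comap_bot, (RingHom.injective_iff_ker_eq_bot _).1]
      exact Subtype.val_injective
    rw [e4] at e3
    rw [RingHom.ker_eq_comap_bot]
    exact e3
  · -- local
    rw [isLocalHom_iff_comap_closedPoint]
    have e1 : ψ (closedPoint A') = closedPoint A := by
      change (l ≫ g) (closedPoint A') = _
      rw [Scheme.Hom.comp_apply, hl, hw]
    rw [← hφ] at e1
    exact e1

end Groth.Agent.Lib.H69ValFlat
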