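import Mathlib
import Groth.Agent.Lib.H69SubGrpd

/-!
# helper69: scheme-level lemmas for the valuative criterion of separated morphisms of algebraic spaces

* `flat_of_dominant_generic`: a scheme `W` over a valuation ring `A` which receives a quasi-compact scheme
  theoretically dominant morphism from a scheme over the fraction field `K` is flat over `A`.
* `isIso_of_dominant_factor`: a closed immersion through which a scheme theoretically dominant morphism factors
  is an isomorphism.
-/

set_option autoImplicit false
universe u

open CategoryTheory CategoryTheory.Limits AlgebraicGeometry Opposite IsLocalRing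

namespace Groth.Agent.Lib.H69ValSep

/-- A closed immersion through which a scheme theoretically dominant morphism factors is an isomorphism. -/
theorem isIso_of_dominant_factor {E P D : Scheme.{u}} (e : E ⟶ P) [IsClosedImmersion e] (d : D ⟶ P)
    [IsSchemeTheoreticallyDominant d] (d' : D ⟶ E) (h : d' ≫ e = d) : IsIso e := by
  rw [IsClosedImmersion.isIso_iff_ker_eq_bot]
  have h1 : e.ker ≤ (d' ≫ e).ker := d'.le_ker_comp e
  rw [h, Scheme.Hom.ker_eq_bot d] at h1
  exact le_bot_iff.1 h1

/-- A ring map from a valuation ring `A` to a ring `B` such that every nonzero element of `A` acts injectively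
on `B` is flat. -/
theorem ringHom_flat_of_torsionFree {A B : Type u} [CommRing A] [IsDomain A] [ValuationRing A] [CommRing B]
    (φ : A →+* B) (h : ∀ (r : A) (b : B), r ≠ 0 → φ r * b = 0 → b = 0) : φ.Flat := by
  letI := φ.toAlgebra
  change Module.Flat A B
  rw [Module.Flat.flat_iff_torsion_eq_bot_of_isBezout, eq_bot_iff]
  intro b hb
  rw [Submodule.mem_torsion_iff] at hb
  obtain ⟨r, hr⟩ := hb
  rw [Submodule.mem_bot]
  refine h r.1 b (nonZeroDivisors.coe_ne_zero r) ?_
  have : (r : A) • b = 0 := hr
  rwa [Algebra.smul_def] at this

/-- A scheme over a valuation ring `A` receiving a quasi-compact scheme theoretically dominant morphism from a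
scheme over the fraction field is flat over `A`. -/
theorem flat_of_dominant_generic {A K : Type u} [CommRing A] [IsDomain A] [ValuationRing A] [Field K]
    [Algebra A K] [IsFractionRing A K] {W A₀ : Scheme.{u}} (g : W ⟶ Spec (CommRingCat.of A))
    (u : A₀ ⟶ Spec (CommRingCat.of K)) (a : A₀ ⟶ W) [QuasiCompact a] [IsSchemeTheoreticallyDominant a]
    (h : a ≫ g = u ≫ Spec.map (CommRingCat.ofHom (algebraMap A K))) : Flat g := by
  refine HasRingHomProperty.of_source_openCover (P := @Flat) W.affineCover fun i => ?_
  -- reduce to the ring map out of `A`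
  let ψ : A →+* Γ(Spec (CommRingCat.of A), ⊤) := (Scheme.ΓSpecIso (CommRingCat.of A)).inv.hom
  let φ : Γ(Spec (CommRingCat.of A), ⊤) →+* Γ(W.affineCover.X i, ⊤) := ((W.affineCover.f i ≫ g).appTop).hom
  suffices hfl : (φ.comp ψ).Flat by
    have := (RingHom.Flat.respectsIso.cancel_left_isIso (Scheme.ΓSpecIso (CommRingCat.of A)).inv
      ((W.affineCover.f i ≫ g).appTop)).1
    exact this hfl
  -- the base change of `a` to the affine open
  let ai : pullback a (W.affineCover.f i) ⟶ W.affineCover.X i := pullback.snd a (W.affineCover.f i)
  have hinj : Function.Injective ai.appTop.hom := ai.app_injective ⊤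
  apply ringHom_flat_of_torsionFree
  intro r b hr hb
  apply hinj
  rw [map_zero]
  -- the image of `r` upstairs is a unit
  have hcomp : (pullback.fst a (W.affineCover.f i) ≫ u ≫ Spec.map (CommRingCat.ofHom (algebraMap A K))) =
      ai ≫ W.affineCover.f i ≫ g := by
    rw [← h, ← Category.assoc, pullback.condition, Category.assoc]
  have e1 : ai.appTop.hom (φ (ψ r)) =
      (pullback.fst a (W.affineCover.f i)).appTop.hom (u.appTop.hom
        ((Scheme.ΓSpecIso (CommRingCat.of K)).inv.hom (algebraMap A K r))) := by
    have h2 : (ai ≫ (W.affineCover.f i ≫ g)).appTop =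
        (pullback.fst a (W.affineCover.f i) ≫ (u ≫ Spec.map (CommRingCat.ofHom (algebraMap A K)))).appTop :=
      congrArg Scheme.Hom.appTop hcomp.symm
    rw [Scheme.Hom.comp_appTop, Scheme.Hom.comp_appTop (pullback.fst a (W.affineCover.f i)),
      Scheme.Hom.comp_appTop u] at h2
    have h3 := congrArg (fun m => m.hom ((Scheme.ΓSpecIso (CommRingCat.of A)).inv.hom r)) h2
    simp only [CommRingCat.hom_comp, RingHom.comp_apply] at h3
    refine h3.trans ?_
    congr 2
    have h4 := Scheme.ΓSpecIso_inv_naturality (CommRingCat.ofHom (algebraMap A K))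
    have h5 := congrArg (fun m => m.hom r) h4
    simp only [CommRingCat.hom_comp, RingHom.comp_apply, CommRingCat.hom_ofHom] at h5
    exact h5.symm
  have hunit : IsUnit (ai.appTop.hom (φ (ψ r))) := by
    rw [e1]
    apply IsUnit.map
    apply IsUnit.map
    apply IsUnit.map
    have hne : algebraMap A K r ≠ 0 := by
      rw [Ne, ← map_zero (algebraMap A K)]
      exact fun hh => hr (IsFractionRing.injective A K hh)
    exact hne.isUnit
  have e2 : ai.appTop.hom (φ (ψ r)) * ai.appTop.hom b = 0 := by
    rw [← map_mul]
    have : φ (ψ r) * b = 0 := hb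
    rw [this, map_zero]
  exact (hunit.mul_right_eq_zero).1 e2

end Groth.Agent.Lib.H69ValSep
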