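import Groth.Agent.Lib.H69AlgSp
import Mathlib.CategoryTheory.Limits.Shapes.WidePullbacks

/-!
# helper69: wide pullbacks by induction, and representability of wide pullbacks of representable maps
-/

set_option autoImplicit false
universe u
open CategoryTheory CategoryTheory.Limits AlgebraicGeometry Opposite
open AlgSp Groth.Agent.Lib.H69AlgSp

namespace Groth.Agent.Lib.H69WidePb

section Cat

variable {C : Type*} [Category C]

/-- The empty wide pullback over `X` is `X`. -/
def isLimitEmpty (X : C) {Y : Fin 0 → C} (f : ∀ i, Y i ⟶ X) :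
    IsLimit (WidePullbackCone.mk (𝟙 X) (fun i => Fin.elim0 i) (fun i => Fin.elim0 i) :
      WidePullbackCone f) :=
  WidePullbackCone.IsLimit.mk _ (fun t => t.base)
    (fun t => Category.comp_id _)
    (fun t i => Fin.elim0 i)
    (fun t m hm _ => (Category.comp_id m).symm.trans hm)

/-- A wide pullback of `n + 1` maps is the pullback of the wide pullback of the first `n` with the last one. -/
noncomputable def isLimitSucc {n : ℕ} {X : C} {Y : Fin (n + 1) → C} (f : ∀ i, Y i ⟶ X)
    (s' : WidePullbackCone (fun i : Fin n => f i.castSucc)) (hs' : IsLimit s')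
    {P : C} (fst : P ⟶ s'.pt) (snd : P ⟶ Y (Fin.last n))
    (sq : IsPullback fst snd s'.base (f (Fin.last n)))
    (π : ∀ i, P ⟶ Y i) (hπl : π (Fin.last n) = snd) (hπc : ∀ i : Fin n, π i.castSucc = fst ≫ s'.π i)
    (hπ : ∀ i, π i ≫ f i = fst ≫ s'.base) :
    IsLimit (WidePullbackCone.mk (fst ≫ s'.base) π hπ : WidePullbackCone f) :=
  WidePullbackCone.IsLimit.mk _
    (fun t => sq.lift (WidePullbackCone.IsLimit.lift hs' t.base (fun i => t.π i.castSucc)
        (fun i => t.condition i.castSucc)) (t.π (Fin.last n)) (by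
      rw [WidePullbackCone.IsLimit.lift_base, t.condition]))
    (fun t => by
      change (sq.lift _ _ _ : t.pt ⟶ P) ≫ fst ≫ s'.base = t.base
      rw [← Category.assoc, sq.lift_fst, WidePullbackCone.IsLimit.lift_base])
    (fun t i => by
      change (sq.lift _ _ _ : t.pt ⟶ P) ≫ π i = t.π i
      induction i using Fin.lastCases with
      | last => rw [hπl, sq.lift_snd]
      | cast i =>
        rw [hπc, ← Category.assoc, sq.lift_fst, WidePullbackCone.IsLimit.lift_π])
    (fun t m hm hmπ => by
      change t.pt ⟶ P at m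
      have hm' : m ≫ fst ≫ s'.base = t.base := hm
      have hmπ' : ∀ i, m ≫ π i = t.π i := hmπ
      change m = sq.lift _ _ _
      apply sq.hom_ext
      · rw [sq.lift_fst]
        apply WidePullbackCone.IsLimit.hom_ext hs'
        · rw [WidePullbackCone.IsLimit.lift_base, Category.assoc]
          exact hm'
        · intro i
          rw [WidePullbackCone.IsLimit.lift_π, Category.assoc, ← hπc]
          exact hmπ' i.castSucc
      · rw [sq.lift_snd, ← hπl]
        exact hmπ' (Fin.last n))

end Cat

section Rep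

variable {S : Scheme.{u}}

/-- Wide pullbacks of maps from representables that are representable with `Q` are representable, with projections in `Q`. -/
theorem exists_isLimit_yon (Q : MorphismProperty Scheme.{u}) [Q.IsStableUnderBaseChange]
    [Q.IsMultiplicative] {U : Sp S} {ι : Type*} (Vi : ι → Over S)
    (g : ∀ i, (yon S).obj (Vi i) ⟶ U) (hg : ∀ i, RepWith Q (g i)) (n : ℕ) (c : Fin (n + 1) → ι) :
    ∃ (V : Over S) (k₀ : Fin (n + 1)) (q : V ⟶ Vi (c k₀))
      (s : WidePullbackCone (fun k => g (c k))) (e : s.pt ≅ (yon S).obj V),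
      Nonempty (IsLimit s) ∧ s.base = e.hom ≫ (yon S).map q ≫ g (c k₀) ∧ Q q.left := by
  induction n with
  | zero =>
    let s' : WidePullbackCone (fun i : Fin 0 => g (c i.castSucc)) :=
      WidePullbackCone.mk (𝟙 U) (fun i => Fin.elim0 i) (fun i => Fin.elim0 i)
    have hs' : IsLimit s' := isLimitEmpty U _
    have hb : s'.base = 𝟙 U := rfl
    have sq : IsPullback (g (c (Fin.last 0))) (𝟙 _) s'.base (g (c (Fin.last 0))) := by
      rw [hb]
      exact IsPullback.of_vert_isIso ⟨by rw [Category.comp_id, Category.id_comp]⟩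
    let π : ∀ k : Fin 1, (yon S).obj (Vi (c (Fin.last 0))) ⟶ (yon S).obj (Vi (c k)) :=
      Fin.lastCases (𝟙 _) (fun i => Fin.elim0 i)
    have hπl : π (Fin.last 0) = 𝟙 _ := Fin.lastCases_last
    have hπ : ∀ k, π k ≫ g (c k) = g (c (Fin.last 0)) ≫ s'.base := by
      intro k
      induction k using Fin.lastCases with
      | last => rw [hπl, Category.id_comp, hb, Category.comp_id]
      | cast i => exact Fin.elim0 i
    have hlim := isLimitSucc (fun k => g (c k)) s' hs' (g (c (Fin.last 0))) (𝟙 _) sq π hπl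
      (fun i => Fin.elim0 i) hπ
    refine ⟨Vi (c (Fin.last 0)), Fin.last 0, 𝟙 _, _, Iso.refl _, ⟨hlim⟩, ?_, Q.id_mem _⟩
    change g (c (Fin.last 0)) ≫ s'.base = 𝟙 _ ≫ (yon S).map (𝟙 _) ≫ g (c (Fin.last 0))
    rw [hb, Category.comp_id, Category.id_comp, CategoryTheory.Functor.map_id, Category.id_comp]
  | succ n ih =>
    obtain ⟨V', k₀', q', s', e', ⟨hs'⟩, hbase', hq'⟩ := ih (fun i => c i.castSucc)
    have : Q.RespectsIso := MorphismProperty.IsStableUnderBaseChange.respectsIso
    let b' : (yon S).obj V' ⟶ U := (yon S).map q' ≫ g (c k₀'.castSucc)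
    have hrep : Representable (g (c (Fin.last (n + 1)))) := (hg _).rep
    have sq'' := hrep.isPullback b'
    have hQ'' : Q (hrep.snd b').left := (hg _).property_snd b'
    have sq : IsPullback ((yon S).map (hrep.snd b') ≫ e'.inv) (hrep.fst b') s'.base
        (g (c (Fin.last (n + 1)))) := by
      refine IsPullback.of_iso sq''.flip (Iso.refl _) e'.symm (Iso.refl _) (Iso.refl _) ?_ ?_ ?_ ?_
      · simp
      · simp
      · rw [hbase']
        simp [b']
      · simp
    let π : ∀ k : Fin (n + 2), (yon S).obj (hrep.pullback b') ⟶ (yon S).obj (Vi (c k)) :=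
      Fin.lastCases (hrep.fst b') (fun i => ((yon S).map (hrep.snd b') ≫ e'.inv) ≫ s'.π i)
    have hπl : π (Fin.last (n + 1)) = hrep.fst b' := Fin.lastCases_last
    have hπc : ∀ i : Fin (n + 1), π i.castSucc = ((yon S).map (hrep.snd b') ≫ e'.inv) ≫ s'.π i :=
      fun i => Fin.lastCases_castSucc i
    have hπ : ∀ k, π k ≫ g (c k) = ((yon S).map (hrep.snd b') ≫ e'.inv) ≫ s'.base := by
      intro k
      induction k using Fin.lastCases with
      | last => rw [hπl]; exact sq.w.symm
      | cast i => rw [hπc, Category.assoc, s'.condition i]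
    have hlim := isLimitSucc (fun k => g (c k)) s' hs' _ _ sq π hπl hπc hπ
    refine ⟨hrep.pullback b', k₀'.castSucc, hrep.snd b' ≫ q', _, Iso.refl _, ⟨hlim⟩, ?_,
      Q.comp_mem _ _ hQ'' hq'⟩
    change ((yon S).map (hrep.snd b') ≫ e'.inv) ≫ s'.base =
      𝟙 _ ≫ (yon S).map (hrep.snd b' ≫ q') ≫ g (c k₀'.castSucc)
    rw [hbase', Category.id_comp, Functor.map_comp]
    simp [b']

end Rep

end Groth.Agent.Lib.H69WidePb
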