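import Mathlib

set_option autoImplicit false
universe u

namespace Groth.Agent.Lib.H71ClopenOrbit

open Set

variable {Z : Type*} [TopologicalSpace Z] {G : Type*} [Group G] [Fintype G] [DecidableEq G]
  (a : G → Z ≃ₜ Z) (ha1 : ∀ z, a 1 z = z) (hamul : ∀ σ τ z, a (σ * τ) z = a τ (a σ z))

/-- the intersection of the translates of `N` indexed by `S`. -/
def inter (N : Set Z) (S : Finset G) : Set Z := ⋂ σ ∈ S, a σ '' N

include hamul in
omit [Fintype G] [DecidableEq G] in
theorem image_image (N : Set Z) (σ τ : G) : a τ '' (a σ '' N) = a (σ * τ) '' N := by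
  ext z
  simp only [mem_image]
  constructor
  · rintro ⟨_, ⟨n, hn, rfl⟩, rfl⟩
    exact ⟨n, hn, hamul σ τ n⟩
  · rintro ⟨n, hn, rfl⟩
    exact ⟨a σ n, ⟨n, hn, rfl⟩, (hamul σ τ n).symm⟩

include hamul in
omit [Fintype G] in
theorem image_inter (N : Set Z) (S : Finset G) (τ : G) :
    a τ '' inter a N S = inter a N (S.image (· * τ)) := by
  ext z
  simp only [inter, mem_iInter, Finset.mem_image, forall_exists_index, and_imp,
    forall_apply_eq_imp_iff₂]
  constructor
  · rintro ⟨w, hw, rfl⟩ σ hσ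
    rw [← image_image a hamul]
    exact ⟨w, mem_iInter₂.mp hw σ hσ, rfl⟩
  · intro h
    refine ⟨(a τ).symm z, mem_iInter₂.mpr fun σ hσ => ?_, (a τ).apply_symm_apply z⟩
    have := h σ hσ
    rw [← image_image a hamul] at this
    obtain ⟨w, hw, hwz⟩ := this
    rw [← hwz, (a τ).symm_apply_apply]
    exact hw

omit [Fintype G] [DecidableEq G] [Group G] in
theorem isClopen_inter (N : Set Z) (hN : IsClopen N) (S : Finset G) : IsClopen (inter a N S) := by
  unfold inter
  exact isClopen_biInter_finset fun σ _ => ⟨(a σ).isClosedMap _ hN.1, (a σ).isOpenMap _ hN.2⟩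

omit [Fintype G] [Group G] in
theorem inter_union (N : Set Z) (S T : Finset G) :
    inter a N (S ∪ T) = inter a N S ∩ inter a N T := by
  ext z
  simp only [inter, mem_iInter, Finset.mem_union, mem_inter_iff]
  constructor
  · intro h
    exact ⟨fun σ hσ => h σ (Or.inl hσ), fun σ hσ => h σ (Or.inr hσ)⟩
  · rintro ⟨h1, h2⟩ σ (hσ | hσ)
    · exact h1 σ hσ
    · exact h2 σ hσ

include ha1 hamul in
theorem exists_clopen_orbit
    (hinv : ∀ S : Set Z, IsClopen S → (∀ σ, a σ '' S ⊆ S) → S = ∅ ∨ S = univ)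
    (N : Set Z) (hN : IsClopen N) (hNne : N.Nonempty) (hNuniv : N ≠ univ) :
    ∃ E : Set Z, IsClopen E ∧ E.Nonempty ∧ (∀ σ, a σ '' E = E ∨ Disjoint (a σ '' E) E) ∧
      (⋃ σ, a σ '' E) = univ ∧ ∃ σ, a σ '' E ≠ E := by
  classical
  have hone : inter a N {1} = N := by
    ext z
    simp only [inter, Finset.mem_singleton, iInter_iInter_eq_left, mem_image]
    constructor
    · rintro ⟨n, hn, rfl⟩; rwa [ha1]
    · intro hz; exact ⟨z, hz, ha1 z⟩
  let P : Finset (Finset G) := Finset.univ.filter fun S => (inter a N S).Nonempty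
  have hPne : P.Nonempty := ⟨{1}, by simp only [P, Finset.mem_filter, Finset.mem_univ, true_and, hone]; exact hNne⟩
  obtain ⟨S, hSP, hSmax⟩ := Finset.exists_max_image P Finset.card hPne
  have hSne' : (inter a N S).Nonempty := (Finset.mem_filter.mp hSP).2
  have hmax : ∀ T : Finset G, (inter a N T).Nonempty → T.card ≤ S.card := fun T hT =>
    hSmax T (Finset.mem_filter.mpr ⟨Finset.mem_univ _, hT⟩)
  have hScard : 1 ≤ S.card := by
    have := hmax {1} (by rw [hone]; exact hNne)
    simpa using this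
  obtain ⟨σ₀, hσ₀⟩ : S.Nonempty := Finset.card_pos.mp hScard
  set E := inter a N S with hE
  have hEclopen : IsClopen E := isClopen_inter a N hN S
  have hdich : ∀ σ, a σ '' E = E ∨ Disjoint (a σ '' E) E := by
    intro τ
    rw [hE, image_inter a hamul]
    by_cases hS : S.image (· * τ) = S
    · left; rw [hS]
    · right
      rw [Set.disjoint_iff_inter_eq_empty, ← inter_union]
      by_contra hne
      have hle := hmax _ (Set.nonempty_iff_ne_empty.mpr hne)
      have hcard : (S.image (· * τ)).card = S.card :=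
        Finset.card_image_of_injective _ (mul_left_injective τ)
      have hsub : S = S.image (· * τ) ∪ S :=
        Finset.eq_of_subset_of_card_le Finset.subset_union_right hle
      have h2 : S.image (· * τ) ⊆ S := by
        intro x hx
        rw [hsub]; exact Finset.mem_union_left _ hx
      exact hS (Finset.eq_of_subset_of_card_le h2 hcard.ge)
  have hUclopen : IsClopen (⋃ σ, a σ '' E) :=
    isClopen_iUnion_of_finite fun σ => ⟨(a σ).isClosedMap _ hEclopen.1, (a σ).isOpenMap _ hEclopen.2⟩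
  have hUinv : ∀ τ, a τ '' (⋃ σ, a σ '' E) ⊆ ⋃ σ, a σ '' E := by
    intro τ
    rw [Set.image_iUnion]
    refine Set.iUnion_subset fun σ => ?_
    rw [image_image a hamul]
    exact Set.subset_iUnion (fun ρ => a ρ '' E) (σ * τ)
  have hUne : (⋃ σ, a σ '' E).Nonempty := by
    obtain ⟨z, hz⟩ := hSne'
    exact ⟨a 1 z, Set.mem_iUnion.mpr ⟨1, z, hz, rfl⟩⟩
  have hU : (⋃ σ, a σ '' E) = univ :=
    (hinv _ hUclopen hUinv).resolve_left hUne.ne_empty
  refine ⟨E, hEclopen, hSne', hdich, hU, ?_⟩
  by_contra hall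
  push Not at hall
  have hEuniv : E = univ :=
    (hinv E hEclopen fun σ => (hall σ).le).resolve_left hSne'.ne_empty
  have hsub : E ⊆ a σ₀ '' N := by
    intro z hz
    exact mem_iInter₂.mp hz σ₀ hσ₀
  rw [hEuniv] at hsub
  apply hNuniv
  rw [Set.eq_univ_iff_forall]
  intro z
  obtain ⟨n, hn, hnz⟩ := hsub (Set.mem_univ (a σ₀ z))
  rwa [(a σ₀).injective hnz] at hn

end Groth.Agent.Lib.H71ClopenOrbit
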