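import Groth.Agent.Lib.H71GeomConnComp

/-!
# Connected components over a separably closed field (helper71)

* `isConnected_preimage_connectedComponent_of_isSepClosed`: over a separably closed field `k`, the inverse image in `X_K`
  of a connected component of `X` is connected.
* `bijective_connectedComponentsMap`: `X_K ⟶ X` induces a bijection on connected components (Stacks 0363).
-/

set_option autoImplicit false
universe u
open CategoryTheory AlgebraicGeometry CategoryTheory.Limits

namespace Groth.Agent.Lib.H71SepClosedPi0

variable {k : Type u} [Field k] [IsSepClosed k]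

theorem isConnected_preimage_connectedComponent_of_isSepClosed (K : Type u) [Field K] [Algebra k K]
    {X : Scheme.{u}} (f : X ⟶ Spec (CommRingCat.of k)) (x : X) :
    _root_.IsConnected ((pullback.fst f (Spec.map (CommRingCat.ofHom (algebraMap k K)))) ⁻¹'
      connectedComponent x) := by
  let Z : TopologicalSpace.Closeds X := ⟨connectedComponent x, isClosed_connectedComponent⟩
  let I := Scheme.IdealSheafData.vanishingIdeal Z
  let ι : I.subscheme ⟶ X := I.subschemeι
  have hrange : Set.range ι = connectedComponent x := by
    rw [Scheme.IdealSheafData.range_subschemeι, Scheme.IdealSheafData.coe_support_vanishingIdeal]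
    rfl
  have hx : x ∈ Set.range ι := hrange ▸ mem_connectedComponent
  obtain ⟨z, hz⟩ := hx
  have hZc : ConnectedSpace ↥I.subscheme := by
    have hemb : Topology.IsEmbedding ι := ι.isClosedEmbedding.isEmbedding
    have hpre : _root_.IsPreconnected (ι '' Set.univ) := by
      rw [Set.image_univ, hrange]
      exact isPreconnected_connectedComponent
    have := (hemb.isInducing.isPreconnected_image).mp hpre
    exact { toPreconnectedSpace := ⟨this⟩, toNonempty := ⟨z⟩ }
  haveI : GeometricallyConnected (ι ≫ f) :=
    Groth.Agent.Lib.H71SepClosedGeom.geometricallyConnected_of_connectedSpace (ι ≫ f)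
  have := Groth.Agent.Lib.H71GeomConnComp.isConnected_preimage_connectedComponent K f (ι ≫ f) ι rfl z
  rwa [hz] at this

theorem bijective_connectedComponentsMap (K : Type u) [Field K] [Algebra k K]
    {X : Scheme.{u}} (f : X ⟶ Spec (CommRingCat.of k)) :
    Function.Bijective (Continuous.connectedComponentsMap
      (pullback.fst f (Spec.map (CommRingCat.ofHom (algebraMap k K)))).continuous) := by
  set π := pullback.fst f (Spec.map (CommRingCat.ofHom (algebraMap k K)))
  have hsurjq : Surjective (Spec.map (CommRingCat.ofHom (algebraMap k K))) :=
    Groth.Agent.Lib.H71SepClosedGeom.surjective_SpecMap K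
  have h3 : Surjective π := MorphismProperty.pullback_fst _ _ hsurjq
  refine ⟨fun a b hab => ?_, Continuous.connectedComponentsMap_surjective _ π.surjective⟩
  obtain ⟨t, rfl⟩ := ConnectedComponents.surjective_coe a
  obtain ⟨t', rfl⟩ := ConnectedComponents.surjective_coe b
  rw [Continuous.connectedComponentsMap_mk, Continuous.connectedComponentsMap_mk,
    ConnectedComponents.coe_eq_coe'] at hab
  rw [ConnectedComponents.coe_eq_coe']
  have hconn := isConnected_preimage_connectedComponent_of_isSepClosed K f (π t')
  have ht' : t' ∈ π ⁻¹' connectedComponent (π t') := mem_connectedComponent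
  exact hconn.isPreconnected.subset_connectedComponent ht' hab

end Groth.Agent.Lib.H71SepClosedPi0
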