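import Groth.Agent.Lib.H71ConstField
import Groth.Agent.Lib.H71SepClosedPi0
import Groth.Agent.Lib.GalAct13

/-!
# The image of a connected component of `X_K` in `X` is a connected component (helper71)

* `exists_mem_connectedComponent_of_connectedSpace`: if `X` is connected, every connected component of
  `X_K` surjects onto `X` (for an arbitrary field extension `K/k` and arbitrary `k`-scheme `X`).
* `image_connectedComponent`: for arbitrary `X`, the image in `X` of the connected component of `x'` in
  `X_K` is the connected component of the image of `x'` (Stacks 04PZ).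
-/

set_option autoImplicit false
universe u
open CategoryTheory CategoryTheory.Limits AlgebraicGeometry TensorProduct

namespace Groth.Agent.Lib.H71ConnCompImage

open Groth.Agent.Lib.H71ConstField Groth.Agent.Lib.FieldBC13

variable {k : Type u} [Field k] (K : Type u) [Field K] [Algebra k K]

/-- Core: for connected `X`, every connected component of `X_K` surjects onto `X`. -/
theorem exists_mem_connectedComponent_of_connectedSpace {X : Scheme.{u}} [ConnectedSpace X]
    (f : X ⟶ Spec (CommRingCat.of k))
    (x' : ↥(pullback f (Spec.map (CommRingCat.ofHom (algebraMap k K))))) (z : X) :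
    ∃ y ∈ connectedComponent x', pullback.fst f _ y = z := by
  obtain ⟨k₀, _, _, a, ha, hgc⟩ := exists_geometricallyConnected_factorization f
  let XK := pullback f (Spec.map (CommRingCat.ofHom (algebraMap k K)))
  let Ω := XK.residueField x'
  let ι : Spec Ω ⟶ XK := XK.fromSpecResidueField x'
  obtain ⟨φ, hφ⟩ := Spec.map_surjective (ι ≫ pullback.fst f _ ≫ a)
  letI : Algebra k₀ Ω := φ.hom.toAlgebra
  have hq₀ : Spec.map (CommRingCat.ofHom (algebraMap k₀ Ω)) = ι ≫ pullback.fst f _ ≫ a := hφ
  haveI hconn : ConnectedSpace ↥(pullback a (Spec.map (CommRingCat.ofHom (algebraMap k₀ Ω)))) :=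
    (geometrically_iff_of_commRing_of_isClosedUnderIsomorphisms ..).mp
      hgc.geometrically_connectedSpace Ω
  let h : pullback a (Spec.map (CommRingCat.ofHom (algebraMap k₀ Ω))) ⟶ XK :=
    pullback.lift (pullback.fst a _) (pullback.snd a _ ≫ ι ≫ pullback.snd f _) (by
      have hf : f = a ≫ Spec.map (CommRingCat.ofHom (algebraMap k k₀)) := ha.symm
      have h1 : pullback.fst a (Spec.map (CommRingCat.ofHom (algebraMap k₀ Ω))) ≫ f
          = pullback.snd a (Spec.map (CommRingCat.ofHom (algebraMap k₀ Ω))) ≫
            Spec.map (CommRingCat.ofHom (algebraMap k₀ Ω)) ≫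
              Spec.map (CommRingCat.ofHom (algebraMap k k₀)) := by
        rw [hf, ← Category.assoc, pullback.condition, Category.assoc]
      have h2 : Spec.map (CommRingCat.ofHom (algebraMap k₀ Ω)) ≫
              Spec.map (CommRingCat.ofHom (algebraMap k k₀))
          = ι ≫ pullback.snd f _ ≫ Spec.map (CommRingCat.ofHom (algebraMap k K)) := by
        rw [hq₀, Category.assoc, Category.assoc, ha, pullback.condition]
      rw [h1, h2]
      simp only [Category.assoc])
  have hh1 : h ≫ pullback.fst f _ = pullback.fst a _ := pullback.lift_fst _ _ _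
  have hh2 : h ≫ pullback.snd f _ = pullback.snd a _ ≫ ι ≫ pullback.snd f _ := pullback.lift_snd _ _ _
  let w : Spec Ω ⟶ pullback a (Spec.map (CommRingCat.ofHom (algebraMap k₀ Ω))) :=
    pullback.lift (ι ≫ pullback.fst f _) (𝟙 _) (by rw [Category.id_comp, hq₀, Category.assoc])
  have hw1 : w ≫ pullback.fst a _ = ι ≫ pullback.fst f _ := pullback.lift_fst _ _ _
  have hw2 : w ≫ pullback.snd a _ = 𝟙 _ := pullback.lift_snd _ _ _
  have hwh : w ≫ h = ι := by
    apply pullback.hom_ext
    · rw [Category.assoc, hh1, hw1]
    · rw [Category.assoc, hh2, ← Category.assoc, hw2, Category.id_comp]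
  let pt : ↥(Spec Ω) := IsLocalRing.closedPoint Ω
  have hpt : h (w pt) = x' := by
    rw [← Scheme.Hom.comp_apply, hwh]
    exact Scheme.fromSpecResidueField_apply _ _
  have hsub : Set.range h ⊆ connectedComponent x' := by
    have hpre : _root_.IsPreconnected (Set.range h) := by
      rw [← Set.image_univ]
      exact isPreconnected_univ.image _ h.continuous.continuousOn
    exact hpre.subset_connectedComponent ⟨w pt, hpt⟩
  have hsurj : Surjective (Spec.map (CommRingCat.ofHom (algebraMap k₀ Ω))) :=
    Groth.Agent.Lib.H71SepClosedGeom.surjective_SpecMap Ω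
  have hs : Function.Surjective (pullback.fst a (Spec.map (CommRingCat.ofHom (algebraMap k₀ Ω)))) :=
    (pullback.fst a _).surjective
  obtain ⟨t, ht⟩ := hs z
  refine ⟨h t, hsub ⟨t, rfl⟩, ?_⟩
  rw [← Scheme.Hom.comp_apply, hh1, ht]

/-- The image in `X` of the connected component of `x'` in `X_K` is the connected component of the
image of `x'`. -/
theorem image_connectedComponent {X : Scheme.{u}} (f : X ⟶ Spec (CommRingCat.of k))
    (x' : ↥(pullback f (Spec.map (CommRingCat.ofHom (algebraMap k K))))) :
    (pullback.fst f (Spec.map (CommRingCat.ofHom (algebraMap k K)))) '' connectedComponent x' =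
      connectedComponent (pullback.fst f (Spec.map (CommRingCat.ofHom (algebraMap k K))) x') := by
  apply subset_antisymm
  · have hpre : _root_.IsPreconnected
        ((pullback.fst f (Spec.map (CommRingCat.ofHom (algebraMap k K)))) '' connectedComponent x') :=
      isPreconnected_connectedComponent.image _ (pullback.fst f _).continuous.continuousOn
    exact hpre.subset_connectedComponent ⟨x', mem_connectedComponent, rfl⟩
  · intro y hy
    set x := pullback.fst f (Spec.map (CommRingCat.ofHom (algebraMap k K))) x' with hxdef
    let Z : TopologicalSpace.Closeds X := ⟨connectedComponent x, isClosed_connectedComponent⟩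
    let I := Scheme.IdealSheafData.vanishingIdeal Z
    let ι : I.subscheme ⟶ X := I.subschemeι
    have hrange : Set.range ι = connectedComponent x := by
      rw [Scheme.IdealSheafData.range_subschemeι, Scheme.IdealSheafData.coe_support_vanishingIdeal]
      rfl
    have hx : x ∈ Set.range ι := hrange ▸ mem_connectedComponent
    obtain ⟨z, hz⟩ := hx
    haveI hZc : ConnectedSpace ↥I.subscheme := by
      have hemb : Topology.IsEmbedding ι := ι.isClosedEmbedding.isEmbedding
      have hpre : _root_.IsPreconnected (ι '' Set.univ) := by
        rw [Set.image_univ, hrange]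
        exact isPreconnected_connectedComponent
      have := (hemb.isInducing.isPreconnected_image).mp hpre
      exact { toPreconnectedSpace := ⟨this⟩, toNonempty := ⟨z⟩ }
    have hpb := isPullback_mapK K f (ι ≫ f) ι rfl
    obtain ⟨z', hz'1, hz'2⟩ := Scheme.exists_preimage_of_isPullback hpb x' z (by rw [hz])
    have hy' : y ∈ Set.range ι := hrange ▸ hy
    obtain ⟨t, ht⟩ := hy'
    obtain ⟨y', hy'mem, hy't⟩ :=
      exists_mem_connectedComponent_of_connectedSpace K (ι ≫ f) z' t
    refine ⟨mapK K f (ι ≫ f) ι rfl y', ?_, ?_⟩
    · have hpre : _root_.IsPreconnected ((mapK K f (ι ≫ f) ι rfl) '' connectedComponent z') :=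
        isPreconnected_connectedComponent.image _ (mapK K f (ι ≫ f) ι rfl).continuous.continuousOn
      have hsub := hpre.subset_connectedComponent (x := x') ⟨z', mem_connectedComponent, hz'1⟩
      exact hsub ⟨y', hy'mem, rfl⟩
    · rw [← Scheme.Hom.comp_apply, Groth.Agent.Lib.GalAct13.mapK_fst, Scheme.Hom.comp_apply, hy't, ht]

end Groth.Agent.Lib.H71ConnCompImage
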