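import Mathlib
import Groth.Prelude

set_option autoImplicit false
universe u

open CategoryTheory CategoryTheory.Limits MonoidalCategory CartesianMonoidalCategory MonObj GrpObj
  AlgebraicGeometry

namespace Groth.Agent.Lib.H71PowEtale

section TB

variable {k : Type u} [Field k]

/-- `Spec B` as an object over `Spec k`. -/
noncomputable abbrev TB (B : Type u) [CommRing B] [Algebra k B] :
    Over (Spec (CommRingCat.of k)) :=
  Over.mk (Spec.map (CommRingCat.ofHom (algebraMap k B)))

variable {B B' B'' : Type u} [CommRing B] [CommRing B'] [CommRing B''] [Algebra k B] [Algebra k B']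
  [Algebra k B'']

/-- The morphism `Spec B' ⟶ Spec B` over `k` induced by a `k`-algebra map `B → B'`. -/
noncomputable def TBmap (f : B →ₐ[k] B') : TB (k := k) B' ⟶ TB (k := k) B :=
  Over.homMk (Spec.map (CommRingCat.ofHom f.toRingHom)) (by
    change Spec.map _ ≫ Spec.map _ = Spec.map _
    rw [← Spec.map_comp, ← CommRingCat.ofHom_comp]
    congr 2
    exact f.comp_algebraMap)

@[simp]
theorem TBmap_left (f : B →ₐ[k] B') : (TBmap f).left = Spec.map (CommRingCat.ofHom f.toRingHom) :=
  rfl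

theorem TBmap_comp (f : B →ₐ[k] B') (g : B' →ₐ[k] B'') :
    TBmap (g.comp f) = TBmap g ≫ TBmap f := by
  ext1
  simp only [TBmap_left, Over.comp_left]
  rw [← Spec.map_comp, ← CommRingCat.ofHom_comp]
  rfl

theorem TBmap_id : TBmap (AlgHom.id k B) = 𝟙 (TB (k := k) B) := by
  ext1
  simp only [TBmap_left, Over.id_left]
  exact Spec.map_id _

end TB

section Dual

variable (k : Type u) [Field k]
variable (V W : Type u) [AddCommGroup V] [Module k V] [Module kᵐᵒᵖ V] [IsCentralScalar k V]
  [AddCommGroup W] [Module k W] [Module kᵐᵒᵖ W] [IsCentralScalar k W]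

instance isLocalRing_tsze : IsLocalRing (TrivSqZeroExt k V) := by
  refine IsLocalRing.of_isUnit_or_isUnit_one_sub_self fun a => ?_
  rw [TrivSqZeroExt.isUnit_iff_isUnit_fst, TrivSqZeroExt.isUnit_iff_isUnit_fst]
  by_cases h : a.fst = 0
  · right
    simp [h]
  · left
    exact isUnit_iff_ne_zero.mpr h

variable {k V W}

/-- joint injectivity of the two projections `k ⊕ V ⊕ V → k ⊕ V` on points of a scheme -/
theorem joint_inj {X : Scheme.{u}}
    (α β : Spec (CommRingCat.of (TrivSqZeroExt k (V × V))) ⟶ X)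
    (h1 : Spec.map (CommRingCat.ofHom
        (TrivSqZeroExt.map (LinearMap.fst k V V)).toRingHom) ≫ α =
      Spec.map (CommRingCat.ofHom (TrivSqZeroExt.map (LinearMap.fst k V V)).toRingHom) ≫ β)
    (h2 : Spec.map (CommRingCat.ofHom
        (TrivSqZeroExt.map (LinearMap.snd k V V)).toRingHom) ≫ α =
      Spec.map (CommRingCat.ofHom (TrivSqZeroExt.map (LinearMap.snd k V V)).toRingHom) ≫ β) :
    α = β := by
  let p₁ : TrivSqZeroExt k (V × V) →+* TrivSqZeroExt k V :=
    (TrivSqZeroExt.map (LinearMap.fst k V V)).toRingHom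
  let p₂ : TrivSqZeroExt k (V × V) →+* TrivSqZeroExt k V :=
    (TrivSqZeroExt.map (LinearMap.snd k V V)).toRingHom
  let pt := IsLocalRing.closedPoint (TrivSqZeroExt k (V × V))
  let pt' := IsLocalRing.closedPoint (TrivSqZeroExt k V)
  have hloc : IsLocalHom p₁ := by
    refine ⟨fun a ha => ?_⟩
    rw [TrivSqZeroExt.isUnit_iff_isUnit_fst] at ha ⊢
    have : (p₁ a).fst = a.fst := TrivSqZeroExt.fst_map _ _
    rwa [this] at ha
  have hpt : (Spec.map (CommRingCat.ofHom p₁)).base pt' = pt :=
    IsLocalRing.comap_closedPoint p₁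
  have hαβ : α.base pt = β.base pt := by
    rw [← hpt, ← Scheme.Hom.comp_apply, ← Scheme.Hom.comp_apply, h1]
  obtain ⟨_, ⟨U, hU, rfl⟩, hxU, -⟩ := X.isBasis_affineOpens.exists_subset_of_mem_open
    (Set.mem_univ (α.base pt)) isOpen_univ
  have hα : Set.range α.base ⊆ Set.range hU.fromSpec.base := by
    rw [hU.range_fromSpec]
    rintro _ ⟨y, rfl⟩
    have := Scheme.preimage_eq_top_of_closedPoint_mem α hxU
    have hy : y ∈ α ⁻¹ᵁ U := by rw [this]; trivial
    exact hy
  have hβ : Set.range β.base ⊆ Set.range hU.fromSpec.base := by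
    rw [hU.range_fromSpec]
    rintro _ ⟨y, rfl⟩
    have := Scheme.preimage_eq_top_of_closedPoint_mem β (hαβ ▸ hxU)
    have hy : y ∈ β ⁻¹ᵁ U := by rw [this]; trivial
    exact hy
  let α' := IsOpenImmersion.lift hU.fromSpec α hα
  let β' := IsOpenImmersion.lift hU.fromSpec β hβ
  have hα' : α' ≫ hU.fromSpec = α := IsOpenImmersion.lift_fac _ _ _
  have hβ' : β' ≫ hU.fromSpec = β := IsOpenImmersion.lift_fac _ _ _
  let a := Spec.preimage α'
  let b := Spec.preimage β'
  have ha : Spec.map a = α' := Spec.map_preimage _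
  have hb : Spec.map b = β' := Spec.map_preimage _
  have e1 : a ≫ CommRingCat.ofHom p₁ = b ≫ CommRingCat.ofHom p₁ := by
    apply Spec.map_injective
    rw [Spec.map_comp, Spec.map_comp, ha, hb]
    rw [← cancel_mono hU.fromSpec, Category.assoc, Category.assoc, hα', hβ']
    exact h1
  have e2 : a ≫ CommRingCat.ofHom p₂ = b ≫ CommRingCat.ofHom p₂ := by
    apply Spec.map_injective
    rw [Spec.map_comp, Spec.map_comp, ha, hb]
    rw [← cancel_mono hU.fromSpec, Category.assoc, Category.assoc, hα', hβ']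
    exact h2
  have hab : a = b := by
    apply CommRingCat.hom_ext
    apply RingHom.ext
    intro r
    have h1r : p₁ (a.hom r) = p₁ (b.hom r) := congrArg (fun f => f.hom r) e1
    have h2r : p₂ (a.hom r) = p₂ (b.hom r) := congrArg (fun f => f.hom r) e2
    have f1 : TrivSqZeroExt.fst (a.hom r) = TrivSqZeroExt.fst (b.hom r) := by
      have := congrArg TrivSqZeroExt.fst h1r
      change TrivSqZeroExt.fst (TrivSqZeroExt.map (LinearMap.fst k V V) (a.hom r)) =
        TrivSqZeroExt.fst (TrivSqZeroExt.map (LinearMap.fst k V V) (b.hom r)) at this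
      rwa [TrivSqZeroExt.fst_map, TrivSqZeroExt.fst_map] at this
    have s1 : (TrivSqZeroExt.snd (a.hom r)).1 = (TrivSqZeroExt.snd (b.hom r)).1 := by
      have := congrArg TrivSqZeroExt.snd h1r
      change TrivSqZeroExt.snd (TrivSqZeroExt.map (LinearMap.fst k V V) (a.hom r)) =
        TrivSqZeroExt.snd (TrivSqZeroExt.map (LinearMap.fst k V V) (b.hom r)) at this
      rwa [TrivSqZeroExt.snd_map, TrivSqZeroExt.snd_map] at this
    have s2 : (TrivSqZeroExt.snd (a.hom r)).2 = (TrivSqZeroExt.snd (b.hom r)).2 := by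
      have := congrArg TrivSqZeroExt.snd h2r
      change TrivSqZeroExt.snd (TrivSqZeroExt.map (LinearMap.snd k V V) (a.hom r)) =
        TrivSqZeroExt.snd (TrivSqZeroExt.map (LinearMap.snd k V V) (b.hom r)) at this
      rwa [TrivSqZeroExt.snd_map, TrivSqZeroExt.snd_map] at this
    exact TrivSqZeroExt.ext f1 (Prod.ext s1 s2)
  rw [← hα', ← hβ', ← ha, ← hb, hab]

end Dual

section EH

variable {k : Type u} [Field k] {G : Over (Spec (CommRingCat.of k))} [GrpObj G]
variable {V W U : Type u} [AddCommGroup V] [Module k V] [Module kᵐᵒᵖ V] [IsCentralScalar k V]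
  [AddCommGroup W] [Module k W] [Module kᵐᵒᵖ W] [IsCentralScalar k W]
  [AddCommGroup U] [Module k U] [Module kᵐᵒᵖ U] [IsCentralScalar k U]

/-- functoriality of `V ↦ G(k ⊕ V)` -/
noncomputable abbrev act (a : V →ₗ[k] W) (x : TB (k := k) (TrivSqZeroExt k V) ⟶ G) :
    TB (k := k) (TrivSqZeroExt k W) ⟶ G :=
  TBmap (TrivSqZeroExt.map a) ≫ x

omit [GrpObj G] in
theorem act_act (a : V →ₗ[k] W) (b : W →ₗ[k] U) (x : TB (k := k) (TrivSqZeroExt k V) ⟶ G) :
    act b (act a x) = act (b ∘ₗ a) x := by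
  unfold act
  rw [← Category.assoc, ← TBmap_comp, TrivSqZeroExt.map_comp_map]

omit [GrpObj G] in
theorem act_id (x : TB (k := k) (TrivSqZeroExt k V) ⟶ G) : act LinearMap.id x = x := by
  unfold act
  rw [TrivSqZeroExt.map_id, TBmap_id, Category.id_comp]

theorem act_mul (a : V →ₗ[k] W) (x y : TB (k := k) (TrivSqZeroExt k V) ⟶ G) :
    act a (x * y) = act a x * act a y := MonObj.comp_mul _ _ _

theorem act_one (a : V →ₗ[k] W) : act a (1 : TB (k := k) (TrivSqZeroExt k V) ⟶ G) = 1 :=
  MonObj.comp_one _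

omit [GrpObj G] in
theorem joint_inj' (α β : TB (k := k) (TrivSqZeroExt k (V × V)) ⟶ G)
    (h1 : act (LinearMap.fst k V V) α = act (LinearMap.fst k V V) β)
    (h2 : act (LinearMap.snd k V V) α = act (LinearMap.snd k V V) β) : α = β := by
  ext1
  apply joint_inj
  · exact congrArg (fun f => f.left) h1
  · exact congrArg (fun f => f.left) h2

/-- Eckmann–Hilton: on pointed points with values in `k ⊕ V`, the group law is addition. -/
theorem eckmann_hilton (x : TB (k := k) (TrivSqZeroExt k V) ⟶ G)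
    (hx : act (0 : V →ₗ[k] V) x = 1) (a b : V →ₗ[k] W) :
    act a x * act b x = act (a + b) x := by
  let X₂ : TB (k := k) (TrivSqZeroExt k (V × V)) ⟶ G :=
    act (LinearMap.inl k V V) x * act (LinearMap.inr k V V) x
  let Y₂ : TB (k := k) (TrivSqZeroExt k (V × V)) ⟶ G :=
    act (LinearMap.prod LinearMap.id LinearMap.id) x
  have hXY : X₂ = Y₂ := by
    apply joint_inj'
    · rw [act_mul, act_act, act_act, act_act, LinearMap.fst_comp_inl, LinearMap.fst_comp_inr,
        LinearMap.fst_prod, act_id, hx, _root_.mul_one]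
    · rw [act_mul, act_act, act_act, act_act, LinearMap.snd_comp_inl, LinearMap.snd_comp_inr,
        LinearMap.snd_prod, act_id, hx, _root_.one_mul]
  have h1 : act (a.coprod b) X₂ = act a x * act b x := by
    rw [act_mul, act_act, act_act, LinearMap.coprod_inl, LinearMap.coprod_inr]
  have h2 : act (a.coprod b) Y₂ = act (a + b) x := by
    rw [act_act, LinearMap.coprod_comp_prod, LinearMap.comp_id, LinearMap.comp_id]
  rw [← h1, hXY, h2]

theorem pow_eq_act (x : TB (k := k) (TrivSqZeroExt k V) ⟶ G)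
    (hx : act (0 : V →ₗ[k] V) x = 1) (m : ℕ) :
    x ^ m = act ((m : k) • (LinearMap.id : V →ₗ[k] V)) x := by
  induction m with
  | zero => rw [pow_zero, Nat.cast_zero, zero_smul, hx]
  | succ m ih =>
    rw [pow_succ, ih]
    nth_rewrite 2 [← act_id x]
    rw [eckmann_hilton x hx, Nat.cast_succ, add_smul, one_smul]

/-- A pointed point with values in `k ⊕ V` killed by `n` (invertible in `k`) is trivial. -/
theorem eq_one_of_pow_eq_one (x : TB (k := k) (TrivSqZeroExt k V) ⟶ G)
    (hx : act (0 : V →ₗ[k] V) x = 1) (n : ℕ) (hn : (n : k) ≠ 0) (hxn : x ^ n = 1) : x = 1 := by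
  have h1 := pow_eq_act x hx n
  rw [hxn] at h1
  have h2 : act (((n : k)⁻¹) • (LinearMap.id : V →ₗ[k] V))
      (act ((n : k) • (LinearMap.id : V →ₗ[k] V)) x) = x := by
    rw [act_act]
    have : ((n : k)⁻¹ • (LinearMap.id : V →ₗ[k] V)) ∘ₗ ((n : k) • (LinearMap.id : V →ₗ[k] V)) =
        LinearMap.id := by
      ext v
      simp [smul_smul, inv_mul_cancel₀ hn]
    rw [this, act_id]
  rw [← h2, ← h1, act_one]

end EH

end Groth.Agent.Lib.H71PowEtale
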