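import Mathlib
import Groth.Agent.Lib.H77DimFieldExt

/-!
# Equidimensionality of tensor products over a field (helper71)

For a field `k`, a finite type `k`-domain `A` and a Noetherian `k`-domain `R` (e.g. a field extension
of `k`, or another finite type `k`-domain), every minimal prime `Q` of `R ⊗[k] A` satisfies
`dim (R ⊗[k] A)/Q = dim R + dim A`.

* `isDomain_tensor_fractionRing_mvPolynomial`: `R ⊗[k] k(T)` is a domain for a domain `R`;
* `map_mem_nonZeroDivisors`: if `R ⊗[k] F` is a domain (`F/k` a field), its nonzero elements are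
  nonzerodivisors on `R ⊗[k] L` for every `F`-algebra `L` (freeness of `L` over `F`);
* `psi_mem_nonZeroDivisors`: for `y` algebraically independent in the domain `A`, nonzero polynomials
  of `R[T]` act as nonzerodivisors on `R ⊗[k] A` (torsion-freeness);
* `ringKrullDim_quotient_minimalPrime`, `ringKrullDim_quotient_minimalPrime'`: the main statement
  (via Noether normalization: `R[T] → (R ⊗ A)/Q` is injective and integral).
-/
set_option autoImplicit false
universe u
open TensorProduct

namespace Groth.Agent.Lib.H71EquiDimAlg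

open Groth.Agent.Lib.H77FibDimAlg Groth.Agent.Lib.H77DimFieldExt

section Domain

variable {k : Type u} [Field k]

/-- `R ⊗[k] k(T)` is a domain for every domain `R` over `k`. -/
theorem isDomain_tensor_fractionRing_mvPolynomial (ι : Type*) (R : Type u) [CommRing R] [IsDomain R]
    [Algebra k R] : IsDomain (R ⊗[k] FractionRing (MvPolynomial ι k)) := by
  let P := MvPolynomial ι k
  let F := FractionRing P
  haveI hdom : IsDomain (R ⊗[k] P) :=
    (MvPolynomial.algebraTensorAlgEquiv (σ := ι) k R).toRingEquiv.toMulEquiv.isDomain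
  letI : Algebra (R ⊗[k] P) (R ⊗[k] F) :=
    (Algebra.TensorProduct.map (AlgHom.id R R) (IsScalarTower.toAlgHom k P F)).toRingHom.toAlgebra
  haveI : IsScalarTower R (R ⊗[k] P) (R ⊗[k] F) :=
    IsScalarTower.of_algebraMap_eq fun x => by
      show (algebraMap R (R ⊗[k] F)) x =
        (Algebra.TensorProduct.map (AlgHom.id R R) (IsScalarTower.toAlgHom k P F))
          ((algebraMap R (R ⊗[k] P)) x)
      exact ((Algebra.TensorProduct.map (AlgHom.id R R) (IsScalarTower.toAlgHom k P F)).commutes x).symm
  haveI hloc := IsLocalization.tensorProduct_tensorProduct_right k R (nonZeroDivisors P) F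
    (RingHom.ext fun p => by
      simp only [RingHom.comp_apply, RingHom.algebraMap_toAlgebra, AlgHom.toRingHom_eq_coe, RingHom.coe_coe,
        Algebra.TensorProduct.includeRight_apply, Algebra.TensorProduct.map_tmul]
      simp)
  have hle : (nonZeroDivisors P).map (Algebra.TensorProduct.includeRight (R := k) (A := R)) ≤
      nonZeroDivisors (R ⊗[k] P) := by
    rintro _ ⟨p, hp, rfl⟩
    rw [mem_nonZeroDivisors_iff_ne_zero]
    intro h0
    have hinj : Function.Injective (Algebra.TensorProduct.includeRight (R := k) (A := R) (B := P)) :=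
      Algebra.TensorProduct.includeRight_injective (algebraMap k R).injective
    have : p = 0 := hinj (by rw [h0, map_zero])
    exact (mem_nonZeroDivisors_iff_ne_zero.mp hp) this
  exact IsLocalization.isDomain_of_le_nonZeroDivisors (R ⊗[k] F) hle

end Domain

section Free

variable (k : Type u) [Field k] (R : Type u) [CommRing R] [Algebra k R]
  (F : Type u) [Field F] [Algebra k F] (L : Type u) [CommRing L] [Algebra k L] [Algebra F L]
  [IsScalarTower k F L]

attribute [local instance] Algebra.TensorProduct.rightAlgebra in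
/-- If `R ⊗[k] F` is a domain, its nonzero elements are nonzerodivisors on `R ⊗[k] L` for every
`F`-algebra `L`. -/
theorem map_mem_nonZeroDivisors [IsDomain (R ⊗[k] F)] (d : R ⊗[k] F) (hd : d ≠ 0) :
    Algebra.TensorProduct.map (AlgHom.id R R) (IsScalarTower.toAlgHom k F L) d ∈
      nonZeroDivisors (R ⊗[k] L) := by
  let Φ := Algebra.IsPushout.cancelBaseChangeAlg k R F (R ⊗[k] F) L
  have key : ∀ d : R ⊗[k] F, Φ (d ⊗ₜ[F] (1 : L)) =
      Algebra.TensorProduct.map (AlgHom.id R R) (IsScalarTower.toAlgHom k F L) d := by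
    intro d
    induction d with
    | zero => simp
    | add a b ha hb => rw [TensorProduct.add_tmul, map_add, map_add, ha, hb]
    | tmul r x =>
      rw [Algebra.TensorProduct.map_tmul]
      apply Φ.symm.injective
      rw [AlgEquiv.symm_apply_apply, Algebra.IsPushout.cancelBaseChangeAlg_symm_tmul]
      simp only [AlgHom.coe_id, id_eq, IsScalarTower.coe_toAlgHom', Algebra.TensorProduct.algebraMap_apply,
        Algebra.algebraMap_self, RingHom.id_apply]
      have : (r ⊗ₜ[k] x : R ⊗[k] F) = x • (r ⊗ₜ[k] (1 : F)) := by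
        rw [Algebra.smul_def]
        show _ = ((1 : R) ⊗ₜ[k] x) * (r ⊗ₜ[k] (1 : F))
        rw [Algebra.TensorProduct.tmul_mul_tmul, one_mul, mul_one]
      rw [this, TensorProduct.smul_tmul, Algebra.smul_def, mul_one]
  rw [mem_nonZeroDivisors_iff]
  have main : ∀ z : R ⊗[k] L,
      Algebra.TensorProduct.map (AlgHom.id R R) (IsScalarTower.toAlgHom k F L) d * z = 0 → z = 0 := by
    intro z hz
    obtain ⟨z', rfl⟩ := Φ.surjective z
    rw [← key, ← map_mul] at hz
    have h0 : (d ⊗ₜ[F] (1 : L)) * z' = 0 := Φ.injective (by rw [hz, map_zero])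
    have h1 : (d ⊗ₜ[F] (1 : L)) * z' = d • z' := by
      rw [Algebra.smul_def]
      rfl
    rw [h1] at h0
    rcases smul_eq_zero.mp h0 with h | h
    · exact absurd h hd
    · rw [h, map_zero]
  refine ⟨fun z hz => main z hz, fun z hz => main z (by rw [mul_comm]; exact hz)⟩

end Free

section NZD

variable {k : Type u} [Field k] {A : Type u} [CommRing A] [IsDomain A] [Algebra k A]

/-- **Torsion-freeness**: `A` a domain over the field `k`, `y` an algebraically independent family in
`A`, `R` a domain over `k`. Then every nonzero polynomial of `R[T]` acts as a nonzerodivisor on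
`R ⊗[k] A`. -/
theorem psi_mem_nonZeroDivisors {n : ℕ} (y : Fin n → A)
    (hinj : Function.Injective (MvPolynomial.aeval y : MvPolynomial (Fin n) k →ₐ[k] A))
    (R : Type u) [CommRing R] [IsDomain R] [Algebra k R]
    (p : MvPolynomial (Fin n) R) (hp : p ≠ 0) : psi k y R p ∈ nonZeroDivisors (R ⊗[k] A) := by
  let P := MvPolynomial (Fin n) k
  let F := FractionRing P
  let L := FractionRing A
  let φ : P →ₐ[k] A := MvPolynomial.aeval y
  have hg : Function.Injective ((algebraMap A L).comp φ.toRingHom) :=
    (IsFractionRing.injective A L).comp hinj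
  letI : Algebra F L := (IsFractionRing.lift (K := F) hg).toAlgebra
  have halg : ∀ q : P, algebraMap F L (algebraMap P F q) = algebraMap A L (φ q) := fun q =>
    IsFractionRing.lift_algebraMap hg q
  haveI : IsScalarTower k F L := IsScalarTower.of_algebraMap_eq fun c => by
    rw [IsScalarTower.algebraMap_apply k P F, halg, IsScalarTower.algebraMap_apply k A L]
    congr 1
    exact (φ.commutes c).symm
  haveI : IsDomain (R ⊗[k] F) := isDomain_tensor_fractionRing_mvPolynomial (Fin n) R
  let ψF := psi k (fun i => algebraMap P F (MvPolynomial.X i)) R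
  have hψF : Function.Injective ψF := by
    apply psi_injective_of_flat
    have : (MvPolynomial.aeval (fun i => algebraMap P F (MvPolynomial.X i)) : P →ₐ[k] F) =
        IsScalarTower.toAlgHom k P F := by
      apply MvPolynomial.algHom_ext
      intro i
      rw [MvPolynomial.aeval_X]
      rfl
    rw [this]
    exact IsFractionRing.injective P F
  let j : R ⊗[k] A →ₐ[R] R ⊗[k] L :=
    Algebra.TensorProduct.map (AlgHom.id R R) (IsScalarTower.toAlgHom k A L)
  have hj : Function.Injective j := by
    have := Module.Flat.lTensor_preserves_injective_linearMap (M := R)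
      (IsScalarTower.toAlgHom k A L).toLinearMap (IsFractionRing.injective A L)
    convert this using 1
    ext z
    induction z with
    | zero => simp
    | tmul a b => simp [j]
    | add a b ha hb => rw [map_add, map_add, ha, hb]
  let m : R ⊗[k] F →ₐ[R] R ⊗[k] L :=
    Algebra.TensorProduct.map (AlgHom.id R R) (IsScalarTower.toAlgHom k F L)
  have hcomp : j.comp (psi k y R) = m.comp ψF := by
    apply MvPolynomial.algHom_ext
    intro i
    simp only [AlgHom.comp_apply, psi, MvPolynomial.aeval_X, j, m, ψF,
      Algebra.TensorProduct.map_tmul, AlgHom.coe_id, id_eq, IsScalarTower.coe_toAlgHom']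
    rw [halg]
    show _ = 1 ⊗ₜ[k] (algebraMap A L) ((MvPolynomial.aeval y) (MvPolynomial.X i))
    rw [MvPolynomial.aeval_X]
  have hd : ψF p ≠ 0 := fun h => hp (hψF (by rw [h, map_zero]))
  have hmem := map_mem_nonZeroDivisors k R F L (ψF p) hd
  have hjp : j (psi k y R p) = m (ψF p) := DFunLike.congr_fun hcomp p
  rw [mem_nonZeroDivisors_iff]
  have main : ∀ z : R ⊗[k] A, psi k y R p * z = 0 → z = 0 := by
    intro z hz
    apply hj
    rw [map_zero]
    have h1 : j (psi k y R p) * j z = 0 := by rw [← map_mul, hz, map_zero]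
    rw [hjp] at h1
    exact (mem_nonZeroDivisors_iff.mp hmem).1 _ h1
  exact ⟨fun z hz => main z hz, fun z hz => main z (by rw [mul_comm]; exact hz)⟩

end NZD

section Main

variable (k : Type u) [Field k] (A : Type u) [CommRing A] [IsDomain A] [Algebra k A]
  [Algebra.FiniteType k A] (R : Type u) [CommRing R] [IsDomain R] [Algebra k R]

/-- **Equidimensionality of `R ⊗[k] A`**: for `A` a finite type `k`-domain and `R` a Noetherian
`k`-domain, every minimal prime `𝔮` of `R ⊗[k] A` has `dim (R ⊗[k] A)/𝔮 = dim R + dim A`. -/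
theorem ringKrullDim_quotient_minimalPrime [IsNoetherianRing R] (Q : Ideal (R ⊗[k] A))
    (hQ : Q ∈ minimalPrimes (R ⊗[k] A)) :
    ringKrullDim ((R ⊗[k] A) ⧸ Q) = ringKrullDim R + ringKrullDim A := by
  obtain ⟨n, g₀, hg₀inj, hg₀int⟩ := exists_integral_inj_algHom_of_fg k A
  let y : Fin n → A := fun i => g₀ (MvPolynomial.X i)
  have hg₀ : (MvPolynomial.aeval y : MvPolynomial (Fin n) k →ₐ[k] A) = g₀ := by
    apply MvPolynomial.algHom_ext
    intro i
    simp [y]
  have hint := psi_isIntegral_of_isIntegral y (by rw [hg₀]; exact hg₀int) R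
  have e2 : ringKrullDim A = n := by
    letI : Algebra (MvPolynomial (Fin n) k) A := g₀.toRingHom.toAlgebra
    haveI : Algebra.IsIntegral (MvPolynomial (Fin n) k) A := ⟨hg₀int⟩
    rw [← ringKrullDim_eq_of_isIntegral_of_injective (R := MvPolynomial (Fin n) k) hg₀inj,
      ringKrullDim_mvPolynomial_field]
  haveI := hQ.1.1
  let θ : MvPolynomial (Fin n) R →+* (R ⊗[k] A) ⧸ Q :=
    (Ideal.Quotient.mk Q).comp (psi k y R).toRingHom
  have hθint : θ.IsIntegral :=
    RingHom.IsIntegral.trans _ _ hint (RingHom.isIntegral_of_surjective _ Ideal.Quotient.mk_surjective)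
  have hθinj : Function.Injective θ := by
    rw [injective_iff_map_eq_zero]
    intro p hp
    by_contra hne
    have h1 : psi k y R p ∈ Q := Ideal.Quotient.eq_zero_iff_mem.mp hp
    have h2 := psi_mem_nonZeroDivisors y (by rw [hg₀]; exact hg₀inj) R p hne
    exact notMem_nonZeroDivisors_of_mem_mem_minimalPrimes h1 hQ h2
  letI : Algebra (MvPolynomial (Fin n) R) ((R ⊗[k] A) ⧸ Q) := θ.toAlgebra
  haveI : Algebra.IsIntegral (MvPolynomial (Fin n) R) ((R ⊗[k] A) ⧸ Q) := ⟨hθint⟩
  rw [← ringKrullDim_eq_of_isIntegral_of_injective (R := MvPolynomial (Fin n) R) hθinj,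
    MvPolynomial.ringKrullDim_of_isNoetherianRing, e2]
  simp

/-- Commuted form of `ringKrullDim_quotient_minimalPrime`. -/
theorem ringKrullDim_quotient_minimalPrime' [IsNoetherianRing R] (Q : Ideal (A ⊗[k] R))
    (hQ : Q ∈ minimalPrimes (A ⊗[k] R)) :
    ringKrullDim ((A ⊗[k] R) ⧸ Q) = ringKrullDim A + ringKrullDim R := by
  let e := Algebra.TensorProduct.comm k R A
  have hsurj : Function.Surjective e.toRingEquiv.toRingHom := e.surjective
  let Q' : Ideal (R ⊗[k] A) := Q.comap e.toRingEquiv.toRingHom
  have hQ' : Q' ∈ minimalPrimes (R ⊗[k] A) := by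
    have h := Ideal.comap_minimalPrimes_eq_of_surjective hsurj (⊥ : Ideal (A ⊗[k] R))
    have hbot : (⊥ : Ideal (A ⊗[k] R)).comap e.toRingEquiv.toRingHom = ⊥ := by
      rw [← RingHom.ker_eq_comap_bot]
      exact (RingHom.injective_iff_ker_eq_bot _).mp e.injective
    rw [hbot] at h
    show Q' ∈ (⊥ : Ideal (R ⊗[k] A)).minimalPrimes
    rw [h]
    exact ⟨Q, hQ, rfl⟩
  have e1 : ringKrullDim ((R ⊗[k] A) ⧸ Q') = ringKrullDim ((A ⊗[k] R) ⧸ Q) := by
    refine ringKrullDim_eq_of_ringEquiv (Ideal.quotientEquiv Q' Q e.toRingEquiv ?_)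
    show Q = Ideal.map e.toRingEquiv.toRingHom (Q.comap e.toRingEquiv.toRingHom)
    rw [Ideal.map_comap_of_surjective _ hsurj]
  rw [← e1, ringKrullDim_quotient_minimalPrime k A R Q' hQ', add_comm]

end Main

end Groth.Agent.Lib.H71EquiDimAlg
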