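import Mathlib
import Groth.Agent.Lib.H30LocDimTop
import Groth.Agent.Lib.H71EquiDimAlg
import Groth.Agent.Lib.FieldBC13b
import Groth.Agent.Lib.ReducedSubscheme
import Groth.Agent.Lib.GenerizationIrred

/-!
# Dimension of irreducible components under field extension and in products (helper71)

Schemes locally of finite type over a field `k` (EGA IV 4.2.x / 5.2.x):

* `dim_closure_inter_open`: for `X` l.f.t. over a field, `dim (closure {x} ∩ U) = dim closure {x}` for
  every open `U ∋ x`; `dim_open_eq_of_irreducible`; `dim_affineOpen`; `dim_closure_primeSpectrum`;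
* `dim_closure_inter_chart`, `dim_closure_maximal_point`: for a maximal point `w` of `X ×_k Y`
  (`X` integral l.f.t., `Y` integral locally Noetherian, `X ×_k Y` l.f.t. over some field),
  `dim closure {w} = dim Γ(X,U) + dim Γ(Y,V)` for affine opens `U ∋ pr₁ w`, `V ∋ pr₂ w`;
* `dim_closure_maximal_point_bc` (`Y = Spec K`), `dim_closure_maximal_point_prod` (`Y` l.f.t.);
* `dim_closure_eq_of_maximal_over`, `dim_eq_of_mem_irreducibleComponents_preimage`: every irreducible
  component of the preimage in `X_K` of an irreducible closed `Z ⊆ X` has dimension `dim Z`.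
-/
set_option autoImplicit false
universe u
open CategoryTheory AlgebraicGeometry TopologicalSpace

namespace Groth.Agent.Lib.H71EquiDimSch

open Groth.Agent.Lib.H30DimField Groth.Agent.Lib.H30LocDimTop

section OC

variable {κ : Type u} [Field κ] {X : Scheme.{u}}

/-- For a scheme locally of finite type over a field, the closure of a point has the same dimension
as its trace on any open neighbourhood of the point. -/
theorem dim_closure_inter_open (g : X ⟶ Spec (CommRingCat.of κ)) [LocallyOfFiniteType g]
    (x : X) (U : Set X) (hU : IsOpen U) (hx : x ∈ U) :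
    topologicalKrullDim ↥(closure ({x} : Set X) ∩ U) =
      topologicalKrullDim ↥(closure ({x} : Set X)) := by
  letI : X.Over (Spec (CommRingCat.of κ)) := ⟨g⟩
  haveI : LocallyOfFiniteType (X ↘ Spec (CommRingCat.of κ)) := ‹LocallyOfFiniteType g›
  haveI : JacobsonSpace X := jacobsonSpace κ X
  have hδ := isDimFun κ X
  have h0 : ∀ c : X, IsClosed ({c} : Set X) → td κ X c = 0 := td_eq_zero_of_isClosed κ X
  have e1 := krullDim_closure (td κ X) (isDimensionFunction_of_isDimFun hδ) h0 x
  -- the open subspace
  have hemb : Topology.IsOpenEmbedding (Subtype.val : U → X) := hU.isOpenEmbedding_subtypeVal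
  haveI : QuasiSober U := hemb.quasiSober
  haveI : JacobsonSpace U := JacobsonSpace.of_isOpenEmbedding hemb
  have hδU := isDimFun_open hδ U hU
  have h0U : ∀ c : U, IsClosed ({c} : Set U) → td κ X c.1 = 0 := by
    intro c hc
    apply h0
    have : c ∈ closedPoints U := hc
    rw [← hemb.preimage_closedPoints] at this
    exact this
  have e2 := krullDim_closure (X := U) (fun u : U => td κ X u.1) hδU h0U ⟨x, hx⟩
  have e3 : (Subtype.val '' (closure ({⟨x, hx⟩} : Set U)) : Set X) = closure ({x} : Set X) ∩ U := by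
    rw [Topology.IsInducing.subtypeVal.closure_eq_preimage_closure_image, Set.image_singleton,
      Subtype.image_preimage_coe, Set.inter_comm]
  rw [e1, ← e3, ← dim_image_val, e2]

/-- nonempty opens of an irreducible scheme locally of finite type over a field have full dimension -/
theorem dim_open_eq_of_irreducible (g : X ⟶ Spec (CommRingCat.of κ)) [LocallyOfFiniteType g]
    [IrreducibleSpace X] (U : Set X) (hU : IsOpen U) (hne : U.Nonempty) :
    topologicalKrullDim ↥U = topologicalKrullDim X := by
  letI : X.Over (Spec (CommRingCat.of κ)) := ⟨g⟩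
  haveI : LocallyOfFiniteType (X ↘ Spec (CommRingCat.of κ)) := ‹LocallyOfFiniteType g›
  rw [krullDim_open_eq κ X U hU hne, krullDim_eq_td κ X]

/-- dimension of an affine open subset as a subspace -/
theorem dim_affineOpen (U : X.Opens) (hU : IsAffineOpen U) :
    topologicalKrullDim ↥(U : Set X) = ringKrullDim Γ(X, U) := by
  rw [← PrimeSpectrum.topologicalKrullDim_eq_ringKrullDim Γ(X, U)]
  change topologicalKrullDim U = topologicalKrullDim (Spec Γ(X, U))
  exact IsHomeomorph.topologicalKrullDim_eq _ hU.isoSpec.hom.homeomorph.isHomeomorph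

end OC

section Chart

open CategoryTheory.Limits TensorProduct

variable {k : Type u} [Field k] {X Y : Scheme.{u}} (f : X ⟶ Spec (CommRingCat.of k))
  (g : Y ⟶ Spec (CommRingCat.of k))

/-- dimension of the closure of a point of `Spec R` -/
theorem dim_closure_primeSpectrum (R : Type u) [CommRing R] (s : PrimeSpectrum R) :
    topologicalKrullDim ↥(closure ({s} : Set (PrimeSpectrum R))) = ringKrullDim (R ⧸ s.asIdeal) := by
  rw [← PrimeSpectrum.topologicalKrullDim_eq_ringKrullDim]
  have hemb := PrimeSpectrum.isClosedEmbedding_comap_of_surjective (R ⧸ s.asIdeal)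
    (Ideal.Quotient.mk s.asIdeal) Ideal.Quotient.mk_surjective
  have hr : Set.range (PrimeSpectrum.comap (Ideal.Quotient.mk s.asIdeal)) =
      closure ({s} : Set (PrimeSpectrum R)) := by
    rw [_root_.range_comap_of_surjective _ _ Ideal.Quotient.mk_surjective,
      Ideal.mk_ker, PrimeSpectrum.closure_singleton]
  rw [← hr]
  exact (IsHomeomorph.topologicalKrullDim_eq _
    hemb.isEmbedding.toHomeomorph.isHomeomorph).symm

/-- **Chart computation**: for a maximal point `w` of `X ×_k Y` lying over affine charts `Spec A ⊆ X`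
(`A` a finite type `k`-domain) and `Spec B ⊆ Y` (`B` a Noetherian `k`-domain), the trace of `closure {w}`
on the chart `Spec (A ⊗ B)` has dimension `dim A + dim B`. -/
theorem dim_closure_inter_chart (A B : Type u) [CommRing A] [CommRing B] [IsDomain A] [IsDomain B]
    [Algebra k A] [Algebra k B] [Algebra.FiniteType k A] [IsNoetherianRing B]
    (iA : Spec (CommRingCat.of A) ⟶ X) (iB : Spec (CommRingCat.of B) ⟶ Y)
    [IsOpenImmersion iA] [IsOpenImmersion iB]
    (hA : iA ≫ f = Spec.map (CommRingCat.ofHom (algebraMap k A)))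
    (hB : iB ≫ g = Spec.map (CommRingCat.ofHom (algebraMap k B)))
    (w : ↥(pullback f g)) (hmax : ∀ t : ↥(pullback f g), t ⤳ w → t = w)
    (hwA : pullback.fst f g w ∈ Set.range iA) (hwB : pullback.snd f g w ∈ Set.range iB) :
    topologicalKrullDim ↥(closure ({w} : Set ↥(pullback f g)) ∩
      (pullback.fst f g ⁻¹' Set.range iA ∩ pullback.snd f g ⁻¹' Set.range iB)) =
      ringKrullDim A + ringKrullDim B := by
  have e₁ : Spec.map (CommRingCat.ofHom (algebraMap k A)) ≫ 𝟙 _ = iA ≫ f := by
    rw [Category.comp_id, hA]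
  have e₂ : Spec.map (CommRingCat.ofHom (algebraMap k B)) ≫ 𝟙 _ = iB ≫ g := by
    rw [Category.comp_id, hB]
  let m := pullback.map (Spec.map (CommRingCat.ofHom (algebraMap k A)))
    (Spec.map (CommRingCat.ofHom (algebraMap k B))) f g iA iB (𝟙 _) e₁ e₂
  let j : Spec (CommRingCat.of (A ⊗[k] B)) ⟶ pullback f g := (pullbackSpecIso k A B).inv ≫ m
  haveI : IsOpenImmersion j := inferInstance
  have hrange : Set.range j =
      pullback.fst f g ⁻¹' Set.range iA ∩ pullback.snd f g ⁻¹' Set.range iB := by
    rw [← Scheme.Pullback.range_map (Spec.map (CommRingCat.ofHom (algebraMap k A)))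
      (Spec.map (CommRingCat.ofHom (algebraMap k B))) f g iA iB (𝟙 _) e₁ e₂]
    show Set.range ((pullbackSpecIso k A B).inv ≫ m) = Set.range m
    rw [Scheme.Hom.comp_base, TopCat.coe_comp, Set.range_comp,
      Set.range_eq_univ.mpr (pullbackSpecIso k A B).inv.surjective, Set.image_univ]
  have hemb : Topology.IsOpenEmbedding j := j.isOpenEmbedding
  obtain ⟨s, hs⟩ : w ∈ Set.range j := by
    rw [hrange]
    exact ⟨hwA, hwB⟩
  -- `s` is a minimal prime
  have hsmax : ∀ t : ↥(Spec (CommRingCat.of (A ⊗[k] B))), t ⤳ s → t = s := by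
    intro t ht
    apply hemb.injective
    rw [hs]
    apply hmax
    rw [← hs]
    exact ht.map j.continuous
  let s' : PrimeSpectrum (A ⊗[k] B) := s
  have hmin : s'.asIdeal ∈ minimalPrimes (A ⊗[k] B) := by
    refine ⟨⟨s'.isPrime, bot_le⟩, ?_⟩
    rintro q ⟨hq, -⟩ hle
    have : (⟨q, hq⟩ : PrimeSpectrum (A ⊗[k] B)) ⤳ s' := by
      rw [← PrimeSpectrum.le_iff_specializes]
      exact hle
    have h2 := hsmax ⟨q, hq⟩ this
    have h3 : q = s'.asIdeal := congrArg PrimeSpectrum.asIdeal h2
    rw [h3]
  -- the trace of the closure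
  have himg : closure ({w} : Set ↥(pullback f g)) ∩ Set.range j =
      j '' closure ({s} : Set ↥(Spec (CommRingCat.of (A ⊗[k] B)))) := by
    ext p
    constructor
    · rintro ⟨hp1, t, rfl⟩
      refine ⟨t, ?_, rfl⟩
      rw [← hs] at hp1
      rw [← specializes_iff_mem_closure] at hp1 ⊢
      exact hemb.isInducing.specializes_iff.mp hp1
    · rintro ⟨t, ht, rfl⟩
      refine ⟨?_, t, rfl⟩
      rw [← hs]
      rw [← specializes_iff_mem_closure] at ht ⊢
      exact ht.map j.continuous
  rw [← hrange, himg]
  have e1 : topologicalKrullDim ↥(j '' closure ({s} : Set ↥(Spec (CommRingCat.of (A ⊗[k] B))))) =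
      topologicalKrullDim ↥(closure ({s} : Set ↥(Spec (CommRingCat.of (A ⊗[k] B))))) :=
    (IsHomeomorph.topologicalKrullDim_eq _
      (hemb.isEmbedding.homeomorphImage _).isHomeomorph).symm
  rw [e1]
  have e2 := dim_closure_primeSpectrum (A ⊗[k] B) s'
  rw [Groth.Agent.Lib.H71EquiDimAlg.ringKrullDim_quotient_minimalPrime' k A B _ hmin] at e2
  exact e2

/-- **Dimension of the closure of a maximal point of `X ×_k Y`** in terms of affine charts. -/
theorem dim_closure_maximal_point {κ : Type u} [Field κ] [IsIntegral X] [IsIntegral Y]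
    [LocallyOfFiniteType f] [IsLocallyNoetherian Y]
    (h : pullback f g ⟶ Spec (CommRingCat.of κ)) [LocallyOfFiniteType h]
    (w : ↥(pullback f g)) (hmax : ∀ t : ↥(pullback f g), t ⤳ w → t = w)
    (U : X.Opens) (hU : IsAffineOpen U) (hwU : pullback.fst f g w ∈ U)
    (V : Y.Opens) (hV : IsAffineOpen V) (hwV : pullback.snd f g w ∈ V) :
    topologicalKrullDim ↥(closure ({w} : Set ↥(pullback f g))) =
      ringKrullDim Γ(X, U) + ringKrullDim Γ(Y, V) := by
  obtain ⟨φ, hφ⟩ := Spec.map_surjective (hU.fromSpec ≫ f)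
  obtain ⟨ψ, hψ⟩ := Spec.map_surjective (hV.fromSpec ≫ g)
  letI : Algebra k Γ(X, U) := φ.hom.toAlgebra
  letI : Algebra k Γ(Y, V) := ψ.hom.toAlgebra
  have hA : hU.fromSpec ≫ f = Spec.map (CommRingCat.ofHom (algebraMap k Γ(X, U))) := hφ.symm
  have hB : hV.fromSpec ≫ g = Spec.map (CommRingCat.ofHom (algebraMap k Γ(Y, V))) := hψ.symm
  haveI : Nonempty U := ⟨⟨_, hwU⟩⟩
  haveI : Nonempty V := ⟨⟨_, hwV⟩⟩
  haveI : IsDomain Γ(X, U) := inferInstance
  haveI : IsDomain Γ(Y, V) := inferInstance
  haveI : IsNoetherianRing Γ(Y, V) :=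
    IsLocallyNoetherian.component_noetherian (X := Y) (⟨V, hV⟩ : Y.affineOpens)
  haveI : Algebra.FiniteType k Γ(X, U) := by
    have h1 : LocallyOfFiniteType (Spec.map φ) := by
      rw [hφ]
      infer_instance
    exact (HasRingHomProperty.Spec_iff (P := @LocallyOfFiniteType)).mp h1
  have hwA : pullback.fst f g w ∈ Set.range hU.fromSpec := by
    rw [hU.range_fromSpec]
    exact hwU
  have hwB : pullback.snd f g w ∈ Set.range hV.fromSpec := by
    rw [hV.range_fromSpec]
    exact hwV
  have key := dim_closure_inter_chart f g Γ(X, U) Γ(Y, V) hU.fromSpec hV.fromSpec hA hB w hmax hwA hwB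
  rw [← key]
  have hO : IsOpen (pullback.fst f g ⁻¹' Set.range hU.fromSpec ∩
      pullback.snd f g ⁻¹' Set.range hV.fromSpec) :=
    ((hU.fromSpec.isOpenEmbedding.isOpen_range).preimage (pullback.fst f g).continuous).inter
      ((hV.fromSpec.isOpenEmbedding.isOpen_range).preimage (pullback.snd f g).continuous)
  exact (dim_closure_inter_open h w _ hO ⟨hwA, hwB⟩).symm

/-- **Field extension, integral case**: maximal points of `X_K` have closures of dimension `dim X`. -/
theorem dim_closure_maximal_point_bc [IsIntegral X] [LocallyOfFiniteType f]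
    (K : Type u) [Field K] [Algebra k K]
    (w : ↥(pullback f (Spec.map (CommRingCat.ofHom (algebraMap k K)))))
    (hmax : ∀ t : ↥(pullback f (Spec.map (CommRingCat.ofHom (algebraMap k K)))), t ⤳ w → t = w) :
    topologicalKrullDim ↥(closure ({w} : Set ↥(pullback f
      (Spec.map (CommRingCat.ofHom (algebraMap k K)))))) = topologicalKrullDim X := by
  obtain ⟨U, hU, hwU, -⟩ := TopologicalSpace.Opens.isBasis_iff_nbhd.1 X.isBasis_affineOpens
    (TopologicalSpace.Opens.mem_top
      (pullback.fst f (Spec.map (CommRingCat.ofHom (algebraMap k K))) w))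
  have hV := isAffineOpen_top (Spec (CommRingCat.of K))
  haveI : LocallyOfFiniteType (pullback.snd f (Spec.map (CommRingCat.ofHom (algebraMap k K)))) :=
    MorphismProperty.pullback_snd _ _ inferInstance
  have key := dim_closure_maximal_point f (Spec.map (CommRingCat.ofHom (algebraMap k K)))
    (pullback.snd f (Spec.map (CommRingCat.ofHom (algebraMap k K)))) w hmax U hU hwU ⊤ hV trivial
  rw [key]
  have e1 : ringKrullDim Γ(Spec (CommRingCat.of K), ⊤) = 0 := by
    rw [ringKrullDim_eq_of_ringEquiv
      (Scheme.ΓSpecIso (CommRingCat.of K)).commRingCatIsoToRingEquiv]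
    exact ringKrullDim_eq_zero_of_field K
  rw [e1, add_zero, ← dim_affineOpen U hU]
  exact dim_open_eq_of_irreducible f (U : Set X) U.isOpen ⟨_, hwU⟩

/-- **Products, integral case**: maximal points of `X ×_k Y` have closures of dimension
`dim X + dim Y`. -/
theorem dim_closure_maximal_point_prod [IsIntegral X] [IsIntegral Y] [LocallyOfFiniteType f]
    [LocallyOfFiniteType g] (w : ↥(pullback f g))
    (hmax : ∀ t : ↥(pullback f g), t ⤳ w → t = w) :
    topologicalKrullDim ↥(closure ({w} : Set ↥(pullback f g))) =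
      topologicalKrullDim X + topologicalKrullDim Y := by
  obtain ⟨U, hU, hwU, -⟩ := TopologicalSpace.Opens.isBasis_iff_nbhd.1 X.isBasis_affineOpens
    (TopologicalSpace.Opens.mem_top (pullback.fst f g w))
  obtain ⟨V, hV, hwV, -⟩ := TopologicalSpace.Opens.isBasis_iff_nbhd.1 Y.isBasis_affineOpens
    (TopologicalSpace.Opens.mem_top (pullback.snd f g w))
  haveI : IsLocallyNoetherian Y := LocallyOfFiniteType.isLocallyNoetherian g
  haveI : LocallyOfFiniteType (pullback.fst f g) := MorphismProperty.pullback_fst _ _ inferInstance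
  have key := dim_closure_maximal_point f g (pullback.fst f g ≫ f) w hmax U hU hwU V hV hwV
  rw [key, ← dim_affineOpen U hU, ← dim_affineOpen V hV,
    dim_open_eq_of_irreducible f (U : Set X) U.isOpen ⟨_, hwU⟩,
    dim_open_eq_of_irreducible g (V : Set Y) V.isOpen ⟨_, hwV⟩]

/-- **Dimension of components over an irreducible closed subset under field extension**
(pointwise form): if `w ∈ X_K` lies over the irreducible closed `Z ⊆ X` and has no proper
generization lying over `Z`, then `dim closure {w} = dim Z`. -/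
theorem dim_closure_eq_of_maximal_over [LocallyOfFiniteType f]
    (K : Type u) [Field K] [Algebra k K] (Z : Set X) (hZc : IsClosed Z) (hZi : IsIrreducible Z)
    (w : ↥(pullback f (Spec.map (CommRingCat.ofHom (algebraMap k K)))))
    (hwZ : pullback.fst f (Spec.map (CommRingCat.ofHom (algebraMap k K))) w ∈ Z)
    (hmax : ∀ t : ↥(pullback f (Spec.map (CommRingCat.ofHom (algebraMap k K)))),
      pullback.fst f (Spec.map (CommRingCat.ofHom (algebraMap k K))) t ∈ Z → t ⤳ w → t = w) :
    topologicalKrullDim ↥(closure ({w} : Set ↥(pullback f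
      (Spec.map (CommRingCat.ofHom (algebraMap k K)))))) = topologicalKrullDim ↥Z := by
  let I := Scheme.IdealSheafData.vanishingIdeal ⟨Z, hZc⟩
  have hr : Set.range I.subschemeι = Z := by
    rw [Scheme.IdealSheafData.range_subschemeι, Scheme.IdealSheafData.coe_support_vanishingIdeal]
    rfl
  haveI : IsReduced I.subscheme :=
    Groth.Agent.Lib.ReducedSubscheme.isReduced_subscheme_vanishingIdeal ⟨Z, hZc⟩
  haveI : IrreducibleSpace ↥I.subscheme := by
    rw [Groth.Agent.Lib.GenerizationIrred.irreducibleSpace_iff_isIrreducible_range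
      I.subschemeι.isClosedEmbedding.isEmbedding, hr]
    exact hZi
  haveI : IsIntegral I.subscheme := isIntegral_of_irreducibleSpace_of_isReduced _
  let m := Groth.Agent.Lib.FieldBC13.mapK K f (I.subschemeι ≫ f) I.subschemeι rfl
  have hrm : Set.range m =
      pullback.fst f (Spec.map (CommRingCat.ofHom (algebraMap k K))) ⁻¹' Z := by
    rw [← hr]
    exact Groth.Agent.Lib.FieldBC13.range_mapK K f I.subschemeι
  have hmemb : Topology.IsClosedEmbedding m := m.isClosedEmbedding
  obtain ⟨w', hw'⟩ : w ∈ Set.range m := by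
    rw [hrm]
    exact hwZ
  have hmax' : ∀ t, t ⤳ w' → t = w' := by
    intro t ht
    apply hmemb.injective
    rw [hw']
    apply hmax
    · have : m t ∈ Set.range m := ⟨t, rfl⟩
      rw [hrm] at this
      exact this
    · rw [← hw']
      exact ht.map m.continuous
  have key := dim_closure_maximal_point_bc (I.subschemeι ≫ f) K w' hmax'
  have e1 : closure ({w} : Set ↥(pullback f (Spec.map (CommRingCat.ofHom (algebraMap k K))))) =
      m '' closure ({w'} : Set _) := by
    rw [← hmemb.closure_image_eq, Set.image_singleton, hw']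
  rw [e1]
  have e2 : topologicalKrullDim ↥(m '' closure ({w'} : Set _)) =
      topologicalKrullDim ↥(closure ({w'} : Set _)) :=
    (IsHomeomorph.topologicalKrullDim_eq _
      (hmemb.isEmbedding.homeomorphImage _).isHomeomorph).symm
  rw [e2, key, ← hr]
  exact IsHomeomorph.topologicalKrullDim_eq _
    I.subschemeι.isClosedEmbedding.isEmbedding.toHomeomorph.isHomeomorph

/-- **EGA IV 4.2.x / S4663**: every irreducible component of the inverse image in `X_K` of an
irreducible closed subset `Z` of `X` (locally of finite type over `k`) has the dimension of `Z`. -/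
theorem dim_eq_of_mem_irreducibleComponents_preimage [LocallyOfFiniteType f]
    (K : Type u) [Field K] [Algebra k K] (Z : Set X) (hZc : IsClosed Z) (hZi : IsIrreducible Z)
    (W : Set ↥(pullback.fst f (Spec.map (CommRingCat.ofHom (algebraMap k K))) ⁻¹' Z))
    (hW : W ∈ irreducibleComponents
      ↥(pullback.fst f (Spec.map (CommRingCat.ofHom (algebraMap k K))) ⁻¹' Z)) :
    topologicalKrullDim ↥W = topologicalKrullDim ↥Z := by
  have hFc : IsClosed (pullback.fst f (Spec.map (CommRingCat.ofHom (algebraMap k K))) ⁻¹' Z) :=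
    hZc.preimage (pullback.fst f _).continuous
  have hWi : IsIrreducible W := hW.1
  have hWc : IsClosed W := isClosed_of_mem_irreducibleComponents W hW
  haveI : QuasiSober ↥(pullback.fst f (Spec.map (CommRingCat.ofHom (algebraMap k K))) ⁻¹' Z) :=
    hFc.isClosedEmbedding_subtypeVal.quasiSober
  obtain ⟨w0, hw0⟩ := QuasiSober.sober hWi hWc
  have hmax : ∀ t : ↥(pullback f (Spec.map (CommRingCat.ofHom (algebraMap k K)))),
      pullback.fst f (Spec.map (CommRingCat.ofHom (algebraMap k K))) t ∈ Z → t ⤳ w0.1 →
        t = w0.1 := by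
    intro t htZ ht
    have h1 : (⟨t, htZ⟩ : ↥(pullback.fst f
        (Spec.map (CommRingCat.ofHom (algebraMap k K))) ⁻¹' Z)) ⤳ w0 :=
      Topology.IsInducing.subtypeVal.specializes_iff.mp ht
    have h2 : W ⊆ closure {(⟨t, htZ⟩ : ↥(pullback.fst f
        (Spec.map (CommRingCat.ofHom (algebraMap k K))) ⁻¹' Z))} := by
      rw [← hw0.def]
      exact closure_minimal (Set.singleton_subset_iff.mpr (specializes_iff_mem_closure.mp h1))
        isClosed_closure
    have h3 := hW.2 isIrreducible_singleton.closure h2
    have h4 : w0 ⤳ (⟨t, htZ⟩ : ↥(pullback.fst f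
        (Spec.map (CommRingCat.ofHom (algebraMap k K))) ⁻¹' Z)) := by
      rw [specializes_iff_mem_closure, hw0.def]
      exact h3 (subset_closure rfl)
    exact congrArg Subtype.val (h1.antisymm h4).eq
  have key := dim_closure_eq_of_maximal_over f K Z hZc hZi w0.1 w0.2 hmax
  rw [← key, dim_image_val, ← hw0.def, ← hFc.isClosedEmbedding_subtypeVal.closure_image_eq,
    Set.image_singleton]

end Chart

end Groth.Agent.Lib.H71EquiDimSch
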