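import Groth.Agent.Lib.H71PureTrans
import Groth.Agent.Lib.FieldBC13b
import Groth.Agent.Lib.GalAct13
import Groth.Agent.Lib.H71FinSepConn
import Groth.Agent.Lib.GenerizationIrred

/-!
# Images of irreducible components under arbitrary field extensions (helper71)

* `image_mem_irreducibleComponents_top`, `exists_irreducibleComponent_of_mem_preimage_top`: topology of continuous
  closed generalizing maps between quasi-sober spaces (abstracted from helper13's GalAct13d).
* `isIrreducible_preimage`, `preimage_mem_irreducibleComponents`, `image_mem_irreducibleComponents_pureTrans`: for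
  `K₁/k` with `Spec K₁ ⟶ Spec k` geometrically irreducible (e.g. purely transcendental), irreducible components of
  `X_{K₁}` are exactly the preimages of those of `X`.
* `geometricallyIrreducible_SpecMap_adjoin`: `Spec k(x) ⟶ Spec k` is geometrically irreducible.
* `image_mem_irreducibleComponents`, `exists_irreducibleComponent_image_eq`: arbitrary `K/k` (Stacks 0363-type).
-/
set_option autoImplicit false
universe u
open CategoryTheory CategoryTheory.Limits AlgebraicGeometry TensorProduct

namespace Groth.Agent.Lib.H71IrredImage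

section Top

variable {A B : Type*} [TopologicalSpace A] [TopologicalSpace B] [QuasiSober A] [QuasiSober B]

/-- A continuous closed generalizing map sends irreducible components to irreducible components. -/
theorem image_mem_irreducibleComponents_top (f : A → B) (hc : Continuous f) (hcl : IsClosedMap f)
    (hg : GeneralizingMap f) (Z : Set A) (hZ : Z ∈ irreducibleComponents A) :
    f '' Z ∈ irreducibleComponents B := by
  have hZc : IsClosed Z := isClosed_of_mem_irreducibleComponents _ hZ
  have hZi : IsIrreducible Z := hZ.1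
  have hTc : IsClosed (f '' Z) := hcl _ hZc
  have hTi : IsIrreducible (f '' Z) := hZi.image _ hc.continuousOn
  refine ⟨hTi, fun T₁ hT₁ hle => ?_⟩
  obtain ⟨η, hη⟩ := QuasiSober.sober hZi hZc
  obtain ⟨ξ, hξ⟩ := QuasiSober.sober hT₁.closure isClosed_closure
  have hηZ : η ∈ Z := hη.mem
  have h1 : ξ ⤳ f η := by
    rw [specializes_iff_mem_closure, hξ.def]
    exact subset_closure (hle ⟨η, hηZ, rfl⟩)
  obtain ⟨ζ, hζη, hζξ⟩ := hg h1
  have h2 : closure {ζ} ≤ Z := by
    refine hZ.2 isIrreducible_singleton.closure ?_
    rw [← hη.def]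
    exact specializes_iff_closure_subset.mp hζη
  have hζZ : ζ ∈ Z := h2 (subset_closure rfl)
  have hξT : ξ ∈ f '' Z := ⟨ζ, hζZ, hζξ⟩
  calc T₁ ⊆ closure T₁ := subset_closure
    _ = closure {ξ} := hξ.def.symm
    _ ⊆ f '' Z := hTc.closure_subset_iff.mpr (Set.singleton_subset_iff.mpr hξT)

/-- Lifting irreducible components along a continuous closed generalizing map. -/
theorem exists_irreducibleComponent_of_mem_preimage_top (f : A → B) (hc : Continuous f)
    (hcl : IsClosedMap f) (hg : GeneralizingMap f) (T : Set B) (hT : T ∈ irreducibleComponents B)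
    (z : A) (hz : f z ∈ T) :
    ∃ T' ∈ irreducibleComponents A, z ∈ T' ∧ f '' T' = T := by
  have hTc : IsClosed T := isClosed_of_mem_irreducibleComponents _ hT
  obtain ⟨τ, hτ⟩ := QuasiSober.sober hT.1 hTc
  have h1 : τ ⤳ f z := by
    rw [specializes_iff_mem_closure, hτ.def]; exact hz
  obtain ⟨ζ, hζz, hζτ⟩ := hg h1
  refine ⟨irreducibleComponent ζ, irreducibleComponent_mem_irreducibleComponents ζ, ?_, ?_⟩
  · have hcl' : IsClosed (irreducibleComponent ζ) := isClosed_irreducibleComponent
    exact hcl'.closure_subset_iff.mpr (Set.singleton_subset_iff.mpr mem_irreducibleComponent)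
      (specializes_iff_mem_closure.mp hζz)
  · have h2 := image_mem_irreducibleComponents_top f hc hcl hg _
      (irreducibleComponent_mem_irreducibleComponents ζ)
    have h3 : T ⊆ f '' irreducibleComponent ζ := by
      rw [← hτ.def]
      exact (isClosed_of_mem_irreducibleComponents _ h2).closure_subset_iff.mpr
        (Set.singleton_subset_iff.mpr ⟨ζ, mem_irreducibleComponent, hζτ⟩)
    exact (subset_antisymm (hT.2 h2.1 h3) h3)

end Top

open Groth.Agent.Lib.FieldBC13

variable {k : Type u} [Field k]

section PureTrans

variable (K₁ : Type u) [Field K₁] [Algebra k K₁]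
  [hgi : GeometricallyIrreducible (Spec.map (CommRingCat.ofHom (algebraMap k K₁)))]
  {X : Scheme.{u}} (f : X ⟶ Spec (CommRingCat.of k))

include hgi in
/-- If `Spec K₁ ⟶ Spec k` is geometrically irreducible (e.g. `K₁/k` purely transcendental), the preimage in `X_{K₁}`
of an irreducible closed subset of `X` is irreducible. -/
theorem isIrreducible_preimage (Z : Set X) (hZ : IsIrreducible Z) (hZc : IsClosed Z) :
    IsIrreducible ((pullback.fst f (Spec.map (CommRingCat.ofHom (algebraMap k K₁)))) ⁻¹' Z) := by
  let I := Scheme.IdealSheafData.vanishingIdeal ⟨Z, hZc⟩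
  let ι : I.subscheme ⟶ X := I.subschemeι
  have hrange : Set.range ι = Z := by
    rw [Scheme.IdealSheafData.range_subschemeι, Scheme.IdealSheafData.coe_support_vanishingIdeal]
    rfl
  haveI : IrreducibleSpace ↥I.subscheme := by
    rw [Groth.Agent.Lib.GenerizationIrred.irreducibleSpace_iff_isIrreducible_range
      ι.isClosedEmbedding.isEmbedding, hrange]
    exact hZ
  haveI : IrreducibleSpace ↥(pullback (ι ≫ f) (Spec.map (CommRingCat.ofHom (algebraMap k K₁)))) :=
    inferInstance
  have hpb := isPullback_mapK K₁ f (ι ≫ f) ι rfl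
  have hr : Set.range (mapK K₁ f (ι ≫ f) ι rfl) =
      (pullback.fst f (Spec.map (CommRingCat.ofHom (algebraMap k K₁)))) ⁻¹' Z := by
    ext v
    constructor
    · rintro ⟨t, rfl⟩
      rw [Set.mem_preimage, ← Scheme.Hom.comp_apply, Groth.Agent.Lib.GalAct13.mapK_fst,
        Scheme.Hom.comp_apply, ← hrange]
      exact ⟨_, rfl⟩
    · intro hv
      rw [Set.mem_preimage, ← hrange] at hv
      obtain ⟨z, hz⟩ := hv
      obtain ⟨p, hp1, -⟩ := Scheme.exists_preimage_of_isPullback hpb v z hz.symm
      exact ⟨p, hp1⟩
  rw [← hr, ← Set.image_univ]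
  exact (IrreducibleSpace.isIrreducible_univ _).image _ (mapK K₁ f (ι ≫ f) ι rfl).continuous.continuousOn

include hgi in
theorem preimage_mem_irreducibleComponents (Z : Set X) (hZ : Z ∈ irreducibleComponents ↥X) :
    (pullback.fst f (Spec.map (CommRingCat.ofHom (algebraMap k K₁)))) ⁻¹' Z ∈
      irreducibleComponents ↥(pullback f (Spec.map (CommRingCat.ofHom (algebraMap k K₁)))) := by
  have hZc : IsClosed Z := isClosed_of_mem_irreducibleComponents _ hZ
  refine ⟨isIrreducible_preimage K₁ f Z hZ.1 hZc, fun T' hT' hle => ?_⟩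
  have himg : IsIrreducible ((pullback.fst f (Spec.map (CommRingCat.ofHom (algebraMap k K₁)))) '' T') :=
    hT'.image _ (pullback.fst f _).continuous.continuousOn
  have hsub : Z ⊆ (pullback.fst f (Spec.map (CommRingCat.ofHom (algebraMap k K₁)))) '' T' := by
    intro z hz
    obtain ⟨v, hv⟩ := surjective_fst K₁ f z
    exact ⟨v, hle (by rw [Set.mem_preimage, hv]; exact hz), hv⟩
  have := hZ.2 himg hsub
  intro v hv
  exact this ⟨v, hv, rfl⟩

include hgi in
theorem image_mem_irreducibleComponents_pureTrans
    (T₁ : Set ↥(pullback f (Spec.map (CommRingCat.ofHom (algebraMap k K₁)))))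
    (hT₁ : T₁ ∈ irreducibleComponents ↥(pullback f (Spec.map (CommRingCat.ofHom (algebraMap k K₁))))) :
    (pullback.fst f (Spec.map (CommRingCat.ofHom (algebraMap k K₁)))) '' T₁ ∈ irreducibleComponents ↥X := by
  have himg : IsIrreducible ((pullback.fst f (Spec.map (CommRingCat.ofHom (algebraMap k K₁)))) '' T₁) :=
    hT₁.1.image _ (pullback.fst f _).continuous.continuousOn
  obtain ⟨Z, hZ, hsub⟩ := exists_mem_irreducibleComponents_subset_of_isIrreducible _ himg
  have hpre := preimage_mem_irreducibleComponents K₁ f Z hZ
  have hle : T₁ ⊆ (pullback.fst f (Spec.map (CommRingCat.ofHom (algebraMap k K₁)))) ⁻¹' Z :=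
    fun v hv => hsub ⟨v, hv, rfl⟩
  have heq : T₁ = (pullback.fst f (Spec.map (CommRingCat.ofHom (algebraMap k K₁)))) ⁻¹' Z :=
    subset_antisymm hle (hT₁.2 hpre.1 hle)
  rw [heq, Set.image_preimage_eq _ (surjective_fst K₁ f)]
  exact hZ

end PureTrans

section Tower

open Groth.Agent.Lib.H71FinSepConn

variable (K : Type u) [Field K] [Algebra k K] (L : IntermediateField k K) [Algebra.IsAlgebraic L K]
  {X : Scheme.{u}} (f : X ⟶ Spec (CommRingCat.of k))

omit [Algebra.IsAlgebraic L K] in
theorem ρ_surjective' : Function.Surjective (ρ K L f) := by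
  rw [ρ_eq]
  have hsurj : Surjective (r K L) := Groth.Agent.Lib.H71SepClosedGeom.surjective_SpecMap K
  have h3 : Surjective (pullback.fst (pullback.snd f (q L)) (r K L)) :=
    MorphismProperty.pullback_fst _ _ hsurj
  exact (inferInstance : Surjective (_ ≫ _)).surj

theorem ρ_isClosedMap' : IsClosedMap (ρ K L f) := by
  rw [ρ_eq]
  have hint : IsIntegralHom (r K L) := Groth.Agent.Lib.H71SepClosedGeom.isIntegralHom_SpecMap K
  exact Scheme.Hom.isClosedMap _

omit [Algebra.IsAlgebraic L K] in
theorem ρ_generalizingMap : GeneralizingMap (ρ K L f) := by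
  rw [ρ_eq]
  have h : Flat (r K L) := by
    rw [Flat.SpecMap_iff]
    change (algebraMap L K).Flat
    rw [RingHom.flat_algebraMap_iff]; infer_instance
  have h' : Flat (pullback.fst (pullback.snd f (q L)) (r K L)) :=
    MorphismProperty.pullback_fst _ _ h
  exact Flat.generalizingMap _

end Tower

section Main

open Groth.Agent.Lib.H71FinSepConn Groth.Agent.Lib.H71PureTrans

variable (K : Type u) [Field K] [Algebra k K] {X : Scheme.{u}} (f : X ⟶ Spec (CommRingCat.of k))

/-- For a purely transcendental subextension `k(x)`, `Spec k(x) ⟶ Spec k` is geometrically irreducible. -/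
theorem geometricallyIrreducible_SpecMap_adjoin {ι : Type u} (x : ι → K) (hx : AlgebraicIndependent k x) :
    GeometricallyIrreducible (Spec.map (CommRingCat.ofHom
      (algebraMap k ↥(IntermediateField.adjoin k (Set.range x))))) := by
  refine ⟨?_⟩
  rw [geometrically_iff_of_commRing_of_isClosedUnderIsomorphisms]
  intro L _ _
  have : IsDomain (↥(IntermediateField.adjoin k (Set.range x)) ⊗[k] L) := isDomain_adjoin_tensor x hx L
  have : IrreducibleSpace (Spec (CommRingCat.of (↥(IntermediateField.adjoin k (Set.range x)) ⊗[k] L))) :=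
    inferInstance
  exact (pullbackSpecIso k ↥(IntermediateField.adjoin k (Set.range x)) L).hom.homeomorph.irreducibleSpace_iff.2
    this

/-- **Stacks 0363-type**: for any field extension `K/k`, the image in `X` of an irreducible component of `X_K` is an
irreducible component of `X`. -/
theorem image_mem_irreducibleComponents
    (T : Set ↥(pullback f (Spec.map (CommRingCat.ofHom (algebraMap k K)))))
    (hT : T ∈ irreducibleComponents ↥(pullback f (Spec.map (CommRingCat.ofHom (algebraMap k K))))) :
    (pullback.fst f (Spec.map (CommRingCat.ofHom (algebraMap k K)))) '' T ∈ irreducibleComponents ↥X := by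
  obtain ⟨ι, x, hx⟩ := exists_isTranscendenceBasis' k K
  haveI : Algebra.IsAlgebraic ↥(IntermediateField.adjoin k (Set.range x)) K := hx.isAlgebraic_field
  haveI := geometricallyIrreducible_SpecMap_adjoin K x hx.1
  have h1 := image_mem_irreducibleComponents_top (ρ K (IntermediateField.adjoin k (Set.range x)) f)
    (ρ K _ f).continuous (ρ_isClosedMap' K _ f) (ρ_generalizingMap K _ f) T hT
  have h2 := image_mem_irreducibleComponents_pureTrans ↥(IntermediateField.adjoin k (Set.range x)) f _ h1
  have : (pullback.fst f (Spec.map (CommRingCat.ofHom (algebraMap k K)))) '' T =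
      (pullback.fst f (Spec.map (CommRingCat.ofHom
        (algebraMap k ↥(IntermediateField.adjoin k (Set.range x)))))) ''
        ((ρ K (IntermediateField.adjoin k (Set.range x)) f) '' T) := by
    rw [← Set.image_comp]
    apply Set.image_congr
    intro v _
    simp only [Function.comp_apply]
    rw [← Scheme.Hom.comp_apply, ρ_fst]
  rw [this]
  exact h2

/-- Every irreducible component of `X` is the image of an irreducible component of `X_K`. -/
theorem exists_irreducibleComponent_image_eq (Z : Set X) (hZ : Z ∈ irreducibleComponents ↥X) :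
    ∃ T ∈ irreducibleComponents ↥(pullback f (Spec.map (CommRingCat.ofHom (algebraMap k K)))),
      (pullback.fst f (Spec.map (CommRingCat.ofHom (algebraMap k K)))) '' T = Z := by
  obtain ⟨ι, x, hx⟩ := exists_isTranscendenceBasis' k K
  haveI : Algebra.IsAlgebraic ↥(IntermediateField.adjoin k (Set.range x)) K := hx.isAlgebraic_field
  haveI := geometricallyIrreducible_SpecMap_adjoin K x hx.1
  have hT₁ := preimage_mem_irreducibleComponents ↥(IntermediateField.adjoin k (Set.range x)) f Z hZ
  obtain ⟨z₀, hz₀⟩ := hZ.1.nonempty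
  obtain ⟨z₁, hz₁⟩ := surjective_fst ↥(IntermediateField.adjoin k (Set.range x)) f z₀
  obtain ⟨z, hz⟩ := ρ_surjective' K (IntermediateField.adjoin k (Set.range x)) f z₁
  obtain ⟨T', hT', -, hT'img⟩ := exists_irreducibleComponent_of_mem_preimage_top
    (ρ K (IntermediateField.adjoin k (Set.range x)) f)
    (ρ K _ f).continuous (ρ_isClosedMap' K _ f) (ρ_generalizingMap K _ f) _ hT₁ z
    (by rw [hz, Set.mem_preimage, hz₁]; exact hz₀)
  refine ⟨T', hT', ?_⟩
  have : (pullback.fst f (Spec.map (CommRingCat.ofHom (algebraMap k K)))) '' T' =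
      (pullback.fst f (Spec.map (CommRingCat.ofHom
        (algebraMap k ↥(IntermediateField.adjoin k (Set.range x)))))) ''
        ((ρ K (IntermediateField.adjoin k (Set.range x)) f) '' T') := by
    rw [← Set.image_comp]
    apply Set.image_congr
    intro v _
    simp only [Function.comp_apply]
    rw [← Scheme.Hom.comp_apply, ρ_fst]
  rw [this, hT'img, Set.image_preimage_eq _ (surjective_fst _ f)]

end Main

end Groth.Agent.Lib.H71IrredImage
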