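import Mathlib
import Groth.Agent.Lib.H71EquiDimSch
import Groth.Agent.Lib.H71IrredImage

/-!
# Dimensions of the irreducible components of `X_K` (helper71)

`X` locally of finite type over a field `k`, `K/k` a field extension:

* `dim_eq_dim_image`: an irreducible component `T` of `X_K` has the dimension of its image in `X`
  (an irreducible component of `X`);
* `image_dim_irreducibleComponents`: the set of dimensions of irreducible components of `X_K` equals that of `X`.
-/
set_option autoImplicit false
universe u
open CategoryTheory CategoryTheory.Limits AlgebraicGeometry TopologicalSpace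

namespace Groth.Agent.Lib.H71EquiDimSet

open Groth.Agent.Lib.H71EquiDimSch

variable {k : Type u} [Field k] {X : Scheme.{u}} (f : X ⟶ Spec (CommRingCat.of k))
  [LocallyOfFiniteType f] (K : Type u) [Field K] [Algebra k K]

/-- An irreducible component of `X_K` has the same dimension as its image in `X` (which is an
irreducible component of `X`). -/
theorem dim_eq_dim_image (T : Set ↥(pullback f (Spec.map (CommRingCat.ofHom (algebraMap k K)))))
    (hT : T ∈ irreducibleComponents ↥(pullback f (Spec.map (CommRingCat.ofHom (algebraMap k K))))) :
    topologicalKrullDim ↥T = topologicalKrullDim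
      ↥((pullback.fst f (Spec.map (CommRingCat.ofHom (algebraMap k K)))) '' T) := by
  have hTi : IsIrreducible T := hT.1
  have hTc : IsClosed T := isClosed_of_mem_irreducibleComponents T hT
  obtain ⟨w, hw⟩ := QuasiSober.sober hTi hTc
  have hmax : ∀ t : ↥(pullback f (Spec.map (CommRingCat.ofHom (algebraMap k K)))), t ⤳ w → t = w := by
    intro t ht
    have h2 : T ⊆ closure {t} := by
      rw [← hw.def]
      exact closure_minimal (Set.singleton_subset_iff.mpr (specializes_iff_mem_closure.mp ht))
        isClosed_closure
    have h3 := hT.2 isIrreducible_singleton.closure h2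
    have h4 : w ⤳ t := by
      rw [specializes_iff_mem_closure, hw.def]
      exact h3 (subset_closure rfl)
    exact (ht.antisymm h4).eq
  have hZ := Groth.Agent.Lib.H71IrredImage.image_mem_irreducibleComponents K f T hT
  have hZc := isClosed_of_mem_irreducibleComponents _ hZ
  have hwT : w ∈ T := by
    rw [← hw.def]
    exact subset_closure rfl
  have key := dim_closure_eq_of_maximal_over f K _ hZc hZ.1 w ⟨w, hwT, rfl⟩ (fun t _ ht => hmax t ht)
  rw [← key, hw.def]

/-- **S4673**: the dimensions of the irreducible components of `X_K` are those of `X`. -/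
theorem image_dim_irreducibleComponents :
    (fun Z : Set ↥(pullback f (Spec.map (CommRingCat.ofHom (algebraMap k K)))) =>
        topologicalKrullDim ↥Z) ''
      irreducibleComponents ↥(pullback f (Spec.map (CommRingCat.ofHom (algebraMap k K)))) =
    (fun Z : Set ↥X => topologicalKrullDim ↥Z) '' irreducibleComponents ↥X := by
  ext d
  constructor
  · rintro ⟨T, hT, rfl⟩
    exact ⟨_, Groth.Agent.Lib.H71IrredImage.image_mem_irreducibleComponents K f T hT,
      (dim_eq_dim_image f K T hT).symm⟩
  · rintro ⟨Z, hZ, rfl⟩
    obtain ⟨T, hT, hTZ⟩ := Groth.Agent.Lib.H71IrredImage.exists_irreducibleComponent_image_eq K f Z hZ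
    refine ⟨T, hT, ?_⟩
    show topologicalKrullDim ↥T = topologicalKrullDim ↥Z
    rw [dim_eq_dim_image f K T hT, hTZ]

end Groth.Agent.Lib.H71EquiDimSet
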