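/-
helper96: rational sections of unramified morphisms (EGA IV 18.10.x-type), part A:
points of fibre products with trivial residue extension, agreement of morphisms into an unramified
separated scheme.
-/
import Mathlib

set_option autoImplicit false
universe u

open CategoryTheory AlgebraicGeometry Limits

namespace Groth.Agent.Lib.RatSection96

open AlgebraicGeometry.Scheme.Pullback in
/-- If the residue field extension at `T.x` is trivial, the fibre of `X ×[S] Y` over `T` is a
single point. -/
theorem subsingleton_spec_tensor {X Y S : Scheme.{u}} {f : X ⟶ S} {g : Y ⟶ S} (T : Triplet f g)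
    (hbij : Function.Bijective (f.residueFieldMap T.x).hom) : Subsingleton (Spec T.tensor) := by
  have h1 : IsIso (f.residueFieldMap T.x) :=
    (ConcreteCategory.isIso_iff_bijective _).2 hbij
  have h2 : IsIso ((S.residueFieldCongr T.hx).inv ≫ f.residueFieldMap T.x) := inferInstance
  have h3 : IsIso T.tensorInr :=
    (IsPushout.of_hasPushout _ _).isIso_inr_of_isIso h2
  have h4 : IsIso (Spec.map T.tensorInr) := inferInstance
  have hinj : Function.Injective (Spec.map T.tensorInr) :=
    (Spec.map T.tensorInr).homeomorph.injective
  have : Subsingleton (Spec (Y.residueField T.y)) := by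
    change Subsingleton (PrimeSpectrum (Y.residueField T.y))
    infer_instance
  exact hinj.subsingleton

open AlgebraicGeometry.Scheme.Pullback in
/-- Lemma U: a point of a fibre product is determined by its projections if one residue field
extension is trivial. -/
theorem eq_of_fst_eq_of_snd_eq {X Y S : Scheme.{u}} (f : X ⟶ S) (g : Y ⟶ S)
    (p p' : ↑(pullback f g))
    (h1 : pullback.fst f g p = pullback.fst f g p')
    (h2 : pullback.snd f g p = pullback.snd f g p')
    (hbij : Function.Bijective (f.residueFieldMap (pullback.fst f g p')).hom) : p = p' := by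
  apply carrierEquiv.injective
  rw [carrierEquiv_eq_iff]
  have e : Triplet.ofPoint p = Triplet.ofPoint p' := Triplet.ext h1 h2
  refine ⟨e, ?_⟩
  have : Subsingleton (Spec (Triplet.ofPoint p').tensor) :=
    subsingleton_spec_tensor (Triplet.ofPoint p') hbij
  exact @Subsingleton.elim _ this _ _

/-- If `u ≫ f` induces an isomorphism on residue fields at `t`, so does `f` at `u t`. -/
theorem residueFieldMap_bijective_of_comp {T X Y : Scheme.{u}} (u : T ⟶ X) (f : X ⟶ Y) (t : T)
    (h : IsIso ((u ≫ f).residueFieldMap t)) :
    Function.Bijective (f.residueFieldMap (u t)).hom := by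
  rw [Scheme.residueFieldMap_comp] at h
  have hbij : Function.Bijective (f.residueFieldMap (u t) ≫ u.residueFieldMap t).hom :=
    (ConcreteCategory.isIso_iff_bijective _).1 h
  rw [CommRingCat.hom_comp, RingHom.coe_comp] at hbij
  have hinjB : Function.Injective (u.residueFieldMap t).hom := RingHom.injective _
  refine ⟨Function.Injective.of_comp hbij.1, ?_⟩
  intro c
  obtain ⟨a, ha⟩ := hbij.2 ((u.residueFieldMap t).hom c)
  exact ⟨a, hinjB ha⟩

/-- The residue field extension of `f` at a point in the image of a section is trivial. -/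
theorem residueFieldMap_bijective_of_section {X Y : Scheme.{u}} (f : X ⟶ Y) (U : Y.Opens)
    (u : (U : Scheme.{u}) ⟶ X) (hu : u ≫ f = U.ι) (t : U) :
    Function.Bijective (f.residueFieldMap (u t)).hom := by
  apply residueFieldMap_bijective_of_comp u f t
  rw [Scheme.Hom.residueFieldMap_congr hu]
  infer_instance

/-- Lemma Agree: two morphisms into an unramified separated `Y`-scheme from a reduced irreducible
scheme, equal over `Y` and agreeing at the generic point (where the residue field extension is
trivial), are equal. -/
theorem eq_of_eq_at_generic {T X Y : Scheme.{u}} [IsReduced T] (f : X ⟶ Y) [IsSeparated f]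
    [LocallyOfFiniteType f] [FormallyUnramified f] (a b : T ⟶ X) (hab : a ≫ f = b ≫ f) (t₀ : T)
    (ht₀ : ∀ t : T, t₀ ⤳ t) (h0 : a t₀ = b t₀)
    (hbij : Function.Bijective (f.residueFieldMap (a t₀)).hom) : a = b := by
  let c : T ⟶ pullback f f := pullback.lift a b hab
  have hc1 : c ≫ pullback.fst f f = a := pullback.lift_fst _ _ _
  have hc2 : c ≫ pullback.snd f f = b := pullback.lift_snd _ _ _
  let E : T.Opens := c ⁻¹ᵁ (pullback.diagonal f).opensRange
  have ht₀E : t₀ ∈ E := by
    change c t₀ ∈ Set.range (pullback.diagonal f)
    refine ⟨a t₀, ?_⟩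
    have e1 : pullback.fst f f (c t₀) = a t₀ := by
      rw [← Scheme.Hom.comp_apply, hc1]
    have e2 : pullback.snd f f (c t₀) = b t₀ := by
      rw [← Scheme.Hom.comp_apply, hc2]
    apply eq_of_fst_eq_of_snd_eq f f
    · rw [← Scheme.Hom.comp_apply, pullback.diagonal_fst, e1]
      rfl
    · rw [← Scheme.Hom.comp_apply, pullback.diagonal_snd, e2, ← h0]
      rfl
    · rw [e1]
      exact hbij
  have hdom : IsDominant E.ι := by
    refine ⟨?_⟩
    rw [DenseRange, Scheme.Opens.range_ι]
    intro t
    exact closure_mono (Set.singleton_subset_iff.2 ht₀E) (specializes_iff_mem_closure.1 (ht₀ t))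
  have hE : E.ι ≫ a = E.ι ≫ b := by
    have hrange : Set.range (E.ι ≫ c) ⊆ Set.range (pullback.diagonal f) := by
      rintro _ ⟨e, rfl⟩
      exact e.2
    let d := IsOpenImmersion.lift (pullback.diagonal f) (E.ι ≫ c) hrange
    have hd : d ≫ pullback.diagonal f = E.ι ≫ c := IsOpenImmersion.lift_fac _ _ _
    calc E.ι ≫ a = (E.ι ≫ c) ≫ pullback.fst f f := by rw [Category.assoc, hc1]
      _ = d ≫ pullback.diagonal f ≫ pullback.fst f f := by rw [← hd, Category.assoc]
      _ = d ≫ pullback.diagonal f ≫ pullback.snd f f := by
        rw [pullback.diagonal_fst, pullback.diagonal_snd]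
      _ = (E.ι ≫ c) ≫ pullback.snd f f := by rw [← hd, Category.assoc]
      _ = E.ι ≫ b := by rw [Category.assoc, hc2]
  exact ext_of_isDominant_of_isSeparated f hab E.ι hE

end Groth.Agent.Lib.RatSection96
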