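/-
helper96: EGA IV 18.10.2/18.10.3-type consequences: local versions and étale cancellation at a point.
-/
import Groth.Agent.Lib.UnramGeomUnibranchInt96
import Groth.Agent.Lib.SrcLocal2

set_option autoImplicit false
universe u

open CategoryTheory AlgebraicGeometry IsLocalRing

namespace Groth.Agent.Lib.UnramGeomUnibranchSch96

/-- Transfer an étale neighbourhood inside an open subscheme to the ambient scheme. -/
theorem exists_etale_nhd_of_opens {X Y : Scheme.{u}} (f : X ⟶ Y) (U₀ : X.Opens) (x : X)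
    (hx : x ∈ U₀)
    (h : ∃ U' : U₀.toScheme.Opens, (⟨x, hx⟩ : U₀) ∈ U' ∧ Etale (U'.ι ≫ U₀.ι ≫ f)) :
    ∃ U : X.Opens, x ∈ U ∧ Etale (U.ι ≫ f) := by
  obtain ⟨U', hxU', hU'⟩ := h
  refine ⟨U₀.ι ''ᵁ U', ⟨⟨x, hx⟩, hxU', rfl⟩, ?_⟩
  rw [← Scheme.Hom.isoImage_inv_ι U₀.ι U', Category.assoc, Category.assoc]
  infer_instance

/-- Version of `exists_etale_nhd_of_stalk_of_isIntegral` where `f` is only assumed to be locally of
finite type and formally unramified near `x`. -/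
theorem exists_etale_nhd_of_isIntegral {X Y : Scheme.{u}} (f : X ⟶ Y) [IsIntegral Y] (x : X)
    (hY : CAlg2.IsGeomUnibranch (Y.presheaf.stalk (f x)))
    (hsp : ∃ x' : X, x' ⤳ x ∧ f x' = genericPoint ↑Y)
    (hunr : ∃ U : X.Opens, x ∈ U ∧ LocallyOfFiniteType (U.ι ≫ f) ∧ FormallyUnramified (U.ι ≫ f)) :
    ∃ U : X.Opens, x ∈ U ∧ Etale (U.ι ≫ f) := by
  obtain ⟨U₀, hx, hlft, hfu⟩ := hunr
  obtain ⟨x', hx'x, hx'⟩ := hsp
  have hx'U : x' ∈ U₀ := hx'x.mem_open U₀.isOpen hx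
  apply exists_etale_nhd_of_opens f U₀ x hx
  have hunr' : ((U₀.ι ≫ f).stalkMap ⟨x, hx⟩).hom.FormallyUnramified :=
    FormallyUnramified.stalkMap (U₀.ι ≫ f) ⟨x, hx⟩
  have hsp' : (⟨x', hx'U⟩ : U₀) ⤳ ⟨x, hx⟩ := (subtype_specializes_iff _ _).2 hx'x
  have hinj := stalkMap_injective_of_specializes (U₀.ι ≫ f) ⟨x, hx⟩ ⟨x', hx'U⟩ hsp' hx'
  exact exists_etale_nhd_of_stalk_of_isIntegral (U₀.ι ≫ f) ⟨x, hx⟩ hY hunr' hinj

/-- Étale cancellation at a point: if `f` and `f ≫ g` are étale near `x` then `g` is étale near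
`f x`. -/
theorem exists_etale_nhd_target_of_comp {X Y Z : Scheme.{u}} (f : X ⟶ Y) (g : Y ⟶ Z) (x : X)
    (hf : ∃ U : X.Opens, x ∈ U ∧ Etale (U.ι ≫ f))
    (hfg : ∃ U : X.Opens, x ∈ U ∧ Etale (U.ι ≫ f ≫ g)) :
    ∃ V : Y.Opens, f x ∈ V ∧ Etale (V.ι ≫ g) := by
  obtain ⟨W₁, hx₁, hW₁⟩ := hf
  obtain ⟨W₂, hx₂, hW₂⟩ := hfg
  let W := W₁ ⊓ W₂
  have hxW : x ∈ W := ⟨hx₁, hx₂⟩
  have h1 : Etale (W.ι ≫ f) := by
    rw [← X.homOfLE_ι (inf_le_left : W ≤ W₁), Category.assoc]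
    infer_instance
  have h2 : Etale (W.ι ≫ f ≫ g) := by
    rw [← X.homOfLE_ι (inf_le_right : W ≤ W₂), Category.assoc]
    infer_instance
  let φ : W.toScheme ⟶ Y := W.ι ≫ f
  let V : Y.Opens := ⟨Set.range φ, φ.isOpenMap.isOpen_range⟩
  refine ⟨V, ⟨⟨x, hxW⟩, rfl⟩, ?_⟩
  have hp : Etale (φ ∣_ V) := inferInstance
  have hsurj : Surjective (φ ∣_ V) := by
    refine ⟨fun v => ?_⟩
    obtain ⟨w, hw⟩ := v.2
    have hwV : w ∈ φ ⁻¹ᵁ V := ⟨w, rfl⟩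
    refine ⟨⟨w, hwV⟩, ?_⟩
    apply Subtype.ext
    exact (morphismRestrict_base_coe φ V ⟨w, hwV⟩).trans hw
  have hcomp : Etale ((φ ∣_ V) ≫ V.ι ≫ g) := by
    rw [morphismRestrict_ι_assoc]
    have : Etale (φ ≫ g) := by
      change Etale ((W.ι ≫ f) ≫ g)
      rw [Category.assoc]
      exact h2
    infer_instance
  exact Groth.Agent.Lib.SrcLocal.sourceEtLocal_etale (φ ∣_ V) (V.ι ≫ g) hp hsurj hcomp

end Groth.Agent.Lib.UnramGeomUnibranchSch96
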