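/-
helper96: rational sections of unramified morphisms, part B: over an integral base, a separated
unramified morphism is an open immersion near a specialization (over a geometrically unibranch
point) of a generic-fibre point with trivial residue extension.
-/
import Mathlib
import Groth.Agent.Lib.RatSection96A
import Groth.Agent.Lib.UnramGeomUnibranchGlobal96
import Groth.Agent.Lib.UnramGeomUnibranchComp96
import Groth.Agent.Lib.EtaleLocGeomUnibranchSch96

set_option autoImplicit false
universe u

open CategoryTheory AlgebraicGeometry Limits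

namespace Groth.Agent.Lib.RatSection96

open Groth.Agent.Lib.UnramGeomUnibranchSch96

/-- Lemma E': étale near `x`, one generic-fibre point `ξ ⤳ x` with trivial residue extension and
a domain stalk at `x` ⇒ open immersion near `x`. -/
theorem exists_isOpenImmersion_nhd_of_etale {X Y : Scheme.{u}} [IsIntegral Y] (f : X ⟶ Y)
    [IsSeparated f] [LocallyOfFiniteType f] [FormallyUnramified f] (x ξ : X) (hξx : ξ ⤳ x)
    (hξ : f ξ = genericPoint Y) (hres : Function.Bijective (f.residueFieldMap ξ).hom)
    [IsDomain (X.presheaf.stalk x)] (W₀ : X.Opens) (hxW₀ : x ∈ W₀) (hW₀ : Etale (W₀.ι ≫ f)) :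
    ∃ W : X.Opens, x ∈ W ∧ IsOpenImmersion (W.ι ≫ f) := by
  have hlqf : LocallyQuasiFinite f := locallyQuasiFinite_of_unramified f
  obtain ⟨N, hNopen, hxN, hfin⟩ := exists_open_finite_fibre f (genericPoint Y) x
  let F : Set X := f ⁻¹' {genericPoint Y} ∩ N
  let C : Set X := ⋃ ζ ∈ F \ {ξ}, closure {ζ}
  have hCclosed : IsClosed C :=
    (hfin.subset Set.sdiff_subset).isClosed_biUnion fun _ _ => isClosed_closure
  have hxC : x ∉ C := by
    intro hx
    simp only [C, Set.mem_iUnion, exists_prop] at hx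
    obtain ⟨ζ, ⟨hζF, hζne⟩, hζx⟩ := hx
    have hζx' : ζ ⤳ x := specializes_iff_mem_closure.2 hζx
    exact hζne (eq_of_specializes_of_isDomain f x ζ ξ hζF.1 hξ hζx' hξx)
  let W : X.Opens := W₀ ⊓ ⟨N, hNopen⟩ ⊓ ⟨Cᶜ, hCclosed.isOpen_compl⟩
  have hxW : x ∈ W := ⟨⟨hxW₀, hxN⟩, hxC⟩
  have hξW : ξ ∈ W := hξx.mem_open W.isOpen hxW
  -- every point of `W` is a specialization of `ξ`
  have hspec : ∀ z ∈ W, ξ ⤳ z := by
    intro z hz
    have hgen := Flat.generalizingMap (f := W₀.ι ≫ f)
    obtain ⟨z', hz'z, hfz'⟩ := hgen (a := ⟨z, hz.1.1⟩)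
      (genericPoint_specializes ((W₀.ι ≫ f) ⟨z, hz.1.1⟩))
    have hz'z' : z'.1 ⤳ z := (subtype_specializes_iff _ _).1 hz'z
    have hz'N : z'.1 ∈ N := hz'z'.mem_open hNopen hz.1.2
    have hz'F : z'.1 ∈ F := ⟨hfz', hz'N⟩
    by_cases h : z'.1 = ξ
    · rw [← h]; exact hz'z'
    · exfalso
      apply hz.2
      simp only [C, Set.mem_iUnion, exists_prop]
      exact ⟨z'.1, ⟨hz'F, h⟩, specializes_iff_mem_closure.1 hz'z'⟩
  let g : W.toScheme ⟶ Y := W.ι ≫ f
  have hWW₀ : W ≤ W₀ := fun z hz => hz.1.1
  have hg_et : Etale g := by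
    change Etale (W.ι ≫ f)
    rw [← X.homOfLE_ι hWW₀, Category.assoc]
    infer_instance
  let ξ₁ : W.toScheme := ⟨ξ, hξW⟩
  have hres_g : Function.Bijective (g.residueFieldMap ξ₁).hom := by
    change Function.Bijective ((W.ι ≫ f).residueFieldMap ξ₁).hom
    rw [Scheme.residueFieldMap_comp]
    change Function.Bijective
      ((W.ι.residueFieldMap ξ₁).hom ∘ (f.residueFieldMap (W.ι ξ₁)).hom)
    refine Function.Bijective.comp ?_ hres
    exact (ConcreteCategory.isIso_iff_bijective _).1 inferInstance
  have hsurj : Surjective (pullback.diagonal g) := by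
    refine ⟨fun p => ?_⟩
    have hgen := Flat.generalizingMap (f := pullback.fst g g)
    have h1 : ξ₁ ⤳ pullback.fst g g p :=
      (subtype_specializes_iff _ _).2 (hspec _ (pullback.fst g g p).2)
    obtain ⟨p', hp'p, hfp'⟩ := hgen (a := p) h1
    have hsnd : pullback.snd g g p' = ξ₁ := by
      have hg2 : g (pullback.snd g g p') = genericPoint Y := by
        rw [← Scheme.Hom.comp_apply, ← pullback.condition, Scheme.Hom.comp_apply, hfp']
        exact hξ
      have := eq_of_specializes_mem_genFibre f ξ (pullback.snd g g p').1 hg2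
        (hspec _ (pullback.snd g g p').2)
      exact (Subtype.ext this).symm
    have hp' : pullback.diagonal g ξ₁ = p' := by
      apply eq_of_fst_eq_of_snd_eq g g
      · rw [← Scheme.Hom.comp_apply, pullback.diagonal_fst, hfp']; rfl
      · rw [← Scheme.Hom.comp_apply, pullback.diagonal_snd, hsnd]; rfl
      · rw [hfp']; exact hres_g
    have hclosed : IsClosed (Set.range (pullback.diagonal g)) :=
      (pullback.diagonal g).isClosedEmbedding.isClosed_range
    exact hp'p.mem_closed hclosed ⟨ξ₁, hp'⟩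
  have hiso : IsIso (pullback.diagonal g) := by
    apply isIso_of_isOpenImmersion_of_opensRange_eq_top
    rw [eq_top_iff]
    intro p _
    exact (pullback.diagonal g).surjective p
  have hmono : Mono g := (pullback.isIso_diagonal_iff g).1 hiso
  exact ⟨W, hxW, IsOpenImmersion.of_flat_of_mono g⟩

/-- Theorem B: over an integral base, a separated unramified morphism is an open immersion near
any point `x` over a geometrically unibranch point which is a specialization of a point `ξ` of the
generic fibre with trivial residue field extension. -/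
theorem exists_isOpenImmersion_nhd_of_isIntegral {X Y : Scheme.{u}} [IsIntegral Y] (f : X ⟶ Y)
    [IsSeparated f] [LocallyOfFiniteType f] [FormallyUnramified f] (x ξ : X) (hξx : ξ ⤳ x)
    (hξ : f ξ = genericPoint Y) (hres : Function.Bijective (f.residueFieldMap ξ).hom)
    (hy : CAlg2.IsGeomUnibranch (Y.presheaf.stalk (f x))) :
    ∃ W : X.Opens, x ∈ W ∧ IsOpenImmersion (W.ι ≫ f) := by
  have hfu : FormallyUnramified ((⊤ : X.Opens).ι ≫ f) :=
    MorphismProperty.comp_mem _ _ _ (inferInstance : FormallyUnramified (⊤ : X.Opens).ι) ‹_›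
  obtain ⟨W₀, hxW₀, hW₀⟩ := exists_etale_nhd_of_isIntegral f x hy ⟨ξ, hξx, hξ⟩
    ⟨⊤, trivial, inferInstance, hfu⟩
  have hdom : IsDomain (Y.presheaf.stalk (f x)) := inferInstance
  obtain ⟨h1, -⟩ := isDomain_and_isGeomUnibranch_stalk_of_etale f x hdom hy ⟨W₀, hxW₀, hW₀⟩
  exact exists_isOpenImmersion_nhd_of_etale f x ξ hξx hξ hres W₀ hxW₀ hW₀

end Groth.Agent.Lib.RatSection96
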