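/-
helper96: rational sections of unramified morphisms, part C: irreducible open neighbourhoods from
local finiteness of the irreducible components; the extension theorem for sections (EGA IV
18.10.x-type): a section over a dense open extends near geometrically unibranch points over which
the closure of its image has a point.
-/
import Mathlib
import Groth.Agent.Lib.RatSection96B
import Groth.Agent.Lib.EquiUnivOpen96B
import Groth.Agent.Lib.EtaleIrredComp96
import Groth.Agent.Lib.H80QuasiSec3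

set_option autoImplicit false
universe u

open CategoryTheory AlgebraicGeometry Limits

namespace Groth.Agent.Lib.RatSection96

open Groth.Agent.Lib.UniqueComp45

/-- In a quasi-sober space whose irreducible components form a locally finite family, a point on a
unique irreducible component has an open neighbourhood with a generic point. -/
theorem exists_open_nhd_generic_of_locallyFinite {X : Type*} [TopologicalSpace X] [QuasiSober X]
    (hcomp : LocallyFinite (fun Z : ↥(irreducibleComponents X) => (Z : Set X))) (y : X)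
    (hy : UniqueComp y) :
    ∃ V : Set X, IsOpen V ∧ y ∈ V ∧ ∃ η ∈ V, ∀ z ∈ V, η ⤳ z := by
  obtain ⟨t, ht, hfin⟩ := hcomp y
  obtain ⟨W, hWt, hWopen, hyW⟩ := mem_nhds_iff.1 ht
  -- the union of the components meeting `W` and not containing `y`
  let I : Set ↥(irreducibleComponents X) := {Z | ((Z : Set X) ∩ t).Nonempty ∧ y ∉ (Z : Set X)}
  have hIfin : I.Finite := hfin.subset fun Z hZ => hZ.1
  let C : Set X := ⋃ Z ∈ I, (Z : Set X)
  have hCcl : IsClosed C :=
    hIfin.isClosed_biUnion fun Z _ => isClosed_of_mem_irreducibleComponents _ Z.2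
  have hmemC : ∀ z : X, z ∈ W → (z ∈ C ↔ ∃ Z ∈ irreducibleComponents X, y ∉ Z ∧ z ∈ Z) := by
    intro z hzW
    simp only [C, I, Set.mem_iUnion, exists_prop, Set.mem_ofPred_eq]
    constructor
    · rintro ⟨Z, ⟨-, hyZ⟩, hzZ⟩
      exact ⟨Z.1, Z.2, hyZ, hzZ⟩
    · rintro ⟨Z, hZ, hyZ, hzZ⟩
      exact ⟨⟨Z, hZ⟩, ⟨⟨z, hzZ, hWt hzW⟩, hyZ⟩, hzZ⟩
  obtain ⟨η, hη⟩ := QuasiSober.sober (isIrreducible_irreducibleComponent (x := y))
    isClosed_irreducibleComponent
  have hηy : η ⤳ y := hη.specializes mem_irreducibleComponent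
  have hηW : η ∈ W := hηy.mem_open hWopen hyW
  refine ⟨W ∩ Cᶜ, hWopen.inter hCcl.isOpen_compl, ⟨hyW, ?_⟩, η, ⟨hηW, ?_⟩, ?_⟩
  · rw [Set.mem_compl_iff, hmemC y hyW]
    rintro ⟨Z, -, hyZ, hyZ'⟩
    exact hyZ hyZ'
  · rw [Set.mem_compl_iff, hmemC η hηW]
    rintro ⟨Z, hZ, hyZ, hηZ⟩
    have h1 : irreducibleComponent y ⊆ Z := by
      rw [← hη.def]
      exact (isClosed_of_mem_irreducibleComponents _ hZ).closure_subset_iff.mpr
        (Set.singleton_subset_iff.mpr hηZ)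
    exact hyZ (h1 mem_irreducibleComponent)
  · rintro z ⟨hzW, hz⟩
    rw [Set.mem_compl_iff, hmemC z hzW] at hz
    have hyz : y ∈ irreducibleComponent z := by
      by_contra hcon
      exact hz ⟨_, irreducibleComponent_mem_irreducibleComponents z, hcon, mem_irreducibleComponent⟩
    have heq : irreducibleComponent z = irreducibleComponent y :=
      hy.eq_irreducibleComponent (irreducibleComponent_mem_irreducibleComponents z) hyz
    have hzmem : z ∈ irreducibleComponent y := heq ▸ mem_irreducibleComponent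
    exact hη.specializes hzmem

open Groth.Agent.Lib.UnramGeomUnibranch96 in
/-- Main local statement: near a point `x` in the closure of the image of a section, lying over a
geometrically unibranch point, `f` is an open immersion. -/
theorem exists_isOpenImmersion_nhd {X Y : Scheme.{u}} [IsReduced Y]
    (hcomp : LocallyFinite (fun Z : ↥(irreducibleComponents ↥Y) => (Z : Set ↥Y)))
    (f : X ⟶ Y) [IsSeparated f] [LocallyOfFiniteType f] [FormallyUnramified f]
    (U : Y.Opens) (hU : Dense (U : Set ↥Y)) (u : (U : Scheme.{u}) ⟶ X) (hu : u ≫ f = U.ι)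
    (x : X) (hx : x ∈ closure (Set.range u))
    (hy : CAlg2.IsGeomUnibranch (Y.presheaf.stalk (f x))) :
    ∃ (V₀ : Y.Opens) (η₀ : Y) (hη₀U : η₀ ∈ U) (W : X.Opens), f x ∈ V₀ ∧ η₀ ∈ V₀ ∧
      (∀ z ∈ V₀, η₀ ⤳ z) ∧ x ∈ W ∧ W ≤ f ⁻¹ᵁ V₀ ∧ u ⟨η₀, hη₀U⟩ ∈ W ∧
      IsOpenImmersion (W.ι ≫ f) := by
  have hnil := isPrime_nilradical_of_isGeomUnibranch hy
  obtain ⟨V, hVopen, hyV, η₀, hη₀V, hspec⟩ := exists_open_nhd_generic_of_locallyFinite hcomp (f x)
    (Groth.Agent.Lib.EquiUnivOpen96.uniqueComp_of_isPrime_nilradical_stalk (f x) hnil)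
  let V₀ : Y.Opens := ⟨V, hVopen⟩
  have hη₀U : η₀ ∈ U := by
    obtain ⟨z, hzV, hzU⟩ := hU.inter_open_nonempty V hVopen ⟨f x, hyV⟩
    exact (hspec z hzV).mem_open U.isOpen hzU
  have hfu : ∀ t : U, f (u t) = t.1 := by
    intro t
    rw [← Scheme.Hom.comp_apply, hu]
    rfl
  let ηU : U.toScheme := ⟨η₀, hη₀U⟩
  let ξ : X := u ηU
  have hfξ : f ξ = η₀ := hfu ηU
  have hξx : ξ ⤳ x := by
    rw [specializes_iff_forall_open]
    intro O hO hxO
    obtain ⟨_, ⟨hzO, hzV⟩, ⟨t, rfl⟩⟩ := mem_closure_iff.1 hx (O ∩ f ⁻¹' V)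
      (hO.inter (hVopen.preimage f.continuous)) ⟨hxO, hyV⟩
    have hzV' : t.1 ∈ V := by
      rw [← hfu t]; exact hzV
    have h1 : ηU ⤳ t := (subtype_specializes_iff _ _).2 (hspec _ hzV')
    exact (h1.map u.continuous).mem_open hO hzO
  -- the integral open subscheme `V₀`
  let ηV : V₀.toScheme := ⟨η₀, hη₀V⟩
  have hirr : IrreducibleSpace V₀.toScheme :=
    Groth.Agent.Lib.H80QuasiSec.irreducibleSpace_of_forall_specializes ηV
      (fun z => (subtype_specializes_iff _ _).2 (hspec z.1 z.2))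
  have hint : IsIntegral V₀.toScheme := isIntegral_of_irreducibleSpace_of_isReduced _
  have hgen : genericPoint V₀.toScheme = ηV :=
    ((genericPoint_specializes ηV).antisymm
      ((subtype_specializes_iff _ _).2 (hspec _ (genericPoint V₀.toScheme).2))).eq
  let X₀ : X.Opens := f ⁻¹ᵁ V₀
  let f₀ : X₀.toScheme ⟶ V₀.toScheme := f ∣_ V₀
  have hfu₀ : FormallyUnramified f₀ :=
    MorphismProperty.of_isPullback (isPullback_morphismRestrict f V₀).flip ‹_›
  have hsep₀ : IsSeparated f₀ := inferInstance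
  have hlft₀ : LocallyOfFiniteType f₀ := inferInstance
  let x₀ : X₀.toScheme := ⟨x, hyV⟩
  have hξV : ξ ∈ X₀ := by
    change f ξ ∈ V
    rw [hfξ]; exact hη₀V
  let ξ₀ : X₀.toScheme := ⟨ξ, hξV⟩
  have hξ₀x₀ : ξ₀ ⤳ x₀ := (subtype_specializes_iff _ _).2 hξx
  have hf₀ξ₀ : f₀ ξ₀ = genericPoint V₀.toScheme := by
    rw [hgen]
    apply Subtype.ext
    exact (morphismRestrict_base_coe f V₀ ξ₀).trans hfξ
  have hres : IsIso (f.residueFieldMap ξ) :=
    (ConcreteCategory.isIso_iff_bijective _).2 (residueFieldMap_bijective_of_section f U u hu ηU)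
  have hres₀ : Function.Bijective (f₀.residueFieldMap ξ₀).hom := by
    rw [← ConcreteCategory.isIso_iff_bijective]
    have h1 := Scheme.Hom.residueFieldMap_congr (morphismRestrict_ι f V₀) ξ₀
    rw [Scheme.residueFieldMap_comp, Scheme.residueFieldMap_comp] at h1
    have h2 : IsIso (V₀.ι.residueFieldMap (f₀ ξ₀) ≫ f₀.residueFieldMap ξ₀) := by
      rw [h1]
      have h3 : IsIso (f.residueFieldMap (X₀.ι ξ₀)) := hres
      have h4 : IsIso (f.residueFieldMap (X₀.ι ξ₀) ≫ X₀.ι.residueFieldMap ξ₀) := inferInstance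
      exact IsIso.comp_isIso' inferInstance h4
    exact IsIso.of_isIso_comp_left (V₀.ι.residueFieldMap (f₀ ξ₀)) _
  have hy₀ : CAlg2.IsGeomUnibranch (V₀.toScheme.presheaf.stalk (f₀ x₀)) := by
    have e : V₀.ι (f₀ x₀) = f x := morphismRestrict_base_coe f V₀ x₀
    have hy' : CAlg2.IsGeomUnibranch (Y.presheaf.stalk (V₀.ι (f₀ x₀))) := e ▸ hy
    exact Groth.Agent.Lib.GeomUnibranchEquiv96.isGeomUnibranch_of_ringEquiv
      (asIso (V₀.ι.stalkMap (f₀ x₀))).commRingCatIsoToRingEquiv.symm hy'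
  obtain ⟨W₁, hx₀W₁, hW₁⟩ :=
    exists_isOpenImmersion_nhd_of_isIntegral f₀ x₀ ξ₀ hξ₀x₀ hf₀ξ₀ hres₀ hy₀
  let W : X.Opens := X₀.ι ''ᵁ W₁
  have hxW : x ∈ W := ⟨x₀, hx₀W₁, rfl⟩
  have hWX₀ : W ≤ X₀ := by
    rintro _ ⟨w, -, rfl⟩
    exact w.2
  have hopen : IsOpenImmersion (W.ι ≫ f) := by
    have h1 : W.ι ≫ f = (X₀.ι.isoImage W₁).inv ≫ (W₁.ι ≫ f₀) ≫ V₀.ι := by
      rw [Category.assoc, morphismRestrict_ι, ← Scheme.Hom.isoImage_inv_ι_assoc X₀.ι W₁]
    rw [h1]
    infer_instance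
  exact ⟨V₀, η₀, hη₀U, W, hyV, hη₀V, hspec, hxW, hWX₀, hξx.mem_open W.isOpen hxW, hopen⟩

/-- A section `u` over a dense open extends near the image `f x` of any point `x` of the closure
of `u(U)` at which the local ring of `Y` is geometrically unibranch. -/
theorem exists_section_nhd {X Y : Scheme.{u}} [IsReduced Y]
    (hcomp : LocallyFinite (fun Z : ↥(irreducibleComponents ↥Y) => (Z : Set ↥Y)))
    (f : X ⟶ Y) [IsSeparated f] [LocallyOfFiniteType f] [FormallyUnramified f]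
    (U : Y.Opens) (hU : Dense (U : Set ↥Y)) (u : (U : Scheme.{u}) ⟶ X) (hu : u ≫ f = U.ι)
    (x : X) (hx : x ∈ closure (Set.range u))
    (hy : CAlg2.IsGeomUnibranch (Y.presheaf.stalk (f x))) :
    ∃ (V : Y.Opens) (v : (V : Scheme.{u}) ⟶ X), f x ∈ V ∧ v ≫ f = V.ι ∧
      Y.homOfLE (inf_le_left : U ⊓ V ≤ U) ≫ u = Y.homOfLE (inf_le_right : U ⊓ V ≤ V) ≫ v := by
  obtain ⟨V₀, η₀, hη₀U, W, hyV₀, hη₀V₀, hspec, hxW, hWV₀, hξW, hopen⟩ :=
    exists_isOpenImmersion_nhd hcomp f U hU u hu x hx hy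
  let g : W.toScheme ⟶ Y := W.ι ≫ f
  have hg : IsOpenImmersion g := hopen
  let V : Y.Opens := g.opensRange
  let v : V.toScheme ⟶ X := g.isoOpensRange.inv ≫ W.ι
  have hv : v ≫ f = V.ι := by
    change (g.isoOpensRange.inv ≫ W.ι) ≫ f = g.opensRange.ι
    rw [Category.assoc]
    exact Scheme.Hom.isoOpensRange_inv_comp g
  have hyV : f x ∈ V := ⟨⟨x, hxW⟩, rfl⟩
  refine ⟨V, v, hyV, hv, ?_⟩
  have hfu : ∀ t : U, f (u t) = t.1 := by
    intro t
    rw [← Scheme.Hom.comp_apply, hu]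
    rfl
  have hVV₀ : V ≤ V₀ := by
    rintro _ ⟨w, rfl⟩
    exact hWV₀ w.2
  let ξ₁ : W.toScheme := ⟨u ⟨η₀, hη₀U⟩, hξW⟩
  have hgξ₁ : g ξ₁ = η₀ := hfu ⟨η₀, hη₀U⟩
  have hη₀V : η₀ ∈ V := ⟨ξ₁, hgξ₁⟩
  let t₀ : (U ⊓ V).toScheme := ⟨η₀, hη₀U, hη₀V⟩
  have ht₀ : ∀ t : (U ⊓ V).toScheme, t₀ ⤳ t := fun t =>
    (subtype_specializes_iff _ _).2 (hspec t.1 (hVV₀ t.2.2))
  have ha : (Y.homOfLE (inf_le_left : U ⊓ V ≤ U) ≫ u) t₀ = u ⟨η₀, hη₀U⟩ := by
    rw [Scheme.Hom.comp_apply, Scheme.homOfLE_apply']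
  apply eq_of_eq_at_generic f _ _ _ t₀ ht₀
  · rw [ha, Scheme.Hom.comp_apply, Scheme.homOfLE_apply']
    change _ = W.ι (g.isoOpensRange.inv ⟨η₀, hη₀V⟩)
    have h1 : g (g.isoOpensRange.inv ⟨η₀, hη₀V⟩) = η₀ := by
      rw [← Scheme.Hom.comp_apply, Scheme.Hom.isoOpensRange_inv_comp]
      rfl
    have h2 : g.isoOpensRange.inv ⟨η₀, hη₀V⟩ = ξ₁ :=
      g.isOpenEmbedding.injective (h1.trans hgξ₁.symm)
    rw [h2]
    rfl
  · rw [ha]
    exact residueFieldMap_bijective_of_section f U u hu _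
  · rw [Category.assoc, Category.assoc, hu, hv, Scheme.homOfLE_ι, Scheme.homOfLE_ι]

end Groth.Agent.Lib.RatSection96
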