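/-
helper96: rational sections of unramified morphisms, part D: images of sections over an open
(open for unramified morphisms; closed in the preimage of the open for separated morphisms).
-/
import Mathlib
import Groth.Agent.Lib.RatSection96C

set_option autoImplicit false
universe u

open CategoryTheory AlgebraicGeometry Limits

namespace Groth.Agent.Lib.RatSection96

/-- If `σ ≫ p` is an open immersion and `p` is unramified, then `σ` is an open immersion. -/
theorem isOpenImmersion_of_comp_isOpenImmersion {W Y T : Scheme.{u}} (p : W ⟶ Y)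
    [FormallyUnramified p] [LocallyOfFiniteType p] (σ : T ⟶ W) [IsOpenImmersion (σ ≫ p)] :
    IsOpenImmersion σ := by
  set gr : T ⟶ pullback (σ ≫ p) p := pullback.lift (𝟙 T) σ (by simp) with hgr
  have h1 : σ = gr ≫ pullback.snd _ _ := (pullback.lift_snd _ _ _).symm
  have h2 : IsOpenImmersion gr :=
    MorphismProperty.of_isPullback (P := @IsOpenImmersion)
      (pullback_lift_diagonal_isPullback σ p) inferInstance
  have h4 : IsOpenImmersion (pullback.snd (σ ≫ p) p) := inferInstance
  rw [h1]
  infer_instance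

/-- The image of a section over an open `U` of an unramified morphism is open. -/
theorem isOpen_range_section {X Y : Scheme.{u}} (f : X ⟶ Y) [LocallyOfFiniteType f]
    [FormallyUnramified f] (U : Y.Opens) (u : (U : Scheme.{u}) ⟶ X) (hu : u ≫ f = U.ι) :
    IsOpen (Set.range u) := by
  have : IsOpenImmersion (u ≫ f) := hu ▸ inferInstance
  have := isOpenImmersion_of_comp_isOpenImmersion f u
  exact u.isOpenEmbedding.isOpen_range

/-- The image of a section over an open `U` of a separated morphism is closed in `f⁻¹(U)`. -/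
theorem mem_range_of_mem_closure_of_mem {X Y : Scheme.{u}} (f : X ⟶ Y) [IsSeparated f]
    (U : Y.Opens) (u : (U : Scheme.{u}) ⟶ X) (hu : u ≫ f = U.ι) (x : X)
    (hx : x ∈ closure (Set.range u)) (hfx : f x ∈ U) : x ∈ Set.range u := by
  have hfu : ∀ t : U, f (u t) = t.1 := by
    intro t
    rw [← Scheme.Hom.comp_apply, hu]
    rfl
  have hrange : Set.range u ⊆ Set.range (f ⁻¹ᵁ U).ι := by
    rintro _ ⟨t, rfl⟩
    rw [Scheme.Opens.range_ι]
    change f (u t) ∈ U
    rw [hfu t]
    exact t.2
  let u' : U.toScheme ⟶ (f ⁻¹ᵁ U).toScheme := IsOpenImmersion.lift (f ⁻¹ᵁ U).ι u hrange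
  have hu' : u' ≫ (f ⁻¹ᵁ U).ι = u := IsOpenImmersion.lift_fac _ _ _
  have hsec : u' ≫ (f ∣_ U) = 𝟙 _ := by
    rw [← cancel_mono U.ι, Category.assoc, morphismRestrict_ι, ← Category.assoc, hu', hu,
      Category.id_comp]
  have h1 : IsClosedImmersion (u' ≫ (f ∣_ U)) := by
    rw [hsec]; infer_instance
  have h2 : IsClosedImmersion u' := IsClosedImmersion.of_comp u' (f ∣_ U)
  have hcl : IsClosed (Set.range u') := u'.isClosedEmbedding.isClosed_range
  let x' : (f ⁻¹ᵁ U).toScheme := ⟨x, hfx⟩
  have himage : Subtype.val '' (Set.range u') = Set.range u := by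
    rw [← Set.range_comp]
    congr 1
    ext t
    change ((f ⁻¹ᵁ U).ι (u' t)) = u t
    rw [← Scheme.Hom.comp_apply, hu']
  have hx' : x' ∈ closure (Set.range u') := by
    refine (closure_subtype (x := x') (s := Set.range u')).2 ?_
    rw [himage]
    exact hx
  rw [hcl.closure_eq] at hx'
  obtain ⟨t, ht⟩ := hx'
  refine ⟨t, ?_⟩
  rw [← hu', Scheme.Hom.comp_apply, ht]
  rfl

end Groth.Agent.Lib.RatSection96
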