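import Mathlib
import Groth.Prelude
import Groth.Agent.Lib.GrpHomSmooth45
import Groth.Agent.Lib.DiagDescent27b
import Groth.Agent.Lib.UnramifiedLocusBC
import Groth.Agent.Lib.QuasiFiniteAtBC
import Groth.Agent.Lib.FiberClosed
import Groth.Agent.Lib.GrpDiag91
import Groth.Agent.Lib.RatSection96D

set_option autoImplicit false
universe u

open CategoryTheory CategoryTheory.Limits MonoidalCategory CartesianMonoidalCategory MonObj GrpObj
  AlgebraicGeometry

namespace Groth.Agent.Lib.H71KerCrit

variable {S : Scheme.{u}}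

/-- A pointwise version `Pat` of a morphism property `P`, compatible with base change. -/
structure PtProp (P : MorphismProperty Scheme.{u})
    (Pat : ∀ ⦃X Y : Scheme.{u}⦄ (_ : X ⟶ Y), X → Prop) : Prop where
  bc : ∀ {P' X Y Z : Scheme.{u}} {fst : P' ⟶ X} {snd : P' ⟶ Y} {f : X ⟶ Z} {g : Y ⟶ Z},
    IsPullback fst snd f g → LocallyOfFiniteType f → ∀ p : P', Pat snd p ↔ Pat f (fst p)
  loc : ∀ {X Y : Scheme.{u}} (f : X ⟶ Y), LocallyOfFiniteType f → (P f ↔ ∀ x, Pat f x)

variable {P : MorphismProperty Scheme.{u}} {Pat : ∀ ⦃X Y : Scheme.{u}⦄ (_ : X ⟶ Y), X → Prop}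

theorem PtProp.of_isPullback (h : PtProp P Pat) {P' X Y Z : Scheme.{u}} {fst : P' ⟶ X}
    {snd : P' ⟶ Y} {f : X ⟶ Z} {g : Y ⟶ Z} (sq : IsPullback fst snd f g)
    [LocallyOfFiniteType f] (hf : P f) : P snd := by
  have : LocallyOfFiniteType snd := MorphismProperty.of_isPullback sq inferInstance
  rw [h.loc snd this]
  intro p
  rw [h.bc sq inferInstance p]
  exact (h.loc f inferInstance).mp hf _

theorem PtProp.of_isPullback_of_surjective (h : PtProp P Pat) {P' X Y Z : Scheme.{u}}
    {fst : P' ⟶ X} {snd : P' ⟶ Y} {f : X ⟶ Z} {g : Y ⟶ Z} (sq : IsPullback fst snd f g)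
    [LocallyOfFiniteType f] (hs : Function.Surjective fst.base) (hsnd : P snd) : P f := by
  have : LocallyOfFiniteType snd := MorphismProperty.of_isPullback sq inferInstance
  rw [h.loc f inferInstance]
  intro x
  obtain ⟨p, rfl⟩ := hs x
  rw [← h.bc sq inferInstance p]
  exact (h.loc snd this).mp hsnd _

/-- fibrewise criterion. -/
theorem PtProp.fibrewise_iff (h : PtProp P Pat) {G H : Over S} (u : G ⟶ H)
    [LocallyOfFiniteType u.left] :
    P u.left ↔ ∀ s : S, P ((Over.pullback (S.fromSpecResidueField s)).map u).left := by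
  constructor
  · intro hu s
    exact h.of_isPullback
      (Groth.Agent.Lib.DiagDescent27.isPullback_pullback_map_left (S.fromSpecResidueField s) u).flip hu
  · intro hs
    rw [h.loc _ inferInstance]
    intro x
    set s := G.hom.base x with hsdef
    have sq := (Groth.Agent.Lib.DiagDescent27.isPullback_pullback_map_left
      (S.fromSpecResidueField s) u).flip
    have hsnd : LocallyOfFiniteType ((Over.pullback (S.fromSpecResidueField s)).map u).left :=
      MorphismProperty.of_isPullback sq inferInstance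
    obtain ⟨y, hy⟩ : ∃ y : Spec (S.residueField s), (S.fromSpecResidueField s).base y = s := by
      have : s ∈ Set.range (S.fromSpecResidueField s).base := by
        rw [Scheme.range_fromSpecResidueField]; rfl
      exact this
    obtain ⟨p, hp1, -⟩ := Scheme.Pullback.exists_preimage_pullback (f := G.hom)
      (g := S.fromSpecResidueField s) x y (by rw [hy])
    rw [← hp1, ← h.bc sq inferInstance p]
    exact (h.loc _ hsnd).mp (hs s) p

/-- kernel criterion. -/
theorem PtProp.kernel_iff (h : PtProp P Pat) [P.IsStableUnderBaseChange] {G H K : Over S}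
    [GrpObj G] [GrpObj H] [GrpObj K] (u : G ⟶ H) [IsMonHom u] [LocallyOfFiniteType u.left]
    (i : K ⟶ G) [IsMonHom i] (hK : AlgGrp.IsKernel i u) :
    P u.left ↔ P K.hom := by
  constructor
  · exact Groth.Agent.Lib.GrpHomSmooth45.kernel_hom_of u i P hK
  · intro hKP
    have sq := Groth.Agent.Lib.GrpHomSmooth45.isPullback_mul_fst_left u i hK
    refine h.of_isPullback_of_surjective sq ?_ (P.pullback_fst _ _ hKP)
    have hsec : lift (𝟙 G) (toUnit G ≫ η[K]) ≫ (G ◁ i) ≫ μ[G] = 𝟙 G := by
      rw [← Category.assoc, lift_whiskerLeft, Category.assoc, IsMonHom.one_hom]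
      exact MonObj.lift_comp_one_right _ _
    have hsec' : (lift (𝟙 G) (toUnit G ≫ η[K])).left ≫ ((G ◁ i) ≫ μ[G]).left = 𝟙 G.left := by
      rw [← Over.comp_left, hsec]; rfl
    intro x
    refine ⟨(lift (𝟙 G) (toUnit G ≫ η[K])).left.base x, ?_⟩
    rw [← Scheme.Hom.comp_apply, hsec']
    rfl


theorem ptProp_formallyUnramified :
    PtProp @FormallyUnramified (fun X Y f x => (f.stalkMap x).hom.FormallyUnramified) where
  bc := fun sq hf p => by
    have := hf
    exact Groth.Agent.Lib.UnramifiedLocusBC.formallyUnramified_stalkMap_iff_of_isPullback sq p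
  loc := fun f hf => by
    have := hf
    exact ⟨fun h x => FormallyUnramified.stalkMap f x,
      Groth.Agent.Lib.UnramifiedLocusBC.formallyUnramified_of_forall_stalkMap f⟩

theorem ptProp_locallyQuasiFinite :
    PtProp @LocallyQuasiFinite (fun X Y f x => f.QuasiFiniteAt x) where
  bc := fun sq hf p => by
    have := hf
    exact Groth.Agent.Lib.QuasiFiniteAtBC.quasiFiniteAt_iff_of_isPullback sq p
  loc := fun f hf => by
    have := hf
    exact ⟨fun h x => f.quasiFiniteAt x,
      Groth.Agent.Lib.FiberClosed.locallyQuasiFinite_of_forall_quasiFiniteAt f⟩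

/-- S5319 -/
theorem lqf_criteria (S : Scheme.{u}) (G H : Over S) [GrpObj G] [GrpObj H] (u : G ⟶ H) [IsMonHom u]
    [LocallyOfFiniteType u.left] (K : Over S) [GrpObj K] (i : K ⟶ G) [IsMonHom i]
    (hK : AlgGrp.IsKernel i u) :
    (LocallyQuasiFinite u.left ↔ ∀ s : S, LocallyQuasiFinite ((Over.pullback (S.fromSpecResidueField s)).map u).left) ∧
    (LocallyQuasiFinite u.left ↔ LocallyQuasiFinite K.hom) ∧
    (LocallyQuasiFinite u.left ↔ ∀ s : S, DiscreteTopology ↥(K.hom.base ⁻¹' {s})) := by
  have h2 := ptProp_locallyQuasiFinite.kernel_iff u i hK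
  refine ⟨ptProp_locallyQuasiFinite.fibrewise_iff u, h2, ?_⟩
  rw [h2]
  have : LocallyOfFiniteType K.hom :=
    Groth.Agent.Lib.GrpHomSmooth45.kernel_hom_of u i @LocallyOfFiniteType hK inferInstance
  rw [locallyQuasiFinite_iff_isDiscrete_preimage_singleton]
  exact forall_congr' fun s => isDiscrete_iff_discreteTopology


theorem lift_id_id_left (K : Over S) : (lift (𝟙 K) (𝟙 K)).left = pullback.diagonal K.hom := by
  apply pullback.hom_ext
  · rw [pullback.diagonal_fst]
    simp only [Over.lift_left]
    exact pullback.lift_fst _ _ _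
  · rw [pullback.diagonal_snd]
    simp only [Over.lift_left]
    exact pullback.lift_snd _ _ _

/-- a group scheme over `S` locally of finite type is unramified iff its unit section is an open immersion -/
theorem formallyUnramified_iff_isOpenImmersion_unit (K : Over S) [GrpObj K]
    [LocallyOfFiniteType K.hom] :
    FormallyUnramified K.hom ↔ IsOpenImmersion η[K].left := by
  constructor
  · intro h
    have hw : η[K].left ≫ K.hom = 𝟙 S := Over.w η[K]
    have : IsOpenImmersion (η[K].left ≫ K.hom) := hw ▸ (inferInstanceAs (IsOpenImmersion (𝟙 S)))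
    exact Groth.Agent.Lib.RatSection96.isOpenImmersion_of_comp_isOpenImmersion K.hom η[K].left
  · intro h
    have sq := (Groth.Agent.Lib.GrpDiag91.isPullback_diag K).map (Over.forget S)
    have h1 : IsOpenImmersion (lift (𝟙 K) (𝟙 K)).left :=
      MorphismProperty.of_isPullback (P := @IsOpenImmersion) sq.flip h
    rw [lift_id_id_left] at h1
    infer_instance

/-- S5320 -/
theorem unramified_criteria (S : Scheme.{u}) (G H : Over S) [GrpObj G] [GrpObj H] (u : G ⟶ H)
    [IsMonHom u] [LocallyOfFiniteType u.left] (K : Over S) [GrpObj K] (i : K ⟶ G) [IsMonHom i]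
    (hK : AlgGrp.IsKernel i u) :
    (FormallyUnramified u.left ↔ ∀ s : S, FormallyUnramified ((Over.pullback (S.fromSpecResidueField s)).map u).left) ∧
    (FormallyUnramified u.left ↔ FormallyUnramified K.hom) ∧
    (FormallyUnramified u.left ↔ IsOpenImmersion η[K].left) := by
  have h2 := ptProp_formallyUnramified.kernel_iff u i hK
  refine ⟨ptProp_formallyUnramified.fibrewise_iff u, h2, ?_⟩
  rw [h2]
  have : LocallyOfFiniteType K.hom :=
    Groth.Agent.Lib.GrpHomSmooth45.kernel_hom_of u i @LocallyOfFiniteType hK inferInstance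
  exact formallyUnramified_iff_isOpenImmersion_unit K

end Groth.Agent.Lib.H71KerCrit
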