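import Mathlib
import Groth.Agent.Lib.H79FlatGenDimOpen
import Groth.Agent.S7408

/-!
helper79: for `f` flat and locally of finite presentation (NO quasi-compactness), `{s | c < dim X_s}`
is open (lower semicontinuity of the fibre dimension on the base).  Reduction to the quasi-compact case
`H79FlatGenDimOpen` by restricting to affine opens of source and target, using the étale-local nature
of `fibreDimAt` (S7408).
-/

set_option autoImplicit false
set_option linter.style.haveILetI false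
universe u

namespace Groth.Agent.Lib.H79FlatGenDimOpen2

open AlgebraicGeometry CategoryTheory Limits Topology
open Groth.Agent.Lib.H79FlatGenDimOpen

variable {X S : Scheme.{u}}

/-- `fibreDimAt` of a restriction to opens of source and target. -/
theorem fibreDimAt_resLE (f : X ⟶ S) (V : S.Opens) (U : X.Opens) (e : U ≤ f ⁻¹ᵁ V) (x : U) :
    FlatMor.fibreDimAt (f.resLE V U e) x = FlatMor.fibreDimAt f (U.ι x) :=
  (Groth.Agent.S7408.result f (f.resLE V U e) U.ι V.ι (Scheme.Hom.resLE_comp_ι f e) x).symm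

theorem isOpen_image_setOf_lt_fibreDimAt (f : X ⟶ S) [Flat f] [LocallyOfFinitePresentation f]
    (n : ℕ) :
    IsOpen (f '' {x : X | FlatMor.fibreDimAt f x ≤ (n : WithBot ℕ∞)}ᶜ) := by
  rw [isOpen_iff_forall_mem_open]
  rintro _ ⟨x, hx, rfl⟩
  obtain ⟨V, hV, hsV⟩ : ∃ V : S.Opens, IsAffineOpen V ∧ f x ∈ V := by
    obtain ⟨_, ⟨V, hV : IsAffineOpen V, rfl⟩, hsV, -⟩ :=
      S.isBasis_affineOpens.exists_subset_of_mem_open (Set.mem_univ (f x)) isOpen_univ
    exact ⟨V, hV, hsV⟩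
  obtain ⟨U, hU, hxU, e⟩ : ∃ U : X.Opens, IsAffineOpen U ∧ x ∈ U ∧ U ≤ f ⁻¹ᵁ V := by
    obtain ⟨_, ⟨U, hU : IsAffineOpen U, rfl⟩, hxU, hUV⟩ :=
      X.isBasis_affineOpens.exists_subset_of_mem_open
        (show x ∈ ((f ⁻¹ᵁ V : X.Opens) : Set X) from hsV) (f ⁻¹ᵁ V).isOpen
    exact ⟨U, hU, hxU, hUV⟩
  let g : (U : Scheme.{u}) ⟶ (V : Scheme.{u}) := f.resLE V U e
  have comm : g ≫ V.ι = U.ι ≫ f := Scheme.Hom.resLE_comp_ι f e
  haveI : Flat g := IsZariskiLocalAtSource.resLE e (inferInstance : Flat f)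
  haveI : LocallyOfFinitePresentation g :=
    IsZariskiLocalAtSource.resLE e (inferInstance : LocallyOfFinitePresentation f)
  haveI : IsAffine (U : Scheme.{u}) := hU
  haveI : IsAffine (V : Scheme.{u}) := hV
  haveI : QuasiCompact g := inferInstance
  have hopen := isOpen_setOf_lt_dim_fiber g n
  rw [setOf_lt_dim_fiber_eq_image] at hopen
  refine ⟨V.ι '' (g '' {x : U | FlatMor.fibreDimAt g x ≤ (n : WithBot ℕ∞)}ᶜ), ?_,
    V.ι.isOpenEmbedding.isOpenMap _ hopen, ?_⟩
  · rintro _ ⟨_, ⟨x', hx', rfl⟩, rfl⟩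
    refine ⟨U.ι x', ?_, ?_⟩
    · simp only [Set.mem_compl_iff, Set.mem_ofPred_eq] at hx' ⊢
      rwa [← fibreDimAt_resLE f V U e x']
    · change (U.ι ≫ f) x' = (g ≫ V.ι) x'
      rw [comm]
  · refine ⟨g ⟨x, hxU⟩, ⟨⟨x, hxU⟩, ?_, rfl⟩, ?_⟩
    · simp only [Set.mem_compl_iff, Set.mem_ofPred_eq] at hx ⊢
      change ¬ FlatMor.fibreDimAt (f.resLE V U e) ⟨x, hxU⟩ ≤ _
      rw [fibreDimAt_resLE f V U e ⟨x, hxU⟩]
      exact hx
    · change (g ≫ V.ι) ⟨x, hxU⟩ = f x
      rw [comm]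
      rfl

/-- Lower semicontinuity of the fibre dimension for flat morphisms locally of finite presentation,
without quasi-compactness. -/
theorem isOpen_setOf_lt_dim_fiber_lfp (f : X ⟶ S) [Flat f] [LocallyOfFinitePresentation f] (n : ℕ) :
    IsOpen {s : S | (n : WithBot ℕ∞) < topologicalKrullDim (f.fiber s)} := by
  rw [setOf_lt_dim_fiber_eq_image]
  exact isOpen_image_setOf_lt_fibreDimAt f n

end Groth.Agent.Lib.H79FlatGenDimOpen2
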