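import Groth.Agent.Lib.H71Fiber
import Groth.Agent.Lib.H30FibBC
import Groth.Agent.Lib.H56FibDimSup
import Groth.Agent.Lib.H56OpenFibDim2
import Groth.Agent.Lib.H79FlatGenDimOpen2
import Groth.Agent.S7408

set_option autoImplicit false
universe u

open CategoryTheory CategoryTheory.Limits AlgebraicGeometry TopologicalSpace
open MonoidalCategory CartesianMonoidalCategory MonObj GrpObj

namespace Groth.Agent.Lib.H71GrpDim

variable {S : Scheme.{u}}

/-- Left translation by a point of a group object. -/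
noncomputable def leftTrans {C : Type*} [Category C] [CartesianMonoidalCategory C] (G : C) [GrpObj G]
    (x : 𝟙_ C ⟶ G) : G ≅ G where
  hom := (toUnit G ≫ x) * 𝟙 G
  inv := (toUnit G ≫ x)⁻¹ * 𝟙 G
  hom_inv_id := by
    rw [MonObj.comp_mul, GrpObj.comp_inv, Category.comp_id, ← Category.assoc,
      toUnit_unique (((toUnit G ≫ x) * 𝟙 G) ≫ toUnit G) (toUnit G), inv_mul_cancel_left]
  inv_hom_id := by
    rw [MonObj.comp_mul, Category.comp_id, ← Category.assoc,
      toUnit_unique (((toUnit G ≫ x)⁻¹ * 𝟙 G) ≫ toUnit G) (toUnit G), mul_inv_cancel_left]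

theorem one_leftTrans {C : Type*} [Category C] [CartesianMonoidalCategory C] (G : C) [GrpObj G]
    (x : 𝟙_ C ⟶ G) : η[G] ≫ (leftTrans G x).hom = x := by
  simp only [leftTrans]
  rw [MonObj.comp_mul, Category.comp_id, ← Category.assoc,
    toUnit_unique (η[G] ≫ toUnit G) (𝟙 _), Category.id_comp, MonObj.one_eq_one, _root_.mul_one]

/-- The unit point of a base change maps to the unit point. -/
theorem fst_unit_bc {T : Scheme.{u}} (t : T ⟶ S) (G : Over S) [GrpObj G]
    (p' : ↥(𝟙_ (Over T)).left) (p : ↥(𝟙_ (Over S)).left)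
    (hp : (𝟙_ (Over S)).hom p = t ((𝟙_ (Over T)).hom p')) :
    pullback.fst G.hom t (η[Red.bc t G].left p') = η[G].left p := by
  have h1 : η[Red.bc t G] = Functor.LaxMonoidal.ε (Over.pullback t) ≫
      (Over.pullback t).map η[G] := rfl
  rw [h1, Over.comp_left, Scheme.Hom.comp_apply, ← Scheme.Hom.comp_apply _ (pullback.fst G.hom t)]
  have h2 : ((Over.pullback t).map η[G]).left ≫ pullback.fst G.hom t =
      pullback.fst _ _ ≫ η[G].left := by
    simp only [Over.pullback_map_left]
    exact pullback.lift_fst _ _ _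
  rw [h2, Scheme.Hom.comp_apply]
  congr 1
  apply Groth.Agent.Lib.H71Fiber.unit_injective
  rw [hp, ← Scheme.Hom.comp_apply, pullback.condition, Scheme.Hom.comp_apply]
  congr 1
  rw [← Scheme.Hom.comp_apply]
  have := Over.w (Functor.LaxMonoidal.ε (Over.pullback t))
  exact congrArg (fun φ : (𝟙_ (Over T)).left ⟶ T => φ p') this

/-- **Homogeneity of the fibre dimension on a group scheme**: the local fibre dimension at any point equals that at
the unit point of the same fibre. -/
theorem fibreDimAt_eq_unit (G : Over S) [GrpObj G] [LocallyOfFiniteType G.hom] (x : G.left)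
    (p : ↥(𝟙_ (Over S)).left) (hp : (𝟙_ (Over S)).hom p = G.hom x) :
    FlatMor.fibreDimAt G.hom x = FlatMor.fibreDimAt G.hom (η[G].left p) := by
  let T : Scheme.{u} := Spec (G.left.residueField x)
  let tx : T ⟶ G.left := G.left.fromSpecResidueField x
  let t : T ⟶ S := tx ≫ G.hom
  let xT : 𝟙_ (Over T) ⟶ Red.bc t G :=
    Over.homMk (U := 𝟙_ (Over T)) (V := Red.bc t G) (pullback.lift tx (𝟙 T) (by simp [t]))
      (by
        change pullback.lift tx (𝟙 T) _ ≫ pullback.snd G.hom t = 𝟙 T
        exact pullback.lift_snd _ _ _)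
  let L := leftTrans (Red.bc t G) xT
  let pt : ↥(𝟙_ (Over T)).left := (IsLocalRing.closedPoint (G.left.residueField x) : ↥T)
  have hL : L.hom.left (η[Red.bc t G].left pt) = xT.left pt := by
    rw [← Scheme.Hom.comp_apply, ← Over.comp_left, one_leftTrans]
  have hsq : IsPullback (pullback.fst G.hom t) (Red.bc t G).hom G.hom t :=
    IsPullback.of_hasPullback G.hom t
  have e1 := Groth.Agent.Lib.H30FibBC.fibreDimAt_eq_of_isPullback G.hom t _ _ hsq (xT.left pt)
  have e0 := Groth.Agent.Lib.H30FibBC.fibreDimAt_eq_of_isPullback G.hom t _ _ hsq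
    (η[Red.bc t G].left pt)
  haveI : IsIso L.hom.left := (inferInstance : IsIso ((Over.forget T).map L.hom))
  have e2 := Groth.Agent.S7408.result (Red.bc t G).hom (Red.bc t G).hom L.hom.left (𝟙 T)
    (by rw [Category.comp_id, Over.w]) (η[Red.bc t G].left pt)
  have hx1 : pullback.fst G.hom t (xT.left pt) = x := by
    change pullback.fst G.hom t ((pullback.lift tx (𝟙 T) _) pt) = x
    rw [← Scheme.Hom.comp_apply, pullback.lift_fst]
    exact Scheme.fromSpecResidueField_apply x _
  have hx0 : pullback.fst G.hom t (η[Red.bc t G].left pt) = η[G].left p := by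
    apply fst_unit_bc t G pt p
    rw [hp]
    change G.hom x = G.hom (tx _)
    rw [Scheme.fromSpecResidueField_apply x _]
  rw [← hx1, ← e1, ← hL, e2, e0, hx0]

section Dim

variable (G : Over S) [GrpObj G]

/-- The unit section as a map of points. -/
noncomputable def unitSec (s : S) : G.left := η[G].left (show ↥(𝟙_ (Over S)).left from s)

theorem hom_unitSec (s : S) : G.hom (unitSec G s) = s := by
  unfold unitSec
  rw [← Scheme.Hom.comp_apply, Over.w]
  rfl

theorem continuous_unitSec : Continuous (unitSec G) := η[G].left.continuous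

/-- The dimension of the fibre of a group scheme is the local fibre dimension at the unit point. -/
theorem dim_fiber_eq_fibreDimAt_unit [LocallyOfFiniteType G.hom] (s : S) :
    topologicalKrullDim (G.hom.fiber s) = FlatMor.fibreDimAt G.hom (unitSec G s) := by
  rw [Groth.Agent.Lib.H56LocDim.dim_fiber_eq_iSup]
  apply le_antisymm
  · refine iSup_le fun x => ?_
    rw [fibreDimAt_eq_unit G x.1 (show ↥(𝟙_ (Over S)).left from s) x.2.symm]
    exact le_rfl
  · exact le_iSup (fun x : {x : G.left // G.hom x = s} => FlatMor.fibreDimAt G.hom x.1)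
      ⟨unitSec G s, hom_unitSec G s⟩

omit [GrpObj G] in
theorem dim_preimage_eq (s : S) :
    topologicalKrullDim ↥(G.hom.base ⁻¹' {s}) = topologicalKrullDim (G.hom.fiber s) :=
  ((G.hom.fiberHomeo s).isHomeomorph.topologicalKrullDim_eq).symm

theorem isClosed_le_dim_fiber [LocallyOfFiniteType G.hom] (n : ℕ) :
    IsClosed {s : S | (n : WithBot ℕ∞) ≤ topologicalKrullDim (G.hom.fiber s)} := by
  have : {s : S | (n : WithBot ℕ∞) ≤ topologicalKrullDim (G.hom.fiber s)} =
      unitSec G ⁻¹' {x : G.left | (n : WithBot ℕ∞) ≤ FlatMor.fibreDimAt G.hom x} := by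
    ext s
    simp only [Set.mem_ofPred_eq, Set.mem_preimage, dim_fiber_eq_fibreDimAt_unit]
  rw [this]
  exact (Groth.Agent.Lib.H56OpenDim.isClosed_le_fibreDimAt G.hom n).preimage (continuous_unitSec G)

theorem exists_nat_dim_fiber [LocallyOfFiniteType G.hom] (s : S) :
    ∃ m : ℕ, topologicalKrullDim (G.hom.fiber s) = m := by
  rw [dim_fiber_eq_fibreDimAt_unit]
  obtain ⟨n, hn⟩ := Groth.Agent.Lib.H56LocDim.exists_nat_fibreDimAt_le G.hom (unitSec G s)
  have h0 := Groth.Agent.Lib.H56LocDim.fibreDimAt_nonneg G.hom (unitSec G s)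
  generalize FlatMor.fibreDimAt G.hom (unitSec G s) = a at hn h0
  induction a using WithBot.recBotCoe with
  | bot => simp at h0
  | coe a =>
    induction a using ENat.recTopCoe with
    | top =>
      exfalso
      have : ((⊤ : ℕ∞) : WithBot ℕ∞) ≤ ((n : ℕ∞) : WithBot ℕ∞) := hn
      rw [WithBot.coe_le_coe] at this
      simp at this
    | coe a => exact ⟨a, rfl⟩

/-- **The fibre dimension of a flat, locally finitely presented group scheme is locally constant.** -/
theorem isLocallyConstant_dim_fibre [Flat G.hom] [LocallyOfFinitePresentation G.hom] :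
    IsLocallyConstant (fun s : S => topologicalKrullDim ↥(G.hom.base ⁻¹' {s})) := by
  rw [IsLocallyConstant.iff_exists_open]
  intro s₀
  obtain ⟨m, hm⟩ := exists_nat_dim_fiber G s₀
  have hC := isClosed_le_dim_fiber G (m + 1)
  have hlow : ∃ O : Set S, IsOpen O ∧ s₀ ∈ O ∧
      ∀ s ∈ O, (m : WithBot ℕ∞) ≤ topologicalKrullDim (G.hom.fiber s) := by
    cases m with
    | zero =>
      refine ⟨Set.univ, isOpen_univ, Set.mem_univ _, fun s _ => ?_⟩
      obtain ⟨m', hm'⟩ := exists_nat_dim_fiber G s
      rw [hm']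
      exact_mod_cast Nat.zero_le m'
    | succ k =>
      refine ⟨_, Groth.Agent.Lib.H79FlatGenDimOpen2.isOpen_setOf_lt_dim_fiber_lfp G.hom k, ?_, ?_⟩
      · change (k : WithBot ℕ∞) < topologicalKrullDim (G.hom.fiber s₀)
        rw [hm]
        exact_mod_cast Nat.lt_succ_self k
      · intro s hs
        change (k : WithBot ℕ∞) < topologicalKrullDim (G.hom.fiber s) at hs
        by_contra hcon
        rw [not_le, Groth.Agent.Lib.H56LocDim.lt_succ_iff_le] at hcon
        exact absurd hs (not_lt.mpr hcon)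
  obtain ⟨O, hO, hs₀O, hOle⟩ := hlow
  refine ⟨O ∩ {s : S | ((m + 1 : ℕ) : WithBot ℕ∞) ≤ topologicalKrullDim (G.hom.fiber s)}ᶜ,
    hO.inter hC.isOpen_compl, ⟨hs₀O, ?_⟩, ?_⟩
  · simp only [Set.mem_compl_iff, Set.mem_ofPred_eq, not_le]
    rw [hm, Groth.Agent.Lib.H56LocDim.lt_succ_iff_le]
  · rintro s ⟨hsO, hsC⟩
    simp only [Set.mem_compl_iff, Set.mem_ofPred_eq, not_le] at hsC
    rw [Groth.Agent.Lib.H56LocDim.lt_succ_iff_le] at hsC
    rw [dim_preimage_eq, dim_preimage_eq, hm]
    exact le_antisymm hsC (hOle s hsO)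

end Dim

end Groth.Agent.Lib.H71GrpDim
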