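import Groth.Agent.Lib.H71SectionComp
import Groth.Agent.Lib.H71GrpDim
import Groth.Prelude.Def_SGA3x

set_option autoImplicit false
universe u

open CategoryTheory CategoryTheory.Limits AlgebraicGeometry TopologicalSpace
open MonoidalCategory CartesianMonoidalCategory MonObj GrpObj

namespace Groth.Agent.Lib.H71NeutralBC

variable {S : Scheme.{u}}

/-- The unit section of an `S`-group scheme as a morphism of schemes `S ⟶ G`. -/
noncomputable def unitHom (G : Over S) [GrpObj G] : S ⟶ G.left := η[G].left

theorem unitHom_comp (G : Over S) [GrpObj G] : unitHom G ≫ G.hom = 𝟙 S := Over.w η[G]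

/-- The union of the neutral components of the fibres is the set of section components of the unit section. -/
theorem neutralSet_eq_sectionComponents (G : Over S) [GrpObj G] :
    SGA3x.neutralSet G = MoreMor.sectionComponents G.hom (unitHom G) := by
  ext x
  unfold SGA3x.neutralSet MoreMor.sectionComponents
  simp only [Set.mem_iUnion, Set.mem_ofPred_eq]
  constructor
  · rintro ⟨p, hp⟩
    have hx : G.hom x = (𝟙_ (Over S)).hom p :=
      connectedComponentIn_subset (G.hom ⁻¹' {(𝟙_ (Over S)).hom p}) _ hp
    rw [hx]
    exact hp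
  · intro h
    exact ⟨G.hom x, h⟩

theorem unitHom_bc {S' : Scheme.{u}} (f : S' ⟶ S) (G : Over S) [GrpObj G] :
    unitHom (Red.bc f G) ≫ pullback.fst G.hom f = f ≫ unitHom G := by
  unfold unitHom
  have h1 : η[Red.bc f G] = Functor.LaxMonoidal.ε (Over.pullback f) ≫
      (Over.pullback f).map η[G] := rfl
  have h2 : ((Over.pullback f).map η[G]).left ≫ pullback.fst G.hom f =
      pullback.fst _ _ ≫ η[G].left := by
    simp only [Over.pullback_map_left]
    exact pullback.lift_fst _ _ _
  rw [h1, Over.comp_left, Category.assoc, h2, ← Category.assoc]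
  congr 1
  have h3 : pullback.fst (𝟙_ (Over S)).hom f = pullback.snd (𝟙_ (Over S)).hom f ≫ f := by
    have := pullback.condition (f := (𝟙_ (Over S)).hom) (g := f)
    rw [← this]
    exact (Category.comp_id _).symm
  rw [h3, ← Category.assoc]
  have h4 : (Functor.LaxMonoidal.ε (Over.pullback f)).left ≫ pullback.snd (𝟙_ (Over S)).hom f =
      𝟙 S' := Over.w (Functor.LaxMonoidal.ε (Over.pullback f))
  rw [h4]
  exact Category.id_comp _

/-- **The formation of neutral components commutes with base change.** -/
theorem neutralSet_bc {S' : Scheme.{u}} (f : S' ⟶ S) (G : Over S) [GrpObj G] :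
    SGA3x.neutralSet (Red.bc f G) = (pullback.fst G.hom f) ⁻¹' SGA3x.neutralSet G := by
  rw [neutralSet_eq_sectionComponents, neutralSet_eq_sectionComponents]
  exact Groth.Agent.Lib.H71SectionComp.sectionComponents_baseChange G.hom (unitHom G) (unitHom_comp G)
    (Red.bc f G).hom (pullback.fst G.hom f) f (IsPullback.of_hasPullback G.hom f)
    (unitHom (Red.bc f G)) (unitHom_comp _) (unitHom_bc f G)

end Groth.Agent.Lib.H71NeutralBC
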