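import Groth.Agent.Lib.ActOpen18
import Groth.Agent.Lib.H71Fiber

set_option autoImplicit false
universe u

open CategoryTheory CategoryTheory.Limits AlgebraicGeometry TopologicalSpace
open MonoidalCategory CartesianMonoidalCategory MonObj GrpObj

namespace Groth.Agent.Lib.H71UnivOpenLocus

/-- Universal openness descends along surjections on the source. -/
theorem universallyOpen_of_comp_surjective {X Y Z : Scheme.{u}} (f : X ⟶ Y) (g : Y ⟶ Z)
    [UniversallyOpen (f ≫ g)] [Surjective f] : UniversallyOpen g := by
  constructor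
  intro X' Y' i₁ i₂ f' H
  have := UniversallyOpen.universally_isOpenMap _ _ _
    ((IsPullback.of_hasPullback i₁ f).paste_horiz H)
  exact IsOpenMap.of_comp (f := pullback.fst i₁ f) (Scheme.Hom.continuous _)
    (MorphismProperty.pullback_fst (P := @Surjective) _ _ ‹_›).1 this

variable {S : Scheme.{u}}

theorem universallyOpen_whiskerLeft (M : Over S) {Z X : Over S} (z : Z ⟶ X) [UniversallyOpen z.left] :
    UniversallyOpen (M ◁ z).left :=
  MorphismProperty.of_isPullback (P := @UniversallyOpen)
    (Groth.Agent.Lib.ActOpen18.isPullback_whiskerLeft_snd M z).flip inferInstance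

theorem universallyOpen_snd (M X : Over S) [UniversallyOpen M.hom] :
    UniversallyOpen (snd M X).left := by
  change UniversallyOpen (pullback.snd M.hom X.hom)
  infer_instance

section Grp

variable {G H : Over S} [GrpObj G] [GrpObj H]

theorem tensorHom_comp_mul' {A B : Over S} (a : A ⟶ G) (b : B ⟶ G) :
    (a ⊗ₘ b) ≫ μ[G] = (fst A B ≫ a) * (snd A B ≫ b) := by
  rw [MonObj.mul_eq_mul, MonObj.comp_mul, tensorHom_fst, tensorHom_snd]

/-- Translation by a `G`-valued function on `X`: `(x, h) ↦ (x, c(x) h)`. -/
noncomputable def shearBy {X : Over S} (c : X ⟶ H) : X ⊗ H ≅ X ⊗ H where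
  hom := lift (fst X H) ((fst X H ≫ c) * snd X H)
  inv := lift (fst X H) ((fst X H ≫ c)⁻¹ * snd X H)
  hom_inv_id := by
    rw [comp_lift, lift_fst, MonObj.comp_mul, GrpObj.comp_inv, lift_snd, lift_fst_assoc,
      inv_mul_cancel_left]
    exact lift_fst_snd
  inv_hom_id := by
    rw [comp_lift, lift_fst, MonObj.comp_mul, lift_snd, lift_fst_assoc,
      mul_inv_cancel_left]
    exact lift_fst_snd

theorem range_tensorHom_left' {R T T' U : Over S} (f : R ⟶ T) (g : T' ⟶ U) :
    Set.range (f ⊗ₘ g).left =
      (fst T U).left ⁻¹' Set.range f.left ∩ (snd T U).left ⁻¹' Set.range g.left := by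
  rw [Over.tensorHom_left, Scheme.Pullback.range_map]
  rfl

/-- An open subscheme of an `S`-scheme as an object over `S`. -/
noncomputable abbrev opObj {G : Over S} (V : G.left.Opens) : Over S := Over.mk (V.ι ≫ G.hom)

/-- The inclusion of an open subscheme, over `S`. -/
noncomputable abbrev opHom {G : Over S} (V : G.left.Opens) : opObj V ⟶ G := Over.homMk V.ι rfl

section Main

variable {G H : Over S} [GrpObj G] [GrpObj H] (u : G ⟶ H) [IsMonHom u] (V : G.left.Opens)

/-- The product map `V × V → G`. -/
noncomputable abbrev mulV : opObj V ⊗ opObj V ⟶ G := (opHom V ⊗ₘ opHom V) ≫ μ[G]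

theorem mulV_eq : mulV V =
    (opObj V ◁ opHom V) ≫ (shearBy (opHom V)).hom ≫ snd (opObj V) G := by
  unfold mulV
  rw [tensorHom_comp_mul']
  simp only [shearBy]
  rw [lift_snd, MonObj.comp_mul, whiskerLeft_fst_assoc, whiskerLeft_snd]

theorem mulV_comp : mulV V ≫ u =
    (opObj V ◁ (opHom V ≫ u)) ≫ (shearBy (opHom V ≫ u)).hom ≫ snd (opObj V) H := by
  unfold mulV
  rw [tensorHom_comp_mul', MonObj.mul_comp]
  simp only [shearBy]
  rw [lift_snd, MonObj.comp_mul, whiskerLeft_fst_assoc, whiskerLeft_snd]
  simp only [Category.assoc]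

variable [hV' : UniversallyOpen (opObj V).hom]

theorem universallyOpen_mulV : UniversallyOpen (mulV V).left := by
  rw [mulV_eq, Over.comp_left, Over.comp_left]
  haveI : UniversallyOpen (opHom V).left := by
    change UniversallyOpen V.ι
    infer_instance
  haveI := universallyOpen_whiskerLeft (opObj V) (opHom V)
  haveI := universallyOpen_snd (opObj V) G
  haveI : IsIso (shearBy (opHom (G := G) V)).hom.left := inferInstance
  infer_instance

theorem universallyOpen_mulV_comp [hV : UniversallyOpen (V.ι ≫ u.left)] :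
    UniversallyOpen (mulV V ≫ u).left := by
  rw [mulV_comp, Over.comp_left, Over.comp_left]
  haveI : UniversallyOpen (opHom V ≫ u).left := by
    change UniversallyOpen (V.ι ≫ u.left)
    infer_instance
  haveI := universallyOpen_whiskerLeft (opObj V) (opHom V ≫ u)
  haveI := universallyOpen_snd (opObj V) H
  haveI : IsIso (shearBy (opHom V ≫ u)).hom.left := inferInstance
  infer_instance

end Main

section Final

variable {G H : Over S} [GrpObj G] [GrpObj H] (u : G ⟶ H) [IsMonHom u]

omit [IsMonHom u] in
theorem inv_hom' [IsMonHom u] : ι[G] ≫ u = u ≫ ι[H] := by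
  have := GrpObj.inv_comp (𝟙 G) u
  rwa [Hom.inv_def, Hom.inv_def, Category.id_comp, Category.id_comp] at this

theorem inv_inv_apply' (x : G.left) : ι[G].left (ι[G].left x) = x := by
  rw [← Scheme.Hom.comp_apply, ← Over.comp_left, GrpObj.inv_comp_inv]
  rfl

/-- **The largest open locus where a homomorphism is universally open is an open subgroup** (over its image). -/
theorem univOpenLocus_isSubgroup (hG : UniversallyOpen G.hom ∨ UniversallyOpen H.hom)
    (V : G.left.Opens) (hV : UniversallyOpen (V.ι ≫ u.left))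
    (hmax : ∀ W : G.left.Opens, UniversallyOpen (W.ι ≫ u.left) → W ≤ V) :
    IsOpen (G.hom '' (V : Set G.left)) ∧
    (∀ g ∈ V, ∀ p : ↥(𝟙_ (Over S)).left, (𝟙_ (Over S)).hom p = G.hom g → η[G].left p ∈ V) ∧
    (∀ g ∈ V, ι[G].left g ∈ V) ∧
    (∀ z : ↥(G ⊗ G).left, (fst G G).left z ∈ V → (snd G G).left z ∈ V → μ[G].left z ∈ V) := by
  haveI hV' : UniversallyOpen (opObj V).hom := by
    change UniversallyOpen (V.ι ≫ G.hom)
    rcases hG with hG | hH
    · infer_instance
    · rw [← Over.w u, ← Category.assoc]
      infer_instance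
  -- inversion
  have hinv : ∀ g ∈ V, ι[G].left g ∈ V := by
    have hW : UniversallyOpen ((ι[G].left ⁻¹ᵁ V).ι ≫ u.left) := by
      have e : (ι[G].left ⁻¹ᵁ V).ι ≫ u.left = (ι[G].left ∣_ V) ≫ (V.ι ≫ u.left) ≫ ι[H].left := by
        have h1 : u.left ≫ ι[H].left = ι[G].left ≫ u.left := by
          rw [← Over.comp_left, ← Over.comp_left, inv_hom']
        have h3 : ι[G].left ≫ ι[G].left = 𝟙 _ := by
          rw [← Over.comp_left, GrpObj.inv_comp_inv]; rfl
        rw [Category.assoc, h1, ← Category.assoc, ← Category.assoc, morphismRestrict_ι,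
          Category.assoc, Category.assoc, reassoc_of% h3]
      rw [e]
      haveI := hV
      haveI : IsIso ι[H].left := (inferInstance : IsIso ((Over.forget S).map ι[H]))
      haveI : IsIso ι[G].left := (inferInstance : IsIso ((Over.forget S).map ι[G]))
      haveI : IsIso (ι[G].left ∣_ V) := inferInstance
      infer_instance
    have hle := hmax _ hW
    intro g hg
    apply hle
    change ι[G].left (ι[G].left g) ∈ V
    rw [inv_inv_apply']
    exact hg
  -- multiplication
  have hmul : ∀ z : ↥(G ⊗ G).left, (fst G G).left z ∈ V → (snd G G).left z ∈ V →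
      μ[G].left z ∈ V := by
    haveI h1 := universallyOpen_mulV (G := G) V
    haveI h2 := universallyOpen_mulV_comp u V
    let M : G.left.Opens := ⟨Set.range (mulV V).left, (mulV V).left.isOpenMap.isOpen_range⟩
    have hsub : Set.range (mulV V).left ⊆ Set.range M.ι := by
      rw [Scheme.Opens.range_ι]; exact subset_rfl
    let q := IsOpenImmersion.lift M.ι (mulV V).left hsub
    have hq : q ≫ M.ι = (mulV V).left := IsOpenImmersion.lift_fac _ _ _
    haveI : Surjective q := by
      refine ⟨fun y => ?_⟩
      obtain ⟨x, hx⟩ : (M.ι y) ∈ Set.range (mulV V).left := y.2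
      refine ⟨x, ?_⟩
      apply M.ι.isOpenEmbedding.injective
      rw [← Scheme.Hom.comp_apply, hq, hx]
    haveI : UniversallyOpen (q ≫ M.ι ≫ u.left) := by
      rw [← Category.assoc, hq, ← Over.comp_left]
      exact h2
    have hM : UniversallyOpen (M.ι ≫ u.left) := universallyOpen_of_comp_surjective q _
    have hle := hmax M hM
    intro z hz1 hz2
    have hz : z ∈ Set.range (opHom V ⊗ₘ opHom V).left := by
      rw [range_tensorHom_left']
      refine ⟨?_, ?_⟩
      · change (fst G G).left z ∈ Set.range V.ι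
        rw [Scheme.Opens.range_ι]; exact hz1
      · change (snd G G).left z ∈ Set.range V.ι
        rw [Scheme.Opens.range_ι]; exact hz2
    obtain ⟨z', rfl⟩ := hz
    apply hle
    refine ⟨z', ?_⟩
    rw [Over.comp_left]
    rfl
  refine ⟨?_, ?_, hinv, hmul⟩
  · have : G.hom '' (V : Set G.left) = Set.range (V.ι ≫ G.hom) := by
      rw [Scheme.Hom.comp_base, TopCat.coe_comp, Set.range_comp, Scheme.Opens.range_ι]
    rw [this]
    exact (opObj V).hom.isOpenMap.isOpen_range
  · intro g hg p hp
    have h1 : (lift (𝟙 G) ι[G] ≫ μ[G]) = toUnit G ≫ η[G] := GrpObj.right_inv G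
    have h2 : η[G].left p = μ[G].left ((lift (𝟙 G) ι[G]).left g) := by
      have hp' : p = (toUnit G).left g := by
        apply Groth.Agent.Lib.H71Fiber.unit_injective
        rw [hp, ← Scheme.Hom.comp_apply, Over.w]
      rw [← Scheme.Hom.comp_apply, ← Over.comp_left, h1, Over.comp_left, Scheme.Hom.comp_apply, hp']
    rw [h2]
    apply hmul
    · rw [← Scheme.Hom.comp_apply, ← Over.comp_left, lift_fst]
      exact hg
    · rw [← Scheme.Hom.comp_apply, ← Over.comp_left, lift_snd]
      exact hinv g hg

end Final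

end Grp

end Groth.Agent.Lib.H71UnivOpenLocus
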