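import Mathlib
import Groth.Prelude
import Groth.Agent.Lib.H71UnivOpenLocus
import Groth.Agent.Lib.CartPull18
import Groth.Agent.Lib.DiagDescent27b
import Groth.Agent.Lib.H71NeutralBC
import Groth.Agent.Lib.H71KerCrit

set_option autoImplicit false
universe u

open CategoryTheory CategoryTheory.Limits MonoidalCategory CartesianMonoidalCategory MonObj GrpObj
  AlgebraicGeometry

namespace Groth.Agent.Lib.H71HomLocus

section Iso

variable {Q : ∀ {R S : Type u} [CommRing R] [CommRing S], (R →+* S) → Prop}

/-- A stalkwise property respecting isos is invariant under isomorphisms of arrows. -/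
theorem stalk_iso_invariance (hQ : RingHom.RespectsIso @Q) {X Y X' Y' : Scheme.{u}} (f : X ⟶ Y)
    (f' : X' ⟶ Y') (a : X ⟶ X') (b : Y ⟶ Y') [IsIso a] [IsIso b] (w : a ≫ f' = f ≫ b) (x : X) :
    Q (f.stalkMap x).hom ↔ Q (f'.stalkMap (a.base x)).hom := by
  have h1 := Scheme.Hom.stalkMap_congr_hom _ _ w x
  rw [Scheme.Hom.stalkMap_comp, Scheme.Hom.stalkMap_comp] at h1
  have h2 : Q ((f'.stalkMap (a.base x) ≫ a.stalkMap x).hom) ↔ Q (f'.stalkMap (a.base x)).hom := by
    rw [CommRingCat.hom_comp]
    exact hQ.cancel_right_isIso _ _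
  rw [← h2, h1]
  set c := (Y'.presheaf.stalkCongr (.of_eq (w ▸ rfl : (a ≫ f').base x = (f ≫ b).base x))).hom
  have h3 : Q (c ≫ (b.stalkMap (f.base x) ≫ f.stalkMap x)).hom ↔
      Q (b.stalkMap (f.base x) ≫ f.stalkMap x).hom := by
    rw [CommRingCat.hom_comp]
    exact hQ.cancel_left_isIso _ _
  have h4 : Q (b.stalkMap (f.base x) ≫ f.stalkMap x).hom ↔ Q (f.stalkMap x).hom := by
    rw [CommRingCat.hom_comp]
    exact hQ.cancel_left_isIso _ _
  exact (h3.trans h4).symm

end Iso


section Homog

open Groth.Agent.Lib.H71UnivOpenLocus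

variable {S : Scheme.{u}} {G H : Over S} [GrpObj G] [GrpObj H] (v : G ⟶ H) [IsMonHom v]
variable {Q : ∀ {R S : Type u} [CommRing R] [CommRing S], (R →+* S) → Prop}

theorem shear_comm : (shearBy (𝟙 G)).hom ≫ (G ◁ v) = (G ◁ v) ≫ (shearBy v).hom := by
  simp only [shearBy]
  apply CartesianMonoidalCategory.hom_ext
  · simp
  · simp only [Category.assoc, whiskerLeft_snd, lift_snd, lift_snd_assoc, Category.comp_id,
      MonObj.comp_mul, whiskerLeft_fst_assoc]
    rw [MonObj.mul_comp]

/-- Homogeneity: a stalkwise property of a homomorphism `v`, compatible with the base change along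
`G ⟶ S`, holds at `x'` as soon as it holds at one point `x` of the same fibre. -/
theorem homogeneous (hQ : RingHom.RespectsIso @Q)
    (hbc : ∀ z : ↥(G ⊗ G).left, Q ((G ◁ v).left.stalkMap z).hom ↔
      Q (v.left.stalkMap ((snd G G).left.base z)).hom)
    (x x' : G.left) (hxx' : G.hom.base x = G.hom.base x') (hx : Q (v.left.stalkMap x).hom) :
    Q (v.left.stalkMap x').hom := by
  -- a point `w` of `G ⊗ G` over `(x', x)`
  obtain ⟨w, hw1, hw2⟩ := Scheme.Pullback.exists_preimage_pullback (f := G.hom) (g := G.hom)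
    x' x hxx'.symm
  let ρ : G ⊗ G ⟶ G ⊗ G := lift ((fst G G) * (snd G G)⁻¹) (snd G G)
  set z : ↥(G ⊗ G).left := ρ.left.base w with hz
  have hz1 : (snd G G).left.base z = x := by
    rw [hz, ← Scheme.Hom.comp_apply, ← Over.comp_left, lift_snd]
    exact hw2
  have hz2 : (snd G G).left.base ((shearBy (𝟙 G)).hom.left.base z) = x' := by
    rw [hz, ← Scheme.Hom.comp_apply, ← Scheme.Hom.comp_apply, ← Over.comp_left, ← Over.comp_left]
    have : ρ ≫ (shearBy (𝟙 G)).hom ≫ snd G G = fst G G := by
      simp only [shearBy, ρ, lift_snd, Category.comp_id, MonObj.comp_mul, lift_fst, lift_snd]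
      rw [inv_mul_cancel_right]
    rw [this]
    exact hw1
  have h1 : Q ((G ◁ v).left.stalkMap z).hom := by
    rw [hbc, hz1]; exact hx
  have hcomm : (shearBy (𝟙 G)).hom.left ≫ (G ◁ v).left = (G ◁ v).left ≫ (shearBy v).hom.left := by
    rw [← Over.comp_left, ← Over.comp_left, shear_comm]
  have h2 := (stalk_iso_invariance hQ (G ◁ v).left (G ◁ v).left (shearBy (𝟙 G)).hom.left
    (shearBy v).hom.left hcomm z).mp h1
  rw [hbc, hz2] at h2
  exact h2

end Homog


section Main

variable {S : Scheme.{u}} {G H : Over S} [GrpObj G] [GrpObj H] (u : G ⟶ H) [IsMonHom u]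
variable {Q : ∀ {R S : Type u} [CommRing R] [CommRing S], (R →+* S) → Prop}
variable (P : MorphismProperty Scheme.{u})

/-- the fibre hom -/
noncomputable abbrev fibHom (s : S) : Red.bc (S.fromSpecResidueField s) G ⟶ Red.bc (S.fromSpecResidueField s) H :=
  (Over.pullback (S.fromSpecResidueField s)).map u

theorem exists_point_over (x : G.left) :
    ∃ p : ↥(Red.bc (S.fromSpecResidueField (G.hom.base x)) G).left,
      (pullback.fst G.hom (S.fromSpecResidueField (G.hom.base x))).base p = x := by
  set s := G.hom.base x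
  obtain ⟨y, hy⟩ : ∃ y : Spec (S.residueField s), (S.fromSpecResidueField s).base y = s := by
    have : s ∈ Set.range (S.fromSpecResidueField s).base := by
      rw [Scheme.range_fromSpecResidueField]; rfl
    exact this
  obtain ⟨p, hp1, -⟩ := Scheme.Pullback.exists_preimage_pullback (f := G.hom)
    (g := S.fromSpecResidueField s) x y (by rw [hy])
  exact ⟨p, hp1⟩

theorem hom_fst_eq (s : S) (p : ↥(Red.bc (S.fromSpecResidueField s) G).left) :
    G.hom.base ((pullback.fst G.hom (S.fromSpecResidueField s)).base p) = s := by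
  rw [← Scheme.Hom.comp_apply, pullback.condition, Scheme.Hom.comp_apply,
    Scheme.fromSpecResidueField_apply]

theorem locus_main (hQ : RingHom.RespectsIso @Q)
    (hloc : ∀ s : S, P (fibHom u s).left ↔ ∀ p, Q ((fibHom u s).left.stalkMap p).hom)
    (hfib : ∀ (s : S) (p : ↥(Red.bc (S.fromSpecResidueField s) G).left),
      Q ((fibHom u s).left.stalkMap p).hom ↔
        Q (u.left.stalkMap ((pullback.fst G.hom (S.fromSpecResidueField s)).base p)).hom)
    (hhom : ∀ (s : S) (z : ↥(Red.bc (S.fromSpecResidueField s) G ⊗ Red.bc (S.fromSpecResidueField s) G).left),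
      Q ((Red.bc (S.fromSpecResidueField s) G ◁ fibHom u s).left.stalkMap z).hom ↔
        Q ((fibHom u s).left.stalkMap ((snd (Red.bc (S.fromSpecResidueField s) G)
          (Red.bc (S.fromSpecResidueField s) G)).left.base z)).hom)
    (hopen : IsOpen {x : G.left | Q (u.left.stalkMap x).hom}) :
    IsOpen {s : S | P (fibHom u s).left} ∧
    {x : G.left | Q (u.left.stalkMap x).hom} = G.hom.base ⁻¹' {s : S | P (fibHom u s).left} := by
  have hset : {x : G.left | Q (u.left.stalkMap x).hom} =
      G.hom.base ⁻¹' {s : S | P (fibHom u s).left} := by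
    ext x
    simp only [Set.mem_setOf_eq, Set.mem_preimage]
    obtain ⟨p, hp⟩ := exists_point_over (G := G) x
    constructor
    · intro hx
      rw [hloc]
      intro p'
      have h1 : Q ((fibHom u (G.hom.base x)).left.stalkMap p).hom := by
        rw [hfib, hp]; exact hx
      refine homogeneous (fibHom u (G.hom.base x)) hQ (hhom _) p p' ?_ h1
      exact Subsingleton.elim _ _
    · intro hx
      have h1 := (hloc _).mp hx p
      rw [hfib, hp] at h1
      exact h1
  refine ⟨?_, hset⟩
  have : {s : S | P (fibHom u s).left} =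
      (Groth.Agent.Lib.H71NeutralBC.unitHom G).base ⁻¹' {x : G.left | Q (u.left.stalkMap x).hom} := by
    rw [hset, ← Set.preimage_comp]
    have : G.hom.base ∘ (Groth.Agent.Lib.H71NeutralBC.unitHom G).base = id := by
      funext t
      change G.hom.base ((Groth.Agent.Lib.H71NeutralBC.unitHom G).base t) = t
      rw [← Scheme.Hom.comp_apply, Groth.Agent.Lib.H71NeutralBC.unitHom_comp]
      rfl
    rw [this, Set.preimage_id]
  rw [this]
  exact hopen.preimage (Groth.Agent.Lib.H71NeutralBC.unitHom G).continuous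

end Main


section PtPropCase

open Groth.Agent.Lib.H71KerCrit

variable {S : Scheme.{u}} {G H : Over S} [GrpObj G] [GrpObj H] (u : G ⟶ H) [IsMonHom u]
variable {Q : ∀ {R S : Type u} [CommRing R] [CommRing S], (R →+* S) → Prop}
variable (P : MorphismProperty Scheme.{u})

theorem isPullback_fibHom (s : S) :
    IsPullback (pullback.fst G.hom (S.fromSpecResidueField s)) (fibHom u s).left u.left
      (pullback.fst H.hom (S.fromSpecResidueField s)) :=
  (Groth.Agent.Lib.DiagDescent27.isPullback_pullback_map_left (S.fromSpecResidueField s) u).flip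

theorem isPullback_snd_whiskerLeft {S' : Scheme.{u}} {G' H' : Over S'} (v : G' ⟶ H') :
    IsPullback (snd G' G').left (G' ◁ v).left v.left (snd G' H').left :=
  (Groth.Agent.Lib.CartPull18.isPullback_whiskerLeft_snd G' v).flip.map (Over.forget S')

theorem locus_of_ptProp (hQ : RingHom.RespectsIso @Q)
    (hP : PtProp P (fun _ _ f x => Q (f.stalkMap x).hom)) [LocallyOfFiniteType u.left]
    (hopen : IsOpen {x : G.left | Q (u.left.stalkMap x).hom}) :
    IsOpen {s : S | P (fibHom u s).left} ∧
    {x : G.left | Q (u.left.stalkMap x).hom} = G.hom.base ⁻¹' {s : S | P (fibHom u s).left} := by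
  have hlft : ∀ s : S, LocallyOfFiniteType (fibHom u s).left := fun s =>
    MorphismProperty.of_isPullback (isPullback_fibHom u s) inferInstance
  refine locus_main u P hQ (fun s => hP.loc _ (hlft s))
    (fun s p => hP.bc (isPullback_fibHom u s) inferInstance p)
    (fun s z => hP.bc (isPullback_snd_whiskerLeft (fibHom u s)) (hlft s) z) hopen

/-- S5315 -/
theorem lqf_locus (S : Scheme.{u}) (G H : Over S) [GrpObj G] [GrpObj H] (u : G ⟶ H)
    [IsMonHom u] [LocallyOfFiniteType u.left] :
    IsOpen {s : S | LocallyQuasiFinite ((Over.pullback (S.fromSpecResidueField s)).map u).left} ∧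
    {x : G.left | ∃ W : G.left.Opens, x ∈ W ∧ LocallyQuasiFinite (W.ι ≫ u.left)} =
      G.hom.base ⁻¹' {s : S | LocallyQuasiFinite ((Over.pullback (S.fromSpecResidueField s)).map u).left} := by
  have key := locus_of_ptProp u @LocallyQuasiFinite RingHom.QuasiFinite.respectsIso
    ptProp_locallyQuasiFinite u.left.quasiFiniteLocus.isOpen
  refine ⟨key.1, ?_⟩
  rw [← key.2]
  ext x
  constructor
  · rintro ⟨W, hxW, hW⟩
    have h1 : (W.ι ≫ u.left).QuasiFiniteAt ⟨x, hxW⟩ := (W.ι ≫ u.left).quasiFiniteAt _
    rw [Scheme.Hom.quasiFiniteAt_comp_iff_of_isOpenImmersion] at h1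
    exact h1
  · intro hx
    exact ⟨u.left.quasiFiniteLocus, hx, inferInstance⟩

/-- S5316 -/
theorem unramified_locus (S : Scheme.{u}) (G H : Over S) [GrpObj G] [GrpObj H] (u : G ⟶ H)
    [IsMonHom u] [LocallyOfFiniteType u.left] :
    IsOpen {s : S | FormallyUnramified ((Over.pullback (S.fromSpecResidueField s)).map u).left} ∧
    {x : G.left | ∃ W : G.left.Opens, x ∈ W ∧ FormallyUnramified (W.ι ≫ u.left)} =
      G.hom.base ⁻¹' {s : S | FormallyUnramified ((Over.pullback (S.fromSpecResidueField s)).map u).left} := by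
  have key := locus_of_ptProp u @FormallyUnramified RingHom.FormallyUnramified.respectsIso
    ptProp_formallyUnramified (Groth.Agent.Lib.UnramifiedLocusBC.isOpen_unramifiedLocus u.left)
  refine ⟨key.1, ?_⟩
  rw [← key.2]
  ext x
  exact Groth.Agent.Lib.UnramifiedLocusBC.exists_nhds_formallyUnramified_iff u.left x

end PtPropCase

end Groth.Agent.Lib.H71HomLocus
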