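import Mathlib
import Groth.Prelude
import Groth.Agent.Lib.H71HomLocus
import Groth.Agent.Lib.FlatLocusBC36
import Groth.Agent.Lib.SmoothFibreRelSch
import Groth.Agent.Lib.SmoothLocusBC
import Groth.Agent.Lib.H80EtaleStalk

set_option autoImplicit false
universe u

open CategoryTheory CategoryTheory.Limits MonoidalCategory CartesianMonoidalCategory MonObj GrpObj
  AlgebraicGeometry

namespace Groth.Agent.Lib.H71HomLocus

section FlatCase

variable {S : Scheme.{u}} {G H : Over S} [GrpObj G] [GrpObj H] (u : G ⟶ H) [IsMonHom u]
  [Flat G.hom] [LocallyOfFinitePresentation G.hom] [LocallyOfFiniteType H.hom]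

theorem lfp_comp : LocallyOfFinitePresentation (u.left ≫ H.hom) := by
  rw [Over.w u]; infer_instance

theorem flat_comp : Flat (u.left ≫ H.hom) := by
  rw [Over.w u]; infer_instance

theorem lfp_left : LocallyOfFinitePresentation u.left :=
  Groth.Agent.Lib.SmoothFibreRelSch.locallyOfFinitePresentation_of_comp u.left H.hom (lfp_comp u)
    inferInstance

/-- S5312 -/
theorem flat_locus :
    IsOpen {s : S | Flat ((Over.pullback (S.fromSpecResidueField s)).map u).left} ∧
    {x : G.left | (u.left.stalkMap x).hom.Flat} =
      G.hom.base ⁻¹' {s : S | Flat ((Over.pullback (S.fromSpecResidueField s)).map u).left} := by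
  have := lfp_comp u
  have := flat_comp u
  have := lfp_left u
  refine locus_main u @Flat RingHom.Flat.respectsIso (fun s => Flat.iff_flat_stalkMap _) ?_ ?_
    (Groth.Agent.Lib.CritFibFib88.isOpen_flat_locus u.left)
  · intro s p
    exact Groth.Agent.Lib.FlatLocusBC36.flat_stalkMap_baseChange_iff u.left H.hom
      (IsPullback.of_hasPullback H.hom (S.fromSpecResidueField s)) (isPullback_fibHom u s) p
  · intro s z
    have : LocallyOfFinitePresentation (Red.bc (S.fromSpecResidueField s) G).hom := by
      change LocallyOfFinitePresentation (pullback.snd G.hom (S.fromSpecResidueField s))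
      infer_instance
    have : Flat (Red.bc (S.fromSpecResidueField s) G).hom := by
      change Flat (pullback.snd G.hom (S.fromSpecResidueField s))
      infer_instance
    have : LocallyOfFiniteType (Red.bc (S.fromSpecResidueField s) H).hom := by
      change LocallyOfFiniteType (pullback.snd H.hom (S.fromSpecResidueField s))
      infer_instance
    have : LocallyOfFinitePresentation ((fibHom u s).left ≫ (Red.bc (S.fromSpecResidueField s) H).hom) :=
      lfp_comp (fibHom u s)
    have : Flat ((fibHom u s).left ≫ (Red.bc (S.fromSpecResidueField s) H).hom) :=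
      flat_comp (fibHom u s)
    exact Groth.Agent.Lib.FlatLocusBC36.flat_stalkMap_baseChange_iff (fibHom u s).left
      (Red.bc (S.fromSpecResidueField s) H).hom
      (IsPullback.of_hasPullback (Red.bc (S.fromSpecResidueField s) G).hom
        (Red.bc (S.fromSpecResidueField s) H).hom).flip
      (isPullback_snd_whiskerLeft (fibHom u s)) z


theorem bc_instances (s : S) :
    LocallyOfFinitePresentation (Red.bc (S.fromSpecResidueField s) G).hom ∧
    Flat (Red.bc (S.fromSpecResidueField s) G).hom ∧
    LocallyOfFiniteType (Red.bc (S.fromSpecResidueField s) H).hom := by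
  refine ⟨?_, ?_, ?_⟩
  · change LocallyOfFinitePresentation (pullback.snd G.hom (S.fromSpecResidueField s))
    infer_instance
  · change Flat (pullback.snd G.hom (S.fromSpecResidueField s))
    infer_instance
  · change LocallyOfFiniteType (pullback.snd H.hom (S.fromSpecResidueField s))
    infer_instance

theorem smooth_iff_forall_stalk {X Y : Scheme.{u}} (f : X ⟶ Y) [LocallyOfFinitePresentation f] :
    Smooth f ↔ ∀ x, (f.stalkMap x).hom.FormallySmooth := by
  rw [← Scheme.Hom.smoothLocus_eq_top_iff]
  constructor
  · intro h x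
    rw [← Scheme.Hom.mem_smoothLocus, h]; trivial
  · intro h
    rw [← top_le_iff]
    intro x _
    rw [Scheme.Hom.mem_smoothLocus]
    exact h x

theorem hfib_smooth (s : S) (p : ↥(Red.bc (S.fromSpecResidueField s) G).left) :
    ((fibHom u s).left.stalkMap p).hom.FormallySmooth ↔
      (u.left.stalkMap ((pullback.fst G.hom (S.fromSpecResidueField s)).base p)).hom.FormallySmooth := by
  have := lfp_comp u
  have := flat_comp u
  exact (Groth.Agent.Lib.SmoothFibreRelSch.formallySmooth_stalkMap_iff_fibre H.hom u.left s
    (isPullback_fibHom u s) p (Flat.stalkMap _ _)).symm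

theorem hhom_smooth (s : S)
    (z : ↥(Red.bc (S.fromSpecResidueField s) G ⊗ Red.bc (S.fromSpecResidueField s) G).left) :
    ((Red.bc (S.fromSpecResidueField s) G ◁ fibHom u s).left.stalkMap z).hom.FormallySmooth ↔
      ((fibHom u s).left.stalkMap ((snd (Red.bc (S.fromSpecResidueField s) G)
        (Red.bc (S.fromSpecResidueField s) G)).left.base z)).hom.FormallySmooth := by
  obtain ⟨h1, h2, h3⟩ := bc_instances (G := G) (H := H) s
  have : LocallyOfFinitePresentation (fibHom u s).left := lfp_left (fibHom u s)
  have sq := isPullback_snd_whiskerLeft (fibHom u s)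
  have : Flat (snd (Red.bc (S.fromSpecResidueField s) G) (Red.bc (S.fromSpecResidueField s) H)).left := by
    change Flat (pullback.snd (Red.bc (S.fromSpecResidueField s) G).hom
      (Red.bc (S.fromSpecResidueField s) H).hom)
    infer_instance
  exact ⟨Groth.Agent.Lib.SmoothLocusBC.formallySmooth_stalkMap_of_isPullback_of_flat sq z,
    Groth.Agent.Lib.SmoothLocusBC.formallySmooth_stalkMap_snd_of_isPullback sq z⟩

/-- S5313 -/
theorem smooth_locus :
    IsOpen {s : S | Smooth ((Over.pullback (S.fromSpecResidueField s)).map u).left} ∧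
    {x : G.left | ∃ W : G.left.Opens, x ∈ W ∧ Smooth (W.ι ≫ u.left)} =
      G.hom.base ⁻¹' {s : S | Smooth ((Over.pullback (S.fromSpecResidueField s)).map u).left} := by
  have := lfp_left u
  have hopen : IsOpen {x : G.left | (u.left.stalkMap x).hom.FormallySmooth} := by
    have : {x : G.left | (u.left.stalkMap x).hom.FormallySmooth} = (u.left.smoothLocus : Set G.left) := by
      ext x; exact Scheme.Hom.mem_smoothLocus.symm
    rw [this]; exact u.left.smoothLocus.isOpen
  have key := locus_main u @Smooth RingHom.FormallySmooth.respectsIso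
    (fun s => by
      obtain ⟨h1, h2, h3⟩ := bc_instances (G := G) (H := H) s
      have : LocallyOfFinitePresentation (fibHom u s).left := lfp_left (fibHom u s)
      exact smooth_iff_forall_stalk _)
    (hfib_smooth u) (hhom_smooth u) hopen
  refine ⟨key.1, ?_⟩
  rw [← key.2]
  ext x
  exact Groth.Agent.Lib.SmoothLocusBC.exists_nhds_smooth_iff u.left x


theorem respectsIso_and :
    RingHom.RespectsIso (fun {R S : Type u} [CommRing R] [CommRing S] (φ : R →+* S) =>
      φ.FormallySmooth ∧ φ.FormallyUnramified) :=
  ⟨fun f e h => ⟨RingHom.FormallySmooth.respectsIso.1 f e h.1,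
      RingHom.FormallyUnramified.respectsIso.1 f e h.2⟩,
    fun f e h => ⟨RingHom.FormallySmooth.respectsIso.2 f e h.1,
      RingHom.FormallyUnramified.respectsIso.2 f e h.2⟩⟩

theorem etale_iff_forall_stalk {X Y : Scheme.{u}} (f : X ⟶ Y) [LocallyOfFinitePresentation f] :
    Etale f ↔ ∀ x, (f.stalkMap x).hom.FormallySmooth ∧ (f.stalkMap x).hom.FormallyUnramified := by
  constructor
  · intro h x
    rw [← Groth.Agent.Lib.H80EtaleStalk.exists_etale_nhd_iff]
    exact ⟨⊤, trivial, inferInstance⟩
  · intro h
    choose U hxU hU using fun x => (Groth.Agent.Lib.H80EtaleStalk.exists_etale_nhd_iff f x).mpr (h x)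
    have hsup : iSup U = ⊤ := by
      rw [← top_le_iff]
      intro x _
      exact TopologicalSpace.Opens.mem_iSup.mpr ⟨x, hxU x⟩
    exact (IsZariskiLocalAtSource.iff_of_iSup_eq_top (P := @Etale) U hsup).mpr hU

theorem hfib_unram (s : S) (p : ↥(Red.bc (S.fromSpecResidueField s) G).left) :
    ((fibHom u s).left.stalkMap p).hom.FormallyUnramified ↔
      (u.left.stalkMap ((pullback.fst G.hom (S.fromSpecResidueField s)).base p)).hom.FormallyUnramified := by
  have := lfp_left u
  exact Groth.Agent.Lib.UnramifiedLocusBC.formallyUnramified_stalkMap_iff_of_isPullback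
    (isPullback_fibHom u s) p

theorem hhom_unram (s : S)
    (z : ↥(Red.bc (S.fromSpecResidueField s) G ⊗ Red.bc (S.fromSpecResidueField s) G).left) :
    ((Red.bc (S.fromSpecResidueField s) G ◁ fibHom u s).left.stalkMap z).hom.FormallyUnramified ↔
      ((fibHom u s).left.stalkMap ((snd (Red.bc (S.fromSpecResidueField s) G)
        (Red.bc (S.fromSpecResidueField s) G)).left.base z)).hom.FormallyUnramified := by
  obtain ⟨h1, h2, h3⟩ := bc_instances (G := G) (H := H) s
  have : LocallyOfFinitePresentation (fibHom u s).left := lfp_left (fibHom u s)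
  exact Groth.Agent.Lib.UnramifiedLocusBC.formallyUnramified_stalkMap_iff_of_isPullback
    (isPullback_snd_whiskerLeft (fibHom u s)) z

/-- S5314 -/
theorem etale_locus :
    IsOpen {s : S | Etale ((Over.pullback (S.fromSpecResidueField s)).map u).left} ∧
    {x : G.left | ∃ W : G.left.Opens, x ∈ W ∧ Etale (W.ι ≫ u.left)} =
      G.hom.base ⁻¹' {s : S | Etale ((Over.pullback (S.fromSpecResidueField s)).map u).left} := by
  have := lfp_left u
  have hopen : IsOpen {x : G.left | (u.left.stalkMap x).hom.FormallySmooth ∧
      (u.left.stalkMap x).hom.FormallyUnramified} := by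
    have : {x : G.left | (u.left.stalkMap x).hom.FormallySmooth ∧
        (u.left.stalkMap x).hom.FormallyUnramified} =
        (u.left.smoothLocus : Set G.left) ∩ {x | (u.left.stalkMap x).hom.FormallyUnramified} := by
      ext x
      exact and_congr Scheme.Hom.mem_smoothLocus.symm Iff.rfl
    rw [this]
    exact u.left.smoothLocus.isOpen.inter
      (Groth.Agent.Lib.UnramifiedLocusBC.isOpen_unramifiedLocus u.left)
  have key := locus_main u @Etale respectsIso_and
    (fun s => by
      obtain ⟨h1, h2, h3⟩ := bc_instances (G := G) (H := H) s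
      have : LocallyOfFinitePresentation (fibHom u s).left := lfp_left (fibHom u s)
      exact etale_iff_forall_stalk _)
    (fun s p => and_congr (hfib_smooth u s p) (hfib_unram u s p))
    (fun s z => and_congr (hhom_smooth u s z) (hhom_unram u s z)) hopen
  refine ⟨key.1, ?_⟩
  rw [← key.2]
  ext x
  exact Groth.Agent.Lib.H80EtaleStalk.exists_etale_nhd_iff u.left x

end FlatCase

end Groth.Agent.Lib.H71HomLocus
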