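import Mathlib
import Groth.Prelude
import Groth.Agent.Lib.H71HomLocus2
import Groth.Agent.Lib.EtaleLocusBC

set_option autoImplicit false
universe u

open CategoryTheory CategoryTheory.Limits MonoidalCategory CartesianMonoidalCategory MonObj GrpObj
  AlgebraicGeometry

namespace Groth.Agent.Lib.H71HomLocus

section FlatHomog

variable {S : Scheme.{u}} {G H : Over S} [GrpObj G] [GrpObj H] (u : G ⟶ H) [IsMonHom u]

omit [GrpObj G] in
theorem flat_snd_of_flat [Flat G.hom] (K : Over S) : Flat (snd G K).left := by
  change Flat (pullback.snd G.hom K.hom)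
  infer_instance

omit [GrpObj G] [GrpObj H] [IsMonHom u] in
/-- flatness of a hom at a point is compatible with the base change along `G ⟶ S`, when `G` is
flat over `S`. -/
theorem hbc_flat [Flat G.hom] (z : ↥(G ⊗ G).left) :
    ((G ◁ u).left.stalkMap z).hom.Flat ↔ (u.left.stalkMap ((snd G G).left.base z)).hom.Flat := by
  have sq := isPullback_snd_whiskerLeft u
  have := flat_snd_of_flat (G := G) H
  constructor
  · intro h
    exact Groth.Agent.Lib.EtaleLocusBC.flat_stalkMap_of_isPullback sq z (Flat.stalkMap _ _) h
  · intro h
    exact Groth.Agent.Lib.EtaleLocusBC.flat_stalkMap_fst_of_isPullback sq.flip z h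

/-- A hom of group schemes with flat source, flat at a point `x`, is flat at all points of the
fibre of `G ⟶ S` through `x`. -/
theorem flat_homogeneous [Flat G.hom] (x x' : G.left) (hxx' : G.hom.base x = G.hom.base x')
    (hx : (u.left.stalkMap x).hom.Flat) : (u.left.stalkMap x').hom.Flat :=
  homogeneous u (Q := @RingHom.Flat) RingHom.Flat.respectsIso (hbc_flat u) x x' hxx' hx

end FlatHomog

section Artin

theorem subsingleton_spec_of_artinian_local (A : Type u) [CommRing A] [IsArtinianRing A]
    [IsLocalRing A] : Subsingleton (Spec (CommRingCat.of A)) := by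
  have : Subsingleton (PrimeSpectrum A) := by
    constructor
    intro p q
    have hp : p.asIdeal.IsMaximal := Ideal.IsPrime.isMaximal' p.isPrime
    have hq : q.asIdeal.IsMaximal := Ideal.IsPrime.isMaximal' q.isPrime
    ext1
    rw [IsLocalRing.eq_maximalIdeal hp, IsLocalRing.eq_maximalIdeal hq]
  exact this

end Artin

end Groth.Agent.Lib.H71HomLocus
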