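import Mathlib.RingTheory.TensorProduct.IsBaseChangeFree
import Mathlib.RingTheory.IsTensorProduct
import Mathlib.RingTheory.Ideal.Maps
import Mathlib.Algebra.Category.Ring.Constructions

/-!
# Base change along a free ring extension and arbitrary intersections of kernels (helper71, Mathlib only)

* `mem_map_iff_repr`: for a free `A`-algebra `A'` with basis `b`, `s ∈ I·A'` iff all coordinates of `s` lie in `I`.
* `map_eq_zero_iff_repr`: a ring map `A' → B'` over `A → B` matching bases is computed coordinatewise.
* `iInf_ker_eq_map`: if `R → R'` is free and `A' = A ⊗_R R'`, `B'_j = B_j ⊗_R R'` (as `Algebra.IsPushout`), then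
  `⨅ j, ker (g'_j) = (⨅ j, ker g_j)·A'` for compatible families `g_j : A → B_j`, `g'_j : A' → B'_j`
  (arbitrary index set: this is where freeness, not just flatness, is used).
* `iInf_ker_eq_map_of_isPushout`: the same for pushout squares in `CommRingCat`.
-/

set_option autoImplicit false
universe u

open CategoryTheory CategoryTheory.Limits

namespace Groth.Agent.Lib.H71FreeBC

section Basis

variable {A A' : Type*} [CommRing A] [CommRing A'] [Algebra A A'] {ι : Type*}
  (b : Module.Basis ι A A')

/-- For a free algebra `A'` over `A` with basis `b`, the extension of an ideal `I` of `A` consists of the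
elements all of whose coordinates lie in `I`. -/
theorem mem_map_iff_repr (I : Ideal A) (s : A') :
    s ∈ Ideal.map (algebraMap A A') I ↔ ∀ i, b.repr s i ∈ I := by
  have h1 : s ∈ Ideal.map (algebraMap A A') I ↔ s ∈ I • (⊤ : Submodule A A') := by
    rw [Ideal.smul_top_eq_map]; rfl
  rw [h1, ← b.span_eq, Submodule.mem_ideal_smul_span_iff_exists_sum]
  constructor
  · rintro ⟨a, ha, rfl⟩ i
    have : (a.sum fun i c => c • b i) = Finsupp.linearCombination A b a := rfl
    rw [this, b.repr_linearCombination]
    exact ha i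
  · intro h
    exact ⟨b.repr s, h, b.linearCombination_repr s⟩

end Basis

section Semilinear

variable {A A' B B' : Type*} [CommRing A] [CommRing A'] [CommRing B] [CommRing B']
  [Algebra A A'] [Algebra B B'] {ι : Type*} (bA : Module.Basis ι A A') (bB : Module.Basis ι B B')
  (g : A →+* B) (g' : A' →+* B')
  (hcomm : ∀ a, g' (algebraMap A A' a) = algebraMap B B' (g a))
  (hb : ∀ i, g' (bA i) = bB i)

include hcomm hb in
/-- A ring map between free algebras compatible with bases is computed coordinatewise. -/
theorem map_eq_zero_iff_repr (s : A') : g' s = 0 ↔ ∀ i, g (bA.repr s i) = 0 := by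
  have h1 : g' s = Finsupp.linearCombination B bB ((bA.repr s).mapRange g (map_zero g)) := by
    conv_lhs => rw [← bA.linearCombination_repr s]
    rw [Finsupp.linearCombination_apply, Finsupp.linearCombination_apply, Finsupp.sum, map_sum,
      Finsupp.sum_mapRange_index (by intro i; exact zero_smul _ _), Finsupp.sum]
    refine Finset.sum_congr rfl fun i _ => ?_
    rw [Algebra.smul_def, map_mul, hcomm, hb, Algebra.smul_def]
  rw [h1]
  constructor
  · intro h i
    have h3 : (bA.repr s).mapRange g (map_zero g) = 0 := by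
      apply (Module.Basis.linearIndependent bB).finsuppLinearCombination_injective
      rw [h, map_zero]
    have := DFunLike.congr_fun h3 i
    simpa using this
  · intro h
    have h3 : (bA.repr s).mapRange g (map_zero g) = 0 := by
      ext i
      simp [h i]
    rw [h3, map_zero]

end Semilinear

section Family

/-- Base change along a free extension `R → R'` commutes with arbitrary intersections of kernels. -/
theorem iInf_ker_eq_map (R R' : Type*) {A A' : Type*} [CommRing R] [CommRing R'] [CommRing A]
    [CommRing A'] [Algebra R R'] [Algebra R A] [Algebra A A'] [Algebra R' A'] [Algebra R A']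
    [IsScalarTower R R' A'] [IsScalarTower R A A'] [Algebra.IsPushout R A R' A'] [Module.Free R R']
    {J : Type*} {B B' : J → Type*} [∀ j, CommRing (B j)] [∀ j, CommRing (B' j)]
    [∀ j, Algebra R (B j)] [∀ j, Algebra (B j) (B' j)] [∀ j, Algebra R' (B' j)]
    [∀ j, Algebra R (B' j)] [∀ j, IsScalarTower R R' (B' j)] [∀ j, IsScalarTower R (B j) (B' j)]
    [∀ j, Algebra.IsPushout R (B j) R' (B' j)]
    (g : ∀ j, A →+* B j) (g' : ∀ j, A' →+* B' j)
    (hcomm : ∀ j a, g' j (algebraMap A A' a) = algebraMap (B j) (B' j) (g j a))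
    (hR' : ∀ j r, g' j (algebraMap R' A' r) = algebraMap R' (B' j) r) :
    ⨅ j, RingHom.ker (g' j) = Ideal.map (algebraMap A A') (⨅ j, RingHom.ker (g j)) := by
  let e := Module.Free.chooseBasis R R'
  let bA : Module.Basis _ A A' := (Algebra.IsPushout.out (R := R) (S := A) (R' := R') (S' := A')).basis e
  let bB : ∀ j, Module.Basis _ (B j) (B' j) := fun j =>
    (Algebra.IsPushout.out (R := R) (S := B j) (R' := R') (S' := B' j)).basis e
  have hbA : ∀ i, bA i = algebraMap R' A' (e i) := fun i => IsBaseChange.basis_apply _ _ i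
  have hbB : ∀ j i, bB j i = algebraMap R' (B' j) (e i) := fun j i => IsBaseChange.basis_apply _ _ i
  ext s
  rw [mem_map_iff_repr bA]
  simp only [Ideal.mem_iInf, RingHom.mem_ker]
  have key : ∀ j, g' j s = 0 ↔ ∀ i, g j (bA.repr s i) = 0 := fun j =>
    map_eq_zero_iff_repr bA (bB j) (g j) (g' j) (hcomm j) (fun i => by rw [hbA, hbB, hR']) s
  constructor
  · intro h i j
    exact (key j).1 (h j) i
  · intro h j
    exact (key j).2 fun i => h i j

end Family

section Cat

/-- `CommRingCat` form of `iInf_ker_eq_map`: pushout squares over a free extension `r : R ⟶ R'`. -/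
theorem iInf_ker_eq_map_of_isPushout {R R' A A' : CommRingCat.{u}} {a : R ⟶ A} {r : R ⟶ R'}
    {φ : A ⟶ A'} {ρ : R' ⟶ A'} (hA : IsPushout a r φ ρ)
    (hfree : letI := r.hom.toAlgebra; Module.Free R R')
    {J : Type*} {B B' : J → CommRingCat.{u}} (b : ∀ j, R ⟶ B j) (ψ : ∀ j, B j ⟶ B' j)
    (σ : ∀ j, R' ⟶ B' j) (hB : ∀ j, IsPushout (b j) r (ψ j) (σ j))
    (g : ∀ j, A ⟶ B j) (g' : ∀ j, A' ⟶ B' j)
    (h1 : ∀ j, φ ≫ g' j = g j ≫ ψ j) (h2 : ∀ j, ρ ≫ g' j = σ j) :
    ⨅ j, RingHom.ker (g' j).hom = Ideal.map φ.hom (⨅ j, RingHom.ker (g j).hom) := by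
  letI : Algebra R R' := r.hom.toAlgebra
  letI : Algebra R A := a.hom.toAlgebra
  letI : Algebra A A' := φ.hom.toAlgebra
  letI : Algebra R' A' := ρ.hom.toAlgebra
  letI : Algebra R A' := (a ≫ φ).hom.toAlgebra
  haveI : IsScalarTower R A A' := .of_algebraMap_eq' rfl
  haveI : IsScalarTower R R' A' := .of_algebraMap_eq' (by
    change (a ≫ φ).hom = (r ≫ ρ).hom
    rw [hA.w])
  letI : ∀ j, Algebra R (B j) := fun j => (b j).hom.toAlgebra
  letI : ∀ j, Algebra (B j) (B' j) := fun j => (ψ j).hom.toAlgebra
  letI : ∀ j, Algebra R' (B' j) := fun j => (σ j).hom.toAlgebra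
  letI : ∀ j, Algebra R (B' j) := fun j => (b j ≫ ψ j).hom.toAlgebra
  haveI : ∀ j, IsScalarTower R (B j) (B' j) := fun j => .of_algebraMap_eq' rfl
  haveI : ∀ j, IsScalarTower R R' (B' j) := fun j => .of_algebraMap_eq' (by
    change (b j ≫ ψ j).hom = (r ≫ σ j).hom
    rw [(hB j).w])
  haveI : Algebra.IsPushout R A R' A' := CommRingCat.isPushout_iff_isPushout.mp hA
  haveI : ∀ j, Algebra.IsPushout R (B j) R' (B' j) := fun j =>
    CommRingCat.isPushout_iff_isPushout.mp (hB j)
  haveI : Module.Free R R' := hfree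
  exact iInf_ker_eq_map R R' (fun j => (g j).hom) (fun j => (g' j).hom)
    (fun j x => congr($(h1 j).hom x)) (fun j x => congr($(h2 j).hom x))

end Cat

end Groth.Agent.Lib.H71FreeBC
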