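import Groth.Agent.Lib.MacLane5H44
import Groth.Agent.Lib.H71GeomRedAt3
import Mathlib.RingTheory.Localization.BaseChange
import Mathlib.RingTheory.LocalProperties.Reduced
import Mathlib.RingTheory.KrullDimension.Zero

/-!
# The Frobenius twist criterion for geometric reducedness (helper71)

* `FrobTwist k p`: `k` as a `k`-algebra via Frobenius (isomorphic to `k^{1/p}`).
* `isReduced_tensor_of_isLocalization`: reducedness of `- ⊗[k] Ω` passes to localizations.
* `isGeometricallyReduced_of_isReduced_tensor_frobTwist`: if `A ⊗[k] k^{1/p}` is reduced then `A` is geometrically reduced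
  over `k` (Stacks 030V, via MacLane's criterion at the minimal primes).
-/

set_option autoImplicit false
universe u

open TensorProduct

namespace Groth.Agent.Lib.H71FrobTwist

/-- `k` regarded as a `k`-algebra via the Frobenius `a ↦ a ^ p`. -/
def FrobTwist (k : Type u) (_p : ℕ) : Type u := k

section

variable (k : Type u) [Field k] (p : ℕ)

noncomputable instance : Field (FrobTwist k p) := inferInstanceAs (Field k)

variable [Fact p.Prime] [CharP k p]

noncomputable instance : Algebra k (FrobTwist k p) :=
  RingHom.toAlgebra (show k →+* FrobTwist k p from frobenius k p)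

theorem algebraMap_frobTwist : algebraMap k (FrobTwist k p) = frobenius k p := rfl

/-- Reducedness of `- ⊗[k] Ω` passes to localizations. -/
theorem isReduced_tensor_of_isLocalization (Ω : Type u) [CommRing Ω] [Algebra k Ω]
    (R S : Type u) [CommRing R] [CommRing S]
    [Algebra k R] [Algebra R S] [Algebra k S] [IsScalarTower k R S] (M : Submonoid R)
    [IsLocalization M S] (h1 : IsReduced (R ⊗[k] Ω)) : IsReduced (S ⊗[k] Ω) := by
  letI := Algebra.TensorProduct.rightAlgebra (R := R) (A := S) (B := R ⊗[k] Ω)
  have hloc : IsLocalization (Algebra.algebraMapSubmonoid (R ⊗[k] Ω) M)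
      (S ⊗[R] (R ⊗[k] Ω)) := IsLocalization.tensorRight _ M
  have h2 : IsReduced (S ⊗[R] (R ⊗[k] Ω)) :=
    isReduced_localizationPreserves (Algebra.algebraMapSubmonoid (R ⊗[k] Ω) M) _ h1
  exact isReduced_of_injective
    (Algebra.TensorProduct.cancelBaseChange k R R S Ω).symm.toRingHom
    (Algebra.TensorProduct.cancelBaseChange k R R S Ω).symm.injective

/-- MacLane: a `k`-algebra whose Frobenius twist is reduced is geometrically reduced. -/
theorem isGeometricallyReduced_of_isReduced_tensor_frobTwist (A : Type u) [CommRing A]
    [Algebra k A] (h : IsReduced (A ⊗[k] FrobTwist k p)) : Algebra.IsGeometricallyReduced k A := by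
  haveI : IsReduced A :=
    isReduced_of_injective (Algebra.TensorProduct.includeLeft : A →ₐ[k] A ⊗[k] FrobTwist k p)
      (Algebra.TensorProduct.includeLeft_injective (algebraMap k (FrobTwist k p)).injective)
  apply Groth.Agent.Lib.H71GeomRedAt.isGeometricallyReduced_of_minimalPrimes k A
  intro P hP
  haveI := hP.1.1
  have hdim : Ring.KrullDimLE 0 (Localization.AtPrime P) := .of_isLocalization _ hP _
  letI : Field (Localization.AtPrime P) := Ring.KrullDimLE.isField_of_isReduced.toField
  haveI : IsReduced (Localization.AtPrime P ⊗[k] FrobTwist k p) :=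
    isReduced_tensor_of_isLocalization k (FrobTwist k p) A (Localization.AtPrime P) P.primeCompl h
  have hLD : Groth.Agent.Lib.MacLaneH44.LD p k (Localization.AtPrime P) :=
    Groth.Agent.Lib.MacLaneH44.LD.of_isReduced (FrobTwist k p) (fun a => ⟨a, rfl⟩)
  have hgeo : Algebra.IsGeometricallyReduced k (Localization.AtPrime P) :=
    (Groth.Agent.Lib.MacLaneH44.isGeometricallyReduced_iff_LD p k (Localization.AtPrime P)).mpr hLD
  refine ⟨Localization.AtPrime P, inferInstance, inferInstance, hgeo,
    IsScalarTower.toAlgHom k A (Localization.AtPrime P), ?_⟩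
  intro a ha
  rw [RingHom.mem_ker] at ha
  obtain ⟨s, hs⟩ := (IsLocalization.map_eq_zero_iff P.primeCompl (Localization.AtPrime P) a).mp ha
  have : (s : A) * a ∈ P := by rw [hs]; exact P.zero_mem
  exact (‹P.IsPrime›.mem_or_mem this).resolve_left s.2

end

end Groth.Agent.Lib.H71FrobTwist
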