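import Groth.Agent.Lib.H71GalDescent
import Groth.Agent.Lib.H71ClopenOrbit

set_option autoImplicit false
universe u
open CategoryTheory CategoryTheory.Limits AlgebraicGeometry TensorProduct

namespace Groth.Agent.Lib.H71GalConn

open Groth.Agent.Lib.GalAct13 Groth.Agent.Lib.FieldBC13 Groth.Agent.Lib.H71GalDescent

variable {k : Type u} [Field k] (L : Type u) [Field L] [Algebra k L]

section Setup

variable {X : Scheme.{u}} (f : X ⟶ Spec (CommRingCat.of k))

/-- Galois-invariant clopen subsets of `X_L` are trivial when `X` is connected. -/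
theorem eq_empty_or_univ_of_invariant [IsGalois k L] [ConnectedSpace X]
    (S : Set ↥(pullback f (Spec.map (CommRingCat.ofHom (algebraMap k L))))) (hS : IsClopen S)
    (hinv : ∀ σ : L ≃ₐ[k] L, actHomeo L f σ '' S ⊆ S) : S = ∅ ∨ S = Set.univ := by
  have h1 := preimage_image_eq_of_invariant L f S hinv
  have h2 : IsClopen (pullback.fst f (Spec.map (CommRingCat.ofHom (algebraMap k L))) '' S) :=
    ⟨isClosedMap_fst L f _ hS.1, isOpenMap_fst L f _ hS.2⟩
  rcases isClopen_iff.mp h2 with h | h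
  · left
    rw [← h1, h, Set.preimage_empty]
  · right
    rw [← h1, h, Set.preimage_univ]

end Setup

end Groth.Agent.Lib.H71GalConn

namespace Groth.Agent.Lib.H71GalConn

open Groth.Agent.Lib.GalAct13 Groth.Agent.Lib.FieldBC13 Groth.Agent.Lib.H71GalDescent
open Groth.Agent.Lib.H71ClopenOrbit

variable {k : Type u} [Field k] (L : Type u) [Field L] [Algebra k L]

variable {X : Scheme.{u}} (f : X ⟶ Spec (CommRingCat.of k))

theorem actHomeo_one_apply (z : ↥(pullback f (Spec.map (CommRingCat.ofHom (algebraMap k L))))) :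
    actHomeo L f 1 z = z := by
  rw [actHomeo_apply, act_one]; rfl

theorem actHomeo_mul_apply (σ τ : L ≃ₐ[k] L)
    (z : ↥(pullback f (Spec.map (CommRingCat.ofHom (algebraMap k L))))) :
    actHomeo L f (σ * τ) z = actHomeo L f τ (actHomeo L f σ z) := by
  rw [actHomeo_apply, act_mul]; rfl

/-- The stabilizer of a subset of `X_L`. -/
def stab (E : Set ↥(pullback f (Spec.map (CommRingCat.ofHom (algebraMap k L))))) :
    Subgroup (L ≃ₐ[k] L) where
  carrier := {τ | actHomeo L f τ '' E = E}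
  mul_mem' := by
    intro σ τ hσ hτ
    show actHomeo L f (σ * τ) '' E = E
    rw [← image_image (actHomeo L f) (actHomeo_mul_apply L f), hσ, hτ]
  one_mem' := by
    show actHomeo L f 1 '' E = E
    ext z
    constructor
    · rintro ⟨w, hw, rfl⟩; rwa [actHomeo_one_apply]
    · intro hz; exact ⟨z, hz, actHomeo_one_apply L f z⟩
  inv_mem' := by
    intro σ hσ
    show actHomeo L f σ⁻¹ '' E = E
    have h1 : actHomeo L f σ⁻¹ '' (actHomeo L f σ '' E) = actHomeo L f (σ * σ⁻¹) '' E :=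
      image_image (actHomeo L f) (actHomeo_mul_apply L f) E σ σ⁻¹
    rw [hσ, mul_inv_cancel] at h1
    rw [h1]
    ext z
    constructor
    · rintro ⟨w, hw, rfl⟩; rwa [actHomeo_one_apply]
    · intro hz; exact ⟨z, hz, actHomeo_one_apply L f z⟩

end Groth.Agent.Lib.H71GalConn

namespace Groth.Agent.Lib.H71GalConn

open Groth.Agent.Lib.GalAct13 Groth.Agent.Lib.FieldBC13 Groth.Agent.Lib.H71GalDescent
open Groth.Agent.Lib.H71ClopenOrbit

variable {k : Type u} [Field k] (L : Type u) [Field L] [Algebra k L]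

variable {X : Scheme.{u}} (f : X ⟶ Spec (CommRingCat.of k))

/-- The twisted inclusion `L₁ → L`, `l ↦ τ⁻¹ l`. -/
noncomputable def cmap (L₁ : IntermediateField k L) (τ : L ≃ₐ[k] L) : L₁ →+* L :=
  ((τ⁻¹ : L ≃ₐ[k] L) : L →+* L).comp (algebraMap L₁ L)

theorem cmap_apply (L₁ : IntermediateField k L) (τ : L ≃ₐ[k] L) (l : L₁) :
    cmap L L₁ τ l = τ⁻¹ (l : L) := rfl

theorem cmap_comp_algebraMap (L₁ : IntermediateField k L) (τ : L ≃ₐ[k] L) :
    (cmap L L₁ τ).comp (algebraMap k L₁) = algebraMap k L := by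
  ext c
  simp only [RingHom.comp_apply, cmap_apply]
  show τ⁻¹ (algebraMap k L c) = _
  exact (τ⁻¹).commutes c

theorem cmap_mul_of_mem (H : Subgroup (L ≃ₐ[k] L)) (γ τ : L ≃ₐ[k] L) (hγ : γ ∈ H) :
    cmap L (IntermediateField.fixedField H) (γ * τ) = cmap L (IntermediateField.fixedField H) τ := by
  ext l
  simp only [cmap_apply, mul_inv_rev, AlgEquiv.mul_apply]
  congr 1
  have := l.2
  rw [IntermediateField.mem_fixedField_iff] at this
  exact this γ⁻¹ (H.inv_mem hγ)

theorem comp_cmap (L₁ : IntermediateField k L) (τ σ : L ≃ₐ[k] L) :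
    ((σ : L →ₐ[k] L).toRingHom).comp (cmap L L₁ (τ * σ)) = cmap L L₁ τ := by
  ext l
  simp only [RingHom.comp_apply, cmap_apply, mul_inv_rev, AlgEquiv.mul_apply]
  show σ (σ⁻¹ (τ⁻¹ (l : L))) = _
  rw [← AlgEquiv.mul_apply, mul_inv_cancel, AlgEquiv.one_apply]

end Groth.Agent.Lib.H71GalConn

namespace Groth.Agent.Lib.H71GalConn

open Groth.Agent.Lib.GalAct13 Groth.Agent.Lib.FieldBC13 Groth.Agent.Lib.H71GalDescent
open Groth.Agent.Lib.H71ClopenOrbit

variable {k : Type u} [Field k] (L : Type u) [Field L] [Algebra k L]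

variable {X : Scheme.{u}} (f : X ⟶ Spec (CommRingCat.of k))

/-- Construction of the descended morphism from a clopen set `E` whose translates partition `X_L`. -/
theorem exists_hom_of_clopen_orbit [IsGalois k L]
    (E : Set ↥(pullback f (Spec.map (CommRingCat.ofHom (algebraMap k L))))) (hEc : IsClopen E)
    (hdich : ∀ σ, actHomeo L f σ '' E = E ∨ Disjoint (actHomeo L f σ '' E) E)
    (hEU : (⋃ σ, actHomeo L f σ '' E) = Set.univ) :
    ∃ χ : X ⟶ Spec (CommRingCat.of (IntermediateField.fixedField (stab L f E))),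
      χ ≫ Spec.map (CommRingCat.ofHom
        (algebraMap k (IntermediateField.fixedField (stab L f E)))) = f := by
  classical
  let H : Subgroup (L ≃ₐ[k] L) := stab L f E
  let L₁ : IntermediateField k L := IntermediateField.fixedField H
  let a := actHomeo L f
  have hamul := actHomeo_mul_apply L f
  -- the maps `g τ`
  let g : (L ≃ₐ[k] L) → (pullback f (Spec.map (CommRingCat.ofHom (algebraMap k L))) ⟶
      Spec (CommRingCat.of L₁)) := fun τ =>
    pullback.snd f _ ≫ Spec.map (CommRingCat.ofHom (cmap L L₁ τ))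
  -- the opens
  let U : (L ≃ₐ[k] L) → (pullback f (Spec.map (CommRingCat.ofHom (algebraMap k L)))).Opens :=
    fun τ => ⟨a τ '' E, (a τ).isOpenMap _ hEc.2⟩
  have hU : TopologicalSpace.IsOpenCover U := by
    apply TopologicalSpace.IsOpenCover.mk
    apply TopologicalSpace.Opens.ext
    simp only [TopologicalSpace.Opens.coe_iSup, TopologicalSpace.Opens.coe_top]
    exact hEU
  let 𝒱 := (pullback f (Spec.map (CommRingCat.ofHom (algebraMap k L)))).openCoverOfIsOpenCover U hU
  -- disjointness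
  have hdisj : ∀ τ τ' : L ≃ₐ[k] L, τ' * τ⁻¹ ∉ H → Disjoint (a τ '' E) (a τ' '' E) := by
    intro τ τ' hn
    have h1 : a τ' '' E = a τ '' (a (τ' * τ⁻¹) '' E) := by
      rw [image_image a hamul, inv_mul_cancel_right]
    rw [h1]
    rcases hdich (τ' * τ⁻¹) with h | h
    · exact absurd h hn
    · exact ((Set.disjoint_image_iff (a τ).injective).mpr h).symm
  have hcompat : ∀ τ τ' : L ≃ₐ[k] L, pullback.fst (𝒱.f τ) (𝒱.f τ') ≫ (U τ).ι ≫ g τ =
      pullback.snd (𝒱.f τ) (𝒱.f τ') ≫ (U τ').ι ≫ g τ' := by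
    intro τ τ'
    by_cases hm : τ' * τ⁻¹ ∈ H
    · have hg : g τ' = g τ := by
        have : τ' = (τ' * τ⁻¹) * τ := by rw [inv_mul_cancel_right]
        simp only [g]
        rw [this, cmap_mul_of_mem L H _ _ hm]
      rw [hg]
      exact pullback.condition_assoc _
    · haveI : IsEmpty ↥(pullback (𝒱.f τ) (𝒱.f τ')) := by
        constructor
        intro p
        have hp := congrArg (fun m => m.base p) (pullback.condition (f := 𝒱.f τ) (g := 𝒱.f τ'))
        simp only [Scheme.Hom.comp_base, TopCat.hom_comp, ContinuousMap.comp_apply] at hp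
        have h1 : (𝒱.f τ) (pullback.fst (𝒱.f τ) (𝒱.f τ') p) ∈ a τ '' E :=
          (pullback.fst (𝒱.f τ) (𝒱.f τ') p).2
        have h2 : (𝒱.f τ') (pullback.snd (𝒱.f τ) (𝒱.f τ') p) ∈ a τ' '' E :=
          (pullback.snd (𝒱.f τ) (𝒱.f τ') p).2
        exact Set.disjoint_left.mp (hdisj τ τ' hm) h1 (by erw [hp]; exact h2)
      exact isInitialOfIsEmpty.hom_ext _ _
  let ψ := 𝒱.glueMorphisms (fun τ => (U τ).ι ≫ g τ) hcompat
  have hψ : ∀ τ : L ≃ₐ[k] L, (U τ).ι ≫ ψ = (U τ).ι ≫ g τ := fun τ => 𝒱.ι_glueMorphisms _ hcompat τ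
  have hinvψ : ∀ σ : L ≃ₐ[k] L, act L f σ ≫ ψ = ψ := by
    intro σ
    apply Scheme.Cover.hom_ext 𝒱
    intro (τ : L ≃ₐ[k] L)
    change (U τ).ι ≫ act L f σ ≫ ψ = (U τ).ι ≫ ψ
    rw [hψ τ]
    have hrange : Set.range ((U τ).ι ≫ act L f σ) ⊆ Set.range (U (τ * σ)).ι := by
      rw [Scheme.Opens.range_ι]
      rintro _ ⟨y, rfl⟩
      have hy : (U τ).ι y ∈ a τ '' E := y.2
      show _ ∈ a (τ * σ) '' E
      rw [← image_image a hamul]
      exact ⟨_, hy, rfl⟩
    let lft := IsOpenImmersion.lift (U (τ * σ)).ι ((U τ).ι ≫ act L f σ) hrange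
    have hl : lft ≫ (U (τ * σ)).ι = (U τ).ι ≫ act L f σ := IsOpenImmersion.lift_fac _ _ _
    calc (U τ).ι ≫ act L f σ ≫ ψ = lft ≫ (U (τ * σ)).ι ≫ ψ := by
          rw [← Category.assoc, ← hl, Category.assoc]
      _ = lft ≫ (U (τ * σ)).ι ≫ g (τ * σ) := by rw [hψ]
      _ = (U τ).ι ≫ act L f σ ≫ g (τ * σ) := by rw [← Category.assoc, hl, Category.assoc]
      _ = (U τ).ι ≫ g τ := by
        congr 1
        simp only [g]
        rw [act_snd_assoc, ← Spec.map_comp, ← CommRingCat.ofHom_comp, comp_cmap]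
  obtain ⟨χ, hχ⟩ := exists_desc L f (CommRingCat.of L₁) ψ hinvψ
  refine ⟨χ, ?_⟩
  rw [← cancel_epi (pullback.fst f (Spec.map (CommRingCat.ofHom (algebraMap k L)))),
    ← Category.assoc, hχ, pullback.condition]
  apply Scheme.Cover.hom_ext 𝒱
  intro (τ : L ≃ₐ[k] L)
  change (U τ).ι ≫ ψ ≫ _ = (U τ).ι ≫ pullback.snd f _ ≫ _
  rw [← Category.assoc, hψ τ, Category.assoc]
  simp only [g]
  rw [Category.assoc, ← Spec.map_comp, ← CommRingCat.ofHom_comp, cmap_comp_algebraMap]

/-- If `X` is connected but `X_L` is not, for a finite Galois extension `L/k`, then the structure morphism of `X`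
factors through `Spec L₁` for a nontrivial subextension `L₁`. -/
theorem exists_intermediateField_of_not_connected [FiniteDimensional k L] [IsGalois k L]
    [ConnectedSpace X]
    (h : ¬ ConnectedSpace ↥(pullback f (Spec.map (CommRingCat.ofHom (algebraMap k L))))) :
    ∃ L₁ : IntermediateField k L, L₁ ≠ ⊥ ∧
      ∃ χ : X ⟶ Spec (CommRingCat.of L₁),
        χ ≫ Spec.map (CommRingCat.ofHom (algebraMap k L₁)) = f := by
  classical
  haveI : Nonempty ↥(pullback f (Spec.map (CommRingCat.ofHom (algebraMap k L)))) := by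
    obtain ⟨x⟩ := (inferInstance : Nonempty X)
    obtain ⟨y, -⟩ := surjective_fst L f x
    exact ⟨y⟩
  have hex : ∃ N : Set ↥(pullback f (Spec.map (CommRingCat.ofHom (algebraMap k L)))),
      IsClopen N ∧ N.Nonempty ∧ N ≠ Set.univ := by
    by_contra hcon
    push Not at hcon
    apply h
    rw [connectedSpace_iff_clopen]
    refine ⟨inferInstance, fun s hs => ?_⟩
    by_cases hne : s.Nonempty
    · right; exact hcon s hs hne
    · left; exact Set.not_nonempty_iff_eq_empty.mp hne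
  obtain ⟨N, hN, hNne, hNuniv⟩ := hex
  obtain ⟨E, hEc, hEne, hdich, hEU, ⟨σ₁, hσ₁⟩⟩ :=
    exists_clopen_orbit (actHomeo L f) (actHomeo_one_apply L f) (actHomeo_mul_apply L f)
      (eq_empty_or_univ_of_invariant L f) N hN hNne hNuniv
  let H : Subgroup (L ≃ₐ[k] L) := stab L f E
  let L₁ : IntermediateField k L := IntermediateField.fixedField H
  have hL₁ : L₁ ≠ ⊥ := by
    intro hbot
    have h1 : IntermediateField.fixingSubgroup L₁ = H := IntermediateField.fixingSubgroup_fixedField H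
    rw [hbot, IntermediateField.fixingSubgroup_bot] at h1
    have : σ₁ ∈ H := h1 ▸ Subgroup.mem_top σ₁
    exact hσ₁ this
  exact ⟨L₁, hL₁, exists_hom_of_clopen_orbit L f E hEc hdich hEU⟩

end Groth.Agent.Lib.H71GalConn
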