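import Groth.Agent.Lib.GalAct13b
import Mathlib.AlgebraicGeometry.Sites.Fpqc

set_option autoImplicit false
universe u
open CategoryTheory CategoryTheory.Limits AlgebraicGeometry TensorProduct

namespace Groth.Agent.Lib.H71GalDescent

open Groth.Agent.Lib.GalAct13 Groth.Agent.Lib.FieldBC13 Groth.Agent.Lib.GalAct13Alg

variable {k : Type u} [Field k] (K : Type u) [Field K] [Algebra k K]

section Affine

variable (A : Type u) [CommRing A] [Algebra k A]

theorem algebraMap_tensor_injective : Function.Injective (algebraMap A (A ⊗[k] K)) := by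
  have : (algebraMap A (A ⊗[k] K) : A → A ⊗[k] K) =
      (Algebra.TensorProduct.includeLeft : A →ₐ[k] A ⊗[k] K) := rfl
  rw [this]
  exact Algebra.TensorProduct.includeLeft_injective (FaithfulSMul.algebraMap_injective k K)

/-- Galois descent of invariant morphisms to affine schemes: the affine case. -/
theorem exists_desc_affine [IsGalois k K] (B : CommRingCat.{u})
    (ψ : pullback (Spec.map (CommRingCat.ofHom (algebraMap k A)))
      (Spec.map (CommRingCat.ofHom (algebraMap k K))) ⟶ Spec B)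
    (hψ : ∀ σ : K ≃ₐ[k] K, act K (Spec.map (CommRingCat.ofHom (algebraMap k A))) σ ≫ ψ = ψ) :
    ∃ χ : Spec (CommRingCat.of A) ⟶ Spec B,
      pullback.fst (Spec.map (CommRingCat.ofHom (algebraMap k A)))
        (Spec.map (CommRingCat.ofHom (algebraMap k K))) ≫ χ = ψ := by
  let e := pullbackSpecIso k A K
  let β : B ⟶ CommRingCat.of (A ⊗[k] K) := Spec.preimage (e.inv ≫ ψ)
  have hβ : Spec.map β = e.inv ≫ ψ := Spec.map_preimage _
  have hinv : ∀ (σ : K ≃ₐ[k] K) (b : B), tmap A K σ (β.hom b) = β.hom b := by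
    intro σ b
    have h1 : Spec.map (β ≫ CommRingCat.ofHom (tmap A K σ : A ⊗[k] K →+* A ⊗[k] K)) =
        Spec.map β := by
      rw [Spec.map_comp, hβ, ← Category.assoc, specMap_tmap_pullbackSpecIso_inv, Category.assoc,
        hψ σ]
    have h2 := Spec.map_injective h1
    exact congrArg (fun m => m.hom b) h2
  have hrange : ∀ b : B, ∃ a : A, algebraMap A (A ⊗[k] K) a = β.hom b := by
    intro b
    haveI := isInvariant (k := k) A K
    letI := mulSemiringAction (k := k) A K
    exact Algebra.IsInvariant.isInvariant (A := A) (G := K ≃ₐ[k] K) (β.hom b)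
      (fun σ => hinv σ b)
  choose β₀ hβ₀ using hrange
  have hinj := algebraMap_tensor_injective (k := k) K A
  let β₀' : B →+* A :=
    { toFun := β₀
      map_one' := hinj (by rw [hβ₀, map_one, map_one])
      map_mul' := fun x y => hinj (by rw [hβ₀, map_mul, map_mul, hβ₀, hβ₀])
      map_zero' := hinj (by rw [hβ₀, map_zero, map_zero])
      map_add' := fun x y => hinj (by rw [hβ₀, map_add, map_add, hβ₀, hβ₀]) }
  refine ⟨Spec.map (CommRingCat.ofHom β₀'), ?_⟩
  rw [← cancel_epi e.inv, ← hβ, ← Category.assoc, pullbackSpecIso_inv_fst', ← Spec.map_comp]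
  congr 1
  ext b
  exact hβ₀ b

end Affine

end Groth.Agent.Lib.H71GalDescent

namespace Groth.Agent.Lib.H71GalDescent

open Groth.Agent.Lib.GalAct13 Groth.Agent.Lib.FieldBC13 Groth.Agent.Lib.GalAct13Alg

variable {k : Type u} [Field k] (K : Type u) [Field K] [Algebra k K]

/-- Affine case with an arbitrary structure morphism. -/
theorem exists_desc_Spec [IsGalois k K] (A : CommRingCat.{u}) (g : Spec A ⟶ Spec (CommRingCat.of k))
    (B : CommRingCat.{u})
    (ψ : pullback g (Spec.map (CommRingCat.ofHom (algebraMap k K))) ⟶ Spec B)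
    (hψ : ∀ σ : K ≃ₐ[k] K, act K g σ ≫ ψ = ψ) :
    ∃ χ : Spec A ⟶ Spec B,
      pullback.fst g (Spec.map (CommRingCat.ofHom (algebraMap k K))) ≫ χ = ψ := by
  obtain ⟨φ, rfl⟩ := Spec.map_surjective g
  letI : Algebra k A := φ.hom.toAlgebra
  exact exists_desc_affine K A B ψ hψ

instance epi_fst {X : Scheme.{u}} (f : X ⟶ Spec (CommRingCat.of k)) :
    Epi (pullback.fst f (Spec.map (CommRingCat.ofHom (algebraMap k K)))) := by
  haveI : Surjective (Spec.map (CommRingCat.ofHom (algebraMap k K))) :=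
    Groth.Agent.Lib.H71SepClosedGeom.surjective_SpecMap K
  haveI : Flat (Spec.map (CommRingCat.ofHom (algebraMap k K))) := by
    rw [HasRingHomProperty.Spec_iff (P := @Flat)]
    rw [CommRingCat.hom_ofHom, RingHom.flat_algebraMap_iff]
    infer_instance
  haveI : EffectiveEpi (pullback.fst f (Spec.map (CommRingCat.ofHom (algebraMap k K)))) :=
    inferInstance
  infer_instance

/-- **Galois descent of invariant morphisms to affine schemes.** -/
theorem exists_desc [IsGalois k K] {X : Scheme.{u}} (f : X ⟶ Spec (CommRingCat.of k))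
    (B : CommRingCat.{u})
    (ψ : pullback f (Spec.map (CommRingCat.ofHom (algebraMap k K))) ⟶ Spec B)
    (hψ : ∀ σ : K ≃ₐ[k] K, act K f σ ≫ ψ = ψ) :
    ∃ χ : X ⟶ Spec B,
      pullback.fst f (Spec.map (CommRingCat.ofHom (algebraMap k K))) ≫ χ = ψ := by
  let 𝒰 := X.affineCover
  let g : ∀ i, 𝒰.X i ⟶ Spec (CommRingCat.of k) := fun i => 𝒰.f i ≫ f
  let m : ∀ i, pullback (g i) (Spec.map (CommRingCat.ofHom (algebraMap k K))) ⟶
      pullback f (Spec.map (CommRingCat.ofHom (algebraMap k K))) :=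
    fun i => mapK K f (g i) (𝒰.f i) rfl
  have hm1 : ∀ i, m i ≫ pullback.fst f _ = pullback.fst (g i) _ ≫ 𝒰.f i := fun i => mapK_fst K f (g i) (𝒰.f i) rfl
  have hm2 : ∀ i, m i ≫ pullback.snd f _ = pullback.snd (g i) _ := fun i => mapK_snd K f (g i) (𝒰.f i) rfl
  have hinv : ∀ i (σ : K ≃ₐ[k] K), act K (g i) σ ≫ m i ≫ ψ = m i ≫ ψ := by
    intro i σ
    rw [← Category.assoc, ← mapK_act, Category.assoc, hψ σ]
  have hex : ∀ i, ∃ χ : 𝒰.X i ⟶ Spec B, pullback.fst (g i) _ ≫ χ = m i ≫ ψ :=
    fun i => exists_desc_Spec K _ (g i) B (m i ≫ ψ) (hinv i)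
  choose χ hχ using hex
  have hcompat : ∀ i j, pullback.fst (𝒰.f i) (𝒰.f j) ≫ χ i = pullback.snd (𝒰.f i) (𝒰.f j) ≫ χ j := by
    intro i j
    let gP : pullback (𝒰.f i) (𝒰.f j) ⟶ Spec (CommRingCat.of k) :=
      pullback.fst (𝒰.f i) (𝒰.f j) ≫ g i
    have wj : pullback.snd (𝒰.f i) (𝒰.f j) ≫ g j = gP := by
      simp only [g, gP, ← Category.assoc, pullback.condition]
    let ni := mapK K (g i) gP (pullback.fst (𝒰.f i) (𝒰.f j)) rfl
    let nj := mapK K (g j) gP (pullback.snd (𝒰.f i) (𝒰.f j)) wj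
    have hni1 : ni ≫ pullback.fst (g i) _ = pullback.fst gP _ ≫ pullback.fst (𝒰.f i) (𝒰.f j) :=
      mapK_fst K (g i) gP _ rfl
    have hni2 : ni ≫ pullback.snd (g i) _ = pullback.snd gP _ := mapK_snd K (g i) gP _ rfl
    have hnj1 : nj ≫ pullback.fst (g j) _ = pullback.fst gP _ ≫ pullback.snd (𝒰.f i) (𝒰.f j) :=
      mapK_fst K (g j) gP _ wj
    have hnj2 : nj ≫ pullback.snd (g j) _ = pullback.snd gP _ := mapK_snd K (g j) gP _ wj
    have hnm : ni ≫ m i = nj ≫ m j := by
      apply pullback.hom_ext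
      · rw [Category.assoc, Category.assoc, hm1, hm1, ← Category.assoc, ← Category.assoc, hni1, hnj1,
          Category.assoc, Category.assoc, pullback.condition]
      · rw [Category.assoc, Category.assoc, hm2, hm2, hni2, hnj2]
    rw [← cancel_epi (pullback.fst gP (Spec.map (CommRingCat.ofHom (algebraMap k K))))]
    calc pullback.fst gP _ ≫ pullback.fst (𝒰.f i) (𝒰.f j) ≫ χ i
        = ni ≫ pullback.fst (g i) _ ≫ χ i := by rw [← Category.assoc, ← hni1, Category.assoc]
      _ = ni ≫ m i ≫ ψ := by rw [hχ]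
      _ = nj ≫ m j ≫ ψ := by rw [← Category.assoc, hnm, Category.assoc]
      _ = nj ≫ pullback.fst (g j) _ ≫ χ j := by rw [hχ]
      _ = pullback.fst gP _ ≫ pullback.snd (𝒰.f i) (𝒰.f j) ≫ χ j := by
        rw [← Category.assoc, hnj1, Category.assoc]
  refine ⟨𝒰.glueMorphisms χ hcompat, ?_⟩
  apply Scheme.Cover.hom_ext (𝒰.pullback₁ (pullback.fst f (Spec.map (CommRingCat.ofHom (algebraMap k K)))))
  intro (i : 𝒰.I₀)
  change pullback.fst (pullback.fst f (Spec.map (CommRingCat.ofHom (algebraMap k K)))) (𝒰.f i) ≫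
      pullback.fst f _ ≫ 𝒰.glueMorphisms χ hcompat =
    pullback.fst (pullback.fst f (Spec.map (CommRingCat.ofHom (algebraMap k K)))) (𝒰.f i) ≫ ψ
  let c : pullback (pullback.fst f (Spec.map (CommRingCat.ofHom (algebraMap k K)))) (𝒰.f i) ⟶
      pullback (g i) (Spec.map (CommRingCat.ofHom (algebraMap k K))) :=
    pullback.lift (pullback.snd _ _) (pullback.fst _ _ ≫ pullback.snd f _) (by
      simp only [g, Category.assoc]
      rw [← pullback.condition, ← pullback.condition_assoc])
  have hc1 : c ≫ pullback.fst (g i) _ = pullback.snd _ _ := pullback.lift_fst _ _ _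
  have hc2 : c ≫ pullback.snd (g i) _ = pullback.fst _ _ ≫ pullback.snd f _ := pullback.lift_snd _ _ _
  have hcm : c ≫ m i = pullback.fst (pullback.fst f (Spec.map (CommRingCat.ofHom (algebraMap k K)))) (𝒰.f i) := by
    apply pullback.hom_ext
    · rw [Category.assoc, hm1, ← Category.assoc, hc1, pullback.condition]
    · rw [Category.assoc, hm2, hc2]
  rw [← hcm, Category.assoc, Category.assoc, ← hχ, ← Category.assoc (m i), hm1, Category.assoc,
    Scheme.Cover.ι_glueMorphisms]

end Groth.Agent.Lib.H71GalDescent
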