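import Groth.Agent.Lib.H71RatClosure

/-!
# Closed subgroup schemes generated by geometrically reduced families over a field (helper71)

* `exists_lift_of_isReduced`: a morphism from a reduced scheme with image in the image of a closed immersion factors.
* `range_tensorHom_left`, `ptObj`, `ptHom`, `dense_box`: over a field, `pr₁⁻¹ A ∩ pr₂⁻¹ B` is dense for dense `A`, `B`.
* `geometricallyReduced_tensorObj`: products of geometrically reduced `k`-schemes are geometrically reduced.
* `exists_closed_subgroup_of_family`: for a family `φ j : Z j ⟶ G` from geometrically reduced `k`-schemes closed under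
  unit/product/inverse up to reparametrisation, the reduced closure of the union of the images is a geometrically
  reduced closed subgroup scheme, minimal among closed subschemes through which all `φ j` factor.
* `wordObj`, `letter`, `wordMap`, `exists_concat`, `exists_inv`, `exists_factor_wordMap`: word maps
  `(x₁,…,xₙ) ↦ f(x₁)^{±1}⋯f(xₙ)^{±1}`.
* `exists_generated_subgroup`: the smallest closed subgroup scheme through which `f : X ⟶ G` factors (`X` geometrically
  reduced); it is geometrically reduced and its space is the closure of the union of the images of the word maps.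
-/

set_option autoImplicit false
universe u

open CategoryTheory CategoryTheory.Limits AlgebraicGeometry TopologicalSpace
open MonoidalCategory CartesianMonoidalCategory MonObj GrpObj

namespace Groth.Agent.Lib.H71GenSubgrp

section Lift

/-- A morphism from a reduced scheme whose image lies in the image of a closed immersion factors through it. -/
theorem exists_lift_of_isReduced {X T Z : Scheme.{u}} [IsReduced T] (i : Z ⟶ X) [IsClosedImmersion i]
    (g : T ⟶ X) (h : Set.range g ⊆ Set.range i) : ∃ l : T ⟶ Z, l ≫ i = g := by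
  let W : Closeds X := ⟨Set.range i, i.isClosedEmbedding.isClosed_range⟩
  obtain ⟨l₀, hl₀⟩ := Groth.Agent.Lib.H71CompGeomConn.exists_lift_subscheme g W h
  have hle : i.ker ≤ (Scheme.IdealSheafData.vanishingIdeal W).subschemeι.ker := by
    rw [Scheme.IdealSheafData.ker_subschemeι,
      ← Scheme.IdealSheafData.le_support_iff_le_vanishingIdeal]
    intro x hx
    have h1 : x ∈ ((Scheme.Hom.ker i).support : Set X) := by
      rw [Scheme.Hom.support_ker]
      exact subset_closure hx
    exact h1
  refine ⟨l₀ ≫ IsClosedImmersion.lift i _ hle, ?_⟩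
  rw [Category.assoc, IsClosedImmersion.lift_fac, hl₀]

end Lift

section Box

variable {k : Type u} [Field k]

theorem range_tensorHom_left {R S T U : Over (Spec (CommRingCat.of k))} (f : R ⟶ S) (g : T ⟶ U) :
    Set.range (f ⊗ₘ g).left =
      (fst S U).left ⁻¹' Set.range f.left ∩ (snd S U).left ⁻¹' Set.range g.left := by
  rw [Over.tensorHom_left, Scheme.Pullback.range_map]
  rfl

/-- `Spec κ(y)` as an object over `k`. -/
noncomputable def ptObj {Y : Over (Spec (CommRingCat.of k))} (y : Y.left) :
    Over (Spec (CommRingCat.of k)) :=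
  Over.mk (Y.left.fromSpecResidueField y ≫ Y.hom)

/-- The canonical `κ(y)`-valued point. -/
noncomputable def ptHom {Y : Over (Spec (CommRingCat.of k))} (y : Y.left) : ptObj y ⟶ Y :=
  Over.homMk (Y.left.fromSpecResidueField y) rfl

theorem range_ptHom {Y : Over (Spec (CommRingCat.of k))} (y : Y.left) :
    Set.range (ptHom y).left = {y} :=
  Scheme.range_fromSpecResidueField y

/-- Over a field, the "box" of two dense subsets is dense in the product. -/
theorem dense_box {Y Y' : Over (Spec (CommRingCat.of k))} {A : Set Y.left} {B : Set Y'.left}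
    (hA : Dense A) (hB : Dense B) :
    Dense ((fst Y Y').left ⁻¹' A ∩ (snd Y Y').left ⁻¹' B) := by
  rw [dense_iff_closure_eq, ← Set.univ_subset_iff]
  set C := closure ((fst Y Y').left ⁻¹' A ∩ (snd Y Y').left ⁻¹' B) with hC
  have hCcl : IsClosed C := isClosed_closure
  -- each fibre of the second projection over a point of `B` lies in `C`
  have h1 : ∀ b ∈ B, (snd Y Y').left ⁻¹' {b} ⊆ C := by
    intro b hb
    set j := (𝟙 Y ⊗ₘ ptHom b) with hj
    have hrange : Set.range j.left = (snd Y Y').left ⁻¹' {b} := by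
      rw [hj, range_tensorHom_left, range_ptHom]
      have : Set.range (𝟙 Y : Y ⟶ Y).left = Set.univ := by
        rw [Set.range_eq_univ]
        exact fun y => ⟨y, rfl⟩
      rw [this, Set.preimage_univ, Set.univ_inter]
    have hpre : (fst Y (ptObj b)).left ⁻¹' A ⊆ j.left ⁻¹' C := by
      intro w hw
      apply subset_closure
      refine ⟨?_, ?_⟩
      · change (fst Y Y').left (j.left w) ∈ A
        rw [← Scheme.Hom.comp_apply, ← Over.comp_left, hj, tensorHom_fst, Category.comp_id]
        exact hw
      · change (snd Y Y').left (j.left w) ∈ B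
        have h2 : j.left w ∈ (snd Y Y').left ⁻¹' {b} := hrange ▸ ⟨w, rfl⟩
        rw [Set.mem_preimage, Set.mem_singleton_iff] at h2
        rw [h2]
        exact hb
    have hopen : IsOpenMap (fst Y (ptObj b)).left :=
      Groth.Agent.Lib.GrpTopPts45.isOpenMap_fst Y (ptObj b)
    have hdense : Dense ((fst Y (ptObj b)).left ⁻¹' A) := hA.preimage hopen
    have huniv : j.left ⁻¹' C = Set.univ := by
      rw [← Set.univ_subset_iff, ← hdense.closure_eq]
      exact (hCcl.preimage j.left.continuous).closure_subset_iff.mpr hpre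
    rw [← hrange]
    rintro _ ⟨w, rfl⟩
    have : w ∈ j.left ⁻¹' C := by rw [huniv]; trivial
    exact this
  have h2 : (snd Y Y').left ⁻¹' B ⊆ C := by
    intro z hz
    exact h1 _ hz rfl
  have hopen2 : IsOpenMap (snd Y Y').left := Groth.Agent.Lib.GrpTopPts45.isOpenMap_snd Y Y'
  have hdense2 : Dense ((snd Y Y').left ⁻¹' B) := hB.preimage hopen2
  rw [← hdense2.closure_eq]
  exact hCcl.closure_subset_iff.mpr h2

end Box

section Prod

variable {k : Type u} [Field k]

/-- The product of two geometrically reduced schemes over a field is geometrically reduced. -/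
theorem geometricallyReduced_tensorObj (X Z : Over (Spec (CommRingCat.of k)))
    [GeometricallyReduced X.hom] [GeometricallyReduced Z.hom] :
    GeometricallyReduced (X ⊗ Z).hom := by
  refine ⟨(geometrically_iff_of_commRing_of_isClosedUnderIsomorphisms ..).mpr fun K _ _ => ?_⟩
  set q := Spec.map (CommRingCat.ofHom (algebraMap k K)) with hq
  haveI hZK : IsReduced (pullback Z.hom q) :=
    (geometrically_iff_of_commRing_of_isClosedUnderIsomorphisms ..).mp
      (inferInstance : GeometricallyReduced Z.hom).geometrically_isReduced K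
  haveI h1 : IsReduced (pullback X.hom (pullback.fst Z.hom q ≫ Z.hom)) :=
    Groth.Agent.Lib.GeomReducedProd.isReduced_pullback X.hom _
  haveI h2 : IsReduced (pullback (pullback.snd X.hom Z.hom) (pullback.fst Z.hom q)) :=
    isReduced_of_isOpenImmersion
      (pullbackLeftPullbackSndIso X.hom Z.hom (pullback.fst Z.hom q)).hom
  haveI h3 : IsReduced (pullback (pullback.snd X.hom Z.hom ≫ Z.hom) q) :=
    isReduced_of_isOpenImmersion
      (pullbackRightPullbackFstIso Z.hom q (pullback.snd X.hom Z.hom)).inv
  change IsReduced (pullback (pullback.fst X.hom Z.hom ≫ X.hom) q)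
  rw [pullback.condition]
  exact h3

end Prod

section Family

variable {k : Type u} [Field k]

theorem isReduced_of_geometricallyReduced (X : Over (Spec (CommRingCat.of k)))
    [GeometricallyReduced X.hom] : IsReduced X.left := by
  haveI h1 : IsReduced (pullback X.hom (Spec.map (CommRingCat.ofHom (algebraMap k k)))) :=
    (geometrically_iff_of_commRing_of_isClosedUnderIsomorphisms ..).mp
      (inferInstance : GeometricallyReduced X.hom).geometrically_isReduced k
  have hid : Spec.map (CommRingCat.ofHom (algebraMap k k)) = 𝟙 _ := by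
    rw [Algebra.algebraMap_self]
    exact Spec.map_id _
  haveI : IsIso (Spec.map (CommRingCat.ofHom (algebraMap k k))) := by
    rw [hid]; infer_instance
  exact isReduced_of_isOpenImmersion
    (inv (pullback.fst X.hom (Spec.map (CommRingCat.ofHom (algebraMap k k)))))

/-- **Closed subgroup generated by a family.** Let `φ j : Z j ⟶ G` be a family of morphisms from geometrically reduced
`k`-schemes to a `k`-group scheme, closed under unit, products and inverses up to reparametrisation. Then the closure
of the union of the images, with its reduced structure, is a geometrically reduced closed subgroup scheme of `G`,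
the smallest closed subscheme through which all the `φ j` factor. -/
theorem exists_closed_subgroup_of_family (G : Over (Spec (CommRingCat.of k))) [GrpObj G]
    {J : Type*} (Z : J → Over (Spec (CommRingCat.of k))) (φ : ∀ j, Z j ⟶ G)
    [∀ j, GeometricallyReduced (Z j).hom]
    (hU : ∃ (j : J) (a : 𝟙_ (Over (Spec (CommRingCat.of k))) ⟶ Z j), a ≫ φ j = η[G])
    (hM : ∀ j j', ∃ (j'' : J) (a : Z j ⊗ Z j' ⟶ Z j''), (φ j ⊗ₘ φ j') ≫ μ[G] = a ≫ φ j'')
    (hI : ∀ j, ∃ (j' : J) (a : Z j ⟶ Z j'), φ j ≫ ι[G] = a ≫ φ j') :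
    ∃ (Γ : Over (Spec (CommRingCat.of k))) (_ : GrpObj Γ) (i : Γ ⟶ G), IsMonHom i ∧
      IsClosedImmersion i.left ∧ GeometricallyReduced Γ.hom ∧
      Set.range i.left = closure (⋃ j, Set.range (φ j).left) ∧
      (∀ j, ∃ φ' : Z j ⟶ Γ, φ' ≫ i = φ j) ∧
      ∀ (Γ' : Over (Spec (CommRingCat.of k))) (i' : Γ' ⟶ G), IsClosedImmersion i'.left →
        (∀ j, ∃ f'' : Z j ⟶ Γ', f'' ≫ i' = φ j) → ∃ jj : Γ ⟶ Γ', jj ≫ i' = i := by
  set E : Set G.left := ⋃ j, Set.range (φ j).left with hE
  let T : Closeds G.left := Closeds.closure (⋃ j, Set.range (φ j).left)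
  have hTcoe : (T : Set G.left) = closure E := rfl
  have hET : E ⊆ (T : Set G.left) := subset_closure
  let I := Scheme.IdealSheafData.vanishingIdeal T
  haveI hYred : IsReduced I.subscheme :=
    Groth.Agent.Lib.ReducedSubscheme.isReduced_subscheme_vanishingIdeal T
  let Y : Over (Spec (CommRingCat.of k)) := Over.mk (I.subschemeι ≫ G.hom)
  let incl : Y ⟶ G := Over.homMk I.subschemeι rfl
  have hr : Set.range incl.left = (T : Set G.left) := by
    change Set.range I.subschemeι = _
    rw [Scheme.IdealSheafData.range_subschemeι, Scheme.IdealSheafData.coe_support_vanishingIdeal]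
  have hmono : Mono incl := by
    have : Mono ((Over.forget _).map incl) := (inferInstance : Mono I.subschemeι)
    exact (Over.forget _).mono_of_mono_map this
  have lift_ex : ∀ {P : Over (Spec (CommRingCat.of k))} [IsReduced P.left] (h : P ⟶ G),
      Set.range h.left ⊆ (T : Set G.left) → ∃ l : P ⟶ Y, l ≫ incl = h := by
    intro P _ h hh
    obtain ⟨l, hl⟩ := Groth.Agent.Lib.H71CompGeomConn.exists_lift_subscheme h.left T hh
    refine ⟨Over.homMk l ?_, ?_⟩
    · change l ≫ I.subschemeι ≫ G.hom = P.hom
      rw [← Category.assoc, hl, Over.w]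
    · ext
      exact hl
  haveI hunitred : IsReduced (𝟙_ (Over (Spec (CommRingCat.of k)))).left :=
    inferInstanceAs (IsReduced (Spec (CommRingCat.of k)))
  haveI hZred : ∀ j, IsReduced (Z j).left := fun j => isReduced_of_geometricallyReduced (Z j)
  -- lifts of the family
  have hlift : ∀ j, ∃ φ' : Z j ⟶ Y, φ' ≫ incl = φ j := by
    intro j
    refine lift_ex (φ j) ?_
    exact (Set.subset_iUnion (fun j => Set.range (φ j).left) j).trans hET
  choose φ' hφ' using hlift
  set A : Set Y.left := ⋃ j, Set.range (φ' j).left with hA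
  have himg : incl.left '' A = E := by
    rw [hA, hE, Set.image_iUnion]
    refine Set.iUnion_congr fun j => ?_
    rw [← Set.range_comp, ← hφ' j, Over.comp_left]
    rfl
  have hemb : Topology.IsClosedEmbedding incl.left := Scheme.Hom.isClosedEmbedding I.subschemeι
  have hAdense : Dense A := by
    rw [dense_iff_closure_eq]
    apply hemb.injective.image_injective
    rw [← hemb.closure_image_eq, himg, Set.image_univ, hr, hTcoe]
  -- geometric reducedness of `Y`
  have hgeo : ∀ (K : Type u) [Field K] [Algebra k K],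
      IsReduced (pullback Y.hom (Spec.map (CommRingCat.ofHom (algebraMap k K)))) := by
    intro K _ _
    set q := Spec.map (CommRingCat.ofHom (algebraMap k K)) with hq
    haveI : ∀ j, IsReduced (pullback ((φ j).left ≫ G.hom) q) := by
      intro j
      rw [Over.w (φ j)]
      exact (geometrically_iff_of_commRing_of_isClosedUnderIsomorphisms ..).mp
        (inferInstance : GeometricallyReduced (Z j).hom).geometrically_isReduced K
    have key := Groth.Agent.Lib.H71VanishBC.vanishingIdeal_baseChange G.hom q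
      (Groth.Agent.Lib.H71VanishBC.free_of_field k _)
      (fun j => (Z j).left) (fun j => (φ j).left)
    exact Groth.Agent.Lib.H71RatClosure.isReduced_pullback_of_comap_eq G.hom q _ _ key.symm
  haveI hgr : GeometricallyReduced Y.hom :=
    ⟨(geometrically_iff_of_commRing_of_isClosedUnderIsomorphisms ..).mpr fun K _ _ => hgeo K⟩
  haveI hYleft : IsReduced Y.left := hYred
  haveI hYY : IsReduced (Y ⊗ Y).left := by
    change IsReduced (pullback Y.hom Y.hom)
    exact Groth.Agent.Lib.GeomReducedProd.isReduced_pullback Y.hom Y.hom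
  -- unit
  obtain ⟨j₀, a₀, ha₀⟩ := hU
  obtain ⟨e₀, he₀⟩ := lift_ex η[G] (by
    rw [← ha₀]
    rintro _ ⟨t, rfl⟩
    apply hET
    refine Set.mem_iUnion.2 ⟨j₀, a₀.left t, ?_⟩
    rw [Over.comp_left, Scheme.Hom.comp_apply])
  -- multiplication
  have hmulrange : Set.range ((incl ⊗ₘ incl) ≫ μ[G]).left ⊆ (T : Set G.left) := by
    have hC : IsClosed (((incl ⊗ₘ incl) ≫ μ[G]).left ⁻¹' (T : Set G.left)) :=
      T.isClosed.preimage ((incl ⊗ₘ incl) ≫ μ[G]).left.continuous
    have hbox : (fst Y Y).left ⁻¹' A ∩ (snd Y Y).left ⁻¹' A ⊆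
        ((incl ⊗ₘ incl) ≫ μ[G]).left ⁻¹' (T : Set G.left) := by
      rintro z ⟨hz1, hz2⟩
      obtain ⟨j, hj⟩ := Set.mem_iUnion.1 hz1
      obtain ⟨j', hj'⟩ := Set.mem_iUnion.1 hz2
      have hzr : z ∈ Set.range (φ' j ⊗ₘ φ' j').left := by
        rw [range_tensorHom_left]
        exact ⟨hj, hj'⟩
      obtain ⟨ζ, rfl⟩ := hzr
      obtain ⟨j'', a, ha⟩ := hM j j'
      rw [Set.mem_preimage, ← Scheme.Hom.comp_apply, ← Over.comp_left, ← Category.assoc,
        tensorHom_comp_tensorHom, hφ', hφ', ha, Over.comp_left, Scheme.Hom.comp_apply]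
      apply hET
      exact Set.mem_iUnion.2 ⟨j'', _, rfl⟩
    have hd := dense_box hAdense hAdense
    rintro _ ⟨z, rfl⟩
    have hz : z ∈ closure ((fst Y Y).left ⁻¹' A ∩ (snd Y Y).left ⁻¹' A) := by
      rw [hd.closure_eq]; trivial
    exact hC.closure_subset_iff.mpr hbox hz
  obtain ⟨m, hm⟩ := lift_ex ((incl ⊗ₘ incl) ≫ μ[G]) hmulrange
  -- inverse
  have hinvE : ι[G].left '' E ⊆ E := by
    rintro _ ⟨_, hx, rfl⟩
    obtain ⟨j, ζ, rfl⟩ := Set.mem_iUnion.1 hx
    obtain ⟨j', a, ha⟩ := hI j
    rw [← Scheme.Hom.comp_apply, ← Over.comp_left, ha, Over.comp_left, Scheme.Hom.comp_apply]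
    exact Set.mem_iUnion.2 ⟨j', _, rfl⟩
  have hinvrange : Set.range (incl ≫ ι[G]).left ⊆ (T : Set G.left) := by
    rintro _ ⟨y, rfl⟩
    rw [Over.comp_left, Scheme.Hom.comp_apply]
    have hy : incl.left y ∈ closure E := by
      rw [← hTcoe, ← hr]
      exact ⟨y, rfl⟩
    have h1 := image_closure_subset_closure_image ι[G].left.continuous
      (Set.mem_image_of_mem ι[G].left hy)
    exact closure_mono hinvE h1
  obtain ⟨v, hv⟩ := lift_ex (incl ≫ ι[G]) hinvrange
  obtain ⟨str, hstr⟩ := Groth.Agent.Lib.H43QuotGrp.exists_grpObj_of_mono incl e₀ he₀ m hm v hv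
  refine ⟨Y, str, incl, hstr, (inferInstance : IsClosedImmersion I.subschemeι), hgr, ?_,
    fun j => ⟨φ' j, hφ' j⟩, ?_⟩
  · rw [hr, hTcoe]
  · intro Γ' i' hi' hfac
    have hsub : Set.range incl.left ⊆ Set.range i'.left := by
      rw [hr, hTcoe]
      apply (i'.left.isClosedEmbedding.isClosed_range).closure_subset_iff.mpr
      intro x hx
      obtain ⟨j, ζ, rfl⟩ := Set.mem_iUnion.1 hx
      obtain ⟨f'', hf''⟩ := hfac j
      refine ⟨f''.left ζ, ?_⟩
      rw [← Scheme.Hom.comp_apply, ← Over.comp_left, hf'']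
    obtain ⟨l, hl⟩ := exists_lift_of_isReduced i'.left incl.left hsub
    refine ⟨Over.homMk l ?_, ?_⟩
    · rw [← Over.w i', ← Category.assoc, hl]
      exact Over.w incl
    · ext
      exact hl

end Family

section Words

variable {k : Type u} [Field k] {G X : Over (Spec (CommRingCat.of k))} [GrpObj G]

/-- The source `X × ⋯ × X` of a word map. -/
noncomputable def wordObj (X : Over (Spec (CommRingCat.of k))) :
    List Bool → Over (Spec (CommRingCat.of k))
  | [] => 𝟙_ _
  | _ :: w => X ⊗ wordObj X w

/-- First letter projection. -/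
noncomputable def wfst (b : Bool) (u : List Bool) : wordObj X (b :: u) ⟶ X := fst X (wordObj X u)

/-- Tail projection. -/
noncomputable def wsnd (b : Bool) (u : List Bool) : wordObj X (b :: u) ⟶ wordObj X u :=
  snd X (wordObj X u)

/-- Pairing into a word object. -/
noncomputable def wlift {T : Over (Spec (CommRingCat.of k))} (b : Bool) (u : List Bool) (p : T ⟶ X)
    (q : T ⟶ wordObj X u) : T ⟶ wordObj X (b :: u) := lift p q

@[reassoc]
theorem wlift_wfst {T : Over (Spec (CommRingCat.of k))} (b : Bool) (u : List Bool) (p : T ⟶ X)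
    (q : T ⟶ wordObj X u) : wlift b u p q ≫ wfst b u = p := lift_fst p q

@[reassoc]
theorem wlift_wsnd {T : Over (Spec (CommRingCat.of k))} (b : Bool) (u : List Bool) (p : T ⟶ X)
    (q : T ⟶ wordObj X u) : wlift b u p q ≫ wsnd b u = q := lift_snd p q

/-- The unit of the empty word object. -/
noncomputable def wunit : 𝟙_ (Over (Spec (CommRingCat.of k))) ⟶ wordObj X [] := 𝟙 _

/-- A letter: `f` or its inverse. -/
noncomputable def letter (f : X ⟶ G) (b : Bool) : X ⟶ G := if b then f else f⁻¹

theorem letter_not (f : X ⟶ G) (b : Bool) : letter f (!b) = (letter f b)⁻¹ := by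
  cases b <;> simp [letter]

/-- The word map `(x₁, …, xₙ) ↦ f(x₁)^{±1} ⋯ f(xₙ)^{±1}`. -/
noncomputable def wordMap (f : X ⟶ G) : (w : List Bool) → (wordObj X w ⟶ G)
  | [] => 1
  | b :: w => (fst X (wordObj X w) ≫ letter f b) * (snd X (wordObj X w) ≫ wordMap f w)

theorem wordMap_nil (f : X ⟶ G) : wordMap f [] = 1 := rfl

theorem wordMap_cons (f : X ⟶ G) (b : Bool) (u : List Bool) :
    wordMap f (b :: u) = (wfst b u ≫ letter f b) * (wsnd b u ≫ wordMap f u) := rfl

theorem wunit_wordMap (f : X ⟶ G) : wunit ≫ wordMap f [] = η[G] := by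
  rw [wordMap_nil, MonObj.comp_one, MonObj.one_eq_one]

theorem tensorHom_comp_mul {S T : Over (Spec (CommRingCat.of k))} (a : S ⟶ G) (b : T ⟶ G) :
    (a ⊗ₘ b) ≫ μ[G] = (fst S T ≫ a) * (snd S T ≫ b) := by
  rw [MonObj.mul_eq_mul, MonObj.comp_mul, tensorHom_fst, tensorHom_snd]

/-- Concatenation of words corresponds to multiplication of word maps. -/
theorem exists_concat (f : X ⟶ G) (u v : List Bool) :
    ∃ a : wordObj X u ⊗ wordObj X v ⟶ wordObj X (u ++ v),
      a ≫ wordMap f (u ++ v) =
        (fst (wordObj X u) (wordObj X v) ≫ wordMap f u) *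
          (snd (wordObj X u) (wordObj X v) ≫ wordMap f v) := by
  induction u with
  | nil =>
    refine ⟨snd (wordObj X []) (wordObj X v), ?_⟩
    rw [wordMap_nil, MonObj.comp_one, _root_.one_mul]
    rfl
  | cons b u ih =>
    obtain ⟨a, ha⟩ := ih
    refine ⟨wlift b (u ++ v) (fst (wordObj X (b :: u)) (wordObj X v) ≫ wfst b u)
      (lift (fst (wordObj X (b :: u)) (wordObj X v) ≫ wsnd b u)
        (snd (wordObj X (b :: u)) (wordObj X v)) ≫ a), ?_⟩
    change _ ≫ wordMap f (b :: (u ++ v)) = _
    rw [wordMap_cons, wordMap_cons, MonObj.comp_mul, wlift_wfst_assoc, wlift_wsnd_assoc]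
    simp only [Category.assoc]
    rw [ha, MonObj.comp_mul, lift_fst_assoc, lift_snd_assoc, MonObj.comp_mul, _root_.mul_assoc]
    simp only [Category.assoc]

/-- Inverses of word maps are word maps up to reparametrisation. -/
theorem exists_inv (f : X ⟶ G) (w : List Bool) :
    ∃ (w' : List Bool) (a : wordObj X w ⟶ wordObj X w'), wordMap f w ≫ ι[G] = a ≫ wordMap f w' := by
  induction w with
  | nil =>
    refine ⟨[], 𝟙 _, ?_⟩
    rw [← Hom.inv_def, wordMap_nil, inv_one, Category.id_comp]
  | cons b u ih =>
    obtain ⟨w', a, ha⟩ := ih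
    rw [← Hom.inv_def] at ha
    obtain ⟨a₂, ha₂⟩ := exists_concat f w' [!b]
    refine ⟨w' ++ [!b], lift (wsnd b u ≫ a)
      (wlift (!b) [] (wfst b u) (toUnit _ ≫ wunit)) ≫ a₂, ?_⟩
    rw [Category.assoc, ha₂, MonObj.comp_mul, lift_fst_assoc, lift_snd_assoc, Category.assoc, ← ha,
      wordMap_cons (b := !b), MonObj.comp_mul, wlift_wfst_assoc, wlift_wsnd_assoc, wordMap_nil,
      MonObj.comp_one, _root_.mul_one, letter_not, GrpObj.comp_inv, GrpObj.comp_inv,
      ← _root_.mul_inv_rev, ← Hom.inv_def, wordMap_cons]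

end Words

section Generated

variable {k : Type u} [Field k]

theorem geometricallyReduced_unit :
    GeometricallyReduced (𝟙_ (Over (Spec (CommRingCat.of k)))).hom := by
  refine ⟨(geometrically_iff_of_commRing_of_isClosedUnderIsomorphisms ..).mpr fun K _ _ => ?_⟩
  change IsReduced (pullback (𝟙 (Spec (CommRingCat.of k)))
    (Spec.map (CommRingCat.ofHom (algebraMap k K))))
  exact isReduced_of_isOpenImmersion (pullback.snd (𝟙 (Spec (CommRingCat.of k)))
    (Spec.map (CommRingCat.ofHom (algebraMap k K))))

theorem geometricallyReduced_wordObj (X : Over (Spec (CommRingCat.of k)))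
    [GeometricallyReduced X.hom] (w : List Bool) : GeometricallyReduced (wordObj X w).hom := by
  induction w with
  | nil => exact geometricallyReduced_unit
  | cons b u ih =>
    haveI := ih
    exact geometricallyReduced_tensorObj X (wordObj X u)

variable {G X : Over (Spec (CommRingCat.of k))} [GrpObj G]

/-- All word maps factor through any subgroup through which `f` factors. -/
theorem exists_factor_wordMap (f : X ⟶ G) {Γ' : Over (Spec (CommRingCat.of k))} [GrpObj Γ']
    (i' : Γ' ⟶ G) [IsMonHom i'] (f'' : X ⟶ Γ') (hf'' : f'' ≫ i' = f) (w : List Bool) :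
    ∃ g : wordObj X w ⟶ Γ', g ≫ i' = wordMap f w := by
  induction w with
  | nil => exact ⟨1, by rw [wordMap_nil, MonObj.one_comp]⟩
  | cons b u ih =>
    obtain ⟨g, hg⟩ := ih
    have hl : ∃ l : X ⟶ Γ', l ≫ i' = letter f b := by
      cases b
      · refine ⟨f''⁻¹, ?_⟩
        rw [GrpObj.inv_comp, hf'']
        simp [letter]
      · exact ⟨f'', by simpa [letter] using hf''⟩
    obtain ⟨l, hl⟩ := hl
    refine ⟨(wfst b u ≫ l) * (wsnd b u ≫ g), ?_⟩
    rw [MonObj.mul_comp, Category.assoc, Category.assoc, hl, hg, wordMap_cons]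

/-- **The closed subgroup generated by a morphism from a geometrically reduced scheme.** -/
theorem exists_generated_subgroup (G X : Over (Spec (CommRingCat.of k))) [GrpObj G]
    [GeometricallyReduced X.hom] (f : X ⟶ G) :
    ∃ (Γ : Over (Spec (CommRingCat.of k))) (_ : GrpObj Γ) (i : Γ ⟶ G), IsMonHom i ∧
      IsClosedImmersion i.left ∧ GeometricallyReduced Γ.hom ∧
      Set.range i.left = closure (⋃ w, Set.range (wordMap f w).left) ∧
      (∃ f' : X ⟶ Γ, f' ≫ i = f) ∧
      ∀ (Γ' : Over (Spec (CommRingCat.of k))) (_ : GrpObj Γ') (i' : Γ' ⟶ G), IsMonHom i' →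
        IsClosedImmersion i'.left → (∃ f'' : X ⟶ Γ', f'' ≫ i' = f) → ∃ j : Γ ⟶ Γ', j ≫ i' = i := by
  haveI : ∀ w, GeometricallyReduced (wordObj X w).hom := geometricallyReduced_wordObj X
  obtain ⟨Γ, str, i, h1, h2, h3, h4, h5, h6⟩ := exists_closed_subgroup_of_family G
    (fun w => wordObj X w) (fun w => wordMap f w)
    ⟨[], wunit, wunit_wordMap f⟩
    (fun u v => by
      obtain ⟨a, ha⟩ := exists_concat f u v
      exact ⟨u ++ v, a, by rw [tensorHom_comp_mul, ha]⟩)
    (fun w => exists_inv f w)
  refine ⟨Γ, str, i, h1, h2, h3, h4, ?_, ?_⟩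
  · obtain ⟨φ', hφ'⟩ := h5 [true]
    refine ⟨wlift true [] (𝟙 X) (toUnit X ≫ wunit) ≫ φ', ?_⟩
    rw [Category.assoc, hφ', wordMap_cons, MonObj.comp_mul, wlift_wfst_assoc, wlift_wsnd_assoc,
      wordMap_nil, MonObj.comp_one, _root_.mul_one, Category.id_comp]
    simp [letter]
  · intro Γ' str' i' hi' hcl' ⟨f'', hf''⟩
    exact h6 Γ' i' hcl' (fun w => exists_factor_wordMap f i' f'' hf'' w)

end Generated

end Groth.Agent.Lib.H71GenSubgrp
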