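import Groth.Agent.Lib.H71GenSubgrp
import Mathlib.AlgebraicGeometry.Geometrically.Connected

set_option autoImplicit false
universe u

open CategoryTheory CategoryTheory.Limits AlgebraicGeometry TopologicalSpace
open MonoidalCategory CartesianMonoidalCategory MonObj GrpObj

namespace Groth.Agent.Lib.H71GenSubgrp

section Conn

variable {k : Type u} [Field k]

theorem geometricallyConnected_unit :
    GeometricallyConnected (𝟙 (Spec (CommRingCat.of k))) := by
  refine ⟨(geometrically_iff_of_commRing_of_isClosedUnderIsomorphisms ..).mpr fun K _ _ => ?_⟩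
  have e := asIso (pullback.snd (𝟙 (Spec (CommRingCat.of k)))
    (Spec.map (CommRingCat.ofHom (algebraMap k K))))
  exact e.hom.homeomorph.symm.connectedSpace_iff.mp inferInstance

/-- A connected scheme over a field with a rational point is geometrically connected. -/
theorem geometricallyConnected_of_ratPoint (X : Over (Spec (CommRingCat.of k)))
    [ConnectedSpace X.left] (x : 𝟙_ (Over (Spec (CommRingCat.of k))) ⟶ X) :
    GeometricallyConnected X.hom := by
  haveI : GeometricallyConnected (x.left ≫ X.hom) := by
    rw [Over.w x]
    exact geometricallyConnected_unit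
  exact Groth.Agent.Lib.FieldBC13.geometricallyConnected_of_comp x.left X.hom

variable {G X : Over (Spec (CommRingCat.of k))} [GrpObj G]

theorem connectedSpace_wordObj [ConnectedSpace X.left]
    (x : 𝟙_ (Over (Spec (CommRingCat.of k))) ⟶ X) (w : List Bool) :
    ConnectedSpace (wordObj X w).left := by
  haveI := geometricallyConnected_of_ratPoint X x
  induction w with
  | nil =>
    change ConnectedSpace ↥(Spec (CommRingCat.of k))
    infer_instance
  | cons b u ih =>
    haveI := ih
    change ConnectedSpace ↥(pullback X.hom (wordObj X u).hom)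
    infer_instance

/-- The rational point `(x, …, x)` of a word object. -/
noncomputable def wordPt (x : 𝟙_ (Over (Spec (CommRingCat.of k))) ⟶ X) :
    (w : List Bool) → (𝟙_ (Over (Spec (CommRingCat.of k))) ⟶ wordObj X w)
  | [] => wunit
  | b :: u => wlift b u x (wordPt x u)

theorem wordPt_wordMap (f : X ⟶ G) (x : 𝟙_ (Over (Spec (CommRingCat.of k))) ⟶ X)
    (hx : x ≫ f = η[G]) (w : List Bool) : wordPt x w ≫ wordMap f w = η[G] := by
  induction w with
  | nil => exact wunit_wordMap f
  | cons b u ih =>
    change wlift b u x (wordPt x u) ≫ wordMap f (b :: u) = η[G]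
    rw [wordMap_cons, MonObj.comp_mul, wlift_wfst_assoc, wlift_wsnd_assoc, ih]
    have hl : x ≫ letter f b = η[G] := by
      cases b
      · simp only [letter, Bool.false_eq_true, if_false]
        rw [GrpObj.comp_inv, hx, MonObj.one_eq_one, inv_one]
      · simpa [letter] using hx
    rw [hl, MonObj.one_eq_one, _root_.one_mul]

/-- If `X` is connected with a rational point mapped to the unit, the union of the images of the word maps has
connected closure. -/
theorem isConnected_closure_words (f : X ⟶ G) [ConnectedSpace X.left]
    (x : 𝟙_ (Over (Spec (CommRingCat.of k))) ⟶ X) (hx : x ≫ f = η[G]) :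
    _root_.IsConnected (closure (⋃ w, Set.range (wordMap f w).left)) := by
  have hmem : ∀ w, Groth.Agent.Lib.H71RatClosure.ptOf (η[G]) ∈ Set.range (wordMap f w).left := by
    intro w
    refine ⟨Groth.Agent.Lib.H71RatClosure.ptOf (wordPt x w), ?_⟩
    rw [Groth.Agent.Lib.H71RatClosure.comp_left_ptOf, wordPt_wordMap f x hx w]
  have hconn : ∀ w, _root_.IsPreconnected (Set.range (wordMap f w).left) := by
    intro w
    haveI := connectedSpace_wordObj x w
    exact isPreconnected_range (wordMap f w).left.continuous
  have hne : (⋃ w, Set.range (wordMap f w).left).Nonempty :=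
    ⟨Groth.Agent.Lib.H71RatClosure.ptOf (η[G]), Set.mem_iUnion.2 ⟨[], hmem []⟩⟩
  have hpre : _root_.IsPreconnected (⋃ w, Set.range (wordMap f w).left) :=
    isPreconnected_iUnion ⟨Groth.Agent.Lib.H71RatClosure.ptOf (η[G]), Set.mem_iInter.2 hmem⟩ hconn
  exact _root_.IsConnected.closure ⟨hne, hpre⟩

end Conn

end Groth.Agent.Lib.H71GenSubgrp
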