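import Groth.Agent.Lib.H71GenSubgrp2
import Groth.Agent.S5331

set_option autoImplicit false
universe u

open CategoryTheory CategoryTheory.Limits AlgebraicGeometry TopologicalSpace
open MonoidalCategory CartesianMonoidalCategory MonObj GrpObj

namespace Groth.Agent.Lib.H71GenSubgrp

section Comm

variable {k : Type u} [Field k]

/-- Group schemes over a field are separated. -/
theorem isSeparated_of_grpObj (G : Over (Spec (CommRingCat.of k))) [GrpObj G] :
    IsSeparated G.hom := by
  haveI : DiscreteTopology ↥(Spec (CommRingCat.of k)) := inferInstance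
  exact Groth.Agent.S5331.result (Spec (CommRingCat.of k)) G

/-- Two morphisms from a reduced scheme to a separated one agreeing on a jointly dense family agree. -/
theorem hom_ext_of_dense_family {Y G : Over (Spec (CommRingCat.of k))} [IsReduced Y.left]
    [IsSeparated G.hom] (a b : Y ⟶ G) {J : Type*} (T : J → Over (Spec (CommRingCat.of k)))
    (φ : ∀ j, T j ⟶ Y) (hd : Dense (⋃ j, Set.range (φ j).left)) (h : ∀ j, φ j ≫ a = φ j ≫ b) :
    a = b := by
  have hcl : IsClosed (Set.range (equalizer.ι a b).left) :=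
    (Scheme.Hom.isClosedEmbedding _).isClosed_range
  have hr : Set.range (equalizer.ι a b).left = Set.univ := by
    rw [← Set.univ_subset_iff, ← hd.closure_eq]
    apply closure_minimal _ hcl
    apply Set.iUnion_subset
    rintro j _ ⟨t, rfl⟩
    refine ⟨(equalizer.lift (φ j) (h j)).left t, ?_⟩
    rw [← Scheme.Hom.comp_apply, ← Over.comp_left, equalizer.lift_ι]
  haveI : Surjective (equalizer.ι a b).left := ⟨Set.range_eq_univ.mp hr⟩
  haveI := isIso_of_isClosedImmersion_of_surjective (Y := Y.left) (equalizer.ι a b).left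
  ext1
  rw [← cancel_epi (equalizer.ι a b).left]
  exact congr($(equalizer.condition a b).left)

variable {G X : Over (Spec (CommRingCat.of k))} [GrpObj G]

/-- A monomorphic homomorphism whose two "multiplications" agree has commutative source. -/
theorem isCommMonObj_of_mono {Γ : Over (Spec (CommRingCat.of k))} [GrpObj Γ] (i : Γ ⟶ G)
    [IsMonHom i] [Mono i]
    (h : (i ⊗ₘ i) ≫ μ[G] = (i ⊗ₘ i) ≫ (β_ G G).hom ≫ μ[G]) : IsCommMonObj Γ := by
  refine ⟨?_⟩
  rw [← cancel_mono i, Category.assoc, IsMonHom.mul_hom, ← BraidedCategory.braiding_naturality_assoc,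
    ← h]

theorem tensorHom_braiding_mul {S T : Over (Spec (CommRingCat.of k))} (a : S ⟶ G) (b : T ⟶ G) :
    (a ⊗ₘ b) ≫ (β_ G G).hom ≫ μ[G] = (snd S T ≫ b) * (fst S T ≫ a) := by
  rw [BraidedCategory.braiding_naturality_assoc, tensorHom_comp_mul, MonObj.comp_mul]
  simp only [← Category.assoc]
  rw [braiding_hom_fst, braiding_hom_snd]

/-- If all the word maps of `f` commute pairwise, the closed subgroup generated by `f` is commutative. -/
theorem comm_of_words_comm [GeometricallyReduced X.hom] (f : X ⟶ G)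
    {Γ₀ : Over (Spec (CommRingCat.of k))} [GrpObj Γ₀] (i₀ : Γ₀ ⟶ G) [IsMonHom i₀]
    [IsClosedImmersion i₀.left] [GeometricallyReduced Γ₀.hom]
    (hrange : Set.range i₀.left = closure (⋃ w, Set.range (wordMap f w).left))
    (hf : ∃ f' : X ⟶ Γ₀, f' ≫ i₀ = f)
    (hcomm : ∀ u v, (wordMap f u ⊗ₘ wordMap f v) ≫ μ[G] =
      (wordMap f u ⊗ₘ wordMap f v) ≫ (β_ G G).hom ≫ μ[G]) :
    (i₀ ⊗ₘ i₀) ≫ μ[G] = (i₀ ⊗ₘ i₀) ≫ (β_ G G).hom ≫ μ[G] := by
  obtain ⟨f', hf'⟩ := hf
  have hfac := fun w => exists_factor_wordMap f i₀ f' hf' w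
  choose ψ hψ using hfac
  set A : Set Γ₀.left := ⋃ w, Set.range (ψ w).left with hA
  have hemb : Topology.IsClosedEmbedding i₀.left := Scheme.Hom.isClosedEmbedding i₀.left
  have himg : i₀.left '' A = ⋃ w, Set.range (wordMap f w).left := by
    rw [hA, Set.image_iUnion]
    refine Set.iUnion_congr fun w => ?_
    rw [← Set.range_comp, ← hψ w, Over.comp_left]
    rfl
  have hAdense : Dense A := by
    rw [dense_iff_closure_eq]
    apply hemb.injective.image_injective
    rw [← hemb.closure_image_eq, himg, Set.image_univ, hrange]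
  haveI : GeometricallyReduced (Γ₀ ⊗ Γ₀).hom := geometricallyReduced_tensorObj Γ₀ Γ₀
  haveI : IsReduced (Γ₀ ⊗ Γ₀).left := isReduced_of_geometricallyReduced (Γ₀ ⊗ Γ₀)
  haveI : IsSeparated G.hom := isSeparated_of_grpObj G
  refine hom_ext_of_dense_family _ _ (J := List Bool × List Bool)
    (fun p => wordObj X p.1 ⊗ wordObj X p.2) (fun p => ψ p.1 ⊗ₘ ψ p.2) ?_ ?_
  · have hd := dense_box hAdense hAdense
    refine hd.mono ?_
    rintro z ⟨hz1, hz2⟩
    obtain ⟨u, hu⟩ := Set.mem_iUnion.1 hz1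
    obtain ⟨v, hv⟩ := Set.mem_iUnion.1 hz2
    refine Set.mem_iUnion.2 ⟨(u, v), ?_⟩
    rw [range_tensorHom_left]
    exact ⟨hu, hv⟩
  · rintro ⟨u, v⟩
    simp only [← Category.assoc]
    rw [tensorHom_comp_tensorHom, hψ, hψ]
    simp only [Category.assoc]
    exact hcomm u v

/-- The word maps of a rational point are powers of the point. -/
theorem wordMap_point (g : 𝟙_ (Over (Spec (CommRingCat.of k))) ⟶ G) (w : List Bool) :
    ∃ n : ℤ, wordMap g w = toUnit _ ≫ g ^ n := by
  induction w with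
  | nil => exact ⟨0, by rw [wordMap_nil, zpow_zero, MonObj.comp_one]⟩
  | cons b u ih =>
    obtain ⟨n, hn⟩ := ih
    have hl : ∃ e : ℤ, letter g b = g ^ e := by
      cases b
      · exact ⟨-1, by simp [letter]⟩
      · exact ⟨1, by simp [letter]⟩
    obtain ⟨e, he⟩ := hl
    refine ⟨e + n, ?_⟩
    rw [wordMap_cons, hn, he, zpow_add, MonObj.comp_mul, ← Category.assoc (wsnd b u),
      toUnit_unique (wsnd b u ≫ toUnit _) (toUnit _), toUnit_unique (wfst b u) (toUnit _)]

theorem words_comm_point (g : 𝟙_ (Over (Spec (CommRingCat.of k))) ⟶ G) (u v : List Bool) :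
    (wordMap g u ⊗ₘ wordMap g v) ≫ μ[G] =
      (wordMap g u ⊗ₘ wordMap g v) ≫ (β_ G G).hom ≫ μ[G] := by
  obtain ⟨n, hn⟩ := wordMap_point g u
  obtain ⟨m, hm⟩ := wordMap_point g v
  rw [tensorHom_comp_mul, tensorHom_braiding_mul, hn, hm]
  simp only [← Category.assoc]
  rw [toUnit_unique (fst _ _ ≫ toUnit _) (toUnit _), toUnit_unique (snd _ _ ≫ toUnit _) (toUnit _),
    ← MonObj.comp_mul, ← MonObj.comp_mul, ((Commute.refl g).zpow_zpow n m).eq]

/-- The closed subgroup generated by a rational point is commutative. -/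
theorem isCommMonObj_generated_point (g : 𝟙_ (Over (Spec (CommRingCat.of k))) ⟶ G)
    (Γ : Over (Spec (CommRingCat.of k))) [GrpObj Γ] (i : Γ ⟶ G) [IsMonHom i]
    [IsClosedImmersion i.left]
    (hmin : ∀ (Γ' : Over (Spec (CommRingCat.of k))) (_ : GrpObj Γ') (i' : Γ' ⟶ G), IsMonHom i' →
      IsClosedImmersion i'.left →
        (∃ f'' : 𝟙_ (Over (Spec (CommRingCat.of k))) ⟶ Γ', f'' ≫ i' = g) → ∃ j : Γ ⟶ Γ', j ≫ i' = i) :
    IsCommMonObj Γ := by
  haveI := geometricallyReduced_unit (k := k)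
  obtain ⟨Γ₀, str₀, i₀, h1, h2, h3, h4, h5, h6⟩ :=
    exists_generated_subgroup G (𝟙_ (Over (Spec (CommRingCat.of k)))) g
  obtain ⟨j, hj⟩ := hmin Γ₀ str₀ i₀ h1 h2 h5
  have key := comm_of_words_comm g i₀ h4 h5 (words_comm_point g)
  haveI : Mono i := by
    have : Mono ((Over.forget _).map i) := (inferInstance : Mono i.left)
    exact (Over.forget _).mono_of_mono_map this
  apply isCommMonObj_of_mono i
  rw [← hj, ← tensorHom_comp_tensorHom]
  simp only [Category.assoc]
  rw [key]

end Comm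

end Groth.Agent.Lib.H71GenSubgrp
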