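import Groth.Agent.Lib.H71VanishBC

set_option autoImplicit false
universe u

open CategoryTheory CategoryTheory.Limits AlgebraicGeometry TopologicalSpace
open MonoidalCategory CartesianMonoidalCategory

namespace Groth.Agent.Lib.H71SchDom

section Pushout

/-- Sections over a product open `π⁻¹ U ⊓ ρ⁻¹ V` of a fibre product over an affine base form a pushout square. -/
theorem isPushout_appLE_of_isPullback {X S T Y : Scheme.{u}} [IsAffine S] {π : Y ⟶ X} {ρ : Y ⟶ T}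
    {p : X ⟶ S} {q : T ⟶ S} (H : IsPullback π ρ p q)
    (U : X.Opens) (hU : IsAffineOpen U) (V : T.Opens) (hV : IsAffineOpen V) :
    IsPushout (p.appLE ⊤ U (fun _ _ => trivial)) (q.appLE ⊤ V (fun _ _ => trivial))
      (π.appLE U (π ⁻¹ᵁ U ⊓ ρ ⁻¹ᵁ V) inf_le_left)
      (ρ.appLE V (π ⁻¹ᵁ U ⊓ ρ ⁻¹ᵁ V) inf_le_right) := by
  have hiso := isIso_pushoutSection_of_isAffineOpen H (US := ⊤) (UT := V) (UX := U)
    (fun _ _ => trivial) (fun _ _ => trivial) rfl (isAffineOpen_top S) hV hU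
  exact (isIso_pushoutSection_iff H _ _ rfl).mp hiso

end Pushout

section Main

open Groth.Agent.Lib.H71VanishBC

set_option maxHeartbeats 400000 in
/-- Key base change statement: a section over a product open of a fibre product `X ×_S T` (with `Γ(T, V)` free over
`Γ(S)`), all of whose pullbacks to the base changes of a family `Z i → X` of reduced schemes vanish, lies in the
extension of the vanishing ideal of the closure of the union of the images of the `Z i`. -/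
theorem mem_map_vanishingIdeal_of_forall_app_eq_zero
    {X S T Y : Scheme.{u}} [IsAffine S] {π : Y ⟶ X} {ρ : Y ⟶ T} {p : X ⟶ S} {q : T ⟶ S}
    (H : IsPullback π ρ p q) (V : T.Opens) (hV : IsAffineOpen V)
    (hfree : letI := (q.appLE ⊤ V (fun _ _ => trivial)).hom.toAlgebra; Module.Free Γ(S, ⊤) Γ(T, V))
    {ι : Type*} (Z Z' : ι → Scheme.{u}) [∀ i, IsReduced (Z i)] (f : ∀ i, Z i ⟶ X)
    (pr : ∀ i, Z' i ⟶ Z i) (t : ∀ i, Z' i ⟶ T)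
    (HZ : ∀ i, IsPullback (pr i) (t i) (f i ≫ p) q)
    (g : ∀ i, Z' i ⟶ Y) (hgπ : ∀ i, g i ≫ π = pr i ≫ f i) (hgρ : ∀ i, g i ≫ ρ = t i)
    (U : X.affineOpens) (s : Γ(Y, π ⁻¹ᵁ U.1 ⊓ ρ ⁻¹ᵁ V))
    (hs : ∀ i, ((g i).app (π ⁻¹ᵁ U.1 ⊓ ρ ⁻¹ᵁ V)).hom s = 0) :
    s ∈ Ideal.map (π.appLE U.1 (π ⁻¹ᵁ U.1 ⊓ ρ ⁻¹ᵁ V) inf_le_left).hom
      ((Scheme.IdealSheafData.vanishingIdeal (Closeds.closure (⋃ i, Set.range (f i)))).ideal U) := by
  have hle' : ∀ (i : ι) (N : {N : (Z i).affineOpens // N.1 ≤ (f i) ⁻¹ᵁ U.1}),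
      (pr i) ⁻¹ᵁ N.1.1 ⊓ (t i) ⁻¹ᵁ V ≤ (g i) ⁻¹ᵁ (π ⁻¹ᵁ U.1 ⊓ ρ ⁻¹ᵁ V) := by
    intro i N
    rw [Scheme.Hom.preimage_inf, ← Scheme.Hom.comp_preimage, ← Scheme.Hom.comp_preimage, hgπ, hgρ,
      Scheme.Hom.comp_preimage]
    exact inf_le_inf (Scheme.Hom.preimage_mono _ N.2) le_rfl
  have hR : (Scheme.IdealSheafData.vanishingIdeal (Closeds.closure (⋃ i, Set.range (f i)))).ideal
      ⟨U.1, U.2⟩ =
      ⨅ j : (Σ i, {N : (Z i).affineOpens // N.1 ≤ (f i) ⁻¹ᵁ U.1}),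
        RingHom.ker ((f j.1).appLE U.1 j.2.1.1 j.2.2).hom := by
    ext s
    rw [mem_ideal_vanishingIdeal_closure_iUnion_range_iff]
    simp only [Ideal.mem_iInf, RingHom.mem_ker]
    constructor
    · intro h j
      exact (app_eq_zero_iff_forall_appLE (f j.1) U.1
        (fun N : {N : (Z j.1).affineOpens // N.1 ≤ (f j.1) ⁻¹ᵁ U.1} => N.1.1)
        (fun N => N.2) (preimage_eq_iSup_affineOpens (f j.1) U.1) s).1 (h j.1) j.2
    · intro h i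
      exact (app_eq_zero_iff_forall_appLE (f i) U.1
        (fun N : {N : (Z i).affineOpens // N.1 ≤ (f i) ⁻¹ᵁ U.1} => N.1.1)
        (fun N => N.2) (preimage_eq_iSup_affineOpens (f i) U.1) s).2 (fun N => h ⟨i, N⟩)
  have h1 : ∀ j : (Σ i, {N : (Z i).affineOpens // N.1 ≤ (f i) ⁻¹ᵁ U.1}),
      π.appLE U.1 (π ⁻¹ᵁ U.1 ⊓ ρ ⁻¹ᵁ V) inf_le_left ≫
        (g j.1).appLE (π ⁻¹ᵁ U.1 ⊓ ρ ⁻¹ᵁ V) ((pr j.1) ⁻¹ᵁ j.2.1.1 ⊓ (t j.1) ⁻¹ᵁ V) (hle' j.1 j.2) =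
      (f j.1).appLE U.1 j.2.1.1 j.2.2 ≫
        (pr j.1).appLE j.2.1.1 ((pr j.1) ⁻¹ᵁ j.2.1.1 ⊓ (t j.1) ⁻¹ᵁ V) inf_le_left := by
    intro j
    rw [Scheme.Hom.appLE_comp_appLE, Scheme.Hom.appLE_comp_appLE]
    exact appLE_congr_hom (hgπ j.1) _ _ _
  have h2 : ∀ j : (Σ i, {N : (Z i).affineOpens // N.1 ≤ (f i) ⁻¹ᵁ U.1}),
      ρ.appLE V (π ⁻¹ᵁ U.1 ⊓ ρ ⁻¹ᵁ V) inf_le_right ≫
        (g j.1).appLE (π ⁻¹ᵁ U.1 ⊓ ρ ⁻¹ᵁ V) ((pr j.1) ⁻¹ᵁ j.2.1.1 ⊓ (t j.1) ⁻¹ᵁ V) (hle' j.1 j.2) =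
      (t j.1).appLE V ((pr j.1) ⁻¹ᵁ j.2.1.1 ⊓ (t j.1) ⁻¹ᵁ V) inf_le_right := by
    intro j
    rw [Scheme.Hom.appLE_comp_appLE]
    exact appLE_congr_hom (hgρ j.1) _ _ _
  have key := Groth.Agent.Lib.H71FreeBC.iInf_ker_eq_map_of_isPushout
    (J := (Σ i, {N : (Z i).affineOpens // N.1 ≤ (f i) ⁻¹ᵁ U.1}))
    (B := fun j => Γ(Z j.1, j.2.1.1))
    (B' := fun j => Γ(Z' j.1, (pr j.1) ⁻¹ᵁ j.2.1.1 ⊓ (t j.1) ⁻¹ᵁ V))
    (isPushout_appLE_of_isPullback H U.1 U.2 V hV) hfree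
    (fun j => (f j.1 ≫ p).appLE ⊤ j.2.1.1 (fun _ _ => trivial))
    (fun j => (pr j.1).appLE j.2.1.1 ((pr j.1) ⁻¹ᵁ j.2.1.1 ⊓ (t j.1) ⁻¹ᵁ V) inf_le_left)
    (fun j => (t j.1).appLE V ((pr j.1) ⁻¹ᵁ j.2.1.1 ⊓ (t j.1) ⁻¹ᵁ V) inf_le_right)
    (fun j => isPushout_appLE_of_isPullback (HZ j.1) j.2.1.1 j.2.1.2 V hV)
    (fun j => (f j.1).appLE U.1 j.2.1.1 j.2.2)
    (fun j => (g j.1).appLE (π ⁻¹ᵁ U.1 ⊓ ρ ⁻¹ᵁ V) ((pr j.1) ⁻¹ᵁ j.2.1.1 ⊓ (t j.1) ⁻¹ᵁ V) (hle' j.1 j.2)) h1 h2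
  change s ∈ Ideal.map (π.appLE U.1 (π ⁻¹ᵁ U.1 ⊓ ρ ⁻¹ᵁ V) inf_le_left).hom
    ((Scheme.IdealSheafData.vanishingIdeal (Closeds.closure (⋃ i, Set.range (f i)))).ideal
      ⟨U.1, U.2⟩)
  rw [hR, ← key]
  simp only [Ideal.mem_iInf, RingHom.mem_ker]
  intro j
  rw [Scheme.Hom.appLE, CommRingCat.hom_comp, RingHom.comp_apply, hs j.1, map_zero]

end Main

section Iso

theorem isAffineOpen_inf_preimage {X S T Y : Scheme.{u}} [IsAffine S] {π : Y ⟶ X} {ρ : Y ⟶ T}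
    {p : X ⟶ S} {q : T ⟶ S} (H : IsPullback π ρ p q)
    (U : X.Opens) (hU : IsAffineOpen U) (V : T.Opens) (hV : IsAffineOpen V) :
    IsAffineOpen (π ⁻¹ᵁ U ⊓ ρ ⁻¹ᵁ V) := by
  have hS : IsAffineOpen (⊤ : S.Opens) := isAffineOpen_top S
  haveI : IsAffine (⊤ : S.Opens) := hS
  haveI : IsAffine V := hV
  haveI : IsAffine U := hU
  have hP := Scheme.Hom.isPullback_resLE H (US := ⊤) (UT := V) (UX := U)
    (fun _ _ => trivial) (fun _ _ => trivial) (UY := π ⁻¹ᵁ U ⊓ ρ ⁻¹ᵁ V) rfl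
  exact IsAffine.of_isIso hP.isoPullback.hom

/-- **Universal schematic dominance over a field-like base.** Let `X` be a reduced `S`-scheme (`S` affine) and
`Z i → X` a family of reduced schemes with jointly dense image. Let `T → S` be such that the sections of `T` over
affine opens are free over `Γ(S)` (e.g. `S` the spectrum of a field). Then a closed immersion into `X ×_S T` through
which all the base-changed morphisms `Z i ×_S T → X ×_S T` factor is an isomorphism. -/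
theorem isIso_of_isClosedImmersion_of_family
    {X S T Y : Scheme.{u}} [IsAffine S] {π : Y ⟶ X} {ρ : Y ⟶ T} {p : X ⟶ S} {q : T ⟶ S}
    (H : IsPullback π ρ p q)
    (hfree : ∀ (V : T.Opens), IsAffineOpen V →
      letI := (q.appLE ⊤ V (fun _ _ => trivial)).hom.toAlgebra; Module.Free Γ(S, ⊤) Γ(T, V))
    [IsReduced X]
    {ι : Type*} (Z Z' : ι → Scheme.{u}) [∀ i, IsReduced (Z i)] (f : ∀ i, Z i ⟶ X)
    (hdense : Dense (⋃ i, Set.range (f i)))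
    (pr : ∀ i, Z' i ⟶ Z i) (t : ∀ i, Z' i ⟶ T)
    (HZ : ∀ i, IsPullback (pr i) (t i) (f i ≫ p) q)
    (g : ∀ i, Z' i ⟶ Y) (hgπ : ∀ i, g i ≫ π = pr i ≫ f i) (hgρ : ∀ i, g i ≫ ρ = t i)
    {P : Scheme.{u}} (c : P ⟶ Y) [IsClosedImmersion c] (hc : ∀ i, ∃ l : Z' i ⟶ P, l ≫ c = g i) :
    IsIso c := by
  rw [IsClosedImmersion.isIso_iff_ker_eq_bot]
  refine Scheme.IdealSheafData.ext_of_iSup_eq_top
    (fun UV : X.affineOpens × T.affineOpens =>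
      ⟨π ⁻¹ᵁ UV.1.1 ⊓ ρ ⁻¹ᵁ UV.2.1, isAffineOpen_inf_preimage H _ UV.1.2 _ UV.2.2⟩) ?_ ?_
  · rw [eq_top_iff]
    intro y _
    obtain ⟨U, hU, hyU, -⟩ := (X.isBasis_affineOpens).exists_subset_of_mem_open
      (Set.mem_univ (π y)) isOpen_univ
    obtain ⟨V, hV, hyV, -⟩ := (T.isBasis_affineOpens).exists_subset_of_mem_open
      (Set.mem_univ (ρ y)) isOpen_univ
    obtain ⟨U, hU', rfl⟩ := hU
    obtain ⟨V, hV', rfl⟩ := hV
    exact Opens.mem_iSup.2 ⟨(⟨U, hU'⟩, ⟨V, hV'⟩), hyU, hyV⟩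
  · rintro ⟨U, V⟩
    rw [Scheme.Hom.ker_apply]
    change _ = (⊥ : Ideal _)
    rw [eq_bot_iff]
    intro s hs
    rw [RingHom.mem_ker] at hs
    have hs' : ∀ i, ((g i).app (π ⁻¹ᵁ U.1 ⊓ ρ ⁻¹ᵁ V.1)).hom s = 0 := by
      intro i
      obtain ⟨l, hl⟩ := hc i
      rw [← hl]
      have h1 : ((l ≫ c).app (π ⁻¹ᵁ U.1 ⊓ ρ ⁻¹ᵁ V.1)).hom s =
          (l.app _).hom ((c.app (π ⁻¹ᵁ U.1 ⊓ ρ ⁻¹ᵁ V.1)).hom s) := by
        rw [Scheme.Hom.comp_app]; rfl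
      rw [h1]
      erw [hs]
      exact map_zero _
    have key := mem_map_vanishingIdeal_of_forall_app_eq_zero H V.1 V.2 (hfree V.1 V.2) Z Z' f pr t
      HZ g hgπ hgρ U s hs'
    have htop : Closeds.closure (⋃ i, Set.range (f i)) = ⊤ := by
      ext1
      rw [Closeds.coe_closure, hdense.closure_eq]
      rfl
    rw [htop, Scheme.IdealSheafData.vanishingIdeal_top, Scheme.nilradical_eq_bot,
      Scheme.IdealSheafData.ideal_bot] at key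
    simpa using key

end Iso

section OverField

variable {k : Type u} [Field k]

/-- **Universal schematic dominance over a field**, in the category of `k`-schemes: if `ψ j : Z j ⟶ Γ₀` is a jointly
dense family of morphisms of reduced `k`-schemes, then for every `k`-scheme `T` any closed immersion into `Γ₀ ×ₖ T`
through which all `ψ j × T` factor is an isomorphism. -/
theorem isIso_of_isClosedImmersion_of_family_over {Γ₀ T : Over (Spec (CommRingCat.of k))}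
    [IsReduced Γ₀.left] {J : Type*} (Z : J → Over (Spec (CommRingCat.of k)))
    [∀ j, IsReduced (Z j).left] (ψ : ∀ j, Z j ⟶ Γ₀)
    (hdense : Dense (⋃ j, Set.range (ψ j).left))
    {P : Scheme.{u}} (c : P ⟶ (Γ₀ ⊗ T).left) [IsClosedImmersion c]
    (hc : ∀ j, ∃ l : (Z j ⊗ T).left ⟶ P, l ≫ c = (ψ j ⊗ₘ 𝟙 T).left) : IsIso c := by
  have H : IsPullback (fst Γ₀ T).left (snd Γ₀ T).left Γ₀.hom T.hom :=
    IsPullback.of_hasPullback Γ₀.hom T.hom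
  refine isIso_of_isClosedImmersion_of_family H
    (fun V _ => Groth.Agent.Lib.H71VanishBC.free_of_field k _)
    (fun j => (Z j).left) (fun j => (Z j ⊗ T).left) (fun j => (ψ j).left) hdense
    (fun j => (fst (Z j) T).left) (fun j => (snd (Z j) T).left) ?_
    (fun j => (ψ j ⊗ₘ 𝟙 T).left) ?_ ?_ c hc
  · intro j
    rw [Over.w (ψ j)]
    exact IsPullback.of_hasPullback (Z j).hom T.hom
  · intro j
    rw [← Over.comp_left, ← Over.comp_left, tensorHom_fst]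
  · intro j
    rw [← Over.comp_left, tensorHom_snd, Category.comp_id]

end OverField

end Groth.Agent.Lib.H71SchDom
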