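import Groth.Agent.Lib.H71GenSubgrp3
import Groth.Agent.Lib.H71SchDom
import Groth.Prelude.Def_AlgGrp

set_option autoImplicit false
universe u

open CategoryTheory CategoryTheory.Limits AlgebraicGeometry TopologicalSpace
open MonoidalCategory CartesianMonoidalCategory MonObj GrpObj

namespace Groth.Agent.Lib.H71GenSubgrp

section Normal

variable {k : Type u} [Field k] {G X : Over (Spec (CommRingCat.of k))} [GrpObj G]

/-- The images of the factorisations of the word maps through the generated subgroup are jointly dense. -/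
theorem dense_iUnion_range_factor (f : X ⟶ G)
    {Γ₀ : Over (Spec (CommRingCat.of k))} (i₀ : Γ₀ ⟶ G) [IsClosedImmersion i₀.left]
    (hrange : Set.range i₀.left = closure (⋃ w, Set.range (wordMap f w).left))
    (ψ : ∀ w, wordObj X w ⟶ Γ₀) (hψ : ∀ w, ψ w ≫ i₀ = wordMap f w) :
    Dense (⋃ w, Set.range (ψ w).left) := by
  have hemb : Topology.IsClosedEmbedding i₀.left := Scheme.Hom.isClosedEmbedding i₀.left
  have himg : i₀.left '' (⋃ w, Set.range (ψ w).left) = ⋃ w, Set.range (wordMap f w).left := by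
    rw [Set.image_iUnion]
    refine Set.iUnion_congr fun w => ?_
    rw [← Set.range_comp, ← hψ w, Over.comp_left]
    rfl
  rw [dense_iff_closure_eq]
  apply hemb.injective.image_injective
  rw [← hemb.closure_image_eq, himg, Set.image_univ, hrange]

/-- Conjugation-stability passes from `f` to its word maps. -/
theorem exists_conj_wordMap (f : X ⟶ G)
    (hstab : ∀ (T : Over (Spec (CommRingCat.of k))) (g : T ⟶ G) (x : T ⟶ X),
      ∃ x' : T ⟶ X, g * (x ≫ f) * g⁻¹ = x' ≫ f) (w : List Bool) :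
    ∀ (T : Over (Spec (CommRingCat.of k))) (g : T ⟶ G) (x : T ⟶ wordObj X w),
      ∃ x' : T ⟶ wordObj X w, g * (x ≫ wordMap f w) * g⁻¹ = x' ≫ wordMap f w := by
  induction w with
  | nil =>
    intro T g x
    refine ⟨x, ?_⟩
    rw [wordMap_nil, MonObj.comp_one, _root_.mul_one, mul_inv_cancel]
  | cons b u ih =>
    intro T g x
    obtain ⟨x₂', hx₂'⟩ := ih T g (x ≫ wsnd b u)
    have hl : ∃ x₁' : T ⟶ X, g * ((x ≫ wfst b u) ≫ letter f b) * g⁻¹ = x₁' ≫ letter f b := by
      obtain ⟨x₁', hx₁'⟩ := hstab T g (x ≫ wfst b u)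
      refine ⟨x₁', ?_⟩
      cases b
      · simp only [letter, Bool.false_eq_true, if_false]
        rw [GrpObj.comp_inv, GrpObj.comp_inv, ← hx₁']
        group
      · simpa [letter] using hx₁'
    obtain ⟨x₁', hx₁'⟩ := hl
    refine ⟨wlift b u x₁' x₂', ?_⟩
    rw [wordMap_cons, MonObj.comp_mul, MonObj.comp_mul, wlift_wfst_assoc, wlift_wsnd_assoc, ← hx₁',
      ← hx₂']
    simp only [Category.assoc]
    group

/-- The constructed generated subgroup of a conjugation-stable morphism is normal. -/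
theorem isNormalHom_of_range_eq [GeometricallyReduced X.hom] (f : X ⟶ G)
    (hstab : ∀ (T : Over (Spec (CommRingCat.of k))) (g : T ⟶ G) (x : T ⟶ X),
      ∃ x' : T ⟶ X, g * (x ≫ f) * g⁻¹ = x' ≫ f)
    {Γ₀ : Over (Spec (CommRingCat.of k))} [GrpObj Γ₀] (i₀ : Γ₀ ⟶ G) [IsMonHom i₀]
    [IsClosedImmersion i₀.left] [GeometricallyReduced Γ₀.hom]
    (hrange : Set.range i₀.left = closure (⋃ w, Set.range (wordMap f w).left))
    (hf : ∃ f' : X ⟶ Γ₀, f' ≫ i₀ = f) : AlgGrp.IsNormalHom i₀ := by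
  obtain ⟨f', hf'⟩ := hf
  have hfac := fun w => exists_factor_wordMap f i₀ f' hf' w
  choose ψ hψ using hfac
  have hdense := dense_iUnion_range_factor f i₀ hrange ψ hψ
  haveI : IsReduced Γ₀.left := isReduced_of_geometricallyReduced Γ₀
  haveI : ∀ w, GeometricallyReduced (wordObj X w).hom := geometricallyReduced_wordObj X
  haveI : ∀ w, IsReduced (wordObj X w).left := fun w => isReduced_of_geometricallyReduced _
  -- the universal conjugation
  set conj₀ : Γ₀ ⊗ G ⟶ G := snd Γ₀ G * (fst Γ₀ G ≫ i₀) * (snd Γ₀ G)⁻¹ with hconj₀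
  let c : pullback conj₀.left i₀.left ⟶ (Γ₀ ⊗ G).left := pullback.fst conj₀.left i₀.left
  haveI : IsClosedImmersion c := MorphismProperty.pullback_fst _ _ (inferInstance : IsClosedImmersion i₀.left)
  have hc : ∀ w, ∃ l : (wordObj X w ⊗ G).left ⟶ pullback conj₀.left i₀.left,
      l ≫ c = (ψ w ⊗ₘ 𝟙 G).left := by
    intro w
    obtain ⟨x', hx'⟩ := exists_conj_wordMap f hstab w (wordObj X w ⊗ G) (snd _ _) (fst _ _)
    have hcomp : (ψ w ⊗ₘ 𝟙 G) ≫ conj₀ = (x' ≫ ψ w) ≫ i₀ := by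
      rw [hconj₀, MonObj.comp_mul, MonObj.comp_mul, GrpObj.comp_inv, tensorHom_snd, tensorHom_fst_assoc,
        Category.comp_id, hψ, hx', Category.assoc, hψ]
    refine ⟨pullback.lift (ψ w ⊗ₘ 𝟙 G).left (x' ≫ ψ w).left ?_, pullback.lift_fst _ _ _⟩
    rw [← Over.comp_left, ← Over.comp_left, hcomp]
  haveI hiso : IsIso c := Groth.Agent.Lib.H71SchDom.isIso_of_isClosedImmersion_of_family_over
    (fun w => wordObj X w) ψ hdense c hc
  -- the universal factorisation
  have huniv : ∃ n₀ : Γ₀ ⊗ G ⟶ Γ₀, n₀ ≫ i₀ = conj₀ := by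
    have h1 : (inv c ≫ pullback.snd conj₀.left i₀.left) ≫ i₀.left = conj₀.left := by
      rw [Category.assoc, ← pullback.condition, ← Category.assoc, IsIso.inv_hom_id, Category.id_comp]
    refine ⟨Over.homMk (inv c ≫ pullback.snd conj₀.left i₀.left) ?_, ?_⟩
    · rw [← Over.w i₀, ← Category.assoc, h1, Over.w]
    · ext
      exact h1
  obtain ⟨n₀, hn₀⟩ := huniv
  intro T g n
  refine ⟨lift n g ≫ n₀, ?_⟩
  rw [Category.assoc, hn₀, hconj₀, MonObj.comp_mul, MonObj.comp_mul, GrpObj.comp_inv, lift_snd,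
    lift_fst_assoc]

/-- **Normality of generated subgroups.** If `f : X ⟶ G` is stable under conjugation, the smallest closed subgroup
scheme through which `f` factors is normal in `G`. -/
theorem isNormalHom_generated [GeometricallyReduced X.hom] (f : X ⟶ G)
    (hstab : ∀ (T : Over (Spec (CommRingCat.of k))) (g : T ⟶ G) (x : T ⟶ X),
      ∃ x' : T ⟶ X, g * (x ≫ f) * g⁻¹ = x' ≫ f)
    (Γ : Over (Spec (CommRingCat.of k))) [GrpObj Γ] (i : Γ ⟶ G) [IsMonHom i]
    [IsClosedImmersion i.left] (hf : ∃ f' : X ⟶ Γ, f' ≫ i = f)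
    (hmin : ∀ (Γ' : Over (Spec (CommRingCat.of k))) (_ : GrpObj Γ') (i' : Γ' ⟶ G), IsMonHom i' →
      IsClosedImmersion i'.left → (∃ f'' : X ⟶ Γ', f'' ≫ i' = f) → ∃ j : Γ ⟶ Γ', j ≫ i' = i) :
    AlgGrp.IsNormalHom i := by
  obtain ⟨Γ₀, str₀, i₀, h1, h2, h3, h4, h5, h6⟩ := exists_generated_subgroup G X f
  obtain ⟨j, hj⟩ := hmin Γ₀ str₀ i₀ h1 h2 h5
  obtain ⟨j₀, hj₀⟩ := h6 Γ inferInstance i inferInstance inferInstance hf
  have hn := isNormalHom_of_range_eq f hstab i₀ h4 h5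
  intro T g n
  obtain ⟨n', hn'⟩ := hn T g (n ≫ j)
  refine ⟨n' ≫ j₀, ?_⟩
  rw [Category.assoc, hj₀, ← hn', Category.assoc, hj]

end Normal

end Groth.Agent.Lib.H71GenSubgrp
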