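import Groth.Agent.Lib.GrpTopPts45

set_option autoImplicit false
universe u

open CategoryTheory CategoryTheory.Limits AlgebraicGeometry TopologicalSpace
open MonoidalCategory CartesianMonoidalCategory MonObj GrpObj
open Groth.Agent.Lib.GrpTopPts45

namespace Groth.Agent.Lib.H71SubgrpSet

variable {k : Type u} [Field k] {G H : Over (Spec (CommRingCat.of k))} [GrpObj G] [GrpObj H]

theorem map_unitPt (h : H ⟶ G) [IsMonHom h] : h.left (unitPt H) = unitPt G := by
  unfold unitPt
  rw [← Scheme.Hom.comp_apply, ← Over.comp_left, IsMonHom.one_hom]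

theorem inv_hom (h : H ⟶ G) [IsMonHom h] : ι[H] ≫ h = h ≫ ι[G] := by
  have := GrpObj.inv_comp (𝟙 H) h
  rwa [Hom.inv_def, Hom.inv_def, Category.id_comp, Category.id_comp] at this

/-- The image of a homomorphism of group schemes over a field is a subgroup-subset. -/
theorem isSubgrpSet_range (h : H ⟶ G) [IsMonHom h] : IsSubgrpSet G (Set.range h.left) where
  one_mem := ⟨unitPt H, map_unitPt h⟩
  mul_mem := by
    intro y hy
    obtain ⟨Q, z, a, b, ⟨t, ht⟩, hb, rfl⟩ := mem_mulSet_iff.mp hy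
    obtain ⟨Q₁, q₁, q₁', z₁, hz₁, -, hq₁⟩ := exists_common a h z t ht.symm
    have hb' : (q₁ ≫ b).left z₁ ∈ Set.range h.left := by
      rw [comp_left_apply, hz₁]; exact hb
    obtain ⟨t', ht'⟩ := hb'
    obtain ⟨Q₂, q₂, q₂', z₂, hz₂, -, hq₂⟩ := exists_common (q₁ ≫ b) h z₁ t' ht'.symm
    refine ⟨((q₂ ≫ q₁') * q₂').left z₂, ?_⟩
    rw [← comp_left_apply, MonObj.mul_comp, Category.assoc, ← hq₁, ← hq₂, ← Category.assoc,
      ← Category.assoc, ← MonObj.comp_mul, comp_left_apply, comp_left_apply, hz₂, hz₁]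
  inv_mem := by
    rintro _ ⟨_, ⟨t, rfl⟩, rfl⟩
    refine ⟨ι[H].left t, ?_⟩
    rw [← Scheme.Hom.comp_apply, ← Over.comp_left, inv_hom, Over.comp_left,
      Scheme.Hom.comp_apply]

/-- The preimage of a subgroup-subset under a homomorphism is a subgroup-subset. -/
theorem isSubgrpSet_preimage (φ : H ⟶ G) [IsMonHom φ] {W : Set G.left} (hW : IsSubgrpSet G W) :
    IsSubgrpSet H (φ.left ⁻¹' W) where
  one_mem := by
    rw [Set.mem_preimage, map_unitPt]
    exact hW.one_mem
  mul_mem := by
    intro y hy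
    obtain ⟨Q, z, a, b, ha, hb, rfl⟩ := mem_mulSet_iff.mp hy
    rw [Set.mem_preimage, ← comp_left_apply, MonObj.mul_comp]
    apply hW.mul_mem
    refine mul_mem_mulSet _ _ _ ?_ ?_
    · rw [comp_left_apply]; exact ha
    · rw [comp_left_apply]; exact hb
  inv_mem := by
    rintro _ ⟨x, hx, rfl⟩
    rw [Set.mem_preimage, ← Scheme.Hom.comp_apply, ← Over.comp_left, inv_hom, Over.comp_left,
      Scheme.Hom.comp_apply]
    exact hW.inv_mem ⟨_, hx, rfl⟩

/-- A dense locally closed subgroup-subset of a group scheme over a field is everything. -/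
theorem eq_univ_of_isSubgrpSet {W : Set G.left} (hW : IsSubgrpSet G W) (hd : Dense W)
    (hl : IsLocallyClosed W) : W = Set.univ := by
  have ho : IsOpen W := by
    obtain ⟨U, Z, hU, hZ, rfl⟩ := hl
    have hZu : Z = Set.univ := by
      rw [← Set.univ_subset_iff, ← hd.closure_eq]
      exact closure_minimal Set.inter_subset_right hZ
    rw [hZu, Set.inter_univ]
    exact hU
  have hc := hW.isClosed ho
  rw [← hc.closure_eq, hd.closure_eq]

end Groth.Agent.Lib.H71SubgrpSet
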