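import Groth.Agent.Lib.H71GenSubgrp4
import Groth.Agent.Lib.H71SubgrpSet
import Groth.Prelude.Def_Red

set_option autoImplicit false
universe u

open CategoryTheory CategoryTheory.Limits AlgebraicGeometry TopologicalSpace
open MonoidalCategory CartesianMonoidalCategory MonObj GrpObj

namespace Groth.Agent.Lib.H71GenSubgrp

section Points

theorem isPullback_pullback_map_left {S T : Scheme.{u}} (τ : T ⟶ S) {A B : Over S} (h : A ⟶ B) :
    IsPullback ((Over.pullback τ).map h).left (pullback.fst A.hom τ) (pullback.fst B.hom τ) h.left := by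
  have hbot : IsPullback (pullback.fst B.hom τ) (pullback.snd B.hom τ) B.hom τ :=
    IsPullback.of_hasPullback B.hom τ
  have hcomm : pullback.fst A.hom τ ≫ h.left =
      ((Over.pullback τ).map h).left ≫ pullback.fst B.hom τ := by
    simp only [Over.pullback_map_left]
    exact (pullback.lift_fst _ _ _).symm
  have houter : IsPullback (pullback.fst A.hom τ)
      (((Over.pullback τ).map h).left ≫ pullback.snd B.hom τ) (h.left ≫ B.hom) τ := by
    have h1 : ((Over.pullback τ).map h).left ≫ pullback.snd B.hom τ = pullback.snd A.hom τ :=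
      Over.w ((Over.pullback τ).map h)
    rw [h1, Over.w]
    exact IsPullback.of_hasPullback A.hom τ
  exact (IsPullback.of_bot houter hcomm hbot).flip

theorem exists_preimage_of_isPullback {P A B Z : Scheme.{u}} {a : P ⟶ A} {b : P ⟶ B} {c : A ⟶ Z}
    {d : B ⟶ Z} (H : IsPullback a b c d) (x : A) (y : B) (hxy : c x = d y) :
    ∃ p : P, a p = x ∧ b p = y := by
  obtain ⟨z, hz1, hz2⟩ := Scheme.Pullback.exists_preimage_pullback (f := c) (g := d) x y hxy
  refine ⟨H.isoPullback.inv z, ?_, ?_⟩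
  · rw [← Scheme.Hom.comp_apply, H.isoPullback_inv_fst, hz1]
  · rw [← Scheme.Hom.comp_apply, H.isoPullback_inv_snd, hz2]

theorem range_pullback_map_left {S T : Scheme.{u}} (τ : T ⟶ S) {A B : Over S} (h : A ⟶ B) :
    Set.range ((Over.pullback τ).map h).left = (pullback.fst B.hom τ) ⁻¹' Set.range h.left := by
  have H := isPullback_pullback_map_left τ h
  ext z
  constructor
  · rintro ⟨t, rfl⟩
    refine ⟨(pullback.fst A.hom τ) t, ?_⟩
    rw [← Scheme.Hom.comp_apply, ← Scheme.Hom.comp_apply, H.w]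
  · rintro ⟨x, hx⟩
    obtain ⟨p, hp, -⟩ := exists_preimage_of_isPullback H z x hx.symm
    exact ⟨p, hp⟩

end Points

section BaseChange

variable {k : Type u} [Field k] {G X : Over (Spec (CommRingCat.of k))} [GrpObj G]

open scoped Obj in
/-- All base-changed word maps factor through any subgroup of `G_S` through which `f_S` factors. -/
theorem exists_factor_map_wordMap (f : X ⟶ G) {S : Scheme.{u}} (σ : S ⟶ Spec (CommRingCat.of k))
    {Γ' : Over S} [GrpObj Γ'] (i' : Γ' ⟶ Red.bc σ G) [IsMonHom i']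
    (f'' : Red.bc σ X ⟶ Γ') (hf'' : f'' ≫ i' = (Over.pullback σ).map f) (w : List Bool) :
    ∃ g : Red.bc σ (wordObj X w) ⟶ Γ', g ≫ i' = (Over.pullback σ).map (wordMap f w) := by
  induction w with
  | nil =>
    refine ⟨1, ?_⟩
    rw [wordMap_nil, MonObj.one_comp]
    exact (Functor.map_one (Over.pullback σ)).symm
  | cons b u ih =>
    obtain ⟨g, hg⟩ := ih
    have hl : ∃ l : Red.bc σ X ⟶ Γ', l ≫ i' = (Over.pullback σ).map (letter f b) := by
      cases b
      · refine ⟨f''⁻¹, ?_⟩
        rw [GrpObj.inv_comp, hf'']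
        simp only [letter, Bool.false_eq_true, if_false]
        exact (Functor.map_inv' (Over.pullback σ) f).symm
      · exact ⟨f'', by simpa [letter] using hf''⟩
    obtain ⟨l, hl⟩ := hl
    refine ⟨((Over.pullback σ).map (wfst b u) ≫ l) * ((Over.pullback σ).map (wsnd b u) ≫ g), ?_⟩
    rw [MonObj.mul_comp, Category.assoc, Category.assoc, hl, hg, wordMap_cons,
      Functor.map_mul (Over.pullback σ), Functor.map_comp, Functor.map_comp]

open Groth.Agent.Lib.GrpTopPts45 Groth.Agent.Lib.H71SubgrpSet in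
/-- Field-valued-point version of the surjectivity statement: after base change to a field-valued point of `S`, the
points of `Γ₀` all land in the image of any immersed subgroup through which the base-changed word maps factor. -/
theorem map_mem_range_of_field_point (f : X ⟶ G)
    {Γ₀ : Over (Spec (CommRingCat.of k))} [GrpObj Γ₀] (i₀ : Γ₀ ⟶ G) [IsMonHom i₀]
    (ψ : ∀ w, wordObj X w ⟶ Γ₀) (hψ : ∀ w, ψ w ≫ i₀ = wordMap f w)
    (hdense : Dense (⋃ w, Set.range (ψ w).left))
    {S : Scheme.{u}} (σ : S ⟶ Spec (CommRingCat.of k)) {Γ' : Over S} [GrpObj Γ']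
    (i' : Γ' ⟶ Red.bc σ G) [IsMonHom i'] [IsImmersion i'.left]
    (hfac : ∀ w, ∃ g : Red.bc σ (wordObj X w) ⟶ Γ', g ≫ i' = (Over.pullback σ).map (wordMap f w))
    (L : Type u) [Field L] (τ : Spec (CommRingCat.of L) ⟶ S)
    (z : (Red.bc τ (Red.bc σ Γ₀)).left) :
    ((Over.pullback τ).map ((Over.pullback σ).map i₀)).left z ∈
      Set.range ((Over.pullback τ).map i').left := by
  set φ := (Over.pullback τ).map ((Over.pullback σ).map i₀) with hφ
  set h := (Over.pullback τ).map i' with hh
  set W : Set (Red.bc τ (Red.bc σ Γ₀)).left := φ.left ⁻¹' Set.range h.left with hWdef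
  have hW : IsSubgrpSet (Red.bc τ (Red.bc σ Γ₀)) W :=
    isSubgrpSet_preimage φ (isSubgrpSet_range h)
  have hlc : IsLocallyClosed W := by
    rw [hWdef, hh, range_pullback_map_left, ← Set.preimage_comp]
    exact (i'.left.isLocallyClosed_range).preimage
      ((pullback.fst _ τ).continuous.comp φ.left.continuous)
  have hd : Dense W := by
    let π₁ := pullback.fst (Red.bc σ Γ₀).hom τ
    let π₀ := pullback.fst Γ₀.hom σ
    have hopen : IsOpenMap (π₁ ≫ π₀) := by
      have H1 : IsPullback π₀ (pullback.snd Γ₀.hom σ) Γ₀.hom σ := IsPullback.of_hasPullback _ _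
      have H2 : IsPullback π₁ (pullback.snd (Red.bc σ Γ₀).hom τ) (Red.bc σ Γ₀).hom τ :=
        IsPullback.of_hasPullback _ _
      have H3 : IsPullback (π₁ ≫ π₀) (pullback.snd (Red.bc σ Γ₀).hom τ) Γ₀.hom (τ ≫ σ) :=
        H2.paste_horiz H1
      haveI : UniversallyOpen (τ ≫ σ) := inferInstance
      haveI : UniversallyOpen (π₁ ≫ π₀) :=
        MorphismProperty.of_isPullback (P := @UniversallyOpen) H3.flip inferInstance
      exact (π₁ ≫ π₀).isOpenMap
    have hpre : (π₁ ≫ π₀) ⁻¹' (⋃ w, Set.range (ψ w).left) ⊆ W := by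
      rw [Set.preimage_iUnion]
      apply Set.iUnion_subset
      intro w t ht
      have hr : t ∈ Set.range ((Over.pullback τ).map ((Over.pullback σ).map (ψ w))).left := by
        rw [range_pullback_map_left, range_pullback_map_left]
        exact ht
      obtain ⟨t', rfl⟩ := hr
      obtain ⟨g, hg⟩ := hfac w
      refine ⟨((Over.pullback τ).map g).left t', ?_⟩
      rw [← Scheme.Hom.comp_apply, ← Scheme.Hom.comp_apply, ← Over.comp_left, ← Over.comp_left, hh, hφ,
        ← Functor.map_comp, ← Functor.map_comp, ← Functor.map_comp, hg, hψ]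
    exact (hdense.preimage hopen).mono hpre
  have huniv := eq_univ_of_isSubgrpSet hW hd hlc
  have hz : z ∈ W := by rw [huniv]; trivial
  exact hz

/-- Every point of `Γ₀ ×ₖ S` is mapped into the image of any immersed `S`-subgroup of `G_S` through which the
base-changed word maps factor. -/
theorem map_mem_range_of_immersion (f : X ⟶ G)
    {Γ₀ : Over (Spec (CommRingCat.of k))} [GrpObj Γ₀] (i₀ : Γ₀ ⟶ G) [IsMonHom i₀]
    (ψ : ∀ w, wordObj X w ⟶ Γ₀) (hψ : ∀ w, ψ w ≫ i₀ = wordMap f w)
    (hdense : Dense (⋃ w, Set.range (ψ w).left))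
    {S : Scheme.{u}} (σ : S ⟶ Spec (CommRingCat.of k)) {Γ' : Over S} [GrpObj Γ']
    (i' : Γ' ⟶ Red.bc σ G) [IsMonHom i'] [IsImmersion i'.left]
    (hfac : ∀ w, ∃ g : Red.bc σ (wordObj X w) ⟶ Γ', g ≫ i' = (Over.pullback σ).map (wordMap f w))
    (y : (Red.bc σ Γ₀).left) :
    ((Over.pullback σ).map i₀).left y ∈ Set.range i'.left := by
  let s : S := (Red.bc σ Γ₀).hom y
  let τ : Spec (CommRingCat.of (S.residueField s)) ⟶ S := S.fromSpecResidueField s
  let pt : Spec (CommRingCat.of (S.residueField s)) := IsLocalRing.closedPoint (S.residueField s)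
  have hpt : τ pt = s := Scheme.fromSpecResidueField_apply _ _
  obtain ⟨z, hz1, -⟩ := Scheme.Pullback.exists_preimage_pullback (f := (Red.bc σ Γ₀).hom) (g := τ)
    y pt hpt.symm
  obtain ⟨t₀, ht₀⟩ := map_mem_range_of_field_point f i₀ ψ hψ hdense σ i' hfac (S.residueField s) τ z
  refine ⟨(pullback.fst Γ'.hom τ) t₀, ?_⟩
  have H1 := (isPullback_pullback_map_left τ i').w
  have H2 := (isPullback_pullback_map_left τ ((Over.pullback σ).map i₀)).w
  rw [← Scheme.Hom.comp_apply, ← H1, Scheme.Hom.comp_apply, ht₀, ← Scheme.Hom.comp_apply, H2,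
    Scheme.Hom.comp_apply, hz1]

/-- **Base change of generated subgroups.** For every `k`-scheme `S`, the base change `Γ_S → G_S` of the closed
subgroup generated by `f` is the smallest (not necessarily closed) subgroup scheme of `G_S` through which `f_S`
factors. -/
theorem baseChange_minimal [GeometricallyReduced X.hom] (f : X ⟶ G)
    (Γ : Over (Spec (CommRingCat.of k))) [GrpObj Γ] (i : Γ ⟶ G) [IsMonHom i]
    [IsClosedImmersion i.left] (hf : ∃ f' : X ⟶ Γ, f' ≫ i = f)
    (hmin : ∀ (Γ' : Over (Spec (CommRingCat.of k))) (_ : GrpObj Γ') (i' : Γ' ⟶ G), IsMonHom i' →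
      IsClosedImmersion i'.left → (∃ f'' : X ⟶ Γ', f'' ≫ i' = f) → ∃ j : Γ ⟶ Γ', j ≫ i' = i)
    (S : Scheme.{u}) (σ : S ⟶ Spec (CommRingCat.of k)) :
    ∀ (Γ' : Over S) (_ : GrpObj Γ') (i' : Γ' ⟶ Red.bc σ G), IsMonHom i' → IsImmersion i'.left →
      (∃ f'' : Red.bc σ X ⟶ Γ', f'' ≫ i' = (Over.pullback σ).map f) →
      ∃ j : Red.bc σ Γ ⟶ Γ', j ≫ i' = (Over.pullback σ).map i := by
  intro Γ' str' i' hi' him ⟨f'', hf''⟩
  obtain ⟨Γ₀, str₀, i₀, h1, h2, h3, h4, h5, h6⟩ := exists_generated_subgroup G X f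
  obtain ⟨j₁, hj₁⟩ := hmin Γ₀ str₀ i₀ h1 h2 h5
  obtain ⟨f₀, hf₀⟩ := h5
  have hfac₀ := fun w => exists_factor_wordMap f i₀ f₀ hf₀ w
  choose ψ hψ using hfac₀
  have hdense := dense_iUnion_range_factor f i₀ h4 ψ hψ
  have hfac := exists_factor_map_wordMap f σ i' f'' hf''
  haveI : IsReduced Γ₀.left := isReduced_of_geometricallyReduced Γ₀
  haveI : ∀ w, GeometricallyReduced (wordObj X w).hom := geometricallyReduced_wordObj X
  haveI : ∀ w, IsReduced (wordObj X w).left := fun w => isReduced_of_geometricallyReduced _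
  set m := (Over.pullback σ).map i₀ with hm
  let c : pullback m.left i'.left ⟶ (Red.bc σ Γ₀).left := pullback.fst m.left i'.left
  haveI : IsImmersion c := MorphismProperty.pullback_fst _ _ him
  have hsurj : Set.range c = Set.univ := by
    rw [Set.range_eq_univ]
    intro y
    obtain ⟨t, ht⟩ := map_mem_range_of_immersion f i₀ ψ hψ hdense σ i' hfac y
    obtain ⟨p, hp, -⟩ := Scheme.Pullback.exists_preimage_pullback (f := m.left) (g := i'.left) y t
      ht.symm
    exact ⟨p, hp⟩
  haveI : IsClosedImmersion c := .of_isPreimmersion _ (by rw [hsurj]; exact isClosed_univ)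
  have hc : ∀ w, ∃ l : (Red.bc σ (wordObj X w)).left ⟶ pullback m.left i'.left,
      l ≫ c = ((Over.pullback σ).map (ψ w)).left := by
    intro w
    obtain ⟨g, hg⟩ := hfac w
    refine ⟨pullback.lift ((Over.pullback σ).map (ψ w)).left g.left ?_, pullback.lift_fst _ _ _⟩
    rw [← Over.comp_left, ← Over.comp_left, hg, hm, ← Functor.map_comp, hψ]
  have H : IsPullback (pullback.fst Γ₀.hom σ) (pullback.snd Γ₀.hom σ) Γ₀.hom σ :=
    IsPullback.of_hasPullback Γ₀.hom σ
  haveI hiso : IsIso c := Groth.Agent.Lib.H71SchDom.isIso_of_isClosedImmersion_of_family H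
    (fun V _ => Groth.Agent.Lib.H71VanishBC.free_of_field k _)
    (fun w => (wordObj X w).left) (fun w => (Red.bc σ (wordObj X w)).left) (fun w => (ψ w).left)
    hdense (fun w => pullback.fst (wordObj X w).hom σ) (fun w => pullback.snd (wordObj X w).hom σ)
    (fun w => by
      rw [Over.w (ψ w)]
      exact IsPullback.of_hasPullback (wordObj X w).hom σ)
    (fun w => ((Over.pullback σ).map (ψ w)).left)
    (fun w => (isPullback_pullback_map_left σ (ψ w)).w)
    (fun w => Over.w ((Over.pullback σ).map (ψ w))) c hc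
  have h1' : (inv c ≫ pullback.snd m.left i'.left) ≫ i'.left = m.left := by
    rw [Category.assoc, ← pullback.condition, ← Category.assoc]
    change (inv c ≫ c) ≫ m.left = m.left
    rw [IsIso.inv_hom_id, Category.id_comp]
  let j₀ : Red.bc σ Γ₀ ⟶ Γ' := Over.homMk (inv c ≫ pullback.snd m.left i'.left) (by
    rw [← Over.w i', ← Category.assoc, h1', Over.w])
  have hj₀ : j₀ ≫ i' = m := by
    ext
    exact h1'
  refine ⟨(Over.pullback σ).map j₁ ≫ j₀, ?_⟩
  rw [Category.assoc, hj₀, hm, ← Functor.map_comp, hj₁]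

end BaseChange

end Groth.Agent.Lib.H71GenSubgrp
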