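import Groth.Agent.Lib.H71GenSubgrp5
import Groth.Agent.Lib.GrpTopPts45
import Groth.Agent.Lib.AlgSpGeomPt

set_option autoImplicit false
universe u

open CategoryTheory CategoryTheory.Limits AlgebraicGeometry TopologicalSpace
open MonoidalCategory CartesianMonoidalCategory MonObj GrpObj
open Groth.Agent.Lib.GrpTopPts45

namespace Groth.Agent.Lib.H71GenSubgrp

section Points

variable {k : Type u} [Field k] {G X : Over (Spec (CommRingCat.of k))} [GrpObj G]

theorem comp_letter {T : Over (Spec (CommRingCat.of k))} (f : X ⟶ G) (x : T ⟶ X) (b : Bool) :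
    x ≫ letter f b = if b then x ≫ f else (x ≫ f)⁻¹ := by
  cases b
  · simp [letter, GrpObj.comp_inv]
  · simp [letter]

/-- A signed product of `T`-points of `X` mapped to `G` is a value of a word map. -/
theorem exists_wordMap_of_ofFn (f : X ⟶ G) {T : Over (Spec (CommRingCat.of k))} :
    ∀ (n : ℕ) (x : Fin n → (T ⟶ X)) (ε : Fin n → Bool),
    ∃ (w : List Bool) (y : T ⟶ wordObj X w),
      (List.ofFn fun j : Fin n => if ε j then x j ≫ f else (x j ≫ f)⁻¹).prod = y ≫ wordMap f w
  | 0, _, _ => ⟨[], toUnit T ≫ wunit, by simp [wordMap_nil, MonObj.comp_one]⟩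
  | n + 1, x, ε => by
    obtain ⟨w, y, hy⟩ := exists_wordMap_of_ofFn f n (fun j => x j.succ) (fun j => ε j.succ)
    refine ⟨ε 0 :: w, wlift (ε 0) w (x 0) y, ?_⟩
    rw [List.ofFn_succ, List.prod_cons, hy, wordMap_cons, MonObj.comp_mul, wlift_wfst_assoc,
      wlift_wsnd_assoc, comp_letter]

/-- Values of word maps are signed products. -/
theorem exists_ofFn_of_wordMap (f : X ⟶ G) {T : Over (Spec (CommRingCat.of k))} :
    ∀ (w : List Bool) (y : T ⟶ wordObj X w),
    ∃ (n : ℕ) (x : Fin n → (T ⟶ X)) (ε : Fin n → Bool),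
      (List.ofFn fun j : Fin n => if ε j then x j ≫ f else (x j ≫ f)⁻¹).prod = y ≫ wordMap f w
  | [], y => ⟨0, Fin.elim0, Fin.elim0, by simp [wordMap_nil, MonObj.comp_one]⟩
  | b :: u, y => by
    obtain ⟨n, x, ε, h⟩ := exists_ofFn_of_wordMap f u (y ≫ wsnd b u)
    refine ⟨n + 1, Fin.cons (y ≫ wfst b u) x, Fin.cons b ε, ?_⟩
    rw [List.ofFn_succ, List.prod_cons]
    simp only [Fin.cons_zero, Fin.cons_succ]
    rw [h, wordMap_cons, MonObj.comp_mul, ← comp_letter, Category.assoc, Category.assoc]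

/-- The `k`-point `g` lies under a word in `f`, in terms of `T`-points. -/
def Under (f : X ⟶ G) (g : 𝟙_ (Over (Spec (CommRingCat.of k))) ⟶ G) : Prop :=
  ∃ (w : List Bool) (Q : Over (Spec (CommRingCat.of k))) (_ : Nonempty Q.left)
    (y : Q ⟶ wordObj X w), y ≫ wordMap f w = toUnit Q ≫ g

theorem under_of_mem_range (f : X ⟶ G) (g : 𝟙_ (Over (Spec (CommRingCat.of k))) ⟶ G) (w : List Bool)
    {T : Over (Spec (CommRingCat.of k))} (y : T ⟶ wordObj X w) (p : T.left)
    (p₀ : (𝟙_ (Over (Spec (CommRingCat.of k)))).left)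
    (h : (y ≫ wordMap f w).left p = g.left p₀) : Under f g := by
  obtain ⟨Q, q, q', z, -, -, hq⟩ := exists_common (y ≫ wordMap f w) g p p₀ h
  refine ⟨w, Q, ⟨z⟩, q ≫ y, ?_⟩
  rw [Category.assoc, hq, toUnit_unique q' (toUnit Q)]

theorem under_one (f : X ⟶ G) : Under f (1 : 𝟙_ (Over (Spec (CommRingCat.of k))) ⟶ G) := by
  refine ⟨[], 𝟙_ _, ⟨IsLocalRing.closedPoint k⟩, wunit, ?_⟩
  rw [wunit_wordMap, MonObj.comp_one, MonObj.one_eq_one]

theorem under_mul (f : X ⟶ G) {g₁ g₂ : 𝟙_ (Over (Spec (CommRingCat.of k))) ⟶ G}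
    (h₁ : Under f g₁) (h₂ : Under f g₂) : Under f (g₁ * g₂) := by
  obtain ⟨u, Q₁, hne₁, y₁, hy₁⟩ := h₁
  obtain ⟨v, Q₂, hne₂, y₂, hy₂⟩ := h₂
  obtain ⟨a, ha⟩ := exists_concat f u v
  obtain ⟨z₁⟩ := hne₁
  obtain ⟨z, -⟩ := surjective_fst Q₁ Q₂ z₁
  refine ⟨u ++ v, Q₁ ⊗ Q₂, ⟨z⟩, (y₁ ⊗ₘ y₂) ≫ a, ?_⟩
  rw [Category.assoc, ha, MonObj.comp_mul, tensorHom_fst_assoc, tensorHom_snd_assoc, hy₁, hy₂,
    MonObj.comp_mul]
  congr 1 <;> (rw [← Category.assoc]; congr 1; exact toUnit_unique _ _)

theorem under_inv (f : X ⟶ G) {g : 𝟙_ (Over (Spec (CommRingCat.of k))) ⟶ G}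
    (h : Under f g) : Under f g⁻¹ := by
  obtain ⟨w, Q, hne, y, hy⟩ := h
  obtain ⟨w', a, ha⟩ := exists_inv f w
  refine ⟨w', Q, hne, y ≫ a, ?_⟩
  rw [Category.assoc, ← ha, ← Category.assoc, hy, Category.assoc, ← Hom.inv_def]

/-- The subgroup of `k`-points of `G` lying under a word in `f`. -/
def underSubgroup (f : X ⟶ G) : Subgroup (𝟙_ (Over (Spec (CommRingCat.of k))) ⟶ G) where
  carrier := {g | Under f g}
  one_mem' := under_one f
  mul_mem' := fun h₁ h₂ => under_mul f h₁ h₂
  inv_mem' := fun h => under_inv f h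

theorem locallyOfFiniteType_wordObj (X : Over (Spec (CommRingCat.of k))) [LocallyOfFiniteType X.hom]
    (w : List Bool) : LocallyOfFiniteType (wordObj X w).hom := by
  induction w with
  | nil =>
    change LocallyOfFiniteType (𝟙 (Spec (CommRingCat.of k)))
    infer_instance
  | cons b u ih =>
    haveI := ih
    change LocallyOfFiniteType (pullback.fst X.hom (wordObj X u).hom ≫ X.hom)
    infer_instance

/-- Generators lie under words. -/
theorem under_of_mem_range_f (f : X ⟶ G) (g : 𝟙_ (Over (Spec (CommRingCat.of k))) ⟶ G)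
    (p₀ : (𝟙_ (Over (Spec (CommRingCat.of k)))).left) (h : g.left p₀ ∈ Set.range f.left) :
    Under f g := by
  obtain ⟨t, ht⟩ := h
  refine under_of_mem_range f g [true] (wlift true [] (𝟙 X) (toUnit X ≫ wunit)) t p₀ ?_
  rw [wordMap_cons, MonObj.comp_mul, wlift_wfst_assoc, wlift_wsnd_assoc, wordMap_nil, MonObj.comp_one,
    _root_.mul_one, Category.id_comp]
  simpa [letter] using ht

/-- Over an algebraically closed field, a `k`-point under a word is a signed product of `k`-points of `X`. -/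
theorem exists_ofFn_of_under [IsAlgClosed k] [LocallyOfFiniteType X.hom] (f : X ⟶ G)
    {g : 𝟙_ (Over (Spec (CommRingCat.of k))) ⟶ G} (h : Under f g) :
    ∃ (n : ℕ) (x : Fin n → (𝟙_ (Over (Spec (CommRingCat.of k))) ⟶ X)) (ε : Fin n → Bool),
      (List.ofFn fun j : Fin n => if ε j then x j ≫ f else (x j ≫ f)⁻¹).prod = g := by
  obtain ⟨w, Q, hne, y, hy⟩ := h
  haveI := locallyOfFiniteType_wordObj X w
  -- the fibre of the word map over `g`
  let F := pullback (wordMap f w).left g.left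
  haveI : Nonempty F := by
    obtain ⟨z⟩ := hne
    exact ⟨(pullback.lift y.left (toUnit Q).left (by
      rw [← Over.comp_left, ← Over.comp_left, hy])) z⟩
  haveI : LocallyOfFiniteType g.left := by
    have h1 : g.left ≫ G.hom = 𝟙 _ := Over.w g
    have h2 : LocallyOfFiniteType (g.left ≫ G.hom) := by rw [h1]; infer_instance
    exact locallyOfFiniteType_of_comp g.left G.hom
  let φ : F ⟶ Spec (CommRingCat.of k) := pullback.fst _ _ ≫ (wordObj X w).hom
  haveI : LocallyOfFiniteType φ := inferInstance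
  obtain ⟨s, hs⟩ := Groth.Agent.Lib.AlgSpGeomPt.exists_section_of_isAlgClosed φ
  let y' : 𝟙_ (Over (Spec (CommRingCat.of k))) ⟶ wordObj X w :=
    Over.homMk (s ≫ pullback.fst _ _) (by rw [Category.assoc]; exact hs)
  have hy' : y' ≫ wordMap f w = g := by
    ext
    change (s ≫ pullback.fst _ _) ≫ (wordMap f w).left = g.left
    rw [Category.assoc, pullback.condition, ← Category.assoc]
    have h3 : s ≫ pullback.snd (wordMap f w).left g.left = 𝟙 _ := by
      have h4 : pullback.snd (wordMap f w).left g.left = φ := by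
        have h5 : pullback.snd (wordMap f w).left g.left =
            pullback.snd (wordMap f w).left g.left ≫ g.left ≫ G.hom := by
          rw [Over.w g]
          exact (Category.comp_id _).symm
        rw [h5, ← pullback.condition_assoc, Over.w]
      rw [h4, hs]
    rw [h3, Category.id_comp]
  obtain ⟨n, x, ε, hx⟩ := exists_ofFn_of_wordMap f w y'
  exact ⟨n, x, ε, hx.trans hy'⟩

/-- **Rational points under words.** Over an algebraically closed field the `k`-points of `G` lying under a word in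
`f` form the subgroup generated by the `k`-points lying in the image of `f`. -/
theorem setOf_under_eq_closure [IsAlgClosed k] [LocallyOfFiniteType X.hom] (f : X ⟶ G) :
    {g : 𝟙_ (Over (Spec (CommRingCat.of k))) ⟶ G | ∃ (n : ℕ) (T : Over (Spec (CommRingCat.of k)))
        (p : T.left) (p₀ : (𝟙_ (Over (Spec (CommRingCat.of k)))).left)
        (x : Fin n → (T ⟶ X)) (ε : Fin n → Bool),
        ((List.ofFn fun j : Fin n => if ε j then x j ≫ f else (x j ≫ f)⁻¹).prod : T ⟶ G).left.base p =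
          g.left.base p₀} =
      ((Subgroup.closure {g : 𝟙_ (Over (Spec (CommRingCat.of k))) ⟶ G |
          ∃ p₀ : (𝟙_ (Over (Spec (CommRingCat.of k)))).left, g.left.base p₀ ∈ Set.range f.left.base} :
        Subgroup (𝟙_ (Over (Spec (CommRingCat.of k))) ⟶ G)) :
        Set (𝟙_ (Over (Spec (CommRingCat.of k))) ⟶ G)) := by
  have hL : ∀ g : 𝟙_ (Over (Spec (CommRingCat.of k))) ⟶ G,
      (∃ (n : ℕ) (T : Over (Spec (CommRingCat.of k)))
        (p : T.left) (p₀ : (𝟙_ (Over (Spec (CommRingCat.of k)))).left)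
        (x : Fin n → (T ⟶ X)) (ε : Fin n → Bool),
        ((List.ofFn fun j : Fin n => if ε j then x j ≫ f else (x j ≫ f)⁻¹).prod : T ⟶ G).left.base p =
          g.left.base p₀) ↔ Under f g := by
    intro g
    constructor
    · rintro ⟨n, T, p, p₀, x, ε, h⟩
      obtain ⟨w, y, hy⟩ := exists_wordMap_of_ofFn f n x ε
      rw [hy] at h
      exact under_of_mem_range f g w y p p₀ h
    · rintro ⟨w, Q, ⟨z⟩, y, hy⟩
      obtain ⟨n, x, ε, hx⟩ := exists_ofFn_of_wordMap f w y
      refine ⟨n, Q, z, (toUnit Q).left z, x, ε, ?_⟩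
      rw [hx, hy, Over.comp_left]
      rfl
  apply Set.Subset.antisymm
  · intro g hg
    have hu : Under f g := (hL g).1 hg
    obtain ⟨n, x, ε, hx⟩ := exists_ofFn_of_under f hu
    rw [← hx]
    apply Subgroup.list_prod_mem
    intro a ha
    rw [List.mem_ofFn] at ha
    obtain ⟨j, rfl⟩ := ha
    have hgen : x j ≫ f ∈ Subgroup.closure {g : 𝟙_ (Over (Spec (CommRingCat.of k))) ⟶ G |
        ∃ p₀ : (𝟙_ (Over (Spec (CommRingCat.of k)))).left,
          g.left.base p₀ ∈ Set.range f.left.base} := by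
      apply Subgroup.subset_closure
      refine ⟨IsLocalRing.closedPoint k, (x j).left (IsLocalRing.closedPoint k), ?_⟩
      rw [Over.comp_left]
      rfl
    by_cases hε : ε j
    · simp only [hε, if_true]
      exact hgen
    · simp only [hε, Bool.false_eq_true, if_false]
      exact Subgroup.inv_mem _ hgen
  · have hle : Subgroup.closure {g : 𝟙_ (Over (Spec (CommRingCat.of k))) ⟶ G |
        ∃ p₀ : (𝟙_ (Over (Spec (CommRingCat.of k)))).left,
          g.left.base p₀ ∈ Set.range f.left.base} ≤ underSubgroup f := by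
      rw [Subgroup.closure_le]
      rintro g ⟨p₀, hp₀⟩
      exact under_of_mem_range_f f g p₀ hp₀
    intro g hg
    exact (hL g).2 (hle hg)

end Points

end Groth.Agent.Lib.H71GenSubgrp
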