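import Groth.Agent.Lib.H71ImageClosed
import Groth.Agent.Lib.H71GenSubgrp5
import Groth.Agent.Lib.H69SchReduced

set_option autoImplicit false
universe u

open CategoryTheory CategoryTheory.Limits AlgebraicGeometry TopologicalSpace
open MonoidalCategory CartesianMonoidalCategory MonObj GrpObj

namespace Groth.Agent.Lib.H71GenSubgrp

section NormPair

variable {k : Type u} [Field k]

/-- Smooth schemes over a field are geometrically reduced. -/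
theorem geometricallyReduced_of_smooth (A : Over (Spec (CommRingCat.of k))) [Smooth A.hom] :
    GeometricallyReduced A.hom := by
  refine ⟨(geometrically_iff_of_commRing_of_isClosedUnderIsomorphisms ..).mpr fun K _ _ => ?_⟩
  exact Groth.Agent.Lib.H69SchReduced.isReduced_of_smooth
    (pullback.snd A.hom (Spec.map (CommRingCat.ofHom (algebraMap k K))))

variable {G A B : Over (Spec (CommRingCat.of k))} [GrpObj G] [GrpObj A] [GrpObj B]

omit [GrpObj A] [GrpObj B] in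
theorem comp_prodMap (a : A ⟶ G) (b : B ⟶ G) {T : Over (Spec (CommRingCat.of k))} (x : T ⟶ A ⊗ B) :
    x ≫ (a ⊗ₘ b) ≫ μ[G] = ((x ≫ fst A B) ≫ a) * ((x ≫ snd A B) ≫ b) := by
  rw [tensorHom_comp_mul, MonObj.comp_mul]
  simp only [Category.assoc]

omit [GrpObj A] [GrpObj B] in
theorem lift_prodMap (a : A ⟶ G) (b : B ⟶ G) {T : Over (Spec (CommRingCat.of k))} (α : T ⟶ A)
    (β : T ⟶ B) : lift α β ≫ (a ⊗ₘ b) ≫ μ[G] = (α ≫ a) * (β ≫ b) := by
  rw [comp_prodMap, lift_fst, lift_snd]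

variable (a : A ⟶ G) [IsMonHom a] (b : B ⟶ G) [IsMonHom b]
  (hN : ∀ (T : Over (Spec (CommRingCat.of k))) (y : T ⟶ B) (x : T ⟶ A),
    ∃ x' : T ⟶ A, (y ≫ b) * (x ≫ a) * (y ≫ b)⁻¹ = x' ≫ a)

include hN in
theorem prodMap_mul {T : Over (Spec (CommRingCat.of k))} (x₁ x₂ : T ⟶ A ⊗ B) :
    ∃ x₃ : T ⟶ A ⊗ B, (x₁ ≫ (a ⊗ₘ b) ≫ μ[G]) * (x₂ ≫ (a ⊗ₘ b) ≫ μ[G]) = x₃ ≫ (a ⊗ₘ b) ≫ μ[G] := by
  obtain ⟨α', hα'⟩ := hN T (x₁ ≫ snd A B) (x₂ ≫ fst A B)
  refine ⟨lift ((x₁ ≫ fst A B) * α') ((x₁ ≫ snd A B) * (x₂ ≫ snd A B)), ?_⟩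
  rw [lift_prodMap, comp_prodMap, comp_prodMap, MonObj.mul_comp, MonObj.mul_comp, ← hα']
  group

include hN in
theorem prodMap_inv {T : Over (Spec (CommRingCat.of k))} (x : T ⟶ A ⊗ B) :
    ∃ x' : T ⟶ A ⊗ B, (x ≫ (a ⊗ₘ b) ≫ μ[G])⁻¹ = x' ≫ (a ⊗ₘ b) ≫ μ[G] := by
  obtain ⟨α', hα'⟩ := hN T (x ≫ snd A B)⁻¹ (x ≫ fst A B)⁻¹
  refine ⟨lift α' (x ≫ snd A B)⁻¹, ?_⟩
  rw [lift_prodMap, comp_prodMap, ← hα', GrpObj.inv_comp, GrpObj.inv_comp]
  group

theorem prodMap_one :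
    lift (η[A]) (η[B]) ≫ (a ⊗ₘ b) ≫ μ[G] = (1 : 𝟙_ (Over (Spec (CommRingCat.of k))) ⟶ G) := by
  rw [lift_prodMap, IsMonHom.one_hom, IsMonHom.one_hom, MonObj.one_eq_one, _root_.one_mul]

include hN in
/-- With `B` normalising `A`, all values of word maps in `(x, y) ↦ a(x) b(y)` are values of that map. -/
theorem exists_prodMap_of_wordMap (w : List Bool) :
    ∀ {T : Over (Spec (CommRingCat.of k))} (y : T ⟶ wordObj (A ⊗ B) w),
      ∃ x : T ⟶ A ⊗ B, y ≫ wordMap ((a ⊗ₘ b) ≫ μ[G]) w = x ≫ (a ⊗ₘ b) ≫ μ[G] := by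
  induction w with
  | nil =>
    intro T y
    refine ⟨toUnit T ≫ lift (η[A]) (η[B]), ?_⟩
    rw [Category.assoc, prodMap_one, wordMap_nil, MonObj.comp_one, MonObj.comp_one]
  | cons b₀ u ih =>
    intro T y
    obtain ⟨x₂, hx₂⟩ := ih (y ≫ wsnd b₀ u)
    have hl : ∃ x₁ : T ⟶ A ⊗ B,
        (y ≫ wfst b₀ u) ≫ letter ((a ⊗ₘ b) ≫ μ[G]) b₀ = x₁ ≫ (a ⊗ₘ b) ≫ μ[G] := by
      cases b₀
      · obtain ⟨x', hx'⟩ := prodMap_inv a b hN (y ≫ wfst false u)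
        refine ⟨x', ?_⟩
        rw [← hx']
        simp only [letter, Bool.false_eq_true, if_false]
        rw [GrpObj.comp_inv]
      · exact ⟨y ≫ wfst true u, by simp [letter]⟩
    obtain ⟨x₁, hx₁⟩ := hl
    obtain ⟨x₃, hx₃⟩ := prodMap_mul a b hN x₁ x₂
    refine ⟨x₃, ?_⟩
    have e1 : y ≫ wfst b₀ u ≫ letter ((a ⊗ₘ b) ≫ μ[G]) b₀ = x₁ ≫ (a ⊗ₘ b) ≫ μ[G] := by
      rw [← Category.assoc]; exact hx₁
    have e2 : y ≫ wsnd b₀ u ≫ wordMap ((a ⊗ₘ b) ≫ μ[G]) u = x₂ ≫ (a ⊗ₘ b) ≫ μ[G] := by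
      rw [← Category.assoc]; exact hx₂
    rw [wordMap_cons, MonObj.comp_mul, e1, e2, hx₃]

include hN in
/-- **Generated subgroup of a normalising pair.** -/
theorem generated_of_normalizing_pair [LocallyOfFiniteType G.hom]
    [Smooth A.hom] [QuasiCompact A.hom] [Smooth B.hom] [QuasiCompact B.hom]
    (Γ : Over (Spec (CommRingCat.of k))) [GrpObj Γ] (i : Γ ⟶ G) [IsMonHom i]
    [IsClosedImmersion i.left]
    (ha : ∃ a' : A ⟶ Γ, a' ≫ i = a) (hb : ∃ b' : B ⟶ Γ, b' ≫ i = b)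
    (hmin : ∀ (Γ' : Over (Spec (CommRingCat.of k))) (_ : GrpObj Γ') (i' : Γ' ⟶ G), IsMonHom i' →
      IsClosedImmersion i'.left → (∃ a'' : A ⟶ Γ', a'' ≫ i' = a) → (∃ b'' : B ⟶ Γ', b'' ≫ i' = b) →
      ∃ j : Γ ⟶ Γ', j ≫ i' = i) :
    IsReduced Γ.left ∧ Set.range i.left = Set.range ((a ⊗ₘ b) ≫ μ[G]).left := by
  obtain ⟨a', ha'⟩ := ha
  obtain ⟨b', hb'⟩ := hb
  haveI := geometricallyReduced_of_smooth A
  haveI := geometricallyReduced_of_smooth B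
  haveI : GeometricallyReduced (A ⊗ B).hom := geometricallyReduced_tensorObj A B
  haveI : Mono i := by
    have : Mono ((Over.forget _).map i) := (inferInstance : Mono i.left)
    exact (Over.forget _).mono_of_mono_map this
  have hf' : ((a' ⊗ₘ b') ≫ μ[Γ]) ≫ i = (a ⊗ₘ b) ≫ μ[G] := by
    rw [Category.assoc, IsMonHom.mul_hom, ← Category.assoc, tensorHom_comp_tensorHom, ha', hb']
  have hmin' : ∀ (Γ' : Over (Spec (CommRingCat.of k))) (_ : GrpObj Γ') (i' : Γ' ⟶ G), IsMonHom i' →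
      IsClosedImmersion i'.left → (∃ f'' : A ⊗ B ⟶ Γ', f'' ≫ i' = (a ⊗ₘ b) ≫ μ[G]) →
      ∃ j : Γ ⟶ Γ', j ≫ i' = i := by
    intro Γ' str' i' h1 h2 ⟨f'', hf''⟩
    refine hmin Γ' str' i' h1 h2 ⟨lift (𝟙 A) (toUnit A ≫ η[B]) ≫ f'', ?_⟩
      ⟨lift (toUnit B ≫ η[A]) (𝟙 B) ≫ f'', ?_⟩
    · rw [Category.assoc, hf'', lift_prodMap, Category.id_comp, Category.assoc, IsMonHom.one_hom,
        MonObj.one_eq_one, MonObj.comp_one, _root_.mul_one]
    · rw [Category.assoc, hf'', lift_prodMap, Category.id_comp, Category.assoc, IsMonHom.one_hom,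
        MonObj.one_eq_one, MonObj.comp_one, _root_.one_mul]
  obtain ⟨h1, -, h3⟩ := isReduced_and_range_eq_of_minimal ((a ⊗ₘ b) ≫ μ[G]) Γ i ⟨_, hf'⟩ hmin'
  refine ⟨h1, ?_⟩
  have hU : (⋃ w, Set.range (wordMap ((a ⊗ₘ b) ≫ μ[G]) w).left) =
      Set.range ((a ⊗ₘ b) ≫ μ[G]).left := by
    apply subset_antisymm
    · apply Set.iUnion_subset
      rintro w _ ⟨t, rfl⟩
      obtain ⟨x, hx⟩ := exists_prodMap_of_wordMap a b hN w (𝟙 _)
      rw [Category.id_comp] at hx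
      refine ⟨x.left t, ?_⟩
      rw [hx, Over.comp_left]
      rfl
    · rintro _ ⟨t, rfl⟩
      refine Set.mem_iUnion.2 ⟨[true], ?_⟩
      have hw : wordMap ((a ⊗ₘ b) ≫ μ[G]) [true] =
          wfst true [] ≫ (a ⊗ₘ b) ≫ μ[G] := by
        rw [wordMap_cons, wordMap_nil, MonObj.comp_one, _root_.mul_one]
        simp [letter]
      refine ⟨(wlift true [] (𝟙 (A ⊗ B)) (toUnit (A ⊗ B))).left t, ?_⟩
      rw [hw]
      have e : wlift true [] (𝟙 (A ⊗ B)) (toUnit (A ⊗ B)) ≫ wfst true [] ≫ (a ⊗ₘ b) ≫ μ[G] =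
          (a ⊗ₘ b) ≫ μ[G] := by
        rw [wlift_wfst_assoc, Category.id_comp]
      conv_rhs => rw [← e]
      rw [Over.comp_left]
      rfl
  rw [hU] at h3
  have hemb : Topology.IsClosedEmbedding i.left := Scheme.Hom.isClosedEmbedding i.left
  have himg : i.left '' (Set.range ((a' ⊗ₘ b') ≫ μ[Γ]).left) = Set.range ((a ⊗ₘ b) ≫ μ[G]).left := by
    rw [← Set.range_comp, ← hf', Over.comp_left]
    rfl
  have hd : Dense (Set.range ((a' ⊗ₘ b') ≫ μ[Γ]).left) := by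
    rw [dense_iff_closure_eq]
    apply hemb.injective.image_injective
    rw [← hemb.closure_image_eq, himg, Set.image_univ, h3]
  haveI : LocallyOfFiniteType (i.left ≫ G.hom) := inferInstance
  haveI : LocallyOfFiniteType Γ.hom := by
    have := Over.w i
    rw [← this]; infer_instance
  haveI : LocallyOfFiniteType (A ⊗ B).hom := by
    have e : (A ⊗ B).hom = (fst A B).left ≫ A.hom := (Over.w (fst A B)).symm
    have : LocallyOfFiniteType (fst A B).left := by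
      change LocallyOfFiniteType (pullback.fst A.hom B.hom)
      infer_instance
    rw [e]; infer_instance
  haveI : QuasiCompact (A ⊗ B).hom := by
    have e : (A ⊗ B).hom = (fst A B).left ≫ A.hom := (Over.w (fst A B)).symm
    have : QuasiCompact (fst A B).left := by
      change QuasiCompact (pullback.fst A.hom B.hom)
      infer_instance
    rw [e]; infer_instance
  have hcancel : ∀ {T : Over (Spec (CommRingCat.of k))} (p q : T ⟶ Γ), p ≫ i = q ≫ i → p = q :=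
    fun p q h => (cancel_mono i).1 h
  have hf'' : ∀ {T : Over (Spec (CommRingCat.of k))} (x : T ⟶ A ⊗ B),
      (x ≫ (a' ⊗ₘ b') ≫ μ[Γ]) ≫ i = x ≫ (a ⊗ₘ b) ≫ μ[G] := by
    intro T x
    rw [Category.assoc, hf']
  have huniv := Groth.Agent.Lib.H71ImageClosed.range_eq_univ_of_mul_closed ((a' ⊗ₘ b') ≫ μ[Γ]) ?_ ?_ ?_ hd
  · rw [← himg, huniv, Set.image_univ]
  · refine ⟨(lift (η[A]) (η[B])).left (IsLocalRing.closedPoint k), ?_⟩
    have e : lift (η[A]) (η[B]) ≫ (a' ⊗ₘ b') ≫ μ[Γ] = η[Γ] := by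
      apply hcancel
      rw [hf'', prodMap_one, IsMonHom.one_hom, MonObj.one_eq_one]
    unfold Groth.Agent.Lib.GrpTopPts45.unitPt
    rw [← e, Over.comp_left]
    rfl
  · intro T x₁ x₂
    obtain ⟨x₃, hx₃⟩ := prodMap_mul a b hN x₁ x₂
    refine ⟨x₃, hcancel _ _ ?_⟩
    rw [MonObj.mul_comp, hf'', hf'', hf'']
    exact hx₃
  · intro T x
    obtain ⟨x', hx'⟩ := prodMap_inv a b hN x
    refine ⟨x', hcancel _ _ ?_⟩
    rw [GrpObj.inv_comp, hf'', hf'']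
    exact hx'

end NormPair

end Groth.Agent.Lib.H71GenSubgrp
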