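import Groth.Agent.Lib.MacLane5H44
import Mathlib.RingTheory.MvPowerSeries.NoZeroDivisors
import Mathlib.RingTheory.Localization.BaseChange
import Mathlib.RingTheory.LocalProperties.Reduced

/-!
# Power series rings are geometrically reduced (helper71)

* `Φ_injective`: `k₁ ⊗[k] k[[T]] ⟶ k₁[[T]]` is injective for `k₁/k` finite.
* `isGeometricallyReduced_mvPowerSeries`: `k[[T]]` is geometrically reduced over `k`.
* `isGeometricallyReduced_of_isLocalization`: geometric reducedness passes to localizations.
* `isGeometricallyReduced_fractionRing_mvPowerSeries`: `k((T))` is geometrically reduced (separable) over `k`.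
-/

set_option autoImplicit false
universe u

open TensorProduct

namespace Groth.Agent.Lib.H71PowerSeriesGeomRed

variable (k : Type u) [Field k] (σ : Type) (k₁ : Type u) [Field k₁] [Algebra k k₁]

/-- The comparison map `k₁ ⊗[k] k[[T]] ⟶ k₁[[T]]`. -/
noncomputable def Φ : k₁ ⊗[k] MvPowerSeries σ k →ₐ[k] MvPowerSeries σ k₁ :=
  Algebra.TensorProduct.productMap
    ((Algebra.ofId k₁ (MvPowerSeries σ k₁)).restrictScalars k)
    (MvPowerSeries.mapAlgHom (Algebra.ofId k k₁))

theorem coeff_Φ_tmul (c : k₁) (f : MvPowerSeries σ k) (m : σ →₀ ℕ) :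
    MvPowerSeries.coeff m (Φ k σ k₁ (c ⊗ₜ f)) = (MvPowerSeries.coeff m f) • c := by
  simp only [Φ, Algebra.TensorProduct.productMap_apply_tmul, AlgHom.coe_restrictScalars',
    Algebra.ofId_apply, MvPowerSeries.mapAlgHom_apply]
  rw [MvPowerSeries.algebraMap_apply, Algebra.algebraMap_self, RingHom.id_apply,
    MvPowerSeries.coeff_C_mul, MvPowerSeries.coeff_map, Algebra.smul_def, mul_comm]
  rfl

theorem Φ_injective [FiniteDimensional k k₁] : Function.Injective (Φ k σ k₁) := by
  classical
  rw [injective_iff_map_eq_zero]
  intro x hx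
  let b := Module.finBasis k k₁
  obtain ⟨c, rfl⟩ := TensorProduct.eq_repr_basis_left b x
  have hc : c = 0 := by
    ext i m
    have h1 := congrArg (MvPowerSeries.coeff m) hx
    rw [Finsupp.sum, map_sum, map_sum] at h1
    simp only [coeff_Φ_tmul, map_zero] at h1
    have h2 := linearIndependent_iff'.mp b.linearIndependent c.support
      (fun j => MvPowerSeries.coeff m (c j)) h1
    by_cases hi : i ∈ c.support
    · simpa using h2 i hi
    · rw [Finsupp.notMem_support_iff.mp hi]
      rfl
  rw [hc]
  simp

end Groth.Agent.Lib.H71PowerSeriesGeomRed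

namespace Groth.Agent.Lib.H71PowerSeriesGeomRed

variable (k : Type u) [Field k] (σ : Type)

theorem isGeometricallyReduced_mvPowerSeries :
    Algebra.IsGeometricallyReduced k (MvPowerSeries σ k) := by
  apply Groth.Agent.Lib.MacLane5H44.isGeometricallyReduced_of_forall_finite_purelyInseparable
  intro k' _ _ _ _
  exact isReduced_of_injective (Φ k σ k').toRingHom (Φ_injective k σ k')

/-- Geometric reducedness passes to localizations. -/
theorem isGeometricallyReduced_of_isLocalization (R S : Type u) [CommRing R] [CommRing S]
    [Algebra k R] [Algebra R S] [Algebra k S] [IsScalarTower k R S] (M : Submonoid R)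
    [IsLocalization M S] [Algebra.IsGeometricallyReduced k R] :
    Algebra.IsGeometricallyReduced k S := by
  rw [Algebra.isGeometricallyReduced_field_iff]
  have h0 : IsReduced (AlgebraicClosure k ⊗[k] R) :=
    (Algebra.isGeometricallyReduced_field_iff k R).mp ‹_›
  have h1 : IsReduced (R ⊗[k] AlgebraicClosure k) :=
    isReduced_of_injective (Algebra.TensorProduct.comm k R (AlgebraicClosure k)).toRingHom
      (Algebra.TensorProduct.comm k R (AlgebraicClosure k)).injective
  letI := Algebra.TensorProduct.rightAlgebra (R := R) (A := S) (B := R ⊗[k] AlgebraicClosure k)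
  have hloc : IsLocalization (Algebra.algebraMapSubmonoid (R ⊗[k] AlgebraicClosure k) M)
      (S ⊗[R] (R ⊗[k] AlgebraicClosure k)) := IsLocalization.tensorRight _ M
  have h2 : IsReduced (S ⊗[R] (R ⊗[k] AlgebraicClosure k)) :=
    isReduced_localizationPreserves
      (Algebra.algebraMapSubmonoid (R ⊗[k] AlgebraicClosure k) M) _ h1
  have h3 : IsReduced (S ⊗[k] AlgebraicClosure k) :=
    isReduced_of_injective
      (Algebra.TensorProduct.cancelBaseChange k R R S (AlgebraicClosure k)).symm.toRingHom
      (Algebra.TensorProduct.cancelBaseChange k R R S (AlgebraicClosure k)).symm.injective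
  exact isReduced_of_injective (Algebra.TensorProduct.comm k (AlgebraicClosure k) S).toRingHom
    (Algebra.TensorProduct.comm k (AlgebraicClosure k) S).injective

theorem isGeometricallyReduced_fractionRing_mvPowerSeries :
    Algebra.IsGeometricallyReduced k (FractionRing (MvPowerSeries σ k)) := by
  haveI := isGeometricallyReduced_mvPowerSeries k σ
  exact isGeometricallyReduced_of_isLocalization k (MvPowerSeries σ k)
    (FractionRing (MvPowerSeries σ k)) (nonZeroDivisors (MvPowerSeries σ k))

end Groth.Agent.Lib.H71PowerSeriesGeomRed
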