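import Mathlib
import Groth.Agent.Lib.MacLane4H44
import Groth.Agent.Lib.H71PowerSeriesGeomRed
import Groth.Agent.S9407

set_option autoImplicit false
universe u
open TensorProduct

namespace Groth.Agent.Lib.H71GenericSmoothRing

/-- In a Noetherian quasi-sober space, maximal points lie in every dense open. -/
theorem mem_of_dense_of_maximal_point_top {α : Type*} [TopologicalSpace α] [QuasiSober α]
    [TopologicalSpace.NoetherianSpace α]
    (U : Set α) (hUo : IsOpen U) (hU : Dense U) (η : α) (hη : ∀ y : α, y ⤳ η → y = η) : η ∈ U := by
  have hcomp : closure {η} ∈ irreducibleComponents α := by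
    obtain ⟨ξ, hξ⟩ := QuasiSober.sober (isIrreducible_irreducibleComponent (x := η))
      isClosed_irreducibleComponent
    have h1 : ξ ⤳ η := by
      rw [specializes_iff_mem_closure, hξ.def]
      exact mem_irreducibleComponent
    rw [← hη ξ h1, hξ.def]
    exact irreducibleComponent_mem_irreducibleComponents η
  obtain ⟨o, ho, hne, hoZ⟩ :=
    TopologicalSpace.NoetherianSpace.exists_isOpen_nonempty_subset_irreducibleComponent _ hcomp
  obtain ⟨y, hyo, hyU⟩ := hU.inter_open_nonempty o ho hne
  have hsp : η ⤳ y := specializes_iff_mem_closure.mpr (hoZ hyo)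
  exact hsp.mem_open hUo hyU

variable (k : Type u) [Field k]

/-- A smooth algebra over a field is geometrically reduced. -/
theorem isGeometricallyReduced_of_smooth (S : Type u) [CommRing S] [Algebra k S]
    [Algebra.Smooth k S] : Algebra.IsGeometricallyReduced k S := by
  rw [Algebra.isGeometricallyReduced_field_iff]
  exact Groth.Agent.S9407.result (AlgebraicClosure k) (AlgebraicClosure k ⊗[k] S)

variable (A : Type u) [CommRing A] [Algebra k A]

/-- The local ring at a minimal prime, if geometrically reduced, is formally smooth. -/
theorem isSmoothAt_of_isGeometricallyReduced (p : Ideal A) [p.IsPrime] (hp : p ∈ minimalPrimes A)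
    [Algebra.IsGeometricallyReduced k (Localization.AtPrime p)] : Algebra.IsSmoothAt k p := by
  haveI : IsReduced (Localization.AtPrime p) := Algebra.isReduced_of_isGeometricallyReduced k
  haveI : Ring.KrullDimLE 0 (Localization.AtPrime p) :=
    Ring.KrullDimLE.of_isLocalization p hp (Localization.AtPrime p)
  letI : Field (Localization.AtPrime p) := Ring.KrullDimLE.isField_of_isReduced.toField
  exact (Groth.Agent.Lib.MacLane4H44.formallySmooth_iff_isGeometricallyReduced k
    (Localization.AtPrime p)).mpr inferInstance

end Groth.Agent.Lib.H71GenericSmoothRing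

namespace Groth.Agent.Lib.H71GenericSmoothRing

variable (k : Type u) [Field k] (A : Type u) [CommRing A] [Algebra k A]

/-- If `A_g` is smooth over `k` and `g ∉ p` then `A_p` is geometrically reduced over `k`. -/
theorem isGeometricallyReduced_atPrime_of_smooth_away (g : A) (p : Ideal A) [p.IsPrime]
    (hg : g ∉ p) [Algebra.Smooth k (Localization.Away g)] :
    Algebra.IsGeometricallyReduced k (Localization.AtPrime p) := by
  haveI := isGeometricallyReduced_of_smooth k (Localization.Away g)
  have hd : Disjoint (Submonoid.powers g : Set A) (p : Set A) := by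
    rw [Set.disjoint_left]
    rintro _ ⟨n, rfl⟩ hn
    exact hg (Ideal.IsPrime.mem_of_pow_mem inferInstance n hn)
  let p' : Ideal (Localization.Away g) := Ideal.map (algebraMap A (Localization.Away g)) p
  haveI hp' : p'.IsPrime :=
    IsLocalization.isPrime_of_isPrime_disjoint (Submonoid.powers g) _ p inferInstance hd
  have hcomap : p'.comap (algebraMap A (Localization.Away g)) = p :=
    IsLocalization.under_map_of_isPrime_disjoint (Submonoid.powers g) _ inferInstance hd
  haveI h1 : Algebra.IsGeometricallyReduced k (Localization.AtPrime p') :=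
    Groth.Agent.Lib.H71PowerSeriesGeomRed.isGeometricallyReduced_of_isLocalization k
      (Localization.Away g) (Localization.AtPrime p') p'.primeCompl
  haveI h2 : IsLocalization.AtPrime (Localization.AtPrime p') p := by
    have := IsLocalization.isLocalization_isLocalization_atPrime_isLocalization
      (Submonoid.powers g) (Localization.AtPrime p') p'
    convert this
    exact hcomap.symm
  let e : Localization.AtPrime p ≃ₐ[A] Localization.AtPrime p' :=
    IsLocalization.algEquiv p.primeCompl _ _
  exact Algebra.IsGeometricallyReduced.of_injective (e.restrictScalars k).toAlgHom e.injective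

/-- **Generic smoothness, ring form** (EGA IV 17.15.x): a finite type algebra over a field has a dense open set of
smooth points iff its local rings at minimal primes are geometrically reduced. -/
theorem exists_dense_smooth_iff [Algebra.FiniteType k A] :
    (∃ U : TopologicalSpace.Opens (PrimeSpectrum A), Dense (U : Set (PrimeSpectrum A)) ∧
        ∀ p ∈ U, Algebra.IsSmoothAt k p.asIdeal) ↔
      ∀ (p : Ideal A) [p.IsPrime], p ∈ minimalPrimes A →
        Algebra.IsGeometricallyReduced k (Localization.AtPrime p) := by
  haveI : IsNoetherianRing A := Algebra.FiniteType.isNoetherianRing k A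
  haveI : Algebra.FinitePresentation k A := Algebra.FinitePresentation.of_finiteType.mp inferInstance
  constructor
  · rintro ⟨U, hUd, hUs⟩ p _ hp
    let P : PrimeSpectrum A := ⟨p, inferInstance⟩
    have hmax : ∀ y : PrimeSpectrum A, y ⤳ P → y = P := by
      intro y hy
      rw [← PrimeSpectrum.le_iff_specializes] at hy
      apply PrimeSpectrum.ext
      exact le_antisymm hy (hp.2 ⟨y.2, bot_le⟩ hy)
    have hPU : P ∈ (U : Set (PrimeSpectrum A)) :=
      mem_of_dense_of_maximal_point_top _ U.2 hUd P hmax
    obtain ⟨_, ⟨_, ⟨g, rfl⟩, rfl⟩, hPg, hgU⟩ :=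
      PrimeSpectrum.isBasis_basic_opens.exists_subset_of_mem_open hPU U.2
    have hsub : (PrimeSpectrum.basicOpen g : Set (PrimeSpectrum A)) ⊆ Algebra.smoothLocus k A :=
      fun q hq => hUs q (hgU hq)
    haveI : Algebra.Smooth k (Localization.Away g) :=
      Algebra.basicOpen_subset_smoothLocus_iff_smooth.mp hsub
    exact isGeometricallyReduced_atPrime_of_smooth_away k A g p hPg
  · intro h
    refine ⟨⟨Algebra.smoothLocus k A, Algebra.isOpen_smoothLocus⟩, ?_, fun p hp => hp⟩
    rw [dense_iff_closure_eq, Set.eq_univ_iff_forall]
    intro q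
    obtain ⟨p, hp, hpq⟩ := Ideal.exists_minimalPrimes_le (bot_le : ⊥ ≤ q.asIdeal)
    haveI : p.IsPrime := hp.1.1
    haveI := h p hp
    have h1 : (⟨p, inferInstance⟩ : PrimeSpectrum A) ∈ Algebra.smoothLocus k A :=
      isSmoothAt_of_isGeometricallyReduced k A p hp
    have hsp : (⟨p, inferInstance⟩ : PrimeSpectrum A) ⤳ q :=
      (PrimeSpectrum.le_iff_specializes _ _).mp hpq
    exact hsp.mem_closed isClosed_closure (subset_closure h1)

end Groth.Agent.Lib.H71GenericSmoothRing
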