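import Groth.Agent.Lib.H71SepClosedGeom
import Mathlib.AlgebraicGeometry.Morphisms.UniversallyOpen
import Mathlib.AlgebraicGeometry.Geometrically.Connected

/-!
# Geometric connectedness from a geometrically connected scheme mapping in (helper71)

* `geometricallyConnected_of_map`: a connected `k`-scheme receiving a `k`-morphism from a nonempty geometrically
  connected `k`-scheme is geometrically connected (Stacks 0385).
-/

set_option autoImplicit false
universe u
open CategoryTheory AlgebraicGeometry CategoryTheory.Limits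

namespace Groth.Agent.Lib.H71GeomConnMap

open Groth.Agent.Lib.H71SepClosedGeom

variable {k : Type u} [Field k]

/-- Points of `Y_K` hit every point of `X_K` whose image in `X` is in the image of `Y`. -/
theorem exists_preimage_pullbackMap {X Y : Scheme.{u}} (g : Y ⟶ X) (f : X ⟶ Spec (CommRingCat.of k))
    {S' : Scheme.{u}} (q : S' ⟶ Spec (CommRingCat.of k)) (y : Y) (v : ↥(pullback f q))
    (hv : g y = pullback.fst f q v) :
    ∃ t : ↥(pullback (g ≫ f) q),
      pullback.map (g ≫ f) q f q g (𝟙 _) (𝟙 _) (by simp) (by simp) t = v := by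
  obtain ⟨w, hw1, hw2⟩ := Scheme.Pullback.exists_preimage_pullback (f := g) (g := pullback.fst f q) y v hv
  refine ⟨(pullbackRightPullbackFstIso f q g).hom w, ?_⟩
  have hcomp : (pullbackRightPullbackFstIso f q g).hom ≫
      pullback.map (g ≫ f) q f q g (𝟙 _) (𝟙 _) (by simp) (by simp) =
      pullback.snd g (pullback.fst f q) := by
    apply pullback.hom_ext
    · rw [Category.assoc, pullback.lift_fst, pullbackRightPullbackFstIso_hom_fst_assoc,
        pullback.condition]
    · rw [Category.assoc, pullback.lift_snd, Category.comp_id, pullbackRightPullbackFstIso_hom_snd]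
  rw [← Scheme.Hom.comp_apply, ← hw2, hcomp]

theorem geometricallyConnected_of_map {X Y : Scheme.{u}} (g : Y ⟶ X)
    (f : X ⟶ Spec (CommRingCat.of k)) [Nonempty Y] [ConnectedSpace X]
    [hgf : GeometricallyConnected (g ≫ f)] : GeometricallyConnected f := by
  let K := AlgebraicClosure k
  let q := Spec.map (CommRingCat.ofHom (algebraMap k K))
  have hint : IsIntegralHom q := isIntegralHom_SpecMap K
  have hsurjq : Surjective q := surjective_SpecMap K
  have h3 : Surjective (pullback.fst f q) := MorphismProperty.pullback_fst _ _ hsurjq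
  have hopen : IsOpenMap (pullback.fst f q) := (pullback.fst f q).isOpenMap
  have hclosed : IsClosedMap (pullback.fst f q) := (pullback.fst f q).isClosedMap
  have hsurj : Function.Surjective (pullback.fst f q) := (pullback.fst f q).surjective
  have hYK : ConnectedSpace ↥(pullback (g ≫ f) q) :=
    (geometrically_iff_of_commRing_of_isClosedUnderIsomorphisms ..).mp
      hgf.geometrically_connectedSpace K
  let gK : pullback (g ≫ f) q ⟶ pullback f q :=
    pullback.map (g ≫ f) q f q g (𝟙 _) (𝟙 _) (by simp) (by simp)
  suffices ConnectedSpace ↥(pullback f q) from geometricallyConnected_of_connectedSpace_pullback K f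
  obtain ⟨y₀⟩ := ‹Nonempty Y›
  rw [connectedSpace_iff_clopen]
  refine ⟨?_, ?_⟩
  · obtain ⟨v, -⟩ := hsurj (g y₀)
    exact ⟨v⟩
  · intro s hs
    by_contra hcon
    rw [not_or] at hcon
    obtain ⟨hne, hnu⟩ := hcon
    have hs_ne : s.Nonempty := Set.nonempty_iff_ne_empty.mpr hne
    have hsc_ne : sᶜ.Nonempty := Set.nonempty_compl.mpr hnu
    have h1 : pullback.fst f q '' s = Set.univ :=
      (isClopen_iff.mp ⟨hclosed _ hs.1, hopen _ hs.2⟩).resolve_left
        (hs_ne.image _).ne_empty
    have h2 : pullback.fst f q '' sᶜ = Set.univ :=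
      (isClopen_iff.mp ⟨hclosed _ hs.compl.1, hopen _ hs.compl.2⟩).resolve_left
        (hsc_ne.image _).ne_empty
    rcases isClopen_iff.mp (hs.preimage gK.continuous) with h | h
    · obtain ⟨v, hv, hv'⟩ : g y₀ ∈ pullback.fst f q '' s := h1 ▸ Set.mem_univ _
      obtain ⟨t, ht⟩ := exists_preimage_pullbackMap g f q y₀ v hv'.symm
      have : t ∈ gK ⁻¹' s := by
        show gK t ∈ s
        rw [show gK t = v from ht]
        exact hv
      rw [h] at this
      exact this
    · obtain ⟨v, hv, hv'⟩ : g y₀ ∈ pullback.fst f q '' sᶜ := h2 ▸ Set.mem_univ _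
      obtain ⟨t, ht⟩ := exists_preimage_pullbackMap g f q y₀ v hv'.symm
      have : t ∈ gK ⁻¹' s := h ▸ Set.mem_univ _
      apply hv
      rw [← show gK t = v from ht]
      exact this

end Groth.Agent.Lib.H71GeomConnMap
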