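import Groth.Agent.Lib.H71GeomConnMap
import Groth.Agent.S2150
import Mathlib.AlgebraicGeometry.ResidueField

/-!
# Geometric connectedness from a point with primary residue field (helper71)

* `geometricallyConnected_SpecMap_of_sepClosedIn`: if `k` is separably closed in the field `K` then `Spec K ⟶ Spec k` is
  geometrically connected.
* `geometricallyConnected_of_point`: a connected `k`-scheme with a point whose residue field `κ(x)` has `k`
  separably closed in it is geometrically connected (Stacks 04KV).
-/

set_option autoImplicit false
universe u
open CategoryTheory AlgebraicGeometry CategoryTheory.Limits TensorProduct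

namespace Groth.Agent.Lib.H71GeomConnPoint

theorem geometricallyConnected_SpecMap_of_sepClosedIn {k K : Type u} [Field k] [Field K]
    [Algebra k K] (h : ∀ α : K, IsSeparable k α → α ∈ Set.range (algebraMap k K)) :
    GeometricallyConnected (Spec.map (CommRingCat.ofHom (algebraMap k K))) := by
  refine ⟨(geometrically_iff_of_commRing_of_isClosedUnderIsomorphisms ..).mpr fun k' _ _ => ?_⟩
  have hirr : IrreducibleSpace (PrimeSpectrum (k' ⊗[k] K)) :=
    (Groth.Agent.S2150.result (k := k) (K := K)).mpr h k'
  have hirr' : IrreducibleSpace ↥(Spec (CommRingCat.of (k' ⊗[k] K))) := hirr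
  let e : Spec (CommRingCat.of (k' ⊗[k] K)) ≅
      pullback (Spec.map (CommRingCat.ofHom (algebraMap k K)))
        (Spec.map (CommRingCat.ofHom (algebraMap k k'))) :=
    Scheme.Spec.mapIso (Algebra.TensorProduct.comm k K k').toRingEquiv.toCommRingCatIso.op ≪≫
      (pullbackSpecIso k K k').symm
  exact e.hom.surjective.connectedSpace e.hom.continuous

theorem geometricallyConnected_of_point {k : Type u} [Field k] {X : Scheme.{u}}
    [ConnectedSpace X] (f : X ⟶ Spec (CommRingCat.of k)) (x : X)
    (φ : k →+* X.residueField x)
    (hφ : Spec.map (CommRingCat.ofHom φ) = X.fromSpecResidueField x ≫ f)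
    (h : ∀ α : X.residueField x, (letI := φ.toAlgebra; IsSeparable k α) → α ∈ φ.range) :
    GeometricallyConnected f := by
  letI := φ.toAlgebra
  haveI : GeometricallyConnected (X.fromSpecResidueField x ≫ f) := by
    rw [← hφ]
    exact geometricallyConnected_SpecMap_of_sepClosedIn (k := k) (K := X.residueField x) h
  exact Groth.Agent.Lib.H71GeomConnMap.geometricallyConnected_of_map (X.fromSpecResidueField x) f

end Groth.Agent.Lib.H71GeomConnPoint
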