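import Groth.Agent.Lib.H71GeomRedAt2

/-!
# Geometric reducedness at points, IV (helper71)

* `isReduced_stalk_tensor_of_forall_stalk`: for `k'` algebraic over `k`, if all local rings of `X_{k'}` at points over
  `x` are reduced then `𝒪_{X,x} ⊗[k] k'` is reduced.
-/

set_option autoImplicit false
universe u

open CategoryTheory CategoryTheory.Limits AlgebraicGeometry TensorProduct

namespace Groth.Agent.Lib.H71GeomRedAt

section

variable (k : Type u) [Field k] (X : Scheme.{u}) [X.Over (Spec (CommRingCat.of k))] (x : X)

attribute [local instance] Curv2.stalkAlgebra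

/-- For `K` algebraic over `k`: if the local rings of `X_K` at all points over `x` are reduced, then
`𝒪_{X,x} ⊗[k] K` is reduced. -/
theorem isReduced_stalk_tensor_of_forall_stalk (K : Type u) [Field K] [Algebra k K]
    [Algebra.IsAlgebraic k K]
    (h : ∀ x' : ↥(Curv2.bc k X K), Curv2.bcFst k X K x' = x →
      _root_.IsReduced ((Curv2.bc k X K).presheaf.stalk x')) :
    _root_.IsReduced (X.presheaf.stalk x ⊗[k] K) := by
  apply isReduced_ofLocalizationMaximal
  intro M hM
  set e := isoSpecTensor k X x K
  let p : ↥(Spec (CommRingCat.of (X.presheaf.stalk x ⊗[k] K))) := ⟨M, hM.isPrime⟩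
  set w := e.inv p with hw
  have hfst : pullback.fst (X.fromSpecStalk x) (Curv2.bcFst k X K) w =
      IsLocalRing.closedPoint (X.presheaf.stalk x) :=
    fst_isoSpecTensor_inv_of_isMaximal k X x K M
  have hx' : Curv2.bcFst k X K (pullback.snd (X.fromSpecStalk x) (Curv2.bcFst k X K) w) = x := by
    rw [← Scheme.Hom.comp_apply, ← pullback.condition, Scheme.Hom.comp_apply, hfst,
      Scheme.fromSpecStalk_closedPoint]
  have hred := h (pullback.snd (X.fromSpecStalk x) (Curv2.bcFst k X K) w) hx'
  have hbij := bijective_stalkMap_snd (X.fromSpecStalk x) (Curv2.bcFst k X K) w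
  have h3 : IsReduced ((pullback (X.fromSpecStalk x) (Curv2.bcFst k X K)).presheaf.stalk w) :=
    isReduced_of_injective (RingEquiv.ofBijective _ hbij).symm.toRingHom
      (RingEquiv.ofBijective _ hbij).symm.injective
  have h4 : IsReduced ((Spec (CommRingCat.of (X.presheaf.stalk x ⊗[k] K))).presheaf.stalk p) := by
    have hiso : IsIso (e.inv.stalkMap p) := inferInstance
    have hb : Function.Bijective (e.inv.stalkMap p).hom :=
      (ConcreteCategory.isIso_iff_bijective _).mp hiso
    exact isReduced_of_injective (RingEquiv.ofBijective _ hb).symm.toRingHom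
      (RingEquiv.ofBijective _ hb).symm.injective
  exact isReduced_of_injective
    (Spec.stalkIso (CommRingCat.of (X.presheaf.stalk x ⊗[k] K)) p).inv.hom
    (Spec.stalkIso (CommRingCat.of (X.presheaf.stalk x ⊗[k] K)) p).symm.commRingCatIsoToRingEquiv.injective

end

end Groth.Agent.Lib.H71GeomRedAt
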