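import Groth.Agent.Lib.H71GeomRedAt2
import Groth.Agent.Lib.GeomReducedProd

/-!
# Geometric reducedness at points, VI: products (helper71)

* `geometricallyReduced_SpecMap`: `Spec A ⟶ Spec k` is geometrically reduced when `A` is a geometrically reduced
  `k`-algebra.
* `isReduced_stalk_pullback_of_isGeomReducedAt`: if `X` is geometrically reduced at `x` and `Y` is reduced then the
  local rings of `X ×_k Y` at points over `x` are reduced.
-/

set_option autoImplicit false
universe u

open CategoryTheory CategoryTheory.Limits AlgebraicGeometry TensorProduct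

namespace Groth.Agent.Lib.H71GeomRedAt

theorem geometricallyReduced_SpecMap (k A : Type u) [Field k] [CommRing A] [Algebra k A]
    [Algebra.IsGeometricallyReduced k A] :
    GeometricallyReduced (Spec.map (CommRingCat.ofHom (algebraMap k A))) := by
  refine ⟨(geometrically_iff_of_commRing_of_isClosedUnderIsomorphisms ..).mpr fun K _ _ => ?_⟩
  have h1 : _root_.IsReduced (K ⊗[k] A) :=
    Groth.Agent.Lib.GeomReducedFibres.isReduced_tensorProduct_of_isGeometricallyReduced k A K
  have h2 : _root_.IsReduced (A ⊗[k] K) :=
    isReduced_of_injective (Algebra.TensorProduct.comm k A K).toRingHom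
      (Algebra.TensorProduct.comm k A K).injective
  haveI : _root_.IsReduced (CommRingCat.of (A ⊗[k] K)) := h2
  exact isReduced_of_isOpenImmersion (pullbackSpecIso k A K).hom

section

variable (k : Type u) [Field k] (X : Scheme.{u}) [X.Over (Spec (CommRingCat.of k))]
  (Y : Scheme.{u}) [Y.Over (Spec (CommRingCat.of k))]

attribute [local instance] Curv2.stalkAlgebra

theorem isReduced_stalk_pullback_of_isGeomReducedAt [IsReduced Y] (x : X)
    (hx : Curv2.IsGeomReducedAt k X x)
    (z : ↥(pullback (X ↘ Spec (CommRingCat.of k)) (Y ↘ Spec (CommRingCat.of k))))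
    (hz : pullback.fst (X ↘ Spec (CommRingCat.of k)) (Y ↘ Spec (CommRingCat.of k)) z = x) :
    _root_.IsReduced ((pullback (X ↘ Spec (CommRingCat.of k))
      (Y ↘ Spec (CommRingCat.of k))).presheaf.stalk z) := by
  haveI : Algebra.IsGeometricallyReduced k (X.presheaf.stalk x) :=
    isGeometricallyReduced_of_isGeomReducedAt k X x hx
  haveI : GeometricallyReduced (X.fromSpecStalk x ≫ (X ↘ Spec (CommRingCat.of k))) := by
    rw [fromSpecStalk_comp]
    exact geometricallyReduced_SpecMap k (X.presheaf.stalk x)
  have h1 : IsReduced (pullback (X.fromSpecStalk x ≫ (X ↘ Spec (CommRingCat.of k)))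
      (Y ↘ Spec (CommRingCat.of k))) :=
    Groth.Agent.Lib.GeomReducedProd.isReduced_pullback _ _
  haveI : IsReduced (pullback (X.fromSpecStalk x)
      (pullback.fst (X ↘ Spec (CommRingCat.of k)) (Y ↘ Spec (CommRingCat.of k)))) :=
    isReduced_of_isOpenImmersion (pullbackRightPullbackFstIso (X ↘ Spec (CommRingCat.of k))
      (Y ↘ Spec (CommRingCat.of k)) (X.fromSpecStalk x)).hom
  obtain ⟨w, hw1, hw2⟩ := Scheme.Pullback.exists_preimage_pullback
    (f := X.fromSpecStalk x)
    (g := pullback.fst (X ↘ Spec (CommRingCat.of k)) (Y ↘ Spec (CommRingCat.of k)))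
    (IsLocalRing.closedPoint (X.presheaf.stalk x)) z
    (by rw [Scheme.fromSpecStalk_closedPoint, hz])
  subst hw2
  exact isReduced_of_injective _ (bijective_stalkMap_snd _ _ w).1

end

end Groth.Agent.Lib.H71GeomRedAt
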