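import Groth.Agent.Lib.H71GeomRedAt3
import Mathlib.AlgebraicGeometry.Noetherian
import Mathlib.RingTheory.Localization.Ideal
import Mathlib.RingTheory.LocalProperties.Reduced

/-!
# Openness of the geometrically reduced locus (helper71)

* `isReduced_of_mul_nilradical`, `exists_mul_nilradical`: ring-level openness of the reduced locus of a Noetherian
  ring.
* `locallyFinite_irreducibleComponents`: irreducible components of a locally Noetherian scheme are locally finite.
* `exists_opens_isReduced_stalk`: the reduced locus of a locally Noetherian scheme is open.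
* `isGeomReducedAt_of_minimalPrimes`: geometric reducedness at `x` from reducedness of `𝒪_{X,x}` and geometric
  reducedness at the generic points of the components through `x`.
* `isOpen_setOf_isGeomReducedAt`: the geometrically reduced locus of a locally Noetherian `k`-scheme is open.
-/

set_option autoImplicit false
universe u

open CategoryTheory CategoryTheory.Limits AlgebraicGeometry TopologicalSpace

namespace Groth.Agent.Lib.H71GeomRedOpen

section Ring

theorem isReduced_of_mul_nilradical {A : Type*} [CommRing A] (s : A)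
    (hs : ∀ n ∈ nilradical A, s * n = 0)
    (M : Submonoid A) (hsM : s ∈ M) (S : Type*) [CommRing S] [Algebra A S] [IsLocalization M S] :
    IsReduced S := by
  rw [← nilradical_eq_bot_iff]
  have h1 : nilradical S = (nilradical A).map (algebraMap A S) := by
    rw [nilradical, nilradical, IsLocalization.map_radical M S]
    simp [Ideal.map_bot]
  rw [h1, Ideal.map_eq_bot_iff_le_ker]
  intro n hn
  rw [RingHom.mem_ker, IsLocalization.map_eq_zero_iff M]
  exact ⟨⟨s, hsM⟩, hs n hn⟩

theorem exists_mul_nilradical {A : Type*} [CommRing A] [IsNoetherianRing A] (p : Ideal A)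
    [p.IsPrime] (S : Type*) [CommRing S] [Algebra A S] [IsLocalization.AtPrime S p]
    [IsReduced S] : ∃ s ∉ p, ∀ n ∈ nilradical A, s * n = 0 := by
  classical
  obtain ⟨T, hT⟩ := (isNoetherianRing_iff_ideal_fg A).1 inferInstance (nilradical A)
  have h1 : ∀ n ∈ nilradical A, ∃ m : p.primeCompl, (m : A) * n = 0 := by
    intro n hn
    have : algebraMap A S n = 0 := (IsNilpotent.map hn _).eq_zero
    exact (IsLocalization.map_eq_zero_iff p.primeCompl S n).1 this
  choose! m hm using h1
  refine ⟨((∏ t ∈ T, m t : p.primeCompl) : A), (∏ t ∈ T, m t : p.primeCompl).2, ?_⟩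
  intro n hn
  rw [← hT] at hn
  induction hn using Submodule.span_induction with
  | mem t ht =>
    have htn : t ∈ nilradical A := by rw [← hT]; exact Ideal.subset_span ht
    rw [← Finset.mul_prod_erase T _ ht]
    push_cast
    rw [mul_comm ((m t : A)), mul_assoc, hm t htn, mul_zero]
  | zero => rw [mul_zero]
  | add a b _ _ ha hb => rw [mul_add, ha, hb, add_zero]
  | smul c a _ ha => rw [smul_eq_mul, mul_left_comm, ha, mul_zero]

end Ring


section Scheme

/-- The irreducible components of a locally Noetherian scheme are locally finite (proof as in helper96's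
`NagataNormFin96.locallyFinite_irreducibleComponents`, copied to keep imports light). -/
theorem locallyFinite_irreducibleComponents (X : Scheme.{u}) [IsLocallyNoetherian X] :
    LocallyFinite (fun Z : ↥(irreducibleComponents ↥X) => (Z : Set ↥X)) := by
  intro x
  obtain ⟨U, hxU⟩ : ∃ U : X.affineOpens, x ∈ U.1 := by
    obtain ⟨_, ⟨U, hU, rfl⟩, hxU, -⟩ :=
      X.isBasis_affineOpens.exists_subset_of_mem_open (Set.mem_univ x) isOpen_univ
    exact ⟨⟨U, hU⟩, hxU⟩
  have hNR : IsNoetherianRing Γ(X, U.1) := IsLocallyNoetherian.component_noetherian U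
  have hN : NoetherianSpace (U.1 : Set X) := noetherianSpace_of_isAffineOpen U.1 U.2
  refine ⟨(U.1 : Set X), U.1.2.mem_nhds hxU, ?_⟩
  have hf : Topology.IsOpenEmbedding (Subtype.val : (U.1 : Set X) → X) :=
    U.1.2.isOpenEmbedding_subtypeVal
  have hfin : (irreducibleComponents (U.1 : Set X)).Finite :=
    NoetherianSpace.finite_irreducibleComponents
  refine Set.Finite.of_injOn (f := fun T : irreducibleComponents X =>
    ((Subtype.val : (U.1 : Set X) → X) ⁻¹' T.1)) ?_ ?_ hfin
  · rintro T ⟨z, hzT, hzU⟩
    exact preimage_mem_irreducibleComponents T.2 hf ⟨z, hzT, ⟨⟨z, hzU⟩, rfl⟩⟩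
  · rintro T ⟨z, hzT, hzU⟩ T' ⟨z', hzT', hzU'⟩ h
    have e1 := closure_image_preimage_of_isPreirreducible (Subtype.val : (U.1 : Set X) → X)
      hf.isOpenMap T.1 ⟨⟨z, hzU⟩, hzT⟩ T.2.1.2 (isClosed_of_mem_irreducibleComponents _ T.2)
    have e2 := closure_image_preimage_of_isPreirreducible (Subtype.val : (U.1 : Set X) → X)
      hf.isOpenMap T'.1 ⟨⟨z', hzU'⟩, hzT'⟩ T'.2.1.2 (isClosed_of_mem_irreducibleComponents _ T'.2)
    apply Subtype.ext
    rw [← e1, ← e2]
    simp only at h
    rw [h]

/-- In a locally Noetherian scheme, a point with reduced local ring has an open neighbourhood all of whose local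
rings are reduced. -/
theorem exists_opens_isReduced_stalk (X : Scheme.{u}) [IsLocallyNoetherian X] (x : X)
    [_root_.IsReduced (X.presheaf.stalk x)] :
    ∃ W : X.Opens, x ∈ W ∧ ∀ y ∈ W, _root_.IsReduced (X.presheaf.stalk y) := by
  obtain ⟨_, ⟨U, hU, rfl⟩, hxU, -⟩ :=
    X.isBasis_affineOpens.exists_subset_of_mem_open (Set.mem_univ x) isOpen_univ
  have hNR : IsNoetherianRing Γ(X, U) := IsLocallyNoetherian.component_noetherian ⟨U, hU⟩
  have key : ∀ (y : X) (hy : y ∈ U) (g : Γ(X, U)),
      IsUnit (X.presheaf.germ U y hy g) ↔ g ∉ (hU.primeIdealOf ⟨y, hy⟩).asIdeal := by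
    intro y hy g
    letI : Algebra Γ(X, U) (X.presheaf.stalk y) :=
      TopCat.Presheaf.algebra_section_stalk X.presheaf (U := U) ⟨y, hy⟩
    have := hU.isLocalization_stalk ⟨y, hy⟩
    exact IsLocalization.AtPrime.isUnit_to_map_iff (X.presheaf.stalk y)
      (hU.primeIdealOf ⟨y, hy⟩).asIdeal g
  obtain ⟨s, hsp, hs⟩ : ∃ s ∉ (hU.primeIdealOf ⟨x, hxU⟩).asIdeal,
      ∀ n ∈ nilradical Γ(X, U), s * n = 0 := by
    letI : Algebra Γ(X, U) (X.presheaf.stalk x) :=
      TopCat.Presheaf.algebra_section_stalk X.presheaf (U := U) ⟨x, hxU⟩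
    haveI := hU.isLocalization_stalk ⟨x, hxU⟩
    exact exists_mul_nilradical (hU.primeIdealOf ⟨x, hxU⟩).asIdeal (X.presheaf.stalk x)
  refine ⟨X.basicOpen s, ?_, ?_⟩
  · rw [X.mem_basicOpen s x hxU, key x hxU s]
    exact hsp
  · intro y hy
    have hyU : y ∈ U := X.basicOpen_le s hy
    rw [X.mem_basicOpen s y hyU, key y hyU s] at hy
    letI : Algebra Γ(X, U) (X.presheaf.stalk y) :=
      TopCat.Presheaf.algebra_section_stalk X.presheaf (U := U) ⟨y, hyU⟩
    haveI := hU.isLocalization_stalk ⟨y, hyU⟩
    exact isReduced_of_mul_nilradical s hs (hU.primeIdealOf ⟨y, hyU⟩).asIdeal.primeCompl hy _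

end Scheme

section Field

variable (k : Type u) [Field k] (X : Scheme.{u}) [X.Over (Spec (CommRingCat.of k))]

open Groth.Agent.Lib.H71GeomRedAt

attribute [local instance] Curv2.stalkAlgebra

/-- If `𝒪_{X,x}` is reduced and `X` is geometrically reduced at the images of the minimal primes of `𝒪_{X,x}`
(the generic points of the components through `x`), then `X` is geometrically reduced at `x`. -/
theorem isGeomReducedAt_of_minimalPrimes (x : X) [_root_.IsReduced (X.presheaf.stalk x)]
    (h : ∀ p : ↥(Spec (X.presheaf.stalk x)), p.asIdeal ∈ minimalPrimes (X.presheaf.stalk x) →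
      Curv2.IsGeomReducedAt k X (X.fromSpecStalk x p)) :
    Curv2.IsGeomReducedAt k X x := by
  haveI : Algebra.IsGeometricallyReduced k (X.presheaf.stalk x) := by
    apply isGeometricallyReduced_of_minimalPrimes
    intro p hp
    haveI : p.IsPrime := hp.1.1
    let P : ↥(Spec (X.presheaf.stalk x)) := ⟨p, inferInstance⟩
    have hsp : X.fromSpecStalk x P ⤳ x := by
      have : X.fromSpecStalk x P ∈ Set.range (X.fromSpecStalk x) := ⟨P, rfl⟩
      rwa [Scheme.range_fromSpecStalk] at this
    have hgr := h P hp
    refine ⟨X.presheaf.stalk (X.fromSpecStalk x P), inferInstance, inferInstance,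
      isGeometricallyReduced_of_isGeomReducedAt k X _ hgr, ?_, ?_⟩
    · exact
        { (X.presheaf.stalkSpecializes hsp).hom with
          commutes' := fun c => by
            change (X.presheaf.stalkSpecializes hsp).hom ((X.presheaf.germ ⊤ x trivial).hom
              (Coh.toGlobal (X ↘ Spec (CommRingCat.of k)) c)) =
              (X.presheaf.germ ⊤ (X.fromSpecStalk x P) trivial).hom
                (Coh.toGlobal (X ↘ Spec (CommRingCat.of k)) c)
            rw [← CommRingCat.comp_apply, TopCat.Presheaf.germ_stalkSpecializes] }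
    · exact ker_stalkSpecializes_le x P hsp
  exact isGeomReducedAt_of_isGeometricallyReduced k X x

/-- EGA IV 6.7.? / Stacks: the geometrically reduced locus of a locally Noetherian scheme over a field is open. -/
theorem isOpen_setOf_isGeomReducedAt [IsLocallyNoetherian X] :
    IsOpen {x : X | Curv2.IsGeomReducedAt k X x} := by
  set G := {x : X | Curv2.IsGeomReducedAt k X x} with hG
  have hgen : ∀ x x' : X, x' ⤳ x → x ∈ G → x' ∈ G := by
    intro x x' hsp hx
    haveI := isGeometricallyReduced_of_isGeomReducedAt k X x hx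
    exact isGeomReducedAt_of_specializes k X x x' hsp
  rw [isOpen_iff_forall_mem_open]
  intro x hx
  haveI : Algebra.IsGeometricallyReduced k (X.presheaf.stalk x) :=
    isGeometricallyReduced_of_isGeomReducedAt k X x hx
  haveI : _root_.IsReduced (X.presheaf.stalk x) :=
    Algebra.isReduced_of_isGeometricallyReduced k
  obtain ⟨W, hxW, hW⟩ := exists_opens_isReduced_stalk X x
  let bad : Set (irreducibleComponents X) := {Z | ∃ η, IsGenericPoint η Z.1 ∧ η ∉ G}
  have hlf := locallyFinite_irreducibleComponents X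
  have hclosed : IsClosed (⋃ Z : bad, (Z.1.1 : Set X)) :=
    (hlf.comp_injective (g := fun Z : bad => Z.1) Subtype.val_injective).isClosed_iUnion
      (fun Z => isClosed_of_mem_irreducibleComponents _ Z.1.2)
  refine ⟨(W : Set X) ∩ (⋃ Z : bad, (Z.1.1 : Set X))ᶜ, ?_, W.2.inter hclosed.isOpen_compl,
    ⟨hxW, ?_⟩⟩
  · rintro y ⟨hyW, hyB⟩
    haveI := hW y hyW
    apply isGeomReducedAt_of_minimalPrimes
    intro p hp
    by_contra hbad
    apply hyB
    have hcomp := closure_mem_irreducibleComponents y p hp
    have hsp : X.fromSpecStalk y p ⤳ y := by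
      have : X.fromSpecStalk y p ∈ Set.range (X.fromSpecStalk y) := ⟨p, rfl⟩
      rwa [Scheme.range_fromSpecStalk] at this
    refine Set.mem_iUnion.2 ⟨⟨⟨_, hcomp⟩, X.fromSpecStalk y p, rfl, hbad⟩, ?_⟩
    exact specializes_iff_mem_closure.1 hsp
  · intro hxB
    obtain ⟨⟨Z, η, hη, hηG⟩, hxZ⟩ := Set.mem_iUnion.1 hxB
    apply hηG
    apply hgen x η _ hx
    rw [specializes_iff_mem_closure, hη.def]
    exact hxZ

end Field

end Groth.Agent.Lib.H71GeomRedOpen
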