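import Groth.Agent.S9152
import Groth.Agent.S7609
import Groth.Agent.Lib.CMRingEquiv96
import Groth.Agent.Lib.CMFieldExt33
import Mathlib.AlgebraicGeometry.Group.Smooth

/-!
# Group schemes locally of finite type over a field are Cohen–Macaulay (helper71)

* `eq_univ_of_isOpen_of_invariant`: homogeneity over an algebraically closed field — a nonempty open subset of a
  group scheme l.f.t. over `K` stable under (pullback along) scheme automorphisms is everything.
* `isCM_stalk_iff`: on an affine open, stalk CM ↔ localization at the corresponding prime CM.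
* `isOpen_setOf_isCM_stalk`: the CM locus of a scheme l.f.t. over a field is open.
* `exists_isCM_stalk`: a nonempty locally Noetherian scheme has a point with CM local ring.
* `isCM_stalk_of_isAlgClosed`, `isCM_stalk`: all local rings of a group scheme l.f.t. over a field are CM.
-/

set_option autoImplicit false
universe u

open CategoryTheory CategoryTheory.Limits AlgebraicGeometry MonoidalCategory CartesianMonoidalCategory
  MonObj GrpObj TensorProduct

namespace Groth.Agent.Lib.H71GrpCM

section Homog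

variable {K : Type u} [Field K] {G : Scheme.{u}} (f : G ⟶ Spec (.of K))
    [LocallyOfFiniteType f] [GrpObj (Over.mk f)]

include f in
set_option backward.defeqAttrib.useBackward true in
set_option backward.isDefEq.respectTransparency false in
/-- Homogeneity: a nonempty open subset of a group scheme locally of finite type over an algebraically closed field
which is stable under pulling back along automorphisms of the scheme is everything. -/
theorem eq_univ_of_isOpen_of_invariant [IsAlgClosed K] (U : Set G) (hU : IsOpen U) (hne : U.Nonempty)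
    (hinv : ∀ (α : G ≅ G) (x : G), α.hom x ∈ U → x ∈ U) : U = Set.univ := by
  have := LocallyOfFiniteType.jacobsonSpace f
  by_contra H
  rw [← ne_eq, ← Set.nonempty_compl] at H
  obtain ⟨x, hx, hxc⟩ := nonempty_inter_closedPoints H hU.isClosed_compl.isLocallyClosed
  obtain ⟨y, hy, hyc⟩ := nonempty_inter_closedPoints hne hU.isLocallyClosed
  let x' : 𝟙_ _ ⟶ Over.mk f := Over.homMk _ ((pointEquivClosedPoint f).symm ⟨x, hxc⟩).2
  let y' : 𝟙_ _ ⟶ Over.mk f := Over.homMk _ ((pointEquivClosedPoint f).symm ⟨y, hyc⟩).2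
  let α := (GrpObj.mulRight (A := Over.mk f) x').symm ≪≫
    (GrpObj.mulRight (A := Over.mk f) y')
  have hα : x' ≫ α.hom = y' := by
    dsimp only [Iso.trans_hom, Iso.symm_hom, α]
    rw [← Category.assoc, ← Iso.eq_comp_inv]
    simp [comp_lift_assoc]
  have hα' : α.hom.left x = y := by
    simpa [x', y', pointEquivClosedPoint] using congr(($hα).left (IsLocalRing.closedPoint K))
  let β : G ≅ G := (Over.forget _).mapIso α
  refine hx (hinv β x ?_)
  change α.hom.left x ∈ U
  rw [hα']
  exact hy

end Homog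

section CMOpen

/-- On an affine open, the stalk is Cohen–Macaulay iff the localization at the corresponding prime is. -/
theorem isCM_stalk_iff (X : Scheme.{u}) {U : X.Opens} (hU : IsAffineOpen U) (y : X) (hy : y ∈ U) :
    LocCoh.IsCohenMacaulayLocalRing (X.presheaf.stalk y) ↔
      LocCoh.IsCohenMacaulayLocalRing (Localization.AtPrime (hU.primeIdealOf ⟨y, hy⟩).asIdeal) := by
  letI : Algebra Γ(X, U) (X.presheaf.stalk y) :=
    TopCat.Presheaf.algebra_section_stalk X.presheaf (U := U) ⟨y, hy⟩
  haveI := hU.isLocalization_stalk ⟨y, hy⟩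
  let e : Localization.AtPrime (hU.primeIdealOf ⟨y, hy⟩).asIdeal ≃ₐ[Γ(X, U)] X.presheaf.stalk y :=
    IsLocalization.algEquiv (hU.primeIdealOf ⟨y, hy⟩).asIdeal.primeCompl _ _
  constructor
  · intro h
    exact Groth.Agent.Lib.CMRingEquiv96.isCohenMacaulayLocalRing_of_ringEquiv e.symm.toRingEquiv
  · intro h
    exact Groth.Agent.Lib.CMRingEquiv96.isCohenMacaulayLocalRing_of_ringEquiv e.toRingEquiv

/-- The Cohen–Macaulay locus of a scheme locally of finite type over a field is open. -/
theorem isOpen_setOf_isCM_stalk {K : Type u} [Field K] {X : Scheme.{u}} (f : X ⟶ Spec (.of K))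
    [LocallyOfFiniteType f] :
    IsOpen {x : X | LocCoh.IsCohenMacaulayLocalRing (X.presheaf.stalk x)} := by
  rw [isOpen_iff_forall_mem_open]
  intro x hx
  obtain ⟨_, ⟨U, hU, rfl⟩, hxU, -⟩ :=
    X.isBasis_affineOpens.exists_subset_of_mem_open (Set.mem_univ x) isOpen_univ
  let φ : CommRingCat.of K ⟶ Γ(X, U) := (Scheme.ΓSpecIso (.of K)).inv ≫ f.appLE ⊤ U le_top
  have hφ : φ.hom.FiniteType := by
    have h1 : (f.appLE ⊤ U le_top).hom.FiniteType :=
      f.finiteType_appLE (isAffineOpen_top _) hU _
    have h2 : ((Scheme.ΓSpecIso (.of K)).inv).hom.FiniteType :=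
      RingHom.FiniteType.of_surjective _
        (ConcreteCategory.bijective_of_isIso (Scheme.ΓSpecIso (.of K)).inv).2
    exact h1.comp h2
  letI : Algebra K Γ(X, U) := φ.hom.toAlgebra
  haveI : Algebra.FiniteType K Γ(X, U) := hφ
  have hopen := Groth.Agent.S9152.result K Γ(X, U)
  refine ⟨hU.fromSpec '' {q | LocCoh.IsCohenMacaulayLocalRing (Localization.AtPrime q.asIdeal)}, ?_,
    hU.fromSpec.isOpenEmbedding.isOpenMap _ hopen, ?_⟩
  · rintro _ ⟨q, hq, rfl⟩
    have hmem : hU.fromSpec q ∈ U := by
      have : hU.fromSpec q ∈ Set.range hU.fromSpec := ⟨q, rfl⟩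
      rwa [hU.range_fromSpec] at this
    have h1 : hU.primeIdealOf ⟨hU.fromSpec q, hmem⟩ = q := by
      apply hU.fromSpec.isOpenEmbedding.injective
      rw [hU.fromSpec_primeIdealOf]
    rw [Set.mem_ofPred_eq, isCM_stalk_iff X hU _ hmem, h1]
    exact hq
  · exact ⟨hU.primeIdealOf ⟨x, hxU⟩, (isCM_stalk_iff X hU x hxU).1 hx, hU.fromSpec_primeIdealOf ⟨x, hxU⟩⟩

/-- A nonempty locally Noetherian scheme has a point with Cohen–Macaulay local ring (a maximal point). -/
theorem exists_isCM_stalk (X : Scheme.{u}) [IsLocallyNoetherian X] [Nonempty X] :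
    ∃ x : X, LocCoh.IsCohenMacaulayLocalRing (X.presheaf.stalk x) := by
  obtain ⟨x0⟩ := ‹Nonempty X›
  obtain ⟨_, ⟨U, hU, rfl⟩, hxU, -⟩ :=
    X.isBasis_affineOpens.exists_subset_of_mem_open (Set.mem_univ x0) isOpen_univ
  have hNR : IsNoetherianRing Γ(X, U) := IsLocallyNoetherian.component_noetherian ⟨U, hU⟩
  obtain ⟨p, hp, -⟩ := Ideal.exists_minimalPrimes_le
    (bot_le : (⊥ : Ideal Γ(X, U)) ≤ (hU.primeIdealOf ⟨x0, hxU⟩).asIdeal)
  haveI : p.IsPrime := hp.1.1
  have hmem : hU.fromSpec ⟨p, inferInstance⟩ ∈ U := by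
    have : hU.fromSpec ⟨p, inferInstance⟩ ∈ Set.range hU.fromSpec := ⟨_, rfl⟩
    rwa [hU.range_fromSpec] at this
  have h1 : hU.primeIdealOf ⟨hU.fromSpec ⟨p, inferInstance⟩, hmem⟩ = ⟨p, inferInstance⟩ := by
    apply hU.fromSpec.isOpenEmbedding.injective
    rw [hU.fromSpec_primeIdealOf]
  refine ⟨hU.fromSpec ⟨p, inferInstance⟩, ?_⟩
  rw [isCM_stalk_iff X hU _ hmem, h1]
  haveI : Ring.KrullDimLE 0 (Localization.AtPrime p) :=
    Ring.KrullDimLE.of_isLocalization p hp _
  exact Groth.Agent.Lib.CMFieldExt33.isCohenMacaulayLocalRing_of_krullDimLE_zero _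

end CMOpen

section Main

/-- A group scheme locally of finite type over an algebraically closed field has Cohen–Macaulay local rings. -/
theorem isCM_stalk_of_isAlgClosed {K : Type u} [Field K] [IsAlgClosed K] {G : Scheme.{u}}
    (f : G ⟶ Spec (.of K)) [LocallyOfFiniteType f] [GrpObj (Over.mk f)] (x : G) :
    LocCoh.IsCohenMacaulayLocalRing (G.presheaf.stalk x) := by
  haveI hN : IsLocallyNoetherian G := LocallyOfFiniteType.isLocallyNoetherian f
  haveI : Nonempty G := ⟨x⟩
  have hU := eq_univ_of_isOpen_of_invariant f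
    {x : G | LocCoh.IsCohenMacaulayLocalRing (G.presheaf.stalk x)} (isOpen_setOf_isCM_stalk f)
    (exists_isCM_stalk G) ?_
  · have : x ∈ {x : G | LocCoh.IsCohenMacaulayLocalRing (G.presheaf.stalk x)} := by
      rw [hU]; trivial
    exact this
  · intro α y hy
    have hy' : LocCoh.IsCohenMacaulayLocalRing (G.presheaf.stalk (α.hom y)) := hy
    exact Groth.Agent.Lib.CMRingEquiv96.isCohenMacaulayLocalRing_of_ringEquiv
      (asIso (α.hom.stalkMap y)).commRingCatIsoToRingEquiv

/-- A group scheme locally of finite type over a field has Cohen–Macaulay local rings. -/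
theorem isCM_stalk (k : Type u) [Field k] (G : Over (Spec (CommRingCat.of k))) [GrpObj G]
    [LocallyOfFiniteType G.hom] (x : G.left) :
    LocCoh.IsCohenMacaulayLocalRing (G.left.presheaf.stalk x) := by
  let K : Type u := AlgebraicClosure k
  let g : Spec (.of K) ⟶ Spec (.of k) := Spec.map (CommRingCat.ofHom <| algebraMap k K)
  letI : GrpObj (Over.mk G.hom) := ‹GrpObj G›
  letI : GrpObj (Over.mk (pullback.snd G.hom g)) := Over.grpObjMkPullbackSnd
  obtain ⟨x', hx'⟩ := (pullback.fst G.hom g).surjective x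
  have h := isCM_stalk_of_isAlgClosed (pullback.snd G.hom g) x'
  haveI : LocallyOfFiniteType (G.left ↘ Spec (CommRingCat.of k)) := ‹LocallyOfFiniteType G.hom›
  have h2 := (Groth.Agent.S7609.result k G.left K x').2 h
  have h3 : Curv2.bcFst k G.left K x' = x := hx'
  rwa [h3] at h2

end Main

end Groth.Agent.Lib.H71GrpCM
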