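import Mathlib
import Groth.Agent.Lib.H79FibDimStrata

/-!
# Constructibility of the local fibre dimension for morphisms locally of finite presentation
(helper80; helper79's flat version `H79FibDimStrata` with the flatness removed)

* `exists_model`: a finitely presented algebra is the base change of a finite type algebra over a
  finite type `ℤ`-algebra.
* `isConstructible_fibreDimAt_le_Spec`, `isConstructible_fromSpec_preimage`.
* `setOf_le_fibreDimAt_section_mem_nhds`: for a section `g`, `{z | n ≤ fibreDimAt f (g z)}` is a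
  neighbourhood of `y₀` as soon as it contains all generizations of `y₀`.
-/

set_option autoImplicit false
set_option linter.style.haveILetI false
set_option maxHeartbeats 400000
universe u

namespace Groth.Agent.Lib.H80FibDimCons

open TensorProduct CategoryTheory Limits AlgebraicGeometry Topology
open Groth.Agent.Lib.H56LocDim Groth.Agent.Lib.H56ConsNhds

set_option synthInstance.maxHeartbeats 400000 in
theorem exists_model (R B : Type u) [CommRing R] [CommRing B] [Algebra R B]
    [Algebra.FinitePresentation R B] :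
    ∃ (R₀ B₀ : Type u) (_ : CommRing R₀) (_ : CommRing B₀) (φ₀ : R₀ →+* B₀) (a : R₀ →+* R)
      (b : B₀ →+* B),
      IsPushout (CommRingCat.ofHom a) (CommRingCat.ofHom φ₀)
        (CommRingCat.ofHom (algebraMap R B)) (CommRingCat.ofHom b) ∧
      Algebra.FiniteType ℤ R₀ ∧ φ₀.FiniteType := by
  let P := Algebra.Presentation.ofFinitePresentation R B
  let k := P.Core
  let S₀ := P.ModelOfHasCoeffs k
  let e₀ : R ⊗[k] S₀ ≃ₐ[R] B := P.tensorModelOfHasCoeffsEquiv k
  refine ⟨k, k ⊗[k] S₀, inferInstance, inferInstance, algebraMap k (k ⊗[k] S₀),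
    (Algebra.ofId k R).toRingHom, _,
    Groth.Agent.Lib.FlatModel64.isPushout_of_stage (Algebra.ofId k R) e₀, inferInstance, ?_⟩
  have : Algebra.FinitePresentation k (k ⊗[k] S₀) := inferInstance
  have : Algebra.FiniteType k (k ⊗[k] S₀) := inferInstance
  exact (RingHom.finiteType_algebraMap (A := k) (B := k ⊗[k] S₀)).mpr this

/-- For `φ : A ⟶ B` of finite presentation, the locus of `Spec B` where the local fibre
dimension of `Spec B ⟶ Spec A` is at most `n` is constructible. -/
theorem isConstructible_fibreDimAt_le_Spec {A B : CommRingCat.{u}} (φ : A ⟶ B)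
    (hfp : φ.hom.FinitePresentation) (n : ℕ) :
    IsConstructible {q : Spec B | FlatMor.fibreDimAt (Spec.map φ) q ≤ n} := by
  letI : Algebra A B := φ.hom.toAlgebra
  haveI : Algebra.FinitePresentation A B := hfp
  obtain ⟨A₀, B₀, _, _, φ₀, a, b, hpo, hft, hφft⟩ := exists_model A B
  have hpo' : IsPushout (CommRingCat.ofHom a) (CommRingCat.ofHom φ₀) φ (CommRingCat.ofHom b) :=
    hpo
  have hpb := isPullback_SpecMap_of_isPushout _ _ _ _ hpo'.flip
  haveI : IsNoetherianRing A₀ := Algebra.FiniteType.isNoetherianRing ℤ A₀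
  haveI : IsNoetherianRing B₀ := by
    letI : Algebra A₀ B₀ := φ₀.toAlgebra
    haveI : Algebra.FiniteType A₀ B₀ := hφft
    exact Algebra.FiniteType.isNoetherianRing A₀ B₀
  haveI : LocallyOfFiniteType (Spec.map (CommRingCat.ofHom φ₀)) := by
    rw [HasRingHomProperty.Spec_iff (P := @LocallyOfFiniteType)]
    exact hφft
  have hopen := Groth.Agent.S0402.result (Spec.map (CommRingCat.ofHom φ₀)) n
  have hcons : IsConstructible
      {q : Spec (CommRingCat.of B₀) |
        FlatMor.fibreDimAt (Spec.map (CommRingCat.ofHom φ₀)) q ≤ n} := by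
    refine IsRetrocompact.isConstructible hopen ?_
    intro U _ _
    exact TopologicalSpace.NoetherianSpace.isCompact _
  have hpre := (Spec.map (CommRingCat.ofHom b)).isConstructible_preimage hcons
  have heq : {q : Spec B | FlatMor.fibreDimAt (Spec.map φ) q ≤ n} =
      (Spec.map (CommRingCat.ofHom b)) ⁻¹' {q : Spec (CommRingCat.of B₀) |
        FlatMor.fibreDimAt (Spec.map (CommRingCat.ofHom φ₀)) q ≤ n} := by
    ext q
    simp only [Set.mem_ofPred_eq, Set.mem_preimage]
    rw [Groth.Agent.Lib.H30FibBC.fibreDimAt_eq_of_isPullback _ _ _ _ hpb q]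
  rw [heq]
  exact hpre

variable {X S : Scheme.{u}}

/-- constructibility of the locus `fibreDimAt ≤ n` on an affine chart. -/
theorem isConstructible_fromSpec_preimage (f : X ⟶ S) [LocallyOfFinitePresentation f]
    {U : X.Opens} {V : S.Opens} (hU : IsAffineOpen U) (hV : IsAffineOpen V) (e : U ≤ f ⁻¹ᵁ V)
    (n : ℕ) :
    IsConstructible (hU.fromSpec ⁻¹' {x : X | FlatMor.fibreDimAt f x ≤ n}) := by
  have hfp : (f.appLE V U e).hom.FinitePresentation :=
    HasRingHomProperty.appLE (P := @LocallyOfFinitePresentation) f inferInstance ⟨V, hV⟩ ⟨U, hU⟩ e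
  have heq : hU.fromSpec ⁻¹' {x : X | FlatMor.fibreDimAt f x ≤ n} =
      {q : Spec Γ(X, U) | FlatMor.fibreDimAt (Spec.map (f.appLE V U e)) q ≤ n} := by
    ext q
    simp only [Set.mem_preimage, Set.mem_ofPred_eq]
    rw [Groth.Agent.Lib.H79FibDimStrata.fibreDimAt_fromSpec_eq f hU hV e q]
  rw [heq]
  exact isConstructible_fibreDimAt_le_Spec (f.appLE V U e) hfp n

/-- For `f` locally of finite presentation with a section `g`: the set of `z` with
`n ≤ dim_{g z} X_z` is a neighbourhood of `y₀` as soon as it contains every generization of `y₀`. -/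
theorem setOf_le_fibreDimAt_section_mem_nhds {Y : Scheme.{u}} (f : X ⟶ Y)
    [LocallyOfFinitePresentation f] (g : Y ⟶ X) (y₀ : Y) (n : ℕ)
    (hgen : ∀ ξ : Y, ξ ⤳ y₀ → (n : WithBot ℕ∞) ≤ FlatMor.fibreDimAt f (g ξ)) :
    {z : Y | (n : WithBot ℕ∞) ≤ FlatMor.fibreDimAt f (g z)} ∈ 𝓝 y₀ := by
  cases n with
  | zero =>
    refine Filter.univ_mem' fun z => ?_
    exact Groth.Agent.Lib.H56LocDim.fibreDimAt_nonneg f (g z)
  | succ m =>
    obtain ⟨V, hV, hfV⟩ : ∃ V : Y.Opens, IsAffineOpen V ∧ f (g y₀) ∈ V := by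
      obtain ⟨_, ⟨V, hV, rfl⟩, hxV, -⟩ := Y.isBasis_affineOpens.exists_subset_of_mem_open
        (Set.mem_univ (f (g y₀))) isOpen_univ
      exact ⟨V, hV, hxV⟩
    obtain ⟨U, hU, hgU, hUV⟩ : ∃ U : X.Opens, IsAffineOpen U ∧ g y₀ ∈ U ∧ U ≤ f ⁻¹ᵁ V := by
      obtain ⟨_, ⟨U, hU, rfl⟩, hxU, hUle⟩ := X.isBasis_affineOpens.exists_subset_of_mem_open
        (show g y₀ ∈ ((f ⁻¹ᵁ V : X.Opens) : Set X) from hfV) (f ⁻¹ᵁ V).isOpen
      exact ⟨U, hU, hxU, hUle⟩
    obtain ⟨W, hW, hyW, hWU⟩ : ∃ W : Y.Opens, IsAffineOpen W ∧ y₀ ∈ W ∧ W ≤ g ⁻¹ᵁ U := by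
      obtain ⟨_, ⟨W, hW, rfl⟩, hxW, hWle⟩ := Y.isBasis_affineOpens.exists_subset_of_mem_open
        (show y₀ ∈ ((g ⁻¹ᵁ U : Y.Opens) : Set Y) from hgU) (g ⁻¹ᵁ U).isOpen
      exact ⟨W, hW, hxW, hWle⟩
    have hyr : y₀ ∈ Set.range hW.fromSpec := by rw [hW.range_fromSpec]; exact hyW
    obtain ⟨p, hp⟩ := hyr
    have hC0 := isConstructible_fromSpec_preimage f hU hV hUV m
    have hC1 := (Spec.map (g.appLE U W hWU)).isConstructible_preimage hC0
    have hcomm : ∀ q : Spec Γ(Y, W), hU.fromSpec (Spec.map (g.appLE U W hWU) q) =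
        g (hW.fromSpec q) := by
      intro q
      rw [← Scheme.Hom.comp_apply, ← Scheme.Hom.comp_apply, IsAffineOpen.SpecMap_appLE_fromSpec]
    have hn : ((Spec.map (g.appLE U W hWU)) ⁻¹'
        (hU.fromSpec ⁻¹' {x : X | FlatMor.fibreDimAt f x ≤ m}))ᶜ ∈ 𝓝 p := by
      refine mem_nhds_of_isConstructible hC1.compl p ?_
      intro η hη
      have hsp : hW.fromSpec η ⤳ y₀ := by
        rw [← hp]; exact hη.map hW.fromSpec.continuous
      have := hgen _ hsp
      change ¬ (FlatMor.fibreDimAt f (hU.fromSpec (Spec.map (g.appLE U W hWU) η)) ≤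
        (m : WithBot ℕ∞))
      rw [hcomm, not_le]
      exact (Groth.Agent.Lib.H79FlatGenDimOpen.lt_iff_succ_le _ m).mpr this
    have himg := hW.fromSpec.isOpenEmbedding.image_mem_nhds.mpr hn
    rw [hp] at himg
    refine Filter.mem_of_superset himg ?_
    rintro _ ⟨q, hq, rfl⟩
    simp only [Set.mem_compl_iff, Set.mem_preimage, Set.mem_ofPred_eq, not_le] at hq
    simp only [Set.mem_ofPred_eq]
    rw [← hcomm]
    exact (Groth.Agent.Lib.H79FlatGenDimOpen.lt_iff_succ_le _ m).mp hq

end Groth.Agent.Lib.H80FibDimCons
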