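import Groth.Agent.Lib.H71GrpDim
import Groth.Agent.Lib.H71NeutralBC
import Groth.Agent.Lib.H80FibDimCons

set_option autoImplicit false
universe u

open CategoryTheory CategoryTheory.Limits AlgebraicGeometry TopologicalSpace Topology
open MonoidalCategory CartesianMonoidalCategory MonObj GrpObj

namespace Groth.Agent.Lib.H71GrpDim

variable {S : Scheme.{u}} (G : Over S) [GrpObj G]

/-- The fibre dimension of a group scheme locally of finite type is upper semicontinuous on the base. -/
theorem upperSemicontinuous_dim_fibre [LocallyOfFiniteType G.hom] :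
    UpperSemicontinuous (fun s : S => topologicalKrullDim ↥(G.hom.base ⁻¹' {s})) := by
  intro s₀ y hy
  obtain ⟨m, hm⟩ := exists_nat_dim_fiber G s₀
  have hC := isClosed_le_dim_fiber G (m + 1)
  have hmem : s₀ ∈ {s : S | ((m + 1 : ℕ) : WithBot ℕ∞) ≤ topologicalKrullDim (G.hom.fiber s)}ᶜ := by
    simp only [Set.mem_compl_iff, Set.mem_ofPred_eq, not_le]
    rw [hm, Groth.Agent.Lib.H56LocDim.lt_succ_iff_le]
  filter_upwards [hC.isOpen_compl.mem_nhds hmem] with s hs
  simp only [Set.mem_compl_iff, Set.mem_ofPred_eq, not_le] at hs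
  rw [Groth.Agent.Lib.H56LocDim.lt_succ_iff_le] at hs
  change topologicalKrullDim ↥(G.hom.base ⁻¹' {s₀}) < y at hy
  change topologicalKrullDim ↥(G.hom.base ⁻¹' {s}) < y
  rw [dim_preimage_eq] at hy ⊢
  rw [hm] at hy
  exact lt_of_le_of_lt hs hy

theorem unitSec_eq (s : S) : unitSec G s = Groth.Agent.Lib.H71NeutralBC.unitHom G s := rfl

/-- Constructibility of the sets where the fibre dimension is bounded, on a small enough open of the base. -/
theorem isConstructible_setOf_dim_fiber_le [LocallyOfFinitePresentation G.hom] (s : S) :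
    ∃ V₁ : S.Opens, s ∈ V₁ ∧ ∀ V : S.Opens, V ≤ V₁ → ∀ n : ℕ,
      IsConstructible {t : V | topologicalKrullDim (G.hom.fiber (t : S)) ≤ n} := by
  obtain ⟨V₀, hV₀, hsV₀⟩ : ∃ V : S.Opens, IsAffineOpen V ∧ s ∈ V := by
    obtain ⟨_, ⟨V, hV : IsAffineOpen V, rfl⟩, hsV, -⟩ :=
      S.isBasis_affineOpens.exists_subset_of_mem_open (Set.mem_univ s) isOpen_univ
    exact ⟨V, hV, hsV⟩
  have hes : unitSec G s ∈ G.hom ⁻¹ᵁ V₀ := by
    change G.hom (unitSec G s) ∈ V₀
    rw [hom_unitSec]; exact hsV₀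
  obtain ⟨_, ⟨U, hU : IsAffineOpen U, rfl⟩, hsU, hUV⟩ :=
    G.left.isBasis_affineOpens.exists_subset_of_mem_open hes (G.hom ⁻¹ᵁ V₀).2
  let e := Groth.Agent.Lib.H71NeutralBC.unitHom G
  refine ⟨e ⁻¹ᵁ U, hsU, fun V hV n => ?_⟩
  have hsub : Set.range (V.ι ≫ e) ⊆ Set.range hU.fromSpec := by
    rw [hU.range_fromSpec]
    rintro _ ⟨t, rfl⟩
    exact hV t.2
  let ψ := IsOpenImmersion.lift hU.fromSpec (V.ι ≫ e) hsub
  have hψ : ψ ≫ hU.fromSpec = V.ι ≫ e := IsOpenImmersion.lift_fac _ _ _
  have hc := Groth.Agent.Lib.H80FibDimCons.isConstructible_fromSpec_preimage G.hom hU hV₀ hUV n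
  have hc' := ψ.isConstructible_preimage hc
  have hset : {t : V | topologicalKrullDim (G.hom.fiber (t : S)) ≤ n} =
      ψ ⁻¹' (hU.fromSpec ⁻¹' {x : G.left | FlatMor.fibreDimAt G.hom x ≤ n}) := by
    ext t
    have h1 : hU.fromSpec (ψ t) = unitSec G (t : S) := by
      rw [← Scheme.Hom.comp_apply, hψ]
      rfl
    change topologicalKrullDim (G.hom.fiber (t : S)) ≤ n ↔
      FlatMor.fibreDimAt G.hom (hU.fromSpec (ψ t)) ≤ n
    rw [dim_fiber_eq_fibreDimAt_unit, h1]
  rw [hset]
  exact hc'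

/-- Local constructibility of the fibre dimension of a locally finitely presented group scheme. -/
theorem exists_opens_finite_isConstructible [LocallyOfFinitePresentation G.hom] (s : S) :
    ∃ V : S.Opens, s ∈ V ∧
      ((fun t : S => topologicalKrullDim ↥(G.hom.base ⁻¹' {t})) '' (V : Set S)).Finite ∧
      ∀ d : WithBot ℕ∞, IsConstructible {t : V | topologicalKrullDim ↥(G.hom.base ⁻¹' {(t : S)}) = d} := by
  obtain ⟨V₁, hsV₁, hV₁⟩ := isConstructible_setOf_dim_fiber_le G s
  obtain ⟨m, hm⟩ := exists_nat_dim_fiber G s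
  have hC := isClosed_le_dim_fiber G (m + 1)
  let V₂ : S.Opens :=
    ⟨{s : S | ((m + 1 : ℕ) : WithBot ℕ∞) ≤ topologicalKrullDim (G.hom.fiber s)}ᶜ, hC.isOpen_compl⟩
  have hsV₂ : s ∈ V₂ := by
    change s ∈ {s : S | ((m + 1 : ℕ) : WithBot ℕ∞) ≤ topologicalKrullDim (G.hom.fiber s)}ᶜ
    simp only [Set.mem_compl_iff, Set.mem_ofPred_eq, not_le]
    rw [hm, Groth.Agent.Lib.H56LocDim.lt_succ_iff_le]
  have hle : ∀ t ∈ V₂, topologicalKrullDim (G.hom.fiber t) ≤ m := by
    intro t ht
    change t ∈ {s : S | ((m + 1 : ℕ) : WithBot ℕ∞) ≤ topologicalKrullDim (G.hom.fiber s)}ᶜ at ht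
    simp only [Set.mem_compl_iff, Set.mem_ofPred_eq, not_le] at ht
    rwa [Groth.Agent.Lib.H56LocDim.lt_succ_iff_le] at ht
  refine ⟨V₁ ⊓ V₂, ⟨hsV₁, hsV₂⟩, ?_, ?_⟩
  · refine ((Set.finite_Iic m).image (fun n : ℕ => (n : WithBot ℕ∞))).subset ?_
    rintro _ ⟨t, ht, rfl⟩
    obtain ⟨k, hk⟩ := exists_nat_dim_fiber G t
    have h1 := hle t ht.2
    rw [hk] at h1
    refine ⟨k, ?_, ?_⟩
    · exact_mod_cast h1
    · change (k : WithBot ℕ∞) = topologicalKrullDim ↥(G.hom.base ⁻¹' {t})
      rw [dim_preimage_eq, hk]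
  · intro d
    have hcons := hV₁ (V₁ ⊓ V₂) inf_le_left
    by_cases hd : ∃ n : ℕ, d = n
    · obtain ⟨n, rfl⟩ := hd
      cases n with
      | zero =>
        have : {t : ↥(V₁ ⊓ V₂) | topologicalKrullDim ↥(G.hom.base ⁻¹' {(t : S)}) = ((0 : ℕ) : WithBot ℕ∞)} =
            {t : ↥(V₁ ⊓ V₂) | topologicalKrullDim (G.hom.fiber (t : S)) ≤ ((0 : ℕ) : WithBot ℕ∞)} := by
          ext t
          simp only [Set.mem_ofPred_eq]
          rw [dim_preimage_eq]
          obtain ⟨k, hk⟩ := exists_nat_dim_fiber G (t : S)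
          rw [hk]
          constructor
          · intro h; rw [h]
          · intro h
            have : k ≤ 0 := by exact_mod_cast h
            have : k = 0 := Nat.le_zero.mp this
            rw [this]
        rw [this]
        exact hcons 0
      | succ n =>
        have : {t : ↥(V₁ ⊓ V₂) | topologicalKrullDim ↥(G.hom.base ⁻¹' {(t : S)}) = ((n + 1 : ℕ) : WithBot ℕ∞)} =
            {t : ↥(V₁ ⊓ V₂) | topologicalKrullDim (G.hom.fiber (t : S)) ≤ ((n + 1 : ℕ) : WithBot ℕ∞)} ∩
            {t : ↥(V₁ ⊓ V₂) | topologicalKrullDim (G.hom.fiber (t : S)) ≤ (n : WithBot ℕ∞)}ᶜ := by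
          ext t
          simp only [Set.mem_ofPred_eq, Set.mem_inter_iff, Set.mem_compl_iff]
          rw [dim_preimage_eq]
          obtain ⟨k, hk⟩ := exists_nat_dim_fiber G (t : S)
          rw [hk]
          constructor
          · intro h
            have hk' : k = n + 1 := by exact_mod_cast h
            subst hk'
            refine ⟨le_rfl, ?_⟩
            intro h2
            have : n + 1 ≤ n := by exact_mod_cast h2
            omega
          · rintro ⟨h1, h2⟩
            have h1' : k ≤ n + 1 := by exact_mod_cast h1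
            have h2' : ¬ k ≤ n := by
              intro h3
              apply h2
              exact_mod_cast h3
            have : k = n + 1 := by omega
            rw [this]
        rw [this]
        exact (hcons (n + 1)).inter (hcons n).compl
    · have : {t : ↥(V₁ ⊓ V₂) | topologicalKrullDim ↥(G.hom.base ⁻¹' {(t : S)}) = d} = ∅ := by
        ext t
        simp only [Set.mem_ofPred_eq, Set.mem_empty_iff_false, iff_false]
        intro h
        apply hd
        obtain ⟨k, hk⟩ := exists_nat_dim_fiber G (t : S)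
        refine ⟨k, ?_⟩
        rw [← h, dim_preimage_eq, hk]
      rw [this]
      exact IsConstructible.empty

end Groth.Agent.Lib.H71GrpDim
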