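import Groth.Agent.Lib.H71GeomRedOpen
import Groth.Agent.S7495
import Groth.Prelude.Def_Red
import Mathlib.AlgebraicGeometry.Group.Smooth

/-!
# Smoothness of group schemes over a field from reducedness near one point (helper71)

* `smooth_of_isReduced_stalk_of_isAlgClosed`: a group scheme l.f.t. over an algebraically closed field with a nonempty
  open subset all of whose local rings are reduced is smooth (dense smooth locus of the reduced open + homogeneity).
* `smooth_of_isReduced_stalk_bc`: the same after base change to the algebraic closure, concluding smoothness over `k`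
  (fpqc descent of smoothness).
-/

set_option autoImplicit false
universe u

open CategoryTheory CategoryTheory.Limits AlgebraicGeometry MonoidalCategory CartesianMonoidalCategory
  MonObj GrpObj

namespace Groth.Agent.Lib.H71GrpSmooth

/-- A group scheme locally of finite type over an algebraically closed field which has a nonempty open subset with
reduced local rings is smooth. -/
theorem smooth_of_isReduced_stalk_of_isAlgClosed {K : Type u} [Field K] [IsAlgClosed K]
    {G : Scheme.{u}} (f : G ⟶ Spec (.of K)) [LocallyOfFiniteType f] [GrpObj (Over.mk f)]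
    (W : G.Opens) (hne : (W : Set G).Nonempty)
    (hW : ∀ y ∈ W, _root_.IsReduced (G.presheaf.stalk y)) : Smooth f := by
  haveI : IsReduced (W : Scheme.{u}) := by
    haveI : ∀ w : ↥(W : Scheme.{u}), _root_.IsReduced ((W : Scheme.{u}).presheaf.stalk w) := by
      intro w
      have h1 := hW (W.ι w) (by simpa using w.2)
      have hiso : IsIso (W.ι.stalkMap w) := inferInstance
      exact isReduced_of_injective (inv (W.ι.stalkMap w)).hom
        ((ConcreteCategory.bijective_of_isIso (inv (W.ι.stalkMap w))).injective)
    exact isReduced_of_isReduced_stalk _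
  haveI : Nonempty ↥(W : Scheme.{u}) := by
    obtain ⟨y, hy⟩ := hne
    exact ⟨⟨y, hy⟩⟩
  obtain ⟨w, hw⟩ := ((W.ι ≫ f).dense_smoothLocus_of_perfectField).nonempty
  have hsm : W.ι w ∈ f.smoothLocus := by
    rw [SetLike.mem_coe, ← Scheme.Hom.preimage_smoothLocus_eq] at hw
    exact hw
  exact Groth.Agent.S7495.smooth_of_grpObj_of_isAlgClosed_of_nonempty f ⟨_, hsm⟩

/-- A group scheme `G` locally of finite type over a field `k` such that `G_{k̄}` has a nonempty open subset with
reduced local rings is smooth. -/
theorem smooth_of_isReduced_stalk_bc (k : Type u) [Field k]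
    (G : Over (Spec (CommRingCat.of k))) [GrpObj G] [LocallyOfFiniteType G.hom]
    (W : (Red.bc (Spec.map (CommRingCat.ofHom (algebraMap k (AlgebraicClosure k)))) G).left.Opens)
    (hne : (W : Set (Red.bc (Spec.map (CommRingCat.ofHom
      (algebraMap k (AlgebraicClosure k)))) G).left).Nonempty)
    (hW : ∀ y ∈ W, _root_.IsReduced ((Red.bc (Spec.map (CommRingCat.ofHom
      (algebraMap k (AlgebraicClosure k)))) G).left.presheaf.stalk y)) : Smooth G.hom := by
  let g : Spec (.of (AlgebraicClosure k)) ⟶ Spec (.of k) :=
    Spec.map (CommRingCat.ofHom (algebraMap k (AlgebraicClosure k)))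
  haveI hlft : LocallyOfFiniteType (Red.bc g G).hom :=
    MorphismProperty.pullback_snd (P := @LocallyOfFiniteType) _ _ inferInstance
  letI : GrpObj (Over.mk (Red.bc g G).hom) := (inferInstance : GrpObj (Red.bc g G))
  have hsm : Smooth (Red.bc g G).hom :=
    smooth_of_isReduced_stalk_of_isAlgClosed (Red.bc g G).hom W hne hW
  apply MorphismProperty.of_pullback_snd_of_descendsAlong
    (Q := @Surjective ⊓ @Flat ⊓ @QuasiCompact) (g := g)
  · exact ⟨⟨inferInstance, inferInstance⟩, inferInstance⟩
  · exact hsm

end Groth.Agent.Lib.H71GrpSmooth
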