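import Groth.Agent.Lib.H71GrpSmooth
import Groth.Agent.Lib.MacLane5H44
import Groth.Agent.Lib.H71GeomRedAt2

/-!
# Group schemes over a field: unit point of a base change, geometric reducedness from one perfect extension (helper71)

* `isGeometricallyReduced_of_isReduced_tensor_perfect`: `K ⊗[k] S` reduced for one perfect extension `K/k` implies `S`
  geometrically reduced over `k`.
* `fst_unit_bc`: the unit point of `G_K` maps to the unit point of `G`.
-/

set_option autoImplicit false
universe u

open CategoryTheory CategoryTheory.Limits AlgebraicGeometry MonoidalCategory CartesianMonoidalCategory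
  MonObj GrpObj TensorProduct

namespace Groth.Agent.Lib.H71GrpSmooth

/-- A `k`-algebra which stays reduced after tensoring with one perfect extension field is geometrically reduced. -/
theorem isGeometricallyReduced_of_isReduced_tensor_perfect (k K S : Type u) [Field k] [Field K]
    [Algebra k K] [PerfectField K] [CommRing S] [Algebra k S] (h : IsReduced (K ⊗[k] S)) :
    Algebra.IsGeometricallyReduced k S := by
  rw [Algebra.isGeometricallyReduced_field_iff]
  have h1 : IsReduced (AlgebraicClosure K ⊗[k] S) :=
    Groth.Agent.Lib.MacLane5H44.isReduced_tensor_of_tower_perfect k K (AlgebraicClosure K) S h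
  let φ : AlgebraicClosure k →ₐ[k] AlgebraicClosure K := IsAlgClosed.lift
  exact isReduced_of_injective (Algebra.TensorProduct.map φ (AlgHom.id k S))
    (Module.Flat.rTensor_preserves_injective_linearMap (M := S) φ.toLinearMap φ.injective)

/-- The unit point of the base change of a group scheme over a field lies over the unit point. -/
theorem fst_unit_bc (k : Type u) [Field k] (G : Over (Spec (CommRingCat.of k))) [GrpObj G]
    (K : Type u) [Field K] [Algebra k K]
    (pt : ↥(𝟙_ (Over (Spec (CommRingCat.of k)))).left)
    (t : ↥(𝟙_ (Over (Spec (CommRingCat.of K)))).left) :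
    (pullback.fst G.hom (Spec.map (CommRingCat.ofHom (algebraMap k K))))
      ((η[Red.bc (Spec.map (CommRingCat.ofHom (algebraMap k K))) G]).left t) = η[G].left pt := by
  have h1 : η[Red.bc (Spec.map (CommRingCat.ofHom (algebraMap k K))) G] =
      Functor.LaxMonoidal.ε (Over.pullback (Spec.map (CommRingCat.ofHom (algebraMap k K)))) ≫
        (Over.pullback (Spec.map (CommRingCat.ofHom (algebraMap k K)))).map η[G] := rfl
  rw [h1, Over.comp_left, Scheme.Hom.comp_apply, ← Scheme.Hom.comp_apply _ (pullback.fst _ _)]
  have h2 : ((Over.pullback (Spec.map (CommRingCat.ofHom (algebraMap k K)))).map η[G]).left ≫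
      pullback.fst G.hom (Spec.map (CommRingCat.ofHom (algebraMap k K))) =
      pullback.fst _ _ ≫ η[G].left := by
    simp only [Over.pullback_map_left]
    exact pullback.lift_fst _ _ _
  rw [h2, Scheme.Hom.comp_apply]
  congr 1
  exact Subsingleton.elim (α := PrimeSpectrum k) _ _

end Groth.Agent.Lib.H71GrpSmooth
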