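import Groth.Agent.Lib.H71GrpSmooth
import Groth.Agent.Lib.H14SmoothReg
import Groth.Agent.Lib.GrpDim45
import Groth.Agent.Lib.ClosedPtIntegral

/-!
# Group schemes over a field: smoothness and the tangent space at the unit (helper71)

* `smooth_of_nonempty_smoothLocus`: homogeneity over an arbitrary field (nonempty smooth locus ⇒ smooth).
* `isClosed_unit`, `stalkMap_unit_comp`, `bijective_algebraMap_residueField_unit`: the unit point is a closed
  `k`-rational point.
* `dim_le_finrank_cotangentSpace_unit`, `mem_smoothLocus_unit_iff`, `smooth_iff_dim_eq`, `smooth_iff_exists_open`.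
-/

set_option autoImplicit false
universe u

open CategoryTheory CategoryTheory.Limits AlgebraicGeometry MonoidalCategory CartesianMonoidalCategory
  MonObj GrpObj TensorProduct

namespace Groth.Agent.Lib.H71GrpSmooth

/-- Homogeneity: a group scheme locally of finite type over a field with nonempty smooth locus is smooth. -/
theorem smooth_of_nonempty_smoothLocus {k : Type u} [Field k] {G : Scheme.{u}}
    (f : G ⟶ Spec (.of k)) [LocallyOfFiniteType f] [GrpObj (Over.mk f)]
    (h : (f.smoothLocus : Set G).Nonempty) : Smooth f := by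
  let Ω : Type u := AlgebraicClosure k
  let g : Spec (.of Ω) ⟶ Spec (.of k) := Spec.map (CommRingCat.ofHom <| algebraMap k Ω)
  apply MorphismProperty.of_pullback_snd_of_descendsAlong
    (Q := @Surjective ⊓ @Flat ⊓ @QuasiCompact) (g := g)
  · exact ⟨⟨inferInstance, inferInstance⟩, inferInstance⟩
  · let : GrpObj (Over.mk (Limits.pullback.snd f g)) := Over.grpObjMkPullbackSnd
    apply Groth.Agent.S7495.smooth_of_grpObj_of_isAlgClosed_of_nonempty
    obtain ⟨y, hy⟩ := h
    obtain ⟨z, rfl⟩ := (pullback.fst f g).surjective y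
    refine ⟨z, ?_⟩
    let U := f.smoothLocus
    have hU : Smooth (U.ι ≫ f) := by
      rw [← Scheme.Hom.smoothLocus_eq_top_iff, ← Scheme.Hom.preimage_smoothLocus_eq]
      ext w
      simp
    have hsq := (isPullback_morphismRestrict (pullback.fst f g) U).paste_vert
      (IsPullback.of_hasPullback f g)
    have hV : Smooth (((pullback.fst f g) ⁻¹ᵁ U).ι ≫ pullback.snd f g) :=
      MorphismProperty.of_isPullback hsq hU
    rw [← Scheme.Hom.smoothLocus_eq_top_iff, ← Scheme.Hom.preimage_smoothLocus_eq] at hV
    have hz : z ∈ (pullback.fst f g) ⁻¹ᵁ U := hy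
    have hmem : (⟨z, hz⟩ : ↥((pullback.fst f g) ⁻¹ᵁ U)) ∈
        ((pullback.fst f g) ⁻¹ᵁ U).ι ⁻¹ᵁ (pullback.snd f g).smoothLocus := by
      rw [hV]; trivial
    exact hmem

section Unit

variable (k : Type u) [Field k] (G : Over (Spec (CommRingCat.of k))) [GrpObj G]

theorem unit_comp_hom : η[G].left ≫ G.hom = 𝟙 (Spec (CommRingCat.of k)) := Over.w η[G]

/-- The unit point of a group scheme over a field is closed. -/
theorem isClosed_unit : IsClosed ({η[G].left (IsLocalRing.closedPoint k)} : Set G.left) := by
  haveI : IsIntegralHom (η[G].left ≫ G.hom) := by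
    rw [unit_comp_hom]
    haveI : IsClosedImmersion (𝟙 (Spec (CommRingCat.of k))) := inferInstance
    infer_instance
  haveI : Subsingleton ↥(𝟙_ (Over (Spec (CommRingCat.of k)))).left :=
    inferInstanceAs (Subsingleton (PrimeSpectrum k))
  exact Groth.Agent.Lib.ClosedPtIntegral.isClosed_singleton_of_integral η[G].left G.hom _

end Unit


section Unit2

variable (k : Type u) [Field k] (G : Over (Spec (CommRingCat.of k))) [GrpObj G]

attribute [local instance] Curv2.stalkAlgebra

/-- The stalk map of the unit section is a retraction of `k → 𝒪_{G,e}`. -/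
theorem stalkMap_unit_comp :
    letI : G.left.Over (Spec (CommRingCat.of k)) := ⟨G.hom⟩
    ((η[G].left.stalkMap (IsLocalRing.closedPoint k)).hom).comp
        (Curv2.stalkMap k G.left (η[G].left (IsLocalRing.closedPoint k))) =
      (((Spec (CommRingCat.of k)).presheaf.Γgerm (IsLocalRing.closedPoint k)).hom).comp
        (Scheme.ΓSpecIso (CommRingCat.of k)).inv.hom := by
  letI : G.left.Over (Spec (CommRingCat.of k)) := ⟨G.hom⟩
  have h1 : G.left.presheaf.germ ⊤ (η[G].left (IsLocalRing.closedPoint k)) trivial ≫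
      η[G].left.stalkMap (IsLocalRing.closedPoint k) =
      η[G].left.app ⊤ ≫ (𝟙_ (Over (Spec (CommRingCat.of k)))).left.presheaf.germ
        (η[G].left ⁻¹ᵁ ⊤) (IsLocalRing.closedPoint k) trivial :=
    Scheme.Hom.germ_stalkMap η[G].left ⊤ (IsLocalRing.closedPoint k) trivial
  have h2 : G.hom.appTop ≫ η[G].left.appTop = 𝟙 _ := by
    rw [← Scheme.Hom.comp_appTop, unit_comp_hom]
    rfl
  have h3 : (Scheme.ΓSpecIso (CommRingCat.of k)).inv ≫ G.hom.appTop ≫
      G.left.presheaf.germ ⊤ (η[G].left (IsLocalRing.closedPoint k)) trivial ≫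
      η[G].left.stalkMap (IsLocalRing.closedPoint k) =
      (Scheme.ΓSpecIso (CommRingCat.of k)).inv ≫
        (Spec (CommRingCat.of k)).presheaf.Γgerm (IsLocalRing.closedPoint k) := by
    rw [h1]
    change (Scheme.ΓSpecIso (CommRingCat.of k)).inv ≫ G.hom.appTop ≫
      η[G].left.appTop ≫ _ = _
    rw [reassoc_of% h2]
    rfl
  exact congrArg CommRingCat.Hom.hom h3

end Unit2


section Unit3

variable (k : Type u) [Field k] (G : Over (Spec (CommRingCat.of k))) [GrpObj G]

attribute [local instance] Curv2.stalkAlgebra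

/-- The residue field at the unit point is `k`. -/
theorem bijective_algebraMap_residueField_unit :
    letI : G.left.Over (Spec (CommRingCat.of k)) := ⟨G.hom⟩
    Function.Bijective (algebraMap k
      (IsLocalRing.ResidueField (G.left.presheaf.stalk (η[G].left (IsLocalRing.closedPoint k))))) := by
  letI : G.left.Over (Spec (CommRingCat.of k)) := ⟨G.hom⟩
  refine ⟨(algebraMap k _).injective, fun x => ?_⟩
  obtain ⟨b, rfl⟩ := IsLocalRing.residue_surjective x
  have hφ := Groth.Agent.Lib.H14SmoothReg.bijective_toStalk_field k (IsLocalRing.closedPoint k)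
  have hcomp := stalkMap_unit_comp k G
  obtain ⟨c, hc⟩ := hφ.2 ((η[G].left.stalkMap (IsLocalRing.closedPoint k)).hom b)
  refine ⟨c, ?_⟩
  rw [IsScalarTower.algebraMap_apply k
    (G.left.presheaf.stalk (η[G].left (IsLocalRing.closedPoint k))) (IsLocalRing.ResidueField _),
    IsLocalRing.ResidueField.algebraMap_eq]
  symm
  rw [← sub_eq_zero, ← map_sub, IsLocalRing.residue_eq_zero_iff]
  intro hu
  have h0 : (η[G].left.stalkMap (IsLocalRing.closedPoint k)).hom
      (b - algebraMap k (G.left.presheaf.stalk (η[G].left (IsLocalRing.closedPoint k))) c) = 0 := by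
    rw [map_sub, sub_eq_zero, ← hc]
    exact (congrArg (fun ψ : k →+* _ => ψ c) hcomp).symm
  have hu' := hu.map (η[G].left.stalkMap (IsLocalRing.closedPoint k)).hom
  rw [h0] at hu'
  exact not_isUnit_zero hu'

end Unit3


section Main

variable (k : Type u) [Field k] (G : Over (Spec (CommRingCat.of k))) [GrpObj G]
  [LocallyOfFiniteType G.hom]

theorem dim_le_finrank_cotangentSpace_unit :
    topologicalKrullDim G.left ≤ ((Module.finrank
      (IsLocalRing.ResidueField (G.left.presheaf.stalk (η[G].left (IsLocalRing.closedPoint k))))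
      (IsLocalRing.CotangentSpace (G.left.presheaf.stalk (η[G].left (IsLocalRing.closedPoint k)))) :
        ℕ∞) : WithBot ℕ∞) := by
  haveI : IsLocallyNoetherian G.left := LocallyOfFiniteType.isLocallyNoetherian G.hom
  rw [← Groth.Agent.Lib.GrpDim45.ringKrullDim_stalk_eq_dim G _ (isClosed_unit k G)]
  have h1 := ringKrullDim_le_spanFinrank_maximalIdeal
    (G.left.presheaf.stalk (η[G].left (IsLocalRing.closedPoint k)))
  rw [IsLocalRing.spanFinrank_maximalIdeal_eq_finrank_cotangentSpace] at h1
  exact h1

theorem mem_smoothLocus_unit_iff :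
    η[G].left (IsLocalRing.closedPoint k) ∈ G.hom.smoothLocus ↔
      IsRegularLocalRing (G.left.presheaf.stalk (η[G].left (IsLocalRing.closedPoint k))) := by
  letI : G.left.Over (Spec (CommRingCat.of k)) := ⟨G.hom⟩
  letI := Curv2.stalkAlgebra k G.left (η[G].left (IsLocalRing.closedPoint k))
  haveI hlft : LocallyOfFiniteType (G.left ↘ Spec (CommRingCat.of k)) :=
    inferInstanceAs (LocallyOfFiniteType G.hom)
  haveI : LocallyOfFinitePresentation (G.left ↘ Spec (CommRingCat.of k)) :=
    LocallyOfFinitePresentation.iff_locallyOfFiniteType.2 hlft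
  haveI : Algebra.FormallySmooth k (IsLocalRing.ResidueField
      (G.left.presheaf.stalk (η[G].left (IsLocalRing.closedPoint k)))) :=
    .of_equiv (AlgEquiv.ofBijective (Algebra.ofId k _) (bijective_algebraMap_residueField_unit k G))
  exact Groth.Agent.Lib.H14SmoothReg.mem_smoothLocus_iff_isRegularLocalRing_of_residueField k G.left
    (η[G].left (IsLocalRing.closedPoint k))

end Main


section Main2

variable (k : Type u) [Field k] (G : Over (Spec (CommRingCat.of k))) [GrpObj G]
  [LocallyOfFiniteType G.hom]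

theorem smooth_iff_dim_eq :
    Smooth G.hom ↔ topologicalKrullDim G.left = ((Module.finrank
      (IsLocalRing.ResidueField (G.left.presheaf.stalk (η[G].left (IsLocalRing.closedPoint k))))
      (IsLocalRing.CotangentSpace (G.left.presheaf.stalk (η[G].left (IsLocalRing.closedPoint k)))) :
        ℕ∞) : WithBot ℕ∞) := by
  haveI : IsLocallyNoetherian G.left := LocallyOfFiniteType.isLocallyNoetherian G.hom
  letI : GrpObj (Over.mk G.hom) := ‹GrpObj G›
  rw [← Groth.Agent.Lib.GrpDim45.ringKrullDim_stalk_eq_dim G _ (isClosed_unit k G)]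
  constructor
  · intro h
    have hmem : η[G].left (IsLocalRing.closedPoint k) ∈ G.hom.smoothLocus := by
      rw [(Scheme.Hom.smoothLocus_eq_top_iff (f := G.hom)).2 h]; trivial
    have hreg := (mem_smoothLocus_unit_iff k G).1 hmem
    exact ((IsRegularLocalRing.iff_finrank_cotangentSpace _).1 hreg).symm
  · intro h
    have hreg : IsRegularLocalRing
        (G.left.presheaf.stalk (η[G].left (IsLocalRing.closedPoint k))) :=
      (IsRegularLocalRing.iff_finrank_cotangentSpace _).2 h.symm
    have hmem := (mem_smoothLocus_unit_iff k G).2 hreg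
    exact smooth_of_nonempty_smoothLocus G.hom ⟨_, hmem⟩

theorem smooth_iff_exists_open :
    Smooth G.hom ↔ ∃ U : G.left.Opens, η[G].left (IsLocalRing.closedPoint k) ∈ U ∧
      Smooth (U.ι ≫ G.hom) := by
  haveI : IsLocallyNoetherian G.left := LocallyOfFiniteType.isLocallyNoetherian G.hom
  letI : GrpObj (Over.mk G.hom) := ‹GrpObj G›
  haveI : LocallyOfFinitePresentation G.hom :=
    LocallyOfFinitePresentation.iff_locallyOfFiniteType.2 inferInstance
  constructor
  · intro h
    exact ⟨⊤, trivial, inferInstance⟩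
  · rintro ⟨U, heU, hU⟩
    have h1 : U.ι ⁻¹ᵁ G.hom.smoothLocus = ⊤ := by
      rw [Scheme.Hom.preimage_smoothLocus_eq, Scheme.Hom.smoothLocus_eq_top_iff]
      exact hU
    have hmem : (⟨η[G].left (IsLocalRing.closedPoint k), heU⟩ : ↥U) ∈
        U.ι ⁻¹ᵁ G.hom.smoothLocus := by
      rw [h1]; trivial
    exact smooth_of_nonempty_smoothLocus G.hom ⟨_, hmem⟩

end Main2

end Groth.Agent.Lib.H71GrpSmooth
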