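import Mathlib
import Groth.Prelude
import Groth.Agent.Lib.H71HomLocus2
import Groth.Agent.Lib.OpenImmFibres

set_option autoImplicit false
universe u

open CategoryTheory CategoryTheory.Limits MonoidalCategory CartesianMonoidalCategory MonObj GrpObj
  AlgebraicGeometry

namespace Groth.Agent.Lib.H71HomLocus

variable {S : Scheme.{u}} {G H : Over S} [GrpObj G] [GrpObj H] (u : G ⟶ H) [IsMonHom u]
  [Flat G.hom] [LocallyOfFinitePresentation G.hom] [LocallyOfFiniteType H.hom]

/-- S5317 -/
theorem openImm_locus [UniversallyInjective u.left] :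
    IsOpen {s : S | IsOpenImmersion ((Over.pullback (S.fromSpecResidueField s)).map u).left} ∧
    ∀ W : S.Opens, (W : Set S) ⊆ {s : S | IsOpenImmersion ((Over.pullback (S.fromSpecResidueField s)).map u).left} →
      IsOpenImmersion ((G.hom ⁻¹ᵁ W).ι ≫ u.left) := by
  have hEq : {s : S | IsOpenImmersion ((Over.pullback (S.fromSpecResidueField s)).map u).left} =
      {s : S | Etale ((Over.pullback (S.fromSpecResidueField s)).map u).left} := by
    ext s
    simp only [Set.mem_setOf_eq]
    constructor
    · intro h; infer_instance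
    · intro h
      have : UniversallyInjective ((Over.pullback (S.fromSpecResidueField s)).map u).left :=
        MorphismProperty.of_isPullback (P := @UniversallyInjective) (isPullback_fibHom u s) inferInstance
      exact Groth.Agent.Lib.OpenImmFibres.isOpenImmersion_of_etale_of_universallyInjective _
  have key := etale_locus u
  rw [hEq]
  refine ⟨key.1, fun W hW => ?_⟩
  have := lfp_left u
  have hE : Etale ((G.hom ⁻¹ᵁ W).ι ≫ u.left) := by
    rw [etale_iff_forall_stalk]
    intro x
    have hx : x.1 ∈ G.hom.base ⁻¹' {s : S | Etale ((Over.pullback (S.fromSpecResidueField s)).map u).left} :=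
      hW x.2
    rw [← key.2] at hx
    obtain ⟨V, hxV, hV⟩ := hx
    rw [← Groth.Agent.Lib.H80EtaleStalk.exists_etale_nhd_iff]
    refine ⟨(G.hom ⁻¹ᵁ W).ι ⁻¹ᵁ V, hxV, ?_⟩
    have e : ((G.hom ⁻¹ᵁ W).ι ⁻¹ᵁ V).ι ≫ (G.hom ⁻¹ᵁ W).ι ≫ u.left =
        ((G.hom ⁻¹ᵁ W).ι ∣_ V) ≫ V.ι ≫ u.left := by
      rw [← Category.assoc, ← Category.assoc, morphismRestrict_ι]
    rw [e]
    infer_instance
  have : UniversallyInjective ((G.hom ⁻¹ᵁ W).ι ≫ u.left) :=
    MorphismProperty.comp_mem _ _ _ inferInstance inferInstance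
  exact Groth.Agent.Lib.OpenImmFibres.isOpenImmersion_of_etale_of_universallyInjective _

end Groth.Agent.Lib.H71HomLocus
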