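import Groth.Agent.Lib.H71SubgrpSet
import Mathlib.Topology.Constructible
import Mathlib.AlgebraicGeometry.Morphisms.FinitePresentation
import Mathlib.AlgebraicGeometry.Noetherian
import Groth.Agent.Lib.H71GenSubgrp3

set_option autoImplicit false
universe u

open CategoryTheory CategoryTheory.Limits AlgebraicGeometry TopologicalSpace
open MonoidalCategory CartesianMonoidalCategory MonObj GrpObj
open Topology

namespace Groth.Agent.Lib.H71ImageClosed

section Top

variable {α : Type*} [TopologicalSpace α]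

/-- Constructible sets have nowhere dense frontier. -/
theorem interior_frontier_of_isConstructible {s : Set α} (hs : IsConstructible s) :
    interior (frontier s) = ∅ := by
  induction hs using IsConstructible.empty_union_induction with
  | open_retrocompact U hU _ =>
    rw [← frontier_compl]
    exact interior_frontier hU.isClosed_compl
  | union s _ t _ hs ht =>
    rw [← Set.subset_empty_iff]
    have hsub : frontier (s ∪ t) ⊆ frontier s ∪ frontier t :=
      (frontier_union_subset s t).trans
        (Set.union_subset_union Set.inter_subset_left Set.inter_subset_right)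
    refine (interior_mono hsub).trans ?_
    rw [interior_union_isClosed_of_interior_empty isClosed_frontier ht, hs]
  | compl s _ hs =>
    rw [frontier_compl]
    exact hs

/-- A dense constructible subset of a nonempty space has nonempty interior. -/
theorem nonempty_interior_of_isConstructible_of_dense [Nonempty α] {s : Set α}
    (hs : IsConstructible s) (hd : Dense s) : (interior s).Nonempty := by
  by_contra hne
  rw [Set.not_nonempty_iff_eq_empty] at hne
  have h := interior_frontier_of_isConstructible hs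
  rw [frontier, hd.closure_eq, hne, Set.sdiff_empty, interior_univ] at h
  exact Set.empty_ne_univ h.symm

/-- A dense locally constructible subset of a nonempty space has nonempty interior. -/
theorem nonempty_interior_of_isLocallyConstructible_of_dense [Nonempty α] {s : Set α}
    (hs : IsLocallyConstructible s) (hd : Dense s) : (interior s).Nonempty := by
  obtain ⟨x⟩ := (inferInstance : Nonempty α)
  obtain ⟨U, hUx, hUo, hc⟩ := hs x
  have hxU : x ∈ U := mem_of_mem_nhds hUx
  haveI : Nonempty U := ⟨⟨x, hxU⟩⟩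
  have hdU : Dense (Subtype.val ⁻¹' s : Set U) := by
    intro y
    rw [mem_closure_iff]
    intro o ho hyo
    obtain ⟨o', ho', rfl⟩ := isOpen_induced_iff.mp ho
    have hopen : IsOpen (o' ∩ U) := ho'.inter hUo
    obtain ⟨z, hz⟩ := hd.inter_open_nonempty (o' ∩ U) hopen ⟨y, hyo, y.2⟩
    exact ⟨⟨z, hz.1.2⟩, hz.1.1, hz.2⟩
  obtain ⟨y, hy⟩ := nonempty_interior_of_isConstructible_of_dense hc hdU
  rw [mem_interior] at hy
  obtain ⟨V, hVs, hVo, hyV⟩ := hy
  refine ⟨y, ?_⟩
  rw [mem_interior]
  refine ⟨Subtype.val '' V, ?_, hUo.isOpenMap_subtype_val V hVo, ⟨y, hyV, rfl⟩⟩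
  rintro _ ⟨w, hw, rfl⟩
  exact hVs hw

end Top

section Grp

open Groth.Agent.Lib.GrpTopPts45 Groth.Agent.Lib.H71SubgrpSet

variable {k : Type u} [Field k] {Γ X : Over (Spec (CommRingCat.of k))} [GrpObj Γ]

/-- A subgroup-subset with nonempty interior is open. -/
theorem isOpen_of_isSubgrpSet_of_nonempty_interior {W : Set Γ.left} (hW : IsSubgrpSet Γ W)
    (hne : (interior W).Nonempty) : IsOpen W := by
  obtain ⟨u, hu⟩ := hne
  have hO : IsOpen (interior W) := isOpen_interior
  have hOW : interior W ⊆ W := interior_subset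
  refine hW.isOpen (V := mulSet Γ (ι[Γ].left '' interior W) (interior W))
    (isOpen_mulSet_right _ hO) ?_ ?_
  · have h0 := mul_mem_mulSet (ι[Γ]) (𝟙 Γ) u (A := ι[Γ].left '' interior W) (B := interior W)
      ⟨u, hu, rfl⟩ (by simpa using hu)
    have h1 : (ι[Γ] * 𝟙 Γ : Γ ⟶ Γ) = 1 := by
      have h2 : ι[Γ] = (𝟙 Γ : Γ ⟶ Γ)⁻¹ := by rw [Hom.inv_def, Category.id_comp]
      rw [h2, inv_mul_cancel]
    rw [h1, one_left_apply] at h0
    exact h0
  · exact (mulSet_mono ((Set.image_mono hOW).trans hW.inv_mem) hOW).trans hW.mul_mem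

/-- The image of a morphism closed under products and inverses (on `T`-points) is a subgroup-subset. -/
theorem isSubgrpSet_range_of_mul_closed (f' : X ⟶ Γ) (hU : unitPt Γ ∈ Set.range f'.left)
    (hM : ∀ (T : Over (Spec (CommRingCat.of k))) (x₁ x₂ : T ⟶ X),
      ∃ x₃ : T ⟶ X, (x₁ ≫ f') * (x₂ ≫ f') = x₃ ≫ f')
    (hI : ∀ (T : Over (Spec (CommRingCat.of k))) (x : T ⟶ X), ∃ x' : T ⟶ X, (x ≫ f')⁻¹ = x' ≫ f') :
    IsSubgrpSet Γ (Set.range f'.left) where
  one_mem := hU
  mul_mem := by
    intro y hy
    obtain ⟨Q, z, c, d, ⟨t, ht⟩, hd, rfl⟩ := mem_mulSet_iff.mp hy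
    obtain ⟨Q₁, q₁, q₁', z₁, hz₁, -, hq₁⟩ := exists_common c f' z t ht.symm
    have hd' : (q₁ ≫ d).left z₁ ∈ Set.range f'.left := by
      rw [comp_left_apply, hz₁]; exact hd
    obtain ⟨t', ht'⟩ := hd'
    obtain ⟨Q₂, q₂, q₂', z₂, hz₂, -, hq₂⟩ := exists_common (q₁ ≫ d) f' z₁ t' ht'.symm
    obtain ⟨x₃, hx₃⟩ := hM Q₂ (q₂ ≫ q₁') q₂'
    refine ⟨x₃.left z₂, ?_⟩
    rw [← comp_left_apply, ← hx₃, Category.assoc, ← hq₁, ← hq₂, ← Category.assoc, ← Category.assoc,
      ← MonObj.comp_mul, comp_left_apply, comp_left_apply, hz₂, hz₁]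
  inv_mem := by
    rintro _ ⟨_, ⟨t, rfl⟩, rfl⟩
    obtain ⟨x', hx'⟩ := hI X (𝟙 X)
    refine ⟨x'.left t, ?_⟩
    rw [← comp_left_apply, ← hx', Category.id_comp, inv_left_apply]

/-- **Closedness of multiplicatively closed images.** A dominant morphism of finite type from a `k`-scheme to a
`k`-group scheme locally of finite type whose image is closed under products and inverses is surjective. -/
theorem range_eq_univ_of_mul_closed [LocallyOfFiniteType Γ.hom] [LocallyOfFiniteType X.hom]
    [QuasiCompact X.hom] (f' : X ⟶ Γ) (hU : unitPt Γ ∈ Set.range f'.left)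
    (hM : ∀ (T : Over (Spec (CommRingCat.of k))) (x₁ x₂ : T ⟶ X),
      ∃ x₃ : T ⟶ X, (x₁ ≫ f') * (x₂ ≫ f') = x₃ ≫ f')
    (hI : ∀ (T : Over (Spec (CommRingCat.of k))) (x : T ⟶ X), ∃ x' : T ⟶ X, (x ≫ f')⁻¹ = x' ≫ f')
    (hd : Dense (Set.range f'.left)) : Set.range f'.left = Set.univ := by
  have hW := isSubgrpSet_range_of_mul_closed f' hU hM hI
  haveI : IsLocallyNoetherian Γ.left := LocallyOfFiniteType.isLocallyNoetherian Γ.hom
  haveI : LocallyOfFiniteType (f'.left ≫ Γ.hom) := by rw [Over.w]; infer_instance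
  haveI : LocallyOfFiniteType f'.left := locallyOfFiniteType_of_comp f'.left Γ.hom
  haveI : LocallyOfFinitePresentation f'.left := inferInstance
  haveI : IsSeparated Γ.hom := Groth.Agent.Lib.H71GenSubgrp.isSeparated_of_grpObj Γ
  haveI : QuasiCompact (f'.left ≫ Γ.hom) := by rw [Over.w]; infer_instance
  haveI : QuasiCompact f'.left := QuasiCompact.of_comp f'.left Γ.hom
  have hc : IsLocallyConstructible (Set.range f'.left) := by
    rw [← Set.image_univ]
    exact f'.left.isLocallyConstructible_image IsLocallyConstructible.univ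
  haveI : Nonempty Γ.left := ⟨unitPt Γ⟩
  have hne := nonempty_interior_of_isLocallyConstructible_of_dense hc hd
  have ho := isOpen_of_isSubgrpSet_of_nonempty_interior hW hne
  have hcl := hW.isClosed ho
  rw [← hcl.closure_eq, hd.closure_eq]

end Grp

end Groth.Agent.Lib.H71ImageClosed
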