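import Groth.Agent.Lib.H71ConstField

/-!
# Fields separably closed in an extension and geometric connectedness (helper71)

* `geometricallyConnected_of_forall_finite_separable_trivial`: a connected `k₀`-scheme whose structure morphism factors
  through no nontrivial finite separable extension of `k₀` is geometrically connected.
* `geometricallyConnected_SpecMap_of_sepClosedIn`: if `k₀` is separably closed in `K` then `Spec K ⟶ Spec k₀` is
  geometrically connected.
* `geometricallyConnected_SpecMap_separableClosure`: the case `k₀ = separableClosure k K`.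
-/
set_option autoImplicit false
universe u
open CategoryTheory CategoryTheory.Limits AlgebraicGeometry TensorProduct

namespace Groth.Agent.Lib.H71SepClosedIn

open Groth.Agent.Lib.H71GalConn Groth.Agent.Lib.H71ConstField

/-- A connected `k₀`-scheme whose structure morphism factors through no nontrivial finite separable extension of
`k₀` is geometrically connected. -/
theorem geometricallyConnected_of_forall_finite_separable_trivial {k₀ : Type u} [Field k₀]
    {X : Scheme.{u}} [ConnectedSpace X] (a : X ⟶ Spec (CommRingCat.of k₀))
    (h : ∀ (L₁ : Type u) [Field L₁] [Algebra k₀ L₁] [FiniteDimensional k₀ L₁] [Algebra.IsSeparable k₀ L₁]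
      (χ : X ⟶ Spec (CommRingCat.of L₁)),
      χ ≫ Spec.map (CommRingCat.ofHom (algebraMap k₀ L₁)) = a → Function.Surjective (algebraMap k₀ L₁)) :
    GeometricallyConnected a := by
  apply Groth.Agent.Lib.H71FinSepConn.geometricallyConnected_of_forall_finite_separable
  intro K _ _ _ _
  let φ : K →ₐ[k₀] SeparableClosure k₀ := IsSepClosed.lift
  letI : Algebra K (SeparableClosure k₀) := φ.toRingHom.toAlgebra
  haveI : IsScalarTower k₀ K (SeparableClosure k₀) :=
    IsScalarTower.of_algebraMap_eq fun x => (φ.commutes x).symm
  let L := IntermediateField.normalClosure k₀ K (SeparableClosure k₀)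
  haveI : IsGalois k₀ L := IsGalois.normalClosure k₀ K (SeparableClosure k₀)
  haveI : FiniteDimensional k₀ L := normalClosure.is_finiteDimensional k₀ K (SeparableClosure k₀)
  haveI : ConnectedSpace ↥(pullback a (Spec.map (CommRingCat.ofHom (algebraMap k₀ L)))) := by
    by_contra hcon
    obtain ⟨L₁, hL₁, χ, hχ⟩ := exists_intermediateField_of_not_connected L a hcon
    haveI : Algebra.IsSeparable k₀ L₁ := Algebra.isSeparable_tower_bot_of_isSeparable k₀ L₁ L
    have hsurj := h L₁ χ hχ
    obtain ⟨l, hl, hlbot⟩ := SetLike.exists_of_lt (bot_lt_iff_ne_bot.mpr hL₁)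
    obtain ⟨c, hc⟩ := hsurj ⟨l, hl⟩
    apply hlbot
    rw [IntermediateField.mem_bot]
    exact ⟨c, congrArg Subtype.val hc⟩
  obtain ⟨m, hm⟩ := exists_surjective_tower K L a
  exact hm.connectedSpace m.continuous

/-- If `k₀` is separably closed in the field `K`, then `Spec K ⟶ Spec k₀` is geometrically connected. -/
theorem geometricallyConnected_SpecMap_of_sepClosedIn {k₀ K : Type u} [Field k₀] [Field K] [Algebra k₀ K]
    (hsc : ∀ y : K, IsSeparable k₀ y → y ∈ (algebraMap k₀ K).range) :
    GeometricallyConnected (Spec.map (CommRingCat.ofHom (algebraMap k₀ K))) := by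
  apply geometricallyConnected_of_forall_finite_separable_trivial
  intro L₁ _ _ _ _ χ hχ
  obtain ⟨θ, rfl⟩ := Spec.map_surjective χ
  rw [← Spec.map_comp] at hχ
  have hθ : θ.hom.comp (algebraMap k₀ L₁) = algebraMap k₀ K := by
    have := Spec.map_injective hχ
    exact congrArg CommRingCat.Hom.hom this
  intro l
  let θa : L₁ →ₐ[k₀] K := { θ.hom with commutes' := fun c => RingHom.congr_fun hθ c }
  have hsep : IsSeparable k₀ (θa l) :=
    (Algebra.IsSeparable.isSeparable k₀ l).map θa θa.injective
  obtain ⟨c, hc⟩ := hsc _ hsep
  refine ⟨c, ?_⟩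
  apply θa.injective
  exact (θa.commutes c).trans hc

/-- `Spec K ⟶ Spec (separableClosure k K)` is geometrically connected. -/
theorem geometricallyConnected_SpecMap_separableClosure (k K : Type u) [Field k] [Field K] [Algebra k K] :
    GeometricallyConnected
      (Spec.map (CommRingCat.ofHom (algebraMap (separableClosure k K) K))) := by
  apply geometricallyConnected_SpecMap_of_sepClosedIn
  intro y hy
  have hy' : IsSeparable k y := IsSeparable.of_algebra_isSeparable_of_isSeparable k hy
  exact ⟨⟨y, mem_separableClosure_iff.mpr hy'⟩, rfl⟩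

end Groth.Agent.Lib.H71SepClosedIn
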