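import Groth.Agent.Lib.H71ConnCompImage
import Groth.Agent.Lib.FiniteAlgPoints
import Groth.Agent.Lib.H71SepClosedIn

/-!
# Bounding the number of geometric connected components (helper71)

* `card_pullback_le_finrank`: `Spec k' ×_k Spec Ω` has at most `[k':k]` points (`k'/k` finite, `Ω` alg. closed).
* `card_connectedComponents_le_finrank`: a connected `k`-scheme `X` with a `K`-valued point such that the separable
  closure `k'` of `k` in `K` is finite has `#π₀(X_Ω) ≤ [k':k]` (EGA IV 4.5.x).
-/
set_option autoImplicit false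
universe u
open CategoryTheory CategoryTheory.Limits AlgebraicGeometry TensorProduct

namespace Groth.Agent.Lib.H71Pi0Bound

open Groth.Agent.Lib.H71ConnCompImage Groth.Agent.Lib.FieldBC13 Groth.Agent.Lib.H71SepClosedIn

/-- `Spec k' ×_k Spec Ω` has at most `[k':k]` points for `k'/k` finite and `Ω` algebraically closed. -/
theorem card_pullback_le_finrank (k k' Ω : Type u) [Field k] [Field k'] [Field Ω] [Algebra k k'] [Algebra k Ω]
    [FiniteDimensional k k'] [IsAlgClosed Ω] :
    Finite ↥(pullback (Spec.map (CommRingCat.ofHom (algebraMap k k')))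
        (Spec.map (CommRingCat.ofHom (algebraMap k Ω)))) ∧
      Nat.card ↥(pullback (Spec.map (CommRingCat.ofHom (algebraMap k k')))
        (Spec.map (CommRingCat.ofHom (algebraMap k Ω)))) ≤ Module.finrank k k' := by
  let e₁ : ↥(pullback (Spec.map (CommRingCat.ofHom (algebraMap k k')))
        (Spec.map (CommRingCat.ofHom (algebraMap k Ω)))) ≃ PrimeSpectrum (k' ⊗[k] Ω) :=
    (pullbackSpecIso k k' Ω).hom.homeomorph.toEquiv
  let e₂ : PrimeSpectrum (k' ⊗[k] Ω) ≃ PrimeSpectrum (Ω ⊗[k] k') :=
    (PrimeSpectrum.comapEquiv (Algebra.TensorProduct.comm k Ω k').toRingEquiv).symm.toEquiv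
  have hfin : Finite (PrimeSpectrum (Ω ⊗[k] k')) := by
    haveI : IsArtinianRing (Ω ⊗[k] k') := IsArtinianRing.of_finite Ω _
    infer_instance
  have hcard : Nat.card (PrimeSpectrum (Ω ⊗[k] k')) ≤ Module.finrank k k' := by
    rw [Groth.Agent.Lib.FiniteAlgPoints.card_primeSpectrum_tensor k k' Ω,
      ← Field.finSepDegree_eq_of_isAlgClosed]
    exact Field.finSepDegree_le_finrank k k'
  refine ⟨Finite.of_equiv _ (e₁.trans e₂).symm, ?_⟩
  rw [Nat.card_congr (e₁.trans e₂)]
  exact hcard

/-- If `X` is a connected `k`-scheme with a `K`-point (`K` a field) such that the separable closure `k'` of `k` in `K`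
is finite over `k`, then `X_Ω` has at most `[k':k]` connected components for `Ω` algebraically closed. -/
theorem card_connectedComponents_le_finrank {k Ω : Type u} [Field k] [Field Ω] [Algebra k Ω] [IsAlgClosed Ω]
    {X : Scheme.{u}} [ConnectedSpace X] (f : X ⟶ Spec (CommRingCat.of k))
    (K : Type u) [Field K] [Algebra k K] (ιx : Spec (CommRingCat.of K) ⟶ X)
    (hι : ιx ≫ f = Spec.map (CommRingCat.ofHom (algebraMap k K)))
    [FiniteDimensional k (separableClosure k K)] :
    Finite (_root_.ConnectedComponents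
        ↥(pullback f (Spec.map (CommRingCat.ofHom (algebraMap k Ω))))) ∧
      Nat.card (_root_.ConnectedComponents
        ↥(pullback f (Spec.map (CommRingCat.ofHom (algebraMap k Ω))))) ≤
        Module.finrank k (separableClosure k K) := by
  have hab : Spec.map (CommRingCat.ofHom (algebraMap (separableClosure k K) K)) ≫
      Spec.map (CommRingCat.ofHom (algebraMap k (separableClosure k K))) = ιx ≫ f := by
    rw [hι, ← Spec.map_comp, ← CommRingCat.ofHom_comp, ← IsScalarTower.algebraMap_eq]
  haveI hgc : GeometricallyConnected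
      (Spec.map (CommRingCat.ofHom (algebraMap (separableClosure k K) K))) :=
    geometricallyConnected_SpecMap_separableClosure k K
  have hpb₁ := isPullback_mapK Ω f (ιx ≫ f) ιx rfl
  have hpb₂ := isPullback_mapK Ω (Spec.map (CommRingCat.ofHom (algebraMap k (separableClosure k K))))
    (ιx ≫ f) (Spec.map (CommRingCat.ofHom (algebraMap (separableClosure k K) K))) hab
  haveI hgc₂ : GeometricallyConnected (mapK Ω
      (Spec.map (CommRingCat.ofHom (algebraMap k (separableClosure k K))))
      (ιx ≫ f) (Spec.map (CommRingCat.ofHom (algebraMap (separableClosure k K) K))) hab) :=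
    MorphismProperty.of_isPullback hpb₂.flip hgc
  obtain ⟨hTfin, hTcard⟩ := card_pullback_le_finrank k (separableClosure k K) Ω
  let pt : ↥(Spec (CommRingCat.of K)) := IsLocalRing.closedPoint K
  have key : ∀ c : _root_.ConnectedComponents
      ↥(pullback f (Spec.map (CommRingCat.ofHom (algebraMap k Ω)))),
      ∃ p : ↥(pullback (ιx ≫ f) (Spec.map (CommRingCat.ofHom (algebraMap k Ω)))),
        (↑(mapK Ω f (ιx ≫ f) ιx rfl p) : _root_.ConnectedComponents _) = c := by
    intro c
    obtain ⟨y₀, rfl⟩ := ConnectedComponents.surjective_coe c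
    obtain ⟨y, hy, hyx⟩ := exists_mem_connectedComponent_of_connectedSpace Ω f y₀ (ιx pt)
    obtain ⟨p, hp1, hp2⟩ := Scheme.exists_preimage_of_isPullback hpb₁ y pt hyx
    refine ⟨p, ?_⟩
    rw [hp1]
    exact ConnectedComponents.coe_eq_coe'.mpr hy
  choose p hp using key
  have hinj : Function.Injective (fun c => mapK Ω
      (Spec.map (CommRingCat.ofHom (algebraMap k (separableClosure k K))))
      (ιx ≫ f) (Spec.map (CommRingCat.ofHom (algebraMap (separableClosure k K) K))) hab (p c)) := by
    intro c c' hcc'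
    have hpre := ((mapK Ω
      (Spec.map (CommRingCat.ofHom (algebraMap k (separableClosure k K))))
      (ιx ≫ f) (Spec.map (CommRingCat.ofHom (algebraMap (separableClosure k K) K)))
      hab).isConnected_preimage_singleton (mapK Ω
      (Spec.map (CommRingCat.ofHom (algebraMap k (separableClosure k K))))
      (ιx ≫ f) (Spec.map (CommRingCat.ofHom (algebraMap (separableClosure k K) K))) hab (p c))).isPreconnected
    have himg := hpre.image _ (mapK Ω f (ιx ≫ f) ιx rfl).continuous.continuousOn
    have h1 : mapK Ω f (ιx ≫ f) ιx rfl (p c) ∈ (mapK Ω f (ιx ≫ f) ιx rfl) '' ((mapK Ω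
      (Spec.map (CommRingCat.ofHom (algebraMap k (separableClosure k K))))
      (ιx ≫ f) (Spec.map (CommRingCat.ofHom (algebraMap (separableClosure k K) K))) hab) ⁻¹' {mapK Ω
      (Spec.map (CommRingCat.ofHom (algebraMap k (separableClosure k K))))
      (ιx ≫ f) (Spec.map (CommRingCat.ofHom (algebraMap (separableClosure k K) K))) hab (p c)}) :=
      ⟨p c, rfl, rfl⟩
    have h2 : mapK Ω f (ιx ≫ f) ιx rfl (p c') ∈ (mapK Ω f (ιx ≫ f) ιx rfl) '' ((mapK Ω
      (Spec.map (CommRingCat.ofHom (algebraMap k (separableClosure k K))))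
      (ιx ≫ f) (Spec.map (CommRingCat.ofHom (algebraMap (separableClosure k K) K))) hab) ⁻¹' {mapK Ω
      (Spec.map (CommRingCat.ofHom (algebraMap k (separableClosure k K))))
      (ιx ≫ f) (Spec.map (CommRingCat.ofHom (algebraMap (separableClosure k K) K))) hab (p c)}) :=
      ⟨p c', hcc'.symm, rfl⟩
    have h3 := himg.subset_connectedComponent h1 h2
    rw [← hp c, ← hp c']
    exact (ConnectedComponents.coe_eq_coe'.mpr h3).symm
  exact ⟨Finite.of_injective _ hinj, (Nat.card_le_card_of_injective _ hinj).trans hTcard⟩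

end Groth.Agent.Lib.H71Pi0Bound
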