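import Groth.Agent.Lib.H71SepClosedIrr
import Groth.Agent.Lib.H71Pi0Bound
import Groth.Agent.Lib.H71IrredImage

/-!
# H71IrrBound: for an irreducible k-scheme X with a K-point at the generic point, the irreducible
components of X_Ω inject into the points of Spec(separableClosure k K) ×_k Spec Ω.
-/

set_option autoImplicit false
universe u
open CategoryTheory CategoryTheory.Limits AlgebraicGeometry TensorProduct

namespace Groth.Agent.Lib.H71IrrBound

open Groth.Agent.Lib.FieldBC13 Groth.Agent.Lib.H71SepClosedIrr

/-- `Spec k' ×_k Spec Ω` has at most `[k':k]` points for `k'/k` finite and any field `Ω`. -/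
theorem card_pullback_le_finrank' (k k' Ω : Type u) [Field k] [Field k'] [Field Ω] [Algebra k k'] [Algebra k Ω]
    [FiniteDimensional k k'] :
    Finite ↥(pullback (Spec.map (CommRingCat.ofHom (algebraMap k k')))
        (Spec.map (CommRingCat.ofHom (algebraMap k Ω)))) ∧
      Nat.card ↥(pullback (Spec.map (CommRingCat.ofHom (algebraMap k k')))
        (Spec.map (CommRingCat.ofHom (algebraMap k Ω)))) ≤ Module.finrank k k' := by
  obtain ⟨hfin, hcard⟩ := Groth.Agent.Lib.H71Pi0Bound.card_pullback_le_finrank k k' (AlgebraicClosure Ω)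
  obtain ⟨m, hm⟩ := Groth.Agent.Lib.H71ConstField.exists_surjective_tower Ω (AlgebraicClosure Ω)
    (Spec.map (CommRingCat.ofHom (algebraMap k k')))
  haveI := hfin
  exact ⟨Finite.of_surjective _ hm, (Nat.card_le_card_of_surjective _ hm).trans hcard⟩

/-- For an irreducible `k`-scheme `X` with a `K`-valued point at its generic point, the irreducible components of
`X_Ω` inject into the points of `Spec k' ×_k Spec Ω`, where `k'` is the separable closure of `k` in `K`. -/
theorem exists_injective_irreducibleComponents {k Ω : Type u} [Field k] [Field Ω] [Algebra k Ω]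
    {X : Scheme.{u}} [IrreducibleSpace X] (f : X ⟶ Spec (CommRingCat.of k))
    (K : Type u) [Field K] [Algebra k K] (ιx : Spec (CommRingCat.of K) ⟶ X)
    (hι : ιx ≫ f = Spec.map (CommRingCat.ofHom (algebraMap k K)))
    (hgen : ιx (IsLocalRing.closedPoint K) = genericPoint X) :
    ∃ τ : ↥(irreducibleComponents ↥(pullback f (Spec.map (CommRingCat.ofHom (algebraMap k Ω))))) →
      ↥(pullback (Spec.map (CommRingCat.ofHom (algebraMap k (separableClosure k K))))
        (Spec.map (CommRingCat.ofHom (algebraMap k Ω)))), Function.Injective τ := by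
  have hab : Spec.map (CommRingCat.ofHom (algebraMap (separableClosure k K) K)) ≫
      Spec.map (CommRingCat.ofHom (algebraMap k (separableClosure k K))) = ιx ≫ f := by
    rw [hι, ← Spec.map_comp, ← CommRingCat.ofHom_comp, ← IsScalarTower.algebraMap_eq]
  haveI hgi : GeometricallyIrreducible
      (Spec.map (CommRingCat.ofHom (algebraMap (separableClosure k K) K))) :=
    geometricallyIrreducible_SpecMap_separableClosure k K
  have hpb₁ := isPullback_mapK Ω f (ιx ≫ f) ιx rfl
  have hpb₂ := isPullback_mapK Ω (Spec.map (CommRingCat.ofHom (algebraMap k (separableClosure k K))))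
    (ιx ≫ f) (Spec.map (CommRingCat.ofHom (algebraMap (separableClosure k K) K))) hab
  haveI hgi₂ : GeometricallyIrreducible (mapK Ω
      (Spec.map (CommRingCat.ofHom (algebraMap k (separableClosure k K))))
      (ιx ≫ f) (Spec.map (CommRingCat.ofHom (algebraMap (separableClosure k K) K))) hab) :=
    MorphismProperty.of_isPullback hpb₂.flip hgi
  haveI huo₂ : UniversallyOpen (mapK Ω
      (Spec.map (CommRingCat.ofHom (algebraMap k (separableClosure k K))))
      (ιx ≫ f) (Spec.map (CommRingCat.ofHom (algebraMap (separableClosure k K) K))) hab) :=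
    MorphismProperty.of_isPullback hpb₂.flip
      (inferInstance : UniversallyOpen (Spec.map (CommRingCat.ofHom (algebraMap (separableClosure k K) K))))
  have key : ∀ T : ↥(irreducibleComponents ↥(pullback f (Spec.map (CommRingCat.ofHom (algebraMap k Ω))))),
      ∃ p : ↥(pullback (ιx ≫ f) (Spec.map (CommRingCat.ofHom (algebraMap k Ω)))),
        closure {mapK Ω f (ιx ≫ f) ιx rfl p} = (T : Set _) := by
    rintro ⟨T, hT⟩
    have hTc : IsClosed T := isClosed_of_mem_irreducibleComponents _ hT
    have hη := hT.1.closure_genericPoint hTc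
    have h1 : genericPoint X ⤳ pullback.fst f (Spec.map (CommRingCat.ofHom (algebraMap k Ω)))
        hT.1.genericPoint := genericPoint_specializes _
    obtain ⟨ζ, hζη, hζξ⟩ := generalizingMap_fst Ω f h1
    have hζT : closure {ζ} = T := by
      apply subset_antisymm
      · apply hT.2 isIrreducible_singleton.closure
        rw [← hη]
        exact specializes_iff_closure_subset.mp hζη
      · rw [← hη]
        exact specializes_iff_closure_subset.mp hζη
    obtain ⟨p, hp1, -⟩ := Scheme.exists_preimage_of_isPullback hpb₁ ζ (IsLocalRing.closedPoint K)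
      (by rw [hζξ, hgen])
    exact ⟨p, by rw [hp1]; exact hζT⟩
  choose p hp using key
  refine ⟨fun T => mapK Ω
      (Spec.map (CommRingCat.ofHom (algebraMap k (separableClosure k K))))
      (ιx ≫ f) (Spec.map (CommRingCat.ofHom (algebraMap (separableClosure k K) K))) hab (p T), ?_⟩
  intro T T' hTT'
  simp only at hTT'
  have hS := (mapK Ω
      (Spec.map (CommRingCat.ofHom (algebraMap k (separableClosure k K))))
      (ιx ≫ f) (Spec.map (CommRingCat.ofHom (algebraMap (separableClosure k K) K))) hab).isIrreducible_preimage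
      (Scheme.Hom.isOpenMap _) (isIrreducible_singleton (x := mapK Ω
      (Spec.map (CommRingCat.ofHom (algebraMap k (separableClosure k K))))
      (ιx ≫ f) (Spec.map (CommRingCat.ofHom (algebraMap (separableClosure k K) K))) hab (p T)))
  have himg := hS.image _ (mapK Ω f (ιx ≫ f) ιx rfl).continuous.continuousOn
  obtain ⟨T'', hT'', hsub⟩ := exists_mem_irreducibleComponents_subset_of_isIrreducible _ himg
  have hT''c : IsClosed T'' := isClosed_of_mem_irreducibleComponents _ hT''
  have h1 : (T : Set _) ⊆ T'' := by
    rw [← hp T]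
    exact hT''c.closure_subset_iff.mpr (Set.singleton_subset_iff.mpr (hsub ⟨p T, rfl, rfl⟩))
  have h2 : (T' : Set _) ⊆ T'' := by
    rw [← hp T']
    exact hT''c.closure_subset_iff.mpr (Set.singleton_subset_iff.mpr (hsub ⟨p T', hTT'.symm, rfl⟩))
  have e1 : (T : Set _) = T'' := subset_antisymm h1 (T.2.2 hT''.1 h1)
  have e2 : (T' : Set _) = T'' := subset_antisymm h2 (T'.2.2 hT''.1 h2)
  exact Subtype.ext (e1.trans e2.symm)

end Groth.Agent.Lib.H71IrrBound
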