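import Groth.Agent.Lib.NoethTop
import Groth.Agent.S4647
import Mathlib.Topology.Connected.Clopen
import Mathlib.SetTheory.Cardinal.Finite
import Mathlib.AlgebraicGeometry.FunctionField
import Mathlib.AlgebraicGeometry.Stalk
import Mathlib.AlgebraicGeometry.Properties

/-!
# Irreducible versus connected components of Noetherian spaces/schemes (helper71)

* `toConn`, `toConn_eq`, `toConn_surjective`: the surjection from irreducible components to `ConnectedComponents`.
* `pairwiseDisjoint_iff_card_eq`: in a Noetherian space the irreducible components are pairwise disjoint iff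
  `Nat.card (irreducibleComponents Y) = Nat.card (ConnectedComponents Y)`.
* `forall_isDomain_stalk_iff`: on a scheme with Noetherian underlying space all local rings are domains iff the
  scheme is reduced with pairwise disjoint irreducible components.
-/

set_option autoImplicit false
universe u

open Set Topology TopologicalSpace AlgebraicGeometry CategoryTheory

namespace Groth.Agent.Lib.H71IrrConnCard

section Top

variable {Y : Type u} [TopologicalSpace Y]

/-- The connected component (as a point of `ConnectedComponents Y`) containing an irreducible component. -/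
noncomputable def toConn (Z : irreducibleComponents Y) : ConnectedComponents Y :=
  ConnectedComponents.mk Z.2.1.nonempty.some

theorem toConn_eq (Z : irreducibleComponents Y) {y : Y} (hy : y ∈ Z.1) :
    toConn Z = ConnectedComponents.mk y := by
  unfold toConn
  rw [ConnectedComponents.coe_eq_coe']
  exact Z.2.1.isPreirreducible.isPreconnected.subset_connectedComponent hy Z.2.1.nonempty.some_mem

theorem toConn_surjective : Function.Surjective (toConn (Y := Y)) := by
  intro c
  obtain ⟨y, rfl⟩ := ConnectedComponents.surjective_coe c
  exact ⟨⟨irreducibleComponent y, irreducibleComponent_mem_irreducibleComponents y⟩,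
    toConn_eq _ mem_irreducibleComponent⟩

/-- In a Noetherian space, the irreducible components are pairwise disjoint iff there are as many
irreducible components as connected components. -/
theorem pairwiseDisjoint_iff_card_eq [NoetherianSpace Y] :
    (irreducibleComponents Y).PairwiseDisjoint id ↔
      Nat.card (irreducibleComponents Y) = Nat.card (ConnectedComponents Y) := by
  haveI : Finite (irreducibleComponents Y) := NoetherianSpace.finite_irreducibleComponents
  have hX : ∀ x : Y, ∃ U ∈ nhds x, NoetherianSpace U := fun x =>
    ⟨Set.univ, Filter.univ_mem, inferInstance⟩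
  constructor
  · intro hd
    refine Nat.card_eq_of_bijective toConn ⟨?_, toConn_surjective⟩
    intro Z₁ Z₂ h
    obtain ⟨z₁, hz₁⟩ := Z₁.2.1.nonempty
    obtain ⟨z₂, hz₂⟩ := Z₂.2.1.nonempty
    rw [toConn_eq Z₁ hz₁, toConn_eq Z₂ hz₂, ConnectedComponents.coe_eq_coe'] at h
    have hopen : IsOpen Z₂.1 :=
      Groth.Agent.Lib.NoethTop.isOpen_of_mem_irreducibleComponents_of_pairwiseDisjoint hX hd Z₂.2
    have hsub : connectedComponent z₂ ⊆ Z₂.1 :=
      IsClopen.connectedComponent_subset
        ⟨isClosed_of_mem_irreducibleComponents Z₂.1 Z₂.2, hopen⟩ hz₂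
    by_contra hne
    have hne' : Z₁.1 ≠ Z₂.1 := fun h' => hne (Subtype.ext h')
    exact (Set.disjoint_left.mp (hd Z₁.2 Z₂.2 hne')) hz₁ (hsub h)
  · intro hcard
    have hbij : Function.Bijective (toConn (Y := Y)) :=
      toConn_surjective.bijective_of_nat_card_le hcard.le
    intro Z₁ hZ₁ Z₂ hZ₂ hne
    rw [Function.onFun, Set.disjoint_left]
    intro y hy₁ hy₂
    apply hne
    have h := hbij.1 ((toConn_eq ⟨Z₁, hZ₁⟩ hy₁).trans (toConn_eq ⟨Z₂, hZ₂⟩ hy₂).symm)
    exact congrArg Subtype.val h

end Top

/-- On a scheme with Noetherian underlying space, all local rings are domains iff the scheme is reduced and its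
irreducible components are pairwise disjoint. -/
theorem forall_isDomain_stalk_iff (Y : Scheme.{u}) [NoetherianSpace ↥Y] :
    (∀ y : Y, IsDomain ↑(Y.presheaf.stalk y)) ↔
      (IsReduced Y ∧ (irreducibleComponents ↥Y).PairwiseDisjoint id) := by
  have hN : ∀ y : Y, ∃ U ∈ nhds y, TopologicalSpace.NoetherianSpace U := fun y =>
    ⟨Set.univ, Filter.univ_mem, inferInstance⟩
  constructor
  · intro hdom
    constructor
    · have : ∀ z : Y, _root_.IsReduced (Y.presheaf.stalk z) := fun z => by
        have := hdom z
        infer_instance
      exact isReduced_of_isReduced_stalk Y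
    · have hgen : ∀ Z ∈ irreducibleComponents ↥Y, ∃ η : Y, closure ({η} : Set ↥Y) = Z ∧
          ∀ z : Y, z ⤳ η → z = η := by
        intro Z hZ
        have hcl : IsClosed Z := isClosed_of_mem_irreducibleComponents Z hZ
        have hη : IsGenericPoint hZ.1.genericPoint Z := hZ.1.isGenericPoint_genericPoint hcl
        refine ⟨hZ.1.genericPoint, hη.def, fun z hz => ?_⟩
        have hle : Z ≤ closure ({z} : Set ↥Y) := by
          rw [← hη.def]
          exact closure_minimal (Set.singleton_subset_iff.mpr (specializes_iff_mem_closure.mp hz))
            isClosed_closure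
        have hle' : closure ({z} : Set ↥Y) ≤ Z := hZ.2 isIrreducible_singleton.closure hle
        have hz' : IsGenericPoint z Z := le_antisymm hle' hle
        exact hz'.eq hη
      intro Z₁ hZ₁ Z₂ hZ₂ hne
      rw [Function.onFun, Set.disjoint_left]
      intro y hy₁ hy₂
      apply hne
      obtain ⟨η₁, hη₁, hm₁⟩ := hgen Z₁ hZ₁
      obtain ⟨η₂, hη₂, hm₂⟩ := hgen Z₂ hZ₂
      have h₁ : η₁ ⤳ y := by rw [specializes_iff_mem_closure, hη₁]; exact hy₁
      have h₂ : η₂ ⤳ y := by rw [specializes_iff_mem_closure, hη₂]; exact hy₂
      have := hdom y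
      have heq := Groth.Agent.S4647.eq_of_specializes_of_isDomain_stalk y h₁ h₂ hm₁ hm₂
      rw [← hη₁, ← hη₂, heq]
  · rintro ⟨hred, hd⟩ y
    have hopen : IsOpen (irreducibleComponent y) :=
      Groth.Agent.Lib.NoethTop.isOpen_of_mem_irreducibleComponents_of_pairwiseDisjoint hN hd
        (irreducibleComponent_mem_irreducibleComponents y)
    let U : Y.Opens := ⟨irreducibleComponent y, hopen⟩
    haveI : IsIntegral (U : Scheme.{u}) := by
      rw [isIntegral_iff_irreducibleSpace_and_isReduced]
      constructor
      · have hirr : IsIrreducible (U : Set ↥Y) := isIrreducible_irreducibleComponent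
        exact Subtype.irreducibleSpace hirr
      · infer_instance
    let y' : U := ⟨y, mem_irreducibleComponent⟩
    have hiso : IsIso (U.ι.stalkMap y') := inferInstance
    have hinj : Function.Injective (U.ι.stalkMap y').hom :=
      ((ConcreteCategory.isIso_iff_bijective (U.ι.stalkMap y')).mp hiso).1
    exact hinj.isDomain

end Groth.Agent.Lib.H71IrrConnCard
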