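import Groth.Agent.Lib.H71IrrGeom

/-!
# H71IrrProd: irreducible components of a product over a field (helper71)

* map_genericPoint_eq (topology): generic point of a maximal irreducible subset of a closed F = range m maps to the
  generic point, when the projection from the source of m is generalizing;
* mem_irreducibleComponents_pullback_iff (EGA IV 4.2.x): W ∈ Irr(X ×_k Y) iff W is a maximal irreducible subset of
  p⁻¹X' ∩ q⁻¹Y' for some X' ∈ Irr X, Y' ∈ Irr Y (no Noetherian hypotheses needed).
-/

set_option autoImplicit false
universe u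
open CategoryTheory CategoryTheory.Limits AlgebraicGeometry TensorProduct

namespace Groth.Agent.Lib.H71IrrProd

section Top

variable {P P' X X's : Type*} [TopologicalSpace P] [TopologicalSpace P'] [TopologicalSpace X]
  [TopologicalSpace X's] [T0Space P]

/-- Abstract form: the generic point of a maximal irreducible subset of the closed set `F = range m` maps to the
image of the generic point of `X's`, if `p' : P' → X's` is generalizing. -/
theorem map_genericPoint_eq (m : P' → P) (hm : Continuous m) (p : P → X) (i : X's → X)
    (hi : Topology.IsInducing i) (p' : P' → X's) (hp' : GeneralizingMap p')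
    (hcomm : ∀ a, p (m a) = i (p' a)) (F : Set P) (hF : IsClosed F) (hFr : Set.range m = F)
    (W : Set P) (hW : Maximal (fun V : Set P => IsIrreducible V ∧ V ⊆ F) W)
    (w : P) (hw : closure {w} = W) (ξ : X's) (hξ : ∀ a : X's, ξ ⤳ a) :
    p w = i ξ := by
  have hwW : w ∈ W := by rw [← hw]; exact subset_closure rfl
  have hwF : w ∈ F := hW.1.2 hwW
  rw [← hFr] at hwF
  obtain ⟨w', rfl⟩ := hwF
  obtain ⟨w'', hw''1, hw''2⟩ := hp' (hξ (p' w'))
  have h1 : m w'' ⤳ m w' := hw''1.map hm
  have hmem : m w'' ∈ F := by rw [← hFr]; exact ⟨w'', rfl⟩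
  have hsub : closure {m w''} ⊆ F := hF.closure_subset_iff.mpr (Set.singleton_subset_iff.mpr hmem)
  have hWsub : W ⊆ closure {m w''} := by
    rw [← hw]
    exact isClosed_closure.closure_subset_iff.mpr
      (Set.singleton_subset_iff.mpr (specializes_iff_mem_closure.mp h1))
  have h2 : closure {m w''} ⊆ W := hW.2 ⟨isIrreducible_singleton.closure, hsub⟩ hWsub
  have h3 : m w' ⤳ m w'' := by
    rw [specializes_iff_mem_closure, hw]
    exact h2 (subset_closure rfl)
  have h4 : m w'' = m w' := (h1.antisymm h3).eq
  rw [← h4, hcomm, hw''2]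

end Top

variable {k : Type u} [Field k] {X Y : Scheme.{u}} (f : X ⟶ Spec (CommRingCat.of k))
  (g : Y ⟶ Spec (CommRingCat.of k))

/-- **EGA IV 4.2.x**: irreducible components of `X ×_k Y` are the irreducible components of the `X' ×_k Y'` for
irreducible components `X'` of `X` and `Y'` of `Y`. -/
theorem mem_irreducibleComponents_pullback_iff (W : Set ↥(pullback f g)) :
    W ∈ irreducibleComponents ↥(pullback f g) ↔
      ∃ X' ∈ irreducibleComponents ↥X, ∃ Y' ∈ irreducibleComponents ↥Y,
        Maximal (fun V : Set ↥(pullback f g) => IsIrreducible V ∧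
          V ⊆ ⇑(pullback.fst f g) ⁻¹' X' ∩ ⇑(pullback.snd f g) ⁻¹' Y') W := by
  constructor
  · intro hW
    obtain ⟨X', hX', hsubX⟩ := exists_mem_irreducibleComponents_subset_of_isIrreducible _
      (hW.1.image _ (pullback.fst f g).continuous.continuousOn)
    obtain ⟨Y', hY', hsubY⟩ := exists_mem_irreducibleComponents_subset_of_isIrreducible _
      (hW.1.image _ (pullback.snd f g).continuous.continuousOn)
    refine ⟨X', hX', Y', hY', ⟨hW.1, fun a ha => ⟨hsubX ⟨a, ha, rfl⟩, hsubY ⟨a, ha, rfl⟩⟩⟩, ?_⟩
    intro V hV hWV
    exact hW.2 hV.1 hWV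
  · rintro ⟨X', hX', Y', hY', hW⟩
    have hX'c : IsClosed X' := isClosed_of_mem_irreducibleComponents _ hX'
    have hY'c : IsClosed Y' := isClosed_of_mem_irreducibleComponents _ hY'
    set F : Set ↥(pullback f g) := ⇑(pullback.fst f g) ⁻¹' X' ∩ ⇑(pullback.snd f g) ⁻¹' Y' with hF
    have hFc : IsClosed F := (hX'c.preimage (pullback.fst f g).continuous).inter
      (hY'c.preimage (pullback.snd f g).continuous)
    -- `W` is closed with a generic point
    have hWc : IsClosed W := by
      have h1 : closure W ⊆ W := hW.2 ⟨hW.1.1.closure, hFc.closure_subset_iff.mpr hW.1.2⟩ subset_closure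
      exact closure_subset_iff_isClosed.mp h1
    obtain ⟨w, hw⟩ := QuasiSober.sober hW.1.1 hWc
    have hwcl : closure {w} = W := hw.def
    -- the reduced closed subschemes
    let IX := Scheme.IdealSheafData.vanishingIdeal ⟨X', hX'c⟩
    let IY := Scheme.IdealSheafData.vanishingIdeal ⟨Y', hY'c⟩
    have hrX : Set.range IX.subschemeι = X' := by
      rw [Scheme.IdealSheafData.range_subschemeι, Scheme.IdealSheafData.coe_support_vanishingIdeal]
      rfl
    have hrY : Set.range IY.subschemeι = Y' := by
      rw [Scheme.IdealSheafData.range_subschemeι, Scheme.IdealSheafData.coe_support_vanishingIdeal]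
      rfl
    haveI : IrreducibleSpace ↥IX.subscheme := by
      rw [Groth.Agent.Lib.GenerizationIrred.irreducibleSpace_iff_isIrreducible_range
        IX.subschemeι.isClosedEmbedding.isEmbedding, hrX]
      exact hX'.1
    haveI : IrreducibleSpace ↥IY.subscheme := by
      rw [Groth.Agent.Lib.GenerizationIrred.irreducibleSpace_iff_isIrreducible_range
        IY.subschemeι.isClosedEmbedding.isEmbedding, hrY]
      exact hY'.1
    let m : pullback (IX.subschemeι ≫ f) (IY.subschemeι ≫ g) ⟶ pullback f g :=
      pullback.map (IX.subschemeι ≫ f) (IY.subschemeι ≫ g) f g IX.subschemeι IY.subschemeι (𝟙 _)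
        (by simp) (by simp)
    have hmr : Set.range m = F := by
      rw [Scheme.Pullback.range_map, hrX, hrY]
    have hm1 : ∀ a, pullback.fst f g (m a) =
        IX.subschemeι (pullback.fst (IX.subschemeι ≫ f) (IY.subschemeι ≫ g) a) := by
      intro a
      have hmf : m ≫ pullback.fst f g =
          pullback.fst (IX.subschemeι ≫ f) (IY.subschemeι ≫ g) ≫ IX.subschemeι := pullback.lift_fst _ _ _
      rw [← Scheme.Hom.comp_apply, hmf, Scheme.Hom.comp_apply]
    have hm2 : ∀ a, pullback.snd f g (m a) =
        IY.subschemeι (pullback.snd (IX.subschemeι ≫ f) (IY.subschemeι ≫ g) a) := by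
      intro a
      have hms : m ≫ pullback.snd f g =
          pullback.snd (IX.subschemeι ≫ f) (IY.subschemeι ≫ g) ≫ IY.subschemeι := pullback.lift_snd _ _ _
      rw [← Scheme.Hom.comp_apply, hms, Scheme.Hom.comp_apply]
    haveI : Flat (IY.subschemeι ≫ g) := inferInstance
    haveI : Flat (IX.subschemeι ≫ f) := inferInstance
    have hpw := map_genericPoint_eq m m.continuous (pullback.fst f g) IX.subschemeι
      IX.subschemeι.isClosedEmbedding.isEmbedding.isInducing
      (pullback.fst (IX.subschemeι ≫ f) (IY.subschemeι ≫ g)) (Flat.generalizingMap _) hm1 F hFc hmr W hW w hwcl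
      (genericPoint ↥IX.subscheme) (fun a => genericPoint_specializes a)
    have hqw := map_genericPoint_eq m m.continuous (pullback.snd f g) IY.subschemeι
      IY.subschemeι.isClosedEmbedding.isEmbedding.isInducing
      (pullback.snd (IX.subschemeι ≫ f) (IY.subschemeι ≫ g)) (Flat.generalizingMap _) hm2 F hFc hmr W hW w hwcl
      (genericPoint ↥IY.subscheme) (fun a => genericPoint_specializes a)
    -- closure of the images of the generic points
    have hclX : closure {IX.subschemeι (genericPoint ↥IX.subscheme)} = X' := by
      apply subset_antisymm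
      · exact hX'c.closure_subset_iff.mpr (Set.singleton_subset_iff.mpr (hrX ▸ ⟨_, rfl⟩))
      · rw [← hrX]
        rintro _ ⟨a, rfl⟩
        exact specializes_iff_mem_closure.mp
          ((genericPoint_specializes a).map IX.subschemeι.continuous)
    have hclY : closure {IY.subschemeι (genericPoint ↥IY.subscheme)} = Y' := by
      apply subset_antisymm
      · exact hY'c.closure_subset_iff.mpr (Set.singleton_subset_iff.mpr (hrY ▸ ⟨_, rfl⟩))
      · rw [← hrY]
        rintro _ ⟨a, rfl⟩
        exact specializes_iff_mem_closure.mp
          ((genericPoint_specializes a).map IY.subschemeι.continuous)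
    refine ⟨hW.1.1, fun V hV hWV => ?_⟩
    have hVc := hV.closure
    obtain ⟨v, hv⟩ := QuasiSober.sober hVc isClosed_closure
    have hwV : w ∈ closure V := subset_closure (hWV (hwcl ▸ subset_closure rfl))
    have hvw : v ⤳ w := by
      rw [specializes_iff_mem_closure, hv.def]; exact hwV
    have hvX : pullback.fst f g v ∈ X' := by
      have h1 : pullback.fst f g v ⤳ IX.subschemeι (genericPoint ↥IX.subscheme) := by
        rw [← hpw]; exact hvw.map (pullback.fst f g).continuous
      have h2 : X' ⊆ closure {pullback.fst f g v} := by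
        rw [← hclX]
        exact isClosed_closure.closure_subset_iff.mpr
          (Set.singleton_subset_iff.mpr (specializes_iff_mem_closure.mp h1))
      exact hX'.2 isIrreducible_singleton.closure h2 (subset_closure rfl)
    have hvY : pullback.snd f g v ∈ Y' := by
      have h1 : pullback.snd f g v ⤳ IY.subschemeι (genericPoint ↥IY.subscheme) := by
        rw [← hqw]; exact hvw.map (pullback.snd f g).continuous
      have h2 : Y' ⊆ closure {pullback.snd f g v} := by
        rw [← hclY]
        exact isClosed_closure.closure_subset_iff.mpr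
          (Set.singleton_subset_iff.mpr (specializes_iff_mem_closure.mp h1))
      exact hY'.2 isIrreducible_singleton.closure h2 (subset_closure rfl)
    have hVF : closure V ⊆ F := by
      rw [← hv.def]
      exact hFc.closure_subset_iff.mpr (Set.singleton_subset_iff.mpr ⟨hvX, hvY⟩)
    exact subset_closure.trans (hW.2 ⟨hVc, hVF⟩ (hWV.trans subset_closure))

end Groth.Agent.Lib.H71IrrProd
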