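import Mathlib

set_option autoImplicit false
universe u

open TensorProduct

namespace Groth.Agent.Lib.H71LftDescent

section Alg

variable {k R B : Type u} [Field k] [CommRing R] [CommRing B] [Algebra k R] [Algebra k B]

theorem baseChange_mono {C C' : Subalgebra k B} (h : C ≤ C') :
    C.baseChange R ≤ C'.baseChange R := by
  rintro _ ⟨y, rfl⟩
  refine ⟨Algebra.TensorProduct.map (AlgHom.id R R) (Subalgebra.inclusion h) y, ?_⟩
  induction y using TensorProduct.induction_on with
  | zero => simp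
  | tmul a b => simp
  | add a b ha hb => simp only [map_add] at ha hb ⊢; rw [ha, hb]

theorem isOpenMap_comap_includeRight (B₀ : Type u) [CommRing B₀] [Algebra k B₀] :
    IsOpenMap (PrimeSpectrum.comap
      (Algebra.TensorProduct.includeRight : B₀ →ₐ[k] R ⊗[k] B₀).toRingHom) := by
  have e : (Algebra.TensorProduct.includeRight : B₀ →ₐ[k] R ⊗[k] B₀).toRingHom =
      ((Algebra.TensorProduct.comm k B₀ R).toAlgHom.toRingHom).comp
        (algebraMap B₀ (B₀ ⊗[k] R)) := by
    ext b
    simp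
  rw [e, PrimeSpectrum.comap_comp]
  refine IsOpenMap.comp
    (PrimeSpectrum.isOpenMap_comap_algebraMap_tensorProduct_of_field (K := k) (A := B₀) (B := R)) ?_
  exact (PrimeSpectrum.homeomorphOfRingEquiv
    (Algebra.TensorProduct.comm k B₀ R).toRingEquiv).symm.isOpenMap

/-- the conductor of `b` into the subalgebra `B₀` -/
def conductor (B₀ : Subalgebra k B) (b : B) : Ideal B₀ where
  carrier := {s | (s : B) * b ∈ B₀}
  add_mem' := fun {x y} hx hy => by
    change ((x + y : B₀) : B) * b ∈ B₀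
    rw [Subalgebra.coe_add, add_mul]
    exact B₀.add_mem hx hy
  zero_mem' := by
    change ((0 : B₀) : B) * b ∈ B₀
    rw [Subalgebra.coe_zero, zero_mul]
    exact B₀.zero_mem
  smul_mem' := fun c x hx => by
    change ((c • x : B₀) : B) * b ∈ B₀
    rw [smul_eq_mul, Subalgebra.coe_mul, mul_assoc]
    exact B₀.mul_mem c.2 hx

theorem mem_conductor {B₀ : Subalgebra k B} {b : B} {s : B₀} :
    s ∈ conductor B₀ b ↔ (s : B) * b ∈ B₀ := Iff.rfl

/-- Key flatness step: if `ι t * (1 ⊗ b)` lies in `R ⊗ B₀`, then `t` lies in the extension of the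
conductor ideal. -/
theorem mem_map_conductor (B₀ : Subalgebra k B) (b : B) (t : R ⊗[k] B₀)
    (ht : Algebra.TensorProduct.map (AlgHom.id R R) B₀.val t * (1 ⊗ₜ[k] b) ∈
      (Algebra.TensorProduct.map (AlgHom.id R R) B₀.val).range) :
    t ∈ Ideal.map (Algebra.TensorProduct.includeRight : B₀ →ₐ[k] R ⊗[k] B₀).toRingHom
      (conductor B₀ b) := by
  classical
  -- the `k`-linear map `s ↦ [s b]`
  let Q := B ⧸ (Subalgebra.toSubmodule B₀)
  let q : B →ₗ[k] Q := (Subalgebra.toSubmodule B₀).mkQ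
  let lam : B₀ →ₗ[k] Q := q ∘ₗ (LinearMap.mulRight k b) ∘ₗ B₀.val.toLinearMap
  have hker : ∀ s : B₀, lam s = 0 ↔ s ∈ conductor B₀ b := by
    intro s
    change (Subalgebra.toSubmodule B₀).mkQ ((s : B) * b) = 0 ↔ _
    rw [Submodule.mkQ_apply, Submodule.Quotient.mk_eq_zero]
    rfl
  -- `(R ⊗ lam) t = (R ⊗ q) (ι t * (1 ⊗ b))`
  have h1 : ∀ t : R ⊗[k] B₀, lam.lTensor R t =
      q.lTensor R (Algebra.TensorProduct.map (AlgHom.id R R) B₀.val t * (1 ⊗ₜ[k] b)) := by
    intro t
    induction t using TensorProduct.induction_on with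
    | zero => simp
    | tmul r s =>
      simp only [LinearMap.lTensor_tmul, Algebra.TensorProduct.map_tmul, AlgHom.coe_id, id_eq,
        Algebra.TensorProduct.tmul_mul_tmul, mul_one]
      rfl
    | add x y hx hy => simp only [map_add, add_mul, hx, hy]
  have h2 : ∀ t' : R ⊗[k] B₀, q.lTensor R (Algebra.TensorProduct.map (AlgHom.id R R) B₀.val t') = 0 := by
    intro t'
    induction t' using TensorProduct.induction_on with
    | zero => simp
    | tmul r s =>
      simp only [Algebra.TensorProduct.map_tmul, AlgHom.coe_id, id_eq, LinearMap.lTensor_tmul]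
      have : q (B₀.val s) = 0 := by
        change (Subalgebra.toSubmodule B₀).mkQ (s : B) = 0
        rw [Submodule.mkQ_apply, Submodule.Quotient.mk_eq_zero]
        exact s.2
      rw [this, tmul_zero]
    | add x y hx hy => simp only [map_add, hx, hy, add_zero]
  have h3 : lam.lTensor R t = 0 := by
    rw [h1]
    obtain ⟨t', ht'⟩ := ht
    rw [← ht']
    exact h2 t'
  have hex := Module.Flat.lTensor_exact R (LinearMap.exact_subtype_ker_map lam)
  have h4 : ∀ t'' : R ⊗[k] ↥(LinearMap.ker lam), (LinearMap.ker lam).subtype.lTensor R t'' ∈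
      Ideal.map (Algebra.TensorProduct.includeRight : B₀ →ₐ[k] R ⊗[k] B₀).toRingHom
        (conductor B₀ b) := by
    intro t''
    induction t'' using TensorProduct.induction_on with
    | zero => simp
    | tmul r s =>
      simp only [LinearMap.lTensor_tmul, Submodule.subtype_apply]
      have : r ⊗ₜ[k] (s : B₀) = (r ⊗ₜ[k] (1 : B₀)) *
          (Algebra.TensorProduct.includeRight : B₀ →ₐ[k] R ⊗[k] B₀).toRingHom (s : B₀) := by
        simp
      rw [this]
      apply Ideal.mul_mem_left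
      apply Ideal.mem_map_of_mem
      rw [← hker]
      exact s.2
    | add x y hx hy =>
      rw [map_add]
      exact Ideal.add_mem _ hx hy
  obtain ⟨t'', rfl⟩ := (hex t).mp h3
  exact h4 t''

/-- **Descent of "locally of finite type at a point" along `k → R`** (`k` a field): if a basic open
`D(f)` of `Spec (R ⊗[k] B)` is of finite type over `R`, then every point of its image in `Spec B`
has a basic open neighbourhood of finite type over `k`. -/
theorem exists_away_finiteType (f : R ⊗[k] B) [Algebra.FiniteType R (Localization.Away f)]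
    (q : PrimeSpectrum (R ⊗[k] B)) (hq : f ∉ q.asIdeal) :
    ∃ h : B, (1 : R) ⊗ₜ[k] h ∉ q.asIdeal ∧ Algebra.FiniteType k (Localization.Away h) := by
  classical
  obtain ⟨s, hs⟩ := (Algebra.FiniteType.out : (⊤ : Subalgebra R (Localization.Away f)).FG)
  have h1 : ∀ x : Localization.Away f, ∃ (n : ℕ) (t : R ⊗[k] B),
      x * algebraMap (R ⊗[k] B) (Localization.Away f) f ^ n =
        algebraMap (R ⊗[k] B) (Localization.Away f) t := IsLocalization.Away.surj f
  choose n t hnt using h1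
  have h2 : ∀ y : R ⊗[k] B, ∃ C : Subalgebra k B, C.FG ∧ y ∈ C.baseChange R :=
    exists_fg_and_mem_baseChange
  choose C hCfg hCmem using h2
  obtain ⟨B₀, hB₀fg, hf₀, ht₀⟩ : ∃ B₀ : Subalgebra k B, B₀.FG ∧ f ∈ B₀.baseChange R ∧
      ∀ x ∈ s, t x ∈ B₀.baseChange R := by
    refine ⟨C f ⊔ s.sup (fun x => C (t x)), (hCfg f).sup ?_, baseChange_mono le_sup_left (hCmem f),
      fun x hx => baseChange_mono (le_trans (Finset.le_sup (f := fun x => C (t x)) hx)
        le_sup_right) (hCmem (t x))⟩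
    exact Finset.sup_induction Subalgebra.fg_bot (fun a ha b hb => ha.sup hb)
      (fun x _ => hCfg (t x))
  set ι : R ⊗[k] B₀ →ₐ[R] R ⊗[k] B := Algebra.TensorProduct.map (AlgHom.id R R) B₀.val with hι
  obtain ⟨f₀, hf₀'⟩ : ∃ f₀, ι f₀ = f := hf₀
  -- surjectivity of the localized map
  have hP : ∀ y : Localization.Away f, ∃ (m : ℕ) (t₀ : R ⊗[k] B₀),
      y * algebraMap (R ⊗[k] B) (Localization.Away f) f ^ m =
        algebraMap (R ⊗[k] B) (Localization.Away f) (ι t₀) := by
    intro y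
    have hy : y ∈ Algebra.adjoin R (s : Set (Localization.Away f)) := by rw [hs]; trivial
    induction hy using Algebra.adjoin_induction with
    | mem x hx =>
      obtain ⟨t₀, ht₀'⟩ := ht₀ x hx
      exact ⟨n x, t₀, by rw [hnt x]; congr 1; exact ht₀'.symm⟩
    | algebraMap r =>
      refine ⟨0, algebraMap R _ r, ?_⟩
      rw [pow_zero, mul_one, AlgHom.commutes, ← IsScalarTower.algebraMap_apply]
    | add x y _ _ hx hy =>
      obtain ⟨m₁, t₁, h₁⟩ := hx
      obtain ⟨m₂, t₂, h₂⟩ := hy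
      refine ⟨m₁ + m₂, t₁ * f₀ ^ m₂ + t₂ * f₀ ^ m₁, ?_⟩
      have e : algebraMap (R ⊗[k] B) (Localization.Away f) (ι (t₁ * f₀ ^ m₂ + t₂ * f₀ ^ m₁)) =
          (x * algebraMap (R ⊗[k] B) (Localization.Away f) f ^ m₁) *
            algebraMap (R ⊗[k] B) (Localization.Away f) f ^ m₂ +
          (y * algebraMap (R ⊗[k] B) (Localization.Away f) f ^ m₂) *
            algebraMap (R ⊗[k] B) (Localization.Away f) f ^ m₁ := by
        rw [h₁, h₂]
        simp only [map_add, map_mul, map_pow, hf₀']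
      rw [e]
      ring
    | mul x y _ _ hx hy =>
      obtain ⟨m₁, t₁, h₁⟩ := hx
      obtain ⟨m₂, t₂, h₂⟩ := hy
      refine ⟨m₁ + m₂, t₁ * t₂, ?_⟩
      rw [map_mul, map_mul, ← h₁, ← h₂]
      ring
  have hsurj : ∀ a : R ⊗[k] B, ∃ (t₀ : R ⊗[k] B₀) (m : ℕ), ι t₀ = f ^ m * a := by
    intro a
    obtain ⟨m, t₀, hm⟩ := hP (algebraMap _ _ a)
    rw [← map_pow, ← map_mul, IsLocalization.eq_iff_exists (Submonoid.powers f)] at hm
    obtain ⟨⟨_, j, rfl⟩, hj⟩ := hm
    refine ⟨f₀ ^ j * t₀, j + m, ?_⟩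
    rw [map_mul, map_pow, hf₀']
    simp only at hj
    rw [← hj, pow_add]
    ring
  -- conductor step
  have hcond : ∀ b : B, ∃ m : ℕ, f₀ ^ m ∈
      Ideal.map (Algebra.TensorProduct.includeRight : B₀ →ₐ[k] R ⊗[k] B₀).toRingHom
        (conductor B₀ b) := by
    intro b
    obtain ⟨t₀, m, hm⟩ := hsurj (1 ⊗ₜ[k] b)
    refine ⟨m, mem_map_conductor B₀ b (f₀ ^ m) ⟨t₀, ?_⟩⟩
    change ι t₀ = ι (f₀ ^ m) * _
    rw [hm, map_pow, hf₀']
  -- the open image
  set inclR : B₀ →+* R ⊗[k] B₀ :=
    (Algebra.TensorProduct.includeRight : B₀ →ₐ[k] R ⊗[k] B₀).toRingHom with hinclR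
  let q₀ : PrimeSpectrum (R ⊗[k] B₀) := PrimeSpectrum.comap ι.toRingHom q
  have hq₀ : q₀ ∈ (PrimeSpectrum.basicOpen f₀ : Set (PrimeSpectrum (R ⊗[k] B₀))) := by
    change f₀ ∉ (PrimeSpectrum.comap ι.toRingHom q).asIdeal
    rw [PrimeSpectrum.comap_asIdeal, Ideal.mem_comap]
    change ι f₀ ∉ q.asIdeal
    rw [hf₀']; exact hq
  have hO : IsOpen (PrimeSpectrum.comap inclR ''
      (PrimeSpectrum.basicOpen f₀ : Set (PrimeSpectrum (R ⊗[k] B₀)))) :=
    isOpenMap_comap_includeRight (k := k) (R := R) B₀ _ (PrimeSpectrum.basicOpen f₀).isOpen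
  obtain ⟨_, ⟨_, ⟨h₀, rfl⟩, rfl⟩, hp₀, hsub⟩ :=
    PrimeSpectrum.isBasis_basic_opens.exists_subset_of_mem_open
      (Set.mem_image_of_mem (PrimeSpectrum.comap inclR) hq₀) hO
  -- powers of h₀ lie in every conductor
  have hpow : ∀ b : B, ∃ N : ℕ, (h₀ : B) ^ N * b ∈ B₀ := by
    intro b
    obtain ⟨m, hm⟩ := hcond b
    have hrad : h₀ ∈ (conductor B₀ b).radical := by
      rw [Ideal.radical_eq_sInf, Ideal.mem_sInf]
      rintro J ⟨hJ, hJp⟩
      by_contra hh
      have hmem : (⟨J, hJp⟩ : PrimeSpectrum B₀) ∈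
          (PrimeSpectrum.basicOpen h₀ : Set (PrimeSpectrum B₀)) := hh
      obtain ⟨q', hq', hq'J⟩ := hsub hmem
      have hJ' : J = Ideal.comap inclR q'.asIdeal := by
        have := congrArg PrimeSpectrum.asIdeal hq'J
        rw [PrimeSpectrum.comap_asIdeal] at this
        exact this.symm
      have h3 : Ideal.map inclR (conductor B₀ b) ≤ q'.asIdeal := by
        rw [Ideal.map_le_iff_le_comap, ← hJ']
        exact hJ
      exact hq' (q'.isPrime.mem_of_pow_mem m (h3 hm))
    obtain ⟨N, hN⟩ := hrad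
    refine ⟨N, ?_⟩
    have := mem_conductor.mp hN
    rwa [Subalgebra.coe_pow] at this
  refine ⟨(h₀ : B), ?_, ?_⟩
  · have : h₀ ∉ (PrimeSpectrum.comap inclR q₀).asIdeal := hp₀
    rw [PrimeSpectrum.comap_asIdeal, Ideal.mem_comap, PrimeSpectrum.comap_asIdeal,
      Ideal.mem_comap] at this
    exact this
  · have : Algebra.FiniteType k B₀ := (Subalgebra.fg_iff_finiteType B₀).mp hB₀fg
    have : Algebra.FiniteType B₀ (Localization.Away h₀) :=
      IsLocalization.finiteType_of_monoid_fg (Submonoid.powers h₀) _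
    have : Algebra.FiniteType k (Localization.Away h₀) :=
      Algebra.FiniteType.trans (S := B₀) inferInstance inferInstance
    refine Algebra.FiniteType.of_surjective (Localization.awayMapₐ B₀.val h₀) ?_
    change Function.Surjective (Localization.awayMap B₀.val.toRingHom h₀)
    rw [Localization.awayMap_surjective_iff]
    intro b
    obtain ⟨N, hN⟩ := hpow b
    exact ⟨⟨_, hN⟩, N, rfl⟩

end Alg

end Groth.Agent.Lib.H71LftDescent
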