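import Mathlib
import Groth.Agent.Lib.H71LftDescent

set_option autoImplicit false
universe u

open TensorProduct CategoryTheory CategoryTheory.Limits AlgebraicGeometry

namespace Groth.Agent.Lib.H71LftDescent

section Sch

variable (k R B : Type u) [Field k] [CommRing R] [CommRing B] [Algebra k R] [Algebra k B]

/-- Scheme version: an open `Ω ⊆ Spec R ×ₖ Spec B`, locally of finite type over `Spec R`; then every
point of the image of `Ω` in `Spec B` has a basic open neighbourhood of finite type over `k`. -/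
theorem exists_basicOpen_finiteType
    (Ω : (pullback (Spec.map (CommRingCat.ofHom (algebraMap k R)))
      (Spec.map (CommRingCat.ofHom (algebraMap k B)))).Opens)
    (hΩ : LocallyOfFiniteType (Ω.ι ≫ pullback.fst _ _))
    (p : ↥(pullback (Spec.map (CommRingCat.ofHom (algebraMap k R)))
      (Spec.map (CommRingCat.ofHom (algebraMap k B))))) (hp : p ∈ Ω) :
    ∃ h : B, h ∉ PrimeSpectrum.asIdeal ((pullback.snd (Spec.map (CommRingCat.ofHom (algebraMap k R)))
        (Spec.map (CommRingCat.ofHom (algebraMap k B)))).base p) ∧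
      Algebra.FiniteType k (Localization.Away h) := by
  let e := pullbackSpecIso k R B
  let p' : PrimeSpectrum (R ⊗[k] B) := e.hom.base p
  let Ω' : (Spec (.of (R ⊗[k] B))).Opens := e.inv ⁻¹ᵁ Ω
  have hp' : p' ∈ (SetLike.coe Ω' : Set (PrimeSpectrum (R ⊗[k] B))) := by
    change e.inv.base (e.hom.base p) ∈ Ω
    rw [← Scheme.Hom.comp_apply, e.hom_inv_id]
    exact hp
  obtain ⟨_, ⟨_, ⟨f, rfl⟩, rfl⟩, hpf, hsub⟩ :=
    PrimeSpectrum.isBasis_basic_opens.exists_subset_of_mem_open hp' Ω'.isOpen
  let j : Spec (.of (Localization.Away f)) ⟶ Spec (.of (R ⊗[k] B)) :=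
    Spec.map (CommRingCat.ofHom (algebraMap (R ⊗[k] B) (Localization.Away f)))
  have hj : Set.range j.base = (PrimeSpectrum.basicOpen f : Set (PrimeSpectrum (R ⊗[k] B))) :=
    PrimeSpectrum.localization_away_comap_range (Localization.Away f) f
  have hrange : Set.range (j ≫ e.inv).base ⊆ Set.range Ω.ι.base := by
    rw [Scheme.Opens.range_ι]
    rintro _ ⟨y, rfl⟩
    rw [Scheme.Hom.comp_apply]
    exact hsub (hj ▸ Set.mem_range_self y)
  let l := IsOpenImmersion.lift Ω.ι (j ≫ e.inv) hrange
  have hl : l ≫ Ω.ι = j ≫ e.inv := IsOpenImmersion.lift_fac _ _ _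
  have : LocallyOfFiniteType (l ≫ Ω.ι) := by rw [hl]; infer_instance
  have : LocallyOfFiniteType l := locallyOfFiniteType_of_comp l Ω.ι
  have h1 : LocallyOfFiniteType (l ≫ Ω.ι ≫ pullback.fst _ _) := inferInstance
  have h2 : l ≫ Ω.ι ≫ pullback.fst _ _ =
      Spec.map (CommRingCat.ofHom (algebraMap R (Localization.Away f))) := by
    rw [← Category.assoc, hl, Category.assoc, pullbackSpecIso_inv_fst', ← Spec.map_comp,
      ← CommRingCat.ofHom_comp, ← IsScalarTower.algebraMap_eq]
  rw [h2, HasRingHomProperty.Spec_iff (P := @LocallyOfFiniteType)] at h1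
  have : Algebra.FiniteType R (Localization.Away f) := RingHom.finiteType_algebraMap.mp h1
  obtain ⟨h, hh, hft⟩ := exists_away_finiteType f p' hpf
  refine ⟨h, ?_, hft⟩
  have h3 : (pullback.snd (Spec.map (CommRingCat.ofHom (algebraMap k R)))
      (Spec.map (CommRingCat.ofHom (algebraMap k B)))).base p =
      (Spec.map (CommRingCat.ofHom (Algebra.TensorProduct.includeRight :
        B →ₐ[k] R ⊗[k] B).toRingHom)).base p' := by
    rw [← pullbackSpecIso_hom_snd, Scheme.Hom.comp_apply]
    rfl
  intro hmem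
  apply hh
  rw [h3] at hmem
  exact hmem

end Sch

end Groth.Agent.Lib.H71LftDescent
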