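import Mathlib
import Groth.Prelude
import Groth.Agent.Lib.H71FlatHomog
import Groth.Agent.Lib.SrcLocalFppf64
import Groth.Agent.Lib.H71HomLocus2

set_option autoImplicit false
universe u

open CategoryTheory CategoryTheory.Limits MonoidalCategory CartesianMonoidalCategory MonObj GrpObj
  AlgebraicGeometry

namespace Groth.Agent.Lib.H71HomLocus

open Groth.Agent.Lib.H71UnivOpenLocus Groth.Agent.Lib.H71KerCrit

section Transl

variable {S : Scheme.{u}} {G H : Over S} [GrpObj G] [GrpObj H] (u : G ⟶ H) [IsMonHom u]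
  (W : G.left.Opens)

/-- `(g, w) ↦ g w` on `G × W`. -/
noncomputable abbrev mulR : G ⊗ opObj W ⟶ G := (G ◁ opHom W) ≫ μ[G]

omit [GrpObj H] in
theorem mulR_eq : mulR W = (G ◁ opHom W) ≫ (shearBy (𝟙 G)).hom ≫ snd G G := by
  simp only [shearBy]
  rw [lift_snd, Category.comp_id, Hom.mul_def, lift_fst_snd, Category.id_comp]

theorem mulR_comp : mulR W ≫ u =
    (G ◁ (opHom W ≫ u)) ≫ (shearBy u).hom ≫ snd G H := by
  simp only [shearBy]
  rw [lift_snd, MonObj.comp_mul, whiskerLeft_fst_assoc, whiskerLeft_snd, Category.assoc,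
    MonObj.mul_eq_mul (M := G), MonObj.mul_comp, MonObj.comp_mul, whiskerLeft_fst_assoc,
    whiskerLeft_snd_assoc]

omit [GrpObj H] in
/-- The image of `G × W → G` contains the fibres meeting `W`. -/
theorem mem_range_mulR (x' w : G.left) (hw : w ∈ W) (h : G.hom.base x' = G.hom.base w) :
    x' ∈ Set.range (mulR W).left.base := by
  obtain ⟨t, ht1, -⟩ := Scheme.Pullback.exists_preimage_pullback (f := G.hom)
    (g := (opObj W).hom) x' ⟨w, hw⟩ (by rw [h]; rfl)
  let ρ : G ⊗ opObj W ⟶ G ⊗ opObj W :=
    lift ((fst G (opObj W)) * (snd G (opObj W) ≫ opHom W)⁻¹) (snd G (opObj W))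
  have hρ : ρ ≫ mulR W = fst G (opObj W) := by
    simp only [ρ]
    rw [← Category.assoc, lift_whiskerLeft, ← Hom.mul_def, inv_mul_cancel_right]
  refine ⟨ρ.left.base t, ?_⟩
  rw [← Scheme.Hom.comp_apply, ← Over.comp_left, hρ]
  exact ht1

section Props

variable (P : MorphismProperty Scheme.{u}) [P.IsStableUnderBaseChange] [P.IsStableUnderComposition]

omit [GrpObj G] [IsMonHom u] in
theorem prop_whisker_shear_snd {K : Over S} (c : K ⟶ H) (v : G ⟶ H) (hc : P c.left)
    (hG : P G.hom) : P ((G ◁ c) ≫ (shearBy v).hom ≫ snd G H).left := by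
  rw [Over.comp_left, Over.comp_left]
  have h1 : P (G ◁ c).left := MorphismProperty.of_isPullback
    ((Groth.Agent.Lib.CartPull18.isPullback_whiskerLeft_snd G c).flip.map (Over.forget S)) hc
  have h2 : P (snd G H).left := by
    change P (pullback.snd G.hom H.hom)
    exact P.pullback_snd _ _ hG
  have : IsIso (shearBy v).hom.left := inferInstance
  exact P.comp_mem _ _ h1 ((P.cancel_left_of_respectsIso _ _).mpr h2)

end Props

/-- Over a base where every point of `G` lies in the same fibre as a point of the open `W`,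
local finite presentation of `u` on `W` propagates to `G` (translation + fppf descent on the source). -/
theorem lfp_of_lfp_open [Flat G.hom] [LocallyOfFinitePresentation G.hom]
    (hsurj : ∀ x' : G.left, ∃ w ∈ W, G.hom.base x' = G.hom.base w)
    (hW : LocallyOfFinitePresentation (W.ι ≫ u.left)) : LocallyOfFinitePresentation u.left := by
  have hF : Flat (mulR W).left := by
    rw [mulR_eq]
    exact prop_whisker_shear_snd @Flat (opHom W) (𝟙 G) (inferInstanceAs (Flat W.ι)) inferInstance
  have hP : LocallyOfFinitePresentation (mulR W).left := by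
    rw [mulR_eq]
    exact prop_whisker_shear_snd @LocallyOfFinitePresentation (opHom W) (𝟙 G)
      (inferInstanceAs (LocallyOfFinitePresentation W.ι)) inferInstance
  have hS : Surjective (mulR W).left := ⟨fun x' => by
    obtain ⟨w, hw, h⟩ := hsurj x'
    exact mem_range_mulR W x' w hw h⟩
  have hC : LocallyOfFinitePresentation ((mulR W).left ≫ u.left) := by
    rw [← Over.comp_left, mulR_comp]
    exact prop_whisker_shear_snd @LocallyOfFinitePresentation (opHom W ≫ u) u hW inferInstance
  exact Groth.Agent.Lib.SrcLocalFppf64.sourceFppfLocal_locallyOfFinitePresentation _ _ hF hP hS hC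

end Transl

section Stalk

variable {S : Scheme.{u}} {G H : Over S} [GrpObj G] [GrpObj H] (u : G ⟶ H) [IsMonHom u]
variable {Q : ∀ {R S : Type u} [CommRing R] [CommRing S], (R →+* S) → Prop}
variable {P : MorphismProperty Scheme.{u}}

theorem ptProp_homogeneous (hQ : RingHom.RespectsIso @Q)
    (hP : PtProp P (fun _ _ f x => Q (f.stalkMap x).hom)) [LocallyOfFiniteType u.left]
    (x x' : G.left) (hxx' : G.hom.base x = G.hom.base x') (hx : Q (u.left.stalkMap x).hom) :
    Q (u.left.stalkMap x').hom :=
  homogeneous u hQ (fun z => hP.bc (isPullback_snd_whiskerLeft u) inferInstance z) x x' hxx' hx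

omit [GrpObj G] [GrpObj H] [IsMonHom u] in
theorem hbc_smooth [Flat G.hom] [LocallyOfFinitePresentation u.left] (z : ↥(G ⊗ G).left) :
    ((G ◁ u).left.stalkMap z).hom.FormallySmooth ↔
      (u.left.stalkMap ((snd G G).left.base z)).hom.FormallySmooth := by
  have sq := isPullback_snd_whiskerLeft u
  have := flat_snd_of_flat (G := G) H
  exact ⟨Groth.Agent.Lib.SmoothLocusBC.formallySmooth_stalkMap_of_isPullback_of_flat sq z,
    Groth.Agent.Lib.SmoothLocusBC.formallySmooth_stalkMap_snd_of_isPullback sq z⟩

theorem smooth_homogeneous [Flat G.hom] [LocallyOfFinitePresentation u.left]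
    (x x' : G.left) (hxx' : G.hom.base x = G.hom.base x')
    (hx : (u.left.stalkMap x).hom.FormallySmooth) : (u.left.stalkMap x').hom.FormallySmooth :=
  homogeneous u (Q := @RingHom.FormallySmooth) RingHom.FormallySmooth.respectsIso (hbc_smooth u)
    x x' hxx' hx

end Stalk

theorem lft_left {S : Scheme.{u}} {G H : Over S} (u : G ⟶ H) [LocallyOfFiniteType G.hom] :
    LocallyOfFiniteType u.left := by
  have : LocallyOfFiniteType (u.left ≫ H.hom) := by rw [Over.w u]; infer_instance
  exact locallyOfFiniteType_of_comp u.left H.hom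

section Final

variable {S : Scheme.{u}} [Subsingleton S] {G H : Over S} [GrpObj G] [GrpObj H] (u : G ⟶ H)
  [IsMonHom u] [Flat G.hom] [LocallyOfFinitePresentation G.hom]
  (W : G.left.Opens) (hW : (W : Set G.left).Nonempty)

include hW

omit [Flat G.hom] in
theorem lqf_of_open (h : LocallyQuasiFinite (W.ι ≫ u.left)) : LocallyQuasiFinite u.left := by
  have := lft_left u
  obtain ⟨w, hw⟩ := hW
  have h1 : (W.ι ≫ u.left).QuasiFiniteAt ⟨w, hw⟩ := (W.ι ≫ u.left).quasiFiniteAt _
  rw [Scheme.Hom.quasiFiniteAt_comp_iff_of_isOpenImmersion] at h1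
  rw [ptProp_locallyQuasiFinite.loc u.left inferInstance]
  intro x'
  exact ptProp_homogeneous u (Q := @RingHom.QuasiFinite) RingHom.QuasiFinite.respectsIso
    ptProp_locallyQuasiFinite w x' (Subsingleton.elim _ _) h1

omit [Flat G.hom] in
theorem unram_of_open (h : FormallyUnramified (W.ι ≫ u.left)) : FormallyUnramified u.left := by
  have := lft_left u
  obtain ⟨w, hw⟩ := hW
  have h1 := (Groth.Agent.Lib.UnramifiedLocusBC.exists_nhds_formallyUnramified_iff u.left w).mp
    ⟨W, hw, h⟩
  rw [ptProp_formallyUnramified.loc u.left inferInstance]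
  intro x'
  exact ptProp_homogeneous u (Q := @RingHom.FormallyUnramified)
    RingHom.FormallyUnramified.respectsIso ptProp_formallyUnramified w x' (Subsingleton.elim _ _) h1

theorem lfp_of_open (h : LocallyOfFinitePresentation (W.ι ≫ u.left)) :
    LocallyOfFinitePresentation u.left := by
  obtain ⟨w, hw⟩ := hW
  exact lfp_of_lfp_open u W (fun x' => ⟨w, hw, Subsingleton.elim _ _⟩) h

theorem smooth_of_open (h : Smooth (W.ι ≫ u.left)) : Smooth u.left := by
  have := lfp_of_open u W hW inferInstance
  obtain ⟨w, hw⟩ := hW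
  have h1 := (Groth.Agent.Lib.SmoothLocusBC.exists_nhds_smooth_iff u.left w).mp ⟨W, hw, h⟩
  rw [smooth_iff_forall_stalk]
  intro x'
  exact smooth_homogeneous u w x' (Subsingleton.elim _ _) h1

theorem etale_of_open (h : Etale (W.ι ≫ u.left)) : Etale u.left := by
  have := lfp_of_open u W hW inferInstance
  have := lft_left u
  have hsm : Smooth u.left := smooth_of_open u W hW inferInstance
  have hun : FormallyUnramified u.left := unram_of_open u W hW inferInstance
  rw [etale_iff_forall_stalk]
  intro x'
  exact ⟨(smooth_iff_forall_stalk u.left).mp hsm x', FormallyUnramified.stalkMap u.left x'⟩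

end Final

end Groth.Agent.Lib.H71HomLocus
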