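import Mathlib
import Groth.Prelude
import Groth.Agent.Lib.H71LftDescentSch
import Groth.Agent.Lib.H71OpenToGlobal

set_option autoImplicit false
universe u

open CategoryTheory CategoryTheory.Limits MonoidalCategory CartesianMonoidalCategory MonObj GrpObj
  AlgebraicGeometry

namespace Groth.Agent.Lib.H71LftGroup

open Groth.Agent.Lib.H71UnivOpenLocus

section Gen

variable {S : Scheme.{u}} {G : Over S} [GrpObj G] (W : G.left.Opens)
  {T : Over S} (xT : T ⟶ G) (wT : T ⟶ opObj W)

/-- `(t, w) ↦ (t, x(t) w(t)⁻¹ w)`. -/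
noncomputable def psi : T ⊗ opObj W ⟶ T ⊗ G :=
  (T ◁ opHom W) ≫ (shearBy (xT * (wT ≫ opHom W)⁻¹)).hom

theorem psi_fst : psi W xT wT ≫ fst T G = fst T (opObj W) := by
  simp only [psi, shearBy, Category.assoc, lift_fst, whiskerLeft_fst]

theorem lift_psi : lift (𝟙 T) wT ≫ psi W xT wT = lift (𝟙 T) xT := by
  simp only [psi, shearBy]
  rw [← Category.assoc, lift_whiskerLeft, comp_lift, lift_fst, MonObj.comp_mul, lift_snd,
    lift_fst_assoc, Category.id_comp, inv_mul_cancel_right]

instance isOpenImmersion_whiskerLeft {Z X : Over S} (z : Z ⟶ X) [IsOpenImmersion z.left] :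
    IsOpenImmersion (T ◁ z).left :=
  MorphismProperty.of_isPullback (P := @IsOpenImmersion)
    ((Groth.Agent.Lib.CartPull18.isPullback_whiskerLeft_snd T z).flip.map (Over.forget S))
    (inferInstanceAs (IsOpenImmersion z.left))

instance : IsOpenImmersion (opHom W).left := inferInstanceAs (IsOpenImmersion W.ι)

instance isOpenImmersion_psi : IsOpenImmersion (psi W xT wT).left := by
  unfold psi
  rw [Over.comp_left]
  have : IsIso (shearBy (xT * (wT ≫ opHom W)⁻¹)).hom.left := inferInstance
  infer_instance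

variable {Y : Over S} (j : Y ⟶ G) [IsOpenImmersion j.left]

/-- The open of `T × Y` of points `(t, y)` with `y ∈ x(t) w(t)⁻¹ W`. -/
noncomputable def omega : (T ⊗ Y).left.Opens :=
  (T ◁ j).left ⁻¹ᵁ (psi W xT wT).left.opensRange

theorem lft_omega [LocallyOfFiniteType (W.ι ≫ G.hom)] :
    LocallyOfFiniteType ((omega W xT wT j).ι ≫ (fst T Y).left) := by
  set Ω := omega W xT wT j
  have hrange : Set.range (Ω.ι ≫ (T ◁ j).left).base ⊆ Set.range (psi W xT wT).left.base := by
    rintro _ ⟨y, rfl⟩
    rw [Scheme.Hom.comp_apply]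
    exact y.2
  let l := IsOpenImmersion.lift (psi W xT wT).left (Ω.ι ≫ (T ◁ j).left) hrange
  have hl : l ≫ (psi W xT wT).left = Ω.ι ≫ (T ◁ j).left := IsOpenImmersion.lift_fac _ _ _
  have h1 : LocallyOfFiniteType (l ≫ (psi W xT wT).left) := by rw [hl]; infer_instance
  have h2 : LocallyOfFiniteType l := locallyOfFiniteType_of_comp l (psi W xT wT).left
  have h3 : LocallyOfFiniteType (fst T (opObj W)).left := by
    change LocallyOfFiniteType (pullback.fst T.hom (W.ι ≫ G.hom))
    infer_instance
  have e : Ω.ι ≫ (fst T Y).left = l ≫ (fst T (opObj W)).left := by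
    rw [← psi_fst W xT wT, Over.comp_left, ← Category.assoc, hl, Category.assoc,
      ← Over.comp_left, whiskerLeft_fst]
  rw [e]
  infer_instance

end Gen

section Field

variable (k : Type u) [Field k] (G : Over (Spec (CommRingCat.of k))) [GrpObj G]
  (W : G.left.Opens)

theorem exists_lft_nhds [LocallyOfFiniteType (W.ι ≫ G.hom)] (w₀ : G.left) (hw₀ : w₀ ∈ W)
    (x' : G.left) : ∃ V : G.left.Opens, x' ∈ V ∧ LocallyOfFiniteType (V.ι ≫ G.hom) := by
  have hS : Subsingleton ↥(Spec (CommRingCat.of k)) :=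
    (inferInstance : Subsingleton (PrimeSpectrum k))
  obtain ⟨z, hz1, hz2⟩ := Scheme.Pullback.exists_preimage_pullback (f := G.hom)
    (g := (opObj W).hom) x' ⟨w₀, hw₀⟩ (Subsingleton.elim _ _)
  -- the residue field of `z`
  let Kc : CommRingCat := (pullback G.hom (opObj W).hom).residueField z
  let zK : Spec Kc ⟶ pullback G.hom (opObj W).hom :=
    (pullback G.hom (opObj W).hom).fromSpecResidueField z
  let φK : CommRingCat.of k ⟶ Kc := Spec.preimage (zK ≫ (G ⊗ opObj W).hom)
  have hφK : Spec.map φK = zK ≫ (G ⊗ opObj W).hom := Spec.map_preimage _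
  letI : Algebra k Kc := φK.hom.toAlgebra
  let T : Over (Spec (CommRingCat.of k)) :=
    Over.mk (Spec.map (CommRingCat.ofHom (algebraMap k Kc)))
  let c : T ⟶ G ⊗ opObj W := Over.homMk zK hφK.symm
  -- an affine open neighbourhood of `x'`
  obtain ⟨_, ⟨Y, hY, rfl⟩, hxY, -⟩ :=
    G.left.isBasis_affineOpens.exists_subset_of_mem_open (Set.mem_univ x') isOpen_univ
  let Bc : CommRingCat := Γ(G.left, Y)
  let jY : Spec Bc ⟶ G.left := hY.fromSpec
  let φB : CommRingCat.of k ⟶ Bc := Spec.preimage (jY ≫ G.hom)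
  have hφB : Spec.map φB = jY ≫ G.hom := Spec.map_preimage _
  letI : Algebra k Bc := φB.hom.toAlgebra
  let 𝒴 : Over (Spec (CommRingCat.of k)) :=
    Over.mk (Spec.map (CommRingCat.ofHom (algebraMap k Bc)))
  let j : 𝒴 ⟶ G := Over.homMk jY hφB.symm
  haveI : IsOpenImmersion j.left := inferInstanceAs (IsOpenImmersion hY.fromSpec)
  let xT : T ⟶ G := c ≫ fst G (opObj W)
  let wT : T ⟶ opObj W := c ≫ snd G (opObj W)
  have hΩ := lft_omega W xT wT j
  -- the point
  let pt : ↥(Spec Kc) := IsLocalRing.closedPoint Kc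
  let P₀ := (lift (𝟙 T) xT).left.base pt
  have hP₀snd : (snd T G).left.base P₀ = x' := by
    rw [← Scheme.Hom.comp_apply, ← Over.comp_left, lift_snd]
    change (zK ≫ pullback.fst G.hom (opObj W).hom).base pt = x'
    rw [Scheme.Hom.comp_apply, Scheme.fromSpecResidueField_apply, hz1]
  have hP₀ψ : P₀ ∈ Set.range (psi W xT wT).left.base :=
    ⟨(lift (𝟙 T) wT).left.base pt, by
      rw [← Scheme.Hom.comp_apply, ← Over.comp_left, lift_psi]⟩
  have hP₀j : P₀ ∈ Set.range (T ◁ j).left.base := by
    rw [← id_tensorHom, range_tensorHom_left']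
    refine ⟨?_, ?_⟩
    · change (fst T G).left.base P₀ ∈ Set.range (𝟙 T : T ⟶ T).left.base
      rw [Over.id_left]
      exact ⟨_, rfl⟩
    · change (snd T G).left.base P₀ ∈ Set.range jY.base
      rw [hP₀snd, hY.range_fromSpec]; exact hxY
  obtain ⟨p, hp⟩ := hP₀j
  have hpΩ : p ∈ omega W xT wT j := by
    change (T ◁ j).left.base p ∈ (psi W xT wT).left.opensRange
    rw [hp]; exact hP₀ψ
  obtain ⟨h, hh, hft⟩ := Groth.Agent.Lib.H71LftDescent.exists_basicOpen_finiteType k Kc Bc
    (omega W xT wT j) hΩ p hpΩ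
  -- the neighbourhood
  let r : Spec (CommRingCat.of (Localization.Away h)) ⟶ G.left :=
    Spec.map (CommRingCat.ofHom (algebraMap Bc (Localization.Away h))) ≫ jY
  refine ⟨r.opensRange, ?_, ?_⟩
  · let y : ↥(Spec Bc) := (snd T 𝒴).left.base p
    have hy : jY.base y = x' := by
      change j.left.base ((snd T 𝒴).left.base p) = x'
      rw [← Scheme.Hom.comp_apply, ← Over.comp_left, ← whiskerLeft_snd, Over.comp_left,
        Scheme.Hom.comp_apply, hp, hP₀snd]
    have hyh : y ∈ Set.range
        (Spec.map (CommRingCat.ofHom (algebraMap Bc (Localization.Away h)))).base := by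
      have := PrimeSpectrum.localization_away_comap_range (Localization.Away h) h
      change y ∈ Set.range (PrimeSpectrum.comap (algebraMap Bc (Localization.Away h)))
      rw [this]
      exact hh
    obtain ⟨y', hy'⟩ := hyh
    exact ⟨y', by rw [Scheme.Hom.comp_apply, hy', hy]⟩
  · have e1 : r ≫ G.hom = Spec.map (CommRingCat.ofHom (algebraMap k (Localization.Away h))) := by
      rw [Category.assoc, ← hφB, ← Spec.map_comp]
      congr 1
    have h1 : LocallyOfFiniteType (r ≫ G.hom) := by
      rw [e1, HasRingHomProperty.Spec_iff (P := @LocallyOfFiniteType)]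
      exact RingHom.finiteType_algebraMap.mpr hft
    rw [← Scheme.Hom.isoOpensRange_inv_comp r, Category.assoc]
    infer_instance

/-- A group scheme over a field with a nonempty open subscheme locally of finite type is locally
of finite type. -/
theorem lft_of_lft_open (hW : (W : Set G.left).Nonempty) [LocallyOfFiniteType (W.ι ≫ G.hom)] :
    LocallyOfFiniteType G.hom := by
  obtain ⟨w₀, hw₀⟩ := hW
  choose V hxV hV using exists_lft_nhds k G W w₀ hw₀
  have hsup : iSup V = ⊤ := by
    rw [← top_le_iff]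
    intro x _
    exact TopologicalSpace.Opens.mem_iSup.mpr ⟨x, hxV x⟩
  exact (IsZariskiLocalAtSource.iff_of_iSup_eq_top (P := @LocallyOfFiniteType) V hsup).mpr hV

end Field

end Groth.Agent.Lib.H71LftGroup
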