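import Mathlib
import Groth.Agent.Lib.NilNakayama

set_option autoImplicit false
universe u

open TensorProduct

namespace Groth.Agent.Lib.H71NilFT

variable {A R : Type u} [CommRing A] [CommRing R] [Algebra A R]

/-- If `(A/𝔪) ⊗ R` is of finite type over `A/𝔪` with `𝔪` nilpotent, then `R` is of finite type
over `A`. -/
theorem finiteType_of_quotient_tensor (m : Ideal A) (hm : IsNilpotent m)
    [Algebra.FiniteType (A ⧸ m) ((A ⧸ m) ⊗[A] R)] : Algebra.FiniteType A R := by
  classical
  have h0 : Algebra.FiniteType A (A ⧸ m) :=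
    Algebra.FiniteType.of_surjective (Algebra.ofId A (A ⧸ m)) Ideal.Quotient.mk_surjective
  have h1 : Algebra.FiniteType A ((A ⧸ m) ⊗[A] R) := Algebra.FiniteType.trans (S := A ⧸ m) h0 ‹_›
  let π : R →ₐ[A] (A ⧸ m) ⊗[A] R := Algebra.TensorProduct.includeRight
  have hπ : Function.Surjective π :=
    Algebra.TensorProduct.includeRight_surjective (R := A) (S := A ⧸ m) R
      Ideal.Quotient.mk_surjective
  obtain ⟨s, hs⟩ := h1.out
  let g := Function.surjInv hπ
  let R' : Subalgebra A R := Algebra.adjoin A ((s.image g : Finset R) : Set R)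
  have hR'map : R'.map π = ⊤ := by
    rw [AlgHom.map_adjoin, ← hs]
    congr 1
    ext y
    simp only [Finset.coe_image, Set.mem_image, Finset.mem_coe, exists_exists_and_eq_and]
    constructor
    · rintro ⟨x, hx, rfl⟩
      rw [Function.surjInv_eq hπ]; exact hx
    · intro hy
      exact ⟨y, hy, Function.surjInv_eq hπ y⟩
  have hker : ∀ r : R, π r = 0 → r ∈ (m • ⊤ : Submodule A R) := by
    intro r hr
    have := congrArg (TensorProduct.quotTensorEquivQuotSMul R m) hr
    rw [map_zero] at this
    change TensorProduct.quotTensorEquivQuotSMul R m ((Ideal.Quotient.mk m 1) ⊗ₜ[A] r) = 0 at this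
    rw [TensorProduct.quotTensorEquivQuotSMul_mk_tmul, one_smul,
      Submodule.Quotient.mk_eq_zero] at this
    exact this
  have htop : Subalgebra.toSubmodule R' = ⊤ := by
    apply Groth.Agent.Lib.NilNakayama.eq_top_of_top_le_sup_smul m hm
    intro y _
    have : π y ∈ R'.map π := by rw [hR'map]; trivial
    obtain ⟨y', hy', hyy'⟩ := this
    have h2 : π (y - y') = 0 := by rw [map_sub]; exact sub_eq_zero.mpr hyy'.symm
    have : y = y' + (y - y') := by ring
    rw [this]
    exact Submodule.add_mem_sup hy' (hker _ h2)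
  refine ⟨⟨s.image g, ?_⟩⟩
  change R' = ⊤
  apply Subalgebra.toSubmodule_injective
  rw [htop]
  rfl

end Groth.Agent.Lib.H71NilFT

namespace Groth.Agent.Lib.H71NilFT

open CategoryTheory CategoryTheory.Limits AlgebraicGeometry

section Sch

variable (A : Type u) [CommRing A] [IsArtinianRing A] [IsLocalRing A]

theorem isNilpotent_maximalIdeal : IsNilpotent (IsLocalRing.maximalIdeal A) := by
  have := IsArtinianRing.isNilpotent_jacobson_bot (R := A)
  rwa [IsLocalRing.jacobson_eq_maximalIdeal _ bot_ne_top] at this

/-- Over a local artinian ring, a scheme whose special fibre is locally of finite type is locally of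
finite type. -/
theorem lft_of_lft_special_fibre {X : Scheme.{u}} (f : X ⟶ Spec (CommRingCat.of A))
    (h : LocallyOfFiniteType (pullback.snd f
      (Spec.map (CommRingCat.ofHom (IsLocalRing.residue A))))) : LocallyOfFiniteType f := by
  set jA := Spec.map (CommRingCat.ofHom (IsLocalRing.residue A)) with hjA
  rw [IsZariskiLocalAtSource.iff_of_openCover (P := @LocallyOfFiniteType)
    X.affineOpenCover.openCover]
  intro i
  let Rc : CommRingCat := X.affineOpenCover.X i
  let g : Spec Rc ⟶ X := X.affineOpenCover.f i
  change LocallyOfFiniteType (g ≫ f)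
  let φ : CommRingCat.of A ⟶ Rc := Spec.preimage (g ≫ f)
  have hφ : Spec.map φ = g ≫ f := Spec.map_preimage _
  letI : Algebra A Rc := φ.hom.toAlgebra
  have h1 : LocallyOfFiniteType (pullback.snd (g ≫ f) jA) := by
    have e : pullback.snd (g ≫ f) jA =
        pullback.map (g ≫ f) jA f jA g (𝟙 _) (𝟙 _) (by simp) (by simp) ≫ pullback.snd f jA := by
      simp only [pullback.map]
      rw [pullback.lift_snd, Category.comp_id]
    rw [e]
    infer_instance
  have h2 : LocallyOfFiniteType (pullback.fst jA (g ≫ f)) := by
    rw [← pullbackSymmetry_hom_comp_snd]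
    infer_instance
  have h3 : LocallyOfFiniteType (Spec.map (CommRingCat.ofHom
      (algebraMap (IsLocalRing.ResidueField A) ((IsLocalRing.ResidueField A) ⊗[A] Rc)))) := by
    rw [← pullbackSpecIso_inv_fst']
    have : LocallyOfFiniteType (pullback.fst
        (Spec.map (CommRingCat.ofHom (algebraMap A (IsLocalRing.ResidueField A))))
        (Spec.map (CommRingCat.ofHom (algebraMap A Rc)))) := by
      have h2' : LocallyOfFiniteType (pullback.fst jA (Spec.map φ)) := by rw [hφ]; exact h2
      exact h2'
    infer_instance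
  rw [HasRingHomProperty.Spec_iff (P := @LocallyOfFiniteType)] at h3
  have h4 : Algebra.FiniteType (A ⧸ IsLocalRing.maximalIdeal A)
      ((A ⧸ IsLocalRing.maximalIdeal A) ⊗[A] Rc) := RingHom.finiteType_algebraMap.mp h3
  have h5 : Algebra.FiniteType A Rc :=
    finiteType_of_quotient_tensor (IsLocalRing.maximalIdeal A) (isNilpotent_maximalIdeal A)
  rw [← hφ, HasRingHomProperty.Spec_iff (P := @LocallyOfFiniteType)]
  exact RingHom.finiteType_algebraMap.mpr h5

end Sch

end Groth.Agent.Lib.H71NilFT
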