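import Mathlib
import Groth.Prelude
import Groth.Agent.Lib.H71LftGroup
import Groth.Agent.Lib.H71NilFT
import Groth.Agent.Lib.ArtinTransfer45

set_option autoImplicit false
universe u

open CategoryTheory CategoryTheory.Limits MonoidalCategory CartesianMonoidalCategory MonObj GrpObj
  AlgebraicGeometry

namespace Groth.Agent.Lib.H71LftGroup

open Groth.Agent.Lib.ArtinTransfer45
open scoped CategoryTheory.Obj

section Artin

variable (A : Type u) [CommRing A] [IsArtinianRing A] [IsLocalRing A]
  (G : Over (Spec (CommRingCat.of A))) [GrpObj G] (W : G.left.Opens)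

/-- A group scheme over a local artinian ring with a nonempty open subscheme locally of finite type
is locally of finite type. -/
theorem lft_of_lft_open_artin (hW : (W : Set G.left).Nonempty)
    [LocallyOfFiniteType (W.ι ≫ G.hom)] : LocallyOfFiniteType G.hom := by
  apply Groth.Agent.Lib.H71NilFT.lft_of_lft_special_fibre A G.hom
  let Gk : Over (Spec (CommRingCat.of (IsLocalRing.ResidueField A))) := (Over.pullback (j A)).obj G
  let Wk : Gk.left.Opens := (π G) ⁻¹ᵁ W
  have hWk : (Wk : Set Gk.left).Nonempty := by
    obtain ⟨w, hw⟩ := hW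
    obtain ⟨w', rfl⟩ := (π G).surjective w
    exact ⟨w', hw⟩
  have sq : IsPullback (π G ∣_ W) (Wk.ι ≫ pullback.snd G.hom (j A)) (W.ι ≫ G.hom) (j A) :=
    (isPullback_morphismRestrict (π G) W).paste_vert (IsPullback.of_hasPullback G.hom (j A))
  haveI : LocallyOfFiniteType (Wk.ι ≫ Gk.hom) :=
    MorphismProperty.of_isPullback (P := @LocallyOfFiniteType) sq inferInstance
  exact lft_of_lft_open (IsLocalRing.ResidueField A) Gk Wk hWk

end Artin

end Groth.Agent.Lib.H71LftGroup
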