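import Mathlib
import Groth.Prelude
import Groth.Agent.Lib.H71FlatHomog
import Groth.Agent.Lib.GrpActionShear

set_option autoImplicit false
universe u

open CategoryTheory CategoryTheory.Limits MonoidalCategory CartesianMonoidalCategory MonObj GrpObj
  AlgebraicGeometry

namespace Groth.Agent.Lib.H71HomLocus

section HomogEq

open Groth.Agent.Lib.H71UnivOpenLocus

variable {S : Scheme.{u}} {G X : Over S} [GrpObj G] (v : G ⟶ X)
variable {Q : ∀ {R S : Type u} [CommRing R] [CommRing S], (R →+* S) → Prop}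

/-- Homogeneity for equivariant maps: `v : G ⟶ X` such that the left-translation shear of `G ⊗ G`
is intertwined by `G ◁ v` with an automorphism `σ` of `G ⊗ X`. -/
theorem homogeneous_equivariant (hQ : RingHom.RespectsIso @Q)
    (σ : G ⊗ X ⟶ G ⊗ X) [IsIso σ.left]
    (hσ : (shearBy (𝟙 G)).hom ≫ (G ◁ v) = (G ◁ v) ≫ σ)
    (hbc : ∀ z : ↥(G ⊗ G).left, Q ((G ◁ v).left.stalkMap z).hom ↔
      Q (v.left.stalkMap ((snd G G).left.base z)).hom)
    (x x' : G.left) (hxx' : G.hom.base x = G.hom.base x') (hx : Q (v.left.stalkMap x).hom) :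
    Q (v.left.stalkMap x').hom := by
  obtain ⟨w, hw1, hw2⟩ := Scheme.Pullback.exists_preimage_pullback (f := G.hom) (g := G.hom)
    x' x hxx'.symm
  let ρ : G ⊗ G ⟶ G ⊗ G := lift ((fst G G) * (snd G G)⁻¹) (snd G G)
  set z : ↥(G ⊗ G).left := ρ.left.base w with hz
  have hz1 : (snd G G).left.base z = x := by
    rw [hz, ← Scheme.Hom.comp_apply, ← Over.comp_left, lift_snd]
    exact hw2
  have hz2 : (snd G G).left.base ((shearBy (𝟙 G)).hom.left.base z) = x' := by
    rw [hz, ← Scheme.Hom.comp_apply, ← Scheme.Hom.comp_apply, ← Over.comp_left, ← Over.comp_left]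
    have : ρ ≫ (shearBy (𝟙 G)).hom ≫ snd G G = fst G G := by
      simp only [shearBy, ρ, lift_snd, Category.comp_id, MonObj.comp_mul, lift_fst, lift_snd]
      rw [inv_mul_cancel_right]
    rw [this]
    exact hw1
  have h1 : Q ((G ◁ v).left.stalkMap z).hom := by
    rw [hbc, hz1]; exact hx
  have hcomm : (shearBy (𝟙 G)).hom.left ≫ (G ◁ v).left = (G ◁ v).left ≫ σ.left := by
    rw [← Over.comp_left, ← Over.comp_left, hσ]
  have h2 := (stalk_iso_invariance hQ (G ◁ v).left (G ◁ v).left (shearBy (𝟙 G)).hom.left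
    σ.left hcomm z).mp h1
  rw [hbc, hz2] at h2
  exact h2

variable (a : AlgGrp.Action G X) (s₀ : 𝟙_ (Over S) ⟶ X)

theorem orbitMap_equivariant :
    μ[G] ≫ a.orbitMap s₀ = (G ◁ a.orbitMap s₀) ≫ a.act := by
  apply AlgGrp.Action.hom_ext_lift₂
  intro T g h
  rw [lift_whiskerLeft_assoc, ← Category.assoc (lift g h) μ, ← Hom.mul_def,
    AlgGrp.Action.comp_orbitMap, AlgGrp.Action.comp_orbitMap, AlgGrp.Action.lift_mul_act]

theorem shear_orbitMap :
    (shearBy (𝟙 G)).hom ≫ (G ◁ a.orbitMap s₀) =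
      (G ◁ a.orbitMap s₀) ≫ Groth.Agent.Lib.GrpAction.shear a := by
  simp only [shearBy, Groth.Agent.Lib.GrpAction.shear]
  apply CartesianMonoidalCategory.hom_ext
  · simp
  · simp only [Category.assoc, whiskerLeft_snd, lift_snd, lift_snd_assoc, Category.comp_id]
    rw [← orbitMap_equivariant]
    congr 1
    rw [Hom.mul_def, lift_fst_snd, Category.id_comp]

/-- S5347 generic: the orbit map of a flat group scheme, flat at a point, is flat at every point
of the same fibre. -/
theorem orbitMap_flat_homogeneous [Flat G.hom] (x x' : G.left)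
    (hxx' : G.hom.base x = G.hom.base x')
    (hx : ((a.orbitMap s₀).left.stalkMap x).hom.Flat) :
    ((a.orbitMap s₀).left.stalkMap x').hom.Flat :=
  homogeneous_equivariant (a.orbitMap s₀) (Q := @RingHom.Flat) RingHom.Flat.respectsIso
    (Groth.Agent.Lib.GrpAction.shear a) (shear_orbitMap a s₀) (hbc_flat (a.orbitMap s₀))
    x x' hxx' hx

end HomogEq

end Groth.Agent.Lib.H71HomLocus
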