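import Mathlib

set_option autoImplicit false
universe u

namespace Groth.Agent.Lib.H71PowEtale

section Alg

open IsLocalRing

/-- A surjective ring endomorphism of a Noetherian ring is injective. -/
theorem injective_of_surjective_endo {A : Type*} [CommRing A] [IsNoetherianRing A] (f : A →+* A)
    (hf : Function.Surjective f) : Function.Injective f := by
  let K : ℕ →o Ideal A :=
    ⟨fun j => RingHom.ker (f ^ j), by
      intro i j hij x hx
      obtain ⟨d, rfl⟩ := Nat.exists_eq_add_of_le hij
      rw [RingHom.mem_ker] at hx ⊢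
      rw [add_comm, pow_add]
      change (f ^ d) ((f ^ i) x) = 0
      rw [hx, map_zero]⟩
  obtain ⟨N, hN⟩ := monotone_stabilizes_iff_noetherian.mpr inferInstance K
  rw [injective_iff_map_eq_zero]
  intro x hx
  have hsurj : Function.Surjective (f ^ N) := by
    rw [RingHom.coe_pow]
    exact hf.iterate N
  obtain ⟨y, rfl⟩ := hsurj x
  have h1 : y ∈ K (N + 1) := by
    change y ∈ RingHom.ker (f ^ (N + 1))
    rw [RingHom.mem_ker, pow_succ']
    exact hx
  rw [← hN (N + 1) (Nat.le_succ N)] at h1
  exact h1

variable {R R' : Type u} [CommRing R] [CommRing R'] [IsLocalRing R] [IsLocalRing R']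

theorem map_maximalIdeal_ringEquiv (θ : R ≃+* R') :
    Ideal.map (θ : R →+* R') (maximalIdeal R) = maximalIdeal R' := by
  apply le_antisymm
  · rw [Ideal.map_le_iff_le_comap]
    intro x hx
    rw [Ideal.mem_comap, mem_maximalIdeal, mem_nonunits_iff] at *
    intro h
    apply hx
    have := h.map θ.symm
    simpa using this
  · intro x hx
    have h1 : θ.symm x ∈ maximalIdeal R := by
      rw [mem_maximalIdeal, mem_nonunits_iff] at *
      intro h
      apply hx
      have := h.map θ
      simpa using this
    have := Ideal.mem_map_of_mem (θ : R →+* R') h1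
    simpa using this

/-- kernels of the truncated maps, from surjectivity, when source and target are isomorphic. -/
theorem ker_quotient_pow_of_surjective [IsNoetherianRing R] (φ : R' →+* R) [IsLocalHom φ]
    (θ : R ≃+* R')
    (hs : ∀ n : ℕ, Function.Surjective ((Ideal.Quotient.mk (maximalIdeal R ^ n)).comp φ)) (n : ℕ) :
    RingHom.ker ((Ideal.Quotient.mk (maximalIdeal R ^ n)).comp φ) = maximalIdeal R' ^ n := by
  have hφm : ∀ y ∈ maximalIdeal R' ^ n, φ y ∈ maximalIdeal R ^ n := by
    intro y hy
    have h1 : Ideal.map φ (maximalIdeal R') ≤ maximalIdeal R :=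
      IsLocalRing.map_maximalIdeal_le φ
    have h2 : Ideal.map φ (maximalIdeal R' ^ n) ≤ maximalIdeal R ^ n := by
      rw [Ideal.map_pow]
      exact Ideal.pow_right_mono h1 n
    exact h2 (Ideal.mem_map_of_mem φ hy)
  have hθm : ∀ x, x ∈ maximalIdeal R ^ n ↔ θ x ∈ maximalIdeal R' ^ n := by
    intro x
    rw [← map_maximalIdeal_ringEquiv θ, ← Ideal.map_pow]
    constructor
    · intro hx
      exact Ideal.mem_map_of_mem _ hx
    · intro hx
      have : Ideal.map (θ : R →+* R') (maximalIdeal R ^ n) =
          Ideal.comap (θ.symm : R' →+* R) (maximalIdeal R ^ n) :=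
        Ideal.map_comap_of_equiv θ
      rw [this, Ideal.mem_comap] at hx
      simpa using hx
  let f : R →+* R ⧸ maximalIdeal R ^ n :=
    (Ideal.Quotient.mk (maximalIdeal R ^ n)).comp (φ.comp (θ : R →+* R'))
  have hf : Function.Surjective f := by
    intro y
    obtain ⟨x', hx'⟩ := hs n y
    exact ⟨θ.symm x', by simpa [f] using hx'⟩
  have hfI : ∀ x ∈ maximalIdeal R ^ n, f x = 0 := by
    intro x hx
    change Ideal.Quotient.mk _ (φ (θ x)) = 0
    rw [Ideal.Quotient.eq_zero_iff_mem]
    exact hφm _ ((hθm x).mp hx)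
  let fbar : R ⧸ maximalIdeal R ^ n →+* R ⧸ maximalIdeal R ^ n :=
    Ideal.Quotient.lift (maximalIdeal R ^ n) f hfI
  have hfbar : Function.Surjective fbar := by
    intro y
    obtain ⟨x, hx⟩ := hf y
    exact ⟨Ideal.Quotient.mk _ x, by simpa [fbar] using hx⟩
  have hinj := injective_of_surjective_endo fbar hfbar
  ext y
  rw [RingHom.mem_ker]
  constructor
  · intro hy
    obtain ⟨x, rfl⟩ := θ.surjective y
    rw [← hθm]
    have h1 : fbar (Ideal.Quotient.mk _ x) = 0 := by
      simpa [fbar, f] using hy
    have h2 := hinj (h1.trans (map_zero fbar).symm)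
    exact Ideal.Quotient.eq_zero_iff_mem.mp h2
  · intro hy
    change Ideal.Quotient.mk _ (φ y) = 0
    rw [Ideal.Quotient.eq_zero_iff_mem]
    exact hφm y hy

end Alg

end Groth.Agent.Lib.H71PowEtale
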