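import Mathlib
import Groth.Prelude
import Groth.Agent.Lib.H71DualPts

set_option autoImplicit false
universe u

open CategoryTheory CategoryTheory.Limits AlgebraicGeometry

namespace Groth.Agent.Lib.H71PowEtale

section Tangent

variable {k : Type u} [Field k]

/-- ring hom `R → k[ε]` from an augmentation and an `ε`-derivation-like functional -/
def mkDual {R : Type u} [CommRing R] (ε : R →+* k) (ℓ : R →+ k)
    (h1 : ℓ 1 = 0) (hmul : ∀ x y, ℓ (x * y) = ε x * ℓ y + ε y * ℓ x) :
    R →+* TrivSqZeroExt k k where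
  toFun x := (ε x, ℓ x)
  map_one' := by
    apply TrivSqZeroExt.ext
    · exact ε.map_one
    · exact h1
  map_mul' x y := by
    apply TrivSqZeroExt.ext
    · exact ε.map_mul x y
    · change ℓ (x * y) = _
      rw [hmul]
      change _ = ε x • ℓ y + MulOpposite.op (ε y) • ℓ x
      rw [op_smul_eq_smul, smul_eq_mul, smul_eq_mul]
  map_zero' := by
    apply TrivSqZeroExt.ext
    · exact ε.map_zero
    · exact ℓ.map_zero
  map_add' x y := by
    apply TrivSqZeroExt.ext
    · exact ε.map_add x y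
    · exact ℓ.map_add x y

/-- A `k`-rational point of a locally finite type `k`-scheme all of whose pointed dual-number
points are trivial is an unramified point. -/
theorem formallyUnramified_of_tangent_trivial {Z : Scheme.{u}}
    (p : Z ⟶ Spec (CommRingCat.of k)) [LocallyOfFiniteType p]
    (σ : Spec (CommRingCat.of k) ⟶ Z) (hσ : σ ≫ p = 𝟙 _)
    (hT : ∀ τ : Spec (CommRingCat.of (TrivSqZeroExt k k)) ⟶ Z,
      τ ≫ p = Spec.map (CommRingCat.ofHom (algebraMap k (TrivSqZeroExt k k))) →
      Spec.map (CommRingCat.ofHom (TrivSqZeroExt.map (0 : k →ₗ[k] k)).toRingHom) ≫ τ =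
        Spec.map (CommRingCat.ofHom (algebraMap k (TrivSqZeroExt k k))) ≫ σ →
      τ = Spec.map (CommRingCat.ofHom (algebraMap k (TrivSqZeroExt k k))) ≫ σ) :
    (p.stalkMap (σ.base (IsLocalRing.closedPoint k))).hom.FormallyUnramified := by
  set z := σ.base (IsLocalRing.closedPoint k) with hz
  have : IsLocallyNoetherian Z := LocallyOfFiniteType.isLocallyNoetherian p
  -- augmentation and structure map of the stalk
  let ε : Z.presheaf.stalk z ⟶ CommRingCat.of k := Scheme.stalkClosedPointTo σ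
  have hε : Spec.map ε ≫ Z.fromSpecStalk z = σ := Scheme.Spec_stalkClosedPointTo_fromSpecStalk σ
  let s : CommRingCat.of k ⟶ Z.presheaf.stalk z := Spec.preimage (Z.fromSpecStalk z ≫ p)
  have hs : Spec.map s = Z.fromSpecStalk z ≫ p := Spec.map_preimage _
  have hsε : s ≫ ε = 𝟙 _ := by
    apply Spec.map_injective
    rw [Spec.map_comp, hs, ← Category.assoc, hε, hσ, Spec.map_id]
  have hsε' : ∀ c : k, ε.hom (s.hom c) = c := fun c => congrArg (fun f => f.hom c) hsε
  letI : Algebra k (Z.presheaf.stalk z) := s.hom.toAlgebra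
  have halg : ∀ c : k, algebraMap k (Z.presheaf.stalk z) c = s.hom c := fun _ => rfl
  have hεsurj : Function.Surjective ε.hom := fun c => ⟨s.hom c, hsε' c⟩
  have hker : RingHom.ker ε.hom = IsLocalRing.maximalIdeal (Z.presheaf.stalk z) :=
    IsLocalRing.eq_maximalIdeal (RingHom.ker_isMaximal_of_surjective ε.hom hεsurj)
  -- cotangent space vanishes
  have hm : IsLocalRing.maximalIdeal (Z.presheaf.stalk z) ≤
      IsLocalRing.maximalIdeal (Z.presheaf.stalk z) ^ 2 := by
    intro x₀ hx₀
    by_contra hx₀'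
    let N : Submodule k (Z.presheaf.stalk z) :=
      (IsLocalRing.maximalIdeal (Z.presheaf.stalk z) ^ 2).restrictScalars k ⊔ Submodule.span k {1}
    have hx₀N : x₀ ∉ N := by
      intro hmem
      obtain ⟨y, hy, w, hw, rfl⟩ := Submodule.mem_sup.mp hmem
      obtain ⟨c, rfl⟩ := Submodule.mem_span_singleton.mp hw
      have hy' : y ∈ IsLocalRing.maximalIdeal (Z.presheaf.stalk z) :=
        Ideal.pow_le_self (by norm_num) hy
      have h1 : ε.hom (y + c • 1) = 0 := by rw [← RingHom.mem_ker, hker]; exact hx₀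
      have h2 : ε.hom y = 0 := by rw [← RingHom.mem_ker, hker]; exact hy'
      rw [map_add, h2, zero_add, Algebra.smul_def, mul_one, halg, hsε'] at h1
      rw [h1, zero_smul, add_zero] at hx₀'
      exact hx₀' hy
    obtain ⟨ℓ, hℓx₀, hℓN⟩ := Submodule.exists_le_ker_of_notMem hx₀N
    have hℓ1 : ℓ 1 = 0 := hℓN (Submodule.mem_sup_right (Submodule.mem_span_singleton_self 1))
    have hℓm2 : ∀ y ∈ IsLocalRing.maximalIdeal (Z.presheaf.stalk z) ^ 2, ℓ y = 0 := fun y hy =>
      hℓN (Submodule.mem_sup_left hy)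
    have hdecomp : ∀ x : Z.presheaf.stalk z,
        x - s.hom (ε.hom x) ∈ IsLocalRing.maximalIdeal (Z.presheaf.stalk z) := by
      intro x
      rw [← hker, RingHom.mem_ker, map_sub, hsε', sub_self]
    have hℓs : ∀ (c : k) (y : Z.presheaf.stalk z), ℓ (s.hom c * y) = c * ℓ y := by
      intro c y
      rw [← halg, ← Algebra.smul_def, map_smul, smul_eq_mul]
    have hmul : ∀ x y, ℓ (x * y) = ε.hom x * ℓ y + ε.hom y * ℓ x := by
      intro x y
      have hx := hdecomp x
      have hy := hdecomp y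
      have h1 : x * y = s.hom (ε.hom x) * y + s.hom (ε.hom y) * x
          - s.hom (ε.hom x) * (s.hom (ε.hom y) * 1)
          + (x - s.hom (ε.hom x)) * (y - s.hom (ε.hom y)) := by ring
      have h2 : ℓ ((x - s.hom (ε.hom x)) * (y - s.hom (ε.hom y))) = 0 := by
        apply hℓm2
        rw [pow_two]
        exact Ideal.mul_mem_mul hx hy
      rw [h1, map_add, map_sub, map_add, h2, hℓs, hℓs, hℓs, hℓs, hℓ1]
      ring
    let ρ : Z.presheaf.stalk z →+* TrivSqZeroExt k k :=
      mkDual ε.hom ℓ.toAddMonoidHom hℓ1 hmul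
    have hρs : (CommRingCat.ofHom ρ) = ε ≫ CommRingCat.ofHom (algebraMap k (TrivSqZeroExt k k)) →
        False := by
      intro h
      have := congrArg (fun f => TrivSqZeroExt.snd (f.hom x₀)) h
      apply hℓx₀
      change ℓ x₀ = TrivSqZeroExt.snd (algebraMap k (TrivSqZeroExt k k) (ε.hom x₀)) at this
      rw [this, TrivSqZeroExt.algebraMap_eq_inl, TrivSqZeroExt.snd_inl]
    apply hρs
    let τ : Spec (CommRingCat.of (TrivSqZeroExt k k)) ⟶ Z :=
      Spec.map (CommRingCat.ofHom ρ) ≫ Z.fromSpecStalk z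
    have hτ1 : τ ≫ p = Spec.map (CommRingCat.ofHom (algebraMap k (TrivSqZeroExt k k))) := by
      rw [Category.assoc, ← hs, ← Spec.map_comp]
      congr 1
      apply CommRingCat.hom_ext
      apply RingHom.ext
      intro c
      apply TrivSqZeroExt.ext
      · change ε.hom (s.hom c) = TrivSqZeroExt.fst (algebraMap k (TrivSqZeroExt k k) c)
        rw [hsε', TrivSqZeroExt.algebraMap_eq_inl, TrivSqZeroExt.fst_inl]
      · change ℓ (s.hom c) = TrivSqZeroExt.snd (algebraMap k (TrivSqZeroExt k k) c)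
        rw [← mul_one (s.hom c), hℓs, hℓ1, mul_zero, TrivSqZeroExt.algebraMap_eq_inl,
          TrivSqZeroExt.snd_inl]
    have hτ2 : Spec.map (CommRingCat.ofHom (TrivSqZeroExt.map (0 : k →ₗ[k] k)).toRingHom) ≫ τ =
        Spec.map (CommRingCat.ofHom (algebraMap k (TrivSqZeroExt k k))) ≫ σ := by
      rw [← hε, ← Category.assoc, ← Category.assoc, ← Spec.map_comp, ← Spec.map_comp]
      congr 2
      apply CommRingCat.hom_ext
      apply RingHom.ext
      intro x
      apply TrivSqZeroExt.ext
      · change TrivSqZeroExt.fst (TrivSqZeroExt.map (0 : k →ₗ[k] k) (ρ x)) = _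
        rw [TrivSqZeroExt.fst_map]
        change ε.hom x = TrivSqZeroExt.fst (algebraMap k (TrivSqZeroExt k k) (ε.hom x))
        rw [TrivSqZeroExt.algebraMap_eq_inl, TrivSqZeroExt.fst_inl]
      · change TrivSqZeroExt.snd (TrivSqZeroExt.map (0 : k →ₗ[k] k) (ρ x)) = _
        rw [TrivSqZeroExt.snd_map]
        change (0 : k) = TrivSqZeroExt.snd (algebraMap k (TrivSqZeroExt k k) (ε.hom x))
        rw [TrivSqZeroExt.algebraMap_eq_inl, TrivSqZeroExt.snd_inl]
    have hτ3 := hT τ hτ1 hτ2
    rw [← hε, ← Category.assoc, ← Spec.map_comp] at hτ3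
    exact Spec.map_injective ((cancel_mono (Z.fromSpecStalk z)).mp hτ3)
  have hm0 : IsLocalRing.maximalIdeal (Z.presheaf.stalk z) = ⊥ := by
    refine Submodule.eq_bot_of_le_smul_of_le_jacobson_bot
      (IsLocalRing.maximalIdeal (Z.presheaf.stalk z)) _ (IsNoetherian.noetherian _) ?_
      (IsLocalRing.maximalIdeal_le_jacobson _)
    rw [smul_eq_mul, ← pow_two]
    exact hm
  -- the stalk map is surjective
  apply RingHom.FormallyUnramified.of_surjective
  have hsurj_s : Function.Surjective s.hom := by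
    intro x
    refine ⟨ε.hom x, ?_⟩
    have : x - s.hom (ε.hom x) ∈ IsLocalRing.maximalIdeal (Z.presheaf.stalk z) := by
      rw [← hker, RingHom.mem_ker, map_sub, hsε', sub_self]
    rw [hm0, Ideal.mem_bot, sub_eq_zero] at this
    exact this.symm
  have hfac : s = ((Scheme.ΓSpecIso (CommRingCat.of k)).inv ≫
      (Spec (CommRingCat.of k)).presheaf.germ ⊤ (p.base z) trivial) ≫ p.stalkMap z := by
    apply Spec.map_injective
    rw [Spec.map_comp, ← Spec.fromSpecStalk_eq, hs, Scheme.SpecMap_stalkMap_fromSpecStalk]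
  intro x
  obtain ⟨c, hc⟩ := hsurj_s x
  refine ⟨((Scheme.ΓSpecIso (CommRingCat.of k)).inv ≫
      (Spec (CommRingCat.of k)).presheaf.germ ⊤ (p.base z) trivial).hom c, ?_⟩
  rw [← hc, hfac]
  rfl

end Tangent

end Groth.Agent.Lib.H71PowEtale
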