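import Mathlib
import Groth.Prelude
import Groth.Agent.Lib.H71DualPts
import Groth.Agent.Lib.H71TangentUnram
import Groth.Agent.Lib.H71PowAlg
import Groth.Agent.Lib.H71OpenToGlobal
import Groth.Agent.S2734
import Groth.Agent.Lib.UnramifiedLocusBC
import Groth.Agent.Lib.UnramQuot45

set_option autoImplicit false
universe u

open CategoryTheory CategoryTheory.Limits MonoidalCategory CartesianMonoidalCategory MonObj GrpObj
  AlgebraicGeometry

namespace Groth.Agent.Lib.H71PowEtale

section AlgB

open IsLocalRing

/-- residue field map is surjective when the target's residue field is hit by a coefficient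
field coming from the source. -/
theorem residueField_map_surjective_of_section {k R R' : Type u} [Field k] [CommRing R]
    [CommRing R'] [IsLocalRing R] [IsLocalRing R'] (φ : R' →+* R) [IsLocalHom φ]
    (s' : k →+* R') (ε : R →+* k) (h : ∀ c, ε (φ (s' c)) = c) :
    Function.Surjective (ResidueField.map φ) := by
  intro a
  obtain ⟨r, rfl⟩ := residue_surjective a
  refine ⟨residue R' (s' (ε r)), ?_⟩
  rw [ResidueField.map_residue]
  rw [← sub_eq_zero, ← map_sub, residue_eq_zero_iff]
  rw [mem_maximalIdeal, mem_nonunits_iff]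
  intro hu
  have h1 := hu.map ε
  rw [map_sub, h, sub_self] at h1
  exact not_isUnit_zero h1

end AlgB

section Assembly

variable {k : Type u} [Field k] {G : Over (Spec (CommRingCat.of k))} [GrpObj G]
  [LocallyOfFiniteType G.hom]

/-- the unit point of `G` -/
noncomputable abbrev ePt (G : Over (Spec (CommRingCat.of k))) [GrpObj G] : G.left :=
  (η[G].left : Spec (CommRingCat.of k) ⟶ G.left).base (IsLocalRing.closedPoint k)

theorem stalkMap_formallyUnramified_one (u : G ⟶ G) (hu : η[G] ≫ u = η[G])
    (hT : ∀ x : TB (k := k) (TrivSqZeroExt k k) ⟶ G,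
      act (0 : k →ₗ[k] k) x = 1 → x ≫ u = 1 → x = 1) :
    (u.left.stalkMap (ePt G)).hom.FormallyUnramified := by
  have hlft : LocallyOfFiniteType u.left := Groth.Agent.Lib.H71HomLocus.lft_left u
  let Z := Limits.pullback u η[G]
  let σ : 𝟙_ (Over (Spec (CommRingCat.of k))) ⟶ Z :=
    pullback.lift η[G] (𝟙 _) (by rw [hu, Category.id_comp])
  have hσ1 : σ ≫ pullback.fst u η[G] = η[G] := pullback.lift_fst _ _ _
  have hσ2 : σ ≫ pullback.snd u η[G] = 𝟙 _ := pullback.lift_snd _ _ _
  have sqZ : IsPullback (pullback.fst u η[G]).left (pullback.snd u η[G]).left u.left η[G].left :=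
    (IsPullback.of_hasPullback u η[G]).map (Over.forget _)
  let p : Z.left ⟶ Spec (CommRingCat.of k) := (pullback.snd u η[G]).left
  have hp : p = Z.hom := by
    have := Over.w (pullback.snd u η[G])
    simpa using this
  have hlftp : LocallyOfFiniteType p := MorphismProperty.of_isPullback sqZ hlft
  let σl : Spec (CommRingCat.of k) ⟶ Z.left := σ.left
  have hσl : σl ≫ p = 𝟙 _ := by
    have := congrArg (fun f => f.left) hσ2
    simpa using this
  have key := formallyUnramified_of_tangent_trivial p σl hσl ?_
  · have h1 := (Groth.Agent.Lib.UnramifiedLocusBC.formallyUnramified_stalkMap_iff_of_isPullback sqZ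
      (σl.base (IsLocalRing.closedPoint k))).mp key
    have he : (pullback.fst u η[G]).left.base (σl.base (IsLocalRing.closedPoint k)) = ePt G := by
      have := congrArg (fun f => f.left) hσ1
      simp only [Over.comp_left] at this
      change (σl ≫ (pullback.fst u η[G]).left).base (IsLocalRing.closedPoint k) = _
      rw [this]
    have gen : ∀ y : G.left, y = ePt G → (u.left.stalkMap y).hom.FormallyUnramified →
        (u.left.stalkMap (ePt G)).hom.FormallyUnramified := by
      rintro y rfl h
      exact h
    exact gen _ he h1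
  · intro τ hτ1 hτ2
    let D := TB (k := k) (TrivSqZeroExt k k)
    let τ' : D ⟶ Z := Over.homMk τ (by rw [← hp]; exact hτ1)
    let x : D ⟶ G := τ' ≫ pullback.fst u η[G]
    have hx1 : x ≫ u = 1 := by
      rw [Category.assoc, pullback.condition, ← Category.assoc, Hom.one_def]
      congr 1
      exact toUnit_unique _ _
    have hτσ : TBmap (TrivSqZeroExt.map (0 : k →ₗ[k] k)) ≫ τ' = toUnit D ≫ σ := by
      apply Over.OverMorphism.ext
      exact hτ2
    have hx0 : act (0 : k →ₗ[k] k) x = 1 := by
      change TBmap (TrivSqZeroExt.map (0 : k →ₗ[k] k)) ≫ τ' ≫ pullback.fst u η[G] = 1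
      rw [← Category.assoc, hτσ, Category.assoc, hσ1, Hom.one_def]
    have hx := hT x hx0 hx1
    have hτ' : τ' = toUnit D ≫ σ := by
      apply pullback.hom_ext
      · rw [Category.assoc, hσ1, ← Hom.one_def]
        exact hx
      · exact toUnit_unique _ _
    have := congrArg (fun f => f.left) hτ'
    exact this

theorem etale_nhd_one (u : G ⟶ G) (hu : η[G] ≫ u = η[G])
    (hT : ∀ x : TB (k := k) (TrivSqZeroExt k k) ⟶ G,
      act (0 : k →ₗ[k] k) x = 1 → x ≫ u = 1 → x = 1) :
    ∃ U : G.left.Opens, ePt G ∈ U ∧ Etale (U.ι ≫ u.left) := by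
  have hun := stalkMap_formallyUnramified_one u hu hT
  have hlft : LocallyOfFiniteType u.left := Groth.Agent.Lib.H71HomLocus.lft_left u
  have : IsLocallyNoetherian G.left := LocallyOfFiniteType.isLocallyNoetherian G.hom
  let ηl : Spec (CommRingCat.of k) ⟶ G.left := η[G].left
  have hηu : ηl ≫ u.left = ηl := by
    have := congrArg (fun f => f.left) hu
    exact this
  have hηG : ηl ≫ G.hom = 𝟙 _ := Over.w η[G]
  have hk : Function.Surjective (u.left.residueFieldMap (ePt G)) := by
    let ε : G.left.presheaf.stalk (ePt G) ⟶ CommRingCat.of k := Scheme.stalkClosedPointTo ηl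
    have hε : Spec.map ε ≫ G.left.fromSpecStalk (ePt G) = ηl :=
      Scheme.Spec_stalkClosedPointTo_fromSpecStalk ηl
    let s' : CommRingCat.of k ⟶ G.left.presheaf.stalk (u.left.base (ePt G)) :=
      Spec.preimage (G.left.fromSpecStalk (u.left.base (ePt G)) ≫ G.hom)
    have hs' : Spec.map s' = G.left.fromSpecStalk (u.left.base (ePt G)) ≫ G.hom :=
      Spec.map_preimage _
    have hcomp : s' ≫ u.left.stalkMap (ePt G) ≫ ε = 𝟙 _ := by
      apply Spec.map_injective
      rw [Spec.map_comp, Spec.map_comp, hs', Category.assoc,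
        Scheme.SpecMap_stalkMap_fromSpecStalk_assoc, reassoc_of% hε, Over.w u, hηG, Spec.map_id]
    exact residueField_map_surjective_of_section (u.left.stalkMap (ePt G)).hom s'.hom ε.hom
      (fun c => congrArg (fun f => f.hom c) hcomp)
  have hs := (Groth.Agent.Lib.UnramQuot45.ringHom_formallyUnramified_iff_forall_surjective_quotient
    (u.left.stalkMap (ePt G)).hom (LocallyOfFiniteType.stalkMap u.left (ePt G))
    (Or.inl hk)).mp hun
  have hue : u.left.base (ePt G) = ePt G := by
    change (ηl ≫ u.left).base (IsLocalRing.closedPoint k) = _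
    rw [hηu]
  let θ : G.left.presheaf.stalk (ePt G) ≃+* G.left.presheaf.stalk (u.left.base (ePt G)) :=
    (G.left.presheaf.stalkCongr (.of_eq hue.symm)).commRingCatIsoToRingEquiv
  have hker := ker_quotient_pow_of_surjective (u.left.stalkMap (ePt G)).hom θ hs
  exact (Groth.Agent.S2734.result u.left (ePt G) (Or.inl hk)).mpr (fun n => ⟨hs n, hker n⟩)

end Assembly

end Groth.Agent.Lib.H71PowEtale
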