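import Mathlib

set_option autoImplicit false
universe v u

open CategoryTheory MonoidalCategory CartesianMonoidalCategory MonObj

namespace Groth.Agent.Lib.H71PowEtale

/-- In a commutative monoid object, the `n`-th power map is a monoid homomorphism. -/
theorem isMonHom_pow {C : Type u} [Category.{v} C] [CartesianMonoidalCategory C] [BraidedCategory C]
    (G : C) [MonObj G] [IsCommMonObj G] (n : ℕ) : IsMonHom ((𝟙 G : G ⟶ G) ^ n) where
  one_hom := by rw [MonObj.comp_pow, Category.comp_id, MonObj.one_eq_one, one_pow]
  mul_hom := by
    rw [MonObj.comp_pow, Category.comp_id, MonObj.mul_eq_mul, mul_pow, MonObj.comp_mul,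
      tensorHom_fst, tensorHom_snd, MonObj.comp_pow, MonObj.comp_pow, Category.comp_id,
      Category.comp_id]

end Groth.Agent.Lib.H71PowEtale
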