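import Groth.Agent.Lib.H71VanishBC
import Groth.Agent.Lib.ReducedSubscheme
import Groth.Agent.Lib.GrpTopPts45
import Groth.Agent.Lib.H43QuotGrp2
import Groth.Agent.Lib.H71CompGeomConn
import Groth.Agent.Lib.GeomReducedProd
import Groth.Agent.Lib.H71GrpSmooth
import Groth.Agent.Lib.FieldBC13
import Mathlib.AlgebraicGeometry.IdealSheaf.Functorial

/-!
# Zariski closure of a set/group of rational points over a field (helper71)

* `isReduced_pullback_of_comap_eq`: if `I.comap pr₁` is a vanishing ideal then the base change of `V(I)` is reduced.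
* `isReduced_pullback_closure_ratPoints`: the reduced induced structure on the closure of a set of rational points of a
  `k`-scheme is geometrically reduced (all base changes to extension fields are reduced).
* `ptOf`, `range_left`, `slice`, `mem_range_slice`, `eq_univ_of_ratPoints_dense`: a closed subset of `Y ×ₖ Y` containing all
  pairs of rational points from a family with dense image is everything.
* `exists_smooth_closed_subgroup`: the closure of a subgroup of `G(k)`, for `G` a group scheme locally of finite type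
  over `k`, is (the underlying set of) a smooth closed subgroup scheme.
-/

set_option autoImplicit false
universe u

open CategoryTheory CategoryTheory.Limits AlgebraicGeometry TopologicalSpace
open MonoidalCategory CartesianMonoidalCategory MonObj GrpObj

namespace Groth.Agent.Lib.H71RatClosure

section PartA

variable {k : Type u} [Field k] {X : Scheme.{u}} (p : X ⟶ Spec (CommRingCat.of k))

/-- If the base change of the reduced induced structure on a closed set is cut out by a vanishing ideal, it is
reduced.  -/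
theorem isReduced_pullback_of_comap_eq {S T : Scheme.{u}} (p : X ⟶ S) (q : T ⟶ S)
    (I : X.IdealSheafData) (W : Closeds ↥(pullback p q))
    (h : I.comap (pullback.fst p q) = Scheme.IdealSheafData.vanishingIdeal W) :
    IsReduced (pullback (I.subschemeι ≫ p) q) := by
  haveI h1 : IsReduced (I.comap (pullback.fst p q)).subscheme := by
    rw [h]
    exact Groth.Agent.Lib.ReducedSubscheme.isReduced_subscheme_vanishingIdeal W
  haveI h2 : IsReduced (pullback (pullback.fst p q) I.subschemeι) :=
    isReduced_of_isOpenImmersion (I.comapIso (pullback.fst p q)).inv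
  haveI h3 : IsReduced (pullback I.subschemeι (pullback.fst p q)) :=
    isReduced_of_isOpenImmersion (pullbackSymmetry _ _).hom
  exact isReduced_of_isOpenImmersion (pullbackRightPullbackFstIso p q I.subschemeι).inv

/-- The reduced induced structure on the closure of a set of rational points of a scheme over a field is
geometrically reduced: all its base changes to extension fields are reduced. -/
theorem isReduced_pullback_closure_ratPoints (Sg : Set (Spec (CommRingCat.of k) ⟶ X))
    (hSg : ∀ s ∈ Sg, s ≫ p = 𝟙 _) (K : Type u) [Field K] [Algebra k K] :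
    IsReduced (pullback
      ((Scheme.IdealSheafData.vanishingIdeal
        (Closeds.closure (⋃ s : Sg, Set.range s.1))).subschemeι ≫ p)
      (Spec.map (CommRingCat.ofHom (algebraMap k K)))) := by
  set q := Spec.map (CommRingCat.ofHom (algebraMap k K)) with hq
  haveI : ∀ s : Sg, IsReduced (pullback (s.1 ≫ p) q) := by
    intro s
    haveI : IsIso (s.1 ≫ p) := by
      rw [hSg s.1 s.2]; infer_instance
    exact isReduced_of_isOpenImmersion (pullback.snd (s.1 ≫ p) q)
  have key := Groth.Agent.Lib.H71VanishBC.vanishingIdeal_baseChange p q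
    (Groth.Agent.Lib.H71VanishBC.free_of_field k _)
    (fun _ : Sg => Spec (CommRingCat.of k)) (fun s => s.1)
  exact isReduced_pullback_of_comap_eq p q _ _ key.symm

end PartA

section PartB

variable {k : Type u} [Field k]

/-- The point underlying a rational point. -/
noncomputable def ptOf {X : Over (Spec (CommRingCat.of k))}
    (s : 𝟙_ (Over (Spec (CommRingCat.of k))) ⟶ X) : X.left :=
  s.left (IsLocalRing.closedPoint k)

theorem range_left {X : Over (Spec (CommRingCat.of k))}
    (s : 𝟙_ (Over (Spec (CommRingCat.of k))) ⟶ X) : Set.range s.left = {ptOf s} := by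
  ext x
  constructor
  · rintro ⟨t, rfl⟩
    rw [Set.mem_singleton_iff]
    unfold ptOf
    congr 1
    exact Subsingleton.elim (α := PrimeSpectrum k) _ _
  · intro hx
    rw [Set.mem_singleton_iff] at hx
    exact ⟨IsLocalRing.closedPoint k, hx.symm⟩

theorem ptOf_comp {X Y : Over (Spec (CommRingCat.of k))}
    (s : 𝟙_ (Over (Spec (CommRingCat.of k))) ⟶ X) (f : X ⟶ Y) : ptOf (s ≫ f) = f.left (ptOf s) := by
  unfold ptOf
  rw [Over.comp_left, Scheme.Hom.comp_apply]

theorem comp_left_ptOf {P X : Over (Spec (CommRingCat.of k))}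
    (s : 𝟙_ (Over (Spec (CommRingCat.of k))) ⟶ P) (f : P ⟶ X) :
    f.left (ptOf s) = ptOf (s ≫ f) := (ptOf_comp s f).symm

/-- The slice `y ↦ (s, y)` of a product through a rational point `s` of the first factor. -/
noncomputable def slice {Y : Over (Spec (CommRingCat.of k))}
    (s : 𝟙_ (Over (Spec (CommRingCat.of k))) ⟶ Y) : Y ⟶ Y ⊗ Y :=
  lift (toUnit Y ≫ s) (𝟙 Y)

theorem comp_slice {Y : Over (Spec (CommRingCat.of k))}
    (s t : 𝟙_ (Over (Spec (CommRingCat.of k))) ⟶ Y) : t ≫ slice s = lift s t := by
  unfold slice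
  rw [comp_lift, Category.comp_id, ← Category.assoc]
  have : t ≫ toUnit Y = 𝟙 _ := toUnit_unique _ _
  rw [this, Category.id_comp]

/-- The fibre of the first projection over a rational point is the image of the slice. -/
theorem mem_range_slice {Y : Over (Spec (CommRingCat.of k))}
    (s : 𝟙_ (Over (Spec (CommRingCat.of k))) ⟶ Y) (z : (Y ⊗ Y).left)
    (hz : (fst Y Y).left z = ptOf s) : z ∈ Set.range (slice s).left := by
  obtain ⟨Q, q, q', z'', hz1, -, hq⟩ :=
    Groth.Agent.Lib.GrpTopPts45.exists_common (fst Y Y) s z (IsLocalRing.closedPoint k) hz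
  have hq' : q' = toUnit Q := toUnit_unique _ _
  have h1 : q ≫ snd Y Y ≫ slice s = q := by
    unfold slice
    rw [comp_lift, comp_lift, Category.comp_id]
    have h2 : q ≫ snd Y Y ≫ toUnit Y ≫ s = q ≫ fst Y Y := by
      rw [hq, hq']
      rw [← Category.assoc, ← Category.assoc]
      congr 1
      exact toUnit_unique _ _
    rw [h2]
    ext <;> simp
  refine ⟨(snd Y Y).left (q.left z''), ?_⟩
  rw [← Scheme.Hom.comp_apply, ← Scheme.Hom.comp_apply, ← Over.comp_left, ← Over.comp_left, h1, hz1]

/-- A closed subset of `Y ×ₖ Y` containing all pairs of rational points from a family with dense image is everything. -/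
theorem eq_univ_of_ratPoints_dense {Y : Over (Spec (CommRingCat.of k))}
    (D : Set (𝟙_ (Over (Spec (CommRingCat.of k))) ⟶ Y)) (hD : Dense (ptOf '' D))
    (C : Set (Y ⊗ Y).left) (hC : IsClosed C) (h : ∀ s ∈ D, ∀ t ∈ D, ptOf (lift s t) ∈ C) :
    C = Set.univ := by
  -- slices through points of `D` lie in `C`
  have h2 : ∀ s ∈ D, Set.range (slice s).left ⊆ C := by
    intro s hs
    have hcl : IsClosed ((slice s).left ⁻¹' C) := hC.preimage (slice s).left.continuous
    have hsub : ptOf '' D ⊆ (slice s).left ⁻¹' C := by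
      rintro _ ⟨t, ht, rfl⟩
      rw [Set.mem_preimage, comp_left_ptOf, comp_slice]
      exact h s hs t ht
    have huniv : (slice s).left ⁻¹' C = Set.univ := by
      rw [← Set.univ_subset_iff, ← hD.closure_eq]
      exact hcl.closure_subset_iff.mpr hsub
    rintro _ ⟨y, rfl⟩
    have : y ∈ (slice s).left ⁻¹' C := by rw [huniv]; trivial
    exact this
  have h4 : (fst Y Y).left ⁻¹' (ptOf '' D) ⊆ C := by
    rintro z ⟨s, hs, hz⟩
    exact h2 s hs (mem_range_slice s z hz.symm)
  have hopen : IsOpenMap (fst Y Y).left := Groth.Agent.Lib.GrpTopPts45.isOpenMap_fst Y Y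
  have h5 := hopen.preimage_closure_eq_closure_preimage (fst Y Y).left.continuous (ptOf '' D)
  rw [hD.closure_eq, Set.preimage_univ] at h5
  rw [← Set.univ_subset_iff, h5]
  exact hC.closure_subset_iff.mpr h4

/-- **Zariski closure of a group of rational points.** For a group scheme `G` locally of finite type over a field `k`
and a subgroup `S` of `G(k)`, the closure of the points of `S`, with its reduced structure, is a smooth closed
subgroup scheme of `G`. -/
theorem exists_smooth_closed_subgroup (G : Over (Spec (CommRingCat.of k))) [GrpObj G]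
    [LocallyOfFiniteType G.hom]
    (S : Subgroup (𝟙_ (Over (Spec (CommRingCat.of k))) ⟶ G)) :
    ∃ (H : Over (Spec (CommRingCat.of k))) (_ : GrpObj H) (i : H ⟶ G), IsMonHom i ∧
      IsClosedImmersion i.left ∧ Smooth H.hom ∧
      Set.range i.left = closure (ptOf '' (S : Set (𝟙_ (Over (Spec (CommRingCat.of k))) ⟶ G))) := by
  set E : Set G.left := ptOf '' (S : Set (𝟙_ (Over (Spec (CommRingCat.of k))) ⟶ G)) with hE
  let T : Closeds G.left := Closeds.closure E
  have hTcoe : (T : Set G.left) = closure E := rfl
  have hET : E ⊆ (T : Set G.left) := subset_closure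
  let I := Scheme.IdealSheafData.vanishingIdeal T
  haveI hYred : IsReduced I.subscheme :=
    Groth.Agent.Lib.ReducedSubscheme.isReduced_subscheme_vanishingIdeal T
  let Y : Over (Spec (CommRingCat.of k)) := Over.mk (I.subschemeι ≫ G.hom)
  let incl : Y ⟶ G := Over.homMk I.subschemeι rfl
  have hr : Set.range incl.left = (T : Set G.left) := by
    change Set.range I.subschemeι = _
    rw [Scheme.IdealSheafData.range_subschemeι, Scheme.IdealSheafData.coe_support_vanishingIdeal]
  have hmono : Mono incl := by
    have : Mono ((Over.forget _).map incl) := (inferInstance : Mono I.subschemeι)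
    exact (Over.forget _).mono_of_mono_map this
  -- lifting property for reduced sources
  have lift_ex : ∀ {P : Over (Spec (CommRingCat.of k))} [IsReduced P.left] (h : P ⟶ G),
      Set.range h.left ⊆ (T : Set G.left) → ∃ l : P ⟶ Y, l ≫ incl = h := by
    intro P _ h hh
    obtain ⟨l, hl⟩ := Groth.Agent.Lib.H71CompGeomConn.exists_lift_subscheme h.left T hh
    refine ⟨Over.homMk l ?_, ?_⟩
    · change l ≫ I.subschemeι ≫ G.hom = P.hom
      rw [← Category.assoc, hl, Over.w]
    · ext
      exact hl
  haveI hunitred : IsReduced (𝟙_ (Over (Spec (CommRingCat.of k)))).left :=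
    inferInstanceAs (IsReduced (Spec (CommRingCat.of k)))
  -- rational points of `Y` over `S`
  have hlift : ∀ s ∈ S, ∃ s' : 𝟙_ (Over (Spec (CommRingCat.of k))) ⟶ Y, s' ≫ incl = s := by
    intro s hs
    refine lift_ex s ?_
    rw [range_left, Set.singleton_subset_iff]
    exact hET ⟨s, hs, rfl⟩
  let D : Set (𝟙_ (Over (Spec (CommRingCat.of k))) ⟶ Y) := {s' | s' ≫ incl ∈ S}
  have himg : incl.left '' (ptOf '' D) = E := by
    ext x
    constructor
    · rintro ⟨_, ⟨s', hs', rfl⟩, rfl⟩
      rw [comp_left_ptOf]
      exact ⟨s' ≫ incl, hs', rfl⟩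
    · rintro ⟨s, hs, rfl⟩
      obtain ⟨s', rfl⟩ := hlift s hs
      exact ⟨ptOf s', ⟨s', hs, rfl⟩, comp_left_ptOf s' incl⟩
  have hemb : Topology.IsClosedEmbedding incl.left :=
    Scheme.Hom.isClosedEmbedding I.subschemeι
  have hD : Dense (ptOf '' D) := by
    rw [dense_iff_closure_eq]
    apply hemb.injective.image_injective
    rw [← hemb.closure_image_eq, himg, Set.image_univ, hr, hTcoe]
  -- geometric reducedness of `Y`
  let Sg : Set (Spec (CommRingCat.of k) ⟶ G.left) :=
    (fun s : 𝟙_ (Over (Spec (CommRingCat.of k))) ⟶ G => s.left) '' (S : Set _)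
  have hSg : ∀ s ∈ Sg, s ≫ G.hom = 𝟙 _ := by
    rintro _ ⟨s, -, rfl⟩
    exact Over.w s
  have hUn : (⋃ s : Sg, Set.range s.1) = E := by
    ext x
    simp only [Set.mem_iUnion]
    constructor
    · rintro ⟨⟨_, s, hs, rfl⟩, hx⟩
      have hx' : x ∈ Set.range s.left := hx
      rw [range_left, Set.mem_singleton_iff] at hx'
      rw [hx']
      exact ⟨s, hs, rfl⟩
    · rintro ⟨s, hs, rfl⟩
      refine ⟨⟨s.left, s, hs, rfl⟩, ?_⟩
      change ptOf s ∈ Set.range s.left
      rw [range_left]
      rfl
  have hTeq : Closeds.closure (⋃ s : Sg, Set.range s.1) = T := by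
    rw [hUn]
  have hgeo : ∀ (K : Type u) [Field K] [Algebra k K],
      IsReduced (pullback Y.hom (Spec.map (CommRingCat.ofHom (algebraMap k K)))) := by
    intro K _ _
    have := isReduced_pullback_closure_ratPoints G.hom Sg hSg K
    rw [hTeq] at this
    exact this
  haveI hgr : GeometricallyReduced Y.hom :=
    ⟨(geometrically_iff_of_commRing_of_isClosedUnderIsomorphisms ..).mpr fun K _ _ => hgeo K⟩
  haveI hYleft : IsReduced Y.left := hYred
  haveI hYY : IsReduced (Y ⊗ Y).left := by
    change IsReduced (pullback Y.hom Y.hom)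
    exact Groth.Agent.Lib.GeomReducedProd.isReduced_pullback Y.hom Y.hom
  -- unit
  have hη : (η[G] : 𝟙_ (Over (Spec (CommRingCat.of k))) ⟶ G) ∈ S := by
    have h1 : (1 : 𝟙_ (Over (Spec (CommRingCat.of k))) ⟶ G) = η[G] := by
      rw [Hom.one_def]
      have : toUnit (𝟙_ (Over (Spec (CommRingCat.of k)))) = 𝟙 _ := toUnit_unique _ _
      rw [this, Category.id_comp]
    rw [← h1]
    exact S.one_mem
  obtain ⟨e₀, he₀⟩ := hlift η[G] hη
  -- multiplication
  have hmulrange : Set.range ((incl ⊗ₘ incl) ≫ μ[G]).left ⊆ (T : Set G.left) := by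
    have hC : IsClosed (((incl ⊗ₘ incl) ≫ μ[G]).left ⁻¹' (T : Set G.left)) :=
      T.isClosed.preimage ((incl ⊗ₘ incl) ≫ μ[G]).left.continuous
    have huniv := eq_univ_of_ratPoints_dense D hD _ hC (by
      intro s' hs' t' ht'
      rw [Set.mem_preimage, comp_left_ptOf]
      apply hET
      refine ⟨(s' ≫ incl) * (t' ≫ incl), S.mul_mem hs' ht', ?_⟩
      rw [Hom.mul_def, ← Category.assoc, lift_map])
    rintro _ ⟨z, rfl⟩
    have : z ∈ ((incl ⊗ₘ incl) ≫ μ[G]).left ⁻¹' (T : Set G.left) := by rw [huniv]; trivial
    exact this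
  obtain ⟨m, hm⟩ := lift_ex ((incl ⊗ₘ incl) ≫ μ[G]) hmulrange
  -- inverse
  have hinvE : ι[G].left '' E ⊆ E := by
    rintro _ ⟨_, ⟨s, hs, rfl⟩, rfl⟩
    refine ⟨s⁻¹, S.inv_mem hs, ?_⟩
    rw [Hom.inv_def, ptOf_comp]
  have hinvrange : Set.range (incl ≫ ι[G]).left ⊆ (T : Set G.left) := by
    rintro _ ⟨y, rfl⟩
    rw [Over.comp_left, Scheme.Hom.comp_apply]
    have hy : incl.left y ∈ closure E := by
      rw [← hTcoe, ← hr]
      exact ⟨y, rfl⟩
    have h1 := image_closure_subset_closure_image ι[G].left.continuous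
      (Set.mem_image_of_mem ι[G].left hy)
    exact closure_mono hinvE h1
  obtain ⟨v, hv⟩ := lift_ex (incl ≫ ι[G]) hinvrange
  obtain ⟨str, hstr⟩ := Groth.Agent.Lib.H43QuotGrp.exists_grpObj_of_mono incl e₀ he₀ m hm v hv
  refine ⟨Y, str, incl, hstr, (inferInstance : IsClosedImmersion I.subschemeι), ?_, ?_⟩
  · haveI : LocallyOfFiniteType Y.hom := by
      change LocallyOfFiniteType (I.subschemeι ≫ G.hom)
      infer_instance
    letI := str
    haveI hbc : IsReduced (Red.bc (Spec.map (CommRingCat.ofHom
        (algebraMap k (AlgebraicClosure k)))) Y).left := hgeo (AlgebraicClosure k)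
    refine Groth.Agent.Lib.H71GrpSmooth.smooth_of_isReduced_stalk_bc k Y ⊤ ?_
      (fun y _ => inferInstance)
    obtain ⟨y, -⟩ := Groth.Agent.Lib.FieldBC13.surjective_fst (AlgebraicClosure k) Y.hom (ptOf e₀)
    exact ⟨y, trivial⟩
  · rw [hr, hTcoe]

end PartB

end Groth.Agent.Lib.H71RatClosure
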