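import Mathlib.LinearAlgebra.TensorProduct.RightExactness
import Mathlib.LinearAlgebra.TensorProduct.Basis
import Mathlib.LinearAlgebra.Basis.VectorSpace
import Mathlib.RingTheory.Flat.Basic
import Mathlib.RingTheory.Flat.FaithfullyFlat.Basic
import Mathlib.RingTheory.TensorProduct.Maps
import Mathlib.RingTheory.Ideal.Quotient.Operations

/-!
# Ideals of sets of rational points and tensor products (helper71)

For a field `k`: `V ⊗ (T → k) → (T → V)` is injective, hence the ideal of a set of rational points
is compatible with base field extension and with products.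
-/

set_option autoImplicit false
universe u

namespace Groth.Agent.Lib.H71RatPtsClosure

open TensorProduct

variable {k : Type*} [Field k]

section PiTensor

variable (k) (V : Type*) (T : Type*) [AddCommGroup V] [Module k V]

/-- The canonical map `V ⊗ (T → k) → (T → V)`, `v ⊗ f ↦ (t ↦ f t • v)`. -/
noncomputable def piTensorMap : V ⊗[k] (T → k) →ₗ[k] (T → V) :=
  TensorProduct.lift
    (LinearMap.mk₂ k (fun (v : V) (f : T → k) (t : T) => f t • v)
      (fun v₁ v₂ f => by funext t; exact smul_add _ _ _)
      (fun c v f => by funext t; exact smul_comm _ _ _)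
      (fun v f₁ f₂ => by funext t; exact add_smul _ _ _)
      (fun c v f => by funext t; exact mul_smul _ _ _))

@[simp] theorem piTensorMap_tmul (v : V) (f : T → k) (t : T) :
    piTensorMap k V T (v ⊗ₜ f) t = f t • v := rfl

theorem piTensorMap_injective : Function.Injective (piTensorMap k V T) := by
  rw [injective_iff_map_eq_zero]
  intro x hx
  let ℬ := Module.Basis.ofVectorSpace k V
  obtain ⟨c, rfl⟩ := TensorProduct.eq_repr_basis_left ℬ x
  suffices h : c = 0 by rw [h]; simp
  ext i t
  have h1 : ∀ t : T, (c.sum fun i n => n t • ℬ i) = 0 := by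
    intro t
    have := congrFun hx t
    rw [Finsupp.sum, map_sum, Finset.sum_apply] at this
    simpa [Finsupp.sum] using this
  have hli := ℬ.linearIndependent
  rw [linearIndependent_iff'] at hli
  by_cases hi : i ∈ c.support
  · exact hli c.support (fun i => c i t) (h1 t) i hi
  · rw [Finsupp.notMem_support_iff.1 hi]; rfl

end PiTensor

section RatPts

variable {A : Type*} [CommRing A] [Algebra k A] (S : Set (A →ₐ[k] k))

/-- The ideal of functions vanishing at all points of `S`. -/
def pointsIdeal : Ideal A := ⨅ σ ∈ S, RingHom.ker σ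

theorem mem_pointsIdeal (a : A) : a ∈ pointsIdeal S ↔ ∀ σ ∈ S, σ a = 0 := by
  simp [pointsIdeal, RingHom.mem_ker]

/-- Evaluation at the points of `S`. -/
def evS : A →ₐ[k] (S → k) := AlgHom.pi (fun σ => σ.1)

@[simp] theorem evS_apply (a : A) (σ : S) : evS S a σ = σ.1 a := rfl

theorem ker_evS : RingHom.ker (evS S) = pointsIdeal S := by
  ext a
  rw [RingHom.mem_ker, mem_pointsIdeal]
  constructor
  · intro h σ hσ
    exact congrFun h ⟨σ, hσ⟩
  · intro h
    funext σ
    exact h σ.1 σ.2

/-- The induced injective map `A ⧸ I(S) → (S → k)`. -/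
noncomputable def evBar : A ⧸ pointsIdeal S →ₐ[k] (S → k) :=
  Ideal.Quotient.liftₐ (pointsIdeal S) (evS S) (fun a ha => by
    rw [← ker_evS] at ha; exact ha)

@[simp] theorem evBar_mk (a : A) : evBar S (Ideal.Quotient.mk _ a) = evS S a := rfl

theorem evBar_injective : Function.Injective (evBar S) := by
  refine RingHom.lift_injective_of_ker_le_ideal (pointsIdeal S) (f := (evS S : A →+* (S → k))) _ ?_
  rw [← ker_evS]
  exact le_rfl

end RatPts

section BaseChange

variable {A : Type*} [CommRing A] [Algebra k A] (S : Set (A →ₐ[k] k))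
variable (K : Type*) [Field K] [Algebra k K]

/-- The base change `σ_K : K ⊗ A → K` of a rational point. -/
noncomputable def bcPoint (σ : A →ₐ[k] k) : K ⊗[k] A →ₐ[K] K :=
  (Algebra.TensorProduct.rid k K K).toAlgHom.comp (Algebra.TensorProduct.map (AlgHom.id K K) σ)

theorem bcPoint_eq (σ : S) (x : K ⊗[k] A) :
    bcPoint K σ.1 x =
      piTensorMap k K S (LinearMap.lTensor K (evBar S).toLinearMap
        (LinearMap.lTensor K (Ideal.Quotient.mkₐ k (pointsIdeal S)).toLinearMap x)) σ := by
  induction x using TensorProduct.induction_on with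
  | zero => simp
  | tmul y a =>
    simp only [bcPoint, AlgHom.coe_comp, Function.comp_apply,
      Algebra.TensorProduct.map_tmul, AlgHom.coe_id, id_eq,
      LinearMap.lTensor_tmul, AlgHom.toLinearMap_apply, Ideal.Quotient.mkₐ_eq_mk, evBar_mk,
      piTensorMap_tmul, evS_apply]
    exact Algebra.TensorProduct.rid_tmul (R := k) (S := K) (A := K) _ _
  | add x y hx hy =>
    simp only [map_add, Pi.add_apply, hx, hy]

theorem map_includeRight_pointsIdeal :
    Ideal.map (Algebra.TensorProduct.includeRight : A →ₐ[k] K ⊗[k] A) (pointsIdeal S) =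
      ⨅ σ ∈ S, RingHom.ker (bcPoint K σ) := by
  have hker := Algebra.TensorProduct.lTensor_ker (R := k) (A := K)
    (g := Ideal.Quotient.mkₐ k (pointsIdeal S)) (Ideal.Quotient.mkₐ_surjective k _)
  have hk1 : RingHom.ker (Ideal.Quotient.mkₐ k (pointsIdeal S)) = pointsIdeal S := by
    ext a; simp [RingHom.mem_ker, Ideal.Quotient.eq_zero_iff_mem]
  rw [hk1] at hker
  rw [← hker]
  ext x
  simp only [Ideal.mem_iInf, RingHom.mem_ker]
  have hinj : Function.Injective (fun z : K ⊗[k] (A ⧸ pointsIdeal S) =>
      piTensorMap k K S (LinearMap.lTensor K (evBar S).toLinearMap z)) :=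
    (piTensorMap_injective k K S).comp
      (Module.Flat.lTensor_preserves_injective_linearMap _ (evBar_injective S))
  constructor
  · intro hx σ hσ
    rw [bcPoint_eq S K ⟨σ, hσ⟩ x]
    have : LinearMap.lTensor K (Ideal.Quotient.mkₐ k (pointsIdeal S)).toLinearMap x = 0 := hx
    rw [this, map_zero, map_zero]
    rfl
  · intro hx
    apply hinj
    simp only [map_zero]
    funext σ
    have := hx σ.1 σ.2
    rw [bcPoint_eq S K σ x] at this
    exact this

end BaseChange

section Product

variable {A A' : Type*} [CommRing A] [Algebra k A] [CommRing A'] [Algebra k A']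
variable (S : Set (A →ₐ[k] k)) (S' : Set (A' →ₐ[k] k))

/-- The product point `σ ⊗ σ' : A ⊗ A' → k`. -/
noncomputable def prodPoint (σ : A →ₐ[k] k) (σ' : A' →ₐ[k] k) : A ⊗[k] A' →ₐ[k] k :=
  (Algebra.TensorProduct.lmul' (S := k) k).comp (Algebra.TensorProduct.map σ σ')

theorem prodPoint_eq (σ : S) (σ' : S') (x : A ⊗[k] A') :
    prodPoint σ.1 σ'.1 x =
      piTensorMap k (S → k) S' (TensorProduct.map (evBar S).toLinearMap (evBar S').toLinearMap
        (TensorProduct.map (Ideal.Quotient.mkₐ k (pointsIdeal S)).toLinearMap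
          (Ideal.Quotient.mkₐ k (pointsIdeal S')).toLinearMap x)) σ' σ := by
  induction x using TensorProduct.induction_on with
  | zero => simp
  | tmul a a' =>
    simp only [prodPoint, AlgHom.coe_comp, Function.comp_apply, Algebra.TensorProduct.map_tmul,
      Algebra.TensorProduct.lmul'_apply_tmul, TensorProduct.map_tmul, AlgHom.toLinearMap_apply,
      Ideal.Quotient.mkₐ_eq_mk, evBar_mk, piTensorMap_tmul, evS_apply, Pi.smul_apply, smul_eq_mul]
    exact mul_comm _ _
  | add x y hx hy =>
    simp only [map_add, Pi.add_apply, hx, hy]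

theorem iInf_ker_prodPoint :
    (⨅ σ ∈ S, ⨅ σ' ∈ S', RingHom.ker (prodPoint σ σ')) =
      Ideal.map (Algebra.TensorProduct.includeLeft : A →ₐ[k] A ⊗[k] A') (pointsIdeal S) ⊔
        Ideal.map (Algebra.TensorProduct.includeRight : A' →ₐ[k] A ⊗[k] A') (pointsIdeal S') := by
  have hker := Algebra.TensorProduct.map_ker (R := k) (S := k)
    (f := Ideal.Quotient.mkₐ k (pointsIdeal S)) (g := Ideal.Quotient.mkₐ k (pointsIdeal S'))
    (Ideal.Quotient.mkₐ_surjective k _) (Ideal.Quotient.mkₐ_surjective k _)
  have hk1 : RingHom.ker (Ideal.Quotient.mkₐ k (pointsIdeal S)) = pointsIdeal S := by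
    ext a; simp [RingHom.mem_ker, Ideal.Quotient.eq_zero_iff_mem]
  have hk2 : RingHom.ker (Ideal.Quotient.mkₐ k (pointsIdeal S')) = pointsIdeal S' := by
    ext a; simp [RingHom.mem_ker, Ideal.Quotient.eq_zero_iff_mem]
  rw [hk1, hk2] at hker
  rw [← hker]
  ext x
  simp only [Ideal.mem_iInf, RingHom.mem_ker]
  have hinj : Function.Injective (fun z : (A ⧸ pointsIdeal S) ⊗[k] (A' ⧸ pointsIdeal S') =>
      piTensorMap k (S → k) S'
        (TensorProduct.map (evBar S).toLinearMap (evBar S').toLinearMap z)) :=
    (piTensorMap_injective k (S → k) S').comp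
      (TensorProduct.map_injective_of_flat_flat _ _ (evBar_injective S) (evBar_injective S'))
  constructor
  · intro hx
    apply hinj
    simp only [map_zero]
    funext σ' σ
    have := hx σ.1 σ.2 σ'.1 σ'.2
    rw [prodPoint_eq S S' σ σ' x] at this
    exact this
  · intro hx σ hσ σ' hσ'
    rw [prodPoint_eq S S' ⟨σ, hσ⟩ ⟨σ', hσ'⟩ x]
    have : TensorProduct.map (Ideal.Quotient.mkₐ k (pointsIdeal S)).toLinearMap
        (Ideal.Quotient.mkₐ k (pointsIdeal S')).toLinearMap x = 0 := hx
    rw [this, map_zero, map_zero]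
    rfl

end Product

end Groth.Agent.Lib.H71RatPtsClosure
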