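import Groth.Agent.Lib.H71IrrGeom
import Groth.Agent.Lib.ValDense3
import Groth.Agent.S6333

/-!
# H71ResFieldFG: residue fields of schemes locally of finite type over a field (helper71)

* essFiniteType_residueField: κ(ξ) is essentially of finite type over k;
* exists_finiteDimensional_separableClosure: the separable closure of k in κ(ξ) is finite over k;
* exists_finite_separable_geomIrr_of_lft: Stacks 0G69 / EGA IV 4.5.10 in reduced-subscheme form.
-/

set_option autoImplicit false
universe u
open CategoryTheory CategoryTheory.Limits AlgebraicGeometry TensorProduct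

namespace Groth.Agent.Lib.H71ResFieldFG

/-- `R → 𝒪_{Spec R, x}` is essentially of finite type (it is a localization). -/
theorem essFiniteType_toStalk (R : CommRingCat.{u}) (x : Spec R) :
    ((Scheme.ΓSpecIso R).inv ≫ (Spec R).presheaf.germ ⊤ x trivial).hom.EssFiniteType := by
  letI : Algebra ↑R ↑((Spec R).presheaf.stalk x) := StructureSheaf.stalkAlgebra (↑R) x
  haveI : IsLocalization.AtPrime (↑((Spec R).presheaf.stalk x)) x.asIdeal :=
    StructureSheaf.IsLocalization.to_stalk R x
  have : Algebra.EssFiniteType R ((Spec R).presheaf.stalk x) :=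
    Algebra.EssFiniteType.of_isLocalization _ x.asIdeal.primeCompl
  exact this

/-- For `f : X ⟶ Spec k` locally of finite type and `ξ ∈ X`, the residue field `κ(ξ)` is essentially of finite
type over `k`. -/
theorem essFiniteType_residueField {k : Type u} [Field k] {X : Scheme.{u}}
    (f : X ⟶ Spec (CommRingCat.of k)) [LocallyOfFiniteType f] (ξ : X) (φ : k →+* X.residueField ξ)
    (hφ : Spec.map (CommRingCat.ofHom φ) = X.fromSpecResidueField ξ ≫ f) : φ.EssFiniteType := by
  have h1 := Groth.Agent.Lib.ValDense.essFiniteType_stalkClosedPointTo_fromSpecResidueField_comp f ξ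
  have key : ∀ g : Spec (X.residueField ξ) ⟶ Spec (CommRingCat.of k), Spec.map (CommRingCat.ofHom φ) = g →
      (Scheme.stalkClosedPointTo g).hom.EssFiniteType → φ.EssFiniteType := by
    rintro _ rfl h
    have h2 := Scheme.germ_stalkClosedPointTo_Spec (CommRingCat.ofHom φ)
    have h3 : CommRingCat.ofHom φ = ((Scheme.ΓSpecIso (CommRingCat.of k)).inv ≫
        (Spec (CommRingCat.of k)).presheaf.germ ⊤ _ trivial) ≫
        Scheme.stalkClosedPointTo (Spec.map (CommRingCat.ofHom φ)) := by
      rw [Category.assoc, h2, Iso.inv_hom_id_assoc]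
    have h4 := (essFiniteType_toStalk (CommRingCat.of k) _).comp h
    have h5 : φ = (CommRingCat.ofHom φ).hom := rfl
    rw [h5, h3]
    exact h4
  exact key _ hφ h1


/-- For `f : X ⟶ Spec k` locally of finite type and `ξ ∈ X`, the separable closure of `k` in `κ(ξ)` is finite
over `k`. -/
theorem exists_finiteDimensional_separableClosure {k : Type u} [Field k] {X : Scheme.{u}}
    (f : X ⟶ Spec (CommRingCat.of k)) [LocallyOfFiniteType f] (ξ : X) :
    ∃ φ : k →+* X.residueField ξ,
      Spec.map (CommRingCat.ofHom φ) = X.fromSpecResidueField ξ ≫ f ∧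
      (letI := φ.toAlgebra; FiniteDimensional k (separableClosure k (X.residueField ξ))) := by
  let φ : k →+* X.residueField ξ := (Spec.preimage (X.fromSpecResidueField ξ ≫ f)).hom
  have hφ : Spec.map (CommRingCat.ofHom φ) = X.fromSpecResidueField ξ ≫ f := Spec.map_preimage _
  refine ⟨φ, hφ, ?_⟩
  letI := φ.toAlgebra
  haveI : Algebra.EssFiniteType k (X.residueField ξ) := essFiniteType_residueField f ξ φ hφ
  haveI hfin : FiniteDimensional k (algebraicClosure k (X.residueField ξ)) :=
    Groth.Agent.S6333.result (IntermediateField.fg_top k (X.residueField ξ))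
  have hle : separableClosure k (X.residueField ξ) ≤ algebraicClosure k (X.residueField ξ) :=
    le_algebraicClosure k _ _
  haveI : IsNoetherian k (algebraicClosure k (X.residueField ξ)) := IsNoetherian.iff_fg.mpr hfin
  exact Module.Finite.of_injective (IntermediateField.inclusion hle).toLinearMap
    (IntermediateField.inclusion_injective hle)

/-- **EGA IV 4.5.10 / Stacks 0G69** for schemes locally of finite type over a field with finitely many irreducible
components. -/
theorem exists_finite_separable_geomIrr_of_lft {k : Type u} [Field k] {X : Scheme.{u}}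
    (f : X ⟶ Spec (CommRingCat.of k)) [LocallyOfFiniteType f]
    (hirr : (irreducibleComponents (X : Type u)).Finite) :
    ∃ (L : Type u) (_ : Field L) (_ : Algebra k L), FiniteDimensional k L ∧ Algebra.IsSeparable k L ∧
      ∀ (T : Set ↥(pullback f (Spec.map (CommRingCat.ofHom (algebraMap k L)))))
        (hT : T ∈ irreducibleComponents ↥(pullback f (Spec.map (CommRingCat.ofHom (algebraMap k L))))),
        GeometricallyIrreducible
          ((Scheme.IdealSheafData.vanishingIdeal ⟨T, isClosed_of_mem_irreducibleComponents T hT⟩).subschemeι ≫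
            pullback.snd f (Spec.map (CommRingCat.ofHom (algebraMap k L)))) := by
  haveI : Finite ↥(irreducibleComponents ↥X) := hirr.to_subtype
  obtain ⟨L, i1, i2, hfd, hsep, h⟩ := Groth.Agent.Lib.H71IrrGeom.exists_finite_separable_geomIrr f
    (fun Z hZ => exists_finiteDimensional_separableClosure f hZ.1.genericPoint)
  refine ⟨L, i1, i2, hfd, hsep, ?_⟩
  intro T hT
  have h1 := h (SeparableClosure L) T hT
  set I := Scheme.IdealSheafData.vanishingIdeal ⟨T, isClosed_of_mem_irreducibleComponents T hT⟩ with hI
  have hr : Set.range I.subschemeι = T := by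
    rw [Scheme.IdealSheafData.range_subschemeι]
    exact Scheme.IdealSheafData.coe_support_vanishingIdeal _
  rw [← hr] at h1
  haveI := Groth.Agent.Lib.FieldBC13.irreducibleSpace_of_isIrreducible_preimage (SeparableClosure L)
    (pullback.snd f (Spec.map (CommRingCat.ofHom (algebraMap k L)))) I.subschemeι h1
  exact Groth.Agent.Lib.H71SepClosedGeom.geometricallyIrreducible_of_irreducibleSpace_pullback
      (SeparableClosure L) (I.subschemeι ≫ pullback.snd f (Spec.map (CommRingCat.ofHom (algebraMap k L))))

end Groth.Agent.Lib.H71ResFieldFG
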