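import Mathlib
import Groth.Agent.Lib.UnramifiedLocusBC
import Groth.Agent.Lib.RatSection96D

set_option autoImplicit false
universe u

open CategoryTheory AlgebraicGeometry Limits

namespace Groth.Agent.Lib.H71SecIso

/-- If the fibre of `π` over `s` is `Spec κ(s)` and `W.ι ≫ π` is locally of finite type, then
`W.ι ≫ π` is unramified at every point of `W` over `s`. -/
theorem stalk_formallyUnramified_of_isIso_fiber {X S : Scheme.{u}} (π : X ⟶ S) (s : S)
    (hs : IsIso (π.fiberToSpecResidueField s)) (W : X.Opens)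
    [LocallyOfFiniteType (W.ι ≫ π)] (w : W) (hw : π.base w.1 = s) :
    ((W.ι ≫ π).stalkMap w).hom.FormallyUnramified := by
  -- the pullback square
  have h1 : IsPullback (pullback.fst W.ι (π.fiberι s)) (pullback.snd W.ι (π.fiberι s))
      W.ι (π.fiberι s) := IsPullback.of_hasPullback _ _
  have h2 : IsPullback (π.fiberι s) (π.fiberToSpecResidueField s) π
      (S.fromSpecResidueField s) := IsPullback.of_hasPullback _ _
  have h3 := h1.paste_vert h2
  -- a point over w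
  have hx : w.1 ∈ Set.range (π.fiberι s) := by
    rw [Scheme.Hom.range_fiberι]; exact hw
  obtain ⟨q, hq⟩ := hx
  obtain ⟨p, hp1, hp2⟩ := Scheme.Pullback.exists_preimage_pullback (f := W.ι) (g := π.fiberι s)
    w q (by rw [hq]; rfl)
  have : FormallyUnramified (pullback.snd W.ι (π.fiberι s) ≫ π.fiberToSpecResidueField s) :=
    inferInstance
  have h4 := (Groth.Agent.Lib.UnramifiedLocusBC.formallyUnramified_stalkMap_iff_of_isPullback
    h3 p).mp (FormallyUnramified.stalkMap _ p)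
  rw [hp1] at h4
  exact h4


/-- The fibre over `s` is a single point if the fibre is `Spec κ(s)`. -/
theorem subsingleton_fiber_of_isIso {X S : Scheme.{u}} (π : X ⟶ S) (s : S)
    (hs : IsIso (π.fiberToSpecResidueField s)) : (π.base ⁻¹' {s}).Subsingleton := by
  have e : π.fiber s ≃ₜ Spec (S.residueField s) :=
    (asIso (π.fiberToSpecResidueField s)).schemeIsoToHomeo
  have : Subsingleton (π.fiber s) := e.injective.subsingleton
  have : Subsingleton (π.base ⁻¹' {s}) := (π.fiberHomeo s).symm.injective.subsingleton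
  intro a ha b hb
  exact congrArg Subtype.val (Subsingleton.elim (⟨a, ha⟩ : π.base ⁻¹' {s}) ⟨b, hb⟩)

theorem exists_isIso_morphismRestrict (X S : Scheme.{u}) (π : X ⟶ S) (ε : S ⟶ X)
    (hε : ε ≫ π = 𝟙 S)
    (hcl : IsClosedMap π.base) (s : S)
    (hfp : ∃ W : X.Opens, ε.base s ∈ W ∧ LocallyOfFinitePresentation (W.ι ≫ π))
    (hs : IsIso (π.fiberToSpecResidueField s)) :
    ∃ U : S.Opens, s ∈ U ∧ IsIso (π ∣_ U) := by
  obtain ⟨W, hxW, hWfp⟩ := hfp
  have hπε : ∀ t : S, π.base (ε.base t) = t := fun t ↦ by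
    rw [← Scheme.Hom.comp_apply, hε]; rfl
  have hst := stalk_formallyUnramified_of_isIso_fiber π s hs W ⟨ε.base s, hxW⟩ (hπε s)
  obtain ⟨U', hxU', hU'⟩ :=
    (Groth.Agent.Lib.UnramifiedLocusBC.exists_nhds_formallyUnramified_iff (W.ι ≫ π) _).mpr hst
  -- the open immersion j : U' → X
  set j : (U' : Scheme.{u}) ⟶ X := U'.ι ≫ W.ι with hj
  have hjU : FormallyUnramified (j ≫ π) := by rw [hj, Category.assoc]; exact hU'
  have hjft : LocallyOfFiniteType (j ≫ π) := by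
    rw [hj, Category.assoc]; infer_instance
  have hxj : ε.base s ∈ Set.range j.base := ⟨⟨⟨ε.base s, hxW⟩, hxU'⟩, rfl⟩
  -- U₁
  let U₁ : S.Opens := ε ⁻¹ᵁ j.opensRange
  have hsU₁ : s ∈ U₁ := hxj
  have hrange : Set.range (U₁.ι ≫ ε).base ⊆ Set.range j.base := by
    rintro _ ⟨t, rfl⟩
    exact t.2
  let σ : (U₁ : Scheme.{u}) ⟶ U' := IsOpenImmersion.lift j (U₁.ι ≫ ε) hrange
  have hσ : σ ≫ j = U₁.ι ≫ ε := IsOpenImmersion.lift_fac _ _ _
  have hσπ : σ ≫ (j ≫ π) = U₁.ι := by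
    rw [← Category.assoc, hσ, Category.assoc, hε, Category.comp_id]
  have : IsOpenImmersion (σ ≫ (j ≫ π)) := hσπ ▸ inferInstance
  have hσo : IsOpenImmersion σ :=
    Groth.Agent.Lib.RatSection96.isOpenImmersion_of_comp_isOpenImmersion (j ≫ π) σ
  have hεo : IsOpenImmersion (U₁.ι ≫ ε) := hσ ▸ inferInstance
  -- the open image
  let E : Set X := Set.range (U₁.ι ≫ ε).base
  have hE : IsOpen E := (U₁.ι ≫ ε).isOpenEmbedding.isOpen_range
  have hEmem : ∀ y, y ∈ E ↔ ∃ t : S, t ∈ U₁ ∧ ε.base t = y := by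
    intro y
    constructor
    · rintro ⟨t, rfl⟩; exact ⟨t.1, t.2, rfl⟩
    · rintro ⟨t, ht, rfl⟩; exact ⟨⟨t, ht⟩, rfl⟩
  have hZ : IsClosed (π.base '' Eᶜ) := hcl _ hE.isClosed_compl
  have hsZ : s ∉ π.base '' Eᶜ := by
    rintro ⟨z, hz, hzs⟩
    have := subsingleton_fiber_of_isIso π s hs (show z ∈ π.base ⁻¹' {s} from hzs)
      (show ε.base s ∈ π.base ⁻¹' {s} from hπε s)
    exact hz (this ▸ (hEmem _).mpr ⟨s, hsU₁, rfl⟩)
  let U : S.Opens := U₁ ⊓ ⟨(π.base '' Eᶜ)ᶜ, hZ.isOpen_compl⟩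
  have hsU : s ∈ U := ⟨hsU₁, hsZ⟩
  refine ⟨U, hsU, ?_⟩
  have hUU₁ : U ≤ U₁ := inf_le_left
  have hr2 : Set.range (U.ι ≫ ε).base ⊆ Set.range (π ⁻¹ᵁ U).ι.base := by
    rintro _ ⟨t, rfl⟩
    rw [Scheme.Opens.range_ι]
    change π.base (ε.base t.1) ∈ U
    rw [hπε]; exact t.2
  let ε' : (U : Scheme.{u}) ⟶ (π ⁻¹ᵁ U) := IsOpenImmersion.lift (π ⁻¹ᵁ U).ι (U.ι ≫ ε) hr2
  have hε' : ε' ≫ (π ⁻¹ᵁ U).ι = U.ι ≫ ε := IsOpenImmersion.lift_fac _ _ _
  have hsec : ε' ≫ (π ∣_ U) = 𝟙 _ := by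
    rw [← cancel_mono U.ι, Category.assoc, morphismRestrict_ι, ← Category.assoc, hε',
      Category.assoc, hε, Category.comp_id, Category.id_comp]
  have hUε : IsOpenImmersion (U.ι ≫ ε) := by
    have : U.ι ≫ ε = S.homOfLE hUU₁ ≫ (U₁.ι ≫ ε) := by
      rw [← Category.assoc, Scheme.homOfLE_ι]
    rw [this]; infer_instance
  have hε'o : IsOpenImmersion ε' := by
    have : IsOpenImmersion (ε' ≫ (π ⁻¹ᵁ U).ι) := hε' ▸ hUε
    exact IsOpenImmersion.of_comp ε' (π ⁻¹ᵁ U).ι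
  have hε's : Surjective ε' := by
    constructor
    intro y
    have hy : π.base y.1 ∈ U := y.2
    have hyE : y.1 ∈ E := by
      by_contra hne
      exact hy.2 ⟨y.1, hne, rfl⟩
    obtain ⟨t, ht, hty⟩ := (hEmem _).mp hyE
    have htU : t ∈ U := by
      have : π.base y.1 = t := by rw [← hty, hπε]
      rw [← this]; exact hy
    refine ⟨⟨t, htU⟩, ?_⟩
    apply (π ⁻¹ᵁ U).ι.isOpenEmbedding.injective
    rw [← Scheme.Hom.comp_apply, hε']
    exact hty
  have hiso : IsIso ε' := (isIso_iff_isOpenImmersion_and_surjective ε').mpr ⟨hε'o, hε's⟩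
  have : π ∣_ U = inv ε' := by
    rw [← cancel_epi ε', hsec, IsIso.hom_inv_id]
  rw [this]; infer_instance

end Groth.Agent.Lib.H71SecIso
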