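import Mathlib
import Groth.Prelude
import Groth.Agent.Lib.H71GenericSmooth
import Groth.Agent.Lib.H71SmoothSepPts

set_option autoImplicit false
universe u
open CategoryTheory CategoryTheory.Limits AlgebraicGeometry TensorProduct

namespace Groth.Agent.Lib.H71SepClosedSection

/-- A nonempty smooth scheme over a separably closed field has a rational point. -/
theorem exists_section_of_smooth (k : Type u) [Field k] [IsSepClosed k] {X : Scheme.{u}}
    (f : X ⟶ Spec (CommRingCat.of k)) [Smooth f] [Nonempty X] :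
    ∃ s : Spec (CommRingCat.of k) ⟶ X, s ≫ f = 𝟙 (Spec (CommRingCat.of k)) := by
  obtain ⟨x⟩ := ‹Nonempty X›
  obtain ⟨_, ⟨V, hV, rfl⟩, hx, -⟩ :=
    X.isBasis_affineOpens.exists_subset_of_mem_open (Set.mem_univ x) isOpen_univ
  have e : V ≤ f ⁻¹ᵁ ⊤ := le_top
  let φ : CommRingCat.of k ⟶ Γ(X, V) := (Scheme.ΓSpecIso (CommRingCat.of k)).inv ≫ f.appLE ⊤ V e
  letI : Algebra k Γ(X, V) := φ.hom.toAlgebra
  have hsm : (algebraMap k Γ(X, V)).Smooth := by
    show ((f.appLE ⊤ V e).hom.comp (Scheme.ΓSpecIso (CommRingCat.of k)).inv.hom).Smooth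
    refine RingHom.Smooth.comp (RingHom.Smooth.of_bijective ?_)
      (Smooth.smooth_appLE f (isAffineOpen_top _) hV e)
    exact (ConcreteCategory.isIso_iff_bijective _).mp inferInstance
  haveI : Algebra.Smooth k Γ(X, V) := RingHom.smooth_algebraMap.mp hsm
  haveI : Nontrivial Γ(X, V) := by
    have : Nonempty (PrimeSpectrum Γ(X, V)) := ⟨hV.primeIdealOf ⟨x, hx⟩⟩
    exact (PrimeSpectrum.nonempty_iff_nontrivial).mp this
  obtain ⟨L, _, _, _, _, ⟨ψ⟩⟩ := Groth.Agent.Lib.H71SmoothSepPts.exists_algHom_of_smooth k Γ(X, V)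
  have hbij : Function.Bijective (algebraMap k L) :=
    ⟨(algebraMap k L).injective, IsSepClosed.algebraMap_surjective k L⟩
  let el : k ≃ₐ[k] L := AlgEquiv.ofBijective (Algebra.ofId k L) hbij
  let ψ' : Γ(X, V) →ₐ[k] k := (el.symm : L →ₐ[k] k).comp ψ
  let g : Spec (CommRingCat.of k) ⟶ X := Spec.map (CommRingCat.ofHom ψ'.toRingHom) ≫ hV.fromSpec
  refine ⟨g, ?_⟩
  simp only [g, Category.assoc]
  rw [← IsAffineOpen.SpecMap_appLE_fromSpec f (isAffineOpen_top _) hV e,
    IsAffineOpen.fromSpec_top, Scheme.isoSpec_Spec_inv, ← Spec.map_comp, ← Spec.map_comp]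
  rw [← Spec.map_id]
  congr 1
  show φ ≫ CommRingCat.ofHom ψ'.toRingHom = _
  ext c
  exact ψ'.commutes c

/-- **Stacks 056U-type**: a nonempty geometrically reduced scheme locally of finite type over a separably closed
field has a rational point. -/
theorem exists_section_of_geometricallyReduced (k : Type u) [Field k] [IsSepClosed k] {X : Scheme.{u}}
    (f : X ⟶ Spec (CommRingCat.of k)) [LocallyOfFiniteType f] [GeometricallyReduced f]
    [Nonempty X] :
    ∃ s : Spec (CommRingCat.of k) ⟶ X, s ≫ f = 𝟙 (Spec (CommRingCat.of k)) := by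
  letI : X.Over (Spec (CommRingCat.of k)) := ⟨f⟩
  haveI : LocallyOfFiniteType (X ↘ Spec (CommRingCat.of k)) := ‹LocallyOfFiniteType f›
  haveI : GeometricallyReduced (X ↘ Spec (CommRingCat.of k)) := ‹GeometricallyReduced f›
  have hd : Dense (f.smoothLocus : Set X) := Groth.Agent.Lib.H71GenericSmooth.dense_smoothLocus k X
  haveI : Smooth (f.smoothLocus.ι ≫ f) := Groth.Agent.Lib.GenericSmooth45.smooth_smoothLocus_ι_comp f
  haveI : Nonempty f.smoothLocus := by
    obtain ⟨x, hx⟩ := hd.nonempty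
    exact ⟨⟨x, hx⟩⟩
  obtain ⟨s, hs⟩ := exists_section_of_smooth k (f.smoothLocus.ι ≫ f)
  exact ⟨s ≫ f.smoothLocus.ι, by rw [Category.assoc, hs]⟩

end Groth.Agent.Lib.H71SepClosedSection
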