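import Mathlib

set_option autoImplicit false
universe u

open TensorProduct

namespace Groth.Agent.Lib.H71SepIdem

variable (k A : Type*) [Field k] [CommRing A] [Algebra k A]

/-- A commutative algebra over a field whose multiplication map `A ⊗ A → A` has kernel generated by
an idempotent (i.e. a separable algebra) is finite-dimensional. -/
theorem finite_of_ker_lmul_eq_span_idempotent (e : A ⊗[k] A) (he : IsIdempotentElem e)
    (hker : RingHom.ker (Algebra.TensorProduct.lmul' k (S := A)).toRingHom = Ideal.span {e}) :
    Module.Finite k A := by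
  classical
  set μ := Algebra.TensorProduct.lmul' k (S := A) with hμ
  set ε : A ⊗[k] A := 1 - e with hε
  have hemem : e ∈ RingHom.ker μ.toRingHom := by rw [hker]; exact Ideal.mem_span_singleton_self e
  have h1 : μ ε = 1 := by
    have : μ e = 0 := hemem
    rw [hε, map_sub, map_one, this, sub_zero]
  have h2 : ∀ a : A, (a ⊗ₜ[k] (1 : A)) * ε = ((1 : A) ⊗ₜ[k] a) * ε := by
    intro a
    have hmem : (a ⊗ₜ[k] (1 : A) - (1 : A) ⊗ₜ[k] a) ∈ RingHom.ker μ.toRingHom := by
      change μ _ = 0
      rw [map_sub, hμ, Algebra.TensorProduct.lmul'_apply_tmul, Algebra.TensorProduct.lmul'_apply_tmul]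
      ring
    rw [hker, Ideal.mem_span_singleton'] at hmem
    obtain ⟨r, hr⟩ := hmem
    have : (a ⊗ₜ[k] (1 : A) - (1 : A) ⊗ₜ[k] a) * ε = 0 := by
      rw [← hr, hε, mul_assoc, mul_sub, mul_one, he.eq, sub_self, mul_zero]
    rw [sub_mul, sub_eq_zero] at this
    exact this
  let b := Module.Basis.ofVectorSpace k A
  let Φ := TensorProduct.equivFinsuppOfBasisRight (M := A) b
  set c := Φ ε with hc
  have hεc : ε = c.sum fun i m => m ⊗ₜ[k] b i := by
    rw [← TensorProduct.equivFinsuppOfBasisRight_symm_apply, hc, LinearEquiv.symm_apply_apply]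
  -- left multiplication acts coordinatewise
  have hL : ∀ (a : A) (x : A ⊗[k] A) j, Φ ((a ⊗ₜ[k] (1 : A)) * x) j = a * Φ x j := by
    intro a x j
    induction x using TensorProduct.induction_on with
    | zero => simp
    | tmul m y =>
      rw [Algebra.TensorProduct.tmul_mul_tmul, one_mul,
        TensorProduct.equivFinsuppOfBasisRight_apply_tmul_apply,
        TensorProduct.equivFinsuppOfBasisRight_apply_tmul_apply, mul_smul_comm]
    | add x y hx hy =>
      rw [mul_add, map_add, Finsupp.add_apply, hx, hy, map_add, Finsupp.add_apply, mul_add]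
  let V : Submodule k A := Submodule.span k (Set.range c)
  have hcV : ∀ i, c i ∈ V := fun i => Submodule.subset_span ⟨i, rfl⟩
  have hR : ∀ (a : A) j, Φ (((1 : A) ⊗ₜ[k] a) * ε) j ∈ V := by
    intro a j
    rw [hεc, Finsupp.mul_sum, map_finsuppSum, Finsupp.sum_apply]
    refine Submodule.sum_mem _ fun i _ => ?_
    beta_reduce
    rw [Algebra.TensorProduct.tmul_mul_tmul, one_mul,
      TensorProduct.equivFinsuppOfBasisRight_apply_tmul_apply]
    exact V.smul_mem _ (hcV i)
  have hac : ∀ (a : A) j, a * c j ∈ V := by
    intro a j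
    rw [hc, ← hL, h2]
    exact hR a j
  have hstab : ∀ (a : A) (v : A), v ∈ V → a * v ∈ V := by
    intro a v hv
    induction hv using Submodule.span_induction with
    | mem x hx =>
      obtain ⟨j, rfl⟩ := hx
      exact hac a j
    | zero => rw [mul_zero]; exact V.zero_mem
    | add x y _ _ hx hy => rw [mul_add]; exact V.add_mem hx hy
    | smul r x _ hx => rw [mul_smul_comm]; exact V.smul_mem r hx
  have h1V : (1 : A) ∈ V := by
    rw [← h1, hεc, map_finsuppSum]
    refine Submodule.sum_mem _ fun i _ => ?_
    beta_reduce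
    rw [Algebra.TensorProduct.lmul'_apply_tmul, mul_comm]
    exact hstab _ _ (hcV i)
  have htop : V = ⊤ := by
    rw [eq_top_iff]
    intro a _
    have := hstab a 1 h1V
    rwa [mul_one] at this
  rw [Module.finite_def, ← htop]
  exact Submodule.fg_span (Finsupp.finite_range c)


open CategoryTheory Limits AlgebraicGeometry MorphismProperty

/-- A scheme over a field whose diagonal is an open immersion is locally of finite presentation
(no finiteness hypothesis needed). -/
theorem locallyOfFinitePresentation_of_isOpenImmersion_diagonal {K : Type u} [Field K]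
    {X : Scheme.{u}} (f : X ⟶ Spec (CommRingCat.of K)) [IsOpenImmersion (pullback.diagonal f)] :
    LocallyOfFinitePresentation f := by
  wlog hX : ∃ S, X = Spec S generalizing X
  · rw [IsZariskiLocalAtSource.iff_of_openCover (P := @LocallyOfFinitePresentation) X.affineCover]
    intro i
    have inst : IsOpenImmersion (pullback.diagonal (X.affineCover.f i ≫ f)) :=
      MorphismProperty.comp_mem (.diagonal @IsOpenImmersion) _ _
        (inferInstanceAs (IsOpenImmersion _)) ‹_›
    exact this (_ ≫ _) ⟨_, rfl⟩
  obtain ⟨S, rfl⟩ := hX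
  obtain ⟨φ, rfl : Spec.map φ = f⟩ := Spec.homEquiv.symm.surjective f
  rw [HasRingHomProperty.Spec_iff (P := @LocallyOfFinitePresentation)]
  algebraize [φ.hom]
  let F := (Algebra.TensorProduct.lmul' K (S := S)).toRingHom
  have hF : Function.Surjective F := fun x ↦ ⟨.mk _ _ _ x 1, by simp [F]⟩
  have : IsOpenImmersion (Spec.map (CommRingCat.ofHom F)) := by
    rwa [← MorphismProperty.cancel_right_of_respectsIso (P := @IsOpenImmersion) _
      (pullbackSpecIso K S S).inv, ← AlgebraicGeometry.diagonal_SpecMap K S]
  obtain ⟨e, he, he'⟩ := (isOpenImmersion_SpecMap_iff_of_surjective _ hF).mp this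
  have hfin : Module.Finite K S := finite_of_ker_lmul_eq_span_idempotent K S e he he'
  have : Algebra.FiniteType K S := inferInstance
  have : Algebra.FinitePresentation K S := Algebra.FinitePresentation.of_finiteType.mp this
  exact this

end Groth.Agent.Lib.H71SepIdem
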