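import Mathlib
import Groth.Prelude
import Groth.Agent.Lib.H71SepIdem
import Groth.Agent.Lib.H71SecIso
import Groth.Agent.Lib.H71KerCrit
import Groth.Agent.Lib.H71NeutralBC

set_option autoImplicit false
universe u

open CategoryTheory CategoryTheory.Limits MonoidalCategory CartesianMonoidalCategory MonObj GrpObj
  AlgebraicGeometry

namespace Groth.Agent.Lib.H71UnitOpen

/-- variant of `H71SecIso.stalk_formallyUnramified_of_isIso_fiber` with an unramified fibre. -/
theorem stalk_formallyUnramified_of_fiber {X S : Scheme.{u}} (π : X ⟶ S) (s : S)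
    (hs : FormallyUnramified (π.fiberToSpecResidueField s)) (W : X.Opens)
    [LocallyOfFiniteType (W.ι ≫ π)] (w : W) (hw : π.base w.1 = s) :
    ((W.ι ≫ π).stalkMap w).hom.FormallyUnramified := by
  have h1 : IsPullback (pullback.fst W.ι (π.fiberι s)) (pullback.snd W.ι (π.fiberι s))
      W.ι (π.fiberι s) := IsPullback.of_hasPullback _ _
  have h2 : IsPullback (π.fiberι s) (π.fiberToSpecResidueField s) π
      (S.fromSpecResidueField s) := IsPullback.of_hasPullback _ _
  have h3 := h1.paste_vert h2
  have hx : w.1 ∈ Set.range (π.fiberι s) := by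
    rw [Scheme.Hom.range_fiberι]; exact hw
  obtain ⟨q, hq⟩ := hx
  obtain ⟨p, hp1, hp2⟩ := Scheme.Pullback.exists_preimage_pullback (f := W.ι) (g := π.fiberι s)
    w q (by rw [hq]; rfl)
  have : FormallyUnramified (pullback.snd W.ι (π.fiberι s) ≫ π.fiberToSpecResidueField s) :=
    MorphismProperty.comp_mem _ _ _ inferInstance hs
  have h4 := (Groth.Agent.Lib.UnramifiedLocusBC.formallyUnramified_stalkMap_iff_of_isPullback
    h3 p).mp (FormallyUnramified.stalkMap _ p)
  rw [hp1] at h4
  exact h4

variable {S : Scheme.{u}}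

/-- the unit section of a base change is the base change of the unit section. -/
theorem isPullback_unit_bc {S' : Scheme.{u}} (f : S' ⟶ S) (G : Over S) [GrpObj G] :
    IsPullback η[Red.bc f G].left f (pullback.fst G.hom f) η[G].left := by
  have hr : IsPullback (pullback.snd G.hom f) (pullback.fst G.hom f) f G.hom :=
    (IsPullback.of_hasPullback G.hom f).flip
  have h1 : η[Red.bc f G].left ≫ pullback.snd G.hom f = 𝟙 S' :=
    Groth.Agent.Lib.H71NeutralBC.unitHom_comp (Red.bc f G)
  have h2 : η[G].left ≫ G.hom = 𝟙 S := Groth.Agent.Lib.H71NeutralBC.unitHom_comp G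
  refine IsPullback.of_right ?_ (Groth.Agent.Lib.H71NeutralBC.unitHom_bc f G) hr
  rw [h1, h2]
  exact IsPullback.id_horiz f

theorem isOpenImmersion_diagonal_of_unit (K : Over S) [GrpObj K] [IsOpenImmersion η[K].left] :
    IsOpenImmersion (pullback.diagonal K.hom) := by
  have sq := (Groth.Agent.Lib.GrpDiag91.isPullback_diag K).map (Over.forget S)
  have h1 : IsOpenImmersion (lift (𝟙 K) (𝟙 K)).left :=
    MorphismProperty.of_isPullback (P := @IsOpenImmersion) sq.flip
      (show IsOpenImmersion η[K].left from inferInstance)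
  rwa [Groth.Agent.Lib.H71KerCrit.lift_id_id_left] at h1

/-- S5318 -/
theorem unit_openImm_criteria (S : Scheme.{u}) (G : Over S) [GrpObj G] :
    (IsOpenImmersion η[G].left ↔
      ((∃ W : G.left.Opens, (∀ p : ↥(𝟙_ (Over S)).left, η[G].left.base p ∈ W) ∧ LocallyOfFinitePresentation (W.ι ≫ G.hom)) ∧
        ∀ s : S, FormallyUnramified (G.hom.fiberToSpecResidueField s) ∧ LocallyOfFinitePresentation (G.hom.fiberToSpecResidueField s))) ∧
    (LocallyOfFinitePresentation G.hom → (IsOpenImmersion η[G].left ↔ FormallyUnramified G.hom)) := by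
  refine ⟨⟨fun h => ⟨?_, fun s => ?_⟩, ?_⟩, fun h => ?_⟩
  · refine ⟨η[G].left.opensRange, fun p => ⟨p, rfl⟩, ?_⟩
    have e : η[G].left.opensRange.ι ≫ G.hom = η[G].left.isoOpensRange.inv := by
      have hw : η[G].left ≫ G.hom = 𝟙 S := Groth.Agent.Lib.H71NeutralBC.unitHom_comp G
      rw [← Scheme.Hom.isoOpensRange_inv_comp, Category.assoc, hw]
      exact Category.comp_id _
    rw [e]
    infer_instance
  · have h1 : IsOpenImmersion η[Red.bc (S.fromSpecResidueField s) G].left :=
      MorphismProperty.of_isPullback (P := @IsOpenImmersion)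
        (isPullback_unit_bc (S.fromSpecResidueField s) G).flip h
    have h2 : IsOpenImmersion (pullback.diagonal (Red.bc (S.fromSpecResidueField s) G).hom) :=
      isOpenImmersion_diagonal_of_unit _
    have h3 : IsOpenImmersion (pullback.diagonal (G.hom.fiberToSpecResidueField s)) := h2
    refine ⟨inferInstance, ?_⟩
    exact Groth.Agent.Lib.H71SepIdem.locallyOfFinitePresentation_of_isOpenImmersion_diagonal
      (K := S.residueField s) (G.hom.fiberToSpecResidueField s)
  · rintro ⟨⟨W, hW, hWfp⟩, hfib⟩
    have hWft : LocallyOfFiniteType (W.ι ≫ G.hom) := inferInstance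
    have hU : FormallyUnramified (W.ι ≫ G.hom) := by
      refine Groth.Agent.Lib.UnramifiedLocusBC.formallyUnramified_of_forall_stalkMap _ fun w => ?_
      exact stalk_formallyUnramified_of_fiber G.hom _ (hfib _).1 W w rfl
    have hrange : Set.range η[G].left.base ⊆ Set.range W.ι.base := by
      rintro _ ⟨p, rfl⟩
      rw [Scheme.Opens.range_ι]
      exact hW p
    let σ := IsOpenImmersion.lift W.ι η[G].left hrange
    have hσ : σ ≫ W.ι = η[G].left := IsOpenImmersion.lift_fac _ _ _
    have hσπ : σ ≫ (W.ι ≫ G.hom) = 𝟙 S := by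
      rw [← Category.assoc, hσ]
      exact Groth.Agent.Lib.H71NeutralBC.unitHom_comp G
    have : IsOpenImmersion (σ ≫ (W.ι ≫ G.hom)) := hσπ ▸ (inferInstanceAs (IsOpenImmersion (𝟙 S)))
    have hσo : IsOpenImmersion σ :=
      Groth.Agent.Lib.RatSection96.isOpenImmersion_of_comp_isOpenImmersion (W.ι ≫ G.hom) σ
    rw [← hσ]
    infer_instance
  · have : LocallyOfFiniteType G.hom := inferInstance
    exact (Groth.Agent.Lib.H71KerCrit.formallyUnramified_iff_isOpenImmersion_unit G).symm

end Groth.Agent.Lib.H71UnitOpen
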