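import Groth.Agent.Lib.H71FreeBC
import Groth.Agent.Lib.IdealComap
import Groth.Agent.Lib.ReducedSubscheme
import Mathlib.AlgebraicGeometry.PullbackCarrier
import Mathlib.AlgebraicGeometry.Morphisms.Flat
import Mathlib.AlgebraicGeometry.Morphisms.Affine
import Mathlib.AlgebraicGeometry.IdealSheaf.Functorial
import Mathlib.AlgebraicGeometry.Properties

/-!
# Reduced induced structures and free base change (helper71)

* `mem_ideal_vanishingIdeal_iff`, `mem_ideal_vanishingIdeal_closure_iUnion_range_iff`: sections of the vanishing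
  ideal sheaf of a closed set / of the closure of a union of images of reduced schemes.
* `app_eq_zero_iff_forall_appLE`: vanishing of a pulled back section is local on the source.
* `isPushout_appLE_preimage`: sections over the preimage of an affine open in a base change of affine bases.
* `free_of_field`: algebras over `Γ(Spec k, ⊤)` are free.
* `vanishingIdeal_baseChange`: for `q : T ⟶ S` affine bases with `Γ(T)` free over `Γ(S)`, `p : X ⟶ S` and a family
  `f i : Z i ⟶ X` with all `Z i` and `Z i ×_S T` reduced, the vanishing ideal sheaf of the closure of the union of the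
  images of the `Z i ×_S T` in `X ×_S T` is the pullback of the vanishing ideal sheaf of the closure of the union of
  the images of the `Z i`.
* `vanishingIdeal_preimage_eq_comap`: the special case of one closed subset.
-/

set_option autoImplicit false
universe u

open CategoryTheory CategoryTheory.Limits AlgebraicGeometry TopologicalSpace

namespace Groth.Agent.Lib.H71VanishBC

section Criterion

variable {X : Scheme.{u}}

/-- A section over an affine open lies in the vanishing ideal of a closed set iff its nonvanishing locus misses it. -/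
theorem mem_ideal_vanishingIdeal_iff (W : Closeds X) (U : X.affineOpens) (s : Γ(X, U.1)) :
    s ∈ (Scheme.IdealSheafData.vanishingIdeal W).ideal U ↔
      Disjoint (W : Set X) (X.basicOpen s : Set X) := by
  rw [Scheme.IdealSheafData.vanishingIdeal_ideal, PrimeSpectrum.mem_vanishingIdeal]
  have key : ∀ x : PrimeSpectrum Γ(X, U.1), U.2.fromSpec x ∈ X.basicOpen s ↔ s ∉ x.asIdeal := by
    intro x
    rw [← Scheme.Hom.mem_preimage, U.2.fromSpec_preimage_basicOpen]
    exact PrimeSpectrum.mem_basicOpen s x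
  constructor
  · intro h
    rw [Set.disjoint_left]
    intro y hyW hys
    have hyU : y ∈ U.1 := X.basicOpen_le s hys
    have h1 : U.2.fromSpec (U.2.primeIdealOf ⟨y, hyU⟩) = y := U.2.fromSpec_primeIdealOf ⟨y, hyU⟩
    have h2 := h (U.2.primeIdealOf ⟨y, hyU⟩) (by rw [Set.mem_preimage, h1]; exact hyW)
    exact ((key _).1 (by rw [h1]; exact hys)) h2
  · intro h x hx
    by_contra hsx
    exact (Set.disjoint_left.1 h) hx ((key x).2 hsx)

/-- For reduced sources, a section lies in the vanishing ideal of the closure of the union of the images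
iff all its pullbacks vanish. -/
theorem mem_ideal_vanishingIdeal_closure_iUnion_range_iff {ι : Type*} (Z : ι → Scheme.{u})
    (f : ∀ i, Z i ⟶ X) [∀ i, IsReduced (Z i)] (U : X.affineOpens) (s : Γ(X, U.1)) :
    s ∈ (Scheme.IdealSheafData.vanishingIdeal
        (Closeds.closure (⋃ i, Set.range (f i)))).ideal U ↔
      ∀ i, ((f i).app U.1).hom s = 0 := by
  rw [mem_ideal_vanishingIdeal_iff]
  have h1 : Disjoint ((Closeds.closure (⋃ i, Set.range (f i)) : Closeds X) : Set X)
      (X.basicOpen s : Set X) ↔ Disjoint (⋃ i, Set.range (f i)) (X.basicOpen s : Set X) := by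
    constructor
    · intro h
      exact h.mono_left subset_closure
    · intro h
      exact h.closure_left (X.basicOpen s).2
  rw [h1, Set.disjoint_iUnion_left]
  refine forall_congr' fun i => ?_
  rw [← basicOpen_eq_bot_iff, ← Scheme.preimage_basicOpen]
  constructor
  · intro h
    ext z
    simp only [Opens.coe_bot, Set.mem_empty_iff_false, iff_false]
    intro hz
    exact (Set.disjoint_left.1 h) ⟨z, rfl⟩ hz
  · intro h
    rw [Set.disjoint_left]
    rintro _ ⟨z, rfl⟩ hz
    have : z ∈ (f i) ⁻¹ᵁ X.basicOpen s := hz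
    rw [h] at this
    exact this

/-- Vanishing of a pulled back section can be tested on an open cover of the preimage. -/
theorem app_eq_zero_iff_forall_appLE {Z : Scheme.{u}} (f : Z ⟶ X) (U : X.Opens) {J : Type*}
    (V : J → Z.Opens) (hV : ∀ j, V j ≤ f ⁻¹ᵁ U) (hcov : f ⁻¹ᵁ U ≤ ⨆ j, V j) (s : Γ(X, U)) :
    (f.app U).hom s = 0 ↔ ∀ j, (f.appLE U (V j) (hV j)).hom s = 0 := by
  constructor
  · intro h j
    rw [Scheme.Hom.appLE, CommRingCat.hom_comp, RingHom.comp_apply, h, map_zero]
  · intro h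
    refine TopCat.Sheaf.eq_of_locally_eq' Z.sheaf V (f ⁻¹ᵁ U) (fun j => homOfLE (hV j)) hcov _ _ ?_
    intro j
    have := h j
    rw [Scheme.Hom.appLE, CommRingCat.hom_comp, RingHom.comp_apply] at this
    exact this.trans (map_zero (Z.presheaf.map (homOfLE (hV j)).op).hom).symm

end Criterion

section Pushout

/-- Sections over the preimage of an affine open in a base change over affine bases form a pushout square. -/
theorem isPushout_appLE_preimage {X S T : Scheme.{u}} (p : X ⟶ S) (q : T ⟶ S) [IsAffine S] [IsAffine T]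
    (U : X.Opens) (hU : IsAffineOpen U) :
    IsPushout (p.appLE ⊤ U (fun _ _ => trivial)) (q.appLE ⊤ ⊤ (fun _ _ => trivial))
      ((pullback.fst p q).appLE U ((pullback.fst p q) ⁻¹ᵁ U) le_rfl)
      ((pullback.snd p q).appLE ⊤ ((pullback.fst p q) ⁻¹ᵁ U) (fun _ _ => trivial)) := by
  have H : IsPullback (pullback.fst p q) (pullback.snd p q) p q := IsPullback.of_hasPullback p q
  have hUY : (pullback.fst p q) ⁻¹ᵁ U = (pullback.fst p q) ⁻¹ᵁ U ⊓ (pullback.snd p q) ⁻¹ᵁ ⊤ := by
    simp
  have hiso := isIso_pushoutSection_of_isAffineOpen H (US := ⊤) (UT := ⊤) (UX := U)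
    (fun _ _ => trivial) (fun _ _ => trivial) hUY (isAffineOpen_top S) (isAffineOpen_top T) hU
  exact (isIso_pushoutSection_iff H _ _ hUY).mp hiso

/-- Every algebra over (the global sections of the spectrum of) a field is free as a module. -/
theorem free_of_field (k : Type u) [Field k] {R' : Type*} [CommRing R']
    (r : Γ(Spec (CommRingCat.of k), ⊤) →+* R') :
    letI := r.toAlgebra
    Module.Free Γ(Spec (CommRingCat.of k), ⊤) R' := by
  letI := r.toAlgebra
  have hF : IsField Γ(Spec (CommRingCat.of k), ⊤) :=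
    MulEquiv.isField (Field.toIsField k)
      (Scheme.ΓSpecIso (CommRingCat.of k)).commRingCatIsoToRingEquiv.toMulEquiv
  letI := hF.toField
  exact Module.Free.of_divisionRing _ _

end Pushout

section Main

theorem appLE_congr_hom {X Y : Scheme.{u}} {f g : X ⟶ Y} (h : f = g) (U : Y.Opens) (V : X.Opens)
    (e : V ≤ f ⁻¹ᵁ U) : f.appLE U V e = g.appLE U V (h ▸ e) := by
  subst h; rfl

theorem preimage_eq_iSup_affineOpens {X Z : Scheme.{u}} (f : Z ⟶ X) (U : X.Opens) :
    f ⁻¹ᵁ U ≤ ⨆ V : {V : Z.affineOpens // V.1 ≤ f ⁻¹ᵁ U}, V.1.1 := by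
  intro x hx
  obtain ⟨V, hV, hxV, hVU⟩ := (Z.isBasis_affineOpens).exists_subset_of_mem_open hx (f ⁻¹ᵁ U).2
  obtain ⟨V, hV', rfl⟩ := hV
  exact Opens.mem_iSup.2 ⟨⟨⟨V, hV'⟩, hVU⟩, hxV⟩

set_option maxHeartbeats 400000 in
/-- Main theorem: the reduced induced structure on the closure of a union of images commutes with base change
along a free extension of affine bases, provided the sources stay reduced after base change. -/
theorem vanishingIdeal_baseChange {X S T : Scheme.{u}} [IsAffine S] [IsAffine T] (p : X ⟶ S) (q : T ⟶ S)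
    (hfree : letI := (q.appLE ⊤ ⊤ (fun _ _ => trivial)).hom.toAlgebra; Module.Free Γ(S, ⊤) Γ(T, ⊤))
    {ι : Type*} (Z : ι → Scheme.{u}) (f : ∀ i, Z i ⟶ X) [∀ i, IsReduced (Z i)]
    [∀ i, IsReduced (pullback (f i ≫ p) q)] :
    Scheme.IdealSheafData.vanishingIdeal (Closeds.closure (⋃ i, Set.range
      (pullback.map (f i ≫ p) q p q (f i) (𝟙 _) (𝟙 _) (Category.comp_id _)
        ((Category.comp_id _).trans (Category.id_comp _).symm)))) =
    (Scheme.IdealSheafData.vanishingIdeal (Closeds.closure (⋃ i, Set.range (f i)))).comap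
      (pullback.fst p q) := by
  set π := pullback.fst p q with hπ
  set f' : ∀ i, pullback (f i ≫ p) q ⟶ pullback p q := fun i =>
    pullback.map (f i ≫ p) q p q (f i) (𝟙 _) (𝟙 _) (Category.comp_id _)
        ((Category.comp_id _).trans (Category.id_comp _).symm) with hf'
  have hfst : ∀ i, f' i ≫ π = pullback.fst (f i ≫ p) q ≫ f i := fun i =>
    pullback.lift_fst _ _ _
  have hsnd : ∀ i, f' i ≫ pullback.snd p q = pullback.snd (f i ≫ p) q := fun i =>
    (pullback.lift_snd _ _ _).trans (Category.comp_id _)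
  haveI : IsAffineHom π := MorphismProperty.pullback_fst _ _ (inferInstance : IsAffineHom q)
  refine Scheme.IdealSheafData.ext_of_iSup_eq_top
    (fun U : X.affineOpens => ⟨π ⁻¹ᵁ U.1, U.2.preimage π⟩) ?_ ?_
  · exact π.iSup_preimage_eq_top (iSup_affineOpens_eq_top X)
  · intro U
    have hU'aff : IsAffineOpen (π ⁻¹ᵁ U.1) := U.2.preimage π
    change (Scheme.IdealSheafData.vanishingIdeal (Closeds.closure (⋃ i, Set.range (f' i)))).ideal
        ⟨π ⁻¹ᵁ U.1, hU'aff⟩ = _
    rw [Groth.Agent.Lib.IdealComap.ideal_comap _ π U.1 U.2 (π ⁻¹ᵁ U.1) hU'aff le_rfl]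
    let pr : ∀ i, pullback (f i ≫ p) q ⟶ Z i := fun i => pullback.fst (f i ≫ p) q
    have hle' : ∀ (i : ι) (V : {V : (Z i).affineOpens // V.1 ≤ (f i) ⁻¹ᵁ U.1}),
        (pr i) ⁻¹ᵁ V.1.1 ≤ (f' i) ⁻¹ᵁ (π ⁻¹ᵁ U.1) := by
      intro i V
      rw [← Scheme.Hom.comp_preimage, hfst, Scheme.Hom.comp_preimage]
      exact Scheme.Hom.preimage_mono _ V.2
    have hcov' : ∀ i, (f' i) ⁻¹ᵁ (π ⁻¹ᵁ U.1) ≤
        ⨆ V : {V : (Z i).affineOpens // V.1 ≤ (f i) ⁻¹ᵁ U.1}, (pr i) ⁻¹ᵁ V.1.1 := by
      intro i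
      rw [← Scheme.Hom.comp_preimage, hfst, Scheme.Hom.comp_preimage, ← Scheme.Hom.preimage_iSup]
      exact Scheme.Hom.preimage_mono _ (preimage_eq_iSup_affineOpens (f i) U.1)
    have hL : (Scheme.IdealSheafData.vanishingIdeal (Closeds.closure (⋃ i, Set.range (f' i)))).ideal
        ⟨π ⁻¹ᵁ U.1, hU'aff⟩ =
        ⨅ j : (Σ i, {V : (Z i).affineOpens // V.1 ≤ (f i) ⁻¹ᵁ U.1}),
          RingHom.ker ((f' j.1).appLE (π ⁻¹ᵁ U.1) ((pr j.1) ⁻¹ᵁ j.2.1.1) (hle' j.1 j.2)).hom := by
      ext s
      rw [mem_ideal_vanishingIdeal_closure_iUnion_range_iff]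
      simp only [Ideal.mem_iInf, RingHom.mem_ker]
      constructor
      · intro h j
        exact (app_eq_zero_iff_forall_appLE (f' j.1) (π ⁻¹ᵁ U.1)
          (fun V : {V : (Z j.1).affineOpens // V.1 ≤ (f j.1) ⁻¹ᵁ U.1} => (pr j.1) ⁻¹ᵁ V.1.1)
          (hle' j.1) (hcov' j.1) s).1 (h j.1) j.2
      · intro h i
        exact (app_eq_zero_iff_forall_appLE (f' i) (π ⁻¹ᵁ U.1)
          (fun V : {V : (Z i).affineOpens // V.1 ≤ (f i) ⁻¹ᵁ U.1} => (pr i) ⁻¹ᵁ V.1.1)
          (hle' i) (hcov' i) s).2 (fun V => h ⟨i, V⟩)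
    have hR : (Scheme.IdealSheafData.vanishingIdeal (Closeds.closure (⋃ i, Set.range (f i)))).ideal
        ⟨U.1, U.2⟩ =
        ⨅ j : (Σ i, {V : (Z i).affineOpens // V.1 ≤ (f i) ⁻¹ᵁ U.1}),
          RingHom.ker ((f j.1).appLE U.1 j.2.1.1 j.2.2).hom := by
      ext s
      rw [mem_ideal_vanishingIdeal_closure_iUnion_range_iff]
      simp only [Ideal.mem_iInf, RingHom.mem_ker]
      constructor
      · intro h j
        exact (app_eq_zero_iff_forall_appLE (f j.1) U.1
          (fun V : {V : (Z j.1).affineOpens // V.1 ≤ (f j.1) ⁻¹ᵁ U.1} => V.1.1)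
          (fun V => V.2) (preimage_eq_iSup_affineOpens (f j.1) U.1) s).1 (h j.1) j.2
      · intro h i
        exact (app_eq_zero_iff_forall_appLE (f i) U.1
          (fun V : {V : (Z i).affineOpens // V.1 ≤ (f i) ⁻¹ᵁ U.1} => V.1.1)
          (fun V => V.2) (preimage_eq_iSup_affineOpens (f i) U.1) s).2 (fun V => h ⟨i, V⟩)
    rw [hL, hR]
    have h1 : ∀ j : (Σ i, {V : (Z i).affineOpens // V.1 ≤ (f i) ⁻¹ᵁ U.1}),
        π.appLE U.1 (π ⁻¹ᵁ U.1) le_rfl ≫
          (f' j.1).appLE (π ⁻¹ᵁ U.1) ((pr j.1) ⁻¹ᵁ j.2.1.1) (hle' j.1 j.2) =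
        (f j.1).appLE U.1 j.2.1.1 j.2.2 ≫ (pr j.1).appLE j.2.1.1 ((pr j.1) ⁻¹ᵁ j.2.1.1) le_rfl := by
      intro j
      rw [Scheme.Hom.appLE_comp_appLE, Scheme.Hom.appLE_comp_appLE]
      exact appLE_congr_hom (hfst j.1) _ _ _
    have h2 : ∀ j : (Σ i, {V : (Z i).affineOpens // V.1 ≤ (f i) ⁻¹ᵁ U.1}),
        (pullback.snd p q).appLE ⊤ (π ⁻¹ᵁ U.1) (fun _ _ => trivial) ≫
          (f' j.1).appLE (π ⁻¹ᵁ U.1) ((pr j.1) ⁻¹ᵁ j.2.1.1) (hle' j.1 j.2) =
        (pullback.snd (f j.1 ≫ p) q).appLE ⊤ ((pr j.1) ⁻¹ᵁ j.2.1.1) (fun _ _ => trivial) := by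
      intro j
      rw [Scheme.Hom.appLE_comp_appLE]
      exact appLE_congr_hom (hsnd j.1) _ _ _
    have key := Groth.Agent.Lib.H71FreeBC.iInf_ker_eq_map_of_isPushout
      (J := (Σ i, {V : (Z i).affineOpens // V.1 ≤ (f i) ⁻¹ᵁ U.1}))
      (B := fun j => Γ(Z j.1, j.2.1.1))
      (B' := fun j => Γ(pullback (f j.1 ≫ p) q, (pr j.1) ⁻¹ᵁ j.2.1.1))
      (isPushout_appLE_preimage p q U.1 U.2) hfree
      (fun j => (f j.1 ≫ p).appLE ⊤ j.2.1.1 (fun _ _ => trivial))
      (fun j => (pr j.1).appLE j.2.1.1 ((pr j.1) ⁻¹ᵁ j.2.1.1) le_rfl)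
      (fun j => (pullback.snd (f j.1 ≫ p) q).appLE ⊤ ((pr j.1) ⁻¹ᵁ j.2.1.1) (fun _ _ => trivial))
      (fun j => isPushout_appLE_preimage (f j.1 ≫ p) q j.2.1.1 j.2.1.2)
      (fun j => (f j.1).appLE U.1 j.2.1.1 j.2.2)
      (fun j => (f' j.1).appLE (π ⁻¹ᵁ U.1) ((pr j.1) ⁻¹ᵁ j.2.1.1) (hle' j.1 j.2)) h1 h2
    exact key

end Main

section Closed

/-- The reduced induced structure on the preimage of a closed subset under a free base change of affine bases
is the base change of the reduced induced structure, provided the latter is reduced. -/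
theorem vanishingIdeal_preimage_eq_comap {X S T : Scheme.{u}} [IsAffine S] [IsAffine T] (p : X ⟶ S)
    (q : T ⟶ S)
    (hfree : letI := (q.appLE ⊤ ⊤ (fun _ _ => trivial)).hom.toAlgebra; Module.Free Γ(S, ⊤) Γ(T, ⊤))
    (T' : Closeds X)
    [IsReduced (pullback ((Scheme.IdealSheafData.vanishingIdeal T').subschemeι ≫ p) q)] :
    Scheme.IdealSheafData.vanishingIdeal (T'.preimage (pullback.fst p q).continuous) =
      (Scheme.IdealSheafData.vanishingIdeal T').comap (pullback.fst p q) := by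
  set I := Scheme.IdealSheafData.vanishingIdeal T' with hI
  haveI : IsReduced I.subscheme :=
    Groth.Agent.Lib.ReducedSubscheme.isReduced_subscheme_vanishingIdeal T'
  have key := vanishingIdeal_baseChange p q hfree (fun _ : PUnit.{1} => I.subscheme)
    (fun _ => I.subschemeι)
  have hr : Set.range I.subschemeι = (T' : Set X) := by
    rw [Scheme.IdealSheafData.range_subschemeι, hI,
      Scheme.IdealSheafData.coe_support_vanishingIdeal]
  have h1 : Closeds.closure (⋃ _ : PUnit.{1}, Set.range I.subschemeι) = T' := by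
    ext1
    rw [Closeds.coe_closure, Set.iUnion_const, hr, T'.isClosed.closure_eq]
  have h2 : Closeds.closure (⋃ _ : PUnit.{1}, Set.range
      (pullback.map (I.subschemeι ≫ p) q p q I.subschemeι (𝟙 _) (𝟙 _) (Category.comp_id _)
        ((Category.comp_id _).trans (Category.id_comp _).symm))) =
      T'.preimage (pullback.fst p q).continuous := by
    ext1
    rw [Closeds.coe_closure, Set.iUnion_const, Scheme.Pullback.range_map, hr]
    have : Set.range (𝟙 T : T ⟶ T) = Set.univ := by
      rw [Set.range_eq_univ]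
      exact fun x => ⟨x, rfl⟩
    rw [this, Set.preimage_univ, Set.inter_univ, Closeds.coe_preimage]
    exact (T'.isClosed.preimage (pullback.fst p q).continuous).closure_eq
  rw [h1, h2] at key
  exact key

end Closed

end Groth.Agent.Lib.H71VanishBC
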