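import Groth.Agent.Lib.H72SecTrans

set_option autoImplicit false
universe u

open CategoryTheory AlgebraicGeometry

namespace Groth.Agent.Lib.H72CIso

open Groth.Agent.Lib.H72SecTrans

variable {W X Y Z : Scheme.{u}}

/-- Naturality of `cIso`. -/
theorem cIso_hom_naturality {f : X ⟶ Y} {g : Y ⟶ Z} {h : X ⟶ Z} (w : f ≫ g = h)
    {M M' : Z.Modules} (u : M ⟶ M') :
    (Scheme.Modules.pullback f).map ((Scheme.Modules.pullback g).map u) ≫ (cIso w M').hom =
      (cIso w M).hom ≫ (Scheme.Modules.pullback h).map u :=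
  (Scheme.Modules.pullbackComp f g ≪≫ Scheme.Modules.pullbackCongr w).hom.naturality u

/-- Associativity of `cIso`. -/
theorem cIso_assoc (a : W ⟶ X) (f : X ⟶ Y) (g : Y ⟶ Z) {h : X ⟶ Z} {k : W ⟶ Y} {m : W ⟶ Z}
    (w₁ : f ≫ g = h) (w₂ : a ≫ f = k) (w₃ : a ≫ h = m) (w₄ : k ≫ g = m) (M : Z.Modules) :
    (Scheme.Modules.pullback a).map (cIso w₁ M).hom ≫ (cIso w₃ M).hom =
      (cIso w₂ ((Scheme.Modules.pullback g).obj M)).hom ≫ (cIso w₄ M).hom := by
  subst w₁ w₂ w₃
  have key := congrArg (fun t => t.app M) (Scheme.Modules.pseudofunctor_associativity a f g)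
  simp only [NatTrans.comp_app, Functor.whiskerRight_app, Functor.whiskerLeft_app,
    Functor.associator_hom_app, Category.id_comp] at key
  have hE : Scheme.Modules.pullback (a ≫ f ≫ g) = Scheme.Modules.pullback ((a ≫ f) ≫ g) := by
    rw [Category.assoc]
  have key' : (Scheme.Modules.pullbackComp a (f ≫ g)).inv.app M ≫
      (Scheme.Modules.pullback a).map ((Scheme.Modules.pullbackComp f g).inv.app M) ≫
        (Scheme.Modules.pullbackComp a f).hom.app ((Scheme.Modules.pullback g).obj M) ≫
          (Scheme.Modules.pullbackComp (a ≫ f) g).hom.app M = (eqToHom hE).app M := key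
  have key2 : (Scheme.Modules.pullbackComp a f).hom.app ((Scheme.Modules.pullback g).obj M) ≫
      (Scheme.Modules.pullbackComp (a ≫ f) g).hom.app M =
      (Scheme.Modules.pullback a).map ((Scheme.Modules.pullbackComp f g).hom.app M) ≫
        (Scheme.Modules.pullbackComp a (f ≫ g)).hom.app M ≫ (eqToHom hE).app M := by
    rw [← key']
    simp only [Iso.hom_inv_id_app_assoc, ← Functor.map_comp_assoc, Iso.hom_inv_id_app]
    erw [CategoryTheory.Functor.map_id, Category.id_comp]
  dsimp only [cIso, Iso.trans_hom, Iso.app_hom, NatTrans.comp_app,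
    Scheme.Modules.pullbackCongr, eqToIso.hom]
  simp only [eqToHom_refl, NatTrans.id_app, Category.comp_id]
  rw [reassoc_of% key2, ← NatTrans.comp_app, eqToHom_trans, eqToHom_refl, NatTrans.id_app,
    Category.comp_id]

end Groth.Agent.Lib.H72CIso
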