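import Mathlib.Tactic

/-!
# helper72: counting by Kronecker substitution

`digit_count`: for a finite type `F`, a weight `W : F → ℕ` and a base `B > card F`, the number of
`f` with `W f = T` is the `T`-th base-`B` digit of `∑ f, B ^ W f`.

`pow_sum_eq`: for a product type `ι → κ` and an additive weight `W f = ∑ i, w (f i)`,
`∑ f, B ^ W f = (∑ c, B ^ w c) ^ card ι`.
-/

set_option autoImplicit false
set_option linter.unusedSimpArgs false

namespace Groth.Agent.Lib.H72Kronecker

open Finset

theorem digit_count {F : Type*} [Fintype F] (W : F → ℕ) (B T : ℕ)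
    (hB : Fintype.card F < B) :
    (∑ f, B ^ W f) / B ^ T % B = (univ.filter fun f => W f = T).card := by
  classical
  have hBpos : 0 < B := by omega
  have hBT : 0 < B ^ T := pow_pos hBpos T
  set c := (univ.filter fun f => W f = T).card with hc
  set L := ∑ f, (if W f < T then B ^ W f else 0) with hL
  set H := ∑ f, (if T < W f then B ^ (W f - (T + 1)) else 0) with hH
  have hcle : c ≤ Fintype.card F := by
    rw [hc, ← Finset.card_univ]; exact Finset.card_filter_le _ _
  have hsplit : ∑ f, B ^ W f = L + B ^ T * (c + B * H) := by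
    have hmid : c * B ^ T = ∑ f, (if W f = T then B ^ T else 0) := by
      rw [Finset.sum_ite, Finset.sum_const, Finset.sum_const_zero, add_zero, smul_eq_mul]
    rw [mul_add, mul_comm (B ^ T) c, hmid, hL, hH, Finset.mul_sum, Finset.mul_sum,
      ← Finset.sum_add_distrib, ← Finset.sum_add_distrib]
    refine Finset.sum_congr rfl fun f _ => ?_
    rcases lt_trichotomy (W f) T with h | h | h
    · have h1 : ¬ W f = T := by omega
      have h2 : ¬ T < W f := by omega
      simp [h, h1, h2]
    · have h1 : ¬ W f < T := by omega
      have h2 : ¬ T < W f := by omega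
      simp [h, h1, h2]
    · have h1 : ¬ W f = T := by omega
      have h2 : ¬ W f < T := by omega
      have h3 : W f = T + 1 + (W f - (T + 1)) := by omega
      simp only [h, h1, h2, if_true, if_false, zero_add]
      conv_lhs => rw [h3]
      rw [pow_add, pow_succ]
      ring
  have hLlt : L < B ^ T := by
    rcases Nat.eq_zero_or_pos T with hT | hT
    · subst hT
      have : L = 0 := by
        rw [hL]; exact Finset.sum_eq_zero fun f _ => by simp
      rw [this]; exact hBT
    · have h1 : L ≤ ∑ _f : F, B ^ (T - 1) := by
        rw [hL]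
        refine Finset.sum_le_sum fun f _ => ?_
        split_ifs with h
        · exact Nat.pow_le_pow_right hBpos (by omega)
        · exact Nat.zero_le _
      rw [Finset.sum_const, Finset.card_univ, smul_eq_mul] at h1
      have h2 : Fintype.card F * B ^ (T - 1) < B * B ^ (T - 1) :=
        Nat.mul_lt_mul_of_pos_right hB (pow_pos hBpos _)
      have h3 : B * B ^ (T - 1) = B ^ T := by
        rw [← pow_succ']; congr 1; omega
      omega
  rw [hsplit, Nat.add_mul_div_left _ _ hBT, Nat.div_eq_of_lt hLlt, zero_add,
    Nat.add_mul_mod_self_left, Nat.mod_eq_of_lt (by omega)]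

theorem pow_sum_eq {ι κ : Type*} [Fintype ι] [DecidableEq ι] [Fintype κ] (w : κ → ℕ) (B : ℕ) :
    ∑ f : ι → κ, B ^ (∑ i, w (f i)) = (∑ c, B ^ w c) ^ Fintype.card ι := by
  classical
  rw [← Finset.card_univ, ← Finset.prod_const, Finset.prod_univ_sum, Fintype.piFinset_univ]
  refine Finset.sum_congr rfl fun f _ => ?_
  rw [Finset.prod_pow_eq_pow_sum]

/-- The number of `f : ι → κ` with `∑ i, w (f i) = T` as a base-`B` digit. -/
theorem card_filter_sum_eq {ι κ : Type*} [Fintype ι] [DecidableEq ι] [Fintype κ] (w : κ → ℕ)
    (B T : ℕ) (hB : Fintype.card κ ^ Fintype.card ι < B) :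
    (univ.filter fun f : ι → κ => ∑ i, w (f i) = T).card =
      (∑ c, B ^ w c) ^ Fintype.card ι / B ^ T % B := by
  classical
  rw [← pow_sum_eq, digit_count _ _ _ (by rwa [Fintype.card_fun])]

end Groth.Agent.Lib.H72Kronecker
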