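import Groth.Agent.Lib.H72DelPezzo
import Groth.Agent.Lib.H72Kronecker

/-!
# helper72: the number of conic classes in `DP δ`, `δ ≤ 8`, as an explicit natural number
-/

set_option autoImplicit false

namespace Groth.Agent.Lib.H72ConicCount

open W4c3severiratdp Finset Groth.Agent.Lib.H72DelPezzo Groth.Agent.Lib.H72Kronecker

def Bk : ℕ := 2 ^ 20
def wk (c : ℕ) : ℕ := c + 33 * c ^ 2
def Gk : ℕ := Bk ^ wk 0 + Bk ^ wk 1 + Bk ^ wk 2 + Bk ^ wk 3 + Bk ^ wk 4
def Tk (a : ℕ) : ℕ := 3 * a - 2 + 33 * a ^ 2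
def cntk (δ a : ℕ) : ℕ := Gk ^ δ / Bk ^ Tk a % Bk

/-- The vector attached to `(a, f)`. -/
def vec {δ : ℕ} (p : ℕ × (Fin δ → Fin 5)) : DP δ :=
  Fin.cons (p.1 : ℤ) (fun i => ((p.2 i : ℕ) : ℤ))

theorem vec_injective {δ : ℕ} : Function.Injective (vec (δ := δ)) := by
  rintro ⟨a, f⟩ ⟨a', f'⟩ h
  have h0 : vec (a, f) 0 = vec (a', f') 0 := by rw [h]
  have hs : ∀ i : Fin δ, vec (a, f) i.succ = vec (a', f') i.succ := fun i => by rw [h]
  simp only [vec, Fin.cons_zero, Fin.cons_succ] at h0 hs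
  have ha : a = a' := by exact_mod_cast h0
  have hf : f = f' := by
    funext i
    have := hs i
    apply Fin.ext
    exact_mod_cast this
  rw [ha, hf]

/-- The finite parameter set of conic classes. -/
def P (δ : ℕ) : Finset (ℕ × (Fin δ → Fin 5)) :=
  (Finset.Icc 1 11 ×ˢ (univ : Finset (Fin δ → Fin 5))).filter fun p =>
    (∑ i, (p.2 i : ℕ)) + 2 = 3 * p.1 ∧ ∑ i, (p.2 i : ℕ) ^ 2 = p.1 ^ 2

theorem conic_eq_image {δ : ℕ} (hδ : δ ≤ 8) :
    {v : DP δ | IsConic v} = vec '' (P δ : Set (ℕ × (Fin δ → Fin 5))) := by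
  ext v
  simp only [Set.mem_ofPred_eq, Set.mem_image, Finset.mem_coe]
  constructor
  · intro hv
    obtain ⟨hsq, hsum⟩ := (isConic_iff v).1 hv
    obtain ⟨⟨ha1, ha11⟩, hb⟩ := bounds hδ (v 0) (fun i => v i.succ) hsq hsum
    have hf : ∀ i : Fin δ, (v i.succ).toNat < 5 := fun i => by
      have := hb i; omega
    refine ⟨((v 0).toNat, fun i => ⟨(v i.succ).toNat, hf i⟩), ?_, ?_⟩
    · simp only [P, Finset.mem_filter, Finset.mem_product, Finset.mem_Icc, Finset.mem_univ,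
        and_true]
      refine ⟨by omega, ?_, ?_⟩
      · have h1 : ((∑ i : Fin δ, (v i.succ).toNat : ℕ) : ℤ) = ∑ i : Fin δ, v i.succ := by
          push_cast
          exact Finset.sum_congr rfl fun i _ => Int.toNat_of_nonneg (hb i).1
        have h2 : (((v 0).toNat : ℕ) : ℤ) = v 0 := Int.toNat_of_nonneg (by omega)
        have : ((∑ i : Fin δ, (v i.succ).toNat : ℕ) : ℤ) + 2 = 3 * (((v 0).toNat : ℕ) : ℤ) := by
          rw [h1, h2, hsum]; ring
        exact_mod_cast this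
      · have h1 : ((∑ i : Fin δ, (v i.succ).toNat ^ 2 : ℕ) : ℤ) = ∑ i : Fin δ, v i.succ ^ 2 := by
          push_cast
          exact Finset.sum_congr rfl fun i _ => by rw [Int.toNat_of_nonneg (hb i).1]
        have h2 : (((v 0).toNat : ℕ) : ℤ) = v 0 := Int.toNat_of_nonneg (by omega)
        have : ((∑ i : Fin δ, (v i.succ).toNat ^ 2 : ℕ) : ℤ) = (((v 0).toNat : ℕ) : ℤ) ^ 2 := by
          rw [h1, h2, hsq]
        exact_mod_cast this
    · funext j
      refine Fin.cases ?_ (fun i => ?_) j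
      · simp only [vec, Fin.cons_zero]
        exact Int.toNat_of_nonneg (by omega)
      · simp only [vec, Fin.cons_succ]
        exact Int.toNat_of_nonneg (hb i).1
  · rintro ⟨⟨a, f⟩, hp, rfl⟩
    simp only [P, Finset.mem_filter, Finset.mem_product, Finset.mem_Icc, Finset.mem_univ,
      and_true] at hp
    obtain ⟨-, h1, h2⟩ := hp
    rw [isConic_iff]
    simp only [vec, Fin.cons_zero, Fin.cons_succ]
    constructor
    · have : ((∑ i : Fin δ, (f i : ℕ) ^ 2 : ℕ) : ℤ) = ((a ^ 2 : ℕ) : ℤ) := by rw [h2]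
      push_cast at this
      exact this
    · have : (((∑ i : Fin δ, (f i : ℕ)) + 2 : ℕ) : ℤ) = ((3 * a : ℕ) : ℤ) := by rw [h1]
      push_cast at this
      linarith

theorem sum_le {δ : ℕ} (hδ : δ ≤ 8) (f : Fin δ → Fin 5) : ∑ i, (f i : ℕ) ≤ 32 := by
  have h1 : ∑ i, (f i : ℕ) ≤ ∑ _i : Fin δ, 4 :=
    Finset.sum_le_sum fun i _ => by have := (f i).isLt; omega
  rw [Finset.sum_const, Finset.card_univ, Fintype.card_fin, smul_eq_mul] at h1
  omega

set_option exponentiation.threshold 100000 in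
theorem Gk_eq : ∑ c : Fin 5, Bk ^ wk (c : ℕ) = Gk := by
  rw [Fin.sum_univ_five]; rfl

theorem card_fibre {δ : ℕ} (hδ : δ ≤ 8) (a : ℕ) (ha : a ∈ Finset.Icc 1 11) :
    ((univ : Finset (Fin δ → Fin 5)).filter fun f =>
      (∑ i, (f i : ℕ)) + 2 = 3 * a ∧ ∑ i, (f i : ℕ) ^ 2 = a ^ 2).card = cntk δ a := by
  rw [Finset.mem_Icc] at ha
  have hfilter : ((univ : Finset (Fin δ → Fin 5)).filter fun f =>
      (∑ i, (f i : ℕ)) + 2 = 3 * a ∧ ∑ i, (f i : ℕ) ^ 2 = a ^ 2) =
      (univ : Finset (Fin δ → Fin 5)).filter fun f => ∑ i, wk (f i : ℕ) = Tk a := by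
    refine Finset.filter_congr fun f _ => ?_
    have hW : ∑ i, wk (f i : ℕ) = (∑ i, (f i : ℕ)) + 33 * ∑ i, (f i : ℕ) ^ 2 := by
      simp only [wk]
      rw [Finset.sum_add_distrib, Finset.mul_sum]
    have hS := sum_le hδ f
    rw [hW]
    simp only [Tk]
    generalize (∑ i, (f i : ℕ) ^ 2) = Q at *
    generalize (∑ i, (f i : ℕ)) = S at *
    generalize a ^ 2 = A at *
    omega
  rw [hfilter]
  have hB : Fintype.card (Fin 5) ^ Fintype.card (Fin δ) < Bk := by
    rw [Fintype.card_fin, Fintype.card_fin]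
    calc 5 ^ δ ≤ 5 ^ 8 := Nat.pow_le_pow_right (by norm_num) hδ
      _ < Bk := by norm_num [Bk]
  rw [card_filter_sum_eq (fun c : Fin 5 => wk (c : ℕ)) Bk (Tk a) hB, Gk_eq, Fintype.card_fin]
  rfl

/-- The number of conic classes of `DP δ` (`δ ≤ 8`) as a closed natural-number expression. -/
theorem conic_ncard {δ : ℕ} (hδ : δ ≤ 8) :
    {v : DP δ | IsConic v}.ncard = ∑ a ∈ Finset.Icc 1 11, cntk δ a := by
  rw [conic_eq_image hδ, Set.ncard_image_of_injective _ vec_injective, Set.ncard_coe_finset]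
  rw [P, Finset.card_filter, Finset.sum_product]
  refine Finset.sum_congr rfl fun a ha => ?_
  rw [← card_fibre hδ a ha, Finset.card_filter]

end Groth.Agent.Lib.H72ConicCount
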