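import Groth.Prelude.Def_Cyc
import Mathlib.AlgebraicGeometry.Stalk
import Mathlib.AlgebraicGeometry.Noetherian
import Mathlib.RingTheory.HopkinsLevitzki
import Mathlib.RingTheory.FiniteLength
import Mathlib.RingTheory.Length

/-!
# Generic points of fibres and the multiplicities of flat pullback (helper72)
-/

set_option autoImplicit false
universe u

open CategoryTheory AlgebraicGeometry

namespace Groth.Agent.Lib.H72CycFibre

variable {X Y : Scheme.{u}}

/-- The ideal of the local ring at `x` generated by the maximal ideal of the local ring at `f x`. -/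
noncomputable abbrev fibreIdeal (f : X ⟶ Y) (x : X) : Ideal (X.presheaf.stalk x) :=
  Ideal.map (f.stalkMap x).hom (IsLocalRing.maximalIdeal (Y.presheaf.stalk (f x)))

theorem fibreIdeal_le_maximalIdeal (f : X ⟶ Y) (x : X) :
    fibreIdeal f x ≤ IsLocalRing.maximalIdeal (X.presheaf.stalk x) := by
  rw [fibreIdeal, Ideal.map_le_iff_le_comap]
  intro a ha
  rw [Ideal.mem_comap, IsLocalRing.mem_maximalIdeal, mem_nonunits_iff]
  rw [IsLocalRing.mem_maximalIdeal, mem_nonunits_iff] at ha
  intro h
  exact ha ((isUnit_map_iff (f.stalkMap x).hom a).mp h)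

/-- A prime `q` of the local ring at `x` containing the fibre ideal gives a generization of `x`
in the fibre of `f` through `x`. -/
theorem map_fromSpecStalk_of_le (f : X ⟶ Y) (x : X) (q : ↥(Spec (X.presheaf.stalk x)))
    (hq : fibreIdeal f x ≤ q.asIdeal) : f (X.fromSpecStalk x q) = f x := by
  have h1 : (X.fromSpecStalk x ≫ f) q =
      (Spec.map (f.stalkMap x) ≫ Y.fromSpecStalk (f x)) q := by
    rw [Scheme.SpecMap_stalkMap_fromSpecStalk f]
  rw [Scheme.Hom.comp_apply, Scheme.Hom.comp_apply] at h1
  rw [h1]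
  have h2 : (Spec.map (f.stalkMap x)) q = IsLocalRing.closedPoint (Y.presheaf.stalk (f x)) := by
    apply PrimeSpectrum.ext
    have hle : IsLocalRing.maximalIdeal (Y.presheaf.stalk (f x)) ≤
        ((Spec.map (f.stalkMap x)) q).asIdeal := by
      change _ ≤ Ideal.comap (f.stalkMap x).hom q.asIdeal
      rw [← Ideal.map_le_iff_le_comap]
      exact hq
    have hne : ((Spec.map (f.stalkMap x)) q).asIdeal ≠ ⊤ :=
      ((Spec.map (f.stalkMap x)) q).isPrime.ne_top
    exact ((IsLocalRing.maximalIdeal.isMaximal _).eq_of_le hne hle).symm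
  rw [h2]
  exact Scheme.fromSpecStalk_closedPoint

/-- Conversely a generization of `x` in the fibre through `x` comes from a prime containing the
fibre ideal. -/
theorem le_of_map_fromSpecStalk (f : X ⟶ Y) (x : X) (q : ↥(Spec (X.presheaf.stalk x)))
    (hq : f (X.fromSpecStalk x q) = f x) : fibreIdeal f x ≤ q.asIdeal := by
  have h1 : (X.fromSpecStalk x ≫ f) q =
      (Spec.map (f.stalkMap x) ≫ Y.fromSpecStalk (f x)) q := by
    rw [Scheme.SpecMap_stalkMap_fromSpecStalk f]
  rw [Scheme.Hom.comp_apply, Scheme.Hom.comp_apply, hq] at h1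
  have h2 : (Spec.map (f.stalkMap x)) q = IsLocalRing.closedPoint (Y.presheaf.stalk (f x)) := by
    apply (Y.fromSpecStalk (f x)).isEmbedding.injective
    rw [← h1]
    exact Scheme.fromSpecStalk_closedPoint.symm
  rw [fibreIdeal, Ideal.map_le_iff_le_comap]
  have : IsLocalRing.maximalIdeal (Y.presheaf.stalk (f x)) =
      ((Spec.map (f.stalkMap x)) q).asIdeal := by rw [h2]; rfl
  rw [this]
  exact le_rfl

/-- Every point has a generization in its fibre which is maximal in the fibre. -/
theorem exists_max_in_fibre (f : X ⟶ Y) (x : X) :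
    ∃ y : X, y ⤳ x ∧ f y = f x ∧ ∀ z : X, f z = f y → z ⤳ y → z = y := by
  obtain ⟨p, hp, -⟩ := Ideal.exists_minimalPrimes_le (fibreIdeal_le_maximalIdeal f x)
  haveI : p.IsPrime := hp.1.1
  let q : ↥(Spec (X.presheaf.stalk x)) := (⟨p, hp.1.1⟩ : PrimeSpectrum (X.presheaf.stalk x))
  have hyx : X.fromSpecStalk x q ⤳ x := by
    have : X.fromSpecStalk x q ∈ Set.range (X.fromSpecStalk x) := ⟨q, rfl⟩
    rwa [Scheme.range_fromSpecStalk] at this
  have hfy : f (X.fromSpecStalk x q) = f x := map_fromSpecStalk_of_le f x q hp.1.2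
  refine ⟨X.fromSpecStalk x q, hyx, hfy, fun z hz hzy => ?_⟩
  have hzx : z ⤳ x := hzy.trans hyx
  obtain ⟨q', rfl⟩ : z ∈ Set.range (X.fromSpecStalk x) := by
    rw [Scheme.range_fromSpecStalk]; exact hzx
  have hsp : q' ⤳ q := (X.fromSpecStalk x).isEmbedding.isInducing.specializes_iff.mp hzy
  have hle : q'.asIdeal ≤ p :=
    (PrimeSpectrum.asIdeal_le_asIdeal (R := X.presheaf.stalk x) q' q).mpr
      ((PrimeSpectrum.le_iff_specializes (R := X.presheaf.stalk x) q' q).mpr hsp)
  have hI : fibreIdeal f x ≤ q'.asIdeal := le_of_map_fromSpecStalk f x q' (hz.trans hfy)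
  have := hp.2 ⟨q'.isPrime, hI⟩ hle
  have heq : q' = q := PrimeSpectrum.ext (le_antisymm hle this)
  rw [heq]

/-- At a point which is maximal in its fibre, the local ring of the fibre has finite positive
length (`X` locally Noetherian). -/
theorem toNat_length_ne_zero [IsLocallyNoetherian X] (f : X ⟶ Y) (y : X)
    (hmax : ∀ z : X, f z = f y → z ⤳ y → z = y) :
    (Module.length (X.presheaf.stalk y)
      (X.presheaf.stalk y ⧸ Ideal.map (f.stalkMap y).hom
        (IsLocalRing.maximalIdeal (Y.presheaf.stalk (f y))))).toNat ≠ 0 := by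
  set R := X.presheaf.stalk y
  set J : Ideal R := Ideal.map (f.stalkMap y).hom
    (IsLocalRing.maximalIdeal (Y.presheaf.stalk (f y))) with hJ
  have hJle : J ≤ IsLocalRing.maximalIdeal R := fibreIdeal_le_maximalIdeal f y
  have hJne : J ≠ ⊤ := fun h => (IsLocalRing.maximalIdeal.isMaximal R).ne_top (top_le_iff.mp (h ▸ hJle))
  haveI : Nontrivial (R ⧸ J) := Ideal.Quotient.nontrivial_iff.mpr hJne
  -- every prime containing `J` is the maximal ideal
  have hprime : ∀ q : Ideal R, q.IsPrime → J ≤ q → q = IsLocalRing.maximalIdeal R := by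
    intro q hq hle
    let q' : ↥(Spec (X.presheaf.stalk y)) := (⟨q, hq⟩ : PrimeSpectrum (X.presheaf.stalk y))
    have hz : f (X.fromSpecStalk y q') = f y := map_fromSpecStalk_of_le f y q' hle
    have hzy : X.fromSpecStalk y q' ⤳ y := by
      have : X.fromSpecStalk y q' ∈ Set.range (X.fromSpecStalk y) := ⟨q', rfl⟩
      rwa [Scheme.range_fromSpecStalk] at this
    have h1 := hmax _ hz hzy
    have h2 : q' = IsLocalRing.closedPoint R := by
      apply (X.fromSpecStalk y).isEmbedding.injective
      rw [h1]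
      exact Scheme.fromSpecStalk_closedPoint.symm
    exact congrArg PrimeSpectrum.asIdeal h2
  haveI : Ring.KrullDimLE 0 (R ⧸ J) := by
    rw [Ring.krullDimLE_zero_iff]
    intro P hP
    have h1 : Ideal.comap (Ideal.Quotient.mk J) P = IsLocalRing.maximalIdeal R := by
      refine hprime _ (Ideal.comap_isPrime _ _) ?_
      intro a ha
      rw [Ideal.mem_comap, Ideal.Quotient.eq_zero_iff_mem.mpr ha]
      exact P.zero_mem
    have h2 : P = Ideal.map (Ideal.Quotient.mk J) (IsLocalRing.maximalIdeal R) := by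
      rw [← h1, Ideal.map_comap_of_surjective _ Ideal.Quotient.mk_surjective]
    rw [h2]
    have hmx := Ideal.map_eq_top_or_isMaximal_of_surjective (Ideal.Quotient.mk J)
      Ideal.Quotient.mk_surjective (IsLocalRing.maximalIdeal.isMaximal R)
    exact hmx.resolve_left (h2 ▸ hP.ne_top)
  haveI : IsNoetherianRing R := inferInstance
  haveI : IsNoetherianRing (R ⧸ J) := inferInstance
  haveI : IsArtinianRing (R ⧸ J) := isArtinianRing_iff_krullDimLE_zero.mpr inferInstance
  haveI : IsArtinian R (R ⧸ J) :=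
    isArtinian_of_surjective_algebraMap (R := R ⧸ J) (M := R ⧸ J) (S := R)
      Ideal.Quotient.mk_surjective
  haveI : IsNoetherian R (R ⧸ J) := inferInstance
  have hfl : IsFiniteLength R (R ⧸ J) := isFiniteLength_iff_isNoetherian_isArtinian.mpr ⟨inferInstance, inferInstance⟩
  have h1 : Module.length R (R ⧸ J) ≠ ⊤ := Module.length_ne_top_iff.mpr hfl
  have h2 : Module.length R (R ⧸ J) ≠ 0 := by
    rw [Ne, Module.length_eq_zero_iff, not_subsingleton_iff_nontrivial]
    infer_instance
  intro h
  rcases (ENat.toNat_eq_zero).mp h with h | h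
  · exact h2 h
  · exact h1 h

end Groth.Agent.Lib.H72CycFibre
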