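import Groth.Agent.Lib.H72CycFibre
import Groth.Agent.Lib.LimDescent
import Mathlib.AlgebraicGeometry.PullbackCarrier

/-!
# Cycles on limits of schemes: injectivity of `colim Z_k(X_i) → Z_k(X')` (helper72)
-/

set_option autoImplicit false
universe u

open CategoryTheory Limits AlgebraicGeometry

namespace Groth.Agent.Lib.H72CycLim

open Groth.Agent.Lib.LimPullback Groth.Agent.Lib.LimDescent Groth.Agent.Lib.H72CycFibre

/-- A cycle on a quasi-compact scheme has finite support. -/
theorem finite_support {X : Scheme.{u}} [CompactSpace X] (α : AlgebraicCycle X ℤ) :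
    (Function.support ⇑α).Finite := by
  have h := α.supportLocallyFiniteWithinDomain
  choose t ht hfin using fun z : X => h z (Set.mem_univ z)
  obtain ⟨s, hs⟩ := isCompact_univ.elim_nhds_subcover t (fun z _ => ht z)
  refine (s.finite_toSet.biUnion (fun z _ => hfin z)).subset ?_
  intro x hx
  obtain ⟨z, hz, hxz⟩ := Set.mem_iUnion₂.mp (hs.2 (Set.mem_univ x))
  exact Set.mem_iUnion₂.mpr ⟨z, hz, hxz, hx⟩

variable {I : Type u} [Category.{u} I] [IsCofiltered I] (D : I ⥤ Scheme.{u}) (c : Cone D)
  (hc : IsLimit c) [∀ {i j} (f : i ⟶ j), IsAffineHom (D.map f)]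

include hc in
/-- A point of a stage which is not in the image of the limit is not in the image of some later
stage. -/
theorem exists_notMem_range (i : I) (w : D.obj i) (hw : w ∉ Set.range (c.π.app i).base) :
    ∃ j : Over i, w ∉ Set.range (D.map j.hom).base := by
  by_contra hcon
  push Not at hcon
  let a : Spec ((D.obj i).residueField w) ⟶ D.obj i := (D.obj i).fromSpecResidueField w
  haveI : ∀ j : Over i, Nonempty ↥((pbDiagram D i a).obj j) := fun j => by
    obtain ⟨y, hy⟩ := hcon j
    let s : ↥(Spec ((D.obj i).residueField w)) := Classical.arbitrary _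
    have hs : a s = (D.map j.hom) y := by
      rw [hy]; exact Scheme.fromSpecResidueField_apply w s
    obtain ⟨z, -, -⟩ := Scheme.Pullback.exists_preimage_pullback (f := a) (g := D.map j.hom) s y hs
    exact ⟨z⟩
  haveI : ∀ j : Over i, CompactSpace ↥((pbDiagram D i a).obj j) := fun j => inferInstance
  obtain ⟨z⟩ : Nonempty ↥(pullback a (c.π.app i)) :=
    Scheme.nonempty_of_isLimit (pbDiagram D i a) (pbCone D c i a) (isLimitPbCone hc)
  apply hw
  refine ⟨(pullback.snd a (c.π.app i)) z, ?_⟩
  have h1 : (pullback.snd a (c.π.app i) ≫ c.π.app i) z = (pullback.fst a (c.π.app i) ≫ a) z := by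
    rw [pullback.condition]
  rw [Scheme.Hom.comp_apply, Scheme.Hom.comp_apply] at h1
  rw [h1]
  exact Scheme.fromSpecResidueField_apply w _

include hc in
/-- If the flat pullback of a cycle to the limit vanishes, it vanishes at some stage. -/
theorem exists_pullFun_eq_zero [∀ i, CompactSpace (D.obj i)] [IsLocallyNoetherian c.pt]
    (δ : ∀ i, D.obj i → ℤ) (δ' : c.pt → ℤ)
    (hshift' : ∀ (i : I) (x : c.pt),
      (∀ y, c.π.app i y = c.π.app i x → y ⤳ x → y = x) → δ' x = δ i (c.π.app i x))
    (i : I) (α : AlgebraicCycle (D.obj i) ℤ)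
    (h0 : Cyc.pullFun (c.π.app i) δ' (δ i) 0 ⇑α = 0) :
    ∃ (j : I) (f : j ⟶ i), Cyc.pullFun (D.map f) (δ j) (δ i) 0 ⇑α = 0 := by
  classical
  have hfin := finite_support α
  -- points of the support are not in the image of the limit
  have hnot : ∀ w ∈ Function.support ⇑α, w ∉ Set.range (c.π.app i).base := by
    rintro w hw ⟨x, rfl⟩
    obtain ⟨y, -, hfy, hmax⟩ := exists_max_in_fibre (X := c.pt) (c.π.app i) x
    have hδ : δ' y = δ i (c.π.app i y) := hshift' i y hmax
    have hval := congrFun h0 y
    simp only [Cyc.pullFun, Pi.zero_apply] at hval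
    rw [if_pos (by rw [hδ, add_zero])] at hval
    rcases mul_eq_zero.mp hval with h | h
    · rw [hfy] at h
      exact hw h
    · exact toNat_length_ne_zero (X := c.pt) (c.π.app i) y hmax (by exact_mod_cast h)
  have hex : ∀ w : hfin.toFinset, ∃ j : Over i, (w : D.obj i) ∉ Set.range (D.map j.hom).base :=
    fun w => exists_notMem_range D c hc i w (hnot _ (hfin.mem_toFinset.mp w.2))
  choose j hj using hex
  obtain ⟨k, hk⟩ := IsCofiltered.inf_objs_exists (Finset.univ.image j)
  refine ⟨k.left, k.hom, ?_⟩
  funext x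
  simp only [Cyc.pullFun, Pi.zero_apply]
  split_ifs with hx
  · have : α ((D.map k.hom) x) = 0 := by
      by_contra hne
      have hmem : (D.map k.hom) x ∈ hfin.toFinset := hfin.mem_toFinset.mpr hne
      obtain ⟨m⟩ := hk (Finset.mem_image_of_mem j (Finset.mem_univ ⟨_, hmem⟩))
      apply hj ⟨_, hmem⟩
      refine ⟨(D.map m.left) x, ?_⟩
      have e : D.map m.left ≫ D.map (j ⟨_, hmem⟩).hom = D.map k.hom := by
        rw [← D.map_comp, Over.w]
      change (D.map (j ⟨_, hmem⟩).hom) ((D.map m.left) x) = (D.map k.hom) x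
      rw [← Scheme.Hom.comp_apply, e]
    rw [this, zero_mul]
  · rfl

end Groth.Agent.Lib.H72CycLim
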