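import Groth.Agent.Lib.H72CycLim
import Groth.Agent.Lib.H72LimRing
import Mathlib.AlgebraicGeometry.AffineScheme

/-!
# Cycles on limits of schemes: surjectivity of `colim Z_k(X_i) → Z_k(X')` (helper72)
-/

set_option autoImplicit false
universe u

open CategoryTheory AlgebraicGeometry

namespace Groth.Agent.Lib.H72CycSurj

open Groth.Agent.Lib.H72CycFibre

variable {X Y : Scheme.{u}}

/-- The maximal ideal of the stalk is generated by the prime of the point in an affine open. -/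
theorem map_germ_primeIdealOf {U : X.Opens} (hU : IsAffineOpen U) (x : X) (hx : x ∈ U) :
    Ideal.map (X.presheaf.germ U x hx).hom (hU.primeIdealOf ⟨x, hx⟩).asIdeal =
      IsLocalRing.maximalIdeal (X.presheaf.stalk x) := by
  letI : Algebra Γ(X, U) (X.presheaf.stalk x) :=
    TopCat.Presheaf.algebra_section_stalk X.presheaf ⟨x, hx⟩
  haveI : IsLocalization.AtPrime (X.presheaf.stalk x) (hU.primeIdealOf ⟨x, hx⟩).asIdeal :=
    hU.isLocalization_stalk ⟨x, hx⟩
  have h := IsLocalization.AtPrime.map_eq_maximalIdeal (hU.primeIdealOf ⟨x, hx⟩).asIdeal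
    (X.presheaf.stalk x)
  have e : algebraMap Γ(X, U) (X.presheaf.stalk x) = (X.presheaf.germ U x hx).hom := rfl
  rw [e] at h
  exact h

theorem specializes_of_primeIdealOf_le {U : X.Opens} (hU : IsAffineOpen U) (x y : X) (hx : x ∈ U)
    (hy : y ∈ U)
    (h : (hU.primeIdealOf ⟨x, hx⟩).asIdeal ≤ (hU.primeIdealOf ⟨y, hy⟩).asIdeal) : x ⤳ y := by
  have h1 : hU.primeIdealOf ⟨x, hx⟩ ⤳ hU.primeIdealOf ⟨y, hy⟩ :=
    (PrimeSpectrum.le_iff_specializes _ _).mp ((PrimeSpectrum.asIdeal_le_asIdeal _ _).mp h)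
  have h2 := h1.map hU.fromSpec.continuous
  rwa [hU.fromSpec_primeIdealOf ⟨x, hx⟩, hU.fromSpec_primeIdealOf ⟨y, hy⟩] at h2

/-- `germ ∘ appLE = stalkMap ∘ germ`. -/
theorem germ_comp_appLE (f : X ⟶ Y) (U : Y.Opens) (V : X.Opens) (hVU : V ≤ f ⁻¹ᵁ U) (x : X)
    (hx : x ∈ V) (hfx : f x ∈ U) :
    (X.presheaf.germ V x hx).hom.comp (f.appLE U V hVU).hom =
      (f.stalkMap x).hom.comp (Y.presheaf.germ U (f x) hfx).hom := by
  have h : f.appLE U V hVU ≫ X.presheaf.germ V x hx =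
      Y.presheaf.germ U (f x) hfx ≫ f.stalkMap x := by
    rw [Scheme.Hom.germ_stalkMap, Scheme.Hom.appLE, Category.assoc, TopCat.Presheaf.germ_res]
  have := congrArg CommRingCat.Hom.hom h
  simpa only [CommRingCat.hom_comp] using this

/-- Affine-local criterion: if the prime `p` of `x` in `Γ(X, V)` is generated by its contraction to
`Γ(Y, U)`, then `𝔪_x = 𝔪_{f x} 𝒪_{X,x}` and `x` generizes every point of `V` in its fibre. -/
theorem of_map_comap_eq (f : X ⟶ Y) {U : Y.Opens} (hU : IsAffineOpen U) {V : X.Opens}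
    (hV : IsAffineOpen V) (hVU : V ≤ f ⁻¹ᵁ U) (x : X) (hx : x ∈ V)
    (h : (hV.primeIdealOf ⟨x, hx⟩).asIdeal =
      Ideal.map (f.appLE U V hVU).hom
        (Ideal.comap (f.appLE U V hVU).hom (hV.primeIdealOf ⟨x, hx⟩).asIdeal)) :
    IsLocalRing.maximalIdeal (X.presheaf.stalk x) = fibreIdeal f x ∧
      ∀ y : X, y ∈ V → f y = f x → x ⤳ y := by
  have hcomap : ∀ (z : X) (hz : z ∈ V),
      Ideal.comap (f.appLE U V hVU).hom (hV.primeIdealOf ⟨z, hz⟩).asIdeal =
        (hU.primeIdealOf ⟨f z, hVU hz⟩).asIdeal := fun z hz =>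
    congrArg PrimeSpectrum.asIdeal (IsAffineOpen.comap_primeIdealOf_appLE U hU V hV hVU hz)
  constructor
  · have hfx : f x ∈ U := hVU hx
    rw [← map_germ_primeIdealOf hV x hx, h, Ideal.map_map, germ_comp_appLE f U V hVU x hx hfx,
      ← Ideal.map_map, hcomap x hx]
    exact congrArg (Ideal.map (f.stalkMap x).hom) (map_germ_primeIdealOf hU (f x) hfx)
  · intro y hy hfy
    refine specializes_of_primeIdealOf_le hV x y hx hy ?_
    rw [h, Ideal.map_le_iff_le_comap, hcomap x hx, hcomap y hy]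
    have : (⟨f x, hVU hx⟩ : U) = ⟨f y, hVU hy⟩ := Subtype.ext hfy.symm
    rw [this]

/-- the multiplicity is one when `𝔪_x = 𝔪_{f x} 𝒪_{X,x}` -/
theorem toNat_length_eq_one (f : X ⟶ Y) (x : X)
    (h : IsLocalRing.maximalIdeal (X.presheaf.stalk x) = fibreIdeal f x) :
    (Module.length (X.presheaf.stalk x)
      (X.presheaf.stalk x ⧸ Ideal.map (f.stalkMap x).hom
        (IsLocalRing.maximalIdeal (Y.presheaf.stalk (f x))))).toNat = 1 := by
  have h' : Ideal.map (f.stalkMap x).hom (IsLocalRing.maximalIdeal (Y.presheaf.stalk (f x))) =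
      IsLocalRing.maximalIdeal (X.presheaf.stalk x) := h.symm
  rw [h']
  haveI : IsSimpleModule (X.presheaf.stalk x)
      (X.presheaf.stalk x ⧸ IsLocalRing.maximalIdeal (X.presheaf.stalk x)) :=
    isSimpleModule_iff_isCoatom.mpr
      (Ideal.isMaximal_def.mp (IsLocalRing.maximalIdeal.isMaximal _))
  rw [Module.length_eq_one_iff.mpr inferInstance]
  rfl

section Limit

open Groth.Agent.Lib.H72LimRing Limits

variable {J : Type u} [Category.{u} J] [IsCofiltered J] (E : J ⥤ Scheme.{u}) (c : Cone E)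
  (hc : IsLimit c) [∀ {i j} (φ : i ⟶ j), IsAffineHom (E.map φ)]

attribute [local instance] algAt algLim

include hc in
/-- In a locally Noetherian limit, the prime of a point in an affine open pulled back from a stage
is generated by its contraction to every sufficiently late stage. -/
theorem exists_stage_prime_generated [IsLocallyNoetherian c.pt] (j₀ : J) (Ω : (E.obj j₀).Opens)
    (hΩ : IsAffineOpen Ω) (hLim : IsAffineOpen (ΩLim E c j₀ Ω)) (x : c.pt)
    (hx : x ∈ ΩLim E c j₀ Ω) :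
    ∃ jstar : Over j₀, ∀ (j : Over j₀) (_ : j ⟶ jstar),
      (hLim.primeIdealOf ⟨x, hx⟩).asIdeal =
        Ideal.map ((c.π.app j.left).appLE (ΩAt E j₀ Ω j) (ΩLim E c j₀ Ω) (ΩLim_le E c j₀ Ω j)).hom
          (Ideal.comap
            ((c.π.app j.left).appLE (ΩAt E j₀ Ω j) (ΩLim E c j₀ Ω) (ΩLim_le E c j₀ Ω j)).hom
            (hLim.primeIdealOf ⟨x, hx⟩).asIdeal) := by
  classical
  haveI : IsNoetherianRing Γ(c.pt, ΩLim E c j₀ Ω) :=
    IsLocallyNoetherian.component_noetherian ⟨ΩLim E c j₀ Ω, hLim⟩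
  set p := (hLim.primeIdealOf ⟨x, hx⟩).asIdeal with hp
  obtain ⟨s, hs⟩ := (isNoetherianRing_iff_ideal_fg _).mp inferInstance p
  have hex : ∀ a : s, ∃ (j : Over j₀) (b : Γ(E.obj j.left, ΩAt E j₀ Ω j)),
      toLim E c j₀ Ω j b = (a : Γ(c.pt, ΩLim E c j₀ Ω)) := fun a =>
    exists_toLim_eq E c j₀ Ω hc hΩ a
  choose jf bf hbf using hex
  obtain ⟨jstar, hjstar⟩ := IsCofiltered.inf_objs_exists (Finset.univ.image jf)
  refine ⟨jstar, fun j ψ => le_antisymm ?_ Ideal.map_comap_le⟩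
  rw [← hs, Ideal.span_le]
  intro a ha
  obtain ⟨m⟩ := hjstar (Finset.mem_image_of_mem jf (Finset.mem_univ ⟨a, ha⟩))
  have h1 : toLim E c j₀ Ω j (trans E j₀ Ω (ψ ≫ m) (bf ⟨a, ha⟩)) = a := by
    have := congrArg (fun g => g (bf ⟨a, ha⟩)) (toLim_comp_trans E c j₀ Ω (ψ ≫ m))
    exact this.trans (hbf ⟨a, ha⟩)
  have h2 : ((c.π.app j.left).appLE (ΩAt E j₀ Ω j) (ΩLim E c j₀ Ω) (ΩLim_le E c j₀ Ω j)).hom
      (trans E j₀ Ω (ψ ≫ m) (bf ⟨a, ha⟩)) = a := h1
  rw [← h2]
  refine Ideal.mem_map_of_mem _ ?_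
  rw [Ideal.mem_comap, h2]
  exact Ideal.subset_span ha

include hc in
/-- Every point of the (locally Noetherian) limit is, from some stage on, the unique generic point
of its fibre, with multiplicity one. -/
theorem exists_stage_good_point [IsLocallyNoetherian c.pt] (j₀ : J) (x : c.pt) :
    ∃ jstar : Over j₀, ∀ (j : Over j₀) (_ : j ⟶ jstar),
      IsLocalRing.maximalIdeal (c.pt.presheaf.stalk x) = fibreIdeal (X := c.pt) (c.π.app j.left) x ∧
      ∀ y : c.pt, c.π.app j.left y = c.π.app j.left x → x ⤳ y := by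
  obtain ⟨_, ⟨Ω, hΩ, rfl⟩, hxΩ, -⟩ := (E.obj j₀).isBasis_affineOpens.exists_subset_of_mem_open
    (Set.mem_univ (c.π.app j₀ x)) isOpen_univ
  haveI := isAffineHom_π_app E c hc j₀
  have hLim : IsAffineOpen (ΩLim E c j₀ Ω) := hΩ.preimage (c.π.app j₀)
  have hx : x ∈ ΩLim E c j₀ Ω := hxΩ
  obtain ⟨jstar, hjstar⟩ := exists_stage_prime_generated E c hc j₀ Ω hΩ hLim x hx
  refine ⟨jstar, fun j ψ => ?_⟩
  have hAt : IsAffineOpen (ΩAt E j₀ Ω j) := hΩ.preimage (E.map j.hom)
  obtain ⟨h1, h2⟩ := of_map_comap_eq (X := c.pt) (c.π.app j.left) hAt hLim (ΩLim_le E c j₀ Ω j)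
    x hx (hjstar j ψ)
  refine ⟨h1, fun y hy => h2 y ?_ hy⟩
  change c.π.app j₀ y ∈ Ω
  have e : ∀ z : c.pt, c.π.app j₀ z = E.map j.hom (c.π.app j.left z) := fun z => by
    rw [← Scheme.Hom.comp_apply, c.w]
  rw [e y, hy, ← e x]
  exact hxΩ

include hc in
/-- Surjectivity of `colim Z_k(X_i) → Z_k(X')`. -/
theorem exists_cycle_pullFun_eq [∀ i, CompactSpace (E.obj i)] [IsLocallyNoetherian c.pt]
    (δ : ∀ i, E.obj i → ℤ) (δ' : c.pt → ℤ) (hdim : Cyc.IsDimFun c.pt δ')
    (hshift' : ∀ (i : J) (x : c.pt),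
      (∀ y, c.π.app i y = c.π.app i x → y ⤳ x → y = x) → δ' x = δ i (c.π.app i x))
    (k : ℤ) (α' : AlgebraicCycle c.pt ℤ) (hα' : α' ∈ Cyc.Zk c.pt δ' k) :
    ∃ (i : J) (α : AlgebraicCycle (E.obj i) ℤ), α ∈ Cyc.Zk (E.obj i) (δ i) k ∧
      Cyc.pullFun (c.π.app i) δ' (δ i) 0 ⇑α = ⇑α' := by
  classical
  haveI : CompactSpace c.pt := Scheme.compactSpace_of_isLimit E c hc
  have hfin := Groth.Agent.Lib.H72CycLim.finite_support α'
  obtain ⟨j₀⟩ : Nonempty J := IsCofiltered.nonempty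
  choose jstar hjstar using fun x : hfin.toFinset => exists_stage_good_point E c hc j₀ x.1
  obtain ⟨j, hj⟩ := IsCofiltered.inf_objs_exists (Finset.univ.image jstar)
  have hgood : ∀ x ∈ Function.support ⇑α',
      IsLocalRing.maximalIdeal (c.pt.presheaf.stalk x) = fibreIdeal (X := c.pt) (c.π.app j.left) x ∧
      ∀ y : c.pt, c.π.app j.left y = c.π.app j.left x → x ⤳ y := fun x hx => by
    obtain ⟨m⟩ := hj (Finset.mem_image_of_mem jstar
      (Finset.mem_univ ⟨x, hfin.mem_toFinset.mpr hx⟩))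
    exact hjstar ⟨x, hfin.mem_toFinset.mpr hx⟩ j m
  have hmax : ∀ x ∈ Function.support ⇑α', ∀ y : c.pt,
      c.π.app j.left y = c.π.app j.left x → y ⤳ x → y = x := fun x hx y hy hyx =>
    (hyx.antisymm ((hgood x hx).2 y hy)).eq
  have hδ : ∀ x ∈ Function.support ⇑α', δ' x = δ j.left (c.π.app j.left x) := fun x hx =>
    hshift' j.left x (hmax x hx)
  have hinj : ∀ x ∈ Function.support ⇑α', ∀ y ∈ Function.support ⇑α',
      c.π.app j.left x = c.π.app j.left y → x = y := fun x hx y hy h =>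
    (((hgood x hx).2 y h.symm).antisymm ((hgood y hy).2 x h)).eq
  let αfun : E.obj j.left → ℤ := fun w =>
    if h : ∃ x ∈ Function.support ⇑α', c.π.app j.left x = w then α' h.choose else 0
  have hαfun : ∀ x ∈ Function.support ⇑α', αfun (c.π.app j.left x) = α' x := fun x hx => by
    have h : ∃ x' ∈ Function.support ⇑α', c.π.app j.left x' = c.π.app j.left x := ⟨x, hx, rfl⟩
    simp only [αfun, dif_pos h]
    congr 1
    exact hinj _ h.choose_spec.1 _ hx h.choose_spec.2
  have hαzero : ∀ w, (¬ ∃ x ∈ Function.support ⇑α', c.π.app j.left x = w) → αfun w = 0 :=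
    fun w h => dif_neg h
  have hsupp : Function.support αfun ⊆ (c.π.app j.left).base '' Function.support ⇑α' := by
    intro w hw
    by_contra hcon
    apply hw
    apply hαzero
    rintro ⟨x, hx, rfl⟩
    exact hcon ⟨x, hx, rfl⟩
  let α : AlgebraicCycle (E.obj j.left) ℤ :=
    { toFun := αfun
      supportWithinDomain' := Set.subset_univ _
      supportLocallyFiniteWithinDomain' := fun z _ =>
        ⟨Set.univ, Filter.univ_mem, ((hfin.image _).subset hsupp).subset Set.inter_subset_right⟩ }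
  refine ⟨j.left, α, ?_, ?_⟩
  · intro w hw
    by_contra hne
    obtain ⟨x, hx, rfl⟩ := hsupp hne
    apply hw
    rw [← hδ x hx]
    by_contra hk
    exact hx (hα' x hk)
  · funext y
    change Cyc.pullFun (c.π.app j.left) δ' (δ j.left) 0 αfun y = α' y
    simp only [Cyc.pullFun]
    by_cases hy : y ∈ Function.support ⇑α'
    · rw [if_pos (by rw [hδ y hy, add_zero]), hαfun y hy]
      have h1 := toNat_length_eq_one (X := c.pt) (c.π.app j.left) y (hgood y hy).1
      refine (congrArg (fun n : ℕ => α' y * (n : ℤ)) h1).trans ?_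
      simp
    · have hy0 : α' y = 0 := by simpa [Function.mem_support] using hy
      rw [hy0]
      split_ifs with hd
      · have : αfun (c.π.app j.left y) = 0 := by
          apply hαzero
          rintro ⟨x, hx, hxy⟩
          have hsp : x ⤳ y := (hgood x hx).2 y hxy.symm
          by_cases hxy' : x = y
          · exact hy (hxy' ▸ hx)
          · have hlt := (hdim x y hsp hxy').1
            rw [hδ x hx, hxy, hd, add_zero] at hlt
            exact lt_irrefl _ hlt
        rw [this, zero_mul]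
      · rfl

end Limit

end Groth.Agent.Lib.H72CycSurj
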