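import Groth.Prelude.Def_W4c3severiratdpLat
import Mathlib.Algebra.Order.Chebyshev
import Mathlib.Data.Fin.VecNotation
import Mathlib.Tactic

/-!
# helper72: conic classes in the del Pezzo lattices `DP δ`, `δ ≤ 8`
-/

set_option autoImplicit false

namespace Groth.Agent.Lib.H72DelPezzo

open W4c3severiratdp Finset

/-- Unfolding of `IsConic`. -/
theorem isConic_iff {δ : ℕ} (v : DP δ) :
    IsConic v ↔ (∑ i : Fin δ, v i.succ ^ 2 = v 0 ^ 2) ∧ (∑ i : Fin δ, v i.succ = 3 * v 0 - 2) := by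
  unfold IsConic form canon
  simp only [Fin.cases_zero, Fin.cases_succ, neg_mul, one_mul, Finset.sum_neg_distrib, sub_neg_eq_add]
  constructor
  · rintro ⟨h1, h2⟩
    refine ⟨?_, by linarith⟩
    have : ∑ i : Fin δ, v i.succ ^ 2 = ∑ i : Fin δ, v i.succ * v i.succ :=
      Finset.sum_congr rfl fun i _ => sq _
    rw [this]; linarith
  · rintro ⟨h1, h2⟩
    have : ∑ i : Fin δ, v i.succ ^ 2 = ∑ i : Fin δ, v i.succ * v i.succ :=
      Finset.sum_congr rfl fun i _ => sq _
    rw [this] at h1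
    refine ⟨by linarith, by linarith⟩

/-- The basic bounds: for a conic class in `DP δ` with `δ ≤ 8`, `1 ≤ a ≤ 11` and `0 ≤ b_j ≤ 4`. -/
theorem bounds {δ : ℕ} (hδ : δ ≤ 8) (a : ℤ) (b : Fin δ → ℤ)
    (hsq : ∑ i, b i ^ 2 = a ^ 2) (hsum : ∑ i, b i = 3 * a - 2) :
    (1 ≤ a ∧ a ≤ 11) ∧ ∀ j, 0 ≤ b j ∧ b j ≤ 4 := by
  have hδ' : (δ : ℤ) ≤ 8 := by exact_mod_cast hδ
  constructor
  · have h := sq_sum_le_card_mul_sum_sq (s := (univ : Finset (Fin δ))) (f := b)
    rw [hsum, hsq, Finset.card_univ, Fintype.card_fin] at h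
    have h2 : (δ : ℤ) * a ^ 2 ≤ 8 * a ^ 2 := mul_le_mul_of_nonneg_right hδ' (sq_nonneg a)
    constructor <;> nlinarith
  · intro j
    have h := sq_sum_le_card_mul_sum_sq (s := (univ : Finset (Fin δ)).erase j) (f := b)
    have hs1 : ∑ i ∈ (univ : Finset (Fin δ)).erase j, b i = 3 * a - 2 - b j := by
      rw [← hsum, ← Finset.add_sum_erase _ _ (Finset.mem_univ j)]; ring
    have hs2 : ∑ i ∈ (univ : Finset (Fin δ)).erase j, b i ^ 2 = a ^ 2 - b j ^ 2 := by
      rw [← hsq, ← Finset.add_sum_erase _ _ (Finset.mem_univ j)]; ring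
    have hcard : (((univ : Finset (Fin δ)).erase j).card : ℤ) ≤ 7 := by
      rw [Finset.card_erase_of_mem (Finset.mem_univ j), Finset.card_univ, Fintype.card_fin]
      omega
    have hnn : 0 ≤ a ^ 2 - b j ^ 2 := by
      rw [← hs2]; exact Finset.sum_nonneg fun i _ => sq_nonneg _
    rw [hs1, hs2] at h
    have h3 : (3 * a - 2 - b j) ^ 2 ≤ 7 * (a ^ 2 - b j ^ 2) :=
      h.trans (mul_le_mul_of_nonneg_right hcard hnn)
    have h4 : (2 * a - 3 * (2 + b j)) ^ 2 + 7 * b j ^ 2 - 28 * b j - 28 ≤ 0 := by nlinarith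
    have h5 : b j ^ 2 - 4 * b j - 4 ≤ 0 := by nlinarith [sq_nonneg (2 * a - 3 * (2 + b j))]
    constructor <;> nlinarith

/-- Sums of `g ∘ b` in terms of the fibre cardinalities, for `b` with values in `[0, 4]`. -/
theorem sum_comp_eq {δ : ℕ} (b : Fin δ → ℤ) (hb : ∀ j, 0 ≤ b j ∧ b j ≤ 4) (g : ℤ → ℤ) :
    ∑ i, g (b i) =
      ((univ.filter fun i => b i = 0).card : ℤ) * g 0 + ((univ.filter fun i => b i = 1).card : ℤ) * g 1 +
      ((univ.filter fun i => b i = 2).card : ℤ) * g 2 + ((univ.filter fun i => b i = 3).card : ℤ) * g 3 +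
      ((univ.filter fun i => b i = 4).card : ℤ) * g 4 := by
  have hmaps : ∀ i ∈ (univ : Finset (Fin δ)), b i ∈ ({0, 1, 2, 3, 4} : Finset ℤ) := by
    intro i _
    obtain ⟨h0, h4⟩ := hb i
    have : b i = 0 ∨ b i = 1 ∨ b i = 2 ∨ b i = 3 ∨ b i = 4 := by omega
    simp only [Finset.mem_insert, Finset.mem_singleton]
    exact this
  rw [← Finset.sum_fiberwise_of_maps_to hmaps]
  have hin : ∀ k : ℤ, ∑ i ∈ univ.filter (fun i => b i = k), g (b i) =
      ((univ.filter fun i => b i = k).card : ℤ) * g k := by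
    intro k
    rw [Finset.sum_congr rfl (fun i hi => by rw [(Finset.mem_filter.1 hi).2]), Finset.sum_const,
      nsmul_eq_mul]
  simp only [hin]
  rw [Finset.sum_insert (by decide), Finset.sum_insert (by decide), Finset.sum_insert (by decide),
    Finset.sum_insert (by decide), Finset.sum_singleton]
  ring

/-- Two tuples with values in `[0,4]` and the same fibre cardinalities differ by a permutation. -/
theorem exists_perm_of_counts {δ : ℕ} (b t : Fin δ → ℤ) (hb : ∀ i, 0 ≤ b i ∧ b i ≤ 4)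
    (ht : ∀ i, 0 ≤ t i ∧ t i ≤ 4)
    (h0 : (univ.filter fun i => b i = 0).card = (univ.filter fun i => t i = 0).card)
    (h1 : (univ.filter fun i => b i = 1).card = (univ.filter fun i => t i = 1).card)
    (h2 : (univ.filter fun i => b i = 2).card = (univ.filter fun i => t i = 2).card)
    (h3 : (univ.filter fun i => b i = 3).card = (univ.filter fun i => t i = 3).card)
    (h4 : (univ.filter fun i => b i = 4).card = (univ.filter fun i => t i = 4).card) :
    ∃ σ : Equiv.Perm (Fin δ), ∀ i, b (σ i) = t i := by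
  have hcard : ∀ k : ℤ, Fintype.card {i // t i = k} = Fintype.card {i // b i = k} := by
    intro k
    rw [Fintype.card_subtype, Fintype.card_subtype]
    by_cases hk : k = 0 ∨ k = 1 ∨ k = 2 ∨ k = 3 ∨ k = 4
    · rcases hk with rfl | rfl | rfl | rfl | rfl
      · exact h0.symm
      · exact h1.symm
      · exact h2.symm
      · exact h3.symm
      · exact h4.symm
    · have e1 : (univ.filter fun i => t i = k) = ∅ := by
        apply Finset.filter_eq_empty_iff.2
        intro i _ hik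
        obtain ⟨h0, h4⟩ := ht i
        apply hk; omega
      have e2 : (univ.filter fun i => b i = k) = ∅ := by
        apply Finset.filter_eq_empty_iff.2
        intro i _ hik
        obtain ⟨h0, h4⟩ := hb i
        apply hk; omega
      rw [e1, e2]
  let e : ∀ k : ℤ, {i // t i = k} ≃ {i // b i = k} := fun k => Fintype.equivOfCardEq (hcard k)
  exact ⟨Equiv.ofFiberEquiv e, fun i => Equiv.ofFiberEquiv_map e i⟩

/-- Conic classes are stable under permutation of the `b`-coordinates. -/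
theorem isConic_of_perm {δ : ℕ} (v t : DP δ) (σ : Equiv.Perm (Fin δ)) (h0 : v 0 = t 0)
    (h : ∀ i, v (σ i).succ = t i.succ) (ht : IsConic t) : IsConic v := by
  rw [isConic_iff] at ht ⊢
  rw [h0, ← ht.1, ← ht.2]
  constructor
  · rw [← Equiv.sum_comp σ (fun i => v i.succ ^ 2)]
    exact Finset.sum_congr rfl fun i _ => by rw [h]
  · rw [← Equiv.sum_comp σ (fun i => v i.succ)]
    exact Finset.sum_congr rfl fun i _ => by rw [h]

end Groth.Agent.Lib.H72DelPezzo
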