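import Mathlib
import Groth.Agent.Lib.H72RightExact

/-!
# Exactness at the middle for right exact functors preserving some monomorphisms (helper72)

`P : A ⥤ B` additive between abelian categories, preserving cokernels. For `f : F ⟶ G`, `g : G ⟶ H`
such that `P` preserves the monomorphisms `ker g ↪ G` and `coim g ↪ H`:

`exact_iff` : `P f, P g` is exact iff `P (coim f → G → H) = 0` and `P (ker g → G → coker f) = 0`.
-/

set_option autoImplicit false
universe v v' u u'

open CategoryTheory Limits

namespace Groth.Agent.Lib.H72ExactFlat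

variable {A : Type u} [Category.{v} A] [Abelian A] {B : Type u'} [Category.{v'} B] [Abelian B]

/-- Left homology data from an arbitrary kernel fork. -/
noncomputable def leftData (S : ShortComplex B) {K : B} (i : K ⟶ S.X₂) (wi : i ≫ S.g = 0)
    (hi : IsLimit (KernelFork.ofι i wi)) : S.LeftHomologyData where
  K := K
  H := cokernel (hi.lift (KernelFork.ofι S.f S.zero))
  i := i
  π := cokernel.π _
  wi := wi
  hi := hi
  wπ := cokernel.condition _
  hπ := cokernelIsCokernel _

/-- Right homology data from an arbitrary cokernel cofork. -/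
noncomputable def rightData (S : ShortComplex B) {Q : B} (p : S.X₂ ⟶ Q) (wp : S.f ≫ p = 0)
    (hp : IsColimit (CokernelCofork.ofπ p wp)) : S.RightHomologyData where
  Q := Q
  H := kernel (hp.desc (CokernelCofork.ofπ S.g S.zero))
  p := p
  ι := kernel.ι _
  wp := wp
  hp := hp
  wι := kernel.condition _
  hι := kernelIsKernel _

variable (P : A ⥤ B) [P.Additive] [PreservesFiniteColimits P] {F G H : A} (f : F ⟶ G) (g : G ⟶ H)

/-- `P (ker g → G)` is a kernel of `P g` as soon as `P` preserves the two relevant monos. -/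
noncomputable def isLimitMapKernel (m1 : Mono (P.map (kernel.ι g)))
    (m2 : Mono (P.map (Abelian.factorThruCoimage g))) :
    IsLimit (KernelFork.ofι (P.map (kernel.ι g))
      (by rw [← P.map_comp, kernel.condition, P.map_zero] : P.map (kernel.ι g) ≫ P.map g = 0)) := by
  -- `P ι, P q` is exact where `q : G → coim g`
  have hcok : IsColimit ((CokernelCofork.ofπ (cokernel.π (kernel.ι g))
      (cokernel.condition (kernel.ι g))).map P) :=
    CokernelCofork.mapIsColimit _ (cokernelIsCokernel (kernel.ι g)) P
  have w1 : P.map (kernel.ι g) ≫ P.map (Abelian.coimage.π g) = 0 := by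
    rw [← P.map_comp]; erw [cokernel.condition]; rw [P.map_zero]
  have w2 : P.map (kernel.ι g) ≫ P.map g = 0 := by
    rw [← P.map_comp, kernel.condition, P.map_zero]
  have h1 : (ShortComplex.mk _ _ w1).Exact := ShortComplex.exact_of_g_is_cokernel _ hcok
  let φ : ShortComplex.mk _ _ w1 ⟶ ShortComplex.mk _ _ w2 :=
    { τ₁ := 𝟙 _
      τ₂ := 𝟙 _
      τ₃ := P.map (Abelian.factorThruCoimage g)
      comm₁₂ := by simp
      comm₂₃ := by
        change 𝟙 _ ≫ P.map g = P.map (Abelian.coimage.π g) ≫ P.map (Abelian.factorThruCoimage g)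
        rw [← P.map_comp, Abelian.coimage.fac, Category.id_comp] }
  haveI : Epi φ.τ₁ := by change Epi (𝟙 _); infer_instance
  haveI : IsIso φ.τ₂ := by change IsIso (𝟙 _); infer_instance
  haveI : Mono φ.τ₃ := m2
  have h2 : (ShortComplex.mk _ _ w2).Exact :=
    (ShortComplex.exact_iff_of_epi_of_isIso_of_mono φ).1 h1
  haveI : Mono (ShortComplex.mk _ _ w2).f := m1
  exact h2.fIsKernel

theorem exact_iff (m1 : Mono (P.map (kernel.ι g)))
    (m2 : Mono (P.map (Abelian.factorThruCoimage g))) :
    (∃ w : P.map f ≫ P.map g = 0, (ShortComplex.mk _ _ w).Exact) ↔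
      P.map (Abelian.factorThruCoimage f ≫ g) = 0 ∧ P.map (kernel.ι g ≫ cokernel.π f) = 0 := by
  have hcokf : IsColimit ((CokernelCofork.ofπ (cokernel.π f) (cokernel.condition f)).map P) :=
    CokernelCofork.mapIsColimit _ (cokernelIsCokernel f) P
  have hker := isLimitMapKernel P g m1 m2
  have hfac : P.map f ≫ P.map g =
      P.map (Abelian.coimage.π f) ≫ P.map (Abelian.factorThruCoimage f ≫ g) := by
    rw [← P.map_comp, ← P.map_comp, ← Category.assoc, Abelian.coimage.fac]
  have hzero : P.map f ≫ P.map g = 0 ↔ P.map (Abelian.factorThruCoimage f ≫ g) = 0 := by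
    rw [hfac]
    constructor
    · intro h
      rwa [← cancel_epi (P.map (Abelian.coimage.π f)), comp_zero]
    · intro h
      rw [h, comp_zero]
  have wp : P.map f ≫ P.map (cokernel.π f) = 0 := by
    rw [← P.map_comp, cokernel.condition, P.map_zero]
  have hcokf' : IsColimit (CokernelCofork.ofπ (P.map (cokernel.π f)) wp) := hcokf
  have hex : ∀ w : P.map f ≫ P.map g = 0,
      (ShortComplex.mk _ _ w).Exact ↔ P.map (kernel.ι g ≫ cokernel.π f) = 0 := by
    intro w
    have key := (ShortComplex.mk _ _ w).exact_iff_i_p_zero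
      (leftData (ShortComplex.mk _ _ w) (P.map (kernel.ι g)) _ hker)
      (rightData (ShortComplex.mk _ _ w) (P.map (cokernel.π f)) wp hcokf')
    rw [key]
    change P.map (kernel.ι g) ≫ P.map (cokernel.π f) = 0 ↔ _
    rw [P.map_comp]
  constructor
  · rintro ⟨w, h⟩
    exact ⟨hzero.1 w, (hex w).1 h⟩
  · rintro ⟨h1, h2⟩
    exact ⟨hzero.2 h1, (hex _).2 h2⟩

end Groth.Agent.Lib.H72ExactFlat
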