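import Mathlib
import Groth.Agent.Lib.LimDescentIso

/-!
# Morphisms into a scheme locally of finite type agree at a finite stage (helper72)

`exists_stage_hom_eq`: `D` cofiltered with affine transition maps and limit cone `c`; `T₀` qcqs over
`D.obj i₀`, `X₀` locally of finite type over `D.obj i₀`; two `D.obj i₀`-morphisms `a b : T₀ ⟶ X₀`
which agree on `T₀ ×_{D i₀} c.pt` agree on `T₀ ×_{D i₀} D k` for some `k ⟶ i₀`.
-/

set_option autoImplicit false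
universe u

open CategoryTheory Limits AlgebraicGeometry

namespace Groth.Agent.Lib.H72HomLim

open Groth.Agent.Lib.LimPullback Groth.Agent.Lib.LimDescent

variable {I : Type u} [Category.{u} I] (D : I ⥤ Scheme.{u}) (c : Cone D)
variable [IsCofiltered I] (hc : IsLimit c) [∀ {i j} (f : i ⟶ j), IsAffineHom (D.map f)]

include hc in
theorem exists_stage_hom_eq {i₀ : I} {T₀ X₀ : Scheme.{u}} (t₀ : T₀ ⟶ D.obj i₀)
    (x₀ : X₀ ⟶ D.obj i₀) [CompactSpace T₀] [QuasiSeparatedSpace T₀] [LocallyOfFiniteType x₀]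
    (a b : T₀ ⟶ X₀) (ha : a ≫ x₀ = t₀) (hb : b ≫ x₀ = t₀)
    (hab : pullback.fst t₀ (c.π.app i₀) ≫ a = pullback.fst t₀ (c.π.app i₀) ≫ b) :
    ∃ k : Over i₀, pullback.fst t₀ (D.map k.hom) ≫ a = pullback.fst t₀ (D.map k.hom) ≫ b := by
  let tT : pbDiagram D i₀ t₀ ⟶ (Functor.const (Over i₀)).obj (D.obj i₀) :=
    { app := fun j => pullback.fst t₀ (D.map j.hom) ≫ t₀
      naturality := fun j k f => by
        change pbMap D i₀ t₀ f ≫ pullback.fst t₀ (D.map k.hom) ≫ t₀ =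
          (pullback.fst t₀ (D.map j.hom) ≫ t₀) ≫ 𝟙 _
        rw [pbMap_fst_assoc, Category.comp_id] }
  have h1 : pullback.fst t₀ (D.map (Over.mk (𝟙 i₀)).hom) ≫ t₀ =
      (pullback.fst t₀ (D.map (Over.mk (𝟙 i₀)).hom) ≫ a) ≫ x₀ := by rw [Category.assoc, ha]
  have h2 : pullback.fst t₀ (D.map (Over.mk (𝟙 i₀)).hom) ≫ t₀ =
      (pullback.fst t₀ (D.map (Over.mk (𝟙 i₀)).hom) ≫ b) ≫ x₀ := by rw [Category.assoc, hb]
  have h3 : pbProj D c i₀ t₀ (Over.mk (𝟙 i₀)) ≫ pullback.fst t₀ (D.map (Over.mk (𝟙 i₀)).hom) ≫ a =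
      pbProj D c i₀ t₀ (Over.mk (𝟙 i₀)) ≫ pullback.fst t₀ (D.map (Over.mk (𝟙 i₀)).hom) ≫ b := by
    rw [pbProj_fst_assoc, pbProj_fst_assoc, hab]
  obtain ⟨k, hkj, hk⟩ := Scheme.exists_hom_comp_eq_comp_of_locallyOfFiniteType
    (pbDiagram D i₀ t₀) tT x₀ (pbCone D c i₀ t₀) (isLimitPbCone hc) (i := Over.mk (𝟙 i₀))
    (pullback.fst t₀ (D.map (Over.mk (𝟙 i₀)).hom) ≫ a)
    (pullback.fst t₀ (D.map (Over.mk (𝟙 i₀)).hom) ≫ b) h1 h2 h3
  refine ⟨k, ?_⟩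
  have hk' : pbMap D i₀ t₀ hkj ≫ pullback.fst t₀ (D.map (Over.mk (𝟙 i₀)).hom) ≫ a =
    pbMap D i₀ t₀ hkj ≫ pullback.fst t₀ (D.map (Over.mk (𝟙 i₀)).hom) ≫ b := hk
  rwa [pbMap_fst_assoc, pbMap_fst_assoc] at hk'

end Groth.Agent.Lib.H72HomLim
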