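import Mathlib
import Groth.Prelude.Def_FEt
import Groth.Agent.Lib.DescFPMain
import Groth.Agent.Lib.LimDescentFinite
import Groth.Agent.Lib.LimDescentSmooth96
import Groth.Agent.Lib.LimDescentIso
import Groth.Agent.Lib.H72HomLim

/-!
# Finite étale covers of a cofiltered limit of schemes (helper72)

`X = lim X_i` (qcqs, affine transition maps): every finite étale cover of `X` comes from a stage,
and two morphisms of finite étale covers of `X_i` which agree over `X` agree over some `X_j`.
-/

set_option autoImplicit false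
set_option linter.style.haveILetI false
universe u

open CategoryTheory Limits AlgebraicGeometry

namespace Groth.Agent.Lib.H72FEtLim

open Groth.Agent.Lib.LimPullback Groth.Agent.Lib.LimDescent

variable {I : Type u} [SmallCategory I] [IsCofiltered I]
    (D : I ⥤ Scheme.{u}) (c : Limits.Cone D) (hc : Limits.IsLimit c)
    [∀ {i j : I} (f : i ⟶ j), IsAffineHom (D.map f)] [∀ i, CompactSpace (D.obj i)]
    [∀ i, QuasiSeparatedSpace (D.obj i)]

include hc in
theorem exists_model (V : FEt.Cat c.pt) :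
    ∃ (i : I) (Vi : FEt.Cat (D.obj i)), Nonempty ((FEt.restrict (c.π.app i)).obj Vi ≅ V) := by
  haveI : IsFinite V.hom := V.prop.1
  haveI : Etale V.hom := V.prop.2
  obtain ⟨i, Xi, fi, g, hfp, hcpt, hqs, sq⟩ := Groth.Agent.Lib.DescFP.hasModel_of_fp D c hc V.hom
  haveI := hfp
  haveI := hcpt
  haveI := hqs
  haveI : QuasiCompact fi := (quasiCompact_iff_compactSpace fi).mpr hcpt
  have hY : IsPullback (c.π.app i) (𝟙 c.pt) (𝟙 (D.obj i)) (c.π.app i) :=
    IsPullback.id_vert (c.π.app i)
  haveI : MorphismProperty.RespectsIso @IsFinite.{u} :=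
    MorphismProperty.IsStableUnderBaseChange.respectsIso
  haveI : MorphismProperty.RespectsIso @Etale.{u} :=
    MorphismProperty.IsStableUnderBaseChange.respectsIso
  have hfin0 : IsFinite (bcMap fi (𝟙 (D.obj i)) (c.π.app i)) :=
    limMap_of D c @IsFinite fi (𝟙 (D.obj i)) V.hom (𝟙 c.pt) (c.π.app i) g hY sq inferInstance
  have het0 : Etale (bcMap fi (𝟙 (D.obj i)) (c.π.app i)) :=
    limMap_of D c @Etale fi (𝟙 (D.obj i)) V.hom (𝟙 c.pt) (c.π.app i) g hY sq inferInstance
  obtain ⟨j1, hj1⟩ := exists_isFinite_stage D c hc fi (𝟙 (D.obj i)) hfin0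
  obtain ⟨j2, hj2⟩ := exists_etale_stage_of_compactSpace D c fi (𝟙 (D.obj i)) hc het0
  let k : Over i := IsCofiltered.min j1 j2
  have hfin : IsFinite (bcMap fi (𝟙 (D.obj i)) (D.map k.hom)) :=
    MorphismProperty.of_isPullback (P := @IsFinite)
      (isPullback_pbMap_bcMap D fi (𝟙 (D.obj i)) (IsCofiltered.minToLeft j1 j2)) hj1
  have het : Etale (bcMap fi (𝟙 (D.obj i)) (D.map k.hom)) :=
    MorphismProperty.of_isPullback (P := @Etale)
      (isPullback_pbMap_bcMap D fi (𝟙 (D.obj i)) (IsCofiltered.minToRight j1 j2)) hj2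
  -- the cover at stage `k`
  let vk : pullback (fi ≫ 𝟙 (D.obj i)) (D.map k.hom) ⟶ D.obj k.left :=
    pullback.snd (fi ≫ 𝟙 (D.obj i)) (D.map k.hom)
  have hvk : vk = bcMap fi (𝟙 (D.obj i)) (D.map k.hom) ≫ pullback.snd (𝟙 (D.obj i)) (D.map k.hom) :=
    (bcMap_snd fi (𝟙 (D.obj i)) (D.map k.hom)).symm
  have hvkP : FEt.prop vk := by
    rw [hvk]
    exact ⟨inferInstance, inferInstance⟩
  let Vk : FEt.Cat (D.obj k.left) := MorphismProperty.Over.mk ⊤ vk hvkP
  -- `V` is the base change of `Vk`
  let g' : V.left ⟶ pullback (fi ≫ 𝟙 (D.obj i)) (D.map k.hom) :=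
    pullback.lift g (V.hom ≫ c.π.app k.left) (by
      rw [Category.assoc, c.w k.hom, Category.comp_id, sq.w])
  have sqk : IsPullback g' V.hom vk (c.π.app k.left) := by
    refine IsPullback.of_right ?_ (pullback.lift_snd _ _ _)
      (IsPullback.of_hasPullback (fi ≫ 𝟙 (D.obj i)) (D.map k.hom))
    rw [pullback.lift_fst, c.w k.hom, Category.comp_id]
    exact sq
  refine ⟨k.left, Vk, ⟨?_⟩⟩
  refine MorphismProperty.Over.isoMk sqk.isoPullback.symm ?_
  change sqk.isoPullback.inv ≫ V.hom = pullback.snd vk (c.π.app k.left)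
  exact sqk.isoPullback_inv_snd

include hc in
theorem exists_stage_map_eq (i : I) (Vi Wi : FEt.Cat (D.obj i)) (φ ψ : Vi ⟶ Wi)
    (h : (FEt.restrict (c.π.app i)).map φ = (FEt.restrict (c.π.app i)).map ψ) :
    ∃ (j : I) (a : j ⟶ i), (FEt.restrict (D.map a)).map φ = (FEt.restrict (D.map a)).map ψ := by
  let v : Vi.left ⟶ D.obj i := Vi.hom
  let w : Wi.left ⟶ D.obj i := Wi.hom
  let a : Vi.left ⟶ Wi.left := φ.left
  let b : Vi.left ⟶ Wi.left := ψ.left
  have ha : a ≫ w = v := MorphismProperty.Over.w φ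
  have hb : b ≫ w = v := MorphismProperty.Over.w ψ
  haveI : IsFinite v := Vi.prop.1
  haveI : IsFinite w := Wi.prop.1
  haveI : CompactSpace Vi.left := QuasiCompact.compactSpace_of_compactSpace v
  haveI : QuasiSeparatedSpace Vi.left := quasiSeparatedSpace_of_quasiSeparated v
  have hab : pullback.fst v (c.π.app i) ≫ a = pullback.fst v (c.π.app i) ≫ b := by
    have := congrArg (fun x => x.left ≫ pullback.fst w (c.π.app i)) h
    have this' : pullback.lift (pullback.fst v (c.π.app i) ≫ a) (pullback.snd v (c.π.app i))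
          (by rw [Category.assoc, ha, pullback.condition]) ≫ pullback.fst w (c.π.app i) =
        pullback.lift (pullback.fst v (c.π.app i) ≫ b) (pullback.snd v (c.π.app i))
          (by rw [Category.assoc, hb, pullback.condition]) ≫ pullback.fst w (c.π.app i) := this
    rwa [pullback.lift_fst, pullback.lift_fst] at this'
  obtain ⟨k, hk⟩ := Groth.Agent.Lib.H72HomLim.exists_stage_hom_eq D c hc v w a b ha hb hab
  refine ⟨k.left, k.hom, ?_⟩
  ext
  have key : pullback.lift (pullback.fst v (D.map k.hom) ≫ a) (pullback.snd v (D.map k.hom))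
        (by rw [Category.assoc, ha, pullback.condition]) =
      pullback.lift (pullback.fst v (D.map k.hom) ≫ b) (pullback.snd v (D.map k.hom))
        (by rw [Category.assoc, hb, pullback.condition]) := by
    apply pullback.hom_ext
    · rw [pullback.lift_fst, pullback.lift_fst]
      exact hk
    · rw [pullback.lift_snd, pullback.lift_snd]
  exact key

end Groth.Agent.Lib.H72FEtLim
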