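import Groth.Agent.Lib.LimDescentIso
import Groth.Agent.Lib.H30FibBC
import Groth.Agent.S0402

/-!
# Relative dimension `≤ d` descends through cofiltered limits (helper72)
-/

set_option autoImplicit false
universe u

open CategoryTheory Limits AlgebraicGeometry

namespace Groth.Agent.Lib.H72FibDimLim

open Groth.Agent.Lib.LimDescent Groth.Agent.Lib.LimPullback

/-- "fibre dimension `≤ d` everywhere" as a morphism property. -/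
def fibreDimLE (d : ℕ) : MorphismProperty Scheme.{u} :=
  fun _ _ f => ∀ x, FlatMor.fibreDimAt f x ≤ d

variable {I : Type u} [Category.{u} I] (D : I ⥤ Scheme.{u}) (c : Cone D)
variable [IsCofiltered I] (hc : IsLimit c) [∀ {i j} (f : i ⟶ j), IsAffineHom (D.map f)]
variable {i₀ : I} {X₀ Y₀ : Scheme.{u}} (f₀ : X₀ ⟶ Y₀) (g₀ : Y₀ ⟶ D.obj i₀)

include hc in
theorem exists_fibreDimLE_stage [CompactSpace X₀] [LocallyOfFiniteType f₀] (d : ℕ)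
    (h : ∀ x, FlatMor.fibreDimAt (bcMap f₀ g₀ (c.π.app i₀)) x ≤ d) :
    ∃ j : Over i₀, ∀ x, FlatMor.fibreDimAt (bcMap f₀ g₀ (D.map j.hom)) x ≤ d := by
  let j₀ : Over i₀ := Over.mk (𝟙 i₀)
  haveI hlft : ∀ j : Over i₀, LocallyOfFiniteType (bcMap f₀ g₀ (D.map j.hom)) := fun j =>
    MorphismProperty.of_isPullback (isPullback_bcMap f₀ g₀ (D.map j.hom)) inferInstance
  let E : (pullback (f₀ ≫ g₀) (D.map j₀.hom)).Opens :=
    ⟨{x | FlatMor.fibreDimAt (bcMap f₀ g₀ (D.map j₀.hom)) x ≤ d},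
      Groth.Agent.S0402.result (bcMap f₀ g₀ (D.map j₀.hom)) d⟩
  have htop : (pbProj D c i₀ (f₀ ≫ g₀) j₀) ⁻¹ᵁ E = ⊤ := by
    rw [eq_top_iff]
    intro x _
    change FlatMor.fibreDimAt (bcMap f₀ g₀ (D.map j₀.hom)) ((pbProj D c i₀ (f₀ ≫ g₀) j₀) x) ≤ d
    rw [← Groth.Agent.Lib.H30FibBC.fibreDimAt_eq_of_isPullback _ _ _ _
      (isPullback_pbProj_bcMap D c f₀ g₀ j₀) x]
    exact h x
  haveI : ∀ l : Over i₀, CompactSpace ↥((pbDiagram D i₀ (f₀ ≫ g₀)).obj l) :=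
    fun l => inferInstance
  obtain ⟨k, m, hk'⟩ := exists_map_eq_top (pbDiagram D i₀ (f₀ ≫ g₀)) (pbCone D c i₀ (f₀ ≫ g₀))
    (isLimitPbCone hc) (i := j₀) E htop
  have hk : (pbMap D i₀ (f₀ ≫ g₀) m) ⁻¹ᵁ E = ⊤ := hk'
  refine ⟨k, fun x => ?_⟩
  rw [Groth.Agent.Lib.H30FibBC.fibreDimAt_eq_of_isPullback _ _ _ _
    (isPullback_pbMap_bcMap D f₀ g₀ m) x]
  have : x ∈ (pbMap D i₀ (f₀ ≫ g₀) m) ⁻¹ᵁ E := by rw [hk]; trivial
  exact this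

omit [IsCofiltered I] [∀ {i j} (f : i ⟶ j), IsAffineHom (D.map f)] in
/-- Transport of the fibre dimension function to the limit map `bcMap f₀ g₀ (c.π.app i₀)`. -/
theorem fibreDimAt_limMap [LocallyOfFiniteType f₀] {X Y : Scheme.{u}} (f : X ⟶ Y) (g : Y ⟶ c.pt)
    (qY : Y ⟶ Y₀) (qX : X ⟶ X₀) (hY : IsPullback qY g g₀ (c.π.app i₀))
    (hX : IsPullback qX f f₀ qY) :
    ∃ eX : X ≅ pullback (f₀ ≫ g₀) (c.π.app i₀), ∀ x,
      FlatMor.fibreDimAt (bcMap f₀ g₀ (c.π.app i₀)) x = FlatMor.fibreDimAt f (eX.inv x) := by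
  obtain ⟨eX, eY, h, -⟩ := exists_arrow_iso f₀ g₀ (c.π.app i₀) f g qY qX hY hX
  haveI : LocallyOfFiniteType f := MorphismProperty.of_isPullback hX inferInstance
  have w : eX.inv ≫ f = bcMap f₀ g₀ (c.π.app i₀) ≫ eY.inv := by
    rw [Iso.inv_comp_eq, ← Category.assoc, h, Category.assoc, Iso.hom_inv_id, Category.comp_id]
  have sq : IsPullback eX.inv (bcMap f₀ g₀ (c.π.app i₀)) f eY.inv :=
    IsPullback.of_horiz_isIso ⟨w⟩
  exact ⟨eX, fun x => Groth.Agent.Lib.H30FibBC.fibreDimAt_eq_of_isPullback _ _ _ _ sq x⟩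

include hc in
/-- Stacks-style formulation (S9195). -/
theorem exists_fibreDimLE_descend (i₀ : I) {X₀ Y₀ : Scheme.{u}} (f₀ : X₀ ⟶ Y₀)
    (g₀ : Y₀ ⟶ D.obj i₀) [CompactSpace X₀] [LocallyOfFiniteType f₀] (d : ℕ)
    {X Y : Scheme.{u}} (f : X ⟶ Y) (g : Y ⟶ c.pt) (qY : Y ⟶ Y₀) (qX : X ⟶ X₀)
    (hY : IsPullback qY g g₀ (c.π.app i₀)) (hX : IsPullback qX f f₀ qY)
    (hd : ∀ x : X, FlatMor.fibreDimAt f x ≤ d) :
    ∃ (i : I) (φ : i ⟶ i₀) (Xi Yi : Scheme.{u}) (fi : Xi ⟶ Yi) (gi : Yi ⟶ D.obj i) (pY : Yi ⟶ Y₀)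
      (pX : Xi ⟶ X₀), IsPullback pY gi g₀ (D.map φ) ∧ IsPullback pX fi f₀ pY ∧
        ∀ x : Xi, FlatMor.fibreDimAt fi x ≤ d := by
  obtain ⟨eX, he⟩ := fibreDimAt_limMap D c f₀ g₀ f g qY qX hY hX
  obtain ⟨j, hj⟩ := exists_fibreDimLE_stage D c hc f₀ g₀ d (fun x => by rw [he x]; exact hd _)
  exact conclude D (fibreDimLE d) f₀ g₀ j hj

end Groth.Agent.Lib.H72FibDimLim
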