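import Mathlib
import Groth.Agent.Lib.SkyMod81
import Groth.Agent.Lib.InvMap54b
import Groth.Agent.Lib.ModStalk
import Groth.Agent.Lib.CohFinite
import Groth.Agent.Lib.H72LimMod3
import Groth.Agent.Lib.H72PullbackDescent

/-!
# Epimorphisms from a filtered colimit onto a finite type module (helper72)
-/

set_option autoImplicit false
set_option linter.style.haveILetI false
universe u
open CategoryTheory Limits AlgebraicGeometry

namespace Groth.Agent.Lib.H72FiltEpi

open Groth.Agent.Lib.SkyMod81 Groth.Agent.Lib.ModStalkLin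

variable {X : Scheme.{u}} {J : Type u} [SmallCategory J] [IsFiltered J]
  (D : J ⥤ X.Modules) (c : Cocone D) (hc : IsColimit c)

include hc in
/-- Every element of the stalk of a filtered colimit comes from a stage. -/
theorem exists_stalk_rep (x : X) (m : c.pt.presheaf.stalk x) :
    ∃ (j : J) (m' : (D.obj j).presheaf.stalk x), stalkLin (c.ι.app j) x m' = m := by
  haveI : PreservesColimitsOfSize.{u, u} (stalkMod x) :=
    (stalkSkyAdj x).leftAdjoint_preservesColimits
  have hc' : IsColimit ((stalkMod x).mapCocone c) := isColimitOfPreserves (stalkMod x) hc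
  obtain ⟨j, m', hm'⟩ := Concrete.isColimit_exists_rep (D ⋙ stalkMod x) hc' m
  exact ⟨j, m', hm'⟩

include hc in
/-- If `u : colim G_j ⟶ F` is surjective on the (finitely generated) stalk at `x`, so is some
`G_j ⟶ F`. -/
theorem exists_stage_stalk_surjective {F : X.Modules} (u : c.pt ⟶ F) (x : X)
    [Module.Finite (X.presheaf.stalk x) (F.presheaf.stalk x)]
    (hu : Function.Surjective (stalkLin u x)) :
    ∃ j : J, Function.Surjective (stalkLin (c.ι.app j ≫ u) x) := by
  classical
  obtain ⟨S, hS⟩ := (Module.finite_def.mp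
    (inferInstance : Module.Finite (X.presheaf.stalk x) (F.presheaf.stalk x)))
  have h1 : ∀ f : F.presheaf.stalk x, ∃ (j : J) (m' : (D.obj j).presheaf.stalk x),
      stalkLin (c.ι.app j ≫ u) x m' = f := by
    intro f
    obtain ⟨g, rfl⟩ := hu f
    obtain ⟨j, m', rfl⟩ := exists_stalk_rep D c hc x g
    exact ⟨j, m', by rw [stalkLin_comp]; rfl⟩
  choose jf mf hmf using h1
  obtain ⟨j, hj⟩ := IsFiltered.sup_objs_exists (S.image jf)
  refine ⟨j, ?_⟩
  rw [← LinearMap.range_eq_top, eq_top_iff, ← hS, Submodule.span_le]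
  intro f hf
  obtain ⟨φ⟩ := hj (Finset.mem_image_of_mem jf hf)
  refine ⟨stalkLin (D.map φ) x (mf f), ?_⟩
  have h2 : stalkLin (c.ι.app (jf f) ≫ u) x =
      stalkLin (c.ι.app j ≫ u) x ∘ₗ stalkLin (D.map φ) x := by
    rw [← stalkLin_comp, ← Category.assoc, c.w φ]
  have h3 := hmf f
  rw [h2] at h3
  exact h3

include hc in
/-- **Main theorem.** -/
theorem epi_iff_exists_stage [CompactSpace X] [∀ j, (D.obj j).IsQuasicoherent]
    (F : X.Modules) [F.IsQuasicoherent] (hF : F.IsFiniteType) (u : c.pt ⟶ F) :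
    Epi u ↔ ∃ j₀ : J, ∀ j : J, Nonempty (j₀ ⟶ j) → Epi (c.ι.app j ≫ u) := by
  constructor
  · intro hu
    -- pointwise stage + open neighbourhood
    have h1 : ∀ x : X, ∃ (j : J) (W : Set X), IsOpen W ∧ x ∈ W ∧
        ∀ y ∈ W, Function.Surjective (stalkLin (c.ι.app j ≫ u) y) := by
      intro x
      haveI := Groth.Agent.Lib.CohFinite.finite_stalk_of_isFiniteType F x
      obtain ⟨j, hj⟩ := exists_stage_stalk_surjective D c hc u x
        (Groth.Agent.Lib.H72PullbackDescent.epi_iff_stalkLin_surjective u |>.mp hu x)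
      have hft : (cokernel (c.ι.app j ≫ u)).IsFiniteType :=
        Groth.Agent.Lib.H72LimMod3.isFiniteType_cokernel (c.ι.app j ≫ u) hF
      have hcl : IsClosed (CohB1.support (cokernel (c.ι.app j ≫ u))) :=
        Groth.Agent.Lib.ModStalk.isClosed_support_of_isFT _ hft
      refine ⟨j, (CohB1.support (cokernel (c.ι.app j ≫ u)))ᶜ, hcl.isOpen_compl, ?_, ?_⟩
      · exact (Groth.Agent.Lib.InvMap54.not_mem_support_cokernel_iff _ x).mpr hj
      · intro y hy
        exact (Groth.Agent.Lib.InvMap54.not_mem_support_cokernel_iff _ y).mp hy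
    choose jx W hWo hxW hW using h1
    obtain ⟨t, ht⟩ := isCompact_univ.elim_finite_subcover W hWo
      (fun x _ => Set.mem_iUnion.mpr ⟨x, hxW x⟩)
    classical
    obtain ⟨j₀, hj₀⟩ := IsFiltered.sup_objs_exists (t.image jx)
    refine ⟨j₀, fun j ⟨ψ⟩ => ?_⟩
    rw [Groth.Agent.Lib.H72PullbackDescent.epi_iff_stalkLin_surjective]
    intro y
    obtain ⟨x, hxt, hy⟩ := Set.mem_iUnion₂.mp (ht (Set.mem_univ y))
    obtain ⟨φ⟩ := hj₀ (Finset.mem_image_of_mem jx hxt)
    have hs := hW x y hy
    have hfac : c.ι.app (jx x) ≫ u = D.map (φ ≫ ψ) ≫ (c.ι.app j ≫ u) := by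
      rw [← Category.assoc, c.w]
    rw [hfac, stalkLin_comp] at hs
    exact Function.Surjective.of_comp hs
  · rintro ⟨j₀, h⟩
    haveI := h j₀ ⟨𝟙 j₀⟩
    exact epi_of_epi (c.ι.app j₀) u

end Groth.Agent.Lib.H72FiltEpi
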