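import Groth.Agent.Lib.LimDescentFinite
import Groth.Agent.Lib.LimDescentFlat64
import Groth.Agent.Lib.LimDescentIso
import Groth.Prelude.Def_Mor2
import Mathlib.AlgebraicGeometry.Morphisms.FlatRank

/-!
# Finite locally free morphisms of degree `d` descend through cofiltered limits (helper72)
-/

set_option autoImplicit false
universe u

open CategoryTheory Limits AlgebraicGeometry

namespace Groth.Agent.Lib.H72FinLocFreeLim

open Groth.Agent.Lib.LimDescent Groth.Agent.Lib.LimPullback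

/-- `Mor2.IsFinLocFreeOfDeg d` as a morphism property. -/
def finLocFreeOfDeg (d : ℕ) : MorphismProperty Scheme.{u} := fun _ _ f => Mor2.IsFinLocFreeOfDeg d f

instance finLocFreeOfDeg_isStableUnderBaseChange (d : ℕ) :
    (finLocFreeOfDeg.{u} d).IsStableUnderBaseChange where
  of_isPullback {_ _ _ _ f g _ g'} sq h := by
    obtain ⟨⟨h1, h2, h3⟩, hd⟩ := h
    refine ⟨⟨MorphismProperty.of_isPullback sq h1, MorphismProperty.of_isPullback sq h2,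
      MorphismProperty.of_isPullback sq h3⟩, fun y => ?_⟩
    have := h1; have := h2
    rw [Scheme.Hom.finrank_of_isPullback _ _ _ _ sq y]
    exact hd _

instance (d : ℕ) : (finLocFreeOfDeg.{u} d).RespectsIso :=
  MorphismProperty.IsStableUnderBaseChange.respectsIso

variable {I : Type u} [Category.{u} I] (D : I ⥤ Scheme.{u}) (c : Cone D)
variable [IsCofiltered I] (hc : IsLimit c) [∀ {i j} (f : i ⟶ j), IsAffineHom (D.map f)]
variable {i₀ : I} {X₀ Y₀ : Scheme.{u}} (f₀ : X₀ ⟶ Y₀) (g₀ : Y₀ ⟶ D.obj i₀)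

include hc in
theorem exists_finLocFreeOfDeg_stage [CompactSpace X₀] [QuasiSeparatedSpace X₀] [CompactSpace Y₀]
    [QuasiSeparatedSpace Y₀] [LocallyOfFinitePresentation f₀] (d : ℕ)
    (h : Mor2.IsFinLocFreeOfDeg d (bcMap f₀ g₀ (c.π.app i₀))) :
    ∃ j : Over i₀, Mor2.IsFinLocFreeOfDeg d (bcMap f₀ g₀ (D.map j.hom)) := by
  obtain ⟨⟨hfin, hflat, hlfp⟩, hrank⟩ := h
  haveI : QuasiCompact f₀ := inferInstance
  haveI : QuasiSeparated f₀ := inferInstance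
  obtain ⟨j1, hj1⟩ := exists_isFinite_stage D c hc f₀ g₀ hfin
  obtain ⟨j2, hj2⟩ := Groth.Agent.Lib.LimDescentFlat64.exists_flat_stage_of_compactSpace D c f₀ g₀ hc
    hflat
  obtain ⟨j, ⟨m1⟩, ⟨m2⟩⟩ : ∃ j : Over i₀, Nonempty (j ⟶ j1) ∧ Nonempty (j ⟶ j2) :=
    ⟨IsCofiltered.min j1 j2, ⟨IsCofiltered.minToLeft _ _⟩, ⟨IsCofiltered.minToRight _ _⟩⟩
  have hlfpS : ∀ l : Over i₀, LocallyOfFinitePresentation (bcMap f₀ g₀ (D.map l.hom)) := fun l =>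
    MorphismProperty.of_isPullback (isPullback_bcMap f₀ g₀ (D.map l.hom)) inferInstance
  have hfinS : ∀ (l : Over i₀) (_ : l ⟶ j), IsFinite (bcMap f₀ g₀ (D.map l.hom)) := fun l m =>
    MorphismProperty.of_isPullback (isPullback_pbMap_bcMap D f₀ g₀ (m ≫ m1)) hj1
  have hflatS : ∀ (l : Over i₀) (_ : l ⟶ j), Flat (bcMap f₀ g₀ (D.map l.hom)) := fun l m =>
    MorphismProperty.of_isPullback (isPullback_pbMap_bcMap D f₀ g₀ (m ≫ m2)) hj2
  haveI := hfinS j (𝟙 j)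
  haveI := hflatS j (𝟙 j)
  haveI := hlfpS j
  -- the clopen locus of rank `d`
  have hlc : IsLocallyConstant (bcMap f₀ g₀ (D.map j.hom)).finrank :=
    Scheme.Hom.isLocallyConstant_finrank _
  let W : (pullback g₀ (D.map j.hom)).Opens :=
    ⟨(bcMap f₀ g₀ (D.map j.hom)).finrank ⁻¹' {d}, hlc.isOpen_fiber d⟩
  have htop : (pbProj D c i₀ g₀ j) ⁻¹ᵁ W = ⊤ := by
    rw [eq_top_iff]
    intro y _
    change (bcMap f₀ g₀ (D.map j.hom)).finrank ((pbProj D c i₀ g₀ j) y) = d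
    rw [← Scheme.Hom.finrank_of_isPullback _ _ _ _ (isPullback_pbProj_bcMap D c f₀ g₀ j) y]
    exact hrank y
  haveI : ∀ l : Over i₀, CompactSpace ↥((pbDiagram D i₀ g₀).obj l) := fun l => inferInstance
  obtain ⟨k, m, hk'⟩ := exists_map_eq_top (pbDiagram D i₀ g₀) (pbCone D c i₀ g₀)
    (isLimitPbCone hc) (i := j) W htop
  have hk : (pbMap D i₀ g₀ m) ⁻¹ᵁ W = ⊤ := hk'
  refine ⟨k, ⟨hfinS k m, hflatS k m, hlfpS k⟩, fun y => ?_⟩
  rw [Scheme.Hom.finrank_of_isPullback _ _ _ _ (isPullback_pbMap_bcMap D f₀ g₀ m) y]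
  have : y ∈ (pbMap D i₀ g₀ m) ⁻¹ᵁ W := by rw [hk]; trivial
  exact this

include hc in
/-- Stacks-style formulation (S9197). -/
theorem exists_finLocFreeOfDeg_descend (i₀ : I) [CompactSpace (D.obj i₀)]
    [QuasiSeparatedSpace (D.obj i₀)] {X₀ Y₀ : Scheme.{u}} (f₀ : X₀ ⟶ Y₀) (g₀ : Y₀ ⟶ D.obj i₀)
    [CompactSpace X₀] [QuasiSeparatedSpace X₀] [CompactSpace Y₀] [QuasiSeparatedSpace Y₀]
    [LocallyOfFinitePresentation f₀] (d : ℕ)
    {X Y : Scheme.{u}} (f : X ⟶ Y) (g : Y ⟶ c.pt) (qY : Y ⟶ Y₀) (qX : X ⟶ X₀)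
    (hY : IsPullback qY g g₀ (c.π.app i₀)) (hX : IsPullback qX f f₀ qY)
    (hf : Mor2.IsFinLocFreeOfDeg d f) :
    ∃ (i : I) (φ : i ⟶ i₀) (Xi Yi : Scheme.{u}) (fi : Xi ⟶ Yi) (gi : Yi ⟶ D.obj i) (pY : Yi ⟶ Y₀)
      (pX : Xi ⟶ X₀), IsPullback pY gi g₀ (D.map φ) ∧ IsPullback pX fi f₀ pY ∧
        Mor2.IsFinLocFreeOfDeg d fi := by
  have hlim : Mor2.IsFinLocFreeOfDeg d (bcMap f₀ g₀ (c.π.app i₀)) :=
    limMap_of D c (finLocFreeOfDeg d) f₀ g₀ f g qY qX hY hX hf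
  obtain ⟨j, hj⟩ := exists_finLocFreeOfDeg_stage D c hc f₀ g₀ d hlim
  exact conclude D (finLocFreeOfDeg d) f₀ g₀ j hj

end Groth.Agent.Lib.H72FinLocFreeLim
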