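import Groth.Agent.Lib.LimDescentSmooth96

/-!
# Pointwise descent through cofiltered limits (EGA IV 17.7.8 (ii), pointwise form) (helper96)

From a global "descent to a finite stage" for morphisms with quasi-compact source, we deduce the
pointwise version: if the limit morphism has `P` on an open neighbourhood of `x`, then some stage
morphism has `P` on an open neighbourhood of the image of `x`.
-/

set_option autoImplicit false
universe u

open CategoryTheory Limits AlgebraicGeometry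

namespace Groth.Agent.Lib.LimDescent

open Groth.Agent.Lib.LimPullback

section Restrict

/-- Restricting the source of a base change to the preimage of an open is a base change of the
restricted morphism. -/
theorem isBC_restrict_source {X₁ Y₁ B₁ : Scheme.{u}} {h₁ : X₁ ⟶ Y₁} {gY₁ : Y₁ ⟶ B₁}
    {B' X' Y' : Scheme.{u}} {b : B' ⟶ B₁} {h : X' ⟶ Y'} {pY : Y' ⟶ Y₁} {gY' : Y' ⟶ B'}
    {pX : X' ⟶ X₁} (hY : IsPullback pY gY' gY₁ b) (hX : IsPullback pX h h₁ pY) (W : X₁.Opens) :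
    IsBC (W.ι ≫ h₁) gY₁ b ((pX ⁻¹ᵁ W).ι ≫ h) :=
  ⟨pY, gY', pX ∣_ W, hY, (isPullback_morphismRestrict pX W).paste_vert hX⟩

end Restrict

section Pointwise

variable {I : Type u} [Category.{u} I] (D : I ⥤ Scheme.{u}) (c : Cone D) [IsCofiltered I]
variable {i₀ : I} {X₀ Y₀ : Scheme.{u}} (f₀ : X₀ ⟶ Y₀) (g₀ : Y₀ ⟶ D.obj i₀)
variable (hc : IsLimit c) [∀ {i j} (f : i ⟶ j), IsAffineHom (D.map f)]

include hc in
/-- Pointwise descent from global descent for affine sources. -/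
theorem exists_nhds_stage (P : MorphismProperty Scheme.{u}) [IsZariskiLocalAtSource P]
    (H : ∀ (j : Over i₀) (W : (pullback (f₀ ≫ g₀) (D.map j.hom)).Opens), IsAffineOpen W →
      P (bcMap (W.ι ≫ bcMap f₀ g₀ (D.map j.hom)) (pullback.snd g₀ (D.map j.hom))
        (c.π.app j.left)) →
      ∃ m : Over j.left, P (bcMap (W.ι ≫ bcMap f₀ g₀ (D.map j.hom))
        (pullback.snd g₀ (D.map j.hom)) (D.map m.hom)))
    (x : ↥(pullback (f₀ ≫ g₀) (c.π.app i₀))) (U : (pullback (f₀ ≫ g₀) (c.π.app i₀)).Opens)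
    (hxU : x ∈ U) (hU : P (U.ι ≫ bcMap f₀ g₀ (c.π.app i₀))) :
    ∃ (k : Over i₀) (V : (pullback (f₀ ≫ g₀) (D.map k.hom)).Opens),
      pbProj D c i₀ (f₀ ≫ g₀) k x ∈ V ∧ P (V.ι ≫ bcMap f₀ g₀ (D.map k.hom)) := by
  obtain ⟨_, ⟨j, W, hW, rfl⟩, hxW, hWU⟩ :=
    (TopologicalSpace.Opens.isBasis_iff_nbhd.mp
      (isBasis_preimage_isAffineOpen (pbDiagram D i₀ (f₀ ≫ g₀)) (pbCone D c i₀ (f₀ ≫ g₀))
        (isLimitPbCone hc))) hxU
  change x ∈ (pbProj D c i₀ (f₀ ≫ g₀) j) ⁻¹ᵁ W at hxW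
  change (pbProj D c i₀ (f₀ ≫ g₀) j) ⁻¹ᵁ W ≤ U at hWU
  -- the limit morphism restricted to the preimage of `W`
  have h1 : P (((pbProj D c i₀ (f₀ ≫ g₀) j) ⁻¹ᵁ W).ι ≫ bcMap f₀ g₀ (c.π.app i₀)) := by
    rw [← Scheme.homOfLE_ι _ hWU, Category.assoc]
    exact IsZariskiLocalAtSource.comp hU _
  have hbc := isBC_restrict_source (isPullback_pbProj D c i₀ g₀ j)
    (isPullback_pbProj_bcMap D c f₀ g₀ j) W
  obtain ⟨m, hm⟩ := H j W hW ((hbc.iff P).mp h1)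
  -- the later stage
  let k : Over i₀ := Over.mk (m.hom ≫ j.hom)
  let φ : k ⟶ j := Over.homMk m.hom rfl
  have hbc' := isBC_restrict_source (isPullback_pbMap D i₀ g₀ φ)
    (isPullback_pbMap_bcMap D f₀ g₀ φ) W
  refine ⟨k, (pbMap D i₀ (f₀ ≫ g₀) φ) ⁻¹ᵁ W, ?_, (hbc'.iff P).mpr hm⟩
  change (pbMap D i₀ (f₀ ≫ g₀) φ) (pbProj D c i₀ (f₀ ≫ g₀) k x) ∈ W
  have e : pbProj D c i₀ (f₀ ≫ g₀) k ≫ pbMap D i₀ (f₀ ≫ g₀) φ = pbProj D c i₀ (f₀ ≫ g₀) j :=
    pbProj_pbMap D c i₀ (f₀ ≫ g₀) φ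
  rw [← e] at hxW
  exact hxW

omit [IsCofiltered I] [∀ {i j : I} (f : i ⟶ j), IsAffineHom (D.map f)] in
/-- Packaging in the shape of the EGA IV 17.7.8 pointwise statements. -/
theorem nhds_iff_exists_stage (P : MorphismProperty Scheme.{u}) [IsZariskiLocalAtSource P]
    [P.IsStableUnderBaseChange]
    {X Y : Scheme.{u}} (f : X ⟶ Y) (g : Y ⟶ c.pt) (qY : Y ⟶ Y₀) (qX : X ⟶ X₀)
    (hY : IsPullback qY g g₀ (c.π.app i₀)) (hX : IsPullback qX f f₀ qY) (x : ↥X)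
    (H : ∀ (x' : ↥(pullback (f₀ ≫ g₀) (c.π.app i₀)))
      (U : (pullback (f₀ ≫ g₀) (c.π.app i₀)).Opens), x' ∈ U →
      P (U.ι ≫ bcMap f₀ g₀ (c.π.app i₀)) →
      ∃ (k : Over i₀) (V : (pullback (f₀ ≫ g₀) (D.map k.hom)).Opens),
        pbProj D c i₀ (f₀ ≫ g₀) k x' ∈ V ∧ P (V.ι ≫ bcMap f₀ g₀ (D.map k.hom))) :
    (∃ U : X.Opens, x ∈ U ∧ P (U.ι ≫ f)) ↔
      ∃ (j : I) (φ : j ⟶ i₀) (Xj Yj : Scheme.{u}) (fj : Xj ⟶ Yj) (gj : Yj ⟶ D.obj j)
        (pY : Yj ⟶ Y₀) (pX : Xj ⟶ X₀) (rX : X ⟶ Xj), IsPullback pY gj g₀ (D.map φ) ∧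
          IsPullback pX fj f₀ pY ∧ rX ≫ pX = qX ∧ rX ≫ fj ≫ gj = f ≫ g ≫ c.π.app j ∧
          ∃ V : Xj.Opens, rX.base x ∈ V ∧ P (V.ι ≫ fj) := by
  constructor
  · rintro ⟨U, hxU, hU⟩
    obtain ⟨eX, eY, h1, h2, h3, h4⟩ := exists_arrow_iso f₀ g₀ (c.π.app i₀) f g qY qX hY hX
    have hx' : eX.hom.base x ∈ eX.inv ⁻¹ᵁ U := by
      change eX.inv.base (eX.hom.base x) ∈ U
      have : eX.inv.base (eX.hom.base x) = x := by
        rw [← Scheme.Hom.comp_apply, Iso.hom_inv_id]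
        rfl
      rw [this]
      exact hxU
    have hP : P ((eX.inv ⁻¹ᵁ U).ι ≫ bcMap f₀ g₀ (c.π.app i₀)) := by
      have e1 : bcMap f₀ g₀ (c.π.app i₀) = eX.inv ≫ f ≫ eY.hom := by
        rw [← h1, Iso.inv_hom_id_assoc]
      have e2 : (eX.inv ⁻¹ᵁ U).ι ≫ eX.inv = (eX.inv ∣_ U) ≫ U.ι :=
        (isPullback_morphismRestrict eX.inv U).w.symm
      rw [e1, reassoc_of% e2, ← Category.assoc U.ι]
      exact (P.cancel_left_of_respectsIso _ _).mpr ((P.cancel_right_of_respectsIso _ _).mpr hU)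
    obtain ⟨k, V, hxV, hV⟩ := H _ _ hx' hP
    refine ⟨k.left, k.hom, _, _, bcMap f₀ g₀ (D.map k.hom), pullback.snd _ _, pullback.fst _ _,
      pullback.fst _ _, eX.hom ≫ pbProj D c i₀ (f₀ ≫ g₀) k, IsPullback.of_hasPullback _ _,
      isPullback_bcMap f₀ g₀ _, ?_, ?_, V, hxV, hV⟩
    · rw [Category.assoc, pbProj_fst, h2]
    · rw [Category.assoc, bcMap_snd, pbProj_snd, ← h4, Category.assoc, ← reassoc_of% h1,
        bcMap_snd_assoc]
  · rintro ⟨j, φ, Xj, Yj, fj, gj, pY, pX, rX, h1, h2, h3, h4, V, hxV, hV⟩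
    have w : qY ≫ g₀ = (g ≫ c.π.app j) ≫ D.map φ := by
      rw [Category.assoc, c.w, hY.w]
    let rY : Y ⟶ Yj := h1.lift qY (g ≫ c.π.app j) w
    have hrY1 : rY ≫ pY = qY := h1.lift_fst _ _ _
    have hrY2 : rY ≫ gj = g ≫ c.π.app j := h1.lift_snd _ _ _
    have hsq : rX ≫ fj = f ≫ rY := by
      apply h1.hom_ext
      · rw [Category.assoc, ← h2.w, reassoc_of% h3, hX.w, Category.assoc, hrY1]
      · rw [Category.assoc, h4, Category.assoc, hrY2]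
    have hpb : IsPullback rX f fj rY := by
      refine IsPullback.of_right ?_ hsq h2
      rw [h3, hrY1]
      exact hX
    refine ⟨rX ⁻¹ᵁ V, hxV, ?_⟩
    exact MorphismProperty.of_isPullback
      ((isPullback_morphismRestrict rX V).paste_vert hpb) hV

omit [IsCofiltered I] [∀ {i j : I} (f : i ⟶ j), IsAffineHom (D.map f)] in
theorem locallyOfFinitePresentation_bcMap [LocallyOfFinitePresentation f₀] {B' : Scheme.{u}}
    (b : B' ⟶ D.obj i₀) : LocallyOfFinitePresentation (bcMap f₀ g₀ b) :=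
  MorphismProperty.of_isPullback (P := @LocallyOfFinitePresentation) (isPullback_bcMap f₀ g₀ b)
    inferInstance

include hc in
/-- Pointwise descent of smoothness. -/
theorem exists_nhds_smooth_stage [LocallyOfFinitePresentation f₀]
    (x : ↥(pullback (f₀ ≫ g₀) (c.π.app i₀))) (U : (pullback (f₀ ≫ g₀) (c.π.app i₀)).Opens)
    (hxU : x ∈ U) (hU : Smooth (U.ι ≫ bcMap f₀ g₀ (c.π.app i₀))) :
    ∃ (k : Over i₀) (V : (pullback (f₀ ≫ g₀) (D.map k.hom)).Opens),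
      pbProj D c i₀ (f₀ ≫ g₀) k x ∈ V ∧ Smooth (V.ι ≫ bcMap f₀ g₀ (D.map k.hom)) := by
  have : IsZariskiLocalAtSource @Smooth.{u} := HasRingHomProperty.instIsZariskiLocalAtSource
  refine exists_nhds_stage D c f₀ g₀ hc @Smooth.{u} (fun j W hW h => ?_) x U hxU hU
  have : IsAffine W := hW
  have := locallyOfFinitePresentation_bcMap D f₀ g₀ (D.map j.hom)
  exact exists_smooth_stage_of_compactSpace D c _ _ hc h

include hc in
/-- Pointwise descent of étaleness. -/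
theorem exists_nhds_etale_stage [LocallyOfFinitePresentation f₀]
    (x : ↥(pullback (f₀ ≫ g₀) (c.π.app i₀))) (U : (pullback (f₀ ≫ g₀) (c.π.app i₀)).Opens)
    (hxU : x ∈ U) (hU : Etale (U.ι ≫ bcMap f₀ g₀ (c.π.app i₀))) :
    ∃ (k : Over i₀) (V : (pullback (f₀ ≫ g₀) (D.map k.hom)).Opens),
      pbProj D c i₀ (f₀ ≫ g₀) k x ∈ V ∧ Etale (V.ι ≫ bcMap f₀ g₀ (D.map k.hom)) := by
  have : IsZariskiLocalAtSource @Etale.{u} := HasRingHomProperty.instIsZariskiLocalAtSource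
  refine exists_nhds_stage D c f₀ g₀ hc @Etale.{u} (fun j W hW h => ?_) x U hxU hU
  have : IsAffine W := hW
  have := locallyOfFinitePresentation_bcMap D f₀ g₀ (D.map j.hom)
  exact exists_etale_stage_of_compactSpace D c _ _ hc h

end Pointwise

end Groth.Agent.Lib.LimDescent
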