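import Groth.Agent.Lib.H72FlatModLim
import Groth.Agent.Lib.Fitting82U
import Groth.Agent.Lib.LimDescentPt96
import Groth.Agent.S4863

/-!
# Pointwise descent of flatness of a finitely presented module to a stage (helper72)

EGA IV 11.2.6 (i): `exists_stage_isFlatOverAt` (in the shape of S4900), using the openness of the
flat locus (S4863, helper88), Mathlib's basis of the limit topology and a re-basing of
`H72FlatModLim.exists_stage_flat_chart` at a stage.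
-/

set_option autoImplicit false
set_option linter.style.haveILetI false
universe u

open CategoryTheory AlgebraicGeometry TopologicalSpace Opposite TensorProduct Limits

namespace Groth.Agent.Lib.H72FlatModLim

open Groth.Agent.Lib.LimPullback Groth.Agent.Lib.LimDescent Groth.Agent.Lib.ColimTensor96
  Groth.Agent.Lib.H72FlatModChart

/-- Flatness of an iterated pullback module. -/
theorem isFlatOverAt_pullback_pullback_iff {X Y Z T : Scheme.{u}} (f : X ⟶ Y) (a : X ⟶ Z)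
    (b : Z ⟶ T) (ab : X ⟶ T) (h : a ≫ b = ab) (F : T.Modules) (x : X) :
    FlatMod.IsFlatOverAt f ((Scheme.Modules.pullback a).obj ((Scheme.Modules.pullback b).obj F)) x ↔
      FlatMod.IsFlatOverAt f ((Scheme.Modules.pullback ab).obj F) x := by
  subst h
  exact Groth.Agent.Lib.H72FlatBaseChange.isFlatOverAt_iff_of_iso f
    ((Scheme.Modules.pullbackComp a b).app F) x

variable {I : Type u} [Category.{u} I] [IsCofiltered I] (D : I ⥤ Scheme.{u}) (c : Cone D)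
  [∀ {i j : I} (φ : i ⟶ j), IsAffineHom (D.map φ)]
variable {i₀ : I} {X₀ Y₀ : Scheme.{u}} (f₀ : X₀ ⟶ Y₀) (g₀ : Y₀ ⟶ D.obj i₀)

/-- Relative form of `exists_stage_flat_chart`: the limit data are any pullback squares. -/
theorem exists_stage_flat_chart_rel (hc : IsLimit c) (F₀ : X₀.Modules) [F₀.IsQuasicoherent]
    {V₀ : Y₀.Opens} {U₀ : X₀.Opens} (hV₀ : IsAffineOpen V₀) (hU₀ : IsAffineOpen U₀)
    (hUV : U₀ ≤ f₀ ⁻¹ᵁ V₀)
    (hfp : (f₀.appLE V₀ U₀ hUV).hom.FinitePresentation)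
    (hM : Module.FinitePresentation Γ(X₀, U₀) Γ(F₀, U₀))
    {X Y : Scheme.{u}} (f : X ⟶ Y) (g : Y ⟶ c.pt) (qY : Y ⟶ Y₀) (qX : X ⟶ X₀)
    (hY : IsPullback qY g g₀ (c.π.app i₀)) (hX : IsPullback qX f f₀ qY)
    (hflat : ∀ x : X, qX x ∈ U₀ →
      FlatMod.IsFlatOverAt f ((Scheme.Modules.pullback qX).obj F₀) x) :
    ∃ j : Over i₀, ∀ x : ↥(pullback (f₀ ≫ g₀) (D.map j.hom)),
      pullback.fst (f₀ ≫ g₀) (D.map j.hom) x ∈ U₀ →
        FlatMod.IsFlatOverAt (bcMap f₀ g₀ (D.map j.hom))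
          ((Scheme.Modules.pullback (pullback.fst (f₀ ≫ g₀) (D.map j.hom))).obj F₀) x := by
  obtain ⟨eX, eY, h1, h2, h3, h4⟩ := exists_arrow_iso f₀ g₀ (c.π.app i₀) f g qY qX hY hX
  refine exists_stage_flat_chart D c f₀ g₀ hc F₀ hV₀ hU₀ hUV hfp hM fun x hx => ?_
  have sq : IsPullback eX.inv (bcMap f₀ g₀ (c.π.app i₀)) f eY.inv := by
    refine IsPullback.of_horiz_isIso ⟨?_⟩
    rw [Iso.inv_comp_eq, ← Category.assoc, h1, Category.assoc, Iso.hom_inv_id,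
      Category.comp_id]
  have e : eX.inv ≫ qX = pullback.fst (f₀ ≫ g₀) (c.π.app i₀) := by rw [Iso.inv_comp_eq, h2]
  refine isFlatOverAt_pullback_comp sq qX _ e F₀ x (hflat _ ?_)
  rw [← Scheme.Hom.comp_apply, e]
  exact hx

set_option maxHeartbeats 1000000 in
/-- **EGA IV 11.2.6 (i)**: flatness at a point of a finitely presented module descends to a stage. -/
theorem exists_stage_isFlatOverAt (hc : IsLimit c) [LocallyOfFinitePresentation f₀]
    (F₀ : X₀.Modules) [F₀.IsQuasicoherent]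
    [SheafOfModules.IsFinitePresentation (R := X₀.ringCatSheaf) F₀]
    {X Y : Scheme.{u}} (f : X ⟶ Y) (g : Y ⟶ c.pt) (qY : Y ⟶ Y₀) (qX : X ⟶ X₀)
    (hY : IsPullback qY g g₀ (c.π.app i₀)) (hX : IsPullback qX f f₀ qY) (x : X)
    (hx : FlatMod.IsFlatOverAt f ((Scheme.Modules.pullback qX).obj F₀) x) :
    ∃ (i : I) (φ : i ⟶ i₀) (Xi Yi : Scheme.{u}) (fi : Xi ⟶ Yi) (gi : Yi ⟶ D.obj i)
      (pY : Yi ⟶ Y₀) (pX : Xi ⟶ X₀) (vY : Y ⟶ Yi) (vX : X ⟶ Xi),
      IsPullback pY gi g₀ (D.map φ) ∧ IsPullback pX fi f₀ pY ∧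
        vY ≫ pY = qY ∧ vY ≫ gi = g ≫ c.π.app i ∧ vX ≫ pX = qX ∧ vX ≫ fi = f ≫ vY ∧
        FlatMod.IsFlatOverAt fi ((Scheme.Modules.pullback pX).obj F₀) (vX x) := by
  classical
  obtain ⟨eX, eY, h1, h2, h3, h4⟩ := exists_arrow_iso f₀ g₀ (c.π.app i₀) f g qY qX hY hX
  have h5 : eX.hom ≫ pullback.snd (f₀ ≫ g₀) (c.π.app i₀) = f ≫ g := by
    rw [← bcMap_snd f₀ g₀ (c.π.app i₀), ← Category.assoc, h1, Category.assoc, h4]
  -- the flat locus is open
  haveI : LocallyOfFinitePresentation f :=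
    MorphismProperty.of_isPullback (P := @LocallyOfFinitePresentation) hX inferInstance
  haveI hqc : ((Scheme.Modules.pullback qX).obj F₀).IsQuasicoherent :=
    Groth.Agent.Lib.H72PullbackQCoh.isQuasicoherent_pullback qX F₀
  haveI : Coh.IsQCoh ((Scheme.Modules.pullback qX).obj F₀) := hqc
  have hFP : CohB1.IsFP ((Scheme.Modules.pullback qX).obj F₀) :=
    Groth.Agent.Lib.Fitting82.isFinitePresentation_pullback qX F₀
  have hWo : IsOpen {y : X | FlatMod.IsFlatOverAt f ((Scheme.Modules.pullback qX).obj F₀) y} :=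
    Groth.Agent.S4863.result f _ hFP
  let W : X.Opens := ⟨_, hWo⟩
  let W' : (pullback (f₀ ≫ g₀) (c.π.app i₀)).Opens := eX.inv ⁻¹ᵁ W
  have hxW' : eX.hom x ∈ W' := by
    change eX.inv (eX.hom x) ∈ W
    rw [← Scheme.Hom.comp_apply, Iso.hom_inv_id]
    exact hx
  obtain ⟨_, ⟨j, U', hU', rfl⟩, hxU', hU'W⟩ := TopologicalSpace.Opens.isBasis_iff_nbhd.mp
    (isBasis_preimage_isAffineOpen (pbDiagram D i₀ (f₀ ≫ g₀)) (pbCone D c i₀ (f₀ ≫ g₀))
      (isLimitPbCone hc)) hxW'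
  let f₁ := bcMap f₀ g₀ (D.map j.hom)
  let g₁ := pullback.snd g₀ (D.map j.hom)
  let qXj : X ⟶ pullback (f₀ ≫ g₀) (D.map j.hom) := eX.hom ≫ pbProj D c i₀ (f₀ ≫ g₀) j
  let qYj : Y ⟶ pullback g₀ (D.map j.hom) := eY.hom ≫ pbProj D c i₀ g₀ j
  have hxj : qXj x ∈ U' := hxU'
  -- charts at stage `j`
  obtain ⟨_, ⟨V', hV', rfl⟩, hxV', -⟩ :=
    (pullback g₀ (D.map j.hom)).isBasis_affineOpens.exists_subset_of_mem_open
      (Set.mem_univ (f₁ (qXj x))) isOpen_univ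
  obtain ⟨_, ⟨U'', hU'', rfl⟩, hxU'', hU''le⟩ :=
    (pullback (f₀ ≫ g₀) (D.map j.hom)).isBasis_affineOpens.exists_subset_of_mem_open
      (show qXj x ∈ ((U' ⊓ f₁ ⁻¹ᵁ V' : (pullback (f₀ ≫ g₀) (D.map j.hom)).Opens) : Set _) from
        ⟨hxj, hxV'⟩) (U' ⊓ f₁ ⁻¹ᵁ V').isOpen
  have hU''U' : U'' ≤ U' := fun y hy => (hU''le hy).1
  have hU''V' : U'' ≤ f₁ ⁻¹ᵁ V' := fun y hy => (hU''le hy).2
  -- the squares over stage `j`
  have hYj : IsPullback qYj g g₁ (c.π.app j.left) := by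
    have := (IsPullback.of_horiz_isIso (show CommSq eY.hom g (pullback.snd g₀ (c.π.app i₀))
      (𝟙 c.pt) from ⟨by rw [h4, Category.comp_id]⟩)).paste_horiz (isPullback_pbProj D c i₀ g₀ j)
    rwa [Category.id_comp] at this
  have hXj : IsPullback qXj f f₁ qYj :=
    (IsPullback.of_horiz_isIso ⟨h1⟩).paste_horiz (isPullback_pbProj_bcMap D c f₀ g₀ j)
  -- the module at stage `j`
  let F₁ := (Scheme.Modules.pullback (pullback.fst (f₀ ≫ g₀) (D.map j.hom))).obj F₀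
  haveI : F₁.IsQuasicoherent :=
    Groth.Agent.Lib.H72PullbackQCoh.isQuasicoherent_pullback _ F₀
  haveI : SheafOfModules.IsFinitePresentation
      (R := (pullback (f₀ ≫ g₀) (D.map j.hom)).ringCatSheaf) F₁ :=
    Groth.Agent.Lib.Fitting82.isFinitePresentation_pullback _ F₀
  haveI : LocallyOfFinitePresentation f₁ := locallyOfFinitePresentation_bcMap D f₀ g₀ _
  have hqX : qXj ≫ pullback.fst (f₀ ≫ g₀) (D.map j.hom) = qX := by
    rw [Category.assoc, pbProj_fst, h2]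
  obtain ⟨l, hl⟩ := exists_stage_flat_chart_rel D c f₁ g₁ hc F₁ hV' hU'' hU''V'
    (f₁.finitePresentation_appLE hV' hU'' hU''V')
    (Groth.Agent.Lib.H90OXModFP.finitePresentation_sections F₁ hU'') f g qYj qXj hYj hXj
    (fun y hy => by
      rw [isFlatOverAt_pullback_pullback_iff f qXj _ qX hqX F₀ y]
      have h' : eX.inv (eX.hom y) ∈ W := hU'W (hU''U' hy)
      rw [← Scheme.Hom.comp_apply, Iso.hom_inv_id] at h'
      exact h')
  -- assembly
  have hYi : IsPullback (pullback.fst g₁ (D.map l.hom) ≫ pullback.fst g₀ (D.map j.hom))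
      (pullback.snd g₁ (D.map l.hom)) g₀ (D.map (l.hom ≫ j.hom)) := by
    rw [D.map_comp]
    exact (IsPullback.of_hasPullback g₁ (D.map l.hom)).paste_horiz
      (IsPullback.of_hasPullback g₀ (D.map j.hom))
  have hXi : IsPullback
      (pullback.fst (f₁ ≫ g₁) (D.map l.hom) ≫ pullback.fst (f₀ ≫ g₀) (D.map j.hom))
      (bcMap f₁ g₁ (D.map l.hom)) f₀
      (pullback.fst g₁ (D.map l.hom) ≫ pullback.fst g₀ (D.map j.hom)) :=
    (isPullback_bcMap f₁ g₁ (D.map l.hom)).paste_horiz (isPullback_bcMap f₀ g₀ (D.map j.hom))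
  let vY : Y ⟶ pullback g₁ (D.map l.hom) :=
    hYi.lift qY (g ≫ c.π.app l.left) (by rw [Category.assoc, c.w, hY.w])
  have hvY1 : vY ≫ (pullback.fst g₁ (D.map l.hom) ≫ pullback.fst g₀ (D.map j.hom)) = qY :=
    hYi.lift_fst _ _ _
  have hvY2 : vY ≫ pullback.snd g₁ (D.map l.hom) = g ≫ c.π.app l.left := hYi.lift_snd _ _ _
  let vX : X ⟶ pullback (f₁ ≫ g₁) (D.map l.hom) :=
    hXi.lift qX (f ≫ vY) (by rw [Category.assoc, hvY1, hX.w])
  have hvX1 : vX ≫ (pullback.fst (f₁ ≫ g₁) (D.map l.hom) ≫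
      pullback.fst (f₀ ≫ g₀) (D.map j.hom)) = qX := hXi.lift_fst _ _ _
  have hvX2 : vX ≫ bcMap f₁ g₁ (D.map l.hom) = f ≫ vY := hXi.lift_snd _ _ _
  refine ⟨l.left, l.hom ≫ j.hom, _, _, bcMap f₁ g₁ (D.map l.hom), pullback.snd g₁ (D.map l.hom),
    _, _, vY, vX, hYi, hXi, hvY1, hvY2, hvX1, hvX2, ?_⟩
  have key : vX ≫ pullback.fst (f₁ ≫ g₁) (D.map l.hom) = qXj := by
    apply pullback.hom_ext
    · rw [Category.assoc, hvX1, hqX]
    · have e1 : pullback.fst (f₁ ≫ g₁) (D.map l.hom) ≫ pullback.snd (f₀ ≫ g₀) (D.map j.hom) =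
          pullback.snd (f₁ ≫ g₁) (D.map l.hom) ≫ D.map l.hom := by
        rw [← pullback.condition]
        congr 1
        exact (bcMap_snd f₀ g₀ (D.map j.hom)).symm
      have e2 : vX ≫ pullback.snd (f₁ ≫ g₁) (D.map l.hom) = f ≫ g ≫ c.π.app l.left := by
        rw [← bcMap_snd f₁ g₁ (D.map l.hom), ← Category.assoc, hvX2, Category.assoc, hvY2]
      rw [Category.assoc, e1, ← Category.assoc, e2, Category.assoc, Category.assoc, c.w]
      rw [Category.assoc, pbProj_snd, reassoc_of% h5]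
  rw [← isFlatOverAt_pullback_pullback_iff _ (pullback.fst (f₁ ≫ g₁) (D.map l.hom))
    (pullback.fst (f₀ ≫ g₀) (D.map j.hom)) _ rfl F₀]
  refine hl _ ?_
  rw [← Scheme.Hom.comp_apply, key]
  exact hxU''

omit [IsCofiltered I] [∀ {i j : I} (φ : i ⟶ j), IsAffineHom (D.map φ)] in
/-- The easy direction, with given comparison maps. -/
theorem isFlatOverAt_of_stage' (F₀ : X₀.Modules) [F₀.IsQuasicoherent]
    {X Y : Scheme.{u}} (f : X ⟶ Y) (qY : Y ⟶ Y₀) (qX : X ⟶ X₀)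
    (hX : IsPullback qX f f₀ qY) {Xi Yi : Scheme.{u}} (fi : Xi ⟶ Yi) (pY : Yi ⟶ Y₀) (pX : Xi ⟶ X₀)
    (hXi : IsPullback pX fi f₀ pY) (vY : Y ⟶ Yi) (vX : X ⟶ Xi) (hvY : vY ≫ pY = qY)
    (hvX : vX ≫ pX = qX) (hvf : vX ≫ fi = f ≫ vY) (x : X)
    (h : FlatMod.IsFlatOverAt fi ((Scheme.Modules.pullback pX).obj F₀) (vX x)) :
    FlatMod.IsFlatOverAt f ((Scheme.Modules.pullback qX).obj F₀) x := by
  have sq : IsPullback vX f fi vY := by
    refine IsPullback.of_right ?_ hvf hXi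
    rw [hvX, hvY]
    exact hX
  exact isFlatOverAt_pullback_comp sq pX qX hvX F₀ x h

end Groth.Agent.Lib.H72FlatModLim
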