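import Groth.Agent.Lib.H72FlatDescentSch

/-!
# fppf coverings of a cofiltered limit descend to a stage (helper72)
-/

set_option autoImplicit false
universe u

open CategoryTheory Limits AlgebraicGeometry

namespace Groth.Agent.Lib.H72FppfCoverLim

open Groth.Agent.Lib.DescFP Groth.Agent.Lib.SpreadPair

variable {I : Type u} [Category.{u} I] [IsCofiltered I] (D : I ⥤ Scheme.{u}) (c : Cone D)
  (hc : IsLimit c) [∀ {i j} (t : i ⟶ j), IsAffineHom (D.map t)]
  [∀ i, CompactSpace (D.obj i)] [∀ i, QuasiSeparatedSpace (D.obj i)]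

include hc in
/-- All stages quasi-compact and quasi-separated: an fppf covering of the limit is the base change of a finite
fppf covering of a stage. -/
theorem exists_fppf_cover_stage {ι : Type u} (U : ι → Scheme.{u}) (u : ∀ a, U a ⟶ c.pt)
    [∀ a, Flat (u a)] [∀ a, LocallyOfFinitePresentation (u a)] [∀ a, QuasiCompact (u a)]
    [∀ a, QuasiSeparated (u a)] (hcov : ∀ x : c.pt, ∃ (a : ι) (y : U a), (u a).base y = x) :
    ∃ (i : I) (n : ℕ) (V : Fin n → Scheme.{u}) (v : ∀ j, V j ⟶ D.obj i) (a : Fin n → ι)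
      (e : ∀ j, U (a j) ⟶ V j),
      (∀ j, Flat (v j) ∧ LocallyOfFinitePresentation (v j) ∧ QuasiCompact (v j) ∧
        QuasiSeparated (v j)) ∧
      (∀ x : D.obj i, ∃ (j : Fin n) (y : V j), (v j).base y = x) ∧
      ∀ j, IsPullback (e j) (u (a j)) (v j) (c.π.app i) := by
  classical
  have hcpt : CompactSpace c.pt := Scheme.compactSpace_of_isLimit D c hc
  -- finite subfamily
  obtain ⟨s, hs⟩ := isCompact_univ.elim_finite_subcover
    (fun a : ι => Set.range (u a).base) (fun a => (u a).isOpenMap.isOpen_range)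
    (fun x _ => by
      obtain ⟨a, y, hy⟩ := hcov x
      exact Set.mem_iUnion.mpr ⟨a, y, hy⟩)
  -- models of the members
  have hRI : MorphismProperty.RespectsIso @Flat.{u} :=
    MorphismProperty.IsStableUnderBaseChange.respectsIso
  have hmodel : ∀ b : s, ∃ (j : I) (Xj : Scheme.{u}) (fj : Xj ⟶ D.obj j) (g : U b.1 ⟶ Xj),
      Flat fj ∧ LocallyOfFinitePresentation fj ∧ CompactSpace Xj ∧ QuasiSeparatedSpace Xj ∧
        IsPullback g (u b.1) fj (c.π.app j) := fun b =>
    exists_model_with_prop D c hc @Flat.{u} Groth.Agent.Lib.H72FlatDescentSch.descends_flat (u b.1)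
      inferInstance
  choose k X' f' g' hflat hlfp hcomp hqs hpb using hmodel
  -- a common stage
  obtain ⟨k₀, hk₀⟩ := IsCofiltered.inf_objs_exists (Finset.univ.image k)
  have ψ₀ : ∀ b : s, k₀ ⟶ k b := fun b =>
    (hk₀ (Finset.mem_image_of_mem k (Finset.mem_univ b))).some
  -- the union of the images
  let W : (D.obj k₀).Opens := ⨆ b : s, D.map (ψ₀ b) ⁻¹ᵁ
    ⟨Set.range (f' b).base, by
      have := hflat b; have := hlfp b
      exact (f' b).isOpenMap.isOpen_range⟩
  have hW : c.π.app k₀ ⁻¹ᵁ W = ⊤ := by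
    rw [eq_top_iff]
    intro x _
    obtain ⟨a, ha, y, hy⟩ : ∃ a ∈ s, ∃ y : U a, (u a).base y = x := by
      have := hs (Set.mem_univ x)
      simpa using this
    refine TopologicalSpace.Opens.mem_iSup.mpr ⟨⟨a, ha⟩, ?_⟩
    change (D.map (ψ₀ ⟨a, ha⟩)) ((c.π.app k₀) x) ∈ Set.range (f' ⟨a, ha⟩).base
    refine ⟨(g' ⟨a, ha⟩) y, ?_⟩
    have h1 : (g' ⟨a, ha⟩ ≫ f' ⟨a, ha⟩) y = (u a ≫ c.π.app (k ⟨a, ha⟩)) y := by
      rw [(hpb ⟨a, ha⟩).w]
    have h2 : (c.π.app k₀ ≫ D.map (ψ₀ ⟨a, ha⟩)) x = (c.π.app (k ⟨a, ha⟩)) x := by rw [c.w]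
    simp only [Scheme.Hom.comp_apply] at h1 h2
    rw [h2]
    refine h1.trans ?_
    exact congrArg _ hy
  obtain ⟨l, ψ, hl⟩ := exists_map_eq_top D c hc W hW
  -- rebase everything to `l`
  let φ : ∀ b : s, l ⟶ k b := fun b => ψ ≫ ψ₀ b
  have key : ∀ b : s, ∃ (V : Scheme.{u}) (v : V ⟶ D.obj l) (e : U b.1 ⟶ V),
      (Flat v ∧ LocallyOfFinitePresentation v ∧ QuasiCompact v ∧ QuasiSeparated v) ∧
      IsPullback e (u b.1) v (c.π.app l) ∧
      ∀ x : D.obj l, (D.map (φ b)) x ∈ Set.range (f' b).base → ∃ y : V, v.base y = x := by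
    intro b
    have := hflat b; have := hlfp b; have := hcomp b; have := hqs b
    refine ⟨pullback (f' b) (D.map (φ b)), pullback.snd (f' b) (D.map (φ b)),
      pbLift D c (φ b) (f' b) (g' b) (u b.1) (hpb b).w,
      ⟨inferInstance, inferInstance, inferInstance, inferInstance⟩,
      isPullback_pbLift D c (φ b) (f' b) (hpb b), ?_⟩
    rintro x ⟨y, hy⟩
    obtain ⟨z, -, hz⟩ := Scheme.Pullback.exists_preimage_pullback (f := f' b) (g := D.map (φ b))
      y x hy
    exact ⟨z, hz⟩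
  choose V v e hprop hsq hsurj using key
  refine ⟨l, s.card, fun j => V (s.equivFin.symm j), fun j => v (s.equivFin.symm j),
    fun j => (s.equivFin.symm j).1, fun j => e (s.equivFin.symm j), fun j => hprop _, ?_,
    fun j => hsq _⟩
  intro x
  have hx : (D.map ψ) x ∈ W := by
    have : x ∈ D.map ψ ⁻¹ᵁ W := by rw [hl]; trivial
    exact this
  obtain ⟨b, hb⟩ := TopologicalSpace.Opens.mem_iSup.mp hx
  have hb' : (D.map (φ b)) x ∈ Set.range (f' b).base := by
    change (D.map (ψ ≫ ψ₀ b)) x ∈ _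
    rw [D.map_comp, Scheme.Hom.comp_apply]
    exact hb
  obtain ⟨y, hy⟩ := hsurj b x hb'
  obtain ⟨j, rfl⟩ := s.equivFin.symm.surjective b
  exact ⟨j, y, hy⟩

end Groth.Agent.Lib.H72FppfCoverLim

namespace Groth.Agent.Lib.H72FppfCoverLim

open Groth.Agent.Lib.DescFP Groth.Agent.Lib.SpreadPair

/-- Only one stage quasi-compact and quasi-separated: an fppf covering of the limit is the base
change of a finite fppf covering of a stage. -/
theorem exists_fppf_cover_stage_of_stage {I : Type u} [Category.{u} I] [IsCofiltered I]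
    (D : I ⥤ Scheme.{u}) (c : Cone D) (hc : IsLimit c)
    [∀ {i j} (t : i ⟶ j), IsAffineHom (D.map t)] (i₀ : I) [CompactSpace (D.obj i₀)]
    [QuasiSeparatedSpace (D.obj i₀)] {ι : Type u} (U : ι → Scheme.{u}) (u : ∀ a, U a ⟶ c.pt)
    [∀ a, Flat (u a)] [∀ a, LocallyOfFinitePresentation (u a)] [∀ a, QuasiCompact (u a)]
    [∀ a, QuasiSeparated (u a)] (hcov : ∀ x : c.pt, ∃ (a : ι) (y : U a), (u a).base y = x) :
    ∃ (i : I) (n : ℕ) (V : Fin n → Scheme.{u}) (v : ∀ j, V j ⟶ D.obj i) (a : Fin n → ι)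
      (e : ∀ j, U (a j) ⟶ V j),
      (∀ j, Flat (v j) ∧ LocallyOfFinitePresentation (v j) ∧ QuasiCompact (v j) ∧
        QuasiSeparated (v j)) ∧
      (∀ x : D.obj i, ∃ (j : Fin n) (y : V j), (v j).base y = x) ∧
      ∀ j, IsPullback (e j) (u (a j)) (v j) (c.π.app i) := by
  let D' : Over i₀ ⥤ Scheme.{u} := Over.forget i₀ ⋙ D
  let c' : Cone D' := c.whisker (Over.forget i₀)
  have hc' : IsLimit c' := (Functor.Initial.isLimitWhiskerEquiv (Over.forget i₀) c).symm hc
  haveI : ∀ {i j : Over i₀} (t : i ⟶ j), IsAffineHom (D'.map t) := fun t => by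
    change IsAffineHom (D.map t.left); infer_instance
  haveI : ∀ j : Over i₀, CompactSpace (D'.obj j) := fun j => by
    change CompactSpace (D.obj j.left)
    exact QuasiCompact.compactSpace_of_compactSpace (D.map j.hom)
  haveI : ∀ j : Over i₀, QuasiSeparatedSpace (D'.obj j) := fun j => by
    change QuasiSeparatedSpace (D.obj j.left)
    exact quasiSeparatedSpace_of_quasiSeparated (D.map j.hom)
  obtain ⟨j, n, V, v, a, e, h1, h2, h3⟩ := exists_fppf_cover_stage D' c' hc' U u hcov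
  exact ⟨j.left, n, V, v, a, e, h1, h2, h3⟩

end Groth.Agent.Lib.H72FppfCoverLim
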