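import Groth.Agent.Lib.H72FpqcDescent
import Groth.Agent.Lib.H72FlatBaseChange
import Groth.Agent.S1392

/-!
# helper72: fpqc descent of flatness of `F_T` over `T`

For `f : X ⟶ S`, `F` quasi-coherent on `X`: the condition "`F_T` is flat over `T`" on schemes `T` over `S` is
stable under base change (`stab_flat`) and descends along jointly surjective flat families
(`desc_flat`); hence `FlatFun.genPSp` of it is an fpqc sheaf (`isSheaf_genPSp_flat`).
-/

set_option autoImplicit false
set_option linter.style.haveILetI false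
universe u

namespace Groth.Agent.Lib.H72FpqcDescent

open CategoryTheory CategoryTheory.Limits AlgebraicGeometry Opposite
open Groth.Agent.Lib.H72PullbackQCoh Groth.Agent.Lib.H72FlatBaseChange

variable {X S : Scheme.{u}} (f : X ⟶ S) (F : X.Modules) [F.IsQuasicoherent]

theorem stab_flat {T T' : Over S} (k : T' ⟶ T)
    (h : FlatMod.IsFlatOver (PicF.XTproj f T) (FGA.ET f F T)) :
    FlatMod.IsFlatOver (PicF.XTproj f T') (FGA.ET f F T') := by
  intro x'
  have h1 := isFlatOverAt_pullback_of_isPullback (isPullback_XTmap f k) (FGA.ET f F T) x'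
    (h (PicF.XTmap f k x'))
  exact (isFlatOverAt_iff_of_iso _ (FGA.ETiso f F k) x').1 h1

theorem desc_flat {ι : Type*} {T : Over S} (Ti : ι → Over S) (k : ∀ i, Ti i ⟶ T)
    (hflat : ∀ i, Flat (k i).left)
    (hsurj : ∀ t : T.left, ∃ i, ∃ z : (Ti i).left, (k i).left z = t)
    (h : ∀ i, FlatMod.IsFlatOver (PicF.XTproj f (Ti i)) (FGA.ET f F (Ti i))) :
    FlatMod.IsFlatOver (PicF.XTproj f T) (FGA.ET f F T) := by
  intro x
  obtain ⟨i, x', rfl⟩ := jointly_surjective_XTmap f Ti k hsurj x
  haveI := hflat i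
  refine Groth.Agent.S1392.result (PicF.XTproj f T) (PicF.XTproj f (Ti i)) (PicF.XTmap f (k i))
    (k i).left (isPullback_XTmap f (k i)) (FGA.ET f F T) inferInstance x'
    (Flat.stalkMap (k i).left _) ?_
  exact (isFlatOverAt_iff_of_iso _ (FGA.ETiso f F (k i)) x').2 (h i x')

theorem isSheaf_genPSp_flat :
    Presheaf.IsSheaf (QuotSh.J Scheme.fpqcPrecoverage S)
      (FlatFun.genPSp S (fun T => FlatMod.IsFlatOver (PicF.XTproj f T) (FGA.ET f F T))) :=
  Groth.Agent.Lib.H72GenPSpSheaf.isSheaf_genPSp Scheme.fpqcPrecoverage _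
    (fun _ _ k h => stab_flat f F k h)
    (desc_of_presieve (fun T => FlatMod.IsFlatOver (PicF.XTproj f T) (FGA.ET f F T))
      (fun Ti k hflat hsurj h => desc_flat f F Ti k hflat hsurj h))

end Groth.Agent.Lib.H72FpqcDescent
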