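import Mathlib
import Groth.Agent.Lib.H72QcOpenFG
import Groth.Prelude.Def_Curv2

/-!
# A quasi-compact open of `X_K` is stable under an open subgroup of the Galois group (helper72)
-/

set_option autoImplicit false
set_option linter.style.haveILetI false
universe u
open CategoryTheory Limits AlgebraicGeometry Opposite

namespace Groth.Agent.Lib.H72GalStab

theorem isIso_galAct (k : Type u) [Field k] (X : Scheme.{u}) [X.Over (Spec (CommRingCat.of k))]
    (K : Type u) [Field K] [Algebra k K] (σ : K ≃ₐ[k] K) : IsIso (Curv2.galAct k X K σ) := by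
  haveI : IsIso (CommRingCat.ofHom (σ : K →ₐ[k] K).toRingHom) :=
    (σ.toRingEquiv.toCommRingCatIso).isIso_hom
  unfold Curv2.galAct
  infer_instance

theorem exists_stab (k : Type u) [Field k] (K : Type u) [Field K] [Algebra k K]
    [Algebra.IsAlgebraic k K]
    (X : Scheme.{u}) [X.Over (Spec (CommRingCat.of k))] (V : Set ↥(Curv2.bc k X K))
    (hV : IsOpen V) (hVc : IsCompact V) :
    ∃ E : IntermediateField k K, FiniteDimensional k ↥E ∧
      ∀ σ : K ≃ₐ[k] K, (∀ a : K, a ∈ E → σ a = a) →
        (Curv2.galAct k X K σ).base '' V = V := by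
  obtain ⟨A', hfg, V', -, -, hπ⟩ :=
    Groth.Agent.Lib.H72QcOpenFG.exists_fg_preimage k (X ↘ (Spec (CommRingCat.of k))) K V hV hVc
  obtain ⟨s, hs⟩ := hfg
  refine ⟨IntermediateField.adjoin k (s : Set K), ?_, fun σ hσ => ?_⟩
  · exact IntermediateField.finiteDimensional_adjoin
      (fun x _ => Algebra.IsIntegral.isIntegral x)
  · have hA' : ∀ a : A', σ a = a := fun a => hσ a (by
      have : (A' : Set K) ⊆ IntermediateField.adjoin k (s : Set K) := by
        rw [← hs]
        exact IntermediateField.algebra_adjoin_le_adjoin k (s : Set K)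
      exact this a.2)
    -- the canonical projection
    let π₀ : pullback (X ↘ (Spec (CommRingCat.of k)))
          (Spec.map (CommRingCat.ofHom (algebraMap k K))) ⟶
        pullback (X ↘ (Spec (CommRingCat.of k)))
          (Spec.map (CommRingCat.ofHom (algebraMap k ↥A'))) :=
      pullback.lift (pullback.fst _ _)
        (pullback.snd _ _ ≫ Spec.map (CommRingCat.ofHom A'.val.toRingHom)) (by
          rw [Category.assoc, ← Spec.map_comp, pullback.condition]
          rfl)
    have h0 : π₀.base ⁻¹' V' = V := hπ π₀ (pullback.lift_fst _ _ _) (pullback.lift_snd _ _ _)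
    have key : ∀ τ : K ≃ₐ[k] K, (∀ a : A', τ a = a) →
        (Curv2.galAct k X K τ).base ⁻¹' V = V := by
      intro τ hτ
      have h1 : (Curv2.galAct k X K τ ≫ π₀).base ⁻¹' V' = V := by
        refine hπ _ ?_ ?_
        · rw [Category.assoc, pullback.lift_fst]
          simp only [Curv2.galAct, pullback.map, pullback.lift_fst, Category.comp_id]
        · rw [Category.assoc, pullback.lift_snd]
          simp only [Curv2.galAct, pullback.map, pullback.lift_snd_assoc, Category.assoc]
          rw [← Spec.map_comp]
          congr 2
          ext a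
          exact hτ a
      rw [← h0]
      rw [Scheme.Hom.comp_base, TopCat.coe_comp, Set.preimage_comp] at h1
      rw [h1, h0]
    haveI := isIso_galAct k X K σ
    have hsurj : Function.Surjective (Curv2.galAct k X K σ).base :=
      (Curv2.galAct k X K σ).homeomorph.surjective
    conv_lhs => rw [← key σ hA']
    exact Set.image_preimage_eq V hsurj

end Groth.Agent.Lib.H72GalStab
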