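import Mathlib
import Groth.Prelude.Def_Red
import Groth.Prelude.Def_ActBC
import Groth.Agent.Lib.H72HomLim
import Groth.Agent.Lib.ChowTower27

/-!
# Homomorphisms of finitely presented group schemes over a cofiltered limit (helper72)

`Hom_{S-gr}(G, H) = colim Hom_{S_i-gr}(G_i, H_i)` for `S = lim S_i` (EGA IV 8.8.2 for group
homomorphisms, SGA3 VI_B 10.x).
-/

set_option autoImplicit false
set_option linter.style.haveILetI false
universe u v₁ v₂ u₁ u₂

open CategoryTheory Limits AlgebraicGeometry MonoidalCategory CartesianMonoidalCategory MonObj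

namespace Groth.Agent.Lib.H72GrpHomLim

section Abs

variable {C : Type u₁} [Category.{v₁} C] [CartesianMonoidalCategory C]
  {C' : Type u₂} [Category.{v₂} C'] [CartesianMonoidalCategory C']
  (F : C ⥤ C') [F.Monoidal] {G H : C} [MonObj G] [MonObj H] (u : G ⟶ H)

open scoped Obj
open Functor.LaxMonoidal Functor.Monoidal

/-- `F.map u` is a homomorphism iff the two homomorphism identities hold after applying `F`. -/
theorem isMonHom_map_iff :
    IsMonHom (F.map u) ↔
      F.map (η[G] ≫ u) = F.map η[H] ∧ F.map (μ[G] ≫ u) = F.map ((u ⊗ₘ u) ≫ μ[H]) := by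
  constructor
  · intro h
    constructor
    · rw [← cancel_epi (ε F), Functor.map_comp, ← Category.assoc, ← Functor.obj.η_def,
        IsMonHom.one_hom, Functor.obj.η_def]
    · rw [← cancel_epi (Functor.LaxMonoidal.μ F G G), Functor.map_comp, ← Category.assoc,
        ← Functor.obj.μ_def, IsMonHom.mul_hom, Functor.obj.μ_def, Functor.map_comp,
        μ_natural_assoc]
  · rintro ⟨h1, h2⟩
    refine ⟨?_, ?_⟩
    · rw [Functor.obj.η_def, Category.assoc, ← Functor.map_comp, h1, Functor.obj.η_def]
    · rw [Functor.obj.μ_def, Category.assoc, ← Functor.map_comp, h2, Functor.map_comp,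
        ← μ_natural_assoc]
      rfl

end Abs

open Groth.Agent.Lib.LimPullback Groth.Agent.Lib.LimDescent

section Cocycle

variable {S S' S'' S''' : Scheme.{u}} (e : S''' ⟶ S'') (f : S'' ⟶ S') (g : S' ⟶ S)
  {d₁ : S'' ⟶ S} {d₂ : S''' ⟶ S'} {d₃ : S''' ⟶ S} (X : Over S)

theorem bcCompIso_cocycle (h₁ : f ≫ g = d₁) (h₂ : e ≫ f = d₂) (h₃ : e ≫ d₁ = d₃)
    (h₃' : d₂ ≫ g = d₃) :
    (ActBC.bcCompIso e f (Red.bc g X) h₂).hom ≫ (ActBC.bcCompIso d₂ g X h₃').hom =
      (Over.pullback e).map (ActBC.bcCompIso f g X h₁).hom ≫ (ActBC.bcCompIso e d₁ X h₃).hom := by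
  ext
  apply pullback.hom_ext
  · simp only [Over.comp_left, Category.assoc, ActBC.bcCompIso_hom_left_fst,
      ActBC.bcCompIso_hom_left_fst_assoc, ActBC.pullback_map_left_fst_assoc]
  · exact (Over.w _).trans (Over.w _).symm

end Cocycle

section Lim

variable {I : Type u} [SmallCategory I] [IsCofiltered I]
    (D : I ⥤ Scheme.{u}) (c : Limits.Cone D) (hc : Limits.IsLimit c)
    [∀ {i j : I} (f : i ⟶ j), IsAffineHom (D.map f)]

include hc in
/-- Two morphisms over a stage which agree over the limit agree over all fine stages. -/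
theorem exists_stage_map_eq {i : I} {A B : Over (D.obj i)} [CompactSpace A.left]
    [QuasiSeparatedSpace A.left] [LocallyOfFiniteType B.hom] (v₁ v₂ : A ⟶ B)
    (h : (Over.pullback (c.π.app i)).map v₁ = (Over.pullback (c.π.app i)).map v₂) :
    ∃ k : Over i, ∀ (k' : Over i) (_ : k' ⟶ k),
      (Over.pullback (D.map k'.hom)).map v₁ = (Over.pullback (D.map k'.hom)).map v₂ := by
  have hab : pullback.fst A.hom (c.π.app i) ≫ v₁.left = pullback.fst A.hom (c.π.app i) ≫ v₂.left := by
    have := congrArg (fun x => x.left ≫ pullback.fst B.hom (c.π.app i)) h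
    simp only [ActBC.pullback_map_left_fst] at this
    exact this
  obtain ⟨k, hk⟩ := Groth.Agent.Lib.H72HomLim.exists_stage_hom_eq D c hc A.hom B.hom
    v₁.left v₂.left (Over.w v₁) (Over.w v₂) hab
  refine ⟨k, fun k' b => ?_⟩
  have hk' : pullback.fst A.hom (D.map k'.hom) ≫ v₁.left =
      pullback.fst A.hom (D.map k'.hom) ≫ v₂.left := by
    rw [← pbMap_fst D i A.hom b, Category.assoc, hk, Category.assoc]
  ext
  apply pullback.hom_ext
  · rw [ActBC.pullback_map_left_fst, ActBC.pullback_map_left_fst, hk']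
  · exact (Over.w _).trans (Over.w _).symm

include hc in
/-- A morphism over the limit between base changes comes from a stage. -/
theorem exists_stage_map {j : I} (A B : Over (D.obj j)) [CompactSpace A.left]
    [QuasiSeparatedSpace A.left] [LocallyOfFinitePresentation B.hom]
    (u : Red.bc (c.π.app j) A ⟶ Red.bc (c.π.app j) B) :
    ∃ (k : Over j) (uk : Red.bc (D.map k.hom) A ⟶ Red.bc (D.map k.hom) B),
      (Over.pullback (c.π.app k.left)).map uk =
        (ActBC.bcCompIso (c.π.app k.left) (D.map k.hom) A (c.w k.hom)).hom ≫ u ≫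
          (ActBC.bcCompIso (c.π.app k.left) (D.map k.hom) B (c.w k.hom)).inv := by
  let a : pullback A.hom (c.π.app j) ⟶ B.left := u.left ≫ pullback.fst B.hom (c.π.app j)
  have haB : a ≫ B.hom = pullback.fst A.hom (c.π.app j) ≫ A.hom := by
    have hw : u.left ≫ pullback.snd B.hom (c.π.app j) = pullback.snd A.hom (c.π.app j) := Over.w u
    simp only [a, Category.assoc]
    rw [pullback.condition, ← Category.assoc, hw, pullback.condition]
  let tY : pbDiagram D j A.hom ⟶ (Functor.const (Over j)).obj (D.obj j) :=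
    { app := fun k => pullback.fst A.hom (D.map k.hom) ≫ A.hom
      naturality := fun k k' f => by
        change pbMap D j A.hom f ≫ pullback.fst A.hom (D.map k'.hom) ≫ A.hom =
          (pullback.fst A.hom (D.map k.hom) ≫ A.hom) ≫ 𝟙 _
        rw [pbMap_fst_assoc, Category.comp_id] }
  have ha : (pbCone D c j A.hom).π ≫ tY =
      (Functor.const _).map ((a : (pbCone D c j A.hom).pt ⟶ B.left) ≫ B.hom) := by
    ext k : 2
    change pbProj D c j A.hom k ≫ pullback.fst A.hom (D.map k.hom) ≫ A.hom = a ≫ B.hom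
    rw [pbProj_fst_assoc, haB]
  obtain ⟨k, g', hg1', hg2'⟩ := Scheme.exists_π_app_comp_eq_of_locallyOfFinitePresentation
    (pbDiagram D j A.hom) tY B.hom (pbCone D c j A.hom) (isLimitPbCone hc) a ha
  obtain ⟨g, hg1, hg2⟩ : ∃ g : pullback A.hom (D.map k.hom) ⟶ B.left,
      pbProj D c j A.hom k ≫ g = a ∧ g ≫ B.hom = pullback.fst A.hom (D.map k.hom) ≫ A.hom :=
    ⟨g', hg1', hg2'⟩
  clear hg1' hg2' g'
  let uk : Red.bc (D.map k.hom) A ⟶ Red.bc (D.map k.hom) B :=
    Over.homMk (pullback.lift g (pullback.snd A.hom (D.map k.hom))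
      (by rw [hg2, pullback.condition])) (pullback.lift_snd _ _ _)
  have huk : uk.left ≫ pullback.fst B.hom (D.map k.hom) = g := pullback.lift_fst _ _ _
  refine ⟨k, uk, ?_⟩
  rw [← Category.assoc, Iso.eq_comp_inv]
  -- the projection of the iterated base change is the limit projection
  have hproj : (ActBC.bcCompIso (c.π.app k.left) (D.map k.hom) A (c.w k.hom)).hom.left ≫
      pbProj D c j A.hom k = pullback.fst (pullback.snd A.hom (D.map k.hom)) (c.π.app k.left) := by
    apply pullback.hom_ext
    · rw [Category.assoc, pbProj_fst, ActBC.bcCompIso_hom_left_fst]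
      rfl
    · rw [Category.assoc, pbProj_snd, ActBC.bcCompIso_hom_left_snd_assoc, pullback.condition]
      rfl
  ext
  apply pullback.hom_ext
  · simp only [Over.comp_left, Category.assoc, ActBC.bcCompIso_hom_left_fst]
    rw [ActBC.pullback_map_left_fst_assoc, huk]
    change _ = _ ≫ a
    rw [← hg1, ← Category.assoc, hproj]
    rfl
  · exact (Over.w _).trans (Over.w _).symm

end Lim

end Groth.Agent.Lib.H72GrpHomLim
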