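import Mathlib
import Groth.Agent.Lib.H72GrpHomLim
import Groth.Agent.Lib.ChowTower27

/-!
# Homomorphisms of finitely presented group schemes over a cofiltered limit: assembly (helper72)
-/

set_option autoImplicit false
set_option linter.style.haveILetI false
set_option linter.unusedSectionVars false
universe u

open CategoryTheory Limits AlgebraicGeometry MonoidalCategory CartesianMonoidalCategory MonObj

namespace Groth.Agent.Lib.H72GrpHomLim

/-- Diagram chase used in `surjective`. -/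
theorem chase {𝒞 : Type*} [Category 𝒞] {X₁ X₂ X₃ X₄ Y₁ Y₂ Y₃ Y₄ : 𝒞}
    (x : X₁ ⟶ Y₁) (y : X₂ ⟶ Y₂) (u : X₃ ⟶ Y₃)
    (εG : X₁ ⟶ X₂) (εH : Y₁ ⟶ Y₂) (βG : X₂ ⟶ X₃) (βH : Y₂ ≅ Y₃)
    (pG : X₁ ≅ X₄) (pH : Y₁ ⟶ Y₄) (δG : X₄ ⟶ X₃) (δH : Y₄ ≅ Y₃)
    (nat : x ≫ εH = εG ≫ y) (cocG : εG ≫ βG = pG.hom ≫ δG) (cocH : εH ≫ βH.hom = pH ≫ δH.hom)
    (hy : y = βG ≫ u ≫ βH.inv) :
    pG.inv ≫ x ≫ pH = δG ≫ u ≫ δH.inv := by
  rw [Iso.inv_comp_eq, ← Category.assoc, ← Category.assoc, Iso.eq_comp_inv, Category.assoc,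
    Category.assoc, ← cocH, ← Category.assoc, nat, hy, ← reassoc_of% cocG]
  simp

variable {I : Type u} [SmallCategory I] [IsCofiltered I]
    (D : I ⥤ Scheme.{u}) (c : Limits.Cone D) (hc : Limits.IsLimit c)
    [∀ {i j : I} (f : i ⟶ j), IsAffineHom (D.map f)]
    [∀ i, CompactSpace (D.obj i)] [∀ i, QuasiSeparatedSpace (D.obj i)]

omit [IsCofiltered I] [∀ {i j : I} (f : i ⟶ j), IsAffineHom (D.map f)] in
theorem compactSpace_bc_left {i j : I} (f : i ⟶ j) (A : Over (D.obj j)) [QuasiCompact A.hom] :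
    CompactSpace (Red.bc (D.map f) A).left :=
  QuasiCompact.compactSpace_of_compactSpace (pullback.snd A.hom (D.map f))

omit [IsCofiltered I] [∀ {i j : I} (f : i ⟶ j), IsAffineHom (D.map f)] in
theorem quasiSeparatedSpace_bc_left {i j : I} (f : i ⟶ j) (A : Over (D.obj j))
    [QuasiSeparated A.hom] : QuasiSeparatedSpace (Red.bc (D.map f) A).left :=
  quasiSeparatedSpace_of_quasiSeparated (pullback.snd A.hom (D.map f))

include hc in
theorem injective (j : I) (Gj Hj : Over (D.obj j))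
    [QuasiCompact Gj.hom] [QuasiSeparated Gj.hom] [LocallyOfFinitePresentation Hj.hom]
    (i : I) (f : i ⟶ j) (u₁ u₂ : Red.bc (D.map f) Gj ⟶ Red.bc (D.map f) Hj)
    (h : (Over.pullback (c.π.app i)).map u₁ = (Over.pullback (c.π.app i)).map u₂) :
    ∃ (i' : I) (g : i' ⟶ i), (Over.pullback (D.map g)).map u₁ = (Over.pullback (D.map g)).map u₂ := by
  haveI := compactSpace_bc_left D f Gj
  haveI := quasiSeparatedSpace_bc_left D f Gj
  haveI : LocallyOfFiniteType (Red.bc (D.map f) Hj).hom :=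
    (inferInstance : LocallyOfFiniteType (pullback.snd Hj.hom (D.map f)))
  obtain ⟨k, hk⟩ := exists_stage_map_eq D c hc u₁ u₂ h
  exact ⟨k.left, k.hom, hk k (𝟙 k)⟩

include hc in
theorem surjective (j : I) (Gj Hj : Over (D.obj j)) [GrpObj Gj] [GrpObj Hj]
    [QuasiCompact Gj.hom] [QuasiSeparated Gj.hom] [LocallyOfFinitePresentation Hj.hom]
    (u : Red.bc (c.π.app j) Gj ⟶ Red.bc (c.π.app j) Hj) (hu : IsMonHom u) :
    ∃ (i : I) (f : i ⟶ j) (ui : Red.bc (D.map f) Gj ⟶ Red.bc (D.map f) Hj), IsMonHom ui ∧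
      (Over.pullback (c.π.app i)).map ui =
        (ActBC.bcCompIso (c.π.app i) (D.map f) Gj (c.w f)).hom ≫ u ≫
          (ActBC.bcCompIso (c.π.app i) (D.map f) Hj (c.w f)).inv := by
  haveI : CompactSpace Gj.left := QuasiCompact.compactSpace_of_compactSpace Gj.hom
  haveI : QuasiSeparatedSpace Gj.left := quasiSeparatedSpace_of_quasiSeparated Gj.hom
  -- Step 1: descend the morphism
  obtain ⟨k₀, u₀, hu₀⟩ := exists_stage_map D c hc Gj Hj u
  -- Step 2: its base change to the limit is a homomorphism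
  have hmon₀ : IsMonHom ((Over.pullback (c.π.app k₀.left)).map u₀) := by
    rw [hu₀]
    infer_instance
  obtain ⟨e1, e2⟩ := (isMonHom_map_iff (Over.pullback (c.π.app k₀.left)) u₀).mp hmon₀
  -- Step 3: the identities hold at a finite stage
  haveI := compactSpace_bc_left D k₀.hom Gj
  haveI := quasiSeparatedSpace_bc_left D k₀.hom Gj
  haveI : LocallyOfFiniteType (Red.bc (D.map k₀.hom) Hj).hom :=
    (inferInstance : LocallyOfFiniteType (pullback.snd Hj.hom (D.map k₀.hom)))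
  haveI : CompactSpace (𝟙_ (Over (D.obj k₀.left))).left :=
    (inferInstance : CompactSpace (D.obj k₀.left))
  haveI : QuasiSeparatedSpace (𝟙_ (Over (D.obj k₀.left))).left :=
    (inferInstance : QuasiSeparatedSpace (D.obj k₀.left))
  haveI : QuasiCompact (Red.bc (D.map k₀.hom) Gj).hom :=
    (inferInstance : QuasiCompact (pullback.snd Gj.hom (D.map k₀.hom)))
  haveI : QuasiSeparated (Red.bc (D.map k₀.hom) Gj).hom :=
    (inferInstance : QuasiSeparated (pullback.snd Gj.hom (D.map k₀.hom)))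
  haveI : CompactSpace (Red.bc (D.map k₀.hom) Gj ⊗ Red.bc (D.map k₀.hom) Gj).left :=
    QuasiCompact.compactSpace_of_compactSpace
      (pullback.fst (Red.bc (D.map k₀.hom) Gj).hom (Red.bc (D.map k₀.hom) Gj).hom)
  haveI : QuasiSeparatedSpace (Red.bc (D.map k₀.hom) Gj ⊗ Red.bc (D.map k₀.hom) Gj).left :=
    quasiSeparatedSpace_of_quasiSeparated
      (pullback.fst (Red.bc (D.map k₀.hom) Gj).hom (Red.bc (D.map k₀.hom) Gj).hom)
  obtain ⟨k1, hk1⟩ := exists_stage_map_eq D c hc (η[Red.bc (D.map k₀.hom) Gj] ≫ u₀)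
    η[Red.bc (D.map k₀.hom) Hj] e1
  obtain ⟨k2, hk2⟩ := exists_stage_map_eq D c hc (μ[Red.bc (D.map k₀.hom) Gj] ≫ u₀)
    ((u₀ ⊗ₘ u₀) ≫ μ[Red.bc (D.map k₀.hom) Hj]) e2
  obtain ⟨k, b1, ⟨b2⟩⟩ : ∃ (k : Over k₀.left) (_ : k ⟶ k1), Nonempty (k ⟶ k2) :=
    ⟨IsCofiltered.min k1 k2, IsCofiltered.minToLeft _ _, ⟨IsCofiltered.minToRight _ _⟩⟩
  have hmon : IsMonHom ((Over.pullback (D.map k.hom)).map u₀) :=
    (isMonHom_map_iff (Over.pullback (D.map k.hom)) u₀).mpr ⟨hk1 k b1, hk2 k b2⟩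
  -- Step 4: transport to a single base change
  obtain ⟨kh, hkh⟩ : ∃ kh : k.left ⟶ k₀.left, kh = k.hom := ⟨_, rfl⟩
  rw [← hkh] at hmon
  obtain ⟨i, hi⟩ : ∃ i : I, i = k.left := ⟨_, rfl⟩
  subst hi
  obtain ⟨f, hf⟩ : ∃ f : k.left ⟶ j, f = kh ≫ k₀.hom := ⟨_, rfl⟩
  have hcomp : D.map kh ≫ D.map k₀.hom = D.map f := by rw [hf, D.map_comp]
  obtain ⟨γG, hγG⟩ : ∃ ee : Red.bc (D.map kh) (Red.bc (D.map k₀.hom) Gj) ≅ Red.bc (D.map f) Gj,
      ee = ActBC.bcCompIso (D.map kh) (D.map k₀.hom) Gj hcomp := ⟨_, rfl⟩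
  obtain ⟨γH, hγH⟩ : ∃ ee : Red.bc (D.map kh) (Red.bc (D.map k₀.hom) Hj) ≅ Red.bc (D.map f) Hj,
      ee = ActBC.bcCompIso (D.map kh) (D.map k₀.hom) Hj hcomp := ⟨_, rfl⟩
  haveI : IsMonHom γG.hom := by rw [hγG]; infer_instance
  haveI : IsMonHom γH.hom := by rw [hγH]; infer_instance
  refine ⟨k.left, f, γG.inv ≫ (Over.pullback (D.map kh)).map u₀ ≫ γH.hom, ?_, ?_⟩
  · haveI := hmon
    infer_instance
  · have hw : c.π.app k.left ≫ D.map kh = c.π.app k₀.left := c.w kh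
    have nat := ActBC.bcCompIso_hom_naturality (c.π.app k.left) (D.map kh) hw u₀
    have cocG := bcCompIso_cocycle (c.π.app k.left) (D.map kh) (D.map k₀.hom) Gj hcomp hw
      (c.w f) (c.w k₀.hom)
    have cocH := bcCompIso_cocycle (c.π.app k.left) (D.map kh) (D.map k₀.hom) Hj hcomp hw
      (c.w f) (c.w k₀.hom)
    rw [← hγG] at cocG
    rw [← hγH] at cocH
    have key := chase ((Over.pullback (c.π.app k.left)).map ((Over.pullback (D.map kh)).map u₀))
      ((Over.pullback (c.π.app k₀.left)).map u₀) u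
      (ActBC.bcCompIso (c.π.app k.left) (D.map kh) (Red.bc (D.map k₀.hom) Gj) hw).hom
      (ActBC.bcCompIso (c.π.app k.left) (D.map kh) (Red.bc (D.map k₀.hom) Hj) hw).hom
      (ActBC.bcCompIso (c.π.app k₀.left) (D.map k₀.hom) Gj (c.w k₀.hom)).hom
      (ActBC.bcCompIso (c.π.app k₀.left) (D.map k₀.hom) Hj (c.w k₀.hom))
      ((Over.pullback (c.π.app k.left)).mapIso γG)
      ((Over.pullback (c.π.app k.left)).map γH.hom)
      (ActBC.bcCompIso (c.π.app k.left) (D.map f) Gj (c.w f)).hom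
      (ActBC.bcCompIso (c.π.app k.left) (D.map f) Hj (c.w f))
      nat cocG cocH hu₀
    rw [Functor.map_comp, Functor.map_comp]
    exact key

omit [IsCofiltered I] [∀ {i j : I} (f : i ⟶ j), IsAffineHom (D.map f)] in
theorem iso_eq_bcCompIso {i j : I} (f : i ⟶ j) (X : Over (D.obj j)) :
    (((Over.pullbackComp (c.π.app i) (D.map f)).app X).symm ≪≫
      eqToIso (congrArg (fun g => Red.bc g X) (c.w f))) =
      ActBC.bcCompIso (c.π.app i) (D.map f) X (c.w f) := by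
  ext1
  simp only [Iso.trans_hom, Iso.symm_hom, Iso.app_inv, eqToIso.hom]
  exact Groth.Agent.Lib.ChowTower27.pullbackComp_inv_eqToHom (c.π.app i) (D.map f) (c.w f) X

include hc in
theorem main (j : I) (Gj Hj : Over (D.obj j)) [GrpObj Gj] [GrpObj Hj]
    [LocallyOfFinitePresentation Gj.hom] [QuasiCompact Gj.hom] [QuasiSeparated Gj.hom]
    [LocallyOfFinitePresentation Hj.hom] [QuasiCompact Hj.hom] [QuasiSeparated Hj.hom] :
    (∀ (u : Red.bc (c.π.app j) Gj ⟶ Red.bc (c.π.app j) Hj), IsMonHom u →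
      ∃ (i : I) (f : i ⟶ j) (ui : Red.bc (D.map f) Gj ⟶ Red.bc (D.map f) Hj), IsMonHom ui ∧
        (Over.pullback (c.π.app i)).map ui = (((Over.pullbackComp (c.π.app i) (D.map f)).app Gj).symm ≪≫ eqToIso (congrArg (fun g => Red.bc g Gj) (c.w f))).hom ≫ u ≫ (((Over.pullbackComp (c.π.app i) (D.map f)).app Hj).symm ≪≫ eqToIso (congrArg (fun g => Red.bc g Hj) (c.w f))).inv) ∧
    (∀ (i : I) (f : i ⟶ j) (u₁ u₂ : Red.bc (D.map f) Gj ⟶ Red.bc (D.map f) Hj), IsMonHom u₁ → IsMonHom u₂ →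
      (Over.pullback (c.π.app i)).map u₁ = (Over.pullback (c.π.app i)).map u₂ →
      ∃ (i' : I) (g : i' ⟶ i), (Over.pullback (D.map g)).map u₁ = (Over.pullback (D.map g)).map u₂) := by
  refine ⟨fun u hu => ?_, fun i f u₁ u₂ _ _ h => injective D c hc j Gj Hj i f u₁ u₂ h⟩
  obtain ⟨i, f, ui, hmon, heq⟩ := surjective D c hc j Gj Hj u hu
  refine ⟨i, f, ui, hmon, ?_⟩
  rw [heq, iso_eq_bcCompIso D c f Gj, iso_eq_bcCompIso D c f Hj]

end Groth.Agent.Lib.H72GrpHomLim
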