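import Groth.Agent.Lib.H72InjFlatGood
import Groth.Agent.Lib.Fitting82U

/-!
# Base change of `Good` (helper72)
-/

set_option autoImplicit false
set_option linter.style.haveILetI false
universe u

open CategoryTheory AlgebraicGeometry TopologicalSpace Opposite TensorProduct Limits

namespace Groth.Agent.Lib.H72InjFlat

open Groth.Agent.Lib.ModStalkLin Groth.Agent.Lib.QCohStalk Groth.Agent.Lib.H72PullbackNat
  Groth.Agent.Lib.H72FlatModChart Groth.Agent.Lib.H72InjFlatAlg

variable {X Y X' Y' : Scheme.{u}} {f : X ⟶ Y} {f' : X' ⟶ Y'} {g' : X' ⟶ X} {g : Y' ⟶ Y}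

set_option maxHeartbeats 1000000 in
/-- **Base change of `Good`.** -/
theorem good_pullback (hsq : IsPullback g' f' f g) [LocallyOfFinitePresentation f]
    {F' F : X.Modules} [F'.IsQuasicoherent] [F.IsQuasicoherent]
    [SheafOfModules.IsFinitePresentation (R := X.ringCatSheaf) F']
    [SheafOfModules.IsFinitePresentation (R := X.ringCatSheaf) F] (u : F' ⟶ F) (x' : X')
    (h : Good f u (g' x')) : Good f' ((Scheme.Modules.pullback g').map u) x' := by
  haveI hqc := Groth.Agent.Lib.H90OXModExact.isQuasicoherent_cokernel u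
  refine ⟨?_, (isFlatOverAt_cokernel_pullback_iff f' g' u x').mpr
    (Groth.Agent.Lib.H72FlatBaseChange.isFlatOverAt_pullback_of_isPullback hsq (cokernel u) x' h.2)⟩
  -- charts
  have hs : g (f' x') = f (g' x') := by
    rw [← Scheme.Hom.comp_apply, ← Scheme.Hom.comp_apply, hsq.w]
  obtain ⟨_, ⟨V, hV, rfl⟩, hxV, -⟩ :=
    Y.isBasis_affineOpens.exists_subset_of_mem_open (Set.mem_univ (f (g' x'))) isOpen_univ
  obtain ⟨_, ⟨U, hU, rfl⟩, hxU, hUle⟩ :=
    X.isBasis_affineOpens.exists_subset_of_mem_open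
      (show g' x' ∈ {y : X | Good f u y} ∩ (f ⁻¹ᵁ V : Set X) from ⟨h, hxV⟩)
      ((isOpen_good f u).inter (f ⁻¹ᵁ V).isOpen)
  have hUV : U ≤ f ⁻¹ᵁ V := fun y hy => (hUle hy).2
  have hUgood : ∀ y : X, y ∈ U → Good f u y := fun y hy => (hUle hy).1
  obtain ⟨_, ⟨V', hV', rfl⟩, hxV', hV'V⟩ :=
    Y'.isBasis_affineOpens.exists_subset_of_mem_open
      (show f' x' ∈ (g ⁻¹ᵁ V : Set Y') by
        change g (f' x') ∈ V
        rw [hs]
        exact hxV) (g ⁻¹ᵁ V).isOpen
  have hU' : IsAffineOpen (g' ⁻¹ᵁ U ⊓ f' ⁻¹ᵁ V') := isAffineOpen_chart hsq hV hU hV' hUV hV'V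
  have hx' : x' ∈ g' ⁻¹ᵁ U ⊓ f' ⁻¹ᵁ V' := ⟨hxU, hxV'⟩
  obtain ⟨hinj, hflat⟩ := (forall_good_iff_chart f u hU hV hUV).mp hUgood
  haveI : ((Scheme.Modules.pullback g').obj F').IsQuasicoherent :=
    Groth.Agent.Lib.H72PullbackQCoh.isQuasicoherent_pullback g' F'
  haveI : ((Scheme.Modules.pullback g').obj F).IsQuasicoherent :=
    Groth.Agent.Lib.H72PullbackQCoh.isQuasicoherent_pullback g' F
  refine stalkLin_injective_of_app_injective ((Scheme.Modules.pullback g').map u) hU' ?_ x' hx'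
  refine (injective_chart_iff hsq u hV hU hV' hUV hV'V).mpr ?_
  letI algRS : Algebra Γ(Y, V) Γ(Y', V') := (g.appLE V V' hV'V).hom.toAlgebra
  letI algRA : Algebra Γ(Y, V) Γ(X, U) := (f.appLE V U hUV).hom.toAlgebra
  letI modRM' : Module Γ(Y, V) Γ(F', U) := Module.compHom _ (f.appLE V U hUV).hom
  letI modRM : Module Γ(Y, V) Γ(F, U) := Module.compHom _ (f.appLE V U hUV).hom
  letI modRC : Module Γ(Y, V) Γ(cokernel u, U) := Module.compHom _ (f.appLE V U hUV).hom
  haveI : IsScalarTower Γ(Y, V) Γ(X, U) Γ(F', U) := .of_algebraMap_smul fun _ _ => rfl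
  haveI : IsScalarTower Γ(Y, V) Γ(X, U) Γ(F, U) := .of_algebraMap_smul fun _ _ => rfl
  haveI : IsScalarTower Γ(Y, V) Γ(X, U) Γ(cokernel u, U) := .of_algebraMap_smul fun _ _ => rfl
  haveI : Module.Flat Γ(Y, V) Γ(cokernel u, U) := hflat
  exact lTensor_injective_of_flat_coker ((secModMap u U).hom.restrictScalars Γ(Y, V))
    ((secModMap (cokernel.π u) U).hom.restrictScalars Γ(Y, V)) hinj
    (secModMap_cokernel_exact u hU) (secModMap_cokernel_surjective u hU) Γ(Y', V')

/-- Base change of `Good`, the pullback written along a composite. -/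
theorem good_pullback_comp {Z : Scheme.{u}} (hsq : IsPullback g' f' f g)
    [LocallyOfFinitePresentation f] (q : X ⟶ Z) (q' : X' ⟶ Z) (hq : g' ≫ q = q')
    {F' F : Z.Modules} [F'.IsQuasicoherent] [F.IsQuasicoherent]
    [SheafOfModules.IsFinitePresentation (R := Z.ringCatSheaf) F']
    [SheafOfModules.IsFinitePresentation (R := Z.ringCatSheaf) F] (u : F' ⟶ F) (x' : X')
    (h : Good f ((Scheme.Modules.pullback q).map u) (g' x')) :
    Good f' ((Scheme.Modules.pullback q').map u) x' := by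
  haveI : ((Scheme.Modules.pullback q).obj F').IsQuasicoherent :=
    Groth.Agent.Lib.H72PullbackQCoh.isQuasicoherent_pullback q F'
  haveI : ((Scheme.Modules.pullback q).obj F).IsQuasicoherent :=
    Groth.Agent.Lib.H72PullbackQCoh.isQuasicoherent_pullback q F
  haveI : SheafOfModules.IsFinitePresentation (R := X.ringCatSheaf)
      ((Scheme.Modules.pullback q).obj F') :=
    Groth.Agent.Lib.Fitting82.isFinitePresentation_pullback q F'
  haveI : SheafOfModules.IsFinitePresentation (R := X.ringCatSheaf)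
      ((Scheme.Modules.pullback q).obj F) :=
    Groth.Agent.Lib.Fitting82.isFinitePresentation_pullback q F
  exact (good_pullback_pullback_iff f' g' q q' hq u x').mp
    (good_pullback hsq ((Scheme.Modules.pullback q).map u) x' h)

end Groth.Agent.Lib.H72InjFlat
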