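import Groth.Agent.Lib.H72InjFlatSec
import Groth.Agent.Lib.H72FlatModLimPt
import Groth.Agent.Lib.PullbackStalk81
import Groth.Agent.Lib.H72KerFP
import Groth.Agent.Lib.H90OXModAffine

set_option autoImplicit false
set_option linter.style.haveILetI false
universe u

open CategoryTheory AlgebraicGeometry TopologicalSpace Opposite TensorProduct Limits

namespace Groth.Agent.Lib.H72InjFlat

open Groth.Agent.Lib.ModStalkLin Groth.Agent.Lib.QCohStalk Groth.Agent.Lib.H72PullbackNat

variable {X Y : Scheme.{u}}

/-- The pointwise condition: `u_x` injective and `Coker u` flat over `Y` at `x`. -/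
def Good (f : X ⟶ Y) {F' F : X.Modules} (u : F' ⟶ F) (x : X) : Prop :=
  Function.Injective (stalkLin u x) ∧ FlatMod.IsFlatOverAt f (cokernel u) x

theorem good_iff (f : X ⟶ Y) {F' F : X.Modules} (u : F' ⟶ F) (x : X) :
    Good f u x ↔
      (Function.Injective ((TopCat.Presheaf.stalkFunctor Ab x).map
        (Scheme.Modules.Hom.mapPresheaf u)) ∧ FlatMod.IsFlatOverAt f (cokernel u) x) := Iff.rfl

noncomputable instance {Z : Scheme.{u}} (q : X ⟶ Z) :
    PreservesColimitsOfSize.{u, u} (Scheme.Modules.pullback q) :=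
  (Scheme.Modules.pullbackPushforwardAdjunction q).leftAdjoint_preservesColimits

noncomputable def cokernelPullbackIso {Z : Scheme.{u}} (q : X ⟶ Z) {F' F : Z.Modules} (u : F' ⟶ F) :
    (Scheme.Modules.pullback q).obj (cokernel u) ≅ cokernel ((Scheme.Modules.pullback q).map u) :=
  PreservesCokernel.iso (Scheme.Modules.pullback q) u


/-- `Good` only depends on the isomorphism class of the arrow. -/
theorem good_iff_of_arrow_iso (f : X ⟶ Y) {F' F G' G : X.Modules} (u : F' ⟶ F) (v : G' ⟶ G)
    (e' : F' ≅ G') (e : F ≅ G) (comm : u ≫ e.hom = e'.hom ≫ v) (x : X) :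
    Good f u x ↔ Good f v x := by
  have hv : stalkLin v x = (stalkLin e.hom x).comp ((stalkLin u x).comp (stalkLin e'.inv x)) := by
    rw [← stalkLin_comp, ← stalkLin_comp]
    congr 1
    rw [Category.assoc, comm, Iso.inv_hom_id_assoc]
  have hflat : FlatMod.IsFlatOverAt f (cokernel u) x ↔ FlatMod.IsFlatOverAt f (cokernel v) x :=
    Groth.Agent.Lib.H72FlatBaseChange.isFlatOverAt_iff_of_iso f (cokernel.mapIso u v e' e comm) x
  have hinj : Function.Injective (stalkLin u x) ↔ Function.Injective (stalkLin v x) := by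
    rw [hv]
    have h1 : Function.Injective (stalkLin e.hom x) := (stalkLinEquiv e x).injective
    have h2 : Function.Bijective (stalkLin e'.inv x) := (stalkLinEquiv e'.symm x).bijective
    rw [LinearMap.coe_comp, LinearMap.coe_comp]
    constructor
    · intro h
      exact h1.comp (h.comp h2.1)
    · intro h
      have h3 : Function.Injective (stalkLin u x ∘ stalkLin e'.inv x) := Function.Injective.of_comp h
      intro a b hab
      obtain ⟨a', rfl⟩ := h2.2 a
      obtain ⟨b', rfl⟩ := h2.2 b
      rw [h3 hab]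
  exact and_congr hinj hflat

/-- `Good` for an iterated pullback. -/
theorem good_pullback_pullback_iff {Z T : Scheme.{u}} (f : X ⟶ Y) (a : X ⟶ Z) (b : Z ⟶ T)
    (ab : X ⟶ T) (h : a ≫ b = ab) {F' F : T.Modules} (u : F' ⟶ F) (x : X) :
    Good f ((Scheme.Modules.pullback a).map ((Scheme.Modules.pullback b).map u)) x ↔
      Good f ((Scheme.Modules.pullback ab).map u) x := by
  subst h
  exact good_iff_of_arrow_iso f _ _ ((Scheme.Modules.pullbackComp a b).app F')
    ((Scheme.Modules.pullbackComp a b).app F) ((Scheme.Modules.pullbackComp a b).hom.naturality u) x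

/-- Flatness of the cokernel of a pullback. -/
theorem isFlatOverAt_cokernel_pullback_iff {Z : Scheme.{u}} (f : X ⟶ Y) (q : X ⟶ Z)
    {F' F : Z.Modules} (u : F' ⟶ F) (x : X) :
    FlatMod.IsFlatOverAt f (cokernel ((Scheme.Modules.pullback q).map u)) x ↔
      FlatMod.IsFlatOverAt f ((Scheme.Modules.pullback q).obj (cokernel u)) x :=
  (Groth.Agent.Lib.H72FlatBaseChange.isFlatOverAt_iff_of_iso f (cokernelPullbackIso q u) x).symm

/-- **Chart criterion.** -/
theorem forall_good_iff_chart (f : X ⟶ Y) {F' F : X.Modules} [F'.IsQuasicoherent]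
    [F.IsQuasicoherent] (u : F' ⟶ F) {U : X.Opens} {V : Y.Opens} (hU : IsAffineOpen U)
    (hV : IsAffineOpen V) (hUV : U ≤ f ⁻¹ᵁ V) :
    (∀ x : X, x ∈ U → Good f u x) ↔
      (Function.Injective (u.app U) ∧
        @Module.Flat Γ(Y, V) Γ(cokernel u, U) _ _ (Module.compHom _ (f.appLE V U hUV).hom)) := by
  haveI := Groth.Agent.Lib.H90OXModExact.isQuasicoherent_cokernel u
  rw [← Groth.Agent.Lib.FlatOverSections.forall_isFlatOverAt_iff_flat_sections f (cokernel u) hU hV
    hUV]
  constructor
  · intro h
    exact ⟨app_injective_of_forall_stalkLin u U fun x hx => (h x hx).1, fun x hx => (h x hx).2⟩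
  · rintro ⟨h1, h2⟩ x hx
    exact ⟨stalkLin_injective_of_app_injective u hU h1 x hx, h2 x hx⟩


/-- The cokernel of a morphism of finitely presented quasi-coherent modules is finitely presented. -/
theorem isFinitePresentation_cokernel {F' F : X.Modules} [F'.IsQuasicoherent] [F.IsQuasicoherent]
    [SheafOfModules.IsFinitePresentation (R := X.ringCatSheaf) F']
    [SheafOfModules.IsFinitePresentation (R := X.ringCatSheaf) F] (u : F' ⟶ F) :
    SheafOfModules.IsFinitePresentation (R := X.ringCatSheaf) (cokernel u) := by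
  haveI := Groth.Agent.Lib.H90OXModExact.isQuasicoherent_cokernel u
  refine Groth.Agent.Lib.H90OXModAffine.isFinitePresentation_of_forall_affine (cokernel u) fun U => ?_
  haveI := Groth.Agent.Lib.H90OXModFP.finitePresentation_sections F' U.2
  haveI := Groth.Agent.Lib.H90OXModFP.finitePresentation_sections F U.2
  exact finitePresentation_sections_cokernel u U.2

set_option maxHeartbeats 1000000 in
/-- **EGA IV 11.3.7-type openness**: the locus where `u_x` is injective and `Coker u` is flat over the
base is open. -/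
theorem isOpen_good (f : X ⟶ Y) [LocallyOfFinitePresentation f] {F' F : X.Modules}
    [F'.IsQuasicoherent] [F.IsQuasicoherent]
    [SheafOfModules.IsFinitePresentation (R := X.ringCatSheaf) F']
    [SheafOfModules.IsFinitePresentation (R := X.ringCatSheaf) F] (u : F' ⟶ F) :
    IsOpen {x : X | Good f u x} := by
  classical
  haveI hqc := Groth.Agent.Lib.H90OXModExact.isQuasicoherent_cokernel u
  haveI hcfp := isFinitePresentation_cokernel u
  haveI : Coh.IsQCoh (cokernel u) := hqc
  have hWo : IsOpen {y : X | FlatMod.IsFlatOverAt f (cokernel u) y} :=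
    Groth.Agent.S4863.result f _ hcfp
  refine isOpen_iff_forall_mem_open.mpr fun x hx => ?_
  obtain ⟨_, ⟨V, hV, rfl⟩, hxV, -⟩ :=
    Y.isBasis_affineOpens.exists_subset_of_mem_open (Set.mem_univ (f x)) isOpen_univ
  obtain ⟨_, ⟨U, hU, rfl⟩, hxU, hUle⟩ :=
    X.isBasis_affineOpens.exists_subset_of_mem_open
      (show x ∈ {y : X | FlatMod.IsFlatOverAt f (cokernel u) y} ∩ (f ⁻¹ᵁ V : Set X) from
        ⟨hx.2, hxV⟩) (hWo.inter (f ⁻¹ᵁ V).isOpen)
  have hUV : U ≤ f ⁻¹ᵁ V := fun y hy => (hUle hy).2
  have hUW : ∀ y ∈ U, FlatMod.IsFlatOverAt f (cokernel u) y := fun y hy => (hUle hy).1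
  have hfp := f.finitePresentation_appLE hV hU hUV
  letI algRA : Algebra Γ(Y, V) Γ(X, U) := (f.appLE V U hUV).hom.toAlgebra
  haveI : Algebra.FinitePresentation Γ(Y, V) Γ(X, U) := hfp
  letI modRC : Module Γ(Y, V) Γ(cokernel u, U) := Module.compHom _ (f.appLE V U hUV).hom
  haveI : IsScalarTower Γ(Y, V) Γ(X, U) Γ(cokernel u, U) := .of_algebraMap_smul fun _ _ => rfl
  haveI := Groth.Agent.Lib.H90OXModFP.finitePresentation_sections F' hU
  haveI := Groth.Agent.Lib.H90OXModFP.finitePresentation_sections F hU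
  haveI := @Groth.Agent.Lib.H90OXModFP.finitePresentation_sections _ (cokernel u) hcfp _ hU
  haveI hCflat : Module.Flat Γ(Y, V) Γ(cokernel u, U) :=
    (Groth.Agent.Lib.FlatOverSections.forall_isFlatOverAt_iff_flat_sections f (cokernel u) hU hV
      hUV).mp hUW
  -- the kernel of `Γ(u, U)` is finitely generated
  let w := (secModMap u U).hom
  let π := (secModMap (cokernel.π u) U).hom
  have hπ : Function.Surjective π := secModMap_cokernel_surjective u hU
  have hex : Function.Exact w π := secModMap_cokernel_exact u hU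
  haveI hI : Module.FinitePresentation Γ(X, U) (LinearMap.ker π) :=
    Groth.Agent.Lib.H72KerFP.finitePresentation_ker (A := Γ(Y, V)) (B := Γ(X, U)) π hπ
  let w' : Γ(F', U) →ₗ[Γ(X, U)] LinearMap.ker π :=
    w.codRestrict (LinearMap.ker π) fun p => (hex (w p)).mpr ⟨p, rfl⟩
  have hw' : Function.Surjective w' := by
    rintro ⟨q, hq⟩
    obtain ⟨p, hp⟩ := (hex q).mp hq
    exact ⟨p, Subtype.ext hp⟩
  have hfg : (LinearMap.ker w').FG := Module.FinitePresentation.fg_ker w' hw'
  have hker : LinearMap.ker w' = LinearMap.ker w := LinearMap.ker_codRestrict _ _ _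
  rw [hker] at hfg
  obtain ⟨T, hT⟩ := hfg
  -- kill the generators
  have hgen : ∀ t ∈ T, ∃ g : Γ(X, U), IsUnit (X.presheaf.germ U x hxU g) ∧ g • t = 0 := by
    intro t ht
    have htk : w t = 0 := by
      have : t ∈ LinearMap.ker w := by rw [← hT]; exact Submodule.subset_span ht
      exact this
    have h0 : F'.presheaf.germ U x hxU t = 0 := by
      apply hx.1
      rw [stalkLin_germ, map_zero]
      have : u.app U t = 0 := htk
      rw [this, map_zero]
    exact exists_smul_eq_zero_of_germ_eq_zero F' hU x hxU t h0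
  choose! g hg using hgen
  let s : Γ(X, U) := ∏ t ∈ T, g t
  have hsunit : IsUnit (X.presheaf.germ U x hxU s) := by
    rw [map_prod]
    exact Finset.prod_induction _ IsUnit (fun a b ha hb => ha.mul hb) isUnit_one
      fun t ht => (hg t ht).1
  have hskill : ∀ k : Γ(F', U), u.app U k = 0 → s • k = 0 := by
    intro k hk
    have hk' : k ∈ Submodule.span Γ(X, U) (T : Set Γ(F', U)) := by
      rw [hT]
      exact hk
    refine Submodule.span_induction (p := fun k _ => s • k = 0) ?_ ?_ ?_ ?_ hk'
    · intro t ht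
      obtain ⟨c, hc⟩ := Finset.dvd_prod_of_mem g ht
      change (∏ t ∈ T, g t) • t = 0
      rw [hc, mul_comm, mul_smul, (hg t ht).2, smul_zero]
    · exact smul_zero s
    · intro a b _ _ ha hb
      rw [smul_add, ha, hb, add_zero]
    · intro r a _ ha
      rw [smul_comm, ha, smul_zero]
  refine ⟨X.basicOpen s, fun y hy => ?_, (X.basicOpen s).2, (X.mem_basicOpen s x hxU).mpr hsunit⟩
  have hyU : y ∈ U := X.basicOpen_le s hy
  exact ⟨stalkLin_injective_of_kill u hU s hskill y hyU ((X.mem_basicOpen s y hyU).mp hy),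
    hUW y hyU⟩

end Groth.Agent.Lib.H72InjFlat
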