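import Groth.Agent.Lib.H72InjFlatBC
import Groth.Agent.Lib.H72FlatModLimPt
import Groth.Agent.S4863

/-!
# Descent of (stalk injective + flat cokernel) to a stage of a cofiltered limit (helper72)
-/

set_option autoImplicit false
set_option linter.style.haveILetI false
universe u

open CategoryTheory AlgebraicGeometry TopologicalSpace Opposite TensorProduct Limits

namespace Groth.Agent.Lib.H72InjFlat

open Groth.Agent.Lib.LimPullback Groth.Agent.Lib.LimDescent Groth.Agent.Lib.ColimTensor96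
  Groth.Agent.Lib.H72FlatModChart Groth.Agent.Lib.ModStalkLin Groth.Agent.Lib.H72PullbackNat
  Groth.Agent.Lib.H72FlatModLim Groth.Agent.Lib.H72InjFlatAlg

variable {I : Type u} [Category.{u} I] [IsCofiltered I] (D : I ⥤ Scheme.{u}) (c : Cone D)
  [∀ {i j : I} (φ : i ⟶ j), IsAffineHom (D.map φ)]
variable {i₀ : I} {X₀ Y₀ : Scheme.{u}} (f₀ : X₀ ⟶ Y₀) (g₀ : Y₀ ⟶ D.obj i₀)

attribute [local instance] Groth.Agent.Lib.H72LimRing.algAt Groth.Agent.Lib.H72LimRing.algLim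

set_option maxHeartbeats 2000000 in
/-- **Descent of injectivity on a chart**, the cokernel being flat over the base chart. -/
theorem exists_stage_inj_chart (hc : IsLimit c) {F₀ G₀ : X₀.Modules} [F₀.IsQuasicoherent]
    [G₀.IsQuasicoherent] (h₀ : F₀ ⟶ G₀)
    {V₀ : Y₀.Opens} {U₀ : X₀.Opens} (hV₀ : IsAffineOpen V₀) (hU₀ : IsAffineOpen U₀)
    (hUV : U₀ ≤ f₀ ⁻¹ᵁ V₀)
    (hfp : (f₀.appLE V₀ U₀ hUV).hom.FinitePresentation)
    (hF : Module.Finite Γ(X₀, U₀) Γ(F₀, U₀))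
    (hG : Module.FinitePresentation Γ(X₀, U₀) Γ(G₀, U₀))
    (hflat₀ : ∀ x : X₀, x ∈ U₀ → FlatMod.IsFlatOverAt f₀ (cokernel h₀) x)
    (hinj : ∀ x : ↥(pullback (f₀ ≫ g₀) (c.π.app i₀)),
      pullback.fst (f₀ ≫ g₀) (c.π.app i₀) x ∈ U₀ →
        Function.Injective (stalkLin ((Scheme.Modules.pullback
          (pullback.fst (f₀ ≫ g₀) (c.π.app i₀))).map h₀) x)) :
    ∃ j : Over i₀, ∀ x : ↥(pullback (f₀ ≫ g₀) (D.map j.hom)),
      pullback.fst (f₀ ≫ g₀) (D.map j.hom) x ∈ U₀ →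
        Function.Injective (stalkLin ((Scheme.Modules.pullback
          (pullback.fst (f₀ ≫ g₀) (D.map j.hom))).map h₀) x) := by
  classical
  -- the system of the `Y_j`
  let E : Over i₀ ⥤ Scheme.{u} := pbDiagram D i₀ g₀
  let cE : Cone E := pbCone D c i₀ g₀
  have hcE : IsLimit cE := isLimitPbCone hc
  let j₀ : Over i₀ := Over.mk (𝟙 i₀)
  let Ω : (E.obj j₀).Opens := (pullback.fst g₀ (D.map j₀.hom)) ⁻¹ᵁ V₀
  have hΩ : IsAffineOpen Ω := hV₀.preimage (pullback.fst g₀ (D.map j₀.hom))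
  have hW := Groth.Agent.Lib.H72LimRing.isWeakColimAlg E cE j₀ Ω hcE hΩ
  let G : Over j₀ → Type u := fun k => Γ(E.obj k.left, Groth.Agent.Lib.H72LimRing.ΩAt E j₀ Ω k)
  let A : Type u := Γ(cE.pt, Groth.Agent.Lib.H72LimRing.ΩLim E cE j₀ Ω)
  have hk : ∀ k : Over j₀, Groth.Agent.Lib.H72LimRing.ΩAt E j₀ Ω k ≤
      (pullback.fst g₀ (D.map k.left.hom)) ⁻¹ᵁ V₀ := by
    intro k
    change (pbMap D i₀ g₀ k.hom) ⁻¹ᵁ ((pullback.fst g₀ (D.map j₀.hom)) ⁻¹ᵁ V₀) ≤ _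
    rw [← Scheme.Hom.comp_preimage, pbMap_fst]
  have hlim : Groth.Agent.Lib.H72LimRing.ΩLim E cE j₀ Ω ≤
      (pullback.fst g₀ (c.π.app i₀)) ⁻¹ᵁ V₀ := by
    change (pbProj D c i₀ g₀ j₀) ⁻¹ᵁ ((pullback.fst g₀ (D.map j₀.hom)) ⁻¹ᵁ V₀) ≤ _
    rw [← Scheme.Hom.comp_preimage, pbProj_fst]
  letI algR' : Algebra Γ(Y₀, V₀) Γ(E.obj j₀, Ω) :=
    ((pullback.fst g₀ (D.map j₀.hom)).appLE V₀ Ω le_rfl).hom.toAlgebra
  letI algG : ∀ k : Over j₀, Algebra Γ(Y₀, V₀) (G k) := fun k =>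
    ((pullback.fst g₀ (D.map k.left.hom)).appLE V₀ _ (hk k)).hom.toAlgebra
  letI algA : Algebra Γ(Y₀, V₀) A :=
    ((pullback.fst g₀ (c.π.app i₀)).appLE V₀ _ hlim).hom.toAlgebra
  haveI towG : ∀ k : Over j₀, IsScalarTower Γ(Y₀, V₀) Γ(E.obj j₀, Ω) (G k) := fun k =>
    IsScalarTower.of_algebraMap_eq fun r => by
      have := appLE_comp_eq (pbMap D i₀ g₀ k.hom) (pullback.fst g₀ (D.map j₀.hom))
        (pullback.fst g₀ (D.map k.left.hom)) (pbMap_fst D i₀ g₀ k.hom) V₀ Ω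
        (Groth.Agent.Lib.H72LimRing.ΩAt E j₀ Ω k) le_rfl le_rfl (hk k)
      exact congr($(this).hom r).symm
  haveI towA : IsScalarTower Γ(Y₀, V₀) Γ(E.obj j₀, Ω) A :=
    IsScalarTower.of_algebraMap_eq fun r => by
      have := appLE_comp_eq (pbProj D c i₀ g₀ j₀) (pullback.fst g₀ (D.map j₀.hom))
        (pullback.fst g₀ (c.π.app i₀)) (pbProj_fst D c i₀ g₀ j₀) V₀ Ω
        (Groth.Agent.Lib.H72LimRing.ΩLim E cE j₀ Ω) le_rfl le_rfl hlim
      exact congr($(this).hom r).symm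
  let gR : ∀ k : Over j₀, G k →ₐ[Γ(Y₀, V₀)] A := fun k =>
    (Groth.Agent.Lib.H72LimRing.toLim E cE j₀ Ω k).restrictScalars Γ(Y₀, V₀)
  have hWR : IsWeakColimAlg (R := Γ(Y₀, V₀)) G gR := by
    refine ⟨hW.nonempty, fun k k' => ?_, hW.lift, fun k x hx => ?_⟩
    · obtain ⟨l, h, h', hh, hh'⟩ := hW.dir k k'
      exact ⟨l, h.restrictScalars Γ(Y₀, V₀), h'.restrictScalars Γ(Y₀, V₀),
        AlgHom.ext fun x => congr($hh x), AlgHom.ext fun x => congr($hh' x)⟩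
    · obtain ⟨l, h, hh, hx'⟩ := hW.kill k x hx
      exact ⟨l, h.restrictScalars Γ(Y₀, V₀), AlgHom.ext fun x => congr($hh x), hx'⟩
  -- the module data
  letI algRA : Algebra Γ(Y₀, V₀) Γ(X₀, U₀) := (f₀.appLE V₀ U₀ hUV).hom.toAlgebra
  haveI : Algebra.FinitePresentation Γ(Y₀, V₀) Γ(X₀, U₀) := hfp
  letI modRM' : Module Γ(Y₀, V₀) Γ(F₀, U₀) := Module.compHom _ (f₀.appLE V₀ U₀ hUV).hom
  letI modRM : Module Γ(Y₀, V₀) Γ(G₀, U₀) := Module.compHom _ (f₀.appLE V₀ U₀ hUV).hom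
  letI modRC : Module Γ(Y₀, V₀) Γ(cokernel h₀, U₀) := Module.compHom _ (f₀.appLE V₀ U₀ hUV).hom
  haveI : IsScalarTower Γ(Y₀, V₀) Γ(X₀, U₀) Γ(F₀, U₀) := .of_algebraMap_smul fun _ _ => rfl
  haveI : IsScalarTower Γ(Y₀, V₀) Γ(X₀, U₀) Γ(G₀, U₀) := .of_algebraMap_smul fun _ _ => rfl
  haveI : IsScalarTower Γ(Y₀, V₀) Γ(X₀, U₀) Γ(cokernel h₀, U₀) :=
    .of_algebraMap_smul fun _ _ => rfl
  haveI : IsAffineHom (cE.π.app j₀) := isAffineHom_π_app E cE hcE j₀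
  haveI hqc := Groth.Agent.Lib.H90OXModExact.isQuasicoherent_cokernel h₀
  haveI hCflat : Module.Flat Γ(Y₀, V₀) Γ(cokernel h₀, U₀) :=
    (Groth.Agent.Lib.FlatOverSections.forall_isFlatOverAt_iff_flat_sections f₀ (cokernel h₀) hU₀ hV₀
      hUV).mp hflat₀
  -- injectivity at the limit
  have hA : Function.Injective
      (((secModMap h₀ U₀).hom.restrictScalars Γ(Y₀, V₀)).lTensor A) := by
    refine (injective_chart_iff (isPullback_bcMap f₀ g₀ (c.π.app i₀)) h₀ hV₀ hU₀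
      (hΩ.preimage (cE.π.app j₀)) hUV hlim).mp ?_
    exact app_injective_of_forall_stalkLin _ _ fun x hx => hinj x hx.1
  obtain ⟨k, hk'⟩ := exists_lTensor_injective_stage' hWR (A := Γ(X₀, U₀))
    (secModMap h₀ U₀).hom (secModMap (cokernel.π h₀) U₀).hom
    (secModMap_cokernel_exact h₀ hU₀) (secModMap_cokernel_surjective h₀ hU₀) hA
  refine ⟨k.left, fun x hx => ?_⟩
  have hVk : IsAffineOpen (Groth.Agent.Lib.H72LimRing.ΩAt E j₀ Ω k) := hΩ.preimage (E.map k.hom)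
  haveI : ((Scheme.Modules.pullback (pullback.fst (f₀ ≫ g₀) (D.map k.left.hom))).obj
      F₀).IsQuasicoherent := Groth.Agent.Lib.H72PullbackQCoh.isQuasicoherent_pullback _ F₀
  haveI : ((Scheme.Modules.pullback (pullback.fst (f₀ ≫ g₀) (D.map k.left.hom))).obj
      G₀).IsQuasicoherent := Groth.Agent.Lib.H72PullbackQCoh.isQuasicoherent_pullback _ G₀
  have hsec := (injective_chart_iff (isPullback_bcMap f₀ g₀ (D.map k.left.hom)) h₀ hV₀ hU₀ hVk
    hUV (hk k)).mpr (hk' k (AlgHom.id _ _))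
  refine stalkLin_injective_of_app_injective _
    (isAffineOpen_chart (isPullback_bcMap f₀ g₀ (D.map k.left.hom)) hV₀ hU₀ hVk hUV (hk k)) hsec x
    ⟨hx, ?_⟩
  change (pullback.fst g₀ (D.map j₀.hom)) ((pbMap D i₀ g₀ k.hom)
    (bcMap f₀ g₀ (D.map k.left.hom) x)) ∈ V₀
  rw [← Scheme.Hom.comp_apply, ← Scheme.Hom.comp_apply, pbMap_fst, bcMap_fst,
    Scheme.Hom.comp_apply]
  exact hUV hx


/-- Relative form of `exists_stage_inj_chart`: the limit data are any pullback squares. -/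
theorem exists_stage_good_chart_rel (hc : IsLimit c) [LocallyOfFinitePresentation f₀]
    {F₀ G₀ : X₀.Modules} [F₀.IsQuasicoherent] [G₀.IsQuasicoherent]
    [SheafOfModules.IsFinitePresentation (R := X₀.ringCatSheaf) F₀]
    [SheafOfModules.IsFinitePresentation (R := X₀.ringCatSheaf) G₀] (h₀ : F₀ ⟶ G₀)
    {V₀ : Y₀.Opens} {U₀ : X₀.Opens} (hV₀ : IsAffineOpen V₀) (hU₀ : IsAffineOpen U₀)
    (hUV : U₀ ≤ f₀ ⁻¹ᵁ V₀)
    (hflat₀ : ∀ x : X₀, x ∈ U₀ → FlatMod.IsFlatOverAt f₀ (cokernel h₀) x)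
    {X Y : Scheme.{u}} (f : X ⟶ Y) (g : Y ⟶ c.pt) (qY : Y ⟶ Y₀) (qX : X ⟶ X₀)
    (hY : IsPullback qY g g₀ (c.π.app i₀)) (hX : IsPullback qX f f₀ qY)
    (hgood : ∀ x : X, qX x ∈ U₀ → Good f ((Scheme.Modules.pullback qX).map h₀) x) :
    ∃ j : Over i₀, ∀ x : ↥(pullback (f₀ ≫ g₀) (D.map j.hom)),
      pullback.fst (f₀ ≫ g₀) (D.map j.hom) x ∈ U₀ →
        Good (bcMap f₀ g₀ (D.map j.hom))
          ((Scheme.Modules.pullback (pullback.fst (f₀ ≫ g₀) (D.map j.hom))).map h₀) x := by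
  obtain ⟨eX, eY, h1, h2, h3, h4⟩ := exists_arrow_iso f₀ g₀ (c.π.app i₀) f g qY qX hY hX
  haveI : LocallyOfFinitePresentation f :=
    MorphismProperty.of_isPullback (P := @LocallyOfFinitePresentation) hX inferInstance
  have sq : IsPullback eX.inv (bcMap f₀ g₀ (c.π.app i₀)) f eY.inv := by
    refine IsPullback.of_horiz_isIso ⟨?_⟩
    rw [Iso.inv_comp_eq, ← Category.assoc, h1, Category.assoc, Iso.hom_inv_id,
      Category.comp_id]
  have e : eX.inv ≫ qX = pullback.fst (f₀ ≫ g₀) (c.π.app i₀) := by rw [Iso.inv_comp_eq, h2]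
  haveI := Groth.Agent.Lib.H90OXModFP.finitePresentation_sections F₀ hU₀
  haveI hqc := Groth.Agent.Lib.H90OXModExact.isQuasicoherent_cokernel h₀
  obtain ⟨j, hj⟩ := exists_stage_inj_chart D c f₀ g₀ hc h₀ hV₀ hU₀ hUV
    (f₀.finitePresentation_appLE hV₀ hU₀ hUV) inferInstance
    (Groth.Agent.Lib.H90OXModFP.finitePresentation_sections G₀ hU₀) hflat₀ fun x hx =>
      (good_pullback_comp sq qX _ e h₀ x (hgood _ (by
        rw [← Scheme.Hom.comp_apply, e]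
        exact hx))).1
  refine ⟨j, fun x hx => ⟨hj x hx, ?_⟩⟩
  exact (isFlatOverAt_cokernel_pullback_iff _ _ h₀ x).mpr
    (Groth.Agent.Lib.H72FlatBaseChange.isFlatOverAt_pullback_of_isPullback
      (isPullback_bcMap f₀ g₀ (D.map j.hom)) (cokernel h₀) x (hflat₀ _ hx))


set_option maxHeartbeats 2000000 in
/-- Pointwise descent of `Good`, the cokernel at the base stage being flat on an open `W₀`. -/
theorem exists_stage_good_of_flat_base (hc : IsLimit c) [LocallyOfFinitePresentation f₀]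
    {F₀ G₀ : X₀.Modules} [F₀.IsQuasicoherent] [G₀.IsQuasicoherent]
    [SheafOfModules.IsFinitePresentation (R := X₀.ringCatSheaf) F₀]
    [SheafOfModules.IsFinitePresentation (R := X₀.ringCatSheaf) G₀] (h₀ : F₀ ⟶ G₀)
    (W₀ : X₀.Opens) (hW₀ : ∀ x : X₀, x ∈ W₀ → FlatMod.IsFlatOverAt f₀ (cokernel h₀) x)
    {X Y : Scheme.{u}} (f : X ⟶ Y) (g : Y ⟶ c.pt) (qY : Y ⟶ Y₀) (qX : X ⟶ X₀)
    (hY : IsPullback qY g g₀ (c.π.app i₀)) (hX : IsPullback qX f f₀ qY) (x : X)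
    (hxW₀ : qX x ∈ W₀) (hx : Good f ((Scheme.Modules.pullback qX).map h₀) x) :
    ∃ (i : I) (φ : i ⟶ i₀) (Xi Yi : Scheme.{u}) (fi : Xi ⟶ Yi) (gi : Yi ⟶ D.obj i)
      (pY : Yi ⟶ Y₀) (pX : Xi ⟶ X₀) (vY : Y ⟶ Yi) (vX : X ⟶ Xi),
      IsPullback pY gi g₀ (D.map φ) ∧ IsPullback pX fi f₀ pY ∧
        vY ≫ pY = qY ∧ vY ≫ gi = g ≫ c.π.app i ∧ vX ≫ pX = qX ∧ vX ≫ fi = f ≫ vY ∧
        Good fi ((Scheme.Modules.pullback pX).map h₀) (vX x) := by
  classical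
  obtain ⟨eX, eY, h1, h2, h3, h4⟩ := exists_arrow_iso f₀ g₀ (c.π.app i₀) f g qY qX hY hX
  have h5 : eX.hom ≫ pullback.snd (f₀ ≫ g₀) (c.π.app i₀) = f ≫ g := by
    rw [← bcMap_snd f₀ g₀ (c.π.app i₀), ← Category.assoc, h1, Category.assoc, h4]
  -- the good locus is open
  haveI : LocallyOfFinitePresentation f :=
    MorphismProperty.of_isPullback (P := @LocallyOfFinitePresentation) hX inferInstance
  haveI : ((Scheme.Modules.pullback qX).obj F₀).IsQuasicoherent :=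
    Groth.Agent.Lib.H72PullbackQCoh.isQuasicoherent_pullback qX F₀
  haveI : ((Scheme.Modules.pullback qX).obj G₀).IsQuasicoherent :=
    Groth.Agent.Lib.H72PullbackQCoh.isQuasicoherent_pullback qX G₀
  haveI : SheafOfModules.IsFinitePresentation (R := X.ringCatSheaf)
      ((Scheme.Modules.pullback qX).obj F₀) :=
    Groth.Agent.Lib.Fitting82.isFinitePresentation_pullback qX F₀
  haveI : SheafOfModules.IsFinitePresentation (R := X.ringCatSheaf)
      ((Scheme.Modules.pullback qX).obj G₀) :=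
    Groth.Agent.Lib.Fitting82.isFinitePresentation_pullback qX G₀
  have hWo : IsOpen ({y : X | Good f ((Scheme.Modules.pullback qX).map h₀) y} ∩
      (qX ⁻¹ᵁ W₀ : Set X)) :=
    (isOpen_good f ((Scheme.Modules.pullback qX).map h₀)).inter (qX ⁻¹ᵁ W₀).isOpen
  let W : X.Opens := ⟨_, hWo⟩
  let W' : (pullback (f₀ ≫ g₀) (c.π.app i₀)).Opens := eX.inv ⁻¹ᵁ W
  have hxW' : eX.hom x ∈ W' := by
    change eX.inv (eX.hom x) ∈ W
    rw [← Scheme.Hom.comp_apply, Iso.hom_inv_id]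
    exact ⟨hx, hxW₀⟩
  obtain ⟨_, ⟨j, U', hU', rfl⟩, hxU', hU'W⟩ := TopologicalSpace.Opens.isBasis_iff_nbhd.mp
    (isBasis_preimage_isAffineOpen (pbDiagram D i₀ (f₀ ≫ g₀)) (pbCone D c i₀ (f₀ ≫ g₀))
      (isLimitPbCone hc)) hxW'
  let f₁ := bcMap f₀ g₀ (D.map j.hom)
  let g₁ := pullback.snd g₀ (D.map j.hom)
  let qXj : X ⟶ pullback (f₀ ≫ g₀) (D.map j.hom) := eX.hom ≫ pbProj D c i₀ (f₀ ≫ g₀) j
  let qYj : Y ⟶ pullback g₀ (D.map j.hom) := eY.hom ≫ pbProj D c i₀ g₀ j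
  have hxj : qXj x ∈ U' := hxU'
  have hqX : qXj ≫ pullback.fst (f₀ ≫ g₀) (D.map j.hom) = qX := by
    rw [Category.assoc, pbProj_fst, h2]
  have hxjW₀ : qXj x ∈ (pullback.fst (f₀ ≫ g₀) (D.map j.hom)) ⁻¹ᵁ W₀ := by
    change pullback.fst (f₀ ≫ g₀) (D.map j.hom) (qXj x) ∈ W₀
    rw [← Scheme.Hom.comp_apply, hqX]
    exact hxW₀
  -- charts at stage `j`
  obtain ⟨_, ⟨V', hV', rfl⟩, hxV', -⟩ :=
    (pullback g₀ (D.map j.hom)).isBasis_affineOpens.exists_subset_of_mem_open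
      (Set.mem_univ (f₁ (qXj x))) isOpen_univ
  obtain ⟨_, ⟨U'', hU'', rfl⟩, hxU'', hU''le⟩ :=
    (pullback (f₀ ≫ g₀) (D.map j.hom)).isBasis_affineOpens.exists_subset_of_mem_open
      (show qXj x ∈ ((U' ⊓ f₁ ⁻¹ᵁ V' ⊓ (pullback.fst (f₀ ≫ g₀) (D.map j.hom)) ⁻¹ᵁ W₀ :
          (pullback (f₀ ≫ g₀) (D.map j.hom)).Opens) : Set _) from
        ⟨⟨hxj, hxV'⟩, hxjW₀⟩)
      (U' ⊓ f₁ ⁻¹ᵁ V' ⊓ (pullback.fst (f₀ ≫ g₀) (D.map j.hom)) ⁻¹ᵁ W₀).isOpen
  have hU''U' : U'' ≤ U' := fun y hy => (hU''le hy).1.1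
  have hU''V' : U'' ≤ f₁ ⁻¹ᵁ V' := fun y hy => (hU''le hy).1.2
  have hU''W₀ : U'' ≤ (pullback.fst (f₀ ≫ g₀) (D.map j.hom)) ⁻¹ᵁ W₀ := fun y hy => (hU''le hy).2
  -- the squares over stage `j`
  have hYj : IsPullback qYj g g₁ (c.π.app j.left) := by
    have := (IsPullback.of_horiz_isIso (show CommSq eY.hom g (pullback.snd g₀ (c.π.app i₀))
      (𝟙 c.pt) from ⟨by rw [h4, Category.comp_id]⟩)).paste_horiz (isPullback_pbProj D c i₀ g₀ j)
    rwa [Category.id_comp] at this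
  have hXj : IsPullback qXj f f₁ qYj :=
    (IsPullback.of_horiz_isIso ⟨h1⟩).paste_horiz (isPullback_pbProj_bcMap D c f₀ g₀ j)
  -- the modules at stage `j`
  let F₁ := (Scheme.Modules.pullback (pullback.fst (f₀ ≫ g₀) (D.map j.hom))).obj F₀
  let G₁ := (Scheme.Modules.pullback (pullback.fst (f₀ ≫ g₀) (D.map j.hom))).obj G₀
  let h₁ : F₁ ⟶ G₁ := (Scheme.Modules.pullback (pullback.fst (f₀ ≫ g₀) (D.map j.hom))).map h₀
  haveI : F₁.IsQuasicoherent :=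
    Groth.Agent.Lib.H72PullbackQCoh.isQuasicoherent_pullback _ F₀
  haveI : G₁.IsQuasicoherent :=
    Groth.Agent.Lib.H72PullbackQCoh.isQuasicoherent_pullback _ G₀
  haveI : SheafOfModules.IsFinitePresentation
      (R := (pullback (f₀ ≫ g₀) (D.map j.hom)).ringCatSheaf) F₁ :=
    Groth.Agent.Lib.Fitting82.isFinitePresentation_pullback _ F₀
  haveI : SheafOfModules.IsFinitePresentation
      (R := (pullback (f₀ ≫ g₀) (D.map j.hom)).ringCatSheaf) G₁ :=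
    Groth.Agent.Lib.Fitting82.isFinitePresentation_pullback _ G₀
  haveI : LocallyOfFinitePresentation f₁ := locallyOfFinitePresentation_bcMap D f₀ g₀ _
  haveI hqc := Groth.Agent.Lib.H90OXModExact.isQuasicoherent_cokernel h₀
  have hflat₁ : ∀ y : ↥(pullback (f₀ ≫ g₀) (D.map j.hom)), y ∈ U'' →
      FlatMod.IsFlatOverAt f₁ (cokernel h₁) y := fun y hy =>
    (isFlatOverAt_cokernel_pullback_iff _ _ h₀ y).mpr
      (Groth.Agent.Lib.H72FlatBaseChange.isFlatOverAt_pullback_of_isPullback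
        (isPullback_bcMap f₀ g₀ (D.map j.hom)) (cokernel h₀) y (hW₀ _ (hU''W₀ hy)))
  obtain ⟨l, hl⟩ := exists_stage_good_chart_rel D c f₁ g₁ hc h₁ hV' hU'' hU''V' hflat₁
    f g qYj qXj hYj hXj
    (fun y hy => by
      rw [good_pullback_pullback_iff f qXj _ qX hqX h₀ y]
      have h' : eX.inv (eX.hom y) ∈ W := hU'W (hU''U' hy)
      rw [← Scheme.Hom.comp_apply, Iso.hom_inv_id] at h'
      exact h'.1)
  -- assembly
  have hYi : IsPullback (pullback.fst g₁ (D.map l.hom) ≫ pullback.fst g₀ (D.map j.hom))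
      (pullback.snd g₁ (D.map l.hom)) g₀ (D.map (l.hom ≫ j.hom)) := by
    rw [D.map_comp]
    exact (IsPullback.of_hasPullback g₁ (D.map l.hom)).paste_horiz
      (IsPullback.of_hasPullback g₀ (D.map j.hom))
  have hXi : IsPullback
      (pullback.fst (f₁ ≫ g₁) (D.map l.hom) ≫ pullback.fst (f₀ ≫ g₀) (D.map j.hom))
      (bcMap f₁ g₁ (D.map l.hom)) f₀
      (pullback.fst g₁ (D.map l.hom) ≫ pullback.fst g₀ (D.map j.hom)) :=
    (isPullback_bcMap f₁ g₁ (D.map l.hom)).paste_horiz (isPullback_bcMap f₀ g₀ (D.map j.hom))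
  let vY : Y ⟶ pullback g₁ (D.map l.hom) :=
    hYi.lift qY (g ≫ c.π.app l.left) (by rw [Category.assoc, c.w, hY.w])
  have hvY1 : vY ≫ (pullback.fst g₁ (D.map l.hom) ≫ pullback.fst g₀ (D.map j.hom)) = qY :=
    hYi.lift_fst _ _ _
  have hvY2 : vY ≫ pullback.snd g₁ (D.map l.hom) = g ≫ c.π.app l.left := hYi.lift_snd _ _ _
  let vX : X ⟶ pullback (f₁ ≫ g₁) (D.map l.hom) :=
    hXi.lift qX (f ≫ vY) (by rw [Category.assoc, hvY1, hX.w])
  have hvX1 : vX ≫ (pullback.fst (f₁ ≫ g₁) (D.map l.hom) ≫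
      pullback.fst (f₀ ≫ g₀) (D.map j.hom)) = qX := hXi.lift_fst _ _ _
  have hvX2 : vX ≫ bcMap f₁ g₁ (D.map l.hom) = f ≫ vY := hXi.lift_snd _ _ _
  refine ⟨l.left, l.hom ≫ j.hom, _, _, bcMap f₁ g₁ (D.map l.hom), pullback.snd g₁ (D.map l.hom),
    _, _, vY, vX, hYi, hXi, hvY1, hvY2, hvX1, hvX2, ?_⟩
  have key : vX ≫ pullback.fst (f₁ ≫ g₁) (D.map l.hom) = qXj := by
    apply pullback.hom_ext
    · rw [Category.assoc, hvX1, hqX]
    · have e1 : pullback.fst (f₁ ≫ g₁) (D.map l.hom) ≫ pullback.snd (f₀ ≫ g₀) (D.map j.hom) =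
          pullback.snd (f₁ ≫ g₁) (D.map l.hom) ≫ D.map l.hom := by
        rw [← pullback.condition]
        congr 1
        exact (bcMap_snd f₀ g₀ (D.map j.hom)).symm
      have e2 : vX ≫ pullback.snd (f₁ ≫ g₁) (D.map l.hom) = f ≫ g ≫ c.π.app l.left := by
        rw [← bcMap_snd f₁ g₁ (D.map l.hom), ← Category.assoc, hvX2, Category.assoc, hvY2]
      rw [Category.assoc, e1, ← Category.assoc, e2, Category.assoc, Category.assoc, c.w]
      rw [Category.assoc, pbProj_snd, reassoc_of% h5]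
  rw [← good_pullback_pullback_iff _ (pullback.fst (f₁ ≫ g₁) (D.map l.hom))
    (pullback.fst (f₀ ≫ g₀) (D.map j.hom)) _ rfl h₀]
  refine hl _ ?_
  rw [← Scheme.Hom.comp_apply, key]
  exact hxU''


set_option maxHeartbeats 1000000 in
/-- **EGA IV 11.2.6-type pointwise descent**: if `h_x` is injective and `Coker h` is flat at `x` at
the limit, the same holds at a stage. -/
theorem exists_stage_good (hc : IsLimit c) [LocallyOfFinitePresentation f₀]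
    {F₀ G₀ : X₀.Modules} [F₀.IsQuasicoherent] [G₀.IsQuasicoherent]
    [SheafOfModules.IsFinitePresentation (R := X₀.ringCatSheaf) F₀]
    [SheafOfModules.IsFinitePresentation (R := X₀.ringCatSheaf) G₀] (h₀ : F₀ ⟶ G₀)
    {X Y : Scheme.{u}} (f : X ⟶ Y) (g : Y ⟶ c.pt) (qY : Y ⟶ Y₀) (qX : X ⟶ X₀)
    (hY : IsPullback qY g g₀ (c.π.app i₀)) (hX : IsPullback qX f f₀ qY) (x : X)
    (hx : Good f ((Scheme.Modules.pullback qX).map h₀) x) :
    ∃ (i : I) (φ : i ⟶ i₀) (Xi Yi : Scheme.{u}) (fi : Xi ⟶ Yi) (gi : Yi ⟶ D.obj i)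
      (pY : Yi ⟶ Y₀) (pX : Xi ⟶ X₀) (vY : Y ⟶ Yi) (vX : X ⟶ Xi),
      IsPullback pY gi g₀ (D.map φ) ∧ IsPullback pX fi f₀ pY ∧
        vY ≫ pY = qY ∧ vY ≫ gi = g ≫ c.π.app i ∧ vX ≫ pX = qX ∧ vX ≫ fi = f ≫ vY ∧
        Good fi ((Scheme.Modules.pullback pX).map h₀) (vX x) := by
  classical
  haveI hqc := Groth.Agent.Lib.H90OXModExact.isQuasicoherent_cokernel h₀
  haveI hcfp : SheafOfModules.IsFinitePresentation (R := X₀.ringCatSheaf)
      (cokernel h₀ : X₀.Modules) := isFinitePresentation_cokernel h₀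
  -- Step A: flatness of the cokernel descends
  obtain ⟨i, φ, Xi, Yi, fi, gi, pY, pX, vY, vX, hYi, hXi, e1, e2, e3, e4, hfl⟩ :=
    exists_stage_isFlatOverAt D c f₀ g₀ hc (cokernel h₀) f g qY qX hY hX x
      ((isFlatOverAt_cokernel_pullback_iff f qX h₀ x).mp hx.2)
  haveI : LocallyOfFinitePresentation fi :=
    MorphismProperty.of_isPullback (P := @LocallyOfFinitePresentation) hXi inferInstance
  haveI : ((Scheme.Modules.pullback pX).obj F₀).IsQuasicoherent :=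
    Groth.Agent.Lib.H72PullbackQCoh.isQuasicoherent_pullback pX F₀
  haveI : ((Scheme.Modules.pullback pX).obj G₀).IsQuasicoherent :=
    Groth.Agent.Lib.H72PullbackQCoh.isQuasicoherent_pullback pX G₀
  haveI : SheafOfModules.IsFinitePresentation (R := Xi.ringCatSheaf)
      ((Scheme.Modules.pullback pX).obj F₀) :=
    Groth.Agent.Lib.Fitting82.isFinitePresentation_pullback pX F₀
  haveI : SheafOfModules.IsFinitePresentation (R := Xi.ringCatSheaf)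
      ((Scheme.Modules.pullback pX).obj G₀) :=
    Groth.Agent.Lib.Fitting82.isFinitePresentation_pullback pX G₀
  haveI hqci := Groth.Agent.Lib.H90OXModExact.isQuasicoherent_cokernel
    ((Scheme.Modules.pullback pX).map h₀)
  haveI : Coh.IsQCoh (cokernel ((Scheme.Modules.pullback pX).map h₀)) := hqci
  have hWo : IsOpen {y : Xi | FlatMod.IsFlatOverAt fi
      (cokernel ((Scheme.Modules.pullback pX).map h₀)) y} :=
    Groth.Agent.S4863.result fi _ (isFinitePresentation_cokernel _)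
  let Wi : Xi.Opens := ⟨_, hWo⟩
  have hxWi : vX x ∈ Wi := (isFlatOverAt_cokernel_pullback_iff fi pX h₀ (vX x)).mpr hfl
  -- the limit squares over stage `i`
  have hYl : IsPullback vY g gi (c.π.app i) := by
    refine IsPullback.of_right ?_ e2 hYi
    rw [e1, c.w φ]
    exact hY
  have hXl : IsPullback vX f fi vY := by
    refine IsPullback.of_right ?_ e4 hXi
    rw [e3, e1]
    exact hX
  -- Step B at the re-based stage
  obtain ⟨i', φ', Xi', Yi', fi', gi', pY', pX', vY', vX', hYi', hXi', e1', e2', e3', e4', hgood'⟩ :=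
    exists_stage_good_of_flat_base D c fi gi hc ((Scheme.Modules.pullback pX).map h₀) Wi
      (fun y hy => hy) f g vY vX hYl hXl x hxWi
      ((good_pullback_pullback_iff f vX pX qX e3 h₀ x).mpr hx)
  refine ⟨i', φ' ≫ φ, Xi', Yi', fi', gi', pY' ≫ pY, pX' ≫ pX, vY', vX', ?_,
    hXi'.paste_horiz hXi, ?_, e2', ?_, e4',
    (good_pullback_pullback_iff fi' pX' pX _ rfl h₀ _).mp hgood'⟩
  · rw [D.map_comp]
    exact hYi'.paste_horiz hYi
  · rw [← Category.assoc, e1', e1]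
  · rw [← Category.assoc, e3', e3]

omit [IsCofiltered I] [∀ {i j : I} (φ : i ⟶ j), IsAffineHom (D.map φ)] in
/-- The easy direction, with given comparison maps. -/
theorem good_of_stage' [LocallyOfFinitePresentation f₀]
    {F₀ G₀ : X₀.Modules} [F₀.IsQuasicoherent] [G₀.IsQuasicoherent]
    [SheafOfModules.IsFinitePresentation (R := X₀.ringCatSheaf) F₀]
    [SheafOfModules.IsFinitePresentation (R := X₀.ringCatSheaf) G₀] (h₀ : F₀ ⟶ G₀)
    {X Y : Scheme.{u}} (f : X ⟶ Y) (qY : Y ⟶ Y₀) (qX : X ⟶ X₀)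
    (hX : IsPullback qX f f₀ qY) {Xi Yi : Scheme.{u}} (fi : Xi ⟶ Yi) (pY : Yi ⟶ Y₀) (pX : Xi ⟶ X₀)
    (hXi : IsPullback pX fi f₀ pY) (vY : Y ⟶ Yi) (vX : X ⟶ Xi) (hvY : vY ≫ pY = qY)
    (hvX : vX ≫ pX = qX) (hvf : vX ≫ fi = f ≫ vY) (x : X)
    (h : Good fi ((Scheme.Modules.pullback pX).map h₀) (vX x)) :
    Good f ((Scheme.Modules.pullback qX).map h₀) x := by
  have sq : IsPullback vX f fi vY := by
    refine IsPullback.of_right ?_ hvf hXi
    rw [hvX, hvY]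
    exact hX
  haveI : LocallyOfFinitePresentation fi :=
    MorphismProperty.of_isPullback (P := @LocallyOfFinitePresentation) hXi inferInstance
  exact good_pullback_comp sq pX qX hvX h₀ x h

end Groth.Agent.Lib.H72InjFlat
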