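import Groth.Agent.Lib.H72FlatModChart
import Groth.Agent.Lib.H72LimMod
import Groth.Agent.Lib.H72InjFlatAlg
import Groth.Agent.Lib.H90OXModExact

/-!
# Injectivity of a morphism of quasi-coherent modules: sections versus stalks (helper72)
-/

set_option autoImplicit false
set_option linter.style.haveILetI false
universe u

open CategoryTheory AlgebraicGeometry TopologicalSpace Opposite TensorProduct Limits

namespace Groth.Agent.Lib.H72InjFlat

open Groth.Agent.Lib.ModStalkLin Groth.Agent.Lib.QCohStalk Groth.Agent.Lib.H72PullbackNat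

variable {X : Scheme.{u}}

/-- If a function `s` on the affine open `U`, invertible at `y ∈ U`, kills the kernel of `Γ(φ, U)`,
then `φ_y` is injective. -/
theorem stalkLin_injective_of_kill {M N : X.Modules} [M.IsQuasicoherent] [N.IsQuasicoherent]
    (φ : M ⟶ N) {U : X.Opens} (hU : IsAffineOpen U) (s : Γ(X, U))
    (hs : ∀ k : Γ(M, U), φ.app U k = 0 → s • k = 0) (y : X) (hy : y ∈ U)
    (hsy : IsUnit (X.presheaf.germ U y hy s)) : Function.Injective (stalkLin φ y) := by
  rw [injective_iff_map_eq_zero]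
  intro m hm
  obtain ⟨g, t, hg, hgt⟩ := exists_germ_smul_eq_germ M hU y hy m
  have h1 : N.presheaf.germ U y hy (φ.app U t) = 0 := by
    rw [← stalkLin_germ, ← hgt, map_smul, hm, smul_zero]
  obtain ⟨g', hg', hg't⟩ := exists_smul_eq_zero_of_germ_eq_zero N hU y hy _ h1
  have h2 : φ.app U (g' • t) = 0 := by
    rw [Scheme.Modules.Hom.app_smul, hg't]
  have h3 := hs _ h2
  have h4 : M.presheaf.germ U y hy t = 0 := by
    have := congrArg (M.presheaf.germ U y hy) h3
    rw [germ_smul, germ_smul, map_zero] at this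
    exact (hg'.smul_eq_zero).mp ((hsy.smul_eq_zero).mp this)
  rw [h4] at hgt
  exact (hg.smul_eq_zero).mp hgt

/-- Injectivity on sections over an affine open gives injectivity on the stalks. -/
theorem stalkLin_injective_of_app_injective {M N : X.Modules} [M.IsQuasicoherent]
    [N.IsQuasicoherent] (φ : M ⟶ N) {U : X.Opens} (hU : IsAffineOpen U)
    (h : Function.Injective (φ.app U)) (y : X) (hy : y ∈ U) :
    Function.Injective (stalkLin φ y) := by
  refine stalkLin_injective_of_kill φ hU 1 (fun k hk => ?_) y hy (by rw [map_one]; exact isUnit_one)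
  have : k = 0 := h (by rw [hk, map_zero])
  rw [this, smul_zero]

/-- Injectivity on all stalks over `U` gives injectivity on sections over `U`. -/
theorem app_injective_of_forall_stalkLin {M N : X.Modules} (φ : M ⟶ N) (U : X.Opens)
    (h : ∀ x ∈ U, Function.Injective (stalkLin φ x)) : Function.Injective (φ.app U) := by
  intro s t hst
  apply TopCat.Presheaf.section_ext (⟨M.presheaf, M.isSheaf⟩ : TopCat.Sheaf AddCommGrpCat X) U
  intro x hx
  apply h x hx
  rw [stalkLin_germ, stalkLin_germ, hst]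


section Coker

variable {M N : X.Modules} [M.IsQuasicoherent] [N.IsQuasicoherent] (φ : M ⟶ N)

theorem cokernel_app_surjective {U : X.Opens} (hU : IsAffineOpen U) :
    Function.Surjective ((cokernel.π φ).app U) :=
  haveI := Groth.Agent.Lib.H90OXModExact.isQuasicoherent_cokernel φ
  Groth.Agent.Lib.H90OXModExact.surjective_app_of_epi (cokernel.π φ) hU

theorem cokernel_app_exact {U : X.Opens} (hU : IsAffineOpen U) :
    Function.Exact (φ.app U) ((cokernel.π φ).app U) := by
  haveI := Groth.Agent.Lib.H90OXModExact.isQuasicoherent_cokernel φ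
  intro s
  constructor
  · intro hs
    exact Groth.Agent.Lib.H90OXModExact.sections_exact_of_isAffineOpen
      (S := ShortComplex.mk φ (cokernel.π φ) (cokernel.condition φ))
      (ShortComplex.exact_cokernel φ) hU s hs
  · rintro ⟨t, rfl⟩
    have h : (φ ≫ cokernel.π φ).app U t = 0 := by
      rw [cokernel.condition]
      rfl
    exact h

theorem secModMap_cokernel_surjective {U : X.Opens} (hU : IsAffineOpen U) :
    Function.Surjective (secModMap (cokernel.π φ) U).hom :=
  cokernel_app_surjective φ hU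

theorem secModMap_cokernel_exact {U : X.Opens} (hU : IsAffineOpen U) :
    Function.Exact (secModMap φ U).hom (secModMap (cokernel.π φ) U).hom :=
  cokernel_app_exact φ hU

/-- The cokernel of a morphism from a finite type module to a finitely presented module is finitely
presented (sections over an affine open). -/
theorem finitePresentation_sections_cokernel {U : X.Opens} (hU : IsAffineOpen U)
    [Module.Finite Γ(X, U) Γ(M, U)] [Module.FinitePresentation Γ(X, U) Γ(N, U)] :
    Module.FinitePresentation Γ(X, U) Γ(cokernel φ, U) := by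
  refine Module.finitePresentation_of_surjective (secModMap (cokernel.π φ) U).hom
    (secModMap_cokernel_surjective φ hU) ?_
  rw [LinearMap.exact_iff.mp (secModMap_cokernel_exact φ hU), LinearMap.range_eq_map]
  exact Submodule.FG.map _ Module.Finite.fg_top

end Coker


section Chart

variable {Y X' Y' : Scheme.{u}} {f : X ⟶ Y} {f' : X' ⟶ Y'} {p' : X' ⟶ X} {p : Y' ⟶ Y}

open Groth.Agent.Lib.H72FlatModChart Groth.Agent.Lib.H72InjFlatAlg in
/-- **Injectivity on a chart of a fibre product.** In a cartesian square `X' = X ×_Y Y'`, for affine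
opens `U ≤ f⁻¹V`, `V' ≤ p⁻¹V` and `ψ` a morphism of quasi-coherent modules on `X`: `p'^*ψ` is injective
on the sections over the chart `p'⁻¹U ⊓ f'⁻¹V'` iff `Γ(Y',V') ⊗_{Γ(Y,V)} Γ(ψ,U)` is injective. -/
theorem injective_chart_iff (H : IsPullback p' f' f p) {F' F : X.Modules} [F'.IsQuasicoherent]
    [F.IsQuasicoherent] (ψ : F' ⟶ F) {V : Y.Opens} {U : X.Opens} {V' : Y'.Opens}
    (hV : IsAffineOpen V) (hU : IsAffineOpen U) (hV' : IsAffineOpen V')
    (hUV : U ≤ f ⁻¹ᵁ V) (hV'V : V' ≤ p ⁻¹ᵁ V) :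
    letI : Algebra Γ(Y, V) Γ(Y', V') := (p.appLE V V' hV'V).hom.toAlgebra
    letI : Algebra Γ(Y, V) Γ(X, U) := (f.appLE V U hUV).hom.toAlgebra
    letI : Module Γ(Y, V) Γ(F', U) := Module.compHom _ (f.appLE V U hUV).hom
    letI : Module Γ(Y, V) Γ(F, U) := Module.compHom _ (f.appLE V U hUV).hom
    haveI : IsScalarTower Γ(Y, V) Γ(X, U) Γ(F', U) := .of_algebraMap_smul fun _ _ => rfl
    haveI : IsScalarTower Γ(Y, V) Γ(X, U) Γ(F, U) := .of_algebraMap_smul fun _ _ => rfl
    Function.Injective (((Scheme.Modules.pullback p').map ψ).app (p' ⁻¹ᵁ U ⊓ f' ⁻¹ᵁ V')) ↔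
      Function.Injective (((secModMap ψ U).hom.restrictScalars Γ(Y, V)).lTensor Γ(Y', V')) := by
  letI algRS : Algebra Γ(Y, V) Γ(Y', V') := (p.appLE V V' hV'V).hom.toAlgebra
  letI algRA : Algebra Γ(Y, V) Γ(X, U) := (f.appLE V U hUV).hom.toAlgebra
  letI modRM' : Module Γ(Y, V) Γ(F', U) := Module.compHom _ (f.appLE V U hUV).hom
  letI modRM : Module Γ(Y, V) Γ(F, U) := Module.compHom _ (f.appLE V U hUV).hom
  haveI : IsScalarTower Γ(Y, V) Γ(X, U) Γ(F', U) := .of_algebraMap_smul fun _ _ => rfl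
  haveI : IsScalarTower Γ(Y, V) Γ(X, U) Γ(F, U) := .of_algebraMap_smul fun _ _ => rfl
  set U' : X'.Opens := p' ⁻¹ᵁ U ⊓ f' ⁻¹ᵁ V' with hU'def
  have hU' : IsAffineOpen U' := isAffineOpen_chart H hV hU hV' hUV hV'V
  letI algAB : Algebra Γ(X, U) Γ(X', U') := (p'.appLE U U' inf_le_left).hom.toAlgebra
  letI algSB : Algebra Γ(Y', V') Γ(X', U') := (f'.appLE V' U' inf_le_right).hom.toAlgebra
  letI algRB : Algebra Γ(Y, V) Γ(X', U') :=
    ((p'.appLE U U' inf_le_left).hom.comp (f.appLE V U hUV).hom).toAlgebra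
  haveI : IsScalarTower Γ(Y, V) Γ(X, U) Γ(X', U') := IsScalarTower.of_algebraMap_eq' rfl
  have hcomm : f.appLE V U hUV ≫ p'.appLE U U' inf_le_left =
      p.appLE V V' hV'V ≫ f'.appLE V' U' inf_le_right :=
    (isPushout_chart H hV hU hV' hUV hV'V).w
  haveI : IsScalarTower Γ(Y, V) Γ(Y', V') Γ(X', U') :=
    IsScalarTower.of_algebraMap_eq fun r => congr($(hcomm).hom r)
  have hpo : Algebra.IsPushout Γ(Y, V) Γ(X, U) Γ(Y', V') Γ(X', U') :=
    CommRingCat.isPushout_iff_isPushout.mp (isPushout_chart H hV hU hV' hUV hV'V)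
  haveI : Algebra.IsPushout Γ(Y, V) Γ(Y', V') Γ(X, U) Γ(X', U') := hpo.symm
  have h1 := (Groth.Agent.Lib.H72LimMod.chart p' ψ hU' hU (inf_le_left : U' ≤ p' ⁻¹ᵁ U)).2.2
  exact h1.trans (injective_lTensor_iff_of_isPushout Γ(Y, V) Γ(Y', V') Γ(X, U) Γ(X', U')
    (secModMap ψ U).hom)

end Chart

end Groth.Agent.Lib.H72InjFlat
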