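import Mathlib.AlgebraicGeometry.AffineTransitionLimit
import Mathlib.Topology.Category.TopCat.Limits.Basic

/-!
Underlying topological space of a cofiltered limit of schemes with affine transition maps:
it is the limit of the underlying spaces.
-/

set_option autoImplicit false
universe u

open CategoryTheory CategoryTheory.Limits AlgebraicGeometry

namespace Groth.Agent.Lib.LimTop

section Ring

variable {J : Type*} [Category J] [IsFiltered J] (F : J ⥤ CommRingCat.{u}) (t : Cocone F)
  (hsurj : ∀ a : t.pt, ∃ (j : J) (b : F.obj j), t.ι.app j b = a)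
  (heq : ∀ {j : J} (b b' : F.obj j), t.ι.app j b = t.ι.app j b' →
    ∃ (k : J) (f : j ⟶ k), F.map f b = F.map f b')
  (p : ∀ j, Ideal (F.obj j)) (hp : ∀ j, (p j).IsPrime)
  (hcomp : ∀ {j k : J} (f : j ⟶ k), (p k).comap (F.map f).hom = p j)

include heq hcomp in
theorem mem_of_ι_eq {j k : J} (b : F.obj j) (c : F.obj k) (hc : c ∈ p k)
    (h : t.ι.app j b = t.ι.app k c) : b ∈ p j := by
  let l := IsFiltered.max j k
  let f : j ⟶ l := IsFiltered.leftToMax j k
  let g : k ⟶ l := IsFiltered.rightToMax j k
  have h1 : t.ι.app l (F.map f b) = t.ι.app l (F.map g c) := by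
    have e1 : t.ι.app l (F.map f b) = t.ι.app j b := by
      rw [← t.w f]; rfl
    have e2 : t.ι.app l (F.map g c) = t.ι.app k c := by
      rw [← t.w g]; rfl
    rw [e1, e2, h]
  obtain ⟨m, e, he⟩ := heq _ _ h1
  have h2 : F.map (g ≫ e) c ∈ p m := by
    have : c ∈ (p m).comap (F.map (g ≫ e)).hom := by rw [hcomp]; exact hc
    exact this
  have h3 : F.map (f ≫ e) b = F.map (g ≫ e) c := by
    simp only [Functor.map_comp, CommRingCat.comp_apply]
    exact he
  rw [← hcomp (f ≫ e)]
  change F.map (f ≫ e) b ∈ p m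
  rw [h3]
  exact h2

include hsurj heq hp hcomp in
theorem exists_prime :
    ∃ P : Ideal t.pt, P.IsPrime ∧ ∀ j, P.comap (t.ι.app j).hom = p j := by
  have hne : Nonempty J := IsFiltered.nonempty
  have hmap : ∀ {j k : J} (f : j ⟶ k) (b : F.obj j), b ∈ p j → F.map f b ∈ p k := by
    intro j k f b hb
    rw [← hcomp f] at hb
    exact hb
  have hw : ∀ {j k : J} (f : j ⟶ k) (b : F.obj j), t.ι.app k (F.map f b) = t.ι.app j b := by
    intro j k f b
    rw [← t.w f]; rfl
  let P : Ideal t.pt :=
    { carrier := {a | ∃ (j : J) (b : F.obj j), b ∈ p j ∧ t.ι.app j b = a}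
      zero_mem' := by
        obtain ⟨j⟩ := hne
        exact ⟨j, 0, (p j).zero_mem, map_zero _⟩
      add_mem' := by
        rintro _ _ ⟨j, b, hb, rfl⟩ ⟨k, c, hc, rfl⟩
        refine ⟨IsFiltered.max j k, F.map (IsFiltered.leftToMax j k) b +
          F.map (IsFiltered.rightToMax j k) c,
          (p _).add_mem (hmap _ _ hb) (hmap _ _ hc), ?_⟩
        rw [map_add, hw, hw]
      smul_mem' := by
        rintro r _ ⟨j, b, hb, rfl⟩
        obtain ⟨k, r', rfl⟩ := hsurj r
        refine ⟨IsFiltered.max j k, F.map (IsFiltered.rightToMax j k) r' *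
          F.map (IsFiltered.leftToMax j k) b,
          (p _).mul_mem_left _ (hmap _ _ hb), ?_⟩
        rw [map_mul, hw, hw]
        rfl }
  have hP : ∀ {j : J} (b : F.obj j), t.ι.app j b ∈ P → b ∈ p j := by
    rintro j b ⟨k, c, hc, h⟩
    exact mem_of_ι_eq F t heq p hcomp b c hc h.symm
  refine ⟨P, ⟨?_, ?_⟩, fun j => ?_⟩
  · intro htop
    obtain ⟨j⟩ := hne
    have h1 : (1 : t.pt) ∈ P := htop ▸ Submodule.mem_top
    have h2 : (1 : F.obj j) ∈ p j := hP 1 (by rw [map_one]; exact h1)
    exact (hp j).ne_top ((p j).eq_top_of_isUnit_mem h2 isUnit_one)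
  · intro x y hxy
    obtain ⟨j, b, rfl⟩ := hsurj x
    obtain ⟨k, c, rfl⟩ := hsurj y
    let l := IsFiltered.max j k
    have hb : t.ι.app l (F.map (IsFiltered.leftToMax j k) b) = t.ι.app j b := hw _ _
    have hc : t.ι.app l (F.map (IsFiltered.rightToMax j k) c) = t.ι.app k c := hw _ _
    rw [← hb, ← hc, ← map_mul] at hxy
    rcases (hp l).mem_or_mem (hP _ hxy) with h | h
    · left
      rw [← hb]
      exact ⟨l, _, h, rfl⟩
    · right
      rw [← hc]
      exact ⟨l, _, h, rfl⟩
  · ext b
    constructor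
    · intro hb
      exact hP b hb
    · intro hb
      exact ⟨j, b, hb, rfl⟩

end Ring

section Affine

variable {I : Type u} [Category.{u} I] [IsCofiltered I] (D : I ⥤ Scheme.{u}) (c : Cone D)
  (hc : IsLimit c)

/-- the prime of global sections attached to a point of an affine scheme -/
noncomputable def primeOf (X : Scheme.{u}) [IsAffine X] (x : X) : Ideal Γ(X, ⊤) :=
  (X.isoSpec.hom.base x).asIdeal

instance (X : Scheme.{u}) [IsAffine X] (x : X) : (primeOf X x).IsPrime :=
  (X.isoSpec.hom.base x).isPrime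

theorem primeOf_injective (X : Scheme.{u}) [IsAffine X] {x y : X} (h : primeOf X x = primeOf X y) :
    x = y := by
  have h1 : X.isoSpec.hom.base x = X.isoSpec.hom.base y := PrimeSpectrum.ext h
  have := congrArg X.isoSpec.inv.base h1
  simpa using this

theorem primeOf_map {X Y : Scheme.{u}} [IsAffine X] [IsAffine Y] (f : X ⟶ Y) (x : X) :
    primeOf Y (f.base x) = (primeOf X x).comap f.appTop.hom := by
  have h := Scheme.isoSpec_hom_naturality f
  have h2 := congrArg (fun g => g.base x) h
  simp only [Scheme.Hom.comp_base, TopCat.hom_comp, ContinuousMap.comp_apply] at h2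
  unfold primeOf
  rw [← h2]
  rfl

include hc in
theorem exists_point_of_isAffine [∀ i, IsAffine (D.obj i)] (x : ∀ i, D.obj i)
    (hx : ∀ {i j : I} (f : i ⟶ j), (D.map f).base (x i) = x j) :
    ∃ s : c.pt, ∀ i, (c.π.app i).base s = x i := by
  have : IsAffine c.pt := Scheme.isAffine_of_isLimit c hc
  have : ∀ i, IsAffine (D.op.obj i).unop := by dsimp; infer_instance
  have ht := isColimitOfPreserves (Scheme.Γ ⋙ forget _) hc.op
  obtain ⟨P, hP, hPc⟩ := exists_prime (D.op ⋙ Scheme.Γ) (Scheme.Γ.mapCocone c.op)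
    (fun a => by
      obtain ⟨j, b, hb⟩ := Types.jointly_surjective_of_isColimit ht a
      exact ⟨j, b, hb⟩)
    (fun {j} b b' h => by
      obtain ⟨k, f, hk⟩ := (Types.FilteredColimit.isColimit_eq_iff' ht b b').mp h
      exact ⟨k, f, hk⟩)
    (fun j => primeOf (D.obj j.unop) (x j.unop))
    (fun j => ((D.obj j.unop).isoSpec.hom.base (x j.unop)).isPrime)
    (fun {j k} f => by
      have := primeOf_map (D.map f.unop) (x k.unop)
      rw [hx] at this
      exact this.symm)
  let s : c.pt := c.pt.isoSpec.inv.base ⟨P, hP⟩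
  have hs : primeOf c.pt s = P := by
    unfold primeOf
    have : c.pt.isoSpec.hom.base s = ⟨P, hP⟩ := by
      change (c.pt.isoSpec.inv ≫ c.pt.isoSpec.hom).base ⟨P, hP⟩ = _
      simp
    rw [this]
  refine ⟨s, fun i => ?_⟩
  apply primeOf_injective
  have h1 := primeOf_map (X := c.pt) (Y := D.obj i) (c.π.app i) s
  rw [h1, hs]
  exact hPc (Opposite.op i)

end Affine

section General

variable {I : Type u} [Category.{u} I] [IsCofiltered I] (D : I ⥤ Scheme.{u})
  [∀ {i j : I} (f : i ⟶ j), IsAffineHom (D.map f)] (c : Cone D) (hc : IsLimit c)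

include hc in
/-- every compatible family of points comes from a point of the limit -/
theorem exists_point (x : ∀ i, D.obj i)
    (hx : ∀ {i j : I} (f : i ⟶ j), (D.map f).base (x i) = x j) :
    ∃ s : c.pt, ∀ i, (c.π.app i).base s = x i := by
  obtain ⟨i₀⟩ := IsCofiltered.nonempty (C := I)
  obtain ⟨_, ⟨U, hU : IsAffineOpen U, rfl⟩, hxU, -⟩ :=
    (D.obj i₀).isBasis_affineOpens.exists_subset_of_mem_open (Set.mem_univ (x i₀)) isOpen_univ
  have (j : Over i₀) : IsAffine ((opensDiagram D i₀ U).obj j) := hU.preimage _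
  have hmem : ∀ j : Over i₀, x j.left ∈ D.map j.hom ⁻¹ᵁ U := fun j => by
    change (D.map j.hom).base (x j.left) ∈ U
    rw [hx]; exact hxU
  obtain ⟨s, hs⟩ := exists_point_of_isAffine (opensDiagram D i₀ U) (opensCone D c i₀ U)
    (isLimitOpensCone D c hc i₀ U) (fun j => ⟨x j.left, hmem j⟩) (fun {j k} f => by
      apply Subtype.ext
      exact (Scheme.Hom.coe_resLE_apply (D.map f.left) _ ⟨x j.left, hmem j⟩).trans (hx f.left))
  refine ⟨s.1, fun k => ?_⟩
  let l := IsCofiltered.min k i₀
  let a : l ⟶ k := IsCofiltered.minToLeft k i₀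
  let b : l ⟶ i₀ := IsCofiltered.minToRight k i₀
  have h1 : (c.π.app l).base s.1 = x l :=
    (Scheme.Hom.coe_resLE_apply (c.π.app l) _ s).symm.trans
      (congrArg Subtype.val (hs (Over.mk b)))
  have h2 : (c.π.app k).base s.1 = (D.map a).base ((c.π.app l).base s.1) := by
    rw [← c.w a]; rfl
  rw [h2, h1]
  exact hx a

end General

section Top

variable {I : Type u} [Category.{u} I] [IsCofiltered I] (D : I ⥤ Scheme.{u})
  [∀ {i j : I} (f : i ⟶ j), IsAffineHom (D.map f)] (c : Cone D) (hc : IsLimit c)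

include hc in
/-- a point of the limit is determined by its images -/
theorem point_ext {s s' : c.pt} (h : ∀ i, (c.π.app i).base s = (c.π.app i).base s') : s = s' := by
  have hb := isBasis_preimage_isAffineOpen D c hc
  apply Inseparable.eq
  rw [hb.inseparable_iff]
  rintro _ ⟨_, ⟨i, V, hV, rfl⟩, rfl⟩
  change (c.π.app i).base s ∈ V ↔ (c.π.app i).base s' ∈ V
  rw [h]

include hc in
/-- the topology of the limit is induced by the projections -/
theorem topology_eq_iInf :
    (inferInstance : TopologicalSpace c.pt) =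
      ⨅ i, TopologicalSpace.induced (c.π.app i).base (inferInstance : TopologicalSpace (D.obj i)) := by
  apply le_antisymm
  · exact le_iInf fun i => (c.π.app i).base.hom.continuous.le_induced
  · have hb := isBasis_preimage_isAffineOpen D c hc
    rw [hb.eq_generateFrom]
    apply le_generateFrom
    rintro _ ⟨_, ⟨i, V, hV, rfl⟩, rfl⟩
    exact (iInf_le (fun i => (TopologicalSpace.induced (c.π.app i).base
      (inferInstance : TopologicalSpace (D.obj i)) : TopologicalSpace c.pt)) i) _
      (isOpen_induced_iff.mpr ⟨V, V.2, rfl⟩)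

include hc in
/-- the underlying space of the limit is the limit of the underlying spaces -/
theorem nonempty_isLimit_forgetToTop :
    Nonempty (IsLimit (Scheme.forgetToTop.mapCone c)) := by
  have h1 : Nonempty (IsLimit ((forget TopCat).mapCone (Scheme.forgetToTop.mapCone c))) := by
    rw [Types.isLimit_iff]
    intro s hs
    obtain ⟨x, hx⟩ := exists_point D c hc (fun i => s i) (fun f => hs f)
    exact ⟨x, hx, fun y hy => point_ext D c hc (fun i => (hy i).trans (hx i).symm)⟩
  obtain ⟨h1⟩ := h1
  rw [TopCat.nonempty_isLimit_iff_eq_induced _ h1]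
  exact topology_eq_iInf D c hc

end Top

end Groth.Agent.Lib.LimTop
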