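import Mathlib
import Groth.Agent.Lib.LimTop

/-!
# Maximal points and dense opens in cofiltered limits of schemes (helper72)

* `exists_maximal_specializes`: every point of a quasi-sober T0 space has a maximal generization;
* `mem_of_dense_of_isMax`, `dense_of_forall_isMax`: dense opens versus maximal points;
* `specializes_of_forall`: specialization in a limit of schemes is tested on the stages;
* `isMax_iff` (= S5106), `dense_statement` (= S5110).
-/

set_option autoImplicit false
set_option linter.style.haveILetI false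
universe u
open CategoryTheory Limits AlgebraicGeometry

namespace Groth.Agent.Lib.H72MaxPts

/-- Every point of a quasi-sober T0 space has a maximal generization. -/
theorem exists_maximal_specializes {α : Type*} [TopologicalSpace α] [QuasiSober α] [T0Space α]
    (s : α) : ∃ m : α, (∀ z : α, z ⤳ m → z = m) ∧ m ⤳ s := by
  have hirr : IsIrreducible (irreducibleComponent s) := isIrreducible_irreducibleComponent
  have hcl : IsClosed (irreducibleComponent s) := isClosed_irreducibleComponent
  have hgen := hirr.isGenericPoint_genericPoint hcl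
  refine ⟨hirr.genericPoint, fun z hz => ?_, ?_⟩
  · -- closure {z} is irreducible and contains the component
    have h1 : irreducibleComponent s ⊆ closure {z} := by
      rw [← hgen.def]
      exact closure_minimal (Set.singleton_subset_iff.mpr hz.mem_closure) isClosed_closure
    have h2 : IsIrreducible (closure ({z} : Set α)) := isIrreducible_singleton.closure
    have h3 : closure ({z} : Set α) = irreducibleComponent s :=
      eq_irreducibleComponent h2.isPreirreducible h1
    have h4 : IsGenericPoint z (irreducibleComponent s) := h3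
    exact h4.eq hgen
  · exact hgen.specializes mem_irreducibleComponent

/-- In a quasi-sober T0 space with finitely many maximal points, a dense open set contains every
maximal point. -/
theorem mem_of_dense_of_isMax {α : Type*} [TopologicalSpace α] [QuasiSober α] [T0Space α]
    (hfin : {s : α | ∀ z : α, z ⤳ s → z = s}.Finite) {V : Set α} (hVo : IsOpen V) (hV : Dense V)
    {m : α} (hm : ∀ z : α, z ⤳ m → z = m) : m ∈ V := by
  classical
  let M : Set α := {s : α | (∀ z : α, z ⤳ s → z = s) ∧ s ≠ m}
  have hMfin : M.Finite := hfin.subset (fun s hs => hs.1)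
  let C : Set α := ⋃ s ∈ M, closure {s}
  have hC : IsClosed C := hMfin.isClosed_biUnion (fun s _ => isClosed_closure)
  have hmC : m ∈ Cᶜ := by
    intro hmem
    obtain ⟨s, hsM, hms⟩ := Set.mem_iUnion₂.mp hmem
    have h1 : s ⤳ m := specializes_iff_mem_closure.mpr hms
    exact hsM.2 (hm s h1)
  obtain ⟨y, hyC, hyV⟩ := hV.inter_open_nonempty Cᶜ hC.isOpen_compl ⟨m, hmC⟩
  obtain ⟨m', hm'max, hm'y⟩ := exists_maximal_specializes y
  have hmm' : m' = m := by
    by_contra hne
    exact hyC (Set.mem_iUnion₂.mpr ⟨m', ⟨hm'max, hne⟩, hm'y.mem_closure⟩)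
  rw [hmm'] at hm'y
  exact hm'y.mem_open hVo hyV

/-- An open set containing all maximal points is dense. -/
theorem dense_of_forall_isMax {α : Type*} [TopologicalSpace α] [QuasiSober α] [T0Space α]
    {V : Set α} (h : ∀ m : α, (∀ z : α, z ⤳ m → z = m) → m ∈ V) : Dense V := by
  rw [dense_iff_inter_open]
  intro B hB ⟨s, hs⟩
  obtain ⟨m, hmax, hms⟩ := exists_maximal_specializes s
  exact ⟨m, hms.mem_open hB hs, h m hmax⟩

section Lim

variable {I : Type u} [SmallCategory I] [IsCofiltered I] (D : I ⥤ Scheme.{u}) (c : Cone D)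
  (hc : IsLimit c) [∀ {i j : I} (g : i ⟶ j), IsAffineHom (D.map g)]

include hc in
/-- Specialization in the limit can be tested on the stages. -/
theorem specializes_of_forall (m s : c.pt) (h : ∀ i, c.π.app i m ⤳ c.π.app i s) : m ⤳ s := by
  rw [specializes_iff_forall_open]
  intro O hO hs
  have hb := isBasis_preimage_isAffineOpen D c hc
  obtain ⟨_, ⟨_, ⟨i, V, hV, rfl⟩, rfl⟩, hsB, hBO⟩ := hb.exists_subset_of_mem_open hs hO
  exact hBO ((h i).mem_open V.2 hsB)

include hc in
/-- **Maximal points of a limit** (EGA IV 8.4-type statement). -/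
theorem isMax_iff
    (hfin : ∀ i : I, {s : ↥(D.obj i) | ∀ z : ↥(D.obj i), z ⤳ s → z = s}.Finite)
    (hsys : ∀ (i j : I) (g : i ⟶ j) (s : ↥(D.obj i)), (∀ z : ↥(D.obj i), z ⤳ s → z = s) →
      ∀ z : ↥(D.obj j), z ⤳ D.map g s → z = D.map g s)
    (s : ↥c.pt) :
    (∀ z : ↥c.pt, z ⤳ s → z = s) ↔
      ∀ (i : I) (z : ↥(D.obj i)), z ⤳ c.π.app i s → z = c.π.app i s := by
  constructor
  · intro hs
    let T : ∀ i : I, Set ↥(D.obj i) := fun i =>
      {m | (∀ z : ↥(D.obj i), z ⤳ m → z = m) ∧ m ⤳ c.π.app i s}
    have hw : ∀ {i j : I} (g : i ⟶ j) (x : c.pt), D.map g (c.π.app i x) = c.π.app j x := by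
      intro i j g x
      rw [← c.w g]
      rfl
    let F : I ⥤ Type u :=
      { obj := fun i => T i
        map := fun {i j} g => TypeCat.ofHom (fun m : T i => (⟨D.map g m.1, hsys i j g m.1 m.2.1, by
          have h1 := m.2.2.map (D.map g).continuous
          rwa [hw g s] at h1⟩ : T j))
        map_id := fun i => by
          ext m
          change D.map (𝟙 i) m.1 = m.1
          simp
        map_comp := fun g g' => by
          ext m
          change D.map (g ≫ g') m.1 = D.map g' (D.map g m.1)
          simp }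
    haveI : ∀ i, Finite (F.obj i) := fun i =>
      ((hfin i).subset (fun m hm => hm.1)).to_subtype
    haveI : ∀ i, Nonempty (F.obj i) := fun i => by
      obtain ⟨m, hm1, hm2⟩ := exists_maximal_specializes (c.π.app i s)
      exact ⟨⟨m, hm1, hm2⟩⟩
    obtain ⟨u, hu⟩ := nonempty_sections_of_finite_cofiltered_system F
    obtain ⟨m, hm⟩ := Groth.Agent.Lib.LimTop.exists_point D c hc (fun i => (u i).1)
      (fun {i j} g => by
        have h1 := congrArg Subtype.val (hu g)
        exact h1)
    have hms : m ⤳ s := specializes_of_forall D c hc m s (fun i => by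
      rw [hm i]
      exact (u i).2.2)
    have hme := hs m hms
    subst hme
    intro i z hz
    have h2 : c.π.app i m = (u i).1 := hm i
    rw [h2] at hz ⊢
    exact (u i).2.1 z hz
  · intro h z hz
    refine Groth.Agent.Lib.LimTop.point_ext D c hc (fun i => ?_)
    exact h i _ (hz.map (c.π.app i).continuous)

include hc in
/-- **Density of open subsets in a limit** (EGA IV 8.4-type statement). -/
theorem dense_statement
    (hfin : ∀ i : I, {s : ↥(D.obj i) | ∀ z : ↥(D.obj i), z ⤳ s → z = s}.Finite)
    (hsys : ∀ (i j : I) (g : i ⟶ j) (s : ↥(D.obj i)), (∀ z : ↥(D.obj i), z ⤳ s → z = s) →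
      ∀ z : ↥(D.obj j), z ⤳ D.map g s → z = D.map g s)
    (i₀ : I) (V₀ : (D.obj i₀).Opens) :
    (Dense (V₀ : Set ↥(D.obj i₀)) →
        (∀ (i : I) (g : i ⟶ i₀), Dense (((D.map g) ⁻¹ᵁ V₀ : (D.obj i).Opens) : Set ↥(D.obj i))) ∧
          Dense (((c.π.app i₀) ⁻¹ᵁ V₀ : c.pt.Opens) : Set ↥c.pt)) ∧
      (Dense (((c.π.app i₀) ⁻¹ᵁ V₀ : c.pt.Opens) : Set ↥c.pt) →
        {s : ↥c.pt | ∀ z : ↥c.pt, z ⤳ s → z = s}.Finite →
          ∃ (i : I) (g : i ⟶ i₀), Dense (((D.map g) ⁻¹ᵁ V₀ : (D.obj i).Opens) : Set ↥(D.obj i))) := by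
  constructor
  · intro hV₀
    refine ⟨fun i g => ?_, ?_⟩
    · refine dense_of_forall_isMax (fun m hm => ?_)
      exact mem_of_dense_of_isMax (hfin i₀) V₀.2 hV₀ (hsys i i₀ g m hm)
    · refine dense_of_forall_isMax (fun m hm => ?_)
      exact mem_of_dense_of_isMax (hfin i₀) V₀.2 hV₀
        ((isMax_iff D c hc hfin hsys m).mp hm i₀)
  · intro hV hSfin
    by_contra hcon
    push Not at hcon
    -- the bad maximal points over `i₀`
    let Bad : ∀ k : Over i₀, Set ↥(D.obj k.left) := fun k =>
      {m | (∀ z : ↥(D.obj k.left), z ⤳ m → z = m) ∧ D.map k.hom m ∉ V₀}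
    have hBadne : ∀ k : Over i₀, (Bad k).Nonempty := by
      intro k
      by_contra hemp
      rw [Set.not_nonempty_iff_eq_empty] at hemp
      refine hcon k.left k.hom (dense_of_forall_isMax (fun m hm => ?_))
      by_contra hmV
      have : m ∈ Bad k := ⟨hm, hmV⟩
      rw [hemp] at this
      exact this
    let F : Over i₀ ⥤ Type u :=
      { obj := fun k => Bad k
        map := fun {k l} g => TypeCat.ofHom (fun m : Bad k =>
          (⟨D.map g.left m.1, hsys _ _ g.left m.1 m.2.1, by
            have h1 : D.map l.hom (D.map g.left m.1) = D.map k.hom m.1 := by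
              rw [← Over.w g, D.map_comp]
              rfl
            rw [h1]
            exact m.2.2⟩ : Bad l))
        map_id := fun k => by
          ext m
          change D.map (𝟙 k.left) m.1 = m.1
          simp
        map_comp := fun g g' => by
          ext m
          change D.map (g.left ≫ g'.left) m.1 = D.map g'.left (D.map g.left m.1)
          simp }
    haveI : ∀ k, Finite (F.obj k) := fun k =>
      ((hfin k.left).subset (fun m hm => hm.1)).to_subtype
    haveI : ∀ k, Nonempty (F.obj k) := fun k => (hBadne k).to_subtype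
    obtain ⟨u, hu⟩ := nonempty_sections_of_finite_cofiltered_system F
    haveI : ∀ {k l : Over i₀} (g : k ⟶ l), IsAffineHom ((Over.forget i₀ ⋙ D).map g) :=
      fun g => inferInstanceAs (IsAffineHom (D.map g.left))
    have hcK : IsLimit (c.whisker (Over.forget i₀)) :=
      (Functor.Initial.isLimitWhiskerEquiv (Over.forget i₀) c).symm hc
    obtain ⟨b, hb⟩ := Groth.Agent.Lib.LimTop.exists_point (Over.forget i₀ ⋙ D)
      (c.whisker (Over.forget i₀)) hcK (fun k => (u k).1)
      (fun {k l} g => by
        have h1 := congrArg Subtype.val (hu g)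
        exact h1)
    have hbmax : ∀ z : ↥c.pt, z ⤳ b → z = b := by
      intro z hz
      refine Groth.Agent.Lib.LimTop.point_ext (Over.forget i₀ ⋙ D)
        (c.whisker (Over.forget i₀)) hcK (fun k => ?_)
      have h1 : c.π.app k.left b = (u k).1 := hb k
      have h2 : c.π.app k.left z ⤳ c.π.app k.left b := hz.map (c.π.app k.left).continuous
      rw [h1] at h2
      exact ((u k).2.1 _ h2).trans h1.symm
    have hbV : b ∈ ((c.π.app i₀) ⁻¹ᵁ V₀ : c.pt.Opens) :=
      mem_of_dense_of_isMax hSfin ((c.π.app i₀) ⁻¹ᵁ V₀).2 hV hbmax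
    have h3 : c.π.app i₀ b = (u (Over.mk (𝟙 i₀))).1 := hb (Over.mk (𝟙 i₀))
    have h4 := (u (Over.mk (𝟙 i₀))).2.2
    apply h4
    change D.map (𝟙 i₀) (u (Over.mk (𝟙 i₀))).1 ∈ V₀
    rw [← h3]
    simpa using hbV

end Lim

end Groth.Agent.Lib.H72MaxPts
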