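import Groth.Agent.Lib.LimOpenImmRed
import Groth.Agent.Lib.H72MaxPts
import Groth.Agent.Lib.H72CycLim
import Groth.Agent.S2594

/-!
# Integrality of a limit of open immersions with a Noetherian stage (helper72)
-/

set_option autoImplicit false
universe u

open CategoryTheory Limits AlgebraicGeometry

namespace Groth.Agent.Lib.H72IntegralLim

open Groth.Agent.Lib.H72CycLim Groth.Agent.Lib.H72MaxPts

/-- A space with a point specializing to every point is irreducible. -/
theorem irreducibleSpace_of_specializes {T : Type*} [TopologicalSpace T] (ξ : T)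
    (h : ∀ y : T, ξ ⤳ y) : IrreducibleSpace T := by
  rw [irreducibleSpace_def]
  have : (Set.univ : Set T) = closure {ξ} := by
    ext y
    simp only [Set.mem_univ, true_iff]
    exact (specializes_iff_mem_closure).mp (h y)
  change IsIrreducible (Set.univ : Set T)
  rw [this]
  exact isIrreducible_singleton.closure

variable {I : Type u} [SmallCategory I] [IsCofiltered I] (D : I ⥤ Scheme.{u}) (c : Cone D)
  (hc : IsLimit c) [∀ {i j : I} (g : i ⟶ j), IsAffineHom (D.map g)]

include hc in
theorem isIntegral_iff_eventually (i₀ : I) [IsNoetherian (D.obj i₀)]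
    (hoi : ∀ (i j : I) (φ : i ⟶ j), IsOpenImmersion (D.map φ)) :
    IsIntegral c.pt ↔ ∃ (i : I) (_ : i ⟶ i₀), ∀ (j : I) (_ : j ⟶ i), IsIntegral (D.obj j) := by
  classical
  haveI : ∀ (i j : I) (f : i ⟶ j), IsAffineHom (D.map f) := fun _ _ f => inferInstance
  have hN : ∀ U : (D.obj i₀).affineOpens, (nilradical Γ(D.obj i₀, U)).FG := fun U => by
    haveI : IsNoetherianRing Γ(D.obj i₀, U.1) := IsLocallyNoetherian.component_noetherian U
    exact (isNoetherianRing_iff_ideal_fg _).mp inferInstance _
  have hred := Groth.Agent.Lib.LimOpenImmRed.isReduced_iff_eventually D c hc i₀ hoi hN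
  have hemb : ∀ {i j : I} (φ : i ⟶ j) (x y : D.obj i), D.map φ x ⤳ D.map φ y ↔ x ⤳ y :=
    fun φ x y => by
      haveI := hoi _ _ φ
      exact (D.map φ).isOpenEmbedding.toIsInducing.specializes_iff
  have hopen : ∀ {i j : I} (φ : i ⟶ j), IsOpen (Set.range (D.map φ).base) := fun φ => by
    haveI := hoi _ _ φ
    exact (D.map φ).isOpenEmbedding.isOpen_range
  constructor
  · intro hint
    let ξ : c.pt := genericPoint c.pt
    have hξ : ∀ ζ : c.pt, ξ ⤳ ζ := fun ζ =>
      (genericPoint_spec c.pt).specializes (Set.mem_univ ζ)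
    let M : Set (D.obj i₀) := {z | ∀ w : D.obj i₀, w ⤳ z → w = z}
    have hMfin : M.Finite := Groth.Agent.S2594.finite_isMax (D.obj i₀)
    -- the image of the generic point is a maximal point of the Noetherian stage
    have hA : c.π.app i₀ ξ ∈ M := by
      intro w hw
      obtain ⟨η, hηmax, hηw⟩ := exists_maximal_specializes w
      have hηξ : η ⤳ c.π.app i₀ ξ := hηw.trans hw
      have hmem : η ∈ Set.range (c.π.app i₀).base := by
        by_contra hcon
        obtain ⟨j, hj⟩ := exists_notMem_range D c hc i₀ η hcon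
        apply hj
        have : c.π.app i₀ ξ ∈ Set.range (D.map j.hom).base :=
          ⟨c.π.app j.left ξ, by rw [← Scheme.Hom.comp_apply, c.w]⟩
        exact hηξ.mem_open (hopen j.hom) this
      obtain ⟨ζ, rfl⟩ := hmem
      have h1 : c.π.app i₀ ξ ⤳ c.π.app i₀ ζ := (hξ ζ).map (c.π.app i₀).continuous
      have h2 : c.π.app i₀ ξ = c.π.app i₀ ζ := hηmax _ h1
      rw [h2] at hw ⊢
      exact (hw.antisymm hηw).eq
    -- the other maximal points are not in the image of some later stage
    have hB : ∀ η ∈ M, η ≠ c.π.app i₀ ξ → ∃ j : Over i₀, η ∉ Set.range (D.map j.hom).base := by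
      intro η hη hne
      apply exists_notMem_range D c hc i₀ η
      rintro ⟨ζ, rfl⟩
      have h1 : c.π.app i₀ ξ ⤳ c.π.app i₀ ζ := (hξ ζ).map (c.π.app i₀).continuous
      exact hne (hη _ h1).symm
    haveI : Nonempty (Over i₀) := ⟨Over.mk (𝟙 i₀)⟩
    choose! jη hjη using hB
    obtain ⟨i, hi⟩ := IsCofiltered.inf_objs_exists (hMfin.toFinset.image jη)
    obtain ⟨i', φ', hi'⟩ := hred.mp inferInstance
    obtain ⟨k, ⟨m1⟩, ⟨m2⟩⟩ : ∃ k : Over i₀, Nonempty (k ⟶ i) ∧ Nonempty (k ⟶ Over.mk φ') :=
      ⟨IsCofiltered.min i (Over.mk φ'), ⟨IsCofiltered.minToLeft _ _⟩,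
        ⟨IsCofiltered.minToRight _ _⟩⟩
    refine ⟨k.left, k.hom, fun j ψ => ?_⟩
    haveI : IsReduced (D.obj j) := hi' j (ψ ≫ m2.left)
    haveI : IrreducibleSpace (D.obj j) := by
      refine irreducibleSpace_of_specializes (c.π.app j ξ) (fun y => ?_)
      rw [← hemb (ψ ≫ k.hom)]
      have e1 : D.map (ψ ≫ k.hom) (c.π.app j ξ) = c.π.app i₀ ξ := by
        rw [← Scheme.Hom.comp_apply, c.w]
      rw [e1]
      obtain ⟨η, hηmax, hηy⟩ := exists_maximal_specializes (D.map (ψ ≫ k.hom) y)
      have hηM : η ∈ M := hηmax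
      by_cases hne : η = c.π.app i₀ ξ
      · rw [← hne]; exact hηy
      · exfalso
        have hmemη : η ∈ Set.range (D.map (ψ ≫ k.hom)).base :=
          hηy.mem_open (hopen (ψ ≫ k.hom)) ⟨y, rfl⟩
        obtain ⟨m3⟩ := hi (Finset.mem_image_of_mem jη (hMfin.mem_toFinset.mpr hηM))
        apply hjη η hηM hne
        obtain ⟨z, hz⟩ := hmemη
        refine ⟨D.map (ψ ≫ (m1 ≫ m3).left) z, ?_⟩
        have e2 : D.map (ψ ≫ (m1 ≫ m3).left) ≫ D.map (jη η).hom = D.map (ψ ≫ k.hom) := by
          rw [← D.map_comp, Category.assoc, Over.w]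
        exact (Scheme.Hom.comp_apply _ _ _).symm.trans ((congrArg (fun g => g z) e2).trans hz)
    exact isIntegral_of_irreducibleSpace_of_isReduced _
  · rintro ⟨i, φ, h⟩
    haveI : IsReduced c.pt := hred.mpr ⟨i, φ, fun j ψ => by haveI := h j ψ; infer_instance⟩
    haveI hii : IsIntegral (D.obj i) := h i (𝟙 i)
    let ηi : D.obj i := genericPoint (D.obj i)
    have hηi : ∀ y : D.obj i, ηi ⤳ y := fun y =>
      (genericPoint_spec (D.obj i)).specializes (Set.mem_univ y)
    -- lift the generic point to the limit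
    have hmem : ηi ∈ Set.range (c.π.app i).base := by
      by_contra hcon
      obtain ⟨j, hj⟩ := exists_notMem_range D c hc i ηi hcon
      apply hj
      haveI := h j.left j.hom
      have hne : (Set.range (D.map j.hom).base).Nonempty :=
        ⟨D.map j.hom (genericPoint (D.obj j.left)), ⟨_, rfl⟩⟩
      obtain ⟨z, hz⟩ := hne
      exact (hηi z).mem_open (hopen j.hom) hz
    obtain ⟨η, hη⟩ := hmem
    haveI : IrreducibleSpace c.pt := by
      refine irreducibleSpace_of_specializes η (fun y => ?_)
      refine specializes_of_forall D c hc η y (fun i' => ?_)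
      have hj : c.π.app (IsCofiltered.min i' i) η ⤳ c.π.app (IsCofiltered.min i' i) y := by
        rw [← hemb (IsCofiltered.minToRight i' i)]
        have e : ∀ z : c.pt, D.map (IsCofiltered.minToRight i' i)
            (c.π.app (IsCofiltered.min i' i) z) = c.π.app i z := fun z => by
          rw [← Scheme.Hom.comp_apply, c.w]
        rw [e η, e y]
        have : c.π.app i η = ηi := hη
        rw [this]
        exact hηi _
      have e' : ∀ z : c.pt, c.π.app i' z = D.map (IsCofiltered.minToLeft i' i)
          (c.π.app (IsCofiltered.min i' i) z) := fun z => by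
        rw [← Scheme.Hom.comp_apply, c.w]
      rw [e' η, e' y]
      exact hj.map (D.map (IsCofiltered.minToLeft i' i)).continuous
    exact isIntegral_of_irreducibleSpace_of_isReduced _

end Groth.Agent.Lib.H72IntegralLim
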