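import Mathlib
import Groth.Agent.Lib.ThickeningBC

/-!
# Morphisms from a cofiltered limit to a scheme locally of finite type, injective transition maps (helper72)

Mathlib's `Scheme.exists_π_app_comp_eq_of_locallyOfFinitePresentation` factors a morphism `lim Dᵢ ⟶ X` through a
stage when `X ⟶ S` is locally of finite presentation.  Here the same is shown for `X ⟶ S` only locally of
finite type, provided the maps on sections `Γ(Dᵢ, U) → Γ(lim D, π⁻¹ U)` are injective (for instance when the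
transition maps are scheme-theoretically dominant).
-/

set_option autoImplicit false
universe u

open CategoryTheory Limits AlgebraicGeometry

namespace Groth.Agent.Lib.H72LimHomLFT

section Ring

/-- Finite families of elements of a (weakly) directed union come from a common stage. -/
theorem exists_common_stage {ι : Type*} [Nonempty ι] {A : Type*} [CommRing A] (Ai : ι → Type*)
    [∀ i, CommRing (Ai i)] (ρ : ∀ i, Ai i →+* A)
    (hsurj : ∀ a : A, ∃ (i : ι) (x : Ai i), ρ i x = a)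
    (hdir : ∀ i j, ∃ (k : ι) (u : Ai i →+* Ai k) (v : Ai j →+* Ai k),
      (ρ k).comp u = ρ i ∧ (ρ k).comp v = ρ j) (n : ℕ) (a : Fin n → A) :
    ∃ (i : ι) (x : Fin n → Ai i), ∀ k, ρ i (x k) = a k := by
  induction n with
  | zero => exact ⟨Classical.arbitrary ι, Fin.elim0, fun k => Fin.elim0 k⟩
  | succ n ih =>
    obtain ⟨i, x, hx⟩ := ih (fun k => a k.castSucc)
    obtain ⟨j, y, hy⟩ := hsurj (a (Fin.last n))
    obtain ⟨k, u, v, hu, hv⟩ := hdir i j
    refine ⟨k, Fin.snoc (fun m => u (x m)) (v y), fun m => ?_⟩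
    induction m using Fin.lastCases with
    | last =>
      rw [Fin.snoc_last]
      exact (congr($hv y)).trans hy
    | cast m =>
      rw [Fin.snoc_castSucc]
      exact (congr($hu (x m))).trans (hx m)

/-- A ring map `ψ : B → A` out of a finite type `R`-algebra `B` into a weakly directed union `A` of rings
`Aᵢ` under `R` with injective maps `Aᵢ → A` factors through some `Aᵢ`. -/
theorem exists_factor_of_finiteType {ι : Type*} [Nonempty ι] {R B A : Type*} [CommRing R] [CommRing B]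
    [CommRing A] (Ai : ι → Type*) [∀ i, CommRing (Ai i)]
    (φ : R →+* B) (hφ : φ.FiniteType) (ψ : B →+* A) (α : ∀ i, R →+* Ai i) (ρ : ∀ i, Ai i →+* A)
    (hcomp : ∀ i, (ρ i).comp (α i) = ψ.comp φ)
    (hinj : ∀ i, Function.Injective (ρ i))
    (hsurj : ∀ a : A, ∃ (i : ι) (x : Ai i), ρ i x = a)
    (hdir : ∀ i j, ∃ (k : ι) (u : Ai i →+* Ai k) (v : Ai j →+* Ai k),
      (ρ k).comp u = ρ i ∧ (ρ k).comp v = ρ j) :
    ∃ (i : ι) (g : B →+* Ai i), g.comp φ = α i ∧ (ρ i).comp g = ψ := by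
  classical
  letI := φ.toAlgebra
  have hft : Algebra.FiniteType R B := hφ
  obtain ⟨n, π, hπ⟩ := Algebra.FiniteType.iff_quotient_mvPolynomial''.mp hft
  obtain ⟨i, x, hx⟩ := exists_common_stage Ai ρ hsurj hdir n (fun k => ψ (π (MvPolynomial.X k)))
  let g₀ : MvPolynomial (Fin n) R →+* Ai i := MvPolynomial.eval₂Hom (α i) x
  have h1 : (ρ i).comp g₀ = ψ.comp π.toRingHom := by
    apply MvPolynomial.ringHom_ext
    · intro r
      have : π (MvPolynomial.C r) = φ r := π.commutes r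
      simp only [RingHom.comp_apply, g₀, MvPolynomial.coe_eval₂Hom, MvPolynomial.eval₂_C,
        AlgHom.toRingHom_eq_coe, RingHom.coe_coe, this]
      exact congr($(hcomp i) r)
    · intro k
      simp only [RingHom.comp_apply, g₀, MvPolynomial.coe_eval₂Hom, MvPolynomial.eval₂_X,
        AlgHom.toRingHom_eq_coe, RingHom.coe_coe]
      exact hx k
  have hker : RingHom.ker π.toRingHom ≤ RingHom.ker g₀ := by
    intro p hp
    rw [RingHom.mem_ker] at hp ⊢
    apply hinj i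
    rw [map_zero]
    have := congr($h1 p)
    simp only [RingHom.comp_apply] at this
    rw [this, hp, map_zero]
  let g : B →+* Ai i := RingHom.liftOfSurjective π.toRingHom hπ ⟨g₀, hker⟩
  have hg : ∀ p, g (π p) = g₀ p := fun p =>
    RingHom.liftOfRightInverse_comp_apply _ _ _ ⟨g₀, hker⟩ p
  refine ⟨i, g, ?_, ?_⟩
  · ext r
    have : π (MvPolynomial.C r) = φ r := π.commutes r
    rw [RingHom.comp_apply, ← this, hg]
    simp [g₀]
  · ext b
    obtain ⟨p, rfl⟩ := hπ b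
    rw [RingHom.comp_apply, hg]
    exact congr($h1 p)

end Ring


section Affine

/-- The morphism to an affine scheme attached to a ring map on global sections. -/
noncomputable def homOfAppTop {T X : Scheme.{u}} [IsAffine X] (φ : Γ(X, ⊤) ⟶ Γ(T, ⊤)) : T ⟶ X :=
  T.toSpecΓ ≫ Spec.map φ ≫ X.isoSpec.inv

theorem homOfAppTop_appTop {T X : Scheme.{u}} [IsAffine X] (φ : Γ(X, ⊤) ⟶ Γ(T, ⊤)) :
    (homOfAppTop φ).appTop = φ := by
  have h1 : X.isoSpec.hom.appTop ≫ X.isoSpec.inv.appTop = 𝟙 _ := by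
    rw [← Scheme.Hom.comp_appTop, Iso.inv_hom_id]; rfl
  have h2 : X.isoSpec.hom.appTop = (Scheme.ΓSpecIso Γ(X, ⊤)).hom := by
    simp [Scheme.isoSpec]
  have h : X.isoSpec.inv.appTop = (Scheme.ΓSpecIso Γ(X, ⊤)).inv := by
    rw [h2] at h1
    rw [← cancel_epi (Scheme.ΓSpecIso Γ(X, ⊤)).hom, h1, Iso.hom_inv_id]
  simp only [homOfAppTop, Scheme.Hom.comp_appTop, Scheme.toSpecΓ_appTop, Category.assoc,
    Scheme.ΓSpecIso_naturality, h, Iso.inv_hom_id_assoc]

variable {I : Type u} [Category.{u} I] {S X : Scheme.{u}} (D : I ⥤ Scheme.{u})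
  (t : D ⟶ (Functor.const I).obj S) (f : X ⟶ S) (c : Cone D) (hc : IsLimit c)

include hc in
/-- Affine case: a morphism from the limit to `X` (of finite type over `S`) factors through a stage,
provided the maps `Γ(Dᵢ, ⊤) → Γ(lim D, ⊤)` are injective. -/
theorem exists_π_app_comp_eq_of_isAffine [IsCofiltered I] [LocallyOfFiniteType f]
    [IsAffine S] [IsAffine X] [∀ i, IsAffine (D.obj i)]
    (hinj : ∀ i, Function.Injective (c.π.app i).appTop)
    (a : c.pt ⟶ X) (ha : c.π ≫ t = (Functor.const _).map (a ≫ f)) :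
    ∃ (i : I) (g : D.obj i ⟶ X), c.π.app i ≫ g = a ∧ g ≫ f = t.app i := by
  have hft : f.appTop.hom.FiniteType :=
    (HasRingHomProperty.iff_of_isAffine (P := @LocallyOfFiniteType)).mp ‹_›
  haveI : Nonempty I := IsCofiltered.nonempty
  have hai : ∀ i, c.π.app i ≫ t.app i = a ≫ f := fun i => by
    have := congr(($ha).app i)
    simpa using this
  obtain ⟨i, g', hg1, hg2⟩ := exists_factor_of_finiteType (fun i => Γ(D.obj i, ⊤))
    f.appTop.hom hft a.appTop.hom (fun i => (t.app i).appTop.hom) (fun i => (c.π.app i).appTop.hom)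
    (fun i => by
      have := congr(($(hai i)).appTop.hom)
      simpa only [Scheme.Hom.comp_appTop, CommRingCat.hom_comp] using this)
    hinj (exists_appTop_π_eq_of_isAffine_of_isLimit D c hc)
    (fun i j => by
      obtain ⟨k, u, v, -⟩ := IsCofilteredOrEmpty.cone_objs i j
      refine ⟨k, (D.map u).appTop.hom, (D.map v).appTop.hom, ?_, ?_⟩
      · have := congr(($(c.w u)).appTop.hom)
        simpa only [Scheme.Hom.comp_appTop, CommRingCat.hom_comp] using this
      · have := congr(($(c.w v)).appTop.hom)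
        simpa only [Scheme.Hom.comp_appTop, CommRingCat.hom_comp] using this)
  refine ⟨i, homOfAppTop (CommRingCat.ofHom g'), ?_, ?_⟩
  · apply ext_of_isAffine
    rw [Scheme.Hom.comp_appTop, homOfAppTop_appTop]
    ext1
    exact hg2
  · apply ext_of_isAffine
    rw [Scheme.Hom.comp_appTop, homOfAppTop_appTop]
    ext1
    exact hg1

end Affine


section General

open AlgebraicGeometry.Scheme

theorem appLE_injective_of_eq {Y T : Scheme.{u}} (g : Y ⟶ T) (U : T.Opens) (V : Y.Opens)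
    (e : V ≤ g ⁻¹ᵁ U) (h : V = g ⁻¹ᵁ U) (hg : Function.Injective (g.app U)) :
    Function.Injective (g.appLE U V e) := by
  subst h
  rw [← Scheme.Hom.app_eq_appLE]
  exact hg

theorem resLE_appTop_injective {Y T : Scheme.{u}} (g : Y ⟶ T) (U : T.Opens) (V : Y.Opens)
    (e : V ≤ g ⁻¹ᵁ U) (h : V = g ⁻¹ᵁ U) (hg : Function.Injective (g.app U)) :
    Function.Injective (g.resLE U V e).appTop := by
  have key := Groth.Agent.Lib.ThickeningBC.resLE_appTop_comm g U V e
  have h1 := appLE_injective_of_eq g U V e h hg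
  intro x y hxy
  have kx : V.topIso.hom.hom ((g.resLE U V e).appTop.hom x) =
      (g.appLE U V e).hom (U.topIso.hom.hom x) := congr($(key).hom x)
  have ky : V.topIso.hom.hom ((g.resLE U V e).appTop.hom y) =
      (g.appLE U V e).hom (U.topIso.hom.hom y) := congr($(key).hom y)
  have hxy' : (g.resLE U V e).appTop.hom x = (g.resLE U V e).appTop.hom y := hxy
  rw [hxy', ky] at kx
  exact (ConcreteCategory.bijective_of_isIso U.topIso.hom).injective (h1 kx.symm)

variable {I : Type u} [Category.{u} I] {S X : Scheme.{u}} (D : I ⥤ Scheme.{u})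
  (t : D ⟶ (Functor.const I).obj S) (f : X ⟶ S) (c : Cone D) (hc : IsLimit c)

set_option backward.defeqAttrib.useBackward true in
set_option backward.isDefEq.respectTransparency false in
open TopologicalSpace in
include hc in
/--
Given a cofiltered diagram of qcqs schemes `Dᵢ` over `S` with affine transition maps such that the maps
`Γ(Dᵢ, U) → Γ(lim D, π⁻¹ U)` are injective.  If `X` is locally of finite type over `S`, then any `S`-morphism
`lim Dᵢ ⟶ X` factors through some `lim Dᵢ ⟶ Dⱼ ⟶ X`.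
(Adaptation of Mathlib's `Scheme.exists_π_app_comp_eq_of_locallyOfFinitePresentation`.)
-/
theorem exists_π_app_comp_eq_of_locallyOfFiniteType
    [IsCofiltered I] [LocallyOfFiniteType f]
    [∀ {i j} (f : i ⟶ j), IsAffineHom (D.map f)]
    [∀ i, CompactSpace (D.obj i)] [∀ i, QuasiSeparatedSpace (D.obj i)]
    (hinj : ∀ (i : I) (U : (D.obj i).Opens), IsAffineOpen U →
      Function.Injective ((c.π.app i).app U))
    (a : c.pt ⟶ X) (ha : c.π ≫ t = (Functor.const _).map (a ≫ f)) :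
    ∃ (i : I) (g : D.obj i ⟶ X), c.π.app i ≫ g = a ∧ g ≫ f = t.app i := by
  -- The open cover of `c := lim Dᵢ` indexed by triplets of affine opens `(U, V, W)` with
  -- `U ⊆ c`, `V ⊆ X`, `W ⊆ S` such that `U` maps to `V` maps to `W`.
  have 𝒰 := (c.pt.isBasis_affineOpens).isOpenCover_mem_and_le
    (((X.isBasis_affineOpens).isOpenCover_mem_and_le
    ((S.isBasis_affineOpens).isOpenCover.comap f.base.hom)).comap a.base.hom)
  -- By qcqs, this cover descends to some finite affine open cover `𝒱` of `Dᵢ`.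
  obtain ⟨i, s, 𝒱, h𝒱, h𝒱𝒰⟩ := Scheme.exists_isOpenCover_and_isAffine D c hc _ 𝒰 fun U ↦ U.2.1
  obtain ⟨i', fi'i, hi'⟩ : ∃ (i' : I) (fi'i : i' ⟶ i),
      ∀ j, D.map fi'i ⁻¹ᵁ 𝒱 j ≤ t.app i' ⁻¹ᵁ j.1.1.2.1.2.1 := by
    choose k fk hk using fun j ↦ exists_map_preimage_le_map_preimage D c hc (h𝒱𝒰 j).1.isCompact
      (V := t.app i ⁻¹ᵁ j.1.1.2.1.2.1) (by
      rw [← Hom.comp_preimage, ← NatTrans.comp_app, ha]
      exact (h𝒱𝒰 j).2.symm.trans_le (j.1.prop.2.trans (a.preimage_mono j.1.1.2.prop.2)))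
    obtain ⟨i', fi'i, fi', hfi'⟩ := IsCofiltered.wideCospan fk
    refine ⟨i', fi'i, fun j ↦ ?_⟩
    rw [← hfi', Functor.map_comp, Hom.comp_preimage]
    refine (Hom.preimage_mono _ (hk _)).trans ?_
    simp only [← Hom.comp_preimage, t.naturality, Functor.const_obj_obj,
      Functor.const_obj_map, Category.comp_id, le_refl]
  -- Using the affine version, one can now factor `Dⱼ ⁻¹ 𝒱ⱼ ⟶ lim Dᵢ ⟶ X` through some `Dⱼₖ ⁻¹ 𝒱ⱼ`
  -- for each `𝒱ⱼ`, and by finite-ness we may chose a fixed `k` that works for every `j`.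
  have : ∃ k, ∃ (fk : k ⟶ i), ∀ j, ∃ (ak : ↑(D.map fk ⁻¹ᵁ 𝒱 j) ⟶ X),
      ak ≫ f = Opens.ι _ ≫ t.app k ∧ c.π.app _ ∣_ _ ≫ ak = Opens.ι _ ≫ a := by
    let 𝒱' := (D.map fi'i ⁻¹ᵁ 𝒱 ·)
    have h𝒱'𝒰 (j : s) : c.π.app i' ⁻¹ᵁ 𝒱' j = j.1.1.1 := by
      rw [← Hom.comp_preimage, c.w fi'i]; exact (h𝒱𝒰 j).2.symm
    have _ (j k) : IsAffine ((opensDiagram D i' (𝒱' j)).obj k) := ((h𝒱𝒰 _).1.preimage _).preimage _
    let t𝒱 (j : _) : opensDiagram D i' (𝒱' j) ⟶ (Functor.const (Over i')).obj j.1.1.2.1.2 :=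
    { app k := (t.app k.left).resLE _ _ <| by
        refine (Hom.preimage_mono _ (hi' _)).trans ?_
        simp only [Functor.const_obj_obj, ← Hom.comp_preimage, t.naturality,
          Functor.const_obj_map, Category.comp_id, le_refl]
      naturality {k₁ k₂} f₁₂ := by simp [Hom.resLE_comp_resLE] }
    have (j : s) : IsAffine j.1.1.2.1.1 := j.1.1.2.prop.1
    have hinj' (j : s) (k : Over i') :
        Function.Injective ((opensCone D c i' (𝒱' j)).π.app k).appTop :=
      resLE_appTop_injective (c.π.app k.left) (D.map k.hom ⁻¹ᵁ 𝒱' j) (c.π.app i' ⁻¹ᵁ 𝒱' j) _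
        ((congrArg (fun g => g ⁻¹ᵁ 𝒱' j) (c.w k.hom)).symm.trans (Hom.comp_preimage _ _ _))
        (hinj _ _ (((h𝒱𝒰 _).1.preimage _).preimage _))
    choose k ak hk hk' using fun j ↦ exists_π_app_comp_eq_of_isAffine
      _ (t𝒱 j) (f.resLE _ _ j.1.1.2.prop.2) _ (isLimitOpensCone D c hc i' (𝒱' j)) (hinj' j)
      (a.resLE _ _ ((h𝒱'𝒰 _).trans_le j.1.prop.2)) (by
      ext k
      simp [t𝒱, Hom.resLE_comp_resLE, show c.π.app k.left ≫ t.app k.left = a ≫ f from
        congr(($ha).app k.left)])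
    obtain ⟨i'', fi''i', fi'', hi''⟩ := IsCofiltered.wideCospan fun j ↦ (k j).hom
    refine ⟨i'', fi''i' ≫ fi'i, fun j ↦
      ⟨Scheme.homOfLE _ ?_ ≫ D.map (fi'' _) ∣_ _ ≫ ak j ≫ Opens.ι _, ?_, ?_⟩⟩
    · simp only [← Hom.comp_preimage, ← Functor.map_comp, 𝒱', reassoc_of% hi'']; rfl
    · have : ak j ≫ Opens.ι _ ≫ f = Opens.ι _ ≫ t.app (k j).left := by
        simpa [t𝒱] using! congr($(hk' j) ≫ Opens.ι _)
      simp [this]
    · have e : c.π.app i'' ⁻¹ᵁ D.map (fi''i' ≫ fi'i) ⁻¹ᵁ 𝒱 j ≤ c.π.app i' ⁻¹ᵁ 𝒱' j := by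
        simp only [← Hom.comp_preimage, Cone.w, 𝒱']; rfl
      simpa [← AlgebraicGeometry.Scheme.Hom.resLE_eq_morphismRestrict,
        Scheme.Hom.resLE_comp_resLE_assoc] using! congr(Scheme.homOfLE _ e ≫ $(hk j) ≫ Opens.ι _)
  choose k fki ak hak hak' using this
  -- We may then find an `l` for each `j₁` and `j₂` such that the map `Dⱼ₁ₗ ⁻¹ 𝒱ⱼ₁ ⟶ X` and
  -- `Dⱼ₂ₗ ⁻¹ 𝒱ⱼ₂ ⟶ X` agrees on the intersection in `Dₗ`.
  -- And again by finiteness we may choose a global `l`.
  obtain ⟨l, flk, hl⟩ : ∃ (l : I) (flk : l ⟶ k), ∀ j₁ j₂, Scheme.homOfLE _ inf_le_left ≫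
      D.map flk ∣_ _ ≫ ak j₁ = Scheme.homOfLE _ inf_le_right ≫ D.map flk ∣_ _ ≫ ak j₂ := by
    let 𝒱' := (D.map fki ⁻¹ᵁ 𝒱 ·)
    have (j₁ j₂ : s) : ∃ (l : I) (flk : l ⟶ k), Scheme.homOfLE _ inf_le_left ≫ D.map flk ∣_ _ ≫
        ak j₁ = Scheme.homOfLE _ inf_le_right ≫ D.map flk ∣_ _ ≫ ak j₂ := by
      have _ (x) : CompactSpace ↥((opensDiagram D k (𝒱' j₁ ⊓ 𝒱' j₂)).obj x) :=
        isCompact_iff_compactSpace.mp (QuasiCompact.isCompact_preimage _ (𝒱' j₁ ⊓ 𝒱' j₂).isOpen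
          (((h𝒱𝒰 _).1.preimage _).isCompact.inter_of_isOpen ((h𝒱𝒰 _).1.preimage _).isCompact
            (D.map fki ⁻¹ᵁ 𝒱 j₁).2 (D.map fki ⁻¹ᵁ 𝒱 j₂).2))
      obtain ⟨⟨l, ⟨⟨⟩⟩, flk⟩, ⟨flk', ⟨⟨⟨⟩⟩⟩, h⟩, e⟩ :=
        Scheme.exists_hom_comp_eq_comp_of_locallyOfFiniteType _
          (opensDiagramι .. ≫ (Over.forget k).whiskerLeft t) f _
          (isLimitOpensCone D c hc k (𝒱' j₁ ⊓ 𝒱' j₂)) (i := .mk (𝟙 k))
          (Scheme.homOfLE _ (by simp [𝒱']) ≫ ak j₁) (Scheme.homOfLE _ (by simp [𝒱']) ≫ ak j₂)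
          (by simp [hak]) (by simp [hak]) (by simp; simp [Hom.resLE, hak'])
      obtain rfl : flk = flk' := by simpa using! h.symm
      refine ⟨l, flk, by simpa [← Scheme.Hom.resLE_eq_morphismRestrict] using! e⟩
    choose l flk hflk using this
    obtain ⟨l', fl'k, fl'l, hl'⟩ := IsCofiltered.wideCospan (I := s × s) fun x ↦ flk x.1 x.2
    refine ⟨l', fl'k, fun j₁ j₂ ↦ ?_⟩
    have H : (D.map fl'k ≫ D.map fki) ⁻¹ᵁ (𝒱 j₁ ⊓ 𝒱 j₂) ≤
        (D.map (fl'l (j₁, j₂)) ≫ D.map (flk j₁ j₂) ≫ D.map fki) ⁻¹ᵁ (𝒱 j₁ ⊓ 𝒱 j₂) := by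
      simp only [← Functor.map_comp, reassoc_of% hl']; rfl
    simpa [← Scheme.Hom.resLE_eq_morphismRestrict, Scheme.Hom.resLE_comp_resLE_assoc,
      ← Functor.map_comp, hl'] using! congr((D.map (fl'l (j₁, j₂))).resLE _ _ H ≫ $(hflk j₁ j₂))
  -- We may glue the morphisms into `Dₗ ⟶ X` and verify that it indeed satisfies the hypothesis.
  let h𝒲 := (h𝒱.comap (D.map fki).base.hom).comap (D.map flk).base.hom
  let 𝒲 := Scheme.openCoverOfIsOpenCover _ (D.map flk ⁻¹ᵁ D.map fki ⁻¹ᵁ 𝒱 ·) h𝒲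
  let F := 𝒲.glueMorphisms (fun j ↦ D.map flk ∣_ D.map fki ⁻¹ᵁ 𝒱 j ≫ ak j) (fun j₁ j₂ ↦ by
      rw [← cancel_epi (isPullback_opens_inf _ _).isoPullback.hom]
      simpa [𝒲] using! hl j₁ j₂)
  have hF (j : s) : (D.map flk ⁻¹ᵁ D.map fki ⁻¹ᵁ 𝒱 j).ι ≫ F = D.map flk ∣_ _ ≫ ak j :=
    Scheme.Cover.ι_glueMorphisms ..
  refine ⟨l, F, ?_, ?_⟩
  · refine Cover.hom_ext (𝒲.pullback₁ (c.π.app l)) _ _ fun j ↦ ?_
    rw [← cancel_epi (isPullback_morphismRestrict _ _).flip.isoPullback.hom]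
    dsimp [𝒲]
    simp only [pullback.condition_assoc, IsPullback.isoPullback_hom_snd_assoc,
      IsPullback.isoPullback_hom_fst_assoc, hF]
    have h : c.π.app l ⁻¹ᵁ D.map flk ⁻¹ᵁ D.map fki ⁻¹ᵁ 𝒱 j ≤ c.π.app k ⁻¹ᵁ D.map fki ⁻¹ᵁ 𝒱 j := by
      simp only [← Hom.comp_preimage, c.w_assoc, c.w]; rfl
    simpa [← Scheme.Hom.resLE_eq_morphismRestrict, Scheme.Hom.resLE_comp_resLE_assoc] using!
      congr(Scheme.homOfLE _ h ≫ $(hak' j))
  · refine 𝒲.hom_ext _ _ fun j ↦ ?_
    simp [F, Cover.ι_glueMorphisms_assoc, hak]; rfl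


include hc in
/-- If the transition maps are injective on sections over affine opens, so are the projections from the limit. -/
theorem app_π_injective [IsCofiltered I] [∀ {i j} (f : i ⟶ j), IsAffineHom (D.map f)]
    (htr : ∀ {i j : I} (g : i ⟶ j) (U : (D.obj j).Opens), IsAffineOpen U →
      Function.Injective ((D.map g).app U))
    (i : I) (U : (D.obj i).Opens) (hU : IsAffineOpen U) :
    Function.Injective ((c.π.app i).app U) := by
  rw [injective_iff_map_eq_zero]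
  intro s hs
  obtain ⟨j, g, hj⟩ := exists_app_map_eq_zero_of_isLimit D c hc hU.isCompact s hs
  exact (injective_iff_map_eq_zero _).mp (htr g U hU) s hj

end General

section Over

variable {S : Scheme.{u}} {I : Type u} [Category.{u} I] [IsCofiltered I] (D : I ⥤ Over S)
  (c : Cone D) (hc : IsLimit c)
  [∀ {i j : I} (t : i ⟶ j), IsAffineHom (D.map t).left]
  [∀ i, CompactSpace (D.obj i).left] [∀ i, QuasiSeparatedSpace (D.obj i).left]

set_option backward.defeqAttrib.useBackward true in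
set_option backward.isDefEq.respectTransparency false in
include hc in
/-- **Surjectivity of `colim Hom_S(Xᵢ, Y) → Hom_S(lim Xᵢ, Y)`** for `Y` locally of finite type over `S` and
scheme-theoretically dominant affine transition maps. -/
theorem exists_factor_over [∀ {i j : I} (t : i ⟶ j), IsSchemeTheoreticallyDominant (D.map t).left]
    (Y : Over S) [LocallyOfFiniteType Y.hom] (φ : c.pt ⟶ Y) :
    ∃ (i : I) (φi : D.obj i ⟶ Y), c.π.app i ≫ φi = φ := by
  have (i : I) : CompactSpace ((D ⋙ Over.forget S).obj i) := by dsimp; infer_instance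
  have (i : I) : QuasiSeparatedSpace ((D ⋙ Over.forget S).obj i) := by dsimp; infer_instance
  have {i j : I} (f : i ⟶ j) : IsAffineHom ((D ⋙ Over.forget S).map f) := by
    dsimp; infer_instance
  have hinj := app_π_injective (D ⋙ Over.forget S) ((Over.forget S).mapCone c)
    (isLimitOfPreserves _ hc) (fun {i j} g U _ => by
      dsimp
      exact (D.map g).left.app_injective U)
  obtain ⟨k, u, h, h'⟩ := exists_π_app_comp_eq_of_locallyOfFiniteType
    (D ⋙ Over.forget _) (.mk (fun _ ↦ (D.obj _).hom)) Y.hom _ (isLimitOfPreserves _ hc) hinj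
    φ.left (by ext; simp)
  exact ⟨k, Over.homMk u h', Over.OverMorphism.ext h⟩

set_option backward.defeqAttrib.useBackward true in
set_option backward.isDefEq.respectTransparency false in
include hc in
/-- **Injectivity of `colim Hom_S(Xᵢ, Y) → Hom_S(lim Xᵢ, Y)`** for `Y` locally of finite type over `S`
(repackaging of Mathlib's `Scheme.exists_hom_comp_eq_comp_of_locallyOfFiniteType`). -/
theorem exists_comp_eq_over (Y : Over S) [LocallyOfFiniteType Y.hom] (i : I) (φ ψ : D.obj i ⟶ Y)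
    (h : c.π.app i ≫ φ = c.π.app i ≫ ψ) : ∃ (j : I) (t : j ⟶ i), D.map t ≫ φ = D.map t ≫ ψ := by
  have (i : I) : CompactSpace ((D ⋙ Over.forget S).obj i) := by dsimp; infer_instance
  have {i j : I} (f : i ⟶ j) : IsAffineHom ((D ⋙ Over.forget S).map f) := by
    dsimp; infer_instance
  obtain ⟨k, hik, heq⟩ := Scheme.exists_hom_comp_eq_comp_of_locallyOfFiniteType
    (D ⋙ Over.forget _) (.mk (fun _ ↦ (D.obj _).hom)) Y.hom _ (isLimitOfPreserves _ hc)
    φ.left ψ.left (Over.w φ).symm (Over.w ψ).symm congr($(h).left)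
  exact ⟨k, hik, Over.OverMorphism.ext heq⟩

end Over

end Groth.Agent.Lib.H72LimHomLFT
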