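import Mathlib
import Groth.Agent.Lib.H72LimRing
import Groth.Agent.Lib.IdealComap

/-!
# Inclusions of pulled-back ideal sheaves descend from a cofiltered limit to a stage (helper72)

* `exists_mem_map_of_isWeakColimAlg`: for a weak filtered colimit `A` of `R`-algebras `G j`, an ideal `K ⊆ R`
  and `a : R` with `a ∈ K·A`, already `a ∈ K·G j` for some `j`.
* `exists_comap_le_comap`: for a cofiltered limit of schemes with affine transition maps, ideal sheaves
  `A, K` on a quasi-compact stage `E j₀` with `A` of finite type on a finite affine cover: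
  `A.comap π ≤ K.comap π` on the limit implies `A.comap t ≤ K.comap t` on some stage `t : E j ⟶ E j₀`.
-/

set_option autoImplicit false
universe u

open CategoryTheory Limits AlgebraicGeometry

namespace Groth.Agent.Lib.H72LimIdeal

open Groth.Agent.Lib.ColimTensor96

section Algebra

variable {R : Type*} [CommRing R] {ι : Type*} {G : ι → Type*} [∀ i, CommRing (G i)]
  [∀ i, Algebra R (G i)] {A : Type*} [CommRing A] [Algebra R A] {g : ∀ i, G i →ₐ[R] A}

theorem map_mem_map {B C : Type*} [CommRing B] [CommRing C] [Algebra R B] [Algebra R C]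
    (h : B →ₐ[R] C) (K : Ideal R) {y : B} (hy : y ∈ Ideal.map (algebraMap R B) K) :
    h y ∈ Ideal.map (algebraMap R C) K := by
  have h1 : Ideal.map h.toRingHom (Ideal.map (algebraMap R B) K) = Ideal.map (algebraMap R C) K := by
    rw [Ideal.map_map]
    congr 1
    exact h.comp_algebraMap
  rw [← h1]
  exact Ideal.mem_map_of_mem h.toRingHom hy

theorem exists_lift_mem_map (hG : IsWeakColimAlg G g) (K : Ideal R) :
    ∀ x ∈ Submodule.span A ((algebraMap R A) '' (K : Set R)),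
      ∃ (j : ι) (y : G j), g j y = x ∧ y ∈ Ideal.map (algebraMap R (G j)) K := by
  obtain ⟨j₀⟩ := hG.nonempty
  intro x hx
  induction hx using Submodule.span_induction with
  | mem x hx =>
    obtain ⟨b, hb, rfl⟩ := hx
    exact ⟨j₀, algebraMap R (G j₀) b, (g j₀).commutes b, Ideal.mem_map_of_mem _ hb⟩
  | zero => exact ⟨j₀, 0, map_zero _, Ideal.zero_mem _⟩
  | add x x' _ _ hx hx' =>
    obtain ⟨j, y, rfl, hy⟩ := hx
    obtain ⟨j', y', rfl, hy'⟩ := hx'
    obtain ⟨l, h, h', hh, hh'⟩ := hG.dir j j'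
    refine ⟨l, h y + h' y', ?_, Ideal.add_mem _ (map_mem_map h K hy) (map_mem_map h' K hy')⟩
    rw [map_add, ← hh, ← hh']
    rfl
  | smul r x _ hx =>
    obtain ⟨j, y, rfl, hy⟩ := hx
    obtain ⟨j', r', rfl⟩ := hG.lift r
    obtain ⟨l, h, h', hh, hh'⟩ := hG.dir j j'
    refine ⟨l, h' r' * h y, ?_, Ideal.mul_mem_left _ _ (map_mem_map h K hy)⟩
    rw [map_mul, smul_eq_mul, ← hh, ← hh']
    rfl

/-- If `a ∈ K·A` for a weak filtered colimit `A` of the `R`-algebras `G j`, then `a ∈ K·G j` for some `j`. -/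
theorem exists_mem_map_of_isWeakColimAlg (hG : IsWeakColimAlg G g) (K : Ideal R) (a : R)
    (ha : algebraMap R A a ∈ Ideal.map (algebraMap R A) K) :
    ∃ j : ι, algebraMap R (G j) a ∈ Ideal.map (algebraMap R (G j)) K := by
  obtain ⟨j, y, hy, hyK⟩ := exists_lift_mem_map hG K _ ha
  have h0 : g j (y - algebraMap R (G j) a) = 0 := by
    rw [map_sub, hy, (g j).commutes, sub_self]
  obtain ⟨l, h, -, hl⟩ := hG.kill j _ h0
  refine ⟨l, ?_⟩
  rw [map_sub, h.commutes, sub_eq_zero] at hl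
  rw [← hl]
  exact map_mem_map h K hyK

end Algebra


section Limit

open Groth.Agent.Lib.H72LimRing

variable {J : Type u} [Category.{u} J] (E : J ⥤ Scheme.{u}) (c : Cone E) (j₀ : J)
  (Ω : (E.obj j₀).Opens)

attribute [local instance] algAt algLim

/-- Ring-level form of `A.comap t ≤ K.comap t` over the preimage of the affine open `Ω` at stage `j`. -/
def Q' (IA IK : Ideal Γ(E.obj j₀, Ω)) (j : Over j₀) : Prop :=
  Ideal.map (algebraMap Γ(E.obj j₀, Ω) Γ(E.obj j.left, ΩAt E j₀ Ω j)) IA ≤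
    Ideal.map (algebraMap Γ(E.obj j₀, Ω) Γ(E.obj j.left, ΩAt E j₀ Ω j)) IK

theorem Q'_of_hom (IA IK : Ideal Γ(E.obj j₀, Ω)) {j k : Over j₀} (φ : j ⟶ k)
    (h : Q' E j₀ Ω IA IK k) : Q' E j₀ Ω IA IK j := by
  have key : ∀ I : Ideal Γ(E.obj j₀, Ω),
      Ideal.map (algebraMap Γ(E.obj j₀, Ω) Γ(E.obj j.left, ΩAt E j₀ Ω j)) I =
        Ideal.map (trans E j₀ Ω φ).toRingHom
          (Ideal.map (algebraMap Γ(E.obj j₀, Ω) Γ(E.obj k.left, ΩAt E j₀ Ω k)) I) := by
    intro I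
    rw [Ideal.map_map]
    congr 1
    exact (trans E j₀ Ω φ).comp_algebraMap.symm
  unfold Q'
  rw [key IA, key IK]
  exact Ideal.map_mono h

variable [IsCofiltered J] [∀ {i j} (φ : i ⟶ j), IsAffineHom (E.map φ)]

variable {Ω} in
theorem exists_Q' (hc : IsLimit c) (hΩ : IsAffineOpen Ω) (IA IK : Ideal Γ(E.obj j₀, Ω)) (hfg : IA.FG)
    (hle : Ideal.map (algebraMap Γ(E.obj j₀, Ω) Γ(c.pt, ΩLim E c j₀ Ω)) IA ≤
      Ideal.map (algebraMap Γ(E.obj j₀, Ω) Γ(c.pt, ΩLim E c j₀ Ω)) IK) :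
    ∃ j : Over j₀, Q' E j₀ Ω IA IK j := by
  classical
  obtain ⟨s, rfl⟩ := hfg
  have hW := isWeakColimAlg E c j₀ Ω hc hΩ
  have key : ∀ s' : Finset Γ(E.obj j₀, Ω), (∀ a ∈ s', a ∈ s) → ∃ j : Over j₀, ∀ a ∈ s',
      algebraMap Γ(E.obj j₀, Ω) Γ(E.obj j.left, ΩAt E j₀ Ω j) a ∈
        Ideal.map (algebraMap Γ(E.obj j₀, Ω) Γ(E.obj j.left, ΩAt E j₀ Ω j)) IK := by
    intro s'
    induction s' using Finset.induction_on with
    | empty => exact fun _ => ⟨Over.mk (𝟙 j₀), fun a ha => absurd ha (Finset.notMem_empty a)⟩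
    | insert a s' _ ih =>
      intro hs'
      obtain ⟨j₁, h₁⟩ := ih (fun b hb => hs' b (Finset.mem_insert_of_mem hb))
      obtain ⟨j₂, h₂⟩ := exists_mem_map_of_isWeakColimAlg hW IK a
        (hle (Ideal.mem_map_of_mem _ (Ideal.subset_span (hs' a (Finset.mem_insert_self a s')))))
      obtain ⟨l, φ₁, φ₂, -⟩ := IsCofilteredOrEmpty.cone_objs j₁ j₂
      refine ⟨l, fun b hb => ?_⟩
      rcases Finset.mem_insert.mp hb with rfl | hb
      · have := map_mem_map (trans E j₀ Ω φ₂) IK h₂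
        rwa [(trans E j₀ Ω φ₂).commutes] at this
      · have := map_mem_map (trans E j₀ Ω φ₁) IK (h₁ b hb)
        rwa [(trans E j₀ Ω φ₁).commutes] at this
  obtain ⟨j, hj⟩ := key s (fun a ha => ha)
  refine ⟨j, ?_⟩
  unfold Q'
  rw [Ideal.map_span, Ideal.span_le]
  rintro _ ⟨a, ha, rfl⟩
  exact hj a ha


theorem ideal_comap_at (B : (E.obj j₀).IdealSheafData) (U : (E.obj j₀).affineOpens) (j : Over j₀) :
    (B.comap (E.map j.hom)).ideal ⟨ΩAt E j₀ U.1 j, U.2.preimage (E.map j.hom)⟩ =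
      Ideal.map (algebraMap Γ(E.obj j₀, U.1) Γ(E.obj j.left, ΩAt E j₀ U.1 j)) (B.ideal U) :=
  Groth.Agent.Lib.IdealComap.ideal_comap B (E.map j.hom) U.1 U.2 _ (U.2.preimage (E.map j.hom)) le_rfl

/-- **Inclusions of pulled-back ideal sheaves descend to a stage.** -/
theorem exists_comap_le_comap (hc : IsLimit c) (A K : (E.obj j₀).IdealSheafData)
    (t : Finset (E.obj j₀).affineOpens) (ht : ∀ x : E.obj j₀, ∃ U ∈ t, x ∈ U.1)
    (hfg : ∀ U ∈ t, (A.ideal U).FG) (hle : A.comap (c.π.app j₀) ≤ K.comap (c.π.app j₀)) :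
    ∃ (j : J) (g : j ⟶ j₀), A.comap (E.map g) ≤ K.comap (E.map g) := by
  classical
  have := isAffineHom_π_app E c hc
  have hlim : ∀ U : (E.obj j₀).affineOpens,
      Ideal.map (algebraMap Γ(E.obj j₀, U.1) Γ(c.pt, ΩLim E c j₀ U.1)) (A.ideal U) ≤
        Ideal.map (algebraMap Γ(E.obj j₀, U.1) Γ(c.pt, ΩLim E c j₀ U.1)) (K.ideal U) := by
    intro U
    have h1 := Groth.Agent.Lib.IdealComap.ideal_comap A (c.π.app j₀) U.1 U.2 _
      (U.2.preimage (c.π.app j₀)) le_rfl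
    have h2 := Groth.Agent.Lib.IdealComap.ideal_comap K (c.π.app j₀) U.1 U.2 _
      (U.2.preimage (c.π.app j₀)) le_rfl
    have h3 := hle ⟨ΩLim E c j₀ U.1, U.2.preimage (c.π.app j₀)⟩
    rw [h1, h2] at h3
    exact h3
  have key : ∀ t' : Finset (E.obj j₀).affineOpens, (∀ U ∈ t', U ∈ t) → ∃ j : Over j₀, ∀ U ∈ t',
      Q' E j₀ U.1 (A.ideal U) (K.ideal U) j := by
    intro t'
    induction t' using Finset.induction_on with
    | empty => exact fun _ => ⟨Over.mk (𝟙 j₀), fun U hU => absurd hU (Finset.notMem_empty U)⟩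
    | insert U t' _ ih =>
      intro ht'
      obtain ⟨j₁, h₁⟩ := ih (fun V hV => ht' V (Finset.mem_insert_of_mem hV))
      obtain ⟨j₂, h₂⟩ := exists_Q' E c j₀ hc U.2 (A.ideal U) (K.ideal U)
        (hfg U (ht' U (Finset.mem_insert_self U t'))) (hlim U)
      obtain ⟨l, φ₁, φ₂, -⟩ := IsCofilteredOrEmpty.cone_objs j₁ j₂
      refine ⟨l, fun V hV => ?_⟩
      rcases Finset.mem_insert.mp hV with rfl | hV
      · exact Q'_of_hom E j₀ V.1 _ _ φ₂ h₂
      · exact Q'_of_hom E j₀ V.1 _ _ φ₁ (h₁ V hV)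
  obtain ⟨j, hj⟩ := key t (fun U hU => hU)
  refine ⟨j.left, j.hom, ?_⟩
  refine Scheme.IdealSheafData.le_of_iSup_eq_top
    (fun U : t => (⟨ΩAt E j₀ U.1.1 j, U.1.2.preimage (E.map j.hom)⟩ : (E.obj j.left).affineOpens))
    ?_ (fun U => ?_)
  · rw [eq_top_iff]
    intro x _
    obtain ⟨U, hU, hxU⟩ := ht ((E.map j.hom) x)
    exact TopologicalSpace.Opens.mem_iSup.mpr ⟨⟨U, hU⟩, hxU⟩
  · rw [ideal_comap_at, ideal_comap_at]
    exact hj U.1 U.2

end Limit

end Groth.Agent.Lib.H72LimIdeal
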