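import Mathlib
import Groth.Agent.Lib.H72LimMod3
import Groth.Agent.Lib.H72ExactFlat

/-!
# EGA IV 8.5.8-type: exactness at the middle descends along flat transition maps (helper72)

* `stage_eq_zero_of_stage` : vanishing on a stage persists on later stages;
* `exact_iff_pullback_of_flat` : for flat `h`, exactness of `h^* f₀, h^* g₀` in terms of two vanishings;
* `exact_iff_of_flat` : with flat transition maps, `im f₀` and `ker g₀` of finite type, `F → G → H`
  becomes exact on the limit iff it does so on some stage.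
-/

set_option autoImplicit false
set_option linter.style.haveILetI false
universe u

open CategoryTheory Limits AlgebraicGeometry

namespace Groth.Agent.Lib.H72LimMod4

open Groth.Agent.Lib.H72LimMod2 Groth.Agent.Lib.H72LimMod3 Groth.Agent.Lib.H72FpqcDescent

section Pullback

variable {X Y : Scheme.{u}} (h : X ⟶ Y) [Flat h] {F G H : Y.Modules} [F.IsQuasicoherent]
  [G.IsQuasicoherent] [H.IsQuasicoherent] (f : F ⟶ G) (g : G ⟶ H)

theorem exact_iff_pullback_of_flat :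
    (∃ w : (Scheme.Modules.pullback h).map f ≫ (Scheme.Modules.pullback h).map g = 0,
        (ShortComplex.mk _ _ w).Exact) ↔
      (Scheme.Modules.pullback h).map (Abelian.factorThruCoimage f ≫ g) = 0 ∧
        (Scheme.Modules.pullback h).map (kernel.ι g ≫ cokernel.π f) = 0 := by
  haveI := Groth.Agent.Lib.H90OXModExact.isQuasicoherent_kernel g
  haveI : (Abelian.coimage g).IsQuasicoherent :=
    Groth.Agent.Lib.H90OXModExact.isQuasicoherent_cokernel (kernel.ι g)
  exact Groth.Agent.Lib.H72ExactFlat.exact_iff (Scheme.Modules.pullback h) f g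
    (Groth.Agent.Lib.H72PullbackDescent.mono_pullback_of_flat h (kernel.ι g))
    (Groth.Agent.Lib.H72PullbackDescent.mono_pullback_of_flat h (Abelian.factorThruCoimage g))

end Pullback

variable {I : Type u} [SmallCategory I] [IsCofiltered I]
  {D : I ⥤ Scheme.{u}} {c : Limits.Cone D}

omit [IsCofiltered I] in
theorem stage_eq_zero_of_stage {j₂ j₁ i₀ : I} (φ₂ : j₂ ⟶ j₁) (φ₁ : j₁ ⟶ i₀)
    {F₀ G₀ : (D.obj i₀).Modules} (f₀ : F₀ ⟶ G₀)
    (h : (Scheme.Modules.pullback (D.map φ₁)).map f₀ = 0) :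
    (Scheme.Modules.pullback (D.map (φ₂ ≫ φ₁))).map f₀ = 0 := by
  refine map_eq_zero_of_natIso (stageIso φ₂ φ₁) f₀ ?_
  change (Scheme.Modules.pullback (D.map φ₂)).map ((Scheme.Modules.pullback (D.map φ₁)).map f₀) = 0
  rw [h, Functor.map_zero]

variable (hc : Limits.IsLimit c)
  [∀ (i j : I) (f : i ⟶ j), IsAffineHom (D.map f)] (i₀ : I) [CompactSpace (D.obj i₀)]
  {F₀ G₀ H₀ : (D.obj i₀).Modules} [F₀.IsQuasicoherent] [G₀.IsQuasicoherent] [H₀.IsQuasicoherent]

include hc in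
theorem exact_iff_of_flat (hfl : ∀ (i j : I) (φ : i ⟶ j), Flat (D.map φ))
    (f₀ : F₀ ⟶ G₀) (g₀ : G₀ ⟶ H₀)
    (hIm : (Limits.image f₀).IsFiniteType) (hKer : (kernel g₀).IsFiniteType) :
    (∃ w : (Scheme.Modules.pullback (c.π.app i₀)).map f₀ ≫
        (Scheme.Modules.pullback (c.π.app i₀)).map g₀ = 0, (ShortComplex.mk _ _ w).Exact) ↔
      ∃ (j : I) (φ : j ⟶ i₀) (w : (Scheme.Modules.pullback (D.map φ)).map f₀ ≫
        (Scheme.Modules.pullback (D.map φ)).map g₀ = 0), (ShortComplex.mk _ _ w).Exact := by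
  haveI := Groth.Agent.Lib.H90OXModExact.isQuasicoherent_kernel g₀
  haveI := Groth.Agent.Lib.H90OXModExact.isQuasicoherent_cokernel f₀
  haveI := Groth.Agent.Lib.H90OXModExact.isQuasicoherent_kernel f₀
  haveI : (Abelian.coimage f₀).IsQuasicoherent :=
    Groth.Agent.Lib.H90OXModExact.isQuasicoherent_cokernel (kernel.ι f₀)
  haveI := Groth.Agent.Lib.H90OXModExact.isQuasicoherent_abelianImage f₀
  -- the coimage is of finite type
  have hCoim : (Abelian.coimage f₀).IsFiniteType := by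
    let e : Limits.image f₀ ≅ Abelian.coimage f₀ :=
      (Abelian.imageIsoImage f₀).symm ≪≫ (Abelian.coimageIsoImage f₀).symm
    have hq : (Limits.image f₀).IsQuasicoherent :=
      (SheafOfModules.isQuasicoherent (D.obj i₀).ringCatSheaf).prop_of_iso
        (Abelian.imageIsoImage f₀) (inferInstanceAs (Abelian.image f₀).IsQuasicoherent)
    exact (Groth.Agent.Lib.H90OXModExact.isCoh_of_epi e.hom ⟨hq, hIm⟩ inferInstance).2
  haveI hπfl : ∀ j : I, Flat (c.π.app j) := fun j =>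
    Groth.Agent.S4764.result D c hc j (fun j' φ' => hfl _ _ φ')
  haveI : ∀ {j : I} (φ : j ⟶ i₀), Flat (D.map φ) := fun φ => hfl _ _ φ
  rw [exact_iff_pullback_of_flat (c.π.app i₀) f₀ g₀]
  constructor
  · rintro ⟨h1, h2⟩
    obtain ⟨j₁, φ₁, e₁⟩ := (eq_zero_iff hc i₀ hCoim _).1 h1
    obtain ⟨j₂, φ₂, e₂⟩ := (eq_zero_iff hc i₀ hKer _).1 h2
    obtain ⟨j, ψ₁, ψ₂, e⟩ := IsCofiltered.cospan φ₁ φ₂
    refine ⟨j, ψ₁ ≫ φ₁, ?_⟩
    have := (exact_iff_pullback_of_flat (D.map (ψ₁ ≫ φ₁)) f₀ g₀).2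
      ⟨stage_eq_zero_of_stage ψ₁ φ₁ _ e₁, by rw [e]; exact stage_eq_zero_of_stage ψ₂ φ₂ _ e₂⟩
    obtain ⟨w, hw⟩ := this
    exact ⟨w, hw⟩
  · rintro ⟨j, φ, w, hw⟩
    obtain ⟨h1, h2⟩ := (exact_iff_pullback_of_flat (D.map φ) f₀ g₀).1 ⟨w, hw⟩
    exact ⟨lim_eq_zero_of_stage φ _ h1, lim_eq_zero_of_stage φ _ h2⟩

end Groth.Agent.Lib.H72LimMod4
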