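import Mathlib
import Groth.Agent.Lib.H72LimRing

/-!
# Residue fields of a cofiltered limit of schemes (helper72)

`exists_residueFieldMap_eq` : for a cofiltered limit `c` of `D` with affine transition maps and a
point `s` of the limit, every element of `κ(s)` is the image of an element of `κ(s_i)` for some `i`.
-/

set_option autoImplicit false
set_option linter.style.haveILetI false
universe u

open CategoryTheory Limits AlgebraicGeometry

namespace Groth.Agent.Lib.H72LimResidue

open Groth.Agent.Lib.H72LimRing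

attribute [local instance] Groth.Agent.Lib.H72LimRing.algAt Groth.Agent.Lib.H72LimRing.algLim

variable {I : Type u} [Category.{u} I] [IsCofiltered I] (D : I ⥤ Scheme.{u})
  [∀ {i j} (φ : i ⟶ j), IsAffineHom (D.map φ)] (c : Cone D) (hc : IsLimit c)

include hc in
theorem exists_residueFieldMap_eq (s : c.pt) (a : c.pt.residueField s) :
    ∃ (i : I) (b : (D.obj i).residueField (c.π.app i s)),
      ((c.π.app i).residueFieldMap s).hom b = a := by
  -- lift `a` to a germ, then to a section over a basic open of the form `π_j⁻¹ Ω`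
  obtain ⟨g, rfl⟩ := c.pt.residue_surjective s a
  obtain ⟨W, hsW, t, rfl⟩ := c.pt.presheaf.exists_germ_eq g
  obtain ⟨_, ⟨j, Ω, hΩ, rfl⟩, hsΩ, hΩW⟩ :=
    TopologicalSpace.Opens.isBasis_iff_nbhd.mp (isBasis_preimage_isAffineOpen D c hc) hsW
  let t' : Γ(c.pt, ΩLim D c j Ω) := c.pt.presheaf.map (homOfLE hΩW).op t
  obtain ⟨k, x, hx⟩ := exists_toLim_eq D c j Ω hc hΩ t'
  have hsk : c.π.app k.left s ∈ ΩAt D j Ω k := by
    change D.map k.hom (c.π.app k.left s) ∈ Ω
    rw [← Scheme.Hom.comp_apply, c.w]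
    exact hsΩ
  refine ⟨k.left, (D.obj k.left).evaluation (ΩAt D j Ω k) (c.π.app k.left s) hsk x, ?_⟩
  change (ConcreteCategory.hom ((c.π.app k.left).residueFieldMap s)) _ = _
  rw [Scheme.evaluation_naturality_apply]
  -- both sides are evaluations of compatible sections
  have h1 : c.pt.presheaf.map (homOfLE (ΩLim_le D c j Ω k)).op
      ((c.π.app k.left).app (ΩAt D j Ω k) x) = t' := by
    rw [← hx]
    rfl
  have hs' : s ∈ ΩLim D c j Ω := hsΩ
  have e1 : c.pt.evaluation (c.π.app k.left ⁻¹ᵁ ΩAt D j Ω k) s hsk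
      ((c.π.app k.left).app (ΩAt D j Ω k) x) = c.pt.evaluation (ΩLim D c j Ω) s hs' t' := by
    rw [← h1]
    change (c.pt.presheaf.germ _ s hsk ≫ c.pt.residue s) _ =
      (c.pt.presheaf.germ _ s hs' ≫ c.pt.residue s) (c.pt.presheaf.map _ _)
    rw [← c.pt.presheaf.germ_res (homOfLE (ΩLim_le D c j Ω k)) s hs']
    rfl
  refine Eq.trans e1 ?_
  change (c.pt.presheaf.germ _ s hs' ≫ c.pt.residue s) (c.pt.presheaf.map _ t) =
    c.pt.residue s (c.pt.presheaf.germ W s hsW t)
  rw [← c.pt.presheaf.germ_res (homOfLE hΩW) s hs']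
  rfl

end Groth.Agent.Lib.H72LimResidue
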