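import Groth.Agent.Lib.H72LimXT
import Groth.Agent.Lib.H72FpqcFlat
import Groth.Agent.Lib.H72FlatModLim

/-!
# The flattening functor `F_flat` is limit preserving (helper72)

`exists_ET_flat`: for `f : X ⟶ S` quasi-compact and locally of finite presentation, `F` finitely
presented, and a cofiltered system of affine schemes `T_i` over `S` with limit `T`: if `F_T` is flat
over `T` then `F_{T_i}` is flat over `T_i` for some `i` (EGA IV 11.2.6 via `H72FlatModLim`).
-/

set_option autoImplicit false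
set_option linter.style.haveILetI false
universe u

open CategoryTheory Limits AlgebraicGeometry Opposite

namespace Groth.Agent.Lib.H72LimXT

open Groth.Agent.Lib.H72FpqcDescent Groth.Agent.Lib.H72FlatModLim

variable {X S : Scheme.{u}} (f : X ⟶ S)
variable {I : Type u} [SmallCategory I] [IsCofiltered I] (D : I ⥤ Over S) (c : Cone D)

set_option maxHeartbeats 1000000 in
/-- **Flatness of `F_T` over `T` descends to a finite stage.** -/
theorem exists_ET_flat [QuasiCompact f] [LocallyOfFinitePresentation f] (F : X.Modules)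
    [F.IsQuasicoherent] [SheafOfModules.IsFinitePresentation (R := X.ringCatSheaf) F]
    (hc : IsLimit ((Over.forget S).mapCone c)) (hD : ∀ i, IsAffine (D.obj i).left)
    (h0 : FlatMod.IsFlatOver (PicF.XTproj f c.pt) (FGA.ET f F c.pt)) :
    ∃ i : I, FlatMod.IsFlatOver (PicF.XTproj f (D.obj i)) (FGA.ET f F (D.obj i)) := by
  haveI : ∀ {i j : I} (φ : i ⟶ j), IsAffineHom ((D ⋙ Over.forget S).map φ) := fun {i j} φ => by
    haveI := hD i
    haveI := hD j
    exact inferInstanceAs (IsAffineHom (D.map φ).left)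
  let i₀ : I := IsCofiltered.nonempty.some
  haveI := hD i₀
  haveI : CompactSpace ↑(PicF.XT f (D.obj i₀)) :=
    inferInstanceAs (CompactSpace ↑(pullback f (D.obj i₀).hom))
  haveI : LocallyOfFinitePresentation (PicF.XTproj f (D.obj i₀)) :=
    inferInstanceAs (LocallyOfFinitePresentation (pullback.snd f (D.obj i₀).hom))
  haveI : (FGA.ET f F (D.obj i₀)).IsQuasicoherent :=
    Groth.Agent.Lib.H72PullbackQCoh.isQuasicoherent_pullback _ F
  haveI : SheafOfModules.IsFinitePresentation (R := (PicF.XT f (D.obj i₀)).ringCatSheaf)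
      (FGA.ET f F (D.obj i₀)) :=
    Groth.Agent.Lib.Fitting82.isFinitePresentation_pullback _ F
  have hY : IsPullback (c.π.app i₀).left (𝟙 c.pt.left) (𝟙 ((D ⋙ Over.forget S).obj i₀))
      (((Over.forget S).mapCone c).π.app i₀) :=
    IsPullback.id_vert (c.π.app i₀).left
  have hX : IsPullback (PicF.XTmap f (c.π.app i₀)) (PicF.XTproj f c.pt)
      (PicF.XTproj f (D.obj i₀)) (c.π.app i₀).left := isPullback_XTmap f (c.π.app i₀)
  have hflat : FlatMod.IsFlatOver (PicF.XTproj f c.pt)
      ((Scheme.Modules.pullback (PicF.XTmap f (c.π.app i₀))).obj (FGA.ET f F (D.obj i₀))) :=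
    fun x => (Groth.Agent.Lib.H72FlatBaseChange.isFlatOverAt_iff_of_iso _
      (FGA.ETiso f F (c.π.app i₀)) x).2 (h0 x)
  obtain ⟨i, φ, Xi, Yi, fi, gi, pY, pX, hYi, hXi, hfl⟩ :=
    (isFlatOver_iff_exists_stage (D ⋙ Over.forget S) ((Over.forget S).mapCone c)
      (PicF.XTproj f (D.obj i₀)) (𝟙 ((D ⋙ Over.forget S).obj i₀)) hc (FGA.ET f F (D.obj i₀))
      (PicF.XTproj f c.pt) (𝟙 c.pt.left) (c.π.app i₀).left (PicF.XTmap f (c.π.app i₀)) hY hX).mp
      hflat
  refine ⟨i, fun x => ?_⟩
  have hgi : IsIso gi := hYi.isIso_snd_of_isIso (IsIso.id _)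
  let gi' : Yi ⟶ (D.obj i).left := gi
  haveI : IsIso gi' := hgi
  have hw : pY = gi' ≫ (D.map φ).left := (Category.comp_id pY).symm.trans hYi.w
  have e1 : inv gi' ≫ pY = (D.map φ).left := by rw [hw, IsIso.inv_hom_id_assoc]
  have e2 : PicF.XTmap f (D.map φ) ≫ PicF.XTproj f (D.obj i₀) =
      (PicF.XTproj f (D.obj i) ≫ inv gi') ≫ pY := by
    rw [Category.assoc, e1]
    exact XTmap_snd f (D.map φ)
  let a : PicF.XT f (D.obj i) ⟶ Xi :=
    hXi.lift (PicF.XTmap f (D.map φ)) (PicF.XTproj f (D.obj i) ≫ inv gi') e2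
  have ha1 : a ≫ pX = PicF.XTmap f (D.map φ) := hXi.lift_fst _ _ _
  have ha2 : a ≫ fi = PicF.XTproj f (D.obj i) ≫ inv gi' := hXi.lift_snd _ _ _
  have sq : IsPullback a (PicF.XTproj f (D.obj i)) fi (inv gi') := by
    refine IsPullback.of_right ?_ ha2 hXi
    rw [ha1, e1]
    exact isPullback_XTmap f (D.map φ)
  have h1 := isFlatOverAt_pullback_comp sq pX (PicF.XTmap f (D.map φ)) ha1
    (FGA.ET f F (D.obj i₀)) x (hfl (a x))
  exact (Groth.Agent.Lib.H72FlatBaseChange.isFlatOverAt_iff_of_iso _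
    (FGA.ETiso f F (D.map φ)) x).1 h1

end Groth.Agent.Lib.H72LimXT
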