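import Mathlib
import Groth.Prelude.Def_W4c6modpairsegaMP
import Groth.Agent.Lib.H72LimHomLFT
import Groth.Agent.Lib.H72LimIdeal

/-!
# Ambient morphisms of modulus pairs out of a cofiltered limit descend to a stage (helper72)
-/

set_option autoImplicit false
universe u

open CategoryTheory Limits AlgebraicGeometry

namespace Groth.Agent.Lib.H72ModPairLim

variable {S : Scheme.{u}} {I : Type u} [Category.{u} I] [IsCofiltered I] (D : I ⥤ Over S)
  (c : Cone D) (hc : IsLimit c)
  [∀ {i j : I} (t : i ⟶ j), IsAffineHom (D.map t).left]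
  [∀ i, CompactSpace (D.obj i).left] [∀ i, QuasiSeparatedSpace (D.obj i).left]

set_option backward.defeqAttrib.useBackward true in
set_option backward.isDefEq.respectTransparency false in
include hc in
/-- An `S`-morphism from the limit to `Y` (locally of finite type) factors through a stage if either the
transition maps are scheme-theoretically dominant or `Y` is locally of finite presentation. -/
theorem exists_factor (Y : Over S) [LocallyOfFiniteType Y.hom]
    (h : (∀ (i j : I) (t : i ⟶ j), IsSchemeTheoreticallyDominant (D.map t).left) ∨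
      LocallyOfFinitePresentation Y.hom) (φ : c.pt ⟶ Y) :
    ∃ (i : I) (φi : D.obj i ⟶ Y), c.π.app i ≫ φi = φ := by
  have hcomp (i : I) : CompactSpace ((D ⋙ Over.forget S).obj i) := by dsimp; infer_instance
  have hqs (i : I) : QuasiSeparatedSpace ((D ⋙ Over.forget S).obj i) := by dsimp; infer_instance
  have haff {i j : I} (f : i ⟶ j) : IsAffineHom ((D ⋙ Over.forget S).map f) := by
    dsimp; infer_instance
  rcases h with h | h
  · have : ∀ {i j : I} (t : i ⟶ j), IsSchemeTheoreticallyDominant (D.map t).left :=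
      fun t => h _ _ t
    exact Groth.Agent.Lib.H72LimHomLFT.exists_factor_over D c hc Y φ
  · obtain ⟨k, u, h1, h2⟩ := Scheme.exists_π_app_comp_eq_of_locallyOfFinitePresentation
      (D ⋙ Over.forget _) (.mk (fun _ ↦ (D.obj _).hom)) Y.hom _ (isLimitOfPreserves _ hc)
      φ.left (by ext; simp)
    exact ⟨k, Over.homMk u h2, Over.OverMorphism.ext h1⟩

set_option backward.defeqAttrib.useBackward true in
set_option backward.isDefEq.respectTransparency false in
include hc in
/-- **The modulus condition descends to a stage** (= S18745). -/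
theorem exists_descend_ambient
    (J : ∀ i, (D.obj i).left.IdealSheafData) (hJ : ∀ i, BlowUp.IsEffCartierIdeal (J i))
    (hmin : ∀ (i j : I) (t : i ⟶ j), ModPair.IsMinimal (J i) (J j) (D.map t).left)
    (IX : c.pt.left.IdealSheafData) (hIX : ∀ i, IX = (J i).comap (c.π.app i).left)
    (Y : Over S) [LocallyOfFiniteType Y.hom] (IY : Y.left.IdealSheafData)
    (h : (∀ (i j : I) (t : i ⟶ j), IsSchemeTheoreticallyDominant (D.map t).left) ∨
      LocallyOfFinitePresentation Y.hom)
    (φ : c.pt ⟶ Y) (hφ : ModPair.IsAmbient IX IY φ.left) :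
    ∃ (i : I) (φi : D.obj i ⟶ Y), ModPair.IsAmbient (J i) IY φi.left ∧ c.π.app i ≫ φi = φ := by
  classical
  have hcomp (i : I) : CompactSpace ((D ⋙ Over.forget S).obj i) := by dsimp; infer_instance
  have hqs (i : I) : QuasiSeparatedSpace ((D ⋙ Over.forget S).obj i) := by dsimp; infer_instance
  have haff {i j : I} (f : i ⟶ j) : IsAffineHom ((D ⋙ Over.forget S).map f) := by
    dsimp; infer_instance
  obtain ⟨i₁, φ₁, hφ₁⟩ := exists_factor D c hc Y h φ
  have hle : (J i₁).comap (((Over.forget S).mapCone c).π.app i₁) ≤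
      (IY.comap φ₁.left).comap (((Over.forget S).mapCone c).π.app i₁) := by
    have e1 : (J i₁).comap (((Over.forget S).mapCone c).π.app i₁) = IX := (hIX i₁).symm
    have e2 : (IY.comap φ₁.left).comap (((Over.forget S).mapCone c).π.app i₁) =
        IY.comap φ.left := by
      rw [← Scheme.IdealSheafData.comap_comp, ← hφ₁]
      rfl
    rw [e1, e2]
    exact hφ
  choose U hxU f hf hI using hJ i₁
  obtain ⟨s, hs⟩ := isCompact_univ.elim_finite_subcover
    (fun x : (D.obj i₁).left => ((U x).1 : Set (D.obj i₁).left)) (fun x => (U x).1.2)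
    (fun x _ => Set.mem_iUnion.mpr ⟨x, hxU x⟩)
  obtain ⟨j, g, hjg⟩ := Groth.Agent.Lib.H72LimIdeal.exists_comap_le_comap (D ⋙ Over.forget S)
    ((Over.forget S).mapCone c) i₁ (isLimitOfPreserves _ hc) (J i₁) (IY.comap φ₁.left) (s.image U)
    (fun x => by
      obtain ⟨y, hy, hxy⟩ : ∃ y ∈ s, x ∈ (U y).1 := by
        have := hs (Set.mem_univ x)
        simpa using this
      exact ⟨U y, Finset.mem_image_of_mem U hy, hxy⟩)
    (fun V hV => by
      obtain ⟨y, -, rfl⟩ := Finset.mem_image.mp hV
      rw [hI y]
      exact ⟨{f y}, by simp⟩) hle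
  refine ⟨j, D.map g ≫ φ₁, ?_, ?_⟩
  · have e1 : J j = (J i₁).comap (D.map g).left := hmin j i₁ g
    have e2 : IY.comap (D.map g ≫ φ₁).left = (IY.comap φ₁.left).comap (D.map g).left := by
      rw [← Scheme.IdealSheafData.comap_comp]
      rfl
    change J j ≤ IY.comap (D.map g ≫ φ₁).left
    rw [e1, e2]
    exact hjg
  · rw [← Category.assoc, c.w, hφ₁]

end Groth.Agent.Lib.H72ModPairLim
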