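import Mathlib
import Groth.Agent.Lib.ModDesc62Step
import Groth.Agent.Lib.LocFreePres
import Groth.Agent.Lib.LocalFlex
import Groth.Agent.Lib.H90InvertiblePullback

set_option autoImplicit false
universe u
open CategoryTheory Limits AlgebraicGeometry TopologicalSpace Opposite
open AlgebraicGeometry.Scheme AlgebraicGeometry.Scheme.Modules

namespace Groth.Agent.Lib.ModDesc62

open Groth.Agent.Lib.ModGlue62 Groth.Agent.Lib.ModBC62
open Groth.Agent.Lib.LimPullback Groth.Agent.Lib.LimDescent Groth.Agent.Lib.H90RestrictEquiv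
open Groth.Agent.Lib.H90Invertible

section AffinePres

variable {S : Scheme.{u}} [IsAffine S] (F : S.Modules)
  [SheafOfModules.IsFinitePresentation (R := S.ringCatSheaf) F]

set_option backward.isDefEq.respectTransparency false in
/-- a finitely presented module on an affine scheme has a global finite presentation -/
theorem exists_global_presentation : ∃ P : F.Presentation, P.IsFinite := by
  haveI : F.IsQuasicoherent := inferInstance
  obtain ⟨P, hP⟩ := Groth.Agent.Lib.H90OXModAffine.exists_presentation_restrict_of_finitePresentation F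
    (isAffineOpen_top S) (Groth.Agent.Lib.H90OXModFP.finitePresentation_sections F (isAffineOpen_top S))
  let e : (F.restrict (⊤ : S.Opens).ι).restrict S.topIso.inv ≅ F :=
    ((restrictCompIso S.topIso.inv (⊤ : S.Opens).ι (𝟙 S) S.toIso_inv_ι).app F).symm ≪≫
      restrictFunctorId.app F
  haveI := Groth.Agent.Lib.H90OXModAffine.isFinite_presentationRestrict S.topIso.inv P
  exact ⟨(presentationRestrict S.topIso.inv P).ofIsIso e.hom, inferInstance⟩

/-- a finitely presented module on an affine scheme is the cokernel of a map of finite free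
modules -/
theorem exists_cokernel_iso : ∃ (p m : ℕ) (ρ : FlatMod.freeMod S p ⟶ FlatMod.freeMod S m),
    Nonempty (cokernel ρ ≅ F) := by
  obtain ⟨P, hP⟩ := exists_global_presentation F
  obtain ⟨m, p, π, hπ, ρ, hρπ, hex⟩ := Groth.Agent.Lib.LocFreePres.exists_maps_of_presentation P
  refine ⟨p, m, ρ, ⟨?_⟩⟩
  have hcok : IsColimit (CokernelCofork.ofπ π hρπ) := hex.gIsCokernel
  exact (cokernelIsCokernel ρ).coconePointUniqueUpToIso hcok

end AffinePres

section AffineCase

variable {J : Type u} [Category.{u} J] [IsCofiltered J] (E : J ⥤ Scheme.{u})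
  [∀ {i j} (φ : i ⟶ j), IsAffineHom (E.map φ)] (c : Cone E) (hc : IsLimit c) (j₀ : J)

set_option backward.isDefEq.respectTransparency false in
include hc in
/-- **The affine case**: a finitely presented module on the limit descends to a stage when the
base stage is affine. -/
theorem desc_affine [IsAffine (E.obj j₀)] (F : c.pt.Modules)
    [SheafOfModules.IsFinitePresentation (R := c.pt.ringCatSheaf) F] :
    ∃ l : Over j₀, Nonempty (DescAt (c.π.app l.left) F) := by
  haveI := isAffineHom_π_app E c hc j₀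
  haveI : IsAffine c.pt := isAffine_of_isAffineHom (c.π.app j₀)
  obtain ⟨p, m, ρ, ⟨e⟩⟩ := exists_cokernel_iso F
  let F₀ : (E.obj j₀).Modules := FlatMod.freeMod (E.obj j₀) p
  let G₀ : (E.obj j₀).Modules := FlatMod.freeMod (E.obj j₀) m
  haveI : SheafOfModules.IsFinitePresentation (R := (E.obj j₀).ringCatSheaf) F₀ :=
    isFinitePresentation_of_isFinLocFree (isFinLocFree_freeMod _ p)
  haveI : SheafOfModules.IsFinitePresentation (R := (E.obj j₀).ringCatSheaf) G₀ :=
    isFinitePresentation_of_isFinLocFree (isFinLocFree_freeMod _ m)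
  haveI : F₀.IsQuasicoherent := inferInstance
  haveI : G₀.IsQuasicoherent := inferInstance
  let h : (Modules.pullback (c.π.app j₀)).obj F₀ ⟶ (Modules.pullback (c.π.app j₀)).obj G₀ :=
    (pullbackFreeModIso (c.π.app j₀) p).hom ≫ ρ ≫ (pullbackFreeModIso (c.π.app j₀) m).inv
  obtain ⟨l, hj, hhj⟩ := Groth.Agent.Lib.H72LimHom.exists_hom_stage E c hc j₀ F₀ G₀ h
  have hfp : SheafOfModules.IsFinitePresentation (R := (E.obj l.left).ringCatSheaf) (cokernel hj) :=
    Groth.Agent.Lib.LocalFlex.isFP_cokernel_of_isFinLocFree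
      (isFinLocFree_pullback _ (isFinLocFree_freeMod _ p))
      (isFinLocFree_pullback _ (isFinLocFree_freeMod _ m)) hj
  haveI : PreservesColimitsOfSize.{0, 0} (Modules.pullback (c.π.app l.left)) :=
    (pullbackPushforwardAdjunction (c.π.app l.left)).leftAdjoint_preservesColimits
  let i1 : (Modules.pullback (c.π.app l.left)).obj (cokernel hj) ≅
      cokernel ((Modules.pullback (c.π.app l.left)).map hj) := PreservesCokernel.iso _ _
  let i2 : cokernel ((Modules.pullback (c.π.app l.left)).map hj) ≅ cokernel h :=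
    cokernel.mapIso _ _ (Groth.Agent.Lib.H72SecTrans.cIso (Groth.Agent.Lib.H72LimHom.wLim E c j₀ l) F₀)
      (Groth.Agent.Lib.H72SecTrans.cIso (Groth.Agent.Lib.H72LimHom.wLim E c j₀ l) G₀) (by
        rw [← hhj, Iso.hom_inv_id_assoc])
  let i3 : cokernel h ≅ cokernel ρ :=
    cokernel.mapIso _ _ (pullbackFreeModIso (c.π.app j₀) p) (pullbackFreeModIso (c.π.app j₀) m) (by
      simp only [h, Category.assoc, Iso.inv_hom_id, Category.comp_id])
  haveI := hfp
  exact ⟨l, ⟨DescAt.ofIso (cokernel hj) inferInstance hfp (i1 ≪≫ i2 ≪≫ i3 ≪≫ e)⟩⟩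

end AffineCase

section Induction

theorem iSup_fin_castSucc {α : Type*} [CompleteLattice α] {n : ℕ} (f : Fin (n + 1) → α) :
    (⨆ i : Fin n, f i.castSucc) ⊔ f (Fin.last n) = ⨆ i, f i := by
  apply le_antisymm
  · exact sup_le (iSup_le fun i => le_iSup f _) (le_iSup f _)
  · refine iSup_le fun i => ?_
    refine Fin.lastCases ?_ (fun j => ?_) i
    · exact le_sup_right
    · exact le_sup_of_le_left (le_iSup (fun j : Fin n => f j.castSucc) j)

/-- **Descent of finitely presented modules**, by induction on the size of an affine cover of the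
base stage. -/
theorem desc_of_cover : ∀ (n : ℕ) {J : Type u} [Category.{u} J] [IsCofiltered J] (E : J ⥤ Scheme.{u})
    [∀ {i j} (φ : i ⟶ j), IsAffineHom (E.map φ)] (c : Cone E) (_ : IsLimit c) (j₀ : J)
    [QuasiSeparatedSpace (E.obj j₀)]
    (𝒰 : Fin n → (E.obj j₀).Opens) (_ : ∀ i, IsAffineOpen (𝒰 i)) (_ : ⨆ i, 𝒰 i = ⊤)
    (F : c.pt.Modules) [SheafOfModules.IsFinitePresentation (R := c.pt.ringCatSheaf) F],
    ∃ l : Over j₀, Nonempty (DescAt (c.π.app l.left) F) := by
  intro n
  induction n with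
  | zero =>
    intro J _ _ E _ c hc j₀ _ 𝒰 h𝒰 hcov F _
    haveI : IsEmpty (E.obj j₀) := by
      constructor
      intro x
      have hx : x ∈ (⨆ i, 𝒰 i : (E.obj j₀).Opens) := by rw [hcov]; trivial
      obtain ⟨i, -⟩ := TopologicalSpace.Opens.mem_iSup.mp hx
      exact Fin.elim0 i
    exact desc_affine E c hc j₀ F
  | succ n ih =>
    intro J _ _ E _ c hc j₀ _ 𝒰 h𝒰 hcov F _
    let U : (E.obj j₀).Opens := ⨆ i : Fin n, 𝒰 i.castSucc
    let V : (E.obj j₀).Opens := 𝒰 (Fin.last n)
    have hUV : U ⊔ V = ⊤ := by rw [← hcov]; exact iSup_fin_castSucc 𝒰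
    let k₀ : Over j₀ := Over.mk (𝟙 j₀)
    -- the `U`-part, by induction
    have hsndU : (pullback.snd U.ι (E.map k₀.hom)).opensRange = U := by
      rw [opensRange_snd]
      change (E.map (𝟙 j₀)) ⁻¹ᵁ U = U
      rw [E.map_id]
      rfl
    let 𝒰' : Fin n → ((pbDiagram E j₀ U.ι).obj k₀).Opens := fun i =>
      (pullback.snd U.ι (E.map k₀.hom)) ⁻¹ᵁ 𝒰 i.castSucc
    have h𝒰' : ∀ i, IsAffineOpen (𝒰' i) := fun i =>
      (h𝒰 i.castSucc).preimage_of_isOpenImmersion (pullback.snd U.ι (E.map k₀.hom)) (by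
        rw [hsndU]
        exact le_iSup (fun j : Fin n => 𝒰 j.castSucc) i)
    have hcov' : ⨆ i, 𝒰' i = ⊤ := by
      change ⨆ i : Fin n, (pullback.snd U.ι (E.map k₀.hom)) ⁻¹ᵁ 𝒰 i.castSucc = ⊤
      rw [← Scheme.Hom.preimage_iSup]
      change (pullback.snd U.ι (E.map k₀.hom)) ⁻¹ᵁ U = ⊤
      have h1 := Scheme.Hom.preimage_opensRange (pullback.snd U.ι (E.map k₀.hom))
      rw [hsndU] at h1
      exact h1
    haveI : QuasiSeparatedSpace U.toScheme := U.ι.isOpenEmbedding.quasiSeparatedSpace
    haveI : SheafOfModules.IsFinitePresentation (R := (pbCone E c j₀ U.ι).pt.ringCatSheaf)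
        (FY E c j₀ F U) := isFP_restrict _ _
    obtain ⟨l₁, ⟨dA⟩⟩ := ih (pbDiagram E j₀ U.ι) (pbCone E c j₀ U.ι)
      (isLimitPbCone (D := E) (c := c) (i := j₀) (a := U.ι) hc) k₀ 𝒰' h𝒰' hcov' (FY E c j₀ F U)
    -- the `V`-part, affine
    haveI : IsAffine V.toScheme := h𝒰 (Fin.last n)
    haveI : IsAffine ((pbDiagram E j₀ V.ι).obj k₀) :=
      inferInstanceAs (IsAffine (pullback V.ι (E.map k₀.hom)))
    haveI : SheafOfModules.IsFinitePresentation (R := (pbCone E c j₀ V.ι).pt.ringCatSheaf)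
        (FY E c j₀ F V) := isFP_restrict _ _
    obtain ⟨l₂, ⟨dB⟩⟩ := desc_affine (pbDiagram E j₀ V.ι) (pbCone E c j₀ V.ι)
      (isLimitPbCone (D := E) (c := c) (i := j₀) (a := V.ι) hc) k₀ (FY E c j₀ F V)
    -- compactness of the intersection
    have hUc : IsCompact (U : Set (E.obj j₀)) := by
      have : (U : Set (E.obj j₀)) = ⋃ i : Fin n, (𝒰 i.castSucc : Set (E.obj j₀)) := by
        simp [U]
      rw [this]
      exact isCompact_iUnion fun i => (h𝒰 i.castSucc).isCompact
    have hVc : IsCompact (V : Set (E.obj j₀)) := (h𝒰 (Fin.last n)).isCompact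
    haveI : CompactSpace (U ⊓ V).toScheme :=
      isCompact_iff_compactSpace.mp
        (QuasiSeparatedSpace.inter_isCompact U.1 V.1 U.2 hUc V.2 hVc)
    haveI : QuasiSeparatedSpace (U ⊓ V).toScheme := (U ⊓ V).ι.isOpenEmbedding.quasiSeparatedSpace
    exact step hc hUV dA dB

end Induction

end Groth.Agent.Lib.ModDesc62
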