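import Mathlib
import Groth.Agent.Lib.ModDesc62Main

set_option autoImplicit false
universe u
open CategoryTheory Limits AlgebraicGeometry TopologicalSpace Opposite
open AlgebraicGeometry.Scheme AlgebraicGeometry.Scheme.Modules

namespace Groth.Agent.Lib.ModDesc62

theorem exists_fin_affine_cover (X : Scheme.{u}) [CompactSpace X] :
    ∃ (n : ℕ) (𝒰 : Fin n → X.Opens), (∀ i, IsAffineOpen (𝒰 i)) ∧ ⨆ i, 𝒰 i = ⊤ := by
  obtain ⟨s, hs, hcov⟩ := (isCompact_iff_finite_and_eq_biUnion_affineOpens (U := (⊤ : X.Opens))).mp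
    isCompact_univ
  haveI : Finite s := hs
  obtain ⟨n, ⟨e⟩⟩ := Finite.exists_equiv_fin s
  refine ⟨n, fun i => ((e.symm i : s) : X.affineOpens).1, fun i => ((e.symm i : s) : X.affineOpens).2, ?_⟩
  rw [hcov]
  apply le_antisymm
  · refine iSup_le fun i => ?_
    have : ((e.symm i : s) : X.affineOpens) ∈ s := (e.symm i).2
    exact le_iSup₂ (f := fun (j : X.affineOpens) (_ : j ∈ s) => (j : X.Opens)) _ this
  · refine iSup₂_le fun j hj => ?_
    have h1 := le_iSup (fun i : Fin n => (((e.symm i : s) : X.affineOpens).1 : X.Opens)) (e ⟨j, hj⟩)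
    simpa using h1

/-- **EGA IV 8.5.2 (ii)**: a finitely presented quasi-coherent module on a cofiltered limit of
schemes with affine transition maps (with a quasi-compact quasi-separated stage) descends to a
stage. -/
theorem exists_descend {I : Type u} [SmallCategory I] [IsCofiltered I] (D : I ⥤ Scheme.{u})
    (c : Cone D) (hc : IsLimit c) [∀ {i j} (f : i ⟶ j), IsAffineHom (D.map f)] (i₀ : I)
    [CompactSpace (D.obj i₀)] [QuasiSeparatedSpace (D.obj i₀)] (F : c.pt.Modules)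
    [SheafOfModules.IsFinitePresentation (R := c.pt.ringCatSheaf) F] :
    ∃ (i : I) (_ : i ⟶ i₀) (Fi : (D.obj i).Modules), Fi.IsQuasicoherent ∧
      SheafOfModules.IsFinitePresentation (R := (D.obj i).ringCatSheaf) Fi ∧
      Nonempty ((Scheme.Modules.pullback (c.π.app i)).obj Fi ≅ F) := by
  obtain ⟨n, 𝒰, h𝒰, hcov⟩ := exists_fin_affine_cover (D.obj i₀)
  obtain ⟨l, ⟨d⟩⟩ := desc_of_cover n D c hc i₀ 𝒰 h𝒰 hcov F
  exact ⟨l.left, l.hom, d.G, d.qc, d.fp, ⟨d.iso⟩⟩

end Groth.Agent.Lib.ModDesc62
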