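import Groth.Agent.Lib.DescFPModFlat62
import Groth.Agent.Lib.H72FlatModLimPt
import Groth.Agent.S4788

/-!
# Noetherian approximation preserving flatness of a module (helper72)

EGA IV 11.2.7-type: a finitely presented `X ⟶ Spec A` with a finitely presented module `F` flat at a
point (resp. flat) is the base change of a model over a finitely generated `ℤ`-subalgebra of `A`
whose module is flat at the image point (resp. flat).  Uses helper62's `ConsLocusMod.exists_model_mod`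
and `H72FlatModLim(Pt)`.
-/

set_option autoImplicit false
set_option linter.style.haveILetI false
universe u

open CategoryTheory Limits AlgebraicGeometry

namespace Groth.Agent.Lib.H72NoethApproxFlat

open Groth.Agent.Lib.ConsLocusMod Groth.Agent.Lib.FGSubalgLimitU

theorem modDescent : ModDescent.{u} :=
  fun D c hc _ i₀ _ _ F _ hF => Groth.Agent.S4788.result D c hc i₀ F hF

set_option maxHeartbeats 1000000 in
/-- Pointwise version. -/
theorem exists_model_mod_flatAt (A : Type u) [CommRing A] {X : Scheme.{u}}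
    (f : X ⟶ Spec (CommRingCat.of A)) [LocallyOfFinitePresentation f] [QuasiCompact f]
    [QuasiSeparated f] (F : X.Modules) (hF : CohB1.IsFP F) (x : X)
    (hfl : FlatMod.IsFlatOverAt f F x) :
    ∃ (A₀ : Subalgebra ℤ A) (_ : A₀.FG) (X₀ : Scheme.{u})
      (f₀ : X₀ ⟶ Spec (CommRingCat.of ↥A₀)) (g' : X ⟶ X₀) (F₀ : X₀.Modules),
      LocallyOfFinitePresentation f₀ ∧ QuasiCompact f₀ ∧
      IsPullback g' f f₀ (Spec.map (CommRingCat.ofHom A₀.val.toRingHom)) ∧
      CohB1.IsFP F₀ ∧ FlatMod.IsFlatOverAt f₀ F₀ (g' x) ∧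
      Nonempty ((Scheme.Modules.pullback g').obj F₀ ≅ F) := by
  haveI : ∀ {i j : (FGSub ℤ A)ᵒᵖ} (φ : i ⟶ j), IsAffineHom ((D ℤ A).map φ) :=
    fun φ => inferInstance
  haveI : ∀ i, CompactSpace ((D ℤ A).obj i) := fun i =>
    (inferInstance : CompactSpace (Spec (CommRingCat.of i.unop.1)))
  haveI : ∀ i, QuasiSeparatedSpace ((D ℤ A).obj i) := fun i =>
    (inferInstance : QuasiSeparatedSpace (Spec (CommRingCat.of i.unop.1)))
  have key : ∀ (f' : X ⟶ (cone ℤ A).pt) [LocallyOfFinitePresentation f'] [QuasiCompact f']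
      [QuasiSeparated f'] (_ : FlatMod.IsFlatOverAt f' F x),
      ∃ (k : (FGSub ℤ A)ᵒᵖ) (X₀ : Scheme.{u}) (f₀ : X₀ ⟶ (D ℤ A).obj k) (g' : X ⟶ X₀)
        (F₀ : X₀.Modules), LocallyOfFinitePresentation f₀ ∧ QuasiCompact f₀ ∧
        IsPullback g' f' f₀ ((cone ℤ A).π.app k) ∧
        CohB1.IsFP F₀ ∧ FlatMod.IsFlatOverAt f₀ F₀ (g' x) ∧
        Nonempty ((Scheme.Modules.pullback g').obj F₀ ≅ F) := by
    intro f' _ _ _ hfl'
    obtain ⟨j, Xj, fj, q, Fj, hlfp, hqc, sq, hFj, ⟨iso⟩⟩ :=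
      exists_model_mod (D ℤ A) (cone ℤ A) (isLimitCone ℤ A) modDescent f' F hF
    haveI := hlfp
    haveI := hqc
    haveI : SheafOfModules.IsFinitePresentation (R := Xj.ringCatSheaf) Fj := hFj
    haveI : Fj.IsQuasicoherent := (isCoh_of_isFP Fj hFj).1
    have hflat' : FlatMod.IsFlatOverAt f' ((Scheme.Modules.pullback q).obj Fj) x :=
      (Groth.Agent.Lib.H72FlatBaseChange.isFlatOverAt_iff_of_iso f' iso x).mpr hfl'
    have hY : IsPullback ((cone ℤ A).π.app j) (𝟙 (cone ℤ A).pt) (𝟙 ((D ℤ A).obj j))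
        ((cone ℤ A).π.app j) := IsPullback.id_vert _
    obtain ⟨i, ψ, Xi, Yi, fi, gi, pY, pX, vY, vX, hYi, hXi, e1, e2, e3, e4, hfli⟩ :=
      Groth.Agent.Lib.H72FlatModLim.exists_stage_isFlatOverAt (D ℤ A) (cone ℤ A) fj
        (𝟙 ((D ℤ A).obj j)) (isLimitCone ℤ A) Fj f' (𝟙 (cone ℤ A).pt) ((cone ℤ A).π.app j) q
        hY sq x hflat'
    haveI : IsIso gi := hYi.isIso_snd_of_isIso
    have e2' : vY ≫ gi = (cone ℤ A).π.app i := by rw [e2, Category.id_comp]
    have sq1 : IsPullback vX f' fi vY := by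
      refine IsPullback.of_right ?_ e4 hXi
      rw [e3, e1]
      exact sq
    have sq2 : IsPullback vY (𝟙 (cone ℤ A).pt) gi ((cone ℤ A).π.app i) :=
      IsPullback.of_vert_isIso ⟨by rw [e2', Category.id_comp]⟩
    have sq3 : IsPullback vX f' (fi ≫ gi) ((cone ℤ A).π.app i) := by
      have := sq1.paste_vert sq2
      rwa [Category.comp_id] at this
    haveI : LocallyOfFinitePresentation fi := MorphismProperty.of_isPullback hXi inferInstance
    haveI : QuasiCompact fi := MorphismProperty.of_isPullback hXi inferInstance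
    refine ⟨i, Xi, fi ≫ gi, vX, (Scheme.Modules.pullback pX).obj Fj, inferInstance, inferInstance,
      sq3, isFP_pullback pX Fj hFj, ?_, ⟨?_⟩⟩
    · exact Groth.Agent.Lib.H72FlatBaseChange.isFlatOverAt_comp_of_flat fi gi _ (vX x)
        (RingHom.Flat.of_bijective (ConcreteCategory.bijective_of_isIso (gi.stalkMap (fi (vX x)))))
        hfli
    · exact (Scheme.Modules.pullbackComp vX pX).app Fj ≪≫
        (Scheme.Modules.pullbackCongr e3).app Fj ≪≫ iso
  obtain ⟨k, X₀, f₀, g', F₀, h1, h2, sq, hF₀, hfl₀, iso⟩ := @key f ‹_› ‹_› ‹_› hfl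
  exact ⟨k.unop.1, k.unop.2, X₀, f₀, g', F₀, h1, h2, sq, hF₀, hfl₀, iso⟩

set_option maxHeartbeats 1000000 in
/-- Global version. -/
theorem exists_model_mod_flat (A : Type u) [CommRing A] {X : Scheme.{u}}
    (f : X ⟶ Spec (CommRingCat.of A)) [LocallyOfFinitePresentation f] [QuasiCompact f]
    [QuasiSeparated f] (F : X.Modules) (hF : CohB1.IsFP F)
    (hfl : FlatMod.IsFlatOver f F) :
    ∃ (A₀ : Subalgebra ℤ A) (_ : A₀.FG) (X₀ : Scheme.{u})
      (f₀ : X₀ ⟶ Spec (CommRingCat.of ↥A₀)) (g' : X ⟶ X₀) (F₀ : X₀.Modules),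
      LocallyOfFinitePresentation f₀ ∧ QuasiCompact f₀ ∧
      IsPullback g' f f₀ (Spec.map (CommRingCat.ofHom A₀.val.toRingHom)) ∧
      CohB1.IsFP F₀ ∧ FlatMod.IsFlatOver f₀ F₀ ∧
      Nonempty ((Scheme.Modules.pullback g').obj F₀ ≅ F) := by
  haveI : ∀ {i j : (FGSub ℤ A)ᵒᵖ} (φ : i ⟶ j), IsAffineHom ((D ℤ A).map φ) :=
    fun φ => inferInstance
  haveI : ∀ i, CompactSpace ((D ℤ A).obj i) := fun i =>
    (inferInstance : CompactSpace (Spec (CommRingCat.of i.unop.1)))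
  haveI : ∀ i, QuasiSeparatedSpace ((D ℤ A).obj i) := fun i =>
    (inferInstance : QuasiSeparatedSpace (Spec (CommRingCat.of i.unop.1)))
  have key : ∀ (f' : X ⟶ (cone ℤ A).pt) [LocallyOfFinitePresentation f'] [QuasiCompact f']
      [QuasiSeparated f'] (_ : FlatMod.IsFlatOver f' F),
      ∃ (k : (FGSub ℤ A)ᵒᵖ) (X₀ : Scheme.{u}) (f₀ : X₀ ⟶ (D ℤ A).obj k) (g' : X ⟶ X₀)
        (F₀ : X₀.Modules), LocallyOfFinitePresentation f₀ ∧ QuasiCompact f₀ ∧
        IsPullback g' f' f₀ ((cone ℤ A).π.app k) ∧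
        CohB1.IsFP F₀ ∧ FlatMod.IsFlatOver f₀ F₀ ∧
        Nonempty ((Scheme.Modules.pullback g').obj F₀ ≅ F) := by
    intro f' _ _ _ hfl'
    obtain ⟨j, Xj, fj, q, Fj, hlfp, hqc, sq, hFj, ⟨iso⟩⟩ :=
      exists_model_mod (D ℤ A) (cone ℤ A) (isLimitCone ℤ A) modDescent f' F hF
    haveI := hlfp
    haveI := hqc
    haveI : CompactSpace Xj := QuasiCompact.compactSpace_of_compactSpace fj
    haveI : SheafOfModules.IsFinitePresentation (R := Xj.ringCatSheaf) Fj := hFj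
    haveI : Fj.IsQuasicoherent := (isCoh_of_isFP Fj hFj).1
    have hflat' : FlatMod.IsFlatOver f' ((Scheme.Modules.pullback q).obj Fj) :=
      isFlatOver_of_iso f' iso.symm hfl'
    have hY : IsPullback ((cone ℤ A).π.app j) (𝟙 (cone ℤ A).pt) (𝟙 ((D ℤ A).obj j))
        ((cone ℤ A).π.app j) := IsPullback.id_vert _
    obtain ⟨i, ψ, Xi, Yi, fi, gi, pY, pX, hYi, hXi, hfli⟩ :=
      (Groth.Agent.Lib.H72FlatModLim.isFlatOver_iff_exists_stage (D ℤ A) (cone ℤ A) fj
        (𝟙 ((D ℤ A).obj j)) (isLimitCone ℤ A) Fj f' (𝟙 (cone ℤ A).pt) ((cone ℤ A).π.app j) q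
        hY sq).mp hflat'
    haveI : IsIso gi := hYi.isIso_snd_of_isIso
    let vY : (cone ℤ A).pt ⟶ Yi := hYi.lift ((cone ℤ A).π.app j) ((cone ℤ A).π.app i) (by
      rw [Category.comp_id, (cone ℤ A).w])
    have hvY : vY ≫ pY = (cone ℤ A).π.app j := hYi.lift_fst _ _ _
    have hvY' : vY ≫ gi = (cone ℤ A).π.app i := hYi.lift_snd _ _ _
    let g'' : X ⟶ Xi := hXi.lift q (f' ≫ vY) (by rw [Category.assoc, hvY, sq.w])
    have e1 : g'' ≫ pX = q := hXi.lift_fst _ _ _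
    have e2 : g'' ≫ fi = f' ≫ vY := hXi.lift_snd _ _ _
    have sq1 : IsPullback g'' f' fi vY := by
      refine IsPullback.of_right ?_ e2 hXi
      rw [e1, hvY]
      exact sq
    have sq2 : IsPullback vY (𝟙 (cone ℤ A).pt) gi ((cone ℤ A).π.app i) :=
      IsPullback.of_vert_isIso ⟨by rw [hvY', Category.id_comp]⟩
    have sq3 : IsPullback g'' f' (fi ≫ gi) ((cone ℤ A).π.app i) := by
      have := sq1.paste_vert sq2
      rwa [Category.comp_id] at this
    haveI : LocallyOfFinitePresentation fi := MorphismProperty.of_isPullback hXi inferInstance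
    haveI : QuasiCompact fi := MorphismProperty.of_isPullback hXi inferInstance
    refine ⟨i, Xi, fi ≫ gi, g'', (Scheme.Modules.pullback pX).obj Fj, inferInstance, inferInstance,
      sq3, isFP_pullback pX Fj hFj, isFlatOver_comp_iso fi gi _ hfli, ⟨?_⟩⟩
    exact (Scheme.Modules.pullbackComp g'' pX).app Fj ≪≫
      (Scheme.Modules.pullbackCongr e1).app Fj ≪≫ iso
  obtain ⟨k, X₀, f₀, g', F₀, h1, h2, sq, hF₀, hfl₀, iso⟩ := @key f ‹_› ‹_› ‹_› hfl
  exact ⟨k.unop.1, k.unop.2, X₀, f₀, g', F₀, h1, h2, sq, hF₀, hfl₀, iso⟩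

end Groth.Agent.Lib.H72NoethApproxFlat
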