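import Groth.Agent.Lib.SteinField5B
import Groth.Agent.Lib.SteinFin5

/-!
# Stein factorisation over a field, part C (helper5): S7856 in hypothesis form

`X` proper over a field `k`: `X` is geometrically connected iff `Γ(X, O_X)` is a zero-dimensional
local ring with residue field purely inseparable over `k`.
-/

set_option autoImplicit false
universe u

open CategoryTheory CategoryTheory.Limits AlgebraicGeometry TopologicalSpace Opposite

namespace Groth.Agent.Lib.SteinField5

open Groth.Agent.Lib.ProperFinHyp Groth.Agent.Lib.ConnFib5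

section Main

variable (k : Type u) [Field k] {X : Scheme.{u}} (f : X ⟶ Spec (CommRingCat.of k))

/-- The structure map `k → Γ(X, O_X)`. -/
noncomputable def structMap : k →+* Γ(X, ⊤) :=
  f.appTop.hom.comp (Scheme.ΓSpecIso (CommRingCat.of k)).inv.hom

theorem toSpecΓ_specMap_structMap :
    X.toSpecΓ ≫ Spec.map (CommRingCat.ofHom (structMap k f)) = f := by
  have h1 : CommRingCat.ofHom (structMap k f) =
      (Scheme.ΓSpecIso (CommRingCat.of k)).inv ≫ f.appTop := rfl
  rw [h1, Spec.map_comp, ← Scheme.toSpecΓ_naturality_assoc, toSpecΓ_SpecMap_ΓSpecIso_inv,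
    Category.comp_id]

theorem finite_structMap (H2 : Hyp.{u}) [IsProper f] : (structMap k f).Finite := by
  have h1 := Groth.Agent.Lib.SteinFin5.finite_appTop_of_hyp H2 k X f
  have h2 : ((Scheme.ΓSpecIso (CommRingCat.of k)).inv.hom).Finite :=
    RingHom.Finite.of_surjective _
      (ConcreteCategory.bijective_of_isIso (Scheme.ΓSpecIso (CommRingCat.of k)).inv).2
  exact h1.comp h2

/-- **S7856 (hypothesis form).** -/
theorem geometricallyConnected_iff (H2 : Hyp.{u}) (H58 : Hyp58.{u}) [IsProper f] :
    GeometricallyConnected f ↔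
      (IsLocalRing Γ(X, ⊤) ∧ ringKrullDim Γ(X, ⊤) = 0 ∧
        ∀ a : Γ(X, ⊤), ∃ (n : ℕ) (c : k),
          IsNilpotent (a ^ (ringExpChar k ^ n) -
            f.appTop.hom ((Scheme.ΓSpecIso (CommRingCat.of k)).inv.hom c))) := by
  letI : Algebra k Γ(X, ⊤) := (structMap k f).toAlgebra
  haveI : Module.Finite k Γ(X, ⊤) := finite_structMap k f H2
  haveI : IsNoetherianRing Γ(X, ⊤) := IsNoetherianRing.of_finite k Γ(X, ⊤)
  have hfac : X.toSpecΓ ≫ Spec.map (CommRingCat.ofHom (algebraMap k Γ(X, ⊤))) = f :=
    toSpecΓ_specMap_structMap k f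
  haveI : IsProper (X.toSpecΓ ≫ Spec.map (CommRingCat.ofHom (algebraMap k Γ(X, ⊤)))) := by
    rw [hfac]; infer_instance
  haveI : IsProper X.toSpecΓ :=
    IsProper.of_comp X.toSpecΓ (Spec.map (CommRingCat.ofHom (algebraMap k Γ(X, ⊤))))
  haveI : CompactSpace X := (quasiCompact_iff_compactSpace f).mp inferInstance
  haveI : QuasiSeparatedSpace X := quasiSeparatedSpace_of_quasiSeparated f
  haveI : GeometricallyConnected X.toSpecΓ :=
    Groth.Agent.Lib.ConnFib5.geometricallyConnected_of_isIso_app X.toSpecΓ H2 H58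
      (fun V => isIso_toSpecΓ_app V)
  constructor
  · intro hgc
    haveI : GeometricallyConnected
        (X.toSpecΓ ≫ Spec.map (CommRingCat.ofHom (algebraMap k Γ(X, ⊤)))) := by
      rw [hfac]; exact hgc
    haveI : GeometricallyConnected (Spec.map (CommRingCat.ofHom (algebraMap k Γ(X, ⊤)))) :=
      geometricallyConnected_of_comp_of_surjective X.toSpecΓ _
    exact local_of_geometricallyConnected_specMap k Γ(X, ⊤)
  · rintro ⟨hloc, hdim, hpow⟩
    haveI := hloc
    haveI : Ring.KrullDimLE 0 Γ(X, ⊤) := ringKrullDimZero_iff_ringKrullDim_eq_zero.mpr hdim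
    haveI : GeometricallyConnected (Spec.map (CommRingCat.ofHom (algebraMap k Γ(X, ⊤)))) :=
      geometricallyConnected_specMap_of_local k Γ(X, ⊤) hpow
    rw [← hfac]
    exact geometricallyConnected_comp_of_universallyClosed X.toSpecΓ _

end Main

end Groth.Agent.Lib.SteinField5
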