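import Mathlib
import Groth.Agent.S7856
import Groth.Agent.Lib.H0Const13

/-!
# Global functions on a proper variety over a field (helper72)

`K = Γ(X, O_X)` for `X` integral and proper over a field `k`: `K` is a field, finite over `k`;
separable if `X` is geometrically reduced; purely inseparable if `X` is geometrically irreducible.
-/

set_option autoImplicit false
set_option linter.style.haveILetI false
universe u
open CategoryTheory Limits AlgebraicGeometry TensorProduct

namespace Groth.Agent.Lib.H72ProperVarH0

section Algebra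

/-- A finite field extension `L/k` with `k̄ ⊗_k L` reduced is separable. -/
theorem isSeparable_of_isReduced_tensor (k : Type u) [Field k] (L : Type u) [CommRing L]
    [Algebra k L] (hL : IsField L) [Module.Finite k L]
    [IsReduced (AlgebraicClosure k ⊗[k] L)] : Algebra.IsSeparable k L := by
  letI : Field L := hL.toField
  let kb := AlgebraicClosure k
  let B := kb ⊗[k] L
  haveI : IsArtinianRing B := isArtinian_of_tower kb (inferInstance : IsArtinian kb B)
  letI : ∀ m : MaximalSpectrum B, Field (B ⧸ m.asIdeal) := fun m => Ideal.Quotient.field m.asIdeal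
  have hE : Algebra.FormallyEtale kb B := by
    rw [Algebra.FormallyEtale.iff_exists_algEquiv_prod]
    refine ⟨MaximalSpectrum B, inferInstance, fun m => B ⧸ m.asIdeal, inferInstance,
      inferInstance, (IsArtinianRing.equivPi B).restrictScalars kb, fun m => ?_⟩
    haveI : Algebra.IsAlgebraic kb (B ⧸ m.asIdeal) := Algebra.IsAlgebraic.of_finite kb _
    infer_instance
  haveI : Algebra.FormallyUnramified kb B := inferInstance
  haveI : Algebra.FormallyUnramified k L :=
    Algebra.FormallyUnramified.of_formallyUnramified_tensorProduct_of_faithfullyFlat kb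
  exact Algebra.FormallyUnramified.isSeparable k L

/-- A field extension in which every element has a `q`-power in the base is purely inseparable. -/
theorem isPurelyInseparable_of_pow_mem (k : Type u) [Field k] (L : Type u) [CommRing L]
    [Algebra k L] (hL : IsField L)
    (h : ∀ x : L, ∃ n : ℕ, x ^ ringExpChar k ^ n ∈ (algebraMap k L).range) :
    IsPurelyInseparable k L := by
  letI : Field L := hL.toField
  exact (isPurelyInseparable_iff_pow_mem k (ringExpChar k)).mpr h

end Algebra

section Geometry

open Groth.Agent.Lib.SteinField5 Groth.Agent.Lib.H0Const13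

variable (k : Type u) [Field k] {X : Scheme.{u}} (f : X ⟶ Spec (CommRingCat.of k))

/-- For `X` proper and geometrically reduced over `k`, `k̄ ⊗_k Γ(X, O_X)` is reduced. -/
theorem isReduced_tensor_of_geometricallyReduced [IsProper f] [GeometricallyReduced f] :
    letI := secAlg k f
    IsReduced (AlgebraicClosure k ⊗[k] Γ(X, ⊤)) := by
  let K : Type u := AlgebraicClosure k
  let ψ : CommRingCat.of k ⟶ CommRingCat.of K := CommRingCat.ofHom (algebraMap k K)
  let Y : Scheme.{u} := pullback f (Spec.map ψ)
  let g : Y ⟶ X := pullback.fst _ _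
  let q : Y ⟶ Spec (CommRingCat.of K) := pullback.snd _ _
  have H : IsPullback g q f (Spec.map ψ) := IsPullback.of_hasPullback _ _
  haveI : IsReduced Y :=
    GeometricallyReduced.geometrically_isReduced (f := f) (Spec.map ψ) g q H
  have hflat : Flat (Spec.map ψ) := by
    rw [Flat.SpecMap_iff]
    algebraize [ψ.hom]
    exact (RingHom.flat_algebraMap_iff).mpr inferInstance
  haveI : CompactSpace X := (quasiCompact_iff_compactSpace f).mp inferInstance
  haveI : QuasiSeparatedSpace X :=
    quasiSeparatedSpace_of_quasiSeparated f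
  have push := isPushout_appTop_of_isPullback_of_flat H
  let φ : CommRingCat.of k ⟶ Γ(X, ⊤) := (Scheme.ΓSpecIso (CommRingCat.of k)).inv ≫ f.appTop
  let φ' : CommRingCat.of K ⟶ Γ(Y, ⊤) := (Scheme.ΓSpecIso (CommRingCat.of K)).inv ≫ q.appTop
  let γ : Γ(X, ⊤) ⟶ Γ(Y, ⊤) := g.appTop
  have push' : IsPushout φ ψ γ φ' := by
    refine push.of_iso (Scheme.ΓSpecIso (CommRingCat.of k)) (Iso.refl _)
      (Scheme.ΓSpecIso (CommRingCat.of K)) (Iso.refl _) ?_ ?_ ?_ ?_
    · simp [φ]
    · simp
    · simp [γ]
    · simp [φ']
  algebraize [φ.hom, ψ.hom, γ.hom, φ'.hom, γ.hom.comp φ.hom]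
  have : IsScalarTower k K Γ(Y, ⊤) := .of_algebraMap_eq' <| congr($(push'.1.1).hom)
  have hpo : Algebra.IsPushout k Γ(X, ⊤) K Γ(Y, ⊤) :=
    CommRingCat.isPushout_iff_isPushout.mp push'
  have e : K ⊗[k] Γ(X, ⊤) ≃+* Γ(Y, ⊤) :=
    ((Algebra.TensorProduct.comm k K Γ(X, ⊤)).trans
      (hpo.equiv.restrictScalars k)).toRingEquiv
  exact isReduced_of_injective e.toRingHom e.injective

theorem main [IsIntegral X] [IsProper f] :
    letI := secAlg k f
    IsField ↑Γ(X, ⊤) ∧ Module.Finite k ↑Γ(X, ⊤) ∧
      (GeometricallyReduced f → Algebra.IsSeparable k ↑Γ(X, ⊤)) ∧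
      (GeometricallyIrreducible f → IsPurelyInseparable k ↑Γ(X, ⊤)) := by
  letI : Algebra k Γ(X, ⊤) := secAlg k f
  have H2 : Groth.Agent.Lib.ProperFinHyp.Hyp.{u} :=
    fun A _ _ X _ _ M hM n => Groth.Agent.S0002.result A X M hM n
  have hfin : Module.Finite k Γ(X, ⊤) := finite_structMap k f H2
  haveI : Nonempty X := IsIntegral.nonempty
  haveI : Nonempty (⊤ : X.Opens) := ⟨⟨Classical.arbitrary X, trivial⟩⟩
  haveI : IsDomain Γ(X, ⊤) := inferInstance
  have hfield : IsField Γ(X, ⊤) := by
    haveI : Algebra.IsIntegral k Γ(X, ⊤) := Algebra.IsIntegral.of_finite k _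
    exact isField_of_isIntegral_of_isField' (Field.toIsField k)
  refine ⟨hfield, hfin, fun hred => ?_, fun hirr => ?_⟩
  · haveI := hred
    haveI := isReduced_tensor_of_geometricallyReduced k f
    exact isSeparable_of_isReduced_tensor k Γ(X, ⊤) hfield
  · haveI : GeometricallyConnected f := ⟨fun K _ y Z fst snd h => by
      haveI : IrreducibleSpace Z :=
        GeometricallyIrreducible.geometrically_irreducibleSpace y fst snd h
      infer_instance⟩
    obtain ⟨-, -, h3⟩ := (Groth.Agent.S7856.result k f).mp inferInstance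
    refine isPurelyInseparable_of_pow_mem k _ hfield fun a => ?_
    obtain ⟨n, c, hc⟩ := h3 a
    refine ⟨n, c, ?_⟩
    exact (sub_eq_zero.mp hc.eq_zero).symm

end Geometry

end Groth.Agent.Lib.H72ProperVarH0
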