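import Groth.Agent.Lib.TildePullback
import Mathlib.AlgebraicGeometry.Modules.Tilde
import Mathlib.AlgebraicGeometry.AffineScheme

/-!
# helper72: pullback of a quasi-coherent module, restricted to an affine open

For `h : X ⟶ Y`, `G : Y.Modules` quasi-coherent, `V ⊆ Y` and `U ⊆ X` affine opens with `U ≤ h ⁻¹ᵁ V`:

* `gammaV G hV : ModuleCat Γ(Y, V)` — the module of sections of `G` over `V`, as the global sections of
  `G.restrict hV.fromSpec` on `Spec Γ(Y, V)`;
* `restrictIsoTilde G hV : G.restrict hV.fromSpec ≅ tilde (gammaV G hV)`;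
* `pullbackRestrictIso h G hU hV hUV :
    ((pullback h).obj G).restrict hU.fromSpec ≅ tilde ((extendScalars (h.appLE V U hUV).hom).obj (gammaV G hV))`.
-/

set_option autoImplicit false
universe u

namespace Groth.Agent.Lib.H72PullbackAffine

open AlgebraicGeometry CategoryTheory TopologicalSpace Opposite

variable {X Y : Scheme.{u}}

/-- Sections of `G` over the affine open `V`, as a `Γ(Y, V)`-module: the global sections of the
restriction of `G` to `Spec Γ(Y, V)`. -/
noncomputable def gammaV (G : Y.Modules) {V : Y.Opens} (hV : IsAffineOpen V) : ModuleCat.{u} Γ(Y, V) :=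
  moduleSpecΓFunctor.obj (G.restrict hV.fromSpec)

/-- A quasi-coherent module restricted to an affine open is the `tilde` of its module of sections. -/
noncomputable def restrictIsoTilde (G : Y.Modules) [G.IsQuasicoherent] {V : Y.Opens}
    (hV : IsAffineOpen V) : G.restrict hV.fromSpec ≅ tilde (gammaV G hV) :=
  (asIso (Scheme.Modules.fromTildeΓ (G.restrict hV.fromSpec))).symm

/-- The pullback of a quasi-coherent module restricted to an affine open `U ≤ h ⁻¹ᵁ V` (`V` affine)
is the `tilde` of the base-changed module of sections. -/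
noncomputable def pullbackRestrictIso (h : X ⟶ Y) (G : Y.Modules) [G.IsQuasicoherent]
    {U : X.Opens} {V : Y.Opens} (hU : IsAffineOpen U) (hV : IsAffineOpen V) (hUV : U ≤ h ⁻¹ᵁ V) :
    ((Scheme.Modules.pullback h).obj G).restrict hU.fromSpec ≅
      tilde ((ModuleCat.extendScalars (h.appLE V U hUV).hom).obj (gammaV G hV)) :=
  (Scheme.Modules.restrictFunctorIsoPullback hU.fromSpec).app ((Scheme.Modules.pullback h).obj G) ≪≫
    (Scheme.Modules.pullbackComp hU.fromSpec h).app G ≪≫
    (Scheme.Modules.pullbackCongr (IsAffineOpen.SpecMap_appLE_fromSpec h hV hU hUV).symm).app G ≪≫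
    ((Scheme.Modules.pullbackComp (Spec.map (h.appLE V U hUV)) hV.fromSpec).app G).symm ≪≫
    (Scheme.Modules.pullback (Spec.map (h.appLE V U hUV))).mapIso
      ((Scheme.Modules.restrictFunctorIsoPullback hV.fromSpec).app G).symm ≪≫
    (Scheme.Modules.pullback (Spec.map (h.appLE V U hUV))).mapIso (restrictIsoTilde G hV) ≪≫
    ((Groth.Agent.Lib.TildePullback.tildePullbackIso (h.appLE V U hUV)).app (gammaV G hV)).symm

end Groth.Agent.Lib.H72PullbackAffine
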