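import Mathlib
import Groth.Agent.Lib.H72CIso
import Groth.Agent.Lib.H72LimHom
import Groth.Agent.Lib.H72LimMod
import Groth.Agent.Lib.H72LimMod3
import Groth.Agent.Lib.H72LimLocFree
import Groth.Agent.Lib.ModDesc62Final
import Groth.Agent.Lib.Fitting82U

/-!
# Quotients of finite presentation descend along a cofiltered limit (helper72)

EGA IV 8.5.2-type statement.
-/

set_option autoImplicit false
set_option linter.style.haveILetI false
universe u

open CategoryTheory Limits AlgebraicGeometry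

namespace Groth.Agent.Lib.H72QuotDescend

open Groth.Agent.Lib.H72SecTrans Groth.Agent.Lib.H72CIso

variable {I : Type u} [SmallCategory I] [IsCofiltered I]
  (D : I ⥤ Scheme.{u}) (c : Limits.Cone D)

/-- The conclusion of the descent statement. -/
def Concl (i₀ : I) (F₀ : (D.obj i₀).Modules) {G : c.pt.Modules}
    (p : (Scheme.Modules.pullback (c.π.app i₀)).obj F₀ ⟶ G) : Prop :=
  ∃ (j : I) (φ : j ⟶ i₀) (Gj : (D.obj j).Modules) (_ : Gj.IsQuasicoherent)
    (pj : (Scheme.Modules.pullback (D.map φ)).obj F₀ ⟶ Gj)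
    (e : (Scheme.Modules.pullback (c.π.app j)).obj Gj ≅ G),
    SheafOfModules.IsFinitePresentation (R := (D.obj j).ringCatSheaf) Gj ∧ Epi pj ∧
      (cIso (c.w φ) F₀).inv ≫ (Scheme.Modules.pullback (c.π.app j)).map pj ≫ e.hom = p

variable {D c}

omit [IsCofiltered I] in
/-- Change of base index. -/
theorem concl_of_stage {i₀ j₁ : I} (φ₁ : j₁ ⟶ i₀) (F₀ : (D.obj i₀).Modules) {G : c.pt.Modules}
    (p : (Scheme.Modules.pullback (c.π.app i₀)).obj F₀ ⟶ G)
    (h : Concl D c j₁ ((Scheme.Modules.pullback (D.map φ₁)).obj F₀)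
      ((cIso (c.w φ₁) F₀).hom ≫ p)) : Concl D c i₀ F₀ p := by
  obtain ⟨j, ψ, Gj, hq, pj', e, hfp, hepi, heq⟩ := h
  have w : D.map ψ ≫ D.map φ₁ = D.map (ψ ≫ φ₁) := (D.map_comp ψ φ₁).symm
  refine ⟨j, ψ ≫ φ₁, Gj, hq, (cIso w F₀).inv ≫ pj', e, hfp, ?_, ?_⟩
  · haveI := hepi
    infer_instance
  · have hassoc := cIso_assoc (c.π.app j) (D.map ψ) (D.map φ₁) w (c.w ψ) (c.w (ψ ≫ φ₁))
      (c.w φ₁) F₀
    have hI : (Scheme.Modules.pullback (c.π.app j)).mapIso (cIso w F₀) ≪≫
        cIso (c.w (ψ ≫ φ₁)) F₀ =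
        cIso (c.w ψ) ((Scheme.Modules.pullback (D.map φ₁)).obj F₀) ≪≫ cIso (c.w φ₁) F₀ :=
      Iso.ext hassoc
    have h1 := congrArg Iso.inv hI
    simp only [Iso.trans_inv, Functor.mapIso_inv] at h1
    rw [(Scheme.Modules.pullback (c.π.app j)).map_comp, ← Category.assoc, ← Category.assoc, h1,
      Category.assoc, Category.assoc, heq, Iso.inv_hom_id_assoc]

variable (hc : Limits.IsLimit c) [∀ {i j : I} (f : i ⟶ j), IsAffineHom (D.map f)]

include hc in
/-- Base case: `p` is (up to an isomorphism) the pullback of a morphism on `D.obj i₀`. -/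
theorem concl_of_hom (i₀ : I) [CompactSpace (D.obj i₀)] {F₀ G₀ : (D.obj i₀).Modules}
    [F₀.IsQuasicoherent] [G₀.IsQuasicoherent]
    [SheafOfModules.IsFinitePresentation (R := (D.obj i₀).ringCatSheaf) G₀]
    {G : c.pt.Modules} (p : (Scheme.Modules.pullback (c.π.app i₀)).obj F₀ ⟶ G) [Epi p]
    (p₀ : F₀ ⟶ G₀) (e₀ : (Scheme.Modules.pullback (c.π.app i₀)).obj G₀ ≅ G)
    (hp : (Scheme.Modules.pullback (c.π.app i₀)).map p₀ ≫ e₀.hom = p) : Concl D c i₀ F₀ p := by
  have hepi : Epi ((Scheme.Modules.pullback (c.π.app i₀)).map p₀) := by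
    have : (Scheme.Modules.pullback (c.π.app i₀)).map p₀ = p ≫ e₀.inv := by
      rw [← hp, Category.assoc, Iso.hom_inv_id, Category.comp_id]
    rw [this]
    infer_instance
  haveI : SheafOfModules.IsFiniteType (R := (D.obj i₀).ringCatSheaf) G₀ :=
    Groth.Agent.Lib.H72LimLocFree.isFiniteType_of_isFinitePresentation G₀
  obtain ⟨i, hi⟩ := Groth.Agent.Lib.H72LimMod.exists_uAt_epi D c hc i₀ p₀ hepi
  refine ⟨i.left, i.hom, (Scheme.Modules.pullback (D.map i.hom)).obj G₀, inferInstance,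
    (Scheme.Modules.pullback (D.map i.hom)).map p₀, cIso (c.w i.hom) G₀ ≪≫ e₀,
    Groth.Agent.Lib.Fitting82.isFinitePresentation_pullback (D.map i.hom) G₀, hi, ?_⟩
  rw [Iso.trans_hom, ← Category.assoc ((Scheme.Modules.pullback (c.π.app i.left)).map _),
    cIso_hom_naturality, Category.assoc, Iso.inv_hom_id_assoc, hp]

include hc in
/-- **Quotients of finite presentation descend.** -/
theorem exists_quotient_descend (i₀ : I) [CompactSpace (D.obj i₀)]
    [QuasiSeparatedSpace (D.obj i₀)] (F₀ : (D.obj i₀).Modules) [F₀.IsQuasicoherent]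
    [SheafOfModules.IsFinitePresentation (R := (D.obj i₀).ringCatSheaf) F₀]
    {G : c.pt.Modules} [G.IsQuasicoherent]
    [SheafOfModules.IsFinitePresentation (R := c.pt.ringCatSheaf) G]
    (p : (Scheme.Modules.pullback (c.π.app i₀)).obj F₀ ⟶ G) [Epi p] : Concl D c i₀ F₀ p := by
  obtain ⟨j₁, φ₁, G₁, hq₁, hfp₁, ⟨e₁⟩⟩ := Groth.Agent.Lib.ModDesc62.exists_descend D c hc i₀ G
  haveI := hq₁
  haveI := hfp₁
  haveI : CompactSpace (D.obj j₁) := QuasiCompact.compactSpace_of_compactSpace (D.map φ₁)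
  haveI : QuasiSeparatedSpace (D.obj j₁) := quasiSeparatedSpace_of_quasiSeparated (D.map φ₁)
  refine concl_of_stage φ₁ F₀ p ?_
  haveI : SheafOfModules.IsFinitePresentation (R := (D.obj j₁).ringCatSheaf)
      ((Scheme.Modules.pullback (D.map φ₁)).obj F₀) :=
    Groth.Agent.Lib.Fitting82.isFinitePresentation_pullback (D.map φ₁) F₀
  obtain ⟨l, hj, hl⟩ := Groth.Agent.Lib.H72LimHom.exists_hom_stage D c hc j₁
    ((Scheme.Modules.pullback (D.map φ₁)).obj F₀) G₁ (((cIso (c.w φ₁) F₀).hom ≫ p) ≫ e₁.inv)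
  refine concl_of_stage l.hom _ _ ?_
  haveI : CompactSpace (D.obj l.left) := QuasiCompact.compactSpace_of_compactSpace (D.map l.hom)
  haveI : SheafOfModules.IsFinitePresentation (R := (D.obj l.left).ringCatSheaf)
      ((Scheme.Modules.pullback (D.map l.hom)).obj G₁) :=
    Groth.Agent.Lib.Fitting82.isFinitePresentation_pullback (D.map l.hom) G₁
  refine concl_of_hom hc l.left _ hj (cIso (c.w l.hom) G₁ ≪≫ e₁) ?_
  rw [Iso.trans_hom, ← Category.assoc, ← Iso.eq_comp_inv, Category.assoc, ← hl,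
    Iso.hom_inv_id_assoc]

end Groth.Agent.Lib.H72QuotDescend
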