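import Groth.Agent.Lib.H72FibDimLim
import Groth.Agent.Lib.LimConstructible
import Groth.Agent.Lib.H56FibDimSup
import Groth.Agent.S9355

/-!
# Relative dimension `d` descends through cofiltered limits (helper72)
-/

set_option autoImplicit false
universe u

open CategoryTheory Limits AlgebraicGeometry

namespace Groth.Agent.Lib.H72RelDimLim

open Groth.Agent.Lib.LimDescent Groth.Agent.Lib.LimPullback Groth.Agent.Lib.H72FibDimLim

/-- `Cyc.HasRelDim · d` as a morphism property. -/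
def hasRelDim (d : ℕ) : MorphismProperty Scheme.{u} := fun _ _ f => Cyc.HasRelDim f d

theorem eq_of_le_of_not_le (v : WithBot ℕ∞) (m : ℕ) (h1 : v ≤ ((m + 1 : ℕ) : WithBot ℕ∞))
    (h2 : ¬ v ≤ (m : WithBot ℕ∞)) : v = ((m + 1 : ℕ) : WithBot ℕ∞) := by
  induction v with
  | bot => exact absurd bot_le h2
  | coe a =>
    induction a with
    | top =>
      exfalso
      have h1' : ((⊤ : ℕ∞) : WithBot ℕ∞) ≤ (((m + 1 : ℕ) : ℕ∞) : WithBot ℕ∞) := h1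
      rw [WithBot.coe_le_coe] at h1'
      exact absurd h1' (not_le.mpr (ENat.coe_lt_top _))
    | coe n =>
      have h1' : (((n : ℕ) : ℕ∞) : WithBot ℕ∞) ≤ (((m + 1 : ℕ) : ℕ∞) : WithBot ℕ∞) := h1
      have h2' : ¬ (((n : ℕ) : ℕ∞) : WithBot ℕ∞) ≤ (((m : ℕ) : ℕ∞) : WithBot ℕ∞) := h2
      rw [WithBot.coe_le_coe, Nat.cast_le] at h1' h2'
      have : n = m + 1 := by omega
      rw [this]
      rfl

variable {I : Type u} [Category.{u} I] (D : I ⥤ Scheme.{u}) (c : Cone D)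
variable [IsCofiltered I] (hc : IsLimit c) [∀ {i j} (f : i ⟶ j), IsAffineHom (D.map f)]
variable {i₀ : I} {X₀ Y₀ : Scheme.{u}} (f₀ : X₀ ⟶ Y₀) (g₀ : Y₀ ⟶ D.obj i₀)

include hc in
theorem exists_fibreDimEq_stage [CompactSpace X₀] [LocallyOfFinitePresentation f₀] (d : ℕ)
    (h : ∀ x, FlatMor.fibreDimAt (bcMap f₀ g₀ (c.π.app i₀)) x = d) :
    ∃ j : Over i₀, ∀ x, FlatMor.fibreDimAt (bcMap f₀ g₀ (D.map j.hom)) x = d := by
  haveI hlfp : ∀ j : Over i₀, LocallyOfFinitePresentation (bcMap f₀ g₀ (D.map j.hom)) := fun j =>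
    MorphismProperty.of_isPullback (isPullback_bcMap f₀ g₀ (D.map j.hom)) inferInstance
  haveI hlft : ∀ j : Over i₀, LocallyOfFiniteType (bcMap f₀ g₀ (D.map j.hom)) := fun j =>
    inferInstance
  obtain ⟨j1, hj1⟩ := exists_fibreDimLE_stage D c hc f₀ g₀ d (fun x => (h x).le)
  cases d with
  | zero =>
    refine ⟨j1, fun x => le_antisymm (hj1 x) ?_⟩
    exact_mod_cast Groth.Agent.Lib.H56LocDim.fibreDimAt_nonneg _ x
  | succ m =>
    let j₀ : Over i₀ := Over.mk (𝟙 i₀)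
    let E : Set ↥(pullback (f₀ ≫ g₀) (D.map j₀.hom)) :=
      {x | FlatMor.fibreDimAt (bcMap f₀ g₀ (D.map j₀.hom)) x ≤ m}
    have hEo : IsOpen E := Groth.Agent.S0402.result (bcMap f₀ g₀ (D.map j₀.hom)) m
    have hEr : IsRetrocompact E := Groth.Agent.S9355.result (bcMap f₀ g₀ (D.map j₀.hom)) m
    have hE : Topology.IsConstructible E := hEr.isConstructible hEo
    haveI : CompactSpace ↥((pbDiagram D i₀ (f₀ ≫ g₀)).obj j₀) := inferInstance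
    have hlim : (pbProj D c i₀ (f₀ ≫ g₀) j₀).base ⁻¹' E = ∅ := by
      rw [Set.eq_empty_iff_forall_notMem]
      intro x hx
      have hx' : FlatMor.fibreDimAt (bcMap f₀ g₀ (D.map j₀.hom))
          ((pbProj D c i₀ (f₀ ≫ g₀) j₀) x) ≤ m := hx
      rw [← Groth.Agent.Lib.H30FibBC.fibreDimAt_eq_of_isPullback _ _ _ _
        (isPullback_pbProj_bcMap D c f₀ g₀ j₀) x, h x] at hx'
      have : ((m + 1 : ℕ) : ℕ∞) ≤ ((m : ℕ) : ℕ∞) := WithBot.coe_le_coe.mp hx'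
      rw [Nat.cast_le] at this
      omega
    obtain ⟨k, φ, hk⟩ := Groth.Agent.Lib.LimConstructible.exists_map_preimage_inter_subset
      (pbDiagram D i₀ (f₀ ≫ g₀)) (pbCone D c i₀ (f₀ ≫ g₀)) (isLimitPbCone hc) (i := j₀) E hE ⊤
      (by simpa using isCompact_univ) ⊥ (by
        change (pbProj D c i₀ (f₀ ≫ g₀) j₀).base ⁻¹' (Set.univ ∩ E) ⊆
          (pbProj D c i₀ (f₀ ≫ g₀) j₀).base ⁻¹' ∅
        rw [Set.univ_inter, hlim]
        exact Set.empty_subset _)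
    change (pbMap D i₀ (f₀ ≫ g₀) φ).base ⁻¹' (Set.univ ∩ E) ⊆
      (pbMap D i₀ (f₀ ≫ g₀) φ).base ⁻¹' ∅ at hk
    rw [Set.univ_inter, Set.preimage_empty, Set.subset_empty_iff] at hk
    -- a common stage
    obtain ⟨l, ⟨m1⟩, ⟨m2⟩⟩ : ∃ l : Over i₀, Nonempty (l ⟶ j1) ∧ Nonempty (l ⟶ k) :=
      ⟨IsCofiltered.min j1 k, ⟨IsCofiltered.minToLeft _ _⟩, ⟨IsCofiltered.minToRight _ _⟩⟩
    refine ⟨l, fun x => eq_of_le_of_not_le _ m ?_ ?_⟩
    · rw [Groth.Agent.Lib.H30FibBC.fibreDimAt_eq_of_isPullback _ _ _ _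
        (isPullback_pbMap_bcMap D f₀ g₀ m1) x]
      exact hj1 _
    · rw [Groth.Agent.Lib.H30FibBC.fibreDimAt_eq_of_isPullback _ _ _ _
        (isPullback_pbMap_bcMap D f₀ g₀ (m2 ≫ φ)) x]
      intro hx
      have hmem : (pbMap D i₀ (f₀ ≫ g₀) m2) x ∈ (pbMap D i₀ (f₀ ≫ g₀) φ).base ⁻¹' E := by
        change FlatMor.fibreDimAt (bcMap f₀ g₀ (D.map j₀.hom))
          ((pbMap D i₀ (f₀ ≫ g₀) φ) ((pbMap D i₀ (f₀ ≫ g₀) m2) x)) ≤ m
        have e : (pbMap D i₀ (f₀ ≫ g₀) φ) ((pbMap D i₀ (f₀ ≫ g₀) m2) x) =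
            (pbMap D i₀ (f₀ ≫ g₀) (m2 ≫ φ)) x := by
          have := (pbDiagram D i₀ (f₀ ≫ g₀)).map_comp m2 φ
          have h3 : pbMap D i₀ (f₀ ≫ g₀) (m2 ≫ φ) =
            pbMap D i₀ (f₀ ≫ g₀) m2 ≫ pbMap D i₀ (f₀ ≫ g₀) φ := this
          rw [h3, Scheme.Hom.comp_apply]
        rw [e]
        exact hx
      rw [hk] at hmem
      exact hmem

include hc in
/-- Stacks-style formulation (S9196). -/
theorem exists_hasRelDim_descend (i₀ : I) {X₀ Y₀ : Scheme.{u}} (f₀ : X₀ ⟶ Y₀)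
    (g₀ : Y₀ ⟶ D.obj i₀) [CompactSpace X₀] [LocallyOfFinitePresentation f₀] (d : ℕ)
    {X Y : Scheme.{u}} (f : X ⟶ Y) (g : Y ⟶ c.pt) (qY : Y ⟶ Y₀) (qX : X ⟶ X₀)
    (hY : IsPullback qY g g₀ (c.π.app i₀)) (hX : IsPullback qX f f₀ qY)
    (hd : Cyc.HasRelDim f d) :
    ∃ (i : I) (φ : i ⟶ i₀) (Xi Yi : Scheme.{u}) (fi : Xi ⟶ Yi) (gi : Yi ⟶ D.obj i) (pY : Yi ⟶ Y₀)
      (pX : Xi ⟶ X₀), IsPullback pY gi g₀ (D.map φ) ∧ IsPullback pX fi f₀ pY ∧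
        Cyc.HasRelDim fi d := by
  haveI : LocallyOfFiniteType f := MorphismProperty.of_isPullback hX inferInstance
  obtain ⟨eX, he⟩ := fibreDimAt_limMap D c f₀ g₀ f g qY qX hY hX
  have hd' := (Groth.Agent.Lib.H30FibBC.hasRelDim_iff f d).mp hd
  obtain ⟨j, hj⟩ := exists_fibreDimEq_stage D c hc f₀ g₀ d (fun x => by rw [he x]; exact hd' _)
  haveI : LocallyOfFiniteType (bcMap f₀ g₀ (D.map j.hom)) :=
    MorphismProperty.of_isPullback (isPullback_bcMap f₀ g₀ (D.map j.hom)) inferInstance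
  exact conclude D (hasRelDim d) f₀ g₀ j
    ((Groth.Agent.Lib.H30FibBC.hasRelDim_iff _ d).mpr hj)

end Groth.Agent.Lib.H72RelDimLim
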